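import Groth.Statements.S13096
import Mathlib

set_option autoImplicit false
set_option linter.style.haveILetI false
universe u v
open CAlg

namespace Groth.Agent.S13096


open MvPolynomial

lemma ring_endo_injective {Q : Type*} [CommRing Q] [IsNoetherianRing Q] (φ : Q →+* Q)
    (hφ : Function.Surjective φ) : Function.Injective φ := by
  have hmono : Monotone fun n : ℕ => RingHom.ker (φ ^ n) := by
    refine monotone_nat_of_le_succ fun n x hx => ?_
    rw [RingHom.mem_ker] at hx ⊢
    rw [pow_succ', RingHom.mul_def, RingHom.comp_apply, hx, map_zero]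
  obtain ⟨n, hn⟩ := monotone_stabilizes_iff_noetherian.mpr inferInstance ⟨_, hmono⟩
  have hsurj : Function.Surjective (φ ^ n) := by
    rw [RingHom.coe_pow]; exact hφ.iterate n
  rw [injective_iff_map_eq_zero]
  intro x hx
  obtain ⟨y, rfl⟩ := hsurj x
  have h1 : y ∈ RingHom.ker (φ ^ (n + 1)) := by
    rw [RingHom.mem_ker, pow_succ', RingHom.mul_def, RingHom.comp_apply, hx]
  have h2 : y ∈ RingHom.ker (φ ^ n) := by
    have := hn (n + 1) (by omega)
    simp only [OrderHom.coe_mk] at this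
    rw [this]; exact h1
  exact h2

lemma key0 {R₀ : Type*} [CommRing R₀] [IsNoetherianRing R₀] {n : ℕ}
    (I : Ideal (MvPolynomial (Fin n) R₀)) (a b : Fin n → MvPolynomial (Fin n) R₀)
    (hA : ∀ q ∈ I, bind₁ a q ∈ I) (hB : ∀ i, X i - bind₁ a (b i) ∈ I)
    (p : MvPolynomial (Fin n) R₀) (hp : bind₁ a p ∈ I) : p ∈ I := by
  have hle : I ≤ I.comap (bind₁ a).toRingHom := fun q hq => hA q hq
  obtain ⟨A, hAdef⟩ : ∃ A : (MvPolynomial (Fin n) R₀ ⧸ I) →+* (MvPolynomial (Fin n) R₀ ⧸ I),
      A = Ideal.quotientMap I (bind₁ a).toRingHom hle := ⟨_, rfl⟩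
  have hAmk : ∀ q, A (Ideal.Quotient.mk I q) = Ideal.Quotient.mk I (bind₁ a q) := fun q => by
    rw [hAdef, Ideal.quotientMap_mk]; rfl
  have hsurj : Function.Surjective A := by
    intro y
    obtain ⟨q, rfl⟩ := Ideal.Quotient.mk_surjective y
    refine ⟨Ideal.Quotient.mk I (bind₁ b q), ?_⟩
    rw [hAmk, bind₁_bind₁]
    have h2 : ((Ideal.Quotient.mkₐ R₀ I).comp (bind₁ (fun i => bind₁ a (b i)))) =
        (Ideal.Quotient.mkₐ R₀ I) := by
      apply MvPolynomial.algHom_ext
      intro i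
      simp only [AlgHom.comp_apply, bind₁_X_right, Ideal.Quotient.mkₐ_eq_mk]
      rw [eq_comm, Ideal.Quotient.eq]
      exact hB i
    exact AlgHom.congr_fun h2 q
  have hinj := ring_endo_injective A hsurj
  have h0 : A (Ideal.Quotient.mk I p) = 0 := by
    rw [hAmk]; exact Ideal.Quotient.eq_zero_iff_mem.mpr hp
  have := hinj (h0.trans (map_zero A).symm)
  exact Ideal.Quotient.eq_zero_iff_mem.mp this

lemma key1 {R : Type*} [CommRing R] (R₀ : Subalgebra ℤ R) [IsNoetherianRing R₀] {n : ℕ}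
    (I : Ideal (MvPolynomial (Fin n) R)) (a b : Fin n → MvPolynomial (Fin n) R)
    (hA : ∀ q ∈ I, bind₁ a q ∈ I) (hB : ∀ i, X i - bind₁ a (b i) ∈ I)
    (p : MvPolynomial (Fin n) R) (hp : bind₁ a p ∈ I)
    (ha : ∀ i, ((a i).coeffs : Set R) ⊆ R₀) (hb : ∀ i, ((b i).coeffs : Set R) ⊆ R₀)
    (hpc : (p.coeffs : Set R) ⊆ R₀) : p ∈ I := by
  have hrange : ∀ q : MvPolynomial (Fin n) R, (q.coeffs : Set R) ⊆ R₀ →
      ∃ q₀, MvPolynomial.map (algebraMap R₀ R) q₀ = q := by
    intro q hq
    have : q ∈ Set.range (MvPolynomial.map (algebraMap R₀ R)) := by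
      rw [MvPolynomial.mem_range_map_iff_coeffs_subset]
      intro c hc; exact ⟨⟨c, hq hc⟩, rfl⟩
    exact this
  choose a₀ ha₀ using fun i => hrange (a i) (ha i)
  choose b₀ hb₀ using fun i => hrange (b i) (hb i)
  obtain ⟨p₀, hp₀⟩ := hrange p hpc
  have hι : ∀ q, MvPolynomial.map (algebraMap R₀ R) (bind₁ a₀ q) =
      bind₁ a (MvPolynomial.map (algebraMap R₀ R) q) := by
    intro q; rw [MvPolynomial.map_bind₁]
    have : (fun i => MvPolynomial.map (algebraMap R₀ R) (a₀ i)) = a := funext ha₀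
    rw [this]
  have := key0 (I.comap (MvPolynomial.map (algebraMap R₀ R))) a₀ b₀ ?_ ?_ p₀ ?_
  · rw [← hp₀]; exact this
  · intro q hq
    rw [Ideal.mem_comap] at hq ⊢
    rw [hι]; exact hA _ hq
  · intro i
    rw [Ideal.mem_comap, map_sub, hι, hb₀, map_X]; exact hB i
  · rw [Ideal.mem_comap, hι, hp₀]; exact hp

lemma key {R : Type*} [CommRing R] {n : ℕ}
    (I : Ideal (MvPolynomial (Fin n) R)) (a b : Fin n → MvPolynomial (Fin n) R)
    (hA : ∀ q ∈ I, bind₁ a q ∈ I) (hB : ∀ i, X i - bind₁ a (b i) ∈ I)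
    (p : MvPolynomial (Fin n) R) (hp : bind₁ a p ∈ I) : p ∈ I := by
  classical
  obtain ⟨S, hS⟩ : ∃ S : Set R, S = (⋃ i, ((a i).coeffs : Set R)) ∪ (⋃ i, ((b i).coeffs : Set R)) ∪
      (p.coeffs : Set R) := ⟨_, rfl⟩
  have hSfin : S.Finite := by
    rw [hS]
    exact ((Set.finite_iUnion fun i => Finset.finite_toSet _).union
      (Set.finite_iUnion fun i => Finset.finite_toSet _)).union (Finset.finite_toSet _)
  haveI : Algebra.FiniteType ℤ (Algebra.adjoin ℤ S) := Algebra.FiniteType.adjoin_of_finite hSfin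
  haveI : IsNoetherianRing (Algebra.adjoin ℤ S) :=
    Algebra.FiniteType.isNoetherianRing ℤ (Algebra.adjoin ℤ S)
  refine key1 (Algebra.adjoin ℤ S) I a b hA hB p hp ?_ ?_ ?_
  · intro i c hc
    exact Algebra.subset_adjoin (hS ▸ Or.inl (Or.inl (Set.mem_iUnion.mpr ⟨i, hc⟩)))
  · intro i c hc
    exact Algebra.subset_adjoin (hS ▸ Or.inl (Or.inr (Set.mem_iUnion.mpr ⟨i, hc⟩)))
  · intro c hc
    exact Algebra.subset_adjoin (hS ▸ Or.inr hc)


/-- Let R be a commutative ring and R' a commutative R-algebra of finite presentation. Then every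
surjective R-algebra endomorphism α : R' → R' is bijective (an automorphism). -/
theorem result (R : Type u) [CommRing R]
    (R' : Type v) [CommRing R'] [Algebra R R'] [Algebra.FinitePresentation R R']
    (α : R' →ₐ[R] R') (hα : Function.Surjective α) : Function.Bijective α := by
  refine ⟨?_, hα⟩
  obtain ⟨n, f, hf, -⟩ := Algebra.FinitePresentation.out (R := R) (A := R')
  choose a ha using fun i : Fin n => hf (α (f (X i)))
  choose b hb using fun i : Fin n => hf ((hα (f (X i))).choose)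
  have hb' : ∀ i, α (f (b i)) = f (X i) := fun i => by
    rw [hb]; exact (hα (f (X i))).choose_spec
  have hcomm : ∀ q, α (f q) = f (bind₁ a q) := by
    have : (α.comp f) = f.comp (bind₁ a) := by
      apply MvPolynomial.algHom_ext; intro i
      simp only [AlgHom.comp_apply, bind₁_X_right, ha]
    intro q; exact AlgHom.congr_fun this q
  rw [injective_iff_map_eq_zero]
  intro c hc
  obtain ⟨p, rfl⟩ := hf c
  have := key (RingHom.ker f.toRingHom) a b ?_ ?_ p ?_
  · exact this
  · intro q hq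
    rw [RingHom.mem_ker] at hq ⊢
    show f (bind₁ a q) = 0
    rw [← hcomm, show f q = 0 from hq, map_zero]
  · intro i
    rw [RingHom.mem_ker]
    show f (X i - bind₁ a (b i)) = 0
    rw [map_sub, ← hcomm, hb', sub_self]
  · rw [RingHom.mem_ker]
    show f (bind₁ a p) = 0
    rw [← hcomm]; exact hc

end Groth.Agent.S13096
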