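import Groth.Statements.S13097
import Mathlib.AlgebraicGeometry.ZariskisMainTheorem
import Mathlib.AlgebraicGeometry.PullbackCarrier
import Mathlib.AlgebraicGeometry.Morphisms.ClosedImmersion
import Mathlib.AlgebraicGeometry.Morphisms.Proper

set_option autoImplicit false
universe u
open FlatMor

namespace Groth.Agent.S13097

open CategoryTheory AlgebraicGeometry in
/-- Let f : X → S be a quasi-compact, separated morphism of schemes with a section e : S → X (e followed
by f is the identity of S), and U ⊆ S an open subscheme such that f⁻¹(U) is schematically dense in X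
(for every open V of X, restriction of functions from V to V ∩ f⁻¹(U) is injective) and such that
the restriction f⁻¹(U) → U of f is a homeomorphism of underlying spaces. Then f is universally a
homeomorphism (every base change of f is a homeomorphism), and f is finite as soon as it is locally
of finite type. (The published statement also lists surjectivity of f, which a section forces, and
offers as an alternative to the section the hypothesis that f be flat, still with f⁻¹(U) → U only a
homeomorphism; that flat alternative fails: the spectrum of a separable quadratic field extension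
over the spectrum of the ground field, with U the whole base, is flat, surjective, quasi-compact,
separated and a homeomorphism over U, yet not universally injective. Only the case of a section,
whose published proof is complete, is stated here.) -/
theorem result {X S : Scheme.{u}} (f : X ⟶ S)
    [QuasiCompact f] [IsSeparated f] (U : S.Opens)
    (hdense : CInt.IsSchematicallyDense (f ⁻¹ᵁ U)) (hU : IsHomeomorph (f ∣_ U).base)
    (e : S ⟶ X) (he : e ≫ f = 𝟙 S) :
    FlatMor.IsUnivHomeo f ∧ (LocallyOfFiniteType f → IsFinite f) := by
  classical
  have hfe : ∀ s : ↥S, f.base (e.base s) = s := by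
    intro s
    have h := congrArg (fun q => q.base s) he
    simpa using h
  have hcl : IsClosedImmersion e := by
    have : IsClosedImmersion (e ≫ f) := by
      rw [he]
      infer_instance
    exact IsClosedImmersion.of_comp e f
  have hsurj : Function.Surjective e.base := by
    have hclosed : IsClosed (Set.range e.base) := e.isClosedEmbedding.isClosed_range
    have hsub : ((f ⁻¹ᵁ U : X.Opens) : Set X) ⊆ Set.range e.base := by
      intro x hx
      have hx' : e.base (f.base x) ∈ f ⁻¹ᵁ U := by
        show f.base (e.base (f.base x)) ∈ U
        rw [hfe]
        exact hx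
      let a : ↥(f ⁻¹ᵁ U).toScheme := ⟨x, hx⟩
      let b : ↥(f ⁻¹ᵁ U).toScheme := ⟨e.base (f.base x), hx'⟩
      have hab : (f ∣_ U).base a = (f ∣_ U).base b := by
        apply Subtype.ext
        rw [morphismRestrict_base_coe, morphismRestrict_base_coe]
        exact (hfe _).symm
      have h3 := hU.injective hab
      exact ⟨f.base x, (congrArg Subtype.val h3).symm⟩
    by_contra hns
    rw [← Set.range_eq_univ] at hns
    obtain ⟨x, hx⟩ := (Set.ne_univ_iff_exists_notMem _).mp hns
    let V : X.Opens := ⟨(Set.range e.base)ᶜ, hclosed.isOpen_compl⟩
    have hVU : V ⊓ f ⁻¹ᵁ U = ⊥ := by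
      refine le_bot_iff.mp ?_
      rintro y ⟨hy1, hy2⟩
      exact (hy1 (hsub hy2)).elim
    have hinj := hdense V
    have hss : Subsingleton Γ(X, V ⊓ f ⁻¹ᵁ U) := by
      rw [hVU]
      infer_instance
    have hss' : Subsingleton Γ(X, V) := hinj.subsingleton
    have h01 : (0 : Γ(X, V)) = 1 := Subsingleton.elim _ _
    have h4 := congrArg (X.presheaf.germ V x hx).hom h01
    rw [map_zero, map_one] at h4
    exact zero_ne_one h4
  have huh : FlatMor.IsUnivHomeo f := by
    refine fun X' T i₁ i₂ f' H => ?_
    have hpb : IsPullback (Limits.pullback.snd e i₁ ≫ f') (Limits.pullback.fst e i₁) i₂ (e ≫ f) :=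
      (IsPullback.of_hasPullback e i₁).flip.paste_horiz H
    rw [he] at hpb
    have hiso : IsIso (Limits.pullback.snd e i₁ ≫ f') := hpb.isIso_fst_of_isIso
    have hsj : Surjective e := ⟨hsurj⟩
    have h1 : IsClosedImmersion (Limits.pullback.snd e i₁) := inferInstance
    have h2 : Surjective (Limits.pullback.snd e i₁) := inferInstance
    have hhomeo_snd : IsHomeomorph (Limits.pullback.snd e i₁).base := by
      rw [isHomeomorph_iff_isEmbedding_surjective]
      exact ⟨(Limits.pullback.snd e i₁).isClosedEmbedding.isEmbedding, h2.surj⟩
    have hhomeo_comp : IsHomeomorph (Limits.pullback.snd e i₁ ≫ f').base :=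
      (Limits.pullback.snd e i₁ ≫ f').homeomorph.isHomeomorph
    show IsHomeomorph f'.base
    let hg := hhomeo_snd.homeomorph
    let hc := hhomeo_comp.homeomorph
    have hfun : ⇑f'.base = ⇑(hg.symm.trans hc) := by
      funext y
      obtain ⟨z, rfl⟩ := hg.surjective y
      show f'.base (hg z) = hc (hg.symm (hg z))
      rw [Homeomorph.symm_apply_apply]
      rfl
    rw [hfun]
    exact (hg.symm.trans hc).isHomeomorph
  refine ⟨huh, fun hft => ?_⟩
  have hf_homeo : IsHomeomorph f.base := MorphismProperty.universally_le _ _ huh
  have huc : UniversallyClosed f := by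
    rw [universallyClosed_eq]
    exact MorphismProperty.universally_mono (fun X Y g hg => IsHomeomorph.isClosedMap hg) _ huh
  have hqf : LocallyQuasiFinite f := LocallyQuasiFinite.of_injective hf_homeo.injective
  have hpr : IsProper f := {}
  exact IsFinite.of_isProper_of_locallyQuasiFinite f

end Groth.Agent.S13097
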