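import Groth.Statements.S13099
import Mathlib

set_option autoImplicit false
universe u
open GrpSch

namespace Groth.Agent.S13099

section aux
variable {A : Type u} [CommRing A]

open Polynomial in
lemma coeff_aeval (x : MvPolynomial (Fin 2) A) (q : A[X]) (m : Fin 2 →₀ ℕ) :
    MvPolynomial.coeff m (Polynomial.aeval x q)
      = ∑ i ∈ q.support, q.coeff i * MvPolynomial.coeff m (x ^ i) := by
  rw [Polynomial.aeval_def, Polynomial.eval₂_eq_sum, Polynomial.sum_def, MvPolynomial.coeff_sum]
  refine Finset.sum_congr rfl (fun i _ => ?_)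
  rw [MvPolynomial.algebraMap_eq, MvPolynomial.coeff_C_mul]

open Polynomial in
lemma sum_single (q : A[X]) (j : ℕ) (f : ℕ → A) :
    ∑ i ∈ q.support, q.coeff i * (if i = j then f i else 0) = q.coeff j * f j := by
  rw [Finset.sum_eq_single j]
  · rw [if_pos rfl]
  · intro i _ hij
    rw [if_neg hij, mul_zero]
  · intro h
    rw [Polynomial.notMem_support_iff.mp h, zero_mul]

lemma mm_eq (k l k' l' : ℕ) :
    ((Finsupp.single 0 k + Finsupp.single 1 l : Fin 2 →₀ ℕ) = Finsupp.single 0 k' + Finsupp.single 1 l')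
      ↔ (k = k' ∧ l = l') := by
  constructor
  · intro h
    have h0 := DFunLike.congr_fun h 0
    have h1 := DFunLike.congr_fun h 1
    simp at h0 h1
    exact ⟨by omega, by omega⟩
  · rintro ⟨rfl, rfl⟩; rfl

lemma mm0 (k l : ℕ) : (Finsupp.single 0 k + Finsupp.single 1 l : Fin 2 →₀ ℕ) 0 = k := by
  simp

lemma mm1 (k l : ℕ) : (Finsupp.single 0 k + Finsupp.single 1 l : Fin 2 →₀ ℕ) 1 = l := by
  simp

lemma cA (k l i : ℕ) :
    MvPolynomial.coeff (Finsupp.single 0 k + Finsupp.single 1 l : Fin 2 →₀ ℕ)
      ((MvPolynomial.X 0 + MvPolynomial.X 1 : MvPolynomial (Fin 2) A) ^ i)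
      = if i = k + l then (i.choose k : A) else 0 := by
  rw [MvPolynomial.coeff_add_pow, mm0, mm1]
  by_cases h : i = k + l
  · have hm : (k, l) ∈ Finset.HasAntidiagonal.antidiagonal i :=
      Finset.HasAntidiagonal.mem_antidiagonal.mpr h.symm
    rw [if_pos hm, if_pos h]
  · have hm : (k, l) ∉ Finset.HasAntidiagonal.antidiagonal i :=
      fun h' => h (Finset.HasAntidiagonal.mem_antidiagonal.mp h').symm
    rw [if_neg hm, if_neg h, Nat.cast_zero]

lemma cB (k l i : ℕ) :
    MvPolynomial.coeff (Finsupp.single 0 k + Finsupp.single 1 l : Fin 2 →₀ ℕ)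
      ((MvPolynomial.X 0 : MvPolynomial (Fin 2) A) ^ i)
      = if i = k then (if l = 0 then 1 else 0) else 0 := by
  rw [MvPolynomial.coeff_X_pow]
  have hiff : ((Finsupp.single 0 i : Fin 2 →₀ ℕ) = Finsupp.single 0 k + Finsupp.single 1 l)
      ↔ (i = k ∧ l = 0) := by
    have := mm_eq i 0 k l
    rw [Finsupp.single_zero, add_zero] at this
    rw [this]
    constructor
    · rintro ⟨h1, h2⟩; exact ⟨h1, h2.symm⟩
    · rintro ⟨h1, h2⟩; exact ⟨h1, h2.symm⟩
  by_cases h1 : i = k
  · by_cases h2 : l = 0
    · rw [if_pos (hiff.mpr ⟨h1, h2⟩), if_pos h1, if_pos h2]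
    · rw [if_neg (fun h => h2 (hiff.mp h).2), if_pos h1, if_neg h2]
  · rw [if_neg (fun h => h1 (hiff.mp h).1), if_neg h1]

lemma cC (k l i : ℕ) :
    MvPolynomial.coeff (Finsupp.single 0 k + Finsupp.single 1 l : Fin 2 →₀ ℕ)
      ((MvPolynomial.X 1 : MvPolynomial (Fin 2) A) ^ i)
      = if i = l then (if k = 0 then 1 else 0) else 0 := by
  rw [MvPolynomial.coeff_X_pow]
  have hiff : ((Finsupp.single 1 i : Fin 2 →₀ ℕ) = Finsupp.single 0 k + Finsupp.single 1 l)
      ↔ (i = l ∧ k = 0) := by
    have := mm_eq 0 i k l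
    rw [Finsupp.single_zero, zero_add] at this
    rw [this]
    constructor
    · rintro ⟨h1, h2⟩; exact ⟨h2, h1.symm⟩
    · rintro ⟨h1, h2⟩; exact ⟨h2.symm, h1⟩
  by_cases h1 : i = l
  · by_cases h2 : k = 0
    · rw [if_pos (hiff.mpr ⟨h1, h2⟩), if_pos h1, if_pos h2]
    · rw [if_neg (fun h => h2 (hiff.mp h).2), if_pos h1, if_neg h2]
  · rw [if_neg (fun h => h1 (hiff.mp h).1), if_neg h1]

open Polynomial in
lemma coeff_D (q : A[X]) (k l : ℕ) :
    MvPolynomial.coeff (Finsupp.single 0 k + Finsupp.single 1 l : Fin 2 →₀ ℕ)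
      (Polynomial.aeval (MvPolynomial.X 0 + MvPolynomial.X 1 : MvPolynomial (Fin 2) A) q -
        Polynomial.aeval (MvPolynomial.X 0 : MvPolynomial (Fin 2) A) q -
        Polynomial.aeval (MvPolynomial.X 1 : MvPolynomial (Fin 2) A) q)
    = q.coeff (k + l) * ((k + l).choose k : A) - q.coeff k * (if l = 0 then 1 else 0)
        - q.coeff l * (if k = 0 then 1 else 0) := by
  rw [MvPolynomial.coeff_sub, MvPolynomial.coeff_sub, coeff_aeval, coeff_aeval, coeff_aeval]
  simp only [cA, cB, cC, sum_single]

open Polynomial in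
lemma part2 (p : ℕ) [Fact p.Prime] [CharP A p] (I : Ideal A[X])
    (hI : I = Ideal.span ({X ^ p ^ 2} : Set A[X])) (a₁ ap : A)
    (φ : (A[X] ⧸ I) →ₐ[A] (A[X] ⧸ I))
    (hx : φ (Ideal.Quotient.mk I X) =
      Ideal.Quotient.mk I (Polynomial.C a₁ * X + Polynomial.C ap * X ^ p)) :
    Function.Bijective φ ↔ IsUnit a₁ := by
  have hp : p.Prime := Fact.out
  have hN0 : p ^ 2 ≠ 0 := pow_ne_zero 2 hp.ne_zero
  have hmem : ∀ f : A[X], f ∈ I ↔ X ^ p ^ 2 ∣ f := by
    intro f; rw [hI, Ideal.mem_span_singleton]
  obtain ⟨y, hy⟩ : ∃ y : A[X], y = Polynomial.C a₁ * X + Polynomial.C ap * X ^ p := ⟨_, rfl⟩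
  rw [← hy] at hx
  have hφ : ∀ f : A[X], φ (Ideal.Quotient.mk I f) = Ideal.Quotient.mk I (f.comp y) := by
    intro f
    have hcomp : φ.comp (Ideal.Quotient.mkₐ A I) =
        (Ideal.Quotient.mkₐ A I).comp (Polynomial.aeval y) := by
      apply Polynomial.algHom_ext
      rw [AlgHom.comp_apply, AlgHom.comp_apply, Polynomial.aeval_X, Ideal.Quotient.mkₐ_eq_mk]
      exact hx
    have h := DFunLike.congr_fun hcomp f
    rw [AlgHom.comp_apply, AlgHom.comp_apply, Ideal.Quotient.mkₐ_eq_mk] at h
    rw [Polynomial.comp_eq_aeval]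
    exact h
  have hy0 : y.eval 0 = 0 := by
    rw [hy]; simp [zero_pow hp.ne_zero]
  have hy' : (Polynomial.derivative y).eval 0 = a₁ := by
    rw [hy]; simp [Polynomial.derivative_X_pow, CharP.cast_eq_zero]
  have hXN : (Polynomial.derivative (X ^ p ^ 2 : A[X])).eval 0 = 0 := by
    rw [Polynomial.derivative_X_pow, Polynomial.eval_mul, Polynomial.eval_C, Nat.cast_pow,
      CharP.cast_eq_zero, zero_pow two_ne_zero, zero_mul]
  constructor
  · intro hbij
    obtain ⟨g', hg'⟩ := hbij.2 (Ideal.Quotient.mk I X)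
    obtain ⟨g, rfl⟩ := Ideal.Quotient.mk_surjective g'
    rw [hφ g, Ideal.Quotient.eq, hmem] at hg'
    obtain ⟨w, hw⟩ := hg'
    have hd : (Polynomial.derivative (g.comp y)).eval 0 - 1 = 0 := by
      have h1 : Polynomial.derivative (g.comp y) - 1 = Polynomial.derivative (X ^ p ^ 2 * w) := by
        rw [← hw, Polynomial.derivative_sub, Polynomial.derivative_X]
      have h2 := congrArg (Polynomial.eval 0) h1
      rw [Polynomial.eval_sub, Polynomial.eval_one, Polynomial.derivative_mul, Polynomial.eval_add,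
        Polynomial.eval_mul, Polynomial.eval_mul, hXN, Polynomial.eval_pow, Polynomial.eval_X,
        zero_pow hN0, zero_mul, zero_mul, add_zero] at h2
      exact h2
    rw [Polynomial.derivative_comp, Polynomial.eval_mul, Polynomial.eval_comp, hy0, hy'] at hd
    exact IsUnit.of_mul_eq_one ((Polynomial.derivative g).eval 0) (by linear_combination hd)
  · intro hu
    obtain ⟨b, hab⟩ := hu.exists_right_inv
    have h1 : (Polynomial.C a₁ * Polynomial.C b : A[X]) = 1 := by
      rw [← Polynomial.C_mul, hab, Polynomial.C_1]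
    have h2 : (Polynomial.C a₁ ^ p * Polynomial.C b ^ p : A[X]) = 1 := by
      rw [← mul_pow, h1, one_pow]
    have hyp : y ^ p = Polynomial.C a₁ ^ p * X ^ p + Polynomial.C ap ^ p * (X ^ p) ^ p := by
      rw [hy, add_pow_char, mul_pow, mul_pow]
    have hcomp : (Polynomial.C b * X
          - Polynomial.C b * Polynomial.C ap * Polynomial.C b ^ p * X ^ p : A[X]).comp y - X
        = X ^ p ^ 2 * (-(Polynomial.C b * Polynomial.C ap * Polynomial.C b ^ p
            * Polynomial.C ap ^ p)) := by
      simp only [Polynomial.sub_comp, Polynomial.mul_comp, Polynomial.C_comp, Polynomial.X_comp,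
        Polynomial.pow_comp]
      rw [hyp, hy]
      linear_combination X * h1 + (-(Polynomial.C b * Polynomial.C ap * X ^ p)) * h2
    obtain ⟨t, ht⟩ : ∃ t, φ t = Ideal.Quotient.mk I X := by
      refine ⟨Ideal.Quotient.mk I (Polynomial.C b * X
          - Polynomial.C b * Polynomial.C ap * Polynomial.C b ^ p * X ^ p), ?_⟩
      rw [hφ, Ideal.Quotient.eq, hmem, hcomp]
      exact dvd_mul_right _ _
    have hsurj : Function.Surjective φ := by
      intro z
      obtain ⟨f, rfl⟩ := Ideal.Quotient.mk_surjective z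
      refine ⟨Polynomial.aeval t f, ?_⟩
      rw [show φ (Polynomial.aeval t f) = Polynomial.aeval (φ t) f from
        (Polynomial.aeval_algHom_apply φ t f).symm, ht]
      have h := Polynomial.aeval_algHom_apply (Ideal.Quotient.mkₐ A I) X f
      rw [Polynomial.aeval_X_left_apply, Ideal.Quotient.mkₐ_eq_mk] at h
      exact h
    haveI : Module.Finite A (A[X] ⧸ I) := by
      subst hI
      exact (Polynomial.monic_X_pow (p ^ 2)).finite_quotient
    exact ⟨OrzechProperty.injective_of_surjective_endomorphism φ.toLinearMap hsurj, hsurj⟩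

end aux


open Polynomial in
/-- Let p be a prime and A a commutative ring of characteristic p, and consider the infinitesimal group
scheme Spec A[X]/(X^{p²}) with the additive group law. In coordinates: (1) a polynomial q ∈ A[X] of
degree less than p² satisfies q(Y + Z) − q(Y) − q(Z) ∈ (Y^{p²}, Z^{p²}) in A[Y, Z] (that is, X ↦ q
respects the comultiplication) if and only if q = a₁ X + a_p X^p for some a₁, a_p ∈ A; (2) an
A-algebra endomorphism of A[X]/(X^{p²}) that sends the class of X to the class of a₁ X + a_p X^p is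
bijective if and only if a₁ is a unit of A. (The printed statement is that the automorphism group
scheme of this group scheme is the semidirect product of the additive group by the multiplicative
group, v acting on u by v^{p−1}u; this row records the two computations it consists of, in
coordinates.) -/
theorem result (p : ℕ) [Fact p.Prime] (A : Type u) [CommRing A] [CharP A p] :
    (∀ q : A[X], q.natDegree < p ^ 2 →
      (Polynomial.aeval (MvPolynomial.X 0 + MvPolynomial.X 1 : MvPolynomial (Fin 2) A) q -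
            Polynomial.aeval (MvPolynomial.X 0 : MvPolynomial (Fin 2) A) q -
            Polynomial.aeval (MvPolynomial.X 1 : MvPolynomial (Fin 2) A) q ∈
          Ideal.span ({MvPolynomial.X 0 ^ p ^ 2, MvPolynomial.X 1 ^ p ^ 2} : Set (MvPolynomial (Fin 2) A)) ↔
        ∃ a₁ ap : A, q = Polynomial.C a₁ * X + Polynomial.C ap * X ^ p)) ∧
    (∀ (a₁ ap : A) (φ : (A[X] ⧸ Ideal.span ({X ^ p ^ 2} : Set A[X])) →ₐ[A] (A[X] ⧸ Ideal.span ({X ^ p ^ 2} : Set A[X]))),
      φ (Ideal.Quotient.mk (Ideal.span ({X ^ p ^ 2} : Set A[X])) X) =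
          Ideal.Quotient.mk (Ideal.span ({X ^ p ^ 2} : Set A[X])) (Polynomial.C a₁ * X + Polynomial.C ap * X ^ p) →
        (Function.Bijective φ ↔ IsUnit a₁)) := by
  have hp : p.Prime := Fact.out
  have hN0 : p ^ 2 ≠ 0 := pow_ne_zero 2 hp.ne_zero
  have hNpos : 0 < p ^ 2 := Nat.pos_of_ne_zero hN0
  have hpN : p < p ^ 2 := by
    have := hp.two_le
    rw [pow_two]; nlinarith
  refine ⟨?_, ?_⟩
  · intro q hq
    constructor
    · intro hD
      obtain ⟨u, v, huv⟩ := Ideal.mem_span_pair.mp hD
      have hvan : ∀ k l, k < p ^ 2 → l < p ^ 2 →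
          MvPolynomial.coeff (Finsupp.single 0 k + Finsupp.single 1 l : Fin 2 →₀ ℕ)
            (Polynomial.aeval (MvPolynomial.X 0 + MvPolynomial.X 1 : MvPolynomial (Fin 2) A) q -
              Polynomial.aeval (MvPolynomial.X 0 : MvPolynomial (Fin 2) A) q -
              Polynomial.aeval (MvPolynomial.X 1 : MvPolynomial (Fin 2) A) q) = 0 := by
        intro k l hk hl
        rw [← huv, MvPolynomial.coeff_add, MvPolynomial.X_pow_eq_monomial,
          MvPolynomial.X_pow_eq_monomial, MvPolynomial.coeff_mul_monomial',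
          MvPolynomial.coeff_mul_monomial', if_neg, if_neg, add_zero]
        · intro h
          have h0 := Finsupp.le_def.mp h 0
          have h1 := Finsupp.le_def.mp h 1
          simp only [mm0, mm1, Finsupp.single_eq_same] at h0 h1
          omega
        · intro h
          have h0 := Finsupp.le_def.mp h 0
          have h1 := Finsupp.le_def.mp h 1
          simp only [mm0, mm1, Finsupp.single_eq_same] at h0 h1
          omega
      have key : ∀ k l, k < p ^ 2 → l < p ^ 2 →
          q.coeff (k + l) * ((k + l).choose k : A) - q.coeff k * (if l = 0 then 1 else 0)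
            - q.coeff l * (if k = 0 then 1 else 0) = 0 :=
        fun k l hk hl => (coeff_D q k l).symm.trans (hvan k l hk hl)
      have hq0 : q.coeff 0 = 0 := by
        simpa using key 0 0 hNpos hNpos
      have hmid : ∀ k l, 0 < k → 0 < l → k < p ^ 2 → l < p ^ 2 →
          q.coeff (k + l) * ((k + l).choose k : A) = 0 := by
        intro k l hk0 hl0 hk hl
        have h := key k l hk hl
        rw [if_neg hl0.ne', if_neg hk0.ne', mul_zero, mul_zero, sub_zero, sub_zero] at h
        exact h
      have hunit : ∀ n : ℕ, ¬ p ∣ n → IsUnit (n : A) :=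
        fun n hn => (CharP.isUnit_natCast_iff hp).mpr hn
      have hz : ∀ i, i ≠ 1 → i ≠ p → q.coeff i = 0 := by
        intro i hi1 hip
        by_cases hiN : p ^ 2 ≤ i
        · exact Polynomial.coeff_eq_zero_of_natDegree_lt (lt_of_lt_of_le hq hiN)
        have hiN' : i < p ^ 2 := not_le.mp hiN
        by_cases hi0 : i = 0
        · rw [hi0]; exact hq0
        have hi2 : 2 ≤ i := by omega
        by_cases hdvd : p ∣ i
        · obtain ⟨j, rfl⟩ := hdvd
          have hj0 : j ≠ 0 := by rintro rfl; exact hi0 (mul_zero p)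
          have hj1 : j ≠ 1 := by rintro rfl; exact hip (mul_one p)
          have hjp : j < p := by
            by_contra hcon
            have hcon' : p ≤ j := not_lt.mp hcon
            have : p * p ≤ p * j := Nat.mul_le_mul_left p hcon'
            rw [pow_two] at hiN'
            omega
          have hlucas : (p * j).choose p ≡ j [MOD p] := by
            have h := @Choose.choose_modEq_choose_mod_mul_choose_div_nat (p * j) p p _
            rw [Nat.mul_mod_right, Nat.mod_self, Nat.choose_self, one_mul,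
              Nat.mul_div_cancel_left j hp.pos, Nat.div_self hp.pos, Nat.choose_one_right] at h
            exact h
          have hnd : ¬ p ∣ (p * j).choose p := by
            intro hd
            have hpj : p ∣ j := (Nat.ModEq.dvd_iff hlucas (dvd_refl p)).mp hd
            have := Nat.le_of_dvd (Nat.pos_of_ne_zero hj0) hpj
            omega
          have h2j : p * 2 ≤ p * j := Nat.mul_le_mul_left p (by omega : 2 ≤ j)
          obtain ⟨l, hl⟩ : ∃ l, p * j = p + l := ⟨p * j - p, by omega⟩
          have h := hmid p l hp.pos (by omega) hpN (by omega)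
          rw [← hl] at h
          exact (IsUnit.mul_left_eq_zero (hunit _ hnd)).mp h
        · obtain ⟨l, hl⟩ : ∃ l, i = 1 + l := ⟨i - 1, by omega⟩
          have h := hmid 1 l one_pos (by omega) (by omega) (by omega)
          rw [← hl, Nat.choose_one_right] at h
          exact (IsUnit.mul_left_eq_zero (hunit _ hdvd)).mp h
      refine ⟨q.coeff 1, q.coeff p, ?_⟩
      ext n
      rw [Polynomial.coeff_add, Polynomial.coeff_C_mul, Polynomial.coeff_C_mul, Polynomial.coeff_X,
        Polynomial.coeff_X_pow]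
      by_cases h1 : n = 1
      · rw [h1, if_pos rfl, if_neg hp.one_lt.ne, mul_one, mul_zero, add_zero]
      · by_cases h2 : n = p
        · rw [h2, if_neg hp.one_lt.ne, if_pos rfl, mul_zero, zero_add, mul_one]
        · rw [if_neg (Ne.symm h1), if_neg h2, mul_zero, mul_zero, add_zero]
          exact hz n h1 h2
    · rintro ⟨a₁, ap, rfl⟩
      have hzero : (Polynomial.aeval (MvPolynomial.X 0 + MvPolynomial.X 1 : MvPolynomial (Fin 2) A)
              (Polynomial.C a₁ * X + Polynomial.C ap * X ^ p) -
            Polynomial.aeval (MvPolynomial.X 0 : MvPolynomial (Fin 2) A)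
              (Polynomial.C a₁ * X + Polynomial.C ap * X ^ p) -
            Polynomial.aeval (MvPolynomial.X 1 : MvPolynomial (Fin 2) A)
              (Polynomial.C a₁ * X + Polynomial.C ap * X ^ p)) = 0 := by
        simp only [map_add, map_mul, map_pow, Polynomial.aeval_C, Polynomial.aeval_X]
        rw [add_pow_char]
        ring
      rw [hzero]
      exact Submodule.zero_mem _
  · intro a₁ ap φ hx
    exact part2 p _ rfl a₁ ap φ hx

end Groth.Agent.S13099
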