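import Groth.Statements.S13100
import Mathlib.RingTheory.PowerSeries.Catalan
import Mathlib.RingTheory.PowerSeries.Substitution
import Mathlib.RingTheory.LaurentSeries
import Mathlib.FieldTheory.IsAlgClosed.Basic
import Mathlib.Tactic.LinearCombination
import Mathlib.Tactic.Ring
import Mathlib.Tactic.NormNum

set_option autoImplicit false
universe u
open GrpSch

namespace Groth.Agent.S13100

/-- Let k be an algebraically closed field of characteristic different from 2 and K = k((t)) the field
of Laurent series over k. Then a non-zero Laurent series f is a square in K if and only if its order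
in t is even; consequently the group Kˣ/Kˣ² of non-zero elements modulo squares has exactly two
elements, represented by 1 and t. -/
theorem result (k : Type u) [Field k] [IsAlgClosed k] (h2 : (2 : k) ≠ 0)
    (f : LaurentSeries k) (hf : f ≠ 0) : IsSquare f ↔ Even f.order := by
  classical
  have hsqrt : ∀ u : PowerSeries k, PowerSeries.constantCoeff u = 1 →
      ∃ s : PowerSeries k, s * s = u := by
    intro u hu
    set Ck : PowerSeries k := PowerSeries.map (Nat.castRingHom k) PowerSeries.catalanSeries with hCk
    have h1 : Ck ^ 2 * PowerSeries.X + 1 = Ck := by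
      have := congrArg (PowerSeries.map (Nat.castRingHom k))
        PowerSeries.catalanSeries_sq_mul_X_add_one
      simpa using this
    set S : PowerSeries k := 1 - 2 * PowerSeries.X * Ck with hS
    have hSS : S * S = 1 - 4 * PowerSeries.X := by
      rw [hS]; linear_combination (4 * PowerSeries.X) * h1
    have h4 : (4 : k) ≠ 0 := by
      have : (4 : k) = 2 * 2 := by norm_num
      rw [this]; exact mul_ne_zero h2 h2
    set a : PowerSeries k := PowerSeries.C (4 : k)⁻¹ * (1 - u) with ha
    have ha0 : PowerSeries.constantCoeff a = 0 := by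
      rw [ha, map_mul, map_sub, map_one, hu, sub_self, mul_zero]
    have hsub : PowerSeries.HasSubst a := PowerSeries.HasSubst.of_constantCoeff_zero' ha0
    have h5 : (4 : PowerSeries k) * PowerSeries.C (4 : k)⁻¹ = 1 := by
      rw [← map_ofNat (PowerSeries.C (R := k)) 4, ← map_mul, mul_inv_cancel₀ h4, map_one]
    have hfin : (1 : PowerSeries k) - 4 * a = u := by
      rw [ha]; linear_combination (-(1 - u)) * h5
    have hφ : PowerSeries.substAlgHom (R := k) hsub S * PowerSeries.substAlgHom (R := k) hsub S
        = 1 - 4 * a := by
      rw [← map_mul, hSS, map_sub, map_one, map_mul, map_ofNat, PowerSeries.substAlgHom_X]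
    exact ⟨PowerSeries.substAlgHom (R := k) hsub S, hφ.trans hfin⟩
  constructor
  · rintro ⟨g, rfl⟩
    have hg : g ≠ 0 := by
      rintro rfl
      simp at hf
    exact ⟨g.order, HahnSeries.order_mul hg hg⟩
  · rintro ⟨r, hr⟩
    set P := LaurentSeries.powerSeriesPart f with hP
    have hfP : (HahnSeries.single f.order 1 : LaurentSeries k) * (HahnSeries.ofPowerSeries ℤ k P) = f :=
      LaurentSeries.single_order_mul_powerSeriesPart f
    have hc : PowerSeries.constantCoeff P ≠ 0 := by
      rw [← PowerSeries.coeff_zero_eq_constantCoeff_apply, hP, LaurentSeries.powerSeriesPart_coeff]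
      simpa using (HahnSeries.coeff_order_eq_zero (x := f)).not.mpr hf
    obtain ⟨d, hd⟩ := IsAlgClosed.exists_eq_mul_self (PowerSeries.constantCoeff P)
    obtain ⟨s, hs⟩ := hsqrt (PowerSeries.C (PowerSeries.constantCoeff P)⁻¹ * P)
      (by rw [map_mul, PowerSeries.constantCoeff_C, inv_mul_cancel₀ hc])
    have hP2 : P = (PowerSeries.C d * s) * (PowerSeries.C d * s) := by
      have h3 : (PowerSeries.C d * s) * (PowerSeries.C d * s) = PowerSeries.C (d * d) * (s * s) := by
        rw [map_mul]; ring
      rw [h3, hs, ← hd, ← mul_assoc, ← map_mul, mul_inv_cancel₀ hc, map_one, one_mul]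
    refine ⟨HahnSeries.single r 1 * HahnSeries.ofPowerSeries ℤ k (PowerSeries.C d * s), ?_⟩
    have h6 : (HahnSeries.single (r + r) (1 : k) : LaurentSeries k)
        = HahnSeries.single r 1 * HahnSeries.single r 1 := by
      rw [HahnSeries.single_mul_single, mul_one]
    conv_lhs => rw [← hfP, hr, hP2, map_mul, h6]
    ring

end Groth.Agent.S13100
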