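import Groth.Statements.S13101
import Mathlib.Tactic.Module
import Mathlib.LinearAlgebra.Determinant
import Mathlib.Tactic.Ring
import Mathlib.LinearAlgebra.Basis.Basic
import Mathlib.LinearAlgebra.Matrix.Determinant.Basic
import Mathlib.Tactic.LinearCombination

set_option autoImplicit false
universe u v
open GrpSch

namespace Groth.Agent.S13101

/-- Let A be a commutative ring in which 2 is a unit, and L a Lie algebra over A, free as a module with
basis x = bs 0, y = bs 1, z = bs 2 and brackets [x,y] = y, [x,z] = y + z, [y,z] = 0. Then for every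
Lie algebra automorphism φ of L over A there are b, c, h ∈ A and a unit i of A with φ(x) = x + b y +
c z, φ(y) = i y and φ(z) = h y + i z. Only the form of an automorphism is stated, not that every map
of this form is one. (The published statement identifies the automorphism group scheme with a
semidirect product of two additive groups by the product of the multiplicative and additive group,
for algebras over a field of Laurent series of characteristic not 2, and deduces the vanishing of
its first cohomology; this row records the determination of the automorphisms, over any base ring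
with 2 invertible; the cohomological consequence is not restated.) -/
theorem result (A : Type u) [CommRing A] (h2 : IsUnit (2 : A))
    (L : Type v) [LieRing L] [LieAlgebra A L] (bs : Module.Basis (Fin 3) A L)
    (hxy : ⁅bs 0, bs 1⁆ = bs 1) (hxz : ⁅bs 0, bs 2⁆ = bs 1 + bs 2) (hyz : ⁅bs 1, bs 2⁆ = 0)
    (φ : L ≃ₗ⁅A⁆ L) :
    ∃ b c h i : A, IsUnit i ∧ φ (bs 0) = bs 0 + b • bs 1 + c • bs 2 ∧ φ (bs 1) = i • bs 1 ∧
      φ (bs 2) = h • bs 1 + i • bs 2 := by
  classical
  -- bracket table
  have hyx : ⁅bs 1, bs 0⁆ = -bs 1 := by rw [← lie_skew, hxy]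
  have hzx : ⁅bs 2, bs 0⁆ = -(bs 1 + bs 2) := by rw [← lie_skew, hxz]
  have hzy : ⁅bs 2, bs 1⁆ = 0 := by rw [← lie_skew, hyz, neg_zero]
  have hrepr : ∀ u : L, u = bs.repr u 0 • bs 0 + bs.repr u 1 • bs 1 + bs.repr u 2 • bs 2 := by
    intro u
    conv_lhs => rw [← bs.sum_repr u]
    rw [Fin.sum_univ_three]
  -- general bracket formula
  have hbr : ∀ (p0 p1 p2 q0 q1 q2 : A),
      ⁅p0 • bs 0 + p1 • bs 1 + p2 • bs 2, q0 • bs 0 + q1 • bs 1 + q2 • bs 2⁆ =
        (0 : A) • bs 0 + (p0 * q1 - p1 * q0 + p0 * q2 - p2 * q0) • bs 1 +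
          (p0 * q2 - p2 * q0) • bs 2 := by
    intro p0 p1 p2 q0 q1 q2
    simp only [add_lie, lie_add, smul_lie, lie_smul, lie_self, hxy, hxz, hyz, hyx, hzx, hzy,
      smul_zero, add_zero, zero_add, smul_neg]
    module
  -- coordinates extraction
  have hcoord : ∀ (p0 p1 p2 q0 q1 q2 : A),
      p0 • bs 0 + p1 • bs 1 + p2 • bs 2 = q0 • bs 0 + q1 • bs 1 + q2 • bs 2 →
        p0 = q0 ∧ p1 = q1 ∧ p2 = q2 := by
    intro p0 p1 p2 q0 q1 q2 hpq
    have h0 := congrArg (fun v => bs.repr v 0) hpq
    have h1 := congrArg (fun v => bs.repr v 1) hpq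
    have h2 := congrArg (fun v => bs.repr v 2) hpq
    simp at h0 h1 h2
    exact ⟨h0, h1, h2⟩
  -- name the coordinates
  set a1 := bs.repr (φ (bs 0)) 0 with ha1
  set b := bs.repr (φ (bs 0)) 1 with hb
  set c := bs.repr (φ (bs 0)) 2 with hc
  set d := bs.repr (φ (bs 1)) 0 with hd
  set e := bs.repr (φ (bs 1)) 1 with he
  set f := bs.repr (φ (bs 1)) 2 with hf
  set g := bs.repr (φ (bs 2)) 0 with hg
  set h := bs.repr (φ (bs 2)) 1 with hh
  set i := bs.repr (φ (bs 2)) 2 with hi
  have hX : φ (bs 0) = a1 • bs 0 + b • bs 1 + c • bs 2 := hrepr _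
  have hY : φ (bs 1) = d • bs 0 + e • bs 1 + f • bs 2 := hrepr _
  have hZ : φ (bs 2) = g • bs 0 + h • bs 1 + i • bs 2 := hrepr _
  -- equations from the brackets
  have E1 : φ (bs 1) = ⁅φ (bs 0), φ (bs 1)⁆ := by rw [← LieEquiv.map_lie, hxy]
  have E2 : φ (bs 1) + φ (bs 2) = ⁅φ (bs 0), φ (bs 2)⁆ := by rw [← LieEquiv.map_lie, hxz, map_add]
  rw [hX, hY, hbr] at E1
  rw [hX, hY, hZ, hbr] at E2
  obtain ⟨e10, e11, e12⟩ := hcoord _ _ _ _ _ _ E1
  have E2' : (d + g) • bs 0 + (e + h) • bs 1 + (f + i) • bs 2 =
      (0 : A) • bs 0 + (a1 * h - b * g + a1 * i - c * g) • bs 1 + (a1 * i - c * g) • bs 2 := by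
    rw [← E2]; module
  obtain ⟨e20, e21, e22⟩ := hcoord _ _ _ _ _ _ E2'
  have hdet := LinearEquiv.isUnit_det φ.toLinearEquiv bs bs
  rw [Matrix.det_fin_three] at hdet
  simp only [LinearMap.toMatrix_apply, LinearEquiv.coe_coe, LieEquiv.coe_toLinearEquiv] at hdet
  change IsUnit (a1 * e * i - a1 * h * f - d * b * i + d * h * c + g * b * f - g * e * c) at hdet
  obtain ⟨D', hD'⟩ := hdet.exists_right_inv
  obtain ⟨k, hk⟩ := h2.exists_right_inv
  have hd0 : d = 0 := e10
  have hg0 : g = 0 := by linear_combination e20 - e10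
  have e11' : e = a1 * e + a1 * f := by linear_combination e11 - (b + c) * hd0
  have e12' : f = a1 * f := by linear_combination e12 - c * hd0
  have e21' : e + h = a1 * h + a1 * i := by linear_combination e21 - (b + c) * hg0
  have e22' : f + i = a1 * i := by linear_combination e22 - c * hg0
  have hD2 : (a1 * e * i - a1 * h * f) * D' = 1 := by
    linear_combination hD' + (b * i - h * c) * D' * hd0 + (e * c - b * f) * D' * hg0
  have tf : (a1 - 1) * f = 0 := by linear_combination -e12'
  have te : (a1 - 1) * e = -f := by linear_combination -e11' + e12'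
  have ti : (a1 - 1) * i = f := by linear_combination -e22'
  have th : (a1 - 1) * h = e - i - f := by linear_combination -e21' + e22'
  have ff : f * f = 0 := by linear_combination i * tf - f * ti
  have fi : f * i = 0 := by
    have h3 : 2 * (f * i) = 0 := by
      linear_combination (-h - i) * tf - ((a1 - 1) * h + i) * ti + i * (a1 - 1) * th + i * te
    linear_combination k * h3 - (f * i) * hk
  have ht : a1 - 1 = 0 := by
    linear_combination (-(a1 - 1)) * hD2 + (a1 * i * D') * te - (a1 * h * D') * tf - (a1 * D') * fi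
  have ha : a1 = 1 := by linear_combination ht
  have hf0 : f = 0 := by linear_combination -ti + i * ht
  have hei : e = i := by linear_combination -th + h * ht + hf0
  refine ⟨b, c, h, i, ?_, ?_, ?_, ?_⟩
  · have h5 : IsUnit (i * i) := by
      refine isUnit_iff_exists_inv.mpr ⟨D', ?_⟩
      linear_combination hD2 - (e * i * D' - h * f * D') * ha + (h * D') * hf0 - (i * D') * hei
    exact isUnit_of_mul_isUnit_left h5
  · rw [hX, ha, one_smul]
  · rw [hY, hd0, hf0, hei, zero_smul, zero_smul, zero_add, add_zero]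
  · rw [hZ, hg0, zero_smul, zero_add]

end Groth.Agent.S13101
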