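import Groth.Statements.S13102
import Mathlib.Tactic.Module
import Mathlib.LinearAlgebra.Determinant
import Mathlib.Tactic.Ring
import Mathlib.LinearAlgebra.Basis.Basic
import Mathlib.LinearAlgebra.Matrix.Determinant.Basic
import Mathlib.Tactic.LinearCombination

set_option autoImplicit false
universe u v w
open GrpSch

namespace Groth.Agent.S13102

/-- Let K be a field, α ∈ K, A a commutative K-algebra and L a Lie algebra over A which is free as an
A-module with basis x = bs 0, y = bs 1, z = bs 2 and brackets [x,y] = y, [x,z] = α z, [y,z] = 0. If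
α² ≠ 1 then every Lie algebra automorphism φ of L over A satisfies φ(x) = x + b y + c z, φ(y) = e y,
φ(z) = i z for some b, c ∈ A and units e, i of A. If α = 1 then every such φ satisfies φ(x) = x + b
y + c z, φ(y) = e y + f z, φ(z) = h y + i z with e i − f h a unit of A. (The printed statement
identifies the automorphism group schemes with the corresponding semidirect products, treats also α
= −1 in characteristic not 2, and computes first cohomology over a field of Laurent series; those
clauses are not restated here.) -/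
theorem result (K : Type u) [Field K] (α : K) (A : Type v) [CommRing A] [Algebra K A]
    (L : Type w) [LieRing L] [LieAlgebra A L] (bs : Module.Basis (Fin 3) A L)
    (hxy : ⁅bs 0, bs 1⁆ = bs 1) (hxz : ⁅bs 0, bs 2⁆ = algebraMap K A α • bs 2) (hyz : ⁅bs 1, bs 2⁆ = 0)
    (φ : L ≃ₗ⁅A⁆ L) :
    (α ^ 2 ≠ 1 → ∃ b c e i : A, IsUnit e ∧ IsUnit i ∧ φ (bs 0) = bs 0 + b • bs 1 + c • bs 2 ∧
        φ (bs 1) = e • bs 1 ∧ φ (bs 2) = i • bs 2) ∧
    (α = 1 → ∃ b c e f h i : A, IsUnit (e * i - f * h) ∧ φ (bs 0) = bs 0 + b • bs 1 + c • bs 2 ∧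
        φ (bs 1) = e • bs 1 + f • bs 2 ∧ φ (bs 2) = h • bs 1 + i • bs 2) := by
  classical
  set s := algebraMap K A α with hs
  -- bracket table
  have hyx : ⁅bs 1, bs 0⁆ = -bs 1 := by rw [← lie_skew, hxy]
  have hzx : ⁅bs 2, bs 0⁆ = -(s • bs 2) := by rw [← lie_skew, hxz]
  have hzy : ⁅bs 2, bs 1⁆ = 0 := by rw [← lie_skew, hyz, neg_zero]
  have hrepr : ∀ u : L, u = bs.repr u 0 • bs 0 + bs.repr u 1 • bs 1 + bs.repr u 2 • bs 2 := by
    intro u
    conv_lhs => rw [← bs.sum_repr u]
    rw [Fin.sum_univ_three]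
  -- general bracket formula
  have hbr : ∀ (p0 p1 p2 q0 q1 q2 : A),
      ⁅p0 • bs 0 + p1 • bs 1 + p2 • bs 2, q0 • bs 0 + q1 • bs 1 + q2 • bs 2⁆ =
        (0 : A) • bs 0 + (p0 * q1 - p1 * q0) • bs 1 +
          (s * (p0 * q2 - p2 * q0)) • bs 2 := by
    intro p0 p1 p2 q0 q1 q2
    simp only [add_lie, lie_add, smul_lie, lie_smul, lie_self, hxy, hxz, hyz, hyx, hzx, hzy,
      smul_zero, add_zero, zero_add, smul_neg]
    module
  -- coordinates extraction
  have hcoord : ∀ (p0 p1 p2 q0 q1 q2 : A),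
      p0 • bs 0 + p1 • bs 1 + p2 • bs 2 = q0 • bs 0 + q1 • bs 1 + q2 • bs 2 →
        p0 = q0 ∧ p1 = q1 ∧ p2 = q2 := by
    intro p0 p1 p2 q0 q1 q2 hpq
    have h0 := congrArg (fun v => bs.repr v 0) hpq
    have h1 := congrArg (fun v => bs.repr v 1) hpq
    have h2 := congrArg (fun v => bs.repr v 2) hpq
    simp at h0 h1 h2
    exact ⟨h0, h1, h2⟩
  -- name the coordinates
  set a1 := bs.repr (φ (bs 0)) 0 with ha1
  set b := bs.repr (φ (bs 0)) 1 with hb
  set c := bs.repr (φ (bs 0)) 2 with hc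
  set d := bs.repr (φ (bs 1)) 0 with hd
  set e := bs.repr (φ (bs 1)) 1 with he
  set f := bs.repr (φ (bs 1)) 2 with hf
  set g := bs.repr (φ (bs 2)) 0 with hg
  set h := bs.repr (φ (bs 2)) 1 with hh
  set i := bs.repr (φ (bs 2)) 2 with hi
  have hX : φ (bs 0) = a1 • bs 0 + b • bs 1 + c • bs 2 := hrepr _
  have hY : φ (bs 1) = d • bs 0 + e • bs 1 + f • bs 2 := hrepr _
  have hZ : φ (bs 2) = g • bs 0 + h • bs 1 + i • bs 2 := hrepr _
  -- equations from the brackets
  have E1 : φ (bs 1) = ⁅φ (bs 0), φ (bs 1)⁆ := by rw [← LieEquiv.map_lie, hxy]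
  have E2 : s • φ (bs 2) = ⁅φ (bs 0), φ (bs 2)⁆ := by rw [← LieEquiv.map_lie, hxz, map_smul]
  have E3 : (0 : L) = ⁅φ (bs 1), φ (bs 2)⁆ := by rw [← LieEquiv.map_lie, hyz, map_zero]
  rw [hX, hY, hbr] at E1
  rw [hX, hZ, hbr] at E2
  rw [hY, hZ, hbr] at E3
  obtain ⟨e10, e11, e12⟩ := hcoord _ _ _ _ _ _ E1
  have E2' : (s * g) • bs 0 + (s * h) • bs 1 + (s * i) • bs 2 =
      (0 : A) • bs 0 + (a1 * h - b * g) • bs 1 + (s * (a1 * i - c * g)) • bs 2 := by
    rw [← E2]; module
  obtain ⟨e20, e21, e22⟩ := hcoord _ _ _ _ _ _ E2'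
  have E3' : (0 : A) • bs 0 + (0 : A) • bs 1 + (0 : A) • bs 2 =
      (0 : A) • bs 0 + (d * h - e * g) • bs 1 + (s * (d * i - f * g)) • bs 2 := by
    rw [← E3]; module
  obtain ⟨e30, e31, e32⟩ := hcoord _ _ _ _ _ _ E3'
  have hdet := LinearEquiv.isUnit_det φ.toLinearEquiv bs bs
  rw [Matrix.det_fin_three] at hdet
  simp only [LinearMap.toMatrix_apply, LinearEquiv.coe_coe, LieEquiv.coe_toLinearEquiv] at hdet
  change IsUnit (a1 * e * i - a1 * h * f - d * b * i + d * h * c + g * b * f - g * e * c) at hdet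
  obtain ⟨D', hD'⟩ := hdet.exists_right_inv
  have hd0 : d = 0 := e10
  have c11 : e = a1 * e := by linear_combination e11 - b * hd0
  refine ⟨?_, ?_⟩
  · intro hα
    have hα' : α ^ 2 - 1 ≠ 0 := sub_ne_zero.mpr hα
    have hw : (s ^ 2 - 1) * algebraMap K A (α ^ 2 - 1)⁻¹ = 1 := by
      rw [hs, ← map_pow, ← map_one (algebraMap K A), ← map_sub, ← map_mul, mul_inv_cancel₀ hα']
    set w := algebraMap K A (α ^ 2 - 1)⁻¹ with hwdef
    have c12 : f = s * a1 * f := by linear_combination e12 - s * c * hd0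
    have c31 : e * g = 0 := by linear_combination e31 + h * hd0
    have c32 : s * f * g = 0 := by linear_combination e32 + s * i * hd0
    have hD1 : (a1 * (e * i - h * f) + g * (b * f - e * c)) * D' = 1 := by
      linear_combination hD' + (b * i - h * c) * D' * hd0
    have hg0 : g = 0 := by
      linear_combination (-g) * hD1 + D' * (a1 * i - g * c) * c31 + D' * g * f * e21 - D' * h * c32
    have c21 : s * h = a1 * h := by linear_combination e21 - b * hg0
    have hD2 : a1 * (e * i - h * f) * D' = 1 := by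
      linear_combination hD1 - (b * f - e * c) * D' * hg0
    have hhf : h * f = 0 := by
      linear_combination w * (-h) * c12 + w * s * f * c21 - h * f * hw
    have ht : a1 - 1 = 0 := by
      linear_combination (-(a1 - 1)) * hD2 - a1 * D' * i * c11 - a1 * D' * (a1 - 1) * hhf
    have ha : a1 = 1 := by linear_combination ht
    have hw1 : (s - 1) * ((s + 1) * w) = 1 := by linear_combination hw
    have hh0 : h = 0 := by
      linear_combination (s + 1) * w * c21 + (s + 1) * w * h * ht - h * hw1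
    have hf0 : f = 0 := by
      linear_combination -((s + 1) * w) * c12 - (s + 1) * w * s * f * ht - f * hw1
    have hei : e * i * D' = 1 := by
      linear_combination hD2 - e * i * D' * ht + a1 * D' * hhf
    refine ⟨b, c, e, i, ?_, ?_, ?_, ?_, ?_⟩
    · exact isUnit_iff_exists_inv.mpr ⟨i * D', by linear_combination hei⟩
    · exact isUnit_iff_exists_inv.mpr ⟨e * D', by linear_combination hei⟩
    · rw [hX, ha, one_smul]
    · rw [hY, hd0, hf0, zero_smul, zero_smul, zero_add, add_zero]
    · rw [hZ, hg0, hh0, zero_smul, zero_smul, zero_add, zero_add]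
  · intro hα
    have hs1 : s = 1 := by rw [hs, hα, map_one]
    have hg0 : g = 0 := by linear_combination e20 - g * hs1
    have c12' : f = a1 * f := by linear_combination e12 + a1 * f * hs1 - s * c * hd0
    have c21' : h = a1 * h := by linear_combination e21 - h * hs1 - b * hg0
    have hD2 : a1 * (e * i - h * f) * D' = 1 := by
      linear_combination hD' + (b * i - h * c) * D' * hd0 + (e * c - b * f) * D' * hg0
    have ht : a1 - 1 = 0 := by
      linear_combination (-(a1 - 1)) * hD2 - a1 * D' * i * c11 + a1 * D' * f * c21'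
    have ha : a1 = 1 := by linear_combination ht
    refine ⟨b, c, e, f, h, i, ?_, ?_, ?_, ?_⟩
    · exact isUnit_iff_exists_inv.mpr ⟨D', by linear_combination hD2 - (e * i - h * f) * D' * ht⟩
    · rw [hX, ha, one_smul]
    · rw [hY, hd0, zero_smul, zero_add]
    · rw [hZ, hg0, zero_smul, zero_add]

end Groth.Agent.S13102
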