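import Groth.Statements.S13104
import Mathlib

set_option autoImplicit false
universe u
open GrpSch

namespace Groth.Agent.S13104

section ring
variable (B : Type u) [CommRing B]
    (ψ : DualNumber B →+* DualNumber (DualNumber B))
    (hψB : ∀ b : B, ψ (algebraMap B (DualNumber B) b) = algebraMap B (DualNumber (DualNumber B)) b)
    (hψ : ψ DualNumber.eps = algebraMap (DualNumber B) (DualNumber (DualNumber B)) DualNumber.eps * DualNumber.eps)
include hψB hψ

theorem psi_apply (x : DualNumber B) :
    ψ x = TrivSqZeroExt.inl (TrivSqZeroExt.inl x.fst) + TrivSqZeroExt.inr (TrivSqZeroExt.inr x.snd) := by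
  have hx : x = algebraMap B (DualNumber B) x.fst + algebraMap B (DualNumber B) x.snd * DualNumber.eps := by
    apply TrivSqZeroExt.ext
    · simp [TrivSqZeroExt.algebraMap_eq_inl]
    · simp [TrivSqZeroExt.algebraMap_eq_inl]
  conv_lhs => rw [hx]
  rw [map_add, map_mul, hψB, hψB, hψ]
  apply TrivSqZeroExt.ext
  · apply TrivSqZeroExt.ext <;>
      simp [TrivSqZeroExt.algebraMap_eq_inl, TrivSqZeroExt.algebraMap_eq_inl']
  · apply TrivSqZeroExt.ext <;>
      simp [TrivSqZeroExt.algebraMap_eq_inl, TrivSqZeroExt.algebraMap_eq_inl']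

theorem psi_injective : Function.Injective ψ := by
  intro x y hxy
  rw [psi_apply B ψ hψB hψ x, psi_apply B ψ hψB hψ y] at hxy
  have h1 := congrArg (fun z => TrivSqZeroExt.fst (TrivSqZeroExt.fst z)) hxy
  have h2 := congrArg (fun z => TrivSqZeroExt.snd (TrivSqZeroExt.snd z)) hxy
  simp at h1 h2
  exact TrivSqZeroExt.ext h1 h2

omit hψB hψ in
theorem sq_zero_of_fst {A : Type*} [CommRing A] (y : DualNumber A) (h : y.fst = 0) : y * y = 0 := by
  apply TrivSqZeroExt.ext
  · simp [h]
  · simp [h]

omit hψB hψ in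
theorem cube_zero {A : Type*} [CommRing A] (x : DualNumber A) (h : x.fst * x.fst = 0) :
    x ^ 3 = 0 := by
  apply TrivSqZeroExt.ext
  · rw [pow_succ, pow_two, TrivSqZeroExt.fst_mul, TrivSqZeroExt.fst_mul, h, zero_mul,
      TrivSqZeroExt.fst_zero]
  · rw [pow_succ, pow_two, DualNumber.snd_mul, DualNumber.snd_mul, TrivSqZeroExt.fst_mul,
      TrivSqZeroExt.snd_zero]
    linear_combination (3 * x.snd) * h

omit hψB hψ in
theorem isIntegralElem_of_cube {R S : Type*} [CommRing R] [CommRing S] (f : R →+* S) (s : S)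
    (r : R) (h : (s - f r) ^ 3 = 0) : f.IsIntegralElem s := by
  show ∃ p : Polynomial R, p.Monic ∧ Polynomial.eval₂ f s p = 0
  refine ⟨(Polynomial.X - Polynomial.C r) ^ 3, (Polynomial.monic_X_sub_C r).pow 3, ?_⟩
  rw [Polynomial.eval₂_pow, Polynomial.eval₂_sub, Polynomial.eval₂_X, Polynomial.eval₂_C, h]

theorem psi_isIntegral : ψ.IsIntegral := by
  intro s
  have h : (s - ψ (TrivSqZeroExt.inl s.fst.fst)) ^ 3 = 0 := by
    rw [psi_apply B ψ hψB hψ]
    apply cube_zero
    apply sq_zero_of_fst
    simp
  exact isIntegralElem_of_cube ψ s _ h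

end ring

open CategoryTheory AlgebraicGeometry in
theorem appTop_injective {R S : CommRingCat.{u}} (φ : R ⟶ S) (hφ : Function.Injective φ.hom) :
    Function.Injective (Spec.map φ).appTop := by
  intro x y hxy
  have e := Scheme.ΓSpecIso_naturality φ
  have h1 : ((Spec.map φ).appTop ≫ (Scheme.ΓSpecIso S).hom) x =
      ((Spec.map φ).appTop ≫ (Scheme.ΓSpecIso S).hom) y := by
    rw [CommRingCat.comp_apply, CommRingCat.comp_apply, hxy]
  rw [e] at h1
  rw [CommRingCat.comp_apply, CommRingCat.comp_apply] at h1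
  have h2 := hφ h1
  exact (ConcreteCategory.bijective_of_isIso (Scheme.ΓSpecIso R).hom).1 h2

open CategoryTheory AlgebraicGeometry in
theorem spec_surjective {R S : CommRingCat.{u}} (φ : R ⟶ S)
    (h : Function.Surjective (PrimeSpectrum.comap φ.hom)) : Function.Surjective (Spec.map φ) := by
  intro x
  obtain ⟨y, hy⟩ := h x
  exact ⟨y, hy⟩

open CategoryTheory AlgebraicGeometry in
theorem aux {X Y G : Scheme.{u}} [IsAffine Y] (g : X ⟶ Y) (hsurj : Function.Surjective g)
    (hinj : Function.Injective g.appTop) (u₁ u₂ : Y ⟶ G) (h : g ≫ u₁ = g ≫ u₂) : u₁ = u₂ := by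
  let l : X ⟶ Limits.equalizer u₁ u₂ := Limits.equalizer.lift g h
  have hl : l ≫ Limits.equalizer.ι u₁ u₂ = g := Limits.equalizer.lift_ι g h
  have hrange : Set.range (Limits.equalizer.ι u₁ u₂) = Set.univ := by
    rw [Set.eq_univ_iff_forall]
    intro y
    obtain ⟨x, rfl⟩ := hsurj y
    exact ⟨l x, by rw [← Scheme.Hom.comp_apply, hl]⟩
  haveI : IsClosedImmersion (Limits.equalizer.ι u₁ u₂) :=
    IsClosedImmersion.of_isPreimmersion _ (by rw [hrange]; exact isClosed_univ)
  have hιinj : Function.Injective (Limits.equalizer.ι u₁ u₂).appTop := by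
    intro x y hxy
    apply hinj
    have h1 : (l ≫ Limits.equalizer.ι u₁ u₂).appTop =
        (Limits.equalizer.ι u₁ u₂).appTop ≫ l.appTop := rfl
    rw [hl] at h1
    rw [h1]
    show l.appTop ((Limits.equalizer.ι u₁ u₂).appTop x) =
      l.appTop ((Limits.equalizer.ι u₁ u₂).appTop y)
    rw [hxy]
  haveI : IsIso (Limits.equalizer.ι u₁ u₂) :=
    IsClosedImmersion.isIso_of_injective_of_isAffine hιinj
  rw [← cancel_epi (Limits.equalizer.ι u₁ u₂)]
  exact Limits.equalizer.condition u₁ u₂

open CategoryTheory AlgebraicGeometry in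
/-- Let B be a commutative ring, B[ε] the ring of dual numbers (ε² = 0) and B[α, β]/(α², β²) the double
dual numbers, realised as dual numbers over the dual numbers with α the inner and β the outer
generator, and let ψ : B[ε] → B[α, β]/(α², β²) be the B-algebra homomorphism with ψ(ε) = αβ. Then
for every scheme G the map u ↦ Spec(ψ) ≫ u from morphisms Spec B[ε] → G to morphisms Spec
B[α,β]/(α²,β²) → G is injective. (The printed statement is its consequence for a group scheme G: the
map Lie(G)(B) → G(B[α,β]/(α²,β²)), x ↦ exp(αβ x), is injective; the injectivity on all B[ε]-points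
stated here is what the printed argument establishes.) -/
theorem result (B : Type u) [CommRing B]
    (ψ : DualNumber B →+* DualNumber (DualNumber B))
    (hψB : ∀ b : B, ψ (algebraMap B (DualNumber B) b) = algebraMap B (DualNumber (DualNumber B)) b)
    (hψ : ψ DualNumber.eps = algebraMap (DualNumber B) (DualNumber (DualNumber B)) DualNumber.eps * DualNumber.eps)
    (G : Scheme.{u}) :
    Function.Injective (fun u : Spec (CommRingCat.of (DualNumber B)) ⟶ G =>
      Spec.map (CommRingCat.ofHom (R := DualNumber B) (S := DualNumber (DualNumber B)) ψ) ≫ u) := by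
  intro u₁ u₂ h
  refine aux _ (spec_surjective _ ?_) (appTop_injective _ ?_) u₁ u₂ h
  · exact @RingHom.IsIntegral.comap_surjective (DualNumber B) (DualNumber (DualNumber B)) _ _ ψ
      (psi_isIntegral B ψ hψB hψ) (psi_injective B ψ hψB hψ)
  · exact psi_injective B ψ hψB hψ

end Groth.Agent.S13104
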