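import Groth.Statements.S13106
import Mathlib

set_option autoImplicit false
universe u
open GrpSch

namespace Groth.Agent.S13106

open CategoryTheory AlgebraicGeometry in
/-- Let f : X → Y be a morphism of schemes and U ⊆ Y a schematically dense open subscheme (for every
open V of Y, restriction of functions from V to V ∩ U is injective) such that the restriction f⁻¹(U)
→ U of f is an isomorphism. Then two morphisms from Y to a scheme separated over a base T that agree
after composing with f and have the same composite to T are equal: if Z → T is separated and v₁, v₂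
: Y → Z satisfy v₁ ≫ (Z → T) = v₂ ≫ (Z → T) and f ≫ v₁ = f ≫ v₂, then v₁ = v₂. (The published
statement is the case of a morphism between two prolongations over A[[t]] of a finite group scheme
over A((t)), where U is the generic fibre, schematically dense by flatness; uniqueness of
prolongation maps follows.) -/
theorem result {X Y Z T : Scheme.{u}} (f : X ⟶ Y)
    (U : Y.Opens) (hU : CInt.IsSchematicallyDense U) [IsIso (f ∣_ U)]
    (z : Z ⟶ T) [IsSeparated z] (v₁ v₂ : Y ⟶ Z) (hz : v₁ ≫ z = v₂ ≫ z) (h : f ≫ v₁ = f ≫ v₂) :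
    v₁ = v₂ := by
  have hUv : U.ι ≫ v₁ = U.ι ≫ v₂ := by
    have h1 : U.ι = inv (f ∣_ U) ≫ (f ⁻¹ᵁ U).ι ≫ f := by
      rw [IsIso.eq_inv_comp, morphismRestrict_ι]
    rw [h1]
    simp only [Category.assoc, h]
  let Y' : Over T := Over.mk (v₁ ≫ z)
  let Z' : Over T := Over.mk z
  let U' : Over T := Over.mk (U.ι ≫ v₁ ≫ z)
  let v₁' : Y' ⟶ Z' := Over.homMk v₁ rfl
  let v₂' : Y' ⟶ Z' := Over.homMk v₂ hz.symm
  let ι' : U' ⟶ Y' := Over.homMk U.ι rfl
  have hsep : IsSeparated Z'.hom := ‹_›
  have hci : IsClosedImmersion (Limits.equalizer.ι v₁' v₂').left := inferInstance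
  let l : U' ⟶ Limits.equalizer v₁' v₂' := Limits.equalizer.lift ι' (by ext1; exact hUv)
  have hl : l.left ≫ (Limits.equalizer.ι v₁' v₂').left = U.ι := by
    rw [← Over.comp_left, Limits.equalizer.lift_ι]; rfl
  have hker : (Limits.equalizer.ι v₁' v₂').left.ker = ⊥ := by
    ext V : 2
    rw [Scheme.Hom.ker_apply, Scheme.IdealSheafData.ideal_bot, Pi.bot_apply, eq_bot_iff]
    intro s hs
    rw [RingHom.mem_ker] at hs
    have hs' : ((Limits.equalizer.ι v₁' v₂').left.app V.1) s = 0 := hs
    rw [Ideal.mem_bot]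
    apply hU V.1
    rw [map_zero]
    have h1 : ((l.left ≫ (Limits.equalizer.ι v₁' v₂').left).app V.1) s = 0 := by
      show ((l.left).app ((Limits.equalizer.ι v₁' v₂').left ⁻¹ᵁ V.1))
        (((Limits.equalizer.ι v₁' v₂').left.app V.1) s) = 0
      rw [hs', map_zero]
    rw [hl] at h1
    rw [Scheme.Opens.ι_app] at h1
    have hW : U.ι ''ᵁ U.ι ⁻¹ᵁ V.1 = V.1 ⊓ U := by
      rw [Scheme.Hom.image_preimage_eq_opensRange_inf, Scheme.Opens.opensRange_ι, inf_comm]
    have key : ∀ (W : Y.Opens) (hW : W = V.1 ⊓ U) (h : W ≤ V.1),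
        (Y.presheaf.map (homOfLE h).op) s = 0 →
        (Y.presheaf.map (homOfLE (inf_le_left : V.1 ⊓ U ≤ V.1)).op) s = 0 := by
      rintro W rfl h hs'; exact hs'
    exact key _ hW _ h1
  have hiso := (IsClosedImmersion.isIso_iff_ker_eq_bot).mpr hker
  rw [← cancel_epi (Limits.equalizer.ι v₁' v₂').left]
  exact congr($(Limits.equalizer.condition v₁' v₂').left)

end Groth.Agent.S13106
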