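import Groth.Statements.S13107
import Mathlib.Tactic.Module
import Mathlib.LinearAlgebra.Determinant
import Mathlib.Tactic.Ring
import Mathlib.LinearAlgebra.Basis.Basic
import Mathlib.Tactic.LinearCombination
import Mathlib.RingTheory.HahnSeries.Multiplication
import Mathlib.RingTheory.LaurentSeries

set_option autoImplicit false
universe u v w
open GrpSch

namespace Groth.Agent.S13107

/-- Let k be a field, K = k((t)) the field of Laurent series over k, F a Lie algebra over K with a basis
x' = bF 0, y' = bF 1, z' = bF 2 and brackets [x',y'] = z', [x',z'] = t y', [y',z'] = 0, and L a Lie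
algebra over K with a basis x = bL 0, y = bL 1, z = bL 2 and brackets [x,y] = y, [x,z] = −z, [y,z] =
0. Then there is no K-linear isomorphism of Lie algebras between L and F: F is a non-trivial form of
L over K. (The published result is the classification of three-dimensional Lie algebras over k((t))
for k algebraically closed of characteristic not 2, with F its only non-split entry; this row states
the non-isomorphism of F and L over k((t)) for every field k.) -/
theorem result (k : Type u) [Field k]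
    (F : Type v) [LieRing F] [LieAlgebra (LaurentSeries k) F] (bF : Module.Basis (Fin 3) (LaurentSeries k) F)
    (hF01 : ⁅bF 0, bF 1⁆ = bF 2) (hF02 : ⁅bF 0, bF 2⁆ = (HahnSeries.single 1 (1 : k) : LaurentSeries k) • bF 1)
    (hF12 : ⁅bF 1, bF 2⁆ = 0)
    (L : Type w) [LieRing L] [LieAlgebra (LaurentSeries k) L] (bL : Module.Basis (Fin 3) (LaurentSeries k) L)
    (hL01 : ⁅bL 0, bL 1⁆ = bL 1) (hL02 : ⁅bL 0, bL 2⁆ = -bL 2) (hL12 : ⁅bL 1, bL 2⁆ = 0) :
    IsEmpty (L ≃ₗ⁅LaurentSeries k⁆ F) := by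
  classical
  have key : ∀ (K : Type u) [CommRing K] [IsDomain K] (T : K)
      (F : Type v) [LieRing F] [LieAlgebra K F] (bF : Module.Basis (Fin 3) K F)
      (_ : ⁅bF 0, bF 1⁆ = bF 2) (_ : ⁅bF 0, bF 2⁆ = T • bF 1) (_ : ⁅bF 1, bF 2⁆ = 0)
      (L : Type w) [LieRing L] [LieAlgebra K L] (bL : Module.Basis (Fin 3) K L)
      (_ : ⁅bL 0, bL 1⁆ = bL 1) (φ : L ≃ₗ⁅K⁆ F), ∃ a : K, T * (a * a) = 1 := by
    intro K _ _ T F _ _ bF hF01 hF02 hF12 L _ _ bL hL01 φ
    have h10 : ⁅bF 1, bF 0⁆ = -bF 2 := by rw [← lie_skew, hF01]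
    have h20 : ⁅bF 2, bF 0⁆ = -(T • bF 1) := by rw [← lie_skew, hF02]
    have h21 : ⁅bF 2, bF 1⁆ = 0 := by rw [← lie_skew, hF12, neg_zero]
    have hrepr : ∀ u : F, u = bF.repr u 0 • bF 0 + bF.repr u 1 • bF 1 + bF.repr u 2 • bF 2 := by
      intro u
      conv_lhs => rw [← bF.sum_repr u]
      rw [Fin.sum_univ_three]
    have hbr : ∀ (p0 p1 p2 q0 q1 q2 : K),
        ⁅p0 • bF 0 + p1 • bF 1 + p2 • bF 2, q0 • bF 0 + q1 • bF 1 + q2 • bF 2⁆ =
          (0 : K) • bF 0 + (T * (p0 * q2 - p2 * q0)) • bF 1 +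
            (p0 * q1 - p1 * q0) • bF 2 := by
      intro p0 p1 p2 q0 q1 q2
      simp only [add_lie, lie_add, smul_lie, lie_smul, lie_self, hF01, hF02, hF12, h10, h20, h21,
        smul_zero, add_zero, zero_add, smul_neg]
      module
    have hcoord : ∀ (p0 p1 p2 q0 q1 q2 : K),
        p0 • bF 0 + p1 • bF 1 + p2 • bF 2 = q0 • bF 0 + q1 • bF 1 + q2 • bF 2 →
          p0 = q0 ∧ p1 = q1 ∧ p2 = q2 := by
      intro p0 p1 p2 q0 q1 q2 hpq
      have h0 := congrArg (fun v => bF.repr v 0) hpq
      have h1 := congrArg (fun v => bF.repr v 1) hpq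
      have h2 := congrArg (fun v => bF.repr v 2) hpq
      simp at h0 h1 h2
      exact ⟨h0, h1, h2⟩
    set a := bF.repr (φ (bL 0)) 0 with ha
    set b := bF.repr (φ (bL 0)) 1 with hb
    set c := bF.repr (φ (bL 0)) 2 with hc
    set d := bF.repr (φ (bL 1)) 0 with hd
    set e := bF.repr (φ (bL 1)) 1 with he
    set f := bF.repr (φ (bL 1)) 2 with hf
    have hX : φ (bL 0) = a • bF 0 + b • bF 1 + c • bF 2 := hrepr _
    have hY : φ (bL 1) = d • bF 0 + e • bF 1 + f • bF 2 := hrepr _
    have E1 : φ (bL 1) = ⁅φ (bL 0), φ (bL 1)⁆ := by rw [← LieEquiv.map_lie, hL01]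
    rw [hX, hY, hbr] at E1
    obtain ⟨e10, e11, e12⟩ := hcoord _ _ _ _ _ _ E1
    have hd0 : d = 0 := e10
    have hfe : f = a * e := by linear_combination e12 - b * hd0
    have hee : (1 - T * a ^ 2) * e = 0 := by
      linear_combination e11 + T * a * e12 - (T * c + T * a * b) * hd0
    have he0 : e ≠ 0 := by
      intro he0
      have hf0 : f = 0 := by linear_combination hfe + a * he0
      have h1 : φ (bL 1) = 0 := by
        rw [hY, hd0, he0, hf0]; simp
      have h2 : bL 1 = 0 := φ.injective (h1.trans (map_zero φ).symm)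
      exact bL.ne_zero 1 h2
    refine ⟨a, ?_⟩
    rcases mul_eq_zero.mp hee with h | h
    · linear_combination -h
    · exact absurd h he0
  refine ⟨fun φ => ?_⟩
  obtain ⟨a, hTa⟩ := key (LaurentSeries k) (HahnSeries.single 1 (1 : k)) F bF hF01 hF02 hF12 L bL hL01 φ
  set T : LaurentSeries k := HahnSeries.single 1 (1 : k) with hT
  have hT0 : T ≠ 0 := by
    intro h; rw [h, zero_mul] at hTa; exact zero_ne_one hTa
  have ha0 : a ≠ 0 := by
    intro h; rw [h, mul_zero, mul_zero] at hTa; exact zero_ne_one hTa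
  have hord : (T * (a * a)).order = T.order + (a.order + a.order) := by
    rw [HahnSeries.order_mul hT0 (mul_ne_zero ha0 ha0), HahnSeries.order_mul ha0 ha0]
  have hTord : T.order = 1 := by
    rw [hT]; exact HahnSeries.order_single one_ne_zero
  have h1ord : (T * (a * a)).order = 0 := by
    rw [hTa]; exact HahnSeries.order_one
  omega

end Groth.Agent.S13107
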