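import Groth.Statements.S13108
import Mathlib.Tactic.Module
import Mathlib.LinearAlgebra.Determinant
import Mathlib.Tactic.Ring
import Mathlib.LinearAlgebra.Basis.Basic
import Mathlib.LinearAlgebra.Basis.SMul
import Mathlib.LinearAlgebra.Matrix.Determinant.Basic
import Mathlib.Tactic.LinearCombination
import Mathlib.Tactic.FinCases
-- import your own Groth.Agent.* helpers here

set_option autoImplicit false
universe u v w
open GrpSch

namespace Groth.Agent.S13108

theorem aux_bracket {k : Type u} [CommRing k] {M : Type v} [LieRing M] [LieAlgebra k M] (s : k)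
    (v0 v1 v2 : M) (h01 : ⁅v0, v1⁆ = v1) (h02 : ⁅v0, v2⁆ = s • v2) (h12 : ⁅v1, v2⁆ = 0)
    (p0 p1 p2 q0 q1 q2 : k) :
    ⁅p0 • v0 + p1 • v1 + p2 • v2, q0 • v0 + q1 • v1 + q2 • v2⁆ =
      (p0 * q1 - p1 * q0) • v1 + (s * (p0 * q2 - p2 * q0)) • v2 := by
  have h10 : ⁅v1, v0⁆ = -v1 := by rw [← lie_skew, h01]
  have h20 : ⁅v2, v0⁆ = -(s • v2) := by rw [← lie_skew, h02]
  have h21 : ⁅v2, v1⁆ = 0 := by rw [← lie_skew, h12, neg_zero]
  simp only [add_lie, lie_add, smul_lie, lie_smul, lie_self, h01, h02, h12, h10, h20, h21,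
    smul_zero, add_zero, zero_add, smul_neg]
  module

theorem aux_repr {k : Type u} [CommRing k] {M : Type v} [AddCommGroup M] [Module k M]
    (b : Module.Basis (Fin 3) k M) (u : M) :
    u = b.repr u 0 • b 0 + b.repr u 1 • b 1 + b.repr u 2 • b 2 := by
  conv_lhs => rw [← b.sum_repr u]
  rw [Fin.sum_univ_three]

theorem aux_coord {k : Type u} [CommRing k] {M : Type v} [AddCommGroup M] [Module k M]
    (b : Module.Basis (Fin 3) k M) (p0 p1 p2 q0 q1 q2 : k)
    (hpq : p0 • b 0 + p1 • b 1 + p2 • b 2 = q0 • b 0 + q1 • b 1 + q2 • b 2) :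
    p0 = q0 ∧ p1 = q1 ∧ p2 = q2 := by
  have h0 := congrArg (fun v => b.repr v 0) hpq
  have h1 := congrArg (fun v => b.repr v 1) hpq
  have h2 := congrArg (fun v => b.repr v 2) hpq
  simp at h0 h1 h2
  exact ⟨h0, h1, h2⟩

theorem aux_map_lie {k : Type u} [CommRing k] {L : Type v} [LieRing L] [LieAlgebra k L]
    {L' : Type w} [LieRing L'] [LieAlgebra k L'] (s : k) (b : Module.Basis (Fin 3) k L)
    (h01 : ⁅b 0, b 1⁆ = b 1) (h02 : ⁅b 0, b 2⁆ = s • b 2) (h12 : ⁅b 1, b 2⁆ = 0)
    (f : L ≃ₗ[k] L')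
    (g01 : ⁅f (b 0), f (b 1)⁆ = f (b 1)) (g02 : ⁅f (b 0), f (b 2)⁆ = s • f (b 2))
    (g12 : ⁅f (b 1), f (b 2)⁆ = 0) (x y : L) :
    f ⁅x, y⁆ = ⁅f x, f y⁆ := by
  obtain ⟨p0, p1, p2, hx⟩ : ∃ p0 p1 p2 : k, x = p0 • b 0 + p1 • b 1 + p2 • b 2 :=
    ⟨_, _, _, aux_repr b x⟩
  obtain ⟨q0, q1, q2, hy⟩ : ∃ q0 q1 q2 : k, y = q0 • b 0 + q1 • b 1 + q2 • b 2 :=
    ⟨_, _, _, aux_repr b y⟩
  subst hx hy
  rw [aux_bracket s (b 0) (b 1) (b 2) h01 h02 h12]
  simp only [map_add, map_smul]
  rw [aux_bracket s (f (b 0)) (f (b 1)) (f (b 2)) g01 g02 g12]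

/-- Let k be a field and t, t' ∈ k both non-zero; let L be a Lie algebra over k with a basis x = b 0, y
= b 1, z = b 2 and brackets [x,y] = y, [x,z] = t z, [y,z] = 0, and L' a Lie algebra over k with a
basis x' = b' 0, y' = b' 1, z' = b' 2 and brackets [x',y'] = y', [x',z'] = t' z', [y',z'] = 0. Then
L and L' are isomorphic Lie algebras over k if and only if t' = t or t' = t⁻¹. -/
theorem result (k : Type u) [Field k] (t t' : k) (ht : t ≠ 0) (ht' : t' ≠ 0)
    (L : Type v) [LieRing L] [LieAlgebra k L] (b : Module.Basis (Fin 3) k L)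
    (h01 : ⁅b 0, b 1⁆ = b 1) (h02 : ⁅b 0, b 2⁆ = t • b 2) (h12 : ⁅b 1, b 2⁆ = 0)
    (L' : Type w) [LieRing L'] [LieAlgebra k L'] (b' : Module.Basis (Fin 3) k L')
    (h01' : ⁅b' 0, b' 1⁆ = b' 1) (h02' : ⁅b' 0, b' 2⁆ = t' • b' 2) (h12' : ⁅b' 1, b' 2⁆ = 0) :
    Nonempty (L ≃ₗ⁅k⁆ L') ↔ (t' = t ∨ t' = t⁻¹) := by
  classical
  constructor
  · rintro ⟨φ⟩
    set a := b'.repr (φ (b 0)) 0 with ha
    set bb := b'.repr (φ (b 0)) 1 with hbb
    set c := b'.repr (φ (b 0)) 2 with hc
    set d := b'.repr (φ (b 1)) 0 with hd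
    set e := b'.repr (φ (b 1)) 1 with he
    set f := b'.repr (φ (b 1)) 2 with hf
    set g := b'.repr (φ (b 2)) 0 with hg
    set h := b'.repr (φ (b 2)) 1 with hh
    set i := b'.repr (φ (b 2)) 2 with hi
    have hX : φ (b 0) = a • b' 0 + bb • b' 1 + c • b' 2 := aux_repr b' _
    have hY : φ (b 1) = d • b' 0 + e • b' 1 + f • b' 2 := aux_repr b' _
    have hZ : φ (b 2) = g • b' 0 + h • b' 1 + i • b' 2 := aux_repr b' _
    have E1 : φ (b 1) = ⁅φ (b 0), φ (b 1)⁆ := by rw [← LieEquiv.map_lie, h01]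
    have E2 : t • φ (b 2) = ⁅φ (b 0), φ (b 2)⁆ := by rw [← LieEquiv.map_lie, h02, map_smul]
    rw [hX, hY, aux_bracket t' _ _ _ h01' h02' h12'] at E1
    rw [hX, hZ, aux_bracket t' _ _ _ h01' h02' h12'] at E2
    have E1' : d • b' 0 + e • b' 1 + f • b' 2 =
        (0 : k) • b' 0 + (a * e - bb * d) • b' 1 + (t' * (a * f - c * d)) • b' 2 :=
      E1.trans (by module)
    have E2' : (t * g) • b' 0 + (t * h) • b' 1 + (t * i) • b' 2 =
        (0 : k) • b' 0 + (a * h - bb * g) • b' 1 + (t' * (a * i - c * g)) • b' 2 :=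
      (by module : _ = t • (g • b' 0 + h • b' 1 + i • b' 2)).trans (E2.trans (by module))
    obtain ⟨e10, e11, e12⟩ := aux_coord b' _ _ _ _ _ _ E1'
    obtain ⟨e20, e21, e22⟩ := aux_coord b' _ _ _ _ _ _ E2'
    have hdet := LinearEquiv.isUnit_det φ.toLinearEquiv b b'
    rw [Matrix.det_fin_three] at hdet
    simp only [LinearMap.toMatrix_apply, LinearEquiv.coe_coe, LieEquiv.coe_toLinearEquiv] at hdet
    change IsUnit (a * e * i - a * h * f - d * bb * i + d * h * c + g * bb * f - g * e * c) at hdet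
    have hd0 : d = 0 := e10
    have hg0 : g = 0 := (mul_eq_zero.mp e20).resolve_left ht
    have c11 : (a - 1) * e = 0 := by linear_combination -e11 + bb * hd0
    have c12 : (t' * a - 1) * f = 0 := by linear_combination -e12 + t' * c * hd0
    have c21 : (a - t) * h = 0 := by linear_combination -e21 + bb * hg0
    have c22 : (t' * a - t) * i = 0 := by linear_combination -e22 + t' * c * hg0
    have hD : a * (e * i - h * f) ≠ 0 := by
      intro h0
      apply hdet.ne_zero
      linear_combination h0 + (h * c - bb * i) * hd0 + (bb * f - e * c) * hg0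
    have hcases : (e ≠ 0 ∧ i ≠ 0) ∨ (h ≠ 0 ∧ f ≠ 0) := by
      by_contra hcon
      rw [not_or, not_and_or, not_and_or, not_not, not_not, not_not, not_not] at hcon
      obtain ⟨h1, h2⟩ := hcon
      have hei : e * i = 0 := by
        rcases h1 with h1 | h1
        · rw [h1, zero_mul]
        · rw [h1, mul_zero]
      have hhf : h * f = 0 := by
        rcases h2 with h2 | h2
        · rw [h2, zero_mul]
        · rw [h2, mul_zero]
      apply hD
      rw [hei, hhf, sub_zero, mul_zero]
    rcases hcases with ⟨he', hi'⟩ | ⟨hh', hf'⟩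
    · left
      have ha1 : a = 1 := by
        have h3 := (mul_eq_zero.mp c11).resolve_right he'
        linear_combination h3
      have h4 := (mul_eq_zero.mp c22).resolve_right hi'
      linear_combination h4 - t' * ha1
    · right
      have hat : a = t := by
        have h3 := (mul_eq_zero.mp c21).resolve_right hh'
        linear_combination h3
      have h4 := (mul_eq_zero.mp c12).resolve_right hf'
      apply eq_inv_of_mul_eq_one_left
      linear_combination h4 - t' * hat
  · rintro (hc | hc)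
    · rw [hc] at h02'
      let e := b.equiv b' (Equiv.refl _)
      have he : ∀ j, e (b j) = b' j := fun j => by simp [e]
      have key := aux_map_lie t b h01 h02 h12 e
        (by rw [he 0, he 1, h01']) (by rw [he 0, he 2, h02']) (by rw [he 1, he 2, h12'])
      exact ⟨{ toLinearMap := e.toLinearMap, map_lie' := fun {x y} => key x y, invFun := e.symm,
               left_inv := e.symm_apply_apply, right_inv := e.apply_symm_apply }⟩
    · rw [hc] at h02'
      have hw : ∀ j : Fin 3, IsUnit ((![t, 1, 1] : Fin 3 → k) j) := by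
        intro j
        fin_cases j <;> simp [ht]
      let e := b.equiv (b'.isUnitSMul hw) (Equiv.swap 1 2)
      have he0 : e (b 0) = t • b' 0 := by
        simp only [e, Module.Basis.equiv_apply, Module.Basis.isUnitSMul_apply]
        have h3 : (Equiv.swap (1 : Fin 3) 2) 0 = 0 := by decide
        rw [h3]
        simp
      have he1 : e (b 1) = b' 2 := by
        simp only [e, Module.Basis.equiv_apply, Module.Basis.isUnitSMul_apply,
          Equiv.swap_apply_left]
        simp
      have he2 : e (b 2) = b' 1 := by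
        simp only [e, Module.Basis.equiv_apply, Module.Basis.isUnitSMul_apply,
          Equiv.swap_apply_right]
        simp
      have key := aux_map_lie t b h01 h02 h12 e
        (by rw [he0, he1, smul_lie, h02', smul_smul, mul_inv_cancel₀ ht, one_smul])
        (by rw [he0, he2, smul_lie, h01'])
        (by rw [he1, he2, ← lie_skew, h12', neg_zero])
      exact ⟨{ toLinearMap := e.toLinearMap, map_lie' := fun {x y} => key x y, invFun := e.symm,
               left_inv := e.symm_apply_apply, right_inv := e.apply_symm_apply }⟩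

end Groth.Agent.S13108
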