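import Groth.Statements.S1311
import Mathlib
import Groth.Agent.H78.NilUnram

set_option autoImplicit false
set_option maxHeartbeats 400000
universe u
open FlatMor

namespace Groth.Agent.S1311

open AlgebraicGeometry CategoryTheory Limits in
/-- Let S ⟶ S' be a finite order thickening and let X be the base change of a scheme X' over S' to S (so
X ⟶ X' is again a thickening). Then X ⟶ S is a monomorphism if and only if X' ⟶ S' is. -/
theorem result {X X' S S' : Scheme.{u}} (iX : X ⟶ X') (iS : S ⟶ S') (f : X ⟶ S) (f' : X' ⟶ S')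
    (hS : MoreMor.IsFiniteOrderThickening iS) (hc : IsPullback iX f f' iS) :
    Mono f ↔ Mono f' := by
  haveI : IsClosedImmersion iS := hS.1.1
  obtain ⟨m, hm⟩ := hS.2
  constructor
  · intro hmono
    haveI hf : FormallyUnramified f := inferInstance
    haveI hf' : FormallyUnramified f' :=
      Groth.Agent.H78.NilUnram.unram_of_nil hc hS.1.2.surj
        (fun W => Groth.Agent.H93.NilPull.nil_of_pow_eq_bot iS m hm W)
    refine ⟨fun {T} g₁ g₂ h => ?_⟩
    have hi : IsNilpotent (pullback.fst (g₁ ≫ f') iS).ker := by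
      refine ⟨m, ?_⟩
      rw [Groth.Agent.H93.NilPull.ker_eq_comap_of_isPullback
        (IsPullback.of_hasPullback (g₁ ≫ f') iS), ← Groth.Agent.H93.IdealComap.comap_pow, hm]
      exact Scheme.IdealSheafData.comap_bot _
    refine FormallyUnramified.hom_ext (pullback.fst (g₁ ≫ f') iS) hi f' ?_ h
    have w₁ : (pullback.fst (g₁ ≫ f') iS ≫ g₁) ≫ f' = pullback.snd (g₁ ≫ f') iS ≫ iS := by
      rw [Category.assoc]; exact pullback.condition
    have w₂ : (pullback.fst (g₁ ≫ f') iS ≫ g₂) ≫ f' = pullback.snd (g₁ ≫ f') iS ≫ iS := by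
      rw [Category.assoc, ← h]; exact pullback.condition
    have e : hc.lift _ _ w₁ = hc.lift _ _ w₂ :=
      (cancel_mono f).mp (by rw [hc.lift_snd, hc.lift_snd])
    calc pullback.fst (g₁ ≫ f') iS ≫ g₁ = hc.lift _ _ w₁ ≫ iX := (hc.lift_fst _ _ w₁).symm
      _ = hc.lift _ _ w₂ ≫ iX := by rw [e]
      _ = pullback.fst (g₁ ≫ f') iS ≫ g₂ := hc.lift_fst _ _ w₂
  · intro hmono
    refine ⟨fun {T} g₁ g₂ h => ?_⟩
    apply hc.hom_ext
    · apply (cancel_mono f').mp
      rw [Category.assoc, Category.assoc, hc.w, ← Category.assoc, ← Category.assoc, h]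
    · exact h

end Groth.Agent.S1311
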