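import Groth.Statements.S13114
import Mathlib.LinearAlgebra.Eigenspace.Zero
import Mathlib.RingTheory.Artinian.Ring
import Mathlib.RingTheory.Artinian.Algebra

set_option autoImplicit false
universe u
open HilbChow

namespace Groth.Agent.S13114

/-- Let k be an algebraically closed field, A a commutative local k-algebra of finite dimension n over k
and u a unit of A. Then the determinant of multiplication by u on the k-vector space A, mapped to
the residue field of A, equals the n-th power of the residue class of u. -/
theorem result
    (k A : Type u) [Field k] [IsAlgClosed k] [CommRing A] [Algebra k A] [IsLocalRing A]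
    [Module.Finite k A] (u : Aˣ) :
    algebraMap k (IsLocalRing.ResidueField A) (Algebra.norm k (u : A)) =
      IsLocalRing.residue A (u : A) ^ Module.finrank k A := by
  classical
  haveI : IsArtinianRing A := IsArtinianRing.of_finite k A
  haveI : Algebra.IsIntegral k (IsLocalRing.ResidueField A) := inferInstance
  obtain ⟨c, hc⟩ := (IsAlgClosed.algebraMap_bijective_of_isIntegral
    (k := k) (K := IsLocalRing.ResidueField A)).2 (IsLocalRing.residue A (u : A))
  -- n = u - c is in the maximal ideal, hence nilpotent
  have hn : (u : A) - algebraMap k A c ∈ IsLocalRing.maximalIdeal A := by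
    rw [← IsLocalRing.residue_eq_zero_iff, map_sub, ← hc]
    rw [IsScalarTower.algebraMap_apply k A (IsLocalRing.ResidueField A)]
    exact sub_self _
  have hnil : IsNilpotent ((u : A) - algebraMap k A c) := by
    obtain ⟨m, hm⟩ := IsArtinianRing.isNilpotent_jacobson_bot (R := A)
    rw [IsLocalRing.jacobson_eq_maximalIdeal _ bot_ne_top] at hm
    refine ⟨m, ?_⟩
    have h1 := Ideal.pow_mem_pow hn m
    rw [hm] at h1
    exact h1
  have hnil' : IsNilpotent (-(Algebra.lmul k A ((u : A) - algebraMap k A c))) :=
    (hnil.map (Algebra.lmul k A)).neg
  have hchar := hnil'.charpoly_eq_X_pow_finrank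
  have hdet : Algebra.norm k (u : A) = c ^ Module.finrank k A := by
    rw [Algebra.norm_apply]
    have h2 : Algebra.lmul k A (u : A) = algebraMap k (Module.End k A) c -
        (-(Algebra.lmul k A ((u : A) - algebraMap k A c))) := by
      rw [sub_neg_eq_add, map_sub, AlgHom.commutes]; abel
    rw [h2, ← LinearMap.eval_charpoly, hchar, Polynomial.eval_pow, Polynomial.eval_X]
  rw [hdet, map_pow, hc]

end Groth.Agent.S13114
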