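import Groth.Statements.S13116
import Groth.Agent.S0235
import Groth.Agent.H22.PullGen

set_option autoImplicit false
universe u
open HilbChow

namespace Groth.Agent.S13116

open CategoryTheory CategoryTheory.Limits AlgebraicGeometry in
/-- a module whose restriction to the (whole-space) open `U = ⊤` is trivial is trivial. -/
theorem trivial_of_restrict_top {Z : Scheme.{u}} (M : Z.Modules) (U : Z.Opens) (hU : U = ⊤)
    (e : M.restrict U.ι ≅ Coh.structureModule (↑U)) : Nonempty (M ≅ Coh.structureModule Z) := by
  subst hU
  let j := (⊤ : Z.Opens).ι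
  let j' : Z ⟶ ↑(⊤ : Z.Opens) := Z.topIso.inv
  have hj : j' ≫ j = 𝟙 Z := Z.toIso_inv_ι
  have e1 : (Scheme.Modules.pullback j).obj M ≅ Coh.structureModule (↑(⊤ : Z.Opens)) :=
    ((Scheme.Modules.restrictFunctorIsoPullback j).app M).symm ≪≫ e
  have e2 : (Scheme.Modules.pullback j').obj ((Scheme.Modules.pullback j).obj M) ≅
      Coh.structureModule Z :=
    (Scheme.Modules.pullback j').mapIso e1 ≪≫ Groth.Agent.H22.PullGen.pullbackUnitIso j'
  have e3 : (Scheme.Modules.pullback j').obj ((Scheme.Modules.pullback j).obj M) ≅ M :=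
    (Scheme.Modules.pullbackComp j' j).app M ≪≫
      (Scheme.Modules.pullbackCongr hj).app M ≪≫
      (Scheme.Modules.pullbackId Z).app M
  exact ⟨e3.symm ≪≫ e2⟩

open CategoryTheory CategoryTheory.Limits AlgebraicGeometry in
/-- Let k be a field, X an integral scheme smooth over k that is a closed subscheme of a projective
space over k, R a discrete valuation ring containing k, Z a subscheme of X ×_k Spec R which is
finite over Spec R, and L an invertible module on X. Then the pullback of L to Z along Z → X ×_k
Spec R → X is isomorphic to the structure sheaf of Z (an isomorphism exists; none is singled out). -/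
theorem result
    {k : Type u} [Field k] {X : Scheme.{u}} (sX : X ⟶ Spec (CommRingCat.of k))
    [IsIntegral X] [Smooth sX] (hproj : RelProj.IsHProjective sX)
    (R : Type u) [CommRing R] [IsDomain R] [IsDiscreteValuationRing R] [Algebra k R]
    {Z : Scheme.{u}}
    (i : Z ⟶ pullback sX (Spec.map (CommRingCat.ofHom (algebraMap k R)))) [IsImmersion i]
    [IsFinite (i ≫ pullback.snd sX (Spec.map (CommRingCat.ofHom (algebraMap k R))))]
    (L : X.Modules) (hL : PicF.IsInvertible L) :
    Nonempty ((Scheme.Modules.pullback
        (i ≫ pullback.fst sX (Spec.map (CommRingCat.ofHom (algebraMap k R))))).obj L ≅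
      Coh.structureModule Z) := by
  let π := i ≫ pullback.snd sX (Spec.map (CommRingCat.ofHom (algebraMap k R)))
  have hL' : PicF.IsInvertible ((Scheme.Modules.pullback
      (i ≫ pullback.fst sX (Spec.map (CommRingCat.ofHom (algebraMap k R))))).obj L) :=
    Groth.Agent.H22.PullGen.isInvertible_pullback _ hL
  obtain ⟨V, hyV, ⟨e⟩⟩ := Groth.Agent.S0235.result π _ hL' (IsLocalRing.closedPoint R)
  have hV : V = ⊤ := (IsLocalRing.closedPoint_mem_iff (R := R) V).1 hyV
  refine trivial_of_restrict_top _ (π ⁻¹ᵁ V) ?_ e
  rw [hV]
  rfl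

end Groth.Agent.S13116
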