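import Groth.Statements.S13117
import Mathlib

set_option autoImplicit false
universe u
open HilbChow

namespace Groth.Agent.S13117


theorem norm_local (k A : Type*) [Field k] [CommRing A] [Algebra k A] [IsLocalRing A]
    [Module.Finite k A] (φ : A →ₐ[k] k) (f : A) :
    Algebra.norm k f = φ f ^ Module.finrank k A := by
  classical
  haveI : IsArtinianRing A := IsArtinianRing.of_finite k A
  have hsurj : Function.Surjective φ := fun c => ⟨algebraMap k A c, by simp⟩
  have hmax : (RingHom.ker φ).IsMaximal := RingHom.ker_isMaximal_of_surjective φ hsurj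
  have hker : RingHom.ker φ = IsLocalRing.maximalIdeal A := IsLocalRing.eq_maximalIdeal hmax
  have hn : f - algebraMap k A (φ f) ∈ IsLocalRing.maximalIdeal A := by
    rw [← hker, RingHom.mem_ker]
    simp
  have hnil : IsNilpotent (f - algebraMap k A (φ f)) := by
    obtain ⟨m, hm⟩ := IsArtinianRing.isNilpotent_jacobson_bot (R := A)
    rw [IsLocalRing.jacobson_eq_maximalIdeal _ bot_ne_top] at hm
    refine ⟨m, ?_⟩
    have h1 := Ideal.pow_mem_pow hn m
    rw [hm] at h1
    exact h1
  have hnil' : IsNilpotent (-(Algebra.lmul k A (f - algebraMap k A (φ f)))) :=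
    (hnil.map (Algebra.lmul k A)).neg
  have hchar := hnil'.charpoly_eq_X_pow_finrank
  rw [Algebra.norm_apply]
  have h2 : Algebra.lmul k A f = algebraMap k (Module.End k A) (φ f) -
      (-(Algebra.lmul k A (f - algebraMap k A (φ f)))) := by
    rw [sub_neg_eq_add, map_sub, AlgHom.commutes]; abel
  rw [h2, ← LinearMap.eval_charpoly, hchar, Polynomial.eval_pow, Polynomial.eval_X]

theorem norm_pi {k : Type*} [Field k] {ι : Type*} [Fintype ι] (B : ι → Type*)
    [∀ i, CommRing (B i)] [∀ i, Algebra k (B i)] [∀ i, Module.Finite k (B i)] (x : ∀ i, B i) :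
    Algebra.norm k x = ∏ i, Algebra.norm k (x i) := by
  classical
  letI : LinearOrder ι := LinearOrder.lift' (Fintype.equivFin ι) (Fintype.equivFin ι).injective
  let b : ∀ i, Module.Basis (Module.Free.ChooseBasisIndex k (B i)) k (B i) :=
    fun i => Module.Free.chooseBasis k (B i)
  have h1 : ∀ (i : ι) (a : Module.Free.ChooseBasisIndex k (B i)) (j : ι)
      (c : Module.Free.ChooseBasisIndex k (B j)), i ≠ j →
      Algebra.leftMulMatrix (Pi.basis b) x ⟨i, a⟩ ⟨j, c⟩ = 0 := by
    intro i a j c hij
    rw [Algebra.leftMulMatrix_eq_repr_mul, Pi.basis_repr, Pi.basis_apply]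
    simp [Pi.single_eq_of_ne hij]
  have h2 : ∀ (i : ι) (a c : Module.Free.ChooseBasisIndex k (B i)),
      Algebra.leftMulMatrix (Pi.basis b) x ⟨i, a⟩ ⟨i, c⟩ =
        Algebra.leftMulMatrix (b i) (x i) a c := by
    intro i a c
    rw [Algebra.leftMulMatrix_eq_repr_mul, Pi.basis_repr, Pi.basis_apply,
      Algebra.leftMulMatrix_eq_repr_mul]
    simp
  rw [Algebra.norm_eq_matrix_det (Pi.basis b) x]
  have hBT : Matrix.BlockTriangular (Algebra.leftMulMatrix (Pi.basis b) x) Sigma.fst := by
    rintro ⟨i, a⟩ ⟨j, c⟩ h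
    exact h1 i a j c (ne_of_gt h)
  rw [hBT.det_fintype]
  refine Finset.prod_congr rfl fun i _ => ?_
  have e1 : (Algebra.leftMulMatrix (Pi.basis b) x).toSquareBlock Sigma.fst i =
      (Algebra.leftMulMatrix (b i) (x i)).submatrix (Equiv.sigmaSubtype i)
        (Equiv.sigmaSubtype i) := by
    ext ⟨⟨i', a⟩, h⟩ ⟨⟨j', c⟩, h'⟩
    dsimp only at h h'
    subst h
    subst h'
    simp [Matrix.toSquareBlock_def, h2]
  rw [e1, Matrix.det_submatrix_equiv_self, Algebra.norm_eq_matrix_det (b i)]

theorem main (k A : Type u) [Field k] [IsAlgClosed k] [CommRing A] [Algebra k A]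
    [Module.Finite k A] (f : A) :
    Algebra.norm k f =
      ∏ᶠ φ : A →ₐ[k] k, φ f ^ Module.finrank k (Localization.AtPrime (Ideal.comap φ ⊥)) := by
  classical
  haveI : IsArtinianRing A := IsArtinianRing.of_finite k A
  haveI : Fintype (MaximalSpectrum A) := Fintype.ofFinite _
  have hfinB : ∀ m : MaximalSpectrum A, Module.Finite k (Localization.AtPrime m.asIdeal) :=
    fun m => Module.Finite.of_surjective
      (IsScalarTower.toAlgHom k A (Localization.AtPrime m.asIdeal)).toLinearMap
      (IsArtinianRing.localization_surjective m.asIdeal.primeCompl _)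
  have step1 : Algebra.norm k f = ∏ m : MaximalSpectrum A,
      Algebra.norm k (algebraMap A (Localization.AtPrime m.asIdeal) f) := by
    let e : A ≃ₐ[k] (∀ m : MaximalSpectrum A, Localization.AtPrime m.asIdeal) :=
      (MaximalSpectrum.toPiLocalizationEquiv A).restrictScalars k
    calc Algebra.norm k f = Algebra.norm k (e f) := (Algebra.norm_eq_of_algEquiv e f).symm
      _ = ∏ m, Algebra.norm k ((e f) m) :=
          norm_pi (fun m : MaximalSpectrum A => Localization.AtPrime m.asIdeal) (e f)
      _ = _ := rfl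
  have hmaxφ : ∀ φ : A →ₐ[k] k, (Ideal.comap φ (⊥ : Ideal k)).IsMaximal := by
    intro φ
    have hsurj : Function.Surjective φ := fun c => ⟨algebraMap k A c, by simp⟩
    exact Ideal.comap_isMaximal_of_surjective φ hsurj
  let Φ : (A →ₐ[k] k) → MaximalSpectrum A := fun φ => ⟨Ideal.comap φ ⊥, hmaxφ φ⟩
  have hΦinj : Function.Injective Φ := by
    intro φ φ' h
    have hker : Ideal.comap φ (⊥ : Ideal k) = Ideal.comap φ' ⊥ :=
      congrArg MaximalSpectrum.asIdeal h
    ext a
    have h1 : a - algebraMap k A (φ a) ∈ Ideal.comap φ (⊥ : Ideal k) := by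
      rw [Ideal.mem_comap, Ideal.mem_bot]; simp
    rw [hker, Ideal.mem_comap, Ideal.mem_bot, map_sub, AlgHom.commutes, sub_eq_zero] at h1
    simpa using h1.symm
  have hΦsurj : Function.Surjective Φ := by
    intro m
    haveI := m.isMaximal
    letI : Field (A ⧸ m.asIdeal) := Ideal.Quotient.field _
    haveI : Algebra.IsIntegral k (A ⧸ m.asIdeal) := Algebra.IsIntegral.of_finite _ _
    have hbij : Function.Bijective (algebraMap k (A ⧸ m.asIdeal)) :=
      IsAlgClosed.algebraMap_bijective_of_isIntegral
    let ε : k ≃ₐ[k] (A ⧸ m.asIdeal) := AlgEquiv.ofBijective (Algebra.ofId k _) hbij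
    refine ⟨(ε.symm : (A ⧸ m.asIdeal) →ₐ[k] k).comp (Ideal.Quotient.mkₐ k m.asIdeal), ?_⟩
    apply MaximalSpectrum.ext
    ext a
    show a ∈ Ideal.comap ((ε.symm : (A ⧸ m.asIdeal) →ₐ[k] k).comp
      (Ideal.Quotient.mkₐ k m.asIdeal)) ⊥ ↔ a ∈ m.asIdeal
    rw [Ideal.mem_comap, Ideal.mem_bot]
    show ε.symm (Ideal.Quotient.mk m.asIdeal a) = 0 ↔ a ∈ m.asIdeal
    rw [map_eq_zero_iff _ ε.symm.injective, Ideal.Quotient.eq_zero_iff_mem]
  have hpt : ∀ φ : A →ₐ[k] k,
      φ f ^ Module.finrank k (Localization.AtPrime (Ideal.comap φ ⊥)) =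
      Algebra.norm k (algebraMap A (Localization.AtPrime (Φ φ).asIdeal) f) := by
    intro φ
    haveI := hfinB (Φ φ)
    have hunit : ∀ y : (Φ φ).asIdeal.primeCompl, IsUnit (φ y) := by
      intro y
      refine isUnit_iff_ne_zero.mpr fun h0 => y.2 ?_
      show (y : A) ∈ Ideal.comap φ ⊥
      rw [Ideal.mem_comap, Ideal.mem_bot]
      exact h0
    let ψ : Localization.AtPrime (Φ φ).asIdeal →ₐ[k] k :=
      IsLocalization.liftAlgHom (M := (Φ φ).asIdeal.primeCompl) hunit
    have hψ : ψ (algebraMap A _ f) = φ f := IsLocalization.lift_eq _ f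
    have h3 := norm_local k (Localization.AtPrime (Φ φ).asIdeal) ψ (algebraMap A _ f)
    rw [hψ] at h3
    exact h3.symm
  have h4 := finprod_eq_of_bijective
    (f := fun φ : A →ₐ[k] k =>
      φ f ^ Module.finrank k (Localization.AtPrime (Ideal.comap φ ⊥)))
    (g := fun m : MaximalSpectrum A =>
      Algebra.norm k (algebraMap A (Localization.AtPrime m.asIdeal) f))
    Φ ⟨hΦinj, hΦsurj⟩ hpt
  rw [step1, ← finprod_eq_prod_of_fintype]
  exact h4.symm


/-- Let k be an algebraically closed field, A a finite-dimensional commutative k-algebra (the coordinate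
ring of a zero-dimensional subscheme Z of length dim_k A) and f ∈ A. Then the determinant of
multiplication by f on A is the product over the points x of Z — the k-algebra homomorphisms A → k —
of the value f(x) raised to the length of the local ring of Z at x, that length being the
k-dimension of the localisation of A at the corresponding maximal ideal. This is the formula by
which the Hilbert-to-Chow morphism for zero-cycles sends Z to its fundamental cycle Σ ℓ(O_{Z,x})[x]. -/
theorem result
    (k A : Type u) [Field k] [IsAlgClosed k] [CommRing A] [Algebra k A] [Module.Finite k A] (f : A) :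
    Algebra.norm k f =
      ∏ᶠ φ : A →ₐ[k] k, φ f ^ Module.finrank k (Localization.AtPrime (Ideal.comap φ ⊥)) := by
  exact main k A f

end Groth.Agent.S13117
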