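import Groth.Statements.S13120
import Mathlib
import Groth.Agent.H65.Char2Parity

set_option autoImplicit false
universe u
open KumFam

namespace Groth.Agent.S13120

open MvPolynomial in
/-- Let R be a commutative ring of characteristic 2 and l0, l2, l4, s0, s2, s4, τ ∈ R with τ a unit.
Inside R[u, v] (u = X 0, v = X 1) let A = R[u², u³, v², v³] be the coordinate ring of the product of
two cuspidal curves, and let D be the R-derivation of R[u, v] with D(u) = v²(l0 u⁴ + τ u³ + l2 u² +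
l4) and D(v) = u²(s0 v⁴ + τ v³ + s2 v² + s4); D is u²v² times the rational vector field (l0 u² + τ u
+ l2 + l4 u⁻²) ∂_u + (s0 v² + τ v + s2 + s4 v⁻²) ∂_v, which maps A into itself, and u²v² is a
non-zero-divisor, so the kernel of that vector field on A is the set of a ∈ A with D(a) = 0. Then
for a ∈ A: D(a) = 0 if and only if a ∈ R[u², v², g], where g = (s0 v⁴ + s2 v² + s4) u³ + (l0 u⁴ + l2
u² + l4) v³ + τ u³ v³. (The published statement identifies this kernel with the ring of invariants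
of the corresponding action of the group scheme of square roots of unity; this row states the kernel
computation that is actually carried out.) -/
theorem result (R : Type u) [CommRing R] [CharP R 2]
    (l0 l2 l4 s0 s2 s4 τ : R) (hτ : IsUnit τ) (a : MvPolynomial (Fin 2) R)
    (ha : a ∈ Algebra.adjoin R
      ({X 0 ^ 2, X 0 ^ 3, X 1 ^ 2, X 1 ^ 3} : Set (MvPolynomial (Fin 2) R))) :
    MvPolynomial.mkDerivation R
        (![X 1 ^ 2 * (C l0 * X 0 ^ 4 + C τ * X 0 ^ 3 + C l2 * X 0 ^ 2 + C l4),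
          X 0 ^ 2 * (C s0 * X 1 ^ 4 + C τ * X 1 ^ 3 + C s2 * X 1 ^ 2 + C s4)] :
          Fin 2 → MvPolynomial (Fin 2) R) a = 0 ↔
      a ∈ Algebra.adjoin R
        ({X 0 ^ 2, X 1 ^ 2,
          (C s0 * X 1 ^ 4 + C s2 * X 1 ^ 2 + C s4) * X 0 ^ 3 +
            (C l0 * X 0 ^ 4 + C l2 * X 0 ^ 2 + C l4) * X 1 ^ 3 +
            C τ * X 0 ^ 3 * X 1 ^ 3} : Set (MvPolynomial (Fin 2) R)) := by
  classical
  have h2 : (2 : R) = 0 := by exact_mod_cast CharP.cast_eq_zero R 2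
  have h2' := Groth.Agent.H65.two_eq_zero_mvPoly h2 (Fin 2)
  obtain ⟨τi, hτi⟩ := hτ.exists_right_inv
  have ht : (C τ : MvPolynomial (Fin 2) R) * C τi = 1 := by rw [← map_mul, hτi, map_one]
  set g : MvPolynomial (Fin 2) R := (C s0 * X 1 ^ 4 + C s2 * X 1 ^ 2 + C s4) * X 0 ^ 3 +
      (C l0 * X 0 ^ 4 + C l2 * X 0 ^ 2 + C l4) * X 1 ^ 3 + C τ * X 0 ^ 3 * X 1 ^ 3 with hg
  set D := MvPolynomial.mkDerivation R
      (![X 1 ^ 2 * (C l0 * X 0 ^ 4 + C τ * X 0 ^ 3 + C l2 * X 0 ^ 2 + C l4),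
         X 0 ^ 2 * (C s0 * X 1 ^ 4 + C τ * X 1 ^ 3 + C s2 * X 1 ^ 2 + C s4)] :
         Fin 2 → MvPolynomial (Fin 2) R) with hD
  have hD0 : D (X 0) = X 1 ^ 2 * (C l0 * X 0 ^ 4 + C τ * X 0 ^ 3 + C l2 * X 0 ^ 2 + C l4) := by
    rw [hD, mkDerivation_X]; rfl
  have hD1 : D (X 1) = X 0 ^ 2 * (C s0 * X 1 ^ 4 + C τ * X 1 ^ 3 + C s2 * X 1 ^ 2 + C s4) := by
    rw [hD, mkDerivation_X]; rfl
  obtain ⟨S', hS'⟩ : ∃ S' : MvPolynomial (Fin 2) R, S' = C s0 * X 1 ^ 2 + C s2 * X 1 + C s4 :=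
    ⟨_, rfl⟩
  obtain ⟨L', hL'⟩ : ∃ L' : MvPolynomial (Fin 2) R, L' = C l0 * X 0 ^ 2 + C l2 * X 0 + C l4 :=
    ⟨_, rfl⟩
  have hιS : expand 2 S' = C s0 * X 1 ^ 4 + C s2 * X 1 ^ 2 + C s4 := by
    rw [hS']; simp only [map_add, map_mul, map_pow, expand_X, expand_C]; ring
  have hιL : expand 2 L' = C l0 * X 0 ^ 4 + C l2 * X 0 ^ 2 + C l4 := by
    rw [hL']; simp only [map_add, map_mul, map_pow, expand_X, expand_C]; ring
  constructor
  · intro hDa
    obtain ⟨P₀, Q₁, Q₂, Q₃, rfl⟩ := Groth.Agent.H65.cusp_decomp ha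
    have hform : expand 2 P₀ + X 0 ^ 3 * expand 2 Q₁ + X 1 ^ 3 * expand 2 Q₂ +
        X 0 ^ 3 * X 1 ^ 3 * expand 2 Q₃ =
        expand 2 P₀ + X 0 * expand 2 (X 0 * Q₁) + X 1 * expand 2 (X 1 * Q₂) +
          X 0 * X 1 * expand 2 (X 0 * X 1 * Q₃) := by
      simp only [map_mul, expand_X]; ring
    rw [hform, Groth.Agent.H65.deriv_parity h2, hD0, hD1] at hDa
    have H : expand 2 (X 0 * X 1 * (Q₁ * L' + Q₂ * S')) +
        X 0 * expand 2 (X 0 * X 1 * X 0 * (C τ * Q₁ + Q₃ * S')) +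
        X 1 * expand 2 (X 0 * X 1 * X 1 * (C τ * Q₂ + Q₃ * L')) + X 0 * X 1 * expand 2 0 = 0 := by
      refine Eq.trans ?_ hDa
      simp only [map_mul, map_add, expand_X, expand_C, map_zero, hιS, hιL]
      linear_combination (-(C τ * X 0 ^ 5 * X 1 ^ 5 * expand 2 Q₃)) * h2'
    obtain ⟨-, hB, hC', -⟩ := Groth.Agent.H65.parity_indep h2 H
    have e1 : C τ * Q₁ + Q₃ * S' = 0 :=
      Groth.Agent.H65.X_mul_eq_zero 0 (Groth.Agent.H65.X_mul_eq_zero 1
        (Groth.Agent.H65.X_mul_eq_zero 0 (by linear_combination hB)))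
    have e2 : C τ * Q₂ + Q₃ * L' = 0 :=
      Groth.Agent.H65.X_mul_eq_zero 1 (Groth.Agent.H65.X_mul_eq_zero 1
        (Groth.Agent.H65.X_mul_eq_zero 0 (by linear_combination hC')))
    have e1' : C τ * expand 2 Q₁ + expand 2 Q₃ * (C s0 * X 1 ^ 4 + C s2 * X 1 ^ 2 + C s4) = 0 := by
      have := congrArg (expand 2) e1
      simpa only [map_add, map_mul, expand_C, map_zero, hιS] using this
    have e2' : C τ * expand 2 Q₂ + expand 2 Q₃ * (C l0 * X 0 ^ 4 + C l2 * X 0 ^ 2 + C l4) = 0 := by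
      have := congrArg (expand 2) e2
      simpa only [map_add, map_mul, expand_C, map_zero, hιL] using this
    have hfin : expand 2 P₀ + X 0 ^ 3 * expand 2 Q₁ + X 1 ^ 3 * expand 2 Q₂ +
        X 0 ^ 3 * X 1 ^ 3 * expand 2 Q₃ = expand 2 P₀ + expand 2 (C τi * Q₃) * g := by
      rw [hg, map_mul, expand_C]
      linear_combination X 0 ^ 3 * C τi * e1' + X 1 ^ 3 * C τi * e2' -
        (X 0 ^ 3 * expand 2 Q₁ + X 1 ^ 3 * expand 2 Q₂ + X 0 ^ 3 * X 1 ^ 3 * expand 2 Q₃) * ht -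
        (C τi * (C s0 * X 1 ^ 4 + C s2 * X 1 ^ 2 + C s4) * expand 2 Q₃ * X 0 ^ 3 +
          C τi * (C l0 * X 0 ^ 4 + C l2 * X 0 ^ 2 + C l4) * expand 2 Q₃ * X 1 ^ 3) * h2'
    rw [hfin]
    have hιmem : ∀ q : MvPolynomial (Fin 2) R, expand 2 q ∈ Algebra.adjoin R
        ({X 0 ^ 2, X 1 ^ 2, g} : Set (MvPolynomial (Fin 2) R)) :=
      Groth.Agent.H65.expand_two_mem_adjoin _ (by simp) (by simp)
    exact Subalgebra.add_mem _ (hιmem P₀)
      (Subalgebra.mul_mem _ (hιmem _) (Algebra.subset_adjoin (by simp)))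
  · intro hmem
    clear ha
    have hX0 : D (X 0 ^ 2) = 0 := by
      have := Groth.Agent.H65.deriv_expand_two h2 D (X 0); rwa [expand_X] at this
    have hX1 : D (X 1 ^ 2) = 0 := by
      have := Groth.Agent.H65.deriv_expand_two h2 D (X 1); rwa [expand_X] at this
    have hgform : g = expand 2 0 + X 0 * expand 2 (X 0 * S') + X 1 * expand 2 (X 1 * L') +
        X 0 * X 1 * expand 2 (C τ * X 0 * X 1) := by
      rw [hg]; simp only [map_mul, map_zero, expand_X, expand_C, hιS, hιL]; ring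
    have hDg : D g = 0 := by
      rw [hgform, Groth.Agent.H65.deriv_parity h2, hD0, hD1]
      simp only [map_mul, expand_X, expand_C, hιS, hιL]
      linear_combination (X 0 ^ 2 * X 1 ^ 2 * (C s0 * X 1 ^ 4 + C s2 * X 1 ^ 2 + C s4) *
        (C l0 * X 0 ^ 4 + C l2 * X 0 ^ 2 + C l4) +
        C τ * X 0 ^ 5 * X 1 ^ 2 * (C s0 * X 1 ^ 4 + C s2 * X 1 ^ 2 + C s4) +
        C τ * X 0 ^ 2 * X 1 ^ 5 * (C l0 * X 0 ^ 4 + C l2 * X 0 ^ 2 + C l4) +
        C τ ^ 2 * X 0 ^ 5 * X 1 ^ 5) * h2'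
    induction hmem using Algebra.adjoin_induction with
    | mem x hx =>
      simp only [Set.mem_insert_iff, Set.mem_singleton_iff] at hx
      rcases hx with hx | hx | hx
      · rw [hx]; exact hX0
      · rw [hx]; exact hX1
      · rw [hx]; exact hDg
    | algebraMap r => exact D.map_algebraMap r
    | add x y _ _ hx hy => rw [map_add, hx, hy, add_zero]
    | mul x y _ _ hx hy => rw [Derivation.leibniz, hx, hy, smul_zero, smul_zero, add_zero]

end Groth.Agent.S13120
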