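import Groth.Statements.S13121
import Mathlib
import Groth.Agent.H65.Char2Parity

set_option autoImplicit false
universe u
open KumFam

namespace Groth.Agent.S13121

open MvPolynomial in
/-- Let R be a commutative ring of characteristic 2 and l0, l2, l4, s0, s2, s4, τ ∈ R with τ a unit. In
R[u, v] (u = X 0, v = X 1) put g = (s0 v⁴ + s2 v² + s4) u³ + (l0 u⁴ + l2 u² + l4) v³ + τ u³ v³. Then
the kernel of the R-algebra homomorphism R[a, b, c] → R[u, v] (a = X 0, b = X 1, c = X 2) with a ↦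
u², b ↦ v², c ↦ g is the ideal generated by c² + s0² a³ b⁴ + s2² a³ b² + s4² a³ + l0² a⁴ b³ + l2² a²
b³ + l4² b³ + τ² a³ b³; its image is the subalgebra R[u², v², g], which is therefore presented by
this one equation. -/
theorem result (R : Type u) [CommRing R] [CharP R 2]
    (l0 l2 l4 s0 s2 s4 τ : R) (hτ : IsUnit τ) :
    RingHom.ker (MvPolynomial.aeval (R := R) (S₁ := MvPolynomial (Fin 2) R)
        ![X 0 ^ 2, X 1 ^ 2,
          (C s0 * X 1 ^ 4 + C s2 * X 1 ^ 2 + C s4) * X 0 ^ 3 +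
            (C l0 * X 0 ^ 4 + C l2 * X 0 ^ 2 + C l4) * X 1 ^ 3 +
            C τ * X 0 ^ 3 * X 1 ^ 3]) =
      Ideal.span {(X 2 ^ 2 + C (s0 ^ 2) * X 0 ^ 3 * X 1 ^ 4 + C (s2 ^ 2) * X 0 ^ 3 * X 1 ^ 2 +
        C (s4 ^ 2) * X 0 ^ 3 + C (l0 ^ 2) * X 0 ^ 4 * X 1 ^ 3 + C (l2 ^ 2) * X 0 ^ 2 * X 1 ^ 3 +
        C (l4 ^ 2) * X 1 ^ 3 + C (τ ^ 2) * X 0 ^ 3 * X 1 ^ 3 : MvPolynomial (Fin 3) R)} := by
  classical
  have h2 : (2 : R) = 0 := by exact_mod_cast CharP.cast_eq_zero R 2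
  have h2'' := Groth.Agent.H65.two_eq_zero_mvPoly h2 (Fin 3)
  obtain ⟨τi, hτi⟩ := hτ.exists_right_inv
  have ht : (C τ : MvPolynomial (Fin 2) R) * C τi = 1 := by rw [← map_mul, hτi, map_one]
  refine Groth.Agent.H65.ker_aeval_eq_span h2
    (X 0 * (C s0 * X 1 ^ 2 + C s2 * X 1 + C s4))
    (X 1 * (C l0 * X 0 ^ 2 + C l2 * X 0 + C l4))
    (C τ * X 0 * X 1) ?_ _ ?_ _ ?_
  · intro p hp
    have h1 : X 1 * (X 0 * (p * C τ)) = 0 := by linear_combination hp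
    have h3 := Groth.Agent.H65.X_mul_eq_zero 0 (Groth.Agent.H65.X_mul_eq_zero 1 h1)
    calc p = p * C τ * C τi := by rw [mul_assoc, ht, mul_one]
      _ = 0 := by rw [h3, zero_mul]
  · simp only [map_mul, map_add, map_pow, expand_X, expand_C]
    ring
  · simp only [map_add, map_mul, map_pow, rename_X, rename_C, Fin.castSucc_zero, Fin.castSucc_one]
    linear_combination (-(X 0 ^ 3 * (C s0 * C s2 * X 1 ^ 3 + C s0 * C s4 * X 1 ^ 2 +
      C s2 * C s4 * X 1) + X 1 ^ 3 * (C l0 * C l2 * X 0 ^ 3 + C l0 * C l4 * X 0 ^ 2 +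
      C l2 * C l4 * X 0))) * h2''

end Groth.Agent.S13121
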