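import Groth.Statements.S13122
import Mathlib
import Groth.Agent.H65.Char2Parity

set_option autoImplicit false
universe u
open KumFam

namespace Groth.Agent.S13122

open MvPolynomial in
/-- Let R be a commutative ring of characteristic 2 and l0, l2, l4, s0, s2, s4, τ ∈ R with τ a unit. On
R[x, y] (x = X 0, y = X 1; the coordinates u⁻¹, v⁻¹ of the smooth chart of the product of two
cuspidal curves) let D be the R-derivation with D(x) = l4 x⁴ + l2 x² + τ x + l0 and D(y) = s4 y⁴ +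
s2 y² + τ y + s0, and put h = (s4 y⁴ + s2 y² + s0) x + (l4 x⁴ + l2 x² + l0) y + τ x y. Then: (1) for
p ∈ R[x, y], D(p) = 0 if and only if p lies in the image of the R-algebra homomorphism R[a, b, c] →
R[x, y] (a = X 0, b = X 1, c = X 2) with a ↦ x², b ↦ y², c ↦ h; (2) the kernel of that homomorphism
is the ideal generated by c² + τ² a b + (s4² b⁴ + s2² b² + s0²) a + (l4² a⁴ + l2² a² + l0²) b. (The
published statement asserts that the ring of invariants of the action of the group scheme of square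
roots of unity given by this vector field is R[a, b, c] modulo this equation, by the same
computation as on the other chart; this row pins the generator h and states the kernel computation.) -/
theorem result (R : Type u) [CommRing R]
    [CharP R 2] (l0 l2 l4 s0 s2 s4 τ : R) (hτ : IsUnit τ) :
    (∀ p : MvPolynomial (Fin 2) R,
      MvPolynomial.mkDerivation R
          (![C l4 * X 0 ^ 4 + C l2 * X 0 ^ 2 + C τ * X 0 + C l0,
            C s4 * X 1 ^ 4 + C s2 * X 1 ^ 2 + C τ * X 1 + C s0] :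
            Fin 2 → MvPolynomial (Fin 2) R) p = 0 ↔
        p ∈ (MvPolynomial.aeval (R := R) (S₁ := MvPolynomial (Fin 2) R)
          ![X 0 ^ 2, X 1 ^ 2,
            (C s4 * X 1 ^ 4 + C s2 * X 1 ^ 2 + C s0) * X 0 +
              (C l4 * X 0 ^ 4 + C l2 * X 0 ^ 2 + C l0) * X 1 + C τ * X 0 * X 1]).range) ∧
    RingHom.ker (MvPolynomial.aeval (R := R) (S₁ := MvPolynomial (Fin 2) R)
        ![X 0 ^ 2, X 1 ^ 2,
          (C s4 * X 1 ^ 4 + C s2 * X 1 ^ 2 + C s0) * X 0 +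
            (C l4 * X 0 ^ 4 + C l2 * X 0 ^ 2 + C l0) * X 1 + C τ * X 0 * X 1]) =
      Ideal.span {(X 2 ^ 2 + C (τ ^ 2) * X 0 * X 1 +
        (C (s4 ^ 2) * X 1 ^ 4 + C (s2 ^ 2) * X 1 ^ 2 + C (s0 ^ 2)) * X 0 +
        (C (l4 ^ 2) * X 0 ^ 4 + C (l2 ^ 2) * X 0 ^ 2 + C (l0 ^ 2)) * X 1 : MvPolynomial (Fin 3) R)} := by
  classical
  have h2 : (2 : R) = 0 := by exact_mod_cast CharP.cast_eq_zero R 2
  have h2' := Groth.Agent.H65.two_eq_zero_mvPoly h2 (Fin 2)
  have h2'' := Groth.Agent.H65.two_eq_zero_mvPoly h2 (Fin 3)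
  obtain ⟨τi, hτi⟩ := hτ.exists_right_inv
  have ht : (C τ : MvPolynomial (Fin 2) R) * C τi = 1 := by rw [← map_mul, hτi, map_one]
  set h : MvPolynomial (Fin 2) R := (C s4 * X 1 ^ 4 + C s2 * X 1 ^ 2 + C s0) * X 0 +
      (C l4 * X 0 ^ 4 + C l2 * X 0 ^ 2 + C l0) * X 1 + C τ * X 0 * X 1 with hh
  set D := MvPolynomial.mkDerivation R
      (![C l4 * X 0 ^ 4 + C l2 * X 0 ^ 2 + C τ * X 0 + C l0,
         C s4 * X 1 ^ 4 + C s2 * X 1 ^ 2 + C τ * X 1 + C s0] :
         Fin 2 → MvPolynomial (Fin 2) R) with hD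
  have hD0 : D (X 0) = C l4 * X 0 ^ 4 + C l2 * X 0 ^ 2 + C τ * X 0 + C l0 := by
    rw [hD, mkDerivation_X]; rfl
  have hD1 : D (X 1) = C s4 * X 1 ^ 4 + C s2 * X 1 ^ 2 + C τ * X 1 + C s0 := by
    rw [hD, mkDerivation_X]; rfl
  obtain ⟨S₀, hS₀⟩ : ∃ S₀ : MvPolynomial (Fin 2) R, S₀ = C s4 * X 1 ^ 2 + C s2 * X 1 + C s0 :=
    ⟨_, rfl⟩
  obtain ⟨L₀, hL₀⟩ : ∃ L₀ : MvPolynomial (Fin 2) R, L₀ = C l4 * X 0 ^ 2 + C l2 * X 0 + C l0 :=
    ⟨_, rfl⟩
  have hιS : expand 2 S₀ = C s4 * X 1 ^ 4 + C s2 * X 1 ^ 2 + C s0 := by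
    rw [hS₀]; simp only [map_add, map_mul, map_pow, expand_X, expand_C]; ring
  have hιL : expand 2 L₀ = C l4 * X 0 ^ 4 + C l2 * X 0 ^ 2 + C l0 := by
    rw [hL₀]; simp only [map_add, map_mul, map_pow, expand_X, expand_C]; ring
  have hhform : h = expand 2 0 + X 0 * expand 2 S₀ + X 1 * expand 2 L₀ +
      X 0 * X 1 * expand 2 (C τ) := by
    rw [hh, hιS, hιL, map_zero, expand_C]; ring
  have hDh : D h = 0 := by
    rw [hhform, Groth.Agent.H65.deriv_parity h2, hD0, hD1, hιS, hιL, expand_C]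
    linear_combination ((C s4 * X 1 ^ 4 + C s2 * X 1 ^ 2 + C s0) *
      (C l4 * X 0 ^ 4 + C l2 * X 0 ^ 2 + C l0) +
      C τ * X 0 * (C s4 * X 1 ^ 4 + C s2 * X 1 ^ 2 + C s0) +
      C τ * X 1 * (C l4 * X 0 ^ 4 + C l2 * X 0 ^ 2 + C l0) + C τ ^ 2 * X 0 * X 1) * h2'
  refine ⟨fun p => ⟨fun hDp => ?_, fun hp => ?_⟩, ?_⟩
  · obtain ⟨p₀, p₁, p₂, p₃, rfl⟩ := Groth.Agent.H65.parity_decomp p
    rw [Groth.Agent.H65.deriv_parity h2, hD0, hD1] at hDp
    have H : expand 2 (p₁ * L₀ + p₂ * S₀) + X 0 * expand 2 (C τ * p₁ + p₃ * S₀) +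
        X 1 * expand 2 (C τ * p₂ + p₃ * L₀) + X 0 * X 1 * expand 2 0 = 0 := by
      refine Eq.trans ?_ hDp
      simp only [map_mul, map_add, expand_C, map_zero, hιS, hιL]
      linear_combination (-(C τ * X 0 * X 1 * expand 2 p₃)) * h2'
    obtain ⟨-, hB, hC', -⟩ := Groth.Agent.H65.parity_indep h2 H
    have e1 : C τ * expand 2 p₁ + expand 2 p₃ * (C s4 * X 1 ^ 4 + C s2 * X 1 ^ 2 + C s0) = 0 := by
      have := congrArg (expand 2) hB
      simpa only [map_add, map_mul, expand_C, map_zero, hιS] using this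
    have e2 : C τ * expand 2 p₂ + expand 2 p₃ * (C l4 * X 0 ^ 4 + C l2 * X 0 ^ 2 + C l0) = 0 := by
      have := congrArg (expand 2) hC'
      simpa only [map_add, map_mul, expand_C, map_zero, hιL] using this
    refine (AlgHom.mem_range _).mpr
      ⟨rename Fin.castSucc p₀ + rename Fin.castSucc (C τi * p₃) * X 2, ?_⟩
    rw [map_add, map_mul, Groth.Agent.H65.aeval_rename_castSucc,
      Groth.Agent.H65.aeval_rename_castSucc, aeval_X]
    show expand 2 p₀ + expand 2 (C τi * p₃) * h = _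
    rw [hh, map_mul, expand_C]
    linear_combination (-(X 0 * C τi)) * e1 - (X 1 * C τi) * e2 +
      (X 0 * expand 2 p₁ + X 1 * expand 2 p₂ + X 0 * X 1 * expand 2 p₃) * ht +
      (C τi * (C s4 * X 1 ^ 4 + C s2 * X 1 ^ 2 + C s0) * expand 2 p₃ * X 0 +
        C τi * (C l4 * X 0 ^ 4 + C l2 * X 0 ^ 2 + C l0) * expand 2 p₃ * X 1) * h2'
  · obtain ⟨P, rfl⟩ := (AlgHom.mem_range _).mp hp
    have hX0 : D (X 0 ^ 2) = 0 := by
      have := Groth.Agent.H65.deriv_expand_two h2 D (X 0); rwa [expand_X] at this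
    have hX1 : D (X 1 ^ 2) = 0 := by
      have := Groth.Agent.H65.deriv_expand_two h2 D (X 1); rwa [expand_X] at this
    induction P using MvPolynomial.induction_on with
    | C r => rw [aeval_C]; exact D.map_algebraMap r
    | add P Q hP hQ =>
      rw [map_add, map_add, hP ((AlgHom.mem_range _).mpr ⟨_, rfl⟩), hQ ((AlgHom.mem_range _).mpr ⟨_, rfl⟩),
        add_zero]
    | mul_X P i hP =>
      rw [map_mul, Derivation.leibniz, hP ((AlgHom.mem_range _).mpr ⟨_, rfl⟩), smul_zero, add_zero,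
        aeval_X]
      have hi : i = 0 ∨ i = 1 ∨ i = 2 := by fin_cases i <;> simp
      rcases hi with rfl | rfl | rfl
      · show _ • D (X 0 ^ 2) = 0
        rw [hX0, smul_zero]
      · show _ • D (X 1 ^ 2) = 0
        rw [hX1, smul_zero]
      · show _ • D h = 0
        rw [hDh, smul_zero]
  · refine Groth.Agent.H65.ker_aeval_eq_span h2 S₀ L₀ (C τ) ?_ _ ?_ _ ?_
    · intro p hp
      calc p = p * C τ * C τi := by rw [mul_assoc, ht, mul_one]
        _ = 0 := by rw [hp, zero_mul]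
    · rw [hh, hιS, hιL, expand_C]; ring
    · rw [hS₀, hL₀]
      simp only [map_add, map_mul, map_pow, rename_X, rename_C, Fin.castSucc_zero,
        Fin.castSucc_one]
      linear_combination (-(X 0 * (C s4 * C s2 * X 1 ^ 3 + C s4 * C s0 * X 1 ^ 2 +
        C s2 * C s0 * X 1) + X 1 * (C l4 * C l2 * X 0 ^ 3 + C l4 * C l0 * X 0 ^ 2 +
        C l2 * C l0 * X 0))) * h2''

end Groth.Agent.S13122
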