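import Groth.Statements.S13124
import Mathlib

set_option autoImplicit false
universe u v w
open KumFam

namespace Groth.Agent.S13124

open TensorProduct in
theorem isIntegrallyClosed_of_div_mem {k R : Type*} [CommRing k] [CommRing R] [Algebra k R]
    [IsDomain R] [IsIntegrallyClosed R] (C : Subalgebra k R)
    (h : ∀ a b : C, b ≠ 0 → ∀ r : R, r * (b : R) = (a : R) → r ∈ C) : IsIntegrallyClosed C := by
  have hinj : Function.Injective ((algebraMap R (FractionRing R)).comp (C.val : C →+* R)) :=
    (IsFractionRing.injective R (FractionRing R)).comp Subtype.val_injective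
  obtain ⟨ι, hι⟩ : ∃ ι : FractionRing C →+* FractionRing R, ∀ c : C,
      ι (algebraMap C (FractionRing C) c) = algebraMap R (FractionRing R) (c : R) :=
    ⟨IsFractionRing.lift (K := FractionRing C) hinj, fun c => IsFractionRing.lift_algebraMap hinj c⟩
  refine (isIntegrallyClosed_iff (FractionRing C)).mpr ?_
  intro x hx
  obtain ⟨a, b, hb, rfl⟩ := IsFractionRing.div_surjective (A := C) x
  have hb0 : b ≠ 0 := nonZeroDivisors.ne_zero hb
  have hbL : algebraMap R (FractionRing R) (b : R) ≠ 0 := by
    intro h0
    apply hb0
    apply Subtype.val_injective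
    exact IsFractionRing.injective R (FractionRing R) (h0.trans (by simp))
  have hx' : IsIntegral R (ι
      (algebraMap C (FractionRing C) a / algebraMap C (FractionRing C) b)) := by
    obtain ⟨p, hp, hpx⟩ := hx
    refine ⟨p.map (C.val : C →+* R), hp.map _, ?_⟩
    rw [Polynomial.eval₂_map]
    have hcomp : (algebraMap R (FractionRing R)).comp (C.val : C →+* R) =
        ι.comp (algebraMap C (FractionRing C)) := by
      ext c
      exact (hι c).symm
    rw [hcomp, ← Polynomial.hom_eval₂, hpx, map_zero]
  obtain ⟨r, hr⟩ := IsIntegrallyClosed.isIntegral_iff.mp hx'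
  have hrb : r * (b : R) = (a : R) := by
    apply IsFractionRing.injective R (FractionRing R)
    rw [map_mul, hr, map_div₀, hι, hι, div_mul_cancel₀ _ hbL]
  have hrC := h a b hb0 r hrb
  refine ⟨⟨r, hrC⟩, ?_⟩
  have hbK : algebraMap C (FractionRing C) b ≠ 0 := by
    intro h0
    exact hb0 (IsFractionRing.injective C (FractionRing C) (by rw [h0, map_zero]))
  rw [eq_div_iff hbK, ← map_mul]
  congr 1
  exact Subtype.ext hrb

open TensorProduct in
/-- Let k be a commutative ring, A a commutative k-bialgebra that is flat over k, and R a commutative
k-algebra which is an integrally closed domain, with a coaction R → R ⊗ A that is an algebra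
homomorphism. Then the ring of invariants (the elements f with coaction f ⊗ 1) is an integrally
closed domain. (The published statement is for a finite group scheme acting on a normal scheme whose
quotient is, locally, the spectrum of the ring of invariants; this row is the affine integral case
and allows any commutative bialgebra flat over k, flatness being automatic over a field.) -/
theorem result (k : Type u) [CommRing k]
    (A : Type v) [CommRing A] [Bialgebra k A] [Module.Flat k A]
    (R : Type w) [CommRing R] [Algebra k R] [IsDomain R] [IsIntegrallyClosed R]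
    [HopfRep.Comod k A R] [GLin.IsCoactAlg k A R] :
    IsIntegrallyClosed (GLin.invariants k A R) := by
  apply isIntegrallyClosed_of_div_mem
  intro a b hb r hrb
  rw [GLin.mem_invariants_iff]
  have ha := (GLin.mem_invariants_iff k A R a).mp a.2
  have hb' := (GLin.mem_invariants_iff k A R b).mp b.2
  have h1 : HopfRep.Comod.coact (k := k) (A := A) (r * (b : R)) =
      HopfRep.Comod.coact (k := k) (A := A) r * HopfRep.Comod.coact (k := k) (A := A) (b : R) :=
    GLin.IsCoactAlg.coact_mul _ _
  rw [hrb, ha, hb'] at h1
  have h2 : (a : R) ⊗ₜ[k] (1 : A) = (r ⊗ₜ[k] (1 : A)) * ((b : R) ⊗ₜ[k] (1 : A)) := by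
    rw [Algebra.TensorProduct.tmul_mul_tmul, mul_one, hrb]
  have hb0 : (b : R) ≠ 0 := fun h => hb (Subtype.ext h)
  have hm : Function.Injective (LinearMap.mulRight k (b : R)) := by
    intro x y hxy
    exact mul_left_injective₀ hb0 (by simpa using hxy)
  have hfl := Module.Flat.rTensor_preserves_injective_linearMap (M := A)
    (LinearMap.mulRight k (b : R)) hm
  have heq : ∀ z : TensorProduct k R A, (LinearMap.mulRight k (b : R)).rTensor A z =
      z * ((b : R) ⊗ₜ[k] (1 : A)) := by
    intro z
    induction z using TensorProduct.induction_on with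
    | zero => simp
    | tmul x y => simp [Algebra.TensorProduct.tmul_mul_tmul]
    | add x y hx hy => rw [map_add, hx, hy, add_mul]
  apply hfl
  rw [heq, heq]
  exact h1.symm.trans h2

end Groth.Agent.S13124
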