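import Groth.Statements.S13125
-- import your own Groth.Agent.* helpers here

set_option autoImplicit false
universe u v
open KumFam

namespace Groth.Agent.S13125

/-- Let A be a commutative ring graded by an additive monoid ι (an abelian group in the published
statement) through additive subgroups 𝒜 i, and I an ideal of A. Then I is a homogeneous ideal if and
only if A/I carries a structure of ι-graded ring ℬ for which the quotient map sends 𝒜 i into ℬ i for
all i. -/
theorem result (ι : Type u) [DecidableEq ι] [AddMonoid ι]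
    (A : Type v) [CommRing A] (𝒜 : ι → AddSubgroup A) [GradedRing 𝒜] (I : Ideal A) :
    I.IsHomogeneous 𝒜 ↔
      ∃ ℬ : ι → AddSubgroup (A ⧸ I), Nonempty (GradedRing ℬ) ∧
        ∀ i : ι, (𝒜 i).map (Ideal.Quotient.mk I : A →+ A ⧸ I) ≤ ℬ i := by
  classical
  constructor
  · intro hI
    refine ⟨fun i => (𝒜 i).map (Ideal.Quotient.mk I : A →+ A ⧸ I), ⟨?_⟩, fun i => le_refl _⟩
    have hmem : ∀ (i : ι) (x : 𝒜 i), (Ideal.Quotient.mk I : A →+ A ⧸ I) x ∈
        (𝒜 i).map (Ideal.Quotient.mk I : A →+ A ⧸ I) := fun i x => ⟨x, x.2, rfl⟩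
    let c : ∀ i, 𝒜 i →+ (𝒜 i).map (Ideal.Quotient.mk I : A →+ A ⧸ I) := fun i =>
      (((Ideal.Quotient.mk I : A →+ A ⧸ I)).comp (𝒜 i).subtype).codRestrict _ (hmem i)
    let g : A →+ DirectSum ι (fun i => (𝒜 i).map (Ideal.Quotient.mk I : A →+ A ⧸ I)) :=
      (DirectSum.map c).comp (DirectSum.decomposeAddEquiv 𝒜).toAddMonoidHom
    have hg : (Ideal.Quotient.mk I : A →+ A ⧸ I).ker ≤ g.ker := by
      intro a ha
      rw [AddMonoidHom.mem_ker] at ha ⊢
      have haI : a ∈ I := Ideal.Quotient.eq_zero_iff_mem.mp ha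
      refine DFinsupp.ext fun i => Subtype.ext ?_
      show (Ideal.Quotient.mk I) ((DirectSum.decompose 𝒜 a i : A)) = 0
      exact Ideal.Quotient.eq_zero_iff_mem.mpr (hI i haI)
    have hsurj : Function.Surjective (Ideal.Quotient.mk I : A →+ A ⧸ I) :=
      Ideal.Quotient.mk_surjective
    let D : A ⧸ I →+ DirectSum ι (fun i => (𝒜 i).map (Ideal.Quotient.mk I : A →+ A ⧸ I)) :=
      (Ideal.Quotient.mk I : A →+ A ⧸ I).liftOfSurjective hsurj ⟨g, hg⟩
    have hD : ∀ a : A, D ((Ideal.Quotient.mk I : A →+ A ⧸ I) a) = g a := fun a =>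
      AddMonoidHom.liftOfRightInverse_comp_apply _ _ _ ⟨g, hg⟩ a
    have hghom : ∀ (i : ι) (a : A) (ha : a ∈ 𝒜 i), g a =
        DirectSum.of (fun i => (𝒜 i).map (Ideal.Quotient.mk I : A →+ A ⧸ I)) i (c i ⟨a, ha⟩) := by
      intro i a ha
      show DirectSum.map c (DirectSum.decompose 𝒜 a) = _
      rw [DirectSum.decompose_of_mem 𝒜 ha, DirectSum.map_of]
    exact
      { one_mem := ⟨1, SetLike.GradedOne.one_mem, map_one (Ideal.Quotient.mk I)⟩
        mul_mem := by
          rintro i j _ _ ⟨a, ha, rfl⟩ ⟨b, hb, rfl⟩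
          exact ⟨a * b, SetLike.GradedMul.mul_mem ha hb, map_mul (Ideal.Quotient.mk I) a b⟩
        decompose' := D
        left_inv := by
          intro q
          obtain ⟨a, rfl⟩ := hsurj q
          rw [hD]
          induction a using DirectSum.Decomposition.inductionOn 𝒜 with
          | zero => simp
          | homogeneous x =>
            rw [hghom _ x x.2, DirectSum.coeAddMonoidHom_of]
            rfl
          | add x y hx hy => rw [map_add, map_add, hx, hy, map_add]
        right_inv := by
          intro z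
          induction z using DirectSum.induction_on with
          | zero => simp
          | of i b =>
            obtain ⟨b, a, ha, rfl⟩ := b
            rw [DirectSum.coeAddMonoidHom_of]
            show D ((Ideal.Quotient.mk I : A →+ A ⧸ I) a) = _
            rw [hD, hghom i a ha]
            rfl
          | add x y hx hy => rw [map_add, map_add, hx, hy] }
  · rintro ⟨ℬ, ⟨inst⟩, hle⟩
    intro i x hx
    rw [← Ideal.Quotient.eq_zero_iff_mem]
    have hmem : ∀ j, Ideal.Quotient.mk I (DirectSum.decompose 𝒜 x j : A) ∈ ℬ j := fun j =>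
      hle j ⟨_, (DirectSum.decompose 𝒜 x j).2, rfl⟩
    have hsum : Ideal.Quotient.mk I x = ∑ j ∈ (DirectSum.decompose 𝒜 x).support,
        Ideal.Quotient.mk I (DirectSum.decompose 𝒜 x j : A) := by
      conv_lhs => rw [← DirectSum.sum_support_decompose 𝒜 x]
      rw [map_sum]
    have h0 : Ideal.Quotient.mk I x = 0 := Ideal.Quotient.eq_zero_iff_mem.mpr hx
    by_cases hi : i ∈ (DirectSum.decompose 𝒜 x).support
    · have h1 := congrArg (fun y => ((DirectSum.decompose ℬ y) i : A ⧸ I)) hsum
      simp only [h0, DirectSum.decompose_zero, DirectSum.decompose_sum] at h1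
      rw [DFinsupp.finsetSum_apply, AddSubmonoidClass.coe_finsetSum,
        Finset.sum_eq_single i] at h1
      · rw [DirectSum.decompose_of_mem_same ℬ (hmem i)] at h1
        exact h1.symm
      · intro j _ hji
        exact DirectSum.decompose_of_mem_ne ℬ (hmem j) hji
      · intro h; exact absurd hi h
    · rw [DFinsupp.notMem_support_iff] at hi
      rw [hi]; simp

end Groth.Agent.S13125
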