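import Groth.Statements.S13126
import Mathlib.RingTheory.Coprime.Lemmas
import Mathlib.Algebra.Polynomial.RingDivision
import Mathlib.RingTheory.Ideal.Quotient.Operations
import Mathlib.Algebra.Polynomial.BigOperators
import Mathlib.RingTheory.Polynomial.Basic

set_option autoImplicit false
universe u
open KumFam

namespace Groth.Agent.S13126

open Polynomial in
/-- Let R be a commutative ring, n a natural number which is a unit in R, and ζ ∈ R with ζ^n = 1 and 1 −
ζ^i a unit for 0 < i < n (a primitive n-th root of unity in the fibrewise sense: the powers ζ^0, …,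
ζ^(n−1) are roots of X^n − 1 with pairwise unit differences; over an integral domain in which n is a
unit this is the same as ζ having multiplicative order n). Then the R-algebra homomorphism R[X] →
(Fin n → R) sending a polynomial to its values at ζ^0, …, ζ^(n−1) is surjective and its kernel is
the ideal generated by X^n − 1; hence R[X]/(X^n − 1) ≅ R^n as R-algebras, i.e. the scheme of n-th
roots of unity over Spec R is the disjoint union of n copies of Spec R. (The published statement
asks that R contain a primitive n-th root of unity without defining the term; its Chinese-remainder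
argument uses that the ideals (X − ζ^i), i < n, are pairwise comaximal, which is the unit-difference
condition taken as the hypothesis here, whereas under the reading 'ζ has multiplicative order n'
alone the surjectivity fails over a product of two fields. The published statement also asserts that
the isomorphism respects the group-scheme structures of the n-th roots of unity and of the constant
group ℤ/n; this row does not state that.) -/
theorem result (R : Type u) [CommRing R]
    (n : ℕ) (hn : IsUnit (n : R)) (ζ : R) (hζ : ζ ^ n = 1)
    (hprim : ∀ i : ℕ, 0 < i → i < n → IsUnit (1 - ζ ^ i)) :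
    Function.Surjective (AlgHom.pi (fun i : Fin n => Polynomial.aeval (R := R) (ζ ^ (i : ℕ)))) ∧
      RingHom.ker (AlgHom.pi (fun i : Fin n => Polynomial.aeval (R := R) (ζ ^ (i : ℕ)))) =
        Ideal.span {(X ^ n - 1 : R[X])} := by
  classical
  rcases Nat.eq_zero_or_pos n with rfl | hnpos
  · have h01 : (0 : R) = 1 := by
      rw [Nat.cast_zero] at hn; exact isUnit_zero_iff.mp hn
    haveI : Subsingleton R := subsingleton_of_zero_eq_one h01
    haveI : Subsingleton R[X] := inferInstance
    exact ⟨Function.surjective_to_subsingleton _, Subsingleton.elim _ _⟩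
  · have hζu : IsUnit ζ := IsUnit.of_pow_eq_one hζ hnpos.ne'
    have key : ∀ i j : ℕ, i < j → j < n → IsUnit (ζ ^ i - ζ ^ j) := by
      intro i j hij hj
      have h1 : ζ ^ i - ζ ^ j = ζ ^ i * (1 - ζ ^ (j - i)) := by
        rw [mul_sub, mul_one, ← pow_add, Nat.add_sub_cancel' hij.le]
      rw [h1]
      exact (hζu.pow i).mul (hprim (j - i) (Nat.sub_pos_of_lt hij) (by omega))
    have hdiff : ∀ i j : Fin n, i ≠ j → IsUnit (ζ ^ (i : ℕ) - ζ ^ (j : ℕ)) := by
      intro i j hij
      rcases lt_or_gt_of_ne (fun h => hij (Fin.ext h)) with h | h
      · exact key i j h j.2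
      · have h2 := key j i h i.2
        rw [← neg_sub]; exact h2.neg
    have hcop : Pairwise (Function.onFun IsCoprime fun i : Fin n => (X - C (ζ ^ (i : ℕ)) : R[X])) := by
      intro i j hij
      exact Polynomial.isCoprime_X_sub_C_of_isUnit_sub (hdiff i j hij)
    have hcopI : Pairwise (Function.onFun IsCoprime fun i : Fin n =>
        Ideal.span {(X - C (ζ ^ (i : ℕ)) : R[X])}) := by
      intro i j hij
      exact (Ideal.isCoprime_span_singleton_iff _ _).mpr (hcop hij)
    have hroot : ∀ (p : R[X]) (i : Fin n), (X - C (ζ ^ (i : ℕ)) : R[X]) ∣ p ↔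
        Polynomial.aeval (ζ ^ (i : ℕ)) p = 0 := by
      intro p i
      rw [Polynomial.dvd_iff_isRoot, Polynomial.IsRoot.def, Polynomial.coe_aeval_eq_eval]
    constructor
    · intro v
      obtain ⟨p, hp⟩ := Ideal.exists_forall_sub_mem_ideal hcopI (fun i => C (v i))
      refine ⟨p, funext fun i => ?_⟩
      have h3 := (hroot _ i).mp (Ideal.mem_span_singleton.mp (hp i))
      rw [map_sub, Polynomial.aeval_C, sub_eq_zero] at h3
      exact h3
    · nontriviality R
      have hprod : ∏ i : Fin n, (X - C (ζ ^ (i : ℕ)) : R[X]) = X ^ n - 1 := by
        have hdvd : (∏ i : Fin n, (X - C (ζ ^ (i : ℕ)) : R[X])) ∣ X ^ n - 1 := by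
          apply Fintype.prod_dvd_of_coprime hcop
          intro i
          rw [hroot]
          simp only [map_sub, map_pow, Polynomial.aeval_X, map_one]
          rw [← pow_mul, mul_comm, pow_mul, hζ, one_pow, sub_self]
        obtain ⟨q, hq⟩ := hdvd
        have hmonic1 : (∏ i : Fin n, (X - C (ζ ^ (i : ℕ)) : R[X])).Monic :=
          Polynomial.monic_prod_of_monic _ _ (fun i _ => Polynomial.monic_X_sub_C _)
        have hmonic2 : (X ^ n - 1 : R[X]).Monic := by
          have h4 := Polynomial.monic_X_pow_sub_C (1 : R) hnpos.ne'
          rwa [map_one] at h4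
        have hqm : q.Monic := hmonic1.of_mul_monic_left (hq ▸ hmonic2)
        have hdeg1 : (∏ i : Fin n, (X - C (ζ ^ (i : ℕ)) : R[X])).natDegree = n := by
          rw [Polynomial.natDegree_prod_of_monic _ _ (fun i _ => Polynomial.monic_X_sub_C _)]
          simp only [Polynomial.natDegree_X_sub_C, Finset.sum_const, Finset.card_univ,
            Fintype.card_fin, smul_eq_mul, mul_one]
        have hdeg2 : (X ^ n - 1 : R[X]).natDegree = n := by
          have h5 := Polynomial.natDegree_X_pow_sub_C (R := R) (n := n) (r := 1)
          rwa [map_one] at h5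
        have hdeg3 := congrArg Polynomial.natDegree hq
        rw [hmonic1.natDegree_mul hqm, hdeg1, hdeg2] at hdeg3
        have hq1 : q = 1 := Polynomial.eq_one_of_monic_natDegree_zero hqm (by omega)
        rw [hq, hq1, mul_one]
      ext p
      rw [RingHom.mem_ker, Ideal.mem_span_singleton, ← hprod]
      constructor
      · intro h6
        apply Fintype.prod_dvd_of_coprime hcop
        intro i
        rw [hroot]
        exact congrFun h6 i
      · intro h6
        funext i
        have h7 : (X - C (ζ ^ (i : ℕ)) : R[X]) ∣ ∏ i : Fin n, (X - C (ζ ^ (i : ℕ)) : R[X]) :=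
          Finset.dvd_prod_of_mem (fun i : Fin n => (X - C (ζ ^ (i : ℕ)) : R[X])) (Finset.mem_univ i)
        exact (hroot p i).mp (dvd_trans h7 h6)

end Groth.Agent.S13126
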