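import Groth.Statements.S13127
import Mathlib
import Groth.Agent.H65.FormalInv

set_option autoImplicit false
universe u
open KumFam

namespace Groth.Agent.S13127

open MvPowerSeries in
/-- Let R be a commutative ring of characteristic 2 and l0, l2, l4, s0, s2, s4, τ, lam, sig ∈ R with l4,
s4, lam, sig units, and let κ₁, κ₂ ∈ R satisfy s4² κ₁³ = sig² and l4² κ₂³ = lam² (cube roots of
sig²/s4² and lam²/l4²). In the power series ring R[[a, b, c]] (a = X 0, b = X 1, c = X 2) put F = c²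
+ s0² a³ b⁴ + s2² a³ b² + s4² a³ + l0² a⁴ b³ + l2² a² b³ + l4² b³ + τ² a³ b³ and F₀ = c² + sig² a³ +
lam² b³. Then some R-algebra automorphism of R[[a, b, c]] maps F to F₀; consequently R[[a, b,
c]]/(F) ≅ R[[a, b, c]]/(F₀). (In the published statement lam, sig are the representatives in the
ground field of the residues of l4, s4 at a rational point, so that F₀ is the equation of the
special fibre made constant; this row takes them to be arbitrary units.) -/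
theorem result (R : Type u) [CommRing R] [CharP R 2]
    (l0 l2 l4 s0 s2 s4 τ lam sig κ₁ κ₂ : R) (hl4 : IsUnit l4) (hs4 : IsUnit s4) (hlam : IsUnit lam)
    (hsig : IsUnit sig) (h₁ : s4 ^ 2 * κ₁ ^ 3 = sig ^ 2) (h₂ : l4 ^ 2 * κ₂ ^ 3 = lam ^ 2) :
    ∃ φ : MvPowerSeries (Fin 3) R ≃ₐ[R] MvPowerSeries (Fin 3) R,
      φ ((X 2 ^ 2 + C (s0 ^ 2) * X 0 ^ 3 * X 1 ^ 4 + C (s2 ^ 2) * X 0 ^ 3 * X 1 ^ 2 +
          C (s4 ^ 2) * X 0 ^ 3 + C (l0 ^ 2) * X 0 ^ 4 * X 1 ^ 3 + C (l2 ^ 2) * X 0 ^ 2 * X 1 ^ 3 +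
          C (l4 ^ 2) * X 1 ^ 3 + C (τ ^ 2) * X 0 ^ 3 * X 1 ^ 3 : MvPowerSeries (Fin 3) R)) =
        (X 2 ^ 2 + C (sig ^ 2) * X 0 ^ 3 + C (lam ^ 2) * X 1 ^ 3 : MvPowerSeries (Fin 3) R) := by
  classical
  have h2 : (2 : R) = 0 := by exact_mod_cast CharP.cast_eq_zero R 2
  have h3 : (3 : R) = 1 := by linear_combination h2
  obtain ⟨s4i, hs4i⟩ := hs4.exists_right_inv
  obtain ⟨l4i, hl4i⟩ := hl4.exists_right_inv
  have hκ₁ : IsUnit κ₁ := by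
    have h : IsUnit (s4 ^ 2 * κ₁ ^ 3) := by rw [h₁]; exact hsig.pow 2
    have h' : IsUnit (κ₁ ^ 3) := isUnit_of_mul_isUnit_right h
    exact (isUnit_pow_iff (by norm_num)).mp h'
  have hκ₂ : IsUnit κ₂ := by
    have h : IsUnit (l4 ^ 2 * κ₂ ^ 3) := by rw [h₂]; exact hlam.pow 2
    have h' : IsUnit (κ₂ ^ 3) := isUnit_of_mul_isUnit_right h
    exact (isUnit_pow_iff (by norm_num)).mp h'
  obtain ⟨k1i, hk1i⟩ := hκ₁.exists_right_inv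
  obtain ⟨k2i, hk2i⟩ := hκ₂.exists_right_inv
  have hA : sig ^ 2 * k1i ^ 3 = s4 ^ 2 := by
    rw [← h₁]
    linear_combination s4 ^ 2 * ((κ₁ * k1i) ^ 2 + κ₁ * k1i + 1) * hk1i
  have hB : lam ^ 2 * k2i ^ 3 = l4 ^ 2 := by
    rw [← h₂]
    linear_combination l4 ^ 2 * ((κ₂ * k2i) ^ 2 + κ₂ * k2i + 1) * hk2i
  obtain ⟨x₁, hx₁⟩ : ∃ x₁ : MvPowerSeries (Fin 3) R, x₁ = C (s4i ^ 2 * s2 ^ 2) * X 1 ^ 2 +
      C (s4i ^ 2 * τ ^ 2) * X 1 ^ 3 + C (s4i ^ 2 * s0 ^ 2) * X 1 ^ 4 := ⟨_, rfl⟩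
  obtain ⟨x₂, hx₂⟩ : ∃ x₂ : MvPowerSeries (Fin 3) R, x₂ = C (l4i ^ 2 * l2 ^ 2) * X 0 ^ 2 +
      C (l4i ^ 2 * l0 ^ 2) * X 0 ^ 4 := ⟨_, rfl⟩
  have hx₁0 : constantCoeff x₁ = 0 := by rw [hx₁]; simp
  have hx₂0 : constantCoeff x₂ = 0 := by rw [hx₂]; simp
  obtain ⟨y₁, hy₁⟩ := Groth.Agent.H65.exists_cube_root h3 x₁ hx₁0
  obtain ⟨y₂, hy₂⟩ := Groth.Agent.H65.exists_cube_root h3 x₂ hx₂0
  have hz₁ : IsUnit (constantCoeff (1 + y₁)) := by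
    apply IsUnit.of_pow_eq_one (n := 3) _ (by norm_num)
    rw [← map_pow, hy₁, map_add, map_one, hx₁0, add_zero]
  have hz₂ : IsUnit (constantCoeff (1 + y₂)) := by
    apply IsUnit.of_pow_eq_one (n := 3) _ (by norm_num)
    rw [← map_pow, hy₂, map_add, map_one, hx₂0, add_zero]
  have hk1iu : IsUnit k1i := IsUnit.of_mul_eq_one κ₁ (by rw [mul_comm]; exact hk1i)
  have hk2iu : IsUnit k2i := IsUnit.of_mul_eq_one κ₂ (by rw [mul_comm]; exact hk2i)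
  obtain ⟨U, hU⟩ : ∃ U : MvPowerSeries (Fin 3) R, U = C k1i * (1 + y₁) := ⟨_, rfl⟩
  obtain ⟨V, hV⟩ : ∃ V : MvPowerSeries (Fin 3) R, V = C k2i * (1 + y₂) := ⟨_, rfl⟩
  have hUu : IsUnit (constantCoeff U) := by
    rw [hU, map_mul, constantCoeff_C]; exact hk1iu.mul hz₁
  have hVu : IsUnit (constantCoeff V) := by
    rw [hV, map_mul, constantCoeff_C]; exact hk2iu.mul hz₂
  have hu : ∀ i, IsUnit (constantCoeff ((![U, V, 1] : Fin 3 → MvPowerSeries (Fin 3) R) i)) := by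
    intro i
    fin_cases i
    · simpa using hUu
    · simpa using hVu
    · simp
  obtain ⟨ψ, hψ⟩ := Groth.Agent.H65.exists_algEquiv_subst (fun _ : Fin 3 => 1) (fun _ => Nat.one_pos)
    _ (fun _ => (0 : MvPowerSeries (Fin 3) R)) hu (fun _ => Groth.Agent.H65.WOrd.zero _ _)
  have hψ0 : ψ (X 0) = X 0 * U := by simpa using hψ 0
  have hψ1 : ψ (X 1) = X 1 * V := by simpa using hψ 1
  have hψ2 : ψ (X 2) = X 2 := by simpa using hψ 2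
  have hC : ∀ r : R, ψ (C r) = C r := fun r => ψ.commutes r
  have hCA : (C (sig ^ 2) : MvPowerSeries (Fin 3) R) * C k1i ^ 3 = C (s4 ^ 2) := by
    rw [← map_pow, ← map_mul, hA]
  have hCB : (C (lam ^ 2) : MvPowerSeries (Fin 3) R) * C k2i ^ 3 = C (l4 ^ 2) := by
    rw [← map_pow, ← map_mul, hB]
  have hC2 : (C (s4 ^ 2) : MvPowerSeries (Fin 3) R) * C (s4i ^ 2 * s2 ^ 2) = C (s2 ^ 2) := by
    rw [← map_mul]; congr 1
    linear_combination s2 ^ 2 * (s4 * s4i + 1) * hs4i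
  have hCτ : (C (s4 ^ 2) : MvPowerSeries (Fin 3) R) * C (s4i ^ 2 * τ ^ 2) = C (τ ^ 2) := by
    rw [← map_mul]; congr 1
    linear_combination τ ^ 2 * (s4 * s4i + 1) * hs4i
  have hC0 : (C (s4 ^ 2) : MvPowerSeries (Fin 3) R) * C (s4i ^ 2 * s0 ^ 2) = C (s0 ^ 2) := by
    rw [← map_mul]; congr 1
    linear_combination s0 ^ 2 * (s4 * s4i + 1) * hs4i
  have hD2 : (C (l4 ^ 2) : MvPowerSeries (Fin 3) R) * C (l4i ^ 2 * l2 ^ 2) = C (l2 ^ 2) := by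
    rw [← map_mul]; congr 1
    linear_combination l2 ^ 2 * (l4 * l4i + 1) * hl4i
  have hD0 : (C (l4 ^ 2) : MvPowerSeries (Fin 3) R) * C (l4i ^ 2 * l0 ^ 2) = C (l0 ^ 2) := by
    rw [← map_mul]; congr 1
    linear_combination l0 ^ 2 * (l4 * l4i + 1) * hl4i
  have key : ψ (X 2 ^ 2 + C (sig ^ 2) * X 0 ^ 3 + C (lam ^ 2) * X 1 ^ 3 :
        MvPowerSeries (Fin 3) R) =
      (X 2 ^ 2 + C (s0 ^ 2) * X 0 ^ 3 * X 1 ^ 4 + C (s2 ^ 2) * X 0 ^ 3 * X 1 ^ 2 +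
          C (s4 ^ 2) * X 0 ^ 3 + C (l0 ^ 2) * X 0 ^ 4 * X 1 ^ 3 + C (l2 ^ 2) * X 0 ^ 2 * X 1 ^ 3 +
          C (l4 ^ 2) * X 1 ^ 3 + C (τ ^ 2) * X 0 ^ 3 * X 1 ^ 3 : MvPowerSeries (Fin 3) R) := by
    rw [map_add ψ, map_add ψ, map_mul ψ, map_mul ψ, map_pow ψ, map_pow ψ, map_pow ψ, hC, hC,
      hψ0, hψ1, hψ2]
    rw [hU, hV]
    rw [hx₁] at hy₁
    rw [hx₂] at hy₂
    linear_combination (C (sig ^ 2) * C k1i ^ 3 * X 0 ^ 3) * hy₁ +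
      (X 0 ^ 3 * (1 + (C (s4i ^ 2 * s2 ^ 2) * X 1 ^ 2 +
        C (s4i ^ 2 * τ ^ 2) * X 1 ^ 3 + C (s4i ^ 2 * s0 ^ 2) * X 1 ^ 4))) * hCA +
      X 0 ^ 3 * X 1 ^ 2 * hC2 + X 0 ^ 3 * X 1 ^ 3 * hCτ + X 0 ^ 3 * X 1 ^ 4 * hC0 +
      (C (lam ^ 2) * C k2i ^ 3 * X 1 ^ 3) * hy₂ +
      (X 1 ^ 3 * (1 + (C (l4i ^ 2 * l2 ^ 2) * X 0 ^ 2 + C (l4i ^ 2 * l0 ^ 2) * X 0 ^ 4))) * hCB +
      X 1 ^ 3 * X 0 ^ 2 * hD2 + X 1 ^ 3 * X 0 ^ 4 * hD0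
  refine ⟨ψ.symm, ?_⟩
  rw [← key, ψ.symm_apply_apply]

end Groth.Agent.S13127
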