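import Groth.Statements.S13128
import Mathlib
import Groth.Agent.H65.FormalInv

set_option autoImplicit false
universe u
open KumFam

namespace Groth.Agent.S13128

open MvPowerSeries in
/-- Let R be a commutative ring of characteristic 2, l0, l2, l4, s0, s2, s4, τ ∈ R with τ a unit, and α,
β ∈ R with l4² α⁴ + l2² α² + τ² α + l0² = 0 and s4² β⁴ + s2² β² + τ² β + s0² = 0. In characteristic
2 these relations give τ² α = (l4 α² + l2 α + l0)² and τ² β = (s4 β² + s2 β + s0)², so α = α′² and β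
= β′² with α′ = (l4 α² + l2 α + l0)/τ and β′ = (s4 β² + s2 β + s0)/τ. In R[[a, b, c]] (a = X 0, b =
X 1, c = X 2) put h = c² + τ² a b + (s4² b⁴ + s2² b²) a + (l4² a⁴ + l2² a²) b + l4² β a⁴ + l2² β a²
+ s4² α b⁴ + s2² α b²; this is the chart equation c² + τ² a b + (s4² b⁴ + s2² b² + s0²) a + (l4² a⁴
+ l2² a² + l0²) b after the substitution a ↦ a + α, b ↦ b + β, c ↦ c + τ α′ β′, which moves the
point (α, β, τ α′ β′) of that surface, where all partial derivatives vanish, to the origin. Then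
some R-algebra automorphism of R[[a, b, c]] maps h to c² + a b; consequently R[[a, b, c]]/(h) ≅
R[[a, b, c]]/(c² + a b), the completed local ring of an ordinary double point, constant over R. (The
published statement translates only a and b, so that its h carries the additional constant term τ² α
β; with that term h is a unit of R[[a, b, c]] whenever τ α β is a unit, for instance c² + a b + 1
over the field with two elements with l0 = s0 = τ = α = β = 1 and l2 = l4 = s2 = s4 = 0, and no ring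
automorphism carries a unit to c² + a b. The published proof begins by shifting c by a polynomial in
a, b whose constant term is τ α′ β′, a substitution of the polynomial ring which removes the term τ²
α β, and the rest of its argument takes place in R[[a, b, c]]; this row states the result for the
fully translated equation, which is what that argument proves.) -/
theorem result (R : Type u) [CommRing R] [CharP R 2]
    (l0 l2 l4 s0 s2 s4 τ α β : R) (hτ : IsUnit τ)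
    (hα : l4 ^ 2 * α ^ 4 + l2 ^ 2 * α ^ 2 + τ ^ 2 * α + l0 ^ 2 = 0)
    (hβ : s4 ^ 2 * β ^ 4 + s2 ^ 2 * β ^ 2 + τ ^ 2 * β + s0 ^ 2 = 0) :
    ∃ φ : MvPowerSeries (Fin 3) R ≃ₐ[R] MvPowerSeries (Fin 3) R,
      φ ((X 2 ^ 2 + C (τ ^ 2) * X 0 * X 1 + (C (s4 ^ 2) * X 1 ^ 4 + C (s2 ^ 2) * X 1 ^ 2) * X 0 +
          (C (l4 ^ 2) * X 0 ^ 4 + C (l2 ^ 2) * X 0 ^ 2) * X 1 + C (l4 ^ 2 * β) * X 0 ^ 4 +
          C (l2 ^ 2 * β) * X 0 ^ 2 + C (s4 ^ 2 * α) * X 1 ^ 4 + C (s2 ^ 2 * α) * X 1 ^ 2 :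
          MvPowerSeries (Fin 3) R)) =
        (X 2 ^ 2 + X 0 * X 1 : MvPowerSeries (Fin 3) R) := by
  classical
  have h2 : (2 : R) = 0 := by exact_mod_cast CharP.cast_eq_zero R 2
  obtain ⟨τi, hτi⟩ := hτ.exists_right_inv
  obtain ⟨α', hα'⟩ : ∃ α' : R, α' = τi * (l4 * α ^ 2 + l2 * α + l0) := ⟨_, rfl⟩
  obtain ⟨β', hβ'⟩ : ∃ β' : R, β' = τi * (s4 * β ^ 2 + s2 * β + s0) := ⟨_, rfl⟩
  have hα2 : α' ^ 2 = α := by
    rw [hα']
    linear_combination τi ^ 2 * hα +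
      (τi ^ 2 * (l4 * l2 * α ^ 3 + l4 * l0 * α ^ 2 + l2 * l0 * α) - α) * h2 -
      (τ * τi + 1) * α * hτi
  have hβ2 : β' ^ 2 = β := by
    rw [hβ']
    linear_combination τi ^ 2 * hβ +
      (τi ^ 2 * (s4 * s2 * β ^ 3 + s4 * s0 * β ^ 2 + s2 * s0 * β) - β) * h2 -
      (τ * τi + 1) * β * hτi
  have h2S : (2 : MvPowerSeries (Fin 3) R) = 0 := by
    rw [← map_ofNat (C (σ := Fin 3) (R := R)) 2, h2, map_zero]
  have hsq : ∀ x y : MvPowerSeries (Fin 3) R, (x + y) ^ 2 = x ^ 2 + y ^ 2 := fun x y => by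
    linear_combination (x * y) * h2S
  obtain ⟨W, hW⟩ : ∃ W : MvPowerSeries (Fin 3) R, W = C (τ ^ 2) + C (s4 ^ 2) * X 1 ^ 3 +
      C (s2 ^ 2) * X 1 + C (l4 ^ 2) * X 0 ^ 3 + C (l2 ^ 2) * X 0 := ⟨_, rfl⟩
  obtain ⟨q, hq⟩ : ∃ q : MvPowerSeries (Fin 3) R, q = C (l4 * β') * X 0 ^ 2 + C (l2 * β') * X 0 +
      C (s4 * α') * X 1 ^ 2 + C (s2 * α') * X 1 := ⟨_, rfl⟩
  obtain ⟨w, hwdef⟩ : ∃ w : Fin 3 → ℕ, w = ![2, 2, 1] := ⟨_, rfl⟩
  have hw : ∀ i, 0 < w i := by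
    intro i; rw [hwdef]; fin_cases i <;> simp
  have hX0 : Groth.Agent.H65.WOrd w (X 0 : MvPowerSeries (Fin 3) R) 2 := by
    have h := Groth.Agent.H65.WOrd.var (R := R) w 0
    rw [hwdef] at h ⊢; exact h
  have hX1 : Groth.Agent.H65.WOrd w (X 1 : MvPowerSeries (Fin 3) R) 2 := by
    have h := Groth.Agent.H65.WOrd.var (R := R) w 1
    rw [hwdef] at h ⊢; exact h
  have hCo : ∀ r : R, Groth.Agent.H65.WOrd w (C r : MvPowerSeries (Fin 3) R) 0 :=
    fun r => Groth.Agent.H65.WOrd.zero_order w _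
  have hqord : Groth.Agent.H65.WOrd w q 2 := by
    rw [hq]
    simp only [pow_two]
    refine Groth.Agent.H65.WOrd.add (Groth.Agent.H65.WOrd.add (Groth.Agent.H65.WOrd.add ?_ ?_) ?_) ?_
    · exact ((hCo _).mul (hX0.mul hX0)).mono (by omega)
    · exact ((hCo _).mul hX0).mono (by omega)
    · exact ((hCo _).mul (hX1.mul hX1)).mono (by omega)
    · exact ((hCo _).mul hX1).mono (by omega)
  have hu : ∀ i, IsUnit (constantCoeff ((![W, 1, 1] : Fin 3 → MvPowerSeries (Fin 3) R) i)) := by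
    intro i
    fin_cases i
    · simp [hW, hτ]
    · simp
    · simp
  have hqs : ∀ i, Groth.Agent.H65.WOrd w ((![0, 0, q] : Fin 3 → MvPowerSeries (Fin 3) R) i)
      (w i + 1) := by
    intro i
    rw [hwdef]
    fin_cases i
    · exact Groth.Agent.H65.WOrd.zero _ _
    · exact Groth.Agent.H65.WOrd.zero _ _
    · rw [hwdef] at hqord; exact hqord
  obtain ⟨Θ, hΘ⟩ := Groth.Agent.H65.exists_algEquiv_subst w hw _ _ hu hqs
  have hΘ0 : Θ (X 0) = X 0 * W := by simpa using hΘ 0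
  have hΘ1 : Θ (X 1) = X 1 := by simpa using hΘ 1
  have hΘ2 : Θ (X 2) = X 2 + q := by simpa using hΘ 2
  have hq2 : q ^ 2 = C (l4 ^ 2 * β) * X 0 ^ 4 + C (l2 ^ 2 * β) * X 0 ^ 2 +
      C (s4 ^ 2 * α) * X 1 ^ 4 + C (s2 ^ 2 * α) * X 1 ^ 2 := by
    rw [hq, hsq, hsq, hsq]
    have e1 : (C (l4 * β') : MvPowerSeries (Fin 3) R) ^ 2 = C (l4 ^ 2 * β) := by
      rw [← map_pow, mul_pow, hβ2]
    have e2 : (C (l2 * β') : MvPowerSeries (Fin 3) R) ^ 2 = C (l2 ^ 2 * β) := by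
      rw [← map_pow, mul_pow, hβ2]
    have e3 : (C (s4 * α') : MvPowerSeries (Fin 3) R) ^ 2 = C (s4 ^ 2 * α) := by
      rw [← map_pow, mul_pow, hα2]
    have e4 : (C (s2 * α') : MvPowerSeries (Fin 3) R) ^ 2 = C (s2 ^ 2 * α) := by
      rw [← map_pow, mul_pow, hα2]
    linear_combination X 0 ^ 4 * e1 + X 0 ^ 2 * e2 + X 1 ^ 4 * e3 + X 1 ^ 2 * e4
  have key : Θ (X 2 ^ 2 + X 0 * X 1 : MvPowerSeries (Fin 3) R) =
      (X 2 ^ 2 + C (τ ^ 2) * X 0 * X 1 + (C (s4 ^ 2) * X 1 ^ 4 + C (s2 ^ 2) * X 1 ^ 2) * X 0 +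
          (C (l4 ^ 2) * X 0 ^ 4 + C (l2 ^ 2) * X 0 ^ 2) * X 1 + C (l4 ^ 2 * β) * X 0 ^ 4 +
          C (l2 ^ 2 * β) * X 0 ^ 2 + C (s4 ^ 2 * α) * X 1 ^ 4 + C (s2 ^ 2 * α) * X 1 ^ 2 :
          MvPowerSeries (Fin 3) R) := by
    rw [map_add, map_pow, map_mul, hΘ0, hΘ1, hΘ2, hsq, hq2, hW]
    ring
  refine ⟨Θ.symm, ?_⟩
  rw [← key, Θ.symm_apply_apply]

end Groth.Agent.S13128
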