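import Groth.Statements.S13130
import Mathlib.RingTheory.IntegralClosure.IsIntegralClosure.Basic
import Mathlib.GroupTheory.OrderOfElement

set_option autoImplicit false
universe u v
open KumFam

namespace Groth.Agent.S13130

/-- Let R be a nontrivial commutative ring and M a commutative group, with group algebra R[M], the
coordinate ring of the diagonalizable group scheme D(M) over Spec R. Then D(M) is integral over Spec
R, i.e. R[M] is an integral R-algebra, if and only if M is a torsion group. (The published statement
is over an arbitrary base scheme; the question is local and this row is the affine form, with R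
nontrivial so that the elements of M are R-linearly independent.) -/
theorem result (R : Type u) [CommRing R] [Nontrivial R]
    (M : Type v) [CommGroup M] :
    Algebra.IsIntegral R (MonoidAlgebra R M) ↔ IsMulTorsion M := by
  classical
  constructor
  · intro h m
    by_contra hm
    have hinj : Function.Injective (fun n : ℕ => m ^ n) :=
      injective_pow_iff_not_isOfFinOrder.mpr hm
    obtain ⟨p, hp, hpe⟩ := h.isIntegral (MonoidAlgebra.of R M m)
    have hterm : ∀ i : ℕ, algebraMap R (MonoidAlgebra R M) (p.coeff i) *
        (MonoidAlgebra.of R M m) ^ i = MonoidAlgebra.single (m ^ i) (p.coeff i) := by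
      intro i
      rw [← map_pow, MonoidAlgebra.of_apply, MonoidAlgebra.coe_algebraMap, Function.comp_apply,
        MonoidAlgebra.single_mul_single, one_mul, mul_one]
      rfl
    have key : (Polynomial.eval₂ (algebraMap R (MonoidAlgebra R M))
        (MonoidAlgebra.of R M m) p).coeff (m ^ p.natDegree) = 1 := by
      rw [Polynomial.eval₂_eq_sum_range]
      simp only [hterm, MonoidAlgebra.coeff_sum, Finsupp.coe_finsetSum, Finset.sum_apply,
        MonoidAlgebra.coeff_single, Finsupp.single_apply]
      rw [Finset.sum_eq_single p.natDegree]
      · simp [hp.coeff_natDegree]
      · intro i _ hi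
        rw [if_neg]
        intro h'
        exact hi (hinj h')
      · intro h'
        exact absurd (Finset.mem_range.mpr (Nat.lt_succ_self _)) h'
    rw [hpe] at key
    simp at key
  · intro h
    refine ⟨fun x => ?_⟩
    induction x using MonoidAlgebra.induction_on with
    | of m =>
      obtain ⟨n, hn, hmn⟩ := (h m).exists_pow_eq_one
      apply IsIntegral.of_pow hn
      rw [← map_pow, hmn, map_one]
      exact isIntegral_one
    | add x y hx hy => exact hx.add hy
    | smul r x hx => exact hx.smul r

end Groth.Agent.S13130
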