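import Groth.Statements.S13131
import Mathlib.AlgebraicGeometry.Gluing
import Mathlib.AlgebraicGeometry.Restrict
import Mathlib.Topology.LocallyConstant.Basic

set_option autoImplicit false
universe u
open CategoryTheory CategoryTheory.Limits AlgebraicGeometry
open KumFam

namespace Groth.Agent.S13131

/-- Let S be a scheme, M a set and p : T → S a scheme over S. The S-morphisms T → ∐_{m ∈ M} S (the
constant S-scheme on M, with its structure map the codiagonal) are in bijection with the locally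
constant maps T → M, a morphism f corresponding to the function sending t to the index of the copy
of S containing f(t). (In the published statement M is a group and ∐_M S the constant group scheme;
the group structures play no role in this description of T-points.) -/
theorem result (S : Scheme.{u}) (M : Type u)
    (T : Scheme.{u}) (p : T ⟶ S) :
    ∃ e : {f : T ⟶ ∐ (fun _ : M => S) // f ≫ Sigma.desc (fun _ : M => 𝟙 S) = p} ≃
        LocallyConstant T M,
      ∀ (f : {f : T ⟶ ∐ (fun _ : M => S) // f ≫ Sigma.desc (fun _ : M => 𝟙 S) = p}) (t : T),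
        e f t = ((sigmaMk (fun _ : M => S)).symm (f.1.base t)).1 := by
  classical
  let g : M → Scheme.{u} := fun _ => S
  have hfst : IsLocallyConstant (Sigma.fst : (Σ i : M, ↥(g i)) → M) := by
    rw [IsLocallyConstant.iff_isOpen_fiber]
    intro m
    exact isOpen_sigma_fst_preimage {m}
  let idx : ↥(∐ g) → M := fun z => ((sigmaMk g).symm z).1
  have hidx : IsLocallyConstant idx := hfst.comp_continuous (sigmaMk g).symm.continuous
  have hidx_ι : ∀ (m : M) (s : ↥S), idx ((Sigma.ι g m).base s) = m := by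
    intro m s
    show ((sigmaMk g).symm ((Sigma.ι g m).base s)).1 = m
    rw [← sigmaMk_mk g m s, Homeomorph.symm_apply_apply]
  have hidx_range : ∀ (z : ↥(∐ g)) (m : M), idx z = m → z ∈ Set.range (Sigma.ι g m).base := by
    rintro z _ rfl
    refine ⟨((sigmaMk g).symm z).2, ?_⟩
    have h1 := sigmaMk_mk g ((sigmaMk g).symm z).1 ((sigmaMk g).symm z).2
    rw [Sigma.eta, Homeomorph.apply_symm_apply] at h1
    exact h1.symm
  have hd : ∀ m : M, Sigma.ι g m ≫ Sigma.desc (fun _ : M => 𝟙 S) = 𝟙 S :=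
    fun m => Sigma.ι_desc _ m
  let fwd : {f : T ⟶ ∐ g // f ≫ Sigma.desc (fun _ : M => 𝟙 S) = p} → LocallyConstant T M :=
    fun f => ⟨fun t => idx (f.1.base t), hidx.comp_continuous f.1.continuous⟩
  have inv_exists : ∀ φ : LocallyConstant T M, ∃ f : T ⟶ ∐ g,
      f ≫ Sigma.desc (fun _ : M => 𝟙 S) = p ∧ ∀ t, idx (f.base t) = φ t := by
    intro φ
    let U : M → T.Opens := fun m => ⟨φ ⁻¹' {m}, φ.isLocallyConstant.isOpen_fiber m⟩
    have hU : TopologicalSpace.IsOpenCover U := by
      refine eq_top_iff.mpr fun t _ => ?_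
      exact TopologicalSpace.Opens.mem_iSup.mpr ⟨φ t, rfl⟩
    let 𝒰 := T.openCoverOfIsOpenCover U hU
    let gl : ∀ m : M, (U m).toScheme ⟶ ∐ g := fun m => (U m).ι ≫ p ≫ Sigma.ι g m
    have compat : ∀ m m' : M, pullback.fst (𝒰.f m) (𝒰.f m') ≫ gl m =
        pullback.snd (𝒰.f m) (𝒰.f m') ≫ gl m' := by
      intro m m'
      by_cases h : m = m'
      · subst h
        show pullback.fst (U m).ι (U m).ι ≫ (U m).ι ≫ p ≫ Sigma.ι g m =
          pullback.snd (U m).ι (U m).ι ≫ (U m).ι ≫ p ≫ Sigma.ι g m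
        rw [pullback.condition_assoc]
      · have hemp : IsEmpty ↥(pullback (𝒰.f m) (𝒰.f m')) := by
          refine ⟨fun z => h ?_⟩
          have hc := congrArg (fun q => q.base z)
            (pullback.condition (f := 𝒰.f m) (g := 𝒰.f m'))
          have h1 : φ ((pullback.fst (𝒰.f m) (𝒰.f m') ≫ 𝒰.f m).base z) = m :=
            ((pullback.fst (𝒰.f m) (𝒰.f m')).base z).2
          have h2 : φ ((pullback.snd (𝒰.f m) (𝒰.f m') ≫ 𝒰.f m').base z) = m' :=
            ((pullback.snd (𝒰.f m) (𝒰.f m')).base z).2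
          exact h1.symm.trans ((congrArg φ hc).trans h2)
        exact (isInitialOfIsEmpty).hom_ext _ _
    let f := 𝒰.glueMorphisms gl compat
    have hf : ∀ m, (U m).ι ≫ f = gl m := fun m => 𝒰.ι_glueMorphisms gl compat m
    refine ⟨f, ?_, ?_⟩
    · apply 𝒰.hom_ext
      intro (m : M)
      show (U m).ι ≫ f ≫ _ = (U m).ι ≫ p
      rw [← Category.assoc, hf m]
      show ((U m).ι ≫ p ≫ Sigma.ι g m) ≫ Sigma.desc (fun _ : M => 𝟙 S) = (U m).ι ≫ p
      rw [Category.assoc, Category.assoc, hd m, Category.comp_id]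
    · intro t
      let t' : ↥(U (φ t)) := ⟨t, rfl⟩
      have h3 : f.base t = (Sigma.ι g (φ t)).base (p.base t) := by
        have h4 := congrArg (fun q => q.base t') (hf (φ t))
        exact h4
      rw [h3, hidx_ι]
  have uniq : ∀ f₁ f₂ : T ⟶ ∐ g, f₁ ≫ Sigma.desc (fun _ : M => 𝟙 S) = p →
      f₂ ≫ Sigma.desc (fun _ : M => 𝟙 S) = p →
      (∀ t, idx (f₁.base t) = idx (f₂.base t)) → f₁ = f₂ := by
    intro f₁ f₂ h₁ h₂ hidx12
    apply Scheme.hom_ext_of_forall
    intro t
    let m := idx (f₁.base t)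
    let V : T.Opens := ⟨(fun t => idx (f₁.base t)) ⁻¹' {m},
      (hidx.comp_continuous f₁.continuous).isOpen_fiber m⟩
    refine ⟨V, rfl, ?_⟩
    have key : ∀ f' : T ⟶ ∐ g, f' ≫ Sigma.desc (fun _ : M => 𝟙 S) = p →
        (∀ t ∈ V, idx (f'.base t) = m) → V.ι ≫ f' = V.ι ≫ p ≫ Sigma.ι g m := by
      intro f' hf' hV
      have hr : Set.range (V.ι ≫ f').base ⊆ Set.range (Sigma.ι g m).base := by
        rintro _ ⟨x, rfl⟩
        exact hidx_range _ m (hV x.1 x.2)
      have hl := IsOpenImmersion.lift_fac (Sigma.ι g m) (V.ι ≫ f') hr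
      have h5 : IsOpenImmersion.lift (Sigma.ι g m) (V.ι ≫ f') hr = V.ι ≫ p := by
        have h6 : IsOpenImmersion.lift (Sigma.ι g m) (V.ι ≫ f') hr ≫ Sigma.ι g m ≫
            Sigma.desc (fun _ : M => 𝟙 S) = V.ι ≫ p := by
          rw [← Category.assoc, hl, Category.assoc, hf']
        rwa [hd m, Category.comp_id] at h6
      rw [← hl, h5, Category.assoc]
    rw [key f₁ h₁ (fun t ht => ht), key f₂ h₂ (fun t ht => (hidx12 t).symm.trans ht)]
  choose inv hinv1 hinv2 using inv_exists
  refine ⟨{ toFun := fwd, invFun := fun φ => ⟨inv φ, hinv1 φ⟩, left_inv := ?_, right_inv := ?_ },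
    fun f t => rfl⟩
  · intro f
    apply Subtype.ext
    exact uniq (inv (fwd f)) f.1 (hinv1 _) f.2 (fun t => hinv2 (fwd f) t)
  · intro φ
    ext t
    exact hinv2 φ t

end Groth.Agent.S13131
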