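import Groth.Statements.S13132
import Groth.Agent.H57.NilReg

set_option autoImplicit false
universe u v
open CAlg

namespace Groth.Agent.S13132


theorem mem_nzd_iff {T : Type*} [CommRing T] (x : T) :
    x ∈ nonZeroDivisors T ↔ RingTheory.Sequence.IsWeaklyRegular T [x] := by
  rw [RingTheory.Sequence.isWeaklyRegular_singleton_iff, ← isRegular_iff_mem_nonZeroDivisors]
  constructor
  · intro h
    exact h.left
  · intro h
    refine ⟨h, fun a b hab => h ?_⟩
    show x * a = x * b
    rw [mul_comm x a, mul_comm x b]
    exact hab

/-- Let A' be an Artinian local ring, I a proper ideal of A' and S' a flat A'-algebra. An element f' of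
S' is a non-zero-divisor exactly when its image in S'/IS' is one; and when f' is a non-zero-divisor,
the quotient S'/(f') is flat over A'. (The published statement is for local Artinian algebras with a
fixed residue field over a ring of Witt vectors and a surjection between two of them; the argument
uses only that A' is Artinian local and I is a proper ideal, which is the form taken here.) -/
theorem result
    {A' : Type u} [CommRing A'] [IsArtinianRing A'] [IsLocalRing A'] (I : Ideal A') (hI : I ≠ ⊤)
    {S' : Type v} [CommRing S'] [Algebra A' S'] [Module.Flat A' S'] (f' : S') :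
    (f' ∈ nonZeroDivisors S' ↔
      Ideal.Quotient.mk (I.map (algebraMap A' S')) f' ∈ nonZeroDivisors (S' ⧸ I.map (algebraMap A' S'))) ∧
    (f' ∈ nonZeroDivisors S' → Module.Flat A' (S' ⧸ Ideal.span {f'})) := by
  have hnil : IsNilpotent (IsLocalRing.maximalIdeal A') := by
    have h0 := IsArtinianRing.isNilpotent_jacobson_bot (R := A')
    rwa [IsLocalRing.jacobson_eq_maximalIdeal ⊥ bot_ne_top] at h0
  refine ⟨?_, ?_⟩
  · rw [mem_nzd_iff, mem_nzd_iff]
    constructor
    · intro h
      exact Groth.Agent.H57.isWeaklyRegular_quotient_base_of_isWeaklyRegular hnil I [f'] h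
    · intro h
      exact (Groth.Agent.H57.isWeaklyRegular_and_flat_of_quotient_base hnil I hI [f'] h).1
  · intro hf
    rw [mem_nzd_iff] at hf
    obtain ⟨h1, -⟩ :=
      Groth.Agent.H57.flat_take_and_isWeaklyRegular_quot_of_nilpotent hnil [f'] S' hf
    have h2 := h1 1 (by simp)
    have e : (Ideal.ofList (List.take 1 [f']) • ⊤ : Submodule S' S') = Ideal.span {f'} := by
      rw [smul_eq_mul, Ideal.mul_top]
      exact Ideal.ofList_singleton f'
    haveI := h2
    exact Module.Flat.of_linearEquiv ((Submodule.quotEquivOfEq _ _ e.symm).restrictScalars A')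

end Groth.Agent.S13132
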