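import Groth.Statements.S13133
import Groth.Agent.H57.NilReg

set_option autoImplicit false
universe u v
open CAlg

namespace Groth.Agent.S13133

/-- Let A' be an Artinian local ring, I a proper ideal of A', S' a flat A'-algebra and f'_1, …, f'_n
elements of S' with n ≥ 1. A family f'_1, …, f'_n in S' is a regular sequence exactly when its
reduction modulo I·S' is a regular sequence of S'/IS'. (Regular sequences are defined in the
published text over Noetherian rings; this row does not assume S' Noetherian, which the argument
does not use. The published statement is for a surjection of local Artinian algebras with a fixed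
residue field over a ring of Witt vectors; only the Artinian local base and the proper ideal are
used, which is the form taken here.) -/
theorem result
    {A' : Type u} [CommRing A'] [IsArtinianRing A'] [IsLocalRing A'] (I : Ideal A') (hI : I ≠ ⊤)
    {S' : Type v} [CommRing S'] [Algebra A' S'] [Module.Flat A' S'] {n : ℕ} (hn : 1 ≤ n)
    (f' : Fin n → S') :
    RingTheory.Sequence.IsRegular S' (List.ofFn f') ↔
      RingTheory.Sequence.IsRegular (S' ⧸ I.map (algebraMap A' S'))
        (List.ofFn fun i => Ideal.Quotient.mk (I.map (algebraMap A' S')) (f' i)) := by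
  have hnil : IsNilpotent (IsLocalRing.maximalIdeal A') := by
    have h0 := IsArtinianRing.isNilpotent_jacobson_bot (R := A')
    rwa [IsLocalRing.jacobson_eq_maximalIdeal ⊥ bot_ne_top] at h0
  have hlist : List.ofFn (fun i => Ideal.Quotient.mk (I.map (algebraMap A' S')) (f' i)) =
      (List.ofFn f').map (Ideal.Quotient.mk (I.map (algebraMap A' S'))) := by
    rw [List.map_ofFn]
    rfl
  rw [hlist]
  constructor
  · intro h
    refine ⟨Groth.Agent.H57.isWeaklyRegular_quotient_base_of_isWeaklyRegular hnil I _
      h.toIsWeaklyRegular, ?_⟩
    have h1 : Ideal.ofList (List.ofFn f') ≠ ⊤ := by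
      intro h2
      apply h.top_ne_smul
      rw [h2, Submodule.top_smul]
    have h3 := Groth.Agent.H57.sup_map_ne_top_of_nilpotent hnil I hI _ h1
    rw [Ideal.map_ofList] at h3
    intro h4
    apply h3
    rw [smul_eq_mul, Ideal.mul_top] at h4
    exact h4.symm
  · intro h
    obtain ⟨h1, -⟩ := Groth.Agent.H57.isWeaklyRegular_and_flat_of_quotient_base hnil I hI _
      h.toIsWeaklyRegular
    refine ⟨h1, ?_⟩
    intro h2
    apply h.top_ne_smul
    rw [smul_eq_mul, Ideal.mul_top] at h2 ⊢
    rw [← Ideal.map_ofList, ← h2, Ideal.map_top]

end Groth.Agent.S13133
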