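import Groth.Statements.S13134
import Groth.Agent.H57.RegFlat2
import Mathlib.RingTheory.Polynomial.Quotient

set_option autoImplicit false
universe u v
open CAlg

namespace Groth.Agent.S13134

open scoped Pointwise in
/-- Nakayama for a nilpotent ideal, relative form. -/
theorem le_of_le_sup_smul {A : Type*} [CommRing A] {X : Type*} [AddCommGroup X] [Module A X]
    (I : Ideal A) (hI : IsNilpotent I) (N P : Submodule A X) (h : N ≤ P ⊔ I • N) : N ≤ P := by
  obtain ⟨k, hk⟩ := hI
  have key : ∀ j : ℕ, N ≤ P ⊔ I ^ j • N := by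
    intro j
    induction j with
    | zero =>
      rw [pow_zero, Ideal.one_eq_top, Submodule.top_smul]
      exact le_sup_right
    | succ j ih =>
      calc N ≤ P ⊔ I • N := h
        _ ≤ P ⊔ I • (P ⊔ I ^ j • N) := sup_le_sup_left (Submodule.smul_mono le_rfl ih) P
        _ ≤ P ⊔ I ^ (j + 1) • N := by
            rw [Submodule.smul_sup, ← Submodule.mul_smul, ← pow_succ']
            exact sup_le le_sup_left
              (sup_le (le_sup_of_le_left Submodule.smul_le_right) le_sup_right)
  have h2 := key k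
  rwa [hk, Ideal.zero_eq_bot, Submodule.bot_smul, sup_bot_eq] at h2


/-- Let A' be an Artinian local ring, I a proper ideal, A = A'/I and f_1, …, f_m ∈ A[x_1, …, x_n]. Every
flat A'-algebra B' equipped with a surjection π onto A[x]/(f_1, …, f_m) with kernel I·B', compatible
with A' → A, is a quotient of A'[x_1, …, x_n] by the ideal generated by some lifts f'_1, …, f'_m of
the f_i, compatibly with π and with reduction of polynomials modulo I. (The published statement is
for a surjection of local Artinian algebras with a fixed residue field over a ring of Witt vectors;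
only the Artinian local base and the proper ideal are used, which is the form taken here.) -/
theorem result
    {A' : Type u} [CommRing A'] [IsArtinianRing A'] [IsLocalRing A'] (I : Ideal A') (hI : I ≠ ⊤)
    {n m : ℕ} (f : Fin m → MvPolynomial (Fin n) (A' ⧸ I))
    {B' : Type v} [CommRing B'] [Algebra A' B'] [Module.Flat A' B']
    (π : B' →+* MvPolynomial (Fin n) (A' ⧸ I) ⧸ Ideal.span (Set.range f))
    (hπ : Function.Surjective π) (hker : RingHom.ker π = I.map (algebraMap A' B'))
    (hcomp : π.comp (algebraMap A' B') =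
      ((Ideal.Quotient.mk (Ideal.span (Set.range f))).comp MvPolynomial.C).comp (Ideal.Quotient.mk I)) :
    ∃ (f' : Fin m → MvPolynomial (Fin n) A') (ψ : MvPolynomial (Fin n) A' →ₐ[A'] B'),
      (∀ i, MvPolynomial.map (Ideal.Quotient.mk I) (f' i) = f i) ∧
      Function.Surjective ψ ∧ RingHom.ker ψ.toRingHom = Ideal.span (Set.range f') ∧
      ∀ q, π (ψ q) = Ideal.Quotient.mk (Ideal.span (Set.range f)) (MvPolynomial.map (Ideal.Quotient.mk I) q) := by
  classical
  have hnilm : IsNilpotent (IsLocalRing.maximalIdeal A') := by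
    have h0 := IsArtinianRing.isNilpotent_jacobson_bot (R := A')
    rwa [IsLocalRing.jacobson_eq_maximalIdeal ⊥ bot_ne_top] at h0
  have hInil : IsNilpotent I := by
    obtain ⟨k, hk⟩ := hnilm
    refine ⟨k, ?_⟩
    have h1 := Ideal.pow_right_mono (IsLocalRing.le_maximalIdeal hI) k
    rw [hk, Ideal.zero_eq_bot] at h1
    rw [Ideal.zero_eq_bot]
    exact le_bot_iff.mp h1
  have hb : ∀ j : Fin n, ∃ b : B', π b =
      Ideal.Quotient.mk (Ideal.span (Set.range f)) (MvPolynomial.X j) := fun j => hπ _
  choose b hb using hb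
  obtain ⟨ψ, hψX⟩ : ∃ ψ : MvPolynomial (Fin n) A' →ₐ[A'] B', ∀ j, ψ (MvPolynomial.X j) = b j :=
    ⟨MvPolynomial.aeval b, MvPolynomial.aeval_X b⟩
  have hψC : ∀ a : A', ψ (MvPolynomial.C a) = algebraMap A' B' a := by
    intro a
    rw [← MvPolynomial.algebraMap_eq]
    exact ψ.commutes a
  have hcompat : ∀ q, π (ψ q) = Ideal.Quotient.mk (Ideal.span (Set.range f))
      (MvPolynomial.map (Ideal.Quotient.mk I) q) := by
    intro q
    induction q using MvPolynomial.induction_on with
    | C a =>
      rw [hψC, MvPolynomial.map_C]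
      exact RingHom.congr_fun hcomp a
    | add p q hp hq => rw [map_add, map_add, hp, hq, map_add, map_add]
    | mul_X p j hp =>
      rw [map_mul, map_mul, hp, hψX, hb, map_mul, MvPolynomial.map_X, map_mul]
  have hkerπ : ∀ x : B', π x = 0 ↔ x ∈ (I • ⊤ : Submodule A' B') := by
    intro x
    rw [← RingHom.mem_ker, hker, ← Groth.Agent.H57.mem_map_smul_top_iff (B := B') B' I x,
      smul_eq_mul, Ideal.mul_top]
  have hsurj : Function.Surjective ψ := by
    have h1 : (⊤ : Submodule A' B') ≤ LinearMap.range ψ.toLinearMap ⊔ I • ⊤ := by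
      intro x _
      obtain ⟨qb, hqb⟩ := Ideal.Quotient.mk_surjective (π x)
      obtain ⟨q, rfl⟩ := MvPolynomial.map_surjective (Ideal.Quotient.mk I)
        Ideal.Quotient.mk_surjective qb
      have h2 : π (x - ψ q) = 0 := by rw [map_sub, hcompat, hqb, sub_self]
      rw [hkerπ] at h2
      have hx : x = ψ q + (x - ψ q) := by abel
      rw [hx]
      exact Submodule.add_mem_sup ⟨q, rfl⟩ h2
    have h2 := le_of_le_sup_smul I hInil ⊤ _ h1
    intro x
    obtain ⟨q, hq⟩ := h2 (Submodule.mem_top : x ∈ ⊤)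
    exact ⟨q, hq⟩
  have hImap : ∀ x ∈ (I • ⊤ : Submodule A' B'),
      ∃ h ∈ (I • ⊤ : Submodule A' (MvPolynomial (Fin n) A')), ψ h = x := by
    intro x hx
    refine Submodule.smul_induction_on hx ?_ ?_
    · intro a ha y _
      obtain ⟨q, rfl⟩ := hsurj y
      exact ⟨a • q, Submodule.smul_mem_smul ha Submodule.mem_top, map_smul ψ a q⟩
    · rintro x y ⟨h₁, hh₁, rfl⟩ ⟨h₂, hh₂, rfl⟩
      exact ⟨h₁ + h₂, add_mem hh₁ hh₂, map_add ψ _ _⟩
  have hmapI : ∀ h ∈ (I • ⊤ : Submodule A' (MvPolynomial (Fin n) A')),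
      MvPolynomial.map (Ideal.Quotient.mk I) h = 0 := by
    intro h hh
    refine Submodule.smul_induction_on hh ?_ ?_
    · intro a ha q _
      rw [MvPolynomial.smul_eq_C_mul, map_mul, MvPolynomial.map_C,
        Ideal.Quotient.eq_zero_iff_mem.mpr ha, map_zero, zero_mul]
    · intro x y hx hy
      rw [map_add, hx, hy, add_zero]
  have hImem : ∀ q, MvPolynomial.map (Ideal.Quotient.mk I) q = 0 →
      q ∈ (I • ⊤ : Submodule A' (MvPolynomial (Fin n) A')) := by
    intro q hq
    have h1 : q ∈ RingHom.ker (MvPolynomial.map (σ := Fin n) (Ideal.Quotient.mk I)) := hq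
    rw [MvPolynomial.ker_map, Ideal.mk_ker] at h1
    rw [← Groth.Agent.H57.mem_map_smul_top_iff (B := MvPolynomial (Fin n) A')
      (MvPolynomial (Fin n) A') I q, smul_eq_mul, Ideal.mul_top]
    rwa [MvPolynomial.algebraMap_eq]
  have hlift : ∀ i, ∃ f'i : MvPolynomial (Fin n) A',
      MvPolynomial.map (Ideal.Quotient.mk I) f'i = f i ∧ ψ f'i = 0 := by
    intro i
    obtain ⟨g, hg⟩ := MvPolynomial.map_surjective (Ideal.Quotient.mk I)
      Ideal.Quotient.mk_surjective (f i)
    have h1 : π (ψ g) = 0 := by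
      rw [hcompat, hg, Ideal.Quotient.eq_zero_iff_mem]
      exact Ideal.subset_span ⟨i, rfl⟩
    obtain ⟨h, hh, hψh⟩ := hImap _ ((hkerπ _).mp h1)
    exact ⟨g - h, by rw [map_sub, hg, hmapI h hh, sub_zero], by rw [map_sub, hψh, sub_self]⟩
  choose f' hf'1 hf'2 using hlift
  refine ⟨f', ψ, hf'1, hsurj, ?_, hcompat⟩
  apply le_antisymm
  · haveI : Module.Flat A' (MvPolynomial (Fin n) A' ⧸ LinearMap.ker ψ.toLinearMap) :=
      Module.Flat.of_linearEquiv (LinearMap.quotKerEquivOfSurjective ψ.toLinearMap hsurj)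
    have hK : LinearMap.ker ψ.toLinearMap ≤
        (Ideal.span (Set.range f')).restrictScalars A' ⊔ I • LinearMap.ker ψ.toLinearMap := by
      intro q hq
      have hq0 : ψ q = 0 := hq
      have h1 : MvPolynomial.map (Ideal.Quotient.mk I) q ∈ Ideal.span (Set.range f) := by
        rw [← Ideal.Quotient.eq_zero_iff_mem, ← hcompat, hq0, map_zero]
      obtain ⟨c, hc⟩ := Ideal.mem_span_range_iff_exists_fun.mp h1
      have hc' : ∀ i, ∃ c'i, MvPolynomial.map (Ideal.Quotient.mk I) c'i = c i :=
        fun i => MvPolynomial.map_surjective _ Ideal.Quotient.mk_surjective (c i)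
      choose c' hc' using hc'
      have hq₁F : (∑ i, c' i * f' i) ∈ Ideal.span (Set.range f') :=
        Ideal.sum_mem _ (fun i _ => Ideal.mul_mem_left _ _ (Ideal.subset_span ⟨i, rfl⟩))
      have hq₁K : ψ (∑ i, c' i * f' i) = 0 := by
        rw [map_sum]
        exact Finset.sum_eq_zero (fun i _ => by rw [map_mul, hf'2, mul_zero])
      have h2 : MvPolynomial.map (Ideal.Quotient.mk I) (q - ∑ i, c' i * f' i) = 0 := by
        rw [map_sub, map_sum, ← hc, sub_eq_zero]
        exact Finset.sum_congr rfl (fun i _ => by rw [map_mul, hc', hf'1])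
      have h3 : q - ∑ i, c' i * f' i ∈ I • LinearMap.ker ψ.toLinearMap :=
        Groth.Agent.H57.mem_smul_of_mem_of_mem_smul_top I _ (q - ∑ i, c' i * f' i)
          (by
            show ψ (q - ∑ i, c' i * f' i) = 0
            rw [map_sub, hq0, hq₁K, sub_zero]) (hImem _ h2)
      have hq : q = (∑ i, c' i * f' i) + (q - ∑ i, c' i * f' i) := by abel
      rw [hq]
      exact Submodule.add_mem_sup hq₁F h3
    intro q hq
    have hq' : ψ q = 0 := hq
    exact le_of_le_sup_smul I hInil _ _ hK (show q ∈ LinearMap.ker ψ.toLinearMap from hq')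
  · rw [Ideal.span_le]
    rintro _ ⟨i, rfl⟩
    exact hf'2 i

end Groth.Agent.S13134
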