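import Groth.Statements.S13135
import Groth.Agent.H57.NilReg
import Mathlib.RingTheory.Polynomial.Quotient

set_option autoImplicit false
universe u
open CAlg

namespace Groth.Agent.S13135

/-- Let A' be an Artinian local ring, I a proper ideal, A = A'/I and f_1, …, f_m a regular sequence in
A[x_1, …, x_n]. For every choice of lifts f'_1, …, f'_m in A'[x_1, …, x_n] the quotient A'[x]/(f'_1,
…, f'_m) is flat over A' (so it is a flat lifting of A[x]/(f_1, …, f_m)). (The published statement
is for a surjection of local Artinian algebras with a fixed residue field over a ring of Witt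
vectors; only the Artinian local base and the proper ideal are used, which is the form taken here.) -/
theorem result
    {A' : Type u} [CommRing A'] [IsArtinianRing A'] [IsLocalRing A'] (I : Ideal A') (hI : I ≠ ⊤)
    {n m : ℕ} (f : Fin m → MvPolynomial (Fin n) (A' ⧸ I))
    (hreg : RingTheory.Sequence.IsRegular (MvPolynomial (Fin n) (A' ⧸ I)) (List.ofFn f))
    (f' : Fin m → MvPolynomial (Fin n) A') (hf' : ∀ i, MvPolynomial.map (Ideal.Quotient.mk I) (f' i) = f i) :
    Module.Flat A' (MvPolynomial (Fin n) A' ⧸ Ideal.span (Set.range f')) := by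
  classical
  have hnil : IsNilpotent (IsLocalRing.maximalIdeal A') := by
    have h0 := IsArtinianRing.isNilpotent_jacobson_bot (R := A')
    rwa [IsLocalRing.jacobson_eq_maximalIdeal ⊥ bot_ne_top] at h0
  have hφ : ∀ p : MvPolynomial (Fin n) A',
      (MvPolynomial.quotientEquivQuotientMvPolynomial (σ := Fin n) I)
        (MvPolynomial.map (Ideal.Quotient.mk I) p) =
      Ideal.Quotient.mk (Ideal.map MvPolynomial.C I) p := by
    intro p
    have e : MvPolynomial.map (Ideal.Quotient.mk I) p =
        (MvPolynomial.quotientEquivQuotientMvPolynomial (σ := Fin n) I).symm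
          (Ideal.Quotient.mk (Ideal.map MvPolynomial.C I) p) := by
      rw [MvPolynomial.map_eq_eval₂Hom_C_comp]
      rfl
    rw [e, AlgEquiv.apply_symm_apply]
  have hcongr : RingTheory.Sequence.IsWeaklyRegular (MvPolynomial (Fin n) (A' ⧸ I)) (List.ofFn f) ↔
      RingTheory.Sequence.IsWeaklyRegular
        (MvPolynomial (Fin n) A' ⧸ (Ideal.map MvPolynomial.C I : Ideal (MvPolynomial (Fin n) A')))
        ((List.ofFn f).map (MvPolynomial.quotientEquivQuotientMvPolynomial (σ := Fin n) I)) :=
    (MvPolynomial.quotientEquivQuotientMvPolynomial (σ := Fin n)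
      I).toRingEquiv.toAddEquiv.isWeaklyRegular_congr
      (List.forall₂_map_right_iff.mpr (List.forall₂_same.mpr fun r _ x =>
        map_mul (MvPolynomial.quotientEquivQuotientMvPolynomial (σ := Fin n) I) r x))
  have hlist : (List.ofFn f).map (MvPolynomial.quotientEquivQuotientMvPolynomial (σ := Fin n) I) =
      (List.ofFn f').map (Ideal.Quotient.mk (Ideal.map MvPolynomial.C I)) := by
    rw [List.map_ofFn, List.map_ofFn]
    congr 1
    funext i
    rw [Function.comp_apply, Function.comp_apply, ← hf' i, hφ]
  have h1 := hcongr.mp hreg.toIsWeaklyRegular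
  rw [hlist] at h1
  obtain ⟨-, h2⟩ := Groth.Agent.H57.isWeaklyRegular_and_flat_of_quotient_base hnil I hI
    (S := MvPolynomial (Fin n) A') (List.ofFn f') h1
  have h3 := h2 (List.ofFn f').length le_rfl
  rw [List.take_length] at h3
  haveI := h3
  have e : (Ideal.ofList (List.ofFn f') • ⊤ : Submodule (MvPolynomial (Fin n) A')
      (MvPolynomial (Fin n) A')) = Ideal.span (Set.range f') := by
    rw [smul_eq_mul, Ideal.mul_top]
    unfold Ideal.ofList
    congr 1
    ext x
    simp [List.mem_ofFn]
  exact Module.Flat.of_linearEquiv ((Submodule.quotEquivOfEq _ _ e.symm).restrictScalars A')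

end Groth.Agent.S13135
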