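import Groth.Statements.S13141
-- import your own Groth.Agent.* helpers here

set_option autoImplicit false
universe u v w w'
open scoped TensorProduct
open GrpAlg

namespace Groth.Agent.S13141

/-- Let G be a finite group, R a commutative ring with |G| invertible in R, M a projective R-module with
an R-linear G-action and S an R-algebra. The natural map M^G ⊗_R S → M ⊗_R S is injective and its
image is the submodule of G-invariants of M ⊗_R S (G acting on the first factor); that is, M^G ⊗_R S
→ (M ⊗_R S)^G is bijective. -/
theorem result
    (R : Type u) [CommRing R] (G : Type v) [Group G] [Finite G] (hG : IsUnit ((Nat.card G : ℕ) : R))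
    (M : Type w) [AddCommGroup M] [Module R M] [Module.Projective R M] (ρ : Representation R G M)
    (S : Type w') [CommRing S] [Algebra R S] :
    Function.Injective (TensorProduct.map ρ.invariants.subtype (LinearMap.id : S →ₗ[R] S)) ∧
    LinearMap.range (TensorProduct.map ρ.invariants.subtype (LinearMap.id : S →ₗ[R] S)) =
      ⨅ g : G, LinearMap.eqLocus (LinearMap.rTensor S (ρ g)) LinearMap.id := by
  classical
  letI : Fintype G := Fintype.ofFinite G
  obtain ⟨u, hu⟩ := hG.exists_left_inv
  -- the averaging operator
  let E : M →ₗ[R] M := u • ∑ g : G, ρ g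
  have hE : ∀ m : M, E m = u • ∑ g : G, ρ g m := by
    intro m
    simp [E, LinearMap.sum_apply]
  have hEinv : ∀ m : M, E m ∈ ρ.invariants := by
    intro m h
    rw [hE, map_smul, map_sum]
    congr 1
    have h1 : ∀ g : G, ρ h (ρ g m) = ρ (h * g) m := fun g => by rw [map_mul]; rfl
    simp only [h1]
    exact Fintype.sum_bijective (h * ·) (Group.mulLeft_bijective h) _ _ (fun _ => rfl)
  have hEfix : ∀ m ∈ ρ.invariants, E m = m := by
    intro m hm
    rw [hE]
    have h2 : ∀ g : G, ρ g m = m := hm
    simp only [h2, Finset.sum_const, Finset.card_univ]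
    rw [← Nat.cast_smul_eq_nsmul R, smul_smul, Fintype.card_eq_nat_card, hu, one_smul]
  let E' : M →ₗ[R] ρ.invariants := E.codRestrict ρ.invariants hEinv
  have hE'sub : E'.comp ρ.invariants.subtype = LinearMap.id := by
    ext m
    exact hEfix m.1 m.2
  have hsubE' : ρ.invariants.subtype.comp E' = E := by
    ext m
    rfl
  constructor
  · have hleft : Function.LeftInverse (TensorProduct.map E' (LinearMap.id : S →ₗ[R] S))
        (TensorProduct.map ρ.invariants.subtype (LinearMap.id : S →ₗ[R] S)) := by
      intro y
      rw [← LinearMap.comp_apply, ← TensorProduct.map_comp, hE'sub, LinearMap.id_comp,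
        TensorProduct.map_id, LinearMap.id_apply]
    exact hleft.injective
  · apply le_antisymm
    · rintro _ ⟨y, rfl⟩
      rw [Submodule.mem_iInf]
      intro g
      rw [LinearMap.mem_eqLocus, LinearMap.id_apply, LinearMap.rTensor, ← LinearMap.comp_apply,
        ← TensorProduct.map_comp, LinearMap.id_comp]
      congr 2
      ext m
      exact m.2 g
    · intro x hx
      rw [Submodule.mem_iInf] at hx
      have hx' : ∀ g : G, LinearMap.rTensor S (ρ g) x = x := fun g => by
        have h3 := hx g
        rwa [LinearMap.mem_eqLocus, LinearMap.id_apply] at h3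
      have h4 : LinearMap.rTensor S E x = x := by
        have h5 : LinearMap.rTensor S E = u • ∑ g : G, LinearMap.rTensor S (ρ g) := by
          show LinearMap.rTensorHom S E = _
          simp only [E, map_smul, map_sum]
          rfl
        rw [h5, LinearMap.smul_apply, LinearMap.sum_apply]
        simp only [hx', Finset.sum_const, Finset.card_univ]
        rw [← Nat.cast_smul_eq_nsmul R, smul_smul, Fintype.card_eq_nat_card, hu, one_smul]
      refine ⟨LinearMap.rTensor S E' x, ?_⟩
      have h6 : LinearMap.rTensor S E x = (TensorProduct.map ρ.invariants.subtype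
          (LinearMap.id : S →ₗ[R] S)) (LinearMap.rTensor S E' x) := by
        rw [← hsubE', LinearMap.rTensor_comp]
        rfl
      rw [← h6, h4]

end Groth.Agent.S13141
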