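import Groth.Statements.S13142
import Mathlib.RingTheory.Flat.Basic
import Mathlib.Algebra.Module.Projective
import Mathlib.Algebra.MvPolynomial.Basic
import Mathlib.LinearAlgebra.FreeModule.Basic
import Mathlib.RingTheory.MvPolynomial.Basic

set_option autoImplicit false
universe u v
open GrpAlg

namespace Groth.Agent.S13142

/-- Let G be a finite group and R a commutative ring with |G| invertible in R, acting on R[x_1, …, x_n]
by R-algebra automorphisms. The invariant subring R[x_1, …, x_n]^G is a flat R-module (so the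
quotient of affine n-space over R by G is flat over R). -/
theorem result
    (R : Type u) [CommRing R] (G : Type v) [Group G] [Finite G] (hG : IsUnit ((Nat.card G : ℕ) : R))
    (n : ℕ) (ρ : G →* (MvPolynomial (Fin n) R ≃ₐ[R] MvPolynomial (Fin n) R)) :
    Module.Flat R ↥(⨅ g : G, LinearMap.eqLocus (ρ g).toLinearMap (LinearMap.id : MvPolynomial (Fin n) R →ₗ[R] MvPolynomial (Fin n) R)) := by
  classical
  letI : Fintype G := Fintype.ofFinite G
  obtain ⟨u, hu⟩ := hG.exists_left_inv
  let E : MvPolynomial (Fin n) R →ₗ[R] MvPolynomial (Fin n) R := u • ∑ g : G, (ρ g).toLinearMap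
  have hE : ∀ m, E m = u • ∑ g : G, ρ g m := by
    intro m
    simp [E, LinearMap.sum_apply]
  have hmem : ∀ m : MvPolynomial (Fin n) R,
      m ∈ (⨅ g : G, LinearMap.eqLocus (ρ g).toLinearMap
        (LinearMap.id : MvPolynomial (Fin n) R →ₗ[R] MvPolynomial (Fin n) R)) ↔
        ∀ g : G, ρ g m = m := by
    intro m
    rw [Submodule.mem_iInf]
    exact Iff.rfl
  have hEinv : ∀ m, E m ∈ (⨅ g : G, LinearMap.eqLocus (ρ g).toLinearMap
      (LinearMap.id : MvPolynomial (Fin n) R →ₗ[R] MvPolynomial (Fin n) R)) := by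
    intro m
    rw [hmem]
    intro h
    rw [hE, map_smul, map_sum]
    congr 1
    have h1 : ∀ g : G, ρ h (ρ g m) = ρ (h * g) m := fun g => by rw [map_mul]; rfl
    simp only [h1]
    exact Fintype.sum_bijective (h * ·) (Group.mulLeft_bijective h) _ _ (fun _ => rfl)
  have hEfix : ∀ m ∈ (⨅ g : G, LinearMap.eqLocus (ρ g).toLinearMap
      (LinearMap.id : MvPolynomial (Fin n) R →ₗ[R] MvPolynomial (Fin n) R)), E m = m := by
    intro m hm
    rw [hmem] at hm
    rw [hE]
    simp only [hm, Finset.sum_const, Finset.card_univ]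
    rw [← Nat.cast_smul_eq_nsmul R, smul_smul, Fintype.card_eq_nat_card, hu, one_smul]
  haveI : Module.Projective R ↥(⨅ g : G, LinearMap.eqLocus (ρ g).toLinearMap
      (LinearMap.id : MvPolynomial (Fin n) R →ₗ[R] MvPolynomial (Fin n) R)) :=
    Module.Projective.of_split (Submodule.subtype _) (E.codRestrict _ hEinv) (by
      refine LinearMap.ext fun m => Subtype.ext ?_
      exact hEfix m.1 m.2)
  infer_instance

end Groth.Agent.S13142
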