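import Groth.Statements.S13147
import Groth.Agent.H96.TruncV
import Groth.Agent.H96.W2Flat

set_option autoImplicit false
universe u
open FrobAlg

namespace Groth.Agent.S13147

/-- Let k be a perfect field of characteristic p and (A, φ) a k-algebra with a Frobenius splitting (φ
additive, φ(a^p b) = a φ(b), φ(1) = 1). The quotient of W₂(A) by the ideal generated by the Witt
vectors (0, a) with φ(a) = 0 — the ring of twisted Witt vectors of (A, φ) — is a flat lifting of A
over W₂(k): flat over W₂(k), with reduction map onto A induced by (a₀, a₁) ↦ a₀ whose kernel is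
generated by the maximal ideal of W₂(k). (The published statement also asserts that a morphism of
algebras with Frobenius splittings compatible with the splittings induces a ring map between these
quotients; that part is not stated here.) -/
theorem result
    (p : ℕ) [Fact p.Prime] (k : Type u) [Field k] [CharP k p] [PerfectRing k p]
    (A : Type u) [CommRing A] [Algebra k A] (φ : A →+ A)
    (hφ : ∀ a b : A, φ (a ^ p * b) = a * φ b) (hφ1 : φ 1 = 1) :
    FrobAlg.IsLift p k A (FrobAlg.W2 p A ⧸ FrobAlg.splitIdeal p A φ)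
      ((Ideal.Quotient.mk (FrobAlg.splitIdeal p A φ)).comp (WittGrp.truncMap p 2 (algebraMap k A)))
      (FrobAlg.splitRes p A φ) := by
  have hpA : (p : A) = 0 := by
    rw [← map_natCast (algebraMap k A) p, CharP.cast_eq_zero k p, map_zero]
  let σ : TruncatedWittVector p 1 A →+ A :=
    φ.comp (Groth.Agent.H96.TruncV.c0 1 one_pos).toAddMonoidHom
  have h1 : σ 1 = 1 := by
    show φ (Groth.Agent.H96.TruncV.c0 1 one_pos 1) = 1
    rw [map_one, hφ1]
  have hF : ∀ x y : TruncatedWittVector p 1 A,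
      σ (WittGrp.frob p 1 hpA x * y) = x.coeff ⟨0, one_pos⟩ * σ y := by
    intro x y
    show φ (Groth.Agent.H96.TruncV.c0 1 one_pos (WittGrp.frob p 1 hpA x * y)) = _
    rw [map_mul, Groth.Agent.H96.TruncV.c0_apply, WittGrp.coeff_frob, hφ]
    rfl
  have hI : FrobAlg.splitIdeal p A φ = Ideal.span (WittGrp.shift p (Nat.le_succ 1) ''
      {x : TruncatedWittVector p 1 A | σ x = 0}) := by
    unfold FrobAlg.splitIdeal
    congr 1
    ext w
    constructor
    · rintro ⟨hw0, hw1⟩
      rw [FrobAlg.res_apply] at hw0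
      obtain ⟨x, rfl⟩ := Groth.Agent.H96.TruncV.exists_shift_of_coeff_zero 1 w hw0
      refine ⟨x, ?_, rfl⟩
      show φ (x.coeff ⟨0, one_pos⟩) = 0
      rw [← Groth.Agent.H96.TruncV.coeff_shift_succ 1 x ⟨0, one_pos⟩]
      exact hw1
    · rintro ⟨x, hx, rfl⟩
      refine ⟨?_, ?_⟩
      · rw [FrobAlg.res_apply]; exact Groth.Agent.H96.TruncV.coeff_shift_zero 1 x
      · have h2 : (WittGrp.shift p (Nat.le_succ 1) x).coeff 1 = x.coeff ⟨0, one_pos⟩ :=
          Groth.Agent.H96.TruncV.coeff_shift_succ 1 x ⟨0, one_pos⟩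
        rw [h2]; exact hx
  have hmem := Groth.Agent.H96.TruncV.mk_mem_span_p_iff 1 hpA one_pos σ h1 hF
    (FrobAlg.splitIdeal p A φ) hI
  have hpz := Groth.Agent.H96.TruncV.p_mul_eq_zero_iff 1 hpA one_pos σ h1 hF
    (FrobAlg.splitIdeal p A φ) hI
  have hπmk : ∀ x : FrobAlg.W2 p A,
      FrobAlg.splitRes p A φ (Ideal.Quotient.mk (FrobAlg.splitIdeal p A φ) x) = x.coeff 0 := by
    intro x
    unfold FrobAlg.splitRes
    rw [Ideal.Quotient.lift_mk, FrobAlg.res_apply]
  refine ⟨?_, ?_, ?_, ?_⟩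
  · letI alg : Algebra (FrobAlg.W2 p k) (FrobAlg.W2 p A ⧸ FrobAlg.splitIdeal p A φ) :=
      RingHom.toAlgebra ((Ideal.Quotient.mk (FrobAlg.splitIdeal p A φ)).comp
        (WittGrp.truncMap p 2 (algebraMap k A)))
    show Module.Flat (FrobAlg.W2 p k) (FrobAlg.W2 p A ⧸ FrobAlg.splitIdeal p A φ)
    rw [Groth.Agent.H96.W2Flat.w2_flat_iff p k _]
    intro q hq
    rw [Nat.cast_smul_eq_nsmul, nsmul_eq_mul] at hq
    obtain ⟨a, ha⟩ := Ideal.mem_span_singleton'.1 ((hpz q).1 hq)
    exact ⟨a, by rw [Nat.cast_smul_eq_nsmul, nsmul_eq_mul, mul_comm, ha]⟩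
  · intro a
    refine ⟨Ideal.Quotient.mk _ (TruncatedWittVector.mk p fun i => if (i : ℕ) = 0 then a else 0), ?_⟩
    rw [hπmk, TruncatedWittVector.coeff_mk]
    simp
  · have hker : RingHom.ker (FrobAlg.res p k) = Ideal.span {(p : FrobAlg.W2 p k)} := by
      ext x
      rw [RingHom.mem_ker, FrobAlg.res_apply]
      exact Groth.Agent.H96.coeffZero_eq_zero_iff 1 x
    rw [hker, Ideal.map_span, Set.image_singleton, map_natCast]
    ext q
    obtain ⟨w, rfl⟩ := Ideal.Quotient.mk_surjective q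
    rw [RingHom.mem_ker, hπmk]
    exact (hmem w).symm
  · refine RingHom.ext fun x => ?_
    show FrobAlg.splitRes p A φ (Ideal.Quotient.mk _ (WittGrp.truncMap p 2 (algebraMap k A) x)) =
      algebraMap k A (FrobAlg.res p k x)
    rw [hπmk, WittGrp.coeff_truncMap, FrobAlg.res_apply]

end Groth.Agent.S13147
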