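import Groth.Statements.S13148
import Groth.Agent.H3.SL6
import Groth.Agent.H96.EtaleFLift
import Groth.Agent.H96.PolyFrobLift

set_option autoImplicit false
universe u
open FrobAlg

namespace Groth.Agent.S13148

/-- Over a perfect field k of characteristic p, every smooth affine scheme Spec A admits a flat lifting
over W₂(k) together with a lifting of Frobenius (not necessarily unique). -/
theorem result
    (p : ℕ) [Fact p.Prime] (k : Type u) [Field k] [CharP k p] [PerfectRing k p]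
    (A : Type u) [CommRing A] [Algebra k A] [Algebra.Smooth k A] :
    FrobAlg.IsFLiftable p k A := by
  classical
  have hp : Fact p.Prime := inferInstance
  -- the base ring and its square-zero ideal
  obtain ⟨I, hI⟩ : ∃ I : Ideal (FrobAlg.W2 p k), I = RingHom.ker (FrobAlg.res p k) := ⟨_, rfl⟩
  have hressurj : Function.Surjective (FrobAlg.res p k) := Groth.Agent.H96.QuadLift.res_surj p k
  let e : (FrobAlg.W2 p k ⧸ I) ≃+* k :=
    (Ideal.quotEquivOfEq hI).trans (RingHom.quotientKerEquivOfSurjective hressurj)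
  have he : ∀ r : FrobAlg.W2 p k, e (Ideal.Quotient.mk I r) = FrobAlg.res p k r := fun r => rfl
  letI algIk : Algebra (FrobAlg.W2 p k ⧸ I) k := e.toRingHom.toAlgebra
  letI algIA : Algebra (FrobAlg.W2 p k ⧸ I) A := ((algebraMap k A).comp e.toRingHom).toAlgebra
  letI algRA : Algebra (FrobAlg.W2 p k) A :=
    ((algebraMap (FrobAlg.W2 p k ⧸ I) A).comp (Ideal.Quotient.mk I)).toAlgebra
  haveI : IsScalarTower (FrobAlg.W2 p k ⧸ I) k A := IsScalarTower.of_algebraMap_eq (fun x => rfl)
  haveI : IsScalarTower (FrobAlg.W2 p k) (FrobAlg.W2 p k ⧸ I) A :=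
    IsScalarTower.of_algebraMap_eq (fun x => rfl)
  haveI : Algebra.Etale (FrobAlg.W2 p k ⧸ I) k :=
    Algebra.Etale.of_equiv (AlgEquiv.ofRingEquiv (f := e) (fun x => rfl))
  haveI : Algebra.Smooth (FrobAlg.W2 p k ⧸ I) k := ⟨inferInstance, inferInstance⟩
  haveI : Algebra.Smooth (FrobAlg.W2 p k ⧸ I) A := Algebra.Smooth.comp (FrobAlg.W2 p k ⧸ I) k A
  have hRA : ∀ r : FrobAlg.W2 p k, algebraMap (FrobAlg.W2 p k) A r =
      algebraMap k A (FrobAlg.res p k r) := fun r => rfl
  obtain ⟨B, instB, algB, hsmB, Ψ, hΨsurj, hΨker⟩ :=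
    Groth.Agent.H3.SL.exists_smooth_lift (R := FrobAlg.W2 p k) (A₀ := A) I
  have hpA : (p : A) = 0 := by
    rw [← map_natCast (algebraMap k A) p, CharP.cast_eq_zero k p, map_zero]
  have hppB : (p : B) * (p : B) = 0 := by
    rw [← map_natCast (algebraMap (FrobAlg.W2 p k) B) p, ← map_mul,
      Groth.Agent.H96.W2Flat.p_mul_p p k, map_zero]
  have hkerB : ∀ b : B, Ψ b = 0 ↔ ∃ y, y * (p : B) = b := by
    intro b
    rw [← RingHom.mem_ker, hΨker, hI, Groth.Agent.H96.QuadLift.ker_res, Ideal.map_span,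
      Set.image_singleton, map_natCast, Ideal.mem_span_singleton']
  have hsq : ∀ x y : B, Ψ x = 0 → Ψ y = 0 → x * y = 0 := by
    intro x y hx hy
    obtain ⟨x', rfl⟩ := (hkerB x).1 hx
    obtain ⟨y', rfl⟩ := (hkerB y).1 hy
    linear_combination (x' * y') * hppB
  -- Frobenius of `A`
  let frobA : A →+* A :=
    { toFun := fun x => x ^ p
      map_one' := one_pow p
      map_mul' := fun x y => mul_pow x y p
      map_zero' := zero_pow hp.out.ne_zero
      map_add' := fun x y => by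
        show (x + y) ^ p = x ^ p + y ^ p
        obtain ⟨r, hr⟩ := exists_add_pow_prime_eq hp.out x y
        rw [hr, hpA, zero_mul, zero_mul, zero_mul, add_zero] }
  have hfrobA : ∀ x, frobA x = x ^ p := fun x => rfl
  -- twisted algebra structures
  letI algTwB : Algebra (FrobAlg.W2 p k) (Groth.Agent.H96.EtaleFLift.Tw B) :=
    (show FrobAlg.W2 p k →+* Groth.Agent.H96.EtaleFLift.Tw B from
      (algebraMap (FrobAlg.W2 p k) B).comp (FrobAlg.sigma p k)).toAlgebra
  letI algTwA : Algebra (FrobAlg.W2 p k) (Groth.Agent.H96.EtaleFLift.Tw A) :=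
    (show FrobAlg.W2 p k →+* Groth.Agent.H96.EtaleFLift.Tw A from
      frobA.comp (algebraMap (FrobAlg.W2 p k) A)).toAlgebra
  let g : Groth.Agent.H96.EtaleFLift.Tw B →ₐ[FrobAlg.W2 p k] Groth.Agent.H96.EtaleFLift.Tw A :=
    { (show Groth.Agent.H96.EtaleFLift.Tw B →+* Groth.Agent.H96.EtaleFLift.Tw A from
        Ψ.toRingHom) with
      commutes' := fun r => by
        show Ψ (algebraMap (FrobAlg.W2 p k) B (FrobAlg.sigma p k r)) =
          (algebraMap (FrobAlg.W2 p k) A r) ^ p
        rw [Ψ.commutes, hRA, hRA, Groth.Agent.H96.PolyFrobLift.res_sigma, map_pow] }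
  let f : B →ₐ[FrobAlg.W2 p k] Groth.Agent.H96.EtaleFLift.Tw A :=
    { (show B →+* Groth.Agent.H96.EtaleFLift.Tw A from frobA.comp Ψ.toRingHom) with
      commutes' := fun r => by
        show (Ψ (algebraMap (FrobAlg.W2 p k) B r)) ^ p = (algebraMap (FrobAlg.W2 p k) A r) ^ p
        rw [Ψ.commutes] }
  have hg : Function.Surjective g := hΨsurj
  have hg' : IsNilpotent (RingHom.ker (g : Groth.Agent.H96.EtaleFLift.Tw B →+*
      Groth.Agent.H96.EtaleFLift.Tw A)) := by
    refine ⟨2, ?_⟩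
    rw [Ideal.zero_eq_bot, eq_bot_iff, pow_two, Ideal.mul_le]
    intro x hx y hy
    rw [RingHom.mem_ker] at hx hy
    rw [Ideal.mem_bot]
    exact hsq x y hx hy
  haveI : Algebra.FormallySmooth (FrobAlg.W2 p k) B := hsmB.1
  let Φ' : B →ₐ[FrobAlg.W2 p k] Groth.Agent.H96.EtaleFLift.Tw B :=
    Algebra.FormallySmooth.liftOfSurjective f g hg hg'
  have hΦ'red : ∀ x : B, Ψ (Φ' x) = (Ψ x) ^ p := fun x =>
    Algebra.FormallySmooth.liftOfSurjective_apply f g hg hg' x
  have hΦ'comm : ∀ r : FrobAlg.W2 p k, Φ' (algebraMap (FrobAlg.W2 p k) B r) =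
      algebraMap (FrobAlg.W2 p k) B (FrobAlg.sigma p k r) := fun r => Φ'.commutes r
  let Φ : B →+* B := (show B →+* B from Φ'.toRingHom)
  have hlift : FrobAlg.IsLift p k A B (algebraMap (FrobAlg.W2 p k) B) Ψ.toRingHom := by
    refine ⟨?_, hΨsurj, ?_, ?_⟩
    · exact RingHom.flat_algebraMap_iff.2 (Algebra.Smooth.flat (FrobAlg.W2 p k) B)
    · rw [← hI]; exact hΨker
    · refine RingHom.ext fun w => ?_
      simp only [RingHom.comp_apply]
      show Ψ (algebraMap (FrobAlg.W2 p k) B w) = _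
      rw [Ψ.commutes, hRA]
  refine ⟨B, instB, algebraMap (FrobAlg.W2 p k) B, Ψ.toRingHom, Φ, ⟨hlift, ?_, ?_⟩⟩
  · refine RingHom.ext fun w => ?_
    simp only [RingHom.comp_apply]
    exact hΦ'comm w
  · intro x
    exact hΦ'red x

end Groth.Agent.S13148
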