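import Groth.Statements.S13151
-- import your own Groth.Agent.* helpers here

set_option autoImplicit false
universe u
open CAlg

namespace Groth.Agent.S13151

/-- Let A → B be an injective ring homomorphism of integral domains which is integral, with A integrally
closed, and let π be an element of A. Then the contraction to A of the ideal πB is πA, i.e. an
element of A which is a multiple of π in B is already a multiple of π in A; in particular if B/πB is
an integral domain then A/πA is an integral domain. (The published statement is for an integral
dominant morphism of integral schemes flat over a discrete valuation ring, with normal target and π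
a uniformizer; flatness and the valuation ring play no role, so π is an arbitrary element here.) -/
theorem result {A B : Type u} [CommRing A] [CommRing B]
    [IsDomain A] [IsDomain B] [IsIntegrallyClosed A] [Algebra A B] [Algebra.IsIntegral A B]
    (hinj : Function.Injective (algebraMap A B)) (π : A) :
    (Ideal.span {algebraMap A B π}).comap (algebraMap A B) = Ideal.span {π} ∧
      (IsDomain (B ⧸ Ideal.span {algebraMap A B π}) → IsDomain (A ⧸ Ideal.span {π})) := by
  classical
  have part1 : (Ideal.span {algebraMap A B π}).comap (algebraMap A B) = Ideal.span {π} := by
    ext a
    rw [Ideal.mem_comap, Ideal.mem_span_singleton', Ideal.mem_span_singleton']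
    constructor
    · rintro ⟨b, hb⟩
      by_cases hπ : π = 0
      · subst hπ
        rw [map_zero, mul_zero] at hb
        refine ⟨0, ?_⟩
        rw [zero_mul]
        exact (hinj (by rw [map_zero]; exact hb.symm)).symm
      · have hg : Function.Injective
            ((algebraMap B (FractionRing B)).comp (algebraMap A B)) :=
          (IsFractionRing.injective B (FractionRing B)).comp hinj
        have hφ : ∀ a : A, (IsFractionRing.lift hg : FractionRing A →+* FractionRing B)
            (algebraMap A (FractionRing A) a) =
            ((algebraMap B (FractionRing B)).comp (algebraMap A B)) a :=
          IsFractionRing.lift_algebraMap hg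
        have hπK : algebraMap A (FractionRing A) π ≠ 0 := by
          intro h0
          exact hπ (IsFractionRing.injective A (FractionRing A) (by rw [h0, map_zero]))
        have hπL : ((algebraMap B (FractionRing B)).comp (algebraMap A B)) π ≠ 0 := by
          intro h0
          exact hπ (hg (by rw [h0, map_zero]))
        have hφx : (IsFractionRing.lift hg : FractionRing A →+* FractionRing B)
            (algebraMap A (FractionRing A) a / algebraMap A (FractionRing A) π) =
            algebraMap B (FractionRing B) b := by
          rw [map_div₀, hφ, hφ, div_eq_iff hπL]
          simp only [RingHom.comp_apply]
          rw [← map_mul, hb]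
        have hint : IsIntegral A
            (algebraMap A (FractionRing A) a / algebraMap A (FractionRing A) π) := by
          obtain ⟨P, hP, hPb⟩ := Algebra.IsIntegral.isIntegral (R := A) b
          refine ⟨P, hP, ?_⟩
          apply (IsFractionRing.lift hg : FractionRing A →+* FractionRing B).injective
          rw [map_zero, Polynomial.hom_eval₂, hφx]
          have hcomp : (IsFractionRing.lift hg : FractionRing A →+* FractionRing B).comp
              (algebraMap A (FractionRing A)) =
              (algebraMap B (FractionRing B)).comp (algebraMap A B) := RingHom.ext hφ
          rw [hcomp, ← Polynomial.hom_eval₂, hPb, map_zero]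
        obtain ⟨c, hc⟩ := IsIntegrallyClosed.algebraMap_eq_of_integral hint
        refine ⟨c, ?_⟩
        apply IsFractionRing.injective A (FractionRing A)
        rw [map_mul, hc, div_mul_cancel₀ _ hπK]
    · rintro ⟨c, rfl⟩
      exact ⟨algebraMap A B c, by rw [map_mul]⟩
  refine ⟨part1, fun h => ?_⟩
  rw [Ideal.Quotient.isDomain_iff_prime] at h ⊢
  rw [← part1]
  exact Ideal.comap_isPrime _ _

end Groth.Agent.S13151
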