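import Groth.Statements.S13153
import Mathlib

set_option autoImplicit false
universe u
open CAlg

namespace Groth.Agent.S13153

open Polynomial TensorProduct KaehlerDifferential in
/-- `d X ≠ 0` in the module of differentials of a fraction field of `K[X]` over `K`. -/
theorem D_X_ne_zero (K : Type u) [Field K] (S : Type u) [Field S] [Algebra K S] [Algebra K[X] S]
    [IsScalarTower K K[X] S] [IsFractionRing K[X] S] :
    D K S (algebraMap K[X] S X) ≠ 0 := by
  intro h
  haveI := KaehlerDifferential.isLocalizedModule_map K K[X] S (nonZeroDivisors K[X])
  have h1 : KaehlerDifferential.map K K K[X] S (D K K[X] X) = 0 := by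
    rw [KaehlerDifferential.map_D]; exact h
  obtain ⟨c, hc⟩ := (IsLocalizedModule.eq_zero_iff (nonZeroDivisors K[X])
    (KaehlerDifferential.map K K K[X] S)).mp h1
  have h2 := congrArg (KaehlerDifferential.polynomialEquiv K) hc
  rw [map_zero, Submonoid.smul_def, map_smul, KaehlerDifferential.polynomialEquiv_D,
    derivative_X, smul_eq_mul, mul_one] at h2
  exact nonZeroDivisors.coe_ne_zero c h2

open Polynomial TensorProduct KaehlerDifferential in
/-- In characteristic zero, an element of a field extension with vanishing differential is
algebraic over the base field. -/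
theorem isAlgebraic_of_D_eq_zero (K : Type u) [Field K] [CharZero K] (L : Type u) [Field L]
    [Algebra K L] (y : L) (hy : D K L y = 0) : IsAlgebraic K y := by
  by_contra htr
  have hinj : Function.Injective (aeval (R := K) y) := transcendental_iff_injective.mp htr
  let ψ : RatFunc K →ₐ[K] L := IsFractionRing.liftAlgHom (K := RatFunc K) hinj
  letI : Algebra (RatFunc K) L := ψ.toRingHom.toAlgebra
  haveI : IsScalarTower K (RatFunc K) L :=
    IsScalarTower.of_algebraMap_eq fun k => (ψ.commutes k).symm
  have hψX : algebraMap (RatFunc K) L (algebraMap K[X] (RatFunc K) X) = y := by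
    show ψ (algebraMap K[X] (RatFunc K) X) = y
    rw [IsFractionRing.liftAlgHom_apply, IsFractionRing.lift_algebraMap]
    simp
  haveI : CharZero (RatFunc K) :=
    charZero_of_injective_algebraMap (algebraMap K (RatFunc K)).injective
  haveI : FaithfulSMul (RatFunc K) L :=
    (faithfulSMul_iff_algebraMap_injective (RatFunc K) L).mpr (algebraMap (RatFunc K) L).injective
  obtain ⟨s, hs⟩ := exists_isTranscendenceBasis (RatFunc K) L
  haveI : Algebra.IsAlgebraic
      (IntermediateField.adjoin (RatFunc K) (Set.range ((↑) : s → L))) L :=
    hs.isAlgebraic_field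
  haveI : CharZero (IntermediateField.adjoin (RatFunc K) (Set.range ((↑) : s → L))) :=
    charZero_of_injective_algebraMap (algebraMap (RatFunc K) _).injective
  haveI : Algebra.IsSeparable
      (IntermediateField.adjoin (RatFunc K) (Set.range ((↑) : s → L))) L :=
    Algebra.IsAlgebraic.isSeparable_of_perfectField
  haveI : Algebra.FormallySmooth (RatFunc K) L :=
    Algebra.FormallySmooth.of_algebraicIndependent_of_isSeparable hs.1
  have hinjB : Function.Injective (KaehlerDifferential.mapBaseChange K (RatFunc K) L) := by
    rw [injective_iff_map_eq_zero]
    intro x hx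
    obtain ⟨x, rfl⟩ := (Algebra.H1Cotangent.exact_δ_mapBaseChange K (RatFunc K) L x).mp hx
    rw [Subsingleton.elim x 0, map_zero]
  have h1 : KaehlerDifferential.mapBaseChange K (RatFunc K) L
      (1 ⊗ₜ D K (RatFunc K) (algebraMap K[X] (RatFunc K) X)) = 0 := by
    rw [KaehlerDifferential.mapBaseChange_tmul, one_smul, KaehlerDifferential.map_D, hψX, hy]
  have h2 : (1 : L) ⊗ₜ[RatFunc K] D K (RatFunc K) (algebraMap K[X] (RatFunc K) X) = 0 :=
    hinjB (by rw [h1, map_zero])
  have h3 : D K (RatFunc K) (algebraMap K[X] (RatFunc K) X) = 0 := by
    apply Module.Flat.tensorProduct_mk_injective (R := RatFunc K) (S := L) (M := Ω[RatFunc K⁄K])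
    rw [map_zero]
    exact h2
  exact D_X_ne_zero K (RatFunc K) h3

/-- Let R be a discrete valuation ring whose fraction field K has characteristic zero, A an integral
domain which is a faithfully flat R-algebra, with fraction field L, such that K is algebraically
closed in L (every element of L algebraic over K is in the image of K). If f ∈ A has vanishing
differential, df = 0 in Ω_{A/R}, then f is the image of an element of R. (The published statement is
the sheaf form: for a faithfully flat morphism X → Spec R with geometrically integral generic fibre,
the kernel of d : O_X → Ω¹_{X/R} is the inverse image of O_{Spec R}; for integral X, geometric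
integrality of the generic fibre in characteristic zero amounts to K being algebraically closed in
the function field, which is the form used here, and this row is the case of global sections over an
affine X = Spec A.) -/
theorem result (R : Type u) [CommRing R] [IsDomain R]
    [IsDiscreteValuationRing R] [CharZero R] (K : Type u) [Field K] [Algebra R K] [IsFractionRing R K]
    (A : Type u) [CommRing A] [IsDomain A] [Algebra R A] [Module.FaithfullyFlat R A]
    (L : Type u) [Field L] [Algebra A L] [IsFractionRing A L] [Algebra R L] [Algebra K L]
    [IsScalarTower R A L] [IsScalarTower R K L]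
    (hac : ∀ x : L, IsAlgebraic K x → x ∈ (algebraMap K L).range)
    (f : A) (hf : KaehlerDifferential.D R A f = 0) : f ∈ (algebraMap R A).range := by
  haveI : SMulCommClass K A L := ⟨fun k a l => by
    simp only [Algebra.smul_def]; ring⟩
  haveI : CharZero K := charZero_of_injective_algebraMap (IsFractionRing.injective R K)
  have hinjAL : Function.Injective (algebraMap A L) := IsFractionRing.injective A L
  have h0 : KaehlerDifferential.D K L (algebraMap A L f) = 0 := by
    rw [← KaehlerDifferential.map_D R K A L, hf, map_zero]
  have halg : IsAlgebraic K (algebraMap A L f) := isAlgebraic_of_D_eq_zero K L _ h0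
  obtain ⟨k, hk⟩ := hac _ halg
  rcases ValuationRing.isInteger_or_isInteger R k with ⟨r, hr⟩ | ⟨r, hr⟩
  · refine ⟨r, hinjAL ?_⟩
    rw [← hk, ← hr, ← IsScalarTower.algebraMap_apply R A L,
      ← IsScalarTower.algebraMap_apply R K L]
  · by_cases hk0 : k = 0
    · refine ⟨0, hinjAL ?_⟩
      rw [map_zero, map_zero, ← hk, hk0, map_zero]
    by_cases hru : IsUnit r
    · obtain ⟨r', hr'⟩ := hru.exists_right_inv
      have hk' : algebraMap R K r' = k := by
        calc algebraMap R K r' = (k * k⁻¹) * algebraMap R K r' := by
              rw [mul_inv_cancel₀ hk0, one_mul]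
          _ = k * (algebraMap R K r * algebraMap R K r') := by rw [hr, mul_assoc]
          _ = k := by rw [← map_mul, hr', map_one, mul_one]
      refine ⟨r', hinjAL ?_⟩
      rw [← hk, ← hk', ← IsScalarTower.algebraMap_apply R A L,
        ← IsScalarTower.algebraMap_apply R K L]
    · exfalso
      have hrm : r ∈ IsLocalRing.maximalIdeal R := (IsLocalRing.mem_maximalIdeal r).mpr hru
      have h1 : f * algebraMap R A r = 1 := by
        apply hinjAL
        rw [map_mul, map_one, ← hk, ← IsScalarTower.algebraMap_apply R A L,
          IsScalarTower.algebraMap_apply R K L, hr, ← map_mul, mul_inv_cancel₀ hk0, map_one]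
      have hne := Module.FaithfullyFlat.submodule_ne_top (R := R) (M := A)
        (IsLocalRing.maximalIdeal.isMaximal R)
      apply hne
      rw [eq_top_iff]
      intro a _
      have ha : a = r • (f * a) := by
        rw [Algebra.smul_def, ← mul_assoc, mul_comm (algebraMap R A r) f, h1, one_mul]
      rw [ha]
      exact Submodule.smul_mem_smul hrm Submodule.mem_top

end Groth.Agent.S13153
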