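import Groth.Statements.S13154
import Mathlib.RingTheory.Flat.FaithfullyFlat.Algebra
import Mathlib.RingTheory.Flat.TorsionFree
import Mathlib.RingTheory.Flat.Localization
import Mathlib.RingTheory.Flat.Stability

set_option autoImplicit false
universe u
open scoped TensorProduct
open CAlg

namespace Groth.Agent.S13154

/-- Let R be a discrete valuation ring with fraction field K, A a faithfully flat R-algebra (an affine
faithfully flat base change S' → S = Spec R) and B₁, B₂ flat R-algebras (two affine S-schemes X₁ =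
Spec B₁, X₂ = Spec B₂, flat over S). Suppose given a K-algebra homomorphism φ_K : K ⊗ B₂ → K ⊗ B₁ (a
morphism of the generic fibres X₁,K → X₂,K) and an A-algebra homomorphism φ_A : A ⊗ B₂ → A ⊗ B₁ (a
morphism X₁ ×_S S' → X₂ ×_S S' over S') which coincide after base change to K ⊗ A, in the sense that
for every b ∈ B₂ the images of φ_K(1 ⊗ b) and φ_A(1 ⊗ b) in (K ⊗ A) ⊗ B₁ agree. Then there is
exactly one R-algebra homomorphism φ : B₂ → B₁ (a morphism X₁ → X₂) whose base changes to K and to A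
are φ_K and φ_A. (The published statement assumes only X₂ flat over S; flatness of X₁ is also
needed: with B₂ = R[t], B₁ = R[e]/(e², πe) for a uniformizer π and A = R[x], the maps t ↦ 0 over K
and t ↦ e x over A agree over K ⊗ A = K[x] but come from no map over R.) -/
theorem result (R : Type u) [CommRing R] [IsDomain R]
    [IsDiscreteValuationRing R] (K : Type u) [Field K] [Algebra R K] [IsFractionRing R K]
    (A : Type u) [CommRing A] [Algebra R A] [Module.FaithfullyFlat R A]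
    (B₁ B₂ : Type u) [CommRing B₁] [CommRing B₂] [Algebra R B₁] [Algebra R B₂]
    [Module.Flat R B₁] [Module.Flat R B₂]
    (φK : K ⊗[R] B₂ →ₐ[K] K ⊗[R] B₁) (φA : A ⊗[R] B₂ →ₐ[A] A ⊗[R] B₁)
    (hcomp : ∀ b : B₂,
      Algebra.TensorProduct.map (Algebra.TensorProduct.includeLeft : K →ₐ[R] K ⊗[R] A) (AlgHom.id R B₁)
          (φK (1 ⊗ₜ b)) =
        Algebra.TensorProduct.map (Algebra.TensorProduct.includeRight : A →ₐ[R] K ⊗[R] A) (AlgHom.id R B₁)
          (φA (1 ⊗ₜ b))) :
    ∃! φ : B₂ →ₐ[R] B₁, (∀ b : B₂, φK (1 ⊗ₜ b) = 1 ⊗ₜ φ b) ∧ (∀ b : B₂, φA (1 ⊗ₜ b) = 1 ⊗ₜ φ b) := by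
  classical
  set jK : K ⊗[R] B₁ →ₐ[R] (K ⊗[R] A) ⊗[R] B₁ :=
    Algebra.TensorProduct.map (Algebra.TensorProduct.includeLeft : K →ₐ[R] K ⊗[R] A)
      (AlgHom.id R B₁) with hjK
  set jA : A ⊗[R] B₁ →ₐ[R] (K ⊗[R] A) ⊗[R] B₁ :=
    Algebra.TensorProduct.map (Algebra.TensorProduct.includeRight : A →ₐ[R] K ⊗[R] A)
      (AlgHom.id R B₁) with hjA
  have hRK : Function.Injective (algebraMap R K) := IsFractionRing.injective R K
  have hflatK : Module.Flat R K := IsLocalization.flat K (nonZeroDivisors R)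
  have hinj : ∀ z z' : B₁, (1 : K) ⊗ₜ[R] z = (1 : K) ⊗ₜ[R] z' → z = z' := fun z z' h =>
    Algebra.TensorProduct.includeRight_injective (R := R) (A := K) (B := B₁) hRK h
  have hjAinj : Function.Injective jA := by
    have h1 : Function.Injective (Algebra.TensorProduct.includeRight : A →ₐ[R] K ⊗[R] A) :=
      Algebra.TensorProduct.includeRight_injective hRK
    have h2 := Module.Flat.rTensor_preserves_injective_linearMap (M := B₁)
      (Algebra.TensorProduct.includeRight : A →ₐ[R] K ⊗[R] A).toLinearMap h1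
    have h3 : ∀ x, jA x = LinearMap.rTensor B₁
        (Algebra.TensorProduct.includeRight : A →ₐ[R] K ⊗[R] A).toLinearMap x := by
      intro x
      induction x using TensorProduct.induction_on with
      | zero => simp
      | tmul a b => simp [hjA]
      | add x y hx hy => rw [map_add, map_add, hx, hy]
    intro x y hxy
    apply h2
    rw [← h3, ← h3, hxy]
  have hden : ∀ x : K ⊗[R] B₁, ∃ (r : R) (z₀ : B₁), r ≠ 0 ∧ r • x = (1 : K) ⊗ₜ[R] z₀ := by
    intro x
    induction x using TensorProduct.induction_on with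
    | zero => exact ⟨1, 0, one_ne_zero, by simp⟩
    | tmul κ b =>
      obtain ⟨⟨s, r, hr⟩, hκ⟩ := IsLocalization.surj (nonZeroDivisors R) κ
      refine ⟨r, s • b, nonZeroDivisors.ne_zero hr, ?_⟩
      have h : r • κ = s • (1 : K) := by
        rw [Algebra.smul_def, Algebra.smul_def, mul_one, mul_comm]
        exact hκ
      rw [TensorProduct.smul_tmul', h, TensorProduct.smul_tmul]
    | add x y hx hy =>
      obtain ⟨r₁, z₁, hr₁, h₁⟩ := hx
      obtain ⟨r₂, z₂, hr₂, h₂⟩ := hy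
      refine ⟨r₁ * r₂, r₂ • z₁ + r₁ • z₂, mul_ne_zero hr₁ hr₂, ?_⟩
      have e1 : (r₁ * r₂) • x = r₂ • r₁ • x := by rw [mul_comm, mul_smul]
      have e2 : (r₁ * r₂) • y = r₁ • r₂ • y := mul_smul _ _ _
      rw [smul_add, e1, e2, h₁, h₂, TensorProduct.tmul_add, TensorProduct.tmul_smul,
        TensorProduct.tmul_smul]
  have hdiv : ∀ (r : R) (z₀ : B₁) (y : A ⊗[R] B₁), r • y = (1 : A) ⊗ₜ[R] z₀ →
      ∃ z : B₁, z₀ = r • z := by
    intro r z₀ y hy
    let N : Submodule R B₁ := LinearMap.range (LinearMap.lsmul R B₁ r)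
    have hN : ∀ b : B₁, r • b ∈ N := fun b => ⟨b, rfl⟩
    have hkill : ∀ w : A ⊗[R] (B₁ ⧸ N), r • w = 0 := by
      intro w
      induction w using TensorProduct.induction_on with
      | zero => simp
      | tmul a m =>
        obtain ⟨b, rfl⟩ := N.mkQ_surjective m
        have h0 : r • N.mkQ b = 0 := by
          rw [← map_smul, Submodule.mkQ_apply, Submodule.Quotient.mk_eq_zero]
          exact hN b
        rw [← TensorProduct.tmul_smul, h0, TensorProduct.tmul_zero]
      | add x y hx hy => rw [smul_add, hx, hy, add_zero]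
    have h1 : (LinearMap.lTensor A N.mkQ) (r • y) = 0 := by
      rw [map_smul]
      exact hkill _
    rw [hy, LinearMap.lTensor_tmul] at h1
    have h2 : N.mkQ z₀ = 0 := by
      apply Module.FaithfullyFlat.tensorProduct_mk_injective (A := R) (B := A) (B₁ ⧸ N)
      rw [TensorProduct.mk_apply, h1, map_zero]
    rw [Submodule.mkQ_apply, Submodule.Quotient.mk_eq_zero] at h2
    obtain ⟨z, hz⟩ := h2
    exact ⟨z, by rw [← hz, LinearMap.lsmul_apply]⟩
  have key : ∀ b : B₂, ∃ z : B₁, φK (1 ⊗ₜ b) = 1 ⊗ₜ z ∧ φA (1 ⊗ₜ b) = 1 ⊗ₜ z := by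
    intro b
    obtain ⟨r, z₀, hr, hx⟩ := hden (φK (1 ⊗ₜ b))
    have hrr : r ∈ nonZeroDivisors R := mem_nonZeroDivisors_of_ne_zero hr
    have h1 : jA (r • φA (1 ⊗ₜ b)) = jA (1 ⊗ₜ z₀) := by
      rw [map_smul, ← hcomp b, ← map_smul, hx]
      simp [hjA, hjK]
    have h2 := hjAinj h1
    obtain ⟨z, rfl⟩ := hdiv r z₀ _ h2
    refine ⟨z, ?_, ?_⟩
    · apply Module.Flat.isSMulRegular_of_nonZeroDivisors (M := K ⊗[R] B₁) hrr
      show r • _ = r • _
      rw [hx, TensorProduct.tmul_smul]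
    · apply Module.Flat.isSMulRegular_of_nonZeroDivisors (M := A ⊗[R] B₁) hrr
      show r • _ = r • _
      rw [h2, TensorProduct.tmul_smul]
  choose φ₀ hφK hφA using key
  refine ⟨{ toFun := φ₀, map_one' := ?_, map_mul' := ?_, map_zero' := ?_, map_add' := ?_,
            commutes' := ?_ }, ⟨?_, ?_⟩, ?_⟩
  · apply hinj
    rw [← hφK, ← Algebra.TensorProduct.one_def, map_one]
    exact Algebra.TensorProduct.one_def
  · intro x y
    apply hinj
    calc (1 : K) ⊗ₜ[R] φ₀ (x * y) = φK (1 ⊗ₜ (x * y)) := (hφK _).symm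
      _ = φK ((1 ⊗ₜ x) * (1 ⊗ₜ y)) := by rw [Algebra.TensorProduct.tmul_mul_tmul, one_mul]
      _ = φK (1 ⊗ₜ x) * φK (1 ⊗ₜ y) := map_mul _ _ _
      _ = (1 ⊗ₜ φ₀ x) * (1 ⊗ₜ φ₀ y) := by rw [hφK, hφK]
      _ = 1 ⊗ₜ (φ₀ x * φ₀ y) := by rw [Algebra.TensorProduct.tmul_mul_tmul, one_mul]
  · apply hinj
    rw [← hφK, TensorProduct.tmul_zero, map_zero, TensorProduct.tmul_zero]
  · intro x y
    apply hinj
    rw [← hφK, TensorProduct.tmul_add, map_add, hφK, hφK, ← TensorProduct.tmul_add]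
  · intro r
    apply hinj
    show (1 : K) ⊗ₜ[R] φ₀ (algebraMap R B₂ r) = (1 : K) ⊗ₜ[R] (algebraMap R B₁ r)
    have h5 : (1 : K) ⊗ₜ[R] (algebraMap R B₂ r) =
        algebraMap R K r • ((1 : K) ⊗ₜ[R] (1 : B₂)) := by
      rw [algebraMap_smul, Algebra.algebraMap_eq_smul_one, TensorProduct.tmul_smul]
    rw [← hφK, h5, map_smul, ← Algebra.TensorProduct.one_def, map_one,
      Algebra.TensorProduct.one_def, algebraMap_smul, ← TensorProduct.tmul_smul,
      ← Algebra.algebraMap_eq_smul_one]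
  · intro b
    exact hφK b
  · intro b
    exact hφA b
  · rintro ψ ⟨h1, h2⟩
    apply AlgHom.ext
    intro b
    apply hinj
    rw [← h1 b]
    exact hφK b

end Groth.Agent.S13154
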