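import Groth.Statements.S13155
import Mathlib

set_option autoImplicit false
universe u
open CAlg

namespace Groth.Agent.S13155

section aux

lemma core2 {A L : Type*} [CommRing A] [IsDomain A] [CommRing L] [IsDomain L] [Algebra A L]
    (π : A) (hπ : Prime π) (hπL : IsUnit (algebraMap A L π)) (m : ℕ) (hm : 0 < m) (f : A)
    (hdvd : ∃ k, f ∣ π ^ k) (Z : L) (hZ : Z ^ m = algebraMap A L f)
    (hsp : (Ideal.span {algebraMap A (integralClosure A L) π}).IsPrime) :
    ∃ (q : ℕ) (u : Aˣ), f = π ^ (m * q) * (u : A) := by
  obtain ⟨k, hk⟩ := hdvd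
  obtain ⟨a, -, hassoc⟩ := (dvd_prime_pow hπ k).mp hk
  obtain ⟨u, hu⟩ := hassoc
  obtain ⟨v, hv⟩ : ∃ v : Aˣ, v = u⁻¹ := ⟨_, rfl⟩
  have hf : f = π ^ a * (v : A) := by
    rw [hv, ← hu, mul_assoc, Units.mul_inv, mul_one]
  obtain ⟨q, r, hr, haq⟩ : ∃ q r, r < m ∧ a = m * q + r :=
    ⟨a / m, a % m, Nat.mod_lt _ hm, (Nat.div_add_mod a m).symm⟩
  rcases Nat.eq_zero_or_pos r with hr0 | hrpos
  · exact ⟨q, v, by rw [hf, haq, hr0, add_zero]⟩
  exfalso
  obtain ⟨w, hw⟩ := hπL.exists_right_inv
  have hZ' : (Z * w ^ q) ^ m = algebraMap A L π ^ r * algebraMap A L (v : A) := by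
    have h1 : algebraMap A L π ^ (m * q) * (w ^ q) ^ m = 1 := by
      rw [← pow_mul, mul_comm q m, ← mul_pow, hw, one_pow]
    rw [mul_pow, hZ, hf, haq, map_mul, map_pow, pow_add]
    linear_combination (algebraMap A L π ^ r * algebraMap A L (v : A)) * h1
  have hint : IsIntegral A (Z * w ^ q) := by
    show ∃ p : Polynomial A, p.Monic ∧ Polynomial.eval₂ (algebraMap A L) (Z * w ^ q) p = 0
    refine ⟨Polynomial.X ^ m - Polynomial.C (π ^ r * (v : A)),
      Polynomial.monic_X_pow_sub_C _ hm.ne', ?_⟩
    rw [Polynomial.eval₂_sub, Polynomial.eval₂_pow, Polynomial.eval₂_X, Polynomial.eval₂_C, hZ',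
      map_mul, map_pow, sub_self]
  obtain ⟨b, hb⟩ : ∃ b : integralClosure A L, (b : L) = Z * w ^ q := ⟨⟨Z * w ^ q, hint⟩, rfl⟩
  have hbm : b ^ m = algebraMap A (integralClosure A L) π ^ r *
      algebraMap A (integralClosure A L) (v : A) := by
    apply Subtype.ext
    simp only [SubmonoidClass.coe_pow, MulMemClass.coe_mul, Subalgebra.coe_algebraMap, hb]
    exact hZ'
  have hbmem : b ∈ Ideal.span {algebraMap A (integralClosure A L) π} := by
    apply hsp.mem_of_pow_mem m
    rw [hbm]
    exact Ideal.mul_mem_right _ _ (Ideal.pow_mem_of_mem _ (Ideal.subset_span (Set.mem_singleton _)) r hrpos)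
  obtain ⟨c, hc⟩ := Ideal.mem_span_singleton.mp hbmem
  have hcL : Z * w ^ q = algebraMap A L π * (c : L) := by
    have h := congrArg Subtype.val hc
    simp only [MulMemClass.coe_mul, Subalgebra.coe_algebraMap] at h
    rw [← hb]; exact h
  have h2 : algebraMap A L π ^ (m - r) * (c : L) ^ m = algebraMap A L (v : A) := by
    have h3 : (algebraMap A L π * (c : L)) ^ m
        = algebraMap A L π ^ r * algebraMap A L (v : A) := by rw [← hcL]; exact hZ'
    have h4 : algebraMap A L π ^ r * w ^ r = 1 := by rw [← mul_pow, hw, one_pow]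
    have h5 : algebraMap A L π ^ m = algebraMap A L π ^ (m - r) * algebraMap A L π ^ r := by
      rw [← pow_add, Nat.sub_add_cancel hr.le]
    rw [mul_pow, h5] at h3
    linear_combination (w ^ r) * h3
      - (algebraMap A L π ^ (m - r) * (c : L) ^ m - algebraMap A L (v : A)) * h4
  have h6 : algebraMap A (integralClosure A L) π ^ (m - r) * c ^ m
      = algebraMap A (integralClosure A L) (v : A) := by
    apply Subtype.ext
    simp only [SubmonoidClass.coe_pow, MulMemClass.coe_mul, Subalgebra.coe_algebraMap]
    exact h2
  have hvmem : algebraMap A (integralClosure A L) (v : A)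
      ∈ Ideal.span {algebraMap A (integralClosure A L) π} := by
    rw [← h6]
    exact Ideal.mul_mem_right _ _
      (Ideal.pow_mem_of_mem _ (Ideal.subset_span (Set.mem_singleton _)) (m - r) (by omega))
  have hone : algebraMap A (integralClosure A L) (v : A)
      * algebraMap A (integralClosure A L) ((v⁻¹ : Aˣ) : A) = 1 := by
    rw [← map_mul, Units.mul_inv, map_one]
  exact hsp.ne_top ((Ideal.eq_top_iff_one _).mpr (by
    rw [← hone]; exact Ideal.mul_mem_right _ _ hvmem))

lemma core {A : Type*} [CommRing A] [IsDomain A] (π : A) (hπ0 : π ≠ 0)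
    (hprime : (Ideal.span {π}).IsPrime) (m : ℕ) (hm : 0 < m) (f : A)
    (hf : IsUnit (algebraMap A (Localization.Away π) f))
    [IsDomain (AdjoinRoot (Polynomial.X ^ m -
      Polynomial.C (algebraMap A (Localization.Away π) f)))]
    (hsp : (Ideal.span {algebraMap A (integralClosure A
        (AdjoinRoot (Polynomial.X ^ m - Polynomial.C (algebraMap A (Localization.Away π) f))))
          π}).IsPrime) :
    ∃ (q : ℕ) (u : Aˣ), f = π ^ (m * q) * (u : A) := by
  have hπ : Prime π := (Ideal.span_singleton_prime hπ0).mp hprime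
  have hdvd : ∃ k, f ∣ π ^ k := (IsLocalization.Away.algebraMap_isUnit_iff (x := π) (S := Localization.Away π)).mp hf
  have hπL : IsUnit (algebraMap A (AdjoinRoot (Polynomial.X ^ m -
      Polynomial.C (algebraMap A (Localization.Away π) f))) π) := by
    rw [IsScalarTower.algebraMap_apply A (Localization.Away π) (AdjoinRoot _) π]
    exact (IsLocalization.Away.algebraMap_isUnit π).map _
  have hZ : (AdjoinRoot.root (Polynomial.X ^ m -
      Polynomial.C (algebraMap A (Localization.Away π) f))) ^ m
      = algebraMap A (AdjoinRoot (Polynomial.X ^ m -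
          Polynomial.C (algebraMap A (Localization.Away π) f))) f := by
    have h := AdjoinRoot.eval₂_root (Polynomial.X ^ m -
      Polynomial.C (algebraMap A (Localization.Away π) f))
    rw [Polynomial.eval₂_sub, Polynomial.eval₂_pow, Polynomial.eval₂_X, Polynomial.eval₂_C,
      sub_eq_zero] at h
    rw [h, IsScalarTower.algebraMap_apply A (Localization.Away π) (AdjoinRoot _) f,
      AdjoinRoot.algebraMap_eq]
  exact core2 π hπ hπL m hm f hdvd _ hZ hsp

end aux


/-- Let R be a discrete valuation ring of characteristic zero with uniformizer π, and A a Noetherian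
integrally closed domain which is an R-algebra with injective structure map and in which πA is a
prime ideal (X = Spec A is normal, flat over R, with integral special fibre). Let m ≥ 1 and let f ∈
A be invertible in A[1/π] (so Z^m = f defines a μ_m-torsor over the generic fibre), such that S =
A[1/π][Z]/(Z^m − f) is an integral domain and, writing B for the integral closure of A in S (the
normalization of X in that cover), πB is a prime ideal of B (the normalization has integral special
fibre). Then f is, up to a unit of A, an m-th power of a power of π: f = π^{mq}·u with q ≥ 0 and u ∈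
A^×, so that the cover extends to the μ_m-torsor Z^m = u over all of X. (The published statement is
the existence and uniqueness of the extending μ_m-torsor over a normal faithfully flat R-scheme with
integral fibres, R containing a primitive m-th root of unity; this row is the affine computation
that carries the proof.) -/
theorem result (R : Type u) [CommRing R]
    [IsDomain R] [IsDiscreteValuationRing R] [CharZero R] (ϖ : R) (hϖ : Irreducible ϖ)
    (A : Type u) [CommRing A] [IsDomain A] [IsNoetherianRing A] [IsIntegrallyClosed A] [Algebra R A]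
    (hinj : Function.Injective (algebraMap R A)) (hprime : (Ideal.span {algebraMap R A ϖ}).IsPrime)
    (m : ℕ) (hm : 0 < m) (f : A) (hf : IsUnit (algebraMap A (Localization.Away (algebraMap R A ϖ)) f))
    [IsDomain (AdjoinRoot (Polynomial.X ^ m - Polynomial.C (algebraMap A (Localization.Away (algebraMap R A ϖ)) f)))]
    (hsp : (Ideal.span {algebraMap A (integralClosure A
        (AdjoinRoot (Polynomial.X ^ m - Polynomial.C (algebraMap A (Localization.Away (algebraMap R A ϖ)) f))))
          (algebraMap R A ϖ)}).IsPrime) :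
    ∃ (q : ℕ) (u : Aˣ), f = algebraMap R A ϖ ^ (m * q) * (u : A) := by
  have hπ0 : algebraMap R A ϖ ≠ 0 := (map_ne_zero_iff _ hinj).mpr hϖ.ne_zero
  exact core (algebraMap R A ϖ) hπ0 hprime m hm f hf hsp

end Groth.Agent.S13155
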