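import Groth.Statements.S13156
import Mathlib

set_option autoImplicit false
universe u
open scoped Polynomial
open CAlg

namespace Groth.Agent.S13156

section aux
open Polynomial

variable {R : Type*} [CommRing R]

theorem isUnit_natCast_of_lt {p : ℕ} (hu : IsUnit ((Nat.factorial (p - 1) : ℕ) : R)) {j : ℕ}
    (hj0 : 0 < j) (hj : j < p) : IsUnit (j : R) := by
  have hdvd : j ∣ Nat.factorial (p - 1) := Nat.dvd_factorial hj0 (by omega)
  exact isUnit_of_dvd_unit (Nat.cast_dvd_cast hdvd) hu

theorem coeff_X_mul_derivative (G : R[X]) (j : ℕ) :
    (X * derivative G).coeff j = (j : R) * G.coeff j := by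
  cases j with
  | zero => simp
  | succ k =>
    rw [coeff_X_mul, coeff_derivative]
    push_cast
    ring

theorem ode_zero (p : ℕ) (hu : IsUnit ((Nat.factorial (p - 1) : ℕ) : R)) (μ a1 : R) (G : R[X])
    (hdeg : G.natDegree < p) (h0 : G.coeff 0 = 0)
    (hode : (1 + C μ * X) * derivative G = C a1 * G) : G = 0 := by
  have key : ∀ j, G.coeff j = 0 := by
    intro j
    induction j with
    | zero => exact h0
    | succ j ih =>
      by_cases hjp : j + 1 < p
      · have h1 := congrArg (fun q => q.coeff j) hode
        have e1 : (1 + C μ * X) * derivative G = derivative G + C μ * (X * derivative G) := by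
          ring
        simp only [e1, coeff_add, coeff_C_mul, coeff_derivative, coeff_X_mul_derivative, ih,
          mul_zero, add_zero] at h1
        have hunit : IsUnit ((j : R) + 1) := by
          have := isUnit_natCast_of_lt (R := R) hu (Nat.succ_pos j) hjp
          simpa using this
        exact (hunit.mul_left_eq_zero).mp h1
      · exact coeff_eq_zero_of_natDegree_lt (by omega)
  ext j
  rw [key j, coeff_zero]

theorem main_B (p : ℕ) (hu : IsUnit ((Nat.factorial (p - 1) : ℕ) : R)) (μ : R) (F : R[X])
    (hdeg : F.natDegree < p)
    (hode : F * C (F.coeff 1) = derivative F * (1 + C μ * X)) (s : R) :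
    F * C (eval s F) - C (F.coeff 0 ^ 2) =
      F.comp (X + C s + C μ * X * C s) - C (F.coeff 0) := by
  have hrel : ∀ n, F.coeff n * F.coeff 1 =
      F.coeff (n + 1) * ((n : R) + 1) + μ * ((n : R) * F.coeff n) := by
    intro n
    have h1 := congrArg (fun q => q.coeff n) hode
    have e1 : derivative F * (1 + C μ * X) = derivative F + C μ * (X * derivative F) := by ring
    simp only [e1, coeff_add, coeff_C_mul, coeff_derivative, coeff_X_mul_derivative,
      coeff_mul_C] at h1
    exact h1
  have ha1 : F.coeff 1 * (F.coeff 0 - 1) = 0 := by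
    have := hrel 0
    simp only [Nat.cast_zero, zero_add, mul_one, zero_mul, mul_zero, add_zero] at this
    linear_combination this
  have hcn : ∀ n, 1 ≤ n → F.coeff n * (F.coeff 0 - 1) = 0 := by
    intro n hn
    induction n, hn using Nat.le_induction with
    | base => exact ha1
    | succ n hn ih =>
      by_cases hjp : n + 1 < p
      · have hunit : IsUnit ((n : R) + 1) := by
          have := isUnit_natCast_of_lt (R := R) hu (Nat.succ_pos n) hjp
          simpa using this
        have h2 : F.coeff (n + 1) * (F.coeff 0 - 1) * ((n : R) + 1) = 0 := by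
          linear_combination (F.coeff 0 - 1) * (hrel n) * (-1) + (F.coeff 1 - μ * (n : R)) * ih
        exact (hunit.mul_left_eq_zero).mp h2
      · rw [coeff_eq_zero_of_natDegree_lt (by omega), zero_mul]
  have hpoly : C (F.coeff 0 - 1) * (F - C (F.coeff 0)) = 0 := by
    ext n
    rw [coeff_C_mul, coeff_sub, coeff_C, coeff_zero]
    by_cases hn : n = 0
    · subst hn
      simp
    · rw [if_neg hn, sub_zero, mul_comm]
      exact hcn n (Nat.one_le_iff_ne_zero.mpr hn)
  have hs0 : (F.coeff 0 - 1) * (eval s F - F.coeff 0) = 0 := by
    have := congrArg (eval s) hpoly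
    simpa using this
  rw [← sub_eq_zero]
  apply ode_zero p hu μ (F.coeff 1)
  · -- degree
    have hlin : (X + C s + C μ * X * C s : R[X]) = C (1 + μ * s) * X + C s := by
      simp only [map_add, map_mul, map_one]
      ring
    have h1 : (F * C (eval s F)).natDegree ≤ F.natDegree := natDegree_mul_C_le _ _
    have h2 : (C (F.coeff 0 ^ 2) : R[X]).natDegree ≤ F.natDegree := by
      rw [natDegree_C]; exact Nat.zero_le _
    have h3 : (F.comp (X + C s + C μ * X * C s)).natDegree ≤ F.natDegree := by
      refine natDegree_comp_le.trans ?_
      rw [hlin]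
      calc F.natDegree * (C (1 + μ * s) * X + C s).natDegree ≤ F.natDegree * 1 :=
            Nat.mul_le_mul_left _ natDegree_linear_le
        _ = F.natDegree := mul_one _
    have h4 : (C (F.coeff 0) : R[X]).natDegree ≤ F.natDegree := by
      rw [natDegree_C]; exact Nat.zero_le _
    have h5 := natDegree_sub_le_of_le h1 h2
    have h6 := natDegree_sub_le_of_le h3 h4
    have h7 := natDegree_sub_le_of_le h5 h6
    simp only [max_self] at h7
    omega
  · -- value at zero
    rw [coeff_zero_eq_eval_zero]
    simp only [eval_sub, eval_mul, eval_C, eval_comp, eval_add, eval_X, mul_zero, zero_mul,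
      zero_add, add_zero, ← coeff_zero_eq_eval_zero]
    linear_combination hs0
  · -- the ODE
    have hA : (1 + C μ * X) * derivative F = C (F.coeff 1) * F := by
      rw [mul_comm, ← hode, mul_comm]
    have hB : (1 + C μ * (X + C s + C μ * X * C s)) *
        (derivative F).comp (X + C s + C μ * X * C s) =
        C (F.coeff 1) * F.comp (X + C s + C μ * X * C s) := by
      have := congrArg (fun q => q.comp (X + C s + C μ * X * C s)) hA
      simp only [mul_comp, add_comp, one_comp, C_comp, X_comp] at this
      exact this
    have hC : C (F.coeff 1) * (C (F.coeff 0) - 1) = 0 := by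
      rw [← C_1, ← C_sub, ← C_mul, ha1, C_0]
    have hder : derivative (F * C (eval s F) - C (F.coeff 0 ^ 2) -
        (F.comp (X + C s + C μ * X * C s) - C (F.coeff 0))) =
        derivative F * C (eval s F) -
          (1 + C μ * C s) * (derivative F).comp (X + C s + C μ * X * C s) := by
      simp only [derivative_sub, derivative_mul, derivative_C, derivative_comp, derivative_add,
        derivative_X, mul_zero, add_zero, sub_zero, mul_one, zero_mul, zero_add]
    rw [hder, C_pow]
    linear_combination (C (eval s F)) * hA - hB + (C (F.coeff 0)) * hC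

theorem aeval_eq_comp {A B : Type*} [CommRing A] [CommRing B] [Algebra A B] (F : A[X])
    (y : B[X]) : aeval y F = (F.map (algebraMap A B)).comp y := by
  rw [comp, eval₂_map, aeval_def]
  congr 1

end aux

/-- Let p be a prime number, A a commutative ring in which (p−1)! is invertible, μ an element of A, and
F ∈ A[X] a polynomial of degree at most p − 1 with coefficients a_0, a_1, …. Then the identity
F(S)·F(T) − a_0² = F(S + T + μST) − a_0 holds in the polynomial ring A[S, T] if and only if a_1·F(S)
= F′(S)·(1 + μS) holds in A[S], F′ the formal derivative. (The published statement is over the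
quotient of a discrete valuation ring of residue characteristic p by a nonzero element of its
maximal ideal; only the invertibility of 1, …, p − 1 is used, so an arbitrary such ring A is allowed
here.) -/
theorem result (A : Type u) [CommRing A] (p : ℕ) [Fact p.Prime]
    (hu : IsUnit ((Nat.factorial (p - 1) : ℕ) : A)) (μ : A) (F : A[X]) (hF : F.natDegree < p) :
    (Polynomial.aeval (MvPolynomial.X 0 : MvPolynomial (Fin 2) A) F *
          Polynomial.aeval (MvPolynomial.X 1 : MvPolynomial (Fin 2) A) F - MvPolynomial.C (F.coeff 0 ^ 2) =
        Polynomial.aeval (MvPolynomial.X 0 + MvPolynomial.X 1 +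
            MvPolynomial.C μ * MvPolynomial.X 0 * MvPolynomial.X 1 : MvPolynomial (Fin 2) A) F -
          MvPolynomial.C (F.coeff 0)) ↔
      F * Polynomial.C (F.coeff 1) = Polynomial.derivative F * (1 + Polynomial.C μ * Polynomial.X) := by
  constructor
  · -- (⇒): differentiate in the second variable and set it to zero
    intro h
    have hD := congrArg (MvPolynomial.pderiv (1 : Fin 2)) h
    have hx0 : MvPolynomial.pderiv (1 : Fin 2) (MvPolynomial.X 0 : MvPolynomial (Fin 2) A) = 0 :=
      MvPolynomial.pderiv_X_of_ne (by decide)
    simp only [map_sub, Derivation.leibniz, Derivation.map_aeval, MvPolynomial.pderiv_C, hx0,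
      MvPolynomial.pderiv_X_self, smul_zero, add_zero, sub_zero, map_add, smul_eq_mul, mul_one,
      zero_add, mul_zero] at hD
    have hev := congrArg (MvPolynomial.aeval (![Polynomial.X, 0] : Fin 2 → A[X])) hD
    simp only [map_mul, map_add, map_one, ← Polynomial.aeval_algHom_apply, MvPolynomial.aeval_X,
      MvPolynomial.aeval_C, Matrix.cons_val_zero, Matrix.cons_val_one, mul_zero, add_zero,
      Polynomial.aeval_X_left_apply] at hev
    have h0 : Polynomial.aeval (0 : A[X]) (Polynomial.derivative F) =
        Polynomial.C (F.coeff 1) := by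
      rw [← Polynomial.coeff_zero_eq_aeval_zero', Polynomial.coeff_derivative]
      simp [Polynomial.algebraMap_apply]
    rw [h0] at hev
    rw [hev, Polynomial.algebraMap_apply]
    rfl
  · -- (⇐)
    intro hode
    have hB := main_B (R := MvPolynomial (Fin 1) A) p
      (by simpa using hu.map (algebraMap A (MvPolynomial (Fin 1) A)))
      (algebraMap A (MvPolynomial (Fin 1) A) μ)
      (F.map (algebraMap A (MvPolynomial (Fin 1) A)))
      (lt_of_le_of_lt Polynomial.natDegree_map_le hF)
      (by
        have := congrArg (Polynomial.map (algebraMap A (MvPolynomial (Fin 1) A))) hode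
        simpa [Polynomial.derivative_map, Polynomial.coeff_map] using this)
      (MvPolynomial.X 0)
    apply (MvPolynomial.finSuccEquiv A 1).injective
    have hΦ0 : MvPolynomial.finSuccEquiv A 1 (MvPolynomial.X 0) = Polynomial.X :=
      MvPolynomial.finSuccEquiv_X_zero
    have hΦ1 : MvPolynomial.finSuccEquiv A 1 (MvPolynomial.X 1) =
        Polynomial.C (MvPolynomial.X 0) :=
      MvPolynomial.finSuccEquiv_X_succ (j := (0 : Fin 1))
    have hΦC : ∀ a : A, MvPolynomial.finSuccEquiv A 1 (MvPolynomial.C a) =
        Polynomial.C (algebraMap A (MvPolynomial (Fin 1) A) a) := by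
      intro a
      have := (MvPolynomial.finSuccEquiv A 1).commutes a
      rw [MvPolynomial.algebraMap_eq, Polynomial.algebraMap_apply] at this
      exact this
    simp only [map_sub, map_mul, map_add, ← Polynomial.aeval_algHom_apply, hΦ0, hΦ1, hΦC,
      aeval_eq_comp, Polynomial.comp_X, Polynomial.comp_C]
    simp only [Polynomial.coeff_map, ← map_pow] at hB
    exact hB

end Groth.Agent.S13156
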