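import Groth.Statements.S13157
import Mathlib.Tactic.LinearCombination
import Mathlib.Tactic.Ring
import Mathlib.Algebra.Polynomial.Derivative
import Mathlib.Algebra.BigOperators.Intervals
import Mathlib.Data.Nat.Factorial.BigOperators
import Mathlib.Algebra.Polynomial.Coeff
import Mathlib.Tactic.Push

set_option autoImplicit false
universe u
open scoped Polynomial
open CAlg

namespace Groth.Agent.S13157

/-- (i) ⇔ (ii): let p be a prime number, A a commutative ring in which (p−1)! is invertible, μ ∈ A, and
F ∈ A[X] a polynomial of degree at most p − 1 with constant term a_0 = 1 and coefficients a_1, a_2,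
…. Then the relations a_{r−1}·a_1 = (r − 1)μ·a_{r−1} + r·a_r for 1 ≤ r ≤ p (with a_p = 0), written
here as the single identity a_1·F = F′·(1 + μX), hold if and only if r!·a_r = ∏_{k=0}^{r−1} (a_1 −
kμ) for every 1 ≤ r ≤ p − 1 and ∏_{k=0}^{p−1} (a_1 − kμ) = 0. (The published statement lists the
relations only for 1 ≤ r ≤ p − 1, while its proof uses and derives the relation for r = p as well,
which is needed for the vanishing of the last product; it is included here. The published setting is
the quotient of a discrete valuation ring of residue characteristic p by a nonzero non-unit; only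
the invertibility of 1, …, p − 1 is used.) -/
theorem result (A : Type u) [CommRing A] (p : ℕ) [Fact p.Prime]
    (hu : IsUnit ((Nat.factorial (p - 1) : ℕ) : A)) (μ : A) (F : A[X]) (hF : F.natDegree < p)
    (h0 : F.coeff 0 = 1) :
    F * Polynomial.C (F.coeff 1) = Polynomial.derivative F * (1 + Polynomial.C μ * Polynomial.X) ↔
      ((∀ r : ℕ, 1 ≤ r → r < p →
          (r.factorial : A) * F.coeff r = ∏ k ∈ Finset.range r, (F.coeff 1 - (k : A) * μ)) ∧
        ∏ k ∈ Finset.range p, (F.coeff 1 - (k : A) * μ) = 0) := by
  classical
  have hp := (Fact.out : p.Prime)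
  have hp2 : 2 ≤ p := hp.two_le
  set a := F.coeff 1 with ha
  have hcoef : ∀ n : ℕ, (Polynomial.derivative F * (1 + Polynomial.C μ * Polynomial.X)).coeff n
      = F.coeff (n + 1) * ((n : A) + 1) + μ * (F.coeff n * (n : A)) := by
    intro n
    rw [mul_add, mul_one, Polynomial.coeff_add, mul_comm (Polynomial.C μ) Polynomial.X, ← mul_assoc,
      Polynomial.coeff_mul_C, Polynomial.coeff_derivative]
    cases n with
    | zero =>
      rw [Polynomial.coeff_mul_X_zero]
      simp
    | succ n =>
      rw [Polynomial.coeff_mul_X, Polynomial.coeff_derivative]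
      push_cast
      ring
  have hrel : (F * Polynomial.C a =
        Polynomial.derivative F * (1 + Polynomial.C μ * Polynomial.X)) ↔
      ∀ n : ℕ, ((n : A) + 1) * F.coeff (n + 1) = (a - (n : A) * μ) * F.coeff n := by
    rw [Polynomial.ext_iff]
    refine forall_congr' fun n => ?_
    rw [hcoef, Polynomial.coeff_mul_C]
    constructor <;> intro h <;> linear_combination -h
  rw [hrel]
  constructor
  · intro H
    have key : ∀ r : ℕ, (r.factorial : A) * F.coeff r
        = ∏ k ∈ Finset.range r, (a - (k : A) * μ) := by
      intro r
      induction r with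
      | zero => simp [h0]
      | succ r ih =>
        rw [Finset.prod_range_succ, ← ih, Nat.factorial_succ]
        push_cast
        linear_combination (r.factorial : A) * H r
    refine ⟨fun r _ _ => key r, ?_⟩
    rw [← key p, Polynomial.coeff_eq_zero_of_natDegree_lt hF, mul_zero]
  · rintro ⟨H, hz⟩ n
    have hfac : ∀ m : ℕ, m ≤ p - 1 → IsUnit ((m.factorial : ℕ) : A) := by
      intro m hm
      have hd : ((m.factorial : ℕ) : A) ∣ (((p - 1).factorial : ℕ) : A) :=
        Nat.cast_dvd_cast (Nat.factorial_dvd_factorial hm)
      exact isUnit_of_dvd_unit hd hu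
    have H0 : ∀ r : ℕ, r < p → (r.factorial : A) * F.coeff r
        = ∏ k ∈ Finset.range r, (a - (k : A) * μ) := by
      intro r hr
      rcases Nat.eq_zero_or_pos r with rfl | hr0
      · simp [h0]
      · exact H r hr0 hr
    rcases lt_trichotomy (n + 1) p with hlt | heq | hgt
    · obtain ⟨v, hv⟩ := (hfac n (by omega)).exists_left_inv
      have h1 := H0 (n + 1) hlt
      have h2 := H0 n (by omega)
      rw [Finset.prod_range_succ, ← h2, Nat.factorial_succ] at h1
      push_cast at h1
      linear_combination v * h1 -
        (((n : A) + 1) * F.coeff (n + 1) - (a - (n : A) * μ) * F.coeff n) * hv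
    · obtain ⟨v, hv⟩ := (hfac n (by omega)).exists_left_inv
      have h2 := H0 n (by omega)
      have h3 : F.coeff (n + 1) = 0 := Polynomial.coeff_eq_zero_of_natDegree_lt (by omega)
      rw [← heq, Finset.prod_range_succ, ← h2] at hz
      rw [h3, mul_zero]
      linear_combination (-v) * hz + ((a - (n : A) * μ) * F.coeff n) * hv
    · have h3 : F.coeff (n + 1) = 0 := Polynomial.coeff_eq_zero_of_natDegree_lt (by omega)
      have h4 : F.coeff n = 0 := Polynomial.coeff_eq_zero_of_natDegree_lt (by omega)
      rw [h3, h4, mul_zero, mul_zero]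

end Groth.Agent.S13157
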