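import Groth.Statements.S13158
import Mathlib

set_option autoImplicit false
universe u
open CAlg

namespace Groth.Agent.S13158

section aux
open Polynomial

lemma S1 {R : Type*} [CommRing R] (p : ℕ) (hp : p.Prime) (lam : R)
    (h : lam ^ (p - 1) ∣ (p : R)) :
    ∃ S : R[X], (1 + C lam * X) ^ p = 1 + C (lam ^ p) * S := by
  have hCp : C (lam ^ p) = C lam * C (lam ^ (p - 1)) := by
    rw [← C_mul, ← pow_succ', Nat.sub_add_cancel hp.one_le]
  have hdiv : ∀ k ∈ Finset.range p, C (lam ^ p) ∣
      (C lam * X) ^ (k + 1) * 1 ^ (p - (k + 1)) * ((p.choose (k + 1) : ℕ) : R[X]) := by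
    intro k hk
    have hk' := Finset.mem_range.mp hk
    rw [one_pow, mul_one]
    rcases Nat.lt_or_ge (k + 1) p with hlt | hge
    · have h1 : C lam ∣ (C lam * X) ^ (k + 1) :=
        Dvd.dvd.trans (dvd_mul_right _ _) (dvd_pow_self _ (Nat.succ_ne_zero k))
      have h2 : C (lam ^ (p - 1)) ∣ ((p.choose (k + 1) : ℕ) : R[X]) := by
        obtain ⟨m, hm⟩ := hp.dvd_choose_self (Nat.succ_ne_zero k) hlt
        rw [hm, Nat.cast_mul]
        refine Dvd.dvd.mul_right ?_ _
        rw [← map_natCast (C : R →+* R[X])]
        exact map_dvd C h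
      rw [hCp]
      exact mul_dvd_mul h1 h2
    · have hkp : k + 1 = p := by omega
      rw [hkp, Nat.choose_self, Nat.cast_one, mul_one, mul_pow, ← C_pow]
      exact dvd_mul_right _ _
  have hsum : (1 + C lam * X) ^ p = 1 + ∑ k ∈ Finset.range p,
      (C lam * X) ^ (k + 1) * 1 ^ (p - (k + 1)) * ((p.choose (k + 1) : ℕ) : R[X]) := by
    rw [add_comm 1 (C lam * X), add_pow, Finset.sum_range_succ', add_comm]
    simp
  obtain ⟨S, hS⟩ := Finset.dvd_sum hdiv
  exact ⟨S, by rw [hsum, hS]⟩

lemma Psi {R : Type*} [CommRing R] (p : ℕ) (hp : p.Prime) :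
    ∀ (m : ℕ) (lam : R), lam ^ (p ^ m * (p - 1)) ∣ (p : R) →
      ∃ G : R[X], (1 + C lam * X) ^ p ^ (m + 1) = 1 + C (lam ^ p ^ (m + 1)) * G := by
  intro m
  induction m with
  | zero =>
    intro lam h
    rw [pow_zero, one_mul] at h
    obtain ⟨S, hS⟩ := S1 p hp lam h
    exact ⟨S, by rw [zero_add, pow_one]; exact hS⟩
  | succ m ih =>
    intro lam h
    have h1 : lam ^ (p - 1) ∣ (p : R) := by
      refine Dvd.dvd.trans (pow_dvd_pow lam ?_) h
      exact Nat.le_mul_of_pos_left _ (pow_pos hp.pos _)
    obtain ⟨S, hS⟩ := S1 p hp lam h1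
    have h2 : (lam ^ p) ^ (p ^ m * (p - 1)) ∣ (p : R) := by
      rw [← pow_mul]
      have e : p * (p ^ m * (p - 1)) = p ^ (m + 1) * (p - 1) := by rw [pow_succ']; ring
      rw [e]; exact h
    obtain ⟨G, hG⟩ := ih (lam ^ p) h2
    refine ⟨G.comp S, ?_⟩
    have hG' := congrArg (fun f : R[X] => f.comp S) hG
    simp only [pow_comp, add_comp, one_comp, mul_comp, C_comp, X_comp] at hG'
    rw [pow_succ' p (m + 1), pow_mul, hS, hG', ← pow_mul]

end aux


/-- Let R be a discrete valuation ring of characteristic zero whose maximal ideal contains the prime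
number p, let n ≥ 1, and let λ be a nonzero element of R such that λ^(p^(n−1)(p−1)) divides p (the
condition v(p) ≥ p^(n−1)(p−1)·v(λ) under which the polynomial ((1 + λT)^(p^n) − 1)/λ^(p^n) has
coefficients in R). Let A be an integrally closed integral domain which is a faithfully flat
R-algebra. Then for every unit x of A, λ^(p^n) divides x^(p^n) − 1 in A if and only if λ divides x −
1 in A. -/
theorem result (R : Type u) [CommRing R]
    [IsDomain R] [IsDiscreteValuationRing R] [CharZero R] (p n : ℕ) [Fact p.Prime] (hn : 1 ≤ n)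
    (hp : (p : R) ∈ IsLocalRing.maximalIdeal R) (lam : R) (hlam : lam ≠ 0)
    (hstar : lam ^ (p ^ (n - 1) * (p - 1)) ∣ (p : R))
    (A : Type u) [CommRing A] [IsDomain A] [IsIntegrallyClosed A] [Algebra R A] [Module.FaithfullyFlat R A]
    (x : Aˣ) :
    (algebraMap R A lam ^ p ^ n ∣ (x : A) ^ p ^ n - 1) ↔ (algebraMap R A lam ∣ (x : A) - 1) := by
  have hpP : p.Prime := Fact.out
  obtain ⟨m, rfl⟩ : ∃ m, n = m + 1 := ⟨n - 1, by omega⟩
  rw [Nat.add_sub_cancel] at hstar
  obtain ⟨G, hG⟩ := Psi p hpP m lam hstar
  obtain ⟨N, hN⟩ : ∃ N, N = p ^ (m + 1) := ⟨_, rfl⟩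
  rw [← hN] at hG ⊢
  have hN1 : 1 ≤ N := by rw [hN]; exact Nat.one_le_pow _ _ hpP.pos
  have hcoef : ∀ k, ((N.choose k : ℕ) : R) * lam ^ k
      = (if k = 0 then 1 else 0) + lam ^ N * G.coeff k := by
    intro k
    have h1 : ((1 + Polynomial.C lam * Polynomial.X : Polynomial R) ^ N).coeff k
        = ((N.choose k : ℕ) : R) * lam ^ k := by
      have h2 : (1 + Polynomial.C lam * Polynomial.X : Polynomial R) ^ N
          = ((1 + Polynomial.X : Polynomial R) ^ N).comp (Polynomial.C lam * Polynomial.X) := by
        simp only [Polynomial.pow_comp, Polynomial.add_comp, Polynomial.one_comp,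
          Polynomial.X_comp]
      rw [h2, Polynomial.comp_C_mul_X_coeff, Polynomial.coeff_one_add_X_pow]
    rw [← h1, hG, Polynomial.coeff_add, Polynomial.coeff_C_mul, Polynomial.coeff_one]
  have hlamN : lam ^ N ≠ 0 := pow_ne_zero N hlam
  have hGN : G.coeff N = 1 := by
    have h := hcoef N
    rw [Nat.choose_self, Nat.cast_one, one_mul, if_neg (by omega), zero_add] at h
    exact (mul_left_cancel₀ hlamN (by rw [mul_one]; exact h)).symm
  have hGk : ∀ k, N < k → G.coeff k = 0 := by
    intro k hk
    have h := hcoef k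
    rw [Nat.choose_eq_zero_of_lt hk, Nat.cast_zero, zero_mul, if_neg (by omega), zero_add] at h
    rcases mul_eq_zero.mp h.symm with h0 | h0
    · exact absurd h0 hlamN
    · exact h0
  have hGle : G.natDegree ≤ N := Polynomial.natDegree_le_iff_coeff_eq_zero.mpr hGk
  have hGmonic : G.Monic := Polynomial.monic_of_natDegree_le_of_coeff_eq_one N hGle hGN
  have hGdeg : G.natDegree = N :=
    le_antisymm hGle (Polynomial.le_natDegree_of_ne_zero (by rw [hGN]; exact one_ne_zero))
  have hinj : Function.Injective (algebraMap R A) := FaithfulSMul.algebraMap_injective R A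
  have hl0 : algebraMap R A lam ≠ 0 := (map_ne_zero_iff _ hinj).mpr hlam
  have hGA : (1 + Polynomial.C (algebraMap R A lam) * Polynomial.X : Polynomial A) ^ N
      = 1 + Polynomial.C (algebraMap R A lam ^ N) * G.map (algebraMap R A) := by
    have h := congrArg (Polynomial.map (algebraMap R A)) hG
    simpa only [Polynomial.map_pow, Polynomial.map_add, Polynomial.map_one, Polynomial.map_mul,
      Polynomial.map_C, Polynomial.map_X, map_pow] using h
  constructor
  · rintro ⟨w, hw⟩
    have hgl : algebraMap A (FractionRing A) (algebraMap R A lam) ≠ 0 :=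
      (map_ne_zero_iff _ (IsFractionRing.injective A (FractionRing A))).mpr hl0
    obtain ⟨y, hy⟩ : ∃ y : FractionRing A,
        algebraMap A (FractionRing A) (algebraMap R A lam) * y
          = algebraMap A (FractionRing A) (x : A) - 1 :=
      ⟨(algebraMap A (FractionRing A) (x : A) - 1) /
        algebraMap A (FractionRing A) (algebraMap R A lam), mul_div_cancel₀ _ hgl⟩
    have h1 := congrArg (Polynomial.aeval y) hGA
    simp only [map_pow, map_add, map_one, map_mul, Polynomial.aeval_C, Polynomial.aeval_X] at h1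
    have h2 := congrArg (algebraMap A (FractionRing A)) hw
    simp only [map_sub, map_pow, map_one, map_mul] at h2
    have h3 : algebraMap A (FractionRing A) (algebraMap R A lam) ^ N *
        Polynomial.aeval y (G.map (algebraMap R A))
        = algebraMap A (FractionRing A) (algebraMap R A lam) ^ N *
          algebraMap A (FractionRing A) w := by
      have e : (1 : FractionRing A) + algebraMap A (FractionRing A) (algebraMap R A lam) * y
          = algebraMap A (FractionRing A) (x : A) := by rw [hy]; ring
      rw [e] at h1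
      linear_combination h2 - h1
    have h4 : Polynomial.aeval y (G.map (algebraMap R A)) = algebraMap A (FractionRing A) w :=
      mul_left_cancel₀ (pow_ne_zero N hgl) h3
    have hmon : (G.map (algebraMap R A) - Polynomial.C w).Monic := by
      apply Polynomial.Monic.sub_of_left (hGmonic.map _)
      refine lt_of_le_of_lt Polynomial.degree_C_le ?_
      have hpos : 0 < (G.map (algebraMap R A)).natDegree := by
        rw [hGmonic.natDegree_map, hGdeg]; exact hN1
      exact Polynomial.natDegree_pos_iff_degree_pos.mp hpos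
    have hint : IsIntegral A y := by
      refine ⟨G.map (algebraMap R A) - Polynomial.C w, hmon, ?_⟩
      rw [← Polynomial.aeval_def, map_sub, h4, Polynomial.aeval_C, sub_self]
    obtain ⟨a, ha⟩ := IsIntegrallyClosed.algebraMap_eq_of_integral hint
    refine ⟨a, ?_⟩
    apply IsFractionRing.injective A (FractionRing A)
    rw [map_sub, map_one, map_mul, ha, hy]
  · rintro ⟨t, ht⟩
    have hx : (x : A) = 1 + algebraMap R A lam * t := by linear_combination ht
    have h1 := congrArg (Polynomial.eval t) hGA
    simp only [Polynomial.eval_pow, Polynomial.eval_add, Polynomial.eval_one, Polynomial.eval_mul,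
      Polynomial.eval_C, Polynomial.eval_X] at h1
    exact ⟨(G.map (algebraMap R A)).eval t, by rw [hx, h1]; ring⟩

end Groth.Agent.S13158
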