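import Groth.Statements.S1316
import Mathlib
import Groth.Agent.S1313

set_option autoImplicit false
universe u
open FlatMor

namespace Groth.Agent.S1316

open AlgebraicGeometry CategoryTheory Limits


open AlgebraicGeometry CategoryTheory Limits in
/-- Let Y ⟶ Y' be a thickening, let X be the base change to Y of a scheme X' over Y', and assume both X
⟶ Y and X' ⟶ Y' are locally of finite type. Then X ⟶ Y is an immersion if and only if X' ⟶ Y' is. -/
theorem result {X X' Y Y' : Scheme.{u}} (iX : X ⟶ X') (iY : Y ⟶ Y') (f : X ⟶ Y) (f' : X' ⟶ Y')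
    (hY : MoreMor.IsThickening iY) (hc : IsPullback iX f f' iY) [LocallyOfFiniteType f] [LocallyOfFiniteType f'] :
    IsImmersion f ↔ IsImmersion f' := by
  constructor
  · intro hf
    have hX : MoreMor.IsThickening iX :=
      ⟨MorphismProperty.of_isPullback (P := @IsClosedImmersion) hc.flip hY.1,
        MorphismProperty.of_isPullback (P := @Surjective) hc.flip hY.2⟩
    haveI := hY.1
    haveI := hY.2
    haveI := hX.1
    haveI := hX.2
    -- range f' = iY '' range f
    have hr : Set.range f' = iY '' Set.range f := by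
      ext y
      constructor
      · rintro ⟨x', rfl⟩
        obtain ⟨x, rfl⟩ := iX.surjective x'
        refine ⟨f x, ⟨x, rfl⟩, ?_⟩
        rw [← Scheme.Hom.comp_apply, ← Scheme.Hom.comp_apply, hc.w]
      · rintro ⟨_, ⟨x, rfl⟩, rfl⟩
        refine ⟨iX x, ?_⟩
        rw [← Scheme.Hom.comp_apply, ← Scheme.Hom.comp_apply, hc.w]
    have hlc : IsLocallyClosed (Set.range f') := by
      rw [hr]
      exact f.isLocallyClosed_range.image iY.isClosedEmbedding.isInducing
        iY.isClosedEmbedding.isClosed_range.isLocallyClosed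
    let U' : Y'.Opens := ⟨coborder (Set.range f'), hlc.isOpen_coborder⟩
    have hfU : Set.range f' ⊆ Set.range U'.ι := by
      rw [Scheme.Opens.range_ι]
      exact subset_coborder
    let f'' : X' ⟶ U' := IsOpenImmersion.lift U'.ι f' hfU
    have hf'' : f'' ≫ U'.ι = f' := IsOpenImmersion.lift_fac _ _ _
    have hgU : Set.range f ⊆ Set.range (iY ⁻¹ᵁ U').ι := by
      rw [Scheme.Opens.range_ι]
      rintro _ ⟨x, rfl⟩
      show iY (f x) ∈ coborder (Set.range f')
      apply subset_coborder
      refine ⟨iX x, ?_⟩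
      rw [← Scheme.Hom.comp_apply, ← Scheme.Hom.comp_apply, hc.w]
    let g' : X ⟶ (iY ⁻¹ᵁ U') := IsOpenImmersion.lift (iY ⁻¹ᵁ U').ι f hgU
    have hg' : g' ≫ (iY ⁻¹ᵁ U').ι = f := IsOpenImmersion.lift_fac _ _ _
    have hthick : MoreMor.IsThickening (iY ∣_ U') :=
      ⟨MorphismProperty.of_isPullback (P := @IsClosedImmersion)
          (isPullback_morphismRestrict iY U').flip hY.1,
        MorphismProperty.of_isPullback (P := @Surjective)
          (isPullback_morphismRestrict iY U').flip hY.2⟩
    have hsq : IsPullback iX g' f'' (iY ∣_ U') := by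
      refine IsPullback.of_bot (v₂₁ := (iY ⁻¹ᵁ U').ι) (v₂₂ := U'.ι) (h₃₁ := iY) ?_ ?_
        (isPullback_morphismRestrict iY U')
      · rw [hg', hf'']
        exact hc
      · rw [← cancel_mono U'.ι, Category.assoc, Category.assoc, hf'', morphismRestrict_ι,
          ← Category.assoc, hg']
        exact hc.w
    haveI : LocallyOfFiniteType f'' := by
      haveI : LocallyOfFiniteType (f'' ≫ U'.ι) := by rw [hf'']; infer_instance
      exact locallyOfFiniteType_of_comp f'' U'.ι
    haveI : LocallyOfFiniteType g' := by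
      haveI : LocallyOfFiniteType (g' ≫ (iY ⁻¹ᵁ U').ι) := by rw [hg']; infer_instance
      exact locallyOfFiniteType_of_comp g' (iY ⁻¹ᵁ U').ι
    haveI : IsPreimmersion g' := by
      haveI : IsPreimmersion (g' ≫ (iY ⁻¹ᵁ U').ι) := by rw [hg']; infer_instance
      exact IsPreimmersion.of_comp g' (iY ⁻¹ᵁ U').ι
    have hcl : IsClosed (Set.range g') := by
      have heq : Set.range g' = ((iY ⁻¹ᵁ U').ι ≫ iY) ⁻¹' (closure (Set.range f')) := by
        ext z
        constructor
        · rintro ⟨x, rfl⟩
          apply subset_closure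
          refine ⟨iX x, ?_⟩
          rw [← Scheme.Hom.comp_apply, ← Scheme.Hom.comp_apply, ← Category.assoc, hg', hc.w]
        · intro hz
          have hz1 : iY ((iY ⁻¹ᵁ U').ι z) ∈ closure (Set.range f') := by
            simpa [Scheme.Hom.comp_apply] using hz
          have hz2 : iY ((iY ⁻¹ᵁ U').ι z) ∈ coborder (Set.range f') := z.2
          have hz3 : iY ((iY ⁻¹ᵁ U').ι z) ∈ Set.range f' := by
            by_contra hcon
            exact hz2 ⟨hz1, hcon⟩
          obtain ⟨x', hx'⟩ := hz3
          obtain ⟨x, hx1, hx2⟩ := Scheme.exists_preimage_of_isPullback hc x'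
            ((iY ⁻¹ᵁ U').ι z) hx'
          refine ⟨x, ?_⟩
          apply (iY ⁻¹ᵁ U').ι.isOpenEmbedding.injective
          rw [← Scheme.Hom.comp_apply, hg']
          exact hx2
      rw [heq]
      exact isClosed_closure.preimage ((iY ⁻¹ᵁ U').ι ≫ iY).continuous
    haveI : IsClosedImmersion g' := IsClosedImmersion.of_isPreimmersion g' hcl
    haveI : IsClosedImmersion f'' :=
      (Groth.Agent.S1313.result iX (iY ∣_ U') g' f'' hthick hsq).mp inferInstance
    rw [← hf'']
    infer_instance
  · intro hf'
    exact MorphismProperty.of_isPullback (P := @IsImmersion) hc hf'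

end Groth.Agent.S1316
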