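import Groth.Statements.S13160
import Groth.Agent.H77.WittHom

set_option autoImplicit false
universe u
open CAlg

namespace Groth.Agent.S13160

/-- Let R be a discrete valuation ring, p a prime number and λ an element of R dividing p (so that R/λR
is an 𝔽_p-algebra), and let a and b be p-typical Witt vectors with coefficients in R/λR which are
killed by the Frobenius endomorphism. Then the Witt sum a + b has components a_n + b_n for every n.
(The published statement allows an arbitrary λ ∈ R and is stated for Witt vectors with finitely many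
nonzero components; this row assumes that λ divides p, so that p = 0 in R/λR, and allows all Witt
vectors.) -/
theorem result (R : Type u) [CommRing R] [IsDomain R]
    [IsDiscreteValuationRing R] (p : ℕ) [Fact p.Prime] (lam : R) (hlam : lam ∣ (p : R))
    (a b : WittVector p (R ⧸ Ideal.span {lam})) (ha : WittVector.frobenius a = 0)
    (hb : WittVector.frobenius b = 0) (n : ℕ) : (a + b).coeff n = a.coeff n + b.coeff n := by
  classical
  by_cases htriv : Subsingleton (R ⧸ Ideal.span {lam})
  · exact Subsingleton.elim _ _
  rw [not_subsingleton_iff_nontrivial] at htriv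
  have hpP : p.Prime := Fact.out
  have hp0 : ((p : ℕ) : R ⧸ Ideal.span {lam}) = 0 := by
    have h1 : (p : R) ∈ Ideal.span {lam} := Ideal.mem_span_singleton.mpr hlam
    have h := Ideal.Quotient.eq_zero_iff_mem.mpr h1
    simpa using h
  haveI : CharP (R ⧸ Ideal.span {lam}) p := by
    have h := CharP.ringChar_of_prime_eq_zero hpP hp0
    have h2 := ringChar.charP (R ⧸ Ideal.span {lam})
    rwa [h] at h2
  have hap : ∀ j, a.coeff j ^ p = 0 := fun j => by
    have h := congrArg (fun w => w.coeff j) ha
    simpa [WittVector.coeff_frobenius_charP] using h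
  have hbp : ∀ j, b.coeff j ^ p = 0 := fun j => by
    have h := congrArg (fun w => w.coeff j) hb
    simpa [WittVector.coeff_frobenius_charP] using h
  obtain ⟨N, hN, hmem⟩ : ∃ N : Ideal (R ⧸ Ideal.span {lam}), N ^ p = ⊥ ∧
      ∀ z : R ⧸ Ideal.span {lam}, z ^ p = 0 → z ∈ N := by
    have hdvd : ∀ r : R, (Ideal.Quotient.mk (Ideal.span {lam}) r) ^ p = 0 → lam ∣ r ^ p := by
      intro r hr
      rw [← map_pow, Ideal.Quotient.eq_zero_iff_mem, Ideal.mem_span_singleton] at hr
      exact hr
    by_cases hlam0 : lam = 0
    · refine ⟨⊥, Ideal.bot_pow hpP.ne_zero, fun z hz => ?_⟩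
      obtain ⟨r, rfl⟩ := Ideal.Quotient.mk_surjective z
      have h1 := hdvd r hz
      rw [hlam0, zero_dvd_iff] at h1
      have h2 : r = 0 := eq_zero_of_pow_eq_zero h1
      rw [h2, map_zero]
      exact Submodule.zero_mem _
    · obtain ⟨π, hπ⟩ := IsDiscreteValuationRing.exists_irreducible R
      obtain ⟨e, u, hlam_eq⟩ := IsDiscreteValuationRing.eq_unit_mul_pow_irreducible hlam0 hπ
      have hex : ∃ c : ℕ, e ≤ c * p := ⟨e, Nat.le_mul_of_pos_right e hpP.pos⟩
      set c := Nat.find hex with hc
      have hce : e ≤ c * p := Nat.find_spec hex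
      refine ⟨Ideal.map (Ideal.Quotient.mk (Ideal.span {lam})) (Ideal.span {π ^ c}), ?_, ?_⟩
      · rw [← Ideal.map_pow, Ideal.span_singleton_pow, Ideal.map_span, Set.image_singleton,
          Ideal.span_singleton_eq_bot, Ideal.Quotient.eq_zero_iff_mem, Ideal.mem_span_singleton,
          hlam_eq, ← pow_mul]
        exact Units.mul_left_dvd.mpr (pow_dvd_pow π hce)
      · intro z hz
        obtain ⟨r, rfl⟩ := Ideal.Quotient.mk_surjective z
        have h1 := hdvd r hz
        by_cases hr0 : r = 0
        · rw [hr0, map_zero]; exact Submodule.zero_mem _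
        · obtain ⟨s, u', hr_eq⟩ := IsDiscreteValuationRing.eq_unit_mul_pow_irreducible hr0 hπ
          have h2 : π ^ e ∣ π ^ (s * p) := by
            rw [hlam_eq, hr_eq, mul_pow, ← pow_mul, ← Units.val_pow_eq_pow_val] at h1
            exact Units.dvd_mul_left.mp (Units.mul_left_dvd.mp h1)
          have h3 : e ≤ s * p := (pow_dvd_pow_iff hπ.ne_zero hπ.not_isUnit).mp h2
          have h4 : c ≤ s := Nat.find_min' hex h3
          refine Ideal.mem_map_of_mem _ (Ideal.mem_span_singleton.mpr ?_)
          rw [hr_eq]
          exact Dvd.dvd.mul_left (pow_dvd_pow π h4) _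
  exact Groth.Agent.H77.add_coeff_of_mem p N hN a b (fun j => hmem _ (hap j))
    (fun j => hmem _ (hbp j)) n

end Groth.Agent.S13160
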