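import Groth.Statements.S13161
import Mathlib

set_option autoImplicit false
universe u
open scoped TensorProduct
open CAlg

namespace Groth.Agent.S13161

open scoped nonZeroDivisors

section aux

variable {R : Type u} [CommRing R] [IsDomain R] {K : Type u} [Field K] [Algebra R K]
  [IsFractionRing R K] {A : Type u} [AddCommGroup A] [Module R A]

theorem exists_smul_eq (y : A ⊗[R] K) :
    ∃ s : R, s ≠ 0 ∧ ∃ a : A, s • y = a ⊗ₜ[R] (1 : K) := by
  obtain ⟨⟨m, s⟩, h⟩ := IsLocalizedModule.surj R⁰ (TensorProduct.mk R K A 1)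
    (TensorProduct.comm R A K y)
  refine ⟨s.1, nonZeroDivisors.coe_ne_zero s, m, ?_⟩
  apply (TensorProduct.comm R A K).injective
  rw [map_smul, TensorProduct.comm_tmul]
  exact h

theorem eq_zero_of_smul_eq_zero {s : R} (hs : s ≠ 0) {y : A ⊗[R] K} (h : s • y = 0) : y = 0 := by
  have hu := IsLocalizedModule.map_units (TensorProduct.mk R K A 1)
    (⟨s, mem_nonZeroDivisors_of_ne_zero hs⟩ : R⁰)
  have hinj : Function.Injective (algebraMap R (Module.End R (K ⊗[R] A)) s) :=
    ((Module.End.isUnit_iff _).mp hu).1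
  apply (TensorProduct.comm R A K).injective
  apply hinj
  rw [map_zero, map_zero, Module.algebraMap_end_apply, ← map_smul, h, map_zero]

theorem eq_zero_of_tmul_one_eq_zero (a : A) (h : a ⊗ₜ[R] (1 : K) = 0) :
    ∃ s : R, s ≠ 0 ∧ s • a = 0 := by
  have h' : (1 : K) ⊗ₜ[R] a = 0 := by
    have := congrArg (TensorProduct.comm R A K) h
    rwa [TensorProduct.comm_tmul, map_zero] at this
  obtain ⟨s, hs⟩ := (IsLocalizedModule.eq_zero_iff R⁰ (TensorProduct.mk R K A 1)).mp h'
  exact ⟨s.1, nonZeroDivisors.coe_ne_zero s, hs⟩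

end aux

/-- Let R be a discrete valuation ring with fraction field K, A an R-algebra which is semireflexive as
an R-module (the map to its double dual is injective: every nonzero a ∈ A has an R-linear form f : A
→ R with f(a) ≠ 0), and B an A-algebra which is finitely generated as an A-module and flat over R.
Suppose B ⊗ K is semireflexive as a module over A ⊗ K, which for such B amounts to: every nonzero b
∈ B has an A-linear map g : B → A ⊗_R K with g(b) ≠ 0. Then B is semireflexive as an R-module: every
nonzero b ∈ B has an R-linear form h : B → R with h(b) ≠ 0. (The published statement phrases the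
hypothesis on B_K as an A_K-module; for B flat over R and finite over A this is the elementwise
condition used here.) -/
theorem result (R : Type u) [CommRing R] [IsDomain R]
    [IsDiscreteValuationRing R] (K : Type u) [Field K] [Algebra R K] [IsFractionRing R K]
    (A B : Type u) [CommRing A] [CommRing B] [Algebra R A] [Algebra R B] [Algebra A B] [IsScalarTower R A B]
    [Module.Finite A B] [Module.Flat R B]
    (hA : ∀ a : A, a ≠ 0 → ∃ f : A →ₗ[R] R, f a ≠ 0)
    (hBK : ∀ b : B, b ≠ 0 → ∃ g : B →ₗ[A] A ⊗[R] K, g b ≠ 0) :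
    ∀ b : B, b ≠ 0 → ∃ h : B →ₗ[R] R, h b ≠ 0 := by
  classical
  intro b hb
  obtain ⟨g, hg⟩ := hBK b hb
  -- torsion-freeness of `A`
  have htf : ∀ (r : R) (a : A), r ≠ 0 → r • a = 0 → a = 0 := by
    intro r a hr hra
    by_contra ha
    obtain ⟨f, hf⟩ := hA a ha
    have : r * f a = 0 := by rw [← smul_eq_mul, ← map_smul, hra, map_zero]
    rcases mul_eq_zero.mp this with h | h
    · exact hr h
    · exact hf h
  let ι : A →ₗ[A] A ⊗[R] K :=
    { toFun := fun a => a ⊗ₜ[R] (1 : K)
      map_add' := fun x y => TensorProduct.add_tmul x y 1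
      map_smul' := fun c x => by simp [TensorProduct.smul_tmul'] }
  have hι : Function.Injective ι := by
    rw [← LinearMap.ker_eq_bot, LinearMap.ker_eq_bot']
    intro a ha
    obtain ⟨s, hs, hsa⟩ := eq_zero_of_tmul_one_eq_zero (R := R) (K := K) a ha
    exact htf s a hs hsa
  obtain ⟨S, hS⟩ := (Module.Finite.fg_top : (⊤ : Submodule A B).FG)
  choose sx hsx ax hax using fun x : B => exists_smul_eq (R := R) (K := K) (g x)
  let s : R := ∏ x ∈ S, sx x
  have hs : s ≠ 0 := Finset.prod_ne_zero_iff.mpr fun x _ => hsx x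
  let t : A := algebraMap R A s
  let g₁ : B →ₗ[A] A ⊗[R] K := t • g
  have hg₁ : ∀ y, g₁ y = s • g y := fun y => by
    simp only [g₁, t, LinearMap.smul_apply, algebraMap_smul]
  have hN : ∀ y, g₁ y ∈ LinearMap.range ι := by
    have hle : Submodule.span A (S : Set B) ≤ Submodule.comap g₁ (LinearMap.range ι) := by
      rw [Submodule.span_le]
      intro x hx
      rw [SetLike.mem_coe, Submodule.mem_comap, hg₁]
      have : s = (∏ y ∈ S.erase x, sx y) * sx x := by
        rw [Finset.prod_erase_mul S sx hx]
      rw [this, mul_smul, hax x, TensorProduct.smul_tmul']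
      exact ⟨_, rfl⟩
    intro y
    have : y ∈ Submodule.span A (S : Set B) := by rw [hS]; trivial
    exact hle this
  let e := LinearEquiv.ofInjective ι hι
  let g₂ : B →ₗ[A] A := e.symm.toLinearMap ∘ₗ (g₁.codRestrict (LinearMap.range ι) hN)
  have hg₂ : ∀ y, ι (g₂ y) = g₁ y := by
    intro y
    have := e.apply_symm_apply (g₁.codRestrict (LinearMap.range ι) hN y)
    exact congrArg Subtype.val this
  have hne : g₂ b ≠ 0 := by
    intro h0
    have h1 : g₁ b = 0 := by rw [← hg₂, h0, map_zero]
    rw [hg₁] at h1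
    exact hg (eq_zero_of_smul_eq_zero (R := R) (K := K) hs h1)
  obtain ⟨f, hf⟩ := hA _ hne
  exact ⟨f ∘ₗ (g₂.restrictScalars R), hf⟩

end Groth.Agent.S13161
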