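import Groth.Statements.S13164
import Mathlib

set_option autoImplicit false
universe u
open ZeroCyc

namespace Groth.Agent.S13164


theorem arith (s l n : ℕ) (hl : 0 < l) (hn : (s - 1) * (l - 1) ≤ n) (h : n + l + s ≤ s * l) : False := by
  cases s with
  | zero => simp at h; omega
  | succ s' =>
    cases l with
    | zero => omega
    | succ l' =>
      simp only [Nat.add_sub_cancel] at hn
      have h2 : (s' + 1) * (l' + 1) = s' * l' + s' + l' + 1 := by ring
      rw [h2] at h
      omega



/-- Let B be a graded R-algebra generated by homogeneous elements f_1, …, f_s of positive degrees d_1,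
…, d_s and let l be the least common multiple of the d_i. Then B_{n+l} = B_n B_l for every n ≥ (s −
1)(l − 1). -/
theorem result {R A : Type u} [CommRing R] [CommRing A] [Algebra R A] (𝒜 : ℕ → Submodule R A) [GradedAlgebra 𝒜]
    {s : ℕ} (f : Fin s → A) (deg : Fin s → ℕ) (hdeg : ∀ i, 0 < deg i) (hf : ∀ i, f i ∈ 𝒜 (deg i))
    (hgen : Algebra.adjoin R (Set.range f) = ⊤) (n : ℕ)
    (hn : (s - 1) * (Finset.univ.lcm deg - 1) ≤ n) :
    𝒜 (n + Finset.univ.lcm deg) = 𝒜 n * 𝒜 (Finset.univ.lcm deg) := by
  classical
  set l := Finset.univ.lcm deg with hl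
  have hlpos : 0 < l := by
    rw [Nat.pos_iff_ne_zero, hl, Ne, Finset.lcm_eq_zero_iff]
    rintro ⟨i, -, hi⟩
    exact (hdeg i).ne' hi
  apply le_antisymm
  · intro x hx
    have hxadj : x ∈ Algebra.adjoin R (Set.range f) := by rw [hgen]; trivial
    rw [Algebra.adjoin_range_eq_range_aeval] at hxadj
    obtain ⟨P, rfl⟩ := hxadj
    have hm : ∀ a : Fin s →₀ ℕ, (∏ j, f j ^ a j) ∈ 𝒜 (∑ j, a j * deg j) := by
      intro a
      have h1 := SetLike.prod_pow_mem_graded 𝒜 deg f (F := Finset.univ) (fun j => a j) (fun j _ => hf j)
      simpa only [smul_eq_mul] using h1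
    have hP : MvPolynomial.aeval f P =
        ∑ a ∈ P.support, (MvPolynomial.coeff a P) • (∏ j, f j ^ a j) := by
      conv_lhs => rw [P.as_sum]
      rw [map_sum]
      apply Finset.sum_congr rfl
      intro a _
      rw [MvPolynomial.aeval_monomial, Algebra.smul_def]
      congr 1
      rw [Finsupp.prod_fintype]
      intro j; exact pow_zero _
    have hterm : ∀ a : Fin s →₀ ℕ, GradedRing.proj 𝒜 (n + l)
        (MvPolynomial.coeff a P • (∏ j, f j ^ a j)) ∈ 𝒜 n * 𝒜 l := by
      intro a
      have hta : MvPolynomial.coeff a P • (∏ j, f j ^ a j) ∈ 𝒜 (∑ j, a j * deg j) :=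
        Submodule.smul_mem _ _ (hm a)
      rw [GradedRing.proj_apply]
      by_cases hwa : ∑ j, a j * deg j = n + l
      · have h1 : ((DirectSum.decompose 𝒜 (MvPolynomial.coeff a P • (∏ j, f j ^ a j))) (n + l) : A)
            = MvPolynomial.coeff a P • (∏ j, f j ^ a j) := by
          apply DirectSum.decompose_of_mem_same
          rw [← hwa]; exact hta
        rw [h1]
        obtain ⟨i, hi⟩ : ∃ i, l / deg i ≤ a i := by
          by_contra hcon
          push Not at hcon
          have hb : ∀ j, a j * deg j + 1 ≤ l := by
            intro j
            have h1 : a j + 1 ≤ l / deg j := hcon j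
            have h2 : (a j + 1) * deg j ≤ l := (Nat.le_div_iff_mul_le (hdeg j)).mp h1
            have h3 := hdeg j
            nlinarith
          have hsum : ∑ j : Fin s, (a j * deg j + 1) ≤ ∑ _j : Fin s, l :=
            Finset.sum_le_sum fun j _ => hb j
          rw [Finset.sum_add_distrib, Finset.sum_const, Finset.sum_const, Finset.card_univ,
            Fintype.card_fin, smul_eq_mul, smul_eq_mul, mul_one, hwa] at hsum
          exact arith s l n hlpos hn hsum
        have hq : l / deg i * deg i = l := Nat.div_mul_cancel (Finset.dvd_lcm (Finset.mem_univ i))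
        have hprod : (∏ j, f j ^ a j) =
            (∏ j, f j ^ (if j = i then a i - l / deg i else a j)) * f i ^ (l / deg i) := by
          have h2 : ∀ j, f j ^ a j = f j ^ (if j = i then a i - l / deg i else a j) *
              (if j = i then f i ^ (l / deg i) else 1) := by
            intro j
            by_cases hj : j = i
            · rw [hj]; simp only [if_true]; rw [← pow_add, Nat.sub_add_cancel hi]
            · simp [hj]
          rw [Finset.prod_congr rfl (fun j _ => h2 j), Finset.prod_mul_distrib]
          simp only [Finset.prod_ite_eq', Finset.mem_univ, if_true]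
        have hw' : ∑ j, (if j = i then a i - l / deg i else a j) * deg j = n := by
          have h2 : ∀ j, a j * deg j = (if j = i then a i - l / deg i else a j) * deg j +
              (if j = i then l else 0) := by
            intro j
            by_cases hj : j = i
            · rw [hj]; simp only [if_true]
              have h9 := Nat.sub_add_cancel hi
              calc a i * deg i = (a i - l / deg i + l / deg i) * deg i := by rw [h9]
                _ = (a i - l / deg i) * deg i + l / deg i * deg i := add_mul _ _ _
                _ = (a i - l / deg i) * deg i + l := by rw [hq]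
            · simp [hj]
          have h3 : ∑ j, a j * deg j =
              ∑ j, (if j = i then a i - l / deg i else a j) * deg j + l := by
            rw [Finset.sum_congr rfl (fun j _ => h2 j), Finset.sum_add_distrib]
            simp only [Finset.sum_ite_eq', Finset.mem_univ, if_true]
          omega
        have hM' : (∏ j, f j ^ (if j = i then a i - l / deg i else a j)) ∈ 𝒜 n := by
          have h4 := SetLike.prod_pow_mem_graded 𝒜 deg f (F := Finset.univ)
            (fun j => if j = i then a i - l / deg i else a j) (fun j _ => hf j)
          simp only [smul_eq_mul] at h4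
          rwa [hw'] at h4
        have hfi : f i ^ (l / deg i) ∈ 𝒜 l := by
          have h5 := SetLike.pow_mem_graded (l / deg i) (hf i)
          rwa [smul_eq_mul, hq] at h5
        rw [hprod, ← smul_mul_assoc]
        exact Submodule.mul_mem_mul (Submodule.smul_mem _ _ hM') hfi
      · have h1 : ((DirectSum.decompose 𝒜 (MvPolynomial.coeff a P • (∏ j, f j ^ a j))) (n + l) : A)
            = 0 := DirectSum.decompose_of_mem_ne 𝒜 hta hwa
        rw [h1]; exact zero_mem _
    have hx' : MvPolynomial.aeval f P = ∑ a ∈ P.support, GradedRing.proj 𝒜 (n + l)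
        (MvPolynomial.coeff a P • (∏ j, f j ^ a j)) := by
      have h1 : GradedRing.proj 𝒜 (n + l) (MvPolynomial.aeval f P) = MvPolynomial.aeval f P := by
        rw [GradedRing.proj_apply]; exact DirectSum.decompose_of_mem_same 𝒜 hx
      rw [← h1]
      conv_lhs => rw [hP]
      rw [map_sum]
    change MvPolynomial.aeval f P ∈ _
    rw [hx']
    exact Submodule.sum_mem _ (fun a _ => hterm a)
  · rw [Submodule.mul_le]
    intro a ha b hb
    exact SetLike.mul_mem_graded ha hb

end Groth.Agent.S13164
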