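import Groth.Statements.S13165
import Mathlib
import Groth.Agent.S13164

set_option autoImplicit false
universe u
open ZeroCyc

namespace Groth.Agent.S13165


theorem deg_zero {R A : Type u} [CommRing R] [CommRing A] [Algebra R A] (𝒜 : ℕ → Submodule R A)
    [GradedAlgebra 𝒜] {s : ℕ} (f : Fin s → A) (deg : Fin s → ℕ) (hdeg : ∀ i, 0 < deg i)
    (hf : ∀ i, f i ∈ 𝒜 (deg i)) (hgen : Algebra.adjoin R (Set.range f) = ⊤) :
    𝒜 0 = 1 := by
  classical
  apply le_antisymm
  · intro x hx
    have hxadj : x ∈ Algebra.adjoin R (Set.range f) := by rw [hgen]; trivial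
    rw [Algebra.adjoin_range_eq_range_aeval] at hxadj
    obtain ⟨P, rfl⟩ := hxadj
    change MvPolynomial.aeval f P ∈ _
    have hx0 : MvPolynomial.aeval f P ∈ 𝒜 0 := hx
    have hm : ∀ a : Fin s →₀ ℕ, (∏ j, f j ^ a j) ∈ 𝒜 (∑ j, a j * deg j) := by
      intro a
      have h1 := SetLike.prod_pow_mem_graded 𝒜 deg f (F := Finset.univ) (fun j => a j) (fun j _ => hf j)
      simpa only [smul_eq_mul] using h1
    have hP : MvPolynomial.aeval f P =
        ∑ a ∈ P.support, (MvPolynomial.coeff a P) • (∏ j, f j ^ a j) := by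
      conv_lhs => rw [P.as_sum]
      rw [map_sum]
      apply Finset.sum_congr rfl
      intro a _
      rw [MvPolynomial.aeval_monomial, Algebra.smul_def]
      congr 1
      rw [Finsupp.prod_fintype]
      intro j; exact pow_zero _
    have hterm : ∀ a : Fin s →₀ ℕ, GradedRing.proj 𝒜 0
        (MvPolynomial.coeff a P • (∏ j, f j ^ a j)) ∈ (1 : Submodule R A) := by
      intro a
      have hta : MvPolynomial.coeff a P • (∏ j, f j ^ a j) ∈ 𝒜 (∑ j, a j * deg j) :=
        Submodule.smul_mem _ _ (hm a)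
      rw [GradedRing.proj_apply]
      by_cases hwa : ∑ j, a j * deg j = 0
      · have h1 : ((DirectSum.decompose 𝒜 (MvPolynomial.coeff a P • (∏ j, f j ^ a j))) 0 : A)
            = MvPolynomial.coeff a P • (∏ j, f j ^ a j) := by
          apply DirectSum.decompose_of_mem_same
          rw [← hwa]; exact hta
        rw [h1]
        have ha0 : ∀ j, a j = 0 := by
          intro j
          have h2 := Finset.sum_eq_zero_iff.mp hwa j (Finset.mem_univ j)
          rcases Nat.mul_eq_zero.mp h2 with h | h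
          · exact h
          · exact absurd h (hdeg j).ne'
        have h3 : (∏ j, f j ^ a j) = 1 := Finset.prod_eq_one (fun j _ => by rw [ha0 j, pow_zero])
        rw [h3]
        exact Submodule.mem_one.mpr ⟨MvPolynomial.coeff a P, by rw [Algebra.algebraMap_eq_smul_one]⟩
      · have h1 : ((DirectSum.decompose 𝒜 (MvPolynomial.coeff a P • (∏ j, f j ^ a j))) 0 : A)
            = 0 := DirectSum.decompose_of_mem_ne 𝒜 hta hwa
        rw [h1]; exact zero_mem _
    have hx' : MvPolynomial.aeval f P = ∑ a ∈ P.support, GradedRing.proj 𝒜 0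
        (MvPolynomial.coeff a P • (∏ j, f j ^ a j)) := by
      have h1 : GradedRing.proj 𝒜 0 (MvPolynomial.aeval f P) = MvPolynomial.aeval f P := by
        rw [GradedRing.proj_apply]; exact DirectSum.decompose_of_mem_same 𝒜 hx0
      rw [← h1]
      conv_lhs => rw [hP]
      rw [map_sum]
    rw [hx']
    exact Submodule.sum_mem _ (fun a _ => hterm a)
  · rw [Submodule.one_le]
    exact SetLike.one_mem_graded 𝒜



/-- Let B be a graded R-algebra generated by homogeneous elements f_1, …, f_s of positive degrees d_1,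
…, d_s, let l be the least common multiple of the d_i and n = a l with a ≥ s − 1. Then B_{kn} =
(B_n)^k for every k ≥ 0. -/
theorem result {R A : Type u} [CommRing R] [CommRing A] [Algebra R A] (𝒜 : ℕ → Submodule R A) [GradedAlgebra 𝒜]
    {s : ℕ} (f : Fin s → A) (deg : Fin s → ℕ) (hdeg : ∀ i, 0 < deg i) (hf : ∀ i, f i ∈ 𝒜 (deg i))
    (hgen : Algebra.adjoin R (Set.range f) = ⊤) (a : ℕ) (ha : s - 1 ≤ a) (k : ℕ) :
    𝒜 (k * (a * Finset.univ.lcm deg)) = 𝒜 (a * Finset.univ.lcm deg) ^ k := by
  classical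
  set l := Finset.univ.lcm deg with hl
  have hstep : ∀ m, (s - 1) * (l - 1) ≤ m → 𝒜 (m + l) = 𝒜 m * 𝒜 l :=
    fun m hm => Groth.Agent.S13164.result 𝒜 f deg hdeg hf hgen m hm
  have hiter : ∀ m, (s - 1) * (l - 1) ≤ m → ∀ j, 𝒜 (m + j * l) = 𝒜 m * 𝒜 l ^ j := by
    intro m hm j
    induction j with
    | zero => simp
    | succ j ih =>
      have e : m + (j + 1) * l = (m + j * l) + l := by ring
      rw [e, hstep (m + j * l) (le_trans hm (Nat.le_add_right _ _)), ih, pow_succ, mul_assoc]
  have hpow_le : ∀ j, 𝒜 l ^ j ≤ 𝒜 (j * l) := by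
    intro j
    induction j with
    | zero =>
      simp only [pow_zero, zero_mul]
      rw [Submodule.one_le]
      exact SetLike.one_mem_graded 𝒜
    | succ j ih =>
      rw [pow_succ, Submodule.mul_le]
      intro x hx y hy
      have e : (j + 1) * l = j * l + l := by ring
      rw [e]
      exact SetLike.mul_mem_graded (ih hx) hy
  have hmul_le : ∀ p q, 𝒜 p * 𝒜 q ≤ 𝒜 (p + q) := by
    intro p q
    rw [Submodule.mul_le]
    intro x hx y hy
    exact SetLike.mul_mem_graded hx hy
  have hn_big : (s - 1) * (l - 1) ≤ a * l := Nat.mul_le_mul ha (Nat.sub_le _ _)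
  induction k with
  | zero =>
    rw [zero_mul, pow_zero]
    exact deg_zero 𝒜 f deg hdeg hf hgen
  | succ k ih =>
    rcases Nat.eq_zero_or_pos k with hk | hk
    · subst hk; simp
    · have hbig : (s - 1) * (l - 1) ≤ k * (a * l) := le_trans hn_big (Nat.le_mul_of_pos_left _ hk)
      have e1 : (k + 1) * (a * l) = k * (a * l) + a * l := by ring
      rw [e1, pow_succ, ← ih]
      apply le_antisymm
      · rw [hiter _ hbig a]
        exact mul_le_mul' le_rfl (hpow_le a)
      · exact hmul_le _ _

end Groth.Agent.S13165
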