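import Groth.Statements.S13166
import Groth.Agent.H66.SubspaceCover
import Mathlib.Data.Finset.Powerset
import Mathlib.Data.Fintype.Powerset

set_option autoImplicit false
universe u
open ZeroCyc

namespace Groth.Agent.S13166

/-- Let k be a field, B a k-algebra generated as an algebra by a k-subspace V, k'/k a field extension
and x_1, …, x_d pairwise distinct k'-points of B ⊗_k k' (equivalently, distinct k-algebra
homomorphisms B → k'). If k has at least d(d − 1)/2 elements, then there is b ∈ V whose values at
x_1, …, x_d are pairwise distinct. -/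
theorem result {k : Type u} [Field k] {B : Type u} [CommRing B] [Algebra k B] (V : Submodule k B)
    (hV : Algebra.adjoin k (V : Set B) = ⊤) {k' : Type u} [Field k'] [Algebra k k']
    {d : ℕ} (x : Fin d → (B →ₐ[k] k')) (hx : Function.Injective x)
    (hk : ((d.choose 2 : ℕ) : Cardinal) ≤ Cardinal.mk k) :
    ∃ b ∈ V, Function.Injective fun i => x i b := by
  classical
  let s : Finset (Finset (Fin d)) := (Finset.univ : Finset (Fin d)).powersetCard 2
  have hs : s.card = d.choose 2 := by simp [s, Finset.card_powersetCard]
  let P : Finset (Fin d) → Submodule k V := fun t =>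
    ⨅ i ∈ t, ⨅ j ∈ t, LinearMap.ker (((x i).toLinearMap - (x j).toLinearMap).comp V.subtype)
  have hP : ∀ (t : Finset (Fin d)) (b : V), b ∈ P t ↔ ∀ i ∈ t, ∀ j ∈ t, x i b = x j b := by
    intro t b
    simp [P, Submodule.mem_iInf, sub_eq_zero]
  have hne : ∀ t ∈ s, P t ≠ ⊤ := by
    intro t ht htop
    rw [Finset.mem_powersetCard] at ht
    obtain ⟨i, j, hij, rfl⟩ := Finset.card_eq_two.mp ht.2
    have hall : ∀ b ∈ V, x i b = x j b := by
      intro b hb
      have : (⟨b, hb⟩ : V) ∈ P {i, j} := by rw [htop]; trivial
      exact (hP _ _).mp this i (by simp) j (by simp)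
    have : x i = x j := AlgHom.ext_of_adjoin_eq_top hV hall
    exact hij (hx this)
  obtain ⟨b, hb⟩ := Groth.Agent.H66.exists_forall_notMem_of_card_le s P hne (by rw [hs]; exact hk)
  refine ⟨b, b.2, ?_⟩
  intro i j hij
  by_contra hne'
  have hmem : ({i, j} : Finset (Fin d)) ∈ s := by
    simp [s, Finset.mem_powersetCard, Finset.card_pair hne']
  apply hb _ hmem
  rw [hP]
  intro i' hi' j' hj'
  simp only [Finset.mem_insert, Finset.mem_singleton] at hi' hj'
  rcases hi' with rfl | rfl <;> rcases hj' with rfl | rfl
  · rfl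
  · exact hij
  · exact hij.symm
  · rfl

end Groth.Agent.S13166
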