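import Mathlib
import Groth.Statements.S13167

set_option autoImplicit false
universe u
open AlgebraicGeometry
open ZeroCyc

namespace Groth.Agent.S13167

lemma exists_avoid {R V : Type*} [CommRing R] [AddCommGroup V] [Module R V] (p : Ideal R)
    {ι : Type*} [DecidableEq ι] (W : ι → Submodule R V)
    (hW : ∀ i, ∃ v, v ∉ W i)
    (hprime : ∀ i (r : R) (u : V), r • u ∈ W i → r ∈ p ∨ u ∈ W i)
    {d : ℕ} (t : Fin d → R) (ht : ∀ k k', t k - t k' ∈ p → k = k')
    (s : Finset ι) (hs : s.card ≤ d) : ∃ g : V, ∀ i ∈ s, g ∉ W i := by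
  induction s using Finset.induction_on with
  | empty => exact ⟨0, fun i hi => absurd hi (Finset.notMem_empty i)⟩
  | insert j s' hj ih =>
    rw [Finset.card_insert_of_notMem hj] at hs
    obtain ⟨g', hg'⟩ := ih (by omega)
    by_cases hgj : g' ∈ W j
    · obtain ⟨v, hv⟩ := hW j
      by_contra hcon
      push Not at hcon
      have hbad : ∀ k : Fin d, ∃ i ∈ s', v + t k • g' ∈ W i := by
        intro k
        obtain ⟨i, hi, hgi⟩ := hcon (v + t k • g')
        rcases Finset.mem_insert.mp hi with rfl | hi'
        · exfalso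
          apply hv
          have := Submodule.sub_mem _ hgi (Submodule.smul_mem _ (t k) hgj)
          simpa using this
        · exact ⟨i, hi', hgi⟩
      choose f hf hfW using hbad
      have hinj : Function.Injective (fun k => (⟨f k, hf k⟩ : s')) := by
        intro k k' hkk
        have hfk : f k = f k' := congrArg Subtype.val hkk
        apply ht
        have h1 := hfW k
        have h2 := hfW k'
        rw [← hfk] at h2
        have h3 : (t k - t k') • g' ∈ W (f k) := by
          have e : t k • g' - t k' • g' = (v + t k • g') - (v + t k' • g') := by abel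
          rw [sub_smul, e]
          exact Submodule.sub_mem _ h1 h2
        rcases hprime _ _ _ h3 with h | h
        · exact h
        · exact absurd h (hg' _ (hf k))
      have := Fintype.card_le_of_injective _ hinj
      simp only [Fintype.card_fin, Fintype.card_coe] at this
      omega
    · refine ⟨g', fun i hi => ?_⟩
      rcases Finset.mem_insert.mp hi with rfl | hi'
      · exact hgj
      · exact hg' i hi'

/-- Let B be a graded R-algebra generated by its degree-one part B_1, with B_1 a finitely generated
R-module, and let x_1, …, x_d be points of X = Proj B lying over one and the same prime p of R. If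
the residue field of p has at least d elements, then some f ∈ B_1 ⊆ Γ(X, O_X(1)) has all the x_i in
D_+(f). (Without the hypothesis on the residue field such an f exists in some B_n with n ≥ 1; that
first assertion is a known property of ample sheaves and is not restated here.) -/
theorem result {R A : Type u} [CommRing R] [CommRing A] [Algebra R A] (𝒜 : ℕ → Submodule R A) [GradedAlgebra 𝒜]
    (hgen : Algebra.adjoin R (𝒜 1 : Set A) = ⊤) (hfg : (𝒜 1).FG)
    (p : Ideal R) [p.IsPrime] {d : ℕ} (x : Fin d → Proj 𝒜)
    (hx : ∀ i, ((x i).asHomogeneousIdeal.toIdeal).comap (algebraMap R A) = p)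
    (hcard : (d : Cardinal) ≤ Cardinal.mk p.ResidueField) :
    ∃ g ∈ 𝒜 1, ∀ i, x i ∈ Proj.basicOpen 𝒜 g := by
  classical
  -- Step 1: `d` pairwise incongruent elements mod `p`
  have hcardQ : (d : Cardinal.{u}) ≤ Cardinal.mk (R ⧸ p) := by
    by_cases hfin : Finite (R ⧸ p)
    · haveI := hfin
      have hfield : IsField (R ⧸ p) := Finite.isField_of_domain (R ⧸ p)
      have hsurj : Function.Surjective (algebraMap (R ⧸ p) p.ResidueField) :=
        IsFractionRing.surjective_iff_isField.mpr hfield
      exact hcard.trans (Cardinal.mk_le_of_surjective hsurj)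
    · haveI : Infinite (R ⧸ p) := not_finite_iff_infinite.mp hfin
      exact (Cardinal.natCast_lt_aleph0 (n := d)).le.trans (Cardinal.aleph0_le_mk _)
  obtain ⟨e⟩ : Nonempty (Fin d ↪ R ⧸ p) := by
    rw [← Cardinal.lift_mk_le']
    simpa using hcardQ
  choose t ht using fun k => Ideal.Quotient.mk_surjective (e k)
  have htinj : ∀ k k', t k - t k' ∈ p → k = k' := by
    intro k k' h
    apply e.injective
    rw [← ht k, ← ht k']
    exact (Ideal.Quotient.eq).mpr h
  -- Step 2: the submodules
  let W : Fin d → Submodule R (𝒜 1) := fun i =>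
    Submodule.comap (𝒜 1).subtype (((x i).asHomogeneousIdeal.toIdeal).restrictScalars R)
  have hWmem : ∀ i (v : 𝒜 1), v ∈ W i ↔ (v : A) ∈ (x i).asHomogeneousIdeal.toIdeal :=
    fun i v => Iff.rfl
  have hprime : ∀ i (r : R) (u : 𝒜 1), r • u ∈ W i → r ∈ p ∨ u ∈ W i := by
    intro i r u h
    have h' : algebraMap R A r * (u : A) ∈ (x i).asHomogeneousIdeal.toIdeal := by
      have := (hWmem i (r • u)).mp h
      rwa [Submodule.coe_smul, Algebra.smul_def] at this
    rcases (x i).isPrime.mem_or_mem h' with h1 | h1
    · left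
      have : r ∈ Ideal.comap (algebraMap R A) (x i).asHomogeneousIdeal.toIdeal :=
        Ideal.mem_comap.mpr h1
      rwa [hx i] at this
    · right; exact (hWmem i u).mpr h1
  have hW : ∀ i, ∃ v : 𝒜 1, v ∉ W i := by
    intro i
    by_contra hall
    push Not at hall
    apply (x i).not_irrelevant_le
    have h1 : ∀ a ∈ 𝒜 1, a ∈ (x i).asHomogeneousIdeal.toIdeal :=
      fun a ha => (hWmem i ⟨a, ha⟩).mp (hall ⟨a, ha⟩)
    have h2 : ∀ a : A, ∃ r : R, a - algebraMap R A r ∈ (x i).asHomogeneousIdeal.toIdeal := by
      intro a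
      have ha : a ∈ Algebra.adjoin R (𝒜 1 : Set A) := hgen ▸ Algebra.mem_top
      induction ha using Algebra.adjoin_induction with
      | mem a ha => exact ⟨0, by simpa using h1 a ha⟩
      | algebraMap r => exact ⟨r, by simp⟩
      | add a b _ _ iha ihb =>
        obtain ⟨r, hr⟩ := iha
        obtain ⟨r', hr'⟩ := ihb
        refine ⟨r + r', ?_⟩
        have e : a + b - algebraMap R A (r + r') =
            (a - algebraMap R A r) + (b - algebraMap R A r') := by
          rw [map_add]; ring
        rw [e]
        exact Ideal.add_mem _ hr hr'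
      | mul a b _ _ iha ihb =>
        obtain ⟨r, hr⟩ := iha
        obtain ⟨r', hr'⟩ := ihb
        refine ⟨r * r', ?_⟩
        have e : a * b - algebraMap R A (r * r') =
            (a - algebraMap R A r) * b + algebraMap R A r * (b - algebraMap R A r') := by
          rw [map_mul]; ring
        rw [e]
        exact Ideal.add_mem _ (Ideal.mul_mem_right _ _ hr) (Ideal.mul_mem_left _ _ hr')
    have h3 : ∀ n : ℕ, n ≠ 0 → ∀ a ∈ 𝒜 n, a ∈ (x i).asHomogeneousIdeal.toIdeal := by
      intro n hn a ha
      obtain ⟨r, hr⟩ := h2 a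
      have hdec := (x i).asHomogeneousIdeal.isHomogeneous n hr
      have h0 : algebraMap R A r ∈ 𝒜 0 := SetLike.algebraMap_mem_graded 𝒜 r
      have e1 : ((DirectSum.decompose 𝒜 (a - algebraMap R A r)) n : A) = a := by
        rw [DirectSum.decompose_sub, DirectSum.sub_apply, Submodule.coe_sub,
          DirectSum.decompose_of_mem_same 𝒜 ha,
          DirectSum.decompose_of_mem_ne 𝒜 h0 (Ne.symm hn), sub_zero]
      rw [e1] at hdec
      exact hdec
    intro a ha
    rw [HomogeneousIdeal.mem_irrelevant_iff, GradedRing.proj_apply] at ha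
    show a ∈ (x i).asHomogeneousIdeal.toIdeal
    rw [← DirectSum.sum_support_decompose 𝒜 a]
    refine Ideal.sum_mem _ (fun n _ => ?_)
    by_cases hn : n = 0
    · subst hn
      rw [ha]; exact Ideal.zero_mem _
    · exact h3 n hn _ (SetLike.coe_mem _)
  obtain ⟨g, hg⟩ := exists_avoid p W hW hprime t htinj Finset.univ (by simp)
  refine ⟨g, g.2, fun i => ?_⟩
  rw [Proj.mem_basicOpen]
  exact fun h => hg i (Finset.mem_univ i) ((hWmem i g).mpr h)

end Groth.Agent.S13167
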