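import Groth.Statements.S13168

set_option autoImplicit false
universe u
open AlgebraicGeometry
open ZeroCyc

namespace Groth.Agent.S13168

/-- Let B be a graded R-algebra generated by homogeneous elements f_1, …, f_s of positive degrees d_1,
…, d_s, let l be the least common multiple of the d_i and X = Proj B. For n = a l with a ≥ 1, X is
the union of the opens D_+(g), g ∈ B_n. -/
theorem result {R A : Type u} [CommRing R] [CommRing A] [Algebra R A] (𝒜 : ℕ → Submodule R A) [GradedAlgebra 𝒜]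
    {s : ℕ} (f : Fin s → A) (deg : Fin s → ℕ) (hdeg : ∀ i, 0 < deg i) (hf : ∀ i, f i ∈ 𝒜 (deg i))
    (hgen : Algebra.adjoin R (Set.range f) = ⊤) (a : ℕ) (ha : 0 < a) :
    (⨆ g : 𝒜 (a * Finset.univ.lcm deg), Proj.basicOpen 𝒜 (g : A)) = ⊤ := by
  classical
  have hgen0 : Algebra.adjoin (𝒜 0) (Set.range f) = ⊤ := by
    refine top_le_iff.mp fun x hx0 => ?_
    clear hx0
    have hx : x ∈ Algebra.adjoin R (Set.range f) := by rw [hgen]; trivial
    induction hx using Algebra.adjoin_induction with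
    | mem y hy => exact Algebra.subset_adjoin hy
    | algebraMap r =>
      have : algebraMap R A r = algebraMap (𝒜 0) A ⟨algebraMap R A r, SetLike.algebraMap_mem_graded 𝒜 r⟩ := rfl
      rw [this]
      exact Subalgebra.algebraMap_mem _ _
    | add y z _ _ hy hz => exact Subalgebra.add_mem _ hy hz
    | mul y z _ _ hy hz => exact Subalgebra.mul_mem _ hy hz
  have h1 : ⨆ i, Proj.basicOpen 𝒜 (f i) = ⊤ :=
    Proj.iSup_basicOpen_eq_top' 𝒜 f (fun i => ⟨deg i, hf i⟩) hgen0
  refine top_le_iff.mp fun x _ => ?_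
  have hx : x ∈ ⨆ i, Proj.basicOpen 𝒜 (f i) := by rw [h1]; trivial
  obtain ⟨i, hi⟩ := TopologicalSpace.Opens.mem_iSup.mp hx
  have hdvd : deg i ∣ a * Finset.univ.lcm deg :=
    Dvd.dvd.mul_left (Finset.dvd_lcm (Finset.mem_univ i)) a
  obtain ⟨k, hk⟩ := hdvd
  have hl : 0 < Finset.univ.lcm deg := by
    apply Nat.pos_of_ne_zero
    rw [Ne, Finset.lcm_eq_zero_iff]
    rintro ⟨j, -, hj⟩
    exact (hdeg j).ne' hj
  have hkpos : 0 < k := by
    rcases Nat.eq_zero_or_pos k with h0 | h0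
    · rw [h0, mul_zero] at hk
      exact absurd hk (Nat.mul_pos ha hl).ne'
    · exact h0
  have hmem : f i ^ k ∈ 𝒜 (a * Finset.univ.lcm deg) := by
    have := SetLike.pow_mem_graded k (hf i)
    rwa [smul_eq_mul, mul_comm, ← hk] at this
  refine TopologicalSpace.Opens.mem_iSup.mpr ⟨⟨f i ^ k, hmem⟩, ?_⟩
  show x ∈ Proj.basicOpen 𝒜 (f i ^ k)
  rw [Proj.basicOpen_pow 𝒜 (f i) k hkpos]
  exact hi

end Groth.Agent.S13168
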