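import Groth.Statements.S13169
import Groth.Agent.H18.TwistAmple
import Groth.Agent.H18.TwistGenerated

set_option autoImplicit false
universe u
open AlgebraicGeometry
open ZeroCyc

namespace Groth.Agent.S13169

/-- Let B be a graded R-algebra generated by homogeneous elements f_1, …, f_s of positive degrees d_1,
…, d_s, let l be the least common multiple of the d_i and X = Proj B. For n = a l with a ≥ 1, the
twisting sheaf O_X(n) is ample and is generated by its global sections b/1, b ∈ B_n. -/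
theorem result {R A : Type u} [CommRing R] [CommRing A] [Algebra R A] (𝒜 : ℕ → Submodule R A) [GradedAlgebra 𝒜]
    {s : ℕ} (f : Fin s → A) (deg : Fin s → ℕ) (hdeg : ∀ i, 0 < deg i) (hf : ∀ i, f i ∈ 𝒜 (deg i))
    (hgen : Algebra.adjoin R (Set.range f) = ⊤) (a : ℕ) (ha : 0 < a) :
    CohB1.IsAmple (Twist.twist 𝒜 ((a * Finset.univ.lcm deg : ℕ) : ℤ)) ∧
      ProjUP.GeneratedBy (Twist.twist 𝒜 ((a * Finset.univ.lcm deg : ℕ) : ℤ))
        (fun b : 𝒜 (a * Finset.univ.lcm deg) =>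
          (Twist.globalOf 𝒜 b : ProjUP.Γm (Twist.twist 𝒜 ((a * Finset.univ.lcm deg : ℕ) : ℤ)))) := by
  have hfy : ∀ y : ProjectiveSpectrum 𝒜, ∃ i, f i ∉ y.asHomogeneousIdeal := fun y =>
    Groth.Agent.H18.TwistTensor.exists_generator_not_mem 𝒜 f deg hf hgen y
  have hcovd : ∀ y : ProjectiveSpectrum 𝒜, ∃ g ∈ 𝒜 (Finset.univ.lcm deg),
      g ∉ y.asHomogeneousIdeal := by
    intro y
    obtain ⟨i, hi⟩ := hfy y
    obtain ⟨k, hk⟩ := Finset.dvd_lcm (Finset.mem_univ i) (f := deg)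
    refine ⟨f i ^ k, ?_, fun h => hi (y.isPrime.mem_of_pow_mem _ h)⟩
    have := SetLike.pow_mem_graded k (hf i)
    rwa [smul_eq_mul, mul_comm, ← hk] at this
  have hcovN : ∀ y : ProjectiveSpectrum 𝒜, ∃ b ∈ 𝒜 (a * Finset.univ.lcm deg),
      b ∉ y.asHomogeneousIdeal := by
    intro y
    obtain ⟨g, hg, hgy⟩ := hcovd y
    refine ⟨g ^ a, ?_, fun h => hgy (y.isPrime.mem_of_pow_mem _ h)⟩
    have := SetLike.pow_mem_graded a hg
    rwa [smul_eq_mul] at this
  have hlcm : 0 < Finset.univ.lcm deg := by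
    refine Nat.pos_of_ne_zero (fun h0 => ?_)
    rw [Finset.lcm_eq_zero_iff] at h0
    obtain ⟨i, _, hi⟩ := h0
    exact (hdeg i).ne' hi
  have hN : 0 < a * Finset.univ.lcm deg := Nat.mul_pos ha hlcm
  have hcast : ((a * Finset.univ.lcm deg : ℕ) : ℤ) = (a : ℤ) * ((Finset.univ.lcm deg : ℕ) : ℤ) :=
    Nat.cast_mul _ _
  have hc : CompactSpace (Proj 𝒜) :=
    Groth.Agent.H18.TwistAmple.compactSpace_of_finite_cover 𝒜 f deg hdeg hf hfy
  have hUF : Groth.Agent.H18.TwistTensor.HasUnitFrac 𝒜 ((a * Finset.univ.lcm deg : ℕ) : ℤ) := by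
    rw [hcast]
    exact Groth.Agent.H18.TwistTensor.hasUnitFrac_of_cover 𝒜 _ (a : ℤ) hcovd
  have hinv : PicF.IsInvertible (Twist.twist 𝒜 ((a * Finset.univ.lcm deg : ℕ) : ℤ)) := by
    rw [hcast]
    exact Groth.Agent.H18.TwistRestrict.isInvertible_twist_of_cover 𝒜 _ (a : ℤ) hcovd
  exact ⟨Groth.Agent.H18.TwistAmple.isAmple_twist 𝒜 hN hinv hc hUF hcovN,
    Groth.Agent.H18.TwistGenerated.generatedBy_globalOf 𝒜 _ hcovN⟩

end Groth.Agent.S13169
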