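import Groth.Statements.S13170
import Groth.Agent.H18.TwistTensor

set_option autoImplicit false
universe u
open AlgebraicGeometry CategoryTheory
open ZeroCyc

namespace Groth.Agent.S13170

/-- Let B be a graded R-algebra generated by homogeneous elements f_1, …, f_s of positive degrees d_1,
…, d_s, let l be the least common multiple of the d_i and X = Proj B. For all integers a and n,
O_X(al) ⊗ O_X(n) ≅ O_X(al + n). (The published statement asserts that the canonical multiplication
map is an isomorphism; this row asserts only that an isomorphism exists.) -/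
theorem result {R A : Type u} [CommRing R] [CommRing A] [Algebra R A] (𝒜 : ℕ → Submodule R A) [GradedAlgebra 𝒜]
    {s : ℕ} (f : Fin s → A) (deg : Fin s → ℕ) (hdeg : ∀ i, 0 < deg i) (hf : ∀ i, f i ∈ 𝒜 (deg i))
    (hgen : Algebra.adjoin R (Set.range f) = ⊤) (a n : ℤ) :
    Nonempty (CohB1.tensorMod (Twist.twist 𝒜 (a * (Finset.univ.lcm deg : ℕ))) (Twist.twist 𝒜 n) ≅
      Twist.twist 𝒜 (a * (Finset.univ.lcm deg : ℕ) + n)) := by
  have hcov : ∀ y : ProjectiveSpectrum 𝒜, ∃ g ∈ 𝒜 (Finset.univ.lcm deg),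
      g ∉ y.asHomogeneousIdeal := by
    intro y
    obtain ⟨i, hi⟩ := Groth.Agent.H18.TwistTensor.exists_generator_not_mem 𝒜 f deg hf hgen y
    obtain ⟨k, hk⟩ := Finset.dvd_lcm (Finset.mem_univ i) (f := deg)
    refine ⟨f i ^ k, ?_, fun h => hi (y.isPrime.mem_of_pow_mem _ h)⟩
    have := SetLike.pow_mem_graded k (hf i)
    rwa [smul_eq_mul, mul_comm, ← hk] at this
  exact Groth.Agent.H18.TwistTensor.nonempty_tensorMod_twist_iso 𝒜 _ n
    (Groth.Agent.H18.TwistTensor.hasUnitFrac_of_cover 𝒜 _ a hcov)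

end Groth.Agent.S13170
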