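import Groth.Statements.S13173
import Groth.Agent.H18.TwistAmple

set_option autoImplicit false
universe u
open AlgebraicGeometry
open ZeroCyc

namespace Groth.Agent.S13173

/-- Let B be a graded R-algebra generated by elements of degree at most d, such that X = Proj B is
quasi-compact and covered by the opens D_+(g), g ∈ B_1. Then O_X(n) is ample for every n ≥ 1. (The
published statement does not assume X quasi-compact, which ampleness as used here requires and which
fails for a polynomial ring in infinitely many degree-one variables; this row assumes it.) -/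
theorem result {R A : Type u} [CommRing R] [CommRing A] [Algebra R A] (𝒜 : ℕ → Submodule R A) [GradedAlgebra 𝒜]
    (d : ℕ) (hgen : Algebra.adjoin R (⋃ i ∈ Finset.range (d + 1), (𝒜 i : Set A)) = ⊤)
    (hcov : (⨆ g : 𝒜 1, Proj.basicOpen 𝒜 (g : A)) = ⊤) [CompactSpace (Proj 𝒜)] (n : ℕ) (hn : 0 < n) :
    CohB1.IsAmple (Twist.twist 𝒜 (n : ℤ)) := by
  have hcov1 : ∀ y : ProjectiveSpectrum 𝒜, ∃ g ∈ 𝒜 1, g ∉ y.asHomogeneousIdeal := fun y => by
    have hy : (y : Proj 𝒜) ∈ (⨆ g : 𝒜 1, Proj.basicOpen 𝒜 (g : A)) := by rw [hcov]; trivial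
    obtain ⟨g, hg⟩ := TopologicalSpace.Opens.mem_iSup.mp hy
    exact ⟨g.1, g.2, hg⟩
  have hUF : Groth.Agent.H18.TwistTensor.HasUnitFrac 𝒜 (n : ℤ) := by
    have h := Groth.Agent.H18.TwistTensor.hasUnitFrac_of_cover 𝒜 1 (n : ℤ) hcov1
    rwa [Nat.cast_one, mul_one] at h
  have hinv : PicF.IsInvertible (Twist.twist 𝒜 (n : ℤ)) :=
    (Groth.Agent.H18.TwistTensor.twist_package 𝒜 hcov1).1 _
  refine Groth.Agent.H18.TwistAmple.isAmple_twist 𝒜 hn hinv inferInstance hUF (fun y => ?_)
  obtain ⟨g, hg, hgy⟩ := hcov1 y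
  have hgn : g ^ n ∈ 𝒜 n := by
    have := SetLike.pow_mem_graded n hg
    rwa [smul_eq_mul, mul_one] at this
  exact ⟨g ^ n, hgn, fun h => hgy (y.isPrime.mem_of_pow_mem _ h)⟩

end Groth.Agent.S13173
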