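import Groth.Statements.S13175
import Mathlib

set_option autoImplicit false
universe u v w
open scoped TensorProduct
open ZeroCyc

namespace Groth.Agent.S13175

/-- Let B and C be A-algebras and F : B → C a polynomial law. If the maps F over the polynomial rings
A[t_1, …, t_n], n ≥ 0, are multiplicative (send 1 to 1 and products to products), then F is a
multiplicative law: F sends 1 to 1 and products to products over every A-algebra. -/
theorem result {A : Type u} [CommRing A] {B : Type v} [CommRing B] [Algebra A B] {C : Type w} [CommRing C] [Algebra A C]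
    (F : B →ₚₗ[A] C)
    (h1 : ∀ n : ℕ, F.toFun' (MvPolynomial (Fin n) A) 1 = 1)
    (hmul : ∀ (n : ℕ) (x y : MvPolynomial (Fin n) A ⊗[A] B),
      F.toFun' (MvPolynomial (Fin n) A) (x * y) = F.toFun' (MvPolynomial (Fin n) A) x * F.toFun' (MvPolynomial (Fin n) A) y) :
    ∀ (S : Type u) [CommRing S] [Algebra A S], F.toFun' S 1 = 1 ∧
      ∀ x y : S ⊗[A] B, F.toFun' S (x * y) = F.toFun' S x * F.toFun' S y := by
  classical
  intro S _ _
  -- compat in ring-hom form
  have hcompat : ∀ {n : ℕ} (ψ : MvPolynomial (Fin n) A →ₐ[A] S) (p : MvPolynomial (Fin n) A ⊗[A] B),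
      F.toFun' S (Algebra.TensorProduct.map ψ (AlgHom.id A B) p) =
        Algebra.TensorProduct.map ψ (AlgHom.id A C) (F.toFun' (MvPolynomial (Fin n) A) p) := by
    intro n ψ p
    have h := congr_fun (F.isCompat' ψ) p
    simp only [Function.comp_apply] at h
    exact h.symm
  refine ⟨?_, ?_⟩
  · have h := hcompat (n := 0) (MvPolynomial.aeval (fun i : Fin 0 => (i.elim0 : S))) 1
    rw [map_one, h1 0, map_one] at h
    exact h
  · intro x y
    -- lift x and y simultaneously through B × B
    set t : S ⊗[A] (B × B) := (LinearMap.inl A B B).lTensor S x + (LinearMap.inr A B B).lTensor S y with ht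
    obtain ⟨n, ψ, p, hp⟩ := PolynomialLaw.exists_lift (R := A) (M := B × B) (S := S) t
    set p₁ : MvPolynomial (Fin n) A ⊗[A] B := (LinearMap.fst A B B).lTensor _ p with hp₁
    set p₂ : MvPolynomial (Fin n) A ⊗[A] B := (LinearMap.snd A B B).lTensor _ p with hp₂
    have hx : Algebra.TensorProduct.map ψ (AlgHom.id A B) p₁ = x := by
      have e1 : Algebra.TensorProduct.map ψ (AlgHom.id A B) p₁ = ψ.toLinearMap.rTensor B p₁ := rfl
      rw [e1, hp₁, ← LinearMap.comp_apply, LinearMap.rTensor_comp_lTensor,
        ← LinearMap.lTensor_comp_rTensor, LinearMap.comp_apply, hp, ht, map_add,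
        ← LinearMap.comp_apply, ← LinearMap.comp_apply, ← LinearMap.lTensor_comp,
        ← LinearMap.lTensor_comp, LinearMap.fst_comp_inl, LinearMap.fst_comp_inr]
      simp
    have hy : Algebra.TensorProduct.map ψ (AlgHom.id A B) p₂ = y := by
      have e1 : Algebra.TensorProduct.map ψ (AlgHom.id A B) p₂ = ψ.toLinearMap.rTensor B p₂ := rfl
      rw [e1, hp₂, ← LinearMap.comp_apply, LinearMap.rTensor_comp_lTensor,
        ← LinearMap.lTensor_comp_rTensor, LinearMap.comp_apply, hp, ht, map_add,
        ← LinearMap.comp_apply, ← LinearMap.comp_apply, ← LinearMap.lTensor_comp,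
        ← LinearMap.lTensor_comp, LinearMap.snd_comp_inl, LinearMap.snd_comp_inr]
      simp
    rw [← hx, ← hy, ← map_mul, hcompat, hcompat, hcompat, hmul, map_mul]

end Groth.Agent.S13175
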