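import Groth.Statements.S13176
import Groth.Agent.H69.QuotUH

set_option autoImplicit false
set_option linter.style.haveILetI false
universe u
open CategoryTheory CategoryTheory.Limits AlgebraicGeometry
open ZeroCyc

namespace Groth.Agent.S13176

/-- Let a finite group G act on a scheme X over S through ρ, let q : X → Y be a quotient of X by G over
S (affine, G-invariant, O_Y = the G-invariant sections of O_X), let S' → S be any morphism and X' =
X ×_S S' with the induced action ρ', and let r : X' → Y' be a quotient of X' by G. Then the morphism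
Y' → Y ×_S S' through which the canonical map X' → Y ×_S S' factors via r is a universal
homeomorphism. (The published statement assumes every G-orbit lies in an affine open, which is what
makes the quotients exist; here the two quotients are hypotheses.) -/
theorem result {X Y S S' Y' : Scheme.{u}} {G : Type u} [Group G] [Finite G]
    (ρ : G →* Aut X) (f : X ⟶ S) (hρ : ∀ σ : G, (ρ σ).hom ≫ f = f)
    (q : X ⟶ Y) (h : Y ⟶ S) (hq : q ≫ h = f) (hquot : SGA1.IsQuot ρ q)
    (g : S' ⟶ S)
    (ρ' : G →* Aut (pullback f g))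
    (hρ' : ∀ σ : G, (ρ' σ).hom ≫ pullback.fst f g = pullback.fst f g ≫ (ρ σ).hom ∧
      (ρ' σ).hom ≫ pullback.snd f g = pullback.snd f g)
    (r : pullback f g ⟶ Y') (hr : SGA1.IsQuot ρ' r)
    (m : Y' ⟶ pullback h g)
    (hm : r ≫ m = pullback.map f g h g q (𝟙 S') (𝟙 S)
      ((Category.comp_id f).trans hq.symm) ((Category.comp_id g).trans (Category.id_comp g).symm)) :
    FlatMor.IsUnivHomeo m := by
  classical
  have e1 : pullback.map f g h g q (𝟙 S') (𝟙 S)
      ((Category.comp_id f).trans hq.symm) ((Category.comp_id g).trans (Category.id_comp g).symm) ≫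
        pullback.fst h g = pullback.fst f g ≫ q := by
    simp only [pullback.map]
    exact pullback.lift_fst _ _ _
  have e2 : pullback.map f g h g q (𝟙 S') (𝟙 S)
      ((Category.comp_id f).trans hq.symm) ((Category.comp_id g).trans (Category.id_comp g).symm) ≫
        pullback.snd h g = pullback.snd f g := by
    simp only [pullback.map]
    rw [pullback.lift_snd, Category.comp_id]
  rw [← hm] at e1 e2
  have sq : IsPullback (r ≫ m) (pullback.fst f g) (pullback.fst h g) q := by
    refine IsPullback.of_right (h₁₂ := pullback.snd h g) (h₂₂ := h) (v₁₃ := g) ?_ e1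
      (IsPullback.of_hasPullback h g).flip
    rw [e2, hq]
    exact (IsPullback.of_hasPullback f g).flip
  haveI : IsIntegralHom q := Groth.Agent.H68.Quot.isIntegralHom hquot
  haveI : Surjective q := ⟨Groth.Agent.H68.Quot.surjective hquot⟩
  haveI : Surjective r := ⟨Groth.Agent.H68.Quot.surjective hr⟩
  haveI : IsIntegralHom (r ≫ m) := MorphismProperty.of_isPullback sq.flip inferInstance
  haveI : Surjective (r ≫ m) := MorphismProperty.of_isPullback sq.flip inferInstance
  haveI : UniversallyClosed (r ≫ m) := inferInstance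
  haveI : UniversallyClosed m := UniversallyClosed.of_comp_surjective r m
  haveI : Surjective m := Surjective.of_comp r m
  haveI : UniversallyInjective m := by
    refine ((tfae_universallyInjective m).out 0 1).mpr ?_
    intro K _ y₁ y₂ hy
    simp only at hy
    obtain ⟨K₁, _, c₁, x₁, hc₁, hx₁⟩ := Groth.Agent.H69.QuotUH.exists_lift_field_point r y₁
    obtain ⟨K₂, _, c₂, x₂, hc₂, hx₂⟩ :=
      Groth.Agent.H69.QuotUH.exists_lift_field_point r (c₁ ≫ y₂)
    have hx₁' : (c₂ ≫ x₁) ≫ r = c₂ ≫ c₁ ≫ y₁ := by rw [Category.assoc, hx₁]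
    have hm12 : (c₂ ≫ x₁) ≫ r ≫ m = x₂ ≫ r ≫ m := by
      rw [← Category.assoc, hx₁', ← Category.assoc x₂, hx₂]
      simp only [Category.assoc, hy]
    have hq12 : ((c₂ ≫ x₁) ≫ pullback.fst f g) ≫ q = (x₂ ≫ pullback.fst f g) ≫ q := by
      rw [Category.assoc, ← e1, ← Category.assoc, hm12, Category.assoc, Category.assoc x₂, e1]
    obtain ⟨σ, hσ⟩ := Groth.Agent.H69.QuotUH.exists_eq_comp_of_comp_eq ρ q hquot _ _ hq12
    have hx : x₂ = (c₂ ≫ x₁) ≫ (ρ' σ).hom := by
      apply pullback.hom_ext
      · rw [hσ]
        simp only [Category.assoc, (hρ' σ).1]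
      · rw [Category.assoc _ _ (pullback.snd f g), (hρ' σ).2, ← e2]
        simp only [← Category.assoc] at hm12 ⊢
        rw [hm12]
    have h3 : x₂ ≫ r = (c₂ ≫ x₁) ≫ r := by
      rw [hx, Category.assoc _ _ r, hr.inv σ]
    rw [hx₂, hx₁', ← Category.assoc, ← Category.assoc] at h3
    haveI : Epi (c₂ ≫ c₁) := epi_comp _ _
    exact ((cancel_epi (c₂ ≫ c₁)).mp h3).symm
  exact Groth.Agent.H69.QuotUH.isUnivHomeo_of_universallyClosed m

end Groth.Agent.S13176
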