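import Groth.Statements.S13177
import Groth.Agent.H69.QuotUH

set_option autoImplicit false
set_option linter.style.haveILetI false
universe u
open CategoryTheory CategoryTheory.Limits AlgebraicGeometry
open ZeroCyc

namespace Groth.Agent.S13177

/-- Let a finite group G act on a scheme X with quotient q : X → Y (affine, G-invariant, O_Y = the
invariant sections), let i : Z → X be a G-stable closed subscheme with the induced action and r : Z
→ W a quotient of Z by G, and let q(Z) be the scheme-theoretic image of Z in Y. Then the morphism W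
→ q(Z) through which Z → q(Z) factors via r is a schematically dominant universal homeomorphism.
(The published statement assumes the quotient of X exists; here both quotients are hypotheses.) -/
theorem result {X Y Z W : Scheme.{u}} {G : Type u} [Group G] [Finite G]
    (ρ : G →* Aut X) (q : X ⟶ Y) (hquot : SGA1.IsQuot ρ q)
    (i : Z ⟶ X) [IsClosedImmersion i] (ρZ : G →* Aut Z) (hρZ : ∀ σ : G, (ρZ σ).hom ≫ i = i ≫ (ρ σ).hom)
    (r : Z ⟶ W) (hr : SGA1.IsQuot ρZ r)
    (m : W ⟶ (i ≫ q).ker.subscheme) (hm : r ≫ m ≫ (i ≫ q).ker.subschemeι = i ≫ q) :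
    FlatMor.IsUnivHomeo m ∧ IsSchemeTheoreticallyDominant m := by
  classical
  haveI : IsIntegralHom q := Groth.Agent.H68.Quot.isIntegralHom hquot
  haveI : Surjective r := ⟨Groth.Agent.H68.Quot.surjective hr⟩
  haveI : IsSchemeTheoreticallyDominant r := Groth.Agent.H68.Quot.isSchemeTheoreticallyDominant hr
  haveI : IsIntegralHom r := Groth.Agent.H68.Quot.isIntegralHom hr
  set ι := (i ≫ q).ker.subschemeι with hι
  have hm' : r ≫ m ≫ ι = i ≫ q := hm
  haveI : IsIntegralHom (i ≫ q) := inferInstance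
  haveI : UniversallyClosed (r ≫ m ≫ ι) := by rw [hm']; infer_instance
  haveI : UniversallyClosed (m ≫ ι) := UniversallyClosed.of_comp_surjective r (m ≫ ι)
  haveI : UniversallyClosed m := UniversallyClosed.of_comp_of_isSeparated m ι
  -- schematic dominance
  have hker : (m.ker.subschemeι ≫ ι).ker = ι.ker := by
    have h1 : (m.ker.subschemeι ≫ ι).ker = (m ≫ ι).ker := Scheme.IdealSheafData.map_ker m ι
    have h2 : (r ≫ m ≫ ι).ker = (m ≫ ι).ker := by
      rw [Scheme.Hom.ker_comp, r.ker_eq_bot, Scheme.IdealSheafData.map_bot]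
    rw [h1, ← h2, hm', hι, Scheme.IdealSheafData.ker_subschemeι]
  haveI : IsIso m.ker.subschemeι :=
    IsClosedImmersion.isIso_of_ker_eq (m.ker.subschemeι ≫ ι) ι m.ker.subschemeι rfl hker
  have hdom : IsSchemeTheoreticallyDominant m := by
    constructor
    rw [← Scheme.IdealSheafData.ker_subschemeι m.ker]
    exact Scheme.Hom.ker_eq_bot _
  haveI : QuasiCompact (r ≫ m) := by
    haveI : QuasiCompact ((r ≫ m) ≫ ι) := by rw [Category.assoc, hm']; infer_instance
    exact QuasiCompact.of_comp (r ≫ m) ι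
  haveI : QuasiCompact m := by
    constructor
    intro U hU hUc
    have : (m ⁻¹ᵁ ⟨U, hU⟩ : Set W) = r '' ((r ≫ m) ⁻¹ᵁ ⟨U, hU⟩ : Set Z) := by
      ext w
      constructor
      · intro hw
        obtain ⟨z, rfl⟩ := r.surjective w
        exact ⟨z, hw, rfl⟩
      · rintro ⟨z, hz, rfl⟩
        exact hz
    show IsCompact (m ⁻¹ᵁ ⟨U, hU⟩ : Set W)
    rw [this]
    exact ((r ≫ m).isCompact_preimage (U := ⟨U, hU⟩) hUc).image r.continuous
  haveI : Surjective m := by
    haveI : IsDominant m := inferInstance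
    exact surjective_of_isDominant_of_isClosed_range m m.isClosedMap.isClosed_range
  haveI : UniversallyInjective m := by
    refine ((tfae_universallyInjective m).out 0 1).mpr ?_
    intro K _ y₁ y₂ hy
    simp only at hy
    obtain ⟨K₁, _, c₁, x₁, hc₁, hx₁⟩ := Groth.Agent.H69.QuotUH.exists_lift_field_point r y₁
    obtain ⟨K₂, _, c₂, x₂, hc₂, hx₂⟩ :=
      Groth.Agent.H69.QuotUH.exists_lift_field_point r (c₁ ≫ y₂)
    have hx₁' : (c₂ ≫ x₁) ≫ r = c₂ ≫ c₁ ≫ y₁ := by rw [Category.assoc, hx₁]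
    have hq12 : ((c₂ ≫ x₁) ≫ i) ≫ q = (x₂ ≫ i) ≫ q := by
      calc ((c₂ ≫ x₁) ≫ i) ≫ q = ((c₂ ≫ x₁) ≫ r) ≫ m ≫ ι := by
            simp only [Category.assoc, hm']
        _ = (x₂ ≫ r) ≫ m ≫ ι := by
            rw [hx₁', hx₂]
            simp only [Category.assoc]
            rw [← Category.assoc y₁, hy, Category.assoc]
        _ = (x₂ ≫ i) ≫ q := by simp only [Category.assoc, hm']
    obtain ⟨σ, hσ⟩ := Groth.Agent.H69.QuotUH.exists_eq_comp_of_comp_eq ρ q hquot _ _ hq12
    have hx : x₂ = (c₂ ≫ x₁) ≫ (ρZ σ).hom := by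
      rw [← cancel_mono i, hσ]
      simp only [Category.assoc, hρZ σ]
    have h3 : x₂ ≫ r = (c₂ ≫ x₁) ≫ r := by
      rw [hx, Category.assoc _ _ r, hr.inv σ]
    rw [hx₂, hx₁', ← Category.assoc, ← Category.assoc] at h3
    haveI : Epi (c₂ ≫ c₁) := epi_comp _ _
    exact ((cancel_epi (c₂ ≫ c₁)).mp h3).symm
  exact ⟨Groth.Agent.H69.QuotUH.isUnivHomeo_of_universallyClosed m, hdom⟩

end Groth.Agent.S13177
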