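import Groth.Statements.S13181
import Mathlib
import Groth.Agent.H68.ProjQuot

set_option autoImplicit false
universe u
open CategoryTheory CategoryTheory.Limits AlgebraicGeometry
open ZeroCyc

namespace Groth.Agent.S13181

open Groth.Agent.H68.ProjQuot Groth.Agent.H69.QuotBasis HomogeneousLocalization

theorem injective_appTop_Spec_map {R S : CommRingCat.{u}} (φ : R ⟶ S)
    (h : Function.Injective φ.hom) : Function.Injective (Spec.map φ).appTop.hom := by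
  intro a b hab
  apply (ConcreteCategory.bijective_of_isIso (Scheme.ΓSpecIso R).hom).1
  apply h
  rw [← ΓSpecIso_appTop, ← ΓSpecIso_appTop, hab]

section

variable {R A : Type u} [CommRing R] [CommRing A] [Algebra R A] (𝒜 : ℕ → Submodule R A)
    [GradedAlgebra 𝒜]
    {G : Type u} [Group G] [Finite G] [MulSemiringAction G A]
    (hGdeg : ∀ (σ : G) (i : ℕ) (a : A), a ∈ 𝒜 i → σ • a ∈ 𝒜 i)
    {C : Type u} [CommRing C] [Algebra R C] (𝒞 : ℕ → Submodule R C) [GradedAlgebra 𝒞]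
    (ι : C →ₐ[R] A) (hι : Function.Injective ι)
    (hιdeg : ∀ (i : ℕ) (a : A), a ∈ (𝒞 i).map ι.toLinearMap ↔ (a ∈ 𝒜 i ∧ ∀ σ : G, σ • a = a))
    (ρ : G →* Aut (Proj 𝒜))
    (hρ : ∀ (σ : G) (n : ℕ) (f : A) (hn : 0 < n) (hf : f ∈ 𝒜 n)
      (θ : CommRingCat.of (HomogeneousLocalization.Away 𝒜 f) ⟶ CommRingCat.of (HomogeneousLocalization.Away 𝒜 (σ • f))),
      (algebraMap (HomogeneousLocalization.Away 𝒜 (σ • f)) (Localization.Away (σ • f))).comp θ.hom =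
        (Localization.awayMap (MulSemiringAction.toRingHom G A σ) f).comp
          (algebraMap (HomogeneousLocalization.Away 𝒜 f) (Localization.Away f)) →
      Proj.awayι 𝒜 (σ • f) (hGdeg σ n f hf) hn ≫ (ρ σ).inv = Spec.map θ ≫ Proj.awayι 𝒜 f hf hn)
    (π : Proj 𝒜 ⟶ Proj 𝒞)
    (hπ : ∀ (n : ℕ) (c : C) (hn : 0 < n) (hc : c ∈ 𝒞 n)
      (θ : CommRingCat.of (HomogeneousLocalization.Away 𝒞 c) ⟶ CommRingCat.of (HomogeneousLocalization.Away 𝒜 (ι c))),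
      (algebraMap (HomogeneousLocalization.Away 𝒜 (ι c)) (Localization.Away (ι c))).comp θ.hom =
        (Localization.awayMap ι.toRingHom c).comp
          (algebraMap (HomogeneousLocalization.Away 𝒞 c) (Localization.Away c)) →
      Proj.awayι 𝒜 (ι c) ((hιdeg n (ι c)).mp (Submodule.mem_map_of_mem hc)).1 hn ≫ π =
        Spec.map θ ≫ Proj.awayι 𝒞 c hc hn)

include hπ in
theorem hπ' (n : ℕ) (c : C) (hn : 0 < n) (hc : c ∈ 𝒞 n) :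
    Proj.awayι 𝒜 (ig 𝒜 𝒞 ι hιdeg c) ((ig 𝒜 𝒞 ι hιdeg).map_mem hc) hn ≫ π =
      Spec.map (CommRingCat.ofHom (Away.map (ig 𝒜 𝒞 ι hιdeg) c)) ≫ Proj.awayι 𝒞 c hc hn :=
  hπ n c hn hc (CommRingCat.ofHom (Away.map (ig 𝒜 𝒞 ι hιdeg) c))
    (away_map_compat 𝒜 𝒞 (ig 𝒜 𝒞 ι hιdeg) c)

include hρ in
theorem hρ_gen (σ : G) (n : ℕ) (hn : 0 < n) (f f' : A) (hf : f ∈ 𝒜 n) (hf' : f' ∈ 𝒜 n)
    (h : σ • f = f') :
    Proj.awayι 𝒜 f' hf' hn ≫ (ρ σ).inv =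
      Spec.map (CommRingCat.ofHom (HomogeneousLocalization.map (sg 𝒜 hGdeg σ)
        (powers_le_comap 𝒜 hGdeg σ h))) ≫ Proj.awayι 𝒜 f hf hn := by
  subst h
  exact hρ σ n f hn hf (CommRingCat.ofHom (Away.map (sg 𝒜 hGdeg σ) f))
    (away_map_compat 𝒜 𝒜 (sg 𝒜 hGdeg σ) f)

include hρ in
theorem hρ_fix (n : ℕ) (hn : 0 < n) (f : A) (hf : f ∈ 𝒜 n) (hfix : ∀ σ : G, σ • f = f) (g : G) :
    Proj.awayι 𝒜 f hf hn ≫ (ρ g).hom =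
      Spec.map (CommRingCat.ofHom (Θ 𝒜 hGdeg f hfix g⁻¹)) ≫ Proj.awayι 𝒜 f hf hn := by
  have h := hρ_gen 𝒜 hGdeg ρ hρ g⁻¹ n hn f f hf hf (hfix g⁻¹)
  have e : (ρ g⁻¹).inv = (ρ g).hom := by rw [map_inv]; rfl
  rw [e] at h
  exact h

include hGdeg hπ in
theorem preimage_basicOpen (n : ℕ) (c : C) (hn : 0 < n) (hc : c ∈ 𝒞 n) :
    π ⁻¹ᵁ Proj.basicOpen 𝒞 c = Proj.basicOpen 𝒜 (ι c) := by
  refine TopologicalSpace.Opens.ext (Set.ext fun x => ?_)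
  obtain ⟨n', c', hn', hc', hx⟩ := exists_pos_not_mem 𝒜 𝒞 hGdeg ι hιdeg x
  have hf' : ig 𝒜 𝒞 ι hιdeg c' ∈ 𝒜 n' := (ig 𝒜 𝒞 ι hιdeg).map_mem hc'
  have hf : ig 𝒜 𝒞 ι hιdeg c ∈ 𝒜 n := (ig 𝒜 𝒞 ι hιdeg).map_mem hc
  have hx' : x ∈ (Proj.awayι 𝒜 (ig 𝒜 𝒞 ι hιdeg c') hf' hn').opensRange := by
    rw [Proj.opensRange_awayι]; exact hx
  obtain ⟨y, rfl⟩ := hx'
  change y ∈ (Proj.awayι 𝒜 (ig 𝒜 𝒞 ι hιdeg c') hf' hn' ≫ π) ⁻¹ᵁ Proj.basicOpen 𝒞 c ↔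
      y ∈ (Proj.awayι 𝒜 (ig 𝒜 𝒞 ι hιdeg c') hf' hn') ⁻¹ᵁ
        Proj.basicOpen 𝒜 (ig 𝒜 𝒞 ι hιdeg c)
  rw [hπ' 𝒜 𝒞 ι hιdeg π hπ n' c' hn' hc', Scheme.Hom.comp_preimage,
    Proj.awayι_preimage_basicOpen 𝒞 hc' hn' hc hn,
    Proj.awayι_preimage_basicOpen 𝒜 hf' hn' hf hn]
  have e' : Away.isLocalizationElem hf' hf =
      Away.map (ig 𝒜 𝒞 ι hιdeg) c' (Away.isLocalizationElem hc' hc) :=
    (awayMap_ig_isLocalizationElem 𝒜 𝒞 ι hιdeg hc hc').symm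
  rw [e']
  exact Iff.rfl

theorem exists_basicOpen (y : Proj 𝒞) :
    ∃ (n : ℕ) (c : C), 0 < n ∧ c ∈ 𝒞 n ∧ y ∈ Proj.basicOpen 𝒞 c := by
  have h := (Proj.affineOpenCover 𝒞).covers y
  refine ⟨((Proj.affineOpenCover 𝒞).idx y).1, ((Proj.affineOpenCover 𝒞).idx y).2,
    ((Proj.affineOpenCover 𝒞).idx y).1.2, ((Proj.affineOpenCover 𝒞).idx y).2.2, ?_⟩
  rw [← Proj.opensRange_awayι 𝒞 _ ((Proj.affineOpenCover 𝒞).idx y).2.2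
    ((Proj.affineOpenCover 𝒞).idx y).1.2]
  exact h

theorem basis (U : (Proj 𝒞).Opens) (y : Proj 𝒞) (hy : y ∈ U) :
    ∃ V ∈ {V : (Proj 𝒞).Opens | ∃ (n : ℕ) (c : C), 0 < n ∧ c ∈ 𝒞 n ∧ V = Proj.basicOpen 𝒞 c},
      y ∈ V ∧ V ≤ U := by
  obtain ⟨_, ⟨f, rfl⟩, hyf, hfU⟩ :=
    TopologicalSpace.Opens.isBasis_iff_nbhd.mp (Proj.isBasis_basicOpen 𝒞) hy
  have hle : ∀ i, Proj.basicOpen 𝒞 (GradedRing.proj 𝒞 i f) ≤ Proj.basicOpen 𝒞 f := by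
    intro i
    rw [Proj.basicOpen_eq_iSup_proj 𝒞 f]
    exact le_iSup (fun i => Proj.basicOpen 𝒞 (GradedRing.proj 𝒞 i f)) i
  rw [Proj.basicOpen_eq_iSup_proj, TopologicalSpace.Opens.mem_iSup] at hyf
  obtain ⟨i, hi⟩ := hyf
  obtain ⟨n, c, hn, hc, hyc⟩ := exists_basicOpen 𝒞 y
  have hpi : GradedRing.proj 𝒞 i f ∈ 𝒞 i := by
    rw [GradedRing.proj_apply]; exact SetLike.coe_mem _
  refine ⟨Proj.basicOpen 𝒞 (GradedRing.proj 𝒞 i f * c),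
    ⟨i + n, _, by omega, SetLike.mul_mem_graded hpi hc, rfl⟩, ?_, ?_⟩
  · rw [Proj.basicOpen_mul]; exact ⟨hi, hyc⟩
  · rw [Proj.basicOpen_mul]; exact inf_le_left.trans ((hle i).trans hfU)

include hGdeg hπ in
theorem isAffineHom_π : IsAffineHom π := by
  apply isAffineHom_of_forall_exists_isAffineOpen
  intro y
  obtain ⟨n, c, hn, hc, hyc⟩ := exists_basicOpen 𝒞 y
  refine ⟨Proj.basicOpen 𝒞 c, hyc, Proj.isAffineOpen_basicOpen 𝒞 c hc hn, ?_⟩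
  rw [preimage_basicOpen 𝒜 hGdeg 𝒞 ι hιdeg π hπ n c hn hc]
  exact Proj.isAffineOpen_basicOpen 𝒜 (ι c) ((ig 𝒜 𝒞 ι hιdeg).map_mem hc) hn

include hρ hπ in
theorem hinv (g : G) : (ρ g).hom ≫ π = π := by
  apply Scheme.hom_ext_of_forall
  intro x
  obtain ⟨n, c, hn, hc, hx⟩ := exists_pos_not_mem 𝒜 𝒞 hGdeg ι hιdeg x
  have hf : ig 𝒜 𝒞 ι hιdeg c ∈ 𝒜 n := (ig 𝒜 𝒞 ι hιdeg).map_mem hc
  refine ⟨Proj.basicOpen 𝒜 (ig 𝒜 𝒞 ι hιdeg c), hx, ?_⟩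
  rw [← cancel_epi (Proj.basicOpenIsoSpec 𝒜 (ig 𝒜 𝒞 ι hιdeg c) hf hn).inv,
    Proj.basicOpenIsoSpec_inv_ι_assoc, Proj.basicOpenIsoSpec_inv_ι_assoc]
  have hfix : ∀ σ : G, σ • (ig 𝒜 𝒞 ι hιdeg c) = ig 𝒜 𝒞 ι hιdeg c :=
    fun σ => smul_ι 𝒜 𝒞 ι hιdeg hc σ
  have h1 := hρ_fix 𝒜 hGdeg ρ hρ n hn _ hf hfix g
  have h2 := hπ' 𝒜 𝒞 ι hιdeg π hπ n c hn hc
  have hcomp : (Θ 𝒜 hGdeg _ hfix g⁻¹).comp (Away.map (ig 𝒜 𝒞 ι hιdeg) c) =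
      Away.map (ig 𝒜 𝒞 ι hιdeg) c :=
    RingHom.ext (Θ_awayMap_ig 𝒜 𝒞 hGdeg ι hιdeg hc hfix g⁻¹)
  calc Proj.awayι 𝒜 _ hf hn ≫ (ρ g).hom ≫ π
      = (Proj.awayι 𝒜 _ hf hn ≫ (ρ g).hom) ≫ π := (Category.assoc _ _ _).symm
    _ = (Spec.map (CommRingCat.ofHom (Θ 𝒜 hGdeg _ hfix g⁻¹)) ≫ Proj.awayι 𝒜 _ hf hn) ≫ π := by
        rw [h1]
    _ = Spec.map (CommRingCat.ofHom (Θ 𝒜 hGdeg _ hfix g⁻¹)) ≫
          Spec.map (CommRingCat.ofHom (Away.map (ig 𝒜 𝒞 ι hιdeg) c)) ≫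
            Proj.awayι 𝒞 c hc hn := by rw [Category.assoc, h2]
    _ = Spec.map (CommRingCat.ofHom (Away.map (ig 𝒜 𝒞 ι hιdeg) c)) ≫ Proj.awayι 𝒞 c hc hn := by
        rw [← Category.assoc, ← Spec.map_comp, ← CommRingCat.ofHom_comp, hcomp]
    _ = Proj.awayι 𝒜 _ hf hn ≫ π := h2.symm

theorem range_chart {n : ℕ} {c : C} (hc : c ∈ 𝒞 n)
    (hfix : ∀ σ : G, σ • (ig 𝒜 𝒞 ι hιdeg c) = ig 𝒜 𝒞 ι hιdeg c)
    (t' : Γ(Spec (CommRingCat.of (Away 𝒜 (ig 𝒜 𝒞 ι hιdeg c))), ⊤))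
    (ht' : ∀ g : G,
      (Spec.map (CommRingCat.ofHom (Θ 𝒜 hGdeg _ hfix g⁻¹))).appTop.hom t' = t') :
    t' ∈ Set.range
      (Spec.map (CommRingCat.ofHom (Away.map (ig 𝒜 𝒞 ι hιdeg) c))).appTop.hom := by
  have hb := fun R : CommRingCat.{u} =>
    ConcreteCategory.bijective_of_isIso (Scheme.ΓSpecIso R).hom
  have hfixa : ∀ σ : G, Θ 𝒜 hGdeg _ hfix σ ((Scheme.ΓSpecIso _).hom.hom t') =
      (Scheme.ΓSpecIso _).hom.hom t' := by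
    intro σ
    have h1 := ΓSpecIso_appTop (CommRingCat.ofHom (Θ 𝒜 hGdeg _ hfix σ⁻¹⁻¹)) t'
    rw [ht' σ⁻¹, inv_inv] at h1
    exact h1.symm
  obtain ⟨x, hx⟩ := mem_range_awayMap_ig 𝒜 𝒞 hGdeg ι hιdeg hc hfix _ hfixa
  obtain ⟨s, hs⟩ := (hb (CommRingCat.of (Away 𝒞 c))).2 x
  refine ⟨s, (hb _).1 ?_⟩
  rw [ΓSpecIso_appTop, hs]
  exact hx

end


/-- Over an affine base Spec R, let B be a graded R-algebra generated by its degree-one part and let a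
finite group G act on B by graded R-algebra automorphisms, with ring of invariants C = B^G (graded
by C_n = B_n ∩ B^G, given here as a graded ring with an injective graded map ι onto the invariants).
Let ρ be the induced action of G on X = Proj B (on each chart D_+(σf) → D_+(f) it is Spec of b/f^k ↦
σ(b)/σ(f)^k) and π : Proj B → Proj C the morphism induced by ι (on D_+(ι c) → D_+(c) it is Spec of
C_(c) → B_(ι c)). Then π is a quotient of X by G: affine, G-invariant, with O_{Proj C} the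
G-invariant sections of O_X. (The published statement is over a general base scheme with a
quasi-coherent graded algebra and includes the existence of the quotient; this row is its
affine-local content, with ρ and π characterised chartwise.) -/
theorem result {R A : Type u} [CommRing R] [CommRing A] [Algebra R A] (𝒜 : ℕ → Submodule R A) [GradedAlgebra 𝒜]
    (hgen : Algebra.adjoin R (𝒜 1 : Set A) = ⊤)
    {G : Type u} [Group G] [Finite G] [MulSemiringAction G A]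
    (hGR : ∀ (σ : G) (r : R), σ • algebraMap R A r = algebraMap R A r)
    (hGdeg : ∀ (σ : G) (i : ℕ) (a : A), a ∈ 𝒜 i → σ • a ∈ 𝒜 i)
    {C : Type u} [CommRing C] [Algebra R C] (𝒞 : ℕ → Submodule R C) [GradedAlgebra 𝒞]
    (ι : C →ₐ[R] A) (hι : Function.Injective ι)
    (hιdeg : ∀ (i : ℕ) (a : A), a ∈ (𝒞 i).map ι.toLinearMap ↔ (a ∈ 𝒜 i ∧ ∀ σ : G, σ • a = a))
    (ρ : G →* Aut (Proj 𝒜))
    (hρ : ∀ (σ : G) (n : ℕ) (f : A) (hn : 0 < n) (hf : f ∈ 𝒜 n)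
      (θ : CommRingCat.of (HomogeneousLocalization.Away 𝒜 f) ⟶ CommRingCat.of (HomogeneousLocalization.Away 𝒜 (σ • f))),
      (algebraMap (HomogeneousLocalization.Away 𝒜 (σ • f)) (Localization.Away (σ • f))).comp θ.hom =
        (Localization.awayMap (MulSemiringAction.toRingHom G A σ) f).comp
          (algebraMap (HomogeneousLocalization.Away 𝒜 f) (Localization.Away f)) →
      Proj.awayι 𝒜 (σ • f) (hGdeg σ n f hf) hn ≫ (ρ σ).inv = Spec.map θ ≫ Proj.awayι 𝒜 f hf hn)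
    (π : Proj 𝒜 ⟶ Proj 𝒞)
    (hπ : ∀ (n : ℕ) (c : C) (hn : 0 < n) (hc : c ∈ 𝒞 n)
      (θ : CommRingCat.of (HomogeneousLocalization.Away 𝒞 c) ⟶ CommRingCat.of (HomogeneousLocalization.Away 𝒜 (ι c))),
      (algebraMap (HomogeneousLocalization.Away 𝒜 (ι c)) (Localization.Away (ι c))).comp θ.hom =
        (Localization.awayMap ι.toRingHom c).comp
          (algebraMap (HomogeneousLocalization.Away 𝒞 c) (Localization.Away c)) →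
      Proj.awayι 𝒜 (ι c) ((hιdeg n (ι c)).mp (Submodule.mem_map_of_mem hc)).1 hn ≫ π =
        Spec.map θ ≫ Proj.awayι 𝒞 c hc hn) :
    SGA1.IsQuot ρ π := by
  have haff : IsAffineHom π := isAffineHom_π 𝒜 hGdeg 𝒞 ι hιdeg π hπ
  have hinv' := hinv 𝒜 hGdeg 𝒞 ι hιdeg ρ hρ π hπ
  refine isQuot_of_basis ρ π hinv'
    {V : (Proj 𝒞).Opens | ∃ (n : ℕ) (c : C), 0 < n ∧ c ∈ 𝒞 n ∧ V = Proj.basicOpen 𝒞 c}
    (basis 𝒞) ?_ ?_
  · rintro _ ⟨n, c, hn, hc, rfl⟩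
    have hf : ig 𝒜 𝒞 ι hιdeg c ∈ 𝒜 n := (ig 𝒜 𝒞 ι hιdeg).map_mem hc
    exact injective_app_of_chart π (Proj.awayι 𝒜 (ig 𝒜 𝒞 ι hιdeg c) hf hn)
      (Proj.awayι 𝒞 c hc hn) (Spec.map (CommRingCat.ofHom (Away.map (ig 𝒜 𝒞 ι hιdeg) c)))
      (hπ' 𝒜 𝒞 ι hιdeg π hπ n c hn hc) _
      ((Scheme.Hom.image_top_eq_opensRange _).trans (Proj.opensRange_awayι 𝒞 c hc hn))
      ((Scheme.Hom.image_top_eq_opensRange _).trans ((Proj.opensRange_awayι 𝒜 _ hf hn).trans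
        (preimage_basicOpen 𝒜 hGdeg 𝒞 ι hιdeg π hπ n c hn hc).symm))
      (injective_appTop_Spec_map _ (awayMap_ig_injective 𝒜 𝒞 ι hι hιdeg hc))
  · rintro _ ⟨n, c, hn, hc, rfl⟩ t ht
    have hf : ig 𝒜 𝒞 ι hιdeg c ∈ 𝒜 n := (ig 𝒜 𝒞 ι hιdeg).map_mem hc
    have hfix : ∀ σ : G, σ • (ig 𝒜 𝒞 ι hιdeg c) = ig 𝒜 𝒞 ι hιdeg c :=
      fun σ => smul_ι 𝒜 𝒞 ι hιdeg hc σ
    exact range_app_of_chart ρ π hinv' (Proj.awayι 𝒜 (ig 𝒜 𝒞 ι hιdeg c) hf hn)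
      (Proj.awayι 𝒞 c hc hn) (Spec.map (CommRingCat.ofHom (Away.map (ig 𝒜 𝒞 ι hιdeg) c)))
      (hπ' 𝒜 𝒞 ι hιdeg π hπ n c hn hc) _
      ((Scheme.Hom.image_top_eq_opensRange _).trans (Proj.opensRange_awayι 𝒞 c hc hn))
      ((Scheme.Hom.image_top_eq_opensRange _).trans ((Proj.opensRange_awayι 𝒜 _ hf hn).trans
        (preimage_basicOpen 𝒜 hGdeg 𝒞 ι hιdeg π hπ n c hn hc).symm))
      (fun g => Spec.map (CommRingCat.ofHom (Θ 𝒜 hGdeg _ hfix g⁻¹)))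
      (hρ_fix 𝒜 hGdeg ρ hρ n hn _ hf hfix)
      (range_chart 𝒜 hGdeg 𝒞 ι hιdeg hc hfix) t ht

end Groth.Agent.S13181
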