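import Groth.Statements.S13182
import Groth.Agent.H18.ProjVA
import Groth.Agent.H18.MonoGen

set_option autoImplicit false
universe u
open CategoryTheory CategoryTheory.Limits AlgebraicGeometry
open ZeroCyc

namespace Groth.Agent.S13182

/-- Let B be a graded R-algebra generated by homogeneous elements f_1, …, f_s of positive degrees d_1,
…, d_s, let l be the least common multiple of the d_i and X = Proj B. For n = a l with a ≥ max(1, s
− 1) there is a closed immersion i of X into a projective space over R, over Spec R, with O_X(n) ≅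
i^*O(1); in particular O_X(n) is very ample relative to Spec R. (The published statement takes for i
the canonical morphism into P(B_n) given by the sections B_n; this row asserts only a closed
immersion into some projective space P^N over R with an isomorphism O_X(n) ≅ i^*O(1).) -/
theorem result {R A : Type u} [CommRing R] [CommRing A] [Algebra R A] (𝒜 : ℕ → Submodule R A) [GradedAlgebra 𝒜]
    {s : ℕ} (f : Fin s → A) (deg : Fin s → ℕ) (hdeg : ∀ i, 0 < deg i) (hf : ∀ i, f i ∈ 𝒜 (deg i))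
    (hgen : Algebra.adjoin R (Set.range f) = ⊤) (a : ℕ) (ha : 0 < a) (has : s - 1 ≤ a) :
    ∃ (N : ℕ) (i : Proj 𝒜 ⟶ CohB1.ProjSpaceOver N (Spec (CommRingCat.of R))), IsClosedImmersion i ∧
      i ≫ pullback.snd (CohB1.ProjSpace.toSpec N (ULift.{u} ℤ)) (specULiftZIsTerminal.from (Spec (CommRingCat.of R))) =
        Proj.toSpecZero 𝒜 ≫ Spec.map (CommRingCat.ofHom (algebraMap R (𝒜 0))) ∧
      Nonempty (Twist.twist 𝒜 ((a * Finset.univ.lcm deg : ℕ) : ℤ) ≅
        (Scheme.Modules.pullback i).obj (Twist.twistOver N (Spec (CommRingCat.of R)) 1)) := by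
  classical
  obtain ⟨n, hndef⟩ : ∃ n, n = a * Finset.univ.lcm deg := ⟨_, rfl⟩
  rw [← hndef]
  have hn : 0 < n := hndef ▸ Nat.mul_pos ha (Groth.Agent.H18.MonoGen.lcm_pos deg hdeg)
  have hdvd : ∀ i, deg i ∣ n := fun i =>
    hndef ▸ Dvd.dvd.mul_left (Finset.dvd_lcm (Finset.mem_univ i)) a
  -- `R → 𝒜 0` is surjective
  have hsurj0 : Function.Surjective (algebraMap R (𝒜 0)) := by
    refine Groth.Agent.H18.AwayGenN.algebraMap_zero_surjective 𝒜 hgen (fun x hx => ?_)
    obtain ⟨i, rfl⟩ := hx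
    exact ⟨deg i, hdeg i, hf i⟩
  haveI : Algebra.FiniteType R A :=
    ⟨Subalgebra.fg_def.mpr ⟨Set.range f, Set.finite_range f, hgen⟩⟩
  haveI : IsScalarTower R (𝒜 0) A := ⟨fun r a x => smul_mul_assoc r (a : A) x⟩
  haveI : Algebra.FiniteType (𝒜 0) A := Algebra.FiniteType.of_restrictScalars_finiteType R (𝒜 0) A
  -- the cover by `D₊(f i)`
  have hcovf : ∀ x : Proj 𝒜, ∃ i, x ∈ Proj.basicOpen 𝒜 (f i) := by
    intro x
    have h := Proj.iSup_basicOpen_eq_top' 𝒜 f (fun i => ⟨deg i, hf i⟩)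
      (Groth.Agent.H18.MonoGen.adjoin_zero_eq_top 𝒜 hgen)
    have hx : x ∈ ⨆ i, Proj.basicOpen 𝒜 (f i) := by rw [h]; trivial
    exact TopologicalSpace.Opens.mem_iSup.mp hx
  have hcpos : ∀ i, 0 < n / deg i := fun i =>
    Nat.div_pos (Nat.le_of_dvd hn (hdvd i)) (hdeg i)
  have hpp : ∀ i, f i ^ (n / deg i) ∈ 𝒜 n := fun i => by
    have := SetLike.pow_mem_graded (n / deg i) (hf i)
    rwa [smul_eq_mul, Nat.div_mul_cancel (hdvd i)] at this
  have hUF : Groth.Agent.H18.TwistTensor.HasUnitFrac 𝒜 (n : ℤ) := by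
    intro y
    obtain ⟨i, hi⟩ := hcovf y
    refine ⟨n, 0, f i ^ (n / deg i), 1, hpp i, SetLike.GradedOne.one_mem, by simp, ?_, ?_⟩
    · intro h
      exact (ProjectiveSpectrum.mem_basicOpen 𝒜 _ _).mp hi (y.isPrime.mem_of_pow_mem _ h)
    · intro h
      exact y.isPrime.ne_top ((Ideal.eq_top_iff_one _).mpr h)
  -- the sections: all monomials of degree `n`
  haveI : Finite {m : Fin s → ℕ // Groth.Agent.H18.MonoGen.wt deg m = n} :=
    (Groth.Agent.H18.MonoGen.finite_wt_eq hdeg n).to_subtype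
  haveI : Fintype {m : Fin s → ℕ // Groth.Agent.H18.MonoGen.wt deg m = n} := Fintype.ofFinite _
  let ι := Option {m : Fin s → ℕ // Groth.Agent.H18.MonoGen.wt deg m = n}
  let b : ι → A := fun z => match z with
    | none => 0
    | some m => Groth.Agent.H18.MonoGen.mon f m.1
  have hb : ∀ z, b z ∈ 𝒜 n := by
    intro z
    match z with
    | none => exact zero_mem _
    | some m =>
      have h1 := Groth.Agent.H18.MonoGen.mon_mem 𝒜 hf m.1
      rw [m.2] at h1
      exact h1
  obtain ⟨N, hN⟩ : ∃ N, Fintype.card ι = N + 1 :=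
    ⟨Fintype.card ι - 1, by have := Fintype.card_pos (α := ι); omega⟩
  obtain ⟨e, -⟩ : ∃ e : Fin (N + 1) ≃ ι, e = e := ⟨(Fintype.equivFinOfCardEq hN).symm, rfl⟩
  have hva := Groth.Agent.H18.ProjVA.isRelVeryAmplePn_twist 𝒜 (fun k => b (e k)) (fun k => hb (e k))
    hn hUF Set.univ ?_ ?_
  · obtain ⟨N', i, hi, hiq, ⟨τ⟩⟩ := hva
    refine ⟨N', i, ?_, hiq, ⟨τ⟩⟩
    haveI : IsClosedImmersion (Spec.map (CommRingCat.ofHom (algebraMap R (𝒜 0)))) :=
      IsClosedImmersion.spec_of_surjective _ hsurj0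
    haveI : UniversallyClosed (Proj.toSpecZero 𝒜 ≫
        Spec.map (CommRingCat.ofHom (algebraMap R (𝒜 0)))) := inferInstance
    exact Groth.Agent.H18.ProjVA.isClosedImmersion_of_universallyClosed N' i _ hiq
  · intro x
    obtain ⟨i, hx⟩ := hcovf x
    have hwt : Groth.Agent.H18.MonoGen.wt deg (Pi.single i (n / deg i)) = n := by
      rw [Groth.Agent.H18.MonoGen.wt_single, Nat.div_mul_cancel (hdvd i)]
    refine ⟨e.symm (some ⟨Pi.single i (n / deg i), hwt⟩), Set.mem_univ _, ?_⟩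
    show x ∈ Proj.basicOpen 𝒜 (b (e (e.symm (some ⟨Pi.single i (n / deg i), hwt⟩))))
    rw [e.apply_symm_apply]
    show x ∈ Proj.basicOpen 𝒜 (Groth.Agent.H18.MonoGen.mon f (Pi.single i (n / deg i)))
    rw [Groth.Agent.H18.MonoGen.mon_single, Proj.basicOpen_pow 𝒜 _ _ (hcpos i)]
    exact hx
  · intro j _ T hc hT
    refine Groth.Agent.H18.MonoGen.subring_eq_top 𝒜 (hb (e j)) hf hgen hdeg a ha has hndef T hc
      (fun m hm hwt => ?_)
    have h2 := hT (e.symm (some ⟨m, hwt⟩))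
    have hk : b (e (e.symm (some ⟨m, hwt⟩))) = Groth.Agent.H18.MonoGen.mon f m := by
      rw [e.apply_symm_apply]
    rw [Groth.Agent.H18.MonoGen.uFracG_congr 𝒜 (hb (e j)) hk.symm hm
      (hb (e (e.symm (some ⟨m, hwt⟩))))]
    exact h2

end Groth.Agent.S13182
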