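import Groth.Statements.S13183
import Groth.Agent.H18.ProjVA
import Groth.Agent.H18.AwayGenN

set_option autoImplicit false
universe u
open CategoryTheory CategoryTheory.Limits AlgebraicGeometry
open ZeroCyc

namespace Groth.Agent.S13183

/-- Let B be a graded R-algebra of finite type, generated by elements of degrees between 1 and d, such
that X = Proj B is covered by the opens D_+(g), g ∈ B_1. For n ≥ d, n ≥ 1, there is a closed
immersion i of X into a projective space over R, over Spec R, with O_X(n) ≅ i^*O(1); in particular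
O_X(n) is very ample relative to Spec R. (The published statement assumes neither finite generation
nor that the generators have positive degree, and its target is P(B_n) with i the canonical morphism
given by B_n; a closed immersion into a projective space of finite type over R needs X proper over
R, so B is taken of finite type with generators of positive degree; existence of the isomorphism
only.) -/
theorem result {R A : Type u} [CommRing R] [CommRing A] [Algebra R A] (𝒜 : ℕ → Submodule R A) [GradedAlgebra 𝒜]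
    (d : ℕ) (hgen : Algebra.adjoin R (⋃ i ∈ Finset.Icc 1 d, (𝒜 i : Set A)) = ⊤)
    (hcov : (⨆ g : 𝒜 1, Proj.basicOpen 𝒜 (g : A)) = ⊤) [Algebra.FiniteType R A] (n : ℕ) (hn : d ≤ n) (hn1 : 0 < n) :
    ∃ (N : ℕ) (i : Proj 𝒜 ⟶ CohB1.ProjSpaceOver N (Spec (CommRingCat.of R))), IsClosedImmersion i ∧
      i ≫ pullback.snd (CohB1.ProjSpace.toSpec N (ULift.{u} ℤ)) (specULiftZIsTerminal.from (Spec (CommRingCat.of R))) =
        Proj.toSpecZero 𝒜 ≫ Spec.map (CommRingCat.ofHom (algebraMap R (𝒜 0))) ∧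
      Nonempty (Twist.twist 𝒜 (n : ℤ) ≅
        (Scheme.Modules.pullback i).obj (Twist.twistOver N (Spec (CommRingCat.of R)) 1)) := by
  classical
  -- finite homogeneous generating family
  obtain ⟨F, hFS, hF⟩ := Groth.Agent.H18.AwayGenN.exists_finset_subset_adjoin_eq_top hgen
  have hFdeg : ∀ f : F, ∃ e' : ℕ, e' + 1 ≤ d ∧ (f : A) ∈ 𝒜 (e' + 1) := by
    intro f
    have h1 := hFS f.2
    simp only [Set.mem_iUnion, Finset.mem_Icc, SetLike.mem_coe, exists_prop] at h1
    obtain ⟨i, ⟨hi1, hid⟩, hfi⟩ := h1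
    obtain ⟨e', rfl⟩ := Nat.exists_eq_succ_of_ne_zero (Nat.one_le_iff_ne_zero.mp hi1)
    exact ⟨e', hid, hfi⟩
  choose e' he'd he'mem using hFdeg
  -- `R → 𝒜 0` is surjective
  have hsurj0 : Function.Surjective (algebraMap R (𝒜 0)) := by
    refine Groth.Agent.H18.AwayGenN.algebraMap_zero_surjective 𝒜 hgen (fun x hx => ?_)
    simp only [Set.mem_iUnion, Finset.mem_Icc, SetLike.mem_coe, exists_prop] at hx
    obtain ⟨i, ⟨hi1, -⟩, hxi⟩ := hx
    exact ⟨i, hi1, hxi⟩
  -- compactness and a finite cover by `D₊(g)`, `g` of degree one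
  haveI : IsScalarTower R (𝒜 0) A := ⟨fun r a x => smul_mul_assoc r (a : A) x⟩
  haveI : Algebra.FiniteType (𝒜 0) A := Algebra.FiniteType.of_restrictScalars_finiteType R (𝒜 0) A
  haveI : CompactSpace (Proj 𝒜) := QuasiCompact.compactSpace_of_compactSpace (Proj.toSpecZero 𝒜)
  obtain ⟨G, hG⟩ : ∃ G : Finset (𝒜 1), ∀ x : Proj 𝒜, ∃ g ∈ G, x ∈ Proj.basicOpen 𝒜 (g : A) := by
    have hc := isCompact_univ (X := Proj 𝒜)
    obtain ⟨G, hG⟩ := hc.elim_finite_subcover (fun g : 𝒜 1 => (Proj.basicOpen 𝒜 (g : A) : Set (Proj 𝒜)))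
      (fun g => (Proj.basicOpen 𝒜 (g : A)).2) (by
        intro x _
        have hx : x ∈ (⨆ g : 𝒜 1, Proj.basicOpen 𝒜 (g : A)) := by rw [hcov]; trivial
        obtain ⟨g, hg⟩ := TopologicalSpace.Opens.mem_iSup.mp hx
        exact Set.mem_iUnion.mpr ⟨g, hg⟩)
    refine ⟨G, fun x => ?_⟩
    have := hG (Set.mem_univ x)
    simp only [Set.mem_iUnion, exists_prop] at this
    exact this
  have hUF : Groth.Agent.H18.TwistTensor.HasUnitFrac 𝒜 (n : ℤ) := by
    have h := Groth.Agent.H18.TwistTensor.hasUnitFrac_of_cover 𝒜 1 (n : ℤ) (fun y => by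
      obtain ⟨g, -, hg⟩ := hG y
      exact ⟨g, g.2, (ProjectiveSpectrum.mem_basicOpen 𝒜 _ _).mp hg⟩)
    simpa using h
  obtain ⟨m, rfl⟩ := Nat.exists_eq_succ_of_ne_zero hn1.ne'
  -- the sections
  let ι := Option (G × Option F)
  let b : ι → A := fun z => match z with
    | none => 0
    | some (g, none) => ((g : 𝒜 1) : A) ^ (m + 1)
    | some (g, some f) => ((g : 𝒜 1) : A) ^ (m - e' f) * (f : A)
  have hb : ∀ z, b z ∈ 𝒜 (m + 1) := by
    intro z
    match z with
    | none => exact zero_mem _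
    | some (g, none) =>
      have := SetLike.pow_mem_graded (m + 1) (g : 𝒜 1).2
      simpa using this
    | some (g, some f) =>
      have h1 := SetLike.pow_mem_graded (m - e' f) (g : 𝒜 1).2
      have h2 := SetLike.mul_mem_graded h1 (he'mem f)
      have h3 : (m - e' f) • 1 + (e' f + 1) = m + 1 := by
        have := he'd f
        simp only [smul_eq_mul, mul_one]
        omega
      rw [h3] at h2
      exact h2
  obtain ⟨N, hN⟩ : ∃ N, Fintype.card ι = N + 1 :=
    ⟨Fintype.card ι - 1, by have := Fintype.card_pos (α := ι); omega⟩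
  obtain ⟨e, -⟩ : ∃ e : Fin (N + 1) ≃ ι, e = e := ⟨(Fintype.equivFinOfCardEq hN).symm, rfl⟩
  have hva := Groth.Agent.H18.ProjVA.isRelVeryAmplePn_twist 𝒜 (fun k => b (e k)) (fun k => hb (e k))
    hn1 hUF {k | ∃ g : G, e k = some (g, none)} ?_ ?_
  · obtain ⟨N', i, hi, hiq, ⟨τ⟩⟩ := hva
    refine ⟨N', i, ?_, hiq, ⟨τ⟩⟩
    haveI : IsClosedImmersion (Spec.map (CommRingCat.ofHom (algebraMap R (𝒜 0)))) :=
      IsClosedImmersion.spec_of_surjective _ hsurj0
    haveI : UniversallyClosed (Proj.toSpecZero 𝒜 ≫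
        Spec.map (CommRingCat.ofHom (algebraMap R (𝒜 0)))) := inferInstance
    exact Groth.Agent.H18.ProjVA.isClosedImmersion_of_universallyClosed N' i _ hiq
  · intro x
    obtain ⟨g, hgG, hx⟩ := hG x
    refine ⟨e.symm (some (⟨g, hgG⟩, none)), ⟨⟨g, hgG⟩, e.apply_symm_apply _⟩, ?_⟩
    show x ∈ Proj.basicOpen 𝒜 (b (e (e.symm (some (⟨g, hgG⟩, none)))))
    rw [e.apply_symm_apply]
    show x ∈ Proj.basicOpen 𝒜 ((g : A) ^ (m + 1))
    rw [Proj.basicOpen_pow 𝒜 _ (m + 1) (Nat.succ_pos m)]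
    exact hx
  · rintro j ⟨g, hj⟩ T hc hf
    have hx : b (e j) = ((g : 𝒜 1) : A) * ((g : 𝒜 1) : A) ^ m := by
      rw [hj]
      exact pow_succ' _ _
    refine Groth.Agent.H18.AwayGenN.subring_eq_top 𝒜 (g : 𝒜 1).2 m hx (hb (e j)) (F : Set A) hF T hc
      (fun f hfF => ?_)
    have h2 := hf (e.symm (some (g, some ⟨f, hfF⟩)))
    have hk : b (e (e.symm (some (g, some ⟨f, hfF⟩)))) =
        ((g : 𝒜 1) : A) ^ (m - e' ⟨f, hfF⟩) * f := by
      rw [e.apply_symm_apply]
    have hm : m = (m - e' ⟨f, hfF⟩) + e' ⟨f, hfF⟩ := by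
      have := he'd ⟨f, hfF⟩
      omega
    rw [Groth.Agent.H18.AwayGenN.θ_eq_uFracG 𝒜 (g : 𝒜 1).2 m hx hm (he'mem ⟨f, hfF⟩) (hb (e j))
      (hb (e (e.symm (some (g, some ⟨f, hfF⟩))))) hk]
    exact h2

end Groth.Agent.S13183
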