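import Groth.Statements.S13184
import Mathlib

set_option autoImplicit false
universe u
open ZeroCyc

namespace Groth.Agent.S13184

open Polynomial

lemma transfer {k : Type u} [Field k] {Ω : Type u} [Field Ω] {L : Type u} [Field L]
    (ι : k →+* Ω) (j : L →+* Ω) (φ : Ω →+* Ω)
    (f : k[X]) (g : L[X]) (h : f.map ι = g.map (φ.comp j)) :
    (g.Separable ↔ f.Separable) ∧ ∀ z : Ω, (g.eval₂ j z = 0 ↔ f.eval₂ ι (φ z) = 0) := by
  constructor
  · rw [← Polynomial.separable_map (φ.comp j), ← h, Polynomial.separable_map]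
  · intro z
    have h1 : φ (g.eval₂ j z) = f.eval₂ ι (φ z) := by
      rw [Polynomial.hom_eval₂, ← Polynomial.eval_map, ← h, Polynomial.eval_map]
    rw [← h1]
    exact (map_eq_zero_iff φ φ.injective).symm


/-- Let k ⊆ K be a finite extension of fields of characteristic p > 0, viewed inside an algebraically
closed field Ω, and for e ≥ 0 let k^{p^{-e}} ⊆ Ω be the field of elements whose p^e-th power lies in
k. Then the compositum k^{p^{-e}}K is separable over k^{p^{-e}} if and only if x^{p^e} is separable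
over k for every x ∈ K; hence the exponent of K/k (the least n ≥ 1 with K^n separable over k, a
power of p) is the least p^e for which k^{p^{-e}} ⊆ k^{p^{-e}}K is separable. -/
theorem result {k : Type u} [Field k] (p : ℕ) [Fact p.Prime] [CharP k p]
    {K : Type u} [Field K] [Algebra k K] [FiniteDimensional k K]
    {Ω : Type u} [Field Ω] [Algebra k Ω] [Algebra K Ω] [IsScalarTower k K Ω] [IsAlgClosed Ω] (e : ℕ) :
    (∀ x : Ω, x ∈ IntermediateField.adjoin k {y : Ω | y ^ (p ^ e) ∈ Set.range (algebraMap k Ω)} ⊔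
        IntermediateField.adjoin k (Set.range (algebraMap K Ω)) →
      IsSeparable (IntermediateField.adjoin k {y : Ω | y ^ (p ^ e) ∈ Set.range (algebraMap k Ω)}) x) ↔
    ∀ x : K, x ^ (p ^ e) ∈ separableClosure k K := by
  classical
  haveI : CharP Ω p := charP_of_injective_algebraMap (algebraMap k Ω).injective p
  set S : Set Ω := {y : Ω | y ^ (p ^ e) ∈ Set.range (algebraMap k Ω)} with hS
  set L₀ := IntermediateField.adjoin k S with hL₀
  let φ : Ω →+* Ω := iterateFrobenius Ω p e
  have hφ : ∀ x, φ x = x ^ p ^ e := fun x => iterateFrobenius_def p e x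
  let ι : k →+* Ω := algebraMap k Ω
  let j : L₀ →+* Ω := algebraMap L₀ Ω
  have F1 : ∀ y ∈ L₀, y ^ (p ^ e) ∈ Set.range ι := by
    intro y hy
    induction hy using IntermediateField.adjoin_induction with
    | mem x hx => exact hx
    | algebraMap c => exact ⟨c ^ (p ^ e), by simp [ι]⟩
    | add x y _ _ hx hy =>
      rw [add_pow_char_pow]
      obtain ⟨a, ha⟩ := hx
      obtain ⟨b, hb⟩ := hy
      exact ⟨a + b, by rw [map_add, ha, hb]⟩
    | inv x _ hx =>
      obtain ⟨a, ha⟩ := hx
      exact ⟨a⁻¹, by rw [map_inv₀, ha, inv_pow]⟩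
    | mul x y _ _ hx hy =>
      obtain ⟨a, ha⟩ := hx
      obtain ⟨b, hb⟩ := hy
      exact ⟨a * b, by rw [map_mul, ha, hb, mul_pow]⟩
  have F1' : ∀ c : k, ∃ y : L₀, (y : Ω) ^ (p ^ e) = ι c := by
    intro c
    obtain ⟨y, hy⟩ := IsAlgClosed.exists_pow_nat_eq (ι c) (pow_pos (Fact.out : p.Prime).pos e)
    exact ⟨⟨y, IntermediateField.subset_adjoin k S ⟨c, hy.symm⟩⟩, hy⟩
  constructor
  · intro H a
    rw [mem_separableClosure_iff]
    set z : Ω := algebraMap K Ω a with hz
    have hzM : z ∈ L₀ ⊔ IntermediateField.adjoin k (Set.range (algebraMap K Ω)) :=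
      (le_sup_right : _ ≤ L₀ ⊔ _) (IntermediateField.subset_adjoin k _ ⟨a, rfl⟩)
    have hsep : IsSeparable L₀ z := H z hzM
    set g := minpoly L₀ z with hg
    have hcoef : (g.map (φ.comp j)) ∈ Polynomial.lifts ι := by
      rw [Polynomial.lifts_iff_coeff_lifts]
      intro n
      rw [Polynomial.coeff_map]
      show φ (j (g.coeff n)) ∈ Set.range ι
      rw [hφ]
      exact F1 _ (g.coeff n).2
    obtain ⟨f, hf⟩ := (Polynomial.mem_lifts _).mp hcoef
    obtain ⟨h1, h2⟩ := transfer ι j φ f g hf
    have hfsep : f.Separable := h1.mp hsep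
    have hfz : f.eval₂ ι (φ z) = 0 := (h2 z).mp (minpoly.aeval L₀ z)
    have hsepΩ : IsSeparable k (z ^ (p ^ e)) := by
      rw [← hφ]
      exact hfsep.of_dvd (minpoly.dvd k (φ z) hfz)
    have hpow : (IsScalarTower.toAlgHom k K Ω) (a ^ (p ^ e)) = z ^ (p ^ e) := by
      rw [map_pow]; rfl
    rw [← hpow] at hsepΩ
    exact (isSeparable_map_iff (IsScalarTower.toAlgHom k K Ω) (algebraMap K Ω).injective).mp hsepΩ
  · intro H x hx
    have key : ∀ a : K, IsSeparable L₀ (algebraMap K Ω a) := by
      intro a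
      set z : Ω := algebraMap K Ω a with hz
      have hw : IsSeparable k (z ^ (p ^ e)) := by
        have h0 : IsSeparable k (a ^ (p ^ e)) := mem_separableClosure_iff.mp (H a)
        have h1 := h0.map (IsScalarTower.toAlgHom k K Ω) (algebraMap K Ω).injective
        have hpow : (IsScalarTower.toAlgHom k K Ω) (a ^ (p ^ e)) = z ^ (p ^ e) := by
          rw [map_pow]; rfl
        rwa [hpow] at h1
      set f := minpoly k (z ^ (p ^ e)) with hf
      have hcoef : f.map ι ∈ Polynomial.lifts (φ.comp j) := by
        rw [Polynomial.lifts_iff_coeff_lifts]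
        intro n
        rw [Polynomial.coeff_map]
        obtain ⟨y, hy⟩ := F1' (f.coeff n)
        refine ⟨y, ?_⟩
        show φ (j y) = _
        rw [hφ]
        exact hy
      obtain ⟨g, hg⟩ := (Polynomial.mem_lifts _).mp hcoef
      obtain ⟨h1, h2⟩ := transfer ι j φ f g hg.symm
      have hgsep : g.Separable := h1.mpr hw
      have hgz : g.eval₂ j z = 0 := (h2 z).mpr (by rw [hφ]; exact minpoly.aeval k _)
      exact hgsep.of_dvd (minpoly.dvd L₀ z hgz)
    have hle : L₀ ⊔ IntermediateField.adjoin k (Set.range (algebraMap K Ω)) ≤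
        (separableClosure L₀ Ω).restrictScalars k := by
      apply sup_le
      · intro y hy
        rw [IntermediateField.mem_restrictScalars, mem_separableClosure_iff]
        exact isSeparable_algebraMap (⟨y, hy⟩ : L₀)
      · rw [IntermediateField.adjoin_le_iff]
        rintro _ ⟨a, rfl⟩
        rw [SetLike.mem_coe, IntermediateField.mem_restrictScalars, mem_separableClosure_iff]
        exact key a
    exact mem_separableClosure_iff.mp (hle hx)

end Groth.Agent.S13184
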