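import Groth.Statements.S13186
import Groth.Agent.H66.GLnH90

set_option autoImplicit false
universe u
open GalCoh

namespace Groth.Agent.S13186

/-- Let L/K be a finite Galois extension of fields, n a natural number, and B a map from the Galois
group of L over K to the invertible n × n matrices over L such that B(σ) · σ(B(τ)) = B(στ) for all
σ, τ (σ acting on matrices entrywise, στ applying τ first) and det B(σ) = 1 for every σ. Then there
is an invertible matrix A over L of determinant 1 with B(σ) = A⁻¹ · σ(A) for every σ; that is, every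
1-cocycle of the Galois group with values in SL_n(L) is the coboundary of an element of SL_n(L), so
H¹ of the Galois group with values in SL_n(L) is a point. (The published statement says that every
torsor under the special linear group over K is trivial; this row is the finite-Galois-level cocycle
form that its proof establishes.) -/
theorem result (K L : Type u) [Field K] [Field L]
    [Algebra K L] [FiniteDimensional K L] [IsGalois K L] (n : ℕ)
    (B : (L ≃ₐ[K] L) → GL (Fin n) L)
    (hB : ∀ σ τ : L ≃ₐ[K] L,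
      (B σ : Matrix (Fin n) (Fin n) L) * (B τ : Matrix (Fin n) (Fin n) L).map σ =
        (B (σ * τ) : Matrix (Fin n) (Fin n) L))
    (hdet : ∀ σ : L ≃ₐ[K] L, Matrix.det (B σ : Matrix (Fin n) (Fin n) L) = 1) :
    ∃ A : GL (Fin n) L, Matrix.det (A : Matrix (Fin n) (Fin n) L) = 1 ∧ ∀ σ : L ≃ₐ[K] L,
      (B σ : Matrix (Fin n) (Fin n) L) =
        ((A⁻¹ : GL (Fin n) L) : Matrix (Fin n) (Fin n) L) * (A : Matrix (Fin n) (Fin n) L).map σ := by
  classical
  -- the action of `σ` on `GL`
  let mapGL : (L ≃ₐ[K] L) → (GL (Fin n) L →* GL (Fin n) L) := fun σ =>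
    Units.map ((σ : L →+* L).mapMatrix : Matrix (Fin n) (Fin n) L →+* Matrix (Fin n) (Fin n) L).toMonoidHom
  have hmapGL : ∀ (σ : L ≃ₐ[K] L) (u : GL (Fin n) L),
      ((mapGL σ u : GL (Fin n) L) : Matrix (Fin n) (Fin n) L) = (u : Matrix (Fin n) (Fin n) L).map σ :=
    fun σ u => rfl
  have hB1 : B 1 = 1 := by
    have h := hB 1 1
    have h1 : ((B 1 : GL (Fin n) L) : Matrix (Fin n) (Fin n) L).map (1 : L ≃ₐ[K] L) = B 1 := by
      ext i j; rfl
    rw [h1, mul_one, ← Units.val_mul] at h
    have h2 : B 1 * B 1 = B 1 := Units.ext h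
    exact mul_eq_left.mp h2
  obtain ⟨P, hPu, hP⟩ := Groth.Agent.H66.exists_isUnit_twisted_invariant (K := K) (L := L)
    (fun σ => ((B σ : GL (Fin n) L) : Matrix (Fin n) (Fin n) L))
    (by show ((B 1 : GL (Fin n) L) : Matrix (Fin n) (Fin n) L) = 1; rw [hB1]; rfl) hB
  set A₀ : GL (Fin n) L := hPu.unit⁻¹ with hA₀
  have hBA : ∀ σ, B σ = A₀⁻¹ * mapGL σ A₀ := by
    intro σ
    have h1 : B σ * mapGL σ hPu.unit = hPu.unit := by
      apply Units.ext
      rw [Units.val_mul, hmapGL]
      exact hP σ
    rw [hA₀, inv_inv, map_inv]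
    exact eq_mul_inv_of_mul_eq h1
  -- determinant of A₀ is Galois invariant
  have hdetmap : ∀ (σ : L ≃ₐ[K] L) (u : GL (Fin n) L),
      Matrix.det ((mapGL σ u : GL (Fin n) L) : Matrix (Fin n) (Fin n) L) =
        σ (Matrix.det (u : Matrix (Fin n) (Fin n) L)) := by
    intro σ u
    rw [hmapGL]
    exact (RingHom.map_det (σ : L →+* L) _).symm
  have hδne : Matrix.det (A₀ : Matrix (Fin n) (Fin n) L) ≠ 0 := by
    have := (Matrix.isUnit_iff_isUnit_det _).mp A₀.isUnit
    exact this.ne_zero
  set δ : L := Matrix.det (A₀ : Matrix (Fin n) (Fin n) L) with hδ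
  have hδfix : ∀ σ : L ≃ₐ[K] L, σ δ = δ := by
    intro σ
    have h1 := hdet σ
    rw [hBA σ, Units.val_mul, Matrix.det_mul, hdetmap, ← hδ] at h1
    have h2 : Matrix.det ((A₀⁻¹ : GL (Fin n) L) : Matrix (Fin n) (Fin n) L) * δ = 1 := by
      rw [hδ, ← Matrix.det_mul, ← Units.val_mul, inv_mul_cancel]; simp
    have h3 : Matrix.det ((A₀⁻¹ : GL (Fin n) L) : Matrix (Fin n) (Fin n) L) ≠ 0 :=
      left_ne_zero_of_mul_eq_one h2
    exact mul_left_cancel₀ h3 (h1.trans h2.symm)
  -- the diagonal correction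
  rcases Nat.eq_zero_or_pos n with hn | hn
  · subst hn
    refine ⟨A₀, Matrix.det_isEmpty, fun σ => ?_⟩
    rw [hBA σ, Units.val_mul, hmapGL]
  · let i₀ : Fin n := ⟨0, hn⟩
    let D : Matrix (Fin n) (Fin n) L := Matrix.diagonal (fun i => if i = i₀ then δ⁻¹ else 1)
    have hDdet : Matrix.det D = δ⁻¹ := by
      rw [Matrix.det_diagonal, Finset.prod_ite_eq' Finset.univ i₀ (fun _ => δ⁻¹)]
      simp
    have hDne : Matrix.det D ≠ 0 := by rw [hDdet]; exact inv_ne_zero hδne
    let Dg : GL (Fin n) L := Matrix.GeneralLinearGroup.mkOfDetNeZero D hDne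
    have hDg : ∀ σ, mapGL σ Dg = Dg := by
      intro σ
      apply Units.ext
      rw [hmapGL]
      show D.map σ = D
      ext i j
      simp only [D, Matrix.map_apply, Matrix.diagonal_apply]
      by_cases hij : i = j
      · by_cases hi : i = i₀
        · subst hij
          simp [hi, map_inv₀, hδfix σ]
        · subst hij
          simp [hi]
      · simp [hij]
    refine ⟨Dg * A₀, ?_, fun σ => ?_⟩
    · rw [Units.val_mul, Matrix.det_mul]
      show Matrix.det D * δ = 1
      rw [hDdet, inv_mul_cancel₀ hδne]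
    · have : B σ = (Dg * A₀)⁻¹ * mapGL σ (Dg * A₀) := by
        rw [hBA σ, map_mul, hDg σ, mul_inv_rev]
        group
      rw [this, Units.val_mul, hmapGL]

end Groth.Agent.S13186
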