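import Groth.Statements.S13187
import Groth.Agent.S0210
import Groth.Agent.S0211
import Groth.Agent.S0212
import Mathlib.RingTheory.AlgebraicIndependent.TranscendenceBasis
import Mathlib.FieldTheory.RatFunc.AsPolynomial

set_option autoImplicit false
universe u v
open Curves

namespace Groth.Agent.S13187

open Cardinal

theorem aux (j : ℕ) : ∀ (F : Type u) (K : Type v) [Field F] [Field K] [Algebra F K] (i : ℕ),
    Curves.IsCi F i → Algebra.trdeg F K = j → Curves.IsCi K (i + j) := by
  induction j with
  | zero =>
    intro F K _ _ _ i hF hj
    have : Algebra.IsAlgebraic F K := trdeg_eq_zero_iff.mp (by simpa using hj)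
    exact Groth.Agent.S0210.result F K i hF
  | succ j ih =>
    intro F K _ _ _ i hF hj
    have hne : Algebra.trdeg F K ≠ 0 := by
      rw [hj]
      exact_mod_cast Nat.succ_ne_zero j
    have htr : Algebra.Transcendental F K := trdeg_ne_zero_iff.mp hne
    obtain ⟨x, hx⟩ := htr.transcendental
    let φ : RatFunc F →ₐ[F] K :=
      (IntermediateField.val _).comp (RatFunc.algEquivOfTranscendental x hx).toAlgHom
    let _ : Algebra (RatFunc F) K := φ.toRingHom.toAlgebra
    have : IsScalarTower F (RatFunc F) K := IsScalarTower.of_algebraMap_eq (fun a => by
      show algebraMap F K a = φ (algebraMap F (RatFunc F) a)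
      rw [AlgHom.commutes])
    have h4 := lift_trdeg_add_eq F (RatFunc F) K
    rw [Groth.Agent.S0212.trdeg_ratFunc, hj] at h4
    have h5 : Algebra.trdeg (RatFunc F) K = j := by
      have : lift.{u} (Algebra.trdeg (RatFunc F) K) + 1 = lift.{u} (j : Cardinal.{v}) + 1 := by
        rw [add_comm, ← lift_one.{u, v}, h4]
        simp
      have h6 := Cardinal.add_one_inj.mp this
      exact lift_injective h6
    have h6 := ih (RatFunc F) K (i + 1) (Groth.Agent.S0211.result F i hF) h5
    have : i + 1 + j = i + (j + 1) := by ring
    rw [this] at h6
    exact h6

/-- If a field k has property C_m for systems of forms and the extension field K of k has a finite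
transcendence basis with t elements, then K has property C_{m+t} for systems of forms. (Property C_m
is the systems version: any r forms of positive degrees d_1, …, d_r in n variables with Σ d_i^m < n
have a common non-trivial zero.) -/
theorem result (k : Type u) [Field k] (K : Type v) [Field K] [Algebra k K]
    (m t : ℕ) (x : Fin t → K) (hx : IsTranscendenceBasis k x) (hk : Curves.IsCi k m) :
    Curves.IsCi K (m + t) := by
  apply aux t k K m hk
  have h := hx.lift_cardinalMk_eq_trdeg
  rw [Cardinal.lift_uzero] at h
  rw [← h]
  simp

end Groth.Agent.S13187
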