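import Groth.Statements.S13188
import Groth.Agent.S0210
import Mathlib.RingTheory.MvPolynomial.Homogeneous

set_option autoImplicit false
universe u v w
open Brauer

namespace Groth.Agent.S13188

open MvPolynomial

theorem eval_smul_of_isHomogeneous {K : Type*} [CommRing K] {σ : Type*} {F : MvPolynomial σ K}
    {d : ℕ} (hF : F.IsHomogeneous d) (c : K) (x : σ → K) :
    eval (fun i => c * x i) F = c ^ d * eval x F := by
  rw [eval_eq, eval_eq, Finset.mul_sum]
  refine Finset.sum_congr rfl (fun m hm => ?_)
  have hdeg : ∑ i ∈ m.support, m i = d := by
    have h3 := hF (mem_support_iff.mp hm)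
    have h4 : Finsupp.degree m = Finsupp.weight 1 m := by
      rw [Finsupp.degree_eq_weight_one]
      rfl
    rw [← h4] at h3
    exact h3
  simp only [mul_pow]
  rw [Finset.prod_mul_distrib, Finset.prod_pow_eq_pow_sum, hdeg]
  ring

/-- Let K be a field with property C_2 for systems of forms and D a finite-dimensional central division
algebra over K with dim_K D = d². Let N : D → K be multiplicative, a reduced norm of D over K, and
given in the coordinates of a K-basis b of D by a homogeneous polynomial F of degree d, i.e. N(Σ x_i
b_i) = F(x) for every coordinate vector x (the reduced norm of a central simple algebra of dimension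
d² is such a polynomial map of degree d; these data record it). Then N : D → K is surjective. -/
theorem result (K : Type u) [Field K] (hK : Curves.IsCi K 2)
    (D : Type v) [DivisionRing D] [Algebra K D] [Algebra.IsCentral K D] [FiniteDimensional K D]
    (d : ℕ) (hd : Module.finrank K D = d ^ 2)
    (N : D →* K) (hN : CSAGal.IsRedNorm K D N)
    {ι : Type w} [Fintype ι] (b : Module.Basis ι K D)
    (F : MvPolynomial ι K) (hF : F.IsHomogeneous d)
    (hNF : ∀ x : ι → K, N (∑ i, x i • b i) = MvPolynomial.eval x F) :
    Function.Surjective N := by
  classical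
  intro a
  have hcard : Fintype.card ι = d ^ 2 := by
    rw [← hd, Module.finrank_eq_card_basis b]
  have hdpos : 0 < d := by
    have h1 : 0 < Module.finrank K D := Module.finrank_pos
    rw [hd] at h1
    exact Nat.pos_of_ne_zero (fun h0 => by simp [h0] at h1)
  let G : MvPolynomial (Option ι) K := rename some F - C a * X none ^ d
  have hG : G.IsHomogeneous d :=
    (hF.rename_isHomogeneous).sub (isHomogeneous_C_mul_X_pow a none d)
  obtain ⟨z, hz0, hz⟩ := Groth.Agent.S0210.isCi_fintype hK (ι := Unit) (σ := Option ι)
    (fun _ => G) (fun _ => d) (fun _ => hG) (fun _ => hdpos) (by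
      simp [Fintype.card_option, hcard])
  have hz' : eval (fun i => z (some i)) F = a * z none ^ d := by
    have := hz ()
    simp only [G, map_sub, eval_rename, map_mul, eval_C, map_pow, eval_X] at this
    exact sub_eq_zero.mp this
  let y : D := ∑ i, z (some i) • b i
  have hNy : N y = a * z none ^ d := by rw [hNF, hz']
  have hc : z none ≠ 0 := by
    intro h0
    have hy0 : y ≠ 0 := by
      intro hy
      apply hz0
      funext o
      cases o with
      | none => exact h0
      | some i =>
        exact Fintype.linearIndependent_iff.mp b.linearIndependent (fun i => z (some i)) hy i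
    have h1 : N y = 0 := by rw [hNy, h0, zero_pow hdpos.ne', mul_zero]
    have h2 : N y * N y⁻¹ = 1 := by rw [← map_mul, mul_inv_cancel₀ hy0, map_one]
    rw [h1, zero_mul] at h2
    exact zero_ne_one h2
  refine ⟨∑ i, ((z none)⁻¹ * z (some i)) • b i, ?_⟩
  rw [hNF, eval_smul_of_isHomogeneous hF, hz', inv_pow]
  have hcd : z none ^ d ≠ 0 := pow_ne_zero _ hc
  field_simp

end Groth.Agent.S13188
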