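import Groth.Statements.S13189
import Mathlib.FieldTheory.Finite.Polynomial
import Mathlib.Combinatorics.Nullstellensatz
import Mathlib.Tactic.Ring

set_option autoImplicit false
universe u
open CAlg

namespace Groth.Agent.S13189

open MvPolynomial in
theorem mem_sup (K : Type u) [Field K] [Fintype K] (n : ℕ) (p : MvPolynomial (Fin n) K) :
    p ∈ (restrictDegree (Fin n) K (Fintype.card K - 1)) ⊔
      (Ideal.span (Set.range fun i : Fin n =>
        (X i ^ Fintype.card K - X i : MvPolynomial (Fin n) K))).restrictScalars K := by
  classical
  have hq2 : 2 ≤ Fintype.card K := Fintype.one_lt_card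
  generalize hqd : Fintype.card K = q at *
  generalize hId : Ideal.span (Set.range fun i : Fin n =>
    (X i ^ q - X i : MvPolynomial (Fin n) K)) = I
  have hgen : ∀ i : Fin n, (X i ^ q - X i : MvPolynomial (Fin n) K) ∈ I := by
    intro i
    rw [← hId]
    exact Ideal.subset_span ⟨i, rfl⟩
  generalize hSd : (restrictDegree (Fin n) K (q - 1)) ⊔ I.restrictScalars K = S
  have hmono : ∀ (w : Fin n →₀ ℕ) (c : K), (∀ j, w j ≤ q - 1) → monomial w c ∈ S := by
    intro w c hw
    rw [← hSd]
    refine Submodule.mem_sup_left ?_
    rw [mem_restrictDegree]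
    intro s hs j
    have : s = w := Finset.mem_singleton.mp (support_monomial_subset hs)
    rw [this]
    exact hw j
  have hIS : ∀ t, t ∈ I → t ∈ S := fun t ht => by
    rw [← hSd]
    exact Submodule.mem_sup_right ht
  induction p using MvPolynomial.induction_on with
  | C a =>
    rw [C_apply]
    exact hmono 0 a (fun j => Nat.zero_le _)
  | add p₁ p₂ h₁ h₂ => exact Submodule.add_mem _ h₁ h₂
  | mul_X p i hp =>
    rw [← hSd] at hp
    obtain ⟨r, hr, t, ht, rfl⟩ := Submodule.mem_sup.mp hp
    rw [add_mul]
    refine Submodule.add_mem _ ?_ (hIS _ (I.mul_mem_right _ ht))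
    rw [← support_sum_monomial_coeff r, Finset.sum_mul]
    refine Submodule.sum_mem _ (fun v hv => ?_)
    have hv' : ∀ j, v j ≤ q - 1 := (mem_restrictDegree _ _ _).mp hr v hv
    by_cases hvi : v i + 1 ≤ q - 1
    · have e0 : monomial v (coeff v r) * X i = monomial (v + Finsupp.single i 1) (coeff v r) := by
        rw [monomial_add_single, pow_one]
      rw [e0]
      refine hmono _ _ (fun j => ?_)
      by_cases h : j = i
      · subst h
        rw [Finsupp.add_apply, Finsupp.single_eq_same]
        exact hvi
      · rw [Finsupp.add_apply, Finsupp.single_apply, if_neg (Ne.symm h), add_zero]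
        exact hv' j
    · have hvi' : v i = q - 1 := by
        have := hv' i
        omega
      have e1 : monomial v (coeff v r) = monomial (v.erase i) (coeff v r) * X i ^ (q - 1) := by
        rw [← monomial_add_single, ← hvi', Finsupp.erase_add_single]
      have hpow : (X i : MvPolynomial (Fin n) K) ^ q = X i ^ (q - 1) * X i := by
        rw [← pow_succ]
        congr 1
        omega
      have e2 : monomial v (coeff v r) * X i =
          monomial (v.erase i) (coeff v r) * (X i ^ q - X i) +
            monomial (v.erase i + Finsupp.single i 1) (coeff v r) := by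
        rw [monomial_add_single, pow_one, hpow]
        conv_lhs => rw [e1]
        ring
      rw [e2]
      refine Submodule.add_mem _ (hIS _ (I.mul_mem_left _ (hgen i))) (hmono _ _ (fun j => ?_))
      by_cases h : j = i
      · subst h
        rw [Finsupp.add_apply, Finsupp.erase_same, Finsupp.single_eq_same]
        omega
      · rw [Finsupp.add_apply, Finsupp.erase_ne h, Finsupp.single_apply, if_neg (Ne.symm h),
          add_zero]
        exact hv' j

/-- For a finite field K of cardinality q and n ≥ 0, a polynomial p in n variables over K vanishes at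
every point of K^n if and only if p belongs to the ideal generated by the X_i^q − X_i, i = 1, …, n;
in other words that ideal is the kernel of the evaluation homomorphism from K[X_1, …, X_n] to the
ring of K-valued functions on K^n. -/
theorem result (K : Type u) [Field K] [Fintype K]
    (n : ℕ) (p : MvPolynomial (Fin n) K) :
    (∀ a : Fin n → K, MvPolynomial.eval a p = 0) ↔
      p ∈ Ideal.span (Set.range fun i : Fin n =>
        (MvPolynomial.X i ^ Fintype.card K - MvPolynomial.X i : MvPolynomial (Fin n) K)) := by
  have hker : ∀ t : MvPolynomial (Fin n) K, t ∈ Ideal.span (Set.range fun i : Fin n =>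
        (MvPolynomial.X i ^ Fintype.card K - MvPolynomial.X i : MvPolynomial (Fin n) K)) →
      ∀ a : Fin n → K, MvPolynomial.eval a t = 0 := by
    intro t ht a
    have hle : Ideal.span (Set.range fun i : Fin n =>
        (MvPolynomial.X i ^ Fintype.card K - MvPolynomial.X i : MvPolynomial (Fin n) K)) ≤
        RingHom.ker (MvPolynomial.eval a) := by
      rw [Ideal.span_le]
      rintro _ ⟨i, rfl⟩
      show (MvPolynomial.X i ^ Fintype.card K - MvPolynomial.X i : MvPolynomial (Fin n) K) ∈
        RingHom.ker (MvPolynomial.eval a)
      rw [RingHom.mem_ker, map_sub, map_pow, MvPolynomial.eval_X, FiniteField.pow_card, sub_self]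
    exact RingHom.mem_ker.mp (hle ht)
  constructor
  · intro h
    obtain ⟨r, hr, t, ht, rfl⟩ := Submodule.mem_sup.mp (mem_sup K n p)
    have ht' : t ∈ Ideal.span (Set.range fun i : Fin n =>
        (MvPolynomial.X i ^ Fintype.card K - MvPolynomial.X i : MvPolynomial (Fin n) K)) := ht
    have hr0 : r = 0 := by
      refine MvPolynomial.eq_zero_of_eval_zero_at_prod_finset r (fun _ => Finset.univ)
        (fun i => ?_) (fun a _ => ?_)
      · rw [Finset.card_univ, MvPolynomial.degreeOf_lt_iff Fintype.card_pos]
        intro m hm
        have h2 := (MvPolynomial.mem_restrictDegree _ _ _).mp hr m hm i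
        have h3 := Fintype.card_pos (α := K)
        omega
      · have h1 := h a
        rw [map_add, hker t ht' a, add_zero] at h1
        exact h1
    rw [hr0, zero_add]
    exact ht'
  · intro h a
    exact hker p h a

end Groth.Agent.S13189
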