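import Groth.Statements.S1319
import Mathlib
import Groth.Agent.H78.DeformFin

set_option autoImplicit false
set_option maxHeartbeats 400000
universe u
open FlatMor

namespace Groth.Agent.S1319

open AlgebraicGeometry CategoryTheory Limits in
/-- Let S ⟶ S' be a finite order thickening, let X' ⟶ Y' be a morphism of schemes over S' with X' flat
over S', and let X ⟶ Y be its base change to S. Then X' ⟶ Y' is an open immersion exactly when X ⟶ Y
is one. -/
theorem result {X X' Y Y' S S' : Scheme.{u}} (iX : X ⟶ X') (iY : Y ⟶ Y') (iS : S ⟶ S')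
    (f : X ⟶ Y) (f' : X' ⟶ Y') (g : Y ⟶ S) (g' : Y' ⟶ S')
    (hS : MoreMor.IsFiniteOrderThickening iS) (hcX : IsPullback iX (f ≫ g) (f' ≫ g') iS) (hcY : IsPullback iY g g' iS)
    (w : iX ≫ f' = f ≫ iY) [Flat (f' ≫ g')] :
    IsOpenImmersion f ↔ IsOpenImmersion f' := by
  exact Groth.Agent.H78.DeformFin.deform_fin @IsOpenImmersion
    (fun φ hφ => by
      haveI : IsOpenImmersion φ := hφ
      infer_instance)
    (fun φ ψ _ _ h => Groth.Agent.H49.OpenImmFibre.isOpenImmersion_of_flat_of_fiberMaps φ ψ h)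
    iX iY iS f f' g g' hS hcX hcY w

end Groth.Agent.S1319
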