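import Groth.Statements.S13191

set_option autoImplicit false
universe u v w x
open GalCoh

namespace Groth.Agent.S13191

/-- Let a group G act by automorphisms on a group A, and let E and E' each be a G-equivariant right
A-torsor (a set with a simply transitive right action of A, written m ↦ m·a, and a left action of G
with g(m·a) = (gm)·(ga)). Let m ∈ E and m' ∈ E' be points with attached maps a, a' : G → A (g·m =
m·a(g) and g·m' = m'·a'(g) for all g). Then there is a bijection E ≃ E' commuting with the actions
of G and of A if and only if a and a' are cohomologous. (The published statement is for a Galois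
group acting on discrete modules; this row takes an arbitrary group acting on a group.) -/
theorem result {G : Type u} {A : Type v} {E : Type w} {E' : Type x}
    [Group G] [Group A] [MulDistribMulAction G A]
    [MulAction G E] [MulAction Aᵐᵒᵖ E]
    (hfree : ∀ m₁ m₂ : E, ∃! a : A, m₂ = MulOpposite.op a • m₁)
    (hcompat : ∀ (g : G) (a : A) (m : E), g • (MulOpposite.op a • m) = MulOpposite.op (g • a) • g • m)
    [MulAction G E'] [MulAction Aᵐᵒᵖ E']
    (hfree' : ∀ m₁ m₂ : E', ∃! a : A, m₂ = MulOpposite.op a • m₁)
    (hcompat' : ∀ (g : G) (a : A) (m : E'), g • (MulOpposite.op a • m) = MulOpposite.op (g • a) • g • m)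
    (m : E) (a : G → A) (ha : ∀ g : G, g • m = MulOpposite.op (a g) • m)
    (m' : E') (a' : G → A) (ha' : ∀ g : G, g • m' = MulOpposite.op (a' g) • m') :
    (∃ f : E ≃ E', (∀ (g : G) (e : E), f (g • e) = g • f e) ∧
        ∀ (b : A) (e : E), f (MulOpposite.op b • e) = MulOpposite.op b • f e) ↔
      GpH1.Cohomologous a a' := by
  -- basic facts
  have hop : ∀ (x y : A) (e : E), MulOpposite.op x • MulOpposite.op y • e = MulOpposite.op (y * x) • e := by
    intro x y e
    rw [← mul_smul, ← MulOpposite.op_mul]
  have hop' : ∀ (x y : A) (e : E'), MulOpposite.op x • MulOpposite.op y • e = MulOpposite.op (y * x) • e := by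
    intro x y e
    rw [← mul_smul, ← MulOpposite.op_mul]
  have hinj : ∀ (x y : A), MulOpposite.op x • m = MulOpposite.op y • m → x = y := by
    intro x y hxy
    exact (hfree m (MulOpposite.op x • m)).unique rfl hxy
  have hinj' : ∀ (x y : A), MulOpposite.op x • m' = MulOpposite.op y • m' → x = y := by
    intro x y hxy
    exact (hfree' m' (MulOpposite.op x • m')).unique rfl hxy
  constructor
  · rintro ⟨f, hfG, hfA⟩
    obtain ⟨c, hc, -⟩ := hfree' m' (f m)
    refine ⟨c, fun g => ?_⟩
    have h1 : f (g • m) = MulOpposite.op (a' g * g • c) • m' := by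
      rw [hfG, hc, hcompat', ha' g, hop']
    have h2 : f (g • m) = MulOpposite.op (c * a g) • m' := by
      rw [ha g, hfA, hc, hop']
    have h3 : a' g * g • c = c * a g := hinj' _ _ (h1.symm.trans h2)
    rw [mul_assoc, h3]; group
  · rintro ⟨c, hc⟩
    have hc' : ∀ g : G, c * a g = a' g * g • c := by
      intro g; rw [hc g]; group
    choose β hβ hβu using fun e : E => hfree m e
    choose β' hβ' hβu' using fun e : E' => hfree' m' e
    have hβop : ∀ x : A, β (MulOpposite.op x • m) = x := fun x => (hβu _ x rfl).symm
    have hβop' : ∀ x : A, β' (MulOpposite.op x • m') = x := fun x => (hβu' _ x rfl).symm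
    refine ⟨⟨fun e => MulOpposite.op (c * β e) • m', fun e' => MulOpposite.op (c⁻¹ * β' e') • m, ?_, ?_⟩, ?_, ?_⟩
    · intro e
      show MulOpposite.op (c⁻¹ * β' (MulOpposite.op (c * β e) • m')) • m = e
      rw [hβop', inv_mul_cancel_left, ← hβ e]
    · intro e'
      show MulOpposite.op (c * β (MulOpposite.op (c⁻¹ * β' e') • m)) • m' = e'
      rw [hβop, mul_inv_cancel_left, ← hβ' e']
    · intro g e
      show MulOpposite.op (c * β (g • e)) • m' = g • (MulOpposite.op (c * β e) • m')
      have h1 : g • e = MulOpposite.op (a g * g • β e) • m := by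
        conv_lhs => rw [hβ e]
        rw [hcompat, ha g, hop]
      rw [hcompat', ha' g, hop', h1, hβop, smul_mul', ← mul_assoc, ← mul_assoc, hc' g]
    · intro b e
      show MulOpposite.op (c * β (MulOpposite.op b • e)) • m' = MulOpposite.op b • (MulOpposite.op (c * β e) • m')
      have h1 : MulOpposite.op b • e = MulOpposite.op (β e * b) • m := by
        conv_lhs => rw [hβ e]
        rw [hop]
      rw [h1, hβop, hop', mul_assoc]

end Groth.Agent.S13191
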