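import Groth.Statements.S13198
import Mathlib
import Groth.Agent.H36.TensorLocal
-- import your own Groth.Agent.* helpers here

set_option autoImplicit false
universe u
open scoped TensorProduct
open Hensel

namespace Groth.Agent.S13198

/-- Let R be a local ring which is strictly henselian (henselian, with separably closed residue field),
A a local ring which is an integral R-algebra with local structure map and whose residue field is
purely inseparable over that of R, and B a local ring with a local homomorphism R → B. Then A ⊗_R B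
is a local ring, the map B → A ⊗_R B is local, and the residue field extension of A ⊗_R B over B is
purely inseparable: every element of A ⊗_R B has a p^n-th power, p the characteristic exponent of
the residue field of B, congruent modulo the maximal ideal to an element 1 ⊗ b. -/
theorem result
    (R A B : Type u) [CommRing R] [HenselianLocalRing R] [IsSepClosed (IsLocalRing.ResidueField R)]
    [CommRing A] [IsLocalRing A] [Algebra R A] [IsLocalHom (algebraMap R A)] [Algebra.IsIntegral R A]
    [IsPurelyInseparable (IsLocalRing.ResidueField R) (IsLocalRing.ResidueField A)]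
    [CommRing B] [IsLocalRing B] [Algebra R B] [IsLocalHom (algebraMap R B)] :
    ∃ _ : IsLocalRing (A ⊗[R] B),
      IsLocalHom (Algebra.TensorProduct.includeRight : B →ₐ[R] A ⊗[R] B).toRingHom ∧
      ∀ x : A ⊗[R] B, ∃ (n : ℕ) (b : B),
        x ^ (ringExpChar (IsLocalRing.ResidueField B)) ^ n - (1 : A) ⊗ₜ[R] b ∈ IsLocalRing.maximalIdeal (A ⊗[R] B) := by
  classical
  obtain ⟨hloc', hL, hR, hpow⟩ := Groth.Agent.H36.tensor_local_right R B A
  let e : A ⊗[R] B ≃ₐ[R] B ⊗[R] A := Algebra.TensorProduct.comm R A B
  haveI hloc : IsLocalRing (A ⊗[R] B) :=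
    RingEquiv.isLocalRing (e.symm : B ⊗[R] A ≃ₐ[R] A ⊗[R] B).toRingEquiv
  have hunit : ∀ y : A ⊗[R] B, IsUnit (e y) ↔ IsUnit y := by
    intro y
    constructor
    · intro hy
      have := hy.map (e.symm : B ⊗[R] A ≃ₐ[R] A ⊗[R] B)
      rwa [AlgEquiv.symm_apply_apply] at this
    · intro hy
      exact hy.map e
  have hmem : ∀ y : A ⊗[R] B, e y ∈ IsLocalRing.maximalIdeal (B ⊗[R] A) →
      y ∈ IsLocalRing.maximalIdeal (A ⊗[R] B) := by
    intro y hy
    rw [IsLocalRing.mem_maximalIdeal, mem_nonunits_iff] at hy ⊢
    rwa [hunit] at hy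
  refine ⟨hloc, ⟨fun b hb => ?_⟩, ?_⟩
  · have h1 : IsUnit (e ((Algebra.TensorProduct.includeRight : B →ₐ[R] A ⊗[R] B).toRingHom b)) :=
      (hunit _).mpr hb
    have h2 : e ((Algebra.TensorProduct.includeRight : B →ₐ[R] A ⊗[R] B).toRingHom b) =
        (Algebra.TensorProduct.includeLeft : B →ₐ[R] B ⊗[R] A).toRingHom b := by
      change e ((1 : A) ⊗ₜ[R] b) = b ⊗ₜ[R] (1 : A)
      exact Algebra.TensorProduct.comm_tmul R (1 : A) b
    rw [h2] at h1
    exact hL.map_nonunit b h1
  · intro x
    obtain ⟨k, b, hb⟩ := hpow (e x)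
    have hq : ringExpChar (IsLocalRing.ResidueField B) = ringExpChar (IsLocalRing.ResidueField R) := by
      haveI := expChar_of_injective_algebraMap
        (algebraMap (IsLocalRing.ResidueField R) (IsLocalRing.ResidueField B)).injective
        (ringExpChar (IsLocalRing.ResidueField R))
      exact ringExpChar.eq _ _
    refine ⟨k, b, hmem _ ?_⟩
    rw [hq, map_sub, map_pow]
    have : e ((1 : A) ⊗ₜ[R] b) = b ⊗ₜ[R] (1 : A) := Algebra.TensorProduct.comm_tmul R (1 : A) b
    rw [this]
    exact hb


end Groth.Agent.S13198
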