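import Groth.Statements.S13200
import Groth.Agent.S13404
import Groth.Agent.S2811
import Groth.Agent.S4754
import Groth.Agent.H15.NorCplDim
import Groth.Agent.H34.ComplQuot

set_option autoImplicit false
universe u
open Hensel

namespace Groth.Agent.S13200


/-- Let R be an excellent local ring which is strictly henselian (henselian with separably closed
residue field), and let R^ denote its completion at the maximal ideal. An element Δ of R is a prime
element of R exactly when its image in R^ is a prime element of R^. -/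
theorem result
    (R : Type u) [CommRing R] [HenselianLocalRing R] [IsSepClosed (IsLocalRing.ResidueField R)]
    (hR : EGA4.IsExcellent R) (Δ : R) :
    Prime Δ ↔ Prime (algebraMap R (AdicCompletion (IsLocalRing.maximalIdeal R) R) Δ) := by
  haveI : IsNoetherianRing R := hR.1
  have hN : EGA4.HasGeomNormalFormalFibres R :=
    Groth.Agent.H15.NorCplDim.hasGeomNormalFormalFibres_of_isGRing R hR.2.2.1
  haveI hff : Module.FaithfullyFlat R (EGA4.Cpl R) :=
    Groth.Agent.H34.ComplQuot.faithfullyFlat_cpl R
  have hinj : Function.Injective (algebraMap R (EGA4.Cpl R)) :=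
    FaithfulSMul.algebraMap_injective _ _
  have hmap : (Ideal.span {Δ}).map (algebraMap R (EGA4.Cpl R)) =
      Ideal.span {algebraMap R (EGA4.Cpl R) Δ} := by
    rw [Ideal.map_span, Set.image_singleton]
  constructor
  · intro hΔ
    have h0 : Δ ≠ 0 := hΔ.ne_zero
    have h0' : algebraMap R (EGA4.Cpl R) Δ ≠ 0 := (map_ne_zero_iff _ hinj).mpr h0
    haveI hI : (Ideal.span {Δ}).IsPrime := (Ideal.span_singleton_prime h0).mpr hΔ
    refine (Ideal.span_singleton_prime h0').mp ?_
    rw [← hmap]
    haveI : Nontrivial (R ⧸ Ideal.span {Δ}) := Ideal.Quotient.nontrivial_iff.mpr hI.ne_top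
    haveI : IsDomain (R ⧸ Ideal.span {Δ}) := Ideal.Quotient.isDomain _
    haveI : HenselianLocalRing (R ⧸ Ideal.span {Δ}) :=
      Groth.Agent.S13404.henselian_of_finite_univ R _
    have hN' := Groth.Agent.S4754.result R hN (Ideal.span {Δ})
    have hD : IsDomain (EGA4.Cpl (R ⧸ Ideal.span {Δ})) := Groth.Agent.S2811.result _ hN'
    have e := Groth.Agent.H34.ComplQuot.cplQuotEquiv R (Ideal.span {Δ})
    have hD2 : IsDomain (EGA4.Cpl R ⧸ (Ideal.span {Δ}).map (algebraMap R (EGA4.Cpl R))) :=
      e.symm.toMulEquiv.isDomain _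
    exact (Ideal.Quotient.isDomain_iff_prime _).mp hD2
  · intro hΔ
    have h0' := hΔ.ne_zero
    have h0 : Δ ≠ 0 := fun h => h0' (by rw [h, map_zero])
    refine (Ideal.span_singleton_prime h0).mp ?_
    have hP : (Ideal.span {algebraMap R (EGA4.Cpl R) Δ}).IsPrime :=
      (Ideal.span_singleton_prime h0').mpr hΔ
    rw [← hmap] at hP
    have := Ideal.comap_map_eq_self_of_faithfullyFlat (B := EGA4.Cpl R) (Ideal.span {Δ})
    rw [← this]
    exact Ideal.comap_isPrime _ _

end Groth.Agent.S13200
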