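import Groth.Statements.S13202
import Groth.Agent.H47.SmoothBranch
import Groth.Agent.S0537

set_option autoImplicit false
universe u
open Hensel

namespace Groth.Agent.S13202

/-- Let R be a Noetherian regular ring (every localization at a prime ideal is a regular local ring) and
Δ ∈ R. The element Δ is étale-universally prime — meaning that for every prime ideal p of R
containing Δ and every strict henselization T of R_p, the image of Δ in T is a prime element —
exactly when for every smooth R-algebra R', every prime ideal q of R' and every strict henselization
T of R'_q, the image of Δ in T is either invertible or a prime element. (Smooth R-algebras and their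
strict henselizations are taken in the universe of R.) -/
theorem result
    (R : Type u) [CommRing R] [IsNoetherianRing R]
    (hreg : ∀ (p : Ideal R) [p.IsPrime], IsRegularLocalRing (Localization.AtPrime p)) (Δ : R) :
    (∀ (p : Ideal R) [p.IsPrime], Δ ∈ p →
        ∀ (T : Type u) [CommRing T] [IsLocalRing T] [Algebra (Localization.AtPrime p) T]
          [IsLocalHom (algebraMap (Localization.AtPrime p) T)]
          [Hensel.IsStrictHenselization (Localization.AtPrime p) T],
          Prime (algebraMap (Localization.AtPrime p) T (algebraMap R (Localization.AtPrime p) Δ))) ↔
    (∀ (R' : Type u) [CommRing R'] [Algebra R R'] [Algebra.Smooth R R'] (q : Ideal R') [q.IsPrime]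
        (T : Type u) [CommRing T] [IsLocalRing T] [Algebra (Localization.AtPrime q) T]
          [IsLocalHom (algebraMap (Localization.AtPrime q) T)]
          [Hensel.IsStrictHenselization (Localization.AtPrime q) T],
        IsUnit (algebraMap (Localization.AtPrime q) T (algebraMap R' (Localization.AtPrime q) (algebraMap R R' Δ))) ∨
          Prime (algebraMap (Localization.AtPrime q) T (algebraMap R' (Localization.AtPrime q) (algebraMap R R' Δ)))) := by
  constructor
  · intro h R' _ _ _ q _ T _ _ _ _ _
    by_cases hΔ : algebraMap R R' Δ ∈ q
    · right
      obtain ⟨p, hp⟩ : ∃ p : Ideal R, p = q.comap (algebraMap R R') := ⟨_, rfl⟩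
      haveI : p.IsPrime := by
        rw [hp]
        exact Ideal.comap_isPrime _ _
      haveI : q.LiesOver p := ⟨hp⟩
      have hΔp : Δ ∈ p := by
        rw [hp]
        exact hΔ
      obtain ⟨Ash, _, _, _, _, hA⟩ := Groth.Agent.S0537.result (Localization.AtPrime p)
      haveI := hA
      have hpr := h p hΔp Ash
      letI algAB : Algebra (Localization.AtPrime p) (Localization.AtPrime q) :=
        (Localization.localRingHom p q (algebraMap R R') (q.over_def p)).toAlgebra
      haveI : IsLocalHom (algebraMap (Localization.AtPrime p) (Localization.AtPrime q)) :=
        Localization.isLocalHom_localRingHom p q (algebraMap R R') (q.over_def p)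
      obtain ⟨σ, hσ⟩ := Groth.Agent.H47.HensTransport.exists_sigma (Localization.AtPrime p)
        (Localization.AtPrime q) Ash T
      letI : Algebra Ash T := σ.toAlgebra
      letI : Algebra R Ash := ((algebraMap (Localization.AtPrime p) Ash).comp
        (algebraMap R (Localization.AtPrime p))).toAlgebra
      haveI : IsScalarTower R (Localization.AtPrime p) Ash :=
        IsScalarTower.of_algebraMap_eq (fun _ => rfl)
      letI : Algebra R' T := ((algebraMap (Localization.AtPrime q) T).comp
        (algebraMap R' (Localization.AtPrime q))).toAlgebra
      haveI : IsScalarTower R' (Localization.AtPrime q) T :=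
        IsScalarTower.of_algebraMap_eq (fun _ => rfl)
      letI : Algebra R T := ((algebraMap R' T).comp (algebraMap R R')).toAlgebra
      haveI : IsScalarTower R R' T := IsScalarTower.of_algebraMap_eq (fun _ => rfl)
      have hcompat : ∀ r : R, algebraMap (Localization.AtPrime q) T
          (algebraMap R' (Localization.AtPrime q) (algebraMap R R' r)) =
          σ (algebraMap (Localization.AtPrime p) Ash (algebraMap R (Localization.AtPrime p) r)) := by
        intro r
        have h1 := RingHom.congr_fun hσ (algebraMap R (Localization.AtPrime p) r)
        rw [RingHom.comp_apply, RingHom.comp_apply] at h1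
        rw [h1]
        congr 1
        exact (Localization.localRingHom_to_map p q (algebraMap R R') (q.over_def p) r).symm
      haveI : IsScalarTower R Ash T := IsScalarTower.of_algebraMap_eq (fun r => hcompat r)
      obtain ⟨hfl, hloc, hprime⟩ := Groth.Agent.H47.SmoothBranch.rel_facts R R' p q Ash T
      haveI := hfl
      haveI := hloc
      haveI : Module.FaithfullyFlat Ash T := Module.FaithfullyFlat.of_flat_of_isLocalHom
      have hinj : Function.Injective (algebraMap Ash T) := FaithfulSMul.algebraMap_injective Ash T
      haveI : (Ideal.span {algebraMap (Localization.AtPrime p) Ash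
          (algebraMap R (Localization.AtPrime p) Δ)}).IsPrime :=
        (Ideal.span_singleton_prime hpr.ne_zero).mpr hpr
      have h2 := hprime (Ideal.span {algebraMap (Localization.AtPrime p) Ash
          (algebraMap R (Localization.AtPrime p) Δ)})
      rw [Ideal.map_span, Set.image_singleton] at h2
      have hne : algebraMap Ash T (algebraMap (Localization.AtPrime p) Ash
          (algebraMap R (Localization.AtPrime p) Δ)) ≠ 0 :=
        (map_ne_zero_iff _ hinj).mpr hpr.ne_zero
      have h3 := (Ideal.span_singleton_prime hne).mp h2
      rw [hcompat Δ]
      exact h3
    · left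
      have hu : IsUnit (algebraMap R' (Localization.AtPrime q) (algebraMap R R' Δ)) :=
        IsLocalization.map_units (Localization.AtPrime q)
          (⟨algebraMap R R' Δ, hΔ⟩ : q.primeCompl)
      exact hu.map _
  · intro h p _ hΔ T _ _ _ _ _
    haveI : Algebra.Smooth R R := ⟨inferInstance, inferInstance⟩
    rcases h R p T with hu | hp
    · exfalso
      have hu' : IsUnit (algebraMap (Localization.AtPrime p) T
          (algebraMap R (Localization.AtPrime p) Δ)) := hu
      have hu2 : IsUnit (algebraMap R (Localization.AtPrime p) Δ) := isUnit_of_map_unit _ _ hu'
      exact ((IsLocalization.AtPrime.isUnit_to_map_iff (Localization.AtPrime p) p Δ).mp hu2) hΔ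
    · exact hp

end Groth.Agent.S13202
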