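import Groth.Statements.S13203
import Mathlib

set_option autoImplicit false
universe u
open CategoryTheory AlgebraicGeometry
open Neron

namespace Groth.Agent.S13203

open CategoryTheory.Limits

section helpers

variable {X Y : Scheme.{u}}

@[reassoc]
lemma pb_map_fst (f : X ⟶ Y) {A B : Over Y} (k : A ⟶ B) :
    ((Over.pullback f).map k).left ≫ pullback.fst B.hom f = pullback.fst A.hom f ≫ k.left :=
  pullback.lift_fst _ _ _

@[reassoc]
lemma pb_map_snd (f : X ⟶ Y) {A B : Over Y} (k : A ⟶ B) :
    ((Over.pullback f).map k).left ≫ pullback.snd B.hom f = pullback.snd A.hom f :=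
  pullback.lift_snd _ _ _

/-- a morphism into a pulled-back object is determined by its first projection -/
lemma hom_ext_pb (f : X ⟶ Y) {A : Over X} {B : Over Y} (k₁ k₂ : A ⟶ (Over.pullback f).obj B)
    (h : k₁.left ≫ pullback.fst B.hom f = k₂.left ≫ pullback.fst B.hom f) : k₁ = k₂ := by
  apply Over.OverMorphism.ext
  apply pullback.hom_ext h
  exact (Over.w k₁).trans (Over.w k₂).symm

end helpers

/-- Let S be a scheme, U ⊆ S a schematically dense open subscheme and N → S a smooth S-scheme with the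
Néron mapping property with respect to U: for every smooth S-scheme Y, sending an S-morphism Y → N
to its restriction Y ×_S U → N ×_S U is a bijection onto the U-morphisms. Then for every smooth
morphism g : S' → S the base change N ×_S S' → S' (again smooth) has the Néron mapping property with
respect to g⁻¹(U): for every smooth S'-scheme Y', restriction to g⁻¹(U) is a bijection from
S'-morphisms Y' → N ×_S S' onto g⁻¹(U)-morphisms. (The published statement is for models which are
algebraic spaces, tested against smooth algebraic spaces, and also says that separatedness is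
preserved; this row states the case of a smooth scheme model tested against smooth schemes.) -/
theorem result
    {S S' : Scheme.{u}} (g : S' ⟶ S) [Smooth g]
    (U : S.Opens) (hU : CInt.IsSchematicallyDense U) (N : Over S) [Smooth N.hom]
    (hN : ∀ Y : Over S, Smooth Y.hom →
      Function.Bijective (fun f : Y ⟶ N => (Over.pullback U.ι).map f))
    (Y' : Over S') [Smooth Y'.hom] :
    Function.Bijective (fun f : Y' ⟶ (Over.pullback g).obj N => (Over.pullback (g ⁻¹ᵁ U).ι).map f) := by
  have hgV : (g ∣_ U) ≫ U.ι = (g ⁻¹ᵁ U).ι ≫ g := morphismRestrict_ι g U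
  have hSm : Smooth (Y'.hom ≫ g) := inferInstance
  have hA : IsPullback (pullback.fst Y'.hom (g ⁻¹ᵁ U).ι)
      (pullback.snd Y'.hom (g ⁻¹ᵁ U).ι ≫ (g ∣_ U))
      (Over.mk (Y'.hom ≫ g) : Over S).hom U.ι :=
    (IsPullback.of_hasPullback Y'.hom (g ⁻¹ᵁ U).ι).paste_vert
      (isPullback_morphismRestrict g U).flip
  have hΦw : ∀ f : Y' ⟶ (Over.pullback g).obj N,
      (f.left ≫ pullback.fst N.hom g) ≫ N.hom = Y'.hom ≫ g := by
    intro f
    have hw : f.left ≫ pullback.snd N.hom g = Y'.hom := Over.w f
    rw [Category.assoc, pullback.condition, ← Category.assoc, hw]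
  let Φ : (Y' ⟶ (Over.pullback g).obj N) → ((Over.mk (Y'.hom ≫ g) : Over S) ⟶ N) := fun f =>
    Over.homMk (f.left ≫ pullback.fst N.hom g) (hΦw f)
  have hΦleft : ∀ f, (Φ f).left = f.left ≫ pullback.fst N.hom g := fun f => rfl
  let β : pullback ((Over.pullback g).obj N).hom (g ⁻¹ᵁ U).ι ⟶ pullback N.hom U.ι :=
    pullback.lift (pullback.fst _ _ ≫ pullback.fst N.hom g) (pullback.snd _ _ ≫ (g ∣_ U)) (by
      have h1 : pullback.fst ((Over.pullback g).obj N).hom (g ⁻¹ᵁ U).ι ≫ pullback.snd N.hom g =
          pullback.snd ((Over.pullback g).obj N).hom (g ⁻¹ᵁ U).ι ≫ (g ⁻¹ᵁ U).ι :=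
        pullback.condition
      rw [Category.assoc, pullback.condition, ← Category.assoc, h1, Category.assoc,
        Category.assoc, hgV])
  have hβfst : β ≫ pullback.fst N.hom U.ι = pullback.fst _ _ ≫ pullback.fst N.hom g :=
    pullback.lift_fst _ _ _
  have hβsnd : β ≫ pullback.snd N.hom U.ι = pullback.snd _ _ ≫ (g ∣_ U) :=
    pullback.lift_snd _ _ _
  have key : ∀ f : Y' ⟶ (Over.pullback g).obj N,
      hA.isoPullback.hom ≫ ((Over.pullback U.ι).map (Φ f)).left =
        ((Over.pullback (g ⁻¹ᵁ U).ι).map f).left ≫ β := by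
    intro f
    apply pullback.hom_ext
    · rw [Category.assoc, pb_map_fst, hA.isoPullback_hom_fst_assoc, hΦleft,
        Category.assoc, hβfst, pb_map_fst_assoc]
    · rw [Category.assoc, pb_map_snd, hA.isoPullback_hom_snd, Category.assoc, hβsnd,
        pb_map_snd_assoc]
  constructor
  · intro f₁ f₂ h
    have h0 : (Over.pullback (g ⁻¹ᵁ U).ι).map f₁ = (Over.pullback (g ⁻¹ᵁ U).ι).map f₂ := h
    have h' : (Over.pullback U.ι).map (Φ f₁) = (Over.pullback U.ι).map (Φ f₂) := by
      apply Over.OverMorphism.ext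
      rw [← cancel_epi hA.isoPullback.hom, key f₁, key f₂, h0]
    have h'' : Φ f₁ = Φ f₂ := (hN (Over.mk (Y'.hom ≫ g)) hSm).1 h'
    apply hom_ext_pb g
    exact congrArg (fun k => k.left) h''
  · intro ψ
    have hψw : ψ.left ≫ pullback.snd ((Over.pullback g).obj N).hom (g ⁻¹ᵁ U).ι =
        pullback.snd Y'.hom (g ⁻¹ᵁ U).ι := Over.w ψ
    let ψ₀ : (Over.pullback U.ι).obj (Over.mk (Y'.hom ≫ g)) ⟶ (Over.pullback U.ι).obj N :=
      Over.homMk (hA.isoPullback.inv ≫ ψ.left ≫ β) (by
        show (hA.isoPullback.inv ≫ ψ.left ≫ β) ≫ pullback.snd N.hom U.ι =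
          pullback.snd (Over.mk (Y'.hom ≫ g) : Over S).hom U.ι
        rw [Category.assoc, Category.assoc, hβsnd, ← Category.assoc ψ.left, hψw,
          hA.isoPullback_inv_snd])
    obtain ⟨φ, hφ⟩ := (hN (Over.mk (Y'.hom ≫ g)) hSm).2 ψ₀
    have hφ' : (Over.pullback U.ι).map φ = ψ₀ := hφ
    let f : Y' ⟶ (Over.pullback g).obj N :=
      Over.homMk (pullback.lift φ.left Y'.hom (Over.w φ)) (pullback.lift_snd _ _ _)
    have hΦf : Φ f = φ := by
      apply Over.OverMorphism.ext
      exact pullback.lift_fst _ _ _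
    refine ⟨f, ?_⟩
    show (Over.pullback (g ⁻¹ᵁ U).ι).map f = ψ
    apply hom_ext_pb (g ⁻¹ᵁ U).ι
    apply pullback.hom_ext
    · have e1 : ((Over.pullback (g ⁻¹ᵁ U).ι).map f).left ≫ β = ψ.left ≫ β := by
        rw [← key f, hΦf, hφ']
        show hA.isoPullback.hom ≫ (hA.isoPullback.inv ≫ ψ.left ≫ β) = _
        rw [Iso.hom_inv_id_assoc]
      have e2 := congrArg (fun k => k ≫ pullback.fst N.hom U.ι) e1
      simp only [Category.assoc, hβfst] at e2
      simpa only [Category.assoc] using e2
    · have h1 : pullback.fst ((Over.pullback g).obj N).hom (g ⁻¹ᵁ U).ι ≫ pullback.snd N.hom g =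
          pullback.snd ((Over.pullback g).obj N).hom (g ⁻¹ᵁ U).ι ≫ (g ⁻¹ᵁ U).ι :=
        pullback.condition
      rw [Category.assoc, Category.assoc, h1, ← Category.assoc, ← Category.assoc, pb_map_snd,
        hψw]

end Groth.Agent.S13203
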