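import Groth.Statements.S13204
import Mathlib
import Groth.Agent.H73.DVRExists

set_option autoImplicit false
set_option maxHeartbeats 400000
universe u
open Neron

namespace Groth.Agent.S13204

open Polynomial IsLocalRing

/-- If `Δ₁ / Δ₂` (coprime, in a UFD) is a root of `P`, then `Δ₂ X - Δ₁` divides `P`. -/
theorem lin_dvd {R : Type u} [CommRing R] [IsDomain R] [UniqueFactorizationMonoid R]
    (K : Type u) [Field K] [Algebra R K] [IsFractionRing R K]
    (Δ₁ Δ₂ : R) (h2 : Δ₂ ≠ 0) (hcop : IsRelPrime Δ₁ Δ₂) :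
    ∀ (n : ℕ) (P : R[X]), P.natDegree < n →
      aeval (algebraMap R K Δ₁ / algebraMap R K Δ₂) P = 0 → (C Δ₂ * X + C (-Δ₁)) ∣ P := by
  have h2K : algebraMap R K Δ₂ ≠ 0 := by
    intro h; exact h2 ((IsFractionRing.injective R K) (by rw [h, map_zero]))
  set T : K := algebraMap R K Δ₁ / algebraMap R K Δ₂ with hT
  have hlin0 : aeval T (C Δ₂ * X + C (-Δ₁)) = 0 := by
    simp only [map_add, map_mul, aeval_C, aeval_X, map_neg, hT]
    field_simp
    ring
  have hden : Δ₂ ∣ (IsFractionRing.den R T : R) := by
    have h1 := IsFractionRing.mk'_num_den R T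
    rw [IsLocalization.mk'_eq_iff_eq_mul] at h1
    have h3 : IsFractionRing.num R T * Δ₂ = Δ₁ * (IsFractionRing.den R T : R) := by
      apply IsFractionRing.injective R K
      rw [map_mul, map_mul, h1, hT]
      field_simp
    have h4 : Δ₂ ∣ Δ₁ * (IsFractionRing.den R T : R) := ⟨IsFractionRing.num R T, by rw [← h3, mul_comm]⟩
    exact hcop.symm.dvd_of_dvd_mul_left h4
  intro n
  induction n with
  | zero => intro P hP; exact absurd hP (Nat.not_lt_zero _)
  | succ n ih =>
    intro P hPn hP0
    by_cases hP : P = 0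
    · rw [hP]; exact dvd_zero _
    have hlc : Δ₂ ∣ P.leadingCoeff := hden.trans (den_dvd_of_is_root hP0)
    obtain ⟨q, hq⟩ := hlc
    have hq0 : q ≠ 0 := by
      rintro rfl
      rw [mul_zero] at hq
      exact hP (leadingCoeff_eq_zero.mp hq)
    have hd : P.natDegree ≠ 0 := by
      intro hd0
      rw [eq_C_of_natDegree_eq_zero hd0, aeval_C] at hP0
      have : P.coeff 0 = 0 := (IsFractionRing.injective R K) (by rw [hP0, map_zero])
      apply hP
      rw [eq_C_of_natDegree_eq_zero hd0, this, map_zero]
    set lin : R[X] := C Δ₂ * X + C (-Δ₁) with hlin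
    set mono : R[X] := C q * X ^ (P.natDegree - 1) with hmono
    have hlin_deg : lin.natDegree = 1 := natDegree_linear h2
    have hlin_lc : lin.leadingCoeff = Δ₂ := leadingCoeff_linear h2
    have hmono_deg : mono.natDegree = P.natDegree - 1 := natDegree_C_mul_X_pow _ _ hq0
    have hmono_lc : mono.leadingCoeff = q := leadingCoeff_C_mul_X_pow _ _
    have hlin_ne : lin ≠ 0 := by
      intro h; rw [h] at hlin_deg; simp at hlin_deg
    have hmono_ne : mono ≠ 0 := by
      intro h; rw [h, leadingCoeff_zero] at hmono_lc; exact hq0 hmono_lc.symm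
    have hQ_deg : (lin * mono).natDegree = P.natDegree := by
      rw [natDegree_mul hlin_ne hmono_ne, hlin_deg, hmono_deg]; omega
    have hQ_lc : (lin * mono).leadingCoeff = P.leadingCoeff := by
      rw [leadingCoeff_mul, hlin_lc, hmono_lc, hq]
    have hQ_ne : lin * mono ≠ 0 := mul_ne_zero hlin_ne hmono_ne
    have hdeg : (P - lin * mono).degree < P.degree :=
      degree_sub_lt_left (by rw [degree_eq_natDegree hP, degree_eq_natDegree hQ_ne, hQ_deg]) hP hQ_lc.symm
    have h0' : aeval T (P - lin * mono) = 0 := by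
      rw [map_sub, map_mul, hP0, hlin0, zero_mul, sub_zero]
    have hlt : (P - lin * mono).natDegree < n := by
      by_cases h1 : P - lin * mono = 0
      · rw [h1, natDegree_zero]; omega
      · have := natDegree_lt_natDegree h1 hdeg
        omega
    obtain ⟨W, hW⟩ := ih (P - lin * mono) hlt h0'
    exact ⟨W + mono, by rw [mul_add, ← hW]; ring⟩

/-- Let R be a strictly henselian Noetherian local unique factorization domain and Δ₁, Δ₂ two non-units
of R with no common prime factor. Then there are a discrete valuation ring A and an injective local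
homomorphism f : R → A — so that Spec A → Spec R sends the closed point to the closed point and the
generic point to the generic point, which lies in every dense open subset — such that f(Δ₁) is a
non-zero non-unit and f(Δ₁) = u · f(Δ₂) for some unit u of A congruent to 1 modulo the maximal
ideal. (The published statement asks for the images of Δ₁ and Δ₂ in A to be equal, with the generic
point of Spec A sent into a given dense open subset of Spec R; that cannot hold in general — for R =
ℂ[[a,b]], Δ₁ = a, Δ₂ = b and the dense open D(a − b), any local map to a discrete valuation ring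
identifying a and b sends the generic point into V(a − b) — so this row asks instead for f(Δ₁) = u ·
f(Δ₂) with u a unit congruent to 1 modulo the maximal ideal.) -/
theorem result
    (R : Type u) [CommRing R] [IsDomain R] [IsNoetherianRing R] [UniqueFactorizationMonoid R]
    [HenselianLocalRing R] [IsSepClosed (IsLocalRing.ResidueField R)]
    (Δ₁ Δ₂ : R) (h₁ : ¬ IsUnit Δ₁) (h₂ : ¬ IsUnit Δ₂) (hcop : IsRelPrime Δ₁ Δ₂) :
    ∃ (A : Type u) (_ : CommRing A) (_ : IsDomain A) (_ : IsDiscreteValuationRing A) (f : R →+* A),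
      IsLocalHom f ∧ Function.Injective f ∧ ¬ IsUnit (f Δ₁) ∧
        ∃ u : Aˣ, (u : A) - 1 ∈ IsLocalRing.maximalIdeal A ∧ f Δ₁ = (u : A) * f Δ₂ := by
  classical
  have h1m : Δ₁ ∈ maximalIdeal R := h₁
  have h2m : Δ₂ ∈ maximalIdeal R := h₂
  have hΔ₂ : Δ₂ ≠ 0 := by
    rintro rfl
    exact h₁ (hcop (dvd_refl _) (dvd_zero _))
  have hΔ₁ : Δ₁ ≠ 0 := by
    rintro rfl
    exact h₂ (hcop (dvd_zero _) (dvd_refl _))
  let K := FractionRing R
  have h2K : algebraMap R K Δ₂ ≠ 0 := by
    intro h; exact hΔ₂ ((IsFractionRing.injective R K) (by rw [h, map_zero]))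
  let T : K := algebraMap R K Δ₁ / algebraMap R K Δ₂
  let ev : R[X] →+* K := (aeval T : R[X] →ₐ[R] K).toRingHom
  have hev : ∀ P : R[X], ev P = aeval T P := fun _ => rfl
  let θ : R[X] →+* ResidueField R := eval₂RingHom (residue R) 1
  have hker : RingHom.ker ev ≤ RingHom.ker θ := by
    intro P hP
    rw [RingHom.mem_ker, hev] at hP
    obtain ⟨W, rfl⟩ := lin_dvd K Δ₁ Δ₂ hΔ₂ hcop (P.natDegree + 1) P (Nat.lt_succ_self _) hP
    rw [RingHom.mem_ker, map_mul]
    have : θ (C Δ₂ * X + C (-Δ₁)) = 0 := by
      have e1 : θ (C Δ₂) = 0 := by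
        simp only [θ, coe_eval₂RingHom, eval₂_C]
        exact (residue_eq_zero_iff _).mpr h2m
      have e2 : θ (C (-Δ₁)) = 0 := by
        simp only [θ, coe_eval₂RingHom, eval₂_C]
        exact (residue_eq_zero_iff _).mpr ((maximalIdeal R).neg_mem h1m)
      rw [map_add, map_mul, e1, e2, zero_mul, add_zero]
    rw [this, zero_mul]
  let S : Subring K := ev.range
  let g : R[X] →+* S := ev.rangeRestrict
  have hg : Function.Surjective g := ev.rangeRestrict_surjective
  have hgker : RingHom.ker g = RingHom.ker ev := by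
    ext P
    simp only [RingHom.mem_ker]
    constructor
    · intro h; exact congrArg Subtype.val h
    · intro h; exact Subtype.ext h
  haveI : IsNoetherianRing S := isNoetherianRing_of_surjective R[X] S g hg
  haveI hθprime : (RingHom.ker θ).IsPrime := RingHom.ker_isPrime θ
  let n : Ideal S := (RingHom.ker θ).map g
  haveI hn : n.IsPrime := Ideal.map_isPrime_of_surjective hg (by rw [hgker]; exact hker)
  have hmemn : ∀ P : R[X], θ P = 0 → g P ∈ n := fun P hP =>
    Ideal.mem_map_of_mem g (RingHom.mem_ker.mpr hP)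
  have hn0 : n ≠ ⊥ := by
    intro hbot
    have h1 : g (C Δ₁) ∈ n := hmemn _ (by
      simp only [θ, coe_eval₂RingHom, eval₂_C]; exact (residue_eq_zero_iff _).mpr h1m)
    rw [hbot, Ideal.mem_bot] at h1
    have h2 : ev (C Δ₁) = 0 := congrArg Subtype.val h1
    rw [hev, aeval_C] at h2
    exact hΔ₁ ((IsFractionRing.injective R K) (by rw [h2, map_zero]))
  have hcl : Subfield.closure ((S : Set K) ∪ ((∅ : Finset K) : Set K)) = ⊤ := by
    rw [Finset.coe_empty, Set.union_empty, _root_.eq_top_iff,
      ← IsFractionRing.closure_range_algebraMap R K]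
    apply Subfield.closure_mono
    rintro _ ⟨r, rfl⟩
    exact ⟨C r, by rw [hev, aeval_C]⟩
  obtain ⟨V, hV, hSV, hval⟩ := Groth.Agent.H73.KA.exists_dvr_of_subring S n hn0 ∅ hcl
  have hRV : ∀ r : R, algebraMap R K r ∈ V := fun r => hSV ⟨C r, by rw [hev, aeval_C]⟩
  let f : R →+* V := (algebraMap R K).codRestrict V hRV
  have hfval : ∀ r ∈ maximalIdeal R, V.valuation (algebraMap R K r) < 1 := by
    intro r hr
    have h1 : g (C r) ∈ n := hmemn _ (by
      simp only [θ, coe_eval₂RingHom, eval₂_C]; exact (residue_eq_zero_iff _).mpr hr)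
    have h2 := hval _ h1
    have h3 : ((g (C r) : S) : K) = algebraMap R K r := by
      show ev (C r) = _
      rw [hev, aeval_C]
    rw [h3] at h2
    exact h2
  have hfm : ∀ r ∈ maximalIdeal R, f r ∈ maximalIdeal V := by
    intro r hr
    exact (V.valuation_lt_one_iff (f r)).mpr (hfval r hr)
  have hTS : T ∈ S := ⟨X, by rw [hev, aeval_X]⟩
  have hTV : T ∈ V := hSV hTS
  have hT1 : V.valuation (T - 1) < 1 := by
    have h1 : g (X - 1) ∈ n := hmemn _ (by
      simp only [θ, coe_eval₂RingHom, eval₂_sub, eval₂_X, eval₂_one, sub_self])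
    have h2 := hval _ h1
    have h3 : ((g (X - 1) : S) : K) = T - 1 := by
      show ev (X - 1) = _
      rw [hev, map_sub, aeval_X, map_one]
    rw [h3] at h2
    exact h2
  have hT1m : (⟨T, hTV⟩ - 1 : V) ∈ maximalIdeal V := by
    rw [V.valuation_lt_one_iff]
    exact hT1
  have hTunit : IsUnit (⟨T, hTV⟩ : V) := by
    have h1 : (1 - ⟨T, hTV⟩ : V) ∈ maximalIdeal V := by
      have := (maximalIdeal V).neg_mem hT1m
      rwa [neg_sub] at this
    have h2 := IsLocalRing.isUnit_one_sub_self_of_mem_nonunits _ h1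
    rwa [sub_sub_cancel] at h2
  refine ⟨V, inferInstance, inferInstance, hV, f, ⟨fun r hr => ?_⟩, ?_, ?_, hTunit.unit, ?_, ?_⟩
  · by_contra hru
    have : f r ∈ maximalIdeal V := hfm r hru
    exact this hr
  · intro a b hab
    apply IsFractionRing.injective R K
    exact congrArg Subtype.val hab
  · exact hfm Δ₁ h1m
  · rw [IsUnit.unit_spec]
    exact hT1m
  · rw [IsUnit.unit_spec]
    apply Subtype.ext
    show algebraMap R K Δ₁ = T * algebraMap R K Δ₂
    show algebraMap R K Δ₁ = algebraMap R K Δ₁ / algebraMap R K Δ₂ * algebraMap R K Δ₂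
    rw [div_mul_cancel₀ _ h2K]

end Groth.Agent.S13204
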