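import Groth.Statements.S13206
import Mathlib

set_option autoImplicit false
universe u
open CategoryTheory AlgebraicGeometry
open AlgGrp

namespace Groth.Agent.S13206

open CategoryTheory.Limits

/-- Let X → S be a separated morphism of schemes and let a finite group G act on X through
S-automorphisms. Then the functor of G-fixed points is represented by a closed subscheme of X: there
are a scheme Z and a closed immersion i : Z → X with i ∘ g = i for all g ∈ G such that every
morphism x : T → X with g ∘ x = x for all g ∈ G factors uniquely through i. (The published statement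
is for an algebraic space X over S, also treats the locally separated case and notes compatibility
with base change; this row is the separated case for schemes.) -/
theorem result
    {X S : Scheme.{u}} (p : X ⟶ S) [IsSeparated p]
    (G : Type u) [Group G] [Finite G] (ρ : G →* Aut X) (hρ : ∀ g : G, (ρ g).hom ≫ p = p) :
    ∃ (Z : Scheme.{u}) (i : Z ⟶ X), IsClosedImmersion i ∧ (∀ g : G, i ≫ (ρ g).hom = i) ∧
      ∀ (T : Scheme.{u}) (x : T ⟶ X), (∀ g : G, x ≫ (ρ g).hom = x) → ∃! z : T ⟶ Z, z ≫ i = x := by
  classical
  have claim : ∀ l : List G, ∃ (Z : Scheme.{u}) (i : Z ⟶ X), IsClosedImmersion i ∧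
      (∀ g ∈ l, i ≫ (ρ g).hom = i) ∧
      ∀ (T : Scheme.{u}) (x : T ⟶ X), (∀ g ∈ l, x ≫ (ρ g).hom = x) →
        ∃ z : T ⟶ Z, z ≫ i = x := by
    intro l
    induction l with
    | nil => exact ⟨X, 𝟙 X, inferInstance, by simp, fun T x _ => ⟨x, Category.comp_id x⟩⟩
    | cons g l ih =>
      obtain ⟨Z, i, hi, hinv, hfac⟩ := ih
      let Xb : Over S := Over.mk p
      let Zb : Over S := Over.mk (i ≫ p)
      let fb : Zb ⟶ Xb := Over.homMk i rfl
      let gb : Zb ⟶ Xb := Over.homMk (i ≫ (ρ g).hom) (by
        show (i ≫ (ρ g).hom) ≫ p = i ≫ p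
        rw [Category.assoc, hρ])
      haveI : IsSeparated Xb.hom := ‹IsSeparated p›
      have hcl : IsClosedImmersion (equalizer.ι fb gb).left := inferInstance
      have hcond : (equalizer.ι fb gb).left ≫ i = (equalizer.ι fb gb).left ≫ i ≫ (ρ g).hom :=
        congrArg (fun k => k.left) (equalizer.condition fb gb)
      refine ⟨(equalizer fb gb).left, (equalizer.ι fb gb).left ≫ i, inferInstance, ?_, ?_⟩
      · intro g' hg'
        rcases List.mem_cons.mp hg' with rfl | hg'
        · rw [Category.assoc]
          exact hcond.symm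
        · rw [Category.assoc, hinv g' hg']
      · intro T x hx
        obtain ⟨z, hz⟩ := hfac T x (fun g' hg' => hx g' (List.mem_cons_of_mem _ hg'))
        let Tb : Over S := Over.mk (x ≫ p)
        let zb : Tb ⟶ Zb := Over.homMk z (by
          show z ≫ i ≫ p = x ≫ p
          rw [← Category.assoc, hz])
        have hzb : zb ≫ fb = zb ≫ gb := by
          apply Over.OverMorphism.ext
          show z ≫ i = z ≫ i ≫ (ρ g).hom
          rw [← Category.assoc, hz]
          exact (hx g List.mem_cons_self).symm
        refine ⟨(equalizer.lift zb hzb).left, ?_⟩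
        rw [← Category.assoc]
        have h1 : (equalizer.lift zb hzb).left ≫ (equalizer.ι fb gb).left = z :=
          congrArg (fun k => k.left) (equalizer.lift_ι zb hzb)
        rw [h1, hz]
  haveI := Fintype.ofFinite G
  obtain ⟨Z, i, hi, hinv, hfac⟩ := claim (Finset.univ : Finset G).toList
  refine ⟨Z, i, hi, fun g => hinv g (by simp), fun T x hx => ?_⟩
  obtain ⟨z, hz⟩ := hfac T x (fun g _ => hx g)
  refine ⟨z, hz, fun z' hz' => ?_⟩
  haveI : Mono i := inferInstance
  exact (cancel_mono i).mp (hz'.trans hz.symm)

end Groth.Agent.S13206
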