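import Groth.Statements.S13209
import Groth.Agent.H51.ElemDist
import Groth.Agent.H52.EpiBC
import Groth.Agent.H50.Quot
-- import your own Groth.Agent.* helpers here

set_option autoImplicit false
universe u
open CategoryTheory CategoryTheory.Limits AlgebraicGeometry
open Neron

namespace Groth.Agent.S13209


open AlgSp

variable {S : Scheme.{u}} (U : S.Opens)

/-- `h_U` is subterminal. -/
theorem hU_ext {W : Sp S} (a b : W ⟶ (yon S).obj (Over.mk U.ι)) : a = b := by
  apply Groth.Agent.H51.ElemDist.hom_ext_yon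
  intro T x
  obtain ⟨a', ha⟩ := (yon S).map_surjective (x ≫ a)
  obtain ⟨b', hb⟩ := (yon S).map_surjective (x ≫ b)
  rw [← ha, ← hb]
  congr 1
  apply Over.OverMorphism.ext
  have h1 : a'.left ≫ U.ι = T.hom := Over.w a'
  have h2 : b'.left ≫ U.ι = T.hom := Over.w b'
  exact (cancel_mono U.ι).1 (h1.trans h2.symm)

/-- The projection `Y_U ⟶ U`. -/
noncomputable def uY (Y : Over S) :
    (Over.pullback U.ι ⋙ Over.map U.ι).obj Y ⟶ Over.mk U.ι :=
  Over.homMk (pullback.snd Y.hom U.ι) (by simp)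

theorem counit_nat {R Y : Over S} (r : R ⟶ Y) :
    (Over.pullback U.ι ⋙ Over.map U.ι).map r ≫ (Over.mapPullbackAdj U.ι).counit.app Y
      = (Over.mapPullbackAdj U.ι).counit.app R ≫ r :=
  (Over.mapPullbackAdj U.ι).counit.naturality r

/-- The canonical map `h_{Y_U} ⟶ F ⨯ h_U` attached to `y : h_Y ⟶ F`. -/
noncomputable def ell {F : Sp S} {Y : Over S} (y : (yon S).obj Y ⟶ F) :
    (yon S).obj ((Over.pullback U.ι ⋙ Over.map U.ι).obj Y) ⟶ F ⨯ (yon S).obj (Over.mk U.ι) :=
  prod.lift ((yon S).map ((Over.mapPullbackAdj U.ι).counit.app Y) ≫ y) ((yon S).map (uY U Y))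

theorem ell_fst {F : Sp S} {Y : Over S} (y : (yon S).obj Y ⟶ F) :
    ell U y ≫ prod.fst = (yon S).map ((Over.mapPullbackAdj U.ι).counit.app Y) ≫ y := by
  unfold ell
  exact prod.lift_fst _ _

theorem ell_nat {F : Sp S} {R Y : Over S} (r : R ⟶ Y) (y : (yon S).obj Y ⟶ F) :
    (yon S).map ((Over.pullback U.ι ⋙ Over.map U.ι).map r) ≫ ell U y
      = ell U ((yon S).map r ≫ y) := by
  apply Limits.prod.hom_ext
  · have h1 : ((yon S).map ((Over.pullback U.ι ⋙ Over.map U.ι).map r) ≫ ell U y) ≫ prod.fst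
        = (yon S).map ((Over.pullback U.ι ⋙ Over.map U.ι).map r ≫
            (Over.mapPullbackAdj U.ι).counit.app Y) ≫ y := by
      rw [Category.assoc, ell_fst, Functor.map_comp, Category.assoc]
    rw [h1, counit_nat, ell_fst, Functor.map_comp, Category.assoc]
  · exact hU_ext U _ _

theorem exists_theta {F : Sp S} {N : Over S}
    (ψ : F ⨯ (yon S).obj (Over.mk U.ι) ⟶ (yon S).obj N)
    {Y : Over S} (y : (yon S).obj Y ⟶ F) :
    ∃ θ : (Over.pullback U.ι ⋙ Over.map U.ι).obj Y ⟶ N, (yon S).map θ = ell U y ≫ ψ :=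
  (yon S).map_surjective _

theorem exists_pair {Y T : Over S} (a : T ⟶ Y) (b : T ⟶ Over.mk U.ι) :
    ∃ m : T ⟶ (Over.pullback U.ι ⋙ Over.map U.ι).obj Y,
      m ≫ (Over.mapPullbackAdj U.ι).counit.app Y = a := by
  have hab : a.left ≫ Y.hom = b.left ≫ U.ι := (Over.w a).trans (Over.w b).symm
  have h1 : pullback.lift a.left b.left hab ≫ pullback.snd Y.hom U.ι ≫ U.ι = T.hom := by
    rw [pullback.lift_snd_assoc]
    exact Over.w b
  refine ⟨Over.homMk (pullback.lift a.left b.left hab) h1, ?_⟩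
  apply Over.OverMorphism.ext
  simp only [Functor.comp_obj, Functor.id_obj, Over.mapPullbackAdj_counit_app, Over.comp_left,
    Over.homMk_left]
  exact pullback.lift_fst _ _ _


/-- Let S be a scheme, U ⊆ S a schematically dense open subscheme and N → S a smooth S-scheme with the
Néron mapping property for schemes with respect to U: for every smooth S-scheme Y, composition with
the projection Y ×_S U → Y is a bijection from S-morphisms Y → N onto S-morphisms Y ×_S U → N
(equivalently, onto U-morphisms Y ×_S U → N ×_S U). Then N also has the Néron mapping property with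
respect to smooth algebraic spaces: for every algebraic space F over S (an fppf sheaf of sets on
S-schemes with representable diagonal and an étale surjective chart from a scheme) whose structure
map to h_S is smooth, composition with the first projection F × h_U → F is a bijection from
morphisms of sheaves F → h_N onto morphisms F × h_U → h_N. -/
theorem result
    {S : Scheme.{u}} (U : S.Opens) (hU : CInt.IsSchematicallyDense U) (N : Over S) [Smooth N.hom]
    (hN : ∀ Y : Over S, Smooth Y.hom →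
      Function.Bijective (fun g : Y ⟶ N => (Over.mapPullbackAdj U.ι).counit.app Y ≫ g))
    (F : AlgSp.Sp S) (hF : AlgSp.IsAlgSpace F)
    (sF : F ⟶ (AlgSp.yon S).obj (Over.mk (𝟙 S))) (hsm : AlgSp.LocP @Smooth sF) :
    Function.Bijective (fun φ : F ⟶ (AlgSp.yon S).obj N =>
      (Limits.prod.fst : F ⨯ (AlgSp.yon S).obj (Over.mk U.ι) ⟶ F) ≫ φ) := by
  obtain ⟨Y, p, hpe, hps⟩ := hF.atlas
  have : Epi p := Groth.Agent.H52.epi_of_etale_surjective p hpe hps
  have hYsm : Smooth Y.hom := by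
    obtain ⟨g, hg⟩ := (AlgSp.yon S).map_surjective (p ≫ sF)
    have hci : MorphismProperty.ContainsIdentities (@Etale.{u}) :=
      (inferInstance : MorphismProperty.IsMultiplicative (@Etale.{u})).toContainsIdentities
    have h1 : Smooth g.left :=
      hsm p (𝟙 _) g hpe (AlgSp.repWith_id @Etale _) (by rw [hg, Category.comp_id])
    have h2 : g.left = Y.hom := by
      have := Over.w g
      simpa using this
    rwa [h2] at h1
  constructor
  · intro φ₁ φ₂ h
    dsimp only at h
    obtain ⟨g₁, hg₁⟩ := (AlgSp.yon S).map_surjective (p ≫ φ₁)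
    obtain ⟨g₂, hg₂⟩ := (AlgSp.yon S).map_surjective (p ≫ φ₂)
    have hgg : g₁ = g₂ := by
      apply (hN Y hYsm).1
      dsimp only
      apply (AlgSp.yon S).map_injective
      rw [Functor.map_comp, Functor.map_comp, hg₁, hg₂]
      have e : ∀ φ : F ⟶ (AlgSp.yon S).obj N,
          (AlgSp.yon S).map ((Over.mapPullbackAdj U.ι).counit.app Y) ≫ p ≫ φ
            = ell U p ≫ prod.fst ≫ φ := by
        intro φ
        calc _ = ((AlgSp.yon S).map ((Over.mapPullbackAdj U.ι).counit.app Y) ≫ p) ≫ φ :=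
              (Category.assoc _ _ _).symm
          _ = (ell U p ≫ prod.fst) ≫ φ := by rw [ell_fst]
          _ = _ := Category.assoc _ _ _
      rw [e, e, h]
    rw [← cancel_epi p, ← hg₁, ← hg₂, hgg]
  · intro ψ
    obtain ⟨R, r₁, r₂, sqR, hr₂⟩ : ∃ (R : Over S) (r₁ r₂ : R ⟶ Y),
        IsPullback ((AlgSp.yon S).map r₁) ((AlgSp.yon S).map r₂) p p ∧ Etale r₂.left :=
      ⟨_, _, _, hpe.rep.isPullback' p, hpe.property_snd p⟩
    have hRsm : Smooth R.hom := by
      have h1 : r₂.left ≫ Y.hom = R.hom := Over.w r₂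
      rw [← h1]
      have := hr₂
      have := hYsm
      infer_instance
    obtain ⟨θ, hθ⟩ := exists_theta U ψ p
    obtain ⟨g, hg⟩ := (hN Y hYsm).2 θ
    dsimp only at hg
    have hrg : r₁ ≫ g = r₂ ≫ g := by
      apply (hN R hRsm).1
      dsimp only
      have key : ∀ r : R ⟶ Y,
          (AlgSp.yon S).map ((Over.mapPullbackAdj U.ι).counit.app R ≫ r ≫ g)
            = ell U ((AlgSp.yon S).map r ≫ p) ≫ ψ := by
        intro r
        rw [← Category.assoc, ← counit_nat U r, Category.assoc, hg, Functor.map_comp, hθ,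
          ← Category.assoc, ell_nat]
      apply (AlgSp.yon S).map_injective
      rw [key r₁, key r₂, sqR.w]
    have : EffectiveEpi p := Groth.Agent.H50.effectiveEpi_of_epi p
    have hdesc : ∀ {Z : AlgSp.Sp S} (g₁ g₂ : Z ⟶ (AlgSp.yon S).obj Y), g₁ ≫ p = g₂ ≫ p →
        g₁ ≫ (AlgSp.yon S).map g = g₂ ≫ (AlgSp.yon S).map g := by
      intro Z g₁ g₂ h
      calc g₁ ≫ (AlgSp.yon S).map g
          = (sqR.lift g₁ g₂ h ≫ (AlgSp.yon S).map r₁) ≫ (AlgSp.yon S).map g := by
            rw [sqR.lift_fst]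
        _ = sqR.lift g₁ g₂ h ≫ (AlgSp.yon S).map (r₁ ≫ g) := by
            rw [Category.assoc, Functor.map_comp]
        _ = sqR.lift g₁ g₂ h ≫ (AlgSp.yon S).map (r₂ ≫ g) := by rw [hrg]
        _ = (sqR.lift g₁ g₂ h ≫ (AlgSp.yon S).map r₂) ≫ (AlgSp.yon S).map g := by
            rw [Category.assoc, Functor.map_comp]
        _ = g₂ ≫ (AlgSp.yon S).map g := by rw [sqR.lift_snd]
    obtain ⟨φ, hφ⟩ : ∃ φ : F ⟶ (AlgSp.yon S).obj N, p ≫ φ = (AlgSp.yon S).map g :=
      ⟨EffectiveEpi.desc p ((AlgSp.yon S).map g) hdesc, EffectiveEpi.fac p _ _⟩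
    refine ⟨φ, ?_⟩
    dsimp only
    apply Groth.Agent.H51.ElemDist.hom_ext_yon
    intro T x
    obtain ⟨T', a, t, sqT⟩ : ∃ (T' : Over S) (a : T' ⟶ Y) (t : T' ⟶ T),
        IsPullback ((AlgSp.yon S).map a) ((AlgSp.yon S).map t) p (x ≫ prod.fst) :=
      ⟨_, _, _, hpe.rep.isPullback' (x ≫ prod.fst)⟩
    have : Epi ((AlgSp.yon S).map t) := Groth.Agent.H52.epi_snd_of_isPullback sqT
    rw [← cancel_epi ((AlgSp.yon S).map t)]
    obtain ⟨b, hb⟩ := (AlgSp.yon S).map_surjective ((AlgSp.yon S).map t ≫ x ≫ prod.snd)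
    obtain ⟨m, hm⟩ := exists_pair U a b
    have hx : (AlgSp.yon S).map t ≫ x = (AlgSp.yon S).map m ≫ ell U p := by
      apply Limits.prod.hom_ext
      · rw [Category.assoc, Category.assoc, ell_fst, ← Category.assoc ((AlgSp.yon S).map m),
          ← Functor.map_comp, hm]
        exact sqT.w.symm
      · exact hU_ext U _ _
    calc (AlgSp.yon S).map t ≫ x ≫ prod.fst ≫ φ = ((AlgSp.yon S).map a ≫ p) ≫ φ := by
          rw [sqT.w]; simp only [Category.assoc]
      _ = (AlgSp.yon S).map (a ≫ g) := by rw [Category.assoc, hφ, Functor.map_comp]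
      _ = (AlgSp.yon S).map (m ≫ θ) := by rw [← hm, Category.assoc, hg]
      _ = ((AlgSp.yon S).map m ≫ ell U p) ≫ ψ := by rw [Functor.map_comp, hθ, Category.assoc]
      _ = (AlgSp.yon S).map t ≫ x ≫ ψ := by rw [← hx, Category.assoc]

end Groth.Agent.S13209
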