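import Groth.Statements.S13210
import Groth.Agent.H50.Fibre

set_option autoImplicit false
universe u
open CategoryTheory CategoryTheory.Limits AlgebraicGeometry
open AlgGrp

namespace Groth.Agent.S13210

/-- Let S be a scheme, F an algebraic space over S which is separated over S, and G a finite group
acting on F by S-automorphisms. If i : Z → F exhibits the fppf sheaf Z as the sub-sheaf of G-fixed
points of F (i is G-invariant and every G-invariant morphism W → F factors uniquely through i), then
Z is an algebraic space and i is a closed immersion (representable by closed immersions). (The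
published statement also treats a locally separated F, whose fixed points form a subspace, and
compatibility with base change; this row states only the separated case.) -/
theorem result
    {S : Scheme.{u}} (F : AlgSp.Sp S) (hF : AlgSp.IsAlgSpace F) (hsep : AlgSp.IsSeparatedSp F)
    (G : Type u) [Group G] [Finite G] (ρ : G →* Aut F)
    (Z : AlgSp.Sp S) (i : Z ⟶ F) (hi : ∀ g : G, i ≫ (ρ g).hom = i)
    (huniv : ∀ (W : AlgSp.Sp S) (x : W ⟶ F), (∀ g : G, x ≫ (ρ g).hom = x) → ∃! z : W ⟶ Z, z ≫ i = x) :
    AlgSp.IsAlgSpace Z ∧ AlgSp.RepWith @IsClosedImmersion i := by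
  classical
  have : Fintype G := Fintype.ofFinite G
  -- `i` is a monomorphism
  have hmono : Mono i := by
    refine ⟨fun {W} a b hab => ?_⟩
    have hinv : ∀ g : G, (a ≫ i) ≫ (ρ g).hom = a ≫ i := fun g => by rw [Category.assoc, hi g]
    obtain ⟨z, _, hz⟩ := huniv W (a ≫ i) hinv
    rw [hz a rfl, hz b hab.symm]
  have hdiagmono : Mono (Limits.diag F) := by
    have : Mono (Limits.diag F ≫ prod.fst) := by
      rw [show Limits.diag F ≫ prod.fst = 𝟙 F from prod.lift_fst _ _]
      infer_instance
    exact mono_of_mono (Limits.diag F) prod.fst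
  -- the closed subscheme of `T` where a point `x` is fixed by the elements of a finite set
  have key : ∀ (T : Over S) (x : (AlgSp.yon S).obj T ⟶ F) (s : Finset G),
      ∃ (V : Over S) (j : V ⟶ T), IsClosedImmersion j.left ∧ Mono ((AlgSp.yon S).map j) ∧
        (∀ g ∈ s, (AlgSp.yon S).map j ≫ x ≫ (ρ g).hom = (AlgSp.yon S).map j ≫ x) ∧
        ∀ (W : AlgSp.Sp S) (b : W ⟶ (AlgSp.yon S).obj T),
          (∀ g ∈ s, b ≫ x ≫ (ρ g).hom = b ≫ x) → ∃ l : W ⟶ (AlgSp.yon S).obj V,
            l ≫ (AlgSp.yon S).map j = b := by
    intro T x s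
    induction s using Finset.induction_on with
    | empty =>
      refine ⟨T, 𝟙 T, ?_, ?_, ?_, ?_⟩
      · change IsClosedImmersion (𝟙 T.left)
        infer_instance
      · rw [CategoryTheory.Functor.map_id]
        infer_instance
      · intro g hg
        exact absurd hg (Finset.notMem_empty g)
      · intro W b _
        exact ⟨b, by rw [CategoryTheory.Functor.map_id, Category.comp_id]⟩
    | insert g₀ s hg₀ ih =>
      obtain ⟨V, j, hj, hjm, ha, hb⟩ := ih
      obtain ⟨V', snd, fst, sq⟩ := hsep.rep
        (prod.lift ((AlgSp.yon S).map j ≫ x) (((AlgSp.yon S).map j ≫ x) ≫ (ρ g₀).hom))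
      have hsnd : IsClosedImmersion snd.left := hsep.property _ fst snd sq
      have h1 : (AlgSp.yon S).map snd ≫ ((AlgSp.yon S).map j ≫ x) = fst := by
        have := congrArg (fun m => m ≫ (prod.fst : F ⨯ F ⟶ F)) sq.w
        simp only [Category.assoc, prod.lift_fst] at this
        rw [← this]
        exact (Category.comp_id _).symm
      have h2 : (AlgSp.yon S).map snd ≫ (((AlgSp.yon S).map j ≫ x) ≫ (ρ g₀).hom) = fst := by
        have := congrArg (fun m => m ≫ (prod.snd : F ⨯ F ⟶ F)) sq.w
        simp only [Category.assoc, prod.lift_snd] at this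
        rw [Category.assoc, ← this]
        exact (Category.comp_id _).symm
      have hsndm : Mono ((AlgSp.yon S).map snd) := sq.mono_snd_of_mono hdiagmono
      refine ⟨V', snd ≫ j, ?_, ?_, ?_, ?_⟩
      · change IsClosedImmersion (snd.left ≫ j.left)
        infer_instance
      · rw [CategoryTheory.Functor.map_comp]
        exact mono_comp _ _
      · intro g hg
        rw [CategoryTheory.Functor.map_comp, Category.assoc, Category.assoc]
        rcases Finset.mem_insert.1 hg with rfl | hg'
        · rw [← Category.assoc ((AlgSp.yon S).map j), h2, ← h1]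
        · rw [ha g hg']
      · intro W b hbinv
        obtain ⟨l, hl⟩ := hb W b (fun g hg => hbinv g (Finset.mem_insert_of_mem hg))
        have hl0 : (l ≫ ((AlgSp.yon S).map j ≫ x)) ≫ (ρ g₀).hom = l ≫ ((AlgSp.yon S).map j ≫ x) := by
          rw [← Category.assoc l, hl, Category.assoc]
          exact hbinv g₀ (Finset.mem_insert_self _ _)
        have hw : (l ≫ ((AlgSp.yon S).map j ≫ x)) ≫ Limits.diag F =
            l ≫ prod.lift ((AlgSp.yon S).map j ≫ x)
              (((AlgSp.yon S).map j ≫ x) ≫ (ρ g₀).hom) := by
          apply Limits.prod.hom_ext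
          · have e1 : Limits.diag F ≫ (prod.fst : F ⨯ F ⟶ F) = 𝟙 F := prod.lift_fst _ _
            rw [Category.assoc, e1, Category.comp_id, Category.assoc (f := l), prod.lift_fst]
          · have e2 : Limits.diag F ≫ (prod.snd : F ⨯ F ⟶ F) = 𝟙 F := prod.lift_snd _ _
            rw [Category.assoc, e2, Category.comp_id, Category.assoc (f := l), prod.lift_snd]
            exact hl0.symm.trans (Category.assoc _ _ _)
        obtain ⟨l', hl'1, hl'2⟩ : ∃ l' : W ⟶ (AlgSp.yon S).obj V', l' ≫ fst = _ ∧
            l' ≫ (AlgSp.yon S).map snd = l := ⟨sq.lift _ _ hw, sq.lift_fst _ _ hw, sq.lift_snd _ _ hw⟩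
        refine ⟨l', ?_⟩
        rw [CategoryTheory.Functor.map_comp, ← Category.assoc, hl'2, hl]
  have hrepw : AlgSp.RepWith @IsClosedImmersion i := by
    have : MorphismProperty.RespectsIso (@IsClosedImmersion : MorphismProperty Scheme.{u}) :=
      inferInstance
    have : (MorphismProperty.inverseImage (@IsClosedImmersion : MorphismProperty Scheme.{u})
        (Over.forget S)).RespectsIso := inferInstance
    refine MorphismProperty.relative.of_exists (fun T x => ?_)
    obtain ⟨V, j, hj, hjm, ha, hb⟩ := key T x Finset.univ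
    obtain ⟨z, hz, _⟩ := huniv ((AlgSp.yon S).obj V) ((AlgSp.yon S).map j ≫ x)
      (fun g => by rw [Category.assoc]; exact ha g (Finset.mem_univ g))
    have hex : ∀ c : PullbackCone i x, ∃ l : c.pt ⟶ (AlgSp.yon S).obj V,
        l ≫ (AlgSp.yon S).map j = c.snd := by
      intro c
      refine hb c.pt c.snd (fun g _ => ?_)
      rw [← Category.assoc, ← c.condition, Category.assoc, hi g]
    have hlim : IsLimit (PullbackCone.mk z ((AlgSp.yon S).map j) hz) := by
      refine PullbackCone.IsLimit.mk _ (fun c => Classical.choose (hex c)) (fun c => ?_)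
        (fun c => Classical.choose_spec (hex c)) (fun c m _ h2 => ?_)
      · rw [← cancel_mono i, Category.assoc, hz, ← Category.assoc, Classical.choose_spec (hex c),
          c.condition]
      · rw [← cancel_mono ((AlgSp.yon S).map j), h2, Classical.choose_spec (hex c)]
    exact ⟨V, z, j, IsPullback.of_isLimit hlim, hj⟩
  exact ⟨Groth.Agent.H50.isAlgSpace_of_representable hrepw.rep hF, hrepw⟩

end Groth.Agent.S13210
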