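import Groth.Statements.S1323
import Mathlib
import Groth.Agent.H78.NilTower

set_option autoImplicit false
set_option maxHeartbeats 400000
universe u
open FlatMor

namespace Groth.Agent.S1323

open AlgebraicGeometry CategoryTheory Limits in
/-- Let S ⟶ S' be a finite order thickening, let X' ⟶ Y' be a morphism of schemes over S' with X' flat
over S', and let X ⟶ Y be its base change to S. Then X ⟶ Y is finite locally free of rank d if and
only if X' ⟶ Y' is. -/
theorem result (d : ℕ) {X X' Y Y' S S' : Scheme.{u}} (iX : X ⟶ X') (iY : Y ⟶ Y') (iS : S ⟶ S')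
    (f : X ⟶ Y) (f' : X' ⟶ Y') (g : Y ⟶ S) (g' : Y' ⟶ S')
    (hS : MoreMor.IsFiniteOrderThickening iS) (hcX : IsPullback iX (f ≫ g) (f' ≫ g') iS) (hcY : IsPullback iY g g' iS)
    (w : iX ≫ f' = f ≫ iY) [Flat (f' ≫ g')] :
    Mor2.IsFinLocFreeOfDeg d f ↔ Mor2.IsFinLocFreeOfDeg d f' := by
  haveI : IsClosedImmersion iS := hS.1.1
  obtain ⟨m, hm⟩ := hS.2
  have hsq := Groth.Agent.H78.NilTower.isPullback_sq iX iY iS f f' g g' hcX hcY w
  haveI : IsClosedImmersion iY := Groth.Agent.H93.NilPull.closedImm_top hcY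
  have hsurjY : Function.Surjective iY.base := Groth.Agent.H93.NilPull.surj_top hcY hS.1.2.surj
  constructor
  · rintro ⟨⟨hfin, hflat, hlfp⟩, hrk⟩
    have hkY : iY.ker ^ m = ⊥ := by
      rw [Groth.Agent.H93.NilPull.ker_eq_comap_of_isPullback hcY,
        ← Groth.Agent.H93.IdealComap.comap_pow, hm]
      exact Scheme.IdealSheafData.comap_bot _
    haveI := hfin
    haveI hfin' : IsFinite f' := Groth.Agent.H93.NilPull.finite_of_nil hsq hsurjY
      (fun W => Groth.Agent.H93.NilPull.nil_of_pow_eq_bot iY m hkY W)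
    haveI hflat' : Flat f' :=
      Groth.Agent.H78.NilTower.flat_of_flat iX iY iS f f' g g' hS hcX hcY w hflat
    have hlfp' : LocallyOfFinitePresentation f' :=
      Groth.Agent.H78.NilTower.lfp_of_lfp iX iY iS f f' g g' hS hcX hcY w hlfp
    refine ⟨⟨hfin', hflat', hlfp'⟩, ?_⟩
    intro y'
    obtain ⟨y, rfl⟩ := hsurjY y'
    rw [← hrk y]
    exact (Scheme.Hom.finrank_of_isPullback iX f f' iY hsq y).symm
  · rintro ⟨⟨hfin', hflat', hlfp'⟩, hrk⟩
    haveI := hfin'
    haveI := hflat'
    refine ⟨⟨MorphismProperty.of_isPullback (P := @IsFinite) hsq hfin',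
      MorphismProperty.of_isPullback (P := @Flat) hsq hflat',
      MorphismProperty.of_isPullback (P := @LocallyOfFinitePresentation) hsq hlfp'⟩, ?_⟩
    intro y
    rw [← hrk (iY y)]
    exact Scheme.Hom.finrank_of_isPullback iX f f' iY hsq y

end Groth.Agent.S1323
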