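import Groth.Statements.S1324
import Groth.Agent.H37.RatPointConn

set_option autoImplicit false
universe u
open FlatMor

namespace Groth.Agent.S1324


open AlgebraicGeometry CategoryTheory Limits in
set_option backward.isDefEq.respectTransparency false in
theorem key {X Y X' Y' : Scheme.{u}} (f : X ⟶ Y) (s : Y ⟶ X) (hs : s ≫ f = 𝟙 Y)
    (f' : X' ⟶ Y') (g' : X' ⟶ X) (g : Y' ⟶ Y) (hc : IsPullback g' f' f g)
    (s' : Y' ⟶ X') (hs' : s' ≫ f' = 𝟙 Y') (hs'g : s' ≫ g' = g ≫ s) (y' : Y') :
    connectedComponentIn (⇑f' ⁻¹' {y'}) (s' y') =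
      ⇑f' ⁻¹' {y'} ∩ ⇑g' ⁻¹' connectedComponentIn (⇑f ⁻¹' {g y'}) (s (g y')) := by
  have hfg : ∀ z : X', f (g' z) = g (f' z) := fun z => by
    rw [← Scheme.Hom.comp_apply, ← Scheme.Hom.comp_apply, hc.w]
  have hsf : ∀ y : Y, f (s y) = y := fun y => by
    rw [← Scheme.Hom.comp_apply, hs]; rfl
  have hsf' : ∀ y : Y', f' (s' y) = y := fun y => by
    rw [← Scheme.Hom.comp_apply, hs']; rfl
  have hsg : ∀ y : Y', g' (s' y) = s (g y) := fun y => by
    rw [← Scheme.Hom.comp_apply, ← Scheme.Hom.comp_apply, hs'g]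
  have hsΦ : s (g y') ∈ ⇑f ⁻¹' {g y'} := hsf _
  have hsΦ' : s' y' ∈ ⇑f' ⁻¹' {y'} := hsf' _
  apply Set.Subset.antisymm
  · intro x hx
    refine ⟨connectedComponentIn_subset _ _ hx, ?_⟩
    have himg : ⇑g' '' connectedComponentIn (⇑f' ⁻¹' {y'}) (s' y') ⊆
        connectedComponentIn (⇑f ⁻¹' {g y'}) (s (g y')) := by
      refine IsPreconnected.subset_connectedComponentIn
        (isPreconnected_connectedComponentIn.image _ g'.continuous.continuousOn)
        ⟨s' y', mem_connectedComponentIn hsΦ', hsg y'⟩ ?_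
      rintro _ ⟨z, hz, rfl⟩
      have hz'' : z ∈ ⇑f' ⁻¹' {y'} := connectedComponentIn_subset (⇑f' ⁻¹' {y'}) (s' y') hz
      have hz' : f' z = y' := hz''
      show f (g' z) = g y'
      rw [hfg z, hz']
    exact himg ⟨x, hx, rfl⟩
  · rintro x ⟨hxΦ, hxD⟩
    -- the fibres
    have sqF := isPullback_fiberToSpecResidueField_of_isPullback hc y'
    obtain ⟨φ, hφ⟩ : ∃ φ : f'.fiber y' ⟶ f.fiber (g y'), φ =
      pullback.map _ _ _ _ g' (Spec.map (g.residueFieldMap y')) g hc.w.symm (by simp) := ⟨_, rfl⟩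
    rw [← hφ] at sqF
    have hφι : φ ≫ f.fiberι (g y') = f'.fiberι y' ≫ g' := by
      rw [hφ]; exact pullback.lift_fst _ _ _
    -- the rational point
    have hw : (Y.fromSpecResidueField (g y') ≫ s) ≫ f = 𝟙 _ ≫ Y.fromSpecResidueField (g y') := by
      rw [Category.assoc, hs, Category.comp_id, Category.id_comp]
    obtain ⟨σ, hσ1, hσ2⟩ : ∃ σ : Spec (Y.residueField (g y')) ⟶ f.fiber (g y'),
        σ ≫ f.fiberι (g y') = Y.fromSpecResidueField (g y') ≫ s ∧
        σ ≫ f.fiberToSpecResidueField (g y') = 𝟙 _ :=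
      ⟨pullback.lift _ _ hw, pullback.lift_fst _ _ _, pullback.lift_snd _ _ _⟩
    obtain ⟨t₀⟩ : Nonempty ↥(Spec (Y.residueField (g y'))) :=
      ⟨IsLocalRing.closedPoint (Y.residueField (g y'))⟩
    have hισ : f.fiberι (g y') (σ t₀) = s (g y') := by
      rw [← Scheme.Hom.comp_apply, hσ1, Scheme.Hom.comp_apply,
        Scheme.fromSpecResidueField_apply]
    letI : Algebra (Y.residueField (g y')) (Y'.residueField y') :=
      (g.residueFieldMap y').hom.toAlgebra
    have hconn : _root_.IsConnected (⇑φ ⁻¹' connectedComponent (σ t₀)) :=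
      Groth.Agent.H37.isConnected_preimage_connectedComponent_of_section
        (k := Y.residueField (g y')) (K := Y'.residueField y') sqF rfl σ hσ2 t₀
    -- D ⊆ ι '' C
    have hDr : connectedComponentIn (⇑f ⁻¹' {g y'}) (s (g y')) ⊆ Set.range (f.fiberι (g y')) := by
      rw [Scheme.Hom.range_fiberι]; exact connectedComponentIn_subset _ _
    have hpre : _root_.IsPreconnected (⇑(f.fiberι (g y')) ⁻¹'
        connectedComponentIn (⇑f ⁻¹' {g y'}) (s (g y'))) := by
      have himg : ⇑(f.fiberι (g y')) '' (⇑(f.fiberι (g y')) ⁻¹'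
          connectedComponentIn (⇑f ⁻¹' {g y'}) (s (g y'))) =
          connectedComponentIn (⇑f ⁻¹' {g y'}) (s (g y')) :=
        Set.image_preimage_eq_of_subset hDr
      exact ((f.fiberι (g y')).isEmbedding.isInducing.isPreconnected_image).mp
        (himg.symm ▸ isPreconnected_connectedComponentIn)
    have hσD : σ t₀ ∈ ⇑(f.fiberι (g y')) ⁻¹'
        connectedComponentIn (⇑f ⁻¹' {g y'}) (s (g y')) := by
      show f.fiberι (g y') (σ t₀) ∈ connectedComponentIn (⇑f ⁻¹' {g y'}) (s (g y'))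
      rw [hισ]; exact mem_connectedComponentIn hsΦ
    have hsubC := hpre.subset_connectedComponent hσD
    -- the point x
    have hxr : x ∈ Set.range (f'.fiberι y') := by
      rw [Scheme.Hom.range_fiberι]; exact hxΦ
    obtain ⟨t', rfl⟩ := hxr
    have hgι : g' (f'.fiberι y' t') = f.fiberι (g y') (φ t') := by
      rw [← Scheme.Hom.comp_apply, ← Scheme.Hom.comp_apply, hφι]
    have ht'C : φ t' ∈ connectedComponent (σ t₀) := by
      apply hsubC
      show f.fiberι (g y') (φ t') ∈ connectedComponentIn (⇑f ⁻¹' {g y'}) (s (g y'))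
      rw [← hgι]; exact hxD
    -- σ'
    have hsr : s' y' ∈ Set.range (f'.fiberι y') := by
      rw [Scheme.Hom.range_fiberι]; exact hsΦ'
    obtain ⟨σ', hσ'⟩ := hsr
    have hφσ' : φ σ' = σ t₀ := by
      apply (f.fiberι (g y')).isEmbedding.injective
      have hgι' : g' (f'.fiberι y' σ') = f.fiberι (g y') (φ σ') := by
        rw [← Scheme.Hom.comp_apply, ← Scheme.Hom.comp_apply, hφι]
      rw [← hgι', hσ', hsg, hισ]
    have himg' : ⇑(f'.fiberι y') '' (⇑φ ⁻¹' connectedComponent (σ t₀)) ⊆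
        connectedComponentIn (⇑f' ⁻¹' {y'}) (s' y') := by
      refine IsPreconnected.subset_connectedComponentIn
        (hconn.isPreconnected.image _ (f'.fiberι y').continuous.continuousOn)
        ⟨σ', ?_, hσ'⟩ ?_
      · show φ σ' ∈ connectedComponent (σ t₀)
        rw [hφσ']; exact mem_connectedComponent
      · rintro _ ⟨z, -, rfl⟩
        have : f'.fiberι y' z ∈ Set.range (f'.fiberι y') := ⟨z, rfl⟩
        rw [Scheme.Hom.range_fiberι] at this
        exact this
    exact himg' ⟨t', ht'C, rfl⟩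


open AlgebraicGeometry CategoryTheory Limits in
/-- Let f have a section s and form, for every point of the target, the connected component of the fibre
containing the value of the section; call the union of these the section components of (f, s). For
any base change of f with the induced section, the section components upstairs are exactly the
preimage of the section components downstairs. -/
theorem result {X Y X' Y' : Scheme.{u}} (f : X ⟶ Y) (s : Y ⟶ X) (hs : s ≫ f = 𝟙 Y)
    (f' : X' ⟶ Y') (g' : X' ⟶ X) (g : Y' ⟶ Y) (hc : IsPullback g' f' f g)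
    (s' : Y' ⟶ X') (hs' : s' ≫ f' = 𝟙 Y') (hs'g : s' ≫ g' = g ≫ s) :
    MoreMor.sectionComponents f' s' = g' ⁻¹' MoreMor.sectionComponents f s := by
  ext x'
  show x' ∈ connectedComponentIn (⇑f' ⁻¹' {f' x'}) (s' (f' x')) ↔
    g' x' ∈ connectedComponentIn (⇑f ⁻¹' {f (g' x')}) (s (f (g' x')))
  have hfg : f (g' x') = g (f' x') := by
    rw [← Scheme.Hom.comp_apply, ← Scheme.Hom.comp_apply, hc.w]
  rw [hfg, key f s hs f' g' g hc s' hs' hs'g (f' x')]
  constructor
  · rintro ⟨-, h⟩
    exact h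
  · intro h
    exact ⟨rfl, h⟩

end Groth.Agent.S1324
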