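import Groth.Statements.S4585
import Mathlib
import Groth.Agent.H23.GenericImage

set_option autoImplicit false
universe u
open AlgebraicGeometry CategoryTheory
open EGA41

namespace Groth.Agent.S4585

theorem aux {X Y : Scheme.{u}} (f : X ⟶ Y)
    [LocallyOfFiniteType f] [IrreducibleSpace Y] (h : genericPoint Y ∈ Set.range f.base) :
    genericPoint Y ∈ interior (Set.range f.base) := by
  obtain ⟨x, hx⟩ := h
  obtain ⟨V, hV, hηV, -⟩ :=
    exists_isAffineOpen_mem_and_subset (x := genericPoint Y) (U := ⊤) trivial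
  have hxV : x ∈ f ⁻¹ᵁ V := by
    change f.base x ∈ V
    rw [hx]; exact hηV
  obtain ⟨U, hU, hxU, hUV⟩ := exists_isAffineOpen_mem_and_subset hxV
  have e : U ≤ f ⁻¹ᵁ V := hUV
  have hφ : (f.appLE V U e).hom.FiniteType := LocallyOfFiniteType.finiteType_appLE f hV hU e
  have hsq : Spec.map (f.appLE V U e) ≫ hV.fromSpec = hU.fromSpec ≫ f :=
    IsAffineOpen.SpecMap_appLE_fromSpec f hV hU e
  have hsq' : ∀ q' : PrimeSpectrum Γ(X, U),
      hV.fromSpec.base (PrimeSpectrum.comap (f.appLE V U e).hom q') =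
        f.base (hU.fromSpec.base q') := by
    intro q'
    have h1 : (Spec.map (f.appLE V U e) ≫ hV.fromSpec).base q' = (hU.fromSpec ≫ f).base q' := by
      rw [hsq]
    exact h1
  obtain ⟨q, hq⟩ : ∃ q : PrimeSpectrum Γ(X, U), hU.fromSpec.base q = x :=
    ⟨hU.primeIdealOf ⟨x, hxU⟩, hU.fromSpec_primeIdealOf ⟨x, hxU⟩⟩
  have hη : hV.fromSpec.base (PrimeSpectrum.comap (f.appLE V U e).hom q) = genericPoint Y := by
    rw [hsq', hq, hx]
  have hemb : Topology.IsOpenEmbedding hV.fromSpec.base := hV.fromSpec.isOpenEmbedding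
  have hmin : ∀ p' : PrimeSpectrum Γ(Y, V), PrimeSpectrum.comap (f.appLE V U e).hom q ≤ p' := by
    intro p'
    rw [PrimeSpectrum.le_iff_specializes]
    refine (hemb.toIsInducing.specializes_iff
      (x := PrimeSpectrum.comap (f.appLE V U e).hom q) (y := p')).mp ?_
    rw [hη]
    exact genericPoint_specializes _
  obtain ⟨g, hg, hD⟩ := H23.genericImage (f.appLE V U e).hom hφ q hmin
  rw [mem_interior]
  refine ⟨hV.fromSpec.base '' (PrimeSpectrum.basicOpen g : Set (PrimeSpectrum Γ(Y, V))), ?_, ?_, ?_⟩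
  · rintro _ ⟨p', hp', rfl⟩
    obtain ⟨q', rfl⟩ := hD p' hp'
    exact ⟨hU.fromSpec.base q', (hsq' q').symm⟩
  · exact hemb.isOpenMap _ (PrimeSpectrum.basicOpen g).isOpen
  · exact ⟨_, hg, hη⟩

/-- Let Y be an irreducible scheme with generic point η and f : X → Y locally of finite type with
nonempty fibre over η. Then some open neighbourhood of η is contained in f(X). (The second
assertion, on fibres of a quasi-coherent module of finite type, is not stated.) -/
theorem result {X Y : Scheme.{u}} (f : X ⟶ Y)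
    [LocallyOfFiniteType f] [IrreducibleSpace Y] (h : genericPoint Y ∈ Set.range f.base) :
    genericPoint Y ∈ interior (Set.range f.base) := by
  exact aux f h

end Groth.Agent.S4585
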