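import Groth.Statements.S1332
import Groth.Agent.H9.FibDimTarget
import Groth.Agent.S4585
import Groth.Agent.H54.ValDense

set_option linter.style.haveILetI false

set_option autoImplicit false
universe u
open FlatMor

namespace Groth.Agent.S1332

open AlgebraicGeometry CategoryTheory Limits TopologicalSpace Groth.Agent.H9.FibDim

/-- A closed subset is the range of a closed immersion (reduced induced structure). -/
theorem exists_closedImmersion_range {X : Scheme.{u}} (C : Set X) (hC : IsClosed C) :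
    ∃ (Z : Scheme.{u}) (ι : Z ⟶ X), IsClosedImmersion ι ∧ Set.range ι.base = C := by
  refine ⟨(Scheme.IdealSheafData.vanishingIdeal ⟨C, hC⟩).subscheme,
    (Scheme.IdealSheafData.vanishingIdeal ⟨C, hC⟩).subschemeι, inferInstance, ?_⟩
  rw [Scheme.IdealSheafData.range_subschemeι, Scheme.IdealSheafData.coe_support_vanishingIdeal]
  rfl

theorem result' {X Y : Scheme.{u}} (f : X ⟶ Y) [IrreducibleSpace ↑Y] [LocallyOfFiniteType f]
    [QuasiCompact f] (n : ℕ)
    (h : topologicalKrullDim ↑(f.fiber (genericPoint ↑Y)) = n) :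
    ∃ V : Y.Opens, (V : Set ↑Y).Nonempty ∧ ∀ y ∈ V, topologicalKrullDim ↑(f.fiber y) = n := by
  set η := genericPoint Y with hη
  have hC1 := isClosed_setOf_natCast_le_fibreDimAt f n
  have hC2 := isClosed_setOf_natCast_le_fibreDimAt f (n + 1)
  obtain ⟨Z1, ι1, hι1, hr1⟩ := exists_closedImmersion_range _ hC1
  obtain ⟨Z2, ι2, hι2, hr2⟩ := exists_closedImmersion_range _ hC2
  have h1 : η ∈ Set.range (ι1 ≫ f).base := by
    obtain ⟨x, hx, hxn⟩ := (natCast_le_dim_fiber_iff f η n).mp h.ge
    obtain ⟨z, hz⟩ : x ∈ Set.range ι1.base := by rw [hr1]; exact hxn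
    exact ⟨z, by rw [Scheme.Hom.comp_base, TopCat.comp_app, hz, hx]⟩
  have h1' := Groth.Agent.S4585.result (ι1 ≫ f) h1
  have h2 : η ∉ closure (Set.range (ι2 ≫ f).base) := by
    intro hcl
    have hd : DenseRange (ι2 ≫ f).base := by
      rw [DenseRange, dense_iff_closure_eq, Set.eq_univ_iff_forall]
      intro y
      have hy : η ⤳ y := (genericPoint_spec Y).specializes (Set.mem_univ y)
      exact hy.mem_closed isClosed_closure hcl
    have hirr : closure ({η} : Set Y) ∈ irreducibleComponents (Y : Type u) := by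
      rw [irreducibleComponents_eq_singleton, Set.mem_singleton_iff]
      exact genericPoint_spec Y
    obtain ⟨z, hz⟩ := Groth.Agent.H54.exists_eq_generic_of_denseRange (ι2 ≫ f) hd η hirr
    have hmem : ι2.base z ∈ Set.range ι2.base := ⟨z, rfl⟩
    rw [hr2] at hmem
    have hle : ((n + 1 : ℕ) : WithBot ℕ∞) ≤ topologicalKrullDim (f.fiber η) :=
      (natCast_le_dim_fiber_iff f η (n + 1)).mpr ⟨ι2.base z, by
        rw [← hz, Scheme.Hom.comp_base, TopCat.comp_app], hmem⟩
    rw [h] at hle
    have : (n + 1 : ℕ) ≤ n := by exact_mod_cast hle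
    omega
  refine ⟨⟨interior (Set.range (ι1 ≫ f).base) ∩ (closure (Set.range (ι2 ≫ f).base))ᶜ,
    isOpen_interior.inter isClosed_closure.isOpen_compl⟩, ⟨η, h1', h2⟩, ?_⟩
  rintro y ⟨hy1, hy2⟩
  apply le_antisymm
  · rw [dim_fiber_le_iff]
    intro x hx
    by_contra hcon
    have hx2 : ((n + 1 : ℕ) : WithBot ℕ∞) ≤ FlatMor.fibreDimAt f x :=
      (natCast_le_iff_not_le _ n).mpr hcon
    obtain ⟨z, hz⟩ : x ∈ Set.range ι2.base := by rw [hr2]; exact hx2
    apply hy2
    apply subset_closure
    exact ⟨z, by rw [Scheme.Hom.comp_base, TopCat.comp_app, hz, hx]⟩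
  · rw [natCast_le_dim_fiber_iff]
    obtain ⟨z, hz⟩ := interior_subset hy1
    refine ⟨ι1.base z, by rw [← hz, Scheme.Hom.comp_base, TopCat.comp_app], ?_⟩
    have hmem : ι1.base z ∈ Set.range ι1.base := ⟨z, rfl⟩
    rw [hr1] at hmem
    exact hmem


open AlgebraicGeometry CategoryTheory Limits in
/-- Let f be of finite type with irreducible target. If the generic fibre has dimension n, then over
some nonempty open of the target every fibre has dimension n. -/
theorem result {X Y : Scheme.{u}} (f : X ⟶ Y) [IrreducibleSpace ↑Y] [LocallyOfFiniteType f] [QuasiCompact f] (n : ℕ)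
    (h : topologicalKrullDim ↑(f.fiber (genericPoint ↑Y)) = n) :
    ∃ V : Y.Opens, (V : Set ↑Y).Nonempty ∧ ∀ y ∈ V, topologicalKrullDim ↑(f.fiber y) = n := by
  exact result' f n h

end Groth.Agent.S1332
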