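import Groth.Statements.S1334
import Groth.Agent.H37.GeomSepClosed

set_option autoImplicit false
universe u
open FlatMor

namespace Groth.Agent.S1334

open AlgebraicGeometry CategoryTheory Limits in
/-- The function on the target counting the irreducible components of the geometric fibres (fibres base
changed to a separable closure of the residue field) is compatible with base change: for a cartesian
square it is obtained on the new base by composing with the map to the old base. (This expresses
that the count does not depend on the separably closed field used.) -/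
theorem result {X Y X' Y' : Scheme.{u}} (f : X ⟶ Y) (f' : X' ⟶ Y') (g' : X' ⟶ X) (g : Y' ⟶ Y)
    (hc : IsPullback g' f' f g) (y' : Y') :
    MoreMor.nGeomIrredComp f' y' = MoreMor.nGeomIrredComp f (g y') := by
  have sqF := isPullback_fiberToSpecResidueField_of_isPullback hc y'
  obtain ⟨φ, hφ⟩ : ∃ φ : f'.fiber y' ⟶ f.fiber (g y'), φ =
    pullback.map _ _ _ _ g' (Spec.map (g.residueFieldMap y')) g hc.w.symm (by simp) := ⟨_, rfl⟩
  rw [← hφ] at sqF
  letI alg1 : Algebra (Y.residueField (g y')) (SeparableClosure (Y'.residueField y')) :=
    ((algebraMap (Y'.residueField y') (SeparableClosure (Y'.residueField y'))).comp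
      (g.residueFieldMap y').hom).toAlgebra
  obtain ⟨σ⟩ : Nonempty (SeparableClosure (Y.residueField (g y')) →ₐ[Y.residueField (g y')]
      SeparableClosure (Y'.residueField y')) := ⟨IsSepClosed.lift⟩
  have hσ : CommRingCat.ofHom (algebraMap (Y.residueField (g y'))
        (SeparableClosure (Y.residueField (g y')))) ≫ CommRingCat.ofHom σ.toRingHom =
      g.residueFieldMap y' ≫ CommRingCat.ofHom (algebraMap (Y'.residueField y')
        (SeparableClosure (Y'.residueField y'))) :=
    CommRingCat.hom_ext (RingHom.ext fun x => σ.commutes x)
  obtain ⟨q, hq⟩ : ∃ q : Spec (CommRingCat.of (SeparableClosure (Y.residueField (g y')))) ⟶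
      Spec (Y.residueField (g y')), q = Spec.map (CommRingCat.ofHom
        (algebraMap (Y.residueField (g y')) (SeparableClosure (Y.residueField (g y'))))) :=
    ⟨_, rfl⟩
  obtain ⟨q', hq'⟩ : ∃ q' : Spec (CommRingCat.of (SeparableClosure (Y'.residueField y'))) ⟶
      Spec (Y'.residueField y'), q' = Spec.map (CommRingCat.ofHom
        (algebraMap (Y'.residueField y') (SeparableClosure (Y'.residueField y')))) :=
    ⟨_, rfl⟩
  obtain ⟨b, hb⟩ : ∃ b : Spec (CommRingCat.of (SeparableClosure (Y'.residueField y'))) ⟶
      Spec (CommRingCat.of (SeparableClosure (Y.residueField (g y')))),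
      b = Spec.map (CommRingCat.ofHom σ.toRingHom) := ⟨_, rfl⟩
  have hbq : b ≫ q = q' ≫ Spec.map (g.residueFieldMap y') := by
    rw [hb, hq, hq', ← Spec.map_comp, ← Spec.map_comp, hσ]
    rfl
  have hb1 : GeometricallyIrreducible b := by
    letI := σ.toRingHom.toAlgebra
    rw [hb]
    exact Groth.Agent.H37.geomIrr_specMap_of_isSepClosed
      (k := SeparableClosure (Y.residueField (g y')))
      (K := SeparableClosure (Y'.residueField y'))
  have hb2 : UniversallyOpen b := by
    letI := σ.toRingHom.toAlgebra
    rw [hb]
    exact Groth.Agent.H37.univOpen_specMap_field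
      (k := SeparableClosure (Y.residueField (g y')))
      (K := SeparableClosure (Y'.residueField y'))
  suffices key : (irreducibleComponents ↥(pullback (f'.fiberToSpecResidueField y') q')).encard =
      (irreducibleComponents ↥(pullback (f.fiberToSpecResidueField (g y')) q)).encard by
    subst hq hq'
    exact key
  have hw : (pullback.fst (f'.fiberToSpecResidueField y') q' ≫ φ) ≫
      f.fiberToSpecResidueField (g y') =
      (pullback.snd (f'.fiberToSpecResidueField y') q' ≫ b) ≫ q := by
    calc (pullback.fst (f'.fiberToSpecResidueField y') q' ≫ φ) ≫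
          f.fiberToSpecResidueField (g y')
        = pullback.fst (f'.fiberToSpecResidueField y') q' ≫
            (φ ≫ f.fiberToSpecResidueField (g y')) := Category.assoc _ _ _
      _ = pullback.fst (f'.fiberToSpecResidueField y') q' ≫
            (f'.fiberToSpecResidueField y' ≫ Spec.map (g.residueFieldMap y')) :=
          congrArg (fun t => pullback.fst (f'.fiberToSpecResidueField y') q' ≫ t) sqF.w
      _ = (pullback.fst (f'.fiberToSpecResidueField y') q' ≫
            f'.fiberToSpecResidueField y') ≫ Spec.map (g.residueFieldMap y') :=
          (Category.assoc _ _ _).symm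
      _ = (pullback.snd (f'.fiberToSpecResidueField y') q' ≫ q') ≫
            Spec.map (g.residueFieldMap y') :=
          congrArg (fun t => t ≫ Spec.map (g.residueFieldMap y')) pullback.condition
      _ = pullback.snd (f'.fiberToSpecResidueField y') q' ≫
            (q' ≫ Spec.map (g.residueFieldMap y')) := Category.assoc _ _ _
      _ = pullback.snd (f'.fiberToSpecResidueField y') q' ≫ (b ≫ q) :=
          congrArg (fun t => pullback.snd (f'.fiberToSpecResidueField y') q' ≫ t) hbq.symm
      _ = (pullback.snd (f'.fiberToSpecResidueField y') q' ≫ b) ≫ q :=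
          (Category.assoc _ _ _).symm
  obtain ⟨ψ, hψ1, hψ2⟩ : ∃ ψ : pullback (f'.fiberToSpecResidueField y') q' ⟶
      pullback (f.fiberToSpecResidueField (g y')) q,
      ψ ≫ pullback.fst _ _ = pullback.fst (f'.fiberToSpecResidueField y') q' ≫ φ ∧
      ψ ≫ pullback.snd _ _ = pullback.snd (f'.fiberToSpecResidueField y') q' ≫ b :=
    ⟨pullback.lift _ _ hw, pullback.lift_fst _ _ _, pullback.lift_snd _ _ _⟩
  have sqG : IsPullback ψ (pullback.snd (f'.fiberToSpecResidueField y') q')
      (pullback.snd (f.fiberToSpecResidueField (g y')) q) b := by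
    refine IsPullback.of_right ?_ hψ2
      (IsPullback.of_hasPullback (f.fiberToSpecResidueField (g y')) q)
    rw [hψ1, hbq]
    exact (IsPullback.of_hasPullback (f'.fiberToSpecResidueField y') q').paste_horiz sqF
  haveI : GeometricallyIrreducible ψ :=
    MorphismProperty.of_isPullback (P := @GeometricallyIrreducible) sqG.flip hb1
  haveI : UniversallyOpen ψ :=
    MorphismProperty.of_isPullback (P := @UniversallyOpen) sqG.flip hb2
  exact Set.encard_congr (ψ.irreducibleComponentsEquiv ψ.isOpenMap)

end Groth.Agent.S1334
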