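import Groth.Statements.S13341
-- import your own Groth.Agent.* helpers here

set_option autoImplicit false
open CategoryTheory
universe u
open FCompl

namespace Groth.Agent.S13341

section aux
open CategoryTheory.Limits
set_option linter.unusedSimpArgs false

variable {C : Type*} [Category C] [HasPullbacks C]

lemma graph_isPullback {X X' Y Y' S S' : C} (iX : X ⟶ X') (iY : Y ⟶ Y') (iS : S ⟶ S') [Mono iY]
    (f : X ⟶ Y) (f' : X' ⟶ Y') (q : Y ⟶ S) (q' : Y' ⟶ S') (p : X ⟶ S) (p' : X' ⟶ S')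
    (hf : f ≫ iY = iX ≫ f') (hq : q ≫ iS = iY ≫ q') (hp : p ≫ iS = iX ≫ p')
    (w : 𝟙 X ≫ p = f ≫ q) (w' : 𝟙 X' ≫ p' = f' ≫ q') :
    IsPullback iX (pullback.lift (𝟙 X) f w) (pullback.lift (𝟙 X') f' w')
      (pullback.map p q p' q' iX iY iS hp hq) := by
  have hc : iX ≫ pullback.lift (𝟙 X') f' w' =
      pullback.lift (𝟙 X) f w ≫ pullback.map p q p' q' iX iY iS hp hq := by
    apply pullback.hom_ext
    · simp only [pullback.map, pullback.lift_fst, pullback.lift_snd, pullback.lift_fst_assoc, pullback.lift_snd_assoc, Category.assoc, Category.id_comp, Category.comp_id]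
    · simp only [pullback.map, pullback.lift_fst, pullback.lift_snd, pullback.lift_fst_assoc, pullback.lift_snd_assoc, Category.assoc, Category.id_comp, Category.comp_id]
      exact hf.symm
  have key1 : ∀ s : PullbackCone (pullback.lift (𝟙 X') f' w') (pullback.map p q p' q' iX iY iS hp hq),
      s.snd ≫ pullback.fst p q ≫ iX = s.fst := by
    intro s
    have := s.condition =≫ pullback.fst p' q'
    simp only [pullback.map, pullback.lift_fst, pullback.lift_snd, pullback.lift_fst_assoc, pullback.lift_snd_assoc, Category.assoc, Category.id_comp, Category.comp_id] at this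
    exact this.symm
  have key2 : ∀ s : PullbackCone (pullback.lift (𝟙 X') f' w') (pullback.map p q p' q' iX iY iS hp hq),
      s.snd ≫ pullback.snd p q ≫ iY = s.fst ≫ f' := by
    intro s
    have := s.condition =≫ pullback.snd p' q'
    simp only [pullback.map, pullback.lift_fst, pullback.lift_snd, pullback.lift_fst_assoc, pullback.lift_snd_assoc, Category.assoc, Category.id_comp, Category.comp_id] at this
    exact this.symm
  refine ⟨⟨hc⟩, ⟨PullbackCone.IsLimit.mk _ (fun s => s.snd ≫ pullback.fst p q) ?_ ?_ ?_⟩⟩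
  · intro s
    rw [Category.assoc]
    exact key1 s
  · intro s
    apply pullback.hom_ext
    · simp only [pullback.map, pullback.lift_fst, pullback.lift_snd, pullback.lift_fst_assoc, pullback.lift_snd_assoc, Category.assoc, Category.id_comp, Category.comp_id]
    · rw [← cancel_mono iY]
      simp only [Category.assoc, pullback.lift_snd]
      rw [hf, reassoc_of% (key1 s), key2 s]
  · intro s m _ hm2
    rw [← hm2]
    simp only [pullback.map, pullback.lift_fst, pullback.lift_snd, pullback.lift_fst_assoc, pullback.lift_snd_assoc, Category.assoc, Category.id_comp, Category.comp_id]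

end aux

open AlgebraicGeometry in
/-- Formal schemes are presented as locally Noetherian adic systems of thickenings and the fibre product
is taken levelwise (it presents the fibre product of formal schemes since one factor is adic over
the base). Let 𝔖 be a locally Noetherian formal system, 𝔛 and 𝔜 locally Noetherian formal systems
over 𝔖 such that 𝔛 or 𝔜 is of finite type over 𝔖, and 𝔜 separated over 𝔖 at level 0. Then for every
𝔖-morphism f : 𝔛 → 𝔜 the graph morphism 𝔛 → 𝔛 ×_𝔖 𝔜 is a closed immersion: adic, with level 0 a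
closed immersion. -/
theorem result {𝔛 𝔜 𝔖 : FSch.Sys.{u}} (h𝔖 : 𝔖.IsLocNoethFormal) (h𝔛 : 𝔛.IsLocNoethFormal)
    (h𝔜 : 𝔜.IsLocNoethFormal) (p : 𝔛 ⟶ 𝔖) (q : 𝔜 ⟶ 𝔖) (hpq : FSch.IsFiniteTypeHom p ∨ FSch.IsFiniteTypeHom q)
    (hq : IsSeparated ((q : FSch.Hom 𝔜 𝔖).app 0)) (f : 𝔛 ⟶ 𝔜) (w : f ≫ q = p) :
    FSch.IsClosedImmHom (FSch.graph f p q w) := by
  subst w
  refine ⟨fun n => ?_, ?_⟩
  · have hci := (h𝔜.1 n).1
    have hmono : Mono (𝔜.ι n) := inferInstance
    exact graph_isPullback (𝔛.ι n) (𝔜.ι n) (𝔖.ι n) ((f : FSch.Hom 𝔛 𝔜).app n)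
      ((f : FSch.Hom 𝔛 𝔜).app (n + 1)) ((q : FSch.Hom 𝔜 𝔖).app n) ((q : FSch.Hom 𝔜 𝔖).app (n + 1))
      ((f ≫ q : FSch.Hom 𝔛 𝔖).app n) ((f ≫ q : FSch.Hom 𝔛 𝔖).app (n + 1))
      ((f : FSch.Hom 𝔛 𝔜).comm n) ((q : FSch.Hom 𝔜 𝔖).comm n) ((f ≫ q : FSch.Hom 𝔛 𝔖).comm n) _ _
  · have := hq
    show IsClosedImmersion (Limits.pullback.lift (𝟙 _) ((f : FSch.Hom 𝔛 𝔜).app 0)
      (Category.id_comp ((f : FSch.Hom 𝔛 𝔜).app 0 ≫ (q : FSch.Hom 𝔜 𝔖).app 0)))
    infer_instance

end Groth.Agent.S13341
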