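import Groth.Statements.S13342
import Groth.Agent.H93.SysPull

set_option autoImplicit false
open CategoryTheory CategoryTheory.Limits
universe u
open FCompl

namespace Groth.Agent.S13342

section aux
open AlgebraicGeometry TopologicalSpace

lemma isPullback_resLE_ι {X Y : Scheme.{u}} (f : X ⟶ Y) (U : Y.Opens) (V : X.Opens)
    (e : V = f ⁻¹ᵁ U) : IsPullback (f.resLE U V e.le) V.ι U.ι f := by
  subst e
  rw [Scheme.Hom.resLE_eq_morphismRestrict]
  exact isPullback_morphismRestrict f U

lemma isAdicHom_restrictOpenι (𝔛 : FSch.Sys.{u}) (h : 𝔛.IsFormal) (U : (𝔛.X 0).Opens) :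
    FSch.IsAdicHom (𝔛.restrictOpenι h U) := by
  intro n
  exact isPullback_resLE_ι (𝔛.ι n) (𝔛.lvU h (n + 1) U) (𝔛.lvU h n U) (𝔛.lvU_succ h n U).symm

lemma compactSpace_opens {X : Scheme.{u}} [IsLocallyNoetherian X] [CompactSpace X] (V : X.Opens) :
    CompactSpace V.toScheme := by
  have : IsNoetherian X := { toIsLocallyNoetherian := inferInstance, toCompactSpace := inferInstance }
  have hN : NoetherianSpace X := inferInstance
  exact isCompact_iff_compactSpace.mp (NoetherianSpace.isCompact (V : Set X))

end aux

open AlgebraicGeometry in
/-- The formal prescheme induced on an open subset of a formal prescheme (resp. of a locally Noetherian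
formal prescheme, resp. of a Noetherian formal prescheme) is a formal prescheme (resp. a locally
Noetherian formal prescheme, resp. a Noetherian formal prescheme). In the presentation by systems of
thickenings with common underlying space: for an open U, the induced system (the open subschemes of
the levels over U with the restricted transition maps) is again a system of thickenings; it is adic
with locally Noetherian levels when the given system is; and if moreover the common underlying space
is quasi-compact (a Noetherian formal prescheme), so is that of the induced system. -/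
theorem result (𝔛 : FSch.Sys.{u}) (h : 𝔛.IsFormal) (U : (𝔛.X 0).Opens) :
    (𝔛.restrictOpen h U).IsFormal ∧ (𝔛.IsLocNoethFormal → (𝔛.restrictOpen h U).IsLocNoethFormal) ∧
      (𝔛.IsLocNoethFormal → CompactSpace (𝔛.X 0) → CompactSpace ((𝔛.restrictOpen h U).X 0)) := by
  have hadic := isAdicHom_restrictOpenι 𝔛 h U
  have hF : (𝔛.restrictOpen h U).IsFormal :=
    Groth.Agent.H93.SysPull.isFormal_of_isAdicHom _ hadic h
  refine ⟨hF, fun hN => ⟨hF, Groth.Agent.H93.SysPull.isAdic_of_isAdicHom _ hadic h hN.2.1,
    fun n => ?_⟩, fun hN hC => ?_⟩
  · have := hN.2.2 n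
    exact (inferInstance : IsLocallyNoetherian (𝔛.lvU h n U).toScheme)
  · have := hN.2.2 0
    exact compactSpace_opens (𝔛.lvU h 0 U)

end Groth.Agent.S13342
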