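import Groth.Statements.S13347
import Groth.Agent.H93.ThickQAff

set_option autoImplicit false
open CategoryTheory CategoryTheory.Limits
universe u
open Opposite
open FCompl

namespace Groth.Agent.S13347

section aux

variable {F : ℕᵒᵖ ⥤ Type u}

/-- successive preimages starting from level `i`. -/
private noncomputable def pre
    (hF : ∀ n, Function.Surjective (F.map (homOfLE (Nat.le_succ n)).op)) (i : ℕ)
    (a : F.obj ⟨i⟩) : (k : ℕ) → F.obj ⟨i + k⟩
  | 0 => a
  | k + 1 => (hF (i + k) (pre hF i a k)).choose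

private lemma pre_succ
    (hF : ∀ n, Function.Surjective (F.map (homOfLE (Nat.le_succ n)).op)) (i : ℕ)
    (a : F.obj ⟨i⟩) (k : ℕ) :
    F.map (homOfLE (Nat.le_succ (i + k))).op (pre hF i a (k + 1)) = pre hF i a k :=
  (hF (i + k) (pre hF i a k)).choose_spec

private lemma map_map (F : ℕᵒᵖ ⥤ Type u) {a b c : ℕ} (h₁ : a ≤ b) (h₂ : b ≤ c) (x : F.obj ⟨c⟩) :
    F.map (homOfLE h₁).op (F.map (homOfLE h₂).op x) = F.map (homOfLE (h₁.trans h₂)).op x := by
  rw [← FunctorToTypes.map_comp_apply]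
  rfl

private lemma pre_le
    (hF : ∀ n, Function.Surjective (F.map (homOfLE (Nat.le_succ n)).op)) (i : ℕ)
    (a : F.obj ⟨i⟩) (k k' : ℕ) (hk : k ≤ k') :
    F.map (homOfLE (Nat.add_le_add_left hk i)).op (pre hF i a k') = pre hF i a k := by
  induction k', hk using Nat.le_induction with
  | base =>
    have : (homOfLE (Nat.add_le_add_left (le_refl k) i)).op = 𝟙 (Opposite.op (i + k)) := rfl
    rw [this, FunctorToTypes.map_id_apply]
  | succ m hm ih =>
    rw [← ih, ← pre_succ hF i a m, map_map]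

lemma surj_π (c : Cone F) (hc : IsLimit c)
    (hF : ∀ n, Function.Surjective (F.map (homOfLE (Nat.le_succ n)).op)) (i : ℕ) :
    Function.Surjective (c.π.app ⟨i⟩) := by
  intro a
  let x : ∀ j : ℕᵒᵖ, F.obj j := fun j =>
    F.map (homOfLE (Nat.le_add_left j.unop i)).op (pre hF i a j.unop)
  have hx : x ∈ F.sections := by
    intro ⟨n⟩ ⟨m⟩ ⟨⟨⟨(h : m ≤ n)⟩⟩⟩
    show F.map (homOfLE h).op (F.map (homOfLE (Nat.le_add_left n i)).op (pre hF i a n)) =
      F.map (homOfLE (Nat.le_add_left m i)).op (pre hF i a m)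
    rw [map_map, ← pre_le hF i a m n h, map_map]
  refine ⟨(Types.isLimitEquivSections hc).symm ⟨x, hx⟩, ?_⟩
  rw [Types.isLimitEquivSections_symm_apply]
  show F.map (homOfLE (Nat.le_add_left i i)).op (pre hF i a i) = a
  exact pre_le hF i a 0 i (Nat.zero_le i)

end aux

section geom
open AlgebraicGeometry TopologicalSpace

lemma appLE_surjective_of_eq {X Y : Scheme.{u}} (f : X ⟶ Y) [IsClosedImmersion f] (U : Y.Opens)
    (hU : IsAffineOpen U) (V : X.Opens) (e : V = f ⁻¹ᵁ U) :
    Function.Surjective (f.appLE U V e.le) := by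
  subst e
  rw [Scheme.Hom.appLE_eq_app]
  exact f.app_surjective U hU

lemma toX_preimage_lvU (𝔛 : FSch.Sys.{u}) (h : 𝔛.IsFormal) (n : ℕ) (U : (𝔛.X 0).Opens) :
    (𝔛.toX n) ⁻¹ᵁ (𝔛.lvU h n U) = U := by
  change (Opens.map ((𝔛.toX n).base ≫ 𝔛.gInv h n)).obj U = _
  rw [FSch.Sys.toX_base_gInv]
  rfl

lemma isAffineOpen_lvU (𝔛 : FSch.Sys.{u}) (h : 𝔛.IsFormal) (n : ℕ) (U : (𝔛.X 0).Opens)
    (hU : IsAffineOpen U) : IsAffineOpen (𝔛.lvU h n U) := by
  have := FSch.Sys.toX_isClosedImmersion 𝔛 h n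
  apply Groth.Agent.H93.ThickQAff.affineOpen_of_preimage (𝔛.toX n)
    (FSch.Sys.toX_surjective 𝔛 h n)
  rw [toX_preimage_lvU]
  exact hU

/-- evaluation of sheaves of rings at an open, to types. -/
noncomputable abbrev E (𝔛 : FSch.Sys.{u}) (U : (𝔛.X 0).Opens) :
    Sheaf (Opens.grothendieckTopology (𝔛.X 0)) CommRingCat.{u} ⥤ Type u :=
  sheafToPresheaf _ _ ⋙ (evaluation _ _).obj (op U) ⋙ forget CommRingCat

end geom

open AlgebraicGeometry in
/-- Let (X_i) be an inductive system of preschemes on one underlying space with surjective transition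
homomorphisms whose kernels O_{X_i} → O_{X_0} are locally nilpotent — here a system of thickenings
(closed immersions surjective on points) with the kernel ideal of X_0 → X_i nilpotent on every
affine open of X_i — and O_𝔛 = lim O_{X_i} the structure sheaf of the formal prescheme it defines.
Then the canonical homomorphisms O_𝔛 → O_{X_i} are surjective: over every affine open U of X_0 the
map on sections Γ(U, O_𝔛) → Γ(U_i, O_{X_i}) is onto. -/
theorem result (𝔛 : FSch.Sys.{u}) (h : 𝔛.IsFormal)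
    (hb : ∀ (i : ℕ) (V : (𝔛.X i).affineOpens), IsNilpotent ((𝔛.toX i).ker.ideal V))
    (i : ℕ) (U : (𝔛.X 0).Opens) (hU : IsAffineOpen U) :
    Function.Surjective ((𝔛.OshProj h i).hom.app (op U)) := by
  have hc : IsLimit ((E 𝔛 U).mapCone (limit.cone (𝔛.levelRing h))) :=
    isLimitOfPreserves (E 𝔛 U) (limit.isLimit _)
  have hF : ∀ n, Function.Surjective
      ((𝔛.levelRing h ⋙ E 𝔛 U).map (homOfLE (Nat.le_succ n)).op) := by
    intro n
    have h1 : (𝔛.levelRing h).map (homOfLE (Nat.le_succ n)).op = 𝔛.levelMap h n :=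
      FSch.Sys.levelRing_map_succ 𝔛 h n
    have h2 := (h n).1
    have h3 : Function.Surjective ((𝔛.levelMap h n).hom.app (op U)) := by
      rw [FSch.Sys.levelMap_app]
      exact appLE_surjective_of_eq (𝔛.ι n) _ (isAffineOpen_lvU 𝔛 h (n + 1) U hU) _
        (𝔛.lvU_succ h n U).symm
    intro y
    obtain ⟨x, hx⟩ := h3 y
    refine ⟨x, ?_⟩
    show ((𝔛.levelRing h).map (homOfLE (Nat.le_succ n)).op).hom.app (op U) x = y
    rw [h1]
    exact hx
  intro s
  obtain ⟨x, hx⟩ := surj_π _ hc hF i s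
  exact ⟨x, hx⟩

end Groth.Agent.S13347
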