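import Groth.Statements.S1335
import Groth.Agent.H37.GeomSepClosed

set_option autoImplicit false
universe u
open FlatMor

namespace Groth.Agent.S1335

open AlgebraicGeometry CategoryTheory Limits in
/-- The function on the target counting the connected components of the geometric fibres is compatible
with base change: for a cartesian square it is obtained on the new base by composing with the map to
the old base. -/
theorem result {X Y X' Y' : Scheme.{u}} (f : X ⟶ Y) (f' : X' ⟶ Y') (g' : X' ⟶ X) (g : Y' ⟶ Y)
    (hc : IsPullback g' f' f g) (y' : Y') :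
    MoreMor.nGeomConnComp f' y' = MoreMor.nGeomConnComp f (g y') := by
  have sqF := isPullback_fiberToSpecResidueField_of_isPullback hc y'
  obtain ⟨φ, hφ⟩ : ∃ φ : f'.fiber y' ⟶ f.fiber (g y'), φ =
    pullback.map _ _ _ _ g' (Spec.map (g.residueFieldMap y')) g hc.w.symm (by simp) := ⟨_, rfl⟩
  rw [← hφ] at sqF
  letI alg1 : Algebra (Y.residueField (g y')) (SeparableClosure (Y'.residueField y')) :=
    ((algebraMap (Y'.residueField y') (SeparableClosure (Y'.residueField y'))).comp
      (g.residueFieldMap y').hom).toAlgebra
  obtain ⟨σ⟩ : Nonempty (SeparableClosure (Y.residueField (g y')) →ₐ[Y.residueField (g y')]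
      SeparableClosure (Y'.residueField y')) := ⟨IsSepClosed.lift⟩
  have hσ : CommRingCat.ofHom (algebraMap (Y.residueField (g y'))
        (SeparableClosure (Y.residueField (g y')))) ≫ CommRingCat.ofHom σ.toRingHom =
      g.residueFieldMap y' ≫ CommRingCat.ofHom (algebraMap (Y'.residueField y')
        (SeparableClosure (Y'.residueField y'))) :=
    CommRingCat.hom_ext (RingHom.ext fun x => σ.commutes x)
  obtain ⟨q, hq⟩ : ∃ q : Spec (CommRingCat.of (SeparableClosure (Y.residueField (g y')))) ⟶
      Spec (Y.residueField (g y')), q = Spec.map (CommRingCat.ofHom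
        (algebraMap (Y.residueField (g y')) (SeparableClosure (Y.residueField (g y'))))) :=
    ⟨_, rfl⟩
  obtain ⟨q', hq'⟩ : ∃ q' : Spec (CommRingCat.of (SeparableClosure (Y'.residueField y'))) ⟶
      Spec (Y'.residueField y'), q' = Spec.map (CommRingCat.ofHom
        (algebraMap (Y'.residueField y') (SeparableClosure (Y'.residueField y')))) :=
    ⟨_, rfl⟩
  obtain ⟨b, hb⟩ : ∃ b : Spec (CommRingCat.of (SeparableClosure (Y'.residueField y'))) ⟶
      Spec (CommRingCat.of (SeparableClosure (Y.residueField (g y')))),
      b = Spec.map (CommRingCat.ofHom σ.toRingHom) := ⟨_, rfl⟩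
  have hbq : b ≫ q = q' ≫ Spec.map (g.residueFieldMap y') := by
    rw [hb, hq, hq', ← Spec.map_comp, ← Spec.map_comp, hσ]
    rfl
  have hb1 : GeometricallyConnected b := by
    letI := σ.toRingHom.toAlgebra
    rw [hb]
    exact Groth.Agent.H37.geomConn_specMap_of_isSepClosed
      (k := SeparableClosure (Y.residueField (g y')))
      (K := SeparableClosure (Y'.residueField y'))
  have hb2 : UniversallyOpen b := by
    letI := σ.toRingHom.toAlgebra
    rw [hb]
    exact Groth.Agent.H37.univOpen_specMap_field
      (k := SeparableClosure (Y.residueField (g y')))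
      (K := SeparableClosure (Y'.residueField y'))
  suffices key : ENat.card (_root_.ConnectedComponents ↥(pullback (f'.fiberToSpecResidueField y') q')) =
      ENat.card (_root_.ConnectedComponents ↥(pullback (f.fiberToSpecResidueField (g y')) q)) by
    subst hq hq'
    exact key
  have hw : (pullback.fst (f'.fiberToSpecResidueField y') q' ≫ φ) ≫
      f.fiberToSpecResidueField (g y') =
      (pullback.snd (f'.fiberToSpecResidueField y') q' ≫ b) ≫ q := by
    calc (pullback.fst (f'.fiberToSpecResidueField y') q' ≫ φ) ≫
          f.fiberToSpecResidueField (g y')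
        = pullback.fst (f'.fiberToSpecResidueField y') q' ≫
            (φ ≫ f.fiberToSpecResidueField (g y')) := Category.assoc _ _ _
      _ = pullback.fst (f'.fiberToSpecResidueField y') q' ≫
            (f'.fiberToSpecResidueField y' ≫ Spec.map (g.residueFieldMap y')) :=
          congrArg (fun t => pullback.fst (f'.fiberToSpecResidueField y') q' ≫ t) sqF.w
      _ = (pullback.fst (f'.fiberToSpecResidueField y') q' ≫
            f'.fiberToSpecResidueField y') ≫ Spec.map (g.residueFieldMap y') :=
          (Category.assoc _ _ _).symm
      _ = (pullback.snd (f'.fiberToSpecResidueField y') q' ≫ q') ≫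
            Spec.map (g.residueFieldMap y') :=
          congrArg (fun t => t ≫ Spec.map (g.residueFieldMap y')) pullback.condition
      _ = pullback.snd (f'.fiberToSpecResidueField y') q' ≫
            (q' ≫ Spec.map (g.residueFieldMap y')) := Category.assoc _ _ _
      _ = pullback.snd (f'.fiberToSpecResidueField y') q' ≫ (b ≫ q) :=
          congrArg (fun t => pullback.snd (f'.fiberToSpecResidueField y') q' ≫ t) hbq.symm
      _ = (pullback.snd (f'.fiberToSpecResidueField y') q' ≫ b) ≫ q :=
          (Category.assoc _ _ _).symm
  obtain ⟨ψ, hψ1, hψ2⟩ : ∃ ψ : pullback (f'.fiberToSpecResidueField y') q' ⟶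
      pullback (f.fiberToSpecResidueField (g y')) q,
      ψ ≫ pullback.fst _ _ = pullback.fst (f'.fiberToSpecResidueField y') q' ≫ φ ∧
      ψ ≫ pullback.snd _ _ = pullback.snd (f'.fiberToSpecResidueField y') q' ≫ b :=
    ⟨pullback.lift _ _ hw, pullback.lift_fst _ _ _, pullback.lift_snd _ _ _⟩
  have sqG : IsPullback ψ (pullback.snd (f'.fiberToSpecResidueField y') q')
      (pullback.snd (f.fiberToSpecResidueField (g y')) q) b := by
    refine IsPullback.of_right ?_ hψ2
      (IsPullback.of_hasPullback (f.fiberToSpecResidueField (g y')) q)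
    rw [hψ1, hbq]
    exact (IsPullback.of_hasPullback (f'.fiberToSpecResidueField y') q').paste_horiz sqF
  haveI : GeometricallyConnected ψ :=
    MorphismProperty.of_isPullback (P := @GeometricallyConnected) sqG.flip hb1
  haveI : UniversallyOpen ψ :=
    MorphismProperty.of_isPullback (P := @UniversallyOpen) sqG.flip hb2
  exact ENat.card_congr (ψ.connectedComponentsHomeomorph ψ.isOpenMap).toEquiv

end Groth.Agent.S1335
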