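import Groth.Statements.S13354
import Groth.Agent.H15.AdicAdm
import Groth.Agent.H54.IntegralDim

set_option autoImplicit false
universe u
open AdicRing

namespace Groth.Agent.S13354

/-- Let R be a complete valuation ring of height one with t a nonzero element generating an ideal of
definition, B an admissible R-algebra which is a local integral domain of Krull dimension one (the
algebra of a rig-point), and b_1, ..., b_n elements of B, not all zero. Then there is a B-subalgebra
B' of the field of fractions of B which is finite over B, is again a local ring of Krull dimension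
one, and in which the ideal generated by b_1, ..., b_n is generated by one of the b_i alone (hence
is invertible). (This is the algebraic step by which a rig-point is lifted along the formal
blowing-up of a finitely generated open ideal; the resulting bijection between rig-points of the
blowing-up and of the base is not stated here.) -/
theorem result
    (R : Type u) [CommRing R] [IsDomain R] [ValuationRing R] [Ring.KrullDimLE 1 R]
    (t : R) (ht : t ≠ 0) [IsAdicComplete (Ideal.span {t}) R]
    (B : Type u) [CommRing B] [Algebra R B] [IsDomain B] [IsLocalRing B]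
    (hB : AdicRing.Admissible R (Ideal.span {t}) B) (hdim : ringKrullDim B = 1)
    (n : ℕ) (b : Fin n → B) (hb : ∃ i, b i ≠ 0) :
    ∃ B' : Subalgebra B (FractionRing B), Module.Finite B ↥B' ∧ IsLocalRing ↥B' ∧ ringKrullDim ↥B' = 1 ∧
      ∃ i, Ideal.span (Set.range (fun j => algebraMap B ↥B' (b j))) =
        Ideal.span {algebraMap B ↥B' (b i)} := by
  classical
  have hfin : Module.Finite R B := Groth.Agent.H15.AdicAdm.finite_of_admissible R ht B hB hdim
  haveI : Algebra.IsIntegral R B := Algebra.IsIntegral.of_finite R B
  have hinj : Function.Injective (algebraMap R B) :=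
    Groth.Agent.H15.AdicAdm.injective_algebraMap R B hB.2
  haveI hV : ValuationRing (integralClosure B (FractionRing B)) :=
    Groth.Agent.H15.AdicAdm.valuationRing_integralClosure R ht B hinj
  haveI := Groth.Agent.H15.AdicAdm.henselianLocalRing R ht
  -- the images of the `b j` in the valuation ring
  let β : Fin n → integralClosure B (FractionRing B) := fun j => algebraMap B _ (b j)
  have hmin : ∀ s : Finset (Fin n), s.Nonempty → ∃ i ∈ s, ∀ j ∈ s, β i ∣ β j := by
    intro s hs
    induction hs using Finset.Nonempty.cons_induction with
    | singleton a => exact ⟨a, by simp, by simp⟩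
    | cons a s ha hs ih =>
      obtain ⟨i, hi, hij⟩ := ih
      rcases ValuationRing.dvd_total (β i) (β a) with h | h
      · refine ⟨i, by simp [hi], fun j hj => ?_⟩
        rcases Finset.mem_cons.mp hj with rfl | hj
        · exact h
        · exact hij j hj
      · refine ⟨a, by simp, fun j hj => ?_⟩
        rcases Finset.mem_cons.mp hj with rfl | hj
        · exact dvd_rfl
        · exact h.trans (hij j hj)
  obtain ⟨i₀, hi₀⟩ := hb
  obtain ⟨i, -, hi⟩ := hmin Finset.univ ⟨i₀, Finset.mem_univ _⟩
  have hdiv : ∀ j, ∃ v : integralClosure B (FractionRing B), β j = β i * v :=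
    fun j => hi j (Finset.mem_univ _)
  choose v hv using hdiv
  have hvL : ∀ j, algebraMap B (FractionRing B) (b j) =
      algebraMap B (FractionRing B) (b i) * (v j : FractionRing B) := by
    intro j
    have := congrArg Subtype.val (hv j)
    exact this
  have hvint : ∀ j, IsIntegral B (v j : FractionRing B) := fun j => (v j).2
  let B' : Subalgebra B (FractionRing B) :=
    Algebra.adjoin B (Set.range fun j => (v j : FractionRing B))
  have hB'fg : (Subalgebra.toSubmodule B').FG :=
    fg_adjoin_of_finite (Set.finite_range _) (by rintro _ ⟨j, rfl⟩; exact hvint j)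
  haveI hB'fin : Module.Finite B ↥B' := Module.Finite.iff_fg.mpr hB'fg
  haveI : Algebra.IsIntegral B ↥B' := Algebra.IsIntegral.of_finite B ↥B'
  haveI : Algebra.IsIntegral R ↥B' := Algebra.IsIntegral.trans B
  haveI hloc : IsLocalRing ↥B' :=
    Groth.Agent.H15.AdicVal.isLocalRing_of_isIntegral_of_isDomain R ↥B'
  have hinjB' : Function.Injective (algebraMap B ↥B') := by
    intro x y hxy
    have h1 : algebraMap B (FractionRing B) x = algebraMap B (FractionRing B) y :=
      congrArg Subtype.val hxy
    exact IsFractionRing.injective B (FractionRing B) h1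
  have hdim' : ringKrullDim ↥B' = 1 := by
    rw [Groth.Agent.H54.ringKrullDim_eq_of_isIntegral_of_injective (R := B) (S := ↥B') hinjB']
    exact hdim
  refine ⟨B', hB'fin, hloc, hdim', i, ?_⟩
  apply le_antisymm
  · rw [Ideal.span_le]
    rintro _ ⟨j, rfl⟩
    rw [SetLike.mem_coe, Ideal.mem_span_singleton]
    refine ⟨⟨(v j : FractionRing B), Algebra.subset_adjoin ⟨j, rfl⟩⟩, ?_⟩
    apply Subtype.ext
    exact hvL j
  · rw [Ideal.span_le, Set.singleton_subset_iff]
    exact Ideal.subset_span ⟨i, rfl⟩

end Groth.Agent.S13354
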