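import Groth.Statements.S13356
import Groth.Agent.H80.FormalChar

set_option autoImplicit false
universe u
open GaDual

namespace Groth.Agent.S13356

/-- Over a commutative algebra A over the rationals, the polynomials f with f(0) = 1 and f(X+Y) =
f(X)f(Y) (the characters of the additive group into the multiplicative group over A) are exactly the
polynomials exp(aX) with a in A nilpotent. -/
theorem result (A : Type u) [CommRing A] [Algebra ℚ A] (f : Polynomial A) :
    (f.eval 0 = 1 ∧
      Polynomial.aeval (MvPolynomial.X 0 + MvPolynomial.X 1 : MvPolynomial (Fin 2) A) f =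
        Polynomial.aeval (MvPolynomial.X 0 : MvPolynomial (Fin 2) A) f *
          Polynomial.aeval (MvPolynomial.X 1 : MvPolynomial (Fin 2) A) f) ↔
      ∃ a : A, IsNilpotent a ∧ (f : PowerSeries A) = PowerSeries.rescale a (PowerSeries.exp A) := by
  rw [Groth.Agent.H80.FormalChar.polyChar_iff, ← Polynomial.coeff_zero_eq_eval_zero]
  have key := Groth.Agent.H80.FormalChar.rat_rel_iff (A := A) (fun n => f.coeff n)
  rw [key]
  constructor
  · rintro ⟨a, ha⟩
    refine ⟨a, ?_, ?_⟩
    · refine ⟨f.natDegree + 1, ?_⟩
      have h1 : f.coeff (f.natDegree + 1) = a ^ (f.natDegree + 1) *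
          Groth.Agent.H80.FormalChar.qi (A := A) (f.natDegree + 1) := ha (f.natDegree + 1)
      rw [Polynomial.coeff_eq_zero_of_natDegree_lt (Nat.lt_succ_self _)] at h1
      have h2 := Groth.Agent.H80.FormalChar.fact_mul_qi (A := A) (f.natDegree + 1)
      calc a ^ (f.natDegree + 1)
          = (a ^ (f.natDegree + 1) * Groth.Agent.H80.FormalChar.qi (A := A) (f.natDegree + 1)) *
              (((f.natDegree + 1).factorial : ℕ) : A) := by
            rw [mul_assoc, mul_comm (Groth.Agent.H80.FormalChar.qi (A := A) (f.natDegree + 1)), h2, mul_one]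
        _ = 0 := by rw [← h1, zero_mul]
    · ext n
      rw [Groth.Agent.H80.FormalChar.coeff_rescale_exp, Polynomial.coeff_coe]
      exact ha n
  · rintro ⟨a, -, ha⟩
    refine ⟨a, fun n => ?_⟩
    have := congrArg (PowerSeries.coeff n) ha
    rw [Groth.Agent.H80.FormalChar.coeff_rescale_exp, Polynomial.coeff_coe] at this
    exact this

end Groth.Agent.S13356
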