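import Groth.Statements.S13357
import Groth.Agent.H80.GaChar

set_option autoImplicit false
universe u
open GaDual

namespace Groth.Agent.S13357

/-- Over a commutative algebra A of prime characteristic p, the polynomials f with f(0) = 1 and f(X+Y) =
f(X)f(Y) (the characters of the additive group into the multiplicative group over A) are exactly the
finite products of truncated exponentials exp_p(a_n X^(p^n)) = Σ_{j<p} a_n^j X^(j p^n)/j! with a_n^p
= 0. -/
theorem result (p : ℕ) [Fact p.Prime] (A : Type u) [CommRing A] [CharP A p]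
    (f : Polynomial A) :
    (f.eval 0 = 1 ∧
      Polynomial.aeval (MvPolynomial.X 0 + MvPolynomial.X 1 : MvPolynomial (Fin 2) A) f =
        Polynomial.aeval (MvPolynomial.X 0 : MvPolynomial (Fin 2) A) f *
          Polynomial.aeval (MvPolynomial.X 1 : MvPolynomial (Fin 2) A) f) ↔
      ∃ (N : ℕ) (a : ℕ → A), (∀ n, a n ^ p = 0) ∧
        f = ∏ n ∈ Finset.range N, ∑ j ∈ Finset.range p,
          Polynomial.C (Ring.inverse (j.factorial : A) * a n ^ j) * Polynomial.X ^ (j * p ^ n) := by
  classical
  have hpp := (Fact.out : p.Prime)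
  simp only [Groth.Agent.H80.GaChar.factor_eq]
  constructor
  · intro hf
    have hf' : Groth.Agent.H80.GaChar.PolyChar f := hf
    set N := f.natDegree + 1 with hN
    have hNlt : f.natDegree < p ^ N := by
      calc f.natDegree < N := Nat.lt_succ_self _
        _ < p ^ N := Nat.lt_pow_self hpp.one_lt
    have h0 : f.coeff 0 = 1 := by rw [Polynomial.coeff_zero_eq_eval_zero]; exact hf.1
    obtain ⟨h1, h2⟩ := Groth.Agent.H80.GaChar.charCoeff p N f.coeff h0
      (fun i j _ _ => Groth.Agent.H80.GaChar.polyChar_rel hf' i j)
    refine ⟨N, fun n => if n < N then f.coeff (p ^ n) else 0, ?_, ?_⟩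
    · intro n
      show (if n < N then f.coeff (p ^ n) else 0) ^ p = 0
      split_ifs with h
      · exact h1 n h
      · exact zero_pow hpp.ne_zero
    · have e : (∏ n ∈ Finset.range N, Groth.Agent.H80.GaChar.Ea p n (if n < N then f.coeff (p ^ n) else 0)) =
          Groth.Agent.H80.GaChar.Pn p N (fun i => f.coeff (p ^ i)) := by
        rw [Groth.Agent.H80.GaChar.Pn]
        apply Finset.prod_congr rfl
        intro n hn
        rw [if_pos (Finset.mem_range.mp hn)]
      rw [e]
      ext k
      by_cases hk : k < p ^ N
      · exact h2 k hk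
      · rw [Groth.Agent.H80.GaChar.Pn_coeff_ge p N _ k (by omega),
          Polynomial.coeff_eq_zero_of_natDegree_lt (by omega)]
  · rintro ⟨N, a, ha, rfl⟩
    exact Groth.Agent.H80.GaChar.polyChar_prod _ _
      (fun n _ => Groth.Agent.H80.GaChar.polyChar_Ea p n (a n) (ha n))

end Groth.Agent.S13357
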