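import Groth.Statements.S13358
import Groth.Agent.H80.Lazard

set_option autoImplicit false
universe u
open GaDual

namespace Groth.Agent.S13358

/-- Over a commutative algebra R of prime characteristic p, a polynomial F(X,Y) is symmetric and
satisfies the two-cocycle identity F(X,Y+Z) + F(Y,Z) − F(X+Y,Z) − F(X,Y) = 0 if and only if it has
the form G(X+Y) − G(X) − G(Y) + Σ_i r_i S(X^(p^i), Y^(p^i)) with G a one-variable polynomial, r_i in
R and S(X,Y) = Σ_{0<j<p} (C(p,j)/p) X^j Y^(p−j) the reduction mod p of ((X+Y)^p − X^p − Y^p)/p. -/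
theorem result (p : ℕ) [Fact p.Prime] (R : Type u) [CommRing R] [CharP R p]
    (F : MvPolynomial (Fin 2) R) :
    (MvPolynomial.aeval ![MvPolynomial.X 1, MvPolynomial.X 0] F = F ∧
      MvPolynomial.aeval ![MvPolynomial.X 0, MvPolynomial.X 1 + MvPolynomial.X 2] F
          + MvPolynomial.aeval ![MvPolynomial.X 1, MvPolynomial.X 2] F
          - MvPolynomial.aeval ![MvPolynomial.X 0 + MvPolynomial.X 1, MvPolynomial.X 2] F
          - MvPolynomial.aeval ![MvPolynomial.X 0, MvPolynomial.X 1] F = (0 : MvPolynomial (Fin 3) R)) ↔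
      ∃ (G : Polynomial R) (N : ℕ) (r : ℕ → R),
        F = Polynomial.aeval (MvPolynomial.X 0 + MvPolynomial.X 1 : MvPolynomial (Fin 2) R) G
              - Polynomial.aeval (MvPolynomial.X 0 : MvPolynomial (Fin 2) R) G
              - Polynomial.aeval (MvPolynomial.X 1 : MvPolynomial (Fin 2) R) G
            + ∑ i ∈ Finset.range N, MvPolynomial.C (r i) *
                MvPolynomial.aeval ![MvPolynomial.X 0 ^ p ^ i, MvPolynomial.X 1 ^ p ^ i]
                  (∑ j ∈ Finset.Ioo 0 p, MvPolynomial.C ((p.choose j / p : ℕ) : R) *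
                    MvPolynomial.X 0 ^ j * MvPolynomial.X 1 ^ (p - j) : MvPolynomial (Fin 2) R) := by
  classical
  have hS : ∀ i : ℕ, MvPolynomial.aeval ![(MvPolynomial.X 0 : MvPolynomial (Fin 2) R) ^ p ^ i, MvPolynomial.X 1 ^ p ^ i]
      (∑ j ∈ Finset.Ioo 0 p, MvPolynomial.C ((p.choose j / p : ℕ) : R) *
        MvPolynomial.X 0 ^ j * MvPolynomial.X 1 ^ (p - j) : MvPolynomial (Fin 2) R) =
      Groth.Agent.H80.Lazard.SS (A := R) p i := fun i =>
    (Groth.Agent.H80.Lazard.SS_eq_aeval (A := R) p i).symm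
  simp only [hS]
  constructor
  · rintro ⟨hsw, hL⟩
    obtain ⟨D, hD⟩ := Groth.Agent.H80.Lazard.exists_bound F
    obtain ⟨G, N, r, -, -, hF⟩ := Groth.Agent.H80.Lazard.lazard p (⊤ : Ideal R) D F hsw hL
      (fun _ _ => Submodule.mem_top) hD
    exact ⟨G, N, r, hF⟩
  · rintro ⟨G, N, r, hF⟩
    have h := Groth.Agent.H80.Lazard.lazard_converse (A := R) p G N r
    have hF' : F = Groth.Agent.H80.Lazard.dl G +
        ∑ i ∈ Finset.range N, MvPolynomial.C (r i) * Groth.Agent.H80.Lazard.SS (A := R) p i := hF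
    rw [← hF'] at h
    exact h

end Groth.Agent.S13358
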