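import Groth.Statements.S13363
import Groth.Agent.H66.EssSocle
import Mathlib.Topology.Algebra.OpenSubgroup
import Mathlib.GroupTheory.Index
import Mathlib.Order.Zorn

set_option autoImplicit false
universe u
open ProCompl

namespace Groth.Agent.S13363

/-- Let A be a topological abelian group such that the subgroup n·A is open for each n > 0, and a ∈ A.
Then A has an open subgroup of finite index not containing a if and only if a does not lie in the
subgroup of divisible elements ∩_n nA. -/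
theorem result {A : Type u} [AddCommGroup A]
    [TopologicalSpace A] [IsTopologicalAddGroup A]
    (hn : ∀ n : ℕ, 0 < n → IsOpen (Set.range (fun x : A => n • x))) (a : A) :
    (∃ B : AddSubgroup A, IsOpen (B : Set A) ∧ B.FiniteIndex ∧ a ∉ B) ↔
      ¬ (∀ n : ℕ, 0 < n → ∃ b : A, n • b = a) := by
  constructor
  · rintro ⟨B, hBo, hBf, haB⟩ hdiv
    obtain ⟨b, hb⟩ := hdiv B.index (Nat.pos_of_ne_zero hBf.index_ne_zero)
    apply haB
    rw [← hb]
    exact B.nsmul_index_mem b
  · intro hnd
    have hnd' : ∃ n : ℕ, 0 < n ∧ ∀ b : A, n • b ≠ a := by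
      by_contra hcon
      apply hnd
      intro n hn
      by_contra hb
      exact hcon ⟨n, hn, fun b hba => hb ⟨b, hba⟩⟩
    obtain ⟨n, hnpos, hna⟩ := hnd'
    let nA : AddSubgroup A := (nsmulAddMonoidHom n : A →+ A).range
    have hnA : a ∉ nA := by
      rintro ⟨b, hb⟩
      exact hna b hb
    have hnAopen : IsOpen (nA : Set A) := by
      have : (nA : Set A) = Set.range (fun x : A => n • x) := by
        ext x; simp [nA, AddMonoidHom.mem_range]
      rw [this]; exact hn n hnpos
    let S : Set (AddSubgroup A) := {B | nA ≤ B ∧ a ∉ B}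
    obtain ⟨B₀, -, hmax⟩ := zorn_le_nonempty₀ S (by
      intro c hcS hc y hy
      refine ⟨sSup c, ⟨le_trans (hcS hy).1 (le_sSup hy), ?_⟩, fun z hz => le_sSup hz⟩
      rw [AddSubgroup.mem_sSup_of_directedOn ⟨y, hy⟩ hc.directedOn]
      rintro ⟨s, hs, has⟩
      exact (hcS hs).2 has) nA ⟨le_rfl, hnA⟩
    have hB₀S : B₀ ∈ S := hmax.prop
    have habar : ((a : A) : A ⧸ B₀) ≠ 0 := by
      rw [Ne, QuotientAddGroup.eq_zero_iff]; exact hB₀S.2
    have hess : ∀ D : AddSubgroup (A ⧸ B₀), D ≠ ⊥ → ((a : A) : A ⧸ B₀) ∈ D := by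
      intro D hD
      by_contra haD
      apply hD
      let B' : AddSubgroup A := D.comap (QuotientAddGroup.mk' B₀)
      have hB₀B' : B₀ ≤ B' := by
        intro x hx
        show ((x : A) : A ⧸ B₀) ∈ D
        rw [(QuotientAddGroup.eq_zero_iff x).mpr hx]
        exact D.zero_mem
      have hB'S : B' ∈ S := ⟨le_trans hB₀S.1 hB₀B', haD⟩
      have hB'le : B' ≤ B₀ := hmax.le_of_ge hB'S hB₀B'
      rw [eq_bot_iff]
      intro d hd
      obtain ⟨x, rfl⟩ := QuotientAddGroup.mk_surjective d
      have : x ∈ B₀ := hB'le hd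
      rw [AddSubgroup.mem_bot]
      exact (QuotientAddGroup.eq_zero_iff x).mpr this
    have hexp : AddMonoid.exponent (A ⧸ B₀) ≠ 0 := by
      rw [AddMonoid.exponent_ne_zero]
      refine ⟨n, hnpos, fun q => ?_⟩
      obtain ⟨x, rfl⟩ := QuotientAddGroup.mk_surjective q
      have : n • x ∈ B₀ := hB₀S.1 ⟨x, rfl⟩
      show n • ((x : A) : A ⧸ B₀) = 0
      rw [← QuotientAddGroup.mk_nsmul]
      exact (QuotientAddGroup.eq_zero_iff _).mpr this
    haveI : Finite (A ⧸ B₀) := Groth.Agent.H66.ess_finite_of_exponent _ habar hess hexp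
    exact ⟨B₀, AddSubgroup.isOpen_mono hB₀S.1 hnAopen, AddSubgroup.finiteIndex_of_finite_quotient,
      hB₀S.2⟩

end Groth.Agent.S13363
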