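import Groth.Statements.S13365
import Mathlib.Topology.Algebra.ClopenNhdofOne
import Mathlib.Topology.Algebra.Group.Quotient
import Mathlib.Topology.Connected.TotallyDisconnected

set_option autoImplicit false
universe u
open ProCompl

namespace Groth.Agent.S13365

/-- The quotient of a profinite (compact, Hausdorff, totally disconnected) abelian topological group by
a compact subgroup is profinite. -/
theorem result {A : Type u} [AddCommGroup A] [TopologicalSpace A]
    [IsTopologicalAddGroup A] [CompactSpace A] [T2Space A] [TotallyDisconnectedSpace A]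
    (B : AddSubgroup A) (hB : IsCompact (B : Set A)) :
    CompactSpace (A ⧸ B) ∧ T2Space (A ⧸ B) ∧ TotallyDisconnectedSpace (A ⧸ B) := by
  have hBc : IsClosed (B : Set A) := hB.isClosed
  have : IsClosed (B : Set A) := hBc
  refine ⟨inferInstance, inferInstance, ?_⟩
  suffices hts : TotallySeparatedSpace (A ⧸ B) from inferInstance
  rw [totallySeparatedSpace_iff_exists_isClopen]
  intro q₁ q₂ hq
  obtain ⟨x, hx⟩ := QuotientAddGroup.mk_surjective (q₂ - q₁)
  have hxB : x ∉ B := by
    intro hxB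
    have : ((x : A) : A ⧸ B) = 0 := (QuotientAddGroup.eq_zero_iff x).mpr hxB
    rw [hx, sub_eq_zero] at this
    exact hq this.symm
  -- an open subgroup containing `B` and missing `x`
  obtain ⟨V, hVo, hBV, hxV⟩ : ∃ V : AddSubgroup A, IsOpen (V : Set A) ∧ B ≤ V ∧ x ∉ V := by
    by_contra hcon
    apply hxB
    have h1 := ProfiniteGrp.closedAddSubgroup_eq_sInf_open (G := A) ⟨B, hBc⟩
    have h2 : x ∈ sInf {N : AddSubgroup A | IsOpen (N : Set A) ∧ B ≤ N} := by
      rw [AddSubgroup.mem_sInf]
      intro N hN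
      by_contra hxN
      exact hcon ⟨N, hN.1, hN.2, hxN⟩
    have h3 : (B : AddSubgroup A) = sInf {N : AddSubgroup A | IsOpen (N : Set A) ∧ B ≤ N} := h1
    rw [h3]; exact h2
  let W : AddSubgroup (A ⧸ B) := V.map (QuotientAddGroup.mk' B)
  have hWo : IsOpen (W : Set (A ⧸ B)) := by
    have : (W : Set (A ⧸ B)) = ((↑) : A → A ⧸ B) '' (V : Set A) := by
      ext q; simp [W]
    rw [this]
    exact QuotientAddGroup.isOpenMap_coe _ hVo
  have hWc : IsClosed (W : Set (A ⧸ B)) := AddSubgroup.isClosed_of_isOpen W hWo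
  have hxW : ((x : A) : A ⧸ B) ∉ W := by
    rintro ⟨v, hv, hvx⟩
    have h1 : -v + x ∈ B := QuotientAddGroup.eq.mp hvx
    have h2 : -v + x ∈ V := hBV h1
    have : x = v + (-v + x) := by abel
    rw [this] at hxV
    exact hxV (V.add_mem hv h2)
  refine ⟨(fun q => q - q₁) ⁻¹' (W : Set (A ⧸ B)), ⟨hWc.preimage (by fun_prop), hWo.preimage (by fun_prop)⟩, ?_, ?_⟩
  · show q₁ - q₁ ∈ W
    rw [sub_self]; exact W.zero_mem
  · show ¬ (q₂ - q₁ ∈ W)
    rw [← hx]; exact hxW

end Groth.Agent.S13365
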