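import Groth.Statements.S13368
import Mathlib

set_option autoImplicit false
universe u
open GaDual

namespace Groth.Agent.S13368

open IsDiscreteValuationRing

section Val
variable {R : Type u} [CommRing R] [IsDomain R] [IsDiscreteValuationRing R]

lemma addVal_sum_eq_inf {ι : Type*} (s : Finset ι) (x : ι → R)
    (h : ∀ i ∈ s, ∀ j ∈ s, addVal R (x i) = addVal R (x j) → addVal R (x i) ≠ ⊤ → i = j) :
    addVal R (∑ i ∈ s, x i) = s.inf (fun i => addVal R (x i)) := by
  classical
  induction s using Finset.induction_on with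
  | empty => simp
  | insert a s ha ih =>
    rw [Finset.sum_insert ha, Finset.inf_insert]
    have ih' := ih (fun i hi j hj =>
      h i (Finset.mem_insert_of_mem hi) j (Finset.mem_insert_of_mem hj))
    by_cases hne : addVal R (x a) = addVal R (∑ i ∈ s, x i)
    · by_cases htop : addVal R (x a) = ⊤
      · have h1 : x a = 0 := addVal_eq_top_iff.mp htop
        have h2 : ∑ i ∈ s, x i = 0 := addVal_eq_top_iff.mp (hne ▸ htop)
        rw [← ih', h1, h2, add_zero]
        simp
      · exfalso
        have hs : s.Nonempty := by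
          by_contra hs
          rw [Finset.not_nonempty_iff_eq_empty] at hs
          subst hs
          rw [Finset.sum_empty, addVal_zero] at hne
          exact htop hne
        obtain ⟨j, hj, hjinf⟩ := Finset.exists_mem_eq_inf s hs (fun i => addVal R (x i))
        have haj : a = j := h a (Finset.mem_insert_self a s) j (Finset.mem_insert_of_mem hj)
          (by rw [hne, ih', hjinf]) htop
        exact ha (haj ▸ hj)
    · rw [← ih']
      exact AddValuation.map_add_of_distinct_val _ hne

variable (p : ℕ) [hp : Fact p.Prime] {π : R} (hπ : Irreducible π)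

include hπ

lemma addVal_term (b : R) (i : ℕ) :
    addVal R (π ^ i * b ^ p) = (i : ℕ∞) + (p : ℕ∞) * addVal R b := by
  rw [addVal_mul, addVal_pow, addVal_pow, addVal_uniformizer hπ, nsmul_eq_mul, nsmul_eq_mul,
    mul_one]

lemma addVal_sum_le (b : Fin p → R) (i : Fin p) :
    addVal R (∑ j : Fin p, π ^ (j : ℕ) * b j ^ p) ≤ ((i : ℕ) : ℕ∞) + (p : ℕ∞) * addVal R (b i) := by
  have hp0 : (p : ℕ∞) ≠ 0 := by exact_mod_cast hp.out.ne_zero
  rw [addVal_sum_eq_inf, ← addVal_term p hπ]
  · exact Finset.inf_le (f := fun j : Fin p => addVal R (π ^ (j : ℕ) * b j ^ p))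
      (Finset.mem_univ i)
  · intro i _ j _ hij htop
    rw [addVal_term p hπ, addVal_term p hπ] at hij
    rw [addVal_term p hπ] at htop
    have hbi : addVal R (b i) ≠ ⊤ := by
      intro h
      apply htop
      rw [h, ENat.mul_top hp0, add_top]
    have hbj : addVal R (b j) ≠ ⊤ := by
      intro h
      apply htop
      rw [hij, h, ENat.mul_top hp0, add_top]
    obtain ⟨m, hm⟩ := ENat.ne_top_iff_exists.mp hbi
    obtain ⟨n, hn⟩ := ENat.ne_top_iff_exists.mp hbj
    rw [← hm, ← hn] at hij
    have hij' : (i : ℕ) + p * m = (j : ℕ) + p * n := by exact_mod_cast hij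
    apply Fin.ext
    have h3 := congrArg (· % p) hij'
    simp only [Nat.add_mul_mod_self_left] at h3
    rwa [Nat.mod_eq_of_lt i.2, Nat.mod_eq_of_lt j.2] at h3

lemma eq_zero_of_sum_eq_zero (b : Fin p → R) (h : ∑ j : Fin p, π ^ (j : ℕ) * b j ^ p = 0) :
    ∀ i, b i = 0 := by
  intro i
  have h1 := addVal_sum_le p hπ b i
  rw [h, addVal_zero, top_le_iff] at h1
  by_contra hne
  obtain ⟨m, hm⟩ := ENat.ne_top_iff_exists.mp (mt addVal_eq_top_iff.mp hne)
  rw [← hm] at h1
  have h2 : (((i : ℕ) + p * m : ℕ) : ℕ∞) = ⊤ := by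
    push_cast
    exact h1
  exact ENat.natCast_ne_top _ h2

lemma dvd_of_eq (s r : R) (hs : s ≠ 0) (a : Fin p → R)
    (h : s ^ p * r = ∑ j : Fin p, π ^ (j : ℕ) * a j ^ p) : ∀ i, s ∣ a i := by
  intro i
  rw [← addVal_le_iff_dvd]
  have h1 := addVal_sum_le p hπ a i
  rw [← h, addVal_mul, addVal_pow, nsmul_eq_mul] at h1
  obtain ⟨m, hm⟩ := ENat.ne_top_iff_exists.mp (mt addVal_eq_top_iff.mp hs)
  by_cases htop : addVal R (a i) = ⊤
  · rw [htop]
    exact le_top
  obtain ⟨n, hn⟩ := ENat.ne_top_iff_exists.mp htop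
  rw [← hm, ← hn] at h1 ⊢
  have h2 : ((p * m : ℕ) : ℕ∞) ≤ (((i : ℕ) + p * n : ℕ) : ℕ∞) := by
    push_cast
    exact le_trans le_self_add h1
  have h3 : p * m ≤ (i : ℕ) + p * n := by exact_mod_cast h2
  have h4 : m ≤ n := by
    by_contra hlt
    push Not at hlt
    have h5 : p * (n + 1) ≤ p * m := Nat.mul_le_mul_left p hlt
    have h6 := i.2
    nlinarith
  exact_mod_cast h4

end Val

section Frac
variable {R : Type u} [CommRing R] [IsDomain R] (p : ℕ)
  (kp : Subfield (FractionRing R))
  (hkp : ∀ x : FractionRing R, x ∈ kp ↔ ∃ y : FractionRing R, y ^ p = x) (π : R)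

include hkp in
lemma clear (g : Fin p → kp) (r : R)
    (h : ∑ i : Fin p, g i • (algebraMap R (FractionRing R) π) ^ (i : ℕ) =
      algebraMap R (FractionRing R) r) :
    ∃ (s : R) (a : Fin p → R), s ≠ 0 ∧
      (∀ i, (g i : FractionRing R) * algebraMap R (FractionRing R) s ^ p =
        algebraMap R (FractionRing R) (a i) ^ p) ∧
      s ^ p * r = ∑ i : Fin p, π ^ (i : ℕ) * a i ^ p := by
  have hy : ∀ i, ∃ y : FractionRing R, y ^ p = (g i : FractionRing R) :=
    fun i => (hkp _).mp (g i).2
  choose y hy using hy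
  obtain ⟨b, hb⟩ := IsLocalization.exist_integer_multiples_of_finite (nonZeroDivisors R) y
  have hb' : ∀ i, ∃ a : R, algebraMap R (FractionRing R) a = (b : R) • y i :=
    fun i => RingHom.mem_rangeS.mp (hb i)
  choose a ha using hb'
  have hga : ∀ i, (g i : FractionRing R) * algebraMap R (FractionRing R) (b : R) ^ p =
      algebraMap R (FractionRing R) (a i) ^ p := by
    intro i
    rw [ha i, Algebra.smul_def, mul_pow, hy i, mul_comm]
  refine ⟨b, a, nonZeroDivisors.coe_ne_zero b, hga, ?_⟩
  apply IsFractionRing.injective R (FractionRing R)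
  rw [map_mul, map_pow, ← h, Finset.mul_sum, map_sum]
  refine Finset.sum_congr rfl fun i _ => ?_
  rw [map_mul, map_pow, map_pow, ← hga i, Subfield.smul_def, smul_eq_mul]
  ring

end Frac

section Kaehler
variable {R : Type u} [CommRing R] (p : ℕ) [hp : Fact p.Prime] [CharP R p] (π : R)
  (hex : ∀ r : R, ∃ c : Fin p → R, r = ∑ i : Fin p, π ^ (i : ℕ) * c i ^ p)
  (huniq : ∀ c c' : Fin p → R,
    ∑ i : Fin p, π ^ (i : ℕ) * c i ^ p = ∑ i : Fin p, π ^ (i : ℕ) * c' i ^ p → c = c')

/-- The coefficient vector. -/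
noncomputable def C (r : R) : Fin p → R := (hex r).choose

lemma C_spec (r : R) : r = ∑ i : Fin p, π ^ (i : ℕ) * C p π hex r i ^ p := (hex r).choose_spec

include huniq

lemma C_eq (r : R) (c : Fin p → R) (h : r = ∑ i : Fin p, π ^ (i : ℕ) * c i ^ p) :
    C p π hex r = c := huniq _ _ ((C_spec p π hex r).symm.trans h)

lemma C_add (r r' : R) : C p π hex (r + r') = C p π hex r + C p π hex r' := by
  apply C_eq p π hex huniq
  simp only [Pi.add_apply, add_pow_char, mul_add, Finset.sum_add_distrib]
  rw [← C_spec p π hex r, ← C_spec p π hex r']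

lemma C_pow_mul (s r : R) : C p π hex (s ^ p * r) = fun i => s * C p π hex r i := by
  apply C_eq p π hex huniq
  simp only [mul_pow]
  have h := congrArg (fun t => s ^ p * t) (C_spec p π hex r)
  simp only [Finset.mul_sum] at h
  rw [h]
  refine Finset.sum_congr rfl fun i _ => by ring

lemma C_pi_pow (j : Fin p) : C p π hex (π ^ (j : ℕ)) = Pi.single j 1 := by
  apply C_eq p π hex huniq
  rw [Finset.sum_eq_single j]
  · simp
  · intro i _ hij
    rw [Pi.single_eq_of_ne hij, zero_pow hp.out.ne_zero, mul_zero]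
  · intro h
    exact absurd (Finset.mem_univ j) h

omit huniq in
/-- `n π^(n-1)`. -/
def dpow (n : ℕ) : R := (n : R) * π ^ (n - 1)

omit huniq in
lemma dpow_add (i j : ℕ) : dpow π (i + j) = π ^ i * dpow π j + π ^ j * dpow π i := by
  unfold dpow
  rcases i with _ | i <;> rcases j with _ | j
  · simp
  · simp
  · simp
  · have h1 : i + 1 + (j + 1) - 1 = i + j + 1 := by omega
    rw [h1, Nat.add_sub_cancel, Nat.add_sub_cancel]
    push_cast
    ring

omit huniq in
/-- The derivation `d/dπ` as a function. -/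
noncomputable def δ (r : R) : R := ∑ i : Fin p, C p π hex r i ^ p * dpow π (i : ℕ)

lemma δ_add (r r' : R) : δ p π hex (r + r') = δ p π hex r + δ p π hex r' := by
  simp only [δ, C_add p π hex huniq, Pi.add_apply, add_pow_char, add_mul,
    Finset.sum_add_distrib]

lemma δ_pow_mul (s r : R) : δ p π hex (s ^ p * r) = s ^ p * δ p π hex r := by
  simp only [δ, C_pow_mul p π hex huniq, mul_pow, Finset.mul_sum, mul_assoc]

lemma δ_pi_pow_lt (j : Fin p) : δ p π hex (π ^ (j : ℕ)) = dpow π (j : ℕ) := by
  simp only [δ, C_pi_pow p π hex huniq]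
  rw [Finset.sum_eq_single j]
  · simp
  · intro i _ hij
    rw [Pi.single_eq_of_ne hij, zero_pow hp.out.ne_zero, zero_mul]
  · intro h
    exact absurd (Finset.mem_univ j) h

lemma δ_pi_pow (n : ℕ) : δ p π hex (π ^ n) = dpow π n := by
  have hn : π ^ n = (π ^ (n / p)) ^ p * π ^ (n % p) := by
    rw [← pow_mul, ← pow_add, Nat.div_add_mod']
  have h1 := δ_pi_pow_lt p π hex huniq ⟨n % p, Nat.mod_lt _ hp.out.pos⟩
  simp only at h1
  rw [hn, δ_pow_mul p π hex huniq, h1]
  unfold dpow
  have hcast : ((n % p : ℕ) : R) = (n : R) := (CharP.natCast_eq_natCast_mod R p n).symm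
  by_cases h0 : n % p = 0
  · have hn0 : (n : R) = 0 := by rw [← hcast, h0, Nat.cast_zero]
    rw [hcast, hn0, zero_mul, zero_mul, mul_zero]
  · rw [hcast, ← pow_mul, mul_left_comm, ← pow_add]
    congr 2
    have h2 := Nat.div_add_mod' n p
    omega

/-- `δ` as an additive map. -/
noncomputable def δhom : R →+ R := AddMonoidHom.mk' (δ p π hex) (δ_add p π hex huniq)

lemma δ_mul_aux (c c' : Fin p → R) :
    δ p π hex ((∑ i : Fin p, π ^ (i : ℕ) * c i ^ p) * (∑ j : Fin p, π ^ (j : ℕ) * c' j ^ p)) =
      (∑ i : Fin p, π ^ (i : ℕ) * c i ^ p) * (∑ j : Fin p, c' j ^ p * dpow π (j : ℕ)) +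
      (∑ j : Fin p, π ^ (j : ℕ) * c' j ^ p) * (∑ i : Fin p, c i ^ p * dpow π (i : ℕ)) := by
  have h1 : (∑ i : Fin p, π ^ (i : ℕ) * c i ^ p) * (∑ j : Fin p, π ^ (j : ℕ) * c' j ^ p) =
      ∑ i : Fin p, ∑ j : Fin p, (c i * c' j) ^ p * π ^ ((i : ℕ) + (j : ℕ)) := by
    rw [Finset.sum_mul_sum]
    refine Finset.sum_congr rfl fun i _ => Finset.sum_congr rfl fun j _ => by ring
  have h2 : δ p π hex (∑ i : Fin p, ∑ j : Fin p, (c i * c' j) ^ p * π ^ ((i : ℕ) + (j : ℕ))) =
      ∑ i : Fin p, ∑ j : Fin p, (c i * c' j) ^ p * dpow π ((i : ℕ) + (j : ℕ)) := by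
    change δhom p π hex huniq (∑ i : Fin p, ∑ j : Fin p, _) = _
    rw [map_sum]
    refine Finset.sum_congr rfl fun i _ => ?_
    rw [map_sum]
    refine Finset.sum_congr rfl fun j _ => ?_
    change δ p π hex (_ * _) = _
    rw [δ_pow_mul p π hex huniq, δ_pi_pow p π hex huniq]
  have e1 : (∑ i : Fin p, π ^ (i : ℕ) * c i ^ p) * (∑ j : Fin p, c' j ^ p * dpow π (j : ℕ)) =
      ∑ i : Fin p, ∑ j : Fin p, π ^ (i : ℕ) * c i ^ p * (c' j ^ p * dpow π (j : ℕ)) :=
    Finset.sum_mul_sum _ _ _ _
  have e2 : (∑ j : Fin p, π ^ (j : ℕ) * c' j ^ p) * (∑ i : Fin p, c i ^ p * dpow π (i : ℕ)) =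
      ∑ i : Fin p, ∑ j : Fin p, π ^ (j : ℕ) * c' j ^ p * (c i ^ p * dpow π (i : ℕ)) := by
    rw [Finset.sum_mul_sum, Finset.sum_comm]
  rw [h1, h2, e1, e2, ← Finset.sum_add_distrib]
  refine Finset.sum_congr rfl fun i _ => ?_
  rw [← Finset.sum_add_distrib]
  refine Finset.sum_congr rfl fun j _ => ?_
  rw [dpow_add]
  ring

lemma δ_mul (r r' : R) : δ p π hex (r * r') = r * δ p π hex r' + r' * δ p π hex r := by
  have h := δ_mul_aux p π hex huniq (C p π hex r) (C p π hex r')
  rw [← C_spec p π hex r, ← C_spec p π hex r'] at h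
  exact h

/-- `δ` as a derivation. -/
noncomputable def δD : Derivation ℤ R R :=
  Derivation.mk' (δhom p π hex huniq).toIntLinearMap (fun a b => by
    change δ p π hex (a * b) = a • δ p π hex b + b • δ p π hex a
    rw [smul_eq_mul, smul_eq_mul]
    exact δ_mul p π hex huniq a b)

lemma δD_apply (r : R) : δD p π hex huniq r = δ p π hex r := rfl

include hex in
lemma kaehler_bij :
    Function.Bijective (fun r : R => r • KaehlerDifferential.D ℤ R π) := by
  constructor
  · intro r r' h
    have h1 := congrArg (δD p π hex huniq).liftKaehlerDifferential h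
    simp only [map_smul, Derivation.liftKaehlerDifferential_comp_D, δD_apply] at h1
    have h2 : δ p π hex π = 1 := by
      have := δ_pi_pow p π hex huniq 1
      rw [pow_one] at this
      rw [this]
      simp [dpow]
    rw [h2, smul_eq_mul, smul_eq_mul, mul_one, mul_one] at h1
    exact h1
  · intro ω
    have hω : ω ∈ Submodule.span R {KaehlerDifferential.D ℤ R π} := by
      have hle : Submodule.span R (Set.range (KaehlerDifferential.D ℤ R)) ≤
          Submodule.span R {KaehlerDifferential.D ℤ R π} := by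
        rw [Submodule.span_le]
        rintro _ ⟨r, rfl⟩
        rw [C_spec p π hex r, map_sum]
        refine Submodule.sum_mem _ fun i _ => ?_
        rw [Derivation.leibniz, Derivation.leibniz_pow, Derivation.leibniz_pow]
        have hp0 : (p : ℕ) • (C p π hex r i ^ (p - 1) •
            KaehlerDifferential.D ℤ R (C p π hex r i)) = 0 := by
          rw [← Nat.cast_smul_eq_nsmul R, CharP.cast_eq_zero, zero_smul]
        rw [hp0, smul_zero, zero_add]
        refine Submodule.smul_mem _ _ ?_
        rw [← Nat.cast_smul_eq_nsmul R]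
        refine Submodule.smul_mem _ _ (Submodule.smul_mem _ _ (Submodule.mem_span_singleton_self _))
      rw [KaehlerDifferential.span_range_derivation] at hle
      exact hle Submodule.mem_top
    obtain ⟨r, hr⟩ := Submodule.mem_span_singleton.mp hω
    exact ⟨r, hr⟩

end Kaehler

/-- Let R be a discrete valuation ring of prime characteristic p whose fraction field k has degree p
over its subfield k^p of p-th powers, and π a uniformizer. Then every element of R is, in a unique
way, a sum of π^i c_i^p over 0 ≤ i < p with c_i in R, and the Kähler differentials of R (absolute,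
i.e. over the integers, equivalently over the prime field) form a free module of rank one generated
by dπ. -/
theorem result (p : ℕ) [Fact p.Prime] {R : Type u} [CommRing R]
    [IsDomain R] [IsDiscreteValuationRing R] [CharP R p]
    (kp : Subfield (FractionRing R)) (hkp : ∀ x : FractionRing R, x ∈ kp ↔ ∃ y : FractionRing R, y ^ p = x)
    (hdeg : Module.finrank kp (FractionRing R) = p)
    (π : R) (hπ : Irreducible π) :
    (∀ r : R, ∃! c : Fin p → R, r = ∑ i : Fin p, π ^ (i : ℕ) * c i ^ p) ∧
      Function.Bijective (fun r : R => r • KaehlerDifferential.D ℤ R π) := by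
  classical
  have hp0 : p ≠ 0 := (Fact.out : p.Prime).ne_zero
  have hfin : Module.Finite kp (FractionRing R) :=
    Module.finite_of_finrank_pos (by rw [hdeg]; exact Nat.pos_of_ne_zero hp0)
  have hli : LinearIndependent kp
      (fun i : Fin p => (algebraMap R (FractionRing R) π) ^ (i : ℕ)) := by
    rw [Fintype.linearIndependent_iff]
    intro g hg i
    obtain ⟨s, a, hs, hga, hsum⟩ := clear p kp hkp π g 0 (by rw [map_zero]; exact hg)
    rw [mul_zero] at hsum
    have ha := eq_zero_of_sum_eq_zero p hπ a hsum.symm i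
    have h1 := hga i
    rw [ha, map_zero, zero_pow hp0] at h1
    have hS : algebraMap R (FractionRing R) s ^ p ≠ 0 := by
      apply pow_ne_zero
      rwa [Ne, map_eq_zero_iff _ (IsFractionRing.injective R (FractionRing R))]
    have h2 := (mul_eq_zero.mp h1).resolve_right hS
    exact Subtype.ext h2
  have hspan := hli.span_eq_top_of_card_eq_finrank' (by rw [Fintype.card_fin, hdeg])
  have hex : ∀ r : R, ∃ c : Fin p → R, r = ∑ i : Fin p, π ^ (i : ℕ) * c i ^ p := by
    intro r
    have hr : algebraMap R (FractionRing R) r ∈ Submodule.span kp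
        (Set.range fun i : Fin p => (algebraMap R (FractionRing R) π) ^ (i : ℕ)) := by
      rw [hspan]
      trivial
    obtain ⟨g, hg⟩ := (Submodule.mem_span_range_iff_exists_fun kp).mp hr
    obtain ⟨s, a, hs, -, hsum⟩ := clear p kp hkp π g r hg
    have hdvd := dvd_of_eq p hπ s r hs a hsum
    choose c hc using hdvd
    refine ⟨c, ?_⟩
    apply mul_left_cancel₀ (pow_ne_zero p hs)
    rw [hsum, Finset.mul_sum]
    refine Finset.sum_congr rfl fun i _ => ?_
    rw [hc i]
    ring
  have huniq : ∀ c c' : Fin p → R,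
      ∑ i : Fin p, π ^ (i : ℕ) * c i ^ p = ∑ i : Fin p, π ^ (i : ℕ) * c' i ^ p → c = c' := by
    intro c c' h
    funext i
    have h0 : ∑ j : Fin p, π ^ (j : ℕ) * (c j - c' j) ^ p = 0 := by
      simp only [sub_pow_char, mul_sub, Finset.sum_sub_distrib]
      rw [h, sub_self]
    exact sub_eq_zero.mp (eq_zero_of_sum_eq_zero p hπ _ h0 i)
  refine ⟨fun r => ?_, ?_⟩
  · obtain ⟨c, hc⟩ := hex r
    exact ⟨c, hc, fun c' hc' => huniq _ _ (hc'.symm.trans hc)⟩
  · exact kaehler_bij p π hex huniq

end Groth.Agent.S13368
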