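import Groth.Statements.S13369
import Mathlib

set_option autoImplicit false
universe u
open GaDual

namespace Groth.Agent.S13369

open Polynomial IntermediateField

section Field
variable (p : ℕ) [hp : Fact p.Prime] {K : Type u} [Field K] [CharP K p]

/-- If `x` is not a `p`-th power in a field of characteristic `p`, some derivation of `K` takes the
value `1` at `x`. -/
lemma exists_derivation (x : K) (hx : ∀ y : K, y ^ p ≠ x) : ∃ D : Derivation ℤ K K, D x = 1 := by
  classical
  let S : Set (Subfield K) := {L | (∀ y : K, y ^ p ∈ L) ∧ x ∉ L}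
  have hS0 : (frobenius K p).fieldRange ∈ S := by
    refine ⟨fun y => ⟨y, rfl⟩, ?_⟩
    rintro ⟨y, hy⟩
    exact hx y hy
  obtain ⟨L, hL⟩ : ∃ L, Maximal (· ∈ S) L := by
    apply zorn_le₀
    intro c hcS hc
    by_cases hne : c.Nonempty
    · refine ⟨sSup c, ⟨?_, ?_⟩, fun z hz => le_sSup hz⟩
      · intro y
        obtain ⟨L0, hL0⟩ := hne
        exact (le_sSup hL0 : L0 ≤ sSup c) ((hcS hL0).1 y)
      · intro hxs
        obtain ⟨L0, hL0, hxL0⟩ := (Subfield.mem_sSup_of_directedOn hne hc.directedOn).mp hxs
        exact (hcS hL0).2 hxL0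
    · rw [Set.not_nonempty_iff_eq_empty] at hne
      subst hne
      exact ⟨_, hS0, fun z hz => absurd hz (Set.notMem_empty z)⟩
  have hpowL : ∀ y : K, y ^ p ∈ L := hL.1.1
  have hxL : x ∉ L := hL.1.2
  have : CharP L p := RingHom.charP (algebraMap L K) (algebraMap L K).injective p
  have hroot : ∀ b : K, aeval b (X ^ p - C (⟨b ^ p, hpowL b⟩ : L)) = 0 := by
    intro b
    rw [map_sub, map_pow, aeval_X, aeval_C]
    exact sub_self _
  have hint : ∀ b : K, IsIntegral L b := fun b =>
    ⟨X ^ p - C (⟨b ^ p, hpowL b⟩ : L), monic_X_pow_sub_C _ hp.out.ne_zero, hroot b⟩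
  have hmin : ∀ b : K, b ∉ L → minpoly L b = X ^ p - C (⟨b ^ p, hpowL b⟩ : L) := by
    intro b hb
    symm
    apply minpoly.eq_of_irreducible_of_monic
    · apply X_pow_sub_C_irreducible_of_prime hp.out
      intro c hc
      apply hb
      have h1 : (c : K) ^ p = b ^ p := congrArg Subtype.val hc
      have h2 : (c : K) = b := frobenius_inj K p h1
      rw [← h2]
      exact c.2
    · exact hroot b
    · exact monic_X_pow_sub_C _ hp.out.ne_zero
  have hsurj : Function.Surjective (aeval (R := L) x) := by
    intro b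
    by_cases hb : b ∈ L
    · exact ⟨C ⟨b, hb⟩, by rw [aeval_C]; rfl⟩
    · have hxb : x ∈ L⟮b⟯ := by
        by_contra hxb
        have hle : L ≤ L⟮b⟯.toSubfield := fun z hz => L⟮b⟯.algebraMap_mem ⟨z, hz⟩
        have hL' : L⟮b⟯.toSubfield ∈ S := ⟨fun y => hle (hpowL y), hxb⟩
        exact hb (hL.2 hL' hle (mem_adjoin_simple_self L b))
      have hle : L⟮x⟯ ≤ L⟮b⟯ := adjoin_simple_le_iff.mpr hxb
      have hfx : Module.finrank L L⟮x⟯ = p := by
        rw [adjoin.finrank (hint x), hmin x hxL, natDegree_X_pow_sub_C]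
      have hfb : Module.finrank L L⟮b⟯ = p := by
        rw [adjoin.finrank (hint b), hmin b hb, natDegree_X_pow_sub_C]
      have : FiniteDimensional L L⟮b⟯ := adjoin.finiteDimensional (hint b)
      have heq : L⟮x⟯ = L⟮b⟯ := eq_of_le_of_finrank_eq hle (hfx.trans hfb.symm)
      have hbx : b ∈ L⟮x⟯ := heq ▸ mem_adjoin_simple_self L b
      have hbx' : b ∈ (L⟮x⟯).toSubalgebra := hbx
      rw [adjoin_simple_toSubalgebra_of_isAlgebraic (hint x).isAlgebraic,
        Algebra.adjoin_singleton_eq_range_aeval] at hbx'
      exact hbx'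
  have hker : ∀ f : L[X], aeval x f = 0 → aeval x (derivative' f) = 0 := by
    intro f hf
    obtain ⟨g, rfl⟩ := minpoly.dvd L x hf
    rw [hmin x hxL, derivative'_apply, derivative_mul, derivative_sub, derivative_C,
      derivative_X_pow, CharP.cast_eq_zero, map_zero, zero_mul, sub_zero, zero_mul, zero_add,
      map_mul, hroot x, zero_mul]
  let D : Derivation L K K := Derivation.liftOfSurjective hsurj hker
  refine ⟨D.restrictScalars ℤ, ?_⟩
  change D x = 1
  have h1 : D (aeval x (X : L[X])) = aeval x (derivative' (X : L[X])) :=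
    Derivation.liftOfSurjective_apply hsurj hker X
  rw [aeval_X, derivative'_apply, derivative_X, map_one] at h1
  exact h1

lemma exists_pow_eq_of_D_eq_zero (x : K) (hx : KaehlerDifferential.D ℤ K x = 0) :
    ∃ y : K, y ^ p = x := by
  by_contra hne
  push Not at hne
  obtain ⟨D, hD⟩ := exists_derivation p x hne
  have h1 := congrArg D.liftKaehlerDifferential hx
  rw [Derivation.liftKaehlerDifferential_comp_D, map_zero, hD] at h1
  exact one_ne_zero h1

end Field

lemma main (p : ℕ) [Fact p.Prime] {A : Type u} [CommRing A] [IsDomain A] [IsIntegrallyClosed A]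
    [CharP A p] (K : Type u) [Field K] [Algebra A K] [IsFractionRing A K] (s : A)
    (hs : KaehlerDifferential.D ℤ A s = 0) : ∃ f : A, f ^ p = s := by
  have : CharP K p := charP_of_injective_algebraMap (IsFractionRing.injective A K) p
  have h1 : KaehlerDifferential.D ℤ K (algebraMap A K s) = 0 := by
    rw [← KaehlerDifferential.map_D ℤ ℤ A K, hs, map_zero]
  obtain ⟨y, hy⟩ := exists_pow_eq_of_D_eq_zero p _ h1
  have hyint : IsIntegral A y := by
    refine ⟨Polynomial.X ^ p - Polynomial.C s,
      Polynomial.monic_X_pow_sub_C _ (Fact.out : p.Prime).ne_zero, ?_⟩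
    rw [Polynomial.eval₂_sub, Polynomial.eval₂_pow, Polynomial.eval₂_X, Polynomial.eval₂_C, hy,
      sub_self]
  obtain ⟨f, hf⟩ := IsIntegrallyClosed.isIntegral_iff.mp hyint
  refine ⟨f, ?_⟩
  apply IsFractionRing.injective A K
  rw [map_pow, hf, hy]

/-- For a normal Noetherian domain A of prime characteristic p, an element whose differential vanishes
in the absolute Kähler differentials of A is a p-th power; that is, the sequence F : A → A, d : A →
Ω_A (F the Frobenius) is exact at the middle term. (The published statement is for normal locally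
Noetherian schemes of characteristic p; this row is the case of the spectrum of a normal Noetherian
domain.) -/
theorem result (p : ℕ) [Fact p.Prime] {A : Type u} [CommRing A] [IsDomain A]
    [IsNoetherianRing A] [IsIntegrallyClosed A] [CharP A p] (s : A) (hs : KaehlerDifferential.D ℤ A s = 0) :
    ∃ f : A, f ^ p = s := by
  exact main p (FractionRing A) s hs

end Groth.Agent.S13369
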