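import Groth.Statements.S13370
-- import your own Groth.Agent.* helpers here

set_option autoImplicit false
universe u
open GaDual

namespace Groth.Agent.S13370

open AlgebraicGeometry CategoryTheory CategoryTheory.Limits MvPolynomial

section Helpers

variable {n : Type u}

theorem affine_case (S : Scheme.{u}) [IsAffine S] [IsReduced S]
    (w : Γ(𝔸(n; S), ⊤)) (hw : IsUnit w) :
    ∃ r : Γ(S, ⊤), IsUnit r ∧ (𝔸(n; S) ↘ S).appTop r = w := by
  let e := AffineSpace.isoOfIsAffine n S
  let P : MvPolynomial n Γ(S, ⊤) := (Scheme.ΓSpecIso _).hom (e.inv.appTop w)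
  have hP : IsUnit P := (hw.map e.inv.appTop.hom).map (Scheme.ΓSpecIso _).hom.hom
  obtain ⟨r, hr, hPr⟩ := MvPolynomial.isUnit_iff_eq_C_of_isReduced.1 hP
  refine ⟨r, hr, ?_⟩
  have h1 : w = e.hom.appTop (e.inv.appTop w) := by
    rw [← CommRingCat.comp_apply, ← Scheme.Hom.comp_appTop, e.hom_inv_id]
    simp
  have h2 : e.inv.appTop w = (Scheme.ΓSpecIso _).inv (C r) := by
    rw [← hPr]
    simp [P]
  rw [h1, h2, AffineSpace.isoOfIsAffine_hom_appTop]
  simp

/-- the zero section -/
noncomputable def zs (X : Scheme.{u}) : X ⟶ 𝔸(n; X) := AffineSpace.homOfVector (𝟙 X) 0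

theorem zs_over (X : Scheme.{u}) : zs (n := n) X ≫ 𝔸(n; X) ↘ X = 𝟙 X :=
  AffineSpace.homOfVector_over _ _

theorem zs_natural {U X : Scheme.{u}} (f : U ⟶ X) :
    f ≫ zs (n := n) X = zs (n := n) U ≫ AffineSpace.map n f := by
  apply AffineSpace.hom_ext
  · simp [zs, AffineSpace.map_over]
  · intro i
    rw [Scheme.Hom.comp_appTop, Scheme.Hom.comp_appTop, CommRingCat.comp_apply,
      CommRingCat.comp_apply, AffineSpace.map_appTop_coord]
    simp [zs]

end Helpers

open AlgebraicGeometry in
/-- Over a reduced scheme X, each invertible global function on 𝔸ⁿ_X comes, by pullback along the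
projection to X, from an invertible global function on X. -/
theorem result (n : Type u) [Finite n] (X : Scheme.{u}) [IsReduced X]
    (w : Γ(𝔸(n; X), ⊤)) (hw : IsUnit w) :
    ∃ v : Γ(X, ⊤), IsUnit v ∧ (𝔸(n; X) ↘ X).appTop v = w := by
  refine ⟨(zs (n := n) X).appTop w, hw.map (zs (n := n) X).appTop.hom, ?_⟩
  have key : ∀ i : X.affineCover.I₀,
      (AffineSpace.map n (X.affineCover.f i)).appTop
        ((𝔸(n; X) ↘ X).appTop ((zs (n := n) X).appTop w)) =
      (AffineSpace.map n (X.affineCover.f i)).appTop w := by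
    intro i
    let f : X.affineCover.X i ⟶ X := X.affineCover.f i
    have : IsReduced (X.affineCover.X i) := isReduced_of_isOpenImmersion f
    obtain ⟨r, -, hr⟩ := affine_case (n := n) (X.affineCover.X i)
      ((AffineSpace.map n f).appTop w) (hw.map (AffineSpace.map n f).appTop.hom)
    have h1 : (AffineSpace.map n f).appTop ((𝔸(n; X) ↘ X).appTop ((zs (n := n) X).appTop w)) =
        (𝔸(n; X.affineCover.X i) ↘ X.affineCover.X i).appTop
          ((zs (n := n) (X.affineCover.X i)).appTop ((AffineSpace.map n f).appTop w)) := by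
      simp only [← CommRingCat.comp_apply, ← Scheme.Hom.comp_appTop]
      rw [← zs_natural, ← Category.assoc, AffineSpace.map_over, Category.assoc]
    change (AffineSpace.map n f).appTop _ = (AffineSpace.map n f).appTop w
    rw [h1, ← hr]
    congr 1
    rw [← CommRingCat.comp_apply, ← Scheme.Hom.comp_appTop, zs_over]
    simp
  let 𝒰 : (𝔸(n; X)).OpenCover := X.affineCover.pullback₁ (𝔸(n; X) ↘ X)
  apply 𝒰.ext_elem
  intro (i : X.affineCover.I₀)
  let f : X.affineCover.X i ⟶ X := X.affineCover.f i
  let e := (AffineSpace.isPullback_map (n := n) f).isoPullback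
  have he : pullback.fst (𝔸(n; X) ↘ X) f = e.inv ≫ AffineSpace.map n f := by
    rw [Iso.eq_inv_comp]
    exact (AffineSpace.isPullback_map (n := n) f).isoPullback_hom_fst
  change (pullback.fst (𝔸(n; X) ↘ X) f).appTop _ = (pullback.fst (𝔸(n; X) ↘ X) f).appTop _
  rw [he, Scheme.Hom.comp_appTop, CommRingCat.comp_apply, CommRingCat.comp_apply, key i]

end Groth.Agent.S13370
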