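import Groth.Statements.S13373
import Groth.Agent.H80.FormalChar

set_option autoImplicit false
universe u
open GaDual

namespace Groth.Agent.S13373

/-- Over a commutative algebra A of prime characteristic p, the formal characters (power series χ with
constant term 1 and χ(X+Y) = χ(X)χ(Y)) are exactly the infinite products ∏_n exp_p(a_n X^(p^n)) with
a_n^p = 0, where exp_p(Y) = Σ_{j<p} Y^j/j!; the infinite product is expressed through its
truncations: χ mod X^(p^m) equals the finite product over n < m. -/
theorem result (p : ℕ) [Fact p.Prime] (A : Type u) [CommRing A] [CharP A p]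
    (χ : PowerSeries A) :
    (PowerSeries.constantCoeff χ = 1 ∧
      PowerSeries.subst (MvPowerSeries.X 0 + MvPowerSeries.X 1 : MvPowerSeries (Fin 2) A) χ =
        PowerSeries.subst (MvPowerSeries.X 0 : MvPowerSeries (Fin 2) A) χ *
          PowerSeries.subst (MvPowerSeries.X 1 : MvPowerSeries (Fin 2) A) χ) ↔
      ∃ a : ℕ → A, (∀ n, a n ^ p = 0) ∧ ∀ m : ℕ,
        PowerSeries.trunc (p ^ m) χ = ∏ n ∈ Finset.range m, ∑ j ∈ Finset.range p,
          Polynomial.C (Ring.inverse (j.factorial : A) * a n ^ j) * Polynomial.X ^ (j * p ^ n) := by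
  classical
  have hpp := (Fact.out : p.Prime)
  simp only [Groth.Agent.H80.GaChar.factor_eq]
  rw [Groth.Agent.H80.FormalChar.formalChar_iff]
  constructor
  · rintro ⟨h0, hrel⟩
    have h0' : PowerSeries.coeff 0 χ = 1 := by
      rw [PowerSeries.coeff_zero_eq_constantCoeff]; exact h0
    refine ⟨fun n => PowerSeries.coeff (p ^ n) χ, ?_, ?_⟩
    · intro n
      exact (Groth.Agent.H80.GaChar.charCoeff p (n + 1) (fun k => PowerSeries.coeff k χ) h0'
        (fun i j _ _ => hrel i j)).1 n (Nat.lt_succ_self n)
    · intro m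
      obtain ⟨-, h2⟩ := Groth.Agent.H80.GaChar.charCoeff p m (fun k => PowerSeries.coeff k χ) h0'
        (fun i j _ _ => hrel i j)
      ext k
      rw [PowerSeries.coeff_trunc]
      by_cases hk : k < p ^ m
      · rw [if_pos hk]; exact h2 k hk
      · rw [if_neg hk]
        exact (Groth.Agent.H80.GaChar.Pn_coeff_ge p m _ k (by omega)).symm
  · rintro ⟨a, ha, htr⟩
    have hcoef : ∀ m k, k < p ^ m → PowerSeries.coeff k χ = (Groth.Agent.H80.GaChar.Pn p m a).coeff k := by
      intro m k hk
      have := congrArg (fun f => Polynomial.coeff f k) (htr m)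
      simp only [PowerSeries.coeff_trunc, if_pos hk] at this
      exact this
    refine ⟨?_, ?_⟩
    · rw [← PowerSeries.coeff_zero_eq_constantCoeff_apply, hcoef 0 0 (by simp)]
      simp [Groth.Agent.H80.GaChar.Pn]
    · intro i j
      have hm : i + j < p ^ (i + j + 1) :=
        lt_trans (Nat.lt_succ_self _) (Nat.lt_pow_self hpp.one_lt)
      have hchar : Groth.Agent.H80.GaChar.PolyChar (Groth.Agent.H80.GaChar.Pn p (i + j + 1) a) :=
        Groth.Agent.H80.GaChar.polyChar_prod _ _
          (fun n _ => Groth.Agent.H80.GaChar.polyChar_Ea p n (a n) (ha n))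
      have := Groth.Agent.H80.GaChar.polyChar_rel hchar i j
      rw [hcoef (i + j + 1) (i + j) hm, hcoef (i + j + 1) i (by omega), hcoef (i + j + 1) j (by omega)]
      exact this

end Groth.Agent.S13373
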