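import Groth.Statements.S13374
import Groth.Agent.H80.GaChar

set_option autoImplicit false
universe u
open GaDual

namespace Groth.Agent.S13374

/-- Over a commutative algebra A of prime characteristic p, every character of the kernel α_(p^n) of the
n-th Frobenius of the additive group — i.e. every polynomial f of degree < p^n with f(0) = 1 and
f(X+Y) ≡ f(X)f(Y) modulo (X^(p^n), Y^(p^n)) — is the product ∏_{i<n} exp_p(a_i X^(p^i)) for some a_i
with a_i^p = 0, exp_p(Y) = Σ_{j<p} Y^j/j!. -/
theorem result (p : ℕ) [Fact p.Prime] (A : Type u) [CommRing A] [CharP A p]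
    (n : ℕ) (f : Polynomial A) (hdeg : f.natDegree < p ^ n) (h0 : f.eval 0 = 1)
    (hmul : Ideal.Quotient.mk
        (Ideal.span {(MvPolynomial.X 0 ^ p ^ n : MvPolynomial (Fin 2) A), MvPolynomial.X 1 ^ p ^ n})
        (Polynomial.aeval (MvPolynomial.X 0 + MvPolynomial.X 1 : MvPolynomial (Fin 2) A) f) =
      Ideal.Quotient.mk
        (Ideal.span {(MvPolynomial.X 0 ^ p ^ n : MvPolynomial (Fin 2) A), MvPolynomial.X 1 ^ p ^ n})
        (Polynomial.aeval (MvPolynomial.X 0 : MvPolynomial (Fin 2) A) f *
          Polynomial.aeval (MvPolynomial.X 1 : MvPolynomial (Fin 2) A) f)) :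
    ∃ a : ℕ → A, (∀ i, a i ^ p = 0) ∧
      f = ∏ i ∈ Finset.range n, ∑ j ∈ Finset.range p,
          Polynomial.C (Ring.inverse (j.factorial : A) * a i ^ j) * Polynomial.X ^ (j * p ^ i) := by
  classical
  have hpp := (Fact.out : p.Prime)
  simp only [Groth.Agent.H80.GaChar.factor_eq]
  have h0' : f.coeff 0 = 1 := by rw [Polynomial.coeff_zero_eq_eval_zero]; exact h0
  have hrel : ∀ i j, i < p ^ n → j < p ^ n →
      f.coeff (i + j) * (((i + j).choose i : ℕ) : A) = f.coeff i * f.coeff j := by
    intro i j hi hj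
    rw [Ideal.Quotient.eq, Ideal.mem_span_pair] at hmul
    obtain ⟨u, v, huv⟩ := hmul
    have hcf := congrArg (fun P => Groth.Agent.H80.Lazard.cf P i j) huv
    simp only [Groth.Agent.H80.Lazard.cf_add, Groth.Agent.H80.Lazard.cf_sub] at hcf
    rw [Groth.Agent.H80.GaChar.cf_paeval_add, Groth.Agent.H80.GaChar.cf_paeval_mul] at hcf
    have z1 : Groth.Agent.H80.Lazard.cf (u * MvPolynomial.X 0 ^ p ^ n) i j = 0 := by
      rw [Groth.Agent.H80.Lazard.cf, MvPolynomial.X_pow_eq_monomial, MvPolynomial.coeff_mul_monomial', if_neg]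
      intro hle
      have := hle 0
      simp at this
      omega
    have z2 : Groth.Agent.H80.Lazard.cf (v * MvPolynomial.X 1 ^ p ^ n) i j = 0 := by
      rw [Groth.Agent.H80.Lazard.cf, MvPolynomial.X_pow_eq_monomial, MvPolynomial.coeff_mul_monomial', if_neg]
      intro hle
      have := hle 1
      simp at this
      omega
    rw [z1, z2, add_zero] at hcf
    exact sub_eq_zero.mp hcf.symm
  obtain ⟨h1, h2⟩ := Groth.Agent.H80.GaChar.charCoeff p n f.coeff h0' hrel
  refine ⟨fun i => if i < n then f.coeff (p ^ i) else 0, ?_, ?_⟩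
  · intro i
    show (if i < n then f.coeff (p ^ i) else 0) ^ p = 0
    split_ifs with h
    · exact h1 i h
    · exact zero_pow hpp.ne_zero
  · have e : (∏ i ∈ Finset.range n, Groth.Agent.H80.GaChar.Ea p i (if i < n then f.coeff (p ^ i) else 0)) =
        Groth.Agent.H80.GaChar.Pn p n (fun i => f.coeff (p ^ i)) := by
      rw [Groth.Agent.H80.GaChar.Pn]
      apply Finset.prod_congr rfl
      intro i hi
      rw [if_pos (Finset.mem_range.mp hi)]
    rw [e]
    ext k
    by_cases hk : k < p ^ n
    · exact h2 k hk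
    · rw [Groth.Agent.H80.GaChar.Pn_coeff_ge p n _ k (by omega),
        Polynomial.coeff_eq_zero_of_natDegree_lt (by omega)]

end Groth.Agent.S13374
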