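import Groth.Statements.S13375
import Mathlib.CategoryTheory.Abelian.Refinements
import Mathlib.Algebra.Homology.HomologicalComplex
-- import your own Groth.Agent.* helpers here

set_option autoImplicit false
universe u v
open CechDer

namespace Groth.Agent.S13375

open CategoryTheory CategoryTheory.Limits
open scoped ZeroObject

section Helpers

variable {V : Type u} [Category.{v} V] [Abelian V]

theorem exists_seq {X : ℕ → Type v} (Q : ∀ n, X n → X (n + 1) → Prop)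
    (a0 : X 0) (b0 : X 1) (h00 : Q 0 a0 b0)
    (hs : ∀ n a b, Q n a b → ∃ c, Q (n + 1) b c) :
    ∃ F : ∀ n, X n, F 0 = a0 ∧ ∀ n, Q n (F n) (F (n + 1)) := by
  classical
  let s : ∀ n, {p : X n × X (n + 1) // Q n p.1 p.2} := fun n =>
    Nat.rec (motive := fun n => {p : X n × X (n + 1) // Q n p.1 p.2}) ⟨(a0, b0), h00⟩
      (fun n p => ⟨(p.1.2, (hs n p.1.1 p.1.2 p.2).choose),
        (hs n p.1.1 p.1.2 p.2).choose_spec⟩) n
  refine ⟨fun n => (s n).1.1, rfl, fun n => ?_⟩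
  exact (s n).2

theorem exists_ext_of_two {A₁ A₂ D J : V} [Injective J] (a₁ : A₁ ⟶ D) (a₂ : A₂ ⟶ D)
    (b₁ : A₁ ⟶ J) (b₂ : A₂ ⟶ J)
    (h : ∀ ⦃T : V⦄ (x₁ : T ⟶ A₁) (x₂ : T ⟶ A₂), x₁ ≫ a₁ + x₂ ≫ a₂ = 0 →
      x₁ ≫ b₁ + x₂ ≫ b₂ = 0) :
    ∃ f : D ⟶ J, a₁ ≫ f = b₁ ∧ a₂ ≫ f = b₂ := by
  let a : A₁ ⊞ A₂ ⟶ D := biprod.desc a₁ a₂
  let b : A₁ ⊞ A₂ ⟶ J := biprod.desc b₁ b₂
  have hk : kernel.ι a ≫ b = 0 := by
    have := h (kernel.ι a ≫ biprod.fst) (kernel.ι a ≫ biprod.snd) (by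
      rw [Category.assoc, Category.assoc, ← Preadditive.comp_add, ← biprod.desc_eq,
        kernel.condition])
    rw [Category.assoc, Category.assoc, ← Preadditive.comp_add, ← biprod.desc_eq] at this
    exact this
  let b' : Abelian.coimage a ⟶ J := cokernel.desc (kernel.ι a) b hk
  let f := Injective.factorThru b' (Abelian.factorThruCoimage a)
  have hf : a ≫ f = b := by
    have h1 : Abelian.coimage.π a ≫ Abelian.factorThruCoimage a = a := Abelian.coimage.fac a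
    calc a ≫ f = Abelian.coimage.π a ≫ Abelian.factorThruCoimage a ≫ f := by
          rw [← Category.assoc, h1]
      _ = Abelian.coimage.π a ≫ b' := by rw [Injective.comp_factorThru]
      _ = b := cokernel.π_desc _ _ _
  refine ⟨f, ?_, ?_⟩
  · have := biprod.inl ≫= hf
    simpa [a, b] using this
  · have := biprod.inr ≫= hf
    simpa [a, b] using this

theorem aux_X {A_N A_p A_q B_m B_N B_p B_q D_p : V}
    (dA_N : A_N ⟶ A_p) (dA_p : A_p ⟶ A_q) (dB_m : B_m ⟶ B_N) (dB_N : B_N ⟶ B_p)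
    (dB_p : B_p ⟶ B_q)
    (j_N : A_N ⟶ B_N) (j_p : A_p ⟶ B_p) (j_q : A_q ⟶ B_q) (π_p : B_p ⟶ D_p)
    [Mono j_q]
    (hj_N : j_N ≫ dB_N = dA_N ≫ j_p) (hj_p : j_p ≫ dB_p = dA_p ≫ j_q)
    (wA : dA_N ≫ dA_p = 0) (hA : (ShortComplex.mk dA_N dA_p wA).Exact)
    (wB : dB_m ≫ dB_N = 0) (hB : (ShortComplex.mk dB_m dB_N wB).Exact)
    (wB' : dB_N ≫ dB_p = 0)
    (wjπ : j_p ≫ π_p = 0) (hjπ : (ShortComplex.mk j_p π_p wjπ).Exact)
    {T : V} (x : T ⟶ B_N) (hx : x ≫ dB_N ≫ π_p = 0) :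
    ∃ (T' : V) (ρ : T' ⟶ T) (_ : Epi ρ) (a : T' ⟶ A_N) (c : T' ⟶ B_m),
      ρ ≫ x = a ≫ j_N + c ≫ dB_m := by
  obtain ⟨T₁, ρ₁, hρ₁, c', h1⟩ := hjπ.exact_up_to_refinements (x ≫ dB_N)
    (by simpa using hx)
  dsimp at c' h1
  have h2 : c' ≫ dA_p = 0 := by
    rw [← cancel_mono j_q, Category.assoc, ← hj_p, ← Category.assoc, ← h1]
    simp [wB']
  obtain ⟨T₂, ρ₂, hρ₂, c'₁, h3⟩ := hA.exact_up_to_refinements c' h2
  dsimp at c'₁ h3
  have h4 : (ρ₂ ≫ ρ₁ ≫ x - c'₁ ≫ j_N) ≫ dB_N = 0 := by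
    rw [Preadditive.sub_comp, Category.assoc, Category.assoc, Category.assoc, h1, hj_N,
      ← Category.assoc c'₁, ← h3, Category.assoc, sub_self]
  obtain ⟨T₃, ρ₃, hρ₃, c₂, h5⟩ := hB.exact_up_to_refinements _ h4
  dsimp at c₂ h5
  refine ⟨T₃, ρ₃ ≫ ρ₂ ≫ ρ₁, inferInstance, ρ₃ ≫ c'₁, c₂, ?_⟩
  rw [← h5, Preadditive.comp_sub]
  simp

theorem ext_Y {A_N B_m B_N D_l D_m D_N D_p J_l J_m J_N : V} [Injective J_N]
    (dB_m : B_m ⟶ B_N) (dD_l : D_l ⟶ D_m) (dD_m : D_m ⟶ D_N) (dD_N : D_N ⟶ D_p)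
    (dJ_l : J_l ⟶ J_m) (dJ_m : J_m ⟶ J_N)
    (j_N : A_N ⟶ B_N) (π_m : B_m ⟶ D_m) (π_N : B_N ⟶ D_N)
    (φ_m : B_m ⟶ J_m) (φ_N : B_N ⟶ J_N) (f_l : D_l ⟶ J_l) (f_m : D_m ⟶ J_m)
    (hπ : dB_m ≫ π_N = π_m ≫ dD_m) (hφ : dB_m ≫ φ_N = φ_m ≫ dJ_m)
    (wD : dD_l ≫ dD_m = 0) (hD : (ShortComplex.mk dD_l dD_m wD).Exact)
    (wD' : dD_m ≫ dD_N = 0) (wJ : dJ_l ≫ dJ_m = 0)
    (hf : dD_l ≫ f_m = f_l ≫ dJ_l) (hπf : π_m ≫ f_m = φ_m)
    (hjπ : j_N ≫ π_N = 0) (hjφ : j_N ≫ φ_N = 0)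
    (hX : ∀ ⦃T : V⦄ (x : T ⟶ B_N), x ≫ π_N ≫ dD_N = 0 →
      ∃ (T' : V) (ρ : T' ⟶ T) (_ : Epi ρ) (a : T' ⟶ A_N) (c : T' ⟶ B_m),
        ρ ≫ x = a ≫ j_N + c ≫ dB_m) :
    ∃ f_N : D_N ⟶ J_N, π_N ≫ f_N = φ_N ∧ dD_m ≫ f_N = f_m ≫ dJ_m := by
  apply exists_ext_of_two
  intro T x₁ x₂ hx
  have hx' : x₁ ≫ π_N = - x₂ ≫ dD_m := eq_neg_of_add_eq_zero_left hx
  have h1 : x₁ ≫ π_N ≫ dD_N = 0 := by
    rw [← Category.assoc, hx', Preadditive.neg_comp, Category.assoc, wD', comp_zero, neg_zero]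
  obtain ⟨T₁, ρ₁, hρ₁, a, c, h2⟩ := hX x₁ h1
  have h3 : (c ≫ π_m + ρ₁ ≫ x₂) ≫ dD_m = 0 := by
    have : ρ₁ ≫ (x₁ ≫ π_N + x₂ ≫ dD_m) = 0 := by rw [hx, comp_zero]
    rw [Preadditive.comp_add, ← Category.assoc, h2, Preadditive.add_comp, Category.assoc,
      hjπ, comp_zero, zero_add, Category.assoc, hπ] at this
    rw [Preadditive.add_comp, Category.assoc, Category.assoc]
    exact this
  obtain ⟨T₂, ρ₂, hρ₂, e, h4⟩ := hD.exact_up_to_refinements _ h3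
  dsimp at e h4
  rw [← cancel_epi ρ₁, ← cancel_epi ρ₂, comp_zero, comp_zero]
  have h5 : ρ₂ ≫ ρ₁ ≫ x₂ = e ≫ dD_l - ρ₂ ≫ c ≫ π_m := by
    rw [← h4, Preadditive.comp_add]
    abel
  rw [Preadditive.comp_add, Preadditive.comp_add, ← Category.assoc ρ₁, h2,
    Preadditive.add_comp, Category.assoc, hjφ, comp_zero, zero_add, Category.assoc, hφ,
    ← Category.assoc ρ₁, ← Category.assoc ρ₂ (ρ₁ ≫ x₂), h5,
    Preadditive.sub_comp, Category.assoc, Category.assoc, Category.assoc,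
    ← Category.assoc dD_l, hf, Category.assoc, wJ, comp_zero, comp_zero, zero_sub,
    ← Category.assoc π_m, hπf]
  abel

theorem exact_sc_succ (K : CochainComplex V ℕ) (hK : ∀ n, 0 < n → K.ExactAt n) (n : ℕ) :
    (ShortComplex.mk (K.d n (n + 1)) (K.d (n + 1) (n + 2)) (K.d_comp_d _ _ _)).Exact :=
  (K.exactAt_iff' n (n + 1) (n + 2) (by simp) (by simp)).1 (hK (n + 1) (Nat.succ_pos n))

theorem exact_sc_zero (K : CochainComplex V ℕ) :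
    (ShortComplex.mk (K.iCycles 0) (K.d 0 1) (K.iCycles_d 0 1)).Exact :=
  ShortComplex.exact_of_f_is_kernel _ (K.cyclesIsKernel 0 1 (by simp))

theorem GL (C' C D I : CochainComplex V ℕ) (j : C' ⟶ C) (π : C ⟶ D)
    (mj : ∀ n, Mono (j.f n)) (w : ∀ n, j.f n ≫ π.f n = 0)
    (ex : ∀ n, (ShortComplex.mk (j.f n) (π.f n) (w n)).Exact)
    (hC' : ∀ n, 0 < n → C'.ExactAt n) (hC : ∀ n, 0 < n → C.ExactAt n)
    (hD : ∀ n, 0 < n → D.ExactAt n)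
    (injI : ∀ n, Injective (I.X n))
    (φ : C ⟶ I) (hjφ : j ≫ φ = 0)
    (g : D.homology 0 ⟶ I.homology 0)
    (hg : HomologicalComplex.homologyMap π 0 ≫ g = HomologicalComplex.homologyMap φ 0) :
    ∃ f : D ⟶ I, π ≫ f = φ ∧ HomologicalComplex.homologyMap f 0 = g := by
  have hjφn : ∀ n, j.f n ≫ φ.f n = 0 := fun n => by
    have := congrArg (fun k => k.f n) hjφ
    simpa using this
  -- the map on cycles in degree 0
  let gt : D.cycles 0 ⟶ I.cycles 0 := D.isoHomologyπ₀.hom ≫ g ≫ I.isoHomologyπ₀.inv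
  have hgt : HomologicalComplex.cyclesMap π 0 ≫ gt = HomologicalComplex.cyclesMap φ 0 := by
    dsimp only [gt]
    rw [HomologicalComplex.isoHomologyπ_hom, ← Category.assoc,
      ← HomologicalComplex.homologyπ_naturality, Category.assoc, ← Category.assoc _ g, hg,
      CochainComplex.isoHomologyπ₀_inv_naturality, ← Category.assoc]
    simp
  -- the auxiliary statement X in each degree
  have hX0 : ∀ ⦃T : V⦄ (x : T ⟶ C.X 0), x ≫ π.f 0 ≫ D.d 0 1 = 0 →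
      ∃ (T' : V) (ρ : T' ⟶ T) (_ : Epi ρ) (a : T' ⟶ C'.X 0) (c : T' ⟶ C.cycles 0),
        ρ ≫ x = a ≫ j.f 0 + c ≫ C.iCycles 0 := by
    intro T x hx
    haveI := mj 2
    exact aux_X (C'.d 0 1) (C'.d 1 2) (C.iCycles 0) (C.d 0 1) (C.d 1 2) (j.f 0) (j.f 1) (j.f 2)
      (π.f 1) (j.comm 0 1) (j.comm 1 2) (C'.d_comp_d _ _ _) (exact_sc_succ C' hC' 0)
      (C.iCycles_d 0 1) (exact_sc_zero C) (C.d_comp_d _ _ _) (w 1) (ex 1) x
      (by rw [← π.comm 0 1]; exact hx)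
  have hXs : ∀ (n : ℕ) ⦃T : V⦄ (x : T ⟶ C.X (n + 1)), x ≫ π.f (n + 1) ≫ D.d (n + 1) (n + 2) = 0 →
      ∃ (T' : V) (ρ : T' ⟶ T) (_ : Epi ρ) (a : T' ⟶ C'.X (n + 1)) (c : T' ⟶ C.X n),
        ρ ≫ x = a ≫ j.f (n + 1) + c ≫ C.d n (n + 1) := by
    intro n T x hx
    haveI := mj (n + 3)
    exact aux_X (C'.d (n + 1) (n + 2)) (C'.d (n + 2) (n + 3)) (C.d n (n + 1))
      (C.d (n + 1) (n + 2)) (C.d (n + 2) (n + 3)) (j.f (n + 1)) (j.f (n + 2)) (j.f (n + 3))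
      (π.f (n + 2)) (j.comm _ _) (j.comm _ _) (C'.d_comp_d _ _ _) (exact_sc_succ C' hC' (n + 1))
      (C.d_comp_d _ _ _) (exact_sc_succ C hC n) (C.d_comp_d _ _ _) (w (n + 2)) (ex (n + 2)) x
      (by rw [← π.comm (n + 1) (n + 2)]; exact hx)
  -- stage 0
  haveI := injI 0
  haveI := injI 1
  obtain ⟨f0, h0a, h0b⟩ : ∃ f0 : D.X 0 ⟶ I.X 0, π.f 0 ≫ f0 = φ.f 0 ∧
      D.iCycles 0 ≫ f0 = gt ≫ I.iCycles 0 := by
    have hD0 : (ShortComplex.mk (0 : (0 : V) ⟶ D.cycles 0) (D.iCycles 0) zero_comp).Exact :=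
      (ShortComplex.exact_iff_mono _ rfl).2 (inferInstanceAs (Mono (D.iCycles 0)))
    exact ext_Y (C.iCycles 0) (0 : (0 : V) ⟶ D.cycles 0) (D.iCycles 0) (D.d 0 1)
      (0 : (0 : V) ⟶ I.cycles 0) (I.iCycles 0) (j.f 0)
      (HomologicalComplex.cyclesMap π 0) (π.f 0) (HomologicalComplex.cyclesMap φ 0) (φ.f 0)
      (0 : (0 : V) ⟶ (0 : V)) gt
      (HomologicalComplex.cyclesMap_i π 0).symm (HomologicalComplex.cyclesMap_i φ 0).symm
      zero_comp hD0 (D.iCycles_d 0 1) zero_comp (by simp) hgt (w 0) (hjφn 0) hX0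
  -- stage 1
  obtain ⟨f1, h1a, h1b⟩ : ∃ f1 : D.X 1 ⟶ I.X 1, π.f 1 ≫ f1 = φ.f 1 ∧
      D.d 0 1 ≫ f1 = f0 ≫ I.d 0 1 :=
    ext_Y (C.d 0 1) (D.iCycles 0) (D.d 0 1) (D.d 1 2) (I.iCycles 0) (I.d 0 1) (j.f 1)
      (π.f 0) (π.f 1) (φ.f 0) (φ.f 1) gt f0 (π.comm 0 1).symm (φ.comm 0 1).symm
      (D.iCycles_d 0 1) (exact_sc_zero D) (D.d_comp_d _ _ _) (I.iCycles_d 0 1) h0b h0a
      (w 1) (hjφn 1) (hXs 0)
  -- the recursion
  obtain ⟨F, hF0, hF⟩ := exists_seq (X := fun n => D.X n ⟶ I.X n)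
    (fun n a b => a ≫ I.d n (n + 1) = D.d n (n + 1) ≫ b ∧ π.f n ≫ a = φ.f n ∧
      π.f (n + 1) ≫ b = φ.f (n + 1)) f0 f1 ⟨h1b.symm, h0a, h1a⟩ (by
      rintro n a b ⟨hab, ha, hb⟩
      haveI := injI (n + 2)
      obtain ⟨c, hc1, hc2⟩ := ext_Y (C.d (n + 1) (n + 2)) (D.d n (n + 1)) (D.d (n + 1) (n + 2))
        (D.d (n + 2) (n + 3)) (I.d n (n + 1)) (I.d (n + 1) (n + 2)) (j.f (n + 2))
        (π.f (n + 1)) (π.f (n + 2)) (φ.f (n + 1)) (φ.f (n + 2)) a b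
        (π.comm _ _).symm (φ.comm _ _).symm (D.d_comp_d _ _ _) (exact_sc_succ D hD n)
        (D.d_comp_d _ _ _) (I.d_comp_d _ _ _) hab.symm hb (w (n + 2)) (hjφn (n + 2))
        (hXs (n + 1))
      exact ⟨c, hc2.symm, hb, hc1⟩)
  let f : D ⟶ I :=
    { f := F
      comm' := by
        rintro i k (rfl : i + 1 = k)
        exact (hF i).1 }
  refine ⟨f, ?_, ?_⟩
  · ext n
    exact (hF n).2.1
  · have hcyc : HomologicalComplex.cyclesMap f 0 = gt := by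
      rw [← cancel_mono (I.iCycles 0), HomologicalComplex.cyclesMap_i]
      change D.iCycles 0 ≫ F 0 = _
      rw [hF0, h0b]
    rw [← cancel_epi (D.homologyπ 0), HomologicalComplex.homologyπ_naturality, hcyc]
    dsimp only [gt]
    simp

end Helpers

open CategoryTheory CategoryTheory.Limits in
/-- In an abelian category, given two degreewise left exact sequences of nonnegatively graded cochain
complexes 0 → C' → C → C'' and 0 → I' → I → I'', each complex exact in positive degrees and the I's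
termwise injective, every commutative ladder of maps g', g, g'' between their degree-zero
cohomologies is induced by chain maps f' : C' → I', f : C → I, f'' : C'' → I'' commuting with the
given maps of complexes. -/
theorem result {V : Type u} [Category.{v} V]
    [Abelian V] (C' C C'' I' I I'' : CochainComplex V ℕ)
    (jC : C' ⟶ C) (πC : C ⟶ C'') (jI : I' ⟶ I) (πI : I ⟶ I'')
    (mC : ∀ n, Mono (jC.f n)) (wC : ∀ n, jC.f n ≫ πC.f n = 0)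
    (exC : ∀ n, (ShortComplex.mk (jC.f n) (πC.f n) (wC n)).Exact)
    (mI : ∀ n, Mono (jI.f n)) (wI : ∀ n, jI.f n ≫ πI.f n = 0)
    (exI : ∀ n, (ShortComplex.mk (jI.f n) (πI.f n) (wI n)).Exact)
    (hC' : ∀ n, 0 < n → C'.ExactAt n) (hC : ∀ n, 0 < n → C.ExactAt n) (hC'' : ∀ n, 0 < n → C''.ExactAt n)
    (hI' : ∀ n, 0 < n → I'.ExactAt n) (hI : ∀ n, 0 < n → I.ExactAt n) (hI'' : ∀ n, 0 < n → I''.ExactAt n)
    (injI' : ∀ n, Injective (I'.X n)) (injI : ∀ n, Injective (I.X n)) (injI'' : ∀ n, Injective (I''.X n))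
    (g' : C'.homology 0 ⟶ I'.homology 0) (g : C.homology 0 ⟶ I.homology 0)
    (g'' : C''.homology 0 ⟶ I''.homology 0)
    (hg1 : HomologicalComplex.homologyMap jC 0 ≫ g = g' ≫ HomologicalComplex.homologyMap jI 0)
    (hg2 : HomologicalComplex.homologyMap πC 0 ≫ g'' = g ≫ HomologicalComplex.homologyMap πI 0) :
    ∃ (f' : C' ⟶ I') (f : C ⟶ I) (f'' : C'' ⟶ I''),
      jC ≫ f = f' ≫ jI ∧ πC ≫ f'' = f ≫ πI ∧
      HomologicalComplex.homologyMap f' 0 = g' ∧ HomologicalComplex.homologyMap f 0 = g ∧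
      HomologicalComplex.homologyMap f'' 0 = g'' := by
  let Z : CochainComplex V ℕ := HomologicalComplex.zero
  have hZ : ∀ n, IsZero (Z.X n) := fun n => isZero_zero V
  have hZex : ∀ n, 0 < n → Z.ExactAt n := fun n _ => HomologicalComplex.ExactAt.of_isZero (hZ n)
  -- step 1
  obtain ⟨f', -, hf'⟩ := GL Z Z C' I' 0 0 (fun n => (hZ n).mono _) (fun n => by simp)
    (fun n => ShortComplex.exact_of_isZero_X₂ _ (hZ n)) hZex hZex hC' injI' 0 (by simp) g'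
    (by simp)
  -- step 2
  obtain ⟨f, hf1, hf2⟩ := GL Z C' C I 0 jC (fun n => (hZ n).mono _) (fun n => by simp)
    (fun n => (ShortComplex.exact_iff_mono _ (by simp)).2 (mC n)) hZex hC' hC injI
    (f' ≫ jI) (by simp) g
    (by rw [hg1, HomologicalComplex.homologyMap_comp, hf'])
  -- step 3
  have hjπI : jI ≫ πI = 0 := by
    ext n
    simpa using wI n
  obtain ⟨f'', hf''1, hf''2⟩ := GL C' C C'' I'' jC πC mC wC exC hC' hC hC'' injI''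
    (f ≫ πI) (by rw [← Category.assoc, hf1, Category.assoc, hjπI, comp_zero]) g''
    (by rw [hg2, HomologicalComplex.homologyMap_comp, hf2])
  exact ⟨f', f, f'', hf1, hf''1, hf', hf2, hf''2⟩

end Groth.Agent.S13375
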