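import Groth.Statements.S13379
-- import your own Groth.Agent.* helpers here

set_option autoImplicit false
universe u
open ProCompl

namespace Groth.Agent.S13379

open ProfiniteGrp ProfiniteGrp.ProfiniteCompletion CategoryTheory

section Helpers

variable {G G' : GrpCat.{u}}

theorem map_eta (f : G ⟶ G') (a : G) :
    (profiniteCompletion.map f).hom (etaFn G a) = etaFn G' (f.hom a) := by
  have h := lift_eta (f ≫ eta G')
  have := ConcreteCategory.congr_hom h a
  exact this

theorem ext_of_eta {Y : Type*} [TopologicalSpace Y] [T2Space Y] (m₁ m₂ : completion G → Y)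
    (h₁ : Continuous m₁) (h₂ : Continuous m₂)
    (h : ∀ a, m₁ (etaFn G a) = m₂ (etaFn G a)) : m₁ = m₂ :=
  (denseRange (G := G)).equalizer h₁ h₂ (funext h)

theorem discr (H : FiniteIndexNormalSubgroup G) : DiscreteTopology ((diagram G).obj H) := ⟨rfl⟩

theorem cont_proj (H : FiniteIndexNormalSubgroup G) :
    Continuous (fun x : completion G => x.1 H) :=
  (continuous_apply H).comp continuous_subtype_val

theorem proj_mono {H K : FiniteIndexNormalSubgroup G} (h : H ≤ K) (x y : completion G)
    (hxy : y.1 H = x.1 H) : y.1 K = x.1 K := by
  rw [← x.2 (homOfLE h), ← y.2 (homOfLE h), hxy]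

end Helpers

/-- Profinite completion is right exact: for an abelian group A (written multiplicatively, discrete) and
a subgroup A', the map on profinite completions induced by A → A/A' is surjective and its kernel is
the image of the completion of A'. (The published statement is right-exactness for topological
abelian groups with completions formed from open subgroups of finite index; this row is the case of
the discrete topology.) -/
theorem result (A : Type u) [CommGroup A] (A' : Subgroup A) :
    Function.Surjective (ProfiniteGrp.profiniteCompletion.map (GrpCat.ofHom (QuotientGroup.mk' A'))).hom ∧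
      (ProfiniteGrp.profiniteCompletion.map (GrpCat.ofHom (QuotientGroup.mk' A'))).hom.toMonoidHom.ker =
        (ProfiniteGrp.profiniteCompletion.map (GrpCat.ofHom A'.subtype)).hom.toMonoidHom.range := by
  classical
  set q : GrpCat.of A ⟶ GrpCat.of (A ⧸ A') := GrpCat.ofHom (QuotientGroup.mk' A') with hq
  set i : GrpCat.of A' ⟶ GrpCat.of A := GrpCat.ofHom A'.subtype with hi
  set qh := (ProfiniteGrp.profiniteCompletion.map q).hom with hqh
  set ih := (ProfiniteGrp.profiniteCompletion.map i).hom with hih
  have hqhc : Continuous qh := qh.continuous_toFun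
  have hihc : Continuous ih := ih.continuous_toFun
  have hrange_closed : IsClosed (Set.range ih) := (isCompact_range hihc).isClosed
  -- composite is trivial
  have hcomp : ∀ y, qh (ih y) = 1 := by
    have := ext_of_eta (G := GrpCat.of A') (fun y => qh (ih y)) (fun _ => 1)
      (hqhc.comp hihc) continuous_const (by
        intro a'
        change qh (ih (etaFn _ a')) = 1
        rw [hih, map_eta, hqh, map_eta]
        have : q.hom (i.hom a') = 1 := by
          change (QuotientGroup.mk' A') (A'.subtype a') = 1
          exact (QuotientGroup.eq_one_iff _).2 a'.2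
        rw [this]
        rfl)
    exact fun y => congrFun this y
  refine ⟨?_, ?_⟩
  · -- surjectivity
    have hclosed : IsClosed (Set.range qh) := (isCompact_range hqhc).isClosed
    have hdense : Dense (Set.range qh) := by
      refine (denseRange (G := GrpCat.of (A ⧸ A'))).mono ?_
      rintro _ ⟨b, rfl⟩
      obtain ⟨a, rfl⟩ := QuotientGroup.mk'_surjective A' b
      exact ⟨etaFn _ a, by rw [hqh, map_eta]; rfl⟩
    have : Set.range qh = Set.univ := by
      rw [← hclosed.closure_eq, hdense.closure_eq]
    exact Set.range_eq_univ.mp this
  · apply le_antisymm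
    · intro x hx
      have hx1 : qh x = 1 := hx
      -- step (i)
      have step1 : ∀ H : FiniteIndexNormalSubgroup (GrpCat.of A), A' ≤ H.toSubgroup →
          x.1 H = 1 := by
        intro H hH
        let φ : A ⧸ A' →* A ⧸ H.toSubgroup :=
          QuotientGroup.map A' H.toSubgroup (MonoidHom.id A) hH
        let K' : FiniteIndexNormalSubgroup (GrpCat.of (A ⧸ A')) :=
          FiniteIndexNormalSubgroup.ofSubgroup φ.ker
        let φb : (A ⧸ A') ⧸ φ.ker →* A ⧸ H.toSubgroup := QuotientGroup.kerLift φ
        haveI := discr K'
        haveI := discr H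
        let φc : ((diagram (GrpCat.of (A ⧸ A'))).obj K') → ((diagram (GrpCat.of A)).obj H) :=
          fun z => φb z
        have hφc : Continuous φc := continuous_of_discreteTopology
        have hm := ext_of_eta (G := GrpCat.of A)
          (Y := ((diagram (GrpCat.of A)).obj H))
          (fun y => φc ((qh y).1 K')) (fun y => y.1 H)
          (hφc.comp ((cont_proj K').comp hqhc))
          (cont_proj H) (by
            intro a
            change φb ((qh (etaFn _ a)).1 K') = (etaFn _ a).1 H
            rw [hqh, map_eta]
            rfl)
        have := congrFun hm x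
        change φb ((qh x).1 K') = x.1 H at this
        rw [← this, hx1]
        exact map_one φb
      -- step (ii)
      have step2 : ∀ H : FiniteIndexNormalSubgroup (GrpCat.of A), ∃ a' : A',
          x.1 H = QuotientGroup.mk (a' : A) := by
        intro H
        haveI : (H.toSubgroup ⊔ A').FiniteIndex :=
          Subgroup.finiteIndex_of_le (H := H.toSubgroup) le_sup_left
        let H' : FiniteIndexNormalSubgroup (GrpCat.of A) :=
          FiniteIndexNormalSubgroup.ofSubgroup (H.toSubgroup ⊔ A')
        have hHH' : H ≤ H' := fun z hz => (le_sup_left : H.toSubgroup ≤ H.toSubgroup ⊔ A') hz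
        have h1 : x.1 H' = 1 := step1 H' le_sup_right
        obtain ⟨a, ha⟩ := QuotientGroup.mk_surjective (x.1 H)
        have h2 := x.2 (homOfLE hHH')
        rw [h1, ← ha] at h2
        have h3 : a ∈ H.toSubgroup ⊔ A' := by
          have : (QuotientGroup.mk a : A ⧸ (H.toSubgroup ⊔ A')) = 1 := h2
          exact (QuotientGroup.eq_one_iff a).1 this
        obtain ⟨h, hh, a', ha', rfl⟩ := Subgroup.mem_sup.1 h3
        refine ⟨⟨a', ha'⟩, ?_⟩
        rw [← ha]
        apply QuotientGroup.eq.2
        change (h * a')⁻¹ * a' ∈ H.toSubgroup
        have : (h * a')⁻¹ * a' = h⁻¹ := by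
          rw [mul_inv_rev, mul_comm a'⁻¹, mul_assoc, inv_mul_cancel, mul_one]
        rw [this]
        exact H.toSubgroup.inv_mem hh
      -- step (iii)
      let S : FiniteIndexNormalSubgroup (GrpCat.of A) → Set (completion (GrpCat.of A)) :=
        fun H => Set.range ih ∩ {y | y.1 H = x.1 H}
      have hSmono : ∀ {H K : FiniteIndexNormalSubgroup (GrpCat.of A)}, H ≤ K → S H ⊆ S K :=
        fun h y hy => ⟨hy.1, proj_mono h x y hy.2⟩
      have hSdir : Directed (· ⊇ ·) S := fun H₁ H₂ =>
        ⟨H₁ ⊓ H₂, hSmono inf_le_left, hSmono inf_le_right⟩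
      have hSne : ∀ H, (S H).Nonempty := by
        intro H
        obtain ⟨a', ha'⟩ := step2 H
        refine ⟨ih (etaFn _ a'), ⟨_, rfl⟩, ?_⟩
        change (ih (etaFn _ a')).1 H = x.1 H
        rw [hih, map_eta, ha']
        rfl
      have hScl : ∀ H, IsClosed (S H) := by
        intro H
        haveI := discr H
        exact hrange_closed.inter (isClosed_singleton.preimage (cont_proj H))
      let H₀ : FiniteIndexNormalSubgroup (GrpCat.of A) :=
        FiniteIndexNormalSubgroup.ofSubgroup (⊤ : Subgroup A)
      haveI : Nonempty (FiniteIndexNormalSubgroup (GrpCat.of A)) := ⟨H₀⟩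
      obtain ⟨y, hy⟩ := IsCompact.nonempty_iInter_of_directed_nonempty_isCompact_isClosed S hSdir
        hSne (fun H => (hScl H).isCompact) hScl
      have hyx : y = x := by
        apply Subtype.ext
        funext H
        exact (Set.mem_iInter.1 hy H).2
      rw [← hyx]
      exact (Set.mem_iInter.1 hy H₀).1
    · rintro _ ⟨y, rfl⟩
      exact hcomp y

end Groth.Agent.S13379
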