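import Groth.Statements.S13378
import Groth.Agent.S13379
import Groth.Agent.H67.ResFin

set_option autoImplicit false
universe u
open ProCompl

namespace Groth.Agent.S13378

open ProfiniteGrp ProfiniteGrp.ProfiniteCompletion CategoryTheory
open Groth.Agent.S13379 (map_eta ext_of_eta discr cont_proj proj_mono)

/-- For an abelian group A (written multiplicatively, discrete) and a subgroup A' such that the quotient
A/A' has no nontrivial divisible element and its torsion elements are killed by one positive
integer, the map induced on profinite completions by the inclusion of A' in A is injective. (The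
published statement is for topological abelian groups in which every nA is open, with completions
formed from open subgroups of finite index; this row is the case of the discrete topology.) -/
theorem result (A : Type u) [CommGroup A] (A' : Subgroup A)
    (hdiv : ∀ x : A ⧸ A', (∀ n : ℕ, 0 < n → ∃ y : A ⧸ A', y ^ n = x) → x = 1)
    (htors : ∃ N : ℕ, 0 < N ∧ ∀ x : A ⧸ A', IsOfFinOrder x → x ^ N = 1) :
    Function.Injective (ProfiniteGrp.profiniteCompletion.map (GrpCat.ofHom A'.subtype)).hom := by
  classical
  obtain ⟨N, hN, htors'⟩ := htors
  set i : GrpCat.of A' ⟶ GrpCat.of A := GrpCat.ofHom A'.subtype with hi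
  set ih := (ProfiniteGrp.profiniteCompletion.map i).hom with hih
  have hihc : Continuous ih := ih.continuous_toFun
  rw [injective_iff_map_eq_one]
  intro y hy
  have key : ∀ H : FiniteIndexNormalSubgroup (GrpCat.of A),
      y.1 (FiniteIndexNormalSubgroup.comap (G := GrpCat.of A') A'.subtype H) = 1 := by
    intro H
    let H'' : FiniteIndexNormalSubgroup (GrpCat.of A') :=
      FiniteIndexNormalSubgroup.comap (G := GrpCat.of A') A'.subtype H
    let ψ : A' ⧸ H''.toSubgroup →* A ⧸ H.toSubgroup :=
      QuotientGroup.map _ _ A'.subtype (fun x hx => hx)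
    have hψ : Function.Injective ψ := by
      rw [injective_iff_map_eq_one]
      intro z hz
      obtain ⟨x, rfl⟩ := QuotientGroup.mk_surjective z
      have hx : (x : A) ∈ H.toSubgroup := (QuotientGroup.eq_one_iff _).1 hz
      exact (QuotientGroup.eq_one_iff _).2 hx
    haveI := discr H''
    haveI := discr H
    let ψc : ((diagram (GrpCat.of A')).obj H'') → ((diagram (GrpCat.of A)).obj H) :=
      fun z => ψ z
    have hψc : Continuous ψc := continuous_of_discreteTopology
    have hm := ext_of_eta (G := GrpCat.of A') (Y := ((diagram (GrpCat.of A)).obj H))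
      (fun y => ψc (y.1 H'')) (fun y => (ih y).1 H)
      (hψc.comp (cont_proj H'')) ((cont_proj H).comp hihc) (by
        intro a
        change ψ ((etaFn _ a).1 H'') = (ih (etaFn _ a)).1 H
        rw [hih, map_eta]
        rfl)
    have h2 := congrFun hm y
    change ψ (y.1 H'') = (ih y).1 H at h2
    rw [hy] at h2
    exact hψ (h2.trans (map_one ψ).symm)
  apply Subtype.ext
  funext H'
  haveI : H'.toSubgroup.FiniteIndex := inferInstance
  obtain ⟨H, hHfi, hHle⟩ :=
    Groth.Agent.H67.exists_finiteIndex_inter_le A' N hN htors' H'.toSubgroup
  haveI := hHfi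
  let Hn : FiniteIndexNormalSubgroup (GrpCat.of A) := FiniteIndexNormalSubgroup.ofSubgroup H
  have hle : FiniteIndexNormalSubgroup.comap (G := GrpCat.of A') A'.subtype Hn ≤ H' :=
    fun x hx => hHle x hx
  exact proj_mono hle 1 y (by rw [key Hn]; rfl)

end Groth.Agent.S13378
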