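import Groth.Statements.S13386
-- import your own Groth.Agent.* helpers here

set_option autoImplicit false
universe u
open scoped TensorProduct
open ZeroCyc

namespace Groth.Agent.S13386

/-- Let A' = T⁻¹A be a localization of the ring A, M an A-module and M' = A' ⊗_A M. In the divided power
algebra Γ_{A'}(M') the A'-span of the d-th divided powers γ_d(1 ⊗ m), m ∈ M, is the A'-span of
γ_d(M'). (The published statement phrases this as the surjectivity of the natural map from (γ_d(M))
⊗_A A' onto (γ_d(M')); its further clause through the base-change isomorphism Γ_A(M) ⊗_A A' ≅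
Γ_{A'}(M') is not restated here.) -/
theorem result {A A' M : Type u} [CommRing A] [CommRing A']
    [Algebra A A'] (T : Submonoid A) [IsLocalization T A'] [AddCommGroup M] [Module A M] (d : ℕ) :
    Submodule.span A' (Set.range fun m : M => DividedPowerAlgebra.dp A' d ((1 : A') ⊗ₜ[A] m)) =
      Submodule.span A' (Set.range (DividedPowerAlgebra.dp A' d (M := A' ⊗[A] M))) := by
  apply le_antisymm
  · apply Submodule.span_mono
    rintro _ ⟨m, rfl⟩
    exact ⟨_, rfl⟩
  · rw [Submodule.span_le]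
    rintro _ ⟨y, rfl⟩
    -- every element of A' ⊗ M is of the form c • (1 ⊗ m)
    have hy : ∃ (c : A') (m : M), c • ((1 : A') ⊗ₜ[A] m) = y := by
      induction y using TensorProduct.induction_on with
      | zero => exact ⟨0, 0, by simp⟩
      | tmul a' m =>
        refine ⟨a', m, ?_⟩
        rw [TensorProduct.smul_tmul', smul_eq_mul, mul_one]
      | add y₁ y₂ h₁ h₂ =>
        obtain ⟨c₁, m₁, rfl⟩ := h₁
        obtain ⟨c₂, m₂, rfl⟩ := h₂
        obtain ⟨⟨a₁, t₁⟩, h₁⟩ := IsLocalization.surj T c₁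
        obtain ⟨⟨a₂, t₂⟩, h₂⟩ := IsLocalization.surj T c₂
        simp only at h₁ h₂
        -- c₁ = a₁ / t₁, c₂ = a₂ / t₂ ; common denominator t₁ t₂
        have hu₁ : IsUnit (algebraMap A A' t₁) := IsLocalization.map_units A' t₁
        have hu₂ : IsUnit (algebraMap A A' t₂) := IsLocalization.map_units A' t₂
        obtain ⟨u₁, hu₁'⟩ := hu₁
        obtain ⟨u₂, hu₂'⟩ := hu₂
        refine ⟨(↑(u₁⁻¹ * u₂⁻¹) : A'), (t₂ : A) • a₁ • m₁ + (t₁ : A) • a₂ • m₂, ?_⟩
        have e₁ : c₁ = ↑u₁⁻¹ * algebraMap A A' a₁ := by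
          rw [← h₁, ← hu₁']; simp [mul_comm]
        have e₂ : c₂ = ↑u₂⁻¹ * algebraMap A A' a₂ := by
          rw [← h₂, ← hu₂']; simp [mul_comm]
        have key : ∀ (a : A) (m : M), (1 : A') ⊗ₜ[A] (a • m) = algebraMap A A' a • ((1 : A') ⊗ₜ[A] m) := by
          intro a m
          rw [TensorProduct.tmul_smul, algebraMap_smul]
        rw [TensorProduct.tmul_add, key, key, key, key, smul_add, e₁, e₂]
        simp only [smul_smul, Units.val_mul]
        congr 2
        · rw [← hu₂']
          have : (↑u₁⁻¹ * ↑u₂⁻¹ * ((u₂ : A') * (algebraMap A A') a₁) : A') =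
              ↑u₁⁻¹ * (↑u₂⁻¹ * (u₂ : A')) * (algebraMap A A') a₁ := by ring
          rw [this, Units.inv_mul, mul_one]
        · rw [← hu₁']
          have : (↑u₁⁻¹ * ↑u₂⁻¹ * ((u₁ : A') * (algebraMap A A') a₂) : A') =
              ↑u₂⁻¹ * (↑u₁⁻¹ * (u₁ : A')) * (algebraMap A A') a₂ := by ring
          rw [this, Units.inv_mul, mul_one]
    obtain ⟨c, m, rfl⟩ := hy
    rw [DividedPowerAlgebra.dp_smul]
    exact Submodule.smul_mem _ _ (Submodule.subset_span ⟨m, rfl⟩)

end Groth.Agent.S13386
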