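import Groth.Statements.S13387
import Mathlib
-- import your own Groth.Agent.* helpers here

set_option autoImplicit false
universe u
open ZeroCyc

namespace Groth.Agent.S13387

open DividedPowerAlgebra

/-- Cramer's rule in a module. -/
theorem cramer_mem {A : Type u} [CommRing A] {E : Type u} [AddCommGroup E] [Module A E]
    (W : Submodule A E) {N : ℕ} (V : Matrix (Fin N) (Fin N) A) (c : Fin N → E)
    (h : ∀ i : Fin N, ∑ q : Fin N, V i q • c q ∈ W) (q : Fin N) : V.det • c q ∈ W := by
  classical
  have key : V.det • c q = ∑ i, V.adjugate q i • ∑ q', V i q' • c q' := by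
    have h1 : ∀ i, V.adjugate q i • ∑ q', V i q' • c q' =
        ∑ q', (V.adjugate q i * V i q') • c q' := by
      intro i
      rw [Finset.smul_sum]
      refine Finset.sum_congr rfl (fun q' _ => ?_)
      rw [smul_smul]
    rw [Finset.sum_congr rfl (fun i _ => h1 i), Finset.sum_comm]
    have h2 : ∀ q', ∑ i, (V.adjugate q i * V i q') • c q' =
        ((V.adjugate * V) q q') • c q' := by
      intro q'; rw [← Finset.sum_smul, Matrix.mul_apply]
    rw [Finset.sum_congr rfl (fun q' _ => h2 q'), Matrix.adjugate_mul]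
    simp [Matrix.smul_apply, Matrix.one_apply]
  rw [key]
  exact Submodule.sum_mem _ (fun i _ => Submodule.smul_mem _ _ (h i))

/-- If a submodule contains `u • x` with `u ∣ U`, it contains `U • x`. -/
theorem smul_mem_of_dvd {A : Type u} [CommRing A] {E : Type u} [AddCommGroup E] [Module A E]
    (W : Submodule A E) {u U : A} (hd : u ∣ U) {x : E} (hx : u • x ∈ W) : U • x ∈ W := by
  obtain ⟨r, rfl⟩ := hd
  rw [mul_comm, mul_smul]
  exact W.smul_mem r hx

theorem prod_mem {A M : Type u} [CommRing A] [AddCommGroup M] [Module A M] (d : ℕ)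
    (p : Ideal A) [p.IsPrime] (a : Fin d → A) (ha : ∀ i j : Fin d, i ≠ j → a i - a j ∉ p) :
    ∀ (n : ℕ) (k : Fin n → ℕ) (m : Fin n → M), (∑ i, k i) = d →
      ∃ u ∈ p.primeCompl, u • ∏ i, dp A (k i) (m i) ∈
        Submodule.span A (Set.range (dp A d : M → DividedPowerAlgebra A M)) := by
  classical
  intro n
  induction n with
  | zero =>
    intro k m hk
    rw [Finset.univ_eq_empty, Finset.sum_empty] at hk
    refine ⟨1, Submonoid.one_mem _, ?_⟩
    rw [one_smul, Finset.univ_eq_empty, Finset.prod_empty, ← hk]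
    exact Submodule.subset_span ⟨0, dp_zero⟩
  | succ n ih =>
    intro k m hk
    cases n with
    | zero =>
      rw [Fin.sum_univ_one] at hk
      refine ⟨1, Submonoid.one_mem _, ?_⟩
      rw [one_smul, Fin.prod_univ_one, hk]
      exact Submodule.subset_span ⟨m 0, rfl⟩
    | succ n =>
      rw [Fin.prod_univ_succ, Fin.prod_univ_succ]
      rw [Fin.sum_univ_succ, Fin.sum_univ_succ] at hk
      obtain ⟨rest, hrest⟩ : ∃ rest : DividedPowerAlgebra A M,
          rest = ∏ i : Fin n, dp A (k i.succ.succ) (m i.succ.succ) := ⟨_, rfl⟩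
      rw [← hrest]
      obtain ⟨W, hW⟩ : ∃ W, W = Submodule.span A (Set.range (dp A d : M → DividedPowerAlgebra A M)) :=
        ⟨_, rfl⟩
      rw [← hW]
      obtain ⟨N, hN⟩ : ∃ N, N = k 0 + k (Fin.succ 0) := ⟨_, rfl⟩
      have hNd : N ≤ d := by omega
      obtain ⟨c, hc⟩ : ∃ c : Fin (N + 1) → DividedPowerAlgebra A M,
          ∀ q, c q = dp A q.val (m (Fin.succ 0)) * dp A (N - q.val) (m 0) * rest :=
        ⟨_, fun _ => rfl⟩
      have hall : ∀ s : A, ∃ u ∈ p.primeCompl, u • ∑ q : Fin (N + 1), s ^ q.val • c q ∈ W := by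
        intro s
        obtain ⟨u, hu, h1⟩ := ih (Fin.cons (k 0 + k (Fin.succ 0)) (fun i => k i.succ.succ))
          (Fin.cons (s • m (Fin.succ 0) + m 0) (fun i => m i.succ.succ))
          (by rw [Fin.sum_univ_succ]; simp only [Fin.cons_zero, Fin.cons_succ]; omega)
        refine ⟨u, hu, ?_⟩
        rw [Fin.prod_univ_succ] at h1
        simp only [Fin.cons_zero, Fin.cons_succ] at h1
        rw [← hrest, ← hN, dp_add, Finset.Nat.sum_antidiagonal_eq_sum_range_succ
          (fun a b => dp A a (s • m (Fin.succ 0)) * dp A b (m 0)), Finset.sum_range,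
          Finset.sum_mul, ← hW] at h1
        have h2 : ∑ q : Fin (N + 1), s ^ q.val • c q =
            ∑ i : Fin (N.succ), dp A (↑i) (s • m (Fin.succ 0)) * dp A (N - ↑i) (m 0) * rest := by
          refine Finset.sum_congr rfl (fun q _ => ?_)
          rw [hc, dp_smul, smul_mul_assoc, smul_mul_assoc]
        rw [h2]; exact h1
      have htop : ∃ u ∈ p.primeCompl, u • c (Fin.last N) ∈ W := by
        obtain ⟨u, hu, h1⟩ := ih (Fin.cons (k 0 + k (Fin.succ 0)) (fun i => k i.succ.succ))
          (Fin.cons (m (Fin.succ 0)) (fun i => m i.succ.succ))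
          (by rw [Fin.sum_univ_succ]; simp only [Fin.cons_zero, Fin.cons_succ]; omega)
        refine ⟨u, hu, ?_⟩
        rw [Fin.prod_univ_succ] at h1
        simp only [Fin.cons_zero, Fin.cons_succ] at h1
        rw [← hrest, ← hN, ← hW] at h1
        rw [hc, Fin.val_last, Nat.sub_self, dp_zero, mul_one]
        exact h1
      choose u hu hmem using hall
      obtain ⟨ut, hut, hmemt⟩ := htop
      -- the evaluation points
      obtain ⟨s, hs⟩ : ∃ s : Fin N → A, s = fun i => a (Fin.castLE hNd i) := ⟨_, rfl⟩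
      obtain ⟨U, hU⟩ : ∃ U : A, U = (∏ i : Fin N, u (s i)) * ut := ⟨_, rfl⟩
      have hUp : U ∈ p.primeCompl := by
        rw [hU]
        exact Submonoid.mul_mem _ (Submonoid.prod_mem _ (fun i _ => hu (s i))) hut
      have hUF : ∀ i : Fin N, U • ∑ q : Fin (N + 1), s i ^ q.val • c q ∈ W := by
        intro i
        refine smul_mem_of_dvd W ?_ (hmem (s i))
        rw [hU]
        exact (Finset.dvd_prod_of_mem (fun i => u (s i)) (Finset.mem_univ i)).mul_right ut
      have hUt : U • c (Fin.last N) ∈ W := by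
        refine smul_mem_of_dvd W ?_ hmemt
        rw [hU]
        exact dvd_mul_left ut _
      have hsys : ∀ i : Fin N, ∑ q : Fin N,
          Matrix.vandermonde s i q • (U • c (Fin.castSucc q)) ∈ W := by
        intro i
        have h1 := hUF i
        rw [Fin.sum_univ_castSucc, smul_add] at h1
        have h2 : U • ∑ q : Fin N, s i ^ (Fin.castSucc q).val • c (Fin.castSucc q) =
            ∑ q : Fin N, Matrix.vandermonde s i q • (U • c (Fin.castSucc q)) := by
          rw [Finset.smul_sum]
          refine Finset.sum_congr rfl (fun q _ => ?_)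
          rw [Matrix.vandermonde_apply, Fin.val_castSucc, smul_comm]
        rw [h2] at h1
        have h3 : U • s i ^ (Fin.last N).val • c (Fin.last N) ∈ W := by
          rw [smul_comm]
          exact W.smul_mem _ hUt
        exact (Submodule.add_mem_iff_left W h3).mp h1
      have hdet : (Matrix.vandermonde s).det ∈ p.primeCompl := by
        rw [Matrix.det_vandermonde]
        refine Submonoid.prod_mem _ (fun i _ => Submonoid.prod_mem _ (fun j hj => ?_))
        rw [hs]
        refine ha _ _ (fun heq => ?_)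
        have h1 : (j : ℕ) = (i : ℕ) := by
          have := congrArg Fin.val heq
          simpa using this
        have h2 : i < j := Finset.mem_Ioi.1 hj
        exact absurd (Fin.ext h1) (ne_of_gt h2)
      have hcr : ∀ q : Fin N, (Matrix.vandermonde s).det • (U • c (Fin.castSucc q)) ∈ W :=
        fun q => cramer_mem W (Matrix.vandermonde s) (fun q => U • c (Fin.castSucc q)) hsys q
      have hallq : ∀ q : Fin (N + 1), ((Matrix.vandermonde s).det * U) • c q ∈ W := by
        intro q
        refine Fin.lastCases ?_ (fun q' => ?_) q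
        · rw [mul_smul]; exact W.smul_mem _ hUt
        · rw [mul_smul]; exact hcr q'
      refine ⟨(Matrix.vandermonde s).det * U, Submonoid.mul_mem _ hdet hUp, ?_⟩
      have hfin := hallq ⟨k (Fin.succ 0), by omega⟩
      rw [hc] at hfin
      have hk0 : N - k (Fin.succ 0) = k 0 := by omega
      simp only [hk0] at hfin
      have : dp A (k 0) (m 0) * (dp A (k (Fin.succ 0)) (m (Fin.succ 0)) * rest) =
          dp A (k (Fin.succ 0)) (m (Fin.succ 0)) * dp A (k 0) (m 0) * rest := by ring
      rw [this]; exact hfin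

theorem exists_points {A : Type u} [CommRing A] (d : ℕ) (P : Ideal A) [P.IsPrime]
    (hc : (d : Cardinal.{u}) ≤ Cardinal.mk P.ResidueField) :
    ∃ a : Fin d → A, ∀ i j : Fin d, i ≠ j → a i - a j ∉ P := by
  classical
  have h1 : Cardinal.lift.{u} (Cardinal.mk (Fin d)) ≤
      Cardinal.lift.{0} (Cardinal.mk P.ResidueField) := by
    rw [Cardinal.mk_fin, Cardinal.lift_natCast, Cardinal.lift_uzero]; exact hc
  obtain ⟨f⟩ := Cardinal.lift_mk_le'.mp h1
  have hz : ∀ i, ∃ z : Localization.AtPrime P, IsLocalRing.residue _ z = f i :=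
    fun i => IsLocalRing.residue_surjective (f i)
  choose z hz using hz
  obtain ⟨b, hb⟩ := IsLocalization.exist_integer_multiples P.primeCompl Finset.univ z
  have hb' : ∀ i, ∃ a : A, algebraMap A (Localization.AtPrime P) a = (b : A) • z i :=
    fun i => hb i (Finset.mem_univ i)
  choose a ha using hb'
  refine ⟨a, fun i j hij hmem => hij (f.injective ?_)⟩
  have h2 : algebraMap A (Localization.AtPrime P) (a i - a j) ∈
      IsLocalRing.maximalIdeal (Localization.AtPrime P) :=
    (IsLocalization.AtPrime.to_map_mem_maximal_iff (Localization.AtPrime P) P (a i - a j)).mpr hmem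
  rw [map_sub, ha, ha, ← smul_sub, Algebra.smul_def] at h2
  have h3 : z i - z j ∈ IsLocalRing.maximalIdeal (Localization.AtPrime P) :=
    (Ideal.unit_mul_mem_iff_mem _ (IsLocalization.map_units _ b)).mp h2
  rw [← hz i, ← hz j, ← sub_eq_zero, ← map_sub, IsLocalRing.residue_eq_zero_iff]
  exact h3

theorem cyclic_case {A M : Type u} [CommRing A] [AddCommGroup M] [Module A M] (d : ℕ)
    (P : Ideal A) [P.IsPrime]
    (hcyc : ∃ x : LocalizedModule P.primeCompl M,
      Submodule.span (Localization.AtPrime P) {x} = ⊤)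
    (n : ℕ) (k : Fin n → ℕ) (m : Fin n → M) (hk : (∑ i, k i) = d) :
    ∃ u ∈ P.primeCompl, u • ∏ i, dp A (k i) (m i) ∈
      Submodule.span A (Set.range (dp A d : M → DividedPowerAlgebra A M)) := by
  classical
  obtain ⟨x, hx⟩ := hcyc
  induction x using LocalizedModule.induction_on with
  | h m₀ s₀ =>
  have key : ∀ y : M, ∃ t ∈ P.primeCompl, ∃ b : A, t • y = b • m₀ := by
    intro y
    have hy : LocalizedModule.mk y (1 : P.primeCompl) ∈
        Submodule.span (Localization.AtPrime P) {LocalizedModule.mk m₀ s₀} := by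
      rw [hx]; trivial
    obtain ⟨r, hr⟩ := Submodule.mem_span_singleton.mp hy
    induction r using Localization.induction_on with
    | H rs =>
    obtain ⟨r, s⟩ := rs
    rw [LocalizedModule.mk_smul_mk, LocalizedModule.mk_eq] at hr
    obtain ⟨v, hv⟩ := hr
    refine ⟨(v : A) * ((s : A) * (s₀ : A)), (v * (s * s₀)).2, (v : A) * r, ?_⟩
    simp only [Submonoid.smul_def, Submonoid.coe_mul, Submonoid.coe_one, one_smul, smul_smul]
      at hv
    rw [hv]
  choose t ht b hb using key
  refine ⟨∏ i, t (m i) ^ k i, Submonoid.prod_mem _ (fun i _ => pow_mem (ht _) _), ?_⟩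
  have h1 : (∏ i, t (m i) ^ k i) • ∏ i, dp A (k i) (m i) =
      (∏ i, b (m i) ^ k i) • ∏ i, dp A (k i) m₀ := by
    rw [← Finset.prod_smul, ← Finset.prod_smul]
    refine Finset.prod_congr rfl (fun i _ => ?_)
    rw [← dp_smul, ← dp_smul, hb]
  rw [h1, prod_dp, hk, ← nsmul_eq_mul]
  have h0 : dp A d m₀ ∈ Submodule.span A (Set.range (dp A d : M → DividedPowerAlgebra A M)) :=
    Submodule.subset_span ⟨m₀, rfl⟩
  exact Submodule.smul_mem _ _ (nsmul_mem h0 _)


/-- Let A be a commutative ring, M an A-module and d ≥ 0. Suppose that at each prime p of A either k(p)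
has d or more elements, or the localisation M_p is a cyclic A_p-module. Then the degree-d piece
Γ^d_A(M) of the divided power algebra Γ_A(M) is spanned over A by the d-th divided powers γ_d(m), m
∈ M. -/
theorem result {A M : Type u} [CommRing A] [AddCommGroup M]
    [Module A M] (d : ℕ)
    (h : ∀ p : PrimeSpectrum A, (d : Cardinal) ≤ Cardinal.mk p.asIdeal.ResidueField ∨
      ∃ x : LocalizedModule p.asIdeal.primeCompl M, Submodule.span (Localization.AtPrime p.asIdeal) {x} = ⊤) :
    Submodule.span A (Set.range (DividedPowerAlgebra.dp A d : M → DividedPowerAlgebra A M)) =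
      PolLaw.gammaPiece A M d := by
  classical
  apply le_antisymm
  · rw [Submodule.span_le]
    rintro _ ⟨m, rfl⟩
    refine Submodule.subset_span ⟨1, fun _ => d, fun _ => m, ?_, ?_⟩
    · simp
    · simp
  · unfold PolLaw.gammaPiece
    rw [Submodule.span_le]
    rintro _ ⟨n, k, m, hk, rfl⟩
    by_contra hx
    obtain ⟨W, hW⟩ : ∃ W, W = Submodule.span A
        (Set.range (DividedPowerAlgebra.dp A d : M → DividedPowerAlgebra A M)) := ⟨_, rfl⟩
    rw [← hW] at hx
    have hne : W.colon {∏ i, DividedPowerAlgebra.dp A (k i) (m i)} ≠ ⊤ := by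
      intro htop
      apply hx
      have h1 : (1 : A) ∈ W.colon {∏ i, DividedPowerAlgebra.dp A (k i) (m i)} := by
        rw [htop]; trivial
      rw [Submodule.mem_colon_singleton, one_smul] at h1
      exact h1
    obtain ⟨P, hP, hle⟩ := Ideal.exists_le_maximal _ hne
    haveI := hP.isPrime
    obtain ⟨u, hu, hux⟩ : ∃ u ∈ P.primeCompl,
        u • ∏ i, DividedPowerAlgebra.dp A (k i) (m i) ∈ W := by
      rw [hW]
      rcases h ⟨P, hP.isPrime⟩ with hcard | hcyc
      · obtain ⟨a, ha⟩ := exists_points d P hcard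
        exact prod_mem d P a ha n k m hk
      · exact cyclic_case d P hcyc n k m hk
    exact hu (hle (Submodule.mem_colon_singleton.mpr hux))

end Groth.Agent.S13387
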