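import Groth.Statements.S13388
import Mathlib
-- import your own Groth.Agent.* helpers here

set_option autoImplicit false
universe u
open ZeroCyc

namespace Groth.Agent.S13388

open DividedPowerAlgebra Polynomial TensorProduct

section SqZero
variable {B : Type u} [CommRing B] {ι : Type u}

theorem coeff_succ_lin_mul (a : B) (Q : B[X]) (n : ℕ) :
    ((1 + C a * X) * Q).coeff (n + 1) = Q.coeff (n + 1) + a * Q.coeff n := by
  rw [add_mul, one_mul, coeff_add, mul_assoc, coeff_C_mul, coeff_X_mul]

theorem coeff_zero_lin_mul (a : B) (Q : B[X]) :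
    ((1 + C a * X) * Q).coeff 0 = Q.coeff 0 := by
  rw [mul_coeff_zero]; simp

theorem prodLin_coeff_zero [DecidableEq ι] (s : Finset ι) (a : ι → B) :
    (∏ k ∈ s, (1 + C (a k) * X)).coeff 0 = 1 := by
  induction s using Finset.induction_on with
  | empty => simp
  | insert i s hi ih => rw [Finset.prod_insert hi, coeff_zero_lin_mul, ih]

theorem prodLin_coeff_one [DecidableEq ι] (s : Finset ι) (a : ι → B) :
    (∏ k ∈ s, (1 + C (a k) * X)).coeff 1 = ∑ k ∈ s, a k := by
  induction s using Finset.induction_on with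
  | empty => simp [Polynomial.coeff_one]
  | insert i s hi ih =>
    rw [Finset.prod_insert hi, Finset.sum_insert hi]
    show ((1 + C (a i) * X) * ∏ k ∈ s, (1 + C (a k) * X)).coeff (0 + 1) = _
    rw [coeff_succ_lin_mul, zero_add, ih, prodLin_coeff_zero, mul_one, add_comm]

theorem prodLin_coeff_mul [DecidableEq ι] (s : Finset ι) (a : ι → B)
    (ha : ∀ k ∈ s, a k * a k = 0) :
    ∀ n k N : ℕ, n + k = N →
      (∏ i ∈ s, (1 + C (a i) * X)).coeff n * (∏ i ∈ s, (1 + C (a i) * X)).coeff k =
        (N.choose n : B) * (∏ i ∈ s, (1 + C (a i) * X)).coeff N := by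
  induction s using Finset.induction_on with
  | empty =>
    intro n k N h
    simp only [Finset.prod_empty, coeff_one]
    subst h
    by_cases hn : n = 0
    · subst hn; simp
    · have : n + k ≠ 0 := by omega
      simp [hn, this]
  | insert i s hi ih =>
    intro n k N h
    have hai : a i * a i = 0 := ha i (Finset.mem_insert_self i s)
    have ih' := ih (fun k hk => ha k (Finset.mem_insert_of_mem hk))
    rw [Finset.prod_insert hi]
    obtain ⟨Q, hQ⟩ : ∃ Q, Q = ∏ i ∈ s, (1 + C (a i) * X) := ⟨_, rfl⟩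
    rw [← hQ] at ih' ⊢
    have hQ0 : Q.coeff 0 = 1 := by rw [hQ]; exact prodLin_coeff_zero s a
    subst h
    rcases n with _ | n'
    · simp [coeff_zero_lin_mul, hQ0]
    rcases k with _ | k'
    · simp [coeff_zero_lin_mul, hQ0]
    have e : n' + 1 + (k' + 1) = (n' + k' + 1) + 1 := by ring
    rw [e, coeff_succ_lin_mul, coeff_succ_lin_mul, coeff_succ_lin_mul]
    have h1 := ih' (n' + 1) (k' + 1) (n' + k' + 1 + 1) (by ring)
    have h2 := ih' (n' + 1) k' (n' + k' + 1) (by ring)
    have h3 := ih' n' (k' + 1) (n' + k' + 1) (by ring)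
    have hp : (((n' + k' + 1 + 1).choose (n' + 1) : ℕ) : B) =
        (((n' + k' + 1).choose n' : ℕ) : B) + (((n' + k' + 1).choose (n' + 1) : ℕ) : B) := by
      rw [Nat.choose_succ_succ]; push_cast; ring
    linear_combination h1 + a i * h2 + a i * h3 + (Q.coeff n' * Q.coeff k') * hai -
      (a i * Q.coeff (n' + k' + 1)) * hp

end SqZero

section Phi
variable {A : Type u} [CommRing A] {M : Type u} [AddCommGroup M] [Module A M]
  {B : Type u} [CommRing B] [Algebra A B] {ι : Type u} [Fintype ι] [DecidableEq ι]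
  (z : ι → M →ₗ[A] B)

/-- The generating polynomial `∏ (1 + z_k(m) X)`. -/
noncomputable def E (m : M) : B[X] := ∏ k, (1 + C (z k m) * X)

theorem E_add (hz : ∀ k m m', z k m * z k m' = 0) (u v : M) : E z (u + v) = E z u * E z v := by
  unfold E
  rw [← Finset.prod_mul_distrib]
  refine Finset.prod_congr rfl (fun k _ => ?_)
  have h0 : (C (z k u) : B[X]) * C (z k v) = 0 := by rw [← C_mul, hz, C_0]
  rw [map_add, C_add]
  linear_combination (-(X : B[X]) ^ 2) * h0

theorem E_smul (r : A) (m : M) (n : ℕ) : (E z (r • m)).coeff n = r ^ n • (E z m).coeff n := by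
  have h : E z (r • m) = (E z m).comp (C (algebraMap A B r) * X) := by
    unfold E
    rw [Polynomial.prod_comp]
    refine Finset.prod_congr rfl (fun k _ => ?_)
    rw [map_smul, Algebra.smul_def]
    simp only [add_comp, one_comp, mul_comp, C_comp, X_comp, C_mul]
    ring
  rw [h, comp_C_mul_X_coeff, Algebra.smul_def, map_pow, mul_comm]

/-- The algebra map out of the divided power algebra attached to a family of square-zero
linear maps. -/
noncomputable def Phi (hz : ∀ k m m', z k m * z k m' = 0) : DividedPowerAlgebra A M →ₐ[A] B :=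
  DividedPowerAlgebra.lift' (f := fun nm : ℕ × M => (E z nm.2).coeff nm.1)
    (fun m => prodLin_coeff_zero _ _)
    (fun n r m => E_smul z r m n)
    (fun n p m => by
      show (E z m).coeff n * (E z m).coeff p = (n + p).choose n • (E z m).coeff (n + p)
      rw [nsmul_eq_mul]
      exact prodLin_coeff_mul Finset.univ (fun k => z k m) (fun k _ => hz k m m) n p (n + p) rfl)
    (fun n u v => by
      show (E z (u + v)).coeff n = _
      rw [E_add z hz, coeff_mul])

theorem Phi_dp (hz : ∀ k m m', z k m * z k m' = 0) (n : ℕ) (m : M) :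
    Phi z hz (dp A n m) = (E z m).coeff n :=
  DividedPowerAlgebra.lift'_apply_dp _ _ _ _ n m

theorem natDegree_lin_le (a : B) : (1 + C a * X : B[X]).natDegree ≤ 1 := by
  have : (1 + C a * X : B[X]) = C a * X + C 1 := by rw [C_1, add_comm]
  rw [this]; exact natDegree_linear_le

theorem coeff_one_lin (a : B) : (1 + C a * X : B[X]).coeff 1 = a := by
  simp [coeff_one]

theorem prodLin_coeff_card (s : Finset ι) (a : ι → B) :
    (∏ k ∈ s, (1 + C (a k) * X)).coeff s.card = ∏ k ∈ s, a k := by
  have h := Polynomial.coeff_prod_of_natDegree_le (s := s) (fun k => (1 + C (a k) * X : B[X])) 1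
    (fun k _ => natDegree_lin_le (a k))
  rw [mul_one] at h
  rw [h]
  exact Finset.prod_congr rfl (fun k _ => coeff_one_lin (a k))

end Phi

section Top
variable (k : Type u) [Field k] (ι : Type u) [Fintype ι] [DecidableEq ι]

/-- The ideal generated by the squares of the variables. -/
noncomputable def sqIdeal : Ideal (MvPolynomial ι k) :=
  Ideal.span ((fun s => MvPolynomial.monomial s (1 : k)) ''
    (Set.range (fun i : ι => Finsupp.single i 2)))

/-- The all-ones exponent. -/
noncomputable def one' : ι →₀ ℕ := Finsupp.equivFunOnFinite.symm (fun _ => 1)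

theorem one'_apply (i : ι) : one' ι i = 1 := by simp [one']

theorem coeff_one'_of_mem {x : MvPolynomial ι k} (hx : x ∈ sqIdeal k ι) :
    x.coeff (one' ι) = 0 := by
  by_contra hne
  have hsup : one' ι ∈ x.support := MvPolynomial.mem_support_iff.mpr hne
  obtain ⟨s, ⟨i, rfl⟩, hle⟩ := MvPolynomial.mem_ideal_span_monomial_image.mp hx _ hsup
  have h1 := Finsupp.le_def.mp hle i
  rw [one'_apply, Finsupp.single_eq_same] at h1
  omega

/-- The quotient `k[ε_i]/(ε_i²)`. -/
abbrev Bq := MvPolynomial ι k ⧸ sqIdeal k ι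

noncomputable def eps (i : ι) : Bq k ι := Ideal.Quotient.mk _ (MvPolynomial.X i)

theorem eps_sq (i : ι) : eps k ι i * eps k ι i = 0 := by
  unfold eps
  rw [← map_mul, Ideal.Quotient.eq_zero_iff_mem, ← sq, MvPolynomial.X_pow_eq_monomial]
  exact Ideal.subset_span ⟨Finsupp.single i 2, ⟨i, rfl⟩, rfl⟩

/-- The coefficient of `ε_1 ⋯ ε_d`. -/
noncomputable def top : Bq k ι →ₗ[k] k :=
  (((sqIdeal k ι).restrictScalars k).liftQ (MvPolynomial.lcoeff k (one' ι))
    (fun _ hx => LinearMap.mem_ker.mpr (coeff_one'_of_mem k ι hx))) ∘ₗ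
    (Submodule.Quotient.restrictScalarsEquiv k (sqIdeal k ι)).symm.toLinearMap

theorem top_mk (x : MvPolynomial ι k) :
    top k ι (Ideal.Quotient.mk _ x) = x.coeff (one' ι) := rfl

theorem prod_X_eq :
    (∏ i : ι, (MvPolynomial.X i : MvPolynomial ι k)) = MvPolynomial.monomial (one' ι) 1 := by
  rw [← MvPolynomial.prod_X_pow_eq_monomial]
  have hsupp : (one' ι).support = Finset.univ := by
    ext i; simp [one'_apply]
  rw [hsupp]
  refine Finset.prod_congr rfl (fun i _ => ?_)
  rw [one'_apply, pow_one]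

theorem top_prod_eps : top k ι (∏ i, eps k ι i) = 1 := by
  unfold eps
  rw [← map_prod, top_mk, prod_X_eq, MvPolynomial.coeff_monomial, if_pos rfl]

end Top

theorem exists_two_forms {A M : Type u} [CommRing A] [AddCommGroup M] [Module A M]
    [Module.Finite A M] (p : Ideal A) [p.IsPrime]
    (hnc : ¬ ∃ x : LocalizedModule p.primeCompl M,
      Submodule.span (Localization.AtPrime p) {x} = ⊤) :
    ∃ (ℓ₁ ℓ₂ : M →ₗ[A] p.ResidueField) (m₁ m₂ : M),
      ℓ₁ m₁ = 1 ∧ ℓ₂ m₁ = 0 ∧ ℓ₁ m₂ = 0 ∧ ℓ₂ m₂ = 1 := by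
  classical
  obtain ⟨τ, hτ⟩ : ∃ τ : M →ₗ[A] p.ResidueField ⊗[Localization.AtPrime p]
      LocalizedModule p.primeCompl M, ∀ m, τ m = (1 : p.ResidueField) ⊗ₜ[Localization.AtPrime p]
        (LocalizedModule.mk m 1 : LocalizedModule p.primeCompl M) :=
    ⟨((TensorProduct.mk (Localization.AtPrime p) p.ResidueField
      (LocalizedModule p.primeCompl M) 1).restrictScalars A) ∘ₗ
      (LocalizedModule.mkLinearMap p.primeCompl M), fun m => rfl⟩
  have hS : ⊤ ≤ Submodule.span p.ResidueField (Set.range τ) := by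
    rintro v -
    induction v using TensorProduct.induction_on with
    | zero => exact Submodule.zero_mem _
    | add x y hx hy => exact Submodule.add_mem _ hx hy
    | tmul c n =>
      induction n using LocalizedModule.induction_on with
      | h m s =>
      have h1 : (LocalizedModule.mk m s : LocalizedModule p.primeCompl M) =
          (Localization.mk 1 s : Localization.AtPrime p) •
            (LocalizedModule.mk m 1 : LocalizedModule p.primeCompl M) := by
        rw [LocalizedModule.mk_smul_mk, one_smul, mul_one]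
      have h2 : c ⊗ₜ[Localization.AtPrime p]
          (LocalizedModule.mk m s : LocalizedModule p.primeCompl M) =
          ((Localization.mk 1 s : Localization.AtPrime p) • c) • τ m := by
        rw [h1, TensorProduct.tmul_smul, hτ, TensorProduct.smul_tmul', TensorProduct.smul_tmul',
          smul_eq_mul, mul_one]
      rw [h2]
      exact Submodule.smul_mem _ _ (Submodule.subset_span ⟨m, rfl⟩)
  obtain ⟨I, b, hb⟩ : ∃ (I : Type u) (b : Module.Basis I p.ResidueField
      (p.ResidueField ⊗[Localization.AtPrime p] LocalizedModule p.primeCompl M)),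
      ∀ i, ∃ m : M, τ m = b i :=
    ⟨_, Module.Basis.ofSpan hS, fun i => Module.Basis.ofSpan_subset hS ⟨i, rfl⟩⟩
  choose g hg using hb
  by_cases hsub : Subsingleton I
  · exfalso
    apply hnc
    have htop := IsLocalRing.span_eq_top_of_tmul_eq_basis (R := Localization.AtPrime p)
      (M := LocalizedModule p.primeCompl M)
      (fun i => (LocalizedModule.mk (g i) 1 : LocalizedModule p.primeCompl M)) b
      (fun i => by rw [← hg i, hτ])
    by_cases hne : Nonempty I
    · obtain ⟨i₀⟩ := hne
      refine ⟨LocalizedModule.mk (g i₀) 1, ?_⟩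
      rw [← htop]
      congr 1
      ext x
      constructor
      · rintro rfl; exact ⟨i₀, rfl⟩
      · rintro ⟨i, rfl⟩
        rw [Subsingleton.elim i i₀]; rfl
    · refine ⟨0, ?_⟩
      rw [← htop]
      have hemp : Set.range (fun i => (LocalizedModule.mk (g i) 1 :
          LocalizedModule p.primeCompl M)) = ∅ :=
        Set.range_eq_empty_iff.mpr (not_nonempty_iff.mp hne)
      rw [hemp, Submodule.span_empty, Submodule.span_singleton_eq_bot]
  · rw [not_subsingleton_iff_nontrivial] at hsub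
    obtain ⟨i₁, i₂, hne⟩ := exists_pair_ne I
    refine ⟨(b.coord i₁).restrictScalars A ∘ₗ τ, (b.coord i₂).restrictScalars A ∘ₗ τ,
      g i₁, g i₂, ?_, ?_, ?_, ?_⟩
    · show b.coord i₁ (τ (g i₁)) = 1
      rw [hg, Module.Basis.coord_apply, Module.Basis.repr_self, Finsupp.single_eq_same]
    · show b.coord i₂ (τ (g i₁)) = 0
      rw [hg, Module.Basis.coord_apply, Module.Basis.repr_self, Finsupp.single_eq_of_ne hne.symm]
    · show b.coord i₁ (τ (g i₂)) = 0
      rw [hg, Module.Basis.coord_apply, Module.Basis.repr_self, Finsupp.single_eq_of_ne hne]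
    · show b.coord i₂ (τ (g i₂)) = 1
      rw [hg, Module.Basis.coord_apply, Module.Basis.repr_self, Finsupp.single_eq_same]

theorem main {A M : Type u} [CommRing A] [AddCommGroup M] [Module A M] (d : ℕ)
    (k : Type u) [Field k] [Algebra A k] [Fintype k]
    (ℓ₁ ℓ₂ : M →ₗ[A] k) (m₁ m₂ : M) (h11 : ℓ₁ m₁ = 1) (h21 : ℓ₂ m₁ = 0) (h12 : ℓ₁ m₂ = 0)
    (h22 : ℓ₂ m₂ = 1) (hq : Fintype.card k < d)
    (h : Submodule.span A (Set.range (dp A d : M → DividedPowerAlgebra A M)) =
      PolLaw.gammaPiece A M d) : False := by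
  classical
  obtain ⟨r, hr⟩ : ∃ r, r = d - Fintype.card k - 1 := ⟨_, rfl⟩
  have hcardι : Fintype.card (Option (k ⊕ Fin r)) = d := by
    rw [Fintype.card_option, Fintype.card_sum, Fintype.card_fin]; omega
  obtain ⟨α, hα⟩ : ∃ α : Option (k ⊕ Fin r) → k, α = fun i => match i with
      | none => 0
      | some (Sum.inl _) => 1
      | some (Sum.inr _) => 1 := ⟨_, rfl⟩
  obtain ⟨β, hβ⟩ : ∃ β : Option (k ⊕ Fin r) → k, β = fun i => match i with
      | none => 1
      | some (Sum.inl c) => -c
      | some (Sum.inr _) => 0 := ⟨_, rfl⟩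
  have hα0 : α none = 0 := by rw [hα]
  have hα1 : ∀ i, i ≠ none → α i = 1 := by
    intro i hi
    rw [hα]
    rcases i with _ | (c | j)
    · exact absurd rfl hi
    · rfl
    · rfl
  have hβ0 : β none = 1 := by rw [hβ]
  obtain ⟨ξ, hξ⟩ : ∃ ξ : Option (k ⊕ Fin r) → M →ₗ[A] k, ξ = fun i => α i • ℓ₁ + β i • ℓ₂ :=
    ⟨_, rfl⟩
  have hξa : ∀ i m, ξ i m = α i * ℓ₁ m + β i * ℓ₂ m := by
    intro i m; rw [hξ]; rfl
  obtain ⟨z, hzdef⟩ : ∃ z : Option (k ⊕ Fin r) → M →ₗ[A] Bq k (Option (k ⊕ Fin r)),
      z = fun i => (ξ i).smulRight (eps k (Option (k ⊕ Fin r)) i) := ⟨_, rfl⟩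
  have hza : ∀ i m, z i m = ξ i m • eps k (Option (k ⊕ Fin r)) i := by
    intro i m; rw [hzdef]; rfl
  have hz : ∀ i m m', z i m * z i m' = 0 := by
    intro i m m'
    rw [hza, hza, smul_mul_smul_comm, eps_sq, smul_zero]
  -- the functional
  obtain ⟨L, hL⟩ : ∃ L : DividedPowerAlgebra A M →ₗ[A] k,
      ∀ x, L x = top k (Option (k ⊕ Fin r)) (Phi z hz x) :=
    ⟨(top k (Option (k ⊕ Fin r))).restrictScalars A ∘ₗ (Phi z hz).toLinearMap, fun x => rfl⟩
  -- vanishing on the divided powers
  have hvan : ∀ m, L (dp A d m) = 0 := by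
    intro m
    have hex : ∃ i, ξ i m = 0 := by
      by_cases hy : ℓ₂ m = 0
      · refine ⟨none, ?_⟩
        rw [hξa, hα0, hβ0, hy]; ring
      · refine ⟨some (Sum.inl (ℓ₁ m / ℓ₂ m)), ?_⟩
        rw [hξa]
        have e1 : α (some (Sum.inl (ℓ₁ m / ℓ₂ m))) = 1 := by rw [hα]
        have e2 : β (some (Sum.inl (ℓ₁ m / ℓ₂ m))) = -(ℓ₁ m / ℓ₂ m) := by rw [hβ]
        rw [e1, e2]
        field_simp
        ring
    obtain ⟨i, hi⟩ := hex
    rw [hL, Phi_dp]
    have hE : (E z m).coeff d = 0 := by
      unfold E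
      rw [← hcardι, ← Finset.card_univ, prodLin_coeff_card]
      exact Finset.prod_eq_zero (Finset.mem_univ i) (by rw [hza, hi, zero_smul])
    rw [hE, map_zero]
  have hker : Submodule.span A (Set.range (dp A d : M → DividedPowerAlgebra A M)) ≤
      LinearMap.ker L := by
    refine Submodule.span_le.2 ?_
    rintro _ ⟨m, rfl⟩
    exact LinearMap.mem_ker.mpr (hvan m)
  -- the test element
  have hd1 : 1 ≤ d := by omega
  have hT : dp A (d - 1) m₁ * dp A 1 m₂ ∈ PolLaw.gammaPiece A M d := by
    refine Submodule.subset_span ⟨2, ![d - 1, 1], ![m₁, m₂], ?_, ?_⟩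
    · simp; omega
    · simp [Fin.prod_univ_two]
  rw [← h] at hT
  have hLT : L (dp A (d - 1) m₁ * dp A 1 m₂) = 0 := LinearMap.mem_ker.mp (hker hT)
  -- compute
  have hz_none : z none m₁ = 0 := by
    rw [hza, hξa, hα0, hβ0, h11, h21]; simp
  have hz1 : ∀ i, i ≠ none → z i m₁ = eps k (Option (k ⊕ Fin r)) i := by
    intro i hi
    rw [hza, hξa, hα1 i hi, h11, h21]; simp
  have hz2 : ∀ i, z i m₂ = β i • eps k (Option (k ⊕ Fin r)) i := by
    intro i
    rw [hza, hξa, h12, h22]; simp
  have hΦ1 : Phi z hz (dp A (d - 1) m₁) =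
      ∏ i ∈ Finset.univ.erase none, eps k (Option (k ⊕ Fin r)) i := by
    rw [Phi_dp]
    unfold E
    rw [← Finset.mul_prod_erase Finset.univ _ (Finset.mem_univ none), hz_none, C_0, zero_mul,
      add_zero, one_mul]
    have hc : (Finset.univ.erase (none : Option (k ⊕ Fin r))).card = d - 1 := by
      rw [Finset.card_erase_of_mem (Finset.mem_univ _), Finset.card_univ, hcardι]
    rw [← hc, prodLin_coeff_card]
    refine Finset.prod_congr rfl (fun i hi => ?_)
    exact hz1 i (Finset.ne_of_mem_erase hi)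
  have hΦ2 : Phi z hz (dp A 1 m₂) = ∑ i, β i • eps k (Option (k ⊕ Fin r)) i := by
    rw [Phi_dp]
    unfold E
    rw [prodLin_coeff_one]
    exact Finset.sum_congr rfl (fun i _ => hz2 i)
  have hΦT : Phi z hz (dp A (d - 1) m₁ * dp A 1 m₂) = ∏ i, eps k (Option (k ⊕ Fin r)) i := by
    rw [map_mul, hΦ1, hΦ2, Finset.mul_sum, Finset.sum_eq_single none]
    · rw [hβ0, one_smul, Finset.prod_erase_mul _ _ (Finset.mem_univ none)]
    · intro i _ hi
      rw [mul_smul_comm]
      have hi' : i ∈ Finset.univ.erase (none : Option (k ⊕ Fin r)) :=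
        Finset.mem_erase.mpr ⟨hi, Finset.mem_univ i⟩
      rw [← Finset.mul_prod_erase _ _ hi', mul_comm, ← mul_assoc, eps_sq, zero_mul, smul_zero]
    · intro hnm; exact absurd (Finset.mem_univ _) hnm
  rw [hL, hΦT, top_prod_eps] at hLT
  exact one_ne_zero hLT


/-- Let A be a commutative ring, M a finitely generated A-module and d ≥ 0. If the degree-d piece
Γ^d_A(M) of Γ_A(M) is spanned over A by the divided powers γ_d(m), m ∈ M, then at each prime p of A
either k(p) has d or more elements, or the localisation M_p is a cyclic A_p-module. -/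
theorem result {A M : Type u} [CommRing A] [AddCommGroup M]
    [Module A M] [Module.Finite A M] (d : ℕ)
    (h : Submodule.span A (Set.range (DividedPowerAlgebra.dp A d : M → DividedPowerAlgebra A M)) =
      PolLaw.gammaPiece A M d)
    (p : PrimeSpectrum A) :
    (d : Cardinal) ≤ Cardinal.mk p.asIdeal.ResidueField ∨
      ∃ x : LocalizedModule p.asIdeal.primeCompl M, Submodule.span (Localization.AtPrime p.asIdeal) {x} = ⊤ := by
  classical
  by_contra hcon
  rw [not_or] at hcon
  obtain ⟨hcard, hnc⟩ := hcon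
  haveI := p.isPrime
  have hlt : Cardinal.mk p.asIdeal.ResidueField < (d : Cardinal) := not_le.mp hcard
  haveI : Finite p.asIdeal.ResidueField :=
    Cardinal.lt_aleph0_iff_finite.mp (hlt.trans Cardinal.natCast_lt_aleph0)
  haveI := Fintype.ofFinite p.asIdeal.ResidueField
  have hq : Fintype.card p.asIdeal.ResidueField < d := by
    rw [Cardinal.mk_fintype] at hlt; exact_mod_cast hlt
  obtain ⟨ℓ₁, ℓ₂, m₁, m₂, h11, h21, h12, h22⟩ := exists_two_forms p.asIdeal hnc
  exact main d p.asIdeal.ResidueField ℓ₁ ℓ₂ m₁ m₂ h11 h21 h12 h22 hq h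

end Groth.Agent.S13388
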