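import Groth.Statements.S13389
import Mathlib

set_option autoImplicit false
universe u
open ZeroCyc

namespace Groth.Agent.S13389

open DividedPowerAlgebra in
theorem vand {A : Type u} [CommRing A] {E : Type u} [AddCommGroup E] [Module A E]
    (W : Submodule A E) (N : ℕ) (τ : A)
    (hτ : ∀ i j : Fin (N + 1), i < j → IsUnit (τ ^ j.val - τ ^ i.val)) (c : Fin (N + 1) → E)
    (h : ∀ i : Fin (N + 1), ∑ q : Fin (N + 1), (τ ^ i.val) ^ q.val • c q ∈ W)
    (q : Fin (N + 1)) : c q ∈ W := by
  classical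
  obtain ⟨V, hV⟩ : ∃ V : Matrix (Fin (N + 1)) (Fin (N + 1)) A,
      V = Matrix.vandermonde (fun i => τ ^ i.val) := ⟨_, rfl⟩
  have hdet : IsUnit V.det := by
    rw [hV, Matrix.det_vandermonde]
    refine Finset.prod_induction _ IsUnit (fun a b => IsUnit.mul) isUnit_one (fun i _ => ?_)
    refine Finset.prod_induction _ IsUnit (fun a b => IsUnit.mul) isUnit_one (fun j hj => ?_)
    exact hτ i j (Finset.mem_Ioi.1 hj)
  have hinv : V⁻¹ * V = 1 := Matrix.nonsing_inv_mul V hdet
  have hVapp : ∀ i q', V i q' = (τ ^ i.val) ^ q'.val := by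
    intro i q'; rw [hV]; rfl
  have key : c q = ∑ i, V⁻¹ q i • ∑ q', (τ ^ i.val) ^ q'.val • c q' := by
    have h1 : ∀ i, V⁻¹ q i • ∑ q', (τ ^ i.val) ^ q'.val • c q' =
        ∑ q', (V⁻¹ q i * V i q') • c q' := by
      intro i
      rw [Finset.smul_sum]
      refine Finset.sum_congr rfl (fun q' _ => ?_)
      rw [smul_smul, hVapp]
    rw [Finset.sum_congr rfl (fun i _ => h1 i), Finset.sum_comm]
    have h2 : ∀ q', ∑ i, (V⁻¹ q i * V i q') • c q' = ((V⁻¹ * V) q q') • c q' := by
      intro q'; rw [← Finset.sum_smul, Matrix.mul_apply]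
    rw [Finset.sum_congr rfl (fun q' _ => h2 q'), hinv]
    simp [Matrix.one_apply]
  rw [key]
  exact Submodule.sum_mem _ (fun i _ => Submodule.smul_mem _ _ (h i))

open DividedPowerAlgebra in
theorem prod_mem {A M : Type u} [CommRing A] [AddCommGroup M] [Module A M] (d : ℕ) (τ : A)
    (hτ : ∀ i j : ℕ, i < j → j ≤ d → IsUnit (τ ^ j - τ ^ i)) :
    ∀ (n : ℕ) (k : Fin n → ℕ) (m : Fin n → M), (∑ i, k i) = d →
      ∏ i, dp A (k i) (m i) ∈
        Submodule.span A (Set.range (dp A d : M → DividedPowerAlgebra A M)) := by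
  intro n
  induction n with
  | zero =>
    intro k m hk
    rw [Finset.univ_eq_empty, Finset.sum_empty] at hk
    rw [Finset.univ_eq_empty, Finset.prod_empty, ← hk]
    exact Submodule.subset_span ⟨0, dp_zero⟩
  | succ n ih =>
    intro k m hk
    cases n with
    | zero =>
      rw [Fin.sum_univ_one] at hk
      rw [Fin.prod_univ_one, hk]
      exact Submodule.subset_span ⟨m 0, rfl⟩
    | succ n =>
      rw [Fin.prod_univ_succ, Fin.prod_univ_succ]
      rw [Fin.sum_univ_succ, Fin.sum_univ_succ] at hk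
      obtain ⟨rest, hrest⟩ : ∃ rest : DividedPowerAlgebra A M,
          rest = ∏ i : Fin n, dp A (k i.succ.succ) (m i.succ.succ) := ⟨_, rfl⟩
      rw [← hrest]
      obtain ⟨N, hN⟩ : ∃ N, N = k 0 + k (Fin.succ 0) := ⟨_, rfl⟩
      have hNd : N ≤ d := by omega
      -- the coefficient family
      obtain ⟨c, hc⟩ : ∃ c : Fin (N + 1) → DividedPowerAlgebra A M,
          ∀ q, c q = dp A q.val (m (Fin.succ 0)) * dp A (N - q.val) (m 0) * rest :=
        ⟨_, fun _ => rfl⟩
      have hall : ∀ s : A, ∑ q : Fin (N + 1), s ^ q.val • c q ∈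
          Submodule.span A (Set.range (dp A d : M → DividedPowerAlgebra A M)) := by
        intro s
        have h1 := ih (Fin.cons (k 0 + k (Fin.succ 0)) (fun i => k i.succ.succ))
          (Fin.cons (s • m (Fin.succ 0) + m 0) (fun i => m i.succ.succ))
          (by rw [Fin.sum_univ_succ]; simp only [Fin.cons_zero, Fin.cons_succ]; omega)
        rw [Fin.prod_univ_succ] at h1
        simp only [Fin.cons_zero, Fin.cons_succ] at h1
        rw [← hrest, ← hN, dp_add, Finset.Nat.sum_antidiagonal_eq_sum_range_succ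
          (fun a b => dp A a (s • m (Fin.succ 0)) * dp A b (m 0)), Finset.sum_range,
          Finset.sum_mul] at h1
        have h2 : ∑ q : Fin (N + 1), s ^ q.val • c q =
            ∑ i : Fin (N.succ), dp A (↑i) (s • m (Fin.succ 0)) * dp A (N - ↑i) (m 0) * rest := by
          refine Finset.sum_congr rfl (fun q _ => ?_)
          rw [hc, dp_smul, smul_mul_assoc, smul_mul_assoc]
        rw [h2]; exact h1
      have hmem := vand (Submodule.span A (Set.range (dp A d : M → DividedPowerAlgebra A M)))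
        N τ (fun i j hij => hτ i.val j.val hij (by have := j.isLt; omega)) c
        (fun i => hall (τ ^ i.val)) ⟨k (Fin.succ 0), by omega⟩
      rw [hc] at hmem
      have hk0 : N - k (Fin.succ 0) = k 0 := by omega
      simp only [hk0] at hmem
      have : dp A (k 0) (m 0) * (dp A (k (Fin.succ 0)) (m (Fin.succ 0)) * rest) =
          dp A (k (Fin.succ 0)) (m (Fin.succ 0)) * dp A (k 0) (m 0) * rest := by ring
      rw [this]; exact hmem

open Polynomial in
/-- Let P_d(T) = ∏_{0 ≤ i < j ≤ d} (T^i − T^j) − 1 ∈ ℤ[T]. If A is an algebra over ℤ[T]/(P_d), i.e.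
receives a ring homomorphism from it, then for every A-module M the degree-d piece Γ^d_A(M) of the
divided power algebra Γ_A(M) is spanned over A by the d-th divided powers γ_d(m), m ∈ M. (The
published statement adds that consequently every ring has a finite faithfully flat extension,
independent of M, over which this holds; that clause is not restated.) -/
theorem result {A M : Type u} [CommRing A] [AddCommGroup M]
    [Module A M] (d : ℕ)
    (φ : (ℤ[X] ⧸ Ideal.span {(∏ j ∈ Finset.range (d + 1), ∏ i ∈ Finset.range j,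
        ((X : ℤ[X]) ^ i - X ^ j)) - 1}) →+* A) :
    Submodule.span A (Set.range (DividedPowerAlgebra.dp A d : M → DividedPowerAlgebra A M)) =
      PolLaw.gammaPiece A M d := by
  classical
  obtain ⟨ψ, hψ⟩ : ∃ ψ : Polynomial ℤ →+* A, ψ = φ.comp (Ideal.Quotient.mk (Ideal.span
      {(∏ j ∈ Finset.range (d + 1), ∏ i ∈ Finset.range j,
        ((Polynomial.X : Polynomial ℤ) ^ i - Polynomial.X ^ j)) - 1})) := ⟨_, rfl⟩
  obtain ⟨τ, hτdef⟩ : ∃ τ : A, τ = ψ Polynomial.X := ⟨_, rfl⟩
  have hprod : ∏ j ∈ Finset.range (d + 1), ∏ i ∈ Finset.range j, (τ ^ i - τ ^ j) = 1 := by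
    have h0 : (Ideal.Quotient.mk (Ideal.span
        {(∏ j ∈ Finset.range (d + 1), ∏ i ∈ Finset.range j,
          ((Polynomial.X : Polynomial ℤ) ^ i - Polynomial.X ^ j)) - 1}))
        ((∏ j ∈ Finset.range (d + 1), ∏ i ∈ Finset.range j,
          ((Polynomial.X : Polynomial ℤ) ^ i - Polynomial.X ^ j)) - 1) = 0 :=
      Ideal.Quotient.eq_zero_iff_mem.2 (Ideal.subset_span rfl)
    have h1 : ψ ((∏ j ∈ Finset.range (d + 1), ∏ i ∈ Finset.range j,
          ((Polynomial.X : Polynomial ℤ) ^ i - Polynomial.X ^ j)) - 1) = 0 := by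
      rw [hψ, RingHom.comp_apply, h0, map_zero]
    rw [map_sub, map_one, sub_eq_zero] at h1
    rw [← h1, hτdef]
    simp only [map_prod, map_sub, map_pow]
  have hunit : ∀ i j : ℕ, i < j → j ≤ d → IsUnit (τ ^ j - τ ^ i) := by
    intro i j hij hjd
    have h1 : (τ ^ i - τ ^ j) ∣ 1 := by
      rw [← hprod]
      exact (Finset.dvd_prod_of_mem (fun i => τ ^ i - τ ^ j) (Finset.mem_range.2 hij)).trans
        (Finset.dvd_prod_of_mem (fun j => ∏ i ∈ Finset.range j, (τ ^ i - τ ^ j))
          (Finset.mem_range.2 (Nat.lt_succ_of_le hjd)))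
    have h2 := isUnit_of_dvd_one h1
    have : τ ^ j - τ ^ i = -(τ ^ i - τ ^ j) := by ring
    rw [this]; exact h2.neg
  apply le_antisymm
  · rw [Submodule.span_le]
    rintro _ ⟨m, rfl⟩
    refine Submodule.subset_span ⟨1, fun _ => d, fun _ => m, ?_, ?_⟩
    · simp
    · simp
  · unfold PolLaw.gammaPiece
    rw [Submodule.span_le]
    rintro _ ⟨n, k, m, hk, rfl⟩
    exact prod_mem d τ hunit n k m hk

end Groth.Agent.S13389
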