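import Groth.Statements.S1340
import Mathlib.AlgebraicGeometry.Normalization
import Mathlib.AlgebraicGeometry.Morphisms.Proper

set_option autoImplicit false
universe u
open FlatMor

namespace Groth.Agent.S1340


theorem bijective_of_localization {A B A' B' : Type u} [CommRing A] [CommRing B] [CommRing A']
    [CommRing B'] [Algebra A A'] [Algebra B B'] (r : A) [IsLocalization.Away r A'] (φ : A →+* B)
    (hφ : Function.Bijective φ) [IsLocalization.Away (φ r) B'] (ψ : A' →+* B')
    (h : ψ.comp (algebraMap A A') = (algebraMap B B').comp φ) : Function.Bijective ψ := by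
  let e : A ≃+* B := RingEquiv.ofBijective φ hφ
  have H : (Submonoid.powers r).map e.toMonoidHom = Submonoid.powers (φ r) := by
    rw [Submonoid.map_powers]; rfl
  let E := IsLocalization.ringEquivOfRingEquiv (M := Submonoid.powers r)
    (T := Submonoid.powers (φ r)) A' B' e H
  have : ψ = (E : A' →+* B') := by
    apply IsLocalization.ringHom_ext (Submonoid.powers r)
    ext a
    have h1 := congrArg (fun k => k a) h
    simp only [RingHom.comp_apply] at h1
    rw [RingHom.comp_apply, h1, RingHom.comp_apply]
    exact (IsLocalization.ringEquivOfRingEquiv_eq (S := A') (Q := B') H a).symm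
  rw [this]
  exact E.bijective

open AlgebraicGeometry CategoryTheory Limits in
theorem isIso_app_basicOpen {X Y : Scheme.{u}} (g : X ⟶ Y) [QuasiCompact g] [QuasiSeparated g]
    {W : Y.Opens} (hW : IsAffineOpen W) (hiso : IsIso (g.app W)) (r : Γ(Y, W)) :
    IsIso (g.app (Y.basicOpen r)) := by
  have hc : IsCompact (g ⁻¹ᵁ W : Set X) := g.isCompact_preimage hW.isCompact
  have hqs : IsQuasiSeparated (g ⁻¹ᵁ W : Set X) := g.isQuasiSeparated_preimage hW.isQuasiSeparated
  have l1 := hW.isLocalization_basicOpen r
  have l2 := isLocalization_basicOpen_of_qcqs hc hqs (g.app W r)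
  let ψ : Γ(Y, Y.basicOpen r) ⟶ Γ(X, X.basicOpen (g.app W r)) :=
    g.app (Y.basicOpen r) ≫ X.presheaf.map (eqToHom (g.preimage_basicOpen r).symm).op
  have hψ : Function.Bijective ψ.hom := by
    apply bijective_of_localization r (g.app W).hom
    · exact (ConcreteCategory.isIso_iff_bijective _).mp hiso
    · simp only [RingHom.algebraMap_toAlgebra, ψ, ← CommRingCat.hom_comp]
      congr 1
      rw [← Category.assoc, g.naturality, Category.assoc, ← Functor.map_comp]
      rfl
  have : IsIso ψ := (ConcreteCategory.isIso_iff_bijective _).mpr hψ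
  have h2 : g.app (Y.basicOpen r) = ψ ≫ X.presheaf.map (eqToHom (g.preimage_basicOpen r)).op := by
    simp only [ψ, Category.assoc, ← Functor.map_comp]
    simp
  rw [h2]
  infer_instance

open AlgebraicGeometry CategoryTheory Limits in
theorem isIntegral_app_of_universallyClosed {X S : Scheme.{u}} (f : X ⟶ S) [UniversallyClosed f]
    (V : S.affineOpens) : (f.app V.1).hom.IsIntegral := by
  have : IsAffine (V.1 : Scheme.{u}) := V.2
  have h := isIntegral_appTop_of_universallyClosed (f ∣_ V.1)
  rw [Scheme.Hom.appTop, morphismRestrict_app'] at h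
  rw [Scheme.Hom.app_eq_appLE]
  exact (Scheme.Hom.appLE_congr f _ (Scheme.Opens.ι_image_top _) (Scheme.Opens.ι_image_top _)
    (fun φ => φ.hom.IsIntegral)).mp h

open AlgebraicGeometry CategoryTheory Limits in
theorem isIso_app_preimage {X S : Scheme.{u}} (f : X ⟶ S) [UniversallyClosed f] [QuasiSeparated f]
    (V : S.affineOpens) : IsIso (f.toNormalization.app (f.fromNormalization ⁻¹ᵁ V.1)) := by
  let := (f.app V.1).hom.toAlgebra
  have hint : (f.app V.1).hom.IsIntegral := isIntegral_app_of_universallyClosed f V
  have htop : integralClosure Γ(S, V.1) Γ(X, f ⁻¹ᵁ V.1) = ⊤ := by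
    rw [integralClosure_eq_top_iff, ← algebraMap_isIntegral_iff, RingHom.algebraMap_toAlgebra]
    exact hint
  have hbij : Function.Bijective (integralClosure Γ(S, V.1) Γ(X, f ⁻¹ᵁ V.1)).val.toRingHom := by
    rw [htop]
    exact (Subalgebra.topEquiv (R := Γ(S, V.1)) (A := Γ(X, f ⁻¹ᵁ V.1))).bijective
  have : IsIso (CommRingCat.ofHom (integralClosure Γ(S, V.1) Γ(X, f ⁻¹ᵁ V.1)).val.toRingHom) :=
    (ConcreteCategory.isIso_iff_bijective _).mpr hbij
  rw [f.toNormalization_app_preimage V]
  have h3 : IsIso (CommRingCat.ofHom (integralClosure Γ(S, V.1) Γ(X, f ⁻¹ᵁ V.1)).val.toRingHom ≫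
      X.presheaf.map (eqToHom (by simp [← Scheme.Hom.comp_preimage]) :
        f.toNormalization ⁻¹ᵁ f.fromNormalization ⁻¹ᵁ V.1 ⟶ f ⁻¹ᵁ V.1).op) :=
    IsIso.comp_isIso
  exact IsIso.comp_isIso' inferInstance h3


open AlgebraicGeometry CategoryTheory Limits in
/-- Stein factorization, universally closed case: let f : X ⟶ S be universally closed and
quasi-separated, and let X ⟶ X' ⟶ S be its factorization through the normalization X' of S in X.
Then the canonical morphism X ⟶ X' identifies the structure sheaf of X' with the pushforward of the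
structure sheaf of X: for every open U of X' the induced map from O_{X'}(U) to the sections of O_X
over the inverse image of U is an isomorphism. (That X ⟶ X' is surjective and universally closed and
that X' ⟶ S is integral are separate facts not restated here.) -/
theorem result {X S : Scheme.{u}} (f : X ⟶ S) [UniversallyClosed f] [QuasiSeparated f]
    (U : f.normalization.Opens) : IsIso (f.toNormalization.app U) := by
  let ι := Σ V : S.affineOpens, Γ(f.normalization, f.fromNormalization ⁻¹ᵁ V.1)
  let B : ι → f.normalization.Opens := fun i => f.normalization.basicOpen i.2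
  have hB : TopologicalSpace.Opens.IsBasis (Set.range B) := by
    rw [TopologicalSpace.Opens.isBasis_iff_nbhd]
    intro U x hx
    obtain ⟨_, ⟨V, hV, rfl⟩, hxV, -⟩ := S.isBasis_affineOpens.exists_subset_of_mem_open
      (Set.mem_univ (f.fromNormalization x)) isOpen_univ
    have hW : IsAffineOpen (f.fromNormalization ⁻¹ᵁ V) := hV.preimage f.fromNormalization
    obtain ⟨r, hr1, hr2⟩ := hW.exists_basicOpen_le ⟨x, hx⟩ hxV
    exact ⟨_, ⟨⟨⟨V, hV⟩, r⟩, rfl⟩, hr2, hr1⟩
  let F : TopCat.Sheaf CommRingCat f.normalization := f.normalization.sheaf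
  let G : TopCat.Sheaf CommRingCat f.normalization :=
    (TopCat.Sheaf.pushforward _ f.toNormalization.base).obj X.sheaf
  let φ : F ⟶ G := ⟨f.toNormalization.c⟩
  have hφ : IsIso φ := TopCat.Sheaf.isIso_iff_isIso_basis (B := B) hB
    (fun i => isIso_app_basicOpen f.toNormalization (i.1.2.preimage f.fromNormalization)
      (isIso_app_preimage f i.1) i.2)
  have h2 : IsIso ((TopCat.Sheaf.forget _ _).map φ) := inferInstance
  exact NatIso.isIso_app_of_isIso ((TopCat.Sheaf.forget _ _).map φ) (Opposite.op U)


end Groth.Agent.S1340
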