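import Groth.Statements.S13402
import Groth.Agent.H83.HopfKaehler

set_option autoImplicit false
universe u v w
open Hopf

namespace Groth.Agent.S13402

open TensorProduct Algebra.TensorProduct WithConv Bialgebra Groth.Agent.H83.HopfKaehler

section
variable (k : Type u) [CommRing k] (A : Type v) (B : Type w) [CommRing A] [HopfAlgebra k A]
  [CommRing B] [HopfAlgebra k B] [Algebra B A] [IsScalarTower k B A]

/-- the projection `A ⊗[k] A → A ⊗[B] A` -/
noncomputable def piB : A ⊗[k] A →ₐ[k] A ⊗[B] A :=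
  Algebra.TensorProduct.mapOfCompatibleSMul B k k A A

variable {k A B}

theorem piB_u (F : B →ₐc[k] A) (hF : ∀ b, F b = algebraMap B A b) :
    (piB k A B).comp ((i2 k A).comp (F : B →ₐ[k] A)) =
      (piB k A B).comp ((i1 k A).comp (F : B →ₐ[k] A)) := by
  apply AlgHom.ext
  intro b
  show (1 : A) ⊗ₜ[B] (F b) = (F b) ⊗ₜ[B] (1 : A)
  rw [hF, Algebra.algebraMap_eq_smul_one, TensorProduct.smul_tmul]

theorem claim1 (F : B →ₐc[k] A) (hF : ∀ b, F b = algebraMap B A b) :
    (piB k A B).comp ((gpsi k A).comp (F : B →ₐ[k] A)) =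
      (Algebra.ofId k (A ⊗[B] A)).comp (counitAlgHom k B) := by
  have h1 : (gpsi k A).comp (F : B →ₐ[k] A) =
      ofConv (toConv (((toConv (i1 k A))⁻¹).ofConv.comp (F : B →ₐ[k] A)) *
        toConv ((i2 k A).comp (F : B →ₐ[k] A))) := by
    unfold gpsi
    rw [AlgHom.convMul_comp_bialgHom_distrib]
  have h2 : ((1 : WithConv (A →ₐ[k] A ⊗[k] A)).ofConv).comp (F : B →ₐ[k] A) =
      ofConv (toConv (((toConv (i1 k A))⁻¹).ofConv.comp (F : B →ₐ[k] A)) *
        toConv ((i1 k A).comp (F : B →ₐ[k] A))) := by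
    rw [← inv_mul_cancel (toConv (i1 k A)), AlgHom.convMul_comp_bialgHom_distrib]
  rw [h1, AlgHom.comp_convMul_distrib]
  dsimp only
  rw [piB_u F hF]
  have h3 := congrArg (fun g => (piB k A B).comp g) h2
  simp only [AlgHom.comp_convMul_distrib] at h3
  rw [← h3, AlgHom.convOne_def, ofConv_toConv, AlgHom.comp_assoc, BialgHom.counitAlgHom_comp,
    ← AlgHom.comp_assoc, Algebra.comp_ofId]

/-- `Θ = π ∘ ψ` -/
noncomputable def Theta : A ⊗[k] A →ₐ[k] A ⊗[B] A :=
  (piB k A B).comp ((psi k A).restrictScalars k)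

theorem Theta_left (a : A) : Theta (k := k) (B := B) (a ⊗ₜ[k] (1 : A)) = a ⊗ₜ[B] (1 : A) := by
  have h := AlgHom.congr_fun (psi_i1 k A) a
  simp only [AlgHom.comp_apply] at h
  show piB k A B (((psi k A).restrictScalars k) (i1 k A a)) = _
  rw [h]
  rfl

theorem Theta_right_F (F : B →ₐc[k] A) (hF : ∀ b, F b = algebraMap B A b) (b : B) :
    Theta (k := k) (B := B) ((1 : A) ⊗ₜ[k] F b) =
      algebraMap k (A ⊗[B] A) (counitAlgHom k B b) := by
  have h := AlgHom.congr_fun (claim1 F hF) b
  have h2 := AlgHom.congr_fun (psi_i2 k A) (F b)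
  simp only [AlgHom.comp_apply] at h h2
  show piB k A B (((psi k A).restrictScalars k) (i2 k A (F b))) = _
  rw [h2]
  exact h

theorem Theta_right (F : B →ₐc[k] A) (hF : ∀ b, F b = algebraMap B A b)
    (hker : Ideal.map (algebraMap B A) (RingHom.ker (counitAlgHom k B)) =
      RingHom.ker (counitAlgHom k A)) (a : A) :
    Theta (k := k) (B := B) ((1 : A) ⊗ₜ[k] a) = algebraMap k (A ⊗[B] A) (counitAlgHom k A a) := by
  -- the ring hom ρ = Θ ∘ ι₂ kills the augmentation ideal of A
  set ρ : A →ₐ[k] A ⊗[B] A := (Theta (k := k) (A := A) (B := B)).comp (i2 k A) with hρ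
  have hle : RingHom.ker (counitAlgHom k A) ≤ RingHom.ker ρ := by
    rw [← hker, Ideal.map_le_iff_le_comap]
    intro b hb
    rw [RingHom.mem_ker] at hb
    rw [Ideal.mem_comap, RingHom.mem_ker, ← hF]
    show Theta (k := k) (B := B) ((1 : A) ⊗ₜ[k] F b) = 0
    rw [Theta_right_F F hF, hb, map_zero]
  have hmem : a - algebraMap k A (counitAlgHom k A a) ∈ RingHom.ker (counitAlgHom k A) := by
    rw [RingHom.mem_ker, map_sub, AlgHom.commutes]
    simp
  have h0 := hle hmem
  rw [RingHom.mem_ker, map_sub, sub_eq_zero, AlgHom.commutes] at h0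
  exact h0

theorem Theta_surjective : Function.Surjective (Theta (k := k) (A := A) (B := B)) := by
  intro y
  obtain ⟨x, rfl⟩ := Algebra.TensorProduct.mapOfCompatibleSMul_surjective B k k A A y
  exact ⟨phi k A x, congrArg (piB k A B) (psi_phi k A x)⟩

theorem one_tmul_eq (F : B →ₐc[k] A) (hF : ∀ b, F b = algebraMap B A b)
    (hker : Ideal.map (algebraMap B A) (RingHom.ker (counitAlgHom k B)) =
      RingHom.ker (counitAlgHom k A)) (a : A) : (1 : A) ⊗ₜ[B] a = a ⊗ₜ[B] (1 : A) := by
  -- every element of `A ⊗[B] A` is of the form `c ⊗ 1`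
  have key : ∀ y : A ⊗[B] A, ∃ c : A, y = c ⊗ₜ[B] (1 : A) := by
    intro y
    obtain ⟨x, rfl⟩ := Theta_surjective (k := k) (A := A) (B := B) y
    induction x using TensorProduct.induction_on with
    | zero => exact ⟨0, by simp⟩
    | tmul c d =>
      refine ⟨c * algebraMap k A (counitAlgHom k A d), ?_⟩
      have h1 : c ⊗ₜ[k] d = (c ⊗ₜ[k] (1 : A)) * ((1 : A) ⊗ₜ[k] d) := by simp
      rw [h1, map_mul, Theta_left, Theta_right F hF hker, Algebra.algebraMap_eq_smul_one,
        Algebra.algebraMap_eq_smul_one, mul_smul_comm, mul_one, mul_smul_comm, mul_one,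
        TensorProduct.smul_tmul']
    | add x1 x2 h1 h2 =>
      obtain ⟨c1, hc1⟩ := h1
      obtain ⟨c2, hc2⟩ := h2
      exact ⟨c1 + c2, by rw [map_add, hc1, hc2, TensorProduct.add_tmul]⟩
  obtain ⟨c, hc⟩ := key ((1 : A) ⊗ₜ[B] a)
  have h2 := congrArg (Algebra.TensorProduct.lmul' B (S := A)) hc
  simp only [lmul'_apply_tmul, one_mul, mul_one] at h2
  rw [hc, h2]

end

/-- Let k be a field and let A and B be finite-dimensional commutative and cocommutative Hopf algebras
over k (finite commutative k-group schemes G = Spec A and H = Spec B). Let f : B → A be a bialgebra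
map (a homomorphism G → H) which is injective and such that the ideal of A generated by the image of
the augmentation ideal of B is the augmentation ideal of A (the homomorphism G → H has trivial
kernel). Then f is bijective, so G → H is an isomorphism; this is what makes the category of finite
commutative k-group schemes abelian. -/
theorem result (k : Type u) [Field k] (A : Type v) (B : Type w)
    [CommRing A] [HopfAlgebra k A] [Module.Finite k A] [Coalgebra.IsCocomm k A]
    [CommRing B] [HopfAlgebra k B] [Module.Finite k B] [Coalgebra.IsCocomm k B]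
    (f : B →ₐc[k] A) (hinj : Function.Injective f)
    (hker : Ideal.map f (RingHom.ker (Bialgebra.counitAlgHom k B)) = RingHom.ker (Bialgebra.counitAlgHom k A)) :
    Function.Bijective f := by
  let _ : Algebra B A := (f : B →ₐ[k] A).toRingHom.toAlgebra
  have _ : IsScalarTower k B A := IsScalarTower.of_algebraMap_eq fun c =>
    ((f : B →ₐ[k] A).commutes c).symm
  have _ : Module.Finite B A := Module.Finite.of_restrictScalars_finite k B A
  have hF : ∀ b, f b = algebraMap B A b := fun _ => rfl
  have hepi : Algebra.IsEpi B A :=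
    (Algebra.isEpi_iff_forall_one_tmul_eq B A).mpr (one_tmul_eq f hF hker)
  exact ⟨hinj, Algebra.isEpi_iff_surjective_algebraMap_of_finite.mp hepi⟩

end Groth.Agent.S13402
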