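import Groth.Statements.S13407
import Mathlib

set_option autoImplicit false
universe u
open TensorProduct
open Hopf

namespace Groth.Agent.S13407

open scoped nonZeroDivisors

section loc

variable (R : Type u) [CommRing R] [IsDomain R]
    (K : Type u) [Field K] [Algebra R K] [IsFractionRing R K]
    (A : Type u) [CommRing A] [Algebra R A]

theorem exists_smul_eq (y : K ⊗[R] A) :
    ∃ s : R, s ≠ 0 ∧ ∃ a : A, s • y = (1 : K) ⊗ₜ[R] a := by
  obtain ⟨⟨a, s⟩, h⟩ := IsLocalizedModule.surj R⁰ (TensorProduct.mk R K A 1) y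
  exact ⟨s.1, nonZeroDivisors.coe_ne_zero s, a, h⟩

theorem exists_smul_eq_zero (b : A) (h : (1 : K) ⊗ₜ[R] b = 0) :
    ∃ s : R, s ≠ 0 ∧ s • b = 0 := by
  obtain ⟨s, hs⟩ := (IsLocalizedModule.eq_zero_iff R⁰ (TensorProduct.mk R K A 1)).mp h
  exact ⟨s.1, nonZeroDivisors.coe_ne_zero s, hs⟩

theorem algebraMap_ne_zero {s : R} (hs : s ≠ 0) : algebraMap R K s ≠ 0 :=
  (map_ne_zero_iff _ (IsFractionRing.injective R K)).mpr hs

theorem mem_of_smul_mem (J : Ideal (K ⊗[R] A)) {s : R} (hs : s ≠ 0) {y : K ⊗[R] A}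
    (h : s • y ∈ J) : y ∈ J := by
  have hs' := algebraMap_ne_zero R K hs
  have e : y = (algebraMap R K s)⁻¹ • (s • y) := by
    rw [← algebraMap_smul K s y, smul_smul, inv_mul_cancel₀ hs', one_smul]
  rw [e]
  exact Submodule.smul_of_tower_mem J _ h

theorem map_comap_eq (J : Ideal (K ⊗[R] A)) :
    Ideal.map (Algebra.TensorProduct.includeRight : A →ₐ[R] K ⊗[R] A)
      (Ideal.comap (Algebra.TensorProduct.includeRight : A →ₐ[R] K ⊗[R] A) J) = J := by
  refine le_antisymm Ideal.map_comap_le fun y hy => ?_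
  obtain ⟨s, hs, a, ha⟩ := exists_smul_eq R K A y
  have h1 : (1 : K) ⊗ₜ[R] a ∈ J := by
    rw [← ha]
    exact Submodule.smul_of_tower_mem J s hy
  have h2 : (Algebra.TensorProduct.includeRight : A →ₐ[R] K ⊗[R] A) a ∈
      Ideal.map (Algebra.TensorProduct.includeRight : A →ₐ[R] K ⊗[R] A)
        (Ideal.comap (Algebra.TensorProduct.includeRight : A →ₐ[R] K ⊗[R] A) J) :=
    Ideal.mem_map_of_mem _ (Ideal.mem_comap.mpr h1)
  refine mem_of_smul_mem R K A _ hs ?_
  rw [ha]
  exact h2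

theorem exists_of_mem_map (J' : Ideal A) {y : K ⊗[R] A}
    (hy : y ∈ Ideal.map (Algebra.TensorProduct.includeRight : A →ₐ[R] K ⊗[R] A) J') :
    ∃ s : R, s ≠ 0 ∧ ∃ j ∈ J', s • y = (1 : K) ⊗ₜ[R] j := by
  refine Submodule.span_induction
    (p := fun y _ => ∃ s : R, s ≠ 0 ∧ ∃ j ∈ J', s • y = (1 : K) ⊗ₜ[R] j) ?_ ?_ ?_ ?_ hy
  · rintro x ⟨j, hj, rfl⟩
    exact ⟨1, one_ne_zero, j, hj, one_smul _ _⟩
  · exact ⟨1, one_ne_zero, 0, J'.zero_mem, by rw [smul_zero, tmul_zero]⟩
  · rintro x y _ _ ⟨s₁, hs₁, j₁, hj₁, e₁⟩ ⟨s₂, hs₂, j₂, hj₂, e₂⟩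
    refine ⟨s₁ * s₂, mul_ne_zero hs₁ hs₂, s₂ • j₁ + s₁ • j₂,
      J'.add_mem (Submodule.smul_of_tower_mem J' s₂ hj₁)
        (Submodule.smul_of_tower_mem J' s₁ hj₂), ?_⟩
    rw [smul_add, tmul_add, tmul_smul, tmul_smul, ← e₁, ← e₂, smul_smul, smul_smul,
      mul_comm s₂ s₁]
  · rintro t x _ ⟨s, hs, j, hj, e⟩
    obtain ⟨s', hs', a, ha⟩ := exists_smul_eq R K A t
    refine ⟨s' * s, mul_ne_zero hs' hs, a * j, J'.mul_mem_left a hj, ?_⟩
    rw [smul_eq_mul, ← smul_mul_smul_comm, ha, e, Algebra.TensorProduct.tmul_mul_tmul, one_mul]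

theorem exists_of_mem_map' (J' : Ideal A) {y : K ⊗[R] A}
    (hy : y ∈ Ideal.map (Algebra.TensorProduct.includeRight : A →ₐ[R] K ⊗[R] A) J') :
    ∃ k : K, k ≠ 0 ∧ ∃ j ∈ J', k • y = (1 : K) ⊗ₜ[R] j := by
  obtain ⟨s, hs, j, hj, e⟩ := exists_of_mem_map R K A J' hy
  exact ⟨algebraMap R K s, algebraMap_ne_zero R K hs, j, hj, by rw [algebraMap_smul, e]⟩

theorem vanish (J' : Ideal A) {W : Type*} [AddCommGroup W] [Module K W]
    (F : (K ⊗[R] A) →ₗ[K] W) (h : ∀ j ∈ J', F ((1 : K) ⊗ₜ[R] j) = 0) (x : K ⊗[R] A)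
    (hx : x ∈ Ideal.map (Algebra.TensorProduct.includeRight : A →ₐ[R] K ⊗[R] A) J') :
    F x = 0 := by
  obtain ⟨k, hk, j, hj, e⟩ := exists_of_mem_map' R K A J' hx
  have h0 : k • F x = 0 := by rw [← map_smul, e, h j hj]
  calc F x = k⁻¹ • (k • F x) := by rw [smul_smul, inv_mul_cancel₀ hk, one_smul]
    _ = 0 := by rw [h0, smul_zero]

theorem comap_map_eq (J' : Ideal A)
    (hsat : ∀ s : R, s ≠ 0 → ∀ a : A, s • a ∈ J' → a ∈ J') :
    Ideal.comap (Algebra.TensorProduct.includeRight : A →ₐ[R] K ⊗[R] A)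
      (Ideal.map (Algebra.TensorProduct.includeRight : A →ₐ[R] K ⊗[R] A) J') = J' := by
  refine le_antisymm (fun a ha => ?_) Ideal.le_comap_map
  obtain ⟨s, hs, j, hj, e⟩ := exists_of_mem_map R K A J' (Ideal.mem_comap.mp ha)
  have e' : s • ((1 : K) ⊗ₜ[R] a) = (1 : K) ⊗ₜ[R] j := e
  have h0 : (1 : K) ⊗ₜ[R] (s • a - j) = 0 := by
    rw [tmul_sub, tmul_smul, e', sub_self]
  obtain ⟨s', hs', e''⟩ := exists_smul_eq_zero R K A _ h0
  apply hsat (s' * s) (mul_ne_zero hs' hs)
  have h3 : (s' * s) • a = s' • j := by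
    rw [mul_smul]
    rw [smul_sub, sub_eq_zero] at e''
    exact e''
  rw [h3]
  exact Submodule.smul_of_tower_mem J' s' hj

theorem sat_comap (J : Ideal (K ⊗[R] A)) :
    ∀ s : R, s ≠ 0 → ∀ a : A,
      s • a ∈ Ideal.comap (Algebra.TensorProduct.includeRight : A →ₐ[R] K ⊗[R] A) J →
      a ∈ Ideal.comap (Algebra.TensorProduct.includeRight : A →ₐ[R] K ⊗[R] A) J := by
  intro s hs a h
  have h1 : (1 : K) ⊗ₜ[R] (s • a) ∈ J := h
  have h2 : s • ((1 : K) ⊗ₜ[R] a) ∈ J := by
    rw [← tmul_smul]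
    exact h1
  have h3 : (1 : K) ⊗ₜ[R] a ∈ J := mem_of_smul_mem R K A J hs h2
  exact h3

end loc

section E

variable (R : Type u) [CommRing R] [IsDomain R]
    (K : Type u) [Field K] [Algebra R K] [IsFractionRing R K]
    (V : Type u) [AddCommGroup V] [Module K V] [Module R V] [IsScalarTower R K V]

/-- the comparison map `V ⊗[K] V → V ⊗[R] V` -/
noncomputable def E : V ⊗[K] V →ₗ[K] V ⊗[R] V :=
  have := IsLocalization.tensorProduct_compatibleSMul R⁰ K V V
  TensorProduct.mapOfCompatibleSMul R K K V V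

theorem E_tmul (x y : V) : E R K V (x ⊗ₜ[K] y) = x ⊗ₜ[R] y := rfl

theorem E_injective : Function.Injective (E R K V) := by
  have := IsLocalization.tensorProduct_compatibleSMul R⁰ K V V
  exact (TensorProduct.equivOfCompatibleSMul R K K V V).injective

include K in
theorem flat_of_vectorSpace : Module.Flat R V := by
  have : Module.Flat R K := IsLocalization.flat K R⁰
  exact Module.Flat.trans R K V

end E

section hopf

variable (R : Type u) [CommRing R] [IsDomain R]
    (K : Type u) [Field K] [Algebra R K] [IsFractionRing R K]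
    (A : Type u) [CommRing A] [HopfAlgebra R A]

theorem counit_one_tmul (a : A) :
    Coalgebra.counit (R := K) ((1 : K) ⊗ₜ[R] a) =
      algebraMap R K (Coalgebra.counit (R := R) a) := by
  rw [TensorProduct.counit_tmul, Bialgebra.counit_one, Algebra.algebraMap_eq_smul_one]

theorem antipode_one_tmul (a : A) :
    HopfAlgebra.antipode K ((1 : K) ⊗ₜ[R] a) = (1 : K) ⊗ₜ[R] HopfAlgebra.antipode R a := by
  rw [TensorProduct.antipode_def, TensorProduct.AlgebraTensorModule.map_tmul,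
    HopfAlgebra.antipode_one]

theorem comul_one_tmul (a : A) {κ : Type*} (ℛ : Coalgebra.Repr R a κ) :
    Coalgebra.comul (R := K) ((1 : K) ⊗ₜ[R] a) =
      ∑ i ∈ ℛ.index, ((1 : K) ⊗ₜ[R] ℛ.left i) ⊗ₜ[K] ((1 : K) ⊗ₜ[R] ℛ.right i) := by
  simp [← ℛ.eq, TensorProduct.tmul_sum]

variable (J' : Ideal A) (J : Ideal (K ⊗[R] A))

/-- the induced map on quotients -/
noncomputable def qmap
    (hle : J' ≤ Ideal.comap (Algebra.TensorProduct.includeRight : A →ₐ[R] K ⊗[R] A) J) :
    (A ⧸ J'.restrictScalars R) →ₗ[R] ((K ⊗[R] A) ⧸ J.restrictScalars K) :=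
  (J'.restrictScalars R).liftQ
    (((J.restrictScalars K).mkQ.restrictScalars R) ∘ₗ
      (Algebra.TensorProduct.includeRight : A →ₐ[R] K ⊗[R] A).toLinearMap)
    (by
      intro j hj
      rw [LinearMap.mem_ker, LinearMap.comp_apply, LinearMap.restrictScalars_apply,
        Submodule.mkQ_apply, Submodule.Quotient.mk_eq_zero]
      exact hle hj)

theorem qmap_injective :
    Function.Injective (qmap R K A
      (Ideal.comap (Algebra.TensorProduct.includeRight : A →ₐ[R] K ⊗[R] A) J) J le_rfl) := by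
  rw [← LinearMap.ker_eq_bot]
  apply Submodule.ker_liftQ_eq_bot
  intro a ha
  rw [LinearMap.mem_ker, LinearMap.comp_apply, LinearMap.restrictScalars_apply,
    Submodule.mkQ_apply, Submodule.Quotient.mk_eq_zero] at ha
  exact ha

theorem key (hle : J' ≤ Ideal.comap (Algebra.TensorProduct.includeRight : A →ₐ[R] K ⊗[R] A) J)
    (a : A) :
    E R K _ (TensorProduct.map (J.restrictScalars K).mkQ (J.restrictScalars K).mkQ
      (Coalgebra.comul (R := K) ((1 : K) ⊗ₜ[R] a))) =
    TensorProduct.map (qmap R K A J' J hle) (qmap R K A J' J hle)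
      (TensorProduct.map (J'.restrictScalars R).mkQ (J'.restrictScalars R).mkQ
        (Coalgebra.comul (R := R) a)) := by
  have ℛ := Coalgebra.Repr.arbitrary R a
  rw [comul_one_tmul R K A a ℛ, ← ℛ.eq]
  simp only [map_sum, TensorProduct.map_tmul, E_tmul]
  rfl

theorem mapsTo_aux (hH : J'.IsHopfIdeal R)
    (hJ : J = Ideal.map (Algebra.TensorProduct.includeRight : A →ₐ[R] K ⊗[R] A) J') :
    J.IsHopfIdeal K := by
  have hle : J' ≤ Ideal.comap (Algebra.TensorProduct.includeRight : A →ₐ[R] K ⊗[R] A) J := by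
    rw [hJ]; exact Ideal.le_comap_map
  have hco : (J'.restrictScalars R).IsCoideal := hH.toIsCoideal
  refine (Ideal.isHopfIdeal_iff K J).mpr ⟨⟨?_, ?_⟩, ?_⟩
  · intro x hx
    have hx' : x ∈ Ideal.map (Algebra.TensorProduct.includeRight : A →ₐ[R] K ⊗[R] A) J' :=
      hJ ▸ hx
    exact vanish R K A J' (Coalgebra.counit (R := K)) (fun j hj => by
      rw [counit_one_tmul, hco.counit_eq_zero hj, map_zero]) x hx'
  · intro x hx
    have hx' : x ∈ Ideal.map (Algebra.TensorProduct.includeRight : A →ₐ[R] K ⊗[R] A) J' :=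
      hJ ▸ hx
    refine vanish R K A J'
      ((TensorProduct.map (J.restrictScalars K).mkQ (J.restrictScalars K).mkQ) ∘ₗ
        Coalgebra.comul (R := K)) (fun j hj => ?_) x hx'
    apply E_injective R K
    rw [LinearMap.comp_apply, key R K A J' J hle j, hco.map_mkQ_comul_eq_zero hj, map_zero,
      map_zero]
  · intro x hx
    have hx' : x ∈ Ideal.map (Algebra.TensorProduct.includeRight : A →ₐ[R] K ⊗[R] A) J' :=
      hJ ▸ hx
    obtain ⟨k, hk, j, hj, e⟩ := exists_of_mem_map' R K A J' hx'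
    have h1 : k • HopfAlgebra.antipode K x ∈ J := by
      rw [← map_smul, e, antipode_one_tmul, hJ]
      exact Ideal.mem_map_of_mem _ (hH.antipode_mem hj)
    have h2 : HopfAlgebra.antipode K x = k⁻¹ • (k • HopfAlgebra.antipode K x) := by
      rw [smul_smul, inv_mul_cancel₀ hk, one_smul]
    rw [h2]
    exact Submodule.smul_of_tower_mem J _ h1

end hopf

section ded

variable (R : Type u) [CommRing R] [IsDedekindDomain R]
    (K : Type u) [Field K] [Algebra R K] [IsFractionRing R K]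
    (A : Type u) [CommRing A] [HopfAlgebra R A]

theorem flat_quot_of_sat (N : Submodule R A)
    (hsat : ∀ s : R, s ≠ 0 → ∀ a : A, s • a ∈ N → a ∈ N) :
    Module.Flat R (A ⧸ N) := by
  have : Module.IsTorsionFree R (A ⧸ N) := by
    rw [Module.isTorsionFree_iff_smul_eq_zero]
    intro r m h
    obtain ⟨a, rfl⟩ := Submodule.Quotient.mk_surjective N m
    by_cases hr : r = 0
    · exact Or.inl hr
    · right
      rw [← Submodule.Quotient.mk_smul, Submodule.Quotient.mk_eq_zero] at h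
      rw [Submodule.Quotient.mk_eq_zero]
      exact hsat r hr a h
  infer_instance

theorem surj_hopf (J : Ideal (K ⊗[R] A)) (hJ : J.IsHopfIdeal K) :
    (Ideal.comap (Algebra.TensorProduct.includeRight : A →ₐ[R] K ⊗[R] A) J).IsHopfIdeal R := by
  have hco : (J.restrictScalars K).IsCoideal := hJ.toIsCoideal
  refine (Ideal.isHopfIdeal_iff R _).mpr ⟨⟨?_, ?_⟩, ?_⟩
  · intro j hj
    have h1 : (1 : K) ⊗ₜ[R] j ∈ J.restrictScalars K := hj
    have h2 := hco.counit_eq_zero h1
    rw [counit_one_tmul] at h2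
    exact (map_eq_zero_iff _ (IsFractionRing.injective R K)).mp h2
  · intro j hj
    have h1 : (1 : K) ⊗ₜ[R] j ∈ J.restrictScalars K := hj
    have h2 := hco.map_mkQ_comul_eq_zero h1
    have h3 := key R K A
      (Ideal.comap (Algebra.TensorProduct.includeRight : A →ₐ[R] K ⊗[R] A) J) J le_rfl j
    rw [h2, map_zero] at h3
    have hF1 : Module.Flat R ((K ⊗[R] A) ⧸ J.restrictScalars K) := flat_of_vectorSpace R K _
    have hF2 : Module.Flat R (A ⧸
        (Ideal.comap (Algebra.TensorProduct.includeRight : A →ₐ[R] K ⊗[R] A) J).restrictScalars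
          R) :=
      flat_quot_of_sat R A _ (sat_comap R K A J)
    have hinj := TensorProduct.map_injective_of_flat_flat _ _
      (qmap_injective R K A J) (qmap_injective R K A J)
    exact (map_eq_zero_iff _ hinj).mp h3.symm
  · intro j hj
    have h1 : (1 : K) ⊗ₜ[R] j ∈ J := hj
    have h2 := hJ.antipode_mem h1
    rw [antipode_one_tmul] at h2
    exact h2

end ded

/-- Let R be a Dedekind domain with fraction field K and let G = Spec A be a finite flat group scheme
over R (A a commutative Hopf algebra over R, finite and flat as an R-module). Closed flat R-subgroup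
schemes of G correspond one-to-one to closed K-subgroup schemes of the generic fibre G_K under H ↦
H_K: the map sending a Hopf ideal J' of A with A/J' flat over R to the ideal it generates in K ⊗_R A
is a bijection onto the set of Hopf ideals of the Hopf algebra K ⊗_R A over K (its inverse takes a
Hopf ideal of K ⊗_R A to its preimage in A). -/
theorem result (R : Type u) [CommRing R] [IsDedekindDomain R]
    (K : Type u) [Field K] [Algebra R K] [IsFractionRing R K]
    (A : Type u) [CommRing A] [HopfAlgebra R A] [Module.Finite R A] [Module.Flat R A] :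
    Set.BijOn (fun J' : Ideal A => Ideal.map (Algebra.TensorProduct.includeRight : A →ₐ[R] K ⊗[R] A) J')
      {J' : Ideal A | J'.IsHopfIdeal R ∧ Module.Flat R (A ⧸ J')}
      {J : Ideal (K ⊗[R] A) | J.IsHopfIdeal K} := by
  have sat_of_flat : ∀ J' : Ideal A, Module.Flat R (A ⧸ J') →
      ∀ s : R, s ≠ 0 → ∀ a : A, s • a ∈ J' → a ∈ J' := by
    intro J' hF s hs a h
    have hT : Module.IsTorsionFree R (A ⧸ J') := inferInstance
    have h1 : s • (Ideal.Quotient.mk J' a) = 0 := by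
      have h2 : Ideal.Quotient.mk J' (s • a) = 0 := Ideal.Quotient.eq_zero_iff_mem.mpr h
      rw [← h2]
      exact (map_smul (Ideal.Quotient.mkₐ R J') s a).symm
    rcases smul_eq_zero.mp h1 with h3 | h3
    · exact absurd h3 hs
    · exact Ideal.Quotient.eq_zero_iff_mem.mp h3
  refine ⟨?_, ?_, ?_⟩
  · rintro J' ⟨hH, -⟩
    exact mapsTo_aux R K A J' _ hH rfl
  · rintro J₁ ⟨-, hF₁⟩ J₂ ⟨-, hF₂⟩ h
    have h1 := comap_map_eq R K A J₁ (sat_of_flat J₁ hF₁)
    have h2 := comap_map_eq R K A J₂ (sat_of_flat J₂ hF₂)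
    have h' : Ideal.map (Algebra.TensorProduct.includeRight : A →ₐ[R] K ⊗[R] A) J₁ =
        Ideal.map (Algebra.TensorProduct.includeRight : A →ₐ[R] K ⊗[R] A) J₂ := h
    rw [← h1, ← h2, h']
  · intro J hJ
    refine ⟨Ideal.comap (Algebra.TensorProduct.includeRight : A →ₐ[R] K ⊗[R] A) J,
      ⟨surj_hopf R K A J hJ, ?_⟩, map_comap_eq R K A J⟩
    have hF := flat_quot_of_sat R A
      ((Ideal.comap (Algebra.TensorProduct.includeRight : A →ₐ[R] K ⊗[R] A) J).restrictScalars R)
      (sat_comap R K A J)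
    exact Module.Flat.of_linearEquiv
      (Submodule.Quotient.restrictScalarsEquiv R
        (Ideal.comap (Algebra.TensorProduct.includeRight : A →ₐ[R] K ⊗[R] A) J)).symm

end Groth.Agent.S13407
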