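import Groth.Statements.S13409
import Groth.Agent.H67.BipLabel

set_option autoImplicit false
universe u v
open CombGraph

namespace Groth.Agent.S13409

/-- Let `A` be an abelian group and `G` a finite connected simple graph on `V` that is bipartite for a
two-colouring `c : V → Bool` (adjacent vertices get different colours). If `a : V → A` has the same
sum over the vertices of each colour, then some labelling `x` of the edges by elements of `A` has,
at every vertex `v`, the sum of `x` over the edges incident to `v` equal to `a v`. (The published
statement concerns finite bipartite graphs in general; this row treats simple graphs.) -/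
theorem result {V : Type u} [Fintype V] [DecidableEq V]
    (G : SimpleGraph V) [DecidableRel G.Adj] (hconn : G.Connected) (c : V → Bool)
    (hbip : ∀ v w : V, G.Adj v w → c v ≠ c w) (A : Type v) [AddCommGroup A] (a : V → A)
    (hsum : ∑ v ∈ Finset.univ.filter (fun v => c v = true), a v =
      ∑ v ∈ Finset.univ.filter (fun v => c v = false), a v) :
    ∃ x : Sym2 V → A, ∀ v : V, ∑ e ∈ G.incidenceFinset v, x e = a v := by
  have h0 : ∑ v, Groth.Agent.H67.bsign c v • a v = 0 := by
    have : ∀ v, Groth.Agent.H67.bsign c v • a v =
        (if c v = true then a v else 0) - (if c v = false then a v else 0) := by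
      intro v
      unfold Groth.Agent.H67.bsign
      cases c v <;> simp
    rw [Finset.sum_congr rfl (fun v _ => this v), Finset.sum_sub_distrib, ← Finset.sum_filter,
      ← Finset.sum_filter, hsum, sub_self]
  obtain ⟨x, _, hx⟩ := Groth.Agent.H67.exists_labelling hconn (Groth.Agent.H67.bsign c)
    (fun u w h => Groth.Agent.H67.bsign_adj c u w (hbip u w h))
    (Groth.Agent.H67.bsign_mul_self c) a h0
  exact ⟨x, hx⟩

end Groth.Agent.S13409
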