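import Groth.Statements.S13410
import Groth.Agent.H67.BipLabel

set_option autoImplicit false
universe u v
open CombGraph

namespace Groth.Agent.S13410

/-- Let `A` be an abelian group and `G` a finite connected simple graph on `V`, bipartite for a
two-colouring `c`. Consider the additive group of labellings `x : Sym2 V → A` vanishing off the edge
set and with `∑_{e ∋ v} x e = 0` at every vertex `v`. If `e₀` is an edge whose deletion leaves `G`
connected, then evaluation at `e₀` restricted to this group is surjective and split: there is an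
additive map `φ : A → (Sym2 V → A)` with values in this group and with `φ a e₀ = a` for all `a`.
(The published statement concerns finite bipartite graphs in general; this row treats simple
graphs.) -/
theorem result {V : Type u} [Fintype V]
    [DecidableEq V] (G : SimpleGraph V) [DecidableRel G.Adj] (hconn : G.Connected) (c : V → Bool)
    (hbip : ∀ v w : V, G.Adj v w → c v ≠ c w) (A : Type v) [AddCommGroup A] (e₀ : Sym2 V)
    (he₀ : e₀ ∈ G.edgeSet) (hdel : (G.deleteEdges {e₀}).Connected) :
    ∃ φ : A →+ (Sym2 V → A),
      (∀ a : A, (∀ e : Sym2 V, e ∉ G.edgeSet → φ a e = 0) ∧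
        ∀ v : V, ∑ e ∈ G.incidenceFinset v, φ a e = 0) ∧
      ∀ a : A, φ a e₀ = a := by
  classical
  revert he₀ hdel
  refine Sym2.ind (fun u w => ?_) e₀
  intro he₀ hdel
  have hadj : G.Adj u w := he₀
  have hne : u ≠ w := hadj.ne
  have hne' : ¬ w = u := fun h => hne h.symm
  have hσ : ∀ x y, G.Adj x y → Groth.Agent.H67.bsign c y = - Groth.Agent.H67.bsign c x :=
    fun x y h => Groth.Agent.H67.bsign_adj c x y (hbip x y h)
  have hσ' : ∀ x y, (G.deleteEdges {s(u, w)}).Adj x y →
      Groth.Agent.H67.bsign c y = - Groth.Agent.H67.bsign c x :=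
    fun x y h => hσ x y ((SimpleGraph.deleteEdges_adj.1 h).1)
  let b : V → ℤ := fun t => - ((if t = u then 1 else 0) + (if t = w then 1 else 0))
  have h0 : ∑ v, Groth.Agent.H67.bsign c v • b v = 0 := by
    have : ∀ v, Groth.Agent.H67.bsign c v • b v =
        - ((if v = u then Groth.Agent.H67.bsign c v else 0) +
          (if v = w then Groth.Agent.H67.bsign c v else 0)) := by
      intro v
      simp only [b, smul_eq_mul]
      split_ifs <;> ring
    rw [Finset.sum_congr rfl (fun v _ => this v), Finset.sum_neg_distrib, Finset.sum_add_distrib,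
      Finset.sum_ite_eq', Finset.sum_ite_eq', if_pos (Finset.mem_univ _),
      if_pos (Finset.mem_univ _), hσ u w hadj]
    ring
  obtain ⟨x', hx'0, hx'⟩ := Groth.Agent.H67.exists_labelling hdel (Groth.Agent.H67.bsign c) hσ'
    (Groth.Agent.H67.bsign_mul_self c) b h0
  have hedge : ∀ e, e ∈ (G.deleteEdges {s(u, w)}).edgeSet → e ∈ G.edgeSet := by
    intro e h
    rw [SimpleGraph.edgeSet_deleteEdges] at h
    exact h.1
  have hedge0 : s(u, w) ∉ (G.deleteEdges {s(u, w)}).edgeSet := by
    rw [SimpleGraph.edgeSet_deleteEdges]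
    exact fun h => h.2 rfl
  let ξ : Sym2 V → ℤ := fun e => x' e + (if e = s(u, w) then 1 else 0)
  have hξ0 : ∀ e, e ∉ G.edgeSet → ξ e = 0 := by
    intro e he
    have h1 : e ∉ (G.deleteEdges {s(u, w)}).edgeSet := fun h => he (hedge e h)
    have h2 : e ≠ s(u, w) := fun h => he (h ▸ he₀)
    change x' e + (if e = s(u, w) then 1 else 0) = 0
    rw [hx'0 e h1, if_neg h2, add_zero]
  have hξe : ξ s(u, w) = 1 := by
    change x' s(u, w) + (if s(u, w) = s(u, w) then 1 else 0) = 1
    rw [hx'0 _ hedge0, if_pos rfl, zero_add]
  have hξs : ∀ t, ∑ e ∈ G.incidenceFinset t, ξ e = 0 := by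
    intro t
    change ∑ e ∈ G.incidenceFinset t, (x' e + (if e = s(u, w) then 1 else 0)) = 0
    rw [Finset.sum_add_distrib, Finset.sum_ite_eq']
    have hsub : ∑ e ∈ G.incidenceFinset t, x' e =
        ∑ e ∈ (G.deleteEdges {s(u, w)}).incidenceFinset t, x' e := by
      symm
      apply Finset.sum_subset
      · intro e he
        rw [SimpleGraph.mem_incidenceFinset] at he ⊢
        exact ⟨hedge e he.1, he.2⟩
      · intro e he hne2
        apply hx'0
        intro h
        apply hne2
        rw [SimpleGraph.mem_incidenceFinset] at he ⊢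
        exact ⟨h, he.2⟩
    rw [hsub, hx']
    have hmem : s(u, w) ∈ G.incidenceFinset t ↔ (t = u ∨ t = w) := by
      rw [SimpleGraph.mem_incidenceFinset, SimpleGraph.mk'_mem_incidenceSet_iff]
      exact ⟨fun h' => h'.2, fun h' => ⟨hadj, h'⟩⟩
    change - ((if t = u then (1 : ℤ) else 0) + (if t = w then 1 else 0)) +
      (if s(u, w) ∈ G.incidenceFinset t then 1 else 0) = 0
    by_cases h1 : t = u
    · have h2 : ¬ t = w := fun h' => hne (h1.symm.trans h')
      rw [if_pos (hmem.2 (Or.inl h1)), if_pos h1, if_neg h2]
      ring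
    · by_cases h2 : t = w
      · rw [if_pos (hmem.2 (Or.inr h2)), if_neg h1, if_pos h2]
        ring
      · have : ¬ s(u, w) ∈ G.incidenceFinset t := fun h' => (hmem.1 h').elim h1 h2
        rw [if_neg this, if_neg h1, if_neg h2]
        ring
  refine ⟨{ toFun := fun a e => ξ e • a
            map_zero' := by
              funext e
              exact smul_zero _
            map_add' := by
              intro a₁ a₂
              funext e
              exact smul_add _ _ _ }, ?_, ?_⟩
  · intro a
    refine ⟨fun e he => ?_, fun t => ?_⟩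
    · change ξ e • a = 0
      rw [hξ0 e he, zero_smul]
    · change ∑ e ∈ G.incidenceFinset t, ξ e • a = 0
      rw [← Finset.sum_smul, hξs, zero_smul]
  · intro a
    change ξ s(u, w) • a = a
    rw [hξe, one_smul]

end Groth.Agent.S13410
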