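import Groth.Statements.S13411
import Mathlib
import Groth.Agent.S13410

set_option autoImplicit false
universe u v
open CombGraph

namespace Groth.Agent.S13411

open SimpleGraph

section helpers

variable {V : Type u} [Fintype V] [DecidableEq V]

/-- vertex sums do not see a deleted edge on which the labelling vanishes -/
theorem sum_inc_delete (G : SimpleGraph V) [DecidableRel G.Adj] (e₀ : Sym2 V)
    [DecidableRel (G.deleteEdges {e₀}).Adj] {A : Type v} [AddCommGroup A]
    (x : Sym2 V → A) (hx0 : x e₀ = 0) (t : V) :
    ∑ e ∈ (G.deleteEdges {e₀}).incidenceFinset t, x e = ∑ e ∈ G.incidenceFinset t, x e := by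
  apply Finset.sum_subset
  · intro e he
    rw [SimpleGraph.mem_incidenceFinset] at he ⊢
    refine ⟨?_, he.2⟩
    have h1 := he.1
    rw [SimpleGraph.edgeSet_deleteEdges] at h1
    exact h1.1
  · intro e he hne
    rw [SimpleGraph.mem_incidenceFinset] at he hne
    by_cases h : e = e₀
    · rw [h]; exact hx0
    · exfalso
      apply hne
      refine ⟨?_, he.2⟩
      rw [SimpleGraph.edgeSet_deleteEdges]
      exact ⟨he.1, fun h' => h h'⟩

/-- in a graph all of whose edges are bridges, a bipartite cycle labelling vanishes -/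
theorem tree_zero (G : SimpleGraph V) [DecidableRel G.Adj] (c : V → Bool)
    (hbip : ∀ v w : V, G.Adj v w → c v ≠ c w)
    (hbr : ∀ ⦃e : Sym2 V⦄, e ∈ G.edgeSet → G.IsBridge e)
    {A : Type v} [AddCommGroup A] (x : Sym2 V → A)
    (hx0 : ∀ e : Sym2 V, e ∉ G.edgeSet → x e = 0)
    (hxs : ∀ t : V, ∑ e ∈ G.incidenceFinset t, x e = 0) : x = 0 := by
  classical
  funext e
  by_cases he : e ∈ G.edgeSet
  swap
  · exact hx0 e he
  revert he
  refine Sym2.ind (fun u w => ?_) e
  intro he
  have hadj : G.Adj u w := he
  have hnr : ¬ (G.deleteEdges {s(u, w)}).Reachable u w := SimpleGraph.isBridge_iff.mp (hbr he)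
  set G' := G.deleteEdges {s(u, w)} with hG'
  set ε : V → ℤ := Groth.Agent.H67.bsign c with hε
  have hεadj : ∀ a b, G.Adj a b → ε b = - ε a :=
    fun a b h => Groth.Agent.H67.bsign_adj c a b (hbip a b h)
  have hεsq : ∀ a, ε a * ε a = 1 := Groth.Agent.H67.bsign_mul_self c
  set C : Finset V := Finset.univ.filter (fun t => G'.Reachable u t) with hC
  have hmemC : ∀ t, t ∈ C ↔ G'.Reachable u t := by
    intro t; rw [hC, Finset.mem_filter]; exact ⟨fun h => h.2, fun h => ⟨Finset.mem_univ _, h⟩⟩
  have huC : u ∈ C := (hmemC u).mpr (SimpleGraph.Reachable.refl u)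
  have hwC : w ∉ C := fun h => hnr ((hmemC w).mp h)
  -- the signed sum over C vanishes
  have hS : ∑ t ∈ C, ∑ e' ∈ G.incidenceFinset t, ε t • x e' = 0 := by
    refine Finset.sum_eq_zero (fun t _ => ?_)
    rw [← Finset.smul_sum, hxs t, smul_zero]
  rw [Finset.sum_comm' (t' := G.edgeFinset) (s' := fun e' => C.filter (fun t => t ∈ e'))
    (by
      intro t e'
      simp only [SimpleGraph.mem_incidenceFinset, Finset.mem_filter, SimpleGraph.mem_edgeFinset]
      constructor
      · rintro ⟨h1, h2⟩; exact ⟨⟨h1, h2.2⟩, h2.1⟩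
      · rintro ⟨⟨h1, h2⟩, h3⟩; exact ⟨h1, ⟨h3, h2⟩⟩)] at hS
  have hκ : ∀ e' ∈ G.edgeFinset, ∑ t ∈ C.filter (fun t => t ∈ e'), ε t • x e' =
      (∑ t ∈ C.filter (fun t => t ∈ e'), ε t) • x e' := by
    intro e' _
    rw [Finset.sum_smul]
  rw [Finset.sum_congr rfl hκ] at hS
  -- all other edges have zero coefficient
  have hother : ∀ e' ∈ G.edgeFinset, e' ≠ s(u, w) →
      (∑ t ∈ C.filter (fun t => t ∈ e'), ε t) • x e' = 0 := by
    intro e' he' hne
    rw [SimpleGraph.mem_edgeFinset] at he'
    revert he' hne
    refine Sym2.ind (fun a b => ?_) e'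
    intro hab hne
    have hab' : G.Adj a b := hab
    have hG'ab : G'.Adj a b := by
      rw [hG', SimpleGraph.deleteEdges_adj]
      exact ⟨hab', fun h => hne h⟩
    have hiff : a ∈ C ↔ b ∈ C := by
      rw [hmemC, hmemC]
      exact ⟨fun h => h.trans hG'ab.reachable, fun h => h.trans hG'ab.symm.reachable⟩
    by_cases haC : a ∈ C
    · have hbC : b ∈ C := hiff.mp haC
      have hfil : C.filter (fun t => t ∈ s(a, b)) = {a, b} := by
        ext t
        rw [Finset.mem_filter, Sym2.mem_iff, Finset.mem_insert, Finset.mem_singleton]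
        constructor
        · intro h; exact h.2
        · rintro (rfl | rfl)
          · exact ⟨haC, Or.inl rfl⟩
          · exact ⟨hbC, Or.inr rfl⟩
      rw [hfil, Finset.sum_pair hab'.ne, hεadj a b hab', add_neg_cancel, zero_smul]
    · have hbC : b ∉ C := fun h => haC (hiff.mpr h)
      have hfil : C.filter (fun t => t ∈ s(a, b)) = ∅ := by
        ext t
        rw [Finset.mem_filter, Sym2.mem_iff]
        constructor
        · rintro ⟨h1, (rfl | rfl)⟩
          · exact absurd h1 haC
          · exact absurd h1 hbC
        · intro h; exact absurd h (Finset.notMem_empty t)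
      rw [hfil, Finset.sum_empty, zero_smul]
  have hmain : (∑ t ∈ C.filter (fun t => t ∈ s(u, w)), ε t) • x s(u, w) = 0 := by
    rw [← hS]
    symm
    apply Finset.sum_eq_single s(u, w) hother
    intro h
    exact absurd (SimpleGraph.mem_edgeFinset.mpr he) h
  have hfil : C.filter (fun t => t ∈ s(u, w)) = {u} := by
    ext t
    rw [Finset.mem_filter, Sym2.mem_iff, Finset.mem_singleton]
    constructor
    · rintro ⟨h1, (rfl | rfl)⟩
      · rfl
      · exact absurd h1 hwC
    · rintro rfl
      exact ⟨huC, Or.inl rfl⟩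
  rw [hfil, Finset.sum_singleton] at hmain
  have h2 : (ε u * ε u) • x s(u, w) = 0 := by
    rw [mul_smul, hmain, smul_zero]
  rw [hεsq u, one_smul] at h2
  exact h2

theorem main_ind (A : Type v) [AddCommGroup A] (c : V → Bool) :
    ∀ (n : ℕ) (G : SimpleGraph V) [DecidableRel G.Adj], G.Connected →
      (∀ v w : V, G.Adj v w → c v ≠ c w) →
      G.edgeFinset.card + 1 = Fintype.card V + n →
      ∃ f : (Fin n → A) →+ (Sym2 V → A), Function.Injective f ∧
        Set.range f = {x : Sym2 V → A | (∀ e : Sym2 V, e ∉ G.edgeSet → x e = 0) ∧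
          ∀ v : V, ∑ e ∈ G.incidenceFinset v, x e = 0} := by
  classical
  intro n
  induction n with
  | zero =>
    intro G _ hconn hbip hn
    have htree : G.IsTree := by
      rw [SimpleGraph.isTree_iff_connected_and_card]
      refine ⟨hconn, ?_⟩
      rw [Nat.card_eq_fintype_card, Nat.card_eq_fintype_card, ← SimpleGraph.edgeFinset_card]
      omega
    have hbr := SimpleGraph.isAcyclic_iff_forall_isBridge.mp htree.isAcyclic
    refine ⟨0, Function.injective_of_subsingleton _, ?_⟩
    ext x
    constructor
    · rintro ⟨y, rfl⟩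
      refine ⟨fun e _ => rfl, fun t => ?_⟩
      exact Finset.sum_eq_zero (fun e _ => rfl)
    · rintro ⟨h1, h2⟩
      exact ⟨0, (tree_zero G c hbip hbr x h1 h2).symm⟩
  | succ n ih =>
    intro G _ hconn hbip hn
    -- find a non-bridge edge
    have hex : ∃ e : Sym2 V, e ∈ G.edgeSet ∧ ¬ G.IsBridge e := by
      by_contra hcon
      have hbr : ∀ ⦃e : Sym2 V⦄, e ∈ G.edgeSet → G.IsBridge e := by
        intro e he
        by_contra h
        exact hcon ⟨e, he, h⟩
      have htree : G.IsTree := ⟨hconn, SimpleGraph.isAcyclic_iff_forall_isBridge.mpr hbr⟩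
      have h1 := htree.card_edgeFinset
      omega
    obtain ⟨e₀, he₀, hnb⟩ := hex
    revert he₀ hnb
    refine Sym2.ind (fun u w => ?_) e₀
    intro he₀ hnb
    have hdel : (G.deleteEdges {s(u, w)}).Connected :=
      hconn.connected_delete_edge_of_not_isBridge hnb
    have hbip' : ∀ a b : V, (G.deleteEdges {s(u, w)}).Adj a b → c a ≠ c b :=
      fun a b h => hbip a b (SimpleGraph.deleteEdges_adj.mp h).1
    have hcard : (G.deleteEdges {s(u, w)}).edgeFinset.card + 1 = Fintype.card V + n := by
      have h1 : (G.deleteEdges {s(u, w)}).edgeFinset = G.edgeFinset \ {s(u, w)} := by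
        ext e
        rw [SimpleGraph.mem_edgeFinset, SimpleGraph.edgeSet_deleteEdges, Finset.mem_sdiff,
          SimpleGraph.mem_edgeFinset, Finset.mem_singleton]
        rfl
      have h2 : ({s(u, w)} : Finset (Sym2 V)) ⊆ G.edgeFinset := by
        intro e he
        rw [Finset.mem_singleton] at he
        rw [he]; exact SimpleGraph.mem_edgeFinset.mpr he₀
      rw [h1, Finset.card_sdiff_of_subset h2, Finset.card_singleton]
      have h3 : 1 ≤ G.edgeFinset.card := by
        have := Finset.card_le_card h2
        rwa [Finset.card_singleton] at this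
      omega
    obtain ⟨f', hf'inj, hf'range⟩ := ih (G.deleteEdges {s(u, w)}) hdel hbip' hcard
    obtain ⟨φ, hφZ, hφe⟩ := Groth.Agent.S13410.result G hconn c hbip A s(u, w) he₀ hdel
    have he₀' : s(u, w) ∉ (G.deleteEdges {s(u, w)}).edgeSet := by
      rw [SimpleGraph.edgeSet_deleteEdges]
      exact fun h => h.2 rfl
    -- membership in the smaller group
    have hmem' : ∀ x : Sym2 V → A, x ∈ Set.range f' ↔
        ((∀ e : Sym2 V, e ∉ G.edgeSet → x e = 0) ∧
          (∀ v : V, ∑ e ∈ G.incidenceFinset v, x e = 0)) ∧ x s(u, w) = 0 := by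
      intro x
      rw [hf'range]
      constructor
      · rintro ⟨h1, h2⟩
        have h0 : x s(u, w) = 0 := h1 _ he₀'
        refine ⟨⟨fun e he => h1 e (fun h => he ?_), fun t => ?_⟩, h0⟩
        · rw [SimpleGraph.edgeSet_deleteEdges] at h
          exact h.1
        · rw [← sum_inc_delete G s(u, w) x h0 t]
          exact h2 t
      · rintro ⟨⟨h1, h2⟩, h0⟩
        refine ⟨fun e he => ?_, fun t => ?_⟩
        · by_cases h : e = s(u, w)
          · rw [h]; exact h0
          · apply h1
            intro h'
            apply he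
            rw [SimpleGraph.edgeSet_deleteEdges]
            exact ⟨h', fun h'' => h h''⟩
        · rw [sum_inc_delete G s(u, w) x h0 t]
          exact h2 t
    let f : (Fin (n + 1) → A) →+ (Sym2 V → A) :=
      { toFun := fun y => f' (fun i => y i.succ) + φ (y 0)
        map_zero' := by
          have h1 : (fun i : Fin n => (0 : Fin (n + 1) → A) i.succ) = 0 := rfl
          rw [h1, map_zero, Pi.zero_apply, map_zero, add_zero]
        map_add' := by
          intro y z
          have h1 : (fun i : Fin n => (y + z) i.succ) =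
              (fun i : Fin n => y i.succ) + (fun i : Fin n => z i.succ) := rfl
          rw [h1, map_add, Pi.add_apply, map_add]
          abel }
    have hf : ∀ y, f y = f' (fun i => y i.succ) + φ (y 0) := fun y => rfl
    refine ⟨f, ?_, ?_⟩
    · rw [injective_iff_map_eq_zero]
      intro y hy
      rw [hf] at hy
      have h1 : (f' (fun i => y i.succ)) s(u, w) = 0 :=
        ((hmem' _).mp ⟨_, rfl⟩).2
      have h2 : y 0 = 0 := by
        have := congrFun hy s(u, w)
        rw [Pi.add_apply, h1, zero_add, hφe, Pi.zero_apply] at this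
        exact this
      rw [h2, map_zero, add_zero] at hy
      have h3 : (fun i : Fin n => y i.succ) = 0 := by
        apply hf'inj
        rw [hy, map_zero]
      funext i
      refine Fin.cases ?_ (fun j => ?_) i
      · exact h2
      · exact congrFun h3 j
    · ext x
      constructor
      · rintro ⟨y, rfl⟩
        rw [hf]
        have h1 := ((hmem' (f' (fun i => y i.succ))).mp ⟨_, rfl⟩).1
        have h2 := hφZ (y 0)
        refine ⟨fun e he => ?_, fun t => ?_⟩
        · rw [Pi.add_apply, h1.1 e he, h2.1 e he, add_zero]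
        · simp only [Pi.add_apply]
          rw [Finset.sum_add_distrib, h1.2 t, h2.2 t, add_zero]
      · rintro ⟨h1, h2⟩
        have h3 := hφZ (x s(u, w))
        have hx' : x - φ (x s(u, w)) ∈ Set.range f' := by
          rw [hmem']
          refine ⟨⟨fun e he => ?_, fun t => ?_⟩, ?_⟩
          · rw [Pi.sub_apply, h1 e he, h3.1 e he, sub_zero]
          · simp only [Pi.sub_apply]
            rw [Finset.sum_sub_distrib, h2 t, h3.2 t, sub_zero]
          · rw [Pi.sub_apply, hφe, sub_self]
        obtain ⟨y', hy'⟩ := hx'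
        refine ⟨Fin.cons (x s(u, w)) y', ?_⟩
        rw [hf]
        have h4 : (fun i : Fin n => (Fin.cons (x s(u, w)) y' : Fin (n + 1) → A) i.succ) = y' := by
          funext i
          rw [Fin.cons_succ]
        rw [h4, Fin.cons_zero, hy']
        abel

end helpers


/-- Let `A` be an abelian group and `G` a finite connected simple graph on `V`, bipartite for a
two-colouring `c`, with cyclomatic number `n` (number of edges minus number of vertices plus one).
Then the additive group of labellings `x : Sym2 V → A` vanishing off the edge set and with `∑_{e ∋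
v} x e = 0` at every vertex `v` is isomorphic to `A^n`: it is the range of an injective additive map
`(Fin n → A) → (Sym2 V → A)`. (The published statement concerns finite bipartite graphs in general;
this row treats simple graphs.) -/
theorem result {V : Type u} [Fintype V]
    [DecidableEq V] (G : SimpleGraph V) [DecidableRel G.Adj] (hconn : G.Connected) (c : V → Bool)
    (hbip : ∀ v w : V, G.Adj v w → c v ≠ c w) (A : Type v) [AddCommGroup A] (n : ℕ)
    (hn : G.edgeFinset.card + 1 = Fintype.card V + n) :
    ∃ f : (Fin n → A) →+ (Sym2 V → A), Function.Injective f ∧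
      Set.range f = {x : Sym2 V → A | (∀ e : Sym2 V, e ∉ G.edgeSet → x e = 0) ∧
        ∀ v : V, ∑ e ∈ G.incidenceFinset v, x e = 0} := by
  exact main_ind A c n G hconn hbip hn

end Groth.Agent.S13411
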