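import Groth.Statements.S13418
-- import your own Groth.Agent.* helpers here

set_option autoImplicit false
universe u
open CategoryTheory AlgebraicGeometry
open NeronHD

namespace Groth.Agent.S13418

open CategoryTheory CategoryTheory.Limits

section Helpers

universe v₁ u₁

variable {C : Type u₁} [Category.{v₁} C] [HasPullbacks C] {S S' : C} (f : S' ⟶ S)

/-- first projection of the product in `Over S` -/
noncomputable def pr₁ (N M : Over S) : Over.mk (pullback.fst N.hom M.hom ≫ N.hom) ⟶ N :=
  Over.homMk (pullback.fst N.hom M.hom) rfl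

/-- second projection of the product in `Over S` -/
noncomputable def pr₂ (N M : Over S) : Over.mk (pullback.fst N.hom M.hom ≫ N.hom) ⟶ M :=
  Over.homMk (pullback.snd N.hom M.hom) pullback.condition.symm

theorem pr_jointly_mono {N M Z : Over S}
    (g₁ g₂ : Z ⟶ Over.mk (pullback.fst N.hom M.hom ≫ N.hom))
    (h₁ : g₁ ≫ pr₁ N M = g₂ ≫ pr₁ N M) (h₂ : g₁ ≫ pr₂ N M = g₂ ≫ pr₂ N M) : g₁ = g₂ := by
  apply Over.OverMorphism.ext
  apply pullback.hom_ext
  · exact congrArg CommaMorphism.left h₁
  · exact congrArg CommaMorphism.left h₂

theorem pullback_map_left_fst {A B : Over S} (g : A ⟶ B) :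
    ((Over.pullback f).map g).left ≫ pullback.fst B.hom f = pullback.fst A.hom f ≫ g.left :=
  pullback.lift_fst _ _ _

theorem Fpr_jointly_mono {N M : Over S} {W : Over S'}
    (a b : W ⟶ (Over.pullback f).obj (Over.mk (pullback.fst N.hom M.hom ≫ N.hom)))
    (h₁ : a ≫ (Over.pullback f).map (pr₁ N M) = b ≫ (Over.pullback f).map (pr₁ N M))
    (h₂ : a ≫ (Over.pullback f).map (pr₂ N M) = b ≫ (Over.pullback f).map (pr₂ N M)) :
    a = b := by
  apply Over.OverMorphism.ext
  apply pullback.hom_ext
  · apply pullback.hom_ext
    · have := congrArg (fun k => k.left ≫ pullback.fst _ _) h₁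
      dsimp only [Over.comp_left] at this
      rw [Category.assoc, Category.assoc, pullback_map_left_fst] at this
      rw [Category.assoc, Category.assoc]
      exact this
    · have := congrArg (fun k => k.left ≫ pullback.fst _ _) h₂
      dsimp only [Over.comp_left] at this
      rw [Category.assoc, Category.assoc, pullback_map_left_fst] at this
      rw [Category.assoc, Category.assoc]
      exact this
  · have ha := Over.w a
    have hb := Over.w b
    simp only [Over.pullback_obj_hom] at ha hb
    rw [ha, hb]

theorem prod_bij {N M Z : Over S}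
    (hN : Function.Bijective (fun g : Z ⟶ N => (Over.pullback f).map g))
    (hM : Function.Bijective (fun g : Z ⟶ M => (Over.pullback f).map g)) :
    Function.Bijective (fun g : Z ⟶ Over.mk (pullback.fst N.hom M.hom ≫ N.hom) =>
      (Over.pullback f).map g) := by
  constructor
  · intro g₁ g₂ h
    dsimp only at h
    apply pr_jointly_mono
    · apply hN.1
      dsimp only
      rw [Functor.map_comp, Functor.map_comp, h]
    · apply hM.1
      dsimp only
      rw [Functor.map_comp, Functor.map_comp, h]
  · intro h
    obtain ⟨g₁, hg₁⟩ := hN.2 (h ≫ (Over.pullback f).map (pr₁ N M))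
    obtain ⟨g₂, hg₂⟩ := hM.2 (h ≫ (Over.pullback f).map (pr₂ N M))
    dsimp only at hg₁ hg₂
    let g : Z ⟶ Over.mk (pullback.fst N.hom M.hom ≫ N.hom) :=
      Over.homMk (pullback.lift g₁.left g₂.left (by rw [Over.w g₁, Over.w g₂]))
        (by
          dsimp only [Over.mk_hom]
          rw [← Category.assoc, pullback.lift_fst, Over.w g₁])
    have hg1 : g ≫ pr₁ N M = g₁ := by
      apply Over.OverMorphism.ext
      exact pullback.lift_fst _ _ _
    have hg2 : g ≫ pr₂ N M = g₂ := by
      apply Over.OverMorphism.ext
      exact pullback.lift_snd _ _ _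
    refine ⟨g, ?_⟩
    dsimp only
    apply Fpr_jointly_mono
    · rw [← Functor.map_comp, hg1, hg₁]
    · rw [← Functor.map_comp, hg2, hg₂]

end Helpers

/-- Let S be a locally Noetherian scheme over a field of characteristic 0 and S₀ ⊆ S a
scheme-theoretically dense open. If N and M are smooth S-schemes having the Néron mapping property
for S₀ ⊆ S (for every smooth S-scheme Z, restriction to S₀ is a bijection from S-morphisms Z → N
onto S₀-morphisms Z|S₀ → N|S₀), then the fibre product N ×_S M has the Néron mapping property for S₀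
⊆ S (its smoothness over S being automatic). (This row is the case of schemes, with smooth test
schemes, of a statement about algebraic spaces.) -/
theorem result {k : Type u} [Field k] [CharZero k] {S : Scheme.{u}} (σ : S ⟶ Spec (CommRingCat.of k)) [IsLocallyNoetherian S] (S₀ : S.Opens) (hS₀ : CInt.IsSchematicallyDense S₀)
    (N M : Over S) [Smooth N.hom] [Smooth M.hom]
    (hN : ∀ Z : Over S, Smooth Z.hom → Function.Bijective (fun g : Z ⟶ N => (Over.pullback S₀.ι).map g))
    (hM : ∀ Z : Over S, Smooth Z.hom → Function.Bijective (fun g : Z ⟶ M => (Over.pullback S₀.ι).map g)) :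
    ∀ Z : Over S, Smooth Z.hom → Function.Bijective (fun g : Z ⟶ Over.mk (Limits.pullback.fst N.hom M.hom ≫ N.hom) => (Over.pullback S₀.ι).map g) := by
  intro Z hZ
  exact prod_bij S₀.ι (hN Z hZ) (hM Z hZ)

end Groth.Agent.S13418
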