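import Groth.Statements.S1342
import Mathlib
import Groth.Agent.H60.CMBC

set_option autoImplicit false
universe u
open FlatMor

namespace Groth.Agent.S1342

open AlgebraicGeometry CategoryTheory Limits in
/-- For a flat morphism locally of finite presentation, the formation of the Cohen–Macaulay locus
commutes with arbitrary base change: in a cartesian square the Cohen–Macaulay locus of the
base-changed morphism is the preimage of the Cohen–Macaulay locus of f. -/
theorem result {X S X' S' : Scheme.{u}} (f : X ⟶ S) [Flat f] [LocallyOfFinitePresentation f]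
    (f' : X' ⟶ S') (g' : X' ⟶ X) (g : S' ⟶ S) (hc : IsPullback g' f' f g) :
    {x' : ↑X' | MoreMor.IsCMAt f' x'} = g' ⁻¹' {x : ↑X | MoreMor.IsCMAt f x} := by
  ext x'
  simp only [Set.mem_setOf_eq, Set.mem_preimage]
  haveI : LocallyOfFiniteType f := inferInstance
  have key := Groth.Agent.H60.CMBC.cmFibre_baseChange_iff hc x'
    (Groth.Agent.H60.GorBC.isLocallyNoetherian_fiber f _) (Or.inr inferInstance)
  have hfl : (f.stalkMap (g' x')).hom.Flat := Flat.stalkMap f (g' x')
  have hfl' : (f'.stalkMap x').hom.Flat :=
    Groth.Agent.H8.flat_stalkMap_baseChange hc.flip x' hfl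
  exact ⟨fun h => ⟨hfl, key.mp h.2⟩, fun h => ⟨hfl', key.mpr h.2⟩⟩

end Groth.Agent.S1342
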