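import Groth.Statements.S13421
import Groth.Agent.H67.NMP2

set_option autoImplicit false
universe u
open CategoryTheory AlgebraicGeometry
open NeronHD

namespace Groth.Agent.S13421

/-- Let T be a locally Noetherian scheme over a field of characteristic 0 and T₀ ⊆ T a
scheme-theoretically dense open. Let f : S → T be étale and such that S, viewed as a T-scheme, has
the Néron mapping property for T₀ ⊆ T, and let g : N → S be smooth and such that N, viewed as an
S-scheme, has the Néron mapping property for f⁻¹(T₀) ⊆ S (restriction of morphisms from smooth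
schemes over the base is bijective). Then N → T, the composite g ≫ f, has the Néron mapping property
for T₀ ⊆ T. (Case of schemes, with smooth test schemes, of a statement about algebraic spaces.) -/
theorem result {k : Type u} [Field k] [CharZero k] {T : Scheme.{u}} (τ : T ⟶ Spec (CommRingCat.of k)) [IsLocallyNoetherian T] (T₀ : T.Opens) (hT₀ : CInt.IsSchematicallyDense T₀)
    {S N : Scheme.{u}} (f : S ⟶ T) [Etale f] (g : N ⟶ S) [Smooth g]
    (hS : ∀ Z : Over T, Smooth Z.hom → Function.Bijective (fun g : Z ⟶ Over.mk f => (Over.pullback T₀.ι).map g))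
    (hN : ∀ Z : Over S, Smooth Z.hom → Function.Bijective (fun g : Z ⟶ Over.mk g => (Over.pullback (f ⁻¹ᵁ T₀).ι).map g)) :
    ∀ Z : Over T, Smooth Z.hom → Function.Bijective (fun g : Z ⟶ Over.mk (g ≫ f) => (Over.pullback T₀.ι).map g) := by
  intro Z hZ
  rw [Groth.Agent.H67.nmp_iff]
  intro k hk
  have hk2 : k ≫ g ≫ f = Limits.pullback.fst Z.hom T₀.ι ≫ Z.hom := hk
  have hS' := (Groth.Agent.H67.nmp_iff T₀.ι Z (Over.mk f)).1 (hS Z hZ)
  obtain ⟨c, ⟨hc1, hc2⟩, hcu⟩ := hS' (k ≫ g) (by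
    change (k ≫ g) ≫ f = _
    rw [Category.assoc, hk2])
  have hc1' : c ≫ f = Z.hom := hc1
  have hc2' : Limits.pullback.fst Z.hom T₀.ι ≫ c = k ≫ g := hc2
  have hcs : Smooth c := Groth.Agent.H67.smooth_of_comp_etale c f (by rw [hc1']; exact hZ)
  have hN' := (Groth.Agent.H67.nmp_iff (f ⁻¹ᵁ T₀).ι (Over.mk c) (Over.mk g)).1
    (hN (Over.mk c) hcs)
  obtain ⟨θ, hθ⟩ := Groth.Agent.H67.exists_iso_pullback_preimage c f Z.hom hc1' T₀
  obtain ⟨h, ⟨hh1, hh2⟩, hhu⟩ := hN' (θ.hom ≫ k) (by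
    change (θ.hom ≫ k) ≫ g = Limits.pullback.fst c (f ⁻¹ᵁ T₀).ι ≫ c
    rw [Category.assoc, ← hc2', ← Category.assoc, hθ])
  have hh1' : h ≫ g = c := hh1
  have hh2' : Limits.pullback.fst c (f ⁻¹ᵁ T₀).ι ≫ h = θ.hom ≫ k := hh2
  refine ⟨h, ⟨?_, ?_⟩, ?_⟩
  · change h ≫ g ≫ f = Z.hom
    rw [← Category.assoc, hh1', hc1']
  · rw [← cancel_epi θ.hom, ← Category.assoc, hθ, hh2']
  · rintro h' ⟨hh'1, hh'2⟩
    have hh'1' : h' ≫ g ≫ f = Z.hom := hh'1
    have hc' : h' ≫ g = c := hcu (h' ≫ g) ⟨by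
      change (h' ≫ g) ≫ f = Z.hom
      rw [Category.assoc, hh'1'], by rw [← Category.assoc, hh'2]⟩
    exact hhu h' ⟨hc', by
      change Limits.pullback.fst c (f ⁻¹ᵁ T₀).ι ≫ h' = θ.hom ≫ k
      rw [← hθ, Category.assoc, hh'2]⟩

end Groth.Agent.S13421
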