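import Groth.Statements.S13422
import Mathlib
import Groth.Agent.S5434
import Groth.Agent.H68.SmoothSec

set_option autoImplicit false
universe u
open CategoryTheory AlgebraicGeometry
open NeronHD

namespace Groth.Agent.S13422

set_option linter.style.haveILetI false
section AlgPart

open TensorProduct
open Groth.Agent.H22.EtaleNbhd Groth.Agent.H68.SmoothSec

theorem exists_etale_section_through (R : Type u) [CommRing R] (B : Type u) [CommRing B] [Algebra R B]
    [Algebra.Smooth R B] (p : Ideal R) [p.IsPrime] (n : Ideal (p.ResidueField ⊗[R] B))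
    (hn : n.IsMaximal) (hfin : Module.Finite p.ResidueField ((p.ResidueField ⊗[R] B) ⧸ n))
    (hsep : Algebra.IsSeparable p.ResidueField ((p.ResidueField ⊗[R] B) ⧸ n)) :
    ∃ (R' : Type u) (_ : CommRing R') (_ : Algebra R R') (_ : Algebra.Etale R R')
      (ι : B →ₐ[R] R') (χ : R' →+* (p.ResidueField ⊗[R] B) ⧸ n),
      ∀ b : B, χ (ι b) = Ideal.Quotient.mk n ((1 : p.ResidueField) ⊗ₜ[R] b) := by
  classical
  letI := Ideal.Quotient.field n
  obtain ⟨A, _, _, ψ, hEt, hcompat, hψ⟩ :=
    exists_etale_with_point (algebraMap R p.ResidueField) (fracSurj_residueField p)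
      ((p.ResidueField ⊗[R] B) ⧸ n)
  haveI := hEt
  let σ₀ : B →+* (p.ResidueField ⊗[R] B) ⧸ n :=
    (Ideal.Quotient.mk n).comp
      (Algebra.TensorProduct.includeRight : B →ₐ[R] p.ResidueField ⊗[R] B).toRingHom
  have hcompat' : ∀ r : R, ψ (algebraMap R A r) =
      algebraMap p.ResidueField ((p.ResidueField ⊗[R] B) ⧸ n) (algebraMap R p.ResidueField r) :=
    fun r => congrArg (fun g : R →+* (p.ResidueField ⊗[R] B) ⧸ n => g r) hcompat
  have hσ₀ : ∀ r : R, σ₀ (algebraMap R B r) = ψ (algebraMap R A r) := by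
    intro r
    rw [hcompat']
    show Ideal.Quotient.mk n ((1 : p.ResidueField) ⊗ₜ[R] algebraMap R B r) =
      Ideal.Quotient.mk n (algebraMap p.ResidueField (p.ResidueField ⊗[R] B)
        (algebraMap R p.ResidueField r))
    congr 1
    rw [Algebra.TensorProduct.algebraMap_apply, Algebra.algebraMap_eq_smul_one r,
      Algebra.algebraMap_eq_smul_one (A := p.ResidueField) r, TensorProduct.tmul_smul,
      Algebra.algebraMap_self_apply, TensorProduct.smul_tmul']
  obtain ⟨t, ht⟩ := (Algebra.FiniteType.out : (⊤ : Subalgebra R B).FG)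
  choose a d hd had using fun b : B => hψ (σ₀ b)
  have hD : ψ (∏ b ∈ t, d b) ≠ 0 := by
    rw [map_prod]
    exact Finset.prod_ne_zero_iff.mpr (fun b _ => hd b)
  let ψ₁ : Localization.Away (∏ b ∈ t, d b) →+* (p.ResidueField ⊗[R] B) ⧸ n :=
    IsLocalization.Away.lift (∏ b ∈ t, d b) (g := ψ) (isUnit_iff_ne_zero.mpr hD)
  have hψ₁ : ∀ x : A, ψ₁ (algebraMap A (Localization.Away (∏ b ∈ t, d b)) x) = ψ x :=
    fun x => IsLocalization.Away.lift_eq _ _ x
  let ι₁ : Localization.Away (∏ b ∈ t, d b) ⧸ RingHom.ker ψ₁ →+* (p.ResidueField ⊗[R] B) ⧸ n :=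
    RingHom.kerLift ψ₁
  have hι₁ : Function.Injective ι₁ := RingHom.kerLift_injective ψ₁
  have hι₁mk : ∀ x : Localization.Away (∏ b ∈ t, d b),
      ι₁ (Ideal.Quotient.mk (RingHom.ker ψ₁) x) = ψ₁ x := fun x => RingHom.kerLift_mk ψ₁ x
  have hrange : ∀ b : B, σ₀ b ∈ ψ₁.range := by
    intro b
    have hb : b ∈ Algebra.adjoin R (t : Set B) := by rw [ht]; trivial
    induction hb using Algebra.adjoin_induction with
    | mem x hx =>
      have hx' : x ∈ t := Finset.mem_coe.mp hx
      refine ⟨IsLocalization.mk' _ (a x * ∏ c ∈ t.erase x, d c)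
        (⟨∏ b ∈ t, d b, Submonoid.mem_powers _⟩ : Submonoid.powers (∏ b ∈ t, d b)), ?_⟩
      have h1 : ψ₁ (IsLocalization.mk' _ (a x * ∏ c ∈ t.erase x, d c)
          (⟨∏ b ∈ t, d b, Submonoid.mem_powers _⟩ : Submonoid.powers (∏ b ∈ t, d b))) *
          ψ (∏ b ∈ t, d b) = ψ (a x * ∏ c ∈ t.erase x, d c) := by
        rw [← hψ₁ (∏ b ∈ t, d b), ← map_mul]
        have := IsLocalization.mk'_spec (Localization.Away (∏ b ∈ t, d b))
          (a x * ∏ c ∈ t.erase x, d c)
          (⟨∏ b ∈ t, d b, Submonoid.mem_powers _⟩ : Submonoid.powers (∏ b ∈ t, d b))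
        rw [this, hψ₁]
      have h2 : ψ (a x * ∏ c ∈ t.erase x, d c) = σ₀ x * ψ (∏ b ∈ t, d b) := by
        rw [map_mul, ← had x, mul_assoc, ← map_mul, Finset.mul_prod_erase t d hx']
      exact mul_right_cancel₀ hD (h1.trans h2)
    | algebraMap r =>
      exact ⟨algebraMap A _ (algebraMap R A r), by rw [hψ₁, hσ₀]⟩
    | add x y _ _ hx hy => rw [map_add]; exact ψ₁.range.add_mem hx hy
    | mul x y _ _ hx hy => rw [map_mul]; exact ψ₁.range.mul_mem hx hy
  have hex : ∀ b : B, ∃ z : Localization.Away (∏ b ∈ t, d b) ⧸ RingHom.ker ψ₁, ι₁ z = σ₀ b := by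
    intro b
    obtain ⟨x, hx⟩ := hrange b
    exact ⟨Ideal.Quotient.mk _ x, by rw [hι₁mk, hx]⟩
  choose σf hσf using hex
  have hcomm : ∀ r : R, algebraMap R (Localization.Away (∏ b ∈ t, d b) ⧸ RingHom.ker ψ₁) r =
      Ideal.Quotient.mk _ (algebraMap A (Localization.Away (∏ b ∈ t, d b)) (algebraMap R A r)) := by
    intro r
    rw [IsScalarTower.algebraMap_apply R (Localization.Away (∏ b ∈ t, d b))
      (Localization.Away (∏ b ∈ t, d b) ⧸ RingHom.ker ψ₁),
      IsScalarTower.algebraMap_apply R A (Localization.Away (∏ b ∈ t, d b))]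
    rfl
  let σ : B →ₐ[R] Localization.Away (∏ b ∈ t, d b) ⧸ RingHom.ker ψ₁ :=
    { toFun := σf
      map_one' := hι₁ (by rw [hσf, map_one, map_one])
      map_mul' := fun x y => hι₁ (by rw [hσf, map_mul, map_mul, hσf, hσf])
      map_zero' := hι₁ (by rw [hσf, map_zero, map_zero])
      map_add' := fun x y => hι₁ (by rw [hσf, map_add, map_add, hσf, hσf])
      commutes' := fun r => hι₁ (by rw [hσf, hσ₀, hcomm, hι₁mk, hψ₁]) }
  obtain ⟨E, _, _, hE, σE, ι, hι1, hι2⟩ :=
    Groth.Agent.H10.SmoothChart.chart_of_smooth R B (Localization.Away (∏ b ∈ t, d b))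
      (RingHom.ker ψ₁) σ
  haveI := hE
  letI : Algebra R E :=
    ((algebraMap (Localization.Away (∏ b ∈ t, d b)) E).comp
      (algebraMap R (Localization.Away (∏ b ∈ t, d b)))).toAlgebra
  haveI : IsScalarTower R (Localization.Away (∏ b ∈ t, d b)) E :=
    IsScalarTower.of_algebraMap_eq' rfl
  haveI : Algebra.Etale R (Localization.Away (∏ b ∈ t, d b)) := inferInstance
  haveI : Algebra.Etale R E := Algebra.Etale.comp R (Localization.Away (∏ b ∈ t, d b)) E
  let χ : E →+* (p.ResidueField ⊗[R] B) ⧸ n := ι₁.comp σE.toRingHom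
  refine ⟨E, inferInstance, inferInstance, inferInstance, { ι with commutes' := hι1 }, χ, ?_⟩
  intro b
  show ι₁ (σE (ι b)) = _
  rw [hι2]
  show ι₁ (σf b) = _
  rw [hσf]
  rfl


theorem eq_univ_of_closedPoints_subset {X : Type*} [TopologicalSpace X] [JacobsonSpace X]
    (T : Set X) (hT : IsLocallyClosed T) (h : closedPoints X ⊆ T) : T = Set.univ := by
  obtain ⟨U, Z, hU, hZ, rfl⟩ := hT
  have h1 : Zᶜ = ∅ := by
    by_contra hne
    obtain ⟨y, hy1, hy2⟩ := nonempty_inter_closedPoints (Set.nonempty_iff_ne_empty.mpr hne)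
      hZ.isOpen_compl.isLocallyClosed
    exact hy1 (h hy2).2
  have h2 : Uᶜ = ∅ := by
    by_contra hne
    obtain ⟨y, hy1, hy2⟩ := nonempty_inter_closedPoints (Set.nonempty_iff_ne_empty.mpr hne)
      hU.isClosed_compl.isLocallyClosed
    exact hy1 (h hy2).1
  rw [Set.compl_empty_iff] at h1 h2
  rw [h1, h2, Set.inter_univ]

theorem all_of_sections (R B : Type u) [CommRing R] [CommRing B] [Algebra R B] [Algebra.Smooth R B]
    (hchar : ∀ (p : Ideal R) [p.IsPrime], CharZero p.ResidueField)
    (T : Set (PrimeSpectrum B)) (hT : IsLocallyClosed T)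
    (hsec : ∀ (R' : Type u) [CommRing R'] [Algebra R R'] [Algebra.Etale R R'] (ι : B →ₐ[R] R')
       (P : PrimeSpectrum R'), PrimeSpectrum.comap ι.toRingHom P ∈ T) : T = Set.univ := by
  rw [Set.eq_univ_iff_forall]
  intro q
  let p : Ideal R := q.asIdeal.comap (algebraMap R B)
  haveI : q.asIdeal.LiesOver p := ⟨rfl⟩
  haveI := hchar p
  let φ : B →+* p.Fiber B := (Algebra.TensorProduct.includeRight : B →ₐ[R] p.Fiber B).toRingHom
  let TF : Set (PrimeSpectrum (p.Fiber B)) := PrimeSpectrum.comap φ ⁻¹' T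
  have hTF : IsLocallyClosed TF := hT.preimage (PrimeSpectrum.continuous_comap φ)
  haveI : IsJacobsonRing (p.Fiber B) := isJacobsonRing_of_finiteType (A := p.ResidueField)
  have hcl : closedPoints (PrimeSpectrum (p.Fiber B)) ⊆ TF := by
    intro n hn
    have hmax : n.asIdeal.IsMaximal := (PrimeSpectrum.isClosed_singleton_iff_isMaximal n).mp hn
    letI := Ideal.Quotient.field n.asIdeal
    have hfin : Module.Finite p.ResidueField (p.Fiber B ⧸ n.asIdeal) :=
      finite_of_finite_type_of_isJacobsonRing _ _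
    have hsep : Algebra.IsSeparable p.ResidueField (p.Fiber B ⧸ n.asIdeal) := inferInstance
    obtain ⟨R', _, _, _, ι, χ, hχ⟩ := exists_etale_section_through R B p n.asIdeal hmax hfin hsep
    let P : PrimeSpectrum R' := ⟨RingHom.ker χ, RingHom.ker_isPrime χ⟩
    have h1 := hsec R' ι P
    have h2 : PrimeSpectrum.comap ι.toRingHom P = PrimeSpectrum.comap φ n := by
      ext b
      show χ (ι b) = 0 ↔ φ b ∈ n.asIdeal
      rw [hχ, Ideal.Quotient.eq_zero_iff_mem]
      rfl
    show PrimeSpectrum.comap φ n ∈ T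
    rw [← h2]; exact h1
  have hTFuniv : TF = Set.univ := eq_univ_of_closedPoints_subset TF hTF hcl
  let q' : p.primesOver B := ⟨q.asIdeal, q.2, inferInstance⟩
  let Q := PrimeSpectrum.primesOverOrderIsoFiber R B p q'
  have hQ : PrimeSpectrum.comap φ Q = q := by
    have h1 := (PrimeSpectrum.primesOverOrderIsoFiber R B p).symm_apply_apply q'
    have h2 := PrimeSpectrum.coe_primesOverOrderIsoFiber_symm_apply (R := R) (S := B) (p := p) Q
    ext1
    show Q.asIdeal.comap φ = q.asIdeal
    have h3 : Q.asIdeal.comap φ = ((PrimeSpectrum.primesOverOrderIsoFiber R B p).symm Q : Ideal B) :=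
      h2.symm
    rw [h3, h1]
  have : Q ∈ TF := by rw [hTFuniv]; trivial
  rw [← hQ]; exact this


end AlgPart

section SchPart

open AlgebraicGeometry CategoryTheory Limits TopologicalSpace
open Groth.Agent.S5434

theorem ext_of_dominant_of_top {D X Y : Scheme.{u}} (j : D ⟶ X) [QuasiCompact j]
    [IsSchemeTheoreticallyDominant j] (f g : X ⟶ Y)
    (h : j ≫ f = j ≫ g) (htop : ∀ x, f x = g x) :
    f = g := by
  apply Scheme.hom_ext_of_forall
  intro x
  obtain ⟨W, hW, hxW, -⟩ := exists_isAffineOpen_mem_and_subset (x := f x) (U := ⊤) trivial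
  let V : X.Opens := f ⁻¹ᵁ W ⊓ g ⁻¹ᵁ W
  have hxV : x ∈ V := ⟨hxW, by change g x ∈ W; rw [← htop x]; exact hxW⟩
  refine ⟨V, hxV, ?_⟩
  have hVf : V ≤ f ⁻¹ᵁ W := inf_le_left
  have hVg : V ≤ g ⁻¹ᵁ W := inf_le_right
  rw [← Scheme.Hom.resLE_comp_ι f hVf, ← Scheme.Hom.resLE_comp_ι g hVg]
  congr 1
  haveI : IsAffine (W : Scheme.{u}) := hW
  haveI : IsSchemeTheoreticallyDominant (pullback.snd j V.ι) :=
    IsSchemeTheoreticallyDominant.of_isPullback (f := j) (g := V.ι) (IsPullback.of_hasPullback j V.ι)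
  let X' : Over (⊤_ Scheme.{u}) := Over.mk (terminal.from (V : Scheme.{u}))
  let Y' : Over (⊤_ Scheme.{u}) := Over.mk (terminal.from (W : Scheme.{u}))
  let f' : X' ⟶ Y' := Over.homMk (f.resLE W V hVf) (terminal.hom_ext _ _)
  let g' : X' ⟶ Y' := Over.homMk (g.resLE W V hVg) (terminal.hom_ext _ _)
  haveI : IsSeparated Y'.hom := by dsimp [Y']; infer_instance
  have key : f' = g' := by
    apply Groth.Agent.S18498.ext_of_schDominant f' g' (pullback.snd j V.ι)
    change pullback.snd j V.ι ≫ f.resLE W V hVf = pullback.snd j V.ι ≫ g.resLE W V hVg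
    rw [← cancel_mono W.ι, Category.assoc, Category.assoc, Scheme.Hom.resLE_comp_ι,
      Scheme.Hom.resLE_comp_ι, ← pullback.condition_assoc, ← pullback.condition_assoc, h]
  exact congrArg (fun φ => φ.left) key


set_option backward.isDefEq.respectTransparency.types false in
theorem mem_T_of_affine {k : Type u} [Field k] [CharZero k] {S : Scheme.{u}}
    (σ : S ⟶ Spec (CommRingCat.of k)) (S₀ : S.Opens) (N : Over S)
    (hN : ∀ U : Over S, Etale U.hom →
      Function.Injective (fun g : U ⟶ N => (Over.pullback S₀.ι).map g))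
    (Z : Over S) [Smooth Z.hom] (g₁ g₂ : Z ⟶ N)
    (hg : (Over.pullback S₀.ι).map g₁ = (Over.pullback S₀.ι).map g₂)
    (V : S.Opens) (hV : IsAffineOpen V) (W : Z.left.Opens) (hW : IsAffineOpen W)
    (e : W ≤ Z.hom ⁻¹ᵁ V) (z : Z.left) (hz : z ∈ W) :
    (pullback.lift g₁.left g₂.left (by rw [Over.w, Over.w]) : Z.left ⟶ pullback N.hom N.hom) z ∈
      Set.range (pullback.diagonal N.hom) := by
  let d : Z.left ⟶ pullback N.hom N.hom := pullback.lift g₁.left g₂.left (by rw [Over.w, Over.w])
  let ψ := Z.hom.appLE V W e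
  have hψ : ψ.hom.Smooth :=
    HasRingHomProperty.appLE (P := @Smooth) Z.hom inferInstance ⟨V, hV⟩ ⟨W, hW⟩ e
  algebraize [ψ.hom]
  -- characteristic zero
  let ρ : CommRingCat.of k ⟶ Γ(S, V) :=
    (Scheme.ΓSpecIso (CommRingCat.of k)).inv ≫ σ.appTop ≫ S.presheaf.map (homOfLE le_top).op
  have hchar : ∀ (p : Ideal Γ(S, V)) [p.IsPrime], CharZero p.ResidueField := by
    intro p _
    exact charZero_of_injective_ringHom
      (((algebraMap Γ(S, V) p.ResidueField).comp ρ.hom).injective)
  let T : Set (PrimeSpectrum Γ(Z.left, W)) :=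
    (fun P => d (hW.fromSpec P)) ⁻¹' Set.range (pullback.diagonal N.hom)
  have hT : IsLocallyClosed T :=
    (pullback.diagonal N.hom).isLocallyClosed_range.preimage
      (d.continuous.comp hW.fromSpec.continuous)
  have hTuniv : T = Set.univ := by
    apply all_of_sections Γ(S, V) Γ(Z.left, W) hchar T hT
    intro R' _ _ _ ι P
    let a : Spec (CommRingCat.of R') ⟶ S :=
      Spec.map (CommRingCat.ofHom (algebraMap Γ(S, V) R')) ≫ hV.fromSpec
    haveI : Etale (Spec.map (CommRingCat.ofHom (algebraMap Γ(S, V) R'))) := by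
      rw [HasRingHomProperty.Spec_iff (P := @Etale)]
      exact RingHom.etale_algebraMap.mpr inferInstance
    haveI : IsOpenImmersion hV.fromSpec := hV.isOpenImmersion_fromSpec
    haveI : Etale a := by dsimp only [a]; infer_instance
    let U : Over S := Over.mk a
    have hcomp : Spec.map (CommRingCat.ofHom ι.toRingHom) ≫ hW.fromSpec ≫ Z.hom = a := by
      rw [← IsAffineOpen.SpecMap_appLE_fromSpec Z.hom hV hW e, ← Spec.map_comp_assoc]
      congr 2
      ext r
      exact ι.commutes r
    let u : U ⟶ Z := Over.homMk (Spec.map (CommRingCat.ofHom ι.toRingHom) ≫ hW.fromSpec)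
      (by rw [Category.assoc]; exact hcomp)
    have hu : u ≫ g₁ = u ≫ g₂ := by
      apply hN U (inferInstanceAs (Etale a))
      show (Over.pullback S₀.ι).map (u ≫ g₁) = (Over.pullback S₀.ι).map (u ≫ g₂)
      rw [Functor.map_comp, Functor.map_comp, hg]
    have hu' : u.left ≫ g₁.left = u.left ≫ g₂.left := by
      rw [← Over.comp_left, ← Over.comp_left, hu]
    have hud : u.left ≫ d = (u.left ≫ g₁.left) ≫ pullback.diagonal N.hom := by
      apply pullback.hom_ext
      · rw [Category.assoc, Category.assoc, pullback.diagonal_fst, Category.comp_id]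
        show u.left ≫ pullback.lift g₁.left g₂.left _ ≫ _ = _
        rw [pullback.lift_fst]
      · rw [Category.assoc, Category.assoc, pullback.diagonal_snd, Category.comp_id]
        show u.left ≫ pullback.lift g₁.left g₂.left _ ≫ _ = _
        rw [pullback.lift_snd, hu']
    show d (hW.fromSpec (PrimeSpectrum.comap ι.toRingHom P)) ∈
      Set.range (pullback.diagonal N.hom)
    have h1 : hW.fromSpec (PrimeSpectrum.comap ι.toRingHom P) = u.left P := rfl
    rw [h1, ← Scheme.Hom.comp_apply, hud, Scheme.Hom.comp_apply]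
    exact ⟨_, rfl⟩
  have hzr : z ∈ Set.range hW.fromSpec := by rw [hW.range_fromSpec]; exact hz
  obtain ⟨P, rfl⟩ := hzr
  have : P ∈ T := by rw [hTuniv]; trivial
  exact this


theorem main {k : Type u} [Field k] [CharZero k] {S : Scheme.{u}}
    (σ : S ⟶ Spec (CommRingCat.of k)) [IsLocallyNoetherian S] (S₀ : S.Opens)
    (hS₀ : CInt.IsSchematicallyDense S₀)
    (N : Over S) [Smooth N.hom]
    (hN : ∀ U : Over S, Etale U.hom →
      Function.Bijective (fun g : U ⟶ N => (Over.pullback S₀.ι).map g))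
    (Z : Over S) [Smooth Z.hom] :
    Function.Injective (fun g : Z ⟶ N => (Over.pullback S₀.ι).map g) := by
  intro g₁ g₂ hg
  have hg' : (Over.pullback S₀.ι).map g₁ = (Over.pullback S₀.ι).map g₂ := hg
  have hN' : ∀ U : Over S, Etale U.hom →
      Function.Injective (fun g : U ⟶ N => (Over.pullback S₀.ι).map g) :=
    fun U hU => (hN U hU).1
  let d : Z.left ⟶ pullback N.hom N.hom :=
    pullback.lift g₁.left g₂.left (by rw [Over.w, Over.w])
  have hT : ∀ z : Z.left, d z ∈ Set.range (pullback.diagonal N.hom) := by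
    intro z
    obtain ⟨V, hV, hsV, -⟩ := exists_isAffineOpen_mem_and_subset (x := Z.hom z) (U := ⊤) trivial
    obtain ⟨W, hW, hzW, hWle⟩ :=
      exists_isAffineOpen_mem_and_subset (x := z) (U := Z.hom ⁻¹ᵁ V) hsV
    exact mem_T_of_affine σ S₀ N hN' Z g₁ g₂ hg' V hV W hW hWle z hzW
  have htop : ∀ z, g₁.left z = g₂.left z := by
    intro z
    obtain ⟨n, hn⟩ := hT z
    have h1 : g₁.left z = n := by
      have : (d ≫ pullback.fst _ _) z = (pullback.diagonal N.hom ≫ pullback.fst _ _) n := by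
        rw [Scheme.Hom.comp_apply, Scheme.Hom.comp_apply, hn]
      rw [pullback.lift_fst, pullback.diagonal_fst] at this; exact this
    have h2 : g₂.left z = n := by
      have : (d ≫ pullback.snd _ _) z = (pullback.diagonal N.hom ≫ pullback.snd _ _) n := by
        rw [Scheme.Hom.comp_apply, Scheme.Hom.comp_apply, hn]
      rw [pullback.lift_snd, pullback.diagonal_snd] at this; exact this
    rw [h1, h2]
  haveI : LocallyOfFiniteType Z.hom := inferInstance
  haveI : IsLocallyNoetherian Z.left := LocallyOfFiniteType.isLocallyNoetherian Z.hom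
  let j := pullback.fst Z.hom S₀.ι
  haveI : IsSchemeTheoreticallyDominant S₀.ι := schDom_of_dense S₀ hS₀
  haveI : QuasiCompact S₀.ι := inferInstance
  haveI : Flat Z.hom := inferInstance
  haveI : IsSchemeTheoreticallyDominant j :=
    IsSchemeTheoreticallyDominant.of_isPullback (f := S₀.ι) (g := Z.hom)
      (IsPullback.of_hasPullback Z.hom S₀.ι).flip
  haveI : QuasiCompact j := inferInstance
  have hj : j ≫ g₁.left = j ≫ g₂.left := by
    have hfst : ∀ φ : Z ⟶ N, ((Over.pullback S₀.ι).map φ).left ≫ pullback.fst N.hom S₀.ι =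
        pullback.fst Z.hom S₀.ι ≫ φ.left := by
      intro φ
      simp only [Over.pullback_map_left]
      exact pullback.lift_fst _ _ _
    rw [← hfst g₁, ← hfst g₂, hg']
  ext1
  exact ext_of_dominant_of_top j g₁.left g₂.left hj htop


end SchPart

/-- Let S be a locally Noetherian scheme over a field of characteristic 0, S₀ ⊆ S a scheme-theoretically
dense open, and N a smooth S-scheme with the weak Néron mapping property for S₀ ⊆ S: for every étale
S-scheme U, restriction to S₀ is a bijection from S-morphisms U → N onto S₀-morphisms U|S₀ → N|S₀.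
Then N has the uniqueness half of the Néron mapping property: for every smooth S-scheme Z,
restriction of S-morphisms Z → N to S₀ is injective. (Case of schemes of a statement about algebraic
spaces.) -/
theorem result {k : Type u} [Field k] [CharZero k] {S : Scheme.{u}} (σ : S ⟶ Spec (CommRingCat.of k)) [IsLocallyNoetherian S] (S₀ : S.Opens) (hS₀ : CInt.IsSchematicallyDense S₀)
    (N : Over S) [Smooth N.hom]
    (hN : ∀ U : Over S, Etale U.hom → Function.Bijective (fun g : U ⟶ N => (Over.pullback S₀.ι).map g))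
    (Z : Over S) [Smooth Z.hom] :
    Function.Injective (fun g : Z ⟶ N => (Over.pullback S₀.ι).map g) := by
  exact main σ S₀ hS₀ N hN Z

end Groth.Agent.S13422
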