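import Groth.Statements.S4647
import Mathlib
import Groth.Agent.H73.IntNbhd

set_option autoImplicit false
open CategoryTheory AlgebraicGeometry
universe u
open FDesc

namespace Groth.Agent.S4647



theorem stalk_domain {X Y : Scheme.{u}} (f : X ⟶ Y) [Flat f] [Surjective f]
    (hX : ∀ x : X, IsDomain ↑(X.presheaf.stalk x)) (y : Y) : IsDomain (Y.presheaf.stalk y) := by
  obtain ⟨x, rfl⟩ := f.surjective y
  have hinj : Function.Injective (f.stalkMap x).hom := by
    algebraize [(f.stalkMap x).hom]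
    have : Module.FaithfullyFlat (Y.presheaf.stalk (f x)) (X.presheaf.stalk x) :=
      @Module.FaithfullyFlat.of_flat_of_isLocalHom _ _ _ _ _ _ _
        (Flat.stalkMap f x) (f.toLRSHom.prop x)
    exact ‹RingHom.FaithfullyFlat _›.injective
  haveI := hX x
  exact hinj.isDomain _

theorem main {X Y : Scheme.{u}} (f : X ⟶ Y) [Flat f] [Surjective f]
    (hX : ∀ x : X, IsDomain ↑(X.presheaf.stalk x))
    (hY : ∀ y : Y, ∃ U : Y.Opens, y ∈ U ∧ TopologicalSpace.NoetherianSpace ↥U) (y : Y) :
    ∃ U : Y.Opens, y ∈ U ∧ IsIntegral (U : Scheme.{u}) := by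
  obtain ⟨U, hyU, hU⟩ := hY y
  have hdom : ∀ z : (U : Scheme.{u}), IsDomain ((U : Scheme.{u}).presheaf.stalk z) := by
    intro z
    haveI := stalk_domain f hX z.1
    exact (U.stalkIso z).commRingCatIsoToRingEquiv.injective.isDomain
      (U.stalkIso z).commRingCatIsoToRingEquiv.toRingHom
  haveI : IsReduced (U : Scheme.{u}) := by
    haveI : ∀ z : (U : Scheme.{u}), _root_.IsReduced ((U : Scheme.{u}).presheaf.stalk z) := by
      intro z
      haveI := hdom z
      infer_instance
    exact isReduced_of_isReduced_stalk _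
  haveI : TopologicalSpace.NoetherianSpace ↥(U : Scheme.{u}) := hU
  have hfin : LocallyFinite (fun C : ↥(irreducibleComponents ↥(U : Scheme.{u})) =>
      (C : Set ↥(U : Scheme.{u}))) := by
    haveI : Finite ↥(irreducibleComponents ↥(U : Scheme.{u})) :=
      (TopologicalSpace.NoetherianSpace.finite_irreducibleComponents).to_subtype
    exact locallyFinite_of_finite _
  haveI := hdom ⟨y, hyU⟩
  obtain ⟨Z₀, hz, hint⟩ := Groth.Agent.H73.IntNbhd.exists_isIntegral_opens hfin
    (⟨y, hyU⟩ : (U : Scheme.{u}))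
  refine ⟨U.ι ''ᵁ Z₀, ⟨⟨y, hyU⟩, hz, rfl⟩, ?_⟩
  haveI : Nonempty ↥((U.ι ''ᵁ Z₀ : Y.Opens) : Scheme.{u}) := ⟨⟨y, ⟨⟨y, hyU⟩, hz, rfl⟩⟩⟩
  exact isIntegral_of_isOpenImmersion (U.ι.isoImage Z₀).inv

/-- Let f : X → Y be a faithfully flat (flat and surjective) morphism. If all local rings of X are
domains (in particular if X is locally integral) and the underlying space of Y is locally
Noetherian, then Y is locally integral: every point of Y has an open neighbourhood which is an
integral scheme. -/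
theorem result {X Y : Scheme.{u}} (f : X ⟶ Y) [Flat f] [Surjective f]
    (hX : ∀ x : X, IsDomain ↑(X.presheaf.stalk x))
    (hY : ∀ y : Y, ∃ U : Y.Opens, y ∈ U ∧ TopologicalSpace.NoetherianSpace ↥U) (y : Y) :
    ∃ U : Y.Opens, y ∈ U ∧ IsIntegral (U : Scheme.{u}) := by
  exact main f hX hY y

end Groth.Agent.S4647
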