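import Groth.Statements.S13424
import Mathlib
import Groth.Agent.S4647
import Groth.Agent.H68.FEtNormal

set_option autoImplicit false
universe u
open CategoryTheory AlgebraicGeometry
open GrpSch

namespace Groth.Agent.S13424


open AlgebraicGeometry CategoryTheory Limits TopologicalSpace

/-- sch. image of a qc open immersion into a scheme all of whose points have integral open
nbhds is an open immersion -/
theorem image_openImm {S P : Scheme.{u}} (s : S ⟶ P) [IsOpenImmersion s] [QuasiCompact s]
    (hP : ∀ x : P, ∃ V : P.Opens, x ∈ V ∧ IsIntegral (V : Scheme.{u})) :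
    IsOpenImmersion s.imageι := by
  apply IsZariskiLocalAtTarget.of_forall_exists_morphismRestrict (P := @IsOpenImmersion)
  intro x
  obtain ⟨V, hxV, hV⟩ := hP x
  refine ⟨V, hxV, ?_⟩
  by_cases hne : IsEmpty ↥(s ⁻¹ᵁ V : S.Opens)
  · haveI : IsEmpty ↥((s.imageι ⁻¹ᵁ V : s.image.Opens) : Scheme.{u}) := by
      constructor
      rintro ⟨y, hy⟩
      have h1 : s.imageι y ∈ closure (Set.range s) := by
        rw [← Scheme.Hom.support_ker s, ← Scheme.IdealSheafData.range_subschemeι]
        exact ⟨y, rfl⟩
      obtain ⟨z, hzV, ⟨t, rfl⟩⟩ := mem_closure_iff.mp h1 V V.isOpen hy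
      exact hne.false ⟨t, hzV⟩
    infer_instance
  · rw [not_isEmpty_iff] at hne
    haveI : IsIntegral (V : Scheme.{u}) := hV
    haveI : Nonempty ↥((s ⁻¹ᵁ V : S.Opens) : Scheme.{u}) := hne
    haveI : IsDominant (s ∣_ V) := by
      constructor
      exact (s ∣_ V).isOpenEmbedding.isOpen_range.dense (Set.range_nonempty _)
    haveI : IsSchemeTheoreticallyDominant (s ∣_ V) :=
      IsSchemeTheoreticallyDominant.of_isDominant _
    have hle : s ⁻¹ᵁ V ≤ s.toImage ⁻¹ᵁ (s.imageι ⁻¹ᵁ V) := by
      rw [← Scheme.Hom.comp_preimage, s.toImage_imageι]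
    let d := s.toImage.resLE (s.imageι ⁻¹ᵁ V) (s ⁻¹ᵁ V) hle
    have hd : d ≫ (s.imageι ∣_ V) = s ∣_ V := by
      rw [← cancel_mono V.ι, Category.assoc, morphismRestrict_ι, morphismRestrict_ι,
        Scheme.Hom.resLE_comp_ι_assoc, s.toImage_imageι]
    have hker : (s.imageι ∣_ V).ker = ⊥ := by
      rw [eq_bot_iff]
      calc (s.imageι ∣_ V).ker ≤ (d ≫ (s.imageι ∣_ V)).ker := Scheme.Hom.le_ker_comp _ _
        _ = ⊥ := by rw [hd]; exact Scheme.Hom.ker_eq_bot _
    haveI : IsIso (s.imageι ∣_ V) := IsClosedImmersion.isIso_iff_ker_eq_bot.mpr hker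
    infer_instance

theorem etale_of_ker_eq {Y G S : Scheme.{u}} (g : Y ⟶ G) [IsClosedImmersion g]
    (J : G.IdealSheafData) (hJ : g.ker = J) (p : G ⟶ S) (h : Etale (g ≫ p)) :
    Etale (J.subschemeι ≫ p) := by
  subst hJ
  have h1 : g.ker.subschemeι ≫ p = inv g.toImage ≫ g ≫ p := by
    rw [IsIso.eq_inv_comp, ← Category.assoc]
    congr 1
    exact g.toImage_imageι
  rw [h1]
  infer_instance


theorem main {S : Scheme.{u}} [IsLocallyNoetherian S] (hS : Pi1.IsNormalScheme S)
    {G H : Scheme.{u}} (p : G ⟶ S) (q : H ⟶ S) [Smooth p] [Smooth q]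
    (eG : S ⟶ G) (eH : S ⟶ H) (heG : eG ≫ p = 𝟙 S) (heH : eH ≫ q = 𝟙 S)
    (f : G ⟶ H) [Etale f] (hf : f ≫ q = p) (hfe : eG ≫ f = eH)
    (hH : Etale (eH.ker.subschemeι ≫ q)) :
    Etale (eG.ker.subschemeι ≫ p) := by
  let iH : eH.image ⟶ H := eH.imageι
  let cP := pullback.fst f iH
  let gP := pullback.snd f iH
  let πP : pullback f iH ⟶ S := gP ≫ iH ≫ q
  haveI : Etale (iH ≫ q) := hH
  haveI : Etale πP := inferInstance
  have hπ : cP ≫ p = πP := by
    rw [← hf, ← Category.assoc, pullback.condition, Category.assoc]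
  let sP : S ⟶ pullback f iH := pullback.lift eG eH.toImage (by rw [hfe, eH.toImage_imageι])
  have hs1 : sP ≫ cP = eG := pullback.lift_fst _ _ _
  have hs2 : sP ≫ πP = 𝟙 S := by rw [← hπ, ← Category.assoc, hs1, heG]
  haveI : Etale sP :=
    MorphismProperty.of_postcomp (W := @Etale) (W' := @Etale) sP πP inferInstance
      (by rw [hs2]; infer_instance)
  haveI : Mono sP := mono_of_mono_fac hs2
  haveI : IsOpenImmersion sP := IsOpenImmersion.of_flat_of_mono sP
  haveI : LocallyOfFiniteType πP := inferInstance
  haveI : IsLocallyNoetherian (pullback f iH) := LocallyOfFiniteType.isLocallyNoetherian πP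
  haveI : QuasiCompact sP := inferInstance
  have hP : ∀ x : ↥(pullback f iH), ∃ V : (pullback f iH).Opens,
      x ∈ V ∧ IsIntegral (V : Scheme.{u}) := by
    intro x
    have hdom : ∀ y : ↥(pullback f iH), IsDomain ((pullback f iH).presheaf.stalk y) := fun y =>
      (Groth.Agent.H68.FEtNormal.normal_stalk_of_etale πP y (hS _).1 (hS _).2).1
    have hN : ∀ y : ↥(pullback f iH), ∃ U : (pullback f iH).Opens,
        y ∈ U ∧ TopologicalSpace.NoetherianSpace ↥U := by
      intro y
      obtain ⟨U, hU, hyU, -⟩ := exists_isAffineOpen_mem_and_subset (x := y) (U := ⊤) trivial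
      haveI : IsNoetherianRing Γ(pullback f iH, U) :=
        IsLocallyNoetherian.component_noetherian ⟨U, hU⟩
      exact ⟨U, hyU, noetherianSpace_of_isAffineOpen U hU⟩
    exact Groth.Agent.S4647.main (𝟙 _) hdom hN x
  haveI := image_openImm sP hP
  have hker : (sP.imageι ≫ cP).ker = eG.ker := by
    rw [Scheme.Hom.ker_comp, Scheme.IdealSheafData.ker_subschemeι, ← Scheme.Hom.ker_comp, hs1]
  have hE : Etale ((sP.imageι ≫ cP) ≫ p) := by
    rw [Category.assoc, hπ]; infer_instance
  exact etale_of_ker_eq (sP.imageι ≫ cP) eG.ker hker p hE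


/-- Let S be a normal, locally Noetherian scheme over a field of characteristic 0. Let p : G → S and q :
H → S be smooth morphisms with sections e_G and e_H, and f : G → H an étale morphism over S with f ∘
e_G = e_H (the case in view: an étale homomorphism of smooth group schemes and their unit sections).
Call such a pointed S-scheme aligned when the scheme-theoretic image of its section is étale over S.
If H is aligned then G is aligned. (The published statement has an arbitrary locally Noetherian
base; over the reducible curve xy = 0 the étale group scheme obtained from two copies of the base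
glued along the complement of one branch maps to the trivial group by an étale homomorphism and is
not aligned, so the base is taken normal here, where the closure of the section is a union of
connected components of the preimage of the image of e_H. Schemes only.) -/
theorem result {k : Type u} [Field k] [CharZero k] {S : Scheme.{u}} (σ : S ⟶ Spec (CommRingCat.of k)) [IsLocallyNoetherian S] (hS : Pi1.IsNormalScheme S)
    {G H : Scheme.{u}} (p : G ⟶ S) (q : H ⟶ S) [Smooth p] [Smooth q]
    (eG : S ⟶ G) (eH : S ⟶ H) (heG : eG ≫ p = 𝟙 S) (heH : eH ≫ q = 𝟙 S)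
    (f : G ⟶ H) [Etale f] (hf : f ≫ q = p) (hfe : eG ≫ f = eH)
    (hH : Etale (eH.ker.subschemeι ≫ q)) :
    Etale (eG.ker.subschemeι ≫ p) := by
  exact main hS p q eG eH heG heH f hf hfe hH

end Groth.Agent.S13424
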