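import Groth.Statements.S13427
-- import your own Groth.Agent.* helpers here

set_option autoImplicit false
universe u
open CategoryTheory AlgebraicGeometry
open NeronHD

namespace Groth.Agent.S13427

open CategoryTheory CategoryTheory.Limits

section Helpers

universe v₁ u₁

variable {C : Type u₁} [Category.{v₁} C] [HasPullbacks C] {S S' : C} (φ : S' ⟶ S)

theorem pullback_map_left_fst {A B : Over S} (g : A ⟶ B) :
    ((Over.pullback φ).map g).left ≫ pullback.fst B.hom φ = pullback.fst A.hom φ ≫ g.left :=
  pullback.lift_fst _ _ _

/-- any two maps into the pullback of the terminal object agree -/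
theorem terminal_unique {W : Over S'} (a b : W ⟶ (Over.pullback φ).obj (Over.mk (𝟙 S))) :
    a = b := by
  apply Over.OverMorphism.ext
  have ha := Over.w a
  have hb := Over.w b
  simp only [Over.pullback_obj_hom] at ha hb
  apply pullback.hom_ext
  · have h1 : pullback.fst (Over.mk (𝟙 S)).hom φ = pullback.snd (Over.mk (𝟙 S)).hom φ ≫ φ := by
      have := pullback.condition (f := (Over.mk (𝟙 S)).hom) (g := φ)
      rw [← this]
      exact (Category.comp_id _).symm
    rw [h1, ← Category.assoc, ← Category.assoc, ha, hb]
  · rw [ha, hb]

variable {G H : Over S} (f : G ⟶ H) (e : S ⟶ H.left)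

theorem kw (he : e ≫ H.hom = 𝟙 S) : pullback.fst f.left e ≫ G.hom = pullback.snd f.left e := by
  rw [← Over.w f, ← Category.assoc, pullback.condition, Category.assoc, he, Category.comp_id]

/-- the inclusion of the fibre -/
noncomputable def kk (he : e ≫ H.hom = 𝟙 S) : Over.mk (pullback.snd f.left e) ⟶ G :=
  Over.homMk (pullback.fst f.left e) (kw f e he)

theorem kk_mono (he : e ≫ H.hom = 𝟙 S) : Mono (kk f e he) := by
  constructor
  intro Z g₁ g₂ h
  apply Over.OverMorphism.ext
  apply pullback.hom_ext
  · exact congrArg CommaMorphism.left h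
  · have h1 := Over.w g₁
    have h2 := Over.w g₂
    dsimp only [Over.mk_hom] at h1 h2
    rw [h1, h2]

theorem fibre_bij (he : e ≫ H.hom = 𝟙 S) {Z : Over S}
    (hG : Function.Bijective (fun g : Z ⟶ G => (Over.pullback φ).map g))
    (hH : Function.Injective (fun g : Z ⟶ H => (Over.pullback φ).map g)) :
    Function.Bijective (fun g : Z ⟶ Over.mk (pullback.snd f.left e) =>
      (Over.pullback φ).map g) := by
  haveI := kk_mono f e he
  constructor
  · intro g₁ g₂ h
    dsimp only at h
    rw [← cancel_mono (kk f e he)]
    apply hG.1
    dsimp only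
    rw [Functor.map_comp, Functor.map_comp, h]
  · intro h
    obtain ⟨g, hg⟩ := hG.2 (h ≫ (Over.pullback φ).map (kk f e he))
    dsimp only at hg
    -- the terminal object and the section
    let eS : Over.mk (𝟙 S) ⟶ H := Over.homMk e he
    let tZ : Z ⟶ Over.mk (𝟙 S) := Over.homMk Z.hom (Category.comp_id _)
    let tK : Over.mk (pullback.snd f.left e) ⟶ Over.mk (𝟙 S) :=
      Over.homMk (pullback.snd f.left e) (Category.comp_id _)
    have hkf : kk f e he ≫ f = tK ≫ eS := by
      apply Over.OverMorphism.ext
      exact pullback.condition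
    have hgf : g ≫ f = tZ ≫ eS := by
      apply hH
      dsimp only
      rw [Functor.map_comp, hg, Category.assoc, ← Functor.map_comp, hkf, Functor.map_comp,
        Functor.map_comp, ← Category.assoc]
      congr 1
      exact terminal_unique φ _ _
    have hgf' : g.left ≫ f.left = Z.hom ≫ e := congrArg CommaMorphism.left hgf
    let g' : Z ⟶ Over.mk (pullback.snd f.left e) :=
      Over.homMk (pullback.lift g.left Z.hom hgf') (pullback.lift_snd _ _ _)
    have hg' : g' ≫ kk f e he = g := by
      apply Over.OverMorphism.ext
      exact pullback.lift_fst _ _ _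
    refine ⟨g', ?_⟩
    dsimp only
    rw [← cancel_mono ((Over.pullback φ).map (kk f e he)), ← Functor.map_comp, hg', hg]

end Helpers

/-- Let S be a locally Noetherian scheme over a field of characteristic 0, S₀ ⊆ S a scheme-theoretically
dense open, and G, H smooth S-schemes with the Néron mapping property for S₀ ⊆ S (restriction to S₀
of S-morphisms from smooth S-schemes is bijective). Let f : G → H be an S-morphism and e : S → H a
section of H → S, and let K = G ×_H S be the fibre of f over e (the case in view: f a homomorphism
of smooth group schemes, e the unit, K the kernel, so that 1 → K → G → H is left exact). If K → S is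
smooth, then K has the Néron mapping property for S₀ ⊆ S. (Case of schemes, with smooth test
schemes, of a statement about group algebraic spaces.) -/
theorem result {k : Type u} [Field k] [CharZero k] {S : Scheme.{u}} (σ : S ⟶ Spec (CommRingCat.of k)) [IsLocallyNoetherian S] (S₀ : S.Opens) (hS₀ : CInt.IsSchematicallyDense S₀)
    (G H : Over S) [Smooth G.hom] [Smooth H.hom]
    (hG : ∀ Z : Over S, Smooth Z.hom → Function.Bijective (fun g : Z ⟶ G => (Over.pullback S₀.ι).map g))
    (hH : ∀ Z : Over S, Smooth Z.hom → Function.Bijective (fun g : Z ⟶ H => (Over.pullback S₀.ι).map g))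
    (f : G ⟶ H) (e : S ⟶ H.left) (he : e ≫ H.hom = 𝟙 S)
    [Smooth (Limits.pullback.snd f.left e)] :
    ∀ Z : Over S, Smooth Z.hom → Function.Bijective (fun g : Z ⟶ Over.mk (Limits.pullback.snd f.left e) => (Over.pullback S₀.ι).map g) := by
  intro Z hZ
  exact fibre_bij S₀.ι f e he (hG Z hZ) (hH Z hZ).1

end Groth.Agent.S13427
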