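import Groth.Statements.S1343
import Groth.Agent.H9.CMFlatApp

set_option linter.style.haveILetI false

set_option autoImplicit false
universe u
open FlatMor

namespace Groth.Agent.S1343


open Groth.Agent.H9.CMFlatApp Groth.Agent.H9.CMFlatSch

open AlgebraicGeometry CategoryTheory Limits in
theorem result' {X S : Scheme.{u}} (f : X ⟶ S) [Flat f] [LocallyOfFinitePresentation f]
    (x : X) (d : ℕ) (hd : FlatMor.fibreDimAt f x = d) :
    MoreMor.IsCMAt f x ↔ ∃ (U : X.Opens) (g : (U : Scheme.{u}) ⟶ 𝔸(ULift.{u} (Fin d); S)), x ∈ U ∧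
      g ≫ (𝔸(ULift.{u} (Fin d); S) ↘ S) = U.ι ≫ f ∧ Flat g ∧ LocallyQuasiFinite g := by
  constructor
  · intro hCM
    obtain ⟨U, hx, g, h1, h2, h3⟩ := forward_nat f x d hd hCM
    obtain ⟨U', hxU', hle, hfl⟩ := exists_open_flat f x U hx g h1 h3
    refine ⟨U', X.homOfLE hle ≫ g, hxU', ?_, ?_, inferInstance⟩
    · rw [Category.assoc, h1, Scheme.homOfLE_ι_assoc]
    · rw [Flat.iff_flat_stalkMap]
      intro z
      rw [flat_stalkMap_comp_left]
      have hz : (X.homOfLE hle) z = (⟨z.1, hle z.2⟩ : (U : Scheme.{u})) := by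
        apply U.ι.injective
        have := congr($(X.homOfLE_ι hle) z)
        exact this
      rw [hz]
      exact hfl z.1 z.2
  · rintro ⟨U, g, hx, h1, h2, h3⟩
    exact Groth.Agent.S4949.backward f x d U hx g h1 h3 (Flat.stalkMap g _)


open AlgebraicGeometry CategoryTheory Limits in
/-- (1) ⇔ (3): let f be flat and locally of finite presentation and let x be a point whose fibre has
local dimension d at x. Then f is Cohen–Macaulay at x if and only if some open neighbourhood of x
admits a flat, locally quasi-finite morphism to affine d-space over the base, compatible with the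
structure morphisms. -/
theorem result {X S : Scheme.{u}} (f : X ⟶ S) [Flat f] [LocallyOfFinitePresentation f]
    (x : X) (d : ℕ) (hd : FlatMor.fibreDimAt f x = d) :
    MoreMor.IsCMAt f x ↔ ∃ (U : X.Opens) (g : (U : Scheme.{u}) ⟶ 𝔸(ULift.{u} (Fin d); S)), x ∈ U ∧
      g ≫ (𝔸(ULift.{u} (Fin d); S) ↘ S) = U.ι ≫ f ∧ Flat g ∧ LocallyQuasiFinite g := by
  exact result' f x d hd

end Groth.Agent.S1343
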