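import Groth.Statements.S13431
import Groth.Agent.H40.NeronFormal2
import Groth.Agent.H40.FpqcMap

set_option autoImplicit false
universe u
open CategoryTheory MonoidalCategory CartesianMonoidalCategory MonObj GrpObj AlgebraicGeometry
open NeronHD

namespace Groth.Agent.S13431

/-- Let S be a locally Noetherian scheme over a field of characteristic 0 and S₀ ⊆ S a
scheme-theoretically dense open. Let G be a smooth group scheme over S and N a smooth S-scheme with
N → S surjective, equipped with an action of G making N a pseudo-torsor: the translation map G ×_S N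
→ N ×_S N, (g, x) ↦ (g·x, x), is an isomorphism. Then G has the Néron mapping property for S₀ ⊆ S
(restriction to S₀ of S-morphisms from smooth S-schemes is bijective) if and only if N has it. (The
published statement says 'G-torsor' with torsor defined as an action whose translation map is an
isomorphism; for N empty that holds and N has the mapping property while G need not, so surjectivity
of N → S — which gives étale-local sections — is assumed here, as the published proof uses. Case of
schemes of a statement about algebraic spaces.) -/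
theorem result {k : Type u} [Field k] [CharZero k] {S : Scheme.{u}} (σ : S ⟶ Spec (CommRingCat.of k)) [IsLocallyNoetherian S] (S₀ : S.Opens) (hS₀ : CInt.IsSchematicallyDense S₀)
    (G : Over S) [GrpObj G] [Smooth G.hom]
    (N : Over S) [Smooth N.hom] [Surjective N.hom]
    (a : AlgGrp.Action G N) (ha : NonAbH1.IsPseudoTorsorSch a) :
    (∀ Z : Over S, Smooth Z.hom → Function.Bijective (fun g : Z ⟶ G => (Over.pullback S₀.ι).map g)) ↔
    (∀ Z : Over S, Smooth Z.hom → Function.Bijective (fun g : Z ⟶ N => (Over.pullback S₀.ι).map g)) := by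
  open Groth.Agent.H40.FpqcFam Groth.Agent.H40.NeronFormal Limits in
  set F := Over.pullback S₀.ι with hF
  have hτ : IsIso (lift a.act (snd G N)) := ha
  have hτfst : inv (lift a.act (snd G N)) ≫ a.act = fst N N := by
    rw [IsIso.inv_comp_eq, lift_fst]
  have hτsnd : inv (lift a.act (snd G N)) ≫ snd G N = snd N N := by
    rw [IsIso.inv_comp_eq, lift_snd]
  have hdv : dv ha = inv (lift a.act (snd G N)) ≫ fst G N := rfl
  constructor
  · intro hG
    have INJ : ∀ W : Over S, Smooth W.hom → ∀ g₁ g₂ : W ⟶ N, F.map g₁ = F.map g₂ → g₁ = g₂ := by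
      intro W hW g₁ g₂ h12
      have hℓ : F.map (lift g₁ g₂) = F.map (lift g₂ g₂) := by
        apply hom_ext_prod
        · rw [← F.map_comp, ← F.map_comp, lift_fst, lift_fst, h12]
        · rw [← F.map_comp, ← F.map_comp, lift_snd, lift_snd]
      have hd : lift g₁ g₂ ≫ dv ha = 1 := by
        apply (hG W hW).1
        change F.map (lift g₁ g₂ ≫ dv ha) = F.map 1
        rw [F.map_comp, hℓ, ← F.map_comp, dv_self]
      have := dv_act ha g₁ g₂
      rw [hd, AlgGrp.Action.lift_one_act] at this
      exact this.symm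
    intro Z hZ
    refine ⟨fun g₁ g₂ h => INJ Z hZ g₁ g₂ h, ?_⟩
    intro φ
    have hZ'sm : Smooth (Z ⊗ N).hom := smooth_tensor Z N
    have hp1 : Smooth (fst Z N).left := smooth_fst Z N
    have hp2 : Surjective (fst Z N).left := surjective_fst Z N
    obtain ⟨κ, hκdef⟩ : ∃ κ, κ = liftProd S₀.ι (F.map (fst Z N) ≫ φ) (F.map (snd Z N)) := ⟨_, rfl⟩
    have hκ1 : κ ≫ F.map (fst N N) = F.map (fst Z N) ≫ φ := by rw [hκdef]; exact liftProd_fst _ _ _
    have hκ2 : κ ≫ F.map (snd N N) = F.map (snd Z N) := by rw [hκdef]; exact liftProd_snd _ _ _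
    obtain ⟨d, hd⟩ := (hG _ hZ'sm).2 (κ ≫ F.map (dv ha))
    have hd' : F.map d = κ ≫ F.map (dv ha) := hd
    have hℓ : F.map (lift d (snd Z N)) = κ ≫ F.map (inv (lift a.act (snd G N))) := by
      apply hom_ext_prod
      · rw [← F.map_comp, lift_fst, Category.assoc, ← F.map_comp, ← hdv, hd']
      · rw [← F.map_comp, lift_snd, Category.assoc, ← F.map_comp, hτsnd, hκ2]
    have hw : F.map (lift d (snd Z N) ≫ a.act) = F.map (fst Z N) ≫ φ := by
      rw [F.map_comp, hℓ, Category.assoc, ← F.map_comp, hτfst, hκ1]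
    exact exists_of_cover S₀.ι INJ (fst Z N) φ _ hw
  · intro hN
    have INJ : ∀ W : Over S, Smooth W.hom → ∀ g₁ g₂ : W ⟶ G, F.map g₁ = F.map g₂ → g₁ = g₂ := by
      intro W hW g₁ g₂ h12
      have hW'sm : Smooth (W ⊗ N).hom := smooth_tensor W N
      have hp1 : Smooth (fst W N).left := smooth_fst W N
      have hp2 : Surjective (fst W N).left := surjective_fst W N
      have hℓ : F.map (lift (fst W N ≫ g₁) (snd W N)) = F.map (lift (fst W N ≫ g₂) (snd W N)) := by
        apply hom_ext_prod
        · rw [← F.map_comp, ← F.map_comp, lift_fst, lift_fst, F.map_comp, F.map_comp, h12]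
        · rw [← F.map_comp, ← F.map_comp, lift_snd, lift_snd]
      have hm : lift (fst W N ≫ g₁) (snd W N) ≫ a.act = lift (fst W N ≫ g₂) (snd W N) ≫ a.act := by
        apply (hN _ hW'sm).1
        change F.map (lift (fst W N ≫ g₁) (snd W N) ≫ a.act) = F.map (lift (fst W N ≫ g₂) (snd W N) ≫ a.act)
        rw [F.map_comp, hℓ, ← F.map_comp]
      have h1 := act_free ha _ _ _ hm
      have : Epi (fst W N) := epi_of_flat_surj (fst W N)
      exact (cancel_epi (fst W N)).1 h1
    intro Z hZ
    refine ⟨fun g₁ g₂ h => INJ Z hZ g₁ g₂ h, ?_⟩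
    intro φ
    have hZ'sm : Smooth (Z ⊗ N).hom := smooth_tensor Z N
    have hp1 : Smooth (fst Z N).left := smooth_fst Z N
    have hp2 : Surjective (fst Z N).left := surjective_fst Z N
    obtain ⟨κ, hκdef⟩ : ∃ κ, κ = liftProd S₀.ι (F.map (fst Z N) ≫ φ) (F.map (snd Z N)) := ⟨_, rfl⟩
    have hκ1 : κ ≫ F.map (fst G N) = F.map (fst Z N) ≫ φ := by rw [hκdef]; exact liftProd_fst _ _ _
    have hκ2 : κ ≫ F.map (snd G N) = F.map (snd Z N) := by rw [hκdef]; exact liftProd_snd _ _ _
    obtain ⟨m, hm⟩ := (hN _ hZ'sm).2 (κ ≫ F.map a.act)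
    have hm' : F.map m = κ ≫ F.map a.act := hm
    have hℓ : F.map (lift m (snd Z N)) = κ ≫ F.map (lift a.act (snd G N)) := by
      apply hom_ext_prod
      · rw [← F.map_comp, lift_fst, Category.assoc, ← F.map_comp, lift_fst, hm']
      · rw [← F.map_comp, lift_snd, Category.assoc, ← F.map_comp, lift_snd, hκ2]
    have hw : F.map (lift m (snd Z N) ≫ dv ha) = F.map (fst Z N) ≫ φ := by
      rw [F.map_comp, hℓ, Category.assoc, ← F.map_comp, hdv, IsIso.hom_inv_id_assoc, hκ1]
    exact exists_of_cover S₀.ι INJ (fst Z N) φ _ hw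
end Groth.Agent.S13431
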