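import Groth.Statements.S13432
import Mathlib
import Groth.Agent.H54.FiniteExt
import Groth.Agent.H54.Extend
import Groth.Agent.H25.EtaleDimStalk

set_option autoImplicit false
universe u
open CategoryTheory AlgebraicGeometry
open NeronHD

namespace Groth.Agent.S13432


section Helpers
open AlgebraicGeometry CategoryTheory CategoryTheory.Limits TopologicalSpace Topology IsLocalRing

lemma normal_opens {Z : Scheme.{u}} (hZ : Pi1.IsNormalScheme Z) (W : Z.Opens) :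
    Pi1.IsNormalScheme (W : Scheme.{u}) := fun w => by
  have e : Z.presheaf.stalk w.1 ≃+* (W : Scheme.{u}).presheaf.stalk w :=
    (asIso (W.ι.stalkMap w)).commRingCatIsoToRingEquiv
  haveI := (hZ w.1).1
  haveI := (hZ w.1).2
  exact ⟨MulEquiv.isDomain _ e.symm.toMulEquiv, IsIntegrallyClosed.of_equiv e⟩

lemma isDominant_homOfLE_inf {Z : Scheme.{u}} (O Z₀ : Z.Opens) (hd : Dense (Z₀ : Set Z)) :
    IsDominant (Z.homOfLE (inf_le_left : O ⊓ Z₀ ≤ O)) := by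
  constructor
  rw [DenseRange, dense_iff_inter_open]
  rintro Q hQ ⟨o, ho⟩
  have hQopen : IsOpen (O.ι '' Q) := O.ι.isOpenEmbedding.isOpenMap Q hQ
  obtain ⟨y, hyQ, hyZ₀⟩ := hd.inter_open_nonempty _ hQopen ⟨O.ι o, o, ho, rfl⟩
  obtain ⟨o', ho', rfl⟩ := hyQ
  have hmem : o'.1 ∈ O ⊓ Z₀ := ⟨o'.2, hyZ₀⟩
  exact ⟨o', ho', ⟨⟨o'.1, hmem⟩, Subtype.ext (Z.homOfLE_apply _ _)⟩⟩

theorem exists_local_extension {Z T S : Scheme.{u}} [IsLocallyNoetherian Z] [IsReduced Z]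
    (hZ : Pi1.IsNormalScheme Z) (p : Z ⟶ S) (π : T ⟶ S) [IsFinite π]
    (Z₀ : Z.Opens) (hd : Dense (Z₀ : Set Z))
    (u₀ : (Z₀ : Scheme.{u}) ⟶ T) (hu₀ : u₀ ≫ π = Z₀.ι ≫ p) (z : Z) :
    ∃ (W : Z.Opens) (_ : z ∈ W) (uW : (W : Scheme.{u}) ⟶ T), uW ≫ π = W.ι ≫ p ∧
      ∀ (O : Z.Opens) (h1 : O ≤ W) (h2 : O ≤ Z₀), Z.homOfLE h1 ≫ uW = Z.homOfLE h2 ≫ u₀ := by
  haveI := (hZ z).1
  obtain ⟨W, hzW, hW⟩ := Groth.Agent.S2260.result Z z
  haveI := hW
  have hWn : Pi1.IsNormalScheme (W : Scheme.{u}) := normal_opens hZ W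
  obtain ⟨i₁, hi₁⟩ : ∃ i₁ : ((W ⊓ Z₀ : Z.Opens) : Scheme.{u}) ⟶ (W : Scheme.{u}),
      i₁ = Z.homOfLE inf_le_left := ⟨_, rfl⟩
  obtain ⟨i₂, hi₂⟩ : ∃ i₂ : ((W ⊓ Z₀ : Z.Opens) : Scheme.{u}) ⟶ (Z₀ : Scheme.{u}),
      i₂ = Z.homOfLE inf_le_right := ⟨_, rfl⟩
  have hi₁ι : i₁ ≫ W.ι = (W ⊓ Z₀).ι := by rw [hi₁]; exact Z.homOfLE_ι _
  have hi₂ι : i₂ ≫ Z₀.ι = (W ⊓ Z₀).ι := by rw [hi₂]; exact Z.homOfLE_ι _
  haveI : IsOpenImmersion i₁ := by rw [hi₁]; infer_instance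
  obtain ⟨w, hwW, hwZ₀⟩ : ∃ w : Z, w ∈ W ∧ w ∈ Z₀ := by
    obtain ⟨w, hw1, hw2⟩ := hd.inter_open_nonempty (W : Set Z) W.2 ⟨z, hzW⟩
    exact ⟨w, hw1, hw2⟩
  have hζW₀ : (genericPoint ↥(W : Scheme.{u})).1 ∈ W ⊓ Z₀ := by
    have h1 : genericPoint ↥(W : Scheme.{u}) ⤳ (⟨w, hwW⟩ : ↥(W : Scheme.{u})) :=
      genericPoint_specializes _
    have h2 : (genericPoint ↥(W : Scheme.{u})).1 ⤳ w := h1.map W.ι.continuous
    exact ⟨(genericPoint ↥(W : Scheme.{u})).2, h2.mem_open Z₀.2 hwZ₀⟩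
  have hrange : Set.range ((W : Scheme.{u}).fromSpecStalk (genericPoint ↥(W : Scheme.{u}))) ⊆
      Set.range i₁ := by
    rintro y hy
    rw [Scheme.range_fromSpecStalk] at hy
    have hy' : y ⤳ genericPoint ↥(W : Scheme.{u}) := hy
    have h2 : y.1 ⤳ (genericPoint ↥(W : Scheme.{u})).1 := hy'.map W.ι.continuous
    have hyW₀ : y.1 ∈ W ⊓ Z₀ := h2.mem_open (W ⊓ Z₀).2 hζW₀
    refine ⟨⟨y.1, hyW₀⟩, Subtype.ext ?_⟩
    rw [hi₁]
    exact Z.homOfLE_apply _ _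
  obtain ⟨lft, hlft⟩ : ∃ lft : Spec ((W : Scheme.{u}).presheaf.stalk (genericPoint ↥(W : Scheme.{u}))) ⟶
      ((W ⊓ Z₀ : Z.Opens) : Scheme.{u}),
      lft ≫ i₁ = (W : Scheme.{u}).fromSpecStalk (genericPoint ↥(W : Scheme.{u})) :=
    ⟨IsOpenImmersion.lift i₁ _ hrange, IsOpenImmersion.lift_fac _ _ _⟩
  have ha : (lft ≫ i₂ ≫ u₀) ≫ π =
      (W : Scheme.{u}).fromSpecStalk (genericPoint ↥(W : Scheme.{u})) ≫ (W.ι ≫ p) := by
    rw [Category.assoc, Category.assoc, hu₀, ← Category.assoc i₂, hi₂ι, ← hi₁ι, Category.assoc,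
      ← Category.assoc lft, hlft]
  obtain ⟨s₀, hs₀def⟩ : ∃ s₀ : Spec ((W : Scheme.{u}).presheaf.stalk (genericPoint ↥(W : Scheme.{u}))) ⟶
      pullback π (W.ι ≫ p), s₀ = pullback.lift (lft ≫ i₂ ≫ u₀)
        ((W : Scheme.{u}).fromSpecStalk (genericPoint ↥(W : Scheme.{u}))) ha := ⟨_, rfl⟩
  have hs₀1 : s₀ ≫ pullback.snd π (W.ι ≫ p) =
      (W : Scheme.{u}).fromSpecStalk (genericPoint ↥(W : Scheme.{u})) := by
    rw [hs₀def]; exact pullback.lift_snd _ _ _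
  have hs₀2 : s₀ ≫ pullback.fst π (W.ι ≫ p) = lft ≫ i₂ ≫ u₀ := by
    rw [hs₀def]; exact pullback.lift_fst _ _ _
  obtain ⟨s, hs1, hs2⟩ := Groth.Agent.H54.FiniteExt.exists_section_extending hWn
    (pullback.snd π (W.ι ≫ p)) s₀ hs₀1
  have huW : (s ≫ pullback.fst π (W.ι ≫ p)) ≫ π = W.ι ≫ p := by
    rw [Category.assoc, pullback.condition, ← Category.assoc, hs1, Category.id_comp]
  haveI : IsDominant lft := by
    constructor
    have hpt : i₁ (lft (closedPoint _)) = genericPoint ↥(W : Scheme.{u}) := by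
      rw [← Scheme.Hom.comp_apply, hlft]; exact Scheme.fromSpecStalk_closedPoint
    rw [DenseRange, dense_iff_inter_open]
    rintro O hO ⟨o, ho⟩
    have hOopen : IsOpen (i₁ '' O) := i₁.isOpenEmbedding.isOpenMap O hO
    have hζO : genericPoint ↥(W : Scheme.{u}) ∈ i₁ '' O :=
      ((genericPoint_spec ↥(W : Scheme.{u})).mem_open_set_iff hOopen).mpr
        ⟨i₁ o, trivial, ⟨o, ho, rfl⟩⟩
    obtain ⟨o', ho', ho'ζ⟩ := hζO
    have heq : o' = lft (closedPoint _) := i₁.isOpenEmbedding.injective (ho'ζ.trans hpt.symm)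
    exact ⟨o', ho', ⟨closedPoint _, heq.symm⟩⟩
  have key : i₁ ≫ (s ≫ pullback.fst π (W.ι ≫ p)) = i₂ ≫ u₀ := by
    refine ext_of_isDominant_of_isSeparated π ?_ lft ?_
    · rw [Category.assoc, huW, Category.assoc, hu₀, ← Category.assoc, hi₁ι, ← Category.assoc,
        hi₂ι]
    · rw [← Category.assoc, hlft, ← Category.assoc, hs2, hs₀2]
  refine ⟨W, hzW, s ≫ pullback.fst π (W.ι ≫ p), huW, ?_⟩
  intro O h1 h2
  have e1 : Z.homOfLE h1 = Z.homOfLE (le_inf h1 h2) ≫ i₁ := by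
    rw [hi₁, Z.homOfLE_homOfLE]
  have e2 : Z.homOfLE h2 = Z.homOfLE (le_inf h1 h2) ≫ i₂ := by
    rw [hi₂, Z.homOfLE_homOfLE]
  rw [e1, e2, Category.assoc, Category.assoc, key]

theorem exists_extension_finite {Z T S : Scheme.{u}} [IsLocallyNoetherian Z] [IsReduced Z]
    (hZ : Pi1.IsNormalScheme Z) (p : Z ⟶ S) (π : T ⟶ S) [IsFinite π]
    (Z₀ : Z.Opens) (hd : Dense (Z₀ : Set Z))
    (u₀ : (Z₀ : Scheme.{u}) ⟶ T) (hu₀ : u₀ ≫ π = Z₀.ι ≫ p) :
    ∃ u : Z ⟶ T, u ≫ π = p ∧ Z₀.ι ≫ u = u₀ := by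
  choose W hzW uW huW1 huW2 using exists_local_extension hZ p π Z₀ hd u₀ hu₀
  let W' : Option ↥Z → Z.Opens := fun o => match o with
    | none => Z₀
    | some z => W z
  obtain ⟨F, hFn, hFs⟩ : ∃ F : ∀ o : Option ↥Z, ((W' o : Z.Opens) : Scheme.{u}) ⟶ T,
      F none = u₀ ∧ ∀ z, F (some z) = uW z := by
    refine ⟨fun o => ?_, ?_, ?_⟩
    · cases o with
      | none => exact u₀
      | some z => exact uW z
    · rfl
    · intro z; rfl
  have hF : ∀ o, F o ≫ π = (W' o).ι ≫ p := by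
    rintro (_ | z)
    · rw [hFn]; exact hu₀
    · rw [hFs]; exact huW1 z
  have hov : ∀ i j, Z.homOfLE (inf_le_left : W' i ⊓ W' j ≤ W' i) ≫ F i =
      Z.homOfLE (inf_le_right : W' i ⊓ W' j ≤ W' j) ≫ F j := by
    rintro (_ | i) (_ | j)
    · rfl
    · rw [hFn, hFs]
      exact (huW2 j _ inf_le_right inf_le_left).symm
    · rw [hFn, hFs]
      exact huW2 i _ inf_le_left inf_le_right
    · rw [hFs, hFs]
      show Z.homOfLE (inf_le_left : W i ⊓ W j ≤ W i) ≫ uW i =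
        Z.homOfLE (inf_le_right : W i ⊓ W j ≤ W j) ≫ uW j
      haveI := isDominant_homOfLE_inf (W i ⊓ W j) Z₀ hd
      refine ext_of_isDominant_of_isSeparated π ?_
        (Z.homOfLE (inf_le_left : (W i ⊓ W j) ⊓ Z₀ ≤ W i ⊓ W j)) ?_
      · rw [Category.assoc, Category.assoc, huW1, huW1, ← Category.assoc, ← Category.assoc,
          Z.homOfLE_ι, Z.homOfLE_ι]
      · rw [← Category.assoc, ← Category.assoc, Z.homOfLE_homOfLE, Z.homOfLE_homOfLE,
          huW2 i _ _ inf_le_right, huW2 j _ _ inf_le_right]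
  obtain ⟨G, hG⟩ := Groth.Agent.H54.glue_family W' F hov
  have hcov : (⊤ : Z.Opens) ≤ ⨆ o, W' o := by
    intro z _
    exact TopologicalSpace.Opens.mem_iSup.mpr ⟨some z, hzW z⟩
  have hGπ : G ≫ π = (⨆ o, W' o).ι ≫ p := by
    refine (Scheme.Opens.iSupOpenCover W').hom_ext _ _ (fun o => ?_)
    show Z.homOfLE (le_iSup W' o) ≫ G ≫ π = Z.homOfLE (le_iSup W' o) ≫ (⨆ o, W' o).ι ≫ p
    rw [← Category.assoc, hG o, hF o, ← Category.assoc, Z.homOfLE_ι]
  have htop : (Scheme.topIso Z).inv ≫ (⊤ : Z.Opens).ι = 𝟙 Z := by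
    rw [← Scheme.topIso_hom, Iso.inv_hom_id]
  refine ⟨(Scheme.topIso Z).inv ≫ Z.homOfLE hcov ≫ G, ?_, ?_⟩
  · rw [Category.assoc, Category.assoc, hGπ, ← Category.assoc (Z.homOfLE hcov), Z.homOfLE_ι,
      ← Category.assoc, htop, Category.id_comp]
  · have h1 : Z₀.ι ≫ (Scheme.topIso Z).inv = Z.homOfLE (le_top : Z₀ ≤ ⊤) := by
      rw [← cancel_mono (Scheme.topIso Z).hom, Category.assoc, Iso.inv_hom_id, Category.comp_id,
        Scheme.topIso_hom, Z.homOfLE_ι]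
    rw [← Category.assoc, h1, ← Category.assoc, Z.homOfLE_homOfLE]
    rw [hG none, hFn]

theorem main {S : Scheme.{u}} [IsNoetherian S] (hS : Pi1.IsNormalScheme S) (S₀ : S.Opens)
    (hS₀ : CInt.IsSchematicallyDense S₀) {T : Scheme.{u}} (π : T ⟶ S) [IsFinite π]
    [LocallyOfFinitePresentation π] (hT : Pi1.IsNormalScheme T) (N : T.Opens)
    (hN : N = π.smoothLocus) (Z : Over S) (hZs : Smooth Z.hom) :
    Function.Bijective (fun g : Z ⟶ Over.mk (N.ι ≫ π) => (Over.pullback S₀.ι).map g) := by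
  haveI := hZs
  haveI : IsLocallyNoetherian Z.left := LocallyOfFiniteType.isLocallyNoetherian Z.hom
  have hZ : Pi1.IsNormalScheme Z.left := fun x => Groth.Agent.S13428.normal_of_smooth Z.hom hS x
  haveI : IsReduced Z.left := by
    haveI : ∀ x : Z.left, _root_.IsReduced (Z.left.presheaf.stalk x) := fun x => by
      haveI := (hZ x).1
      infer_instance
    exact isReduced_of_isReduced_stalk Z.left
  have hdense : Dense ((Z.hom ⁻¹ᵁ S₀ : Z.left.Opens) : Set Z.left) := by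
    apply Groth.Agent.H54.FiniteExt.dense_of_dim_zero_mem
    intro x hx
    have h1 : ringKrullDim (S.presheaf.stalk (Z.hom x)) ≤ 0 := by
      rw [← hx]
      exact Groth.Agent.H25.EtaleDimStalk.ringKrullDim_stalk_le_of_flat Z.hom x
    exact Groth.Agent.S13428.mem_of_dim_zero hS S₀ hS₀ (Z.hom x) h1
  obtain ⟨e, he⟩ : ∃ e : pullback Z.hom S₀.ι ≅ ((Z.hom ⁻¹ᵁ S₀ : Z.left.Opens) : Scheme.{u}),
      e.hom ≫ (Z.hom ⁻¹ᵁ S₀).ι = pullback.fst Z.hom S₀.ι :=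
    ⟨pullbackRestrictIsoRestrict Z.hom S₀, pullbackRestrictIsoRestrict_hom_ι Z.hom S₀⟩
  haveI hdom : IsDominant (pullback.fst Z.hom S₀.ι) := by
    rw [← he]
    haveI : IsDominant (Z.hom ⁻¹ᵁ S₀).ι := Opens.isDominant_ι hdense
    infer_instance
  haveI : IsSeparated (N.ι ≫ π) := inferInstance
  constructor
  · intro g₁ g₂ h
    have h1 : ((Over.pullback S₀.ι).map g₁).left = ((Over.pullback S₀.ι).map g₂).left :=
      congrArg CommaMorphism.left h
    have e1 : ((Over.pullback S₀.ι).map g₁).left ≫ pullback.fst (N.ι ≫ π) S₀.ι =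
        pullback.fst Z.hom S₀.ι ≫ g₁.left := pullback.lift_fst _ _ _
    have e2 : ((Over.pullback S₀.ι).map g₂).left ≫ pullback.fst (N.ι ≫ π) S₀.ι =
        pullback.fst Z.hom S₀.ι ≫ g₂.left := pullback.lift_fst _ _ _
    have h2 : pullback.fst Z.hom S₀.ι ≫ g₁.left = pullback.fst Z.hom S₀.ι ≫ g₂.left := by
      rw [← e1, ← e2, h1]
    apply Over.OverMorphism.ext
    exact ext_of_isDominant_of_isSeparated (N.ι ≫ π) ((Over.w g₁).trans (Over.w g₂).symm)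
      (pullback.fst Z.hom S₀.ι) h2
  · intro h₀
    obtain ⟨u₀, hu₀def⟩ : ∃ u₀ : ((Z.hom ⁻¹ᵁ S₀ : Z.left.Opens) : Scheme.{u}) ⟶ T,
        u₀ = e.inv ≫ h₀.left ≫ pullback.fst (N.ι ≫ π) S₀.ι ≫ N.ι := ⟨_, rfl⟩
    have hw : h₀.left ≫ pullback.snd (N.ι ≫ π) S₀.ι = pullback.snd Z.hom S₀.ι := Over.w h₀
    have hinv : e.inv ≫ pullback.fst Z.hom S₀.ι = (Z.hom ⁻¹ᵁ S₀).ι := by
      rw [← he, Iso.inv_hom_id_assoc]
    have hu₀ : u₀ ≫ π = (Z.hom ⁻¹ᵁ S₀).ι ≫ Z.hom := by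
      rw [hu₀def]
      simp only [Category.assoc]
      rw [pullback.condition, ← Category.assoc h₀.left, hw, ← pullback.condition,
        ← Category.assoc, hinv]
    obtain ⟨u, hu1, hu2⟩ := exists_extension_finite hZ Z.hom π (Z.hom ⁻¹ᵁ S₀) hdense u₀ hu₀
    have hmem : ∀ z : Z.left, u z ∈ N := fun z => by
      rw [hN]
      exact Groth.Agent.H54.FiniteExt.mem_smoothLocus_of_smooth_source hS π hT Z.hom u hu1 z
    have hrange : Set.range u ⊆ Set.range N.ι := by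
      rintro _ ⟨z, rfl⟩
      rw [Scheme.Opens.range_ι]
      exact hmem z
    obtain ⟨v, hv⟩ : ∃ v : Z.left ⟶ (N : Scheme.{u}), v ≫ N.ι = u :=
      ⟨IsOpenImmersion.lift N.ι u hrange, IsOpenImmersion.lift_fac _ _ _⟩
    obtain ⟨g, hg⟩ : ∃ g : Z ⟶ Over.mk (N.ι ≫ π), g.left = v :=
      ⟨Over.homMk v (by
        show v ≫ N.ι ≫ π = Z.hom
        rw [← Category.assoc, hv, hu1]), rfl⟩
    refine ⟨g, ?_⟩
    apply Over.OverMorphism.ext
    have e1 : ((Over.pullback S₀.ι).map g).left ≫ pullback.fst (N.ι ≫ π) S₀.ι =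
        pullback.fst Z.hom S₀.ι ≫ g.left := pullback.lift_fst _ _ _
    have e2 : ((Over.pullback S₀.ι).map g).left ≫ pullback.snd (N.ι ≫ π) S₀.ι =
        pullback.snd Z.hom S₀.ι := pullback.lift_snd _ _ _
    show ((Over.pullback S₀.ι).map g).left = h₀.left
    apply pullback.hom_ext
    · show ((Over.pullback S₀.ι).map g).left ≫ pullback.fst (N.ι ≫ π) S₀.ι =
        h₀.left ≫ pullback.fst (N.ι ≫ π) S₀.ι
      rw [e1, hg, ← cancel_mono N.ι, Category.assoc, hv, Category.assoc, ← he, Category.assoc,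
        hu2, hu₀def, Iso.hom_inv_id_assoc]
    · show ((Over.pullback S₀.ι).map g).left ≫ pullback.snd (N.ι ≫ π) S₀.ι =
        h₀.left ≫ pullback.snd (N.ι ≫ π) S₀.ι
      rw [e2, hw]

end Helpers


/-- Let S be a normal Noetherian scheme over a field of characteristic 0 and S₀ ⊆ S a
scheme-theoretically dense open. Let π : T → S be finite with T normal, and let N ⊆ T be the open
subscheme where π is smooth (equivalently étale, π being finite). Then N → S has the Néron mapping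
property for S₀ ⊆ S: for every smooth S-scheme Z, restriction to S₀ is a bijection from S-morphisms
Z → N onto S₀-morphisms Z|S₀ → N|S₀. (In the published statement T is the normal finite S-scheme
compactifying a given quasi-projective étale S-scheme and N is the maximal quasi-projective étale
scheme containing it; that origin of T plays no role in this part of the proof, so any finite T → S
with T normal is allowed here. Case of schemes, with smooth test schemes, of a statement about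
algebraic spaces.) -/
theorem result {k : Type u} [Field k] [CharZero k] {S : Scheme.{u}} (σ : S ⟶ Spec (CommRingCat.of k)) [IsNoetherian S] (hS : Pi1.IsNormalScheme S) (S₀ : S.Opens) (hS₀ : CInt.IsSchematicallyDense S₀)
    {T : Scheme.{u}} (π : T ⟶ S) [IsFinite π] [LocallyOfFinitePresentation π] (hT : Pi1.IsNormalScheme T) :
    ∀ Z : Over S, Smooth Z.hom → Function.Bijective (fun g : Z ⟶ Over.mk (π.smoothLocus.ι ≫ π) => (Over.pullback S₀.ι).map g) := by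
  exact main hS S₀ hS₀ π hT π.smoothLocus rfl
end Groth.Agent.S13432
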