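import Groth.Statements.S13434
import Groth.Agent.H43.HilbD1

set_option autoImplicit false
universe u
open W4c1hilbpn

namespace Groth.Agent.S13434

open Groth.Agent.H43.HilbT in

open W4c1hilbpn in
/-- Let k be an infinite field, n ≥ 2, S the polynomial ring over k in n variables, I a monomial ideal
of S of finite colength and T(I) = Hom_S(I, S/I) with its grading by integer vectors. The graded
piece of T(I) in every multidegree all of whose entries are nonnegative, or all of whose entries are
negative, vanishes, and T(I) is spanned by its pieces of non-constant sign pattern (the spans, over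
the sets N of variable indices that are neither empty nor all indices, of the graded pieces whose
multidegree is negative exactly at N). -/
theorem result (k : Type u) [Field k] [Infinite k]
    (n : ℕ) (hn : 2 ≤ n) (I : Ideal (MvPolynomial (Fin n) k)) (hI : IsMonomial I)
    [Module.Finite k (MvPolynomial (Fin n) k ⧸ I)] :
    (∀ α : Fin n → ℤ, ((∀ i, 0 ≤ α i) ∨ (∀ i, α i < 0)) → tPiece I α = ⊥) ∧
      (⨆ N : {N : Set (Fin n) // N.Nonempty ∧ N ≠ Set.univ}, sigPiece I N.1) = ⊤ := by
  classical
  have ha : (0 : ℕ) < n := by omega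
  have hb : (1 : ℕ) < n := by omega
  have hab : (⟨0, ha⟩ : Fin n) ≠ ⟨1, hb⟩ := by
    intro h
    have := congrArg Fin.val h
    simp at this
  have part1 : ∀ α : Fin n → ℤ, ((∀ i, 0 ≤ α i) ∨ (∀ i, α i < 0)) → tPiece I α = ⊥ := by
    intro α h
    rcases h with h | h
    · exact Groth.Agent.H43.HilbT.tPiece_eq_bot_of_nonneg hI h
    · exact Groth.Agent.H43.HilbT.tPiece_eq_bot_of_neg hI hab h
  refine ⟨part1, ?_⟩
  rw [eq_top_iff, ← Groth.Agent.H43.HilbT.iSup_tPiece_eq_top hI]
  refine iSup_le fun α => ?_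
  by_cases h1 : ∀ i, 0 ≤ α i
  · rw [part1 α (Or.inl h1)]
    exact bot_le
  · by_cases h2 : ∀ i, α i < 0
    · rw [part1 α (Or.inr h2)]
      exact bot_le
    · push Not at h1 h2
      obtain ⟨i1, hi1⟩ := h1
      obtain ⟨i2, hi2⟩ := h2
      have hN : ({i | α i < 0} : Set (Fin n)).Nonempty ∧ ({i | α i < 0} : Set (Fin n)) ≠ Set.univ := by
        refine ⟨⟨i1, hi1⟩, fun hu => ?_⟩
        have : i2 ∈ ({i | α i < 0} : Set (Fin n)) := by rw [hu]; exact Set.mem_univ _
        exact absurd this (not_lt.mpr hi2)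
      refine le_trans ?_ (le_iSup (fun N : {N : Set (Fin n) // N.Nonempty ∧ N ≠ Set.univ} =>
        sigPiece I N.1) ⟨{i | α i < 0}, hN⟩)
      show tPiece I α ≤ sigPiece I {i | α i < 0}
      unfold sigPiece
      exact le_iSup (fun β : {β : Fin n → ℤ // ∀ i, β i < 0 ↔ i ∈ ({i | α i < 0} : Set (Fin n))} =>
        tPiece I β.1) ⟨α, fun i => Iff.rfl⟩

end Groth.Agent.S13434
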