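import Groth.Statements.S13436
import Groth.Agent.H43.HilbD3

set_option autoImplicit false
universe u
open W4c1hilbpn

namespace Groth.Agent.S13436

open Groth.Agent.H43.HilbT

lemma E_eq_e3 (a b c : ℕ) : E (0 : Fin 3) 1 a b c = e3 a b c := by
  ext w
  show (if w = 0 then a else if w = 1 then b else c) = e3 a b c w
  fin_cases w
  · rfl
  · rfl
  · rfl

lemma hh_eq_stairZ {k : Type*} [Field k] (I : Ideal (MvPolynomial (Fin 3) k)) (a b : ℕ) :
    hh I 0 1 a b = stairZ I a b := by
  unfold hh stairZ
  simp only [E_eq_e3]


open W4c1hilbpn in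
/-- Let k be an infinite field, S = k[x,y,z], and T(I) = Hom_S(I, S/I) graded by triples of integers (a
graded piece is indexed by its multidegree; its sign pattern records which of the three entries are
negative); let I be a monomial ideal of finite colength with staircase numbers b_{i,j} = the number
of c with x^i y^j z^c outside I. For all natural numbers i, j, the span of the graded pieces of T(I)
of multidegrees (i, j, c), c ranging over the integers, has dimension b_{i,j} plus the dimension of
the span of the graded pieces of multidegrees (-i-1, -j-1, c). -/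
theorem result (k : Type u) [Field k] [Infinite k]
    (I : Ideal (MvPolynomial (Fin 3) k)) (hI : IsMonomial I) [Module.Finite k (MvPolynomial (Fin 3) k ⧸ I)] (i j : ℕ) :
    Module.finrank k ↥(⨆ α : {α : Fin 3 → ℤ // α 0 = (i : ℤ) ∧ α 1 = (j : ℤ)}, tPiece I α.1) =
      stairZ I i j +
        Module.finrank k ↥(⨆ α : {α : Fin 3 → ℤ // α 0 = -(i : ℤ) - 1 ∧ α 1 = -(j : ℤ) - 1}, tPiece I α.1) := by
  have T : Tri (0 : Fin 3) 1 2 := ⟨by decide, by decide, by decide⟩
  rw [← hh_eq_stairZ]
  exact fix_duality hI T i j

end Groth.Agent.S13436
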