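import Groth.Statements.S13437
import Groth.Agent.H43.HilbD3
import Groth.Agent.S13433

set_option autoImplicit false
universe u
open W4c1hilbpn

namespace Groth.Agent.S13437

open Groth.Agent.H43.HilbT


open W4c1hilbpn in
/-- Let k be an infinite field, S = k[x,y,z] and I a monomial ideal of S of finite colength d. Then the
dimension of Hom_S(I, S/I) is congruent to d modulo 2. -/
theorem result (k : Type u) [Field k] [Infinite k]
    (I : Ideal (MvPolynomial (Fin 3) k)) (hI : IsMonomial I) [Module.Finite k (MvPolynomial (Fin 3) k ⧸ I)] :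
    Module.finrank k (Tgt I) % 2 = Module.finrank k (MvPolynomial (Fin 3) k ⧸ I) % 2 := by
  obtain ⟨S, hS⟩ := exists_finset_ne_bot hI
  have htop := finrank_tgt_eq_sum hI S hS
  have T2 : Tri (0 : Fin 3) 1 2 := ⟨by decide, by decide, by decide⟩
  have T0 : Tri (1 : Fin 3) 2 0 := ⟨by decide, by decide, by decide⟩
  have T1 : Tri (2 : Fin 3) 0 1 := ⟨by decide, by decide, by decide⟩
  have e0 := Finset.sum_filter_add_sum_filter_not S (fun α : Fin 3 → ℤ => α 0 < 0) (fun α : Fin 3 → ℤ => Module.finrank k ↥(tPiece I α))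
  have e1 := Finset.sum_filter_add_sum_filter_not (S.filter (fun α : Fin 3 → ℤ => α 0 < 0)) (fun α : Fin 3 → ℤ => α 1 < 0) (fun α : Fin 3 → ℤ => Module.finrank k ↥(tPiece I α))
  have e2 := Finset.sum_filter_add_sum_filter_not (S.filter (fun α : Fin 3 → ℤ => ¬ α 0 < 0)) (fun α : Fin 3 → ℤ => α 1 < 0) (fun α : Fin 3 → ℤ => Module.finrank k ↥(tPiece I α))
  have e3 := Finset.sum_filter_add_sum_filter_not ((S.filter (fun α : Fin 3 → ℤ => α 0 < 0)).filter (fun α : Fin 3 → ℤ => α 1 < 0)) (fun α : Fin 3 → ℤ => α 2 < 0) (fun α : Fin 3 → ℤ => Module.finrank k ↥(tPiece I α))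
  have e4 := Finset.sum_filter_add_sum_filter_not ((S.filter (fun α : Fin 3 → ℤ => α 0 < 0)).filter (fun α : Fin 3 → ℤ => ¬ α 1 < 0)) (fun α : Fin 3 → ℤ => α 2 < 0) (fun α : Fin 3 → ℤ => Module.finrank k ↥(tPiece I α))
  have e5 := Finset.sum_filter_add_sum_filter_not ((S.filter (fun α : Fin 3 → ℤ => ¬ α 0 < 0)).filter (fun α : Fin 3 → ℤ => α 1 < 0)) (fun α : Fin 3 → ℤ => α 2 < 0) (fun α : Fin 3 → ℤ => Module.finrank k ↥(tPiece I α))
  have e6 := Finset.sum_filter_add_sum_filter_not ((S.filter (fun α : Fin 3 → ℤ => ¬ α 0 < 0)).filter (fun α : Fin 3 → ℤ => ¬ α 1 < 0)) (fun α : Fin 3 → ℤ => α 2 < 0) (fun α : Fin 3 → ℤ => Module.finrank k ↥(tPiece I α))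
  beta_reduce at e0 e1 e2 e3 e4 e5 e6
  have lTTT : ∑ α ∈ (((S.filter (fun α : Fin 3 → ℤ => α 0 < 0)).filter (fun α : Fin 3 → ℤ => α 1 < 0)).filter (fun α : Fin 3 → ℤ => α 2 < 0)), Module.finrank k ↥(tPiece I α) = 0 :=
    Finset.sum_eq_zero fun α hα => by
      rw [Finset.mem_filter, Finset.mem_filter, Finset.mem_filter] at hα
      obtain ⟨⟨⟨_, a0⟩, a1⟩, a2⟩ := hα
      have hneg : ∀ w, α w < 0 := fun w => by
        rcases T2.cover w with hw | hw | hw <;> rw [hw] <;> assumption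
      rw [tPiece_eq_bot_of_neg hI (α := α) (a := (0 : Fin 3)) (b := 1) (by decide) hneg, finrank_bot]
  have lFFF : ∑ α ∈ (((S.filter (fun α : Fin 3 → ℤ => ¬ α 0 < 0)).filter (fun α : Fin 3 → ℤ => ¬ α 1 < 0)).filter (fun α : Fin 3 → ℤ => ¬ α 2 < 0)), Module.finrank k ↥(tPiece I α) = 0 :=
    Finset.sum_eq_zero fun α hα => by
      rw [Finset.mem_filter, Finset.mem_filter, Finset.mem_filter] at hα
      obtain ⟨⟨⟨_, a0⟩, a1⟩, a2⟩ := hα
      have hnn : ∀ w, 0 ≤ α w := fun w => by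
        rcases T2.cover w with hw | hw | hw <;> rw [hw]
        · exact not_lt.mp a0
        · exact not_lt.mp a1
        · exact not_lt.mp a2
      rw [tPiece_eq_bot_of_nonneg hI (α := α) hnn, finrank_bot]
  have lTTF := finrank_sig_eq_sum hI S hS ({2}ᶜ : Set (Fin 3)) (((S.filter (fun α : Fin 3 → ℤ => α 0 < 0)).filter (fun α : Fin 3 → ℤ => α 1 < 0)).filter (fun α : Fin 3 → ℤ => ¬ α 2 < 0))
    (fun α => by
      rw [Finset.mem_filter, Finset.mem_filter, Finset.mem_filter, pat2 T2]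
      constructor
      · rintro ⟨⟨⟨hS', h0⟩, h1⟩, h2⟩
        exact ⟨hS', h0, h1, not_lt.mp h2⟩
      · rintro ⟨hS', c0, c1, c2⟩
        exact ⟨⟨⟨hS', c0⟩, c1⟩, not_lt.mpr c2⟩)
  have lTFT := finrank_sig_eq_sum hI S hS ({1}ᶜ : Set (Fin 3)) (((S.filter (fun α : Fin 3 → ℤ => α 0 < 0)).filter (fun α : Fin 3 → ℤ => ¬ α 1 < 0)).filter (fun α : Fin 3 → ℤ => α 2 < 0))
    (fun α => by
      rw [Finset.mem_filter, Finset.mem_filter, Finset.mem_filter, pat2 T1]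
      constructor
      · rintro ⟨⟨⟨hS', h0⟩, h1⟩, h2⟩
        exact ⟨hS', h2, h0, not_lt.mp h1⟩
      · rintro ⟨hS', c2, c0, c1⟩
        exact ⟨⟨⟨hS', c0⟩, not_lt.mpr c1⟩, c2⟩)
  have lTFF := finrank_sig_eq_sum hI S hS ({0} : Set (Fin 3)) (((S.filter (fun α : Fin 3 → ℤ => α 0 < 0)).filter (fun α : Fin 3 → ℤ => ¬ α 1 < 0)).filter (fun α : Fin 3 → ℤ => ¬ α 2 < 0))
    (fun α => by
      rw [Finset.mem_filter, Finset.mem_filter, Finset.mem_filter, pat1 T0]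
      constructor
      · rintro ⟨⟨⟨hS', h0⟩, h1⟩, h2⟩
        exact ⟨hS', not_lt.mp h1, not_lt.mp h2, h0⟩
      · rintro ⟨hS', c1, c2, c0⟩
        exact ⟨⟨⟨hS', c0⟩, not_lt.mpr c1⟩, not_lt.mpr c2⟩)
  have lFTT := finrank_sig_eq_sum hI S hS ({0}ᶜ : Set (Fin 3)) (((S.filter (fun α : Fin 3 → ℤ => ¬ α 0 < 0)).filter (fun α : Fin 3 → ℤ => α 1 < 0)).filter (fun α : Fin 3 → ℤ => α 2 < 0))
    (fun α => by
      rw [Finset.mem_filter, Finset.mem_filter, Finset.mem_filter, pat2 T0]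
      constructor
      · rintro ⟨⟨⟨hS', h0⟩, h1⟩, h2⟩
        exact ⟨hS', h1, h2, not_lt.mp h0⟩
      · rintro ⟨hS', c1, c2, c0⟩
        exact ⟨⟨⟨hS', not_lt.mpr c0⟩, c1⟩, c2⟩)
  have lFTF := finrank_sig_eq_sum hI S hS ({1} : Set (Fin 3)) (((S.filter (fun α : Fin 3 → ℤ => ¬ α 0 < 0)).filter (fun α : Fin 3 → ℤ => α 1 < 0)).filter (fun α : Fin 3 → ℤ => ¬ α 2 < 0))
    (fun α => by
      rw [Finset.mem_filter, Finset.mem_filter, Finset.mem_filter, pat1 T1]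
      constructor
      · rintro ⟨⟨⟨hS', h0⟩, h1⟩, h2⟩
        exact ⟨hS', not_lt.mp h2, not_lt.mp h0, h1⟩
      · rintro ⟨hS', c2, c0, c1⟩
        exact ⟨⟨⟨hS', not_lt.mpr c0⟩, c1⟩, not_lt.mpr c2⟩)
  have lFFT := finrank_sig_eq_sum hI S hS ({2} : Set (Fin 3)) (((S.filter (fun α : Fin 3 → ℤ => ¬ α 0 < 0)).filter (fun α : Fin 3 → ℤ => ¬ α 1 < 0)).filter (fun α : Fin 3 → ℤ => α 2 < 0))
    (fun α => by
      rw [Finset.mem_filter, Finset.mem_filter, Finset.mem_filter, pat1 T2]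
      constructor
      · rintro ⟨⟨⟨hS', h0⟩, h1⟩, h2⟩
        exact ⟨hS', not_lt.mp h0, not_lt.mp h1, h2⟩
      · rintro ⟨hS', c0, c1, c2⟩
        exact ⟨⟨⟨hS', not_lt.mpr c0⟩, not_lt.mpr c1⟩, c2⟩)
  have r0 := Groth.Agent.S13433.result k I hI 0
  have r1 := Groth.Agent.S13433.result k I hI 1
  have r2 := Groth.Agent.S13433.result k I hI 2
  omega

end Groth.Agent.S13437
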