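import Groth.Statements.S13438
import Groth.Agent.H43.HilbD6

set_option autoImplicit false
universe u
open W4c1hilbpn

namespace Groth.Agent.S13438

open Groth.Agent.H43.HilbT

open W4c1hilbpn in
/-- Let k be an infinite field, S = k[x,y,z], and T(I) = Hom_S(I, S/I) graded by triples of integers (a
graded piece is indexed by its multidegree; its sign pattern records which of the three entries are
negative); let I be a monomial ideal of finite colength whose minimal monomial generators include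
x^a1 y^a2, x^b1 z^b3 and y^c2 z^c3 with all six exponents positive, and assume a1 ≥ b1 and a2 ≥ c2,
or b1 ≥ a1 and b3 ≥ c3, or c2 ≥ a2 and c3 ≥ b3. Then T(I) has a nonzero graded piece whose sign
pattern is negative at exactly two of the three variables. (The published statement draws the
conclusion that the corresponding point of the Hilbert scheme of points of affine 3-space is
singular; this row records the nonvanishing of a tangent piece of forbidden sign pattern, from which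
singularity follows by the smoothness criterion for monomial points.) -/
theorem result (k : Type u) [Field k] [Infinite k]
    (I : Ideal (MvPolynomial (Fin 3) k)) (hI : IsMonomial I) [Module.Finite k (MvPolynomial (Fin 3) k ⧸ I)]
    (a1 a2 b1 b3 c2 c3 : ℕ) (ha1 : 0 < a1) (ha2 : 0 < a2) (hb1 : 0 < b1) (hb3 : 0 < b3)
    (hc2 : 0 < c2) (hc3 : 0 < c3)
    (hA : e3 a1 a2 0 ∈ exps I ∧ e3 (a1 - 1) a2 0 ∉ exps I ∧ e3 a1 (a2 - 1) 0 ∉ exps I)
    (hB : e3 b1 0 b3 ∈ exps I ∧ e3 (b1 - 1) 0 b3 ∉ exps I ∧ e3 b1 0 (b3 - 1) ∉ exps I)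
    (hC : e3 0 c2 c3 ∈ exps I ∧ e3 0 (c2 - 1) c3 ∉ exps I ∧ e3 0 c2 (c3 - 1) ∉ exps I)
    (hcase : (b1 ≤ a1 ∧ c2 ≤ a2) ∨ (a1 ≤ b1 ∧ c3 ≤ b3) ∨ (a2 ≤ c2 ∧ b3 ≤ c3)) :
    sigPiece I ({0, 1} : Set (Fin 3)) ≠ ⊥ ∨ sigPiece I ({0, 2} : Set (Fin 3)) ≠ ⊥ ∨
      sigPiece I ({1, 2} : Set (Fin 3)) ≠ ⊥ := by
  have s12 : ({1, 2} : Set (Fin 3)) = {0}ᶜ := by
    ext w
    simp only [Set.mem_insert_iff, Set.mem_singleton_iff, Set.mem_compl_iff]
    revert w; decide
  have s02 : ({0, 2} : Set (Fin 3)) = {1}ᶜ := by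
    ext w
    simp only [Set.mem_insert_iff, Set.mem_singleton_iff, Set.mem_compl_iff]
    revert w; decide
  have s01 : ({0, 1} : Set (Fin 3)) = {2}ᶜ := by
    ext w
    simp only [Set.mem_insert_iff, Set.mem_singleton_iff, Set.mem_compl_iff]
    revert w; decide
  rw [s12, s02, s01]
  rcases hcase with ⟨h1, h2⟩ | ⟨h1, h2⟩ | ⟨h1, h2⟩
  · left
    have T : Tri (0 : Fin 3) 1 2 := ⟨by decide, by decide, by decide⟩
    refine sig2_ne_bot_of_gens hI T a1 a2 b1 b3 c2 c3 ha1 ha2 hb1 hc2 ?_ ?_ ?_ h1 h2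
    · rw [E01_eq, E01_eq, E01_eq]; exact hA
    · rw [E01_eq, E01_eq]; exact ⟨hB.1, hB.2.1⟩
    · rw [E01_eq, E01_eq]; exact ⟨hC.1, hC.2.1⟩
  · right; left
    have T : Tri (0 : Fin 3) 2 1 := ⟨by decide, by decide, by decide⟩
    refine sig2_ne_bot_of_gens hI T b1 b3 a1 a2 c3 c2 hb1 hb3 ha1 hc3 ?_ ?_ ?_ h1 h2
    · rw [E02_eq, E02_eq, E02_eq]; exact hB
    · rw [E02_eq, E02_eq]; exact ⟨hA.1, hA.2.1⟩
    · rw [E02_eq, E02_eq]; exact ⟨hC.1, hC.2.2⟩
  · right; right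
    have T : Tri (1 : Fin 3) 2 0 := ⟨by decide, by decide, by decide⟩
    refine sig2_ne_bot_of_gens hI T c2 c3 a2 a1 b3 b1 hc2 hc3 ha2 hb3 ?_ ?_ ?_ h1 h2
    · rw [E12_eq, E12_eq, E12_eq]; exact hC
    · rw [E12_eq, E12_eq]; exact ⟨hA.1, hA.2.2⟩
    · rw [E12_eq, E12_eq]; exact ⟨hB.1, hB.2.2⟩

end Groth.Agent.S13438
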