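import Groth.Statements.S13439
import Groth.Agent.H43.HilbD5

set_option autoImplicit false
universe u
open W4c1hilbpn

namespace Groth.Agent.S13439

open Groth.Agent.H43.HilbT

open W4c1hilbpn in
/-- Let k be an infinite field, S = k[x,y,z], and T(I) = Hom_S(I, S/I) graded by triples of integers (a
graded piece is indexed by its multidegree; its sign pattern records which of the three entries are
negative); let I be a strongly stable ideal of finite colength (variables ordered x > y > z). Then x
lies in I if and only if the three graded pieces of T(I) whose sign pattern is negative at exactly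
two of the three variables all vanish. (The published statement phrases the right-hand side as
smoothness of the corresponding point of the Hilbert scheme of points of affine 3-space, which for a
monomial point is equivalent to this vanishing; the row records the vanishing condition, which is
what the argument establishes.) -/
theorem result (k : Type u) [Field k] [Infinite k]
    (I : Ideal (MvPolynomial (Fin 3) k)) (hI : IsStronglyStable I) [Module.Finite k (MvPolynomial (Fin 3) k ⧸ I)] :
    (MvPolynomial.X 0 : MvPolynomial (Fin 3) k) ∈ I ↔
      (sigPiece I ({1, 2} : Set (Fin 3)) = ⊥ ∧ sigPiece I ({0, 2} : Set (Fin 3)) = ⊥ ∧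
        sigPiece I ({0, 1} : Set (Fin 3)) = ⊥) := by
  have T2 : Tri (0 : Fin 3) 1 2 := ⟨by decide, by decide, by decide⟩
  have T1 : Tri (0 : Fin 3) 2 1 := ⟨by decide, by decide, by decide⟩
  have T0 : Tri (1 : Fin 3) 2 0 := ⟨by decide, by decide, by decide⟩
  have s12 : ({1, 2} : Set (Fin 3)) = {0}ᶜ := by
    ext w
    simp only [Set.mem_insert_iff, Set.mem_singleton_iff, Set.mem_compl_iff]
    revert w; decide
  have s02 : ({0, 2} : Set (Fin 3)) = {1}ᶜ := by
    ext w
    simp only [Set.mem_insert_iff, Set.mem_singleton_iff, Set.mem_compl_iff]
    revert w; decide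
  have s01 : ({0, 1} : Set (Fin 3)) = {2}ᶜ := by
    ext w
    simp only [Set.mem_insert_iff, Set.mem_singleton_iff, Set.mem_compl_iff]
    revert w; decide
  rw [s12, s02, s01]
  constructor
  · intro hX
    exact ⟨sig2_bot_of_z hI.1 T0 hX, sig2_bot_of_x hI.1 T1 hX, sig2_bot_of_x hI.1 T2 hX⟩
  · rintro ⟨-, -, h3⟩
    by_contra hX
    exact sig2_ne_bot hI T2 (by decide) (by decide) (by decide) hX h3

end Groth.Agent.S13439
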