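import Groth.Statements.S13441
import Groth.Agent.H67.Hilbpn

set_option autoImplicit false
universe u
open W4c1hilbpn

namespace Groth.Agent.S13441

open W4c1hilbpn in
/-- Let k be an infinite field, S = k[x,y,z] with variables ordered x > y > z, and I a strongly stable
ideal of finite colength, with staircase numbers b^z_{i,j} = the number of c with x^i y^j z^c
outside I and b^y_{i,j} = the number of b with x^i y^b z^j outside I. Then b^z_{i+1,j} ≤ b^z_{i,j+1}
and b^y_{i+1,j} ≤ b^y_{i,j+1} for all i and j (equivalently the maximum of the two neighbouring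
staircase numbers is the second one). -/
theorem result (k : Type u) [Field k] [Infinite k]
    (I : Ideal (MvPolynomial (Fin 3) k)) (hI : IsStronglyStable I) [Module.Finite k (MvPolynomial (Fin 3) k ⧸ I)] (i j : ℕ) :
    stairZ I (i + 1) j ≤ stairZ I i (j + 1) ∧ stairY I (i + 1) j ≤ stairY I i (j + 1) := by
  constructor
  · exact Nat.card_mono (s := {c : ℕ | e3 (i + 1) j c ∉ exps I})
      (Groth.Agent.H67.stairZ_set_finite I hI.1 i (j + 1))
      (fun c hc h => hc (Groth.Agent.H67.stable_yx hI h))
  · exact Nat.card_mono (s := {b : ℕ | e3 (i + 1) b j ∉ exps I})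
      (Groth.Agent.H67.stairY_set_finite I hI.1 i (j + 1))
      (fun b hb h => hb (Groth.Agent.H67.stable_zx hI h))

end Groth.Agent.S13441
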