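import Groth.Statements.S13444
import Groth.Agent.H71.HB1
import Groth.Agent.H71.HB2
import Groth.Agent.H71.HB3
import Groth.Agent.H71.HB5
import Groth.Agent.H71.NITChain
import Groth.Agent.H34.KunzReg

set_option autoImplicit false
universe u
open W4c1hilbpn

namespace Groth.Agent.S13444

/-- Let R be a regular local ring of Krull dimension 2 and I, J ideals of R such that R/I and R/J have
finite length. Then the length of Hom_R(I, R/J) equals the length of R/J plus the length of (I :
J)/I; here the last length is moved to the other side as the length of R/(I : J), using that I ⊆ (I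
: J) and all lengths are finite. -/
theorem result (R : Type u) [CommRing R]
    [IsRegularLocalRing R] (hdim : ringKrullDim R = 2) (I J : Ideal R)
    (hI : Module.length R (R ⧸ I) < ⊤) (hJ : Module.length R (R ⧸ J) < ⊤) :
    Module.length R (↥I →ₗ[R] (R ⧸ J)) + Module.length R (R ⧸ I.colon J) =
      Module.length R (R ⧸ J) + Module.length R (R ⧸ I) := by
  classical
  open Groth.Agent.H71.HB Groth.Agent.H71.FrobInj IsLocalRing in
  haveI : IsDomain R := Groth.Agent.H23.isDomain_of_isRegularLocalRing R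
  have hd : ringKrullDim R = ((maximalIdeal R).spanFinrank : ℕ) :=
    (IsRegularLocalRing.spanFinrank_maximalIdeal (R := R)).symm
  have hd2 : (maximalIdeal R).spanFinrank = 2 := by
    rw [hdim] at hd
    exact_mod_cast hd.symm
  have hdim' : ringKrullDim R = ((2 : ℕ) : WithBot ℕ∞) := by rw [hdim]; rfl
  obtain ⟨x, hx⟩ : ∃ x : Fin 2 → R, Ideal.span (Set.range x) = maximalIdeal R := by
    have := Groth.Agent.H34.KunzReg.exists_gens R
    rw [hd2] at this
    exact this
  have hflI : IsFiniteLength R (R ⧸ I) := Module.length_ne_top_iff.1 hI.ne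
  have hflJ : IsFiniteLength R (R ⧸ J) := Module.length_ne_top_iff.1 hJ.ne
  obtain ⟨nI, hnI⟩ := Groth.Agent.H71.NIT.exists_pow_kill_of_isFiniteLength hflI
  obtain ⟨nJ, hnJ⟩ := Groth.Agent.H71.NIT.exists_pow_kill_of_isFiniteLength hflJ
  have hmI : maximalIdeal R ^ nI ≤ I := fun a ha => by
    have := hnI a ha (Submodule.Quotient.mk 1)
    rw [← Submodule.Quotient.mk_smul, Submodule.Quotient.mk_eq_zero, smul_eq_mul, mul_one] at this
    exact this
  have hmJ : maximalIdeal R ^ nJ ≤ J := fun a ha => by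
    have := hnJ a ha (Submodule.Quotient.mk 1)
    rw [← Submodule.Quotient.mk_smul, Submodule.Quotient.mk_eq_zero, smul_eq_mul, mul_one] at this
    exact this
  obtain ⟨q, hq, hqI, hqJ⟩ : ∃ q : ℕ, 1 ≤ q ∧ nI ≤ q ∧ nJ ≤ q :=
    ⟨max (max nI nJ) 1, le_max_right _ _, le_trans (le_max_left _ _) (le_max_left _ _),
      le_trans (le_max_right _ _) (le_max_left _ _)⟩
  have hQI : powIdeal x q ≤ I :=
    le_trans (powIdeal_le_pow x hx q) (le_trans (Ideal.pow_le_pow_right hqI) hmI)
  have hQJ : powIdeal x q ≤ J :=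
    le_trans (powIdeal_le_pow x hx q) (le_trans (Ideal.pow_le_pow_right hqJ) hmJ)
  have hQeq : powIdeal x q = Ideal.span {x 0 ^ q, x 1 ^ q} := by
    unfold Groth.Agent.H71.FrobInj.powIdeal
    congr 1
    ext t
    simp only [Set.mem_range, Fin.exists_fin_two, Set.mem_insert_iff, Set.mem_singleton_iff]
    constructor
    · rintro (h | h)
      · exact Or.inl h.symm
      · exact Or.inr h.symm
    · rintro (h | h)
      · exact Or.inl h.symm
      · exact Or.inr h.symm
  obtain ⟨hreg, hK⟩ := koszul_pair hdim x hx q hq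
  have haI : x 0 ^ q ∈ I := hQI (pow_mem_powIdeal x q 0)
  have hbI : x 1 ^ q ∈ I := hQI (pow_mem_powIdeal x q 1)
  have ha0 : x 0 ^ q ≠ 0 := by
    intro h0
    have h1 : x 0 ^ q • (1 : R) = x 0 ^ q • (0 : R) := by rw [h0, zero_smul, zero_smul]
    exact one_ne_zero (hreg h1)
  have hI0 : I ≠ ⊥ := fun h => ha0 (by rw [h] at haI; exact haI)
  obtain ⟨n, m, φ, ψ, hφ, hψ, hex⟩ := exists_pres R hdim I
  have hnm := rank_rel φ ψ hφ hψ hex hI0
  have hex' : LinearMap.ker (I.subtype ∘ₗ ψ) = LinearMap.range φ := by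
    rw [← hex]
    ext v
    rw [LinearMap.mem_ker, LinearMap.mem_ker, LinearMap.comp_apply]
    constructor
    · intro h
      exact Subtype.ext h
    · intro h
      rw [h]
      rfl
  have hrange : LinearMap.range (I.subtype ∘ₗ ψ) = I := by
    rw [LinearMap.range_comp, LinearMap.range_eq_top.2 hψ, Submodule.map_top,
      Submodule.range_subtype]
  obtain ⟨u₀, h1, h2, h3⟩ := tor2 φ (I.subtype ∘ₗ ψ) hφ hex' (x 0 ^ q) (x 1 ^ q) hreg hK
    (by rw [hrange]; exact haI) (by rw [hrange]; exact hbI)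
  rw [hrange] at h3
  have key := len_colon φ (x 0 ^ q) (x 1 ^ q) I J u₀ h1 h2 h3
  have hlen := len_hom_ideal hnm φ ψ hψ hex (R ⧸ J) hJ.ne
  have hXkill : ∀ r ∈ powIdeal x q, ∀ y : (((Fin m → R) →ₗ[R] (R ⧸ J)) ⧸
      LinearMap.range (LinearMap.lcomp R (R ⧸ J) φ)), r • y = 0 := by
    intro r hr y
    obtain ⟨g, rfl⟩ := Submodule.mkQ_surjective _ y
    have : r • g = 0 := by
      refine LinearMap.ext fun v => ?_
      rw [LinearMap.smul_apply, LinearMap.zero_apply]
      obtain ⟨t, ht⟩ := Submodule.Quotient.mk_surjective J (g v)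
      rw [← ht, ← Submodule.Quotient.mk_smul, Submodule.Quotient.mk_eq_zero, smul_eq_mul]
      exact J.mul_mem_right _ (hQJ hr)
    rw [← map_smul, this, map_zero]
  have hXfl : IsFiniteLength R (((Fin m → R) →ₗ[R] (R ⧸ J)) ⧸
      LinearMap.range (LinearMap.lcomp R (R ⧸ J) φ)) := by
    rw [← Module.length_ne_top_iff]
    have h4 := len_range_coker (LinearMap.lcomp R (R ⧸ J) φ)
    rw [len_hom_free] at h4
    intro h5
    rw [h5, add_top] at h4
    exact (WithTop.mul_ne_top (ENat.natCast_ne_top m) hJ.ne) h4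
  have hdual := length_dual_powIdeal 2 hdim' x hx q hq _ hXkill hXfl
  rw [hQeq] at hdual
  rw [hlen, key, hdual, add_assoc]

end Groth.Agent.S13444
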