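import Groth.Statements.S13453
import Groth.Agent.H67.Hilbpn

set_option autoImplicit false
universe u
open W4c1hilbpn

namespace Groth.Agent.S13453

open W4c1hilbpn in
/-- Let k be an infinite field, S = k[x,y,z] with variables ordered x > y > z, and I a strongly stable
ideal of finite colength; write I_i for the ideal of polynomials f in k[y,z] with x^i f in I (so I
is the direct sum of the x^i I_i). Then each I_i is a strongly stable ideal of k[y,z] (with y > z)
and the ideal quotient (I_i : y) is contained in I_{i+1}. -/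
theorem result (k : Type u) [Field k] [Infinite k]
    (I : Ideal (MvPolynomial (Fin 3) k)) (hI : IsStronglyStable I) [Module.Finite k (MvPolynomial (Fin 3) k ⧸ I)] (i : ℕ) :
    IsStronglyStable (sliceX I i) ∧
      (sliceX I i).colon {(MvPolynomial.X 0 : MvPolynomial (Fin 2) k)} ≤ sliceX I (i + 1) := by
  have hmon := Groth.Agent.H67.sliceX_isMonomial I hI.1
  refine ⟨⟨hmon i, ?_⟩, ?_⟩
  · intro β hβ p q hpq hpos
    have hlt : p.val < q.val := hpq
    have hp2 := p.isLt
    have hq2 := q.isLt
    have hp0 : p = 0 := Fin.ext (by simp only [Fin.val_zero]; omega)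
    have hq1 : q = 1 := Fin.ext (by simp only [Fin.val_one]; omega)
    subst hp0 hq1
    rw [Groth.Agent.H67.mem_exps_sliceX] at hβ ⊢
    obtain ⟨c', hc'⟩ : ∃ c', β 1 = c' + 1 := ⟨β 1 - 1, by omega⟩
    have e0 : (β - Finsupp.single 1 1 + Finsupp.single 0 1 : Fin 2 →₀ ℕ) 0 = β 0 + 1 := by
      simp
    have e1 : (β - Finsupp.single 1 1 + Finsupp.single 0 1 : Fin 2 →₀ ℕ) 1 = c' := by
      simp [hc']
    rw [e0, e1]
    rw [hc'] at hβ
    exact Groth.Agent.H67.stable_zy hI hβ
  · intro f hf
    rw [Submodule.mem_colon_singleton, smul_eq_mul] at hf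
    apply Groth.Agent.H67.mem_of_support_subset_exps
    intro β hβ
    rw [Groth.Agent.H67.mem_exps_sliceX]
    have h1 : β + Finsupp.single 0 1 ∈ exps (sliceX I i) :=
      hmon i _ hf _ (by
        rw [MvPolynomial.mem_support_iff, MvPolynomial.coeff_mul_X]
        exact MvPolynomial.mem_support_iff.1 hβ)
    rw [Groth.Agent.H67.mem_exps_sliceX] at h1
    have e0 : (β + Finsupp.single 0 1 : Fin 2 →₀ ℕ) 0 = β 0 + 1 := by simp
    have e1 : (β + Finsupp.single 0 1 : Fin 2 →₀ ℕ) 1 = β 1 := by simp
    rw [e0, e1] at h1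
    exact Groth.Agent.H67.stable_yx hI h1

end Groth.Agent.S13453
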