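import Groth.Statements.S13454
import Mathlib

set_option autoImplicit false
universe u
open W4c1hilbpn

namespace Groth.Agent.S13454

open MvPolynomial

section general

variable {σ : Type*} {k : Type*} [Field k]

theorem quot_monomial (J : Ideal (MvPolynomial σ k)) (hJ : IsMonomial J) :
    Module.finrank k (MvPolynomial σ k ⧸ J) =
        Nat.card {β : σ →₀ ℕ // monomial β (1:k) ∉ J} ∧
    (Module.Finite k (MvPolynomial σ k ⧸ J) →
        Finite {β : σ →₀ ℕ // monomial β (1:k) ∉ J}) := by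
  classical
  set S : Set (σ →₀ ℕ) := {β | monomial β (1:k) ∉ J} with hS
  let φ : restrictSupport k S →ₗ[k] (MvPolynomial σ k ⧸ J) :=
    (Ideal.Quotient.mkₐ k J).toLinearMap.comp (restrictSupport k S).subtype
  have hφ : ∀ p : restrictSupport k S,
      φ p = Ideal.Quotient.mk J (p : MvPolynomial σ k) := fun p => rfl
  have hinj : Function.Injective φ := by
    rw [injective_iff_map_eq_zero]
    intro p hp
    rw [hφ, Ideal.Quotient.eq_zero_iff_mem] at hp
    have hsupp : (p : MvPolynomial σ k).support = ∅ := by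
      by_contra hne
      obtain ⟨β, hβ⟩ := Finset.nonempty_iff_ne_empty.mpr hne
      have h1 := hJ _ hp β hβ
      have h2 : β ∈ S := ((mem_restrictSupport_iff k).mp p.2) (Finset.mem_coe.mpr hβ)
      exact h2 h1
    apply Subtype.ext
    simpa using MvPolynomial.support_eq_empty.mp hsupp
  have hsurj : Function.Surjective φ := by
    intro q
    obtain ⟨q, rfl⟩ := Ideal.Quotient.mk_surjective q
    induction q using MvPolynomial.induction_on' with
    | monomial β c =>
      by_cases hβ : β ∈ S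
      · exact ⟨⟨monomial β c, (monomial_mem_restrictSupport k).mpr (Or.inl hβ)⟩, rfl⟩
      · refine ⟨0, ?_⟩
        have h1 : monomial β (1:k) ∈ J := not_not.mp hβ
        have h2 : monomial β c ∈ J := by
          have : monomial β c = C c * monomial β (1:k) := by rw [C_mul_monomial, mul_one]
          rw [this]; exact J.mul_mem_left _ h1
        rw [map_zero]; exact (Ideal.Quotient.eq_zero_iff_mem.mpr h2).symm
    | add p q hp hq =>
      obtain ⟨a, ha⟩ := hp
      obtain ⟨b, hb⟩ := hq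
      exact ⟨a + b, by rw [map_add, ha, hb, map_add]⟩
  let e : restrictSupport k S ≃ₗ[k] (MvPolynomial σ k ⧸ J) :=
    LinearEquiv.ofBijective φ ⟨hinj, hsurj⟩
  refine ⟨?_, ?_⟩
  · rw [← e.finrank_eq, Module.finrank_eq_nat_card_basis (basisRestrictSupport k S)]
    rfl
  · intro hfin
    exact Module.Finite.finite_basis ((basisRestrictSupport k S).map e)

end general

section three

variable {k : Type u} [Field k]

/-- exponent vector in two variables -/
noncomputable def e2 (b c : ℕ) : Fin 2 →₀ ℕ := Finsupp.single 0 b + Finsupp.single 1 c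

theorem e3_eq (a b c : ℕ) :
    e3 a b c = Finsupp.single 0 a + Finsupp.single 1 b + Finsupp.single 2 c := by
  ext i; fin_cases i <;> simp [e3]

theorem e3_self (β : Fin 3 →₀ ℕ) : e3 (β 0) (β 1) (β 2) = β := by
  ext i; fin_cases i <;> simp [e3]

theorem e2_self (γ : Fin 2 →₀ ℕ) : e2 (γ 0) (γ 1) = γ := by
  ext i; fin_cases i <;> simp [e2]

theorem e3_add (a b c a' b' c' : ℕ) :
    e3 (a + a') (b + b') (c + c') = e3 a b c + e3 a' b' c' := by
  ext i; fin_cases i <;> simp [e3]

/-- membership predicate for monomials of `I` -/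
def Mem (I : Ideal (MvPolynomial (Fin 3) k)) (a b c : ℕ) : Prop :=
  monomial (e3 a b c) (1:k) ∈ I

theorem Mem_up {I : Ideal (MvPolynomial (Fin 3) k)} {a b c : ℕ} (a' b' c' : ℕ)
    (h : Mem I a b c) : Mem I (a + a') (b + b') (c + c') := by
  unfold Mem at h ⊢
  rw [e3_add]
  have : monomial (e3 a b c + e3 a' b' c') (1:k) =
      monomial (e3 a b c) 1 * monomial (e3 a' b' c') 1 := by
    rw [monomial_mul, mul_one]
  rw [this]; exact I.mul_mem_right _ h

theorem Mem_xy {I : Ideal (MvPolynomial (Fin 3) k)} (hI : IsStronglyStable I) {a b c : ℕ}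
    (h : Mem I a (b + 1) c) : Mem I (a + 1) b c := by
  have h0 := hI.2 (e3 a (b + 1) c) h 0 1 (by decide) (by simp [e3])
  have e1 : e3 a (b + 1) c = e3 a b c + Finsupp.single 1 1 := by
    rw [e3_eq, e3_eq, Finsupp.single_add]; abel
  have e2 : e3 a b c + Finsupp.single 0 1 = e3 (a + 1) b c := by
    rw [e3_eq, e3_eq, Finsupp.single_add]; abel
  rw [e1, add_tsub_cancel_right, e2] at h0; exact h0

theorem Mem_yz {I : Ideal (MvPolynomial (Fin 3) k)} (hI : IsStronglyStable I) {a b c : ℕ}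
    (h : Mem I a b (c + 1)) : Mem I a (b + 1) c := by
  have h0 := hI.2 (e3 a b (c + 1)) h 1 2 (by decide) (by simp [e3])
  have e1 : e3 a b (c + 1) = e3 a b c + Finsupp.single 2 1 := by
    rw [e3_eq, e3_eq, Finsupp.single_add]; abel
  have e2 : e3 a b c + Finsupp.single 1 1 = e3 a (b + 1) c := by
    rw [e3_eq, e3_eq, Finsupp.single_add]; abel
  rw [e1, add_tsub_cancel_right, e2] at h0; exact h0

theorem mem_sliceX {I : Ideal (MvPolynomial (Fin 3) k)} {a : ℕ} {f : MvPolynomial (Fin 2) k} :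
    f ∈ sliceX I a ↔ rename Fin.succ f * X 0 ^ a ∈ I := by
  unfold sliceX
  rw [Ideal.mem_comap, Submodule.mem_colon_singleton]
  rfl

theorem rename_monomial_mul (γ : Fin 2 →₀ ℕ) (c : k) (a : ℕ) :
    rename Fin.succ (monomial γ c) * X 0 ^ a =
      monomial (γ.mapDomain Fin.succ + Finsupp.single 0 a) c := by
  rw [rename_monomial, X_pow_eq_monomial, monomial_mul, mul_one]

theorem up_e2 (a b c : ℕ) :
    (e2 b c).mapDomain Fin.succ + Finsupp.single 0 a = e3 a b c := by
  unfold e2
  rw [Finsupp.mapDomain_add, Finsupp.mapDomain_single, Finsupp.mapDomain_single, e3_eq]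
  have h1 : Fin.succ (0 : Fin 2) = (1 : Fin 3) := rfl
  have h2 : Fin.succ (1 : Fin 2) = (2 : Fin 3) := rfl
  rw [h1, h2]; abel

theorem monomial_mem_sliceX {I : Ideal (MvPolynomial (Fin 3) k)} (a b c : ℕ) :
    monomial (e2 b c) (1:k) ∈ sliceX I a ↔ Mem I a b c := by
  rw [mem_sliceX, rename_monomial_mul, up_e2]; rfl

theorem slice_isMonomial {I : Ideal (MvPolynomial (Fin 3) k)} (hI : IsMonomial I) (a : ℕ) :
    IsMonomial (sliceX I a) := by
  intro p hp γ hγ
  rw [mem_sliceX] at hp ⊢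
  rw [rename_monomial_mul]
  apply hI _ hp
  rw [mem_support_iff, X_pow_eq_monomial, coeff_mul_monomial, mul_one,
    coeff_rename_mapDomain _ (Fin.succ_injective _)]
  exact mem_support_iff.mp hγ

noncomputable def eq3 : (Fin 3 →₀ ℕ) ≃ ℕ × ℕ × ℕ where
  toFun β := (β 0, β 1, β 2)
  invFun q := e3 q.1 q.2.1 q.2.2
  left_inv β := e3_self β
  right_inv q := by simp [e3]

noncomputable def eq2 : (Fin 2 →₀ ℕ) ≃ ℕ × ℕ where
  toFun γ := (γ 0, γ 1)
  invFun q := e2 q.1 q.2
  left_inv γ := e2_self γ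
  right_inv q := by simp [e2]

theorem colength3 {I : Ideal (MvPolynomial (Fin 3) k)} (hI : IsMonomial I) :
    Module.finrank k (MvPolynomial (Fin 3) k ⧸ I) =
      Nat.card {q : ℕ × ℕ × ℕ // ¬ Mem I q.1 q.2.1 q.2.2} := by
  rw [(quot_monomial I hI).1]
  refine Nat.card_congr (eq3.subtypeEquiv ?_)
  intro β
  show monomial β (1:k) ∉ I ↔ ¬ Mem I (β 0) (β 1) (β 2)
  unfold Mem; rw [e3_self]

theorem finite3 {I : Ideal (MvPolynomial (Fin 3) k)} (hI : IsMonomial I)
    [Module.Finite k (MvPolynomial (Fin 3) k ⧸ I)] :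
    Finite {q : ℕ × ℕ × ℕ // ¬ Mem I q.1 q.2.1 q.2.2} := by
  have h1 : Finite {β : Fin 3 →₀ ℕ // monomial β (1:k) ∉ I} :=
    (quot_monomial I hI).2 inferInstance
  refine Finite.of_equiv {β : Fin 3 →₀ ℕ // monomial β (1:k) ∉ I} (eq3.subtypeEquiv ?_)
  intro β
  show monomial β (1:k) ∉ I ↔ ¬ Mem I (β 0) (β 1) (β 2)
  unfold Mem; rw [e3_self]

theorem colength2 {I : Ideal (MvPolynomial (Fin 3) k)} (hI : IsMonomial I) (a : ℕ) :
    Module.finrank k (MvPolynomial (Fin 2) k ⧸ sliceX I a) =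
      Nat.card {q : ℕ × ℕ // ¬ Mem I a q.1 q.2} := by
  rw [(quot_monomial (sliceX I a) (slice_isMonomial hI a)).1]
  refine Nat.card_congr (eq2.subtypeEquiv ?_)
  intro γ
  show monomial γ (1:k) ∉ sliceX I a ↔ ¬ Mem I a (γ 0) (γ 1)
  rw [← monomial_mem_sliceX, e2_self]

theorem eq_pow_of_Mem {I : Ideal (MvPolynomial (Fin 3) k)} (hI : IsMonomial I) (r : ℕ)
    (h : ∀ a b c, Mem I a b c ↔ r ≤ a + b + c) :
    I = (Ideal.span (Set.range (X : Fin 3 → MvPolynomial (Fin 3) k))) ^ r := by
  have hmon : ∀ β : Fin 3 →₀ ℕ, monomial β (1:k) ∈ I ↔ r ≤ Finsupp.degree β := by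
    intro β
    have := h (β 0) (β 1) (β 2)
    unfold Mem at this; rw [e3_self] at this
    rw [this, Finsupp.degree_eq_sum, Fin.sum_univ_three]
  ext p
  rw [show Ideal.span (Set.range (X : Fin 3 → MvPolynomial (Fin 3) k)) =
    idealOfVars (Fin 3) k from rfl, mem_pow_idealOfVars_iff]
  constructor
  · intro hp β hβ
    exact (hmon β).mp (hI p hp β hβ)
  · intro hp
    rw [← support_sum_monomial_coeff p]
    refine I.sum_mem (fun β hβ => ?_)
    have h1 := (hmon β).mpr (hp β hβ)
    have : monomial β (coeff β p) = C (coeff β p) * monomial β (1:k) := by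
      rw [C_mul_monomial, mul_one]
    rw [this]; exact I.mul_mem_left _ h1

end three

section comb

/-- stability package -/
structure Stab (M : ℕ → ℕ → ℕ → Prop) : Prop where
  up : ∀ {a b c : ℕ} (a' b' c' : ℕ), M a b c → M (a + a') (b + b') (c + c')
  xy : ∀ {a b c : ℕ}, M a (b + 1) c → M (a + 1) b c
  yz : ∀ {a b c : ℕ}, M a b (c + 1) → M a (b + 1) c

variable {M : ℕ → ℕ → ℕ → Prop}

theorem Stab.yz_iter (h : Stab M) (a : ℕ) : ∀ b c : ℕ, M a 0 (b + c) → M a b c := by
  intro b
  induction b with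
  | zero => intro c hc; simpa using hc
  | succ b ih =>
    intro c hc
    have h1 : M a 0 (b + (c + 1)) := by
      have e : b + 1 + c = b + (c + 1) := by omega
      rwa [e] at hc
    exact h.yz (ih (c + 1) h1)

theorem Stab.yz_iter2 (h : Stab M) (a : ℕ) : ∀ c b : ℕ, M a b c → M a (b + c) 0 := by
  intro c
  induction c with
  | zero => intro b hb; simpa using hb
  | succ c ih =>
    intro b hb
    have h1 := ih (b + 1) (h.yz hb)
    have e : b + 1 + c = b + (c + 1) := by omega
    rwa [e] at h1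

theorem Stab.xy_iter (h : Stab M) : ∀ b a : ℕ, M a b 0 → M (a + b) 0 0 := by
  intro b
  induction b with
  | zero => intro a ha; simpa using ha
  | succ b ih =>
    intro a ha
    have h1 := ih (a + 1) (h.xy ha)
    have e : a + 1 + b = a + (b + 1) := by omega
    rwa [e] at h1

theorem ch2 (t : ℕ) : Nat.choose (t + 2) 2 = Nat.choose (t + 1) 2 + (t + 1) := by
  show Nat.choose (t + 1 + 1) (1 + 1) = Nat.choose (t + 1) (1 + 1) + (t + 1)
  rw [Nat.choose_succ_succ', Nat.choose_one_right]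
  omega

theorem ch3 (t : ℕ) : Nat.choose (t + 3) 3 = Nat.choose (t + 2) 3 + Nat.choose (t + 2) 2 := by
  show Nat.choose (t + 2 + 1) (2 + 1) = Nat.choose (t + 2) (2 + 1) + Nat.choose (t + 2) 2
  rw [Nat.choose_succ_succ']
  omega

/-- the triangle `{(b,c) : b + c < t}` -/
def tri (t : ℕ) : Finset (ℕ × ℕ) :=
  (Finset.range t ×ˢ Finset.range t).filter (fun q => q.1 + q.2 < t)

theorem mem_tri {t : ℕ} {q : ℕ × ℕ} : q ∈ tri t ↔ q.1 + q.2 < t := by
  unfold tri
  rw [Finset.mem_filter, Finset.mem_product, Finset.mem_range, Finset.mem_range]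
  omega

theorem card_tri (t : ℕ) : (tri t).card = Nat.choose (t + 1) 2 := by
  induction t with
  | zero =>
    have : tri 0 = ∅ := by
      ext q; rw [mem_tri]; simp
    rw [this]; rfl
  | succ t ih =>
    have h1 : tri (t + 1) = tri t ∪ Finset.HasAntidiagonal.antidiagonal t := by
      ext q
      rw [Finset.mem_union, mem_tri, mem_tri, Finset.HasAntidiagonal.mem_antidiagonal]
      omega
    have h2 : Disjoint (tri t) (Finset.HasAntidiagonal.antidiagonal t) := by
      rw [Finset.disjoint_left]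
      intro q hq hq'
      rw [mem_tri] at hq
      rw [Finset.HasAntidiagonal.mem_antidiagonal] at hq'
      omega
    rw [h1, Finset.card_union_of_disjoint h2, ih, Finset.Nat.card_antidiagonal, ch2]

theorem hockey (r : ℕ) :
    ∑ i ∈ Finset.range r, Nat.choose (r - i + 1) 2 = Nat.choose (r + 2) 3 := by
  have h1 : ∀ n : ℕ, ∑ s ∈ Finset.range n, Nat.choose (s + 2) 2 = Nat.choose (n + 2) 3 := by
    intro n
    induction n with
    | zero => rfl
    | succ n ih =>
      rw [Finset.sum_range_succ, ih, ch3]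
  rw [← h1 r, ← Finset.sum_range_reflect (fun s => Nat.choose (s + 2) 2) r]
  refine Finset.sum_congr rfl (fun i hi => ?_)
  have := Finset.mem_range.mp hi
  have e : r - 1 - i + 2 = r - i + 1 := by omega
  show Nat.choose (r - i + 1) 2 = Nat.choose (r - 1 - i + 2) 2
  rw [e]

open Classical in
/-- slices of the complement -/
noncomputable def sl (M : ℕ → ℕ → ℕ → Prop) (T3 : Finset (ℕ × ℕ × ℕ)) (i : ℕ) : Finset (ℕ × ℕ) :=
  (T3.image Prod.snd).filter (fun q => ¬ M i q.1 q.2)

theorem mem_sl {T3 : Finset (ℕ × ℕ × ℕ)} (hT : ∀ q, q ∈ T3 ↔ ¬ M q.1 q.2.1 q.2.2)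
    {i : ℕ} {q : ℕ × ℕ} : q ∈ sl M T3 i ↔ ¬ M i q.1 q.2 := by
  classical
  unfold sl
  rw [Finset.mem_filter, Finset.mem_image]
  constructor
  · intro h; exact h.2
  · intro h
    exact ⟨⟨(i, q), (hT (i, q)).mpr h, rfl⟩, h⟩

theorem total_le {T3 : Finset (ℕ × ℕ × ℕ)} (hT : ∀ q, q ∈ T3 ↔ ¬ M q.1 q.2.1 q.2.2) (r : ℕ) :
    ∑ i ∈ Finset.range r, (sl M T3 i).card ≤ T3.card := by
  classical
  rw [← Finset.card_sigma]
  apply Finset.card_le_card_of_injOn (fun x : (Σ _ : ℕ, ℕ × ℕ) => (x.1, x.2.1, x.2.2))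
  · intro x hx
    rw [Finset.mem_coe, Finset.mem_sigma] at hx
    rw [Finset.mem_coe]
    exact (hT _).mpr ((mem_sl hT).mp hx.2)
  · intro x _ y _ hxy
    obtain ⟨x1, x2, x3⟩ := x
    obtain ⟨y1, y2, y3⟩ := y
    simp only [Prod.mk.injEq] at hxy
    obtain ⟨rfl, rfl, rfl⟩ := hxy
    rfl

theorem growth (hS : Stab M) {T3 : Finset (ℕ × ℕ × ℕ)}
    (hT : ∀ q, q ∈ T3 ↔ ¬ M q.1 q.2.1 q.2.2) (i t : ℕ) (ht : 1 ≤ t)
    (h : Nat.choose (t + 1) 2 ≤ (sl M T3 (i + 1)).card) :
    Nat.choose (t + 2) 2 ≤ (sl M T3 i).card := by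
  classical
  set A := sl M T3 (i + 1) with hA
  set A' := sl M T3 i with hA'
  set Z := A.filter (fun q => q.1 = 0) with hZ
  have hpos : 0 < Nat.choose (t + 1) 2 := Nat.choose_pos (by omega)
  have hne : A.Nonempty := Finset.card_pos.mp (by omega)
  -- A ⊆ triangle of size |Z|
  have hAsub : A ⊆ tri Z.card := by
    intro q hq
    rw [mem_tri]
    have hq' : ¬ M (i + 1) q.1 q.2 := (mem_sl hT).mp hq
    have h0 : ∀ c', c' ≤ q.1 + q.2 → ((0, c') : ℕ × ℕ) ∈ Z := by
      intro c' hc'
      rw [hZ, Finset.mem_filter]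
      refine ⟨(mem_sl hT).mpr ?_, rfl⟩
      intro hM
      apply hq'
      have h1 := hS.up 0 0 (q.1 + q.2 - c') hM
      have e : c' + (q.1 + q.2 - c') = q.1 + q.2 := by omega
      simp only [Nat.add_zero] at h1
      rw [e] at h1
      exact hS.yz_iter (i + 1) q.1 q.2 h1
    have h1 : (Finset.range (q.1 + q.2 + 1)).image (fun c' => ((0, c') : ℕ × ℕ)) ⊆ Z := by
      intro x hx
      obtain ⟨c', hc', rfl⟩ := Finset.mem_image.mp hx
      exact h0 c' (by have := Finset.mem_range.mp hc'; omega)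
    have h2 := Finset.card_le_card h1
    rw [Finset.card_image_of_injective _ (fun a b hab => by simpa using hab),
      Finset.card_range] at h2
    omega
  have hcardA : A.card ≤ Nat.choose (Z.card + 1) 2 :=
    (Finset.card_le_card hAsub).trans_eq (card_tri _)
  have hZt : t ≤ Z.card := by
    by_contra hcon
    obtain ⟨s, rfl⟩ : ∃ s, t = s + 1 := ⟨t - 1, by omega⟩
    have h1 : Nat.choose (Z.card + 1) 2 ≤ Nat.choose (s + 1) 2 :=
      Nat.choose_le_choose 2 (by omega)
    have h2 : Nat.choose (s + 1 + 1) 2 = Nat.choose (s + 1) 2 + (s + 1) := ch2 s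
    omega
  -- three disjoint pieces inside A'
  set B1 := A.image (fun q : ℕ × ℕ => ((q.1 + 1, q.2) : ℕ × ℕ)) with hB1
  set B2 := Z.image (fun q : ℕ × ℕ => ((0, q.2 + 1) : ℕ × ℕ)) with hB2
  have hB1sub : B1 ⊆ A' := by
    intro x hx
    obtain ⟨q, hq, rfl⟩ := Finset.mem_image.mp hx
    have hq' : ¬ M (i + 1) q.1 q.2 := (mem_sl hT).mp hq
    exact (mem_sl hT).mpr (fun hM => hq' (hS.xy hM))
  have hB2sub : B2 ⊆ A' := by
    intro x hx
    obtain ⟨q, hq, rfl⟩ := Finset.mem_image.mp hx
    rw [hZ, Finset.mem_filter] at hq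
    have hq' : ¬ M (i + 1) q.1 q.2 := (mem_sl hT).mp hq.1
    refine (mem_sl hT).mpr (fun hM => hq' ?_)
    have h1 : M (i + 1) 0 q.2 := hS.xy (hS.yz hM)
    rw [hq.2]; exact h1
  have hB3sub : ({((0, 0) : ℕ × ℕ)} : Finset (ℕ × ℕ)) ⊆ A' := by
    intro x hx
    rw [Finset.mem_singleton] at hx
    subst hx
    obtain ⟨q, hq⟩ := hne
    have hq' : ¬ M (i + 1) q.1 q.2 := (mem_sl hT).mp hq
    refine (mem_sl hT).mpr (fun hM => hq' ?_)
    have h1 := hS.up 1 q.1 q.2 hM
    simpa using h1
  have hcB1 : B1.card = A.card := by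
    rw [hB1]
    apply Finset.card_image_of_injective
    intro a b hab
    simp only [Prod.mk.injEq] at hab
    exact Prod.ext (by omega) hab.2
  have hcB2 : B2.card = Z.card := by
    rw [hB2]
    apply Finset.card_image_of_injOn
    intro a ha b hb hab
    rw [Finset.mem_coe, hZ, Finset.mem_filter] at ha hb
    simp only [Prod.mk.injEq] at hab
    exact Prod.ext (by omega) (by omega)
  have hd12 : Disjoint B1 B2 := by
    rw [Finset.disjoint_left]
    intro x hx1 hx2
    obtain ⟨q, _, rfl⟩ := Finset.mem_image.mp hx1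
    obtain ⟨q', _, hq'⟩ := Finset.mem_image.mp hx2
    simp only [Prod.mk.injEq] at hq'
    omega
  have hd3 : Disjoint (B1 ∪ B2) ({((0, 0) : ℕ × ℕ)} : Finset (ℕ × ℕ)) := by
    rw [Finset.disjoint_singleton_right, Finset.mem_union]
    rintro (hx | hx)
    · obtain ⟨q, _, hq⟩ := Finset.mem_image.mp hx
      simp only [Prod.mk.injEq] at hq
      omega
    · obtain ⟨q, _, hq⟩ := Finset.mem_image.mp hx
      simp only [Prod.mk.injEq] at hq
      omega
  have hunion : (B1 ∪ B2 ∪ {((0, 0) : ℕ × ℕ)}).card ≤ A'.card :=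
    Finset.card_le_card (Finset.union_subset (Finset.union_subset hB1sub hB2sub) hB3sub)
  rw [Finset.card_union_of_disjoint hd3, Finset.card_union_of_disjoint hd12, hcB1, hcB2,
    Finset.card_singleton] at hunion
  have h2 := ch2 t
  omega

theorem part1_arith (d c : ℕ → ℕ) (r : ℕ)
    (htot : ∑ i ∈ Finset.range r, d i ≤ ∑ i ∈ Finset.range r, c i)
    (hFC : ∀ i, i + 1 < r → c (i + 1) ≤ d (i + 1) → c i ≤ d i) :
    ∀ j, j ≤ r → ∑ i ∈ Finset.Ico j r, d i ≤ ∑ i ∈ Finset.Ico j r, c i := by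
  have hFC' : ∀ n i0, i0 < r → c i0 ≤ d i0 → ∀ i, i + n = i0 → c i ≤ d i := by
    intro n
    induction n with
    | zero =>
      intro i0 _ h2 i hi
      have : i = i0 := by omega
      subst this; exact h2
    | succ n ih =>
      intro i0 h1 h2 i hi
      have h3 := ih i0 h1 h2 (i + 1) (by omega)
      exact hFC i (by omega) h3
  intro j hj
  by_cases hall : ∀ i ∈ Finset.Ico j r, d i ≤ c i
  · exact Finset.sum_le_sum hall
  · obtain ⟨i0, hi0, hlt⟩ : ∃ i0 ∈ Finset.Ico j r, c i0 < d i0 := by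
      by_contra hcon
      apply hall
      intro i hi
      by_contra hlt
      exact hcon ⟨i, hi, not_le.mp hlt⟩
    have hi0' := Finset.mem_Ico.mp hi0
    have h1 : ∑ i ∈ Finset.range j, c i ≤ ∑ i ∈ Finset.range j, d i := by
      refine Finset.sum_le_sum (fun i hi => ?_)
      have := Finset.mem_range.mp hi
      exact hFC' (i0 - i) i0 hi0'.2 hlt.le i (by omega)
    have h2 := Finset.sum_range_add_sum_Ico d hj
    have h3 := Finset.sum_range_add_sum_Ico c hj
    omega

theorem main_comb (hS : Stab M) {T3 : Finset (ℕ × ℕ × ℕ)}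
    (hT : ∀ q, q ∈ T3 ↔ ¬ M q.1 q.2.1 q.2.2) (r : ℕ)
    (hcard : T3.card ≤ Nat.choose (r + 2) 3) :
    (∀ j, j ≤ r → ∑ i ∈ Finset.Ico j r, (sl M T3 i).card ≤
        ∑ i ∈ Finset.Ico j r, Nat.choose (r - i + 1) 2) ∧
    ((∀ j, j < r → ∑ i ∈ Finset.Ico j r, (sl M T3 i).card =
        ∑ i ∈ Finset.Ico j r, Nat.choose (r - i + 1) 2) →
      ∀ a b c, M a b c ↔ r ≤ a + b + c) := by
  classical
  refine ⟨?_, ?_⟩
  · apply part1_arith (fun i => (sl M T3 i).card) (fun i => Nat.choose (r - i + 1) 2) r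
    · calc ∑ i ∈ Finset.range r, (sl M T3 i).card ≤ T3.card := total_le hT r
        _ ≤ Nat.choose (r + 2) 3 := hcard
        _ = ∑ i ∈ Finset.range r, Nat.choose (r - i + 1) 2 := (hockey r).symm
    · intro i hi h
      have h1 : Nat.choose (r - (i + 1) + 1) 2 ≤ (sl M T3 (i + 1)).card := h
      have h2 := growth hS hT i (r - (i + 1)) (by omega) h1
      have e : r - (i + 1) + 2 = r - i + 1 := by omega
      rw [e] at h2
      exact h2
  · intro heq
    rcases r with _ | r
    · have h0 : Nat.choose (0 + 2) 3 = 0 := rfl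
      have hempty : T3 = ∅ := Finset.card_eq_zero.mp (by omega)
      intro a b c
      constructor
      · intro _; omega
      · intro _
        by_contra hM
        have : ((a, b, c) : ℕ × ℕ × ℕ) ∈ T3 := (hT (a, b, c)).mpr hM
        rw [hempty] at this
        exact absurd this (Finset.notMem_empty _)
    · have h1 := heq r (by omega)
      rw [Nat.Ico_succ_singleton, Finset.sum_singleton, Finset.sum_singleton] at h1
      have h2 : (sl M T3 r).card = 1 := by
        rw [h1]
        have e : r + 1 - r + 1 = 2 := by omega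
        rw [e]; rfl
      obtain ⟨q, hq⟩ := Finset.card_pos.mp (by omega : 0 < (sl M T3 r).card)
      have hq' : ¬ M r q.1 q.2 := (mem_sl hT).mp hq
      have h00 : ¬ M r 0 0 := by
        intro h
        apply hq'
        have := hS.up 0 q.1 q.2 h
        simpa using this
      have hlow : ∀ a b c, a + b + c < r + 1 → ¬ M a b c := by
        intro a b c hlt hM
        have h3 := hS.xy_iter _ _ (hS.yz_iter2 a c b hM)
        apply h00
        have h4 := hS.up (r - (a + (b + c))) 0 0 h3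
        have e : a + (b + c) + (r - (a + (b + c))) = r := by omega
        rw [e] at h4
        simpa using h4
      set U := (Finset.range (r + 1)).sigma (fun i => tri (r + 1 - i)) with hU
      let f : (Σ _ : ℕ, ℕ × ℕ) → ℕ × ℕ × ℕ := fun x => (x.1, x.2.1, x.2.2)
      have hfinj : Function.Injective f := by
        intro x y hxy
        obtain ⟨x1, x2, x3⟩ := x
        obtain ⟨y1, y2, y3⟩ := y
        simp only [f, Prod.mk.injEq] at hxy
        obtain ⟨rfl, rfl, rfl⟩ := hxy
        rfl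
      have hsub : U.image f ⊆ T3 := by
        intro q hq
        obtain ⟨x, hx, rfl⟩ := Finset.mem_image.mp hq
        rw [hU, Finset.mem_sigma, Finset.mem_range, mem_tri] at hx
        refine (hT _).mpr (hlow _ _ _ ?_)
        show x.1 + x.2.1 + x.2.2 < r + 1
        omega
      have hcardU : (U.image f).card = Nat.choose (r + 1 + 2) 3 := by
        rw [Finset.card_image_of_injective _ hfinj, hU, Finset.card_sigma, ← hockey (r + 1)]
        exact Finset.sum_congr rfl (fun i _ => card_tri _)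
      have hEq : U.image f = T3 :=
        Finset.eq_of_subset_of_card_le hsub (by rw [hcardU]; exact hcard)
      intro a b c
      constructor
      · intro hM
        by_contra hlt
        exact hlow a b c (by omega) hM
      · intro hge
        by_contra hM
        have hmem : ((a, b, c) : ℕ × ℕ × ℕ) ∈ T3 := (hT _).mpr hM
        rw [← hEq] at hmem
        obtain ⟨x, hx, hfx⟩ := Finset.mem_image.mp hmem
        rw [hU, Finset.mem_sigma, Finset.mem_range, mem_tri] at hx
        have e1 : x.1 = a := congrArg Prod.fst hfx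
        have e2 : x.2.1 = b := congrArg (fun q : ℕ × ℕ × ℕ => q.2.1) hfx
        have e3 : x.2.2 = c := congrArg (fun q : ℕ × ℕ × ℕ => q.2.2) hfx
        omega

end comb


open W4c1hilbpn in
/-- Let k be an infinite field, S = k[x,y,z] with variables ordered x > y > z and irrelevant ideal m, r
a natural number, and I a strongly stable ideal of colength at most C(r+2, 3) = dim S/m^r; write I_i
for the ideal of polynomials f in k[y,z] with x^i f in I. Then for every j ≤ r the sum over j ≤ i <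
r of dim k[y,z]/I_i is at most the sum over the same i of C(r-i+1, 2) = dim k[y,z]/(y,z)^{r-i}, and
if equality holds for every j < r then I = m^r. -/
theorem result (k : Type u) [Field k] [Infinite k] (r : ℕ)
    (I : Ideal (MvPolynomial (Fin 3) k)) (hI : IsStronglyStable I) [Module.Finite k (MvPolynomial (Fin 3) k ⧸ I)]
    (hd : Module.finrank k (MvPolynomial (Fin 3) k ⧸ I) ≤ Nat.choose (r + 2) 3) :
    (∀ j, j ≤ r → ∑ i ∈ Finset.Ico j r, Module.finrank k (MvPolynomial (Fin 2) k ⧸ sliceX I i) ≤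
        ∑ i ∈ Finset.Ico j r, Nat.choose (r - i + 1) 2) ∧
    ((∀ j, j < r → ∑ i ∈ Finset.Ico j r, Module.finrank k (MvPolynomial (Fin 2) k ⧸ sliceX I i) =
        ∑ i ∈ Finset.Ico j r, Nat.choose (r - i + 1) 2) → I = (Ideal.span (Set.range (MvPolynomial.X : Fin 3 → MvPolynomial (Fin 3) k))) ^ r) := by
  classical
  have hS : Stab (Mem I) :=
    ⟨fun a' b' c' h => Mem_up a' b' c' h, fun h => Mem_xy hI h, fun h => Mem_yz hI h⟩
  have hF := finite3 (I := I) hI.1
  have hfin : Set.Finite {q : ℕ × ℕ × ℕ | ¬ Mem I q.1 q.2.1 q.2.2} :=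
    Set.finite_coe_iff.mp hF
  set T3 : Finset (ℕ × ℕ × ℕ) := hfin.toFinset with hT3
  have hT : ∀ q, q ∈ T3 ↔ ¬ Mem I q.1 q.2.1 q.2.2 := by
    intro q
    rw [hT3, Set.Finite.mem_toFinset]
    rfl
  have hcardT : T3.card = Module.finrank k (MvPolynomial (Fin 3) k ⧸ I) := by
    rw [colength3 hI.1]
    exact (Nat.subtype_card T3 hT).symm
  have hslice : ∀ i, Module.finrank k (MvPolynomial (Fin 2) k ⧸ sliceX I i) =
      (sl (Mem I) T3 i).card := by
    intro i
    rw [colength2 hI.1 i]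
    exact Nat.subtype_card (sl (Mem I) T3 i) (fun q => mem_sl hT)
  have hmain := main_comb hS hT r (by rw [hcardT]; exact hd)
  simp only [hslice]
  refine ⟨hmain.1, fun heq => ?_⟩
  exact eq_pow_of_Mem hI.1 r (hmain.2 heq)

end Groth.Agent.S13454
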