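import Groth.Statements.S13455
import Mathlib

set_option autoImplicit false
universe u
open W4c1hilbpn

namespace Groth.Agent.S13455

/-- Let k be an algebraically closed field of characteristic different from 2, k0 ≥ 1 and n ≥ 2k0 - 1
natural numbers, S = k[x_0, ..., x_n], and e1 ≤ e2 ≤ k0 - 1. The ideal generated by all products x_p
x_q with e1 ≤ p, q ≤ e2 together with the products x_p x_{n-k0+1+q} for e1 ≤ p < q ≤ e2 is the
intersection, over j from e1 to e2, of the ideals generated by the variables x_i with e1 ≤ i ≤ e2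
and i ≠ j, the square x_j^2, and the variables x_{n-k0+1+q} for j < q ≤ e2 (a primary decomposition
of this monomial ideal). -/
theorem result (k : Type u) [Field k] [IsAlgClosed k] (hchar : ringChar k ≠ 2)
    (n k0 e1 e2 : ℕ) (hk : 1 ≤ k0) (hn : 2 * k0 ≤ n + 1) (he : e1 ≤ e2) (he2 : e2 + 1 ≤ k0) :
    Ideal.span ({f : MvPolynomial (Fin (n + 1)) k | ∃ p q : Fin (n + 1), e1 ≤ p.val ∧ p.val ≤ e2 ∧ e1 ≤ q.val ∧ q.val ≤ e2 ∧
        f = MvPolynomial.X p * MvPolynomial.X q} ∪
      {f : MvPolynomial (Fin (n + 1)) k | ∃ p q m : Fin (n + 1), e1 ≤ p.val ∧ p.val < q.val ∧ q.val ≤ e2 ∧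
        m.val + k0 = n + 1 + q.val ∧ f = MvPolynomial.X p * MvPolynomial.X m}) =
    ⨅ j : Fin (n + 1), ⨅ (_ : e1 ≤ j.val ∧ j.val ≤ e2),
      Ideal.span ({f : MvPolynomial (Fin (n + 1)) k | ∃ i : Fin (n + 1), e1 ≤ i.val ∧ i.val ≤ e2 ∧ i ≠ j ∧ f = MvPolynomial.X i} ∪
        {MvPolynomial.X j ^ 2} ∪
        {f : MvPolynomial (Fin (n + 1)) k | ∃ q m : Fin (n + 1), j.val < q.val ∧ q.val ≤ e2 ∧ m.val + k0 = n + 1 + q.val ∧
          f = MvPolynomial.X m}) := by
  classical
  have key_le : ∀ (a b : Fin (n + 1)) (m : Fin (n + 1) →₀ ℕ), (a ≠ b → 1 ≤ m a ∧ 1 ≤ m b) →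
      (a = b → 2 ≤ m a) → Finsupp.single a 1 + Finsupp.single b 1 ≤ m := by
    intro a b m h1 h2
    rw [Finsupp.le_def]
    intro i
    rw [Finsupp.add_apply, Finsupp.single_apply, Finsupp.single_apply]
    by_cases hab : a = b
    · subst hab
      have h3 := h2 rfl
      by_cases hai : a = i
      · rw [if_pos hai]; subst hai; omega
      · rw [if_neg hai]; omega
    · obtain ⟨ha, hb⟩ := h1 hab
      by_cases hai : a = i
      · by_cases hbi : b = i
        · exact absurd (hai.trans hbi.symm) hab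
        · rw [if_pos hai, if_neg hbi]; subst hai; omega
      · by_cases hbi : b = i
        · rw [if_neg hai, if_pos hbi]; subst hbi; omega
        · rw [if_neg hai, if_neg hbi]; omega
  apply le_antisymm
  · refine le_iInf (fun j => le_iInf (fun hj => ?_))
    rw [Ideal.span_le]
    rintro f (⟨p, q, hp1, hp2, hq1, hq2, rfl⟩ | ⟨p, q, m, hp1, hpq, hq2, hm, rfl⟩)
    · by_cases hpj : p = j
      · by_cases hqj : q = j
        · rw [hpj, hqj, ← sq]
          exact Ideal.subset_span (Or.inl (Or.inr rfl))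
        · exact Ideal.mul_mem_left _ _
            (Ideal.subset_span (Or.inl (Or.inl ⟨q, hq1, hq2, hqj, rfl⟩)))
      · exact Ideal.mul_mem_right _ _
          (Ideal.subset_span (Or.inl (Or.inl ⟨p, hp1, hp2, hpj, rfl⟩)))
    · by_cases hpj : p = j
      · rw [hpj] at hpq
        exact Ideal.mul_mem_left _ _ (Ideal.subset_span (Or.inr ⟨q, m, hpq, hq2, hm, rfl⟩))
      · exact Ideal.mul_mem_right _ _
          (Ideal.subset_span (Or.inl (Or.inl ⟨p, hp1, by omega, hpj, rfl⟩)))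
  · intro f hf
    rw [Ideal.mem_iInf] at hf
    have hsupp : ∀ j : Fin (n + 1), (e1 ≤ j.val ∧ j.val ≤ e2) → ∀ m ∈ f.support,
        (∃ i : Fin (n + 1), e1 ≤ i.val ∧ i.val ≤ e2 ∧ i ≠ j ∧ 1 ≤ m i) ∨ 2 ≤ m j ∨
        (∃ q mm : Fin (n + 1), j.val < q.val ∧ q.val ≤ e2 ∧ mm.val + k0 = n + 1 + q.val ∧
          1 ≤ m mm) := by
      intro j hj
      have hfj := hf j
      rw [Ideal.mem_iInf] at hfj
      have hfj' := hfj hj
      let S : Set (Fin (n + 1) →₀ ℕ) := {s |
        (∃ i : Fin (n + 1), e1 ≤ i.val ∧ i.val ≤ e2 ∧ i ≠ j ∧ s = Finsupp.single i 1) ∨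
        s = Finsupp.single j 2 ∨
        (∃ q mm : Fin (n + 1), j.val < q.val ∧ q.val ≤ e2 ∧ mm.val + k0 = n + 1 + q.val ∧
          s = Finsupp.single mm 1)}
      have hle : Ideal.span ({f : MvPolynomial (Fin (n + 1)) k | ∃ i : Fin (n + 1), e1 ≤ i.val ∧ i.val ≤ e2 ∧ i ≠ j ∧ f = MvPolynomial.X i} ∪
          {MvPolynomial.X j ^ 2} ∪
          {f : MvPolynomial (Fin (n + 1)) k | ∃ q m : Fin (n + 1), j.val < q.val ∧ q.val ≤ e2 ∧ m.val + k0 = n + 1 + q.val ∧
            f = MvPolynomial.X m}) ≤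
          Ideal.span ((fun s => MvPolynomial.monomial s (1:k)) '' S) := by
        rw [Ideal.span_le]
        rintro g ((⟨i, hi1, hi2, hij, rfl⟩ | hg) | ⟨q, mm, hq1, hq2, hmm, rfl⟩)
        · exact Ideal.subset_span ⟨Finsupp.single i 1, Or.inl ⟨i, hi1, hi2, hij, rfl⟩, rfl⟩
        · rw [Set.mem_singleton_iff] at hg
          subst hg
          exact Ideal.subset_span ⟨Finsupp.single j 2, Or.inr (Or.inl rfl),
            (MvPolynomial.X_pow_eq_monomial).symm⟩
        · exact Ideal.subset_span ⟨Finsupp.single mm 1,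
            Or.inr (Or.inr ⟨q, mm, hq1, hq2, hmm, rfl⟩), rfl⟩
      have hmem := MvPolynomial.mem_ideal_span_monomial_image.mp (hle hfj')
      intro m hm
      obtain ⟨s, hs, hsm⟩ := hmem m hm
      rcases hs with ⟨i, hi1, hi2, hij, rfl⟩ | rfl | ⟨q, mm, hq1, hq2, hmm, rfl⟩
      · refine Or.inl ⟨i, hi1, hi2, hij, ?_⟩
        have := Finsupp.le_def.mp hsm i
        rwa [Finsupp.single_eq_same] at this
      · refine Or.inr (Or.inl ?_)
        have := Finsupp.le_def.mp hsm j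
        rwa [Finsupp.single_eq_same] at this
      · refine Or.inr (Or.inr ⟨q, mm, hq1, hq2, hmm, ?_⟩)
        have := Finsupp.le_def.mp hsm mm
        rwa [Finsupp.single_eq_same] at this
    rw [← f.support_sum_monomial_coeff]
    refine Ideal.sum_mem _ (fun m hm => ?_)
    obtain ⟨a, b, hgen, hle⟩ : ∃ a b : Fin (n + 1),
        ((MvPolynomial.X a * MvPolynomial.X b : MvPolynomial (Fin (n + 1)) k) ∈
          ({f : MvPolynomial (Fin (n + 1)) k | ∃ p q : Fin (n + 1), e1 ≤ p.val ∧ p.val ≤ e2 ∧ e1 ≤ q.val ∧ q.val ≤ e2 ∧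
            f = MvPolynomial.X p * MvPolynomial.X q} ∪
          {f : MvPolynomial (Fin (n + 1)) k | ∃ p q m : Fin (n + 1), e1 ≤ p.val ∧ p.val < q.val ∧ q.val ≤ e2 ∧
            m.val + k0 = n + 1 + q.val ∧ f = MvPolynomial.X p * MvPolynomial.X m})) ∧
        Finsupp.single a 1 + Finsupp.single b 1 ≤ m := by
      have hj0 : e2 < n + 1 := by omega
      have h0 := hsupp ⟨e2, hj0⟩ ⟨he, le_refl _⟩ m hm
      rcases h0 with ⟨i, hi1, hi2, hij, hmi⟩ | h2 | ⟨q, mm, hq1, hq2, _, _⟩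
      · have h1 := hsupp i ⟨hi1, hi2⟩ m hm
        rcases h1 with ⟨i', hi'1, hi'2, hi'i, hmi'⟩ | h2 | ⟨q, mm, hq1, hq2, hmm, hmmm⟩
        · refine ⟨i, i', Or.inl ⟨i, i', hi1, hi2, hi'1, hi'2, rfl⟩, ?_⟩
          exact key_le i i' m (fun _ => ⟨hmi, hmi'⟩) (fun h => absurd h.symm hi'i)
        · refine ⟨i, i, Or.inl ⟨i, i, hi1, hi2, hi1, hi2, rfl⟩, ?_⟩
          exact key_le i i m (fun h => absurd rfl h) (fun _ => h2)
        · refine ⟨i, mm, Or.inr ⟨i, q, mm, hi1, hq1, hq2, hmm, rfl⟩, ?_⟩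
          have hne : i ≠ mm := by
            intro h
            rw [h] at hq1
            omega
          exact key_le i mm m (fun _ => ⟨hmi, hmmm⟩) (fun h => absurd h hne)
      · refine ⟨⟨e2, hj0⟩, ⟨e2, hj0⟩, Or.inl ⟨_, _, he, le_refl _, he, le_refl _, rfl⟩, ?_⟩
        exact key_le _ _ m (fun h => absurd rfl h) (fun _ => h2)
      · exfalso
        have : e2 < q.val := hq1
        omega
    have hX : (MvPolynomial.X a * MvPolynomial.X b : MvPolynomial (Fin (n + 1)) k) =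
        MvPolynomial.monomial (Finsupp.single a 1 + Finsupp.single b 1) 1 := by
      show MvPolynomial.monomial _ 1 * MvPolynomial.monomial _ 1 = _
      rw [MvPolynomial.monomial_mul, one_mul]
    have hmon : MvPolynomial.monomial m (MvPolynomial.coeff m f) =
        MvPolynomial.monomial (m - (Finsupp.single a 1 + Finsupp.single b 1))
          (MvPolynomial.coeff m f) * (MvPolynomial.X a * MvPolynomial.X b) := by
      rw [hX, MvPolynomial.monomial_mul, mul_one, tsub_add_cancel_of_le hle]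
    rw [hmon]
    exact Ideal.mul_mem_left _ _ (Ideal.subset_span hgen)

end Groth.Agent.S13455
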