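import Groth.Statements.S13460
import Mathlib

set_option autoImplicit false
set_option linter.style.haveILetI false
set_option linter.unusedSectionVars false
set_option linter.unusedVariables false
universe u
open CategoryTheory CategoryTheory.Limits AlgebraicGeometry TopologicalSpace
open WDiv

namespace Groth.Agent.S13460

section Helpers

open Order

section Gen

variable {X : Scheme.{u}} [IsIntegral X] [IsLocallyNoetherian X]

theorem ord_one' (y : X) : Scheme.ord (1 : X.functionField) y = 0 := by
  have h := Scheme.ord_mul (x := y) (f := (1 : X.functionField)) (g := 1) one_ne_zero one_ne_zero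
  rw [mul_one] at h
  linarith

theorem ord_inv' (y : X) {g : X.functionField} (hg : g ≠ 0) :
    Scheme.ord g⁻¹ y = - Scheme.ord g y := by
  have h := Scheme.ord_mul (x := y) hg (inv_ne_zero hg)
  rw [mul_inv_cancel₀ hg, ord_one'] at h
  linarith

theorem ord_pow' (y : X) {g : X.functionField} (hg : g ≠ 0) (m : ℕ) :
    Scheme.ord (g ^ m) y = m * Scheme.ord g y := by
  induction m with
  | zero => simp [ord_one']
  | succ m ih =>
    rw [pow_succ, Scheme.ord_mul (pow_ne_zero m hg) hg, ih]
    push_cast
    ring

theorem ord_zpow' (y : X) {g : X.functionField} (hg : g ≠ 0) (n : ℤ) :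
    Scheme.ord (g ^ n) y = n * Scheme.ord g y := by
  obtain ⟨m, rfl | rfl⟩ := Int.eq_nat_or_neg n
  · rw [zpow_natCast, ord_pow' y hg]
  · rw [zpow_neg, zpow_natCast, ord_inv' y (pow_ne_zero m hg), ord_pow' y hg]
    ring

theorem ord_prod_zpow' (y : X) {ι : Type*} (S : Finset ι) (g : ι → X.functionField)
    (hg : ∀ i ∈ S, g i ≠ 0) (n : ι → ℤ) :
    Scheme.ord (∏ i ∈ S, g i ^ n i) y = ∑ i ∈ S, n i * Scheme.ord (g i) y := by
  classical
  induction S using Finset.induction_on with
  | empty => simp [ord_one']
  | insert a S ha ih =>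
    rw [Finset.prod_insert ha, Finset.sum_insert ha]
    have h1 : g a ^ n a ≠ 0 := zpow_ne_zero _ (hg a (Finset.mem_insert_self a S))
    have h2 : ∏ i ∈ S, g i ^ n i ≠ 0 :=
      Finset.prod_ne_zero_iff.mpr fun i hi => zpow_ne_zero _ (hg i (Finset.mem_insert_of_mem hi))
    rw [Scheme.ord_mul h1 h2, ord_zpow' y (hg a (Finset.mem_insert_self a S)),
      ih (fun i hi => hg i (Finset.mem_insert_of_mem hi))]

theorem ord_of_unit_stalk (y : X) (hy : coheight y = 1) (b : X.presheaf.stalk y)
    (hb : IsUnit b) :
    Scheme.ord (algebraMap (X.presheaf.stalk y) X.functionField b) y = 0 := by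
  haveI : Ring.KrullDimLE 1 (X.presheaf.stalk y) := krullDimLE_of_coheight_le hy.le
  have hne : algebraMap (X.presheaf.stalk y) X.functionField b ≠ 0 :=
    (hb.map (algebraMap (X.presheaf.stalk y) X.functionField)).ne_zero
  rw [Scheme.ord_eq_iff hy hne, ofAdd_zero, WithZero.coe_one]
  exact Ring.ordFrac_of_isUnit hb

theorem ord_of_uniformizer_stalk (y : X) (hy : coheight y = 1) (b : X.presheaf.stalk y)
    (hb0 : b ≠ 0) (hmax : IsLocalRing.maximalIdeal (X.presheaf.stalk y) = Ideal.span {b}) :
    Scheme.ord (algebraMap (X.presheaf.stalk y) X.functionField b) y = 1 := by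
  haveI : Ring.KrullDimLE 1 (X.presheaf.stalk y) := krullDimLE_of_coheight_le hy.le
  have hirr : Irreducible b :=
    IsDiscreteValuationRing.irreducible_of_span_eq_maximalIdeal b hb0 hmax
  haveI : IsPrincipalIdealRing (X.presheaf.stalk y) :=
    ((tfae_of_isNoetherianRing_of_isLocalRing_of_isDomain (X.presheaf.stalk y)).out 4 0).mp
      (show (IsLocalRing.maximalIdeal (X.presheaf.stalk y)).IsPrincipal from ⟨⟨b, hmax⟩⟩)
  have hne : algebraMap (X.presheaf.stalk y) X.functionField b ≠ 0 := by
    intro h0
    exact hb0 (IsFractionRing.injective (X.presheaf.stalk y) X.functionField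
      (by rw [h0, map_zero]))
  rw [Scheme.ord_eq_iff hy hne]
  show Ring.ordFrac (X.presheaf.stalk y)
    (algebraMap (X.presheaf.stalk y) X.functionField b) = _
  rw [Ring.ordFrac_eq_ord (X.presheaf.stalk y) hb0]
  have h1 : Ring.ord (X.presheaf.stalk y) b = ((1 : ℕ) : ℕ∞) := by
    rw [Ring.ord_of_irreducible hirr]; rfl
  simpa using Ring.ordMonoidWithZeroHom_eq_coe (X.presheaf.stalk y)
    (mem_nonZeroDivisors_of_ne_zero hb0) h1

end Gen

section SpecPart

variable (R : CommRingCat.{u}) [IsDomain R] [IsNoetherianRing R]

set_option backward.isDefEq.respectTransparency.types false in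
theorem iota_eq (y : Spec R) (a : R) :
    algebraMap R (Spec R).functionField a =
      algebraMap ((Spec R).presheaf.stalk y) (Spec R).functionField
        (StructureSheaf.toStalk R y a) := by
  have h : genericPoint (Spec R) ⤳ y :=
    (genericPoint_spec (Spec R)).specializes (Set.mem_univ y)
  have key := StructureSheaf.toStalk_stalkSpecializes (R := R) h
  exact (congrArg (fun f => f.hom a) key).symm

set_option backward.isDefEq.respectTransparency.types false in
theorem ord_iota_of_notMem (y : Spec R) (hy : coheight y = 1) (a : R)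
    (ha : a ∉ PrimeSpectrum.asIdeal y) :
    Scheme.ord (algebraMap R (Spec R).functionField a) y = 0 := by
  rw [iota_eq R y a]
  letI : Algebra R ((Spec R).presheaf.stalk y) := StructureSheaf.stalkAlgebra R y
  haveI : (PrimeSpectrum.asIdeal y).IsPrime := PrimeSpectrum.isPrime y
  haveI : IsLocalization.AtPrime ((Spec R).presheaf.stalk y) (PrimeSpectrum.asIdeal y) :=
    StructureSheaf.IsLocalization.to_stalk R y
  have hu : IsUnit (StructureSheaf.toStalk R y a) :=
    IsLocalization.map_units ((Spec R).presheaf.stalk y)
      (⟨a, ha⟩ : (PrimeSpectrum.asIdeal y).primeCompl)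
  exact ord_of_unit_stalk y hy _ hu

set_option backward.isDefEq.respectTransparency.types false in
theorem ord_iota_of_gen (y : Spec R) (hy : coheight y = 1) (p : R)
    (hp0 : p ≠ 0) (hgen : PrimeSpectrum.asIdeal y = Ideal.span {p}) :
    Scheme.ord (algebraMap R (Spec R).functionField p) y = 1 := by
  have hb0 : (StructureSheaf.toStalk R y p : (Spec R).presheaf.stalk y) ≠ 0 := by
    intro h0
    apply hp0
    apply IsFractionRing.injective R (Spec R).functionField
    rw [map_zero, iota_eq R y p]
    exact (congrArg (algebraMap ((Spec R).presheaf.stalk y) (Spec R).functionField) h0).trans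
      (map_zero _)
  rw [iota_eq R y p]
  letI : Algebra R ((Spec R).presheaf.stalk y) := StructureSheaf.stalkAlgebra R y
  haveI : (PrimeSpectrum.asIdeal y).IsPrime := PrimeSpectrum.isPrime y
  haveI : IsLocalization.AtPrime ((Spec R).presheaf.stalk y) (PrimeSpectrum.asIdeal y) :=
    StructureSheaf.IsLocalization.to_stalk R y
  have hmax : IsLocalRing.maximalIdeal ((Spec R).presheaf.stalk y) =
      Ideal.span {StructureSheaf.toStalk R y p} := by
    rw [← IsLocalization.AtPrime.map_eq_maximalIdeal (PrimeSpectrum.asIdeal y)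
      ((Spec R).presheaf.stalk y), hgen, Ideal.map_span, Set.image_singleton]
    all_goals rfl
  exact ord_of_uniformizer_stalk y hy _ hb0 hmax

theorem exists_prime_gen [UniqueFactorizationMonoid R] (y : Spec R)
    (hy : coheight y = 1) :
    ∃ p : R, Prime p ∧ PrimeSpectrum.asIdeal y = Ideal.span {p} := by
  haveI : (PrimeSpectrum.asIdeal y).IsPrime := PrimeSpectrum.isPrime y
  have h1 : (PrimeSpectrum.asIdeal y).height = 1 := by
    rw [idealHeight_eq_coheight R y, hy]
  have hne : PrimeSpectrum.asIdeal y ≠ ⊥ := Ideal.ne_bot_of_height_eq_one h1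
  obtain ⟨p, hp, hpp⟩ := (PrimeSpectrum.isPrime y).exists_mem_prime_of_ne_bot hne
  exact ⟨p, hpp, Ideal.eq_span_singleton_of_height_eq_one h1 hp hpp⟩

theorem main [UniqueFactorizationMonoid R] (D : ↥(Spec R) → ℤ)
    (hD : ∀ x, coheight x ≠ 1 → D x = 0) (hfin : {x | D x ≠ 0}.Finite) :
    ∃ f : ↑(Spec R).functionField, f ≠ 0 ∧
      ∀ x : ↥(Spec R), coheight x = 1 → Scheme.ord f x = D x := by
  classical
  have hex : ∀ y : Spec R, ∃ p : R, coheight y = 1 →
      (Prime p ∧ PrimeSpectrum.asIdeal y = Ideal.span {p}) := by
    intro y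
    by_cases hy : coheight y = 1
    · obtain ⟨p, hp, hgen⟩ := exists_prime_gen R y hy
      exact ⟨p, fun _ => ⟨hp, hgen⟩⟩
    · exact ⟨1, fun h => absurd h hy⟩
  choose π hπ using hex
  have hιinj : Function.Injective (algebraMap R (Spec R).functionField) :=
    IsFractionRing.injective _ _
  have hS : ∀ x ∈ hfin.toFinset, coheight x = 1 := by
    intro x hx
    by_contra h
    exact (hfin.mem_toFinset.mp hx) (hD x h)
  have hne : ∀ x ∈ hfin.toFinset, algebraMap R (Spec R).functionField (π x) ≠ 0 := by
    intro x hx h0
    exact (hπ x (hS x hx)).1.ne_zero (hιinj (by rw [h0, map_zero]))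
  refine ⟨∏ x ∈ hfin.toFinset, algebraMap R (Spec R).functionField (π x) ^ D x, ?_, ?_⟩
  · exact Finset.prod_ne_zero_iff.mpr fun x hx => zpow_ne_zero _ (hne x hx)
  · intro y hy
    rw [ord_prod_zpow' y hfin.toFinset
      (fun x => algebraMap R (Spec R).functionField (π x)) hne D]
    have hterm : ∀ x ∈ hfin.toFinset, D x * Scheme.ord
        (algebraMap R (Spec R).functionField (π x)) y = if x = y then D x else 0 := by
      intro x hx
      obtain ⟨hp, hgen⟩ := hπ x (hS x hx)
      by_cases hxy : x = y
      · subst hxy
        rw [if_pos rfl, ord_iota_of_gen R x hy (π x) hp.ne_zero hgen, mul_one]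
      · rw [if_neg hxy, ord_iota_of_notMem R y hy (π x) ?_, mul_zero]
        intro hmem
        apply hxy
        haveI : (PrimeSpectrum.asIdeal x).IsPrime := PrimeSpectrum.isPrime x
        haveI : (PrimeSpectrum.asIdeal y).IsPrime := PrimeSpectrum.isPrime y
        have hle : PrimeSpectrum.asIdeal x ≤ PrimeSpectrum.asIdeal y := by
          rw [hgen, Ideal.span_singleton_le_iff_mem]; exact hmem
        have hx1 : (PrimeSpectrum.asIdeal x).height = 1 := by
          rw [idealHeight_eq_coheight R x, hS x hx]
        have hy1 : (PrimeSpectrum.asIdeal y).height = 1 := by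
          rw [idealHeight_eq_coheight R y, hy]
        have := Ideal.eq_of_le_of_height_le (PrimeSpectrum.asIdeal x) hle (by rw [hx1, hy1])
        exact PrimeSpectrum.ext this
    rw [Finset.sum_congr rfl hterm, Finset.sum_ite_eq' hfin.toFinset y D]
    split_ifs with hmem
    · rfl
    · have : ¬ (D y ≠ 0) := fun h => hmem (hfin.mem_toFinset.mpr h)
      exact (not_not.mp this).symm

end SpecPart

end Helpers


/-- Let A be a Noetherian integral domain which is a unique factorization domain, and X = Spec A. Then
the divisor class group of X vanishes: every Weil divisor D on X, an integer-valued function on the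
points of X with finite support inside the points of coheight 1 (codimension one), is the divisor of
a nonzero rational function f on X, i.e. the order of vanishing of f at every point x of coheight 1
is D(x). (The published statement assumes only that A is a unique factorization domain; this row
also assumes A Noetherian.) -/
theorem result (A : Type u) [CommRing A] [IsDomain A] [IsNoetherianRing A]
    [UniqueFactorizationMonoid A]
    (D : ↥(Spec (CommRingCat.of A)) → ℤ) (hD : ∀ x, Order.coheight x ≠ 1 → D x = 0) (hfin : {x | D x ≠ 0}.Finite) :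
    ∃ f : ↑(Spec (CommRingCat.of A)).functionField, f ≠ 0 ∧
      ∀ x : ↥(Spec (CommRingCat.of A)), Order.coheight x = 1 → Scheme.ord f x = D x := by
  exact main (CommRingCat.of A) D hD hfin

end Groth.Agent.S13460
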