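import Groth.Statements.S13507
import Groth.Agent.H4.RootCover
import Groth.Agent.H4.EtaleRes
import Groth.Agent.H4.SiteBasics

set_option autoImplicit false
universe u
open CategoryTheory CategoryTheory.Limits AlgebraicGeometry
open EtCore

namespace Groth.Agent.S13507

section helpers
open Polynomial Opposite Groth.Agent.H4

theorem aeval_map_int {A B : Type*} [CommRing A] [CommRing B] (θ : A →+* B) (z : A) (p : ℤ[X]) :
    aeval (θ z) p = θ (aeval z p) :=
  Polynomial.aeval_algHom_apply θ.toIntAlgHom z p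

theorem isPrimitiveRoot_of_aeval_cyclotomic {K : Type*} [Field K] (n : ℕ)
    (hnK : ((n : ℕ) : K) ≠ 0) (z : K) (hz : aeval z (cyclotomic n ℤ) = 0) :
    IsPrimitiveRoot z n := by
  haveI : NeZero ((n : ℕ) : K) := ⟨hnK⟩
  rw [← Polynomial.isRoot_cyclotomic_iff, ← map_cyclotomic_int n K, IsRoot.def,
    Polynomial.eval_map, ← algebraMap_int_eq, ← aeval_def]
  exact hz

theorem pow_eq_one_of_aeval_cyclotomic {A : Type*} [CommRing A] (n : ℕ) (z : A)
    (hz : aeval z (cyclotomic n ℤ) = 0) : z ^ n = 1 := by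
  obtain ⟨q, hq⟩ := cyclotomic.dvd_X_pow_sub_one n ℤ
  have h1 : aeval z (X ^ n - 1 : ℤ[X]) = 0 := by
    rw [hq, map_mul, hz, zero_mul]
  rw [map_sub, map_pow, aeval_X, map_one] at h1
  exact sub_eq_zero.1 h1

/-- Distinct small powers of a root of the cyclotomic polynomial are distinct (when `n` is
invertible and the ring is nontrivial). -/
theorem pow_inj_of_cyclotomic_root {A : Type*} [CommRing A] [Nontrivial A] (n : ℕ)
    (hn : IsUnit ((n : ℕ) : A)) (z : A) (hz : aeval z (cyclotomic n ℤ) = 0) {i j : ℕ}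
    (hi : i < n) (hj : j < n) (h : z ^ i = z ^ j) : i = j := by
  obtain ⟨m, hm⟩ := Ideal.exists_maximal A
  letI : Field (A ⧸ m) := Ideal.Quotient.field m
  have hnK : ((n : ℕ) : A ⧸ m) ≠ 0 := by
    have h1 := hn.map (Ideal.Quotient.mk m)
    rw [map_natCast] at h1
    exact h1.ne_zero
  have hprim : IsPrimitiveRoot (Ideal.Quotient.mk m z) n := by
    apply isPrimitiveRoot_of_aeval_cyclotomic n hnK
    rw [aeval_map_int, hz, map_zero]
  apply hprim.pow_inj hi hj
  rw [← map_pow, ← map_pow, h]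

/-- Locally around a prime, an `n`-th root of unity is a power of a given root of the cyclotomic
polynomial. -/
theorem exists_pow_of_pow_eq_one {A : Type*} [CommRing A] (n : ℕ) (hn1 : 1 ≤ n)
    (hn : IsUnit ((n : ℕ) : A)) (z : A) (hz : aeval z (cyclotomic n ℤ) = 0) (w : A)
    (hw : w ^ n = 1) (p : Ideal A) [p.IsPrime] :
    ∃ k < n, ∃ s : A, s ∉ p ∧ s * (w - z ^ k) = 0 := by
  have hnK : ((n : ℕ) : p.ResidueField) ≠ 0 := by
    have h1 := hn.map (algebraMap A p.ResidueField)
    rw [map_natCast] at h1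
    exact h1.ne_zero
  have hprim : IsPrimitiveRoot (algebraMap A p.ResidueField z) n := by
    apply isPrimitiveRoot_of_aeval_cyclotomic n hnK
    rw [aeval_map_int, hz, map_zero]
  haveI : NeZero n := ⟨by omega⟩
  have hun : (algebraMap A p.ResidueField w) ^ n = 1 := by rw [← map_pow, hw, map_one]
  obtain ⟨k, hk, hkz⟩ := hprim.eq_pow_of_pow_eq_one hun
  have hzn : z ^ n = 1 := pow_eq_one_of_aeval_cyclotomic n z hz
  refine ⟨k, hk, ∑ i ∈ Finset.range n, (w * z ^ (n - k)) ^ i, ?_, ?_⟩
  · intro hmem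
    have h0 : algebraMap A p.ResidueField (∑ i ∈ Finset.range n, (w * z ^ (n - k)) ^ i) = 0 :=
      (Ideal.algebraMap_residueField_eq_zero).2 hmem
    have hw1 : algebraMap A p.ResidueField (w * z ^ (n - k)) = 1 := by
      rw [map_mul, map_pow, ← hkz, ← pow_add, Nat.add_sub_cancel' hk.le, hprim.pow_eq_one]
    rw [map_sum] at h0
    simp only [map_pow, hw1, one_pow, Finset.sum_const, Finset.card_range, nsmul_eq_mul,
      mul_one] at h0
    exact hnK h0
  · have h1 : (∑ i ∈ Finset.range n, (w * z ^ (n - k)) ^ i) * (w * z ^ (n - k) - 1) = 0 := by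
      rw [geom_sum_mul, mul_pow, hw, one_mul, ← pow_mul, mul_comm (n - k) n, pow_mul, hzn,
        one_pow, sub_self]
    have h2 : w - z ^ k = (w * z ^ (n - k) - 1) * z ^ k := by
      rw [sub_mul, one_mul, mul_assoc, pow_sub_mul_pow z hk.le, hzn, mul_one]
    rw [h2, ← mul_assoc, h1, zero_mul]

/-- An etale neighbourhood with prescribed etale coordinate ring over an affine chart. -/
theorem exists_nbhd_of_etale_algebra {X : Scheme.{u}} (U : X.Etale) (A : CommRingCat.{u})
    (j : Spec A ⟶ U.left) [IsOpenImmersion j] (y : Spec A) (B : Type u) [CommRing B]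
    [Algebra A B] [Algebra.Etale A B] (q : PrimeSpectrum B)
    (hq : PrimeSpectrum.comap (algebraMap A B) q = y) :
    ∃ (V : X.Etale) (g : V ⟶ U) (v : V.left) (e : Γ(V.left, ⊤) ≅ CommRingCat.of B),
      g.left.base v = j.base y ∧
      g.left.appTop ≫ e.hom =
        j.appTop ≫ (Scheme.ΓSpecIso A).hom ≫ CommRingCat.ofHom (algebraMap A B) := by
  let φ : A ⟶ CommRingCat.of B := CommRingCat.ofHom (algebraMap A B)
  haveI : Etale (Spec.map φ) := by
    refine (HasRingHomProperty.Spec_iff (P := @Etale)).2 ?_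
    show (algebraMap A B).Etale
    exact RingHom.etale_algebraMap.2 inferInstance
  haveI : Etale U.hom := U.prop
  let V : X.Etale := Scheme.Etale.mk ((Spec.map φ ≫ j) ≫ U.hom)
  let g : V ⟶ U := MorphismProperty.Over.homMk (Spec.map φ ≫ j) rfl trivial
  refine ⟨V, g, q, Scheme.ΓSpecIso (CommRingCat.of B), ?_, ?_⟩
  · show (Spec.map φ ≫ j).base q = j.base y
    rw [Scheme.Hom.comp_apply]
    exact congrArg j.base hq
  · show (Spec.map φ ≫ j).appTop ≫ (Scheme.ΓSpecIso (CommRingCat.of B)).hom = _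
    rw [Scheme.Hom.comp_appTop, Category.assoc, Scheme.ΓSpecIso_naturality]

/-- `k ↦ z ^ k`, as an additive map out of `ZMod n`. -/
noncomputable def zmodPow {G : Type u} [CommGroup G] (n : ℕ) [NeZero n] (z : G)
    (hz : z ^ n = 1) : ULift.{u + 1} (ZMod n) →+ ULift.{u + 1} (Additive G) where
  toFun m := ULift.up (Additive.ofMul (z ^ m.down.val))
  map_zero' := by
    apply ULift.ext
    show Additive.ofMul (z ^ (0 : ZMod n).val) = 0
    rw [ZMod.val_zero, pow_zero]
    rfl
  map_add' a b := by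
    apply ULift.ext
    show Additive.ofMul (z ^ (a.down + b.down).val) =
      Additive.ofMul (z ^ a.down.val) + Additive.ofMul (z ^ b.down.val)
    rw [ZMod.val_add, ← pow_eq_pow_mod _ hz, pow_add]
    rfl

noncomputable abbrev cP (S : Scheme.{u}) (n : ℕ) : S.Etaleᵒᵖ ⥤ AddCommGrpCat.{u + 1} :=
  (Functor.const S.Etaleᵒᵖ).obj (AddCommGrpCat.of (ULift.{u + 1} (ZMod n)))

/-- The map of presheaves `ZMod n → G_m`, `k ↦ z ^ k`. -/
noncomputable def psi0 (S : Scheme.{u}) (n : ℕ) [NeZero n] (z : (Γ(S, ⊤))ˣ) (hz : z ^ n = 1) :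
    cP S n ⟶ (EtCoh.Gm S).obj where
  app U := show AddCommGrpCat.of (ULift.{u + 1} (ZMod n)) ⟶
      AddCommGrpCat.of (ULift.{u + 1} (Additive (Γ(U.unop.left, ⊤))ˣ)) from
    AddCommGrpCat.ofHom (zmodPow (G := (Γ(U.unop.left, ⊤))ˣ) n
      (Units.map U.unop.hom.appTop.hom.toMonoidHom z) (by rw [← map_pow, hz, map_one]))
  naturality U V g := by
    ext m
    apply ULift.ext
    show Additive.ofMul ((Units.map V.unop.hom.appTop.hom.toMonoidHom z) ^ m.down.val) =
      Additive.ofMul (Units.map g.unop.left.appTop.hom.toMonoidHom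
        ((Units.map U.unop.hom.appTop.hom.toMonoidHom z) ^ m.down.val))
    have hzz : Units.map V.unop.hom.appTop.hom.toMonoidHom z =
        Units.map g.unop.left.appTop.hom.toMonoidHom
          (Units.map U.unop.hom.appTop.hom.toMonoidHom z) := by
      apply Units.ext
      show V.unop.hom.appTop.hom (z : Γ(S, ⊤)) =
        g.unop.left.appTop.hom (U.unop.hom.appTop.hom (z : Γ(S, ⊤)))
      have hw : g.unop.left ≫ U.unop.hom = V.unop.hom := Over.w g.unop.hom
      rw [← hw, Scheme.Hom.comp_appTop]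
      rfl
    rw [hzz, map_pow (Units.map g.unop.left.appTop.hom.toMonoidHom)]

noncomputable def psi (S : Scheme.{u}) (n : ℕ) [NeZero n] (z : (Γ(S, ⊤))ˣ) (hz : z ^ n = 1) :
    EtCoh.const S (ZMod n) ⟶ EtCoh.Gm S :=
  ObjectProperty.homMk (sheafifyLift S.smallEtaleTopology (psi0 S n z hz) (EtCoh.Gm S).property)

theorem psi_toSheafify (S : Scheme.{u}) (n : ℕ) [NeZero n] (z : (Γ(S, ⊤))ˣ) (hz : z ^ n = 1)
    (V : S.Etaleᵒᵖ) (m : ULift.{u + 1} (ZMod n)) :
    (psi S n z hz).hom.app V ((toSheafify S.smallEtaleTopology (cP S n)).app V m) =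
      (psi0 S n z hz).app V m := by
  have h1 : toSheafify S.smallEtaleTopology (cP S n) ≫ (psi S n z hz).hom = psi0 S n z hz :=
    toSheafify_sheafifyLift _ _ _
  exact congrArg (fun t => (t.app V) m) h1

theorem psi0_down (S : Scheme.{u}) (n : ℕ) [NeZero n] (z : (Γ(S, ⊤))ˣ) (hz : z ^ n = 1)
    (V : S.Etale) (m : ULift.{u + 1} (ZMod n)) :
    ((psi0 S n z hz).app (op V) m).down =
      Additive.ofMul ((Units.map V.hom.appTop.hom.toMonoidHom z) ^ m.down.val) := rfl

theorem psi_powMap (S : Scheme.{u}) (n : ℕ) [NeZero n] (z : (Γ(S, ⊤))ˣ) (hz : z ^ n = 1) :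
    psi S n z hz ≫ EtCoh.powMap S n = 0 := by
  apply Sheaf.hom_ext
  apply sheafify_hom_ext S.smallEtaleTopology (P := cP S n) _ _ (EtCoh.Gm S).property
  ext V m
  show (EtCoh.powMap S n).hom.app V ((psi S n z hz).hom.app V
    ((toSheafify S.smallEtaleTopology (cP S n)).app V m)) = 0
  rw [psi_toSheafify, show EtCoh.powMap S n = n • 𝟙 (EtCoh.Gm S) from rfl, nsmul_hom_app]
  apply ULift.ext
  show n • Additive.ofMul ((Units.map V.unop.hom.appTop.hom.toMonoidHom z) ^ m.down.val) = 0
  rw [← ofMul_pow, ← pow_mul, mul_comm, pow_mul, ← map_pow, hz, map_one, one_pow]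
  rfl

end helpers

section main
open Polynomial Opposite Groth.Agent.H4

theorem mono_psi (S : Scheme.{u}) (n : ℕ) [NeZero n] (hunit : IsUnit ((n : ℕ) : Γ(S, ⊤)))
    (z : (Γ(S, ⊤))ˣ) (hz : z ^ n = 1)
    (hroot : aeval (z : Γ(S, ⊤)) (cyclotomic n ℤ) = 0) : Mono (psi S n z hz) := by
  apply Sheaf.mono_of_injective
  intro V
  obtain ⟨V⟩ := V
  show Function.Injective ((psi S n z hz).hom.app (op V)).hom
  rw [injective_iff_map_eq_zero]
  intro c hc
  apply eq_of_locally_eq (EtCoh.const S (ZMod n)) V c 0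
  intro b
  obtain ⟨Y, f, v, hf, hv⟩ := exists_of_mem_smallEtaleTopology V _
    (Presheaf.imageSieve_mem S.smallEtaleTopology (toSheafify S.smallEtaleTopology (cP S n)) c) b
  obtain ⟨m, hm0⟩ := hf
  have hm : (toSheafify S.smallEtaleTopology (cP S n)).app (op Y) m =
      (EtCoh.const S (ZMod n)).obj.map f.op c := hm0
  refine ⟨Y, f, v, hv, ?_⟩
  have h2 : (psi0 S n z hz).app (op Y) m = 0 := by
    rw [← psi_toSheafify, hm]
    have h3 := NatTrans.naturality_apply (psi S n z hz).hom f.op c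
    rw [h3]
    have h4 : (psi S n z hz).hom.app (op V) c = 0 := hc
    rw [h4, map_zero]
  have h3 : (Units.map Y.hom.appTop.hom.toMonoidHom z) ^ m.down.val = 1 := by
    have h4 := congrArg ULift.down h2
    rw [psi0_down] at h4
    exact ofMul_eq_zero.1 h4
  haveI : Nonempty (⊤ : Y.left.Opens) := ⟨⟨v, trivial⟩⟩
  haveI : Nontrivial Γ(Y.left, ⊤) := inferInstance
  have hunitY : IsUnit ((n : ℕ) : Γ(Y.left, ⊤)) := by
    have h1 := hunit.map Y.hom.appTop.hom
    rwa [map_natCast] at h1
  have hrootY : aeval (Y.hom.appTop.hom (z : Γ(S, ⊤))) (cyclotomic n ℤ) = 0 := by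
    rw [aeval_map_int, hroot, map_zero]
  have h4 : m.down.val = 0 := by
    apply pow_inj_of_cyclotomic_root n hunitY _ hrootY (ZMod.val_lt _) (NeZero.pos n)
    rw [pow_zero]
    have h5 := congrArg Units.val h3
    rw [Units.val_pow_eq_pow_val] at h5
    exact h5
  have h5 : m = 0 := by
    apply ULift.ext
    exact (ZMod.val_eq_zero m.down).1 h4
  rw [map_zero, ← hm, h5, map_zero]
  rfl

theorem muι_injective (S : Scheme.{u}) (n : ℕ) (V : S.Etaleᵒᵖ) :
    Function.Injective ((EtCoh.muι S n).hom.app V) := by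
  haveI : Mono (EtCoh.muι S n) := inferInstanceAs (Mono (kernel.ι (EtCoh.powMap S n)))
  have h1 : Mono (EtCoh.muι S n).hom := (Sheaf.Hom.mono_iff_presheaf_mono _ _ _).1 inferInstance
  have h2 : Mono ((EtCoh.muι S n).hom.app V) := (NatTrans.mono_iff_mono_app _).1 h1 V
  exact (AddCommGrpCat.mono_iff_injective _).1 h2

end main

open Polynomial Opposite Groth.Agent.H4 in
/-- Let S be a scheme and n ≥ 1 with n invertible in the ring of global functions Γ(S, O_S). If Γ(S,
O_S) contains a root ζ of the n-th cyclotomic polynomial, then the sheaf μ_n of n-th roots of unity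
on the small étale site of S is isomorphic to the constant sheaf with value Z/n (existence of an
isomorphism only; the published isomorphism is the one sending 1 to ζ). -/
theorem result (S : Scheme.{u}) (n : ℕ) (hn : 1 ≤ n)
    (hunit : IsUnit (n : Γ(S, ⊤))) (ζ : Γ(S, ⊤))
    (hζ : Polynomial.aeval ζ (Polynomial.cyclotomic n ℤ) = 0) :
    Nonempty (EtCoh.mu S n ≅ EtCoh.const S (ZMod n)) := by
  haveI : NeZero n := ⟨by omega⟩
  have hζn : ζ ^ n = 1 := pow_eq_one_of_aeval_cyclotomic n ζ hζ
  let z : (Γ(S, ⊤))ˣ := Units.ofPowEqOne ζ n hζn (by omega)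
  have hzval : (z : Γ(S, ⊤)) = ζ := rfl
  have hz : z ^ n = 1 := Units.pow_ofPowEqOne hζn (by omega)
  have hψpow := psi_powMap S n z hz
  haveI hmonoψ : Mono (psi S n z hz) := mono_psi S n hunit z hz hζ
  let lam : EtCoh.const S (ZMod n) ⟶ EtCoh.mu S n :=
    kernel.lift (EtCoh.powMap S n) (psi S n z hz) hψpow
  have hlam : lam ≫ EtCoh.muι S n = psi S n z hz := kernel.lift_ι _ _ _
  haveI : Mono lam := mono_of_mono_fac hlam
  have hunitV : ∀ V : S.Etale, IsUnit ((n : ℕ) : Γ(V.left, ⊤)) := by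
    intro V
    have h1 := hunit.map V.hom.appTop.hom
    rwa [map_natCast] at h1
  have hrootV : ∀ V : S.Etale, aeval (V.hom.appTop.hom ζ) (cyclotomic n ℤ) = 0 := by
    intro V
    rw [aeval_map_int, hζ, map_zero]
  haveI : Epi lam := by
    apply epi_of_local_lift
    intro U t x
    obtain ⟨A, j, hj, y, hy⟩ := Scheme.exists_Spec_apply_eq x
    haveI := hj
    let θ : Γ(U.left, ⊤) →+* A := (j.appTop ≫ (Scheme.ΓSpecIso A).hom).hom
    let u' := (EtCoh.muι S n).hom.app (op U) t
    let tu : (Γ(U.left, ⊤))ˣ := Additive.toMul u'.down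
    have htu : tu ^ n = 1 := by
      have h1 : (EtCoh.powMap S n).hom.app (op U) u' = 0 := by
        have h2 : EtCoh.muι S n ≫ EtCoh.powMap S n = 0 := kernel.condition _
        exact congrArg (fun q => q.hom.app (op U) t) h2
      rw [show EtCoh.powMap S n = n • 𝟙 (EtCoh.Gm S) from rfl, nsmul_hom_app] at h1
      have h4 := congrArg ULift.down h1
      have h5 : n • Additive.ofMul tu = (0 : Additive (Γ(U.left, ⊤))ˣ) := h4
      rw [← ofMul_pow] at h5
      exact ofMul_eq_zero.1 h5
    have hθn : IsUnit ((n : ℕ) : A) := by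
      have h1 := (hunitV U).map θ
      rwa [map_natCast] at h1
    have hθroot : aeval (θ (U.hom.appTop.hom ζ)) (cyclotomic n ℤ) = 0 := by
      rw [aeval_map_int, hrootV U, map_zero]
    have hθu : (θ (tu : Γ(U.left, ⊤))) ^ n = 1 := by
      rw [← map_pow, ← Units.val_pow_eq_pow_val, htu, Units.val_one, map_one]
    let y' : PrimeSpectrum A := y
    obtain ⟨k, hk, s, hs, hsk⟩ := exists_pow_of_pow_eq_one n hn hθn _ hθroot _ hθu y'.asIdeal
    haveI : Algebra.Etale A (Localization.Away s) := Algebra.Etale.of_isLocalizationAway s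
    obtain ⟨q, hq⟩ : ∃ q : PrimeSpectrum (Localization.Away s),
        PrimeSpectrum.comap (algebraMap A (Localization.Away s)) q = y' := by
      have h1 : y' ∈ Set.range (PrimeSpectrum.comap (algebraMap A (Localization.Away s))) := by
        rw [PrimeSpectrum.localization_away_comap_range (Localization.Away s) s]
        exact hs
      exact h1
    obtain ⟨V, g, v, e, hv, he⟩ :=
      exists_nbhd_of_etale_algebra U A j y (Localization.Away s) q hq
    refine ⟨V, g, v, hv.trans hy, ?_⟩
    let E : Γ(V.left, ⊤) ≃+* Localization.Away s := e.commRingCatIsoToRingEquiv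
    have hE : ∀ r : Γ(U.left, ⊤),
        E (g.left.appTop.hom r) = algebraMap A (Localization.Away s) (θ r) :=
      fun r => congrArg (fun m => m.hom r) he
    refine ⟨(toSheafify S.smallEtaleTopology (cP S n)).app (op V)
      (ULift.up ((k : ℕ) : ZMod n)), ?_⟩
    apply muι_injective S n (op V)
    have h1 : (EtCoh.muι S n).hom.app (op V) (lam.hom.app (op V)
        ((toSheafify S.smallEtaleTopology (cP S n)).app (op V) (ULift.up ((k : ℕ) : ZMod n)))) =
        (psi S n z hz).hom.app (op V)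
          ((toSheafify S.smallEtaleTopology (cP S n)).app (op V)
            (ULift.up ((k : ℕ) : ZMod n))) :=
      congrArg (fun q => q.hom.app (op V)
        ((toSheafify S.smallEtaleTopology (cP S n)).app (op V) (ULift.up ((k : ℕ) : ZMod n))))
        hlam
    have h2 : (EtCoh.muι S n).hom.app (op V) ((EtCoh.mu S n).obj.map g.op t) =
        (EtCoh.Gm S).obj.map g.op u' :=
      NatTrans.naturality_apply (EtCoh.muι S n).hom g.op t
    rw [h1, h2, psi_toSheafify]
    apply ULift.ext
    show Additive.ofMul ((Units.map V.hom.appTop.hom.toMonoidHom z) ^ ((k : ℕ) : ZMod n).val) =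
      Additive.ofMul (Units.map g.left.appTop.hom.toMonoidHom tu)
    rw [ZMod.val_natCast_of_lt hk]
    congr 1
    apply Units.ext
    apply E.injective
    show E ((V.hom.appTop.hom ζ) ^ k) = E (g.left.appTop.hom (tu : Γ(U.left, ⊤)))
    have hw : g.left ≫ U.hom = V.hom := Over.w g.hom
    rw [← hw, Scheme.Hom.comp_appTop]
    show E ((g.left.appTop.hom (U.hom.appTop.hom ζ)) ^ k) = _
    rw [map_pow, hE, hE]
    have hsunit : IsUnit (algebraMap A (Localization.Away s) s) :=
      IsLocalization.Away.algebraMap_isUnit s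
    have h5 : algebraMap A (Localization.Away s) s *
        algebraMap A (Localization.Away s) (θ tu - θ (U.hom.appTop.hom ζ) ^ k) = 0 := by
      rw [← map_mul, hsk, map_zero]
    have h6 := (hsunit.mul_right_eq_zero).1 h5
    rw [map_sub, sub_eq_zero, map_pow] at h6
    exact h6.symm
  haveI : IsIso lam := isIso_of_mono_of_epi lam
  exact ⟨(asIso lam).symm⟩

end Groth.Agent.S13507
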