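import Groth.Statements.S13513
import Groth.Agent.H67.FibSiteCont
import Mathlib.CategoryTheory.Adjunction.Triple
import Mathlib.CategoryTheory.Functor.KanExtension.Adjunction

set_option autoImplicit false
universe u
open CategoryTheory CategoryTheory.Limits Opposite Pseudofunctor.CoGrothendieck
open FibSite

namespace Groth.Agent.S13513

/-- Let `F` be a fibred site over a small category `𝒮` with small fibres (every inverse-image functor is
a morphism of sites) and let `i` be a final object of `𝒮`. Then the left adjoint `α_{i!}` of the
restriction of sheaves of sets from the total site to the fibre over `i` is full and faithful;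
equivalently the composite "extend from the fibre over `i`, then restrict back" is isomorphic to the
identity through the unit of the adjunction. The continuity of the fibre inclusion and the existence
of the left adjoint are carried as instance hypotheses. -/
theorem result {𝒮 : Type u} [SmallCategory 𝒮]
    (F : Pseudofunctor (LocallyDiscrete 𝒮ᵒᵖ) Cat.{u, u}) (J : FibSite.Topologies F)
    (hF : FibSite.IsFibSite F J) (i : 𝒮) (hi : IsTerminal i)
    [(ι F i).IsContinuous (J i) (FibSite.totalTopology F J)]
    [((ι F i).sheafPushforwardContinuous (Type u) (J i) (FibSite.totalTopology F J)).IsRightAdjoint] :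
    (FibSite.extend F J (Type u) i).Full ∧ (FibSite.extend F J (Type u) i).Faithful := by
  have hpre := hF.isPreFibSite
  haveI : (ι F i).IsCocontinuous (J i) (FibSite.totalTopology F J) :=
    Groth.Agent.H67.isCocontinuous_ι F J hpre i
  haveI : (ι F i).Faithful :=
    ⟨fun {V W} g g' h => Groth.Agent.H67.ι_map_injective F i g g' h⟩
  haveI : (ι F i).Full := ⟨fun {V W} α => by
    obtain ⟨α₀, h⟩ := Groth.Agent.H67.exists_eq_ι_map F i α (hi.hom_ext _ _)
    exact ⟨α₀, h.symm⟩⟩
  let t : Adjunction.Triple (FibSite.extend F J (Type u) i) (FibSite.restr F J (Type u) i)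
      ((ι F i).sheafPushforwardCocontinuous (Type u) (J i) (FibSite.totalTopology F J)) :=
    ⟨Functor.sheafAdjunctionContinuous (ι F i) (Type u) (J i) (FibSite.totalTopology F J),
      Functor.sheafAdjunctionCocontinuous (ι F i) (Type u) (J i) (FibSite.totalTopology F J)⟩
  haveI : IsIso t.adj₂.counit := by
    haveI : ∀ G, IsIso (t.adj₂.counit.app G) := by
      intro G
      rw [← isIso_iff_of_reflects_iso _ (sheafToPresheaf _ _)]
      change IsIso ((Functor.sheafAdjunctionCocontinuous (ι F i) (Type u) (J i)
        (FibSite.totalTopology F J)).counit.app G).hom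
      rw [Functor.sheafAdjunctionCocontinuous_counit_app_hom]
      haveI : (ι F i).op.Full := inferInstance
      haveI : (ι F i).op.Faithful := inferInstance
      haveI : ∀ (P : (F.obj ⟨op i⟩)ᵒᵖ ⥤ Type u), (ι F i).op.HasPointwiseRightKanExtension P :=
        inferInstance
      haveI : ∀ (P : (F.obj ⟨op i⟩)ᵒᵖ ⥤ Type u), (ι F i).op.HasRightKanExtension P :=
        inferInstance
      haveI h1 : IsIso ((ι F i).op.ranAdjunction (Type u)).counit :=
        Functor.reflective' (L := (ι F i).op) (H := Type u)
      exact NatIso.isIso_app_of_isIso _ _
    exact NatIso.isIso_of_isIso_app _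
  have hff := t.adj₂.fullyFaithfulROfIsIsoCounit
  have hff' := t.fullyFaithfulEquiv.symm hff
  exact ⟨hff'.full, hff'.faithful⟩

end Groth.Agent.S13513
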