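import Groth.Statements.S13515
import Groth.Agent.H67.FibSiteMap
import Groth.Agent.S13512
import Mathlib.CategoryTheory.Adjunction.Unique

set_option autoImplicit false
universe u
open CategoryTheory CategoryTheory.Limits Opposite Pseudofunctor.CoGrothendieck
open scoped CategoryTheory.Pseudofunctor.StrongTrans
open FibSite

namespace Groth.Agent.S13515

/-- Let `F` and `G` be fibred sites over a small category `𝒮` with small fibres and let `α : G ⟶ F` be a
strong transformation of pseudofunctors, i.e. a cartesian functor `∫ᶜ G ⥤ ∫ᶜ F` over `𝒮`, which is a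
morphism of fibred sites: on each fibre the functor `α_S : G(S) ⥤ F(S)` is a morphism of sites from
`(F(S), J S)` to `(G(S), K S)` (continuous, with left exact inverse image on sheaves of sets). Then
the induced functor between the total categories is a morphism of sites from the total site of `F`
to the total site of `G`: it is continuous for the total topologies and the inverse image of sheaves
of sets along it exists and is left exact. -/
theorem result {𝒮 : Type u} [SmallCategory 𝒮]
    (F G : Pseudofunctor (LocallyDiscrete 𝒮ᵒᵖ) Cat.{u, u}) (J : FibSite.Topologies F) (K : FibSite.Topologies G)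
    (hF : FibSite.IsFibSite F J) (hG : FibSite.IsFibSite G K) (α : G ⟶ F)
    (hα : ∀ S : 𝒮, ∃ (_ : (α.app ⟨op S⟩).toFunctor.IsContinuous (K S) (J S))
      (_ : ((α.app ⟨op S⟩).toFunctor.sheafPushforwardContinuous (Type u) (K S) (J S)).IsRightAdjoint),
      PreservesFiniteLimits ((α.app ⟨op S⟩).toFunctor.sheafPullback (Type u) (K S) (J S))) :
    ∃ (_ : (Pseudofunctor.CoGrothendieck.map α).IsContinuous
        (FibSite.totalTopology G K) (FibSite.totalTopology F J))
      (_ : ((Pseudofunctor.CoGrothendieck.map α).sheafPushforwardContinuous (Type u)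
        (FibSite.totalTopology G K) (FibSite.totalTopology F J)).IsRightAdjoint),
      PreservesFiniteLimits ((Pseudofunctor.CoGrothendieck.map α).sheafPullback (Type u)
        (FibSite.totalTopology G K) (FibSite.totalTopology F J)) := by
  have hpF := hF.isPreFibSite
  have hpG := hG.isPreFibSite
  haveI : ∀ T : 𝒮, (ι F T).IsContinuous (J T) (FibSite.totalTopology F J) :=
    fun T => Groth.Agent.H67.isContinuous_ι F J hpF T
  haveI : ∀ T : 𝒮, (ι F T).IsCocontinuous (J T) (FibSite.totalTopology F J) :=
    fun T => Groth.Agent.H67.isCocontinuous_ι F J hpF T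
  haveI : ∀ T : 𝒮, (ι G T).IsContinuous (K T) (FibSite.totalTopology G K) :=
    fun T => Groth.Agent.H67.isContinuous_ι G K hpG T
  haveI : ∀ T : 𝒮, (ι G T).IsCocontinuous (K T) (FibSite.totalTopology G K) :=
    fun T => Groth.Agent.H67.isCocontinuous_ι G K hpG T
  have hcont : (Pseudofunctor.CoGrothendieck.map α).IsContinuous
      (FibSite.totalTopology G K) (FibSite.totalTopology F J) := by
    rw [Groth.Agent.S13512.result G K hpG (FibSite.totalTopology F J)
      (Pseudofunctor.CoGrothendieck.map α)]
    intro S
    obtain ⟨hc, -, -⟩ := hα S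
    haveI := hc
    haveI : ((α.app ⟨op S⟩).toFunctor ⋙ ι F S).IsContinuous (K S)
        (FibSite.totalTopology F J) :=
      Functor.isContinuous_comp _ _ (K S) (J S) (FibSite.totalTopology F J)
    exact Functor.isContinuous_of_iso (Groth.Agent.H67.ιCompMapIso α S).symm (K S)
      (FibSite.totalTopology F J)
  haveI := hcont
  have hra : ((Pseudofunctor.CoGrothendieck.map α).sheafPushforwardContinuous (Type u)
      (FibSite.totalTopology G K) (FibSite.totalTopology F J)).IsRightAdjoint := inferInstance
  refine ⟨hcont, hra, ?_⟩
  apply Groth.Agent.H67.preservesFiniteLimits_of_restr.{u} F J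
  intro T
  obtain ⟨hc, hr, hpl⟩ := hα T
  haveI := hc
  haveI := hr
  haveI := hpl
  haveI := Groth.Agent.H67.isIso_ranCompareSheaf.{u} α J K T
  let adjM := (Pseudofunctor.CoGrothendieck.map α).sheafAdjunctionContinuous (Type u)
    (FibSite.totalTopology G K) (FibSite.totalTopology F J)
  let adjcoF := (ι F T).sheafAdjunctionCocontinuous (Type u) (J T) (FibSite.totalTopology F J)
  let adjcoG := (ι G T).sheafAdjunctionCocontinuous (Type u) (K T) (FibSite.totalTopology G K)
  let adjA := (α.app ⟨op T⟩).toFunctor.sheafAdjunctionContinuous (Type u) (K T) (J T)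
  let adj1 := (adjM.comp adjcoF).ofNatIsoRight
    (asIso (Groth.Agent.H67.ranCompareSheaf.{u} α J K T))
  let adj2 := adjcoG.comp adjA
  haveI : PreservesFiniteLimits (FibSite.restr G K (Type u) T) := by
    haveI : (FibSite.restr G K (Type u) T).IsRightAdjoint := inferInstance
    infer_instance
  haveI : PreservesFiniteLimits (FibSite.restr G K (Type u) T ⋙
      (α.app ⟨op T⟩).toFunctor.sheafPullback (Type u) (K T) (J T)) :=
    comp_preservesFiniteLimits _ _
  exact preservesFiniteLimits_of_natIso (adj1.leftAdjointUniq adj2).symm

end Groth.Agent.S13515
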