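import Groth.Statements.S13526
import Groth.Agent.H67.FibSiteRan
import Mathlib.CategoryTheory.Adjunction.Unique

set_option autoImplicit false
universe u
open CategoryTheory CategoryTheory.Limits Opposite Pseudofunctor.CoGrothendieck
open FibSite

namespace Groth.Agent.S13526

/-- Let `F` be a fibred site over a small category `𝒮` with small fibres and fibre topologies `J`,
viewed as an indexed family of sites, and let `i`, `j` be objects of `𝒮`. For a sheaf of sets `a` on
the fibre over `i`, the value over `j` (restriction to the fibre over `j`) of the left adjoint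
`e_{i!}` of evaluation at `i`, applied to `a`, is a coproduct, indexed by the morphisms `f : j ⟶ i`,
of the inverse images of `a` along the morphisms of sites `f^* : F(i) ⥤ F(j)`: there is a colimit
cofan on that family whose vertex is isomorphic to it. (Existence of such an isomorphism only; the
published statement names the canonical one. The topos of sections of the indexed topos is rendered
as the topos of sheaves on the total site.) -/
theorem result {𝒮 : Type u} [SmallCategory 𝒮]
    (F : Pseudofunctor (LocallyDiscrete 𝒮ᵒᵖ) Cat.{u, u}) (J : FibSite.Topologies F)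
    (hF : FibSite.IsFibSite F J) (i j : 𝒮)
    [∀ S : 𝒮, (ι F S).IsContinuous (J S) (FibSite.totalTopology F J)]
    [((ι F i).sheafPushforwardContinuous (Type u) (J i) (FibSite.totalTopology F J)).IsRightAdjoint]
    [∀ (R S : 𝒮) (f : R ⟶ S), (FibSite.invImage F f).IsContinuous (J S) (J R)]
    [∀ (R S : 𝒮) (f : R ⟶ S),
      ((FibSite.invImage F f).sheafPushforwardContinuous (Type u) (J S) (J R)).IsRightAdjoint]
    (a : Sheaf (J i) (Type u)) :
    ∃ c : Cofan fun f : j ⟶ i => ((FibSite.invImage F f).sheafPullback (Type u) (J i) (J j)).obj a,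
      Nonempty (IsColimit c) ∧
        Nonempty (c.pt ≅ (FibSite.restr F J (Type u) j).obj ((FibSite.extend F J (Type u) i).obj a)) := by
  classical
  have hpre := hF.isPreFibSite
  haveI : (ι F j).IsCocontinuous (J j) (FibSite.totalTopology F J) :=
    Groth.Agent.H67.isCocontinuous_ι F J hpre j
  let adjI := (ι F i).sheafAdjunctionContinuous (Type u) (J i) (FibSite.totalTopology F J)
  let adjJ := (ι F j).sheafAdjunctionCocontinuous (Type u) (J j) (FibSite.totalTopology F J)
  let adjF := fun f : j ⟶ i =>
    (FibSite.invImage F f).sheafAdjunctionContinuous (Type u) (J i) (J j)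
  let coextJ := (ι F j).sheafPushforwardCocontinuous (Type u) (J j) (FibSite.totalTopology F J)
  let prj := fun (b : Sheaf (J j) (Type u)) (f : j ⟶ i) =>
    (Groth.Agent.H67.ranProjSheaf.{u} J j i f).app b
  have prj_nat : ∀ (b b' : Sheaf (J j) (Type u)) (g : b ⟶ b') (f : j ⟶ i),
      prj b f ≫ ((FibSite.invImage F f).sheafPushforwardContinuous (Type u) (J i) (J j)).map g =
        (FibSite.restr F J (Type u) i).map (coextJ.map g) ≫ prj b' f :=
    fun b b' g f => ((Groth.Agent.H67.ranProjSheaf.{u} J j i f).naturality g).symm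
  let pt : Sheaf (J j) (Type u) :=
    (FibSite.restr F J (Type u) j).obj ((FibSite.extend F J (Type u) i).obj a)
  let Φ : ∀ b : Sheaf (J j) (Type u), (pt ⟶ b) → ∀ f : j ⟶ i,
      (((FibSite.invImage F f).sheafPullback (Type u) (J i) (J j)).obj a ⟶ b) :=
    fun b m f => ((adjF f).homEquiv a b).symm
      (adjI.homEquiv a (coextJ.obj b) (adjJ.homEquiv _ b m) ≫ prj b f)
  have hB : ∀ (b : Sheaf (J j) (Type u)) (m : pt ⟶ b) (f : j ⟶ i),
      Φ pt (𝟙 pt) f ≫ m = Φ b m f := by
    intro b m f
    have e1 : adjJ.homEquiv _ pt (𝟙 pt) ≫ coextJ.map m = adjJ.homEquiv _ b m :=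
      ((adjJ.homEquiv_naturality_right (𝟙 pt) m).symm).trans
        (congrArg (adjJ.homEquiv _ b) (Category.id_comp m))
    have e2 : adjI.homEquiv a (coextJ.obj pt) (adjJ.homEquiv _ pt (𝟙 pt)) ≫
        (FibSite.restr F J (Type u) i).map (coextJ.map m) =
        adjI.homEquiv a (coextJ.obj b) (adjJ.homEquiv _ b m) :=
      ((adjI.homEquiv_naturality_right (adjJ.homEquiv _ pt (𝟙 pt)) (coextJ.map m)).symm).trans
        (congrArg (adjI.homEquiv a (coextJ.obj b)) e1)
    have e3 : (adjI.homEquiv a (coextJ.obj pt) (adjJ.homEquiv _ pt (𝟙 pt)) ≫ prj pt f) ≫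
        ((FibSite.invImage F f).sheafPushforwardContinuous (Type u) (J i) (J j)).map m =
        adjI.homEquiv a (coextJ.obj b) (adjJ.homEquiv _ b m) ≫ prj b f :=
      (Category.assoc _ _ _).trans
        ((congrArg (fun t => adjI.homEquiv a (coextJ.obj pt) (adjJ.homEquiv _ pt (𝟙 pt)) ≫ t)
          (prj_nat pt b m f)).trans
          ((Category.assoc _ _ _).symm.trans (congrArg (fun t => t ≫ prj b f) e2)))
    exact ((adjF f).homEquiv_naturality_right_symm
      (adjI.homEquiv a (coextJ.obj pt) (adjJ.homEquiv _ pt (𝟙 pt)) ≫ prj pt f) m).symm.trans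
      (congrArg ((adjF f).homEquiv a b).symm e3)
  have hA : ∀ b : Sheaf (J j) (Type u), Function.Bijective (Φ b) := by
    intro b
    constructor
    · intro m m' hmm
      have h1 : ∀ f, adjI.homEquiv a (coextJ.obj b) (adjJ.homEquiv _ b m) ≫ prj b f =
          adjI.homEquiv a (coextJ.obj b) (adjJ.homEquiv _ b m') ≫ prj b f :=
        fun f => ((adjF f).homEquiv a b).symm.injective (congrFun hmm f)
      have h2 : adjI.homEquiv a (coextJ.obj b) (adjJ.homEquiv _ b m) =
          adjI.homEquiv a (coextJ.obj b) (adjJ.homEquiv _ b m') :=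
        (Groth.Agent.H67.ranProjSheaf_lift.{u} J j i b a
          (fun f => adjI.homEquiv a (coextJ.obj b) (adjJ.homEquiv _ b m) ≫ prj b f)).unique
          (fun f => rfl) (fun f => (h1 f).symm)
      exact (adjJ.homEquiv _ b).injective ((adjI.homEquiv a (coextJ.obj b)).injective h2)
    · intro n
      obtain ⟨τ, hτ, -⟩ := Groth.Agent.H67.ranProjSheaf_lift.{u} J j i b a
        (fun f => (adjF f).homEquiv a b (n f))
      refine ⟨(adjJ.homEquiv _ b).symm ((adjI.homEquiv a (coextJ.obj b)).symm τ), ?_⟩
      funext f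
      have k1 : adjI.homEquiv a (coextJ.obj b) (adjJ.homEquiv _ b
          ((adjJ.homEquiv _ b).symm ((adjI.homEquiv a (coextJ.obj b)).symm τ))) = τ :=
        (congrArg (adjI.homEquiv a (coextJ.obj b))
          ((adjJ.homEquiv _ b).apply_symm_apply _)).trans
          ((adjI.homEquiv a (coextJ.obj b)).apply_symm_apply _)
      exact (congrArg ((adjF f).homEquiv a b).symm
        ((congrArg (fun t => t ≫ prj b f) k1).trans (hτ f))).trans
        (((adjF f).homEquiv a b).symm_apply_apply (n f))
  refine ⟨Cofan.mk pt (Φ pt (𝟙 pt)), ⟨?_⟩, ⟨Iso.refl _⟩⟩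
  refine Cofan.IsColimit.mk _
    (fun t => (Equiv.ofBijective (Φ t.pt) (hA t.pt)).symm t.inj) (fun t f => ?_)
    (fun t m hm => ?_)
  · refine (hB t.pt ((Equiv.ofBijective (Φ t.pt) (hA t.pt)).symm t.inj) f).trans ?_
    exact congrFun ((Equiv.ofBijective (Φ t.pt) (hA t.pt)).apply_symm_apply t.inj) f
  · rw [Equiv.eq_symm_apply]
    funext f
    exact (hB t.pt m f).symm.trans (hm f)

end Groth.Agent.S13526
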