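import Groth.Statements.S9687
import Groth.Agent.H9.DimFormulaScheme

set_option linter.style.haveILetI false

set_option autoImplicit false
universe u
open CategoryTheory CategoryTheory.Limits AlgebraicGeometry
open Mor

namespace Groth.Agent.S9687

open AlgebraicGeometry CategoryTheory Groth.Agent.H9.DimFormulaRing Groth.Agent.H9.DimFormulaScheme

set_option backward.isDefEq.respectTransparency.types false in
theorem result' {X S : Scheme.{u}} [IsLocallyNoetherian S]
    (f : X ⟶ S) [LocallyOfFiniteType f] (x : X) (n E : ℕ)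
    (hn : letI := (f.residueFieldMap x).hom.toAlgebra
      Algebra.trdeg (S.residueField (f.base x)) (X.residueField x) = n)
    (hE : ∀ ξ : X, closure {ξ} ∈ irreducibleComponents ↥X → ξ ⤳ x →
      letI := (f.residueFieldMap ξ).hom.toAlgebra
      Algebra.trdeg (S.residueField (f.base ξ)) (X.residueField ξ) ≤ E) :
    ringKrullDim (X.presheaf.stalk x) + n ≤ ringKrullDim (S.presheaf.stalk (f.base x)) + E := by
  obtain ⟨V, hV, hsV, -⟩ :=
    exists_isAffineOpen_mem_and_subset (X := S) (x := f x) (U := ⊤) trivial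
  obtain ⟨U, hU, hxU, e⟩ :=
    exists_isAffineOpen_mem_and_subset (X := X) (x := x) (U := f ⁻¹ᵁ V) hsV
  obtain ⟨q, rfl⟩ : ∃ q : Spec Γ(X, U), hU.fromSpec q = x :=
    ⟨hU.primeIdealOf ⟨x, hxU⟩, hU.fromSpec_primeIdealOf ⟨x, hxU⟩⟩
  letI := (f.appLE V U e).hom.toAlgebra
  haveI : Algebra.FiniteType Γ(S, V) Γ(X, U) := f.finiteType_appLE hV hU e
  haveI : IsNoetherianRing Γ(S, V) := IsLocallyNoetherian.component_noetherian ⟨V, hV⟩
  have hn' : td Γ(S, V) q.asIdeal = n := by
    have h1 := trdeg_residueFieldMap_eq_td f hU hV e q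
    have h2 : (td Γ(S, V) q.asIdeal : Cardinal.{u}) = (n : Cardinal.{u}) := h1.symm.trans hn
    exact_mod_cast h2
  have key := height_add_td_le (A := Γ(S, V)) q.asIdeal E ?_
  · rw [ringKrullDim_stalk_fromSpec hU q, ringKrullDim_stalk_map_fromSpec f hU hV e q, ← hn']
    exact_mod_cast key
  · intro Q hQ hQq
    haveI := hQ.1.1
    obtain ⟨h1, h2⟩ := generic_of_minimalPrime hU q ⟨Q, hQ.1.1⟩ hQ hQq
    have h3 := hE _ h1 h2
    have h4 := trdeg_residueFieldMap_eq_td f hU hV e ⟨Q, hQ.1.1⟩
    have h5 : (td Γ(S, V) Q : Cardinal.{u}) ≤ (E : Cardinal.{u}) := h4.symm.le.trans h3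
    exact_mod_cast h5


/-- Let S be locally Noetherian, f : X ⟶ S locally of finite type and x a point of X with image s. Let n
be the transcendence degree of κ(x) over κ(s) and let E bound the transcendence degree of κ(ξ) over
κ(f ξ) for every generic point ξ of an irreducible component of X passing through x. Then dim
O_{X,x} + n ≤ dim O_{S,s} + E. (The published statement takes E to be the maximum of these
transcendence degrees; the statement with any upper bound E is equivalent.) -/
theorem result {X S : Scheme.{u}} [IsLocallyNoetherian S]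
    (f : X ⟶ S) [LocallyOfFiniteType f] (x : X) (n E : ℕ)
    (hn : letI := (f.residueFieldMap x).hom.toAlgebra
      Algebra.trdeg (S.residueField (f.base x)) (X.residueField x) = n)
    (hE : ∀ ξ : X, closure {ξ} ∈ irreducibleComponents ↥X → ξ ⤳ x →
      letI := (f.residueFieldMap ξ).hom.toAlgebra
      Algebra.trdeg (S.residueField (f.base ξ)) (X.residueField ξ) ≤ E) :
    ringKrullDim (X.presheaf.stalk x) + n ≤ ringKrullDim (S.presheaf.stalk (f.base x)) + E := by
  exact result' f x n E hn hE

end Groth.Agent.S9687
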