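import Groth.Statements.S13532
import Groth.Agent.S7899
import Groth.Agent.S2902

set_option autoImplicit false
universe u
open CategoryTheory CategoryTheory.Limits AlgebraicGeometry
open ResProp

namespace Groth.Agent.S13532


section Helpers
open AlgebraicGeometry CategoryTheory CategoryTheory.Limits TopologicalSpace

lemma maximal_of_mem_irreducibleComponents {T : Type*} [TopologicalSpace T] [T0Space T] (ξ : T)
    (hξ : closure {ξ} ∈ irreducibleComponents T) (η : T) (hη : η ⤳ ξ) : η = ξ := by
  have h1 : closure ({ξ} : Set T) ≤ closure {η} := specializes_iff_closure_subset.mp hη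
  have h2 : closure ({η} : Set T) ≤ closure {ξ} := hξ.2 isIrreducible_singleton.closure h1
  exact (hη.antisymm (specializes_iff_closure_subset.mpr h2)).eq

lemma finite_of_forall_isClosed_singleton {T : Type*} [TopologicalSpace T] [NoetherianSpace T]
    [QuasiSober T] (hcl : ∀ z : T, IsClosed ({z} : Set T)) : Finite T := by
  have hfinC := TopologicalSpace.NoetherianSpace.finite_irreducibleComponents (α := T)
  have hsing : ∀ Z ∈ irreducibleComponents T, Z.Finite := by
    intro Z hZ
    have hirr : IsIrreducible Z := hZ.1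
    have hclZ : IsClosed Z := isClosed_of_mem_irreducibleComponents Z hZ
    obtain ⟨g, hg⟩ := QuasiSober.sober hirr hclZ
    have hZg : Z = {g} := by rw [← hg.def, (hcl g).closure_eq]
    rw [hZg]; exact Set.finite_singleton g
  have hfin : (Set.univ : Set T).Finite := by
    rw [← sUnion_irreducibleComponents]
    exact hfinC.sUnion hsing
  exact Set.finite_univ_iff.mp hfin

end Helpers


/-- A morphism of finite type between locally Noetherian schemes which is birational (an isomorphism
over a dense open of the target whose preimage is dense in the source) has finite fibres over all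
points of the target of codimension at most 1, i.e. whose local ring has Krull dimension at most 1. -/
theorem result {X Y : Scheme.{u}}
    [IsLocallyNoetherian X] [IsLocallyNoetherian Y] (f : Y ⟶ X) [LocallyOfFiniteType f] [QuasiCompact f]
    (U : X.Opens) (hU : Dense (U : Set X)) (hU' : Dense ((f ⁻¹ᵁ U : Y.Opens) : Set Y)) (hiso : IsIso (f ∣_ U))
    (x : X) (hx : ringKrullDim (X.presheaf.stalk x) ≤ 1) :
    (f.base ⁻¹' {x}).Finite := by
  haveI := hiso
  have hgenU : ∀ ξ : Y, (∀ η : Y, η ⤳ ξ → η = ξ) → ξ ∈ f ⁻¹ᵁ U := fun ξ hξ =>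
    Groth.Agent.S2902.mem_of_dense_of_maximal (f ⁻¹ᵁ U) hU' ξ hξ
  have hclz : ∀ z : f.fiber x, IsClosed ({z} : Set (f.fiber x)) := by
    intro z
    apply Groth.Agent.H54.isClosed_of_tdeg_eq_zero (Groth.Agent.H54.fiberQ f x) z
    have hfy : f.base (f.fiberι x z) = x := Groth.Agent.H54.fiberι_mem f x z
    have hn := Groth.Agent.H54.trdeg_fiber_eq f x z
    have hE : ∀ ξ : Y, closure {ξ} ∈ irreducibleComponents ↥Y → ξ ⤳ f.fiberι x z →
        @Algebra.trdeg (X.residueField (f.base ξ)) (Y.residueField ξ) _ _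
          (f.residueFieldMap ξ).hom.toAlgebra ≤ ((0 : ℕ) : Cardinal.{u}) := by
      intro ξ hξ _
      have hξU : ξ ∈ f ⁻¹ᵁ U := hgenU ξ (maximal_of_mem_irreducibleComponents ξ hξ)
      haveI := Groth.Agent.S7899.isIso_stalkMap_of_isIso_restrict f U ξ hξU
      exact le_of_eq ((Groth.Agent.S7899.trdeg_residueFieldMap_eq_zero_of_isIso_stalkMap f ξ).trans
        Nat.cast_zero.symm)
    have hineq := Groth.Agent.S9687.result f (f.fiberι x z)
      (Groth.Agent.H54.tdeg (Groth.Agent.H54.fiberQ f x) z) 0 hn hE
    by_cases hyU : f.fiberι x z ∈ f ⁻¹ᵁ U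
    · haveI := Groth.Agent.S7899.isIso_stalkMap_of_isIso_restrict f U (f.fiberι x z) hyU
      have h0 := Groth.Agent.S7899.trdeg_residueFieldMap_eq_zero_of_isIso_stalkMap f (f.fiberι x z)
      rw [h0] at hn
      exact_mod_cast hn.symm
    · obtain ⟨ξ, hξy, hξmax⟩ := Groth.Agent.H71.DimFun.exists_generic_specializes Y (f.fiberι x z)
      have hξU := hgenU ξ hξmax
      have hne : f.fiberι x z ≠ ξ := fun h => hyU (h ▸ hξU)
      have h1 : (1 : WithBot ℕ∞) ≤ ringKrullDim (Y.presheaf.stalk (f.fiberι x z)) :=
        Groth.Agent.H95.StalkPrimes.one_le_dim_of_specializes_ne hξy hne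
      by_contra hne0
      have ht1 : (1 : WithBot ℕ∞) ≤
          ((Groth.Agent.H54.tdeg (Groth.Agent.H54.fiberQ f x) z : ℕ) : WithBot ℕ∞) := by
        exact_mod_cast Nat.one_le_iff_ne_zero.mpr hne0
      have h2 : (2 : WithBot ℕ∞) ≤ ringKrullDim (X.presheaf.stalk x) := by
        rw [← one_add_one_eq_two]
        have h3 := (add_le_add h1 ht1).trans hineq
        rw [hfy] at h3
        simpa using h3
      have h5 : (2 : ℕ∞) ≤ 1 := WithBot.coe_le_coe.mp (h2.trans hx)
      exact absurd h5 (by norm_num)
  haveI : IsLocallyNoetherian (f.fiber x) :=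
    LocallyOfFiniteType.isLocallyNoetherian (Groth.Agent.H54.fiberQ f x)
  haveI : IsNoetherian (f.fiber x) := {}
  haveI : Finite (f.fiber x) := finite_of_forall_isClosed_singleton hclz
  have hfin : (Set.univ : Set (f ⁻¹' {x})).Finite :=
    (Set.finite_univ (α := f.fiber x)).image (f.fiberHomeo x) |>.subset (fun w _ =>
      ⟨(f.fiberHomeo x).symm w, Set.mem_univ _, (f.fiberHomeo x).apply_symm_apply w⟩)
  exact Set.finite_coe_iff.mp (Set.finite_univ_iff.mp hfin)

end Groth.Agent.S13532
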