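import Groth.Statements.S13536
import Groth.Agent.S9514
import Groth.Agent.H36.CdIsoLift
import Groth.Agent.H36.CdIsoFilt
import Groth.Agent.H22.CdIso_V1
import Groth.Agent.H22.CdIso_L
-- import your own Groth.Agent.* helpers here

set_option autoImplicit false
universe u
open CategoryTheory CategoryTheory.Limits AlgebraicGeometry
open ResProp

namespace Groth.Agent.S13536

/-- On a Noetherian scheme X let Z be a closed subscheme of cohomological dimension at most k (every
quasi-coherent module on Z has zero cohomology in degrees ≥ k + 1) and let F, F' be coherent modules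
which are isomorphic on the open complement of Z. Then H^i(X, F) and H^i(X, F') are isomorphic for
all i ≥ k + 2 (existence of an additive isomorphism only; the identification depends on choices). -/
theorem result (X : Scheme.{u}) [IsNoetherian X]
    {Z : Scheme.{u}} (ι : Z ⟶ X) [IsClosedImmersion ι] (k : ℕ)
    (hcd : ∀ G : Z.Modules, Coh.IsQCoh G → ∀ i : ℕ, k + 1 ≤ i → Subsingleton (Coh.HH Z G i))
    (U : X.Opens) (hU : (U : Set X) = (Set.range ι.base)ᶜ)
    (F F' : X.Modules) (hF : Coh.IsCoh F) (hF' : Coh.IsCoh F')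
    (hiso : Nonempty (F.restrict U.ι ≅ F'.restrict U.ι)) (i : ℕ) (hi : k + 2 ≤ i) :
    Nonempty (Coh.HH X F i ≃+ Coh.HH X F' i) := by
  obtain ⟨e⟩ := hiso
  obtain ⟨j, rfl⟩ : ∃ j, i = j + 1 := ⟨i - 1, by omega⟩
  have hj : k + 1 ≤ j := by omega
  have hUJ : (U : Set X) = (ι.ker.support : Set X)ᶜ := by
    rw [hU, Scheme.Hom.support_ker, ι.isClosedEmbedding.isClosed_range.closure_eq]
  have hV : ∀ K : X.Modules, Coh.IsCoh K → (∀ V : X.Opens, V ≤ U → ∀ s : Γ(K, V), s = 0) →
      ∀ i : ℕ, k + 1 ≤ i → Subsingleton (Coh.HH X K i) := fun K hK hKU i hi =>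
    Groth.Agent.H36.CdIsoFilt.subsingleton_HH_of_supported X ι.ker U hUJ k
      (fun K' hK' h0 i' hi' =>
        Groth.Agent.H22.CdIsoV1.subsingleton_HH_of_idealMul_eq_zero X ι k hcd K' hK'.1 h0 i' hi')
      K hK hKU i hi
  obtain ⟨P, κ, ψ, hP, h1, h2, h3, h4⟩ :=
    Groth.Agent.H36.CdIsoLift.exists_lift_with_supports X F F' hF hF' U e
  have cκ := Groth.Agent.S9514.result X hP hF κ
  have cψ := Groth.Agent.S9514.result X hP hF' ψ
  obtain ⟨e1⟩ := Groth.Agent.H22.CdIsoL.nonempty_addEquiv_of_ker_coker X κ j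
    (hV _ cκ.1 h1 _ (by omega)) (hV _ cκ.1 h1 _ (by omega))
    (hV _ cκ.2 h2 _ hj) (hV _ cκ.2 h2 _ (by omega))
  obtain ⟨e2⟩ := Groth.Agent.H22.CdIsoL.nonempty_addEquiv_of_ker_coker X ψ j
    (hV _ cψ.1 h3 _ (by omega)) (hV _ cψ.1 h3 _ (by omega))
    (hV _ cψ.2 h4 _ hj) (hV _ cψ.2 h4 _ (by omega))
  exact ⟨e1.symm.trans e2⟩

end Groth.Agent.S13536
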