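import Groth.Statements.S1354
import Groth.Agent.H7.EtaleLoc3

set_option autoImplicit false
universe u
open FlatMor

namespace Groth.Agent.S1354

open AlgebraicGeometry CategoryTheory Limits in
/-- Let f be locally of finite type, s a point of the target, and x_1, ..., x_n points over s at each of
which f is quasi-finite. Then there are an elementary étale neighbourhood (U, u) of (S, s) and, for
each i, an open V_i of the base change of X to U which is finite over U, has exactly one point v_i
over u, and v_i maps to x_i inducing a bijection of residue fields. -/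
theorem result {X S : Scheme.{u}} (f : X ⟶ S) [LocallyOfFiniteType f] (s : S) {ι : Type} [Finite ι]
    (x : ι → ↑X) (hs : ∀ i, f (x i) = s) (hx : ∀ i, f.QuasiFiniteAt (x i)) :
    ∃ (U : Scheme.{u}) (g : U ⟶ S) (u : U), Hens2.IsEtaleNbhd g u s ∧
      ∃ (V : ι → (pullback f g).Opens) (v : ι → ↑(pullback f g)), ∀ i, v i ∈ V i ∧ IsFinite ((V i).ι ≫ pullback.snd f g) ∧
        pullback.snd f g (v i) = u ∧ (∀ w : ↑(pullback f g), w ∈ V i → pullback.snd f g w = u → w = v i) ∧
        pullback.fst f g (v i) = x i ∧ Function.Bijective ((pullback.fst f g).residueFieldMap (v i)) := by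
  obtain ⟨U, g, u, hg, hgu, hres, V, v, hV⟩ :=
    Groth.Agent.H7.exists_common_etale_nbhd f s ι x hs hx
  refine ⟨U, g, u, ⟨hg, hgu, hres⟩, V, v, fun i => ?_⟩
  obtain ⟨hvV, hfin, hsnd, huniq, hfst⟩ := hV i
  refine ⟨hvV, hfin, hsnd, huniq, hfst, ?_⟩
  apply Groth.Agent.H7.bijective_residueFieldMap_fst
  rw [hsnd]
  exact hres

end Groth.Agent.S1354
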