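import Groth.Statements.S13542
import Groth.Agent.S1063
import Groth.Agent.H95.QCohColim
import Groth.Agent.H8.TensorQCoh
import Groth.Agent.H58.SigmaPush

set_option autoImplicit false
universe u
open CategoryTheory CategoryTheory.Limits AlgebraicGeometry
open ResProp

namespace Groth.Agent.S13542

set_option linter.style.haveILetI false

open Groth.Agent.H31 Groth.Agent.H31.Stalk Groth.Agent.H53

/-- `(N ⊗ D) ⊗ A ≅ (N ⊗ A) ⊗ D`, naturally in `N`. -/
noncomputable def swapIso {Y : Scheme.{u}} (D A : Y.Modules) :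
    (ModSite.tensorBi (shX Y)).flip.obj D ⋙ (ModSite.tensorBi (shX Y)).flip.obj A ≅
      (ModSite.tensorBi (shX Y)).flip.obj A ⋙ (ModSite.tensorBi (shX Y)).flip.obj D :=
  (tensorAssocIso ((toPM (shX Y)).obj D) ((toPM (shX Y)).obj A)).symm ≪≫
    (ModSite.tensorBi (shX Y)).flip.mapIso ((braidIso (O := shX Y) D).app A) ≪≫
    tensorAssocIso ((toPM (shX Y)).obj A) ((toPM (shX Y)).obj D)

/-- In the case of schemes over an affine base, let f : X ⟶ Y be finite, flat, of finite presentation
and surjective between quasi-compact quasi-separated schemes. If a family (E_i) of finitely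
presented quasi-coherent modules on X is generating, i.e. every quasi-coherent module on X is a
quotient of a direct sum of copies of the E_i, then the family of direct images (f_*E_i) is
generating on Y. (The published statement is for morphisms of algebraic stacks and families
generating relative to a further morphism; this row is the case of schemes with the absolute notion
of a generating family.) -/
theorem result {X Y : Scheme.{u}}
    [CompactSpace X] [QuasiSeparatedSpace X] [CompactSpace Y] [QuasiSeparatedSpace Y]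
    (f : X ⟶ Y) [IsFinite f] [Flat f] [LocallyOfFinitePresentation f] [Surjective f]
    {ι : Type u} (E : ι → X.Modules) (hE : ∀ i, Coh.IsQCoh (E i) ∧ CohB1.IsFP (E i))
    (hgen : ∀ M : X.Modules, Coh.IsQCoh M →
      ∃ (κ : Type u) (j : κ → ι) (π : (∐ fun k : κ => E (j k)) ⟶ M), Epi π) :
    ∀ N : Y.Modules, Coh.IsQCoh N →
      ∃ (κ : Type u) (j : κ → ι) (π : (∐ fun k : κ => (Scheme.Modules.pushforward f).obj (E (j k))) ⟶ N), Epi π := by
  intro N hN
  have hf : Mor2.IsFinLocFree f := ⟨inferInstance, inferInstance, inferInstance⟩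
  obtain ⟨hfaff, hAflf⟩ := (Groth.Agent.S9716.result f).mpr hf
  haveI := hfaff
  haveI : N.IsQuasicoherent := hN
  have hA' : SheafHomExact.LocFinFree (shX Y) (ProjAffine.pushO f) :=
    FinLocFreeSlice.locFinFree_of_isFinLocFree _ hAflf
  have hD : FlatMod.IsFinLocFree (DualAdj.dual (O := shX Y) (ProjAffine.pushO f)) :=
    DualAdj.isFinLocFree_of_locFinFree _ (DualAdj.locFinFree_dual _ hA')
  haveI hDq : (DualAdj.dual (O := shX Y) (ProjAffine.pushO f)).IsQuasicoherent :=
    Groth.Agent.H8.isQuasicoherent_of_isFinLocFree _ hD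
  haveI hN'q : (CohB1.tensorMod N (DualAdj.dual (O := shX Y) (ProjAffine.pushO f))).IsQuasicoherent :=
    Groth.Agent.H8.isQuasicoherent_tensorMod N _
  have hq : ((Scheme.Modules.pullback f).obj
      (CohB1.tensorMod N (DualAdj.dual (O := shX Y) (ProjAffine.pushO f)))).IsQuasicoherent :=
    Groth.Agent.H8.isQuasicoherent_pullback f _
  obtain ⟨κ, j, πX, hπX⟩ := hgen _ hq
  haveI := hπX
  haveI := hq
  have hEq : ∀ k, (E (j k)).IsQuasicoherent := fun k => (hE (j k)).1
  haveI : (∐ fun k => E (j k)).IsQuasicoherent :=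
    Groth.Agent.H95.QCohColim.isQuasicoherent_of_isColimit _
      (Limits.colimit.isColimit (Discrete.functor (fun k => E (j k)))) (fun k => hEq k.as)
  have h1 : Epi ((Scheme.Modules.pushforward f).map πX) :=
    Groth.Agent.H21.EpiPush.epi_pushforward_map f πX
  obtain ⟨eN⟩ := ProjAffine.nonempty_iso f
    (CohB1.tensorMod N (DualAdj.dual (O := shX Y) (ProjAffine.pushO f)))
  have h0 := Groth.Agent.H58.SigmaPush.epi_sigma_pushforward f (fun k => E (j k)) hEq
  have hR : ∀ T : ModSite.Mod (shX Y),
      Limits.IsZero (((ModSite.tensorBi (shX Y)).flip.obj (ProjAffine.pushO f)).obj T) →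
        Limits.IsZero T :=
    fun T h => Groth.Agent.H58.TensorFaithful.isZero_of_isZero_tensorMod T (ProjAffine.pushO f)
      hAflf (Groth.Agent.S1063.nontrivial_stalk_pushO f) h
  have h3 := @Groth.Agent.S1063.epi_homEquiv_symm _ _ _ _ _
    (DualAdj.adj (ProjAffine.pushO f) hA') _ _ hR _ _
    (𝟙 (((ModSite.tensorBi (shX Y)).flip.obj (ProjAffine.pushO f)).obj N)) inferInstance
  let σ := (swapIso (DualAdj.dual (O := shX Y) (ProjAffine.pushO f)) (ProjAffine.pushO f)).app N
  refine ⟨κ, j, Limits.Sigma.desc (fun k => (Scheme.Modules.pushforward f).map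
      (Limits.Sigma.ι (fun k => E (j k)) k)) ≫ (Scheme.Modules.pushforward f).map πX ≫
    eN.inv ≫ σ.hom ≫ ((DualAdj.adj (ProjAffine.pushO f) hA').homEquiv _ N).symm (𝟙 _), ?_⟩
  have h4 : Epi σ.hom := inferInstance
  have h5 : Epi eN.inv := inferInstance
  exact epi_comp' h0 (epi_comp' h1 (epi_comp' h5 (epi_comp' h4 h3)))

end Groth.Agent.S13542
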