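import Groth.Statements.S9734
import Mathlib
import Groth.Agent.H22.EtaleNbhd

set_option linter.style.haveILetI false

set_option autoImplicit false
universe u
open FlatMor

namespace Groth.Agent.S9734

set_option backward.isDefEq.respectTransparency false in
open AlgebraicGeometry CategoryTheory Limits in
/-- Let S be a scheme, s a point of S and k a finite separable field extension of the residue field
κ(s). Then there is an étale neighbourhood (U, u) ⟶ (S, s) whose residue field extension κ(u)/κ(s)
is isomorphic to k/κ(s). -/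
theorem result (S : Scheme.{u}) (s : S) (k : Type u) [Field k]
    [Algebra (S.residueField s) k] [FiniteDimensional (S.residueField s) k] [Algebra.IsSeparable (S.residueField s) k] :
    ∃ (U : Scheme.{u}) (g : U ⟶ S) (u : U) (hu : g u = s), Etale g ∧
      letI := ((S.residueFieldCongr hu).inv ≫ g.residueFieldMap u).hom.toAlgebra
      Nonempty (k ≃ₐ[S.residueField s] U.residueField u) := by
  classical
  obtain ⟨W, hW, hsW⟩ : ∃ W : S.Opens, IsAffineOpen W ∧ s ∈ W := by
    obtain ⟨W, hW, hsW, -⟩ := TopologicalSpace.Opens.isBasis_iff_nbhd.mp S.isBasis_affineOpens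
      (TopologicalSpace.Opens.mem_top s)
    exact ⟨W, hW, hsW⟩
  let ρ : Γ(S, W) →+* S.residueField s := (S.evaluation W s hsW).hom
  have hρ : Groth.Agent.H22.EtaleNbhd.FracSurj ρ := by
    intro x
    obtain ⟨y, rfl⟩ := S.residue_surjective s x
    letI := S.presheaf.algebra_section_stalk ⟨s, hsW⟩
    haveI := hW.isLocalization_stalk ⟨s, hsW⟩
    obtain ⟨⟨a, b⟩, hab⟩ :=
      IsLocalization.surj (hW.primeIdealOf ⟨s, hsW⟩).asIdeal.primeCompl y
    refine ⟨a, b, ?_, ?_⟩
    · have hu : IsUnit (algebraMap Γ(S, W) (S.presheaf.stalk s) b) :=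
        IsLocalization.map_units _ b
      have hu' : IsUnit ((S.residue s).hom (algebraMap Γ(S, W) (S.presheaf.stalk s) b)) :=
        hu.map (S.residue s).hom
      exact hu'.ne_zero
    · have h1 := congrArg (S.residue s).hom hab
      rw [map_mul] at h1
      exact h1
  obtain ⟨B, _, _, ψ, hEt, hcompat, hψ⟩ :=
    Groth.Agent.H22.EtaleNbhd.exists_etale_with_point ρ hρ k
  let φ : Γ(S, W) ⟶ CommRingCat.of B := CommRingCat.ofHom (algebraMap Γ(S, W) B)
  let g : Spec (CommRingCat.of B) ⟶ S := Spec.map φ ≫ hW.fromSpec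
  have hg : Etale g := by
    haveI : Etale (Spec.map φ) := by
      rw [HasRingHomProperty.Spec_iff (P := @Etale)]
      exact RingHom.etale_algebraMap.mpr hEt
    infer_instance
  let t' : Spec (CommRingCat.of k) ⟶ Spec (CommRingCat.of B) := Spec.map (CommRingCat.ofHom ψ)
  have e1 : S.fromSpecResidueField s = Spec.map (S.evaluation W s hsW) ≫ hW.fromSpec := by
    rw [Scheme.fromSpecResidueField, ← hW.fromSpecStalk_eq_fromSpecStalk hsW,
      IsAffineOpen.fromSpecStalk, ← Category.assoc, ← Spec.map_comp]
    rfl
  have e2 : φ ≫ CommRingCat.ofHom ψ =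
      S.evaluation W s hsW ≫ CommRingCat.ofHom (algebraMap (S.residueField s) k) := by
    ext a
    exact congrArg (fun h : Γ(S, W) →+* k => h a) hcompat
  have h6 : t' ≫ g = (Scheme.SpecToEquivOfField k S).symm
      ⟨s, CommRingCat.ofHom (algebraMap (S.residueField s) k)⟩ := by
    calc t' ≫ g = Spec.map (φ ≫ CommRingCat.ofHom ψ) ≫ hW.fromSpec := by
          simp only [t', g, Spec.map_comp, Category.assoc]
      _ = Spec.map (S.evaluation W s hsW ≫ CommRingCat.ofHom (algebraMap (S.residueField s) k)) ≫
            hW.fromSpec := by rw [e2]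
      _ = Spec.map (CommRingCat.ofHom (algebraMap (S.residueField s) k)) ≫ S.fromSpecResidueField s := by
          rw [e1, Spec.map_comp, Category.assoc]
      _ = _ := rfl
  have h9 : Scheme.SpecToEquivOfField k S (t' ≫ g) =
      ⟨s, CommRingCat.ofHom (algebraMap (S.residueField s) k)⟩ := by
    rw [h6, Equiv.apply_symm_apply]
  obtain ⟨e, he⟩ := Scheme.SpecToEquivOfField_eq_iff.mp h9
  have hu : g.base (t'.base (IsLocalRing.closedPoint k)) = s := e
  let ι : (Spec (CommRingCat.of B)).residueField (t'.base (IsLocalRing.closedPoint k)) ⟶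
      CommRingCat.of k := Scheme.descResidueField (Scheme.stalkClosedPointTo t')
  have h8 := Scheme.descResidueField_stalkClosedPointTo_comp g t'
  have h10 : g.residueFieldMap (t'.base (IsLocalRing.closedPoint k)) ≫ ι =
      (S.residueFieldCongr hu).hom ≫ CommRingCat.ofHom (algebraMap (S.residueField s) k) := by
    rw [← h8]
    exact he
  have hA : ((S.residueFieldCongr hu).inv ≫
      g.residueFieldMap (t'.base (IsLocalRing.closedPoint k))) ≫ ι =
      CommRingCat.ofHom (algebraMap (S.residueField s) k) := by
    rw [Category.assoc, h10, Iso.inv_hom_id_assoc]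
  have hB : ∀ x : B, ∃ z, ι.hom z = ψ x := by
    have h11 : Spec.map ι ≫ (Spec (CommRingCat.of B)).fromSpecResidueField
        (t'.base (IsLocalRing.closedPoint k)) = t' :=
      Scheme.descResidueField_stalkClosedPointTo_fromSpecResidueField k _ t'
    have h12 : (Spec (CommRingCat.of B)).fromSpecResidueField
        (t'.base (IsLocalRing.closedPoint k)) =
        Spec.map ((Scheme.ΓSpecIso (CommRingCat.of B)).inv ≫
          (Spec (CommRingCat.of B)).Γevaluation (t'.base (IsLocalRing.closedPoint k))) := by
      rw [Scheme.fromSpecResidueField, Spec.fromSpecStalk_eq, ← Spec.map_comp]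
      rfl
    rw [h12, ← Spec.map_comp] at h11
    have h13 := Spec.map_injective h11
    intro x
    refine ⟨((Scheme.ΓSpecIso (CommRingCat.of B)).inv ≫
      (Spec (CommRingCat.of B)).Γevaluation (t'.base (IsLocalRing.closedPoint k))).hom x, ?_⟩
    exact congrArg (fun h : CommRingCat.of B ⟶ CommRingCat.of k => h.hom x) h13
  have hsurj : Function.Surjective ι.hom := by
    intro y
    obtain ⟨a, b, hb, hab⟩ := hψ y
    obtain ⟨a', ha'⟩ := hB a
    obtain ⟨b', hb'⟩ := hB b
    refine ⟨a' / b', ?_⟩
    rw [map_div₀, ha', hb', div_eq_iff hb, hab]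
  refine ⟨Spec (CommRingCat.of B), g, t'.base (IsLocalRing.closedPoint k), hu, hg, ?_⟩
  letI : Algebra (S.residueField s)
      ((Spec (CommRingCat.of B)).residueField (t'.base (IsLocalRing.closedPoint k))) :=
    ((S.residueFieldCongr hu).inv ≫
      g.residueFieldMap (t'.base (IsLocalRing.closedPoint k))).hom.toAlgebra
  let e₀ : (Spec (CommRingCat.of B)).residueField (t'.base (IsLocalRing.closedPoint k)) ≃+* k :=
    RingEquiv.ofBijective ι.hom ⟨ι.hom.injective, hsurj⟩
  have he₀ : ∀ c : S.residueField s, e₀ (algebraMap (S.residueField s)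
      ((Spec (CommRingCat.of B)).residueField (t'.base (IsLocalRing.closedPoint k))) c) =
      algebraMap (S.residueField s) k c := by
    intro c
    exact congrArg (fun h : S.residueField s ⟶ CommRingCat.of k => h.hom c) hA
  exact ⟨(AlgEquiv.ofRingEquiv (f := e₀) he₀).symm⟩

end Groth.Agent.S9734
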