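import Groth.Statements.S1355
import Groth.Agent.H37.GeomConnFS
import Groth.Agent.S9734

set_option autoImplicit false
universe u
open FlatMor

namespace Groth.Agent.S1355

open AlgebraicGeometry CategoryTheory Limits in
/-- Let f : X → S and s a point of S. The fibre of f over s is geometrically connected if and only if
for every étale morphism U → S and every point u over s, the fibre over u of the base change of f to
U is connected. -/
theorem result {X S : Scheme.{u}} (f : X ⟶ S) (s : S) :
    GeometricallyConnected (f.fiberToSpecResidueField s) ↔
      ∀ (U : Scheme.{u}) (g : U ⟶ S) (u : U), Etale g → g u = s → ConnectedSpace ↑((pullback.snd f g).fiber u) := by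
  constructor
  · intro hgc U g u _ hu
    subst hu
    have sq := isPullback_fiberToSpecResidueField_of_isPullback
      (IsPullback.of_hasPullback f g) u
    exact hgc.geometrically_connectedSpace (Spec.map (g.residueFieldMap u)) _ _ sq
  · intro h
    refine Groth.Agent.H37.geomConn_of_forall_finite_separable (k := S.residueField s)
      (f.fiberToSpecResidueField s) ?_
    intro K _ _ _ _
    obtain ⟨U, g, u, hu, het, ⟨e⟩⟩ := Groth.Agent.S9734.result S s K
    have hconn := h U g u het hu
    obtain ⟨ρ, hρ⟩ : ∃ ρ : K ≃+* U.residueField u, ∀ x,
        ρ (algebraMap (S.residueField s) K x) =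
          ((S.residueFieldCongr hu).inv ≫ g.residueFieldMap u).hom x := by
      letI := ((S.residueFieldCongr hu).inv ≫ g.residueFieldMap u).hom.toAlgebra
      exact ⟨e.toRingEquiv, fun x => e.commutes x⟩
    clear e
    subst hu
    have sq := isPullback_fiberToSpecResidueField_of_isPullback
      (IsPullback.of_hasPullback f g) u
    have hψ : CommRingCat.ofHom (algebraMap (S.residueField (g u)) K) ≫
        (ρ.toCommRingCatIso).hom = g.residueFieldMap u := by
      apply CommRingCat.hom_ext
      apply RingHom.ext
      intro x
      exact hρ x
    have sq' : IsPullback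
        (pullback.map _ _ _ _ (pullback.fst f g) (Spec.map (g.residueFieldMap u)) g
          (IsPullback.of_hasPullback f g).w.symm (by simp))
        ((pullback.snd f g).fiberToSpecResidueField u ≫
          Spec.map (ρ.toCommRingCatIso).hom)
        (f.fiberToSpecResidueField (g u))
        (Spec.map (CommRingCat.ofHom (algebraMap (S.residueField (g u)) K))) := by
      refine sq.of_iso (Iso.refl _) (Iso.refl _)
        (Scheme.Spec.mapIso (ρ.toCommRingCatIso).op) (Iso.refl _) ?_ ?_ ?_ ?_
      · exact (Category.comp_id _).trans (Category.id_comp _).symm
      · rw [Iso.refl_hom, Category.id_comp]; rfl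
      · exact (Category.comp_id _).trans (Category.id_comp _).symm
      · rw [← hψ, Spec.map_comp]; exact Category.comp_id _
    haveI : ConnectedSpace ↥(pullback (pullback.snd f g) (U.fromSpecResidueField u)) := hconn
    exact (sq'.isoPullback.hom.homeomorph).surjective.connectedSpace
      (sq'.isoPullback.hom.homeomorph).continuous

end Groth.Agent.S1355
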