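import Groth.Statements.S13578
import Groth.Agent.H6.DerivedAR
import Groth.Agent.H31.KFlatResolutionSite

set_option autoImplicit false
universe u
open CategoryTheory CategoryTheory.Limits MonoidalCategory
attribute [local instance] HasDerivedCategory.standard
open DTen

namespace Groth.Agent.S13578

open Groth.Agent.H6.DerivedAR Pretriangulated

section Assemble

variable {𝒟 : Type*} [Category 𝒟]

lemma assemble' {S E L1 L2 L3 L4 T1 QP QM : 𝒟} (g' : S ⟶ E) (ε : L1 ⟶ E) [IsIso ε]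
    (LqI : L1 ⟶ L2) (LI : L2 ⟶ L4) (LIP : L1 ⟶ L3) (LqA : L3 ⟶ L4) (UM : L4 ⟶ QM)
    (UP : L3 ⟶ QP) (ε1 : L3 ⟶ T1) (lam : T1 ⟶ QP) (wr : E ⟶ T1) (qq : QP ⟶ QM) (w : E ⟶ QP)
    (tgt : S ⟶ QM) (ha : LqI ≫ LI = LIP ≫ LqA) (hb : LqA ≫ UM = UP ≫ qq) (hc : UP = ε1 ≫ lam)
    (hd : LIP ≫ ε1 = ε ≫ wr) (hw : w = wr ≫ lam) (hg : g' ≫ w ≫ qq = tgt) :
    (g' ≫ inv ε ≫ LqI) ≫ LI ≫ UM = tgt := by
  rw [← hg, hw]
  simp only [Category.assoc]
  rw [reassoc_of% ha, hb, hc]
  simp only [Category.assoc]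
  rw [reassoc_of% hd, IsIso.inv_hom_id_assoc]

end Assemble

variable {A : Type u} [CommRing A]

lemma smul_id_whiskerRight (x : A) (K L : DRing.Cx A) : (x • 𝟙 K) ▷ L = x • 𝟙 (K ⊗ L) := by
  change HomologicalComplex.mapBifunctorMap (x • 𝟙 K) (𝟙 L) (curriedTensor (ModuleCat.{u} A))
    (ComplexShape.up ℤ) = x • 𝟙 _
  refine HomologicalComplex.hom_ext _ _ (fun n =>
    HomologicalComplex.mapBifunctor.hom_ext (fun p q h => ?_))
  rw [HomologicalComplex.ι_mapBifunctorMap]
  simp [Linear.comp_smul, Linear.smul_comp]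
  erw [Category.comp_id]

lemma single_map_smul_id (x : A) (X : ModuleCat.{u} A) :
    (HomologicalComplex.single (ModuleCat.{u} A) (ComplexShape.up ℤ) 0).map (x • 𝟙 X) =
      x • 𝟙 ((HomologicalComplex.single (ModuleCat.{u} A) (ComplexShape.up ℤ) 0).obj X) := by
  apply HomologicalComplex.from_single_hom_ext
  simp [HomologicalComplex.single_map_f_self, Linear.comp_smul, Linear.smul_comp]

/-- `I[0]`. -/
noncomputable abbrev II (I : Ideal A) : DRing.Cx A :=
  (HomologicalComplex.single (ModuleCat.{u} A) (ComplexShape.up ℤ) 0).obj (ModuleCat.of A ↥I)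

/-- `I[0] ⟶ A[0]`. -/
noncomputable abbrev inclI (I : Ideal A) : II I ⟶ 𝟙_ (DRing.Cx A) :=
  (HomologicalComplex.single (ModuleCat.{u} A) (ComplexShape.up ℤ) 0).map
    (ModuleCat.ofHom I.subtype)

/-- `A[0] ⟶ I[0]`, `1 ↦ x`. -/
noncomputable def xhat (I : Ideal A) (x : A) (hx : x ∈ I) : 𝟙_ (DRing.Cx A) ⟶ II I :=
  (HomologicalComplex.single (ModuleCat.{u} A) (ComplexShape.up ℤ) 0).map
    (ModuleCat.ofHom (LinearMap.toSpanSingleton A ↥I ⟨x, hx⟩))

lemma xhat_inclI (I : Ideal A) (x : A) (hx : x ∈ I) :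
    xhat I x hx ≫ inclI I = x • 𝟙 (𝟙_ (DRing.Cx A)) := by
  have h : ModuleCat.ofHom (LinearMap.toSpanSingleton A ↥I ⟨x, hx⟩) ≫
      ModuleCat.ofHom I.subtype = x • 𝟙 (ModuleCat.of A A) := by
    ext
    simp
  show (HomologicalComplex.single (ModuleCat.{u} A) (ComplexShape.up ℤ) 0).map _ ≫
    (HomologicalComplex.single (ModuleCat.{u} A) (ComplexShape.up ℤ) 0).map _ = _
  rw [← Functor.map_comp, h]
  exact single_map_smul_id x _

lemma inclI_xhat (I : Ideal A) (x : A) (hx : x ∈ I) :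
    inclI I ≫ xhat I x hx = x • 𝟙 (II I) := by
  have h : ModuleCat.ofHom I.subtype ≫
      ModuleCat.ofHom (LinearMap.toSpanSingleton A ↥I ⟨x, hx⟩) = x • 𝟙 (ModuleCat.of A ↥I) := by
    ext a
    simp [mul_comm]
  show (HomologicalComplex.single (ModuleCat.{u} A) (ComplexShape.up ℤ) 0).map _ ≫
    (HomologicalComplex.single (ModuleCat.{u} A) (ComplexShape.up ℤ) 0).map _ = _
  rw [← Functor.map_comp, h]
  exact single_map_smul_id x _

/-- The multiplication map `I[0] ⊗ P ⟶ P`. -/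
noncomputable def wMap (I : Ideal A) (P : DRing.Cx A) : II I ⊗ P ⟶ P :=
  (inclI I ▷ P) ≫ (λ_ P).hom

/-- `P ⟶ I[0] ⊗ P`, `p ↦ x ⊗ p`. -/
noncomputable def hMap (I : Ideal A) (P : DRing.Cx A) (x : A) (hx : x ∈ I) : P ⟶ II I ⊗ P :=
  (λ_ P).inv ≫ (xhat I x hx ▷ P)

lemma hMap_wMap (I : Ideal A) (P : DRing.Cx A) (x : A) (hx : x ∈ I) :
    hMap I P x hx ≫ wMap I P = x • 𝟙 P := by
  unfold hMap wMap
  rw [Category.assoc, ← Category.assoc (xhat I x hx ▷ P), ← MonoidalCategory.comp_whiskerRight,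
    xhat_inclI, smul_id_whiskerRight, Linear.smul_comp, Category.id_comp, Linear.comp_smul,
    Iso.inv_hom_id]

lemma wMap_hMap (I : Ideal A) (P : DRing.Cx A) (x : A) (hx : x ∈ I) :
    wMap I P ≫ hMap I P x hx = x • 𝟙 (II I ⊗ P) := by
  unfold hMap wMap
  rw [Category.assoc, Iso.hom_inv_id_assoc, ← MonoidalCategory.comp_whiskerRight, inclI_xhat,
    smul_id_whiskerRight]

/-- The distinguished triangle `I[0] ⊗ P ⟶ P ⟶ cone ⟶`. -/
noncomputable def TT (I : Ideal A) (P : DRing.Cx A) : Triangle (Dual.D A) :=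
  DerivedCategory.Q.mapTriangle.obj (CochainComplex.mappingCone.triangle (wMap I P))

lemma TT_dist (I : Ideal A) (P : DRing.Cx A) : TT I P ∈ distTriang (Dual.D A) :=
  DerivedCategory.mappingCone_triangle_distinguished (wMap I P)

lemma TT_radical (I : Ideal A) (P : DRing.Cx A) : I ≤ (annD A (TT I P).obj₃).radical := by
  intro x hx
  refine Ideal.mem_radical_iff.mpr ⟨2, ?_⟩
  rw [pow_two, mem_annD]
  have e1 : DerivedCategory.Q.map (hMap I P x hx) ≫ DerivedCategory.Q.map (wMap I P) =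
      x • 𝟙 (DerivedCategory.Q.obj P) := by
    rw [← Functor.map_comp, hMap_wMap, Functor.map_smul, CategoryTheory.Functor.map_id]
  have e2 : DerivedCategory.Q.map (wMap I P) ≫ DerivedCategory.Q.map (hMap I P x hx) =
      x • 𝟙 (DerivedCategory.Q.obj (II I ⊗ P)) := by
    rw [← Functor.map_comp, wMap_hMap, Functor.map_smul, CategoryTheory.Functor.map_id]
  exact mul_self_smul_id_obj₃_eq_zero_of_homotopy (TT I P) (TT_dist I P) x
    (DerivedCategory.Q.map (hMap I P x hx)) e1 e2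

theorem key [IsNoetherianRing A] (I : Ideal A) (M : Type u) [AddCommGroup M] [Module A M]
    [Module.Finite A M] (P : DRing.Cx A)
    (q : P ⟶ (HomologicalComplex.single (ModuleCat.{u} A) (ComplexShape.up ℤ) 0).obj
      (ModuleCat.of A M)) [QuasiIso q] :
    ∃ (n : ℕ) (_ : 0 < n)
      (g' : DerivedCategory.Q.obj ((HomologicalComplex.single (ModuleCat.{u} A)
          (ComplexShape.up ℤ) 0).obj (ModuleCat.of A ↥(I ^ n • (⊤ : Submodule A M)))) ⟶
        DerivedCategory.Q.obj (II I ⊗ P)),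
      g' ≫ DerivedCategory.Q.map (wMap I P) ≫ DerivedCategory.Q.map q =
        DerivedCategory.Q.map ((HomologicalComplex.single (ModuleCat.{u} A)
          (ComplexShape.up ℤ) 0).map (ModuleCat.ofHom (I ^ n • (⊤ : Submodule A M)).subtype)) := by
  have hqq : IsIso (DerivedCategory.Q.map q) :=
    (DerivedCategory.isIso_Q_map_iff_quasiIso (φ := q)).mpr inferInstance
  have hqq' : IsIso (show (TT I P).obj₂ ⟶ Dual.inD A M from DerivedCategory.Q.map q) := hqq
  obtain ⟨n₀, hn₀⟩ := exists_pow_comp_eq_zero I (TT I P).obj₃ (TT_radical I P) M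
    (@inv _ _ _ _ (show (TT I P).obj₂ ⟶ Dual.inD A M from DerivedCategory.Q.map q) hqq' ≫
      (TT I P).mor₂)
  have hz := comp_eq_zero_succ I M n₀ _ hn₀
  obtain ⟨g', hg'⟩ := exists_lift_of_comp_eq_zero (TT I P) (TT_dist I P) _
    (show (TT I P).obj₂ ⟶ Dual.inD A M from DerivedCategory.Q.map q) hqq' hz
  exact ⟨n₀ + 1, Nat.succ_pos _, g', hg'⟩

/-- Let `A` be a Noetherian commutative ring (the derived tensor product on `D(A)` being assumed to
exist and to be computed by K-flat complexes), `I` an ideal and `M` a finite `A`-module. Then there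
is an integer `n > 0` such that the inclusion `I^n M ⟶ M`, viewed in `D(A)` in degree `0`, factors
through the canonical morphism `I ⊗^L M ⟶ M` (the map `I ⊗^L M ⟶ A ⊗^L M` induced by `I ⊆ A`,
followed by the unit isomorphism). -/
theorem result (A : Type u) [CommRing A] [IsNoetherianRing A]
    [DTen.HasLTen A] [DTen.KFlatComputes A] (I : Ideal A) (M : Type u) [AddCommGroup M] [Module A M]
    [Module.Finite A M] :
    ∃ (n : ℕ) (_ : 0 < n)
      (g : DerivedCategory.Q.obj ((HomologicalComplex.single (ModuleCat.{u} A) (ComplexShape.up ℤ) 0).obj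
              (ModuleCat.of A ↥(I ^ n • (⊤ : Submodule A M)))) ⟶
            (DTen.LTen₂ A).obj (DerivedCategory.Q.obj ((HomologicalComplex.single (ModuleCat.{u} A) (ComplexShape.up ℤ) 0).obj
              (ModuleCat.of A ↥I)),
              DerivedCategory.Q.obj ((HomologicalComplex.single (ModuleCat.{u} A) (ComplexShape.up ℤ) 0).obj
              (ModuleCat.of A M)))),
      g ≫ (DTen.LTen₂ A).map (Prod.mkHom
              (DerivedCategory.Q.map ((HomologicalComplex.single (ModuleCat.{u} A) (ComplexShape.up ℤ) 0).map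
                (ModuleCat.ofHom I.subtype)))
              (𝟙 _)) ≫
          (DTen.unitL A).app (DerivedCategory.Q.obj ((HomologicalComplex.single (ModuleCat.{u} A) (ComplexShape.up ℤ) 0).obj
              (ModuleCat.of A M))) =
        DerivedCategory.Q.map ((HomologicalComplex.single (ModuleCat.{u} A) (ComplexShape.up ℤ) 0).map
          (ModuleCat.ofHom (I ^ n • (⊤ : Submodule A M)).subtype)) := by
  obtain ⟨P, q, hPflat, _, hq, _⟩ := Groth.Agent.H31.KFlatRing.exists_isKFlat_resolution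
    ((HomologicalComplex.single (ModuleCat.{u} A) (ComplexShape.up ℤ) 0).obj (ModuleCat.of A M))
  haveI := hq
  obtain ⟨n, hn, g', hg'⟩ := key I M P q
  haveI : IsIso ((DTen.ε A).app (II I, P)) :=
    DTen.KFlatComputes.isIso_counit (II I) P (Or.inr hPflat)
  have ha : (DTen.LTen₂ A).map (Prod.mkHom (𝟙 (DerivedCategory.Q.obj (II I)))
        (DerivedCategory.Q.map q)) ≫
      (DTen.LTen₂ A).map (Prod.mkHom (DerivedCategory.Q.map (inclI I))
        (𝟙 (DerivedCategory.Q.obj ((HomologicalComplex.single (ModuleCat.{u} A)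
          (ComplexShape.up ℤ) 0).obj (ModuleCat.of A M))))) =
      (DTen.LTen₂ A).map (Prod.mkHom (DerivedCategory.Q.map (inclI I))
        (𝟙 (DerivedCategory.Q.obj P))) ≫
      (DTen.LTen₂ A).map (Prod.mkHom (𝟙 (DerivedCategory.Q.obj (𝟙_ (DRing.Cx A))))
        (DerivedCategory.Q.map q)) := by
    rw [← Functor.map_comp, ← Functor.map_comp]
    congr 1
  have hb : (DTen.LTen₂ A).map (Prod.mkHom (𝟙 (DerivedCategory.Q.obj (𝟙_ (DRing.Cx A))))
        (DerivedCategory.Q.map q)) ≫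
      (DTen.unitL A).app (DerivedCategory.Q.obj ((HomologicalComplex.single (ModuleCat.{u} A)
          (ComplexShape.up ℤ) 0).obj (ModuleCat.of A M))) =
      (DTen.unitL A).app (DerivedCategory.Q.obj P) ≫ DerivedCategory.Q.map q :=
    (DTen.unitL A).naturality (DerivedCategory.Q.map q)
  have hc := DTen.unitL_app A P
  have hd : (DTen.LTen₂ A).map (Prod.mkHom (DerivedCategory.Q.map (inclI I))
        (𝟙 (DerivedCategory.Q.obj P))) ≫ (DTen.ε A).app (𝟙_ (DRing.Cx A), P) =
      (DTen.ε A).app (II I, P) ≫ DerivedCategory.Q.map (inclI I ▷ P) := by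
    have e := (DTen.ε A).naturality (Prod.mkHom (inclI I) (𝟙 P))
    dsimp at e
    simp only [MonoidalCategory.whiskerLeft_id, Category.comp_id,
      CategoryTheory.Functor.map_id] at e
    exact e
  have hw : DerivedCategory.Q.map (wMap I P) =
      DerivedCategory.Q.map (inclI I ▷ P) ≫ DerivedCategory.Q.map (λ_ P).hom := by
    rw [← Functor.map_comp]
    rfl
  exact ⟨n, hn, _, assemble' g' ((DTen.ε A).app (II I, P)) _ _ _ _ _ _ _ _ _ _ _ _
    ha hb hc hd hw hg'⟩

end Groth.Agent.S13578
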