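import Groth.Statements.S13580
import Groth.Agent.H92.Excision
import Groth.Agent.H31.ExtZeroSh

set_option autoImplicit false
universe w' w u
open CategoryTheory CategoryTheory.Limits
open ExtSupp

namespace Groth.Agent.S13580

open Abelian in
/-- `Ext` is invariant under isomorphisms in the first variable -/
noncomputable def extPreIso {A : Type*} [Category A] [Abelian A] [HasExt.{w} A] {X X' : A}
    (e : X' ≅ X) (N : A) (i : ℕ) : Ext.{w} X N i ≃+ Ext.{w} X' N i where
  toFun x := (Ext.mk₀ e.hom).comp x (zero_add i)
  invFun y := (Ext.mk₀ e.inv).comp y (zero_add i)
  left_inv x := by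
    show (Ext.mk₀ e.inv).comp ((Ext.mk₀ e.hom).comp x (zero_add i)) (zero_add i) = x
    rw [Ext.mk₀_comp_mk₀_assoc, e.inv_hom_id, Ext.mk₀_id_comp]
  right_inv y := by
    show (Ext.mk₀ e.hom).comp ((Ext.mk₀ e.inv).comp y (zero_add i)) (zero_add i) = y
    rw [Ext.mk₀_comp_mk₀_assoc, e.hom_inv_id, Ext.mk₀_id_comp]
  map_add' x y := Ext.comp_add _ _ _ _



/-- Let `U`, `V` be objects of a ringed site which together cover it, with `V` subterminal (every object
has at most one morphism to `V`, so that `V` is an open of the topos and the closed complement `Z`
of `U` is contained in it), and let `M`, `N` be sheaves of modules. Then `Ext^i_Z(M, N)` computed on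
the whole site is isomorphic to `Ext^i_{Z}(V; M|_V, N|_V)`, the Ext group with supports computed on
the localised site over `V` with support the complement of `U × V ⟶ V`. Existence of an isomorphism
of groups in each degree only. (The published statement is for a ringed space, where every open set
is subterminal, a locally closed `Z` and an isomorphism of cohomological functors; this row is the
closed case on a ringed site, degree by degree, with the subterminality of `V` made an explicit
hypothesis. Without the covering hypothesis the statement fails, e.g. for `V = U`; without the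
subterminality of `V` it fails already in degree `0`, because restricting to the localised site over
an object that receives two different morphisms from one object can enlarge the group of sections.) -/
theorem result {C : Type u} [SmallCategory C] [HasBinaryProducts C]
    {J : GrothendieckTopology C} {O : Sheaf J CommRingCat.{u}} [HasExt.{w} (ModSite.Mod O)]
    (U V : C) [HasExt.{w'} (ModSite.Mod (O.over V))]
    (hV : ∀ X : C, Subsingleton (X ⟶ V)) (hUV : J.CoversTop (fun b : Bool => cond b U V)) (M N : ModSite.Mod O)
    (i : ℕ) :
    Nonempty (ExtSupp.ExtZ U M N i ≃+ ExtSupp.ExtZover V (Over.mk (prod.snd : U ⨯ V ⟶ V)) M N i) := by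
  have hbp : HasBinaryProducts (Over V) := Groth.Agent.H92.Excision.hasBinaryProducts_over V hV
  have hpo : ModSite.HasPushOver (O.over V) (Groth.Agent.H92.SuppSect.UX U V) :=
    ModSite.hasPushOver_of_hasBinaryProducts (O.over V) (Groth.Agent.H92.SuppSect.UX U V)
  have hiso := Groth.Agent.H92.Excision.isIso_cSharp O U V hV hUV M
  let e := asIso (Groth.Agent.H92.Excision.cSharp O U V M)
  have h1 : PreservesFiniteLimits (ModSite.extZero O V) :=
    Groth.Agent.H31.ExtZero.extZero_preservesFiniteLimits O V
  have h2 : (ModSite.extZero O V).Additive := (ModSite.extZeroAdj O V).left_adjoint_additive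
  have h3 : PreservesFiniteColimits (ModSite.extZero O V) :=
    ⟨fun _ _ _ => (ModSite.extZeroAdj O V).leftAdjoint_preservesColimits.preservesColimitsOfShape⟩
  exact ⟨(extPreIso e N i).trans
    (Groth.Agent.H30.ExtAdj.extAddEquiv (ModSite.extZeroAdj O V)
      ((ModSite.quotOn (O.over V) (Groth.Agent.H92.SuppSect.UX U V)).obj
        ((ModSite.restr O V).obj M)) N i)⟩

end Groth.Agent.S13580
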