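import Groth.Statements.S13582
import Groth.Agent.H53.QuotTensor
import Groth.Agent.H67.DerivedNat
import Groth.Agent.H5.SpSeq.ExtForm

set_option autoImplicit false
universe u
open CategoryTheory CategoryTheory.Limits
open ExtSupp

namespace Groth.Agent.S13582

open Groth.Agent.H53.QuotTensor Groth.Agent.H92.QuotSect in
/-- `Hom(O, Γ_Z N) ≃+ Hom(O_Z, N)` -/
noncomputable def sectEqv {C : Type u} [SmallCategory C]
    {J : GrothendieckTopology C} (O : Sheaf J CommRingCat.{u})
    (U : C) [ModSite.HasPushOver O U] (N : ModSite.Mod O) :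
    (ModSite.unit O ⟶ (ModSite.sectOn O U).obj N) ≃+
      ((ModSite.quotOn O U).obj (ModSite.unit O) ⟶ N) where
  toFun ψ := ((adj O U).homEquiv _ _).symm ψ
  invFun φ := (adj O U).homEquiv _ _ φ
  left_inv ψ := by simp
  right_inv φ := by simp
  map_add' ψ ψ' := by
    have : (ModSite.quotOn O U).Additive := (adj O U).left_adjoint_additive
    rw [Adjunction.homEquiv_counit, Adjunction.homEquiv_counit, Adjunction.homEquiv_counit,
      Functor.map_add, Preadditive.add_comp]

open Groth.Agent.H53.QuotTensor Groth.Agent.H92.QuotSect in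
/-- `Hom(O, Γ_Z N) ≅ Hom(O_Z, N)`, naturally in `N`. -/
noncomputable def sectIso {C : Type u} [SmallCategory C]
    {J : GrothendieckTopology C} (O : Sheaf J CommRingCat.{u})
    (U : C) [ModSite.HasPushOver O U] :
    ModSite.sectOn O U ⋙ preadditiveCoyoneda.obj (Opposite.op (ModSite.unit O)) ≅
      Groth.Agent.H5.GSS.homF ((ModSite.quotOn O U).obj (ModSite.unit O)) :=
  NatIso.ofComponents (fun N => (sectEqv O U N).toAddCommGrpIso) (fun {N N'} g => by
    apply AddCommGrpCat.ext
    intro ψ
    show ((adj O U).homEquiv _ _).symm (ψ ≫ (ModSite.sectOn O U).map g) =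
      ((adj O U).homEquiv _ _).symm ψ ≫ g
    rw [Adjunction.homEquiv_naturality_right_symm])

/-- the two `Hom(Z, -)` functors agree -/
noncomputable def homFIso' {A : Type (u + 1)} [Category.{u} A] [Abelian A] (Z : A) :
    Groth.Agent.H5.GSS.homF Z ≅ Groth.Agent.H67.DerivedNat.homF Z :=
  NatIso.ofComponents (fun Y => Iso.refl _) (fun f => by
    apply AddCommGrpCat.ext
    intro g
    rfl)

open Groth.Agent.H53.QuotTensor in
/-- `Γ_Z ℋom(M, -)` is `Hom(M/M_U, -)` -/
noncomputable def gammaIso {C : Type u} [SmallCategory C]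
    {J : GrothendieckTopology C} {O : Sheaf J CommRingCat.{u}}
    (U : C) [ModSite.HasPushOver O U] (M : ModSite.Mod O) [ModSite.HasSheafHom M] :
    ExtSupp.gammaZHom U M ≅ Groth.Agent.H5.GSS.homF ((ModSite.quotOn O U).obj M) :=
  Functor.isoWhiskerLeft (ModSite.sheafHom M) (sectIso O U) ≪≫ eGen M (θZ O U M)

/-- On a ringed site, for an object `U` with closed complement `Z` and a sheaf of modules `M`, the
`q`-th right derived functor of `N ↦ Γ_Z(ℋom_O(M, N))`, which is the definition of Ext with supports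
`Ext^q_{O,Z}(M, -)` as a derived functor, is isomorphic as a functor of `N` to `N ↦ Ext^q_O(M ⊗ O_Z,
N) = Ext^q_O(M/M_U, N)`. Existence of an isomorphism of functors only. The internal hom out of `M`,
the right adjoint of restriction to `U` and injective resolutions of sheaves of modules are assumed
to exist. -/
theorem result {C : Type u} [SmallCategory C]
    {J : GrothendieckTopology C} {O : Sheaf J CommRingCat.{u}} [HasExt.{u} (ModSite.Mod O)]
    (U : C) [ModSite.HasPushOver O U] (M : ModSite.Mod O) [ModSite.HasSheafHom M]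
    [HasInjectiveResolutions (ModSite.Mod O)] (q : ℕ) :
    Nonempty (ExtSupp.ExtZR U M q ≅ Abelian.extFunctorObj ((ModSite.quotOn O U).obj M) q) := by
  have e1 := Groth.Agent.H67.DerivedNat.rightDerivedNatIso (gammaIso U M) q
  cases q with
  | zero =>
    exact ⟨e1 ≪≫ (Groth.Agent.H5.GSS.homF ((ModSite.quotOn O U).obj M)).rightDerivedZeroIsoSelf ≪≫
      homFIso' _ ≪≫ (Groth.Agent.H67.DerivedNat.ext0Iso _).symm⟩
  | succ n =>
    exact ⟨e1 ≪≫ Groth.Agent.H67.DerivedNat.rightDerivedNatIso (homFIso' _) (n + 1) ≪≫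
      Groth.Agent.H67.DerivedNat.extIso _ n⟩

end Groth.Agent.S13582
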