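import Groth.Statements.S13587
import Groth.Agent.H53.QuotTensor
import Groth.Agent.S13588
import Groth.Agent.S0491

set_option autoImplicit false
universe u
open CategoryTheory CategoryTheory.Limits
open ExtSupp

namespace Groth.Agent.S13587

/-- On a ringed site, for an object `U` with closed complement `Z` and sheaves of modules `M`, `N`,
there is a bounded `E_2` spectral sequence of abelian groups with `E_2^{p,q}` isomorphic to
`H^p(ℰxt^q_{O,Z}(M, N))` (cohomology of the site) for `p, q ≥ 0` and zero otherwise, together with
abutment data whose filtrations are finite on `Ext^n_Z(M, N)` (`n ≥ 0`; zero for `n < 0`). The `E_2`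
identifications and the abutment isomorphisms are asserted to exist only and are not pinned to the
canonical maps, so edge maps are not part of this statement; the internal hom out of `M`, the right
adjoint of restriction to `U` and injective resolutions of sheaves of modules are assumed to exist.
(The published statement, on a ringed topos and likewise on a ringed space, is functorial in `M`,
`N` and in an object `X` of the topos; this row is the case of the final object.) -/
theorem result {C : Type u} [SmallCategory C]
    {J : GrothendieckTopology C} {O : Sheaf J CommRingCat.{u}} [HasExt.{u} (ModSite.Mod O)]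
    (U : C) [ModSite.HasPushOver O U] (M N : ModSite.Mod O) [ModSite.HasSheafHom M]
    [HasInjectiveResolutions (ModSite.Mod O)] :
    ∃ (E : E₂CohomologicalSpectralSequence AddCommGrpCat.{u})
      (a : SpSeq.Abutment E (fun n : ℤ =>
        if 0 ≤ n then AddCommGrpCat.of (ExtSupp.ExtZ U M N n.toNat) else AddCommGrpCat.of PUnit.{u + 1})),
      (∀ n, a.IsFinite n) ∧ SpSeq.IsBounded E ∧
      ∀ p q : ℤ, Nonempty ((E.page 2 le_rfl).X (p, q) ≅
        (if 0 ≤ p ∧ 0 ≤ q then AddCommGrpCat.of (ModSite.HC O ((ModSite.extZSh U M q.toNat).obj N) p.toNat)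
         else AddCommGrpCat.of PUnit.{u + 1})) := by
  refine Groth.Agent.H5.GSS.extForm (ModSite.sheafHom M ⋙ ModSite.sectOn O U)
    ((ModSite.quotOn O U).obj M) (ModSite.unit O)
    (Functor.associator _ _ _ ≪≫
      Functor.isoWhiskerLeft (ModSite.sheafHom M) (Groth.Agent.S13588.eIso O U (ModSite.unit O)) ≪≫
      Groth.Agent.H53.QuotTensor.eGen M (Groth.Agent.H53.QuotTensor.θZ O U M)) ?_ N _ _ ?_ ?_ ?_ ?_
  · intro Q hQ q hq x
    obtain ⟨q', rfl⟩ : ∃ q', q = q' + 1 := ⟨q - 1, by omega⟩
    have hinj := Groth.Agent.H92.QuotSect.injective_sectOn O U Q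
    have hacy := Groth.Agent.H92.SheafHomAcyc.isTotallyAcyclic_sheafHom O M
      ((ModSite.sectOn O U).obj Q)
    have hacy' : CohCx.IsTotallyAcyclic (ModSite.toAb
        ((ModSite.sheafHom M ⋙ ModSite.sectOn O U).obj Q)) :=
      Groth.Agent.H53.QuotTensor.isTotallyAcyclic_of_iso
        ((SheafOfModules.toSheaf (ModSite.ringSh O)).mapIso
          ((Groth.Agent.H53.QuotTensor.sheafHomSectOnIso O U M).app Q).symm) hacy
    obtain ⟨c⟩ := Groth.Agent.S0491.result J (ModSite.ringSh O)
      ((ModSite.sheafHom M ⋙ ModSite.sectOn O U).obj Q) (q' + 1)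
    have := Groth.Agent.H92.ExtLocalGlobal.sheafH_subsingleton_of_totallyAcyclic _ hacy' q'
    exact c.injective (Subsingleton.elim _ _)
  · intro n
    simp only [Int.natCast_nonneg, if_true, Int.toNat_natCast]
    exact ⟨Iso.refl _⟩
  · intro n hn
    rw [if_neg (by omega)]
    exact AddCommGrpCat.isZero_of_subsingleton _
  · intro p q
    simp only [Int.natCast_nonneg, and_self, if_true, Int.toNat_natCast]
    obtain ⟨c⟩ := Groth.Agent.S0491.result J (ModSite.ringSh O)
      (((ModSite.sheafHom M ⋙ ModSite.sectOn O U).rightDerived q).obj N) p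
    exact ⟨c.symm.toAddCommGrpIso⟩
  · intro p q hpq
    rw [if_neg (by omega)]
    exact AddCommGrpCat.isZero_of_subsingleton _

end Groth.Agent.S13587
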