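import Groth.Statements.S13597
import Groth.Agent.H68.Quot

set_option autoImplicit false
universe u
open CategoryTheory AlgebraicGeometry
open SGA1

namespace Groth.Agent.S13597

open Groth.Agent.H68.Quot
open scoped Pointwise

/-- The algebraic core: residue extensions of a ring of invariants. -/
theorem alg_key {A B G K L : Type u} [CommRing A] [CommRing B] [Algebra A B] [Group G] [Finite G]
    [MulSemiringAction G B] [SMulCommClass G A B] [Algebra.IsInvariant A B G] [Field K] [Field L]
    (evA : A →+* K) (evB : B →+* L) (φ : K →+* L)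
    (hφ : ∀ a, φ (evA a) = evB (algebraMap A B a))
    (hK : ∀ z : K, ∃ a s : A, evA s ≠ 0 ∧ z * evA s = evA a)
    (hL : ∀ z : L, ∃ b s : B, evB s ≠ 0 ∧ z * evB s = evB b) :
    (letI := φ.toAlgebra; Normal K L) ∧
    ∀ τ : L ≃+* L, (∀ k, τ (φ k) = φ k) →
      ∃ g : G, g • RingHom.ker evB = RingHom.ker evB ∧ ∀ b, τ (evB b) = evB (g • b) := by
  letI algKL : Algebra K L := φ.toAlgebra
  have hQprime : (RingHom.ker evB).IsPrime := RingHom.ker_isPrime evB
  have hPprime : (RingHom.ker evA).IsPrime := RingHom.ker_isPrime evA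
  have hlies : (RingHom.ker evB).LiesOver (RingHom.ker evA) := ⟨by
    ext a
    rw [Ideal.under_def, Ideal.mem_comap, RingHom.mem_ker, RingHom.mem_ker, ← hφ]
    exact (map_eq_zero φ).symm⟩
  letI algAK : Algebra (A ⧸ RingHom.ker evA) K :=
    (Ideal.Quotient.lift (RingHom.ker evA) evA (fun a ha => RingHom.mem_ker.1 ha)).toAlgebra
  letI algBL : Algebra (B ⧸ RingHom.ker evB) L :=
    (Ideal.Quotient.lift (RingHom.ker evB) evB (fun b hb => RingHom.mem_ker.1 hb)).toAlgebra
  letI algAL : Algebra (A ⧸ RingHom.ker evA) L :=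
    (φ.comp (algebraMap (A ⧸ RingHom.ker evA) K)).toAlgebra
  have t1 : IsScalarTower (A ⧸ RingHom.ker evA) K L :=
    IsScalarTower.of_algebraMap_eq (fun _ => rfl)
  have t2 : IsScalarTower (A ⧸ RingHom.ker evA) (B ⧸ RingHom.ker evB) L :=
    IsScalarTower.of_algebraMap_eq (fun a' => by
      obtain ⟨a, rfl⟩ := Ideal.Quotient.mk_surjective a'
      show φ (evA a) = evB (algebraMap A B a)
      exact hφ a)
  have f1 : FaithfulSMul (A ⧸ RingHom.ker evA) K :=
    (faithfulSMul_iff_algebraMap_injective _ _).2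
      (RingHom.lift_injective_of_ker_le_ideal _ _ le_rfl)
  have f2 : FaithfulSMul (B ⧸ RingHom.ker evB) L :=
    (faithfulSMul_iff_algebraMap_injective _ _).2
      (RingHom.lift_injective_of_ker_le_ideal _ _ le_rfl)
  have fr1 : IsFractionRing (A ⧸ RingHom.ker evA) K :=
    IsFractionRing.of_field (R := A ⧸ RingHom.ker evA) (K := K) (fun z => by
      obtain ⟨a, s, hs, h⟩ := hK z
      refine ⟨Ideal.Quotient.mk _ a, Ideal.Quotient.mk _ s, ?_⟩
      show z = evA a / evA s
      rw [eq_div_iff hs]; exact h)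
  have fr2 : IsFractionRing (B ⧸ RingHom.ker evB) L :=
    IsFractionRing.of_field (R := B ⧸ RingHom.ker evB) (K := L) (fun z => by
      obtain ⟨b, s, hs, h⟩ := hL z
      refine ⟨Ideal.Quotient.mk _ b, Ideal.Quotient.mk _ s, ?_⟩
      show z = evB b / evB s
      rw [eq_div_iff hs]; exact h)
  refine ⟨Ideal.IsFractionRing.normal G (RingHom.ker evA) (RingHom.ker evB) K L, fun τ hτ => ?_⟩
  let τ' : L ≃ₐ[K] L := AlgEquiv.ofRingEquiv (f := τ) hτ
  obtain ⟨σ, hσ⟩ := IsFractionRing.stabilizerHom_surjective G (RingHom.ker evA) (RingHom.ker evB)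
    K L τ'
  refine ⟨σ.1, MulAction.mem_stabilizer_iff.1 σ.2, fun b => ?_⟩
  have h1 := IsFractionRing.stabilizerHom_apply_apply_mk G (RingHom.ker evA) (RingHom.ker evB)
    K L σ b
  rw [hσ] at h1
  exact h1

section

variable {X Y : Scheme.{u}} {G : Type u} [Group G] {ρ : G →* Aut X} {p : X ⟶ Y}
  (hp : SGA1.IsQuot ρ p) (U : Y.Opens)

theorem key_eval (x : X) (g : G) (b : SecX hp U) (hx : x ∈ p ⁻¹ᵁ U)
    (e : (ρ g).hom.base x = x) :
    ((X.residueFieldCongr e).inv ≫ (ρ g).hom.residueFieldMap x).hom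
        ((X.evaluation (p ⁻¹ᵁ U) x hx).hom b) =
      (X.evaluation (p ⁻¹ᵁ U) x hx).hom (sig hp U g b) := by
  have hx' : (ρ g).hom.base x ∈ p ⁻¹ᵁ U := mem_of_mem hp U g x hx
  rw [CommRingCat.hom_comp, RingHom.comp_apply, evaluation_congr e hx hx' b]
  have h1 := Scheme.evaluation_naturality_apply (ρ g).hom x hx' b
  refine h1.trans ?_
  exact (evaluation_res (SGA1.preimage_le_of_inv ρ p hp.inv g U) x hx
    ((ρ g).hom.app (p ⁻¹ᵁ U) b)).symm

end


/-- Let a finite group G act on a scheme X and let p : X ⟶ Y be a quotient of X by G (affine,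
G-invariant, sections of O_Y = G-invariant sections of O_X). For a point x of X with image y, the
residue field κ(x) is a normal algebraic extension of κ(y) through the map induced by p, and the
stabilizer of x in G maps onto the group of κ(y)-automorphisms of κ(x): every automorphism τ of κ(x)
over κ(y) is the map on residue fields induced by some g ∈ G with g·x = x (composed with the
identification of the residue fields at g·x and x). -/
theorem result {X Y : Scheme.{u}} {G : Type u}
    [Group G] [Finite G] (ρ : G →* Aut X) (p : X ⟶ Y) (hp : SGA1.IsQuot ρ p) (x : X) :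
    (letI := (p.residueFieldMap x).hom.toAlgebra
     Normal (Y.residueField (p.base x)) (X.residueField x)) ∧
    ∀ τ : X.residueField x ≅ X.residueField x,
      p.residueFieldMap x ≫ τ.hom = p.residueFieldMap x →
      ∃ (g : G) (e : (ρ g).hom.base x = x),
        τ.hom = (X.residueFieldCongr e).inv ≫ (ρ g).hom.residueFieldMap x := by
  obtain ⟨U, hU, hyU, -⟩ := exists_isAffineOpen_mem_and_subset (x := p.base x) (U := ⊤) trivial
  have hx : x ∈ p ⁻¹ᵁ U := hyU
  have hV : IsAffineOpen (p ⁻¹ᵁ U) := hp.affine.isAffine_preimage U hU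
  obtain ⟨hnormal, hstab⟩ := alg_key (A := Γ(Y, U)) (B := SecX hp U) (G := G)
    (K := Y.residueField (p.base x)) (L := X.residueField x)
    (Y.evaluation U (p.base x) hyU).hom
    (show SecX hp U →+* X.residueField x from (X.evaluation (p ⁻¹ᵁ U) x hx).hom)
    (p.residueFieldMap x).hom
    (fun a => Scheme.evaluation_naturality_apply p x hyU a)
    (exists_evaluation_div hU (p.base x) hyU)
    (exists_evaluation_div hV x hx)
  refine ⟨hnormal, fun τ hτ => ?_⟩
  obtain ⟨g₀, hg1, hg2⟩ := hstab τ.commRingCatIsoToRingEquiv (fun k => by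
    have := congrArg (fun m => m.hom k) hτ
    exact this)
  have hQ : g₀⁻¹ • primeAtS hp U x hx = primeAtS hp U x hx := by
    have hg1' : g₀ • primeAtS hp U x hx = primeAtS hp U x hx := hg1
    rw [inv_smul_eq_iff, hg1']
  rw [smul_primeAtS] at hQ
  have e : (ρ g₀⁻¹).hom.base x = x := eq_of_primeAt_eq hV _ _ hQ
  refine ⟨g₀⁻¹, e, ?_⟩
  apply CommRingCat.hom_ext
  apply RingHom.ext
  intro z
  obtain ⟨b, s, hs, hz⟩ := exists_evaluation_div hV x hx z
  have key : ∀ c : SecX hp U, τ.hom.hom ((X.evaluation (p ⁻¹ᵁ U) x hx).hom c) =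
      ((X.residueFieldCongr e).inv ≫ (ρ g₀⁻¹).hom.residueFieldMap x).hom
        ((X.evaluation (p ⁻¹ᵁ U) x hx).hom c) := by
    intro c
    rw [key_eval hp U x g₀⁻¹ c hx e]
    have := hg2 c
    rw [smul_def] at this
    exact this
  have h1 := congrArg τ.hom.hom hz
  have h2 := congrArg ((X.residueFieldCongr e).inv ≫ (ρ g₀⁻¹).hom.residueFieldMap x).hom hz
  rw [map_mul] at h1 h2
  rw [key b] at h1
  rw [← h2, key s] at h1
  have hne : ((X.residueFieldCongr e).inv ≫ (ρ g₀⁻¹).hom.residueFieldMap x).hom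
      ((X.evaluation (p ⁻¹ᵁ U) x hx).hom s) ≠ 0 := by
    rw [Ne, map_eq_zero]; exact hs
  exact mul_right_cancel₀ hne h1

end Groth.Agent.S13597
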