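import Groth.Statements.S13603
import Mathlib.Tactic.LinearCombination
import Mathlib.Tactic.Ring
import Mathlib.Algebra.BigOperators.Group.Finset.Basic
import Mathlib.Data.Set.Finite.Basic
import Mathlib.Algebra.BigOperators.Group.Finset.Piecewise

set_option autoImplicit false
universe u v
open CAlg

namespace Groth.Agent.S13603

/-- Let a group G act on a commutative ring B by ring automorphisms so that every element of B has a
finite orbit, and let S ⊆ B be a multiplicative set of G-fixed elements (so each g ∈ G induces an
endomorphism of the localization S⁻¹B; the hypothesis that g maps S into S is implied by the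
previous one and is only carried to name that endomorphism). Then an element of S⁻¹B is fixed by all
of G if and only if it is a fraction b/s with b fixed by G and s ∈ S: the canonical map S⁻¹(B^G) →
(S⁻¹B)^G is onto. -/
theorem result {B : Type u} [CommRing B]
    {G : Type v} [Group G] [MulSemiringAction G B] (hfin : ∀ b : B, (MulAction.orbit G b).Finite)
    (S : Submonoid B) (hS : ∀ (g : G) (s : B), s ∈ S → g • s = s)
    (hS' : ∀ g : G, S ≤ S.comap (MulSemiringAction.toRingHom G B g)) (x : Localization S) :
    (∀ g : G, IsLocalization.map (Localization S) (MulSemiringAction.toRingHom G B g) (hS' g) x = x) ↔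
      ∃ (b : B) (s : S), (∀ g : G, g • b = b) ∧ x = IsLocalization.mk' (Localization S) b s := by
  classical
  -- the key computation
  have hmap : ∀ (g : G) (b : B) (s : S),
      IsLocalization.map (Localization S) (MulSemiringAction.toRingHom G B g) (hS' g)
        (IsLocalization.mk' (Localization S) b s) = IsLocalization.mk' (Localization S) (g • b) s := by
    intro g b s
    rw [IsLocalization.map_mk']
    congr 1
    ext
    exact hS g s s.2
  constructor
  · intro hx
    obtain ⟨b, s, rfl⟩ := IsLocalization.exists_mk'_eq S x
    -- for each g a witness
    have hg : ∀ g : G, ∃ c : S, (c : B) * (g • b) = c * b := by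
      intro g
      have h := hx g
      rw [hmap] at h
      have := (IsLocalization.mk'_eq_iff_eq (S := Localization S) (M := S)).mp h
      obtain ⟨c, hc⟩ := (IsLocalization.eq_iff_exists S (Localization S)).mp this
      refine ⟨c * s, ?_⟩
      simp only [Submonoid.coe_mul]
      linear_combination hc
    -- choose witnesses for orbit elements
    have hy : ∀ y : MulAction.orbit G b, ∃ c : S, (c : B) * (y : B) = c * b := by
      rintro ⟨y, g, rfl⟩
      exact hg g
    choose c hc using hy
    letI : Fintype (MulAction.orbit G b) := (hfin b).fintype
    let t : S := ∏ y : MulAction.orbit G b, c y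
    have ht : ∀ g : G, (t : B) * (g • b) = t * b := by
      intro g
      let y : MulAction.orbit G b := ⟨g • b, MulAction.mem_orbit b g⟩
      have hdvd : (c y : B) ∣ (t : B) := by
        have : (t : B) = ∏ y : MulAction.orbit G b, (c y : B) := by
          simp [t]
        rw [this]
        exact Finset.dvd_prod_of_mem _ (Finset.mem_univ y)
      obtain ⟨u, hu⟩ := hdvd
      have := hc y
      change (c y : B) * (g • b) = c y * b at this
      rw [hu]
      linear_combination u * this
    refine ⟨t * b, t * s, ?_, ?_⟩
    · intro g
      rw [smul_mul', hS g t t.2, ht g]
    · rw [IsLocalization.mk'_eq_iff_eq]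
      simp only [Submonoid.coe_mul]
      congr 1
      ring
  · rintro ⟨b, s, hb, rfl⟩ g
    rw [hmap, hb g]

end Groth.Agent.S13603
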