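import Groth.Statements.S13605
import Groth.Agent.S13602
import Groth.Agent.H69.QuotRes
import Groth.Agent.H68.Quot

set_option autoImplicit false
universe u
open CategoryTheory AlgebraicGeometry
open CategoryTheory.Limits
open SymProd

namespace Groth.Agent.S13605

/-- Let f : X ⟶ S be a morphism of schemes satisfying (AF) (every finite set of points of X over a
single point of S lies in an affine open of X), let 𝒮 be a cover of S by affine opens, let d ≥ 1 and
let (Y, q, g) be a d-th symmetric power of X over S: q : X ×_S ⋯ ×_S X ⟶ Y is a quotient by the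
symmetric group on d letters permuting the factors (affine, invariant, sections of O_Y = invariant
sections) and q ≫ g is the structure map of the fibre power. Then Y is covered by affine opens of
the form Sym^d(U/V) with V in the given cover: for every point y of Y there are V ∈ 𝒮 and an affine
open U ⊆ f⁻¹V of X such that the open W = ⋂_i pr_i⁻¹ U of the fibre power (the fibre power of U over
V) is affine and stable under every permutation of the factors, and an affine open W' of Y
containing y with q⁻¹ W' = W. (The published statement also fixes an affine open cover of X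
subordinate to the cover of S, in which any d points over a common point of a member V lie in a
common member mapping into V, and concludes that the corresponding opens Sym^d(U/V) cover Y; this
row states the pointwise form, producing U for each y.) -/
theorem result {X S Y : Scheme.{u}} (f : X ⟶ S) (hAF : SymProd.IsAF f)
    (𝒮 : Set S.Opens) (h𝒮 : ∀ V ∈ 𝒮, IsAffineOpen V) (hcov : ∀ s : S, ∃ V ∈ 𝒮, s ∈ V)
    (d : ℕ) (hd : 0 < d) (q : SymProd.fibPow f d ⟶ Y) (g : Y ⟶ S) (hq : SymProd.IsSymProd f d q g) (y : Y) :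
    ∃ V ∈ 𝒮, ∃ U : X.Opens, IsAffineOpen U ∧ U ≤ f ⁻¹ᵁ V ∧
      ∃ W : (SymProd.fibPow f d).Opens,
        (W : Set ↥(SymProd.fibPow f d)) =
          ⋂ i : Fin d, (WidePullback.π (fun _ : Fin d => f) i).base ⁻¹' (U : Set X) ∧
        IsAffineOpen W ∧ (∀ σ : Equiv.Perm (Fin d), (SymProd.permHom f d σ) ⁻¹ᵁ W = W) ∧
        ∃ W' : Y.Opens, y ∈ W' ∧ IsAffineOpen W' ∧ q ⁻¹ᵁ W' = W := by
  classical
  have hQ := hq.isQuot
  haveI : Finite (ULift.{u} (Equiv.Perm (Fin d))) := inferInstance
  obtain ⟨z, rfl⟩ := Groth.Agent.H68.Quot.surjective hQ y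
  have hpt : ∀ i, f.base ((WidePullback.π (fun _ : Fin d => f) i).base z) =
      (WidePullback.base (fun _ : Fin d => f)).base z := by
    intro i
    rw [← Scheme.Hom.comp_apply, WidePullback.π_arrow]
  obtain ⟨V, hV𝒮, hsV⟩ := hcov ((WidePullback.base (fun _ : Fin d => f)).base z)
  obtain ⟨U₀, hU₀, hU₀x⟩ := hAF ((WidePullback.base (fun _ : Fin d => f)).base z)
    (Finset.univ.image fun i => (WidePullback.π (fun _ : Fin d => f) i).base z) (by
      intro y hy
      obtain ⟨i, -, rfl⟩ := Finset.mem_image.1 hy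
      exact hpt i)
  have hU₀x' : ∀ i, (WidePullback.π (fun _ : Fin d => f) i).base z ∈ U₀ :=
    fun i => hU₀x _ (Finset.mem_image.2 ⟨i, Finset.mem_univ i, rfl⟩)
  obtain ⟨h, hhO, hhx⟩ := Groth.Agent.S13602.exists_basicOpen_le_of_finite hU₀ (f ⁻¹ᵁ V)
    (fun i : Fin d => (WidePullback.π (fun _ : Fin d => f) i).base z) hU₀x' (fun i => by
      show f.base ((WidePullback.π (fun _ : Fin d => f) i).base z) ∈ V
      rw [hpt i]; exact hsV)
  have hU : IsAffineOpen (X.basicOpen h) := hU₀.basicOpen h
  let W : (SymProd.fibPow f d).Opens :=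
    ⟨⋂ i : Fin d, (WidePullback.π (fun _ : Fin d => f) i).base ⁻¹' (X.basicOpen h : Set X),
      isOpen_iInter_of_finite fun i => (X.basicOpen h).isOpen.preimage (Scheme.Hom.continuous _)⟩
  have hWmem : ∀ y, y ∈ W ↔ ∀ i, (WidePullback.π (fun _ : Fin d => f) i).base y ∈ X.basicOpen h := by
    intro y
    show y ∈ ⋂ i : Fin d, _ ↔ _
    simp only [Set.mem_iInter, Set.mem_preimage, SetLike.mem_coe]
  have hWaff : IsAffineOpen W := by
    refine Groth.Agent.S13602.isAffineOpen_fibPow f d (h𝒮 V hV𝒮) hU hhO W (fun y => ?_)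
    rw [hWmem]
    refine ⟨fun hy => ⟨?_, hy⟩, fun hy => hy.2⟩
    have h0 := hhO (hy ⟨0, hd⟩)
    have : f.base ((WidePullback.π (fun _ : Fin d => f) ⟨0, hd⟩).base y) ∈ V := h0
    rwa [← Scheme.Hom.comp_apply, WidePullback.π_arrow] at this
  have hWstab : ∀ σ : Equiv.Perm (Fin d), (SymProd.permHom f d σ) ⁻¹ᵁ W = W := by
    intro σ
    ext y
    show (SymProd.permHom f d σ).base y ∈ W ↔ y ∈ W
    rw [hWmem, hWmem]
    constructor
    · intro hy i
      have := hy (σ i)
      rw [← Scheme.Hom.comp_apply, SymProd.permHom_π] at this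
      simpa using this
    · intro hy i
      rw [← Scheme.Hom.comp_apply, SymProd.permHom_π]
      exact hy _
  have hzW : z ∈ W := (hWmem z).2 hhx
  -- the image of `W` in `Y`
  have hsat : q.base ⁻¹' (q.base '' (W : Set ↥(SymProd.fibPow f d))) = (W : Set _) := by
    apply Set.Subset.antisymm
    · rintro a ⟨b, hb, hab⟩
      obtain ⟨g, hg⟩ := Groth.Agent.H68.Quot.exists_smul_eq_of_map_eq hQ b a hab
      rw [SymProd.permActU_hom] at hg
      have : b ∈ (SymProd.permHom f d g.down) ⁻¹ᵁ W := by rw [hWstab]; exact hb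
      rw [← hg]
      exact this
    · exact Set.subset_preimage_image _ _
  have hopen : IsOpen (q.base '' (W : Set ↥(SymProd.fibPow f d))) := by
    rw [← (Groth.Agent.H68.Quot.isQuotientMap hQ).isOpen_preimage, hsat]
    exact W.isOpen
  let W' : Y.Opens := ⟨q.base '' (W : Set ↥(SymProd.fibPow f d)), hopen⟩
  have hpre : q ⁻¹ᵁ W' = W := by
    ext a
    show a ∈ q.base ⁻¹' (q.base '' (W : Set ↥(SymProd.fibPow f d))) ↔ a ∈ (W : Set _)
    rw [hsat]
  refine ⟨V, hV𝒮, X.basicOpen h, hU, hhO, W, rfl, hWaff, hWstab, W', ⟨z, hzW, rfl⟩, ?_, hpre⟩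
  apply Groth.Agent.H69.QuotRes.isAffineOpen_of_preimage _ q hQ W'
  rw [hpre]
  exact hWaff

end Groth.Agent.S13605
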