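import Groth.Statements.S13607

set_option autoImplicit false
open CategoryTheory CategoryTheory.Limits Opposite
universe w v u
open ARSys

namespace Groth.Agent.S13607

/-- In an abelian category linear over a commutative ring A with an ideal J, let X be a J-adic
projective system indexed by the natural numbers and Y a projective system whose n-th term is killed
by J^(n+1) for every n. Then for every r, every morphism from the translate X[r] to Y factors
uniquely through the canonical translation map X[r] ⟶ X: there is exactly one morphism g : X ⟶ Y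
whose n-th component, precomposed with the transition map X_(n+r) ⟶ X_n, is the n-th component of
the given morphism. In particular morphisms X ⟶ Y up to translation are the same as morphisms X ⟶ Y.
(The published statement is for systems of finitely generated modules over a Noetherian ring, and
for systems of sheaves of modules on the small etale site; this row states it in any linear abelian
category, which is all the argument uses.) -/
theorem result {C : Type u} [Category.{v} C] [Abelian C] {A : Type w} [CommRing A] [Linear A C]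
    (J : Ideal A) (X Y : ARSys.PS C) (hX : ARSys.IsAdic J X) (hY : ARSys.TermKilled J Y) (r : ℕ)
    (f : (ARSys.shift C r).obj X ⟶ Y) :
    ∃! g : X ⟶ Y, ∀ n : ℕ, f.app (op n) = ARSys.shiftMap X r n ≫ g.app (op n) := by
  -- any morphism into `Y_n` is killed by `J^(m+1)` for `n ≤ m`
  have hk : ∀ (n m : ℕ) (_ : n ≤ m) (Z : C) (φ : Z ⟶ Y.obj (op n)),
      ARSys.HomKilledBy (J ^ (m + 1)) φ := by
    intro n m hnm Z φ a ha
    have ha' : a ∈ J ^ (n + 1) := Ideal.pow_le_pow_right (Nat.succ_le_succ hnm) ha
    have := hY n a ha'
    calc a • φ = φ ≫ (a • 𝟙 (Y.obj (op n))) := by rw [Linear.comp_smul, Category.comp_id]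
      _ = 0 := by rw [this, comp_zero]
  -- uniqueness of factorizations through the quotient maps
  have huniq : ∀ (n m k : ℕ) (hmk : m ≤ k) (_ : n ≤ m) (ψ₁ ψ₂ : X.obj (op m) ⟶ Y.obj (op n)),
      ARSys.tr X hmk ≫ ψ₁ = ARSys.tr X hmk ≫ ψ₂ → ψ₁ = ψ₂ := by
    intro n m k hmk hnm ψ₁ ψ₂ h
    obtain ⟨ψ, -, hψ⟩ := (hX.2 m k hmk).2 (Y.obj (op n)) (ARSys.tr X hmk ≫ ψ₁)
      (hk n m hnm _ _)
    rw [hψ ψ₁ rfl, hψ ψ₂ h.symm]
  -- the components
  have hex : ∀ n : ℕ, ∃ ψ : X.obj (op n) ⟶ Y.obj (op n),
      ARSys.shiftMap X r n ≫ ψ = f.app (op n) := by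
    intro n
    obtain ⟨ψ, hψ, -⟩ := (hX.2 n (n + r) (Nat.le_add_right n r)).2 (Y.obj (op n)) (f.app (op n))
      (hk n n le_rfl _ _)
    exact ⟨ψ, hψ⟩
  choose g hg using hex
  have hnat : ∀ (n m : ℕ) (h : n ≤ m),
      X.map (homOfLE h).op ≫ g n = g m ≫ Y.map (homOfLE h).op := by
    intro n m h
    apply huniq n m (m + r) (Nat.le_add_right m r) h
    have h1 : ARSys.tr X (Nat.le_add_right m r) ≫ X.map (homOfLE h).op =
        X.map (homOfLE (Nat.add_le_add_right h r)).op ≫ ARSys.tr X (Nat.le_add_right n r) := by
      rw [← X.map_comp, ← X.map_comp]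
      congr 1
    have h2 := f.naturality (homOfLE h).op
    have h3 : ((ARSys.shift C r).obj X).map (homOfLE h).op =
        X.map (homOfLE (Nat.add_le_add_right h r)).op := rfl
    rw [h3] at h2
    rw [← Category.assoc, h1, Category.assoc]
    change _ ≫ ARSys.shiftMap X r n ≫ g n = ARSys.shiftMap X r m ≫ _
    rw [hg n, h2, ← Category.assoc, hg m]
  refine ⟨{ app := fun n => g n.unop, naturality := ?_ }, ?_, ?_⟩
  · intro a b φ
    induction a using Opposite.rec with | _ m => ?_
    induction b using Opposite.rec with | _ n => ?_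
    have hle : n ≤ m := leOfHom φ.unop
    have : φ = (homOfLE hle).op := Subsingleton.elim _ _
    rw [this]
    exact hnat n m hle
  · intro n
    exact (hg n).symm
  · intro g' hg'
    ext a
    induction a using Opposite.rec with | _ n => ?_
    apply huniq n n (n + r) (Nat.le_add_right n r) le_rfl
    change ARSys.shiftMap X r n ≫ g'.app (op n) = ARSys.shiftMap X r n ≫ g n
    rw [← hg' n, hg n]

end Groth.Agent.S13607
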