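import Groth.Statements.S13608
import Mathlib.RingTheory.AdicCompletion.Completeness

set_option autoImplicit false
universe u v
open CAlg

namespace Groth.Agent.S13608

/-- A retract of an adically complete module is adically complete. -/
theorem isAdicComplete_of_retract {A : Type*} [CommRing A] (I : Ideal A)
    {M N : Type*} [AddCommGroup M] [Module A M] [AddCommGroup N] [Module A N]
    (s : M →ₗ[A] N) (r : N →ₗ[A] M) (hrs : ∀ x, r (s x) = x) [IsAdicComplete I N] :
    IsAdicComplete I M := by
  have key1 : ∀ (n : ℕ) (x y : M), x ≡ y [SMOD (I ^ n • ⊤ : Submodule A M)] →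
      s x ≡ s y [SMOD (I ^ n • ⊤ : Submodule A N)] := by
    intro n x y h
    refine (h.map s).mono ?_
    rw [Submodule.map_smul'']
    exact Submodule.smul_mono le_rfl le_top
  have key2 : ∀ (n : ℕ) (x y : N), x ≡ y [SMOD (I ^ n • ⊤ : Submodule A N)] →
      r x ≡ r y [SMOD (I ^ n • ⊤ : Submodule A M)] := by
    intro n x y h
    refine (h.map r).mono ?_
    rw [Submodule.map_smul'']
    exact Submodule.smul_mono le_rfl le_top
  refine { haus' := ?_, prec' := ?_ }
  · intro x hx
    have h0 : s x = 0 := by
      apply IsHausdorff.haus' (I := I)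
      intro n
      have := key1 n x 0 (hx n)
      rwa [map_zero] at this
    rw [← hrs x, h0, map_zero]
  · intro f hf
    obtain ⟨L, hL⟩ := IsPrecomplete.prec' (I := I) (fun n => s (f n))
      (fun {m n} hmn => key1 m _ _ (hf hmn))
    refine ⟨r L, fun n => ?_⟩
    have := key2 n _ _ (hL n)
    rwa [hrs] at this

/-- Let A be a commutative ring, I a finitely generated ideal of A and (M_n) an inverse system of
A-modules with transition maps f_n : M_(n+1) → M_n such that I^(n+1) M_n = 0 for every n. If L is an
inverse limit of the system (projections π_n compatible with the f_n, jointly injective, and such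
that every compatible family of elements lifts to L), then L is complete and separated for the
I-adic topology. No surjectivity of the transition maps is assumed. -/
theorem result
    (A : Type u) [CommRing A] (I : Ideal A) (hI : I.FG)
    (M : ℕ → Type v) [∀ n, AddCommGroup (M n)] [∀ n, Module A (M n)]
    (f : ∀ n, M (n + 1) →ₗ[A] M n)
    (hkill : ∀ n, I ^ (n + 1) • (⊤ : Submodule A (M n)) = ⊥)
    (L : Type v) [AddCommGroup L] [Module A L] (π : ∀ n, L →ₗ[A] M n)
    (hπ : ∀ n, f n ∘ₗ π (n + 1) = π n)
    (hinj : ∀ x : L, (∀ n, π n x = 0) → x = 0)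
    (hlift : ∀ y : (∀ n, M n), (∀ n, f n (y (n + 1)) = y n) → ∃ x : L, ∀ n, π n x = y n) :
    IsAdicComplete I L := by
  classical
  -- `π n` kills `I^(n+1) L`
  have hker : ∀ n, (I ^ (n + 1) • ⊤ : Submodule A L) ≤ LinearMap.ker (π n) := by
    intro n
    rw [← Submodule.map_le_map_iff_of_injective (f := LinearMap.id) (fun _ _ h => h)]
    intro x hx
    simp only [Submodule.map_id] at hx ⊢
    rw [LinearMap.mem_ker]
    have : π n x ∈ Submodule.map (π n) (I ^ (n + 1) • ⊤ : Submodule A L) := ⟨x, hx, rfl⟩
    rw [Submodule.map_smul''] at this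
    have h2 : π n x ∈ (I ^ (n + 1) • ⊤ : Submodule A (M n)) :=
      Submodule.smul_mono le_rfl le_top this
    rw [hkill n] at h2
    simpa using h2
  let ψ : ∀ n, (L ⧸ (I ^ (n + 1) • ⊤ : Submodule A L)) →ₗ[A] M n :=
    fun n => (I ^ (n + 1) • ⊤ : Submodule A L).liftQ (π n) (hker n)
  let ρ : ∀ n, AdicCompletion I L →ₗ[A] M n := fun n => (ψ n).comp (AdicCompletion.eval I L (n + 1))
  have hρ : ∀ (z : AdicCompletion I L) n, f n (ρ (n + 1) z) = ρ n z := by
    intro z n
    obtain ⟨w, hw⟩ := Submodule.mkQ_surjective _ (z.val (n + 2))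
    have h1 : z.val (n + 1) = Submodule.mkQ _ w := by
      rw [← AdicCompletion.transitionMap_comp_eval_apply I L (Nat.le_succ (n + 1)) z, ← hw]
      rfl
    change f n (ψ (n + 1) (z.val (n + 2))) = ψ n (z.val (n + 1))
    rw [h1, ← hw]
    change f n (π (n + 1) w) = π n w
    rw [← hπ n]
    rfl
  choose r₀ hr₀ using fun z : AdicCompletion I L => hlift (fun n => ρ n z) (hρ z)
  have hext : ∀ x y : L, (∀ n, π n x = π n y) → x = y := by
    intro x y h
    have := hinj (x - y) (fun n => by rw [map_sub, h n, sub_self])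
    exact sub_eq_zero.mp this
  let r : AdicCompletion I L →ₗ[A] L :=
    { toFun := r₀
      map_add' := fun z z' => hext _ _ (fun n => by rw [map_add, hr₀, hr₀, hr₀, map_add])
      map_smul' := fun a z => hext _ _ (fun n => by
        rw [RingHom.id_apply, map_smul, hr₀, hr₀, map_smul]) }
  have hAC : IsAdicComplete I (AdicCompletion I L) := AdicCompletion.isAdicComplete hI
  refine isAdicComplete_of_retract I (AdicCompletion.of I L) r (fun x => hext _ _ (fun n => ?_))
  change π n (r₀ _) = _
  rw [hr₀]
  rfl

end Groth.Agent.S13608
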