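import Groth.Statements.S13609

set_option autoImplicit false
universe u v w
open CAlg

namespace Groth.Agent.S13609

/-- A direct summand of a module that is complete and separated for the I-adic topology is again
complete and separated: for a commutative ring A, an ideal I and A-modules M₁, M₂, if M₁ × M₂ is
I-adically complete then so is M₁. -/
theorem result (A : Type u) [CommRing A] (I : Ideal A)
    (M₁ M₂ : Type v) [AddCommGroup M₁] [Module A M₁] [AddCommGroup M₂] [Module A M₂]
    [IsAdicComplete I (M₁ × M₂)] : IsAdicComplete I M₁ := by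
  have key1 : ∀ (n : ℕ) (x y : M₁), x ≡ y [SMOD (I ^ n • ⊤ : Submodule A M₁)] →
      (LinearMap.inl A M₁ M₂ x) ≡ (LinearMap.inl A M₁ M₂ y)
        [SMOD (I ^ n • ⊤ : Submodule A (M₁ × M₂))] := by
    intro n x y h
    have := h.map (LinearMap.inl A M₁ M₂)
    refine this.mono ?_
    rw [Submodule.map_smul'']
    exact Submodule.smul_mono le_rfl le_top
  have key2 : ∀ (n : ℕ) (x y : M₁ × M₂), x ≡ y [SMOD (I ^ n • ⊤ : Submodule A (M₁ × M₂))] →
      x.1 ≡ y.1 [SMOD (I ^ n • ⊤ : Submodule A M₁)] := by
    intro n x y h
    have := h.map (LinearMap.fst A M₁ M₂)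
    refine this.mono ?_
    rw [Submodule.map_smul'']
    exact Submodule.smul_mono le_rfl le_top
  refine { haus' := ?_, prec' := ?_ }
  · intro x hx
    have h0 : (LinearMap.inl A M₁ M₂ x) = 0 := by
      apply IsHausdorff.haus' (I := I)
      intro n
      have := key1 n x 0 (hx n); rwa [map_zero] at this
    simpa using congrArg Prod.fst h0
  · intro f hf
    obtain ⟨L, hL⟩ := IsPrecomplete.prec' (I := I) (fun n => LinearMap.inl A M₁ M₂ (f n))
      (fun {m n} hmn => key1 m _ _ (hf hmn))
    exact ⟨L.1, fun n => by simpa using key2 n _ _ (hL n)⟩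

end Groth.Agent.S13609
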