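import Groth.Statements.S1362
-- import your own Groth.Agent.* helpers here
import Groth.Agent.H48.WRNNDesc
import Groth.Agent.H20.WRNN_END

set_option autoImplicit false
universe u
open FlatMor

namespace Groth.Agent.S1362

/-- For a finite type ring map R → S whose fibre rings have dimensions with maximum exactly d: there is
an R-algebra map from the polynomial ring R[t_1, ..., t_d] to S which is quasi-finite (here: every
fibre ring is finite over the residue field; S is of finite type over the polynomial ring
automatically). -/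
theorem result {R S : Type u} [CommRing R] [CommRing S] [Algebra R S] [Algebra.FiniteType R S] (d : ℕ)
    (hd : ⨆ p : PrimeSpectrum R, ringKrullDim (p.asIdeal.Fiber S) = (d : WithBot ℕ∞)) :
    ∃ φ : MvPolynomial (Fin d) R →ₐ[R] S, φ.toRingHom.QuasiFinite := by
  have hdim : ∀ (p : Ideal R) [p.IsPrime], ringKrullDim (p.Fiber S) ≤ d := by
    intro p hp
    rw [← hd]
    exact le_iSup (fun p : PrimeSpectrum R => ringKrullDim (p.asIdeal.Fiber S)) ⟨p, hp⟩
  obtain ⟨m, x, hm, hx⟩ := Groth.Agent.H48.WRNN.exists_fibInt_start (R := R) (S := S) d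
  have key : ∀ k : ℕ, ∀ x : Fin (d + k) → S, Groth.Agent.H48.WRNN.FibInt R x →
      ∃ x' : Fin d → S, Groth.Agent.H48.WRNN.FibInt R x' := by
    intro k
    induction k with
    | zero => intro x hx; exact ⟨x, hx⟩
    | succ k ih =>
      intro x hx
      obtain ⟨x', hx'⟩ := Groth.Agent.H48.WRNN.fibInt_descent (m := d + k) (d := d) (by omega)
        hdim x hx
      exact ih x' hx'
  obtain ⟨k, rfl⟩ : ∃ k, m = d + k := ⟨m - d, by omega⟩
  obtain ⟨x', hx'⟩ := key k x hx
  exact ⟨MvPolynomial.aeval x', Groth.Agent.H20.WRNN_END.quasiFinite_of_fibInt x' hx'⟩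

end Groth.Agent.S1362
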