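import Groth.Statements.S13620
import Mathlib
import Groth.Agent.H20.ARNullAsm
import Groth.Agent.H4.ARNull_Z
import Groth.Agent.H1.ARNull_S
import Groth.Agent.H37.ARNull_L
-- import your own Groth.Agent.* helpers here

set_option autoImplicit false
open CategoryTheory CategoryTheory.Limits AlgebraicGeometry Opposite
universe u
open EtModW

set_option linter.style.haveILetI false
set_option linter.unusedSectionVars false
set_option linter.unusedVariables false

namespace Groth.Agent.S13620


/-- For a Noetherian scheme X, a Noetherian coefficient ring Λ and an ideal I of Λ, let F = (F_n) be an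
inverse system of sheaves of Λ-modules on the small etale site of X which is AR I-adic (I^(n+1) F_n
= 0 for all n, and F receives a morphism with kernel and cokernel null up to translation from an
I-adic system of constructible sheaves). Then F is null up to translation if and only if for every
geometric point x of X the limit of the stalk system, lim_n F_n,x, is the zero module. (The
published lemma assumes Λ I-adically complete, which only its first assertion uses; this row states
the second assertion without it.) -/
theorem result
    (Λ : Type (u + 1)) [CommRing Λ] [IsNoetherianRing Λ] (I : Ideal Λ)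
    {X : Scheme.{u}} [IsNoetherian X]
    (F : ARSys.PS (EtModW.Mod Λ X))
    (hF : (ARSys.TermKilled I F ∧ ∃ (Y : ARSys.PS (EtModW.Mod Λ X)) (v : Y ⟶ F), ARSys.IsAdic I Y ∧ (∀ n : ℕ, EtModW.IsConstructible Λ (Y.obj (op n))) ∧ ARSys.IsARIso v)) :
    ARSys.IsARNull F ↔
      ∀ (Ω : Type u) [Field Ω] [IsSepClosed Ω] (x : Spec (CommRingCat.of Ω) ⟶ X),
        IsZero (limit (F ⋙ EtModW.stalk Λ x)) := by
  exact Groth.Agent.H20.ARNullAsm.s13620_of Λ I
    (fun E h => Groth.Agent.H4.ARNull_Z.isZero_of_stalks Λ E h)
    (fun Y hepi h0 n => Groth.Agent.H1.ARNull_S.isZero_obj_of_isZero_limit Λ Y hepi h0 n)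
    (fun {Y F} v hk h0 => Groth.Agent.H37.ARNull_L.isZero_limit_of_isARNull_kernel v hk h0)
    F hF

end Groth.Agent.S13620
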