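import Groth.Statements.S13621
import Mathlib.CategoryTheory.Limits.Preserves.FunctorCategory
import Mathlib.CategoryTheory.Limits.Preserves.Shapes.Kernels
import Mathlib.CategoryTheory.Abelian.Images

set_option autoImplicit false
open CategoryTheory CategoryTheory.Limits Opposite
universe v u
open ARSys

namespace Groth.Agent.S13621

variable {C : Type u} [Category.{v} C]

/-- The canonical translation map `X[r] ⟶ X` as a morphism of systems. -/
def sig (X : ARSys.PS C) (r : ℕ) : (ARSys.shift C r).obj X ⟶ X where
  app k := ARSys.shiftMap X r k.unop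
  naturality a b f := by
    induction a using Opposite.rec with | _ m => ?_
    induction b using Opposite.rec with | _ n => ?_
    change X.map _ ≫ X.map _ = X.map _ ≫ X.map _
    rw [← X.map_comp, ← X.map_comp]
    congr 1

lemma sig_naturality {X Y : ARSys.PS C} (g : X ⟶ Y) (r : ℕ) :
    (ARSys.shift C r).map g ≫ sig Y r = sig X r ≫ g := by
  ext k
  induction k using Opposite.rec with | _ n => ?_
  change g.app (op (n + r)) ≫ Y.map (homOfLE (Nat.le_add_right n r)).op =
    X.map (homOfLE (Nat.le_add_right n r)).op ≫ g.app (op n)
  exact (g.naturality _).symm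

lemma sig_eq_zero [HasZeroMorphisms C] (X : ARSys.PS C) (r : ℕ)
    (h : ∀ n, ARSys.shiftMap X r n = 0) : sig X r = 0 := by
  ext k
  induction k using Opposite.rec with | _ n => ?_
  exact h n


section Ab

variable [Abelian C]

instance shift_preservesZeroMorphisms (r : ℕ) : (ARSys.shift C r).PreservesZeroMorphisms :=
  ⟨fun X Y => by ext; rfl⟩

instance shift_preservesColimit (r : ℕ) {K X : ARSys.PS C} (ι : K ⟶ X) :
    PreservesColimit (parallelPair ι 0) (ARSys.shift C r) := by
  unfold ARSys.shift; infer_instance

theorem exists_inverse_up_to_shift {X Y : ARSys.PS C} (u : X ⟶ Y) (r r' : ℕ)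
    (hK : sig (kernel u) r = 0) (hQ : sig (cokernel u) r' = 0) :
    ∃ v : (ARSys.shift C r).obj ((ARSys.shift C r').obj Y) ⟶ X,
      (ARSys.shift C r).map ((ARSys.shift C r').map u) ≫ v =
        (ARSys.shift C r).map (sig X r') ≫ sig X r ∧
      v ≫ u = (ARSys.shift C r).map (sig Y r') ≫ sig Y r := by
  let ι := kernel.ι u
  let π' := cokernel.π ι
  let ubar : cokernel ι ⟶ Y := cokernel.desc ι u (kernel.condition u)
  have hfac : π' ≫ ubar = u := cokernel.π_desc _ _ _
  have : Mono ubar := (inferInstance : Mono (Abelian.factorThruCoimage u))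
  -- step A
  let G := ARSys.shift C r
  have hc : IsColimit ((CokernelCofork.ofπ π' (cokernel.condition ι)).map G) :=
    CokernelCofork.mapIsColimit _ (cokernelIsCokernel ι) G
  have hkill : G.map ι ≫ sig X r = 0 := by rw [sig_naturality, hK, zero_comp]
  let a' : G.obj (cokernel ι) ⟶ X := hc.desc (CokernelCofork.ofπ (sig X r) hkill)
  have ha' : G.map π' ≫ a' = sig X r := hc.fac _ WalkingParallelPair.one
  have : Epi (G.map π') := epi_of_isColimit_cofork hc
  have ha'' : a' ≫ π' = sig (cokernel ι) r := by
    rw [← cancel_epi (G.map π'), ← Category.assoc, ha', ← sig_naturality]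
  -- step B
  let d : cokernel u ⟶ cokernel ubar := cokernel.desc u (cokernel.π ubar)
    (by
      have : (π' ≫ ubar) ≫ cokernel.π ubar = 0 := by
        rw [Category.assoc, cokernel.condition, comp_zero]
      rwa [hfac] at this)
  have hd : cokernel.π u ≫ d = cokernel.π ubar := cokernel.π_desc _ _ _
  have hkill' : sig Y r' ≫ cokernel.π ubar = 0 := by
    rw [← hd, ← Category.assoc, ← sig_naturality, hQ, comp_zero, zero_comp]
  let b : (ARSys.shift C r').obj Y ⟶ cokernel ι := Abelian.monoLift ubar (sig Y r') hkill'
  have hb : b ≫ ubar = sig Y r' := Abelian.monoLift_comp _ _ _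
  have hb' : (ARSys.shift C r').map u ≫ b = sig X r' ≫ π' := by
    rw [← cancel_mono ubar, Category.assoc, hb, sig_naturality, Category.assoc, hfac]
  refine ⟨G.map b ≫ a', ?_, ?_⟩
  · rw [← Category.assoc, ← G.map_comp, hb', G.map_comp, Category.assoc, ha']
  · have : (G.map b ≫ a') ≫ (π' ≫ ubar) = (ARSys.shift C r).map (sig Y r') ≫ sig Y r := by
      rw [Category.assoc, ← Category.assoc a', ha'', ← sig_naturality, ← Category.assoc,
        ← G.map_comp, hb]
    rwa [hfac] at this

end Ab

/-- The inverse limit is a well-defined functor on projective systems up to translation. Concretely: in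
an abelian category with limits of shape ℕᵒᵖ, a morphism u : X ⟶ Y of projective systems indexed by
the natural numbers whose kernel and cokernel are null up to translation induces an isomorphism lim
X ⟶ lim Y. (The published statement is the functoriality of lim on the category of systems up to
translation; combined with the description of isomorphisms there as the morphisms with null kernel
and cokernel, this is the form stated.) -/
theorem result {C : Type u} [Category.{v} C] [Abelian C] [HasLimitsOfShape ℕᵒᵖ C]
    {X Y : ARSys.PS C} (u : X ⟶ Y) (hu : ARSys.IsARIso u) : IsIso (limMap u) := by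
  obtain ⟨⟨r, hr⟩, ⟨r', hr'⟩⟩ := hu
  obtain ⟨v, hv1, hv2⟩ := exists_inverse_up_to_shift u r r' (sig_eq_zero _ r hr)
    (sig_eq_zero _ r' hr')
  -- componentwise versions
  let v' : ∀ n : ℕ, Y.obj (op (n + r + r')) ⟶ X.obj (op n) := fun n => v.app (op n)
  have h1 : ∀ n : ℕ, u.app (op (n + r + r')) ≫ v' n =
      X.map (homOfLE (Nat.le_add_right n (r + r') |>.trans (Nat.add_assoc n r r').ge)).op := by
    intro n
    have := congrArg (fun t => t.app (op n)) hv1
    change u.app (op (n + r + r')) ≫ v' n =
      X.map (homOfLE (Nat.le_add_right (n + r) r')).op ≫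
        X.map (homOfLE (Nat.le_add_right n r)).op at this
    rw [this, ← X.map_comp]
    congr 1
  have h2 : ∀ n : ℕ, v' n ≫ u.app (op n) =
      Y.map (homOfLE (Nat.le_add_right n (r + r') |>.trans (Nat.add_assoc n r r').ge)).op := by
    intro n
    have := congrArg (fun t => t.app (op n)) hv2
    change v' n ≫ u.app (op n) =
      Y.map (homOfLE (Nat.le_add_right (n + r) r')).op ≫
        Y.map (homOfLE (Nat.le_add_right n r)).op at this
    rw [this, ← Y.map_comp]
    congr 1
  have h3 : ∀ (n m : ℕ) (h : n ≤ m),
      Y.map (homOfLE (Nat.add_le_add_right (Nat.add_le_add_right h r) r')).op ≫ v' n =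
        v' m ≫ X.map (homOfLE h).op := by
    intro n m h
    exact v.naturality (homOfLE h).op
  clear_value v'
  -- the inverse
  let c : Cone X :=
    { pt := limit Y
      π :=
        { app := fun k => limit.π Y (op (k.unop + r + r')) ≫ v' k.unop
          naturality := by
            intro a b f
            induction a using Opposite.rec with | _ m => ?_
            induction b using Opposite.rec with | _ n => ?_
            have hle : n ≤ m := leOfHom f.unop
            have hf : f = (homOfLE hle).op := Subsingleton.elim _ _
            subst hf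
            dsimp only [Functor.const_obj_obj, Functor.const_obj_map, unop_op]
            rw [Category.id_comp, Category.assoc, ← h3 n m hle, ← Category.assoc, limit.w] } }
  refine ⟨⟨limit.lift X c, ?_, ?_⟩⟩
  · apply limit.hom_ext
    intro k
    induction k using Opposite.rec with | _ n => ?_
    rw [Category.assoc, limit.lift_π, Category.id_comp]
    change limMap u ≫ limit.π Y (op (n + r + r')) ≫ v' n = _
    rw [← Category.assoc, limMap_π, Category.assoc, h1 n, limit.w]
  · apply limit.hom_ext
    intro k
    induction k using Opposite.rec with | _ n => ?_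
    rw [Category.assoc, limMap_π, ← Category.assoc, limit.lift_π, Category.id_comp]
    change (limit.π Y (op (n + r + r')) ≫ v' n) ≫ u.app (op n) = _
    rw [Category.assoc, h2 n, limit.w]

end Groth.Agent.S13621
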