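import Groth.Statements.S13623
import Mathlib
import Groth.Agent.S13632
-- import your own Groth.Agent.* helpers here

set_option autoImplicit false
universe u
open TensorProduct
open CAlg

namespace Groth.Agent.S13623

theorem ff_algClosure (κ : Type u) [Field κ] : Module.FaithfullyFlat κ (AlgebraicClosure κ) := by
  haveI : Module.Free κ (AlgebraicClosure κ) := Module.Free.of_divisionRing _ _
  infer_instance

open TensorProduct in
theorem subsingleton_of_algClosed_fibres {A : Type u} [CommRing A] (N : Type u) [AddCommGroup N]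
    [Module A N] [Module.Finite A N]
    (h : ∀ (k : Type u) [Field k] [IsAlgClosed k] [Algebra A k], Subsingleton (k ⊗[A] N)) :
    Subsingleton N := by
  have hsurj : Function.Surjective (0 : PUnit.{u+1} →ₗ[A] N) := by
    apply Groth.Agent.S13632.surjective_of_fibres
    intro m _
    haveI hk : Subsingleton (AlgebraicClosure m.ResidueField ⊗[A] N) :=
      h (AlgebraicClosure m.ResidueField)
    have e := TensorProduct.AlgebraTensorModule.cancelBaseChange A m.ResidueField
      (AlgebraicClosure m.ResidueField) (AlgebraicClosure m.ResidueField) N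
    haveI : Subsingleton (AlgebraicClosure m.ResidueField ⊗[m.ResidueField]
        (m.ResidueField ⊗[A] N)) := e.toEquiv.subsingleton
    haveI : Module.FaithfullyFlat m.ResidueField (AlgebraicClosure m.ResidueField) :=
      ff_algClosure m.ResidueField
    haveI : Subsingleton (m.ResidueField ⊗[A] N) :=
      Module.FaithfullyFlat.lTensor_reflects_triviality m.ResidueField
        (AlgebraicClosure m.ResidueField) _
    intro y
    exact ⟨0, Subsingleton.elim _ _⟩
  refine ⟨fun a b => ?_⟩
  obtain ⟨x, hx⟩ := hsurj a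
  obtain ⟨y, hy⟩ := hsurj b
  exact hx.symm.trans hy

/-- Let A be a commutative ring and B a commutative A-algebra, graded by A-submodules B_m (m ≥ 0)
forming a graded-algebra structure, such that every B_m is a finitely generated A-module. If for
every algebraically closed field k and every A-algebra structure on k the k-algebra k ⊗_A B is
generated by the image of B_1 under b ↦ 1 ⊗ b, then its degree-one part B_1 generates the A-algebra
B. (Algebraically closed fields are taken in the universe of A.) -/
theorem result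
    (A : Type u) [CommRing A] (B : Type u) [CommRing B] [Algebra A B]
    (𝒜 : ℕ → Submodule A B) [GradedAlgebra 𝒜]
    (hfin : ∀ m : ℕ, Module.Finite A (𝒜 m))
    (hgen : ∀ (k : Type u) [Field k] [IsAlgClosed k] [Algebra A k],
      Algebra.adjoin k ((Algebra.TensorProduct.includeRight : B →ₐ[A] k ⊗[A] B) '' (𝒜 1 : Set B)) = ⊤) :
    Algebra.adjoin A (𝒜 1 : Set B) = ⊤ := by
  classical
  have hcl : ∀ x ∈ Submonoid.closure (𝒜 1 : Set B),
      x ∈ Algebra.adjoin A (𝒜 1 : Set B) ∧ ∃ r, x ∈ 𝒜 r := by
    intro x hx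
    induction hx using Submonoid.closure_induction with
    | mem x hx => exact ⟨Algebra.subset_adjoin hx, 1, hx⟩
    | one => exact ⟨one_mem _, 0, SetLike.one_mem_graded 𝒜⟩
    | mul x y _ _ hx hy =>
      obtain ⟨hx1, r, hr⟩ := hx
      obtain ⟨hy1, s, hs⟩ := hy
      exact ⟨mul_mem hx1 hy1, r + s, SetLike.mul_mem_graded hr hs⟩
  have hAm : ∀ m : ℕ, 𝒜 m ≤ Subalgebra.toSubmodule (Algebra.adjoin A (𝒜 1 : Set B)) := by
    intro m
    haveI := hfin m
    obtain ⟨πm, hπm⟩ : ∃ πm : B →ₗ[A] 𝒜 m, ∀ b, πm b = DirectSum.decompose 𝒜 b m :=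
      ⟨(DirectSum.component A ℕ (fun i => 𝒜 i) m) ∘ₗ
        (DirectSum.decomposeLinearEquiv 𝒜).toLinearMap, fun b => rfl⟩
    obtain ⟨Sub, hSub⟩ : ∃ Sub : Submodule A (𝒜 m), ∀ y : 𝒜 m, y ∈ Sub ↔
        (y : B) ∈ Subalgebra.toSubmodule (Algebra.adjoin A (𝒜 1 : Set B)) :=
      ⟨Submodule.comap (𝒜 m).subtype
        (Subalgebra.toSubmodule (Algebra.adjoin A (𝒜 1 : Set B))), fun y => Iff.rfl⟩
    obtain ⟨ρ, hρ⟩ : ∃ ρ : B →ₗ[A] (𝒜 m ⧸ Sub), ∀ b, ρ b = Sub.mkQ (πm b) :=
      ⟨Sub.mkQ ∘ₗ πm, fun b => rfl⟩
    have hρsurj : Function.Surjective ρ := by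
      intro w
      obtain ⟨y, rfl⟩ := Sub.mkQ_surjective w
      refine ⟨(y : B), ?_⟩
      rw [hρ]
      congr 1
      rw [hπm]
      exact Subtype.ext (DirectSum.decompose_of_mem_same 𝒜 y.2)
    have hρ0 : ∀ x ∈ Submonoid.closure (𝒜 1 : Set B), ρ x = 0 := by
      intro x hx
      obtain ⟨hxS, r, hr⟩ := hcl x hx
      rw [hρ, Submodule.mkQ_apply, Submodule.Quotient.mk_eq_zero, hSub, hπm]
      by_cases hrm : r = m
      · subst hrm
        rw [DirectSum.decompose_of_mem_same 𝒜 hr]; exact hxS
      · rw [DirectSum.decompose_of_mem_ne 𝒜 hr hrm]; exact zero_mem _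
    haveI : Subsingleton (𝒜 m ⧸ Sub) := by
      apply subsingleton_of_algClosed_fibres (A := A)
      intro k _ _ _
      have hz : ∀ z : TensorProduct A k B, LinearMap.baseChange k ρ z = 0 := by
        intro z
        have hz1 : z ∈ Subalgebra.toSubmodule (Algebra.adjoin k
            ((Algebra.TensorProduct.includeRight : B →ₐ[A] TensorProduct A k B) ''
              (𝒜 1 : Set B))) := by
          rw [hgen k]; trivial
        rw [Algebra.adjoin_eq_span] at hz1
        induction hz1 using Submodule.span_induction with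
        | mem z hz =>
          have h0 : ∃ x ∈ Submonoid.closure (𝒜 1 : Set B),
              (Algebra.TensorProduct.includeRight : B →ₐ[A] TensorProduct A k B) x = z := by
            induction hz using Submonoid.closure_induction with
            | mem z hz =>
              obtain ⟨b, hb, rfl⟩ := hz
              exact ⟨b, Submonoid.subset_closure hb, rfl⟩
            | one => exact ⟨1, one_mem _, map_one _⟩
            | mul x y _ _ hx hy =>
              obtain ⟨x', hx', rfl⟩ := hx
              obtain ⟨y', hy', rfl⟩ := hy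
              exact ⟨x' * y', mul_mem hx' hy', map_mul _ _ _⟩
          obtain ⟨x, hx, rfl⟩ := h0
          rw [Algebra.TensorProduct.includeRight_apply, LinearMap.baseChange_tmul, hρ0 x hx,
            TensorProduct.tmul_zero]
        | zero => exact map_zero _
        | add x y _ _ hx hy => rw [map_add, hx, hy, add_zero]
        | smul c x _ hx => rw [map_smul, hx, smul_zero]
      refine ⟨fun a b => ?_⟩
      obtain ⟨za, rfl⟩ := LinearMap.lTensor_surjective k hρsurj a
      obtain ⟨zb, rfl⟩ := LinearMap.lTensor_surjective k hρsurj b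
      exact (hz za).trans (hz zb).symm
    intro y hy
    have h0 : Sub.mkQ ⟨y, hy⟩ = 0 := Subsingleton.elim _ _
    rw [Submodule.mkQ_apply, Submodule.Quotient.mk_eq_zero, hSub] at h0
    exact h0
  rw [eq_top_iff]
  intro b hb0
  clear hb0
  have hb := DirectSum.sum_support_decompose 𝒜 b
  have hmem : ∑ i ∈ (DirectSum.decompose 𝒜 b).support,
      ((DirectSum.decompose 𝒜 b i : 𝒜 i) : B) ∈ Algebra.adjoin A (𝒜 1 : Set B) :=
    Subalgebra.sum_mem _ (fun i _ => hAm i (DirectSum.decompose 𝒜 b i).2)
  rwa [hb] at hmem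

end Groth.Agent.S13623
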