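import Groth.Statements.S14836
import Groth.Agent.H53.ProjFormula
import Groth.Agent.H8.UnitIso

set_option autoImplicit false
universe u
open CategoryTheory CategoryTheory.Limits AlgebraicGeometry
open Formal2

namespace Groth.Agent.S14836

open Groth.Agent.H31 Groth.Agent.H31.Stalk Groth.Agent.H53.ProjFormula

/-- `L ⊗ O ≅ L` on a scheme. -/
noncomputable def rightUnitIso {X : Scheme.{u}} (L : X.Modules) :
    ((ModSite.tensorBi (shX X)).obj L).obj (ModSite.unit (shX X)) ≅ L :=
  (braidIso L).app (ModSite.unit (shX X)) ≪≫ (tensorUnitNatIso (shX X)).app L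

/-- Projection formula consequence: if `O_Y ≅ f_* O_X` then `L ≅ f_* f^* L` for `L` finite locally
free. -/
theorem nonempty_iso_push_pull {X Y : Scheme.{u}} (f : X ⟶ Y) (hfib : ∀ V : Y.Opens, IsIso (f.app V))
    (L : Y.Modules) (hL : FlatMod.IsFinLocFree L) :
    Nonempty (L ≅ (Scheme.Modules.pushforward f).obj ((Scheme.Modules.pullback f).obj L)) := by
  have hu : IsIso (ClSub.unitToPush f) := by
    rw [Scheme.Modules.Hom.isIso_iff_isIso_app]
    intro U
    rw [ConcreteCategory.isIso_iff_bijective]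
    exact ConcreteCategory.bijective_of_isIso (f.app U)
  let u : ModSite.unit (shX Y) ≅ (Scheme.Modules.pushforward f).obj (ModSite.unit (shX X)) :=
    @asIso _ _ _ _ (ClSub.unitToPush f) hu
  let e1 : L ≅ ((ModSite.tensorBi (shX Y)).obj L).obj (ModSite.unit (shX Y)) := (rightUnitIso L).symm
  let e2 : ((ModSite.tensorBi (shX Y)).obj L).obj (ModSite.unit (shX Y)) ≅
      ((ModSite.tensorBi (shX Y)).obj L).obj
        ((Scheme.Modules.pushforward f).obj (ModSite.unit (shX X))) :=
    ((ModSite.tensorBi (shX Y)).obj L).mapIso u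
  let e3 := (pfIso f L hL).app (ModSite.unit (shX X))
  let e4 := (Scheme.Modules.pushforward f).mapIso (rightUnitIso ((Scheme.Modules.pullback f).obj L))
  exact ⟨e1 ≪≫ e2 ≪≫ e3 ≪≫ e4⟩

/-- Let k be a field and f : X → Y a k-morphism between proper k-schemes which is a fibration, i.e. O_Y
→ f_*O_X is an isomorphism (Γ(V, O_Y) → Γ(f⁻¹V, O_X) bijective for every open V ⊆ Y). Then N ↦ f^*N
is injective on Picard groups: every invertible O_Y-module whose pullback to X is trivial is
trivial. -/
theorem result (k : Type u) [Field k] (X Y : Scheme.{u})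
    [X.Over (Spec (CommRingCat.of k))] [Y.Over (Spec (CommRingCat.of k))] [IsProper (X ↘ Spec (CommRingCat.of k))] [IsProper (Y ↘ Spec (CommRingCat.of k))]
    (f : X ⟶ Y) (hf : f ≫ (Y ↘ Spec (CommRingCat.of k)) = X ↘ Spec (CommRingCat.of k)) (hfib : ∀ V : Y.Opens, IsIso (f.app V)) :
    Formal2.PicPullbackInjective f := by
  intro L hL he
  obtain ⟨e⟩ := he
  have hLf : FlatMod.IsFinLocFree L := Groth.Agent.H8.isFinLocFree_of_isInvertible hL
  obtain ⟨a⟩ := nonempty_iso_push_pull f hfib L hLf
  have hu : IsIso (ClSub.unitToPush f) := by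
    rw [Scheme.Modules.Hom.isIso_iff_isIso_app]
    intro U
    rw [ConcreteCategory.isIso_iff_bijective]
    exact ConcreteCategory.bijective_of_isIso (f.app U)
  exact ⟨a ≪≫ (Scheme.Modules.pushforward f).mapIso e ≪≫ (@asIso _ _ _ _ (ClSub.unitToPush f) hu).symm⟩

end Groth.Agent.S14836
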