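import Groth.Statements.S13626
import Groth.Agent.S14836
import Groth.Agent.S0927
import Groth.Agent.S11319
import Groth.Agent.H45.CohTopPush

set_option autoImplicit false
universe u
open CategoryTheory CategoryTheory.Limits AlgebraicGeometry
open Coh

namespace Groth.Agent.S13626

open Groth.Agent.H31 Groth.Agent.H31.Stalk Groth.Agent.H53.ProjFormula

/-- Isomorphic modules have isomorphic cohomology. -/
theorem nonempty_HH_addEquiv {Y : Scheme.{u}} {M N : Y.Modules} (e : M ≅ N) (p : ℕ) :
    Nonempty (Coh.HH Y M p ≃+ Coh.HH Y N p) := by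
  let a := (SheafOfModules.toSheaf Y.ringCatSheaf).mapIso e
  refine ⟨{ toFun := Sheaf.H.map a.hom p
            invFun := Sheaf.H.map a.inv p
            left_inv := ?_
            right_inv := ?_
            map_add' := fun x y => map_add _ x y }⟩
  · intro x
    rw [← Sheaf.H.map_comp_apply, Iso.hom_inv_id, Sheaf.H.map_id_apply]
  · intro x
    rw [← Sheaf.H.map_comp_apply, Iso.inv_hom_id, Sheaf.H.map_id_apply]

/-- `L ⊗ Z = 0` for `Z = 0`. -/
theorem isZero_tensor {Y : Scheme.{u}} (L Z : Y.Modules) (hZ : IsZero Z) :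
    IsZero (((ModSite.tensorBi (shX Y)).obj L).obj Z) :=
  (((ModSite.tensorBi (shX Y)).flip.obj L).map_isZero hZ).of_iso ((braidIso L).app Z)

/-- Let f : X → Y be a morphism of schemes with R^i f_* O_X = 0 for every i ≥ 1 and f_* O_X ≅ O_Y. Then
for every invertible O_Y-module L and every p ≥ 0 the groups H^p(X, f^* L) and H^p(Y, L) are
isomorphic (existence of a group isomorphism; the higher direct images are the right derived
functors of f_* on O_X-modules, under the instance argument recording that O_X-modules have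
injective resolutions). -/
theorem result
    {X Y : Scheme.{u}} (f : X ⟶ Y) [HasInjectiveResolutions X.Modules]
    (hR : ∀ i : ℕ, IsZero ((Coh.Rpush f (i + 1)).obj (Coh.structureModule X)))
    (h0 : Nonempty ((Coh.push f).obj (Coh.structureModule X) ≅ Coh.structureModule Y))
    (L : Y.Modules) (hL : PicF.IsInvertible L) (p : ℕ) :
    Nonempty (Coh.HH X ((Scheme.Modules.pullback f).obj L) p ≃+ Coh.HH Y L p) := by
  have hLf : FlatMod.IsFinLocFree L := Groth.Agent.H8.isFinLocFree_of_isInvertible hL
  obtain ⟨u⟩ := h0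
  -- vanishing of the higher direct images of `f^* L`
  have hz : ∀ i : ℕ, 0 < i →
      IsZero ((Coh.RpushAb f i).obj (Coh.toAb ((Scheme.Modules.pullback f).obj L))) := by
    intro i hi
    obtain ⟨j, rfl⟩ : ∃ j, i = j + 1 := ⟨i - 1, by omega⟩
    obtain ⟨a⟩ := Groth.Agent.S0927.result f (Coh.structureModule X) L hLf (j + 1)
    have h1 : IsZero (CohB1.tensorMod L ((Coh.Rpush f (j + 1)).obj (Coh.structureModule X))) :=
      isZero_tensor L _ (hR j)
    have h2 : IsZero ((Coh.Rpush f (j + 1)).obj
        (CohB1.tensorMod ((Scheme.Modules.pullback f).obj L) (Coh.structureModule X))) :=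
      h1.of_iso a.symm
    have h3 : IsZero ((Coh.Rpush f (j + 1)).obj ((Scheme.Modules.pullback f).obj L)) :=
      h2.of_iso ((Coh.Rpush f (j + 1)).mapIso
        (Groth.Agent.S14836.rightUnitIso ((Scheme.Modules.pullback f).obj L))).symm
    obtain ⟨e⟩ := Groth.Agent.S11319.result f ((Scheme.Modules.pullback f).obj L) (j + 1)
    exact ((SheafOfModules.toSheaf _).map_isZero h3).of_iso e.symm
  obtain ⟨e1⟩ := Groth.Agent.H45.CohTopPush.nonempty_H_addEquiv_push (X := X.carrier) (Y := Y.carrier)
    f.base (Coh.toAb ((Scheme.Modules.pullback f).obj L)) hz p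
  -- `f_* f^* L ≅ L`
  let c1 : L ≅ ((ModSite.tensorBi (shX Y)).obj L).obj (ModSite.unit (shX Y)) :=
    (Groth.Agent.S14836.rightUnitIso L).symm
  let c2 : ((ModSite.tensorBi (shX Y)).obj L).obj (ModSite.unit (shX Y)) ≅
      ((ModSite.tensorBi (shX Y)).obj L).obj
        ((Scheme.Modules.pushforward f).obj (ModSite.unit (shX X))) :=
    ((ModSite.tensorBi (shX Y)).obj L).mapIso u.symm
  let c3 := (pfIso f L hLf).app (ModSite.unit (shX X))
  let c4 := (Scheme.Modules.pushforward f).mapIso
    (Groth.Agent.S14836.rightUnitIso ((Scheme.Modules.pullback f).obj L))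
  obtain ⟨e2⟩ := nonempty_HH_addEquiv (c1 ≪≫ c2 ≪≫ c3 ≪≫ c4).symm p
  exact ⟨e1.trans e2⟩

end Groth.Agent.S13626
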