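import Groth.Statements.S13631
import Mathlib
-- import your own Groth.Agent.* helpers here

set_option autoImplicit false
universe u v w
open CAlg

namespace Groth.Agent.S13631

/-- Let k be a field, R an integral domain which is a k-algebra of infinite dimension over k, M a finite
free R-module, σ a ring automorphism of R mapping the image of k onto itself, and φ : M → M a
σ-semilinear map. If the cokernel of φ is finite-dimensional over k, in the sense that some finitely
generated k-subspace N of M satisfies M = N + φ(M), then φ is injective. -/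
theorem result
    {k : Type u} {R : Type v} {M : Type w} [Field k] [CommRing R] [IsDomain R] [Algebra k R]
    (hR : ¬ Module.Finite k R)
    [AddCommGroup M] [Module R M] [Module k M] [IsScalarTower k R M]
    [Module.Finite R M] [Module.Free R M]
    (σ : R ≃+* R)
    (hσ : ∀ x : k, ∃ y : k, σ (algebraMap k R x) = algebraMap k R y)
    (hσ' : ∀ y : k, ∃ x : k, σ (algebraMap k R x) = algebraMap k R y)
    (φ : M →ₛₗ[(σ : R →+* R)] M)
    (hcoker : ∃ N : Submodule k M, N.FG ∧ ∀ m : M, ∃ n ∈ N, ∃ m' : M, m = n + φ m') :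
    Function.Injective φ := by
  classical
  obtain ⟨N, hNfg, hN⟩ := hcoker
  let b := Module.Free.chooseBasis R M
  let ψ : M →ₗ[R] M := b.constr ℕ (fun i => φ (b i))
  have hψb : ∀ i, ψ (b i) = φ (b i) := fun i => b.constr_basis ℕ _ i
  have hφψ : ∀ m, φ m = ψ (∑ i, σ (b.repr m i) • b i) := by
    intro m
    conv_lhs => rw [← b.sum_repr m]
    rw [map_sum, map_sum]
    refine Finset.sum_congr rfl fun i _ => ?_
    rw [map_smulₛₗ, map_smul, hψb]
    rfl
  obtain ⟨P, hP⟩ : ∃ P : Submodule R M, P = LinearMap.range ψ := ⟨_, rfl⟩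
  have hφP : ∀ m, φ m ∈ P := by
    intro m
    rw [hP, hφψ]
    exact LinearMap.mem_range_self _ _
  -- every element is torsion modulo P
  have htors : ∀ m : M, ∃ a : R, a ≠ 0 ∧ a • m ∈ P := by
    intro m
    by_contra hcon
    push Not at hcon
    apply hR
    let Pk : Submodule k M := P.restrictScalars k
    haveI : Module.Finite k N := Module.Finite.iff_fg.mpr hNfg
    let g : N →ₗ[k] (M ⧸ Pk) := Pk.mkQ ∘ₗ N.subtype
    have hg : Function.Surjective g := by
      intro q
      obtain ⟨x, rfl⟩ := Submodule.Quotient.mk_surjective Pk q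
      obtain ⟨n, hn, m', hm'⟩ := hN x
      refine ⟨⟨n, hn⟩, ?_⟩
      change Submodule.Quotient.mk n = Submodule.Quotient.mk x
      rw [Submodule.Quotient.eq]
      have : n - x = -(φ m') := by rw [hm']; abel
      rw [this]
      exact Pk.neg_mem (hφP m')
    haveI : Module.Finite k (M ⧸ Pk) := Module.Finite.of_surjective g hg
    let f : R →ₗ[k] (M ⧸ Pk) := Pk.mkQ ∘ₗ (LinearMap.toSpanSingleton R M m).restrictScalars k
    refine Module.Finite.of_injective f ?_
    rw [injective_iff_map_eq_zero]
    intro a ha
    by_contra hane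
    refine hcon a hane ?_
    have : (Submodule.Quotient.mk (a • m) : M ⧸ Pk) = 0 := ha
    rw [Submodule.Quotient.mk_eq_zero] at this
    exact this
  choose a ha0 haP using fun i => htors (b i)
  obtain ⟨d, hd⟩ : ∃ d : R, d = ∏ i, a i := ⟨_, rfl⟩
  have hd0 : d ≠ 0 := by
    rw [hd]
    exact Finset.prod_ne_zero_iff.mpr fun i _ => ha0 i
  have hdP : ∀ i, d • b i ∈ P := by
    intro i
    have : d = (∏ j ∈ Finset.univ.erase i, a j) * a i := by
      rw [hd, Finset.prod_erase_mul _ _ (Finset.mem_univ i)]
    rw [this, mul_smul]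
    exact P.smul_mem _ (haP i)
  have hdP' : ∀ i, ∃ c : M, ψ c = d • b i := by
    intro i
    have := hdP i
    rw [hP] at this
    exact LinearMap.mem_range.mp this
  choose c hc using hdP'
  let χ : M →ₗ[R] M := b.constr ℕ c
  have hcomp : ψ ∘ₗ χ = d • LinearMap.id := by
    refine b.ext fun i => ?_
    rw [LinearMap.comp_apply, show χ (b i) = c i from b.constr_basis ℕ _ i, hc]
    rfl
  have hdet : LinearMap.det ψ * LinearMap.det χ = d ^ Module.finrank R M := by
    rw [← LinearMap.det_comp, hcomp, LinearMap.det_smul, LinearMap.det_id, mul_one]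
  have hdetψ : LinearMap.det ψ ≠ 0 := by
    intro h0
    rw [h0, zero_mul] at hdet
    exact pow_ne_zero _ hd0 hdet.symm
  have hker : LinearMap.ker ψ = ⊥ := by
    by_contra hne
    exact hdetψ (LinearMap.det_eq_zero_iff_ker_ne_bot.mpr hne)
  rw [injective_iff_map_eq_zero]
  intro m hm
  rw [hφψ] at hm
  have h0 : ∑ i, σ (b.repr m i) • b i = 0 := LinearMap.ker_eq_bot'.mp hker _ hm
  have h1 : ∀ i, σ (b.repr m i) = 0 :=
    Fintype.linearIndependent_iff.mp b.linearIndependent _ h0
  have h2 : b.repr m = 0 := by
    ext i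
    have := h1 i
    rw [RingEquiv.map_eq_zero_iff] at this
    simpa using this
  exact (LinearEquiv.map_eq_zero_iff _).mp h2

end Groth.Agent.S13631
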