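import Groth.Statements.S13634
import Mathlib.CategoryTheory.Sites.EpiMono

set_option autoImplicit false
universe u
open CategoryTheory CategoryTheory.Limits MonoidalCategory CartesianMonoidalCategory MonObj AlgebraicGeometry
open MultSch

namespace Groth.Agent.S13634

/-- Precomposition commutes with forming tuples. -/
theorem comp_tuple {C : Type*} [Category C] [CartesianMonoidalCategory C] {M T T' : C} (t : T' ⟶ T) :
    ∀ {n : ℕ} (x : Fin n → (T ⟶ M)), t ≫ MultSch.tuple x = MultSch.tuple (fun l => t ≫ x l)
  | 0, _ => toUnit_unique _ _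
  | n + 1, x => by
    show t ≫ lift (x 0) (MultSch.tuple fun i => x i.succ) =
      lift (t ≫ x 0) (MultSch.tuple fun i => t ≫ x i.succ)
    rw [comp_lift, comp_tuple t (fun i => x i.succ)]

/-- Finite intersections of covering sieves are covering. -/
theorem inter {C : Type*} [Category C] (J : GrothendieckTopology C) {T : C} :
    ∀ {r : ℕ} (P : Fin r → Sieve T), (∀ l, P l ∈ J T) →
      ∃ R : Sieve T, R ∈ J T ∧ ∀ {T' : C} (t : T' ⟶ T), R t → ∀ l, P l t
  | 0, _, _ => ⟨⊤, J.top_mem T, fun _ _ l => Fin.elim0 l⟩
  | r + 1, P, hP => by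
    obtain ⟨R', hR', h'⟩ := inter J (fun l : Fin r => P l.succ) (fun l => hP l.succ)
    refine ⟨P 0 ⊓ R', J.intersection_covering (hP 0) hR', ?_⟩
    intro T' t ht l
    refine Fin.cases ?_ (fun l' => ?_) l
    · exact ht.1
    · exact h' t ht.2 l'

variable {S : Scheme.{u}}

/-- An fppf-sheaf epimorphism of group schemes is locally surjective on points. -/
theorem locSurj {M M'' : Over S} [GrpObj M] [IsCommMonObj M] [GrpObj M''] [IsCommMonObj M'']
    (π : M ⟶ M'') [IsMonHom π] (hπ : Epi (CGrpSh.ptsMap Scheme.fppfPrecoverage π))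
    {T : Over S} (y : T ⟶ M'') :
    ∃ R : Sieve T, R ∈ (QuotSh.J Scheme.fppfPrecoverage S) T ∧
      ∀ {T' : Over S} (t : T' ⟶ T), R t → ∃ x : T' ⟶ M, x ≫ π = t ≫ y := by
  have h : Sheaf.IsLocallySurjective (CGrpSh.ptsMap Scheme.fppfPrecoverage π) :=
    (Sheaf.isLocallySurjective_iff_epi' _ _).2 hπ
  refine ⟨Presheaf.imageSieve (CGrpSh.ptsMap Scheme.fppfPrecoverage π).hom (U := T)
    (ULift.up (Additive.ofMul y)), Presheaf.imageSieve_mem _ _ _, ?_⟩
  rintro T' t ⟨s, hs⟩
  refine ⟨s.down.toMul, ?_⟩
  have := congrArg (fun z => z.down.toMul) hs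
  exact this

/-- Morphisms to a scheme over `S` agreeing on an fppf covering sieve are equal. -/
theorem sep {T H : Over S} (R : Sieve T) (hR : R ∈ (QuotSh.J Scheme.fppfPrecoverage S) T)
    (a b : T ⟶ H) (h : ∀ {T' : Over S} (t : T' ⟶ T), R t → t ≫ a = t ≫ b) : a = b := by
  have hs : Presieve.IsSheaf (QuotSh.J Scheme.fppfPrecoverage S) (yoneda.obj H) :=
    GrothendieckTopology.Subcanonical.isSheaf_of_isRepresentable _
  exact (hs R hR).isSeparatedFor.ext (fun T' t ht => h t ht)

/-- Let π : M → M'' be a homomorphism of commutative group schemes over a scheme S which is an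
epimorphism of fppf sheaves, H a commutative group scheme over S and φ : (M'')^r → H a multilinear
morphism. If the composite of φ with π^r : M^r → (M'')^r is alternating, then φ is alternating. (The
published statement is for module schemes over a ring R and an R-multilinear φ; the ring action
plays no role, so this row states it for commutative group schemes, which contains that case.) -/
theorem result
    {S : Scheme.{u}} {M M'' H : Over S}
    [GrpObj M] [IsCommMonObj M] [GrpObj M''] [IsCommMonObj M''] [GrpObj H] [IsCommMonObj H]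
    (π : M ⟶ M'') [IsMonHom π] (hπ : Epi (CGrpSh.ptsMap Scheme.fppfPrecoverage π))
    {r : ℕ} (φ : MultSch.pow M'' r ⟶ H) (hφ : MultSch.IsMultilinear φ)
    (halt : ∀ (T : Over S) (x : Fin r → (T ⟶ M)) (i j : Fin r), i ≠ j → x i = x j →
      MultSch.tuple (fun l => x l ≫ π) ≫ φ = 1) :
    MultSch.IsAlternating φ := by
  intro T y i j hij hy
  have hloc := fun l => locSurj π hπ (y l)
  choose R hR hRl using hloc
  obtain ⟨R0, hR0, hR0l⟩ := inter (QuotSh.J Scheme.fppfPrecoverage S) (fun l => R l) hR
  apply sep R0 hR0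
  intro T' t ht
  rw [MonObj.comp_one, ← Category.assoc, comp_tuple]
  have hx : ∀ l, ∃ x : T' ⟶ M, x ≫ π = t ≫ y l := fun l => hRl l t (hR0l t ht l)
  choose x hx using hx
  have key := halt T' (Function.update x j (x i)) i j hij
    (by rw [Function.update_of_ne hij, Function.update_self])
  have e : (fun l => Function.update x j (x i) l ≫ π) = fun l => t ≫ y l := by
    funext l
    by_cases hl : l = j
    · rw [hl, Function.update_self, hx, hy]
    · rw [Function.update_of_ne hl, hx]
  rw [e] at key
  exact key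

end Groth.Agent.S13634
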