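import Groth.Statements.S13635
import Groth.Agent.H43.FppfDescent

set_option autoImplicit false
universe u w
open CategoryTheory CategoryTheory.Limits MonoidalCategory CartesianMonoidalCategory MonObj AlgebraicGeometry
open MultSch

namespace Groth.Agent.S13635
open Groth.Agent.H43.FppfDescent

section gen

variable {C : Type*} [Category C] [CartesianMonoidalCategory C]

/-- the `n`-th power of a morphism -/
def powMap {M M' : C} (π : M ⟶ M') : ∀ n : ℕ, MultSch.pow M n ⟶ MultSch.pow M' n
  | 0 => 𝟙 _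
  | n + 1 => π ⊗ₘ powMap π n

theorem tuple_powMap {M M' T : C} (π : M ⟶ M') :
    ∀ {n : ℕ} (x : Fin n → (T ⟶ M)),
      MultSch.tuple x ≫ powMap π n = MultSch.tuple (fun l => x l ≫ π)
  | 0, _ => toUnit_unique _ _
  | n + 1, x => by
    show lift (x 0) (MultSch.tuple fun i => x i.succ) ≫ (π ⊗ₘ powMap π n) =
      lift (x 0 ≫ π) (MultSch.tuple fun i => x i.succ ≫ π)
    rw [lift_map, tuple_powMap π (fun i => x i.succ)]

/-- the projections of a power -/
def proj {M : C} : ∀ n : ℕ, Fin n → (MultSch.pow M n ⟶ M)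
  | 0, l => Fin.elim0 l
  | n + 1, l => Fin.cases (fst _ _) (fun l' => snd _ _ ≫ proj n l') l

theorem tuple_proj {M T : C} :
    ∀ {n : ℕ} (x : Fin n → (T ⟶ M)) (l : Fin n), MultSch.tuple x ≫ proj n l = x l
  | 0, _, l => Fin.elim0 l
  | n + 1, x, l => by
    refine Fin.cases ?_ (fun l' => ?_) l
    · show lift (x 0) (MultSch.tuple fun i => x i.succ) ≫ fst _ _ = x 0
      rw [lift_fst]
    · show lift (x 0) (MultSch.tuple fun i => x i.succ) ≫ (snd _ _ ≫ proj n l') = x l'.succ
      rw [lift_snd_assoc, tuple_proj (fun i => x i.succ) l']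

theorem eq_tuple {M T : C} :
    ∀ {n : ℕ} (u : T ⟶ MultSch.pow M n), u = MultSch.tuple (fun l => u ≫ proj n l)
  | 0, _ => toUnit_unique _ _
  | n + 1, u => by
    have key : ∀ u' : T ⟶ M ⊗ MultSch.pow M n,
        u' = lift (u' ≫ fst _ _) (MultSch.tuple fun i : Fin n => u' ≫ (snd _ _ ≫ proj n i)) := by
      intro u'
      have hs : (fun i : Fin n => u' ≫ (snd M (MultSch.pow M n) ≫ proj n i)) =
          fun i => (u' ≫ snd _ _) ≫ proj n i := by
        funext i
        rw [Category.assoc]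
      rw [hs, ← eq_tuple (u' ≫ snd _ _), lift_comp_fst_snd]
    exact key u

end gen

/-- Let M₁ → M₂ → M₃ → 0 be a sequence of R-module schemes over a scheme S, with R-linear homomorphisms
j : M₁ → M₂ and π : M₂ → M₃, exact as a sequence of fppf sheaves. For n ≥ 1 and an R-module scheme
N, the sequence 0 → Alt(M₃^n, N) → Alt(M₂^n, N) → Alt(M₁ × M₂^(n-1), N) of R-multilinear alternating
morphisms is exact: an R-multilinear alternating φ : M₂^n → N which is trivial on all points with
first coordinate in the image of j is of the form φ' ∘ π^n for a unique morphism φ' : M₃^n → N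
(unique among all morphisms), and this φ' is R-multilinear and alternating. -/
theorem result
    {S : Scheme.{u}} {R : Type w} [CommRing R] {M₁ M₂ M₃ N : Over S}
    [GrpObj M₁] [IsCommMonObj M₁] [GrpObj M₂] [IsCommMonObj M₂] [GrpObj M₃] [IsCommMonObj M₃]
    [GrpObj N] [IsCommMonObj N]
    (ρ₁ : MultSch.RMod R M₁) (ρ₂ : MultSch.RMod R M₂) (ρ₃ : MultSch.RMod R M₃) (ρN : MultSch.RMod R N)
    (j : M₁ ⟶ M₂) (π : M₂ ⟶ M₃) [IsMonHom j] [IsMonHom π]
    (hj : ∀ a : R, j ≫ ρ₂.act a = ρ₁.act a ≫ j) (hπ : ∀ a : R, π ≫ ρ₃.act a = ρ₂.act a ≫ π)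
    (w : j ≫ π = 1) (hex : (CGrpSh.seq Scheme.fppfPrecoverage j π w).Exact)
    (hepi : Epi (CGrpSh.ptsMap Scheme.fppfPrecoverage π))
    {n : ℕ} (hn : 1 ≤ n) (φ : MultSch.pow M₂ n ⟶ N)
    (hmult : MultSch.IsMultilinear φ) (hlin : MultSch.IsRLinear ρ₂ ρN φ) (halt : MultSch.IsAlternating φ)
    (hvan : ∀ (T : Over S) (y : T ⟶ M₁) (x : Fin n → (T ⟶ M₂)), x ⟨0, hn⟩ = y ≫ j →
      MultSch.tuple x ≫ φ = 1) :
    ∃ φ' : MultSch.pow M₃ n ⟶ N,
      (∀ (T : Over S) (x : Fin n → (T ⟶ M₂)), MultSch.tuple x ≫ φ = MultSch.tuple (fun l => x l ≫ π) ≫ φ') ∧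
      MultSch.IsMultilinear φ' ∧ MultSch.IsRLinear ρ₃ ρN φ' ∧ MultSch.IsAlternating φ' ∧
      ∀ φ'' : MultSch.pow M₃ n ⟶ N,
        (∀ (T : Over S) (x : Fin n → (T ⟶ M₂)), MultSch.tuple x ≫ φ = MultSch.tuple (fun l => x l ≫ π) ≫ φ'') →
          φ'' = φ' := by
  have Va : ∀ (T : Over S) (v : Fin n → (T ⟶ M₂)) (a : Fin n) (y' : T ⟶ M₁), v a = y' ≫ j →
      MultSch.tuple v ≫ φ = 1 := by
    intro T v a y' hva
    by_cases hao : a = ⟨0, hn⟩
    · exact hvan T y' v (by rw [← hao]; exact hva)
    · have hoa : (⟨0, hn⟩ : Fin n) ≠ a := fun h => hao h.symm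
      have h1 : MultSch.tuple (Function.update (Function.update v a (v ⟨0, hn⟩ * v a)) ⟨0, hn⟩
          (v ⟨0, hn⟩ * v a)) ≫ φ = 1 :=
        halt T _ ⟨0, hn⟩ a hoa
          (by rw [Function.update_self, Function.update_of_ne hao, Function.update_self])
      have h2 := hmult T (Function.update v a (v ⟨0, hn⟩ * v a)) ⟨0, hn⟩ (v ⟨0, hn⟩) (v a)
      have h3 : MultSch.tuple (Function.update (Function.update v a (v ⟨0, hn⟩ * v a)) ⟨0, hn⟩
          (v a)) ≫ φ = 1 :=
        hvan T y' _ (by rw [Function.update_self, hva])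
      have h4 : Function.update (Function.update v a (v ⟨0, hn⟩ * v a)) ⟨0, hn⟩ (v ⟨0, hn⟩) =
          Function.update v a (v ⟨0, hn⟩ * v a) := by
        apply Function.update_eq_self_iff.2
        rw [Function.update_of_ne hoa]
      rw [h1, h3, h4, _root_.mul_one] at h2
      have h5 := hmult T v a (v ⟨0, hn⟩) (v a)
      have h6 : MultSch.tuple (Function.update v a (v ⟨0, hn⟩)) ≫ φ = 1 :=
        halt T _ ⟨0, hn⟩ a hoa (by rw [Function.update_of_ne hoa, Function.update_self])
      rw [← h2, h6, Function.update_eq_self, _root_.one_mul] at h5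
      exact h5.symm
  have C1 : ∀ (T : Over S) (z : Fin n → (T ⟶ M₂)) (a : Fin n) (m' : T ⟶ M₂),
      m' ≫ π = z a ≫ π →
      MultSch.tuple (Function.update z a m') ≫ φ = MultSch.tuple z ≫ φ := by
    intro T z a m' hm
    have hk : (m' * (z a)⁻¹) ≫ π = 1 := by
      rw [MonObj.mul_comp, GrpObj.inv_comp, hm, _root_.mul_inv_cancel]
    obtain ⟨R, hR, hRl⟩ := exactLift j π w hex (m' * (z a)⁻¹) hk
    apply Groth.Agent.S13634.sep R hR
    intro T' t ht
    obtain ⟨y', hy'⟩ := hRl T' t ht
    have e : t ≫ m' = (y' ≫ j) * (t ≫ z a) := by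
      rw [hy', MonObj.comp_mul, GrpObj.comp_inv, _root_.inv_mul_cancel_right]
    have hupd : (fun l => t ≫ Function.update z a m' l) =
        Function.update (fun l => t ≫ z l) a ((y' ≫ j) * (t ≫ z a)) := by
      funext l
      by_cases hl : l = a
      · rw [hl, Function.update_self, Function.update_self, e]
      · rw [Function.update_of_ne hl, Function.update_of_ne hl]
    have hself : Function.update (fun l => t ≫ z l) a (t ≫ z a) = fun l => t ≫ z l :=
      Function.update_eq_self a (fun l => t ≫ z l)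
    have hV : MultSch.tuple (Function.update (fun l => t ≫ z l) a (y' ≫ j)) ≫ φ = 1 :=
      Va T' (Function.update (fun l => t ≫ z l) a (y' ≫ j)) a y' (Function.update_self _ _ _)
    calc t ≫ MultSch.tuple (Function.update z a m') ≫ φ
        = MultSch.tuple (Function.update (fun l => t ≫ z l) a ((y' ≫ j) * (t ≫ z a))) ≫ φ := by
          rw [← Category.assoc, Groth.Agent.S13634.comp_tuple, hupd]
      _ = (MultSch.tuple (Function.update (fun l => t ≫ z l) a (y' ≫ j)) ≫ φ) *
            (MultSch.tuple (Function.update (fun l => t ≫ z l) a (t ≫ z a)) ≫ φ) :=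
          hmult T' (fun l => t ≫ z l) a (y' ≫ j) (t ≫ z a)
      _ = MultSch.tuple (fun l => t ≫ z l) ≫ φ := by rw [hV, hself, _root_.one_mul]
      _ = t ≫ MultSch.tuple z ≫ φ := by rw [← Category.assoc, Groth.Agent.S13634.comp_tuple]
  have C2 : ∀ (T : Over S) (x x' : Fin n → (T ⟶ M₂)), (∀ l, x' l ≫ π = x l ≫ π) →
      MultSch.tuple x' ≫ φ = MultSch.tuple x ≫ φ := by
    intro T x x' hxx
    have aux : ∀ s : Finset (Fin n),
        MultSch.tuple (fun l => if l ∈ s then x' l else x l) ≫ φ = MultSch.tuple x ≫ φ := by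
      intro s
      induction s using Finset.induction_on with
      | empty => simp
      | insert a s ha ih =>
        have e : (fun l => if l ∈ insert a s then x' l else x l) =
            Function.update (fun l => if l ∈ s then x' l else x l) a (x' a) := by
          funext l
          by_cases hl : l = a
          · rw [hl, Function.update_self, if_pos (Finset.mem_insert_self a s)]
          · rw [Function.update_of_ne hl]
            by_cases hs : l ∈ s
            · rw [if_pos hs, if_pos (Finset.mem_insert_of_mem hs)]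
            · rw [if_neg hs, if_neg (fun h => (Finset.mem_insert.1 h).elim hl hs)]
        have hz : x' a ≫ π = (fun l => if l ∈ s then x' l else x l) a ≫ π := by
          show x' a ≫ π = (if a ∈ s then x' a else x a) ≫ π
          rw [if_neg ha]
          exact hxx a
        rw [e, C1 T (fun l => if l ∈ s then x' l else x l) a (x' a) hz, ih]
    simpa using aux Finset.univ
  have hloc : ∀ (T : Over S) (y : T ⟶ MultSch.pow M₃ n), ∃ R : Sieve T,
      R ∈ (QuotSh.J Scheme.fppfPrecoverage S) T ∧ ∀ (T' : Over S) (t : T' ⟶ T), R t →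
        ∃ x : T' ⟶ MultSch.pow M₂ n, x ≫ powMap π n = t ≫ y := by
    intro T y
    have h := fun l => Groth.Agent.S13634.locSurj π hepi (y ≫ proj n l)
    choose R hR hRl using h
    obtain ⟨R0, hR0, hR0l⟩ :=
      Groth.Agent.S13634.inter (QuotSh.J Scheme.fppfPrecoverage S) (fun l => R l) hR
    refine ⟨R0, hR0, fun T' t ht => ?_⟩
    have hx : ∀ l, ∃ x : T' ⟶ M₂, x ≫ π = t ≫ y ≫ proj n l := fun l => hRl l t (hR0l t ht l)
    choose x hx using hx
    refine ⟨MultSch.tuple x, ?_⟩
    rw [tuple_powMap, funext hx]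
    have e3 := eq_tuple (t ≫ y)
    simp only [Category.assoc] at e3
    exact e3.symm
  have hconst : ∀ (T : Over S) (x x' : T ⟶ MultSch.pow M₂ n),
      x ≫ powMap π n = x' ≫ powMap π n → x ≫ φ = x' ≫ φ := by
    intro T x x' h
    obtain ⟨xs, rfl⟩ : ∃ xs : Fin n → (T ⟶ M₂), x = MultSch.tuple xs := ⟨_, eq_tuple x⟩
    obtain ⟨xs', rfl⟩ : ∃ xs' : Fin n → (T ⟶ M₂), x' = MultSch.tuple xs' := ⟨_, eq_tuple x'⟩
    rw [tuple_powMap, tuple_powMap] at h
    apply C2 T xs' xs
    intro l
    have h' := congrArg (fun q => q ≫ proj n l) h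
    simpa only [tuple_proj] using h'
  obtain ⟨φ', hφ', huniq⟩ := descend (powMap π n) φ hloc hconst
  have star : ∀ (T : Over S) (x : Fin n → (T ⟶ M₂)),
      MultSch.tuple x ≫ φ = MultSch.tuple (fun l => x l ≫ π) ≫ φ' := by
    intro T x
    rw [← hφ', ← Category.assoc, tuple_powMap]
  -- local lifts of all coordinates of a point
  have lifts : ∀ (T : Over S) (y : Fin n → (T ⟶ M₃)), ∃ R : Sieve T,
      R ∈ (QuotSh.J Scheme.fppfPrecoverage S) T ∧ ∀ (T' : Over S) (t : T' ⟶ T), R t →
        ∃ x : Fin n → (T' ⟶ M₂), ∀ l, x l ≫ π = t ≫ y l := by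
    intro T y
    have h := fun l => Groth.Agent.S13634.locSurj π hepi (y l)
    choose R hR hRl using h
    obtain ⟨R0, hR0, hR0l⟩ :=
      Groth.Agent.S13634.inter (QuotSh.J Scheme.fppfPrecoverage S) (fun l => R l) hR
    refine ⟨R0, hR0, fun T' t ht => ?_⟩
    have hx : ∀ l, ∃ x : T' ⟶ M₂, x ≫ π = t ≫ y l := fun l => hRl l t (hR0l t ht l)
    choose x hx using hx
    exact ⟨x, hx⟩
  have hm' : MultSch.IsMultilinear φ' := by
    intro T y i a b
    obtain ⟨R0, hR0, hR0l⟩ := lifts T y
    obtain ⟨Ra, hRa, hRal⟩ := Groth.Agent.S13634.locSurj π hepi a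
    obtain ⟨Rb, hRb, hRbl⟩ := Groth.Agent.S13634.locSurj π hepi b
    apply Groth.Agent.S13634.sep (R0 ⊓ (Ra ⊓ Rb))
      ((QuotSh.J Scheme.fppfPrecoverage S).intersection_covering hR0
        ((QuotSh.J Scheme.fppfPrecoverage S).intersection_covering hRa hRb))
    intro T' t ht
    obtain ⟨x, hx⟩ := hR0l T' t ht.1
    obtain ⟨α, hα⟩ := hRal t ht.2.1
    obtain ⟨β, hβ⟩ := hRbl t ht.2.2
    have hup : ∀ (c : T ⟶ M₃) (γ : T' ⟶ M₂), γ ≫ π = t ≫ c →
        t ≫ MultSch.tuple (Function.update y i c) =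
          MultSch.tuple (fun l => Function.update x i γ l ≫ π) := by
      intro c γ hγ
      rw [Groth.Agent.S13634.comp_tuple]
      congr 1
      funext l
      by_cases hl : l = i
      · rw [hl, Function.update_self, Function.update_self, hγ]
      · rw [Function.update_of_ne hl, Function.update_of_ne hl, hx]
    have hαβ : (α * β) ≫ π = t ≫ (a * b) := by
      rw [MonObj.mul_comp, hα, hβ, MonObj.comp_mul]
    calc t ≫ MultSch.tuple (Function.update y i (a * b)) ≫ φ'
        = (t ≫ MultSch.tuple (Function.update y i (a * b))) ≫ φ' := (Category.assoc _ _ _).symm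
      _ = MultSch.tuple (Function.update x i (α * β)) ≫ φ := by
          rw [hup (a * b) (α * β) hαβ, ← star T' (Function.update x i (α * β))]
      _ = (MultSch.tuple (Function.update x i α) ≫ φ) *
            (MultSch.tuple (Function.update x i β) ≫ φ) := hmult _ _ _ _ _
      _ = ((t ≫ MultSch.tuple (Function.update y i a)) ≫ φ') *
            ((t ≫ MultSch.tuple (Function.update y i b)) ≫ φ') := by
          rw [hup a α hα, hup b β hβ, ← star T' (Function.update x i α),
            ← star T' (Function.update x i β)]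
      _ = t ≫ ((MultSch.tuple (Function.update y i a) ≫ φ') *
            (MultSch.tuple (Function.update y i b) ≫ φ')) := by
          rw [MonObj.comp_mul, Category.assoc, Category.assoc]
  refine ⟨φ', star, hm', ?_, ?_, ?_⟩
  · intro T y i a
    obtain ⟨R0, hR0, hR0l⟩ := lifts T y
    apply Groth.Agent.S13634.sep R0 hR0
    intro T' t ht
    obtain ⟨x, hx⟩ := hR0l T' t ht
    have e0 : (x i ≫ ρ₂.act a) ≫ π = (x i ≫ π) ≫ ρ₃.act a := by
      rw [Category.assoc, ← hπ, Category.assoc]
    have e1 : t ≫ MultSch.tuple (Function.update y i (y i ≫ ρ₃.act a)) =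
        MultSch.tuple (fun l => Function.update x i (x i ≫ ρ₂.act a) l ≫ π) := by
      rw [Groth.Agent.S13634.comp_tuple]
      congr 1
      funext l
      by_cases hl : l = i
      · rw [hl, Function.update_self, Function.update_self, e0, hx, Category.assoc]
      · rw [Function.update_of_ne hl, Function.update_of_ne hl, hx]
    have e2 : t ≫ MultSch.tuple y = MultSch.tuple (fun l => x l ≫ π) := by
      rw [Groth.Agent.S13634.comp_tuple, funext hx]
    calc t ≫ MultSch.tuple (Function.update y i (y i ≫ ρ₃.act a)) ≫ φ'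
        = (t ≫ MultSch.tuple (Function.update y i (y i ≫ ρ₃.act a))) ≫ φ' :=
          (Category.assoc _ _ _).symm
      _ = MultSch.tuple (Function.update x i (x i ≫ ρ₂.act a)) ≫ φ := by
          rw [e1, ← star T' (Function.update x i (x i ≫ ρ₂.act a))]
      _ = (MultSch.tuple x ≫ φ) ≫ ρN.act a := hlin _ _ _ _
      _ = ((t ≫ MultSch.tuple y) ≫ φ') ≫ ρN.act a := by rw [e2, ← star T' x]
      _ = t ≫ (MultSch.tuple y ≫ φ') ≫ ρN.act a := by simp only [Category.assoc]
  · exact Groth.Agent.S13634.result π hepi φ' hm' (fun T x i j hij hxij => by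
      rw [← star T x]
      exact halt T x i j hij hxij)
  · intro φ'' h
    apply huniq
    have e := h _ (fun l => 𝟙 (MultSch.pow M₂ n) ≫ proj n l)
    rw [← tuple_powMap π (fun l => 𝟙 (MultSch.pow M₂ n) ≫ proj n l),
      ← eq_tuple (𝟙 (MultSch.pow M₂ n)), Category.id_comp, Category.id_comp] at e
    exact e.symm

end Groth.Agent.S13635
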