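import Groth.Statements.S13636
import Groth.Agent.H43.FppfDescent

set_option autoImplicit false
universe u w
open CategoryTheory CategoryTheory.Limits MonoidalCategory CartesianMonoidalCategory MonObj AlgebraicGeometry
open MultSch

namespace Groth.Agent.S13636
open Groth.Agent.H43.FppfDescent

/-- Let M' → M → M'' → 0 be a sequence of R-module schemes over a scheme S, with R-linear homomorphisms
j and π, exact as fppf sheaves, and let ψ : P × M × Q → N be a morphism to an R-module scheme N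
which is additive and R-linear in the coordinate M (on T-valued points) and trivial on all points
whose M-coordinate lies in the image of j. Then ψ = ψ' ∘ (id × π × id) for a unique morphism ψ' : P
× M'' × Q → N, and ψ' is additive and R-linear in the coordinate M''. (The published statement has a
product M₁ × ⋯ × M_r of R-module schemes with the exact sequence in the i-th factor and ψ
R-multilinear; here the factors before and after the i-th are collected into single S-schemes P and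
Q, and only linearity in the i-th coordinate, the one the statement is about, is carried; linearity
in the other coordinates passes between ψ and ψ' formally.) -/
theorem result
    {S : Scheme.{u}} {R : Type w} [CommRing R] {P Q M' M M'' N : Over S}
    [GrpObj M'] [IsCommMonObj M'] [GrpObj M] [IsCommMonObj M] [GrpObj M''] [IsCommMonObj M'']
    [GrpObj N] [IsCommMonObj N]
    (ρ' : MultSch.RMod R M') (ρ : MultSch.RMod R M) (ρ'' : MultSch.RMod R M'') (ρN : MultSch.RMod R N)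
    (j : M' ⟶ M) (π : M ⟶ M'') [IsMonHom j] [IsMonHom π]
    (hj : ∀ a : R, j ≫ ρ.act a = ρ'.act a ≫ j) (hπ : ∀ a : R, π ≫ ρ''.act a = ρ.act a ≫ π)
    (w : j ≫ π = 1) (hex : (CGrpSh.seq Scheme.fppfPrecoverage j π w).Exact)
    (hepi : Epi (CGrpSh.ptsMap Scheme.fppfPrecoverage π))
    (ψ : P ⊗ (M ⊗ Q) ⟶ N)
    (hadd : ∀ (T : Over S) (p : T ⟶ P) (q : T ⟶ Q) (y z : T ⟶ M),
      lift p (lift (y * z) q) ≫ ψ = (lift p (lift y q) ≫ ψ) * (lift p (lift z q) ≫ ψ))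
    (hlin : ∀ (T : Over S) (p : T ⟶ P) (q : T ⟶ Q) (y : T ⟶ M) (a : R),
      lift p (lift (y ≫ ρ.act a) q) ≫ ψ = (lift p (lift y q) ≫ ψ) ≫ ρN.act a)
    (hvan : ∀ (T : Over S) (p : T ⟶ P) (q : T ⟶ Q) (y' : T ⟶ M'), lift p (lift (y' ≫ j) q) ≫ ψ = 1) :
    ∃ ψ' : P ⊗ (M'' ⊗ Q) ⟶ N,
      (P ◁ (π ▷ Q)) ≫ ψ' = ψ ∧
      (∀ (T : Over S) (p : T ⟶ P) (q : T ⟶ Q) (y z : T ⟶ M''),
        lift p (lift (y * z) q) ≫ ψ' = (lift p (lift y q) ≫ ψ') * (lift p (lift z q) ≫ ψ')) ∧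
      (∀ (T : Over S) (p : T ⟶ P) (q : T ⟶ Q) (y : T ⟶ M'') (a : R),
        lift p (lift (y ≫ ρ''.act a) q) ≫ ψ' = (lift p (lift y q) ≫ ψ') ≫ ρN.act a) ∧
      ∀ ψ'' : P ⊗ (M'' ⊗ Q) ⟶ N, (P ◁ (π ▷ Q)) ≫ ψ'' = ψ → ψ'' = ψ' := by
  have key : ∀ (T : Over S) (p : T ⟶ P) (q : T ⟶ Q) (x x' : T ⟶ M), x ≫ π = x' ≫ π →
      lift p (lift x q) ≫ ψ = lift p (lift x' q) ≫ ψ := by
    intro T p q x x' hxx
    have hk : (x' * x⁻¹) ≫ π = 1 := by
      rw [MonObj.mul_comp, GrpObj.inv_comp, ← hxx, _root_.mul_inv_cancel]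
    obtain ⟨R, hR, hRl⟩ := exactLift j π w hex (x' * x⁻¹) hk
    apply Groth.Agent.S13634.sep R hR
    intro T' t ht
    obtain ⟨y', hy'⟩ := hRl T' t ht
    have e : t ≫ x' = (y' ≫ j) * (t ≫ x) := by
      rw [hy', MonObj.comp_mul, GrpObj.comp_inv, _root_.inv_mul_cancel_right]
    calc t ≫ lift p (lift x q) ≫ ψ = lift (t ≫ p) (lift (t ≫ x) (t ≫ q)) ≫ ψ := by
          rw [← Category.assoc, comp_lift, comp_lift]
      _ = (lift (t ≫ p) (lift (y' ≫ j) (t ≫ q)) ≫ ψ) *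
            (lift (t ≫ p) (lift (t ≫ x) (t ≫ q)) ≫ ψ) := by rw [hvan, _root_.one_mul]
      _ = lift (t ≫ p) (lift (t ≫ x') (t ≫ q)) ≫ ψ := by rw [e, hadd]
      _ = t ≫ lift p (lift x' q) ≫ ψ := by rw [← Category.assoc, comp_lift, comp_lift]
  have hloc : ∀ (T : Over S) (y : T ⟶ P ⊗ (M'' ⊗ Q)), ∃ R : Sieve T,
      R ∈ (QuotSh.J Scheme.fppfPrecoverage S) T ∧ ∀ (T' : Over S) (t : T' ⟶ T), R t →
        ∃ x : T' ⟶ P ⊗ (M ⊗ Q), x ≫ (P ◁ (π ▷ Q)) = t ≫ y := by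
    intro T y
    obtain ⟨R, hR, hRl⟩ := Groth.Agent.S13634.locSurj π hepi (y ≫ snd _ _ ≫ fst _ _)
    refine ⟨R, hR, fun T' t ht => ?_⟩
    obtain ⟨x, hx⟩ := hRl t ht
    refine ⟨lift (t ≫ y ≫ fst _ _) (lift x (t ≫ y ≫ snd _ _ ≫ snd _ _)), ?_⟩
    rw [lift_whiskerLeft, lift_whiskerRight, hx]
    have e := pt3 (t ≫ y)
    simp only [Category.assoc] at e
    exact e.symm
  have hconst : ∀ (T : Over S) (x x' : T ⟶ P ⊗ (M ⊗ Q)),
      x ≫ (P ◁ (π ▷ Q)) = x' ≫ (P ◁ (π ▷ Q)) → x ≫ ψ = x' ≫ ψ := by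
    intro T x x' h
    obtain ⟨p, m, q, rfl⟩ : ∃ p m q, x = lift p (lift m q) := ⟨_, _, _, pt3 x⟩
    obtain ⟨p', m', q', rfl⟩ : ∃ p m q, x' = lift p (lift m q) := ⟨_, _, _, pt3 x'⟩
    rw [lift_whiskerLeft, lift_whiskerRight, lift_whiskerLeft, lift_whiskerRight] at h
    obtain ⟨rfl, h2, rfl⟩ := lift3_inj h
    exact key T p q m m' h2
  obtain ⟨ψ', hψ', huniq⟩ := descend (P ◁ (π ▷ Q)) ψ hloc hconst
  have star : ∀ (T : Over S) (p : T ⟶ P) (q : T ⟶ Q) (x : T ⟶ M),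
      lift p (lift (x ≫ π) q) ≫ ψ' = lift p (lift x q) ≫ ψ := by
    intro T p q x
    rw [← hψ', ← Category.assoc, lift_whiskerLeft, lift_whiskerRight]
  refine ⟨ψ', hψ', ?_, ?_, huniq⟩
  · intro T p q y z
    obtain ⟨Ry, hRy, hRyl⟩ := Groth.Agent.S13634.locSurj π hepi y
    obtain ⟨Rz, hRz, hRzl⟩ := Groth.Agent.S13634.locSurj π hepi z
    apply Groth.Agent.S13634.sep (Ry ⊓ Rz)
      ((QuotSh.J Scheme.fppfPrecoverage S).intersection_covering hRy hRz)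
    intro T' t ht
    obtain ⟨a, ha⟩ := hRyl t ht.1
    obtain ⟨b, hb⟩ := hRzl t ht.2
    have L : t ≫ lift p (lift (y * z) q) = lift (t ≫ p) (lift ((a * b) ≫ π) (t ≫ q)) := by
      rw [comp_lift, comp_lift, MonObj.comp_mul, MonObj.mul_comp, ha, hb]
    have Ry' : t ≫ lift p (lift y q) = lift (t ≫ p) (lift (a ≫ π) (t ≫ q)) := by
      rw [comp_lift, comp_lift, ha]
    have Rz' : t ≫ lift p (lift z q) = lift (t ≫ p) (lift (b ≫ π) (t ≫ q)) := by
      rw [comp_lift, comp_lift, hb]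
    calc t ≫ lift p (lift (y * z) q) ≫ ψ' = (t ≫ lift p (lift (y * z) q)) ≫ ψ' :=
          (Category.assoc _ _ _).symm
      _ = lift (t ≫ p) (lift (a * b) (t ≫ q)) ≫ ψ := by rw [L, star]
      _ = (lift (t ≫ p) (lift a (t ≫ q)) ≫ ψ) * (lift (t ≫ p) (lift b (t ≫ q)) ≫ ψ) :=
          hadd _ _ _ _ _
      _ = ((t ≫ lift p (lift y q)) ≫ ψ') * ((t ≫ lift p (lift z q)) ≫ ψ') := by
          rw [Ry', Rz', star, star]
      _ = t ≫ ((lift p (lift y q) ≫ ψ') * (lift p (lift z q) ≫ ψ')) := by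
          rw [MonObj.comp_mul, Category.assoc, Category.assoc]
  · intro T p q y a
    obtain ⟨Ry, hRy, hRyl⟩ := Groth.Agent.S13634.locSurj π hepi y
    apply Groth.Agent.S13634.sep Ry hRy
    intro T' t ht
    obtain ⟨x, hx⟩ := hRyl t ht
    have e0 : (x ≫ ρ.act a) ≫ π = (x ≫ π) ≫ ρ''.act a := by
      rw [Category.assoc, ← hπ, Category.assoc]
    have L : t ≫ lift p (lift (y ≫ ρ''.act a) q) =
        lift (t ≫ p) (lift ((x ≫ ρ.act a) ≫ π) (t ≫ q)) := by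
      rw [comp_lift, comp_lift, e0, hx, Category.assoc]
    have Rr : t ≫ lift p (lift y q) = lift (t ≫ p) (lift (x ≫ π) (t ≫ q)) := by
      rw [comp_lift, comp_lift, hx]
    calc t ≫ lift p (lift (y ≫ ρ''.act a) q) ≫ ψ'
        = (t ≫ lift p (lift (y ≫ ρ''.act a) q)) ≫ ψ' := (Category.assoc _ _ _).symm
      _ = lift (t ≫ p) (lift (x ≫ ρ.act a) (t ≫ q)) ≫ ψ := by rw [L, star]
      _ = (lift (t ≫ p) (lift x (t ≫ q)) ≫ ψ) ≫ ρN.act a := hlin _ _ _ _ _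
      _ = ((t ≫ lift p (lift y q)) ≫ ψ') ≫ ρN.act a := by rw [Rr, star]
      _ = t ≫ (lift p (lift y q) ≫ ψ') ≫ ρN.act a := by simp only [Category.assoc]

end Groth.Agent.S13636
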