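import Groth.Statements.S13663
import Groth.Agent.H68.Graded
import Mathlib

set_option autoImplicit false
universe u
open GrRing

namespace Groth.Agent.S13663

open DirectSum Groth.Agent.H68


/-- Let A be a commutative ring graded by the integers whose ideal generated by the homogeneous elements
of positive degree has homogeneous generators f_1, …, f_p, of positive degrees d_1, …, d_p, and let
d be a positive integer divisible by each d_i. Then A_N = A_d · A_{N-d} for every integer N > dp -
(d_1 + ⋯ + d_p). -/
theorem result {R A : Type u} [CommRing R] [CommRing A] [Algebra R A]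
    (𝒜 : ℤ → Submodule R A) [GradedAlgebra 𝒜]
    {p : ℕ} (f : Fin p → A) (deg : Fin p → ℤ) (hdeg : ∀ i, 0 < deg i) (hf : ∀ i, f i ∈ 𝒜 (deg i))
    (hgen : Ideal.span {a : A | ∃ n : ℤ, 0 < n ∧ a ∈ 𝒜 n} = Ideal.span (Set.range f))
    (d : ℤ) (hd : 0 < d) (hdvd : ∀ i, deg i ∣ d) (N : ℤ) (hN : d * p - ∑ i, deg i < N) :
    𝒜 N = 𝒜 d * 𝒜 (N - d) := by
  classical
  apply le_antisymm
  swap
  · rw [Submodule.mul_le]
    intro a ha b hb
    have h := SetLike.GradedMul.mul_mem ha hb
    rwa [add_sub_cancel] at h
  -- the hard inclusion
  set J : Submodule R A := 𝒜 d * 𝒜 (N - d) with hJ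
  let E : Fin p → ℕ := fun i => (d / deg i).toNat
  have hE : ∀ i, (E i : ℤ) * deg i = d := by
    intro i
    have h1 : 0 ≤ d / deg i := Int.ediv_nonneg hd.le (hdeg i).le
    simp only [E, Int.toNat_of_nonneg h1]
    exact Int.ediv_mul_cancel (hdvd i)
  have hE1 : ∀ i, 1 ≤ E i := by
    intro i
    by_contra h
    have h0 : E i = 0 := by omega
    have := hE i
    rw [h0] at this
    simp at this
    omega
  let mdeg : (Fin p → ℕ) → ℤ := fun m => ∑ i, m i • deg i
  let fm : (Fin p → ℕ) → A := fun m => ∏ i, f i ^ m i
  have hfm : ∀ m, fm m ∈ 𝒜 (mdeg m) := fun m =>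
    SetLike.prod_pow_mem_graded 𝒜 _ _ _ (fun i _ => hf i)
  have hfm_add : ∀ m n, fm (m + n) = fm m * fm n := by
    intro m n
    simp only [fm, Pi.add_apply, pow_add, Finset.prod_mul_distrib]
  have hmdeg_add : ∀ m n, mdeg (m + n) = mdeg m + mdeg n := by
    intro m n
    simp only [mdeg, Pi.add_apply, add_smul, Finset.sum_add_distrib]
  have hfm_single : ∀ i k, fm (Pi.single i k) = f i ^ k := by
    intro i k
    simp only [fm]
    rw [Finset.prod_eq_single i]
    · simp
    · intro j _ hj
      simp [Pi.single_eq_of_ne hj]
    · intro h; exact absurd (Finset.mem_univ i) h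
  have hmdeg_single : ∀ i k, mdeg (Pi.single i k) = k • deg i := by
    intro i k
    simp only [mdeg]
    rw [Finset.sum_eq_single i]
    · simp
    · intro j _ hj
      simp [Pi.single_eq_of_ne hj]
    · intro h; exact absurd (Finset.mem_univ i) h
  -- the direct case
  have direct : ∀ (m : Fin p → ℕ) (a : A), a ∈ 𝒜 (N - mdeg m) → (∃ i, E i ≤ m i) →
      a * fm m ∈ J := by
    rintro m a ha ⟨i, hi⟩
    have hle : Pi.single i (E i) ≤ m := by
      intro j
      by_cases hj : j = i
      · subst hj; simpa using hi
      · simp [Pi.single_eq_of_ne hj]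
    have hm : m = (m - Pi.single i (E i)) + Pi.single i (E i) := (tsub_add_cancel_of_le hle).symm
    set m' := m - Pi.single i (E i) with hm'
    have h1 : fm m = fm m' * f i ^ E i := by
      rw [hm, hfm_add, hfm_single]
    have h2 : mdeg m = mdeg m' + d := by
      rw [hm, hmdeg_add, hmdeg_single, nsmul_eq_mul, hE]
    have h3 : a * fm m = f i ^ E i * (a * fm m') := by
      rw [h1]; ring
    rw [h3, hJ]
    apply Submodule.mul_mem_mul
    · have := SetLike.pow_mem_graded (A := 𝒜) (E i) (hf i)
      rwa [nsmul_eq_mul, hE] at this
    · have := SetLike.GradedMul.mul_mem ha (hfm m')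
      have hidx : N - mdeg m + mdeg m' = N - d := by rw [h2]; ring
      rwa [hidx] at this
  -- bound on the degree of small monomials
  have hsmall : ∀ m : Fin p → ℕ, (∀ i, m i < E i) → mdeg m ≤ d * p - ∑ i, deg i := by
    intro m hm
    have h1 : mdeg m ≤ ∑ i : Fin p, (d - deg i) := by
      apply Finset.sum_le_sum
      intro i _
      rw [nsmul_eq_mul]
      have h2 : (m i : ℤ) ≤ (E i : ℤ) - 1 := by have := hm i; omega
      have h3 : (m i : ℤ) * deg i ≤ ((E i : ℤ) - 1) * deg i :=
        mul_le_mul_of_nonneg_right h2 (hdeg i).le
      have h4 : ((E i : ℤ) - 1) * deg i = d - deg i := by rw [sub_mul, hE, one_mul]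
      linarith
    have h5 : ∑ i : Fin p, (d - deg i) = d * p - ∑ i, deg i := by
      rw [Finset.sum_sub_distrib, Finset.sum_const, Finset.card_univ, Fintype.card_fin,
        nsmul_eq_mul, mul_comm]
    linarith
  have hsmall_sum : ∀ m : Fin p → ℕ, (∀ i, m i < E i) → ∑ i, m i ≤ ∑ i, (E i - 1) := by
    intro m hm
    apply Finset.sum_le_sum
    intro i _
    have := hm i
    omega
  -- the main induction
  have main : ∀ r : ℕ, ∀ (m : Fin p → ℕ) (a : A), a ∈ 𝒜 (N - mdeg m) →
      (∑ i, (E i - 1)) + 1 ≤ (∑ i, m i) + r → a * fm m ∈ J := by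
    intro r
    induction r with
    | zero =>
      intro m a ha hr
      by_cases hex : ∃ i, E i ≤ m i
      · exact direct m a ha hex
      · push Not at hex
        have := hsmall_sum m hex
        omega
    | succ r ih =>
      intro m a ha hr
      by_cases hex : ∃ i, E i ≤ m i
      · exact direct m a ha hex
      · push Not at hex
        have hpos : 0 < N - mdeg m := by
          have := hsmall m hex
          linarith
        have haspan : a ∈ Ideal.span (Set.range f) := by
          rw [← hgen]
          exact Ideal.subset_span ⟨_, hpos, ha⟩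
        by_cases ha0 : a = 0
        · rw [ha0, zero_mul]; exact J.zero_mem
        have hne : Nonempty (Fin p) := by
          by_contra hp
          apply ha0
          have hr0 : Set.range f = ∅ := Set.range_eq_empty_iff.mpr (not_nonempty_iff.mp hp)
          rw [hr0, Ideal.span_empty] at haspan
          simpa using haspan
        have hexi : ∀ t : A, ∃ i : Fin p, t ∈ Set.range f → f i = t := by
          intro t
          by_cases ht : t ∈ Set.range f
          · obtain ⟨i, hi⟩ := ht
            exact ⟨i, fun _ => hi⟩
          · exact ⟨hne.some, fun h => absurd h ht⟩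
        choose idx hidx using hexi
        have hcl := mem_closure_of_mem_span 𝒜 (T := Set.range f) (fun t => deg (idx t))
          (fun t ht => by
            have := hf (idx t)
            rwa [hidx t ht] at this) ha haspan
        have hle : AddSubmonoid.closure {z : A | ∃ t ∈ Set.range f,
            ∃ b ∈ 𝒜 (N - mdeg m - deg (idx t)), z = b * t} ≤
            (J.comap (LinearMap.mulRight R (fm m))).toAddSubmonoid := by
          rw [AddSubmonoid.closure_le]
          rintro z ⟨t, ht, b, hb, rfl⟩
          show (b * t) * fm m ∈ J
          have ht' : f (idx t) = t := hidx t ht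
          have h1 : b * t * fm m = b * fm (m + Pi.single (idx t) 1) := by
            rw [hfm_add, hfm_single, pow_one, ht']; ring
          rw [h1]
          apply ih
          · have : mdeg (m + Pi.single (idx t) 1) = mdeg m + deg (idx t) := by
              rw [hmdeg_add, hmdeg_single, one_smul]
            rw [this]
            have hidx' : N - (mdeg m + deg (idx t)) = N - mdeg m - deg (idx t) := by ring
            rw [hidx']
            exact hb
          · have : ∑ i, (m + Pi.single (idx t) 1 : Fin p → ℕ) i = (∑ i, m i) + 1 := by
              simp only [Pi.add_apply, Finset.sum_add_distrib]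
              congr 1
              rw [Finset.sum_eq_single (idx t)]
              · simp
              · intro j _ hj
                simp [Pi.single_eq_of_ne hj]
              · intro h; exact absurd (Finset.mem_univ _) h
            rw [this]
            omega
        exact hle hcl
  intro y hy
  have h := main ((∑ i, (E i - 1)) + 1) 0 y (by
    have : mdeg 0 = 0 := by simp [mdeg]
    rw [this, sub_zero]; exact hy) (by simp)
  have hfm0 : fm 0 = 1 := by simp [fm]
  rwa [hfm0, mul_one] at h

end Groth.Agent.S13663
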