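import Groth.Statements.S13664
import Groth.Agent.S13663
import Mathlib

set_option autoImplicit false
universe u
open GrRing

namespace Groth.Agent.S13664


/-- Let A be a commutative ring graded by the integers whose ideal I generated by the homogeneous
elements of positive degree has homogeneous generators f_1, …, f_p, of positive degrees d_1, …, d_p,
let d be a positive integer divisible by each d_i, and let x be an element of an A-module M. The
following are equivalent: x is annihilated by some power of I; x is annihilated by (A_d)^n for all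
sufficiently large n; there is an integer s such that A_n x = 0 for all n ≥ s. (The published
statement is for a homogeneous element of a graded module; this row drops both the grading of M and
the homogeneity of x, which play no role.) -/
theorem result {R A : Type u} [CommRing R] [CommRing A] [Algebra R A]
    (𝒜 : ℤ → Submodule R A) [GradedAlgebra 𝒜]
    {p : ℕ} (f : Fin p → A) (deg : Fin p → ℤ) (hdeg : ∀ i, 0 < deg i) (hf : ∀ i, f i ∈ 𝒜 (deg i))
    (hgen : Ideal.span {a : A | ∃ n : ℤ, 0 < n ∧ a ∈ 𝒜 n} = Ideal.span (Set.range f))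
    (d : ℤ) (hd : 0 < d) (hdvd : ∀ i, deg i ∣ d)
    {M : Type u} [AddCommGroup M] [Module A M] (x : M) :
    [x ∈ GrLC.gam (Ideal.span (Set.range f)) M,
     ∃ n₀ : ℕ, ∀ n : ℕ, n₀ ≤ n → ∀ r ∈ (𝒜 d) ^ n, r • x = 0,
     ∃ s : ℤ, ∀ n : ℤ, s ≤ n → ∀ r ∈ 𝒜 n, r • x = 0].TFAE := by
  classical
  set I : Ideal A := Ideal.span (Set.range f) with hI
  tfae_have 1 → 2 := by
    rintro ⟨k, hk⟩
    have hdI : ∀ b ∈ 𝒜 d, b ∈ I := by
      intro b hb
      rw [← hgen]
      exact Ideal.subset_span ⟨d, hd, hb⟩
    have hpow : ∀ n : ℕ, ((𝒜 d) ^ n : Submodule R A) ≤ (I ^ n).restrictScalars R := by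
      intro n
      induction n with
      | zero =>
        rw [pow_zero, pow_zero, Ideal.one_eq_top, Submodule.restrictScalars_top]
        exact le_top
      | succ n ih =>
        rw [pow_succ, Submodule.mul_le]
        intro a ha b hb
        show a * b ∈ I ^ (n + 1)
        rw [pow_succ]
        exact Ideal.mul_mem_mul (ih ha) (hdI b hb)
    refine ⟨k, fun n hn r hr => ?_⟩
    exact hk r (Ideal.pow_le_pow_right hn (hpow n hr))
  tfae_have 2 → 3 := by
    rintro ⟨n₀, hn₀⟩
    set c : ℤ := d * p - ∑ i, deg i with hc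
    have hstep : ∀ k : ℕ, ∀ N : ℤ, c + k * d < N + d →
        𝒜 N ≤ (𝒜 d) ^ k * 𝒜 (N - k * d) := by
      intro k
      induction k with
      | zero =>
        intro N _
        simp
      | succ k ih =>
        intro N hN
        have hN' : c + k * d < N := by push_cast at hN; linarith
        have hcN : c < N := by
          have : 0 ≤ (k : ℤ) * d := mul_nonneg (Int.natCast_nonneg k) hd.le
          linarith
        have h1 : 𝒜 N = 𝒜 d * 𝒜 (N - d) :=
          Groth.Agent.S13663.result 𝒜 f deg hdeg hf hgen d hd hdvd N hcN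
        have h2 := ih (N - d) (by linarith)
        have h3 : N - d - k * d = N - ((k + 1 : ℕ) : ℤ) * d := by push_cast; ring
        rw [h3] at h2
        rw [h1, pow_succ', mul_assoc]
        exact mul_le_mul' le_rfl h2
    refine ⟨c + 1 + n₀ * d, fun n hn r hr => ?_⟩
    have h := hstep n₀ n (by linarith) hr
    refine Submodule.mul_induction_on h ?_ ?_
    · intro a ha b hb
      rw [mul_comm, mul_smul, hn₀ n₀ le_rfl a ha, smul_zero]
    · intro a b ha hb
      rw [add_smul, ha, hb, add_zero]
  tfae_have 3 → 1 := by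
    rintro ⟨s, hs⟩
    let Ann : Ideal A := Ideal.torsionOf A M x
    have hIpos : I = Ideal.span {a : A | ∃ n : ℤ, 0 < n ∧ a ∈ 𝒜 n} := hgen.symm
    have hpow : ∀ k : ℕ, I ^ k ≤ Ideal.span {a : A | ∃ n : ℤ, (k : ℤ) ≤ n ∧ a ∈ 𝒜 n} := by
      intro k
      induction k with
      | zero =>
        rw [pow_zero, Ideal.one_eq_top]
        intro a _
        have h1 : (1 : A) ∈ Ideal.span {a : A | ∃ n : ℤ, ((0 : ℕ) : ℤ) ≤ n ∧ a ∈ 𝒜 n} :=
          Ideal.subset_span ⟨0, le_rfl, SetLike.GradedOne.one_mem⟩
        rw [(Ideal.eq_top_iff_one _).mpr h1]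
        exact Submodule.mem_top
      | succ k ih =>
        rw [pow_succ]
        refine (Ideal.mul_mono ih le_rfl).trans ?_
        rw [hIpos, Ideal.span_mul_span', Ideal.span_le]
        rintro _ ⟨a, ⟨n, hn, ha⟩, b, ⟨n', hn', hb⟩, rfl⟩
        refine Ideal.subset_span ⟨n + n', ?_, SetLike.GradedMul.mul_mem ha hb⟩
        push_cast
        linarith
    refine ⟨s.toNat, fun r hr => ?_⟩
    have h1 := hpow s.toNat hr
    have h2 : Ideal.span {a : A | ∃ n : ℤ, (s.toNat : ℤ) ≤ n ∧ a ∈ 𝒜 n} ≤ Ann := by
      rw [Ideal.span_le]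
      rintro a ⟨n, hn, ha⟩
      show a ∈ Ideal.torsionOf A M x
      rw [Ideal.mem_torsionOf_iff]
      exact hs n (le_trans (Int.self_le_toNat s) hn) a ha
    exact (Ideal.mem_torsionOf_iff x r).mp (h2 h1)
  tfae_finish

end Groth.Agent.S13664
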