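import Groth.Statements.S13665
import Groth.Agent.H68.Graded
import Mathlib

set_option autoImplicit false
universe u
open GrRing

namespace Groth.Agent.S13665

open DirectSum Groth.Agent.H68

section
variable {R A : Type u} [CommRing R] [CommRing A] [Algebra R A]
    (𝒜 : ℤ → Submodule R A) [GradedAlgebra 𝒜]

/-- the degree zero part is noetherian if all homogeneous ideals are finitely generated -/
theorem isNoetherianRing_zero (H : ∀ I : Ideal A, I.IsHomogeneous 𝒜 → I.FG) :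
    IsNoetherianRing (𝒜 0) := by
  rw [isNoetherianRing_iff_ideal_fg]
  intro I₀
  let T : Set A := (fun x : 𝒜 0 => (x : A)) '' (I₀ : Set (𝒜 0))
  have hT0 : ∀ t ∈ T, t ∈ 𝒜 0 := by
    rintro _ ⟨x, _, rfl⟩
    exact x.2
  have hhom : (Ideal.span T).IsHomogeneous 𝒜 :=
    Ideal.homogeneous_span 𝒜 T (fun t ht => ⟨0, hT0 t ht⟩)
  obtain ⟨T', hT'T, hspan⟩ := (Submodule.fg_span_iff_fg_span_finset_subset T).mp (H _ hhom)
  let S₀ : Set (𝒜 0) := ((fun x : 𝒜 0 => (x : A)) ⁻¹' (T' : Set A)) ∩ (I₀ : Set (𝒜 0))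
  have hS₀fin : S₀.Finite :=
    (Set.Finite.preimage (Subtype.val_injective.injOn) T'.finite_toSet).subset Set.inter_subset_left
  refine ⟨hS₀fin.toFinset, ?_⟩
  rw [Set.Finite.coe_toFinset]
  refine le_antisymm ?_ ?_
  · rw [Ideal.span_le]
    exact Set.inter_subset_right
  · intro x hx
    have hxT : (x : A) ∈ Ideal.span T := Ideal.subset_span ⟨x, hx, rfl⟩
    have hxT' : (x : A) ∈ Ideal.span (T' : Set A) := by
      have h2 : Ideal.span T = Ideal.span (T' : Set A) := hspan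
      rw [← h2]; exact hxT
    have hcl := mem_closure_of_mem_span 𝒜 (T := (T' : Set A)) (fun _ => 0)
      (fun t ht => hT0 t (hT'T ht)) x.2 hxT'
    let ι₀ : (𝒜 0) →ₗ[𝒜 0] A := Algebra.linearMap (𝒜 0) A
    have hle : AddSubmonoid.closure {z : A | ∃ t ∈ (T' : Set A), ∃ a ∈ 𝒜 (0 - 0), z = a * t} ≤
        ((Submodule.span (𝒜 0) S₀).map ι₀).toAddSubmonoid := by
      rw [AddSubmonoid.closure_le]
      rintro z ⟨t, ht, a, ha, rfl⟩
      obtain ⟨x', hx', rfl⟩ := hT'T ht
      have ha0 : a ∈ 𝒜 0 := by simpa using ha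
      refine ⟨(⟨a, ha0⟩ : 𝒜 0) • x', ?_, rfl⟩
      exact Submodule.smul_mem _ _ (Submodule.subset_span ⟨ht, hx'⟩)
    obtain ⟨x'', hx'', hxx⟩ := hle hcl
    have : x'' = x := Subtype.ext hxx
    rw [← this]
    exact hx''

/-- each graded piece is a finite module over the degree zero part -/
theorem exists_finset_span_piece (H : ∀ I : Ideal A, I.IsHomogeneous 𝒜 → I.FG) (n : ℤ) :
    ∃ T : Finset A, (T : Set A) ⊆ 𝒜 n ∧ ∀ y ∈ 𝒜 n, y ∈ Submodule.span (𝒜 0) (T : Set A) := by
  have hhom : (Ideal.span (𝒜 n : Set A)).IsHomogeneous 𝒜 :=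
    Ideal.homogeneous_span 𝒜 _ (fun t ht => ⟨n, ht⟩)
  obtain ⟨T', hT'T, hspan⟩ := (Submodule.fg_span_iff_fg_span_finset_subset _).mp (H _ hhom)
  refine ⟨T', hT'T, fun y hy => ?_⟩
  have hyT' : y ∈ Ideal.span (T' : Set A) := by
    have h2 : Ideal.span (𝒜 n : Set A) = Ideal.span (T' : Set A) := hspan
    rw [← h2]; exact Ideal.subset_span hy
  have hcl := mem_closure_of_mem_span 𝒜 (T := (T' : Set A)) (fun _ => n)
    (fun t ht => hT'T ht) hy hyT'
  have hle : AddSubmonoid.closure {z : A | ∃ t ∈ (T' : Set A), ∃ a ∈ 𝒜 (n - n), z = a * t} ≤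
      (Submodule.span (𝒜 0) (T' : Set A)).toAddSubmonoid := by
    rw [AddSubmonoid.closure_le]
    rintro z ⟨t, ht, a, ha, rfl⟩
    have ha0 : a ∈ 𝒜 0 := by simpa using ha
    have : a * t = (⟨a, ha0⟩ : 𝒜 0) • t := rfl
    rw [this]
    exact Submodule.smul_mem _ _ (Submodule.subset_span ht)
  exact hle hcl

/-- the subalgebra generated by the pieces of degree `n` with `0 ≤ s * n` is finitely generated -/
theorem fg_adjoin_half (H : ∀ I : Ideal A, I.IsHomogeneous 𝒜 → I.FG) (s : ℤ)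
    (hs : s = 1 ∨ s = -1) :
    (Algebra.adjoin (𝒜 0) {a : A | ∃ n : ℤ, 0 ≤ s * n ∧ a ∈ 𝒜 n}).FG := by
  classical
  have hss : s * s = 1 := by rcases hs with rfl | rfl <;> norm_num
  let Sst : Set A := {a : A | ∃ n : ℤ, 0 < s * n ∧ a ∈ 𝒜 n}
  have hhom : (Ideal.span Sst).IsHomogeneous 𝒜 :=
    Ideal.homogeneous_span 𝒜 _ (fun t ht => by obtain ⟨n, _, hn⟩ := ht; exact ⟨n, hn⟩)
  obtain ⟨X, hXS, hspan⟩ := (Submodule.fg_span_iff_fg_span_finset_subset _).mp (H _ hhom)
  have hspan' : Ideal.span Sst = Ideal.span (X : Set A) := hspan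
  -- degree function
  have hex : ∀ x : A, ∃ n : ℤ, x ∈ (X : Set A) → (0 < s * n ∧ x ∈ 𝒜 n) := by
    intro x
    by_cases hx : x ∈ (X : Set A)
    · obtain ⟨n, hn⟩ := hXS hx
      exact ⟨n, fun _ => hn⟩
    · exact ⟨0, fun h => absurd h hx⟩
  choose dg hdg using hex
  let D : ℤ := ∑ x ∈ X, s * dg x
  have hDle : ∀ x ∈ X, s * dg x ≤ D := by
    intro x hx
    exact Finset.single_le_sum (f := fun x => s * dg x)
      (fun y hy => (hdg y (Finset.mem_coe.mpr hy)).1.le) hx
  have hD0 : 0 ≤ D := Finset.sum_nonneg (fun y hy => (hdg y (Finset.mem_coe.mpr hy)).1.le)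
  choose Tn hTn hTnspan using exists_finset_span_piece 𝒜 H
  let G : Set A := (X : Set A) ∪ ⋃ j ∈ Finset.range D.toNat, (Tn (s * (j : ℤ)) : Set A)
  have hGfin : G.Finite := by
    refine Set.Finite.union X.finite_toSet ?_
    exact Set.Finite.biUnion (Finset.finite_toSet _) (fun j _ => Finset.finite_toSet _)
  let Sub : Subalgebra (𝒜 0) A := Algebra.adjoin (𝒜 0) G
  have key : ∀ k : ℕ, ∀ n : ℤ, s * n = k → ∀ y ∈ 𝒜 n, y ∈ Sub := by
    intro k
    induction k using Nat.strong_induction_on with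
    | _ k ih =>
      intro n hn y hy
      have hn' : n = s * k := by
        have : s * (s * n) = s * k := by rw [hn]
        rw [← mul_assoc, hss, one_mul] at this
        exact this
      by_cases hk0 : k = 0
      · subst hk0
        have hn0 : n = 0 := by simpa using hn'
        subst hn0
        exact Subalgebra.algebraMap_mem Sub (⟨y, hy⟩ : 𝒜 0)
      by_cases hkD : (k : ℤ) < D
      · -- small degree: use the finite generating set of the piece
        have hmem : y ∈ Submodule.span (𝒜 0) (Tn n : Set A) := hTnspan n y hy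
        have hsub : (Tn n : Set A) ⊆ G := by
          intro t ht
          refine Or.inr ?_
          simp only [Set.mem_iUnion]
          refine ⟨k, ?_, ?_⟩
          · rw [Finset.mem_range]
            omega
          · rw [← hn']; exact ht
        have h1 : Submodule.span (𝒜 0) (Tn n : Set A) ≤ Subalgebra.toSubmodule Sub :=
          (Submodule.span_mono hsub).trans (Algebra.span_le_adjoin (𝒜 0) G)
        exact h1 hmem
      · -- large degree: use the generators of the ideal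
        have hkD' : D ≤ k := not_lt.mp hkD
        have hySst : y ∈ Sst := ⟨n, by rw [hn]; exact_mod_cast Nat.pos_of_ne_zero hk0, hy⟩
        have hyX : y ∈ Ideal.span (X : Set A) := by
          rw [← hspan']; exact Ideal.subset_span hySst
        have hcl := mem_closure_of_mem_span 𝒜 (T := (X : Set A)) dg
          (fun t ht => (hdg t ht).2) hy hyX
        have hle : AddSubmonoid.closure {z : A | ∃ t ∈ (X : Set A), ∃ a ∈ 𝒜 (n - dg t), z = a * t} ≤
            Sub.toSubsemiring.toAddSubmonoid := by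
          rw [AddSubmonoid.closure_le]
          rintro z ⟨t, ht, a, ha, rfl⟩
          have htSub : t ∈ Sub := Algebra.subset_adjoin (Or.inl ht)
          have hpos := (hdg t ht).1
          have hle := hDle t (Finset.mem_coe.mp ht)
          have hk' : s * (n - dg t) = ((k - (s * dg t).toNat : ℕ) : ℤ) := by
            rw [mul_sub, hn]
            omega
          have haSub : a ∈ Sub := ih (k - (s * dg t).toNat) (by omega) (n - dg t) hk' a ha
          exact Sub.mul_mem haSub htSub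
        exact hle hcl
  have hGS : G ⊆ {a : A | ∃ n : ℤ, 0 ≤ s * n ∧ a ∈ 𝒜 n} := by
    rintro a (ha | ha)
    · obtain ⟨h1, h2⟩ := hdg a ha
      exact ⟨dg a, h1.le, h2⟩
    · simp only [Set.mem_iUnion] at ha
      obtain ⟨j, _, hj⟩ := ha
      refine ⟨s * j, ?_, hTn _ hj⟩
      rw [← mul_assoc, hss, one_mul]
      exact Int.natCast_nonneg j
  have heq : Algebra.adjoin (𝒜 0) {a : A | ∃ n : ℤ, 0 ≤ s * n ∧ a ∈ 𝒜 n} = Sub := by
    apply le_antisymm
    · rw [Algebra.adjoin_le_iff]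
      rintro a ⟨n, hn, ha⟩
      exact key (s * n).toNat n (by omega) a ha
    · exact Algebra.adjoin_mono hGS
  rw [heq]
  exact ⟨hGfin.toFinset, by simp [Sub]⟩

end


/-- For a commutative ring A graded by the integers, with degree-zero subring A_0, the following are
equivalent: A is Noetherian; each homogeneous ideal of A has a finite generating set; A_0 is
Noetherian and the subalgebras A_{≥0}, A_{≤0} are each of finite type over A_0; A_0 is Noetherian
and A is an A_0-algebra of finite type. -/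
theorem result {R A : Type u} [CommRing R] [CommRing A] [Algebra R A]
    (𝒜 : ℤ → Submodule R A) [GradedAlgebra 𝒜] :
    [IsNoetherianRing A,
     ∀ I : Ideal A, I.IsHomogeneous 𝒜 → I.FG,
     IsNoetherianRing (𝒜 0) ∧ (Algebra.adjoin (𝒜 0) {a : A | ∃ n : ℤ, 0 ≤ n ∧ a ∈ 𝒜 n}).FG ∧
       (Algebra.adjoin (𝒜 0) {a : A | ∃ n : ℤ, n ≤ 0 ∧ a ∈ 𝒜 n}).FG,
     IsNoetherianRing (𝒜 0) ∧ Algebra.FiniteType (𝒜 0) A].TFAE := by
  classical
  tfae_have 1 → 2 := fun h I _ => (isNoetherianRing_iff_ideal_fg A).mp h I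
  tfae_have 2 → 3 := by
    intro H
    refine ⟨isNoetherianRing_zero 𝒜 H, ?_, ?_⟩
    · have h1 := fg_adjoin_half 𝒜 H 1 (Or.inl rfl)
      have hset : {a : A | ∃ n : ℤ, 0 ≤ 1 * n ∧ a ∈ 𝒜 n} = {a : A | ∃ n : ℤ, 0 ≤ n ∧ a ∈ 𝒜 n} := by
        ext a; simp
      rwa [hset] at h1
    · have h1 := fg_adjoin_half 𝒜 H (-1) (Or.inr rfl)
      have hset : {a : A | ∃ n : ℤ, 0 ≤ -1 * n ∧ a ∈ 𝒜 n} = {a : A | ∃ n : ℤ, n ≤ 0 ∧ a ∈ 𝒜 n} := by
        ext a; simp
      rwa [hset] at h1
  tfae_have 3 → 4 := by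
    rintro ⟨h0, hp, hn⟩
    refine ⟨h0, ⟨?_⟩⟩
    have hsup := hp.sup hn
    have htop : Algebra.adjoin (𝒜 0) {a : A | ∃ n : ℤ, 0 ≤ n ∧ a ∈ 𝒜 n} ⊔
        Algebra.adjoin (𝒜 0) {a : A | ∃ n : ℤ, n ≤ 0 ∧ a ∈ 𝒜 n} = ⊤ := by
      rw [eq_top_iff]
      intro a _
      rw [← DirectSum.sum_support_decompose 𝒜 a]
      refine Subalgebra.sum_mem _ (fun n _ => ?_)
      rcases le_total 0 n with hn0 | hn0
      · exact Algebra.mem_sup_left (Algebra.subset_adjoin ⟨n, hn0, SetLike.coe_mem _⟩)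
      · exact Algebra.mem_sup_right (Algebra.subset_adjoin ⟨n, hn0, SetLike.coe_mem _⟩)
    rwa [htop] at hsup
  tfae_have 4 → 1 := by
    rintro ⟨h0, hft⟩
    exact Algebra.FiniteType.isNoetherianRing (𝒜 0) A
  tfae_finish

end Groth.Agent.S13665
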