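import Groth.Statements.S13682
import Mathlib.Order.Interval.Finset.Fin
import Mathlib.Tactic.Abel

set_option autoImplicit false
universe u v w
open scoped BigOperators
open BTGrp

namespace Groth.Agent.S13682

variable {A : Type u} [CommRing A] {r : ℕ} {M : Fin r → Type v} {N : Type w}
  [∀ i, AddCommGroup (M i)] [∀ i, Module A (M i)] [AddCommGroup N] [Module A N]

/-- the vector with one marked position -/
def V1 (w y : ∀ i, ℕ → M i) (i : Fin r) (j a b : ℕ) : ∀ l, M l :=
  fun k => if k < i then w k a else if k = i then y k j else w k b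

/-- the vector with two marked positions `i < k` -/
def R2 (w : ∀ i, ℕ → M i) (n : ℕ) (i k : Fin r) (u v : ∀ l, M l) : ∀ l, M l :=
  fun l => if l < i then w l (n + 1) else if l = i then u l else if l < k then w l n
    else if l = k then v l else w l 0

lemma key_suffix (φ : MultilinearMap A M N) (w y : ∀ i, ℕ → M i) (n : ℕ) (i : Fin r) :
    φ (V1 w y i n (n + 1) n) - φ (V1 w y i n (n + 1) 0) =
      ∑ k ∈ Finset.Ioi i, φ (R2 w n i k (fun l => y l n) (fun l => w l n - w l 0)) := by
  have h := φ.map_piecewise_sub_map_piecewise (fun l => w l n) (fun l => w l 0)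
    (fun l => if l < i then w l (n + 1) else y l n) (Finset.Ioi i)
  have e1 : (Finset.Ioi i).piecewise (fun l => w l n)
      (fun l => if l < i then w l (n + 1) else y l n) = V1 w y i n (n + 1) n := by
    funext l
    simp only [Finset.piecewise, Finset.mem_Ioi, V1]
    rcases lt_trichotomy l i with h | h | h
    · simp [h, not_lt.mpr h.le]
    · subst h; simp
    · simp [h, not_lt.mpr h.le, h.ne']
  have e2 : (Finset.Ioi i).piecewise (fun l => w l 0)
      (fun l => if l < i then w l (n + 1) else y l n) = V1 w y i n (n + 1) 0 := by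
    funext l
    simp only [Finset.piecewise, Finset.mem_Ioi, V1]
    rcases lt_trichotomy l i with h | h | h
    · simp [h, not_lt.mpr h.le]
    · subst h; simp
    · simp [h, not_lt.mpr h.le, h.ne']
  rw [e1, e2] at h
  rw [h]
  refine Finset.sum_congr rfl (fun k hk => congrArg φ ?_)
  rw [Finset.mem_Ioi] at hk
  funext l
  simp only [Finset.mem_Ioi, R2]
  rcases lt_trichotomy l i with h | h | h
  · simp [h, not_lt.mpr h.le]
  · subst h; simp
  · simp [h, not_lt.mpr h.le, h.ne']

lemma key_prefix (φ : MultilinearMap A M N) (w y : ∀ i, ℕ → M i) (n : ℕ) (i : Fin r) (j : ℕ) :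
    φ (V1 w y i j (n + 1) 0) - φ (V1 w y i j n 0) =
      ∑ k ∈ Finset.Iio i, φ (R2 w n k i (fun l => w l (n + 1) - w l n) (fun l => y l j)) := by
  have h := φ.map_piecewise_sub_map_piecewise (fun l => w l (n + 1)) (fun l => w l n)
    (fun l => if l = i then y l j else w l 0) (Finset.Iio i)
  have e1 : (Finset.Iio i).piecewise (fun l => w l (n + 1))
      (fun l => if l = i then y l j else w l 0) = V1 w y i j (n + 1) 0 := by
    funext l
    simp only [Finset.piecewise, Finset.mem_Iio, V1]
  have e2 : (Finset.Iio i).piecewise (fun l => w l n)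
      (fun l => if l = i then y l j else w l 0) = V1 w y i j n 0 := by
    funext l
    simp only [Finset.piecewise, Finset.mem_Iio, V1]
  rw [e1, e2] at h
  rw [h]
  refine Finset.sum_congr rfl (fun k hk => congrArg φ ?_)
  rw [Finset.mem_Iio] at hk
  funext l
  simp only [Finset.mem_Iio, R2]
  rcases lt_trichotomy l i with h | h | h
  · simp [h]
  · subst h; simp [not_lt.mpr hk.le, hk.ne']
  · have h1 : ¬ l < k := not_lt.mpr (hk.trans h).le
    have h2 : l ≠ k := (hk.trans h).ne'
    simp [h1, h2, not_lt.mpr h.le, h.ne']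

lemma R2_update_snd (w : ∀ i, ℕ → M i) (n : ℕ) (i k : Fin r) (hik : i < k) (u v v' : ∀ l, M l) :
    R2 w n i k u v' = Function.update (R2 w n i k u v) k (v' k) := by
  funext l
  by_cases hl : l = k
  · subst hl
    rw [Function.update_self]
    simp [R2, not_lt.mpr hik.le, hik.ne']
  · rw [Function.update_of_ne hl]
    simp [R2, hl]

lemma R2_update_fst (w : ∀ i, ℕ → M i) (n : ℕ) (i k : Fin r) (u u' v : ∀ l, M l) :
    R2 w n i k u' v = Function.update (R2 w n i k u v) i (u' i) := by
  funext l
  by_cases hl : l = i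
  · subst hl
    rw [Function.update_self]
    simp [R2]
  · rw [Function.update_of_ne hl]
    simp [R2, hl]

lemma map_R2_smul_snd (φ : MultilinearMap A M N) (α : A) (w : ∀ i, ℕ → M i) (n : ℕ)
    (i k : Fin r) (hik : i < k) (u v : ∀ l, M l) :
    φ (R2 w n i k u (fun l => α • v l)) = α • φ (R2 w n i k u v) := by
  rw [R2_update_snd w n i k hik u v (fun l => α • v l), φ.map_update_smul,
    ← R2_update_snd w n i k hik u v v]

lemma map_R2_smul_fst (φ : MultilinearMap A M N) (α : A) (w : ∀ i, ℕ → M i) (n : ℕ)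
    (i k : Fin r) (u v : ∀ l, M l) :
    φ (R2 w n i k (fun l => α • u l) v) = α • φ (R2 w n i k u v) := by
  rw [R2_update_fst w n i k u (fun l => α • u l) v, φ.map_update_smul,
    ← R2_update_fst w n i k u u v]

lemma map_R2_sum_snd (φ : MultilinearMap A M N) (w : ∀ i, ℕ → M i) (n : ℕ)
    (i k : Fin r) (hik : i < k) (u : ∀ l, M l) (s : Finset ℕ) (g : ℕ → ∀ l, M l) :
    φ (R2 w n i k u (fun l => ∑ j ∈ s, g j l)) = ∑ j ∈ s, φ (R2 w n i k u (g j)) := by
  rw [R2_update_snd w n i k hik u (g 0) (fun l => ∑ j ∈ s, g j l), φ.map_update_sum]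
  refine Finset.sum_congr rfl (fun j _ => ?_)
  rw [← R2_update_snd w n i k hik u (g 0) (g j)]

lemma wdiff (α : A) (y w : ∀ i, ℕ → M i) (n : ℕ)
    (hw : ∀ i, ∀ j < n, w i (j + 1) = w i j + α • y i j) (k : Fin r) :
    ∀ m ≤ n, w k m - w k 0 = α • ∑ l ∈ Finset.range m, y k l := by
  intro m
  induction m with
  | zero => intro _; simp
  | succ m ih =>
    intro hm
    rw [Finset.sum_range_succ, smul_add, ← ih (Nat.le_of_succ_le hm), hw k m hm]
    abel

theorem main (α : A) (φ : MultilinearMap A M N) (y w : ∀ i, ℕ → M i) :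
    ∀ n : ℕ, (∀ i, ∀ j < n, w i (j + 1) = w i j + α • y i j) →
      (∑ i : Fin r, ∑ j ∈ Finset.range n, φ (V1 w y i j (j + 1) j)) =
        ∑ i : Fin r, ∑ j ∈ Finset.range n, φ (V1 w y i j n 0) := by
  intro n
  induction n with
  | zero => intro _; simp
  | succ n ih =>
    intro hw
    have ih' := ih (fun i j hj => hw i j (Nat.lt_succ_of_lt hj))
    -- the key identity
    have K : (∑ i : Fin r, (φ (V1 w y i n (n + 1) n) - φ (V1 w y i n (n + 1) 0))) =
        ∑ i : Fin r, ∑ j ∈ Finset.range n, (φ (V1 w y i j (n + 1) 0) - φ (V1 w y i j n 0)) := by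
      have hL : ∀ i : Fin r, φ (V1 w y i n (n + 1) n) - φ (V1 w y i n (n + 1) 0) =
          ∑ k ∈ Finset.Ioi i, α • φ (R2 w n i k (fun l => y l n)
            (fun l => ∑ j ∈ Finset.range n, y l j)) := by
        intro i
        rw [key_suffix]
        refine Finset.sum_congr rfl (fun k hk => ?_)
        rw [Finset.mem_Ioi] at hk
        rw [← map_R2_smul_snd φ α w n i k hk]
        congr 2
        funext l
        exact wdiff α y w n (fun i j hj => hw i j (Nat.lt_succ_of_lt hj)) l n le_rfl
      have hR : ∀ i : Fin r,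
          ∑ j ∈ Finset.range n, (φ (V1 w y i j (n + 1) 0) - φ (V1 w y i j n 0)) =
          ∑ k ∈ Finset.Iio i, α • φ (R2 w n k i (fun l => y l n)
            (fun l => ∑ j ∈ Finset.range n, y l j)) := by
        intro i
        simp_rw [key_prefix]
        rw [Finset.sum_comm]
        refine Finset.sum_congr rfl (fun k hk => ?_)
        rw [Finset.mem_Iio] at hk
        rw [map_R2_sum_snd φ w n k i hk _ _ (fun j l => y l j), Finset.smul_sum]
        refine Finset.sum_congr rfl (fun j _ => ?_)
        rw [← map_R2_smul_fst φ α w n k i]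
        congr 2
        funext l
        rw [hw l n (Nat.lt_succ_self n)]
        abel
      simp_rw [hL, hR]
      apply Finset.sum_comm'
      intro i k
      simp
    simp_rw [Finset.sum_range_succ, Finset.sum_add_distrib]
    rw [ih']
    simp_rw [Finset.sum_sub_distrib] at K
    have K' := eq_add_of_sub_eq K
    rw [K']
    abel

/-- Let A be a commutative ring, α ∈ A a non-zero-divisor, M_1, …, M_r and N modules over A and φ : M_1
× ⋯ × M_r → N an A-multilinear map. Let n be a natural number and let y_{i,j} (j < n) and w_{i,j} (j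
≤ n) be elements of M_i with w_{i,j+1} = w_{i,j} + α y_{i,j} for all i and all j < n. Then Σ_i
Σ_{j<n} φ(w_{1,j+1}, …, w_{i-1,j+1}, y_{i,j}, w_{i+1,j}, …, w_{r,j}) = Σ_i Σ_{j<n} φ(w_{1,n}, …,
w_{i-1,n}, y_{i,j}, w_{i+1,0}, …, w_{r,0}). (The published statement takes n ≥ 1; for n = 0 both
sides are empty sums. The families y, w are indexed by all natural numbers here and only the indices
named above enter.) -/
theorem result {A : Type u} [CommRing A] (α : A) (hα : α ∈ nonZeroDivisors A)
    {r : ℕ} (M : Fin r → Type v) (N : Type w) [∀ i, AddCommGroup (M i)] [∀ i, Module A (M i)]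
    [AddCommGroup N] [Module A N] (φ : MultilinearMap A M N) (n : ℕ)
    (y w : ∀ i, ℕ → M i) (hw : ∀ i, ∀ j < n, w i (j + 1) = w i j + α • y i j) :
    (∑ i : Fin r, ∑ j ∈ Finset.range n,
        φ (fun k => if k < i then w k (j + 1) else if k = i then y k j else w k j)) =
      ∑ i : Fin r, ∑ j ∈ Finset.range n,
        φ (fun k => if k < i then w k n else if k = i then y k j else w k 0) := by
  exact main α φ y w n hw

end Groth.Agent.S13682
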