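import Groth.Statements.S13683
import Mathlib.Algebra.BigOperators.Fin
import Mathlib.Tactic.Ring
import Mathlib.Tactic.Linarith

set_option autoImplicit false
universe u v
open BTGrp

namespace Groth.Agent.S13683

universe w

theorem iterate_nsmul {G : Type w} [AddCommGroup G] (f : G →+ G) (k c : ℕ) (x : G) :
    (⇑f)^[k] (c • x) = c • (⇑f)^[k] x := by
  induction k generalizing x with
  | zero => rfl
  | succ k ih => rw [Function.iterate_succ_apply, Function.iterate_succ_apply, map_nsmul, ih]

theorem iterate_VF {G : Type w} [AddCommGroup G] (p : ℕ) (F' V' : G →+ G)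
    (h : ∀ x, V' (F' x) = p • x) (k : ℕ) (x : G) :
    (⇑V')^[k] ((⇑F')^[k] x) = p ^ k • x := by
  induction k generalizing x with
  | zero => simp
  | succ k ih =>
    rw [Function.iterate_succ_apply, Function.iterate_succ_apply', h, iterate_nsmul, ih, smul_smul,
      pow_succ']

/-- Let p be a natural number and r ≥ 1; let M_1, …, M_r and N be abelian groups carrying additive
endomorphisms F_i, V_i (on M_i) and F_0, V_0 (on N) with V_i ∘ F_i and V_0 ∘ F_0 equal to
multiplication by p and V_0 injective; let φ : M_1 × ⋯ × M_r → N be additive in each variable with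
φ(V_1 x_1, …, V_r x_r) = V_0 φ(x_1, …, x_r). If y_i, z_i ∈ M_i satisfy F_i^N z_i = V_i^M y_i for all
i, then for every d ∈ N^r one has F_0^N (p^{(r-1)N} φ(V_1^{d_1} z_1, …, V_r^{d_r} z_r)) = V_0^M
φ(V_1^{d_1} y_1, …, V_r^{d_r} y_r). (The published statement is the case of Dieudonné modules over a
perfect field of characteristic p, with F and V the Frobenius and Verschiebung and φ a multilinear
morphism of the associated displays; only the structure listed here enters its proof. For r = 0 the
assertion fails, so r ≥ 1 is required.) -/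
theorem result (p : ℕ) {r : ℕ} (hr : 0 < r)
    (M : Fin r → Type u) (N : Type v) [∀ i, AddCommGroup (M i)] [AddCommGroup N]
    (F V : ∀ i, M i →+ M i) (F₀ V₀ : N →+ N)
    (hVF : ∀ i (x : M i), V i (F i x) = p • x) (hVF₀ : ∀ x : N, V₀ (F₀ x) = p • x)
    (hV₀ : Function.Injective V₀)
    (φ : MultilinearMap ℤ M N) (hφ : ∀ x : ∀ i, M i, φ (fun i => V i (x i)) = V₀ (φ x))
    (Nn Mm : ℕ) (d : Fin r → ℕ) (y z : ∀ i, M i)
    (hyz : ∀ i, (⇑(F i))^[Nn] (z i) = (⇑(V i))^[Mm] (y i)) :
    (⇑F₀)^[Nn] (p ^ ((r - 1) * Nn) • φ (fun i => (⇑(V i))^[d i] (z i))) =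
      (⇑V₀)^[Mm] (φ (fun i => (⇑(V i))^[d i] (y i))) := by
  -- `φ` intertwines iterates of `V`
  have hφk : ∀ (k : ℕ) (x : ∀ i, M i), φ (fun i => (⇑(V i))^[k] (x i)) = (⇑V₀)^[k] (φ x) := by
    intro k
    induction k with
    | zero => intro x; rfl
    | succ k ih =>
      intro x
      have : (fun i => (⇑(V i))^[k + 1] (x i)) = fun i => V i ((⇑(V i))^[k] (x i)) := by
        funext i
        rw [Function.iterate_succ_apply']
      rw [this, hφ, ih, Function.iterate_succ_apply']
  have hinjN : Function.Injective (⇑V₀)^[Nn] := hV₀.iterate Nn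
  apply hinjN
  rw [iterate_VF p F₀ V₀ hVF₀, smul_smul]
  have hpow : p ^ Nn * p ^ ((r - 1) * Nn) = p ^ (r * Nn) := by
    rw [← pow_add]
    congr 1
    obtain ⟨r', rfl⟩ : ∃ r', r = r' + 1 := ⟨r - 1, by omega⟩
    simp only [Nat.add_sub_cancel]
    ring
  rw [hpow]
  -- move the scalars inside
  have h1 : (p ^ (r * Nn)) • φ (fun i => (⇑(V i))^[d i] (z i)) =
      φ (fun i => ((p ^ Nn : ℕ) : ℤ) • (⇑(V i))^[d i] (z i)) := by
    rw [MultilinearMap.map_smul_univ, Finset.prod_const, Finset.card_univ, Fintype.card_fin,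
      ← natCast_zsmul, mul_comm r Nn, pow_mul]
    push_cast
    rfl
  rw [h1]
  have h2 : (fun i => ((p ^ Nn : ℕ) : ℤ) • (⇑(V i))^[d i] (z i)) =
      fun i => (⇑(V i))^[Nn + Mm] ((⇑(V i))^[d i] (y i)) := by
    funext i
    rw [natCast_zsmul, ← iterate_nsmul, ← iterate_VF p (F i) (V i) (hVF i), hyz i,
      ← Function.iterate_add_apply,
      ← Function.iterate_add_apply, ← Function.iterate_add_apply]
    congr 1
    omega
  rw [h2, hφk, Function.iterate_add_apply]

end Groth.Agent.S13683
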