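import Groth.Statements.S13692
import Mathlib
import Groth.Agent.H66.UnitsH90

set_option autoImplicit false
universe u v w
open scoped TensorProduct
attribute [local instance] CSAGal.tensorAction GpH1.unitsAction
open GalCoh

namespace Groth.Agent.S13692

/-- Let K be a finite Galois extension of a field k with Galois group G = Aut_k(K), and A a
finite-dimensional associative unital k-algebra, not assumed simple or central. Then H¹(G, (K ⊗_k
A)ˣ) is trivial, G acting on K ⊗_k A through the first factor. (The published statement allows any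
Galois extension and reduces to the finite case by a direct limit; the finite case is stated.) -/
theorem result (k : Type u) [Field k] (K : Type v)
    [Field K] [Algebra k K] [FiniteDimensional k K] [IsGalois k K]
    (A : Type w) [Ring A] [Algebra k A] [FiniteDimensional k A] :
    GpH1.H1.IsTrivial (K ≃ₐ[k] K) (K ⊗[k] A)ˣ := by
  classical
  intro x
  obtain ⟨a, rfl⟩ := GpH1.OneCocycle.cl_surjective x
  rw [GpH1.H1.pt, GpH1.OneCocycle.cl_eq_cl_iff]
  have hsmul : ∀ (σ : K ≃ₐ[k] K) (t : K ⊗[k] A), σ • t = Groth.Agent.H66.UnitsH90.tw σ t :=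
    fun σ t => CSAGal.smul_eq_map k K A σ t
  have hcoe : ∀ (σ : K ≃ₐ[k] K) (u : (K ⊗[k] A)ˣ),
      ((σ • u : (K ⊗[k] A)ˣ) : K ⊗[k] A) = σ • (u : K ⊗[k] A) := fun σ u => rfl
  have ha1 : a 1 = 1 := by
    have h := a.2 1 1
    rw [mul_one, one_smul] at h
    exact mul_eq_left.mp h.symm
  obtain ⟨b, hbu, hb⟩ := Groth.Agent.H66.UnitsH90.exists_unit_twisted_invariant
    (fun σ => ((a σ : (K ⊗[k] A)ˣ) : K ⊗[k] A)) (by simp [ha1]) (fun σ τ => by
      have h := congrArg (fun u : (K ⊗[k] A)ˣ => (u : K ⊗[k] A)) (a.2 σ τ)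
      simp only [Units.val_mul] at h
      rw [h, hcoe, hsmul])
  refine ⟨hbu.unit⁻¹, fun σ => ?_⟩
  have h1 : a σ * σ • hbu.unit = hbu.unit := by
    apply Units.ext
    rw [Units.val_mul, hcoe, hsmul]
    exact hb σ
  show a σ = (hbu.unit⁻¹)⁻¹ * 1 * σ • hbu.unit⁻¹
  rw [inv_inv, mul_one, smul_inv']
  exact eq_mul_inv_of_mul_eq h1

end Groth.Agent.S13692
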