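import Groth.Statements.S13698
import Mathlib
import Groth.Agent.H76.PolLawBC
-- import your own Groth.Agent.* helpers here

set_option autoImplicit false
universe u
open scoped TensorProduct
open ZeroCyc

namespace Groth.Agent.S13698


open Groth.Agent.H76.PolLawBC

theorem smul_mem_ker_of_smul_eq {A : Type u} [CommRing A] {B : Type u} [CommRing B] [Algebra A B]
    {n : ℕ} (e : Fin n → B) (he : Submodule.span A (Set.range e) = ⊤) (f : B →ₚₗ[A] A) (b : B)
    (m : A) (h : m • P1 e f A ((1 : A) ⊗ₜ[A] b) = m • P0 e f A) : m • b ∈ PolLaw.ker f := by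
  have hstar : ∀ (S : Type u) [CommSemiring S] [Algebra A S] (x w : S ⊗[A] B),
      m • val f S (x + w * ((1 : S) ⊗ₜ[A] b)) = m • val f S x := by
    intro S _ _ x w
    obtain ⟨s, rfl⟩ := exists_rep e he S x
    obtain ⟨s', rfl⟩ := exists_rep e he S w
    have h1 := val_eq_eval e f A S s s' ((1 : A) ⊗ₜ[A] b)
    have h0 := val_eq_eval0 e f A S s s'
    rw [Algebra.TensorProduct.map_tmul, map_one, AlgHom.id_apply] at h1
    rw [h1, h0]
    rw [← map_smul (evalHom (A := A) A S (Sum.elim s s')) m,
      ← map_smul (evalHom (A := A) A S (Sum.elim s s')) m, h]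
  intro S _ _ x w
  rw [toFun'_eq_iff]
  obtain ⟨G, hG⟩ : ∃ G : Polynomial S, G = val f (Polynomial S)
      (Algebra.TensorProduct.map (Polynomial.CAlgHom : S →ₐ[A] Polynomial S) (AlgHom.id A B) x +
        ((Polynomial.X : Polynomial S) ⊗ₜ[A] (1 : B)) *
          Algebra.TensorProduct.map (Polynomial.CAlgHom : S →ₐ[A] Polynomial S) (AlgHom.id A B)
            (w * ((1 : S) ⊗ₜ[A] b))) := ⟨_, rfl⟩
  have hev : ∀ r : S, Polynomial.eval r G =
      val f S (x + (r ⊗ₜ[A] (1 : B)) * (w * ((1 : S) ⊗ₜ[A] b))) := by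
    intro r
    rw [hG]
    exact eval_val_line f S x _ r
  have key : m • G = m • Polynomial.C (val f S x) := by
    have := hstar (Polynomial S)
      (Algebra.TensorProduct.map (Polynomial.CAlgHom : S →ₐ[A] Polynomial S) (AlgHom.id A B) x)
      (((Polynomial.X : Polynomial S) ⊗ₜ[A] (1 : B)) *
        Algebra.TensorProduct.map (Polynomial.CAlgHom : S →ₐ[A] Polynomial S) (AlgHom.id A B) w)
    rw [val_map, Polynomial.CAlgHom_apply] at this
    rw [hG, map_mul, Algebra.TensorProduct.map_tmul, map_one, AlgHom.id_apply, ← mul_assoc]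
    exact this
  have hk : ∀ k : ℕ, k ≠ 0 → m • G.coeff k = 0 := by
    intro k hk0
    have := congrArg (fun p => Polynomial.coeff p k) key
    simp only [Polynomial.coeff_smul, Polynomial.coeff_C, if_neg hk0, smul_zero] at this
    exact this
  have h00 : G.coeff 0 = val f S x := by
    rw [Polynomial.coeff_zero_eq_eval_zero, hev 0, TensorProduct.zero_tmul, zero_mul, add_zero]
  have hfin : Polynomial.eval (algebraMap A S m) G = val f S x := by
    rw [Polynomial.eval_eq_sum_range, Finset.sum_range_succ', pow_zero, mul_one, h00]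
    rw [Finset.sum_eq_zero, zero_add]
    intro k _
    rw [pow_succ', ← mul_assoc, mul_comm (G.coeff (k + 1)), ← Algebra.smul_def,
      hk _ (Nat.succ_ne_zero k), zero_mul]
  have e5 : ((algebraMap A S m) ⊗ₜ[A] (1 : B)) * (w * ((1 : S) ⊗ₜ[A] b)) =
      w * ((1 : S) ⊗ₜ[A] (m • b)) := by
    rw [mul_left_comm, Algebra.TensorProduct.tmul_mul_tmul, mul_one, one_mul,
      Algebra.algebraMap_eq_smul_one, TensorProduct.smul_tmul]
  rw [← hfin, hev, e5]

theorem exists_smul_mem_ker {A : Type u} [CommRing A] {B : Type u} [CommRing B] [Algebra A B]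
    {n : ℕ} (e : Fin n → B) (he : Submodule.span A (Set.range e) = ⊤) (f : B →ₚₗ[A] A)
    (M : Submonoid A) (A' : Type u) [CommRing A'] [Algebra A A'] [IsLocalization M A'] (b : B)
    (h1b : (1 : A') ⊗ₜ[A] b ∈ PolLaw.kerBC f A') : ∃ m : M, (m : A) • b ∈ PolLaw.ker f := by
  classical
  have hc : Algebra.TensorProduct.map (Algebra.ofId A A') (AlgHom.id A B) ((1 : A) ⊗ₜ[A] b) =
      (1 : A') ⊗ₜ[A] b := by
    rw [Algebra.TensorProduct.map_tmul, map_one, AlgHom.id_apply]
  have h2 : MvPolynomial.mapAlgHom (Algebra.ofId A A') (P1 e f A ((1 : A) ⊗ₜ[A] b)) =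
      MvPolynomial.mapAlgHom (Algebra.ofId A A') (P0 e f A) := by
    rw [mapHom_P1, mapHom_P0, hc]
    exact (mem_kerBC_iff e he f A' _).mp h1b
  have h3 : ∀ α, ∃ mα : M, (mα : A) * (P1 e f A ((1 : A) ⊗ₜ[A] b)).coeff α =
      (mα : A) * (P0 e f A).coeff α := by
    intro α
    have := congrArg (MvPolynomial.coeff α) h2
    rw [MvPolynomial.mapAlgHom_apply, MvPolynomial.mapAlgHom_apply, MvPolynomial.coeff_map,
      MvPolynomial.coeff_map] at this
    exact (IsLocalization.eq_iff_exists M A').mp this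
  choose mα hmα using h3
  let s : Finset (Fin n ⊕ Fin n →₀ ℕ) :=
    (P1 e f A ((1 : A) ⊗ₜ[A] b)).support ∪ (P0 e f A).support
  refine ⟨∏ α ∈ s, mα α, smul_mem_ker_of_smul_eq e he f b _ ?_⟩
  ext α
  rw [MvPolynomial.coeff_smul, MvPolynomial.coeff_smul, smul_eq_mul, smul_eq_mul]
  by_cases hα : α ∈ s
  · rw [← Finset.mul_prod_erase s mα hα, Submonoid.coe_mul, mul_right_comm, hmα α, mul_right_comm]
  · have h6 : (P1 e f A ((1 : A) ⊗ₜ[A] b)).coeff α = 0 := by
      by_contra hne
      exact hα (Finset.mem_union_left _ (MvPolynomial.mem_support_iff.mpr hne))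
    have h7 : (P0 e f A).coeff α = 0 := by
      by_contra hne
      exact hα (Finset.mem_union_right _ (MvPolynomial.mem_support_iff.mpr hne))
    rw [h6, h7]

theorem alg_tmul_mul {A : Type u} [CommRing A] {B : Type u} [CommRing B] [Algebra A B]
    {A' : Type u} [CommRing A'] [Algebra A A'] (a : A) (b : B) :
    ((algebraMap A A' a) ⊗ₜ[A] (1 : B)) * ((1 : A') ⊗ₜ[A] b) = (1 : A') ⊗ₜ[A] (a • b) := by
  rw [Algebra.TensorProduct.tmul_mul_tmul, mul_one, one_mul, Algebra.algebraMap_eq_smul_one,
    TensorProduct.smul_tmul]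

theorem clear_denoms {A : Type u} [CommRing A] {B : Type u} [CommRing B] [Algebra A B]
    (M : Submonoid A) {A' : Type u} [CommRing A'] [Algebra A A'] [IsLocalization M A']
    (z : A' ⊗[A] B) :
    ∃ (m : M) (b : B), ((algebraMap A A' m) ⊗ₜ[A] (1 : B)) * z = (1 : A') ⊗ₜ[A] b := by
  induction z using TensorProduct.induction_on with
  | zero => exact ⟨1, 0, by simp⟩
  | tmul a' b0 =>
    obtain ⟨⟨a, m⟩, h⟩ := IsLocalization.surj M a'
    refine ⟨m, a • b0, ?_⟩
    rw [Algebra.TensorProduct.tmul_mul_tmul, one_mul, mul_comm, h, Algebra.algebraMap_eq_smul_one,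
      TensorProduct.smul_tmul]
  | add z z' h h' =>
    obtain ⟨m, b, hb⟩ := h
    obtain ⟨m', b', hb'⟩ := h'
    refine ⟨m * m', (m' : A) • b + (m : A) • b', ?_⟩
    have e1 : ((algebraMap A A' ((m * m' : M) : A)) ⊗ₜ[A] (1 : B)) =
        ((algebraMap A A' m') ⊗ₜ[A] (1 : B)) * ((algebraMap A A' m) ⊗ₜ[A] (1 : B)) := by
      rw [Algebra.TensorProduct.tmul_mul_tmul, mul_one, ← map_mul, Submonoid.coe_mul, mul_comm]
    have e2 : ((algebraMap A A' ((m * m' : M) : A)) ⊗ₜ[A] (1 : B)) =
        ((algebraMap A A' m) ⊗ₜ[A] (1 : B)) * ((algebraMap A A' m') ⊗ₜ[A] (1 : B)) := by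
      rw [Algebra.TensorProduct.tmul_mul_tmul, mul_one, ← map_mul, Submonoid.coe_mul]
    rw [mul_add, TensorProduct.tmul_add]
    congr 1
    · rw [e1, mul_assoc, hb, alg_tmul_mul]
    · rw [e2, mul_assoc, hb', alg_tmul_mul]



/-- Let F : B → A be a multiplicative polynomial law homogeneous of degree d over the commutative ring
A, on a commutative A-algebra B which is finite as an A-module, and let A' be a localization of A at
a submonoid M. Then the kernel of the base change of F to A' is the ideal of A' ⊗_A B generated by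
the kernel of F: the kernel (hence the image of a family of zero-cycles) commutes with localization.
(The published statement has no finiteness hypothesis on B and is false without one: for a suitable
algebra B that is not finitely generated the conditions cutting out the kernel at an element are
infinitely many elements of A annihilated by elements of M but by no single one, and the kernel of
the localised law is then strictly larger than the localised kernel; the published proof's reduction
to finite B does not go through. This row assumes B finite over A, the case that proof establishes.) -/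
theorem result {A : Type u} [CommRing A] {B : Type u} [CommRing B] [Algebra A B]
    [Module.Finite A B] {d : ℕ} (F : PolLaw.MulLaw A B A d) (M : Submonoid A) (A' : Type u) [CommRing A'] [Algebra A A']
    [IsLocalization M A'] :
    (PolLaw.ker F.law).map (Algebra.TensorProduct.includeRight : B →ₐ[A] A' ⊗[A] B) =
      PolLaw.kerBC F.law A' := by
  classical
  obtain ⟨n, e, he⟩ := Module.Finite.exists_fin (R := A) (M := B)
  apply le_antisymm (map_ker_le_kerBC F.law A')
  intro b' hb'
  obtain ⟨m, b, hmb⟩ := clear_denoms M b'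
  have hu : ∀ m₀ : M, IsUnit ((algebraMap A A' m₀) ⊗ₜ[A] (1 : B) : A' ⊗[A] B) := by
    intro m₀
    have := (IsLocalization.map_units A' m₀).map
      (Algebra.TensorProduct.includeLeft : A' →ₐ[A] A' ⊗[A] B)
    exact this
  have h1b : (1 : A') ⊗ₜ[A] b ∈ PolLaw.kerBC F.law A' := by
    rw [← hmb]
    exact Ideal.mul_mem_left _ _ hb'
  obtain ⟨m', hm'⟩ := exists_smul_mem_ker e he F.law M A' b h1b
  have h2 : ((algebraMap A A' m') ⊗ₜ[A] (1 : B)) * ((1 : A') ⊗ₜ[A] b) ∈
      (PolLaw.ker F.law).map (Algebra.TensorProduct.includeRight : B →ₐ[A] A' ⊗[A] B) := by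
    rw [alg_tmul_mul]
    exact Ideal.mem_map_of_mem _ hm'
  have h3 := (Ideal.unit_mul_mem_iff_mem _ (hu m')).mp h2
  rw [← hmb] at h3
  exact (Ideal.unit_mul_mem_iff_mem _ (hu m)).mp h3

end Groth.Agent.S13698
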