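import Groth.Statements.S13699
import Mathlib
import Groth.Agent.H76.PolLawBC
-- import your own Groth.Agent.* helpers here

set_option autoImplicit false
universe u
open scoped TensorProduct
open ZeroCyc

namespace Groth.Agent.S13699


open Groth.Agent.H76.PolLawBC in
theorem sum_pad {M : Type*} [AddCommMonoid M] (g : ℕ → M) {n1 n : ℕ} (h : n1 ≤ n) :
    ∑ i ∈ Finset.range n, (if i < n1 then g i else 0) = ∑ i ∈ Finset.range n1, g i := by
  rw [← Finset.sum_filter]
  congr 1
  ext i
  simp only [Finset.mem_filter, Finset.mem_range]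
  omega

theorem exists_sum_rep {A : Type u} [CommRing A] {B : Type u} [CommRing B] [Algebra A B]
    (z : Polynomial A ⊗[A] B) :
    ∃ (n : ℕ) (β : ℕ → B), z = ∑ i ∈ Finset.range n, (Polynomial.X ^ i : Polynomial A) ⊗ₜ[A] β i := by
  induction z using TensorProduct.induction_on with
  | zero => exact ⟨0, fun _ => 0, by simp⟩
  | tmul p b =>
    refine ⟨p.natDegree + 1, fun i => p.coeff i • b, ?_⟩
    conv_lhs => rw [p.as_sum_range_C_mul_X_pow]
    rw [TensorProduct.sum_tmul]
    refine Finset.sum_congr rfl (fun i _ => ?_)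
    rw [← Polynomial.smul_eq_C_mul, TensorProduct.smul_tmul]
  | add z z' h h' =>
    obtain ⟨n, β, rfl⟩ := h
    obtain ⟨n', β', rfl⟩ := h'
    refine ⟨n + n', fun i => (if i < n then β i else 0) + (if i < n' then β' i else 0), ?_⟩
    simp only [TensorProduct.tmul_add, Finset.sum_add_distrib]
    congr 1
    · rw [← sum_pad (fun i => (Polynomial.X ^ i : Polynomial A) ⊗ₜ[A] β i) (Nat.le_add_right n n')]
      refine Finset.sum_congr rfl (fun i _ => ?_)
      split_ifs <;> simp
    · rw [← sum_pad (fun i => (Polynomial.X ^ i : Polynomial A) ⊗ₜ[A] β' i) (Nat.le_add_left n' n)]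
      refine Finset.sum_congr rfl (fun i _ => ?_)
      split_ifs <;> simp

open Groth.Agent.H76.PolLawBC in
theorem sum_mem {A : Type u} [CommRing A] {B : Type u} [CommRing B] [Algebra A B]
    (f : B →ₚₗ[A] A) : ∀ (n : ℕ) (β : ℕ → B),
    (∑ i ∈ Finset.range n, (Polynomial.X ^ i : Polynomial A) ⊗ₜ[A] β i) ∈
      PolLaw.kerBC f (Polynomial A) →
    (∑ i ∈ Finset.range n, (Polynomial.X ^ i : Polynomial A) ⊗ₜ[A] β i) ∈
      (PolLaw.ker f).map (Algebra.TensorProduct.includeRight : B →ₐ[A] Polynomial A ⊗[A] B) := by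
  intro n
  induction n with
  | zero => intro β _; simp
  | succ n ih =>
    intro β h
    have hdec : (∑ i ∈ Finset.range (n + 1), (Polynomial.X ^ i : Polynomial A) ⊗ₜ[A] β i) =
        (1 : Polynomial A) ⊗ₜ[A] β 0 + ((Polynomial.X : Polynomial A) ⊗ₜ[A] (1 : B)) *
          ∑ i ∈ Finset.range n, (Polynomial.X ^ i : Polynomial A) ⊗ₜ[A] β (i + 1) := by
      rw [Finset.sum_range_succ', pow_zero, add_comm, Finset.mul_sum]
      congr 1
      refine Finset.sum_congr rfl (fun i _ => ?_)
      rw [Algebra.TensorProduct.tmul_mul_tmul, one_mul, pow_succ']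
    rw [hdec] at h ⊢
    have h0 : β 0 ∈ PolLaw.ker f := const_mem_ker h
    have h0' : (1 : Polynomial A) ⊗ₜ[A] β 0 ∈
        (PolLaw.ker f).map (Algebra.TensorProduct.includeRight : B →ₐ[A] Polynomial A ⊗[A] B) :=
      Ideal.mem_map_of_mem _ h0
    have h1 : ((Polynomial.X : Polynomial A) ⊗ₜ[A] (1 : B)) *
        ∑ i ∈ Finset.range n, (Polynomial.X ^ i : Polynomial A) ⊗ₜ[A] β (i + 1) ∈
        PolLaw.kerBC f (Polynomial A) := by
      have := (PolLaw.kerBC f (Polynomial A)).sub_mem h (map_ker_le_kerBC f _ h0')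
      rwa [add_sub_cancel_left] at this
    have h2 := ih (fun i => β (i + 1)) (kerBC_poly_of_X_mul h1)
    exact Ideal.add_mem _ h0' (Ideal.mul_mem_left _ _ h2)



/-- Let F : B → A be a multiplicative polynomial law homogeneous of degree d over the commutative ring
A. Then the kernel of the base change of F to the polynomial ring A[X] is the ideal of A[X] ⊗_A B
generated by the kernel of F. -/
theorem result {A : Type u} [CommRing A] {B : Type u} [CommRing B] [Algebra A B]
    {d : ℕ} (F : PolLaw.MulLaw A B A d) :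
    (PolLaw.ker F.law).map (Algebra.TensorProduct.includeRight : B →ₐ[A] Polynomial A ⊗[A] B) =
      PolLaw.kerBC F.law (Polynomial A) := by
  apply le_antisymm (Groth.Agent.H76.PolLawBC.map_ker_le_kerBC F.law _)
  intro z hz
  obtain ⟨n, β, rfl⟩ := exists_sum_rep z
  exact sum_mem F.law n β hz

end Groth.Agent.S13699
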