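import Groth.Statements.S13700
import Mathlib
import Groth.Agent.H76.PolLawBC
import Groth.Agent.H76.PolLawBC2
-- import your own Groth.Agent.* helpers here

set_option autoImplicit false
universe u
open scoped TensorProduct
open ZeroCyc

namespace Groth.Agent.S13700


open Groth.Agent.H76.PolLawBC



/-- Let F : B → A be a multiplicative polynomial law homogeneous of degree d over the commutative ring
A, and let g ∈ A[X] be a monic polynomial which is separable (g and its derivative generate the unit
ideal), so that A' = A[X]/(g) is étale over A. Then the kernel of the base change of F to A' is the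
ideal of A' ⊗_A B generated by the kernel of F. -/
theorem result {A : Type u} [CommRing A] {B : Type u} [CommRing B] [Algebra A B]
    {d : ℕ} (F : PolLaw.MulLaw A B A d) (g : Polynomial A) (hg : g.Monic) (hsep : g.Separable) :
    (PolLaw.ker F.law).map (Algebra.TensorProduct.includeRight : B →ₐ[A] AdjoinRoot g ⊗[A] B) =
      PolLaw.kerBC F.law (AdjoinRoot g) := by
  classical
  apply le_antisymm (map_ker_le_kerBC F.law _)
  intro b' hb'
  obtain ⟨R, _, _, ρ, r, hρ, hroot, hunit⟩ := exists_split g.natDegree A g hg hsep rfl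
  have hspan : Submodule.span A
      (Set.range (fun i : Fin g.natDegree => AdjoinRoot.root g ^ (i : ℕ))) = ⊤ := by
    have := (AdjoinRoot.powerBasis' hg).basis.span_eq
    rw [PowerBasis.coe_basis] at this
    exact this
  obtain ⟨β, rfl⟩ :=
    exists_rep_left (fun i : Fin g.natDegree => AdjoinRoot.root g ^ (i : ℕ)) hspan b'
  have hβ : ∀ i, β i ∈ PolLaw.ker F.law := by
    have he : ∀ j, ∃ e : AdjoinRoot g →ₐ[A] R, e (AdjoinRoot.root g) = r j := by
      intro j
      refine ⟨AdjoinRoot.liftAlgHom g (Algebra.ofId A R) (r j)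
        (by have := hroot j; rwa [Polynomial.aeval_def] at this),
        AdjoinRoot.liftAlgHom_root _ _ _ _⟩
    choose e he using he
    have hy : ∀ j, (∑ i : Fin g.natDegree, (r j ^ (i : ℕ)) ⊗ₜ[A] β i) ∈ PolLaw.kerBC F.law R := by
      intro j
      have h2 : Algebra.TensorProduct.map (e j) (AlgHom.id A B)
          (∑ i : Fin g.natDegree, (AdjoinRoot.root g ^ (i : ℕ)) ⊗ₜ[A] β i) =
          ∑ i : Fin g.natDegree, (r j ^ (i : ℕ)) ⊗ₜ[A] β i := by
        rw [map_sum]
        refine Finset.sum_congr rfl (fun i _ => ?_)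
        rw [Algebra.TensorProduct.map_tmul, map_pow, he j, AlgHom.id_apply]
      rw [← h2]
      exact map_mem_kerBC F.law (e j) hb'
    have hdet : IsUnit (Matrix.vandermonde r).det := by
      rw [Matrix.det_vandermonde]
      refine Finset.prod_induction _ IsUnit (fun _ _ => IsUnit.mul) isUnit_one (fun i _ => ?_)
      refine Finset.prod_induction _ IsUnit (fun _ _ => IsUnit.mul) isUnit_one (fun j hj => ?_)
      exact hunit j i (Finset.mem_Ioi.mp hj).ne'
    have hWV : (Matrix.vandermonde r)⁻¹ * Matrix.vandermonde r = 1 :=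
      Matrix.nonsing_inv_mul _ hdet
    intro i
    apply mem_ker_of_one_tmul_mem_kerBC F.law ρ hρ
    have hz : (1 : R) ⊗ₜ[A] β i = ∑ j, (((Matrix.vandermonde r)⁻¹ i j) ⊗ₜ[A] (1 : B)) *
        (∑ k : Fin g.natDegree, (r j ^ (k : ℕ)) ⊗ₜ[A] β k) := by
      simp only [Finset.mul_sum, Algebra.TensorProduct.tmul_mul_tmul, one_mul]
      rw [Finset.sum_comm]
      simp only [← TensorProduct.sum_tmul]
      have hentry : ∀ k : Fin g.natDegree, ∑ j, (Matrix.vandermonde r)⁻¹ i j * r j ^ (k : ℕ) =
          (1 : Matrix (Fin g.natDegree) (Fin g.natDegree) R) i k := by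
        intro k
        rw [← hWV, Matrix.mul_apply]
        rfl
      simp only [hentry, Matrix.one_apply]
      rw [Finset.sum_eq_single i]
      · rw [if_pos rfl]
      · intro k _ hk
        rw [if_neg (Ne.symm hk), TensorProduct.zero_tmul]
      · intro h
        exact absurd (Finset.mem_univ i) h
    rw [hz]
    exact Ideal.sum_mem _ (fun j _ => Ideal.mul_mem_left _ _ (hy j))
  refine Ideal.sum_mem _ (fun i _ => ?_)
  have h3 : (AdjoinRoot.root g ^ (i : ℕ)) ⊗ₜ[A] β i =
      ((AdjoinRoot.root g ^ (i : ℕ)) ⊗ₜ[A] (1 : B)) *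
        ((Algebra.TensorProduct.includeRight : B →ₐ[A] AdjoinRoot g ⊗[A] B) (β i)) := by
    rw [Algebra.TensorProduct.includeRight_apply, Algebra.TensorProduct.tmul_mul_tmul, mul_one,
      one_mul]
  rw [h3]
  exact Ideal.mul_mem_left _ _ (Ideal.mem_map_of_mem _ (hβ i))

end Groth.Agent.S13700
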