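import Groth.Statements.S13701
import Mathlib
import Groth.Agent.H76.PolLawBC
import Groth.Agent.H76.PolLawBC2
import Groth.Agent.H76.PolLawDeriv
-- import your own Groth.Agent.* helpers here

set_option autoImplicit false
universe u
open scoped TensorProduct
open ZeroCyc

namespace Groth.Agent.S13701

open Groth.Agent.H76.PolLawBC


/-- Let A be a commutative ℚ-algebra, F : B → A a multiplicative polynomial law homogeneous of degree d
on a commutative A-algebra B which is finite as an A-module, and A' a commutative A-algebra which is
flat as an A-module. Then the kernel of the base change of F to A' is the ideal of A' ⊗_A B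
generated by the kernel of F. (In positive characteristic this fails even for finite free base
change. The published statement has no finiteness hypothesis on B and is false without one: a
localisation of A is flat, and for a suitable algebra B that is not finitely generated the kernel
does not commute with it; the published proof's reduction to finite B does not go through. This row
assumes B finite over A, the case that proof establishes: there the kernel is the intersection of
finitely many kernels of A-linear maps on B, which commutes with flat base change.) -/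
theorem result {A : Type u} [CommRing A] [Algebra ℚ A] {B : Type u} [CommRing B] [Algebra A B]
    [Module.Finite A B] {d : ℕ} (F : PolLaw.MulLaw A B A d) (A' : Type u) [CommRing A'] [Algebra A A'] [Module.Flat A A'] :
    (PolLaw.ker F.law).map (Algebra.TensorProduct.includeRight : B →ₐ[A] A' ⊗[A] B) =
      PolLaw.kerBC F.law A' := by
  classical
  obtain ⟨n, e, he⟩ := Module.Finite.exists_fin (R := A) (M := B)
  apply le_antisymm (map_ker_le_kerBC F.law A')
  intro c hc
  have hone : ∀ (A₁ : Type u) [CommRing A₁] [Algebra A A₁] (a : A₁) (b : B),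
      a ⊗ₜ[A] b = (a ⊗ₜ[A] (1 : B)) * ((1 : A₁) ⊗ₜ[A] b) := by
    intro A₁ _ _ a b
    rw [Algebra.TensorProduct.tmul_mul_tmul, mul_one, one_mul]
  obtain ⟨L, hL⟩ : ∃ L : B →ₗ[A] MvPolynomial (Fin n ⊕ Fin n) A,
      ∀ b, L b = DU e F.law A ((1 : A) ⊗ₜ[A] b) := by
    refine ⟨{ toFun := fun b => DU e F.law A ((1 : A) ⊗ₜ[A] b)
              map_add' := fun b b' => by rw [TensorProduct.tmul_add, DU_add]
              map_smul' := fun a b => ?_ }, fun b => rfl⟩
    have h1 : (1 : A) ⊗ₜ[A] (a • b) = (a ⊗ₜ[A] (1 : B)) * ((1 : A) ⊗ₜ[A] b) := by
      rw [Algebra.TensorProduct.tmul_mul_tmul, mul_one, one_mul, ← TensorProduct.smul_tmul,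
        smul_eq_mul, mul_one]
    exact (congrArg (DU e F.law A) h1).trans (DU_tmul_mul e F.law A a _)
  have hform : ∀ c : A' ⊗[A] B, DU e F.law A' c =
      MvPolynomial.algebraTensorAlgEquiv A A' ((L.lTensor A') c) := by
    intro c
    induction c using TensorProduct.induction_on with
    | zero => rw [DU_zero, map_zero, map_zero]
    | tmul a' b =>
      rw [LinearMap.lTensor_tmul, MvPolynomial.algebraTensorAlgEquiv_tmul, hL, hone A' a' b,
        DU_tmul_mul]
      congr 1
      have h2 : (1 : A') ⊗ₜ[A] b = Algebra.TensorProduct.map (Algebra.ofId A A') (AlgHom.id A B)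
          ((1 : A) ⊗ₜ[A] b) := by
        rw [Algebra.TensorProduct.map_tmul, map_one, AlgHom.id_apply]
      rw [h2, ← DU_map e F.law (Algebra.ofId A A') ((1 : A) ⊗ₜ[A] b),
        MvPolynomial.mapAlgHom_apply]
      rfl
    | add x y hx hy => rw [DU_add, hx, hy, map_add, map_add]
  have hz : (L.lTensor A') c = 0 := by
    apply (MvPolynomial.algebraTensorAlgEquiv (σ := Fin n ⊕ Fin n) A A').injective
    rw [← hform, DU_eq_zero_of_mem e F.law A' hc, map_zero]
  have hex := Module.Flat.lTensor_exact A' (LinearMap.exact_subtype_ker_map L)
  obtain ⟨c₀, hc₀⟩ := (hex c).mp hz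
  rw [← hc₀]
  have hall : ∀ c₀ : A' ⊗[A] ↥(LinearMap.ker L),
      ((LinearMap.ker L).subtype.lTensor A') c₀ ∈
        (PolLaw.ker F.law).map (Algebra.TensorProduct.includeRight : B →ₐ[A] A' ⊗[A] B) := by
    intro c₀
    induction c₀ using TensorProduct.induction_on with
    | zero => rw [map_zero]; exact Ideal.zero_mem _
    | tmul a' k =>
      rw [LinearMap.lTensor_tmul, Submodule.subtype_apply, hone A' a' (k : B)]
      apply Ideal.mul_mem_left
      have hk : DU e F.law A ((1 : A) ⊗ₜ[A] (k : B)) = 0 := by
        rw [← hL]
        exact LinearMap.mem_ker.mp k.2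
      have hk2 := mem_kerBC_of_DU_eq_zero e he F.law A hk
      have hk3 := mem_ker_of_one_tmul_mem_kerBC F.law (LinearMap.id : A →ₗ[A] A) rfl hk2
      have hk4 := Ideal.mem_map_of_mem
        (Algebra.TensorProduct.includeRight : B →ₐ[A] A' ⊗[A] B) hk3
      rwa [Algebra.TensorProduct.includeRight_apply] at hk4
    | add x y hx hy => rw [map_add]; exact Ideal.add_mem _ hx hy
  exact hall c₀

end Groth.Agent.S13701
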