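import Groth.Statements.S13702
import Mathlib

set_option autoImplicit false
universe u
open ZeroCyc

namespace Groth.Agent.S13702

open Polynomial in
theorem aux_step1 {k : Type*} [Field k] (p : ℕ) [Fact p.Prime] [CharP k p] (f : k[X])
    (hsep : f.Separable) (s : ℕ) (n : ℕ) (hn : f.natDegree = n) :
    LinearIndependent k (fun i : Fin n => (AdjoinRoot.root f) ^ (p ^ s * (i : ℕ))) := by
  classical
  subst hn
  rw [Fintype.linearIndependent_iff]
  intro c hc
  let h : k[X] := ∑ i : Fin f.natDegree, C (c i) * X ^ (i : ℕ)
  have hdeg : h.degree < f.natDegree := Polynomial.degree_sum_fin_lt c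
  have hcoeff : ∀ i : Fin f.natDegree, h.coeff i = c i := by
    intro i
    simp only [h, Polynomial.finsetSum_coeff, Polynomial.coeff_C_mul, Polynomial.coeff_X_pow]
    rw [Finset.sum_eq_single i]
    · simp
    · intro j _ hj
      have : (i : ℕ) ≠ (j : ℕ) := fun e => hj (Fin.ext e.symm)
      simp [this]
    · intro hi; exact absurd (Finset.mem_univ i) hi
  have hmk : AdjoinRoot.mk f (expand k (p ^ s) h) = 0 := by
    rw [← hc]
    simp only [h, map_sum, map_mul, map_pow, Polynomial.expand_C, Polynomial.expand_X,
      AdjoinRoot.mk_C, AdjoinRoot.mk_X]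
    refine Finset.sum_congr rfl fun i _ => ?_
    rw [Algebra.smul_def, AdjoinRoot.algebraMap_eq, ← pow_mul]
  have hdvd : f ∣ expand k (p ^ s) h := AdjoinRoot.mk_eq_zero.mp hmk
  have hh0 : h = 0 := by
    by_contra hne
    let Ω := AlgebraicClosure k
    have hchar : CharP Ω p := charP_of_injective_algebraMap (algebraMap k Ω).injective p
    let R := (f.map (algebraMap k Ω)).roots
    have hnodup : R.Nodup := Polynomial.nodup_roots hsep.map
    have hcard : R.card = f.natDegree := by
      have := Polynomial.splits_iff_card_roots.mp (IsAlgClosed.splits (f.map (algebraMap k Ω)))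
      rw [this, Polynomial.natDegree_map]
    have hpowinj : Function.Injective (fun a : Ω => a ^ p ^ s) := by
      intro a b hab
      have := (iterateFrobenius Ω p s).injective
      apply this
      simpa [iterateFrobenius_def] using hab
    have hne' : h.map (algebraMap k Ω) ≠ 0 := (Polynomial.map_ne_zero_iff (algebraMap k Ω).injective).mpr hne
    have hsub : R.toFinset.image (fun a : Ω => a ^ p ^ s) ⊆ (h.map (algebraMap k Ω)).roots.toFinset := by
      intro y hy
      obtain ⟨a, ha, rfl⟩ := Finset.mem_image.mp hy
      rw [Multiset.mem_toFinset] at ha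
      have hfa : Polynomial.aeval a f = 0 := by
        have := (Polynomial.mem_roots'.mp ha).2
        rwa [Polynomial.IsRoot, Polynomial.eval_map, ← Polynomial.aeval_def] at this
      obtain ⟨w, hw⟩ := hdvd
      have h2 : Polynomial.aeval a (expand k (p ^ s) h) = 0 := by
        rw [hw, map_mul, hfa, zero_mul]
      rw [Polynomial.expand_aeval] at h2
      rw [Multiset.mem_toFinset, Polynomial.mem_roots hne', Polynomial.IsRoot, Polynomial.eval_map,
        ← Polynomial.aeval_def]
      exact h2
    have h1 : f.natDegree ≤ (h.map (algebraMap k Ω)).roots.toFinset.card := by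
      calc f.natDegree = R.toFinset.card := by
            rw [Multiset.toFinset_card_of_nodup hnodup, hcard]
        _ = (R.toFinset.image (fun a : Ω => a ^ p ^ s)).card :=
            (Finset.card_image_of_injective _ hpowinj).symm
        _ ≤ _ := Finset.card_le_card hsub
    have h2 : (h.map (algebraMap k Ω)).roots.toFinset.card ≤ h.natDegree := by
      calc _ ≤ (h.map (algebraMap k Ω)).roots.card := Multiset.toFinset_card_le _
        _ ≤ (h.map (algebraMap k Ω)).natDegree := Polynomial.card_roots' _
        _ = h.natDegree := Polynomial.natDegree_map _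
    have h3 : h.natDegree < f.natDegree := (Polynomial.natDegree_lt_iff_degree_lt hne).mpr hdeg
    omega
  intro i
  rw [← hcoeff i, hh0, Polynomial.coeff_zero]

open Polynomial in
/-- Let A be a local ring with residue field of characteristic p > 0, let g ∈ A[X] be monic and
separable of degree n, so that A' = A[X]/(g) is an étale A-algebra, and let q = p^s with s ≥ 0. Then
the powers 1, t^q, t^{2q}, …, t^{(n-1)q} of the class t of X form a basis of A' as an A-module. -/
theorem result {A : Type u} [CommRing A] [IsLocalRing A] (p : ℕ) [Fact p.Prime]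
    [CharP (IsLocalRing.ResidueField A) p] (g : Polynomial A) (hg : g.Monic) (hsep : g.Separable) (s : ℕ) :
    ∃ b : Module.Basis (Fin g.natDegree) A (AdjoinRoot g),
      ∀ i : Fin g.natDegree, b i = AdjoinRoot.root g ^ (p ^ s * (i : ℕ)) := by
  classical
  let k := IsLocalRing.ResidueField A
  let res : A →+* k := IsLocalRing.residue A
  let gb : k[X] := g.map res
  have hgb : gb.Monic := hg.map res
  have hgbsep : gb.Separable := hsep.map
  have hdeg : gb.natDegree = g.natDegree := hg.natDegree_map res
  let φ : AdjoinRoot g →+* AdjoinRoot gb := AdjoinRoot.map res g gb dvd_rfl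
  have hφsmul : ∀ (a : A) (z : AdjoinRoot g), φ (a • z) = res a • φ z := by
    intro a z
    rw [Algebra.smul_def, Algebra.smul_def, map_mul, AdjoinRoot.algebraMap_eq,
      AdjoinRoot.algebraMap_eq, AdjoinRoot.map_of]
  have hφroot : φ (AdjoinRoot.root g) = AdjoinRoot.root gb := AdjoinRoot.map_root _ _ _ _
  have : Module.Finite A (AdjoinRoot g) := hg.finite_adjoinRoot
  have : Module.Free A (AdjoinRoot g) := hg.free_adjoinRoot
  have : Module.Finite k (AdjoinRoot gb) := hgb.finite_adjoinRoot
  -- the family
  let v : Fin g.natDegree → AdjoinRoot g := fun i => AdjoinRoot.root g ^ (p ^ s * (i : ℕ))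
  have hli := aux_step1 p gb hgbsep s g.natDegree hdeg
  have hli0 := aux_step1 p gb hgbsep 0 g.natDegree hdeg
  have hfrk : Module.finrank k (AdjoinRoot gb) = g.natDegree := by
    rw [(AdjoinRoot.powerBasis' hgb).finrank, AdjoinRoot.powerBasis'_dim, hdeg]
  have hfrA : Module.finrank A (AdjoinRoot g) = g.natDegree := by
    rw [(AdjoinRoot.powerBasis' hg).finrank, AdjoinRoot.powerBasis'_dim]
  have hspank : Submodule.span k (Set.range fun i : Fin g.natDegree =>
      (AdjoinRoot.root gb) ^ (p ^ s * (i : ℕ))) = ⊤ :=
    hli.span_eq_top_of_card_eq_finrank' (by rw [Fintype.card_fin, hfrk])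
  -- kernel of φ
  have hker : ∀ z : AdjoinRoot g, φ z = 0 →
      z ∈ (IsLocalRing.maximalIdeal A • ⊤ : Submodule A (AdjoinRoot g)) := by
    intro z hz
    let bA := AdjoinRoot.powerBasisAux' hg
    have hbA : ∀ i, bA i = AdjoinRoot.root g ^ (i : ℕ) := fun i =>
      (AdjoinRoot.powerBasis' hg).basis_eq_pow i
    have hz' : z = ∑ i, bA.repr z i • AdjoinRoot.root g ^ (i : ℕ) := by
      conv_lhs => rw [← bA.sum_repr z]
      exact Finset.sum_congr rfl fun i _ => by rw [hbA]
    have h0 : ∑ i, res (bA.repr z i) • (AdjoinRoot.root gb) ^ (p ^ 0 * (i : ℕ)) = 0 := by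
      have e : φ z = ∑ i, res (bA.repr z i) • (AdjoinRoot.root gb) ^ (p ^ 0 * (i : ℕ)) := by
        conv_lhs => rw [hz', map_sum]
        refine Finset.sum_congr rfl fun i _ => ?_
        rw [hφsmul, map_pow, hφroot, pow_zero, one_mul]
      rw [← e, hz]
    have h1 := Fintype.linearIndependent_iff.mp hli0 _ h0
    rw [hz']
    refine Submodule.sum_mem _ fun i _ => ?_
    refine Submodule.smul_mem_smul ?_ Submodule.mem_top
    have := h1 i
    rwa [IsLocalRing.residue_eq_zero_iff] at this
  -- Nakayama
  have hspanA : ⊤ ≤ Submodule.span A (Set.range v) := by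
    apply Submodule.le_of_le_smul_of_le_jacobson_bot (Module.Finite.fg_top)
      (IsLocalRing.jacobson_eq_maximalIdeal (⊥ : Ideal A) bot_ne_top).ge
    intro x _
    have hx : φ x ∈ Submodule.span k (Set.range fun i : Fin g.natDegree =>
        (AdjoinRoot.root gb) ^ (p ^ s * (i : ℕ))) := hspank ▸ Submodule.mem_top
    obtain ⟨cb, hcb⟩ := (Submodule.mem_span_range_iff_exists_fun k).mp hx
    choose c hc using fun i => IsLocalRing.residue_surjective (cb i)
    have hy : φ (x - ∑ i, c i • v i) = 0 := by
      rw [map_sub, map_sum, sub_eq_zero, ← hcb]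
      refine (Finset.sum_congr rfl fun i _ => ?_).symm
      rw [hφsmul, map_pow, hφroot]
      show IsLocalRing.residue A (c i) • _ = _
      rw [hc]
    have h2 := hker _ hy
    have h3 : ∑ i, c i • v i ∈ Submodule.span A (Set.range v) :=
      Submodule.sum_mem _ fun i _ => Submodule.smul_mem _ _ (Submodule.subset_span ⟨i, rfl⟩)
    have : x = ∑ i, c i • v i + (x - ∑ i, c i • v i) := by abel
    rw [this]
    exact Submodule.add_mem_sup h3 h2
  refine ⟨basisOfTopLeSpanOfCardEqFinrank v hspanA (by rw [Fintype.card_fin, hfrA]), fun i => ?_⟩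
  rw [coe_basisOfTopLeSpanOfCardEqFinrank]

end Groth.Agent.S13702
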