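import Groth.Statements.S13703
import Groth.Agent.H74.LawTorsion
-- import your own Groth.Agent.* helpers here

set_option autoImplicit false
universe u
open scoped TensorProduct
open ZeroCyc

namespace Groth.Agent.S13703

/-- Let A be an integral domain, B a commutative A-algebra and F : B → A a multiplicative polynomial law
homogeneous of degree d. For every prime ideal P of B minimal among those containing the kernel of
F, the contraction of P to A is zero and every prime of A is the contraction of a prime of B
containing P. Geometrically: every irreducible component of the support of the family of zero-cycles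
on Spec B defined by F maps onto Spec A. (The published statement is over an arbitrary algebraic
space S, every irreducible component of the support mapping onto an irreducible component of S, and
its proof reduces to an integral affine base; this row is that case.) -/
theorem result {A : Type u} [CommRing A] [IsDomain A] {B : Type u} [CommRing B] [Algebra A B]
    {d : ℕ} (F : PolLaw.MulLaw A B A d) {P : Ideal B} (hP : P ∈ (PolLaw.ker F.law).minimalPrimes) :
    P.comap (algebraMap A B) = ⊥ ∧
      ∀ q : Ideal A, q.IsPrime → ∃ Q : Ideal B, Q.IsPrime ∧ P ≤ Q ∧ Q.comap (algebraMap A B) = q := by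
  have hI : Algebra.IsIntegral A (B ⧸ PolLaw.ker F.law) :=
    Groth.Agent.H74.CharpolyDeg.isIntegral_image F
  have hbot : P.comap (algebraMap A B) = ⊥ := by
    rw [eq_bot_iff]
    intro a ha
    rw [Ideal.mem_comap] at ha
    rw [Ideal.mem_bot]
    by_contra hne
    obtain ⟨y, hy, hxy⟩ := Ideal.exists_mul_mem_of_mem_minimalPrimes hP ha
    rw [← Algebra.smul_def] at hxy
    exact hy (Groth.Agent.H74.LawTorsion.mem_ker_of_smul_mem F hne hxy)
  refine ⟨hbot, fun q hq => ?_⟩
  have hle : (P.map (Ideal.Quotient.mk (PolLaw.ker F.law))).comap
      (algebraMap A (B ⧸ PolLaw.ker F.law)) ≤ q := by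
    intro a ha
    rw [Ideal.mem_comap] at ha
    have h1 : algebraMap A B a ∈ P := by
      have h2 : Ideal.Quotient.mk (PolLaw.ker F.law) (algebraMap A B a) ∈
          P.map (Ideal.Quotient.mk (PolLaw.ker F.law)) := ha
      rw [Ideal.mem_map_iff_of_surjective _ Ideal.Quotient.mk_surjective] at h2
      obtain ⟨x, hx, hxe⟩ := h2
      have h3 : x - algebraMap A B a ∈ PolLaw.ker F.law := by
        rw [← Ideal.Quotient.eq]; exact hxe
      have h4 : algebraMap A B a = x - (x - algebraMap A B a) := by ring
      rw [h4]
      exact P.sub_mem hx (hP.1.2 h3)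
    have h5 : a ∈ P.comap (algebraMap A B) := h1
    rw [hbot] at h5
    rw [(Ideal.mem_bot.mp h5)]
    exact q.zero_mem
  obtain ⟨Q, hQ1, hQ2, hQ3⟩ := Ideal.exists_ideal_over_prime_of_isIntegral q _ hle
  refine ⟨Q.comap (Ideal.Quotient.mk (PolLaw.ker F.law)), Ideal.comap_isPrime _ _, ?_, ?_⟩
  · exact Ideal.map_le_iff_le_comap.mp hQ1
  · rw [← hQ3, Ideal.comap_comap]
    rfl

end Groth.Agent.S13703
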