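import Groth.Statements.S13707
import Groth.Agent.H74.FieldSupport
-- import your own Groth.Agent.* helpers here

set_option autoImplicit false
universe u
open scoped TensorProduct
open ZeroCyc

namespace Groth.Agent.S13707

/-- Let k be a field, B a commutative k-algebra and F : B → k a multiplicative polynomial law
homogeneous of degree d. Then the spectrum of B/ker F (the image of the family of zero-cycles of
degree d on Spec B defined by F) is a finite set of at most d closed points, and the residue field
at each of them has finite separable degree over k. -/
theorem result {k : Type u} [Field k] {B : Type u} [CommRing B] [Algebra k B]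
    {d : ℕ} (F : PolLaw.MulLaw k B k d) :
    Finite (PrimeSpectrum (PolLaw.image F.law)) ∧ Nat.card (PrimeSpectrum (PolLaw.image F.law)) ≤ d ∧
      ∀ P : PrimeSpectrum (PolLaw.image F.law), P.asIdeal.IsMaximal ∧
        Finite (Field.Emb k P.asIdeal.ResidueField) := by
  obtain ⟨h1, h2⟩ := Groth.Agent.H74.FieldSupport.finite_spec F
  refine ⟨h1, h2, fun P => ⟨?_, ?_⟩⟩
  · exact Groth.Agent.H74.FieldSupport.isMaximal_of_isPrime F P.asIdeal
  · exact Groth.Agent.H74.FieldSupport.finite_emb F P.asIdeal

end Groth.Agent.S13707
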