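import Groth.Statements.S13708
import Mathlib
import Groth.Agent.H89.AffNbhd1

set_option autoImplicit false
universe u
open CategoryTheory CategoryTheory.Limits AlgebraicGeometry
open ZeroCyc

namespace Groth.Agent.S13708

/-- Let X be a scheme over S such that every finite set of points of X over a common point of S lies in
some affine open subscheme of X (the condition (AF)). Then X is separated over S. (The published
condition (AF) asks for an open U with U → S quasi-affine rather than U affine; with U affine, as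
here, the same argument applies verbatim, and the two conditions agree over a quasi-separated base.) -/
theorem result {X S : Scheme.{u}} (f : X ⟶ S) (hX : SymProd.IsAF f) :
    IsSeparated f := by
  classical
  constructor
  let 𝒰 := S.affineCover
  let 𝒱 : ∀ i, (pullback f (𝒰.f i)).OpenCover := fun i =>
    (pullback f (𝒰.f i)).openCoverOfIsOpenCover
      (fun j : (pullback f (𝒰.f i)).affineOpens => j.1) (iSup_affineOpens_eq_top _)
  haveI : ∀ i j, IsAffine ((𝒱 i).X j) := fun i j => j.2
  have htop : Scheme.Pullback.diagonalCoverDiagonalRange f 𝒰 𝒱 = ⊤ := by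
    rw [← top_le_iff]
    rintro x -
    have hx12 : f (pullback.fst f f x) = f (pullback.snd f f x) := by
      rw [← Scheme.Hom.comp_apply, ← Scheme.Hom.comp_apply, pullback.condition]
    let i := 𝒰.idx (f (pullback.fst f f x))
    obtain ⟨y, hy⟩ : ∃ y : 𝒰.X i, 𝒰.f i y = f (pullback.fst f f x) :=
      𝒰.covers (f (pullback.fst f f x))
    obtain ⟨z₁, hz₁, hz₁'⟩ := Scheme.Pullback.exists_preimage_pullback (f := f) (g := 𝒰.f i)
      (pullback.fst f f x) y hy.symm
    obtain ⟨z₂, hz₂, hz₂'⟩ := Scheme.Pullback.exists_preimage_pullback (f := f) (g := 𝒰.f i)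
      (pullback.snd f f x) y (hx12.symm.trans hy.symm)
    obtain ⟨W, hW, hWmem⟩ := hX (f (pullback.fst f f x))
      {pullback.fst f f x, pullback.snd f f x} (by
        intro x' hx'
        rcases Finset.mem_insert.mp hx' with rfl | hx'
        · rfl
        · rw [Finset.mem_singleton.mp hx']
          exact hx12.symm)
    obtain ⟨g, hgdef⟩ : ∃ g : pullback f (𝒰.f i) ⟶ X, g = pullback.fst f (𝒰.f i) := ⟨_, rfl⟩
    haveI : IsOpenImmersion g := by rw [hgdef]; infer_instance
    obtain ⟨h, hhF, hhN⟩ := Groth.Agent.H89.AffNbhd.exists_basicOpen_mem_le hW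
      {pullback.fst f f x, pullback.snd f f x} g.opensRange
      (fun x' hx' => hWmem x' hx')
      (by
        intro x' hx'
        rcases Finset.mem_insert.mp hx' with rfl | hx'
        · exact ⟨z₁, by rw [hgdef]; exact hz₁⟩
        · rw [Finset.mem_singleton.mp hx']
          exact ⟨z₂, by rw [hgdef]; exact hz₂⟩)
    have hD : IsAffineOpen (X.basicOpen h) := hW.basicOpen h
    have hjaff : IsAffineOpen (g ⁻¹ᵁ X.basicOpen h) := by
      rw [← Scheme.Hom.isAffineOpen_iff_of_isOpenImmersion g]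
      have himg : g ''ᵁ (g ⁻¹ᵁ X.basicOpen h) = X.basicOpen h :=
        SetLike.coe_injective (Set.image_preimage_eq_of_subset (fun a ha => hhN ha))
      rw [himg]
      exact hD
    obtain ⟨j, hjdef⟩ : ∃ j : (pullback f (𝒰.f i)).affineOpens, j.1 = g ⁻¹ᵁ X.basicOpen h :=
      ⟨⟨_, hjaff⟩, rfl⟩
    have hz₁j : z₁ ∈ j.1 := by
      rw [hjdef]
      show g z₁ ∈ X.basicOpen h
      rw [hgdef, hz₁]
      exact hhF _ (Finset.mem_insert_self _ _)
    have hz₂j : z₂ ∈ j.1 := by
      rw [hjdef]
      show g z₂ ∈ X.basicOpen h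
      rw [hgdef, hz₂]
      exact hhF _ (Finset.mem_insert_of_mem (Finset.mem_singleton_self _))
    obtain ⟨w₁, hw₁⟩ : ∃ w : j.1.toScheme, j.1.ι w = z₁ := by
      have hr : z₁ ∈ Set.range j.1.ι := by
        rw [Scheme.Opens.range_ι]
        exact hz₁j
      exact hr
    obtain ⟨w₂, hw₂⟩ : ∃ w : j.1.toScheme, j.1.ι w = z₂ := by
      have hr : z₂ ∈ Set.range j.1.ι := by
        rw [Scheme.Opens.range_ι]
        exact hz₂j
      exact hr
    unfold Scheme.Pullback.diagonalCoverDiagonalRange
    refine TopologicalSpace.Opens.mem_iSup.mpr ⟨⟨i, j⟩, ?_⟩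
    show x ∈ Set.range ((Scheme.Pullback.diagonalCover f 𝒰 𝒱).f ⟨i, j, j⟩)
    have hmap := Scheme.Pullback.diagonalCover_map f 𝒰 𝒱 ⟨i, j, j⟩
    rw [hmap]
    refine (Set.ext_iff.mp (Scheme.Pullback.range_map _ _ _ _ _ _ _ _ _) x).mpr ?_
    refine ⟨⟨w₁, ?_⟩, ⟨w₂, ?_⟩⟩
    · show pullback.fst f (𝒰.f i) (j.1.ι w₁) = pullback.fst f f x
      rw [hw₁, hz₁]
    · show pullback.fst f (𝒰.f i) (j.1.ι w₂) = pullback.snd f f x
      rw [hw₂, hz₂]
  refine IsZariskiLocalAtTarget.of_iSup_eq_top (fun _ : PUnit.{0} ↦ ⊤) (by simp) fun _ ↦ ?_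
  rw [← htop]
  exact isClosedImmersion_diagonal_restrict_diagonalCoverDiagonalRange f 𝒰 𝒱

end Groth.Agent.S13708
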