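import Groth.Statements.S13709
import Mathlib.AlgebraicGeometry.Morphisms.UniversallyOpen
import Mathlib.AlgebraicGeometry.PullbackCarrier

set_option autoImplicit false
universe u
open CategoryTheory CategoryTheory.Limits AlgebraicGeometry
open ZeroCyc

namespace Groth.Agent.S13709

/-- Let f : X → Y be a quasi-compact morphism of schemes and g : Y' → Y a faithfully flat morphism, i.e.
flat and surjective, with no quasi-compactness assumption on g. If the base change X ×_Y Y' → Y' of
f along g is a homeomorphism on underlying spaces, then so is f. -/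
theorem result {X Y Y' : Scheme.{u}} (f : X ⟶ Y) (g : Y' ⟶ Y)
    [Flat g] [Surjective g] [QuasiCompact f] (h : IsHomeomorph (pullback.snd f g).base) :
    IsHomeomorph f.base := by
  -- compatibility of the square on points
  have hsq : ∀ z : ↑(pullback f g), f.base ((pullback.fst f g).base z) =
      g.base ((pullback.snd f g).base z) := by
    intro z
    have := congrArg (fun k => k.base z) (pullback.condition (f := f) (g := g))
    simpa using this
  have hinj : Function.Injective f.base := by
    intro x₁ x₂ hx
    obtain ⟨y', hy'⟩ := g.surjective (f.base x₁)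
    obtain ⟨z₁, hz₁, hz₁'⟩ := Scheme.Pullback.exists_preimage_pullback (f := f) (g := g) x₁ y' hy'.symm
    obtain ⟨z₂, hz₂, hz₂'⟩ := Scheme.Pullback.exists_preimage_pullback (f := f) (g := g) x₂ y'
      (hx ▸ hy'.symm)
    have : z₁ = z₂ := h.injective (hz₁'.trans hz₂'.symm)
    rw [← hz₁, ← hz₂, this]
  have hsurj : Function.Surjective f.base := by
    intro y
    obtain ⟨y', hy'⟩ := g.surjective y
    obtain ⟨z, hz⟩ := h.surjective y'
    refine ⟨(pullback.fst f g).base z, ?_⟩
    rw [hsq, hz, hy']
  have hspec : SpecializingMap f.base := by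
    intro x y₁ hxy
    change f.base x ⤳ y₁ at hxy
    obtain ⟨y'₁, hy'₁⟩ := g.surjective y₁
    have hgen : GeneralizingMap g.base := Flat.generalizingMap g
    obtain ⟨y', hy'spec, hy'⟩ := hgen (a := y'₁) (b := f.base x) (by rw [hy'₁]; exact hxy)
    obtain ⟨z, hz⟩ := h.surjective y'
    obtain ⟨z₁, hz₁⟩ := h.surjective y'₁
    have hzz : z ⤳ z₁ := by
      rw [← h.isInducing.specializes_iff, hz, hz₁]
      exact hy'spec
    have hx : (pullback.fst f g).base z = x := by
      apply hinj
      rw [hsq, hz, hy']
    refine ⟨(pullback.fst f g).base z₁, ?_, ?_⟩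
    · change x ⤳ _
      rw [← hx]
      exact hzz.map (pullback.fst f g).base.hom.continuous
    · rw [hsq, hz₁, hy'₁]
  rw [isHomeomorph_iff_continuous_isClosedMap_bijective]
  exact ⟨f.base.hom.continuous, (isClosedMap_iff_specializingMap f).mpr hspec, hinj, hsurj⟩

end Groth.Agent.S13709
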