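import Groth.Statements.S13710
import Groth.Agent.S13709
import Mathlib

set_option autoImplicit false
universe u
open CategoryTheory CategoryTheory.Limits AlgebraicGeometry
open ZeroCyc

open scoped TensorProduct

namespace Groth.Agent.S13710

theorem subsingleton_of_flat_family {A : Type u} [CommRing A] {M : Type u} [AddCommGroup M]
    [Module A M]
    (H : ∀ p : Ideal A, p.IsMaximal → ∃ (A' : Type u) (_ : CommRing A') (_ : Algebra A A'),
      Module.Flat A A' ∧ (∃ p' : Ideal A', p' ≠ ⊤ ∧ p ≤ p'.comap (algebraMap A A')) ∧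
        Subsingleton (M ⊗[A] A')) :
    Subsingleton M := by
  suffices h : ∀ m : M, m = 0 from ⟨fun m₁ m₂ => by rw [h m₁, h m₂]⟩
  intro m
  by_contra hm
  let I : Ideal A := LinearMap.ker (LinearMap.toSpanSingleton A M m)
  have hI : I ≠ ⊤ := by
    intro h
    apply hm
    have h1 : (1 : A) ∈ I := h ▸ Submodule.mem_top
    simpa [I, LinearMap.mem_ker, LinearMap.toSpanSingleton_apply] using h1
  obtain ⟨p, hp, hIp⟩ := Ideal.exists_le_maximal I hI
  obtain ⟨A', _, _, hflat, ⟨p', hp', hpp'⟩, hsub⟩ := H p hp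
  let ψ : (A ⧸ I) →ₗ[A] M := Submodule.liftQ I (LinearMap.toSpanSingleton A M m) le_rfl
  have hψ : Function.Injective ψ := by
    rw [← LinearMap.ker_eq_bot]
    exact Submodule.ker_liftQ_eq_bot _ _ _ le_rfl
  have hinj : Function.Injective (ψ.rTensor A') :=
    Module.Flat.rTensor_preserves_injective_linearMap ψ hψ
  have hsub' : Subsingleton ((A ⧸ I) ⊗[A] A') := hinj.subsingleton
  have e := TensorProduct.quotTensorEquivQuotSMul A' I
  have hsub'' : Subsingleton (A' ⧸ (I • (⊤ : Submodule A A'))) := e.symm.injective.subsingleton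
  have htop : (I • (⊤ : Submodule A A')) = ⊤ := Submodule.Quotient.subsingleton_iff.mp hsub''
  have hle : (I • (⊤ : Submodule A A')) ≤ p'.restrictScalars A := by
    rw [Submodule.smul_le]
    intro a ha x _
    show a • x ∈ p'
    rw [Algebra.smul_def]
    exact p'.mul_mem_right _ (hpp' (hIp ha))
  apply hp'
  rw [Ideal.eq_top_iff_one]
  have h1 : (1 : A') ∈ (I • (⊤ : Submodule A A')) := by rw [htop]; exact Submodule.mem_top
  exact hle h1

theorem bijective_of_flat_family {A B : Type u} [CommRing A] [CommRing B] [Algebra A B]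
    (H : ∀ p : Ideal A, p.IsMaximal → ∃ (A' : Type u) (_ : CommRing A') (_ : Algebra A A'),
      Module.Flat A A' ∧ (∃ p' : Ideal A', p' ≠ ⊤ ∧ p ≤ p'.comap (algebraMap A A')) ∧
      Function.Bijective (Algebra.TensorProduct.includeRight : A' →ₐ[A] B ⊗[A] A')) :
    Function.Bijective (algebraMap A B) := by
  let φ : A →ₗ[A] B := Algebra.linearMap A B
  have key : ∀ (A' : Type u) [CommRing A'] [Algebra A A'],
      Function.Bijective (Algebra.TensorProduct.includeRight : A' →ₐ[A] B ⊗[A] A') →
      Function.Bijective (φ.rTensor A') := by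
    intro A' _ _ hb
    have : φ.rTensor A' = (Algebra.TensorProduct.includeRight : A' →ₐ[A] B ⊗[A] A').toLinearMap ∘ₗ
        (TensorProduct.lid A A').toLinearMap := by
      apply TensorProduct.ext'
      intro a a'
      simp only [LinearMap.rTensor_tmul, LinearMap.comp_apply, LinearEquiv.coe_coe,
        TensorProduct.lid_tmul, AlgHom.toLinearMap_apply,
        Algebra.TensorProduct.includeRight_apply, φ, Algebra.linearMap_apply]
      rw [Algebra.algebraMap_eq_smul_one, TensorProduct.smul_tmul]
    rw [this]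
    exact hb.comp (TensorProduct.lid A A').bijective
  have hker : Subsingleton (LinearMap.ker φ) := by
    apply subsingleton_of_flat_family (A := A)
    intro p hp
    obtain ⟨A', i1, i2, hflat, hp', hbij⟩ := H p hp
    refine ⟨A', i1, i2, hflat, hp', ?_⟩
    have hb := key A' hbij
    have hinj : Function.Injective ((LinearMap.ker φ).subtype.rTensor A') :=
      Module.Flat.rTensor_preserves_injective_linearMap _ (Submodule.injective_subtype _)
    refine ⟨fun z₁ z₂ => ?_⟩
    apply hinj
    apply hb.1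
    rw [← LinearMap.comp_apply, ← LinearMap.comp_apply, ← LinearMap.rTensor_comp]
    have h0 : φ ∘ₗ (LinearMap.ker φ).subtype = 0 := LinearMap.comp_ker_subtype φ
    rw [h0, LinearMap.rTensor_zero]
    rfl
  have hcoker : Subsingleton (B ⧸ LinearMap.range φ) := by
    apply subsingleton_of_flat_family (A := A)
    intro p hp
    obtain ⟨A', i1, i2, hflat, hp', hbij⟩ := H p hp
    refine ⟨A', i1, i2, hflat, hp', ?_⟩
    have hb := key A' hbij
    have hsurj : Function.Surjective ((LinearMap.range φ).mkQ.rTensor A') :=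
      LinearMap.rTensor_surjective _ (Submodule.mkQ_surjective _)
    have h0 : ∀ z, (LinearMap.range φ).mkQ.rTensor A' z = 0 := by
      intro z
      obtain ⟨w, rfl⟩ := hb.2 z
      rw [← LinearMap.comp_apply, ← LinearMap.rTensor_comp, LinearMap.range_mkQ_comp,
        LinearMap.rTensor_zero]
      rfl
    refine ⟨fun z₁ z₂ => ?_⟩
    obtain ⟨w₁, rfl⟩ := hsurj z₁
    obtain ⟨w₂, rfl⟩ := hsurj z₂
    rw [h0, h0]
  constructor
  · rw [injective_iff_map_eq_zero]
    intro a ha
    have h1 : (⟨a, ha⟩ : LinearMap.ker φ) = 0 := Subsingleton.elim _ _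
    exact congrArg Subtype.val h1
  · intro b
    have h1 : (LinearMap.range φ).mkQ b = 0 := Subsingleton.elim _ _
    rw [Submodule.mkQ_apply, Submodule.Quotient.mk_eq_zero] at h1
    obtain ⟨a, ha⟩ := h1
    exact ⟨a, ha⟩

/-- in a pushout square of commutative rings whose second leg is invertible, the inclusion of the
second factor into the tensor product is bijective -/
theorem bijective_includeRight_of_isPushout {A B A' P : CommRingCat.{u}} {φ : A ⟶ B} {α : A ⟶ A'}
    {β : B ⟶ P} {γ : A' ⟶ P} (H : IsPushout φ α β γ) [IsIso γ] :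
    letI := φ.hom.toAlgebra
    letI := α.hom.toAlgebra
    Function.Bijective (Algebra.TensorProduct.includeRight : A' →ₐ[A] B ⊗[A] A') := by
  algebraize [φ.hom, α.hom]
  let e := (CommRingCat.isPushout_tensorProduct A B A').isoIsPushout B A' H
  have h1 : CommRingCat.ofHom (S := B ⊗[A] A')
      (Algebra.TensorProduct.includeRight : A' →ₐ[A] B ⊗[A] A').toRingHom ≫ e.hom = γ :=
    IsPushout.inr_isoIsPushout_hom B A' (CommRingCat.isPushout_tensorProduct A B A') H
  have h2 : IsIso (CommRingCat.ofHom (S := B ⊗[A] A')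
      (Algebra.TensorProduct.includeRight : A' →ₐ[A] B ⊗[A] A').toRingHom) := by
    have : CommRingCat.ofHom (S := B ⊗[A] A')
      (Algebra.TensorProduct.includeRight : A' →ₐ[A] B ⊗[A] A').toRingHom = γ ≫ e.inv := by
      rw [← h1, Category.assoc, Iso.hom_inv_id, Category.comp_id]
    rw [this]
    infer_instance
  exact (ConcreteCategory.isIso_iff_bijective _).mp h2

theorem isIso_of_flat_family {A B : CommRingCat.{u}} (φ : A ⟶ B)
    (H : ∀ q : PrimeSpectrum A, ∃ (A' P : CommRingCat.{u}) (α : A ⟶ A') (β : B ⟶ P) (γ : A' ⟶ P),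
      α.hom.Flat ∧ IsPushout φ α β γ ∧ IsIso γ ∧ ∃ q' : PrimeSpectrum A', q'.comap α.hom = q) :
    IsIso φ := by
  rw [ConcreteCategory.isIso_iff_bijective]
  let _ := φ.hom.toAlgebra
  refine bijective_of_flat_family (A := A) (B := B) ?_
  intro p hp
  obtain ⟨A', P, α, β, γ, hflat, hpush, hiso, q', hq'⟩ := H ⟨p, hp.isPrime⟩
  refine ⟨A', inferInstance, α.hom.toAlgebra, hflat, ⟨q'.asIdeal, q'.2.ne_top, ?_⟩, ?_⟩
  · have := congrArg PrimeSpectrum.asIdeal hq'
    exact this.ge
  · exact bijective_includeRight_of_isPushout hpush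


/-- Let f : X → Y be a morphism of schemes and g : Y' → Y a faithfully flat morphism (flat and
surjective, not assumed quasi-compact). Then f is an isomorphism exactly when it is quasi-compact
and its base change X ×_Y Y' → Y' along g is an isomorphism. -/
theorem result {X Y Y' : Scheme.{u}} (f : X ⟶ Y) (g : Y' ⟶ Y)
    [Flat g] [Surjective g] :
    IsIso f ↔ QuasiCompact f ∧ IsIso (pullback.snd f g) := by
  constructor
  · intro h
    exact ⟨inferInstance, inferInstance⟩
  · rintro ⟨hqc, hiso⟩
    have hhomeo : IsHomeomorph f.base := Groth.Agent.S13709.result f g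
      (TopCat.homeoOfIso (asIso (pullback.snd f g).base)).isHomeomorph
    have haff : IsAffineHom f :=
      isAffineHom_of_isInducing f hhomeo.isInducing hhomeo.isClosedEmbedding.isClosed_range
    rw [← MorphismProperty.isomorphisms.iff,
      HasAffineProperty.iff_of_iSup_eq_top (P := MorphismProperty.isomorphisms Scheme)
        (fun U : Y.affineOpens => U) (iSup_affineOpens_eq_top Y)]
    intro U
    have hU' : IsAffine (f ⁻¹ᵁ U.1).toScheme := U.2.preimage f
    have hUa : IsAffine U.1.toScheme := U.2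
    refine ⟨hU', ?_⟩
    apply isIso_of_flat_family
    intro q
    let u : U.1.toScheme := U.1.toScheme.isoSpec.inv.base q
    have hu : U.1.toScheme.isoSpec.hom.base u = q := by
      simp only [u, ← Scheme.Hom.comp_apply, Iso.inv_hom_id]
      rfl
    obtain ⟨y', hy'⟩ := g.surjective u.1
    have hy'U : y' ∈ g ⁻¹ᵁ U.1 := by
      show g.base y' ∈ U.1
      rw [hy']
      exact u.2
    obtain ⟨V', hV', hy'V, hV'le⟩ : ∃ W : Y'.Opens, IsAffineOpen W ∧ y' ∈ W ∧ W ≤ g ⁻¹ᵁ U.1 := by
      obtain ⟨_, ⟨W, hW, rfl⟩, hyW, hWle⟩ :=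
        Y'.isBasis_affineOpens.exists_subset_of_mem_open hy'U (g ⁻¹ᵁ U.1).isOpen
      exact ⟨W, hW, hyW, hWle⟩
    have hV'a : IsAffine V'.toScheme := hV'
    let k : V'.toScheme ⟶ U.1.toScheme := g.resLE U.1 V' hV'le
    let v : V'.toScheme := ⟨y', hy'V⟩
    have hkv : k.base v = u := by
      apply Subtype.ext
      have h1 : (k ≫ U.1.ι).base v = (V'.ι ≫ g).base v := by
        rw [Scheme.Hom.resLE_comp_ι]
      rw [Scheme.Hom.comp_apply, Scheme.Hom.comp_apply, Scheme.Opens.ι_apply,
        Scheme.Opens.ι_apply] at h1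
      exact h1.trans hy'
    have sq : IsPullback (pullback.fst (f ∣_ U.1) k) (pullback.snd (f ∣_ U.1) k) (f ∣_ U.1) k :=
      IsPullback.of_hasPullback _ _
    have big : IsPullback (pullback.fst (f ∣_ U.1) k ≫ (f ⁻¹ᵁ U.1).ι)
        (pullback.snd (f ∣_ U.1) k) f (k ≫ U.1.ι) :=
      sq.paste_horiz (isPullback_morphismRestrict f U.1).flip
    rw [Scheme.Hom.resLE_comp_ι] at big
    let l : pullback (f ∣_ U.1) k ⟶ pullback f g :=
      pullback.lift (pullback.fst (f ∣_ U.1) k ≫ (f ⁻¹ᵁ U.1).ι)
        (pullback.snd (f ∣_ U.1) k ≫ V'.ι) (by rw [Category.assoc, Category.assoc]; exact (Category.assoc _ _ _).symm.trans big.w)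
    have left : IsPullback l (pullback.snd (f ∣_ U.1) k) (pullback.snd f g) V'.ι := by
      refine IsPullback.of_right ?_ ?_ (IsPullback.of_hasPullback f g)
      · have hl : l ≫ pullback.fst f g = pullback.fst (f ∣_ U.1) k ≫ (f ⁻¹ᵁ U.1).ι :=
          pullback.lift_fst _ _ _
        rw [hl]
        exact big
      · exact pullback.lift_snd _ _ _
    have hsnd : IsIso (pullback.snd (f ∣_ U.1) k) :=
      MorphismProperty.of_isPullback (P := MorphismProperty.isomorphisms Scheme) left hiso
    have hpush := isPushout_appTop_of_isPullback sq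
    have hsnd' : IsIso (pullback.snd (f ∣_ U.1) k).appTop :=
      inferInstanceAs (IsIso ((pullback.snd (f ∣_ U.1) k).app ⊤))
    have hflat : Flat k := inferInstance
    refine ⟨_, _, k.appTop, (pullback.fst (f ∣_ U.1) k).appTop,
      (pullback.snd (f ∣_ U.1) k).appTop,
      (HasRingHomProperty.iff_of_isAffine (P := @Flat)).mp hflat, hpush, hsnd',
      ⟨V'.toScheme.isoSpec.hom.base v, ?_⟩⟩
    have hnat := Scheme.isoSpec_hom_naturality k
    have h2 := congrArg (fun m => m.base v) hnat
    simp only [Scheme.Hom.comp_apply] at h2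
    rw [hkv, hu] at h2
    exact h2

end Groth.Agent.S13710
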