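import Groth.Statements.S13711
import Groth.Agent.S13710
import Mathlib

set_option autoImplicit false
universe u
open CategoryTheory CategoryTheory.Limits AlgebraicGeometry
open ZeroCyc

namespace Groth.Agent.S13711

theorem appLE_top_top {X Y : Scheme.{u}} (f : X ⟶ Y) (e : (⊤ : X.Opens) ≤ f ⁻¹ᵁ ⊤) :
    f.appLE ⊤ ⊤ e = f.appTop := by
  simp [Scheme.Hom.appLE, Scheme.Hom.appTop]

/-- a quasi-compact morphism which becomes a homeomorphism after flat base changes covering the
target is a homeomorphism -/
theorem isHomeomorph_of_flat_family {X Z : Scheme.{u}} (c : X ⟶ Z) [QuasiCompact c]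
    (H : ∀ z : Z, ∃ (Z' : Scheme.{u}) (h : Z' ⟶ Z), Flat h ∧ z ∈ Set.range h.base ∧
      IsHomeomorph (pullback.snd c h).base) :
    IsHomeomorph c.base := by
  have hsq : ∀ {Z' : Scheme.{u}} (h : Z' ⟶ Z) (w : ↑(pullback c h)),
      c.base ((pullback.fst c h).base w) = h.base ((pullback.snd c h).base w) := by
    intro Z' h w
    have := congrArg (fun k => k.base w) (pullback.condition (f := c) (g := h))
    simpa using this
  have hinj : Function.Injective c.base := by
    intro x₁ x₂ hx
    obtain ⟨Z', h, _, ⟨z', hz'⟩, hh⟩ := H (c.base x₁)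
    obtain ⟨w₁, hw₁, hw₁'⟩ :=
      Scheme.Pullback.exists_preimage_pullback (f := c) (g := h) x₁ z' hz'.symm
    obtain ⟨w₂, hw₂, hw₂'⟩ :=
      Scheme.Pullback.exists_preimage_pullback (f := c) (g := h) x₂ z' (hx ▸ hz'.symm)
    have : w₁ = w₂ := hh.injective (hw₁'.trans hw₂'.symm)
    rw [← hw₁, ← hw₂, this]
  have hsurj : Function.Surjective c.base := by
    intro z
    obtain ⟨Z', h, _, ⟨z', hz'⟩, hh⟩ := H z
    obtain ⟨w, hw⟩ := hh.surjective z'
    refine ⟨(pullback.fst c h).base w, ?_⟩
    rw [hsq, hw, hz']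
  have hspec : SpecializingMap c.base := by
    intro x z₁ hxz
    change c.base x ⤳ z₁ at hxz
    obtain ⟨Z', h, hflat, ⟨z'₁, hz'₁⟩, hh⟩ := H z₁
    have hgen : GeneralizingMap h.base := Flat.generalizingMap h
    obtain ⟨z', hz'spec, hz'⟩ := hgen (a := z'₁) (b := c.base x) (by rw [hz'₁]; exact hxz)
    obtain ⟨w, hw⟩ := hh.surjective z'
    obtain ⟨w₁, hw₁⟩ := hh.surjective z'₁
    have hww : w ⤳ w₁ := by
      rw [← hh.isInducing.specializes_iff, hw, hw₁]
      exact hz'spec
    have hx : (pullback.fst c h).base w = x := by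
      apply hinj
      rw [hsq, hw, hz']
    refine ⟨(pullback.fst c h).base w₁, ?_, ?_⟩
    · change x ⤳ _
      rw [← hx]
      exact hww.map (pullback.fst c h).base.hom.continuous
    · rw [hsq, hw₁, hz'₁]
  rw [isHomeomorph_iff_continuous_isClosedMap_bijective]
  exact ⟨c.base.hom.continuous, (isClosedMap_iff_specializingMap c).mpr hspec, hinj, hsurj⟩

/-- a quasi-compact morphism which becomes an isomorphism after flat base changes covering the
target is an isomorphism -/
theorem isIso_of_flat_family {X Z : Scheme.{u}} (c : X ⟶ Z) [QuasiCompact c]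
    (H : ∀ z : Z, ∃ (Z' : Scheme.{u}) (h : Z' ⟶ Z), Flat h ∧ z ∈ Set.range h.base ∧
      IsIso (pullback.snd c h)) :
    IsIso c := by
  have hhomeo : IsHomeomorph c.base := by
    apply isHomeomorph_of_flat_family c
    intro z
    obtain ⟨Z', h, hflat, hz, hiso⟩ := H z
    exact ⟨Z', h, hflat, hz, (TopCat.homeoOfIso (asIso (pullback.snd c h).base)).isHomeomorph⟩
  have haff : IsAffineHom c :=
    isAffineHom_of_isInducing c hhomeo.isInducing hhomeo.isClosedEmbedding.isClosed_range
  rw [← MorphismProperty.isomorphisms.iff,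
    HasAffineProperty.iff_of_iSup_eq_top (P := MorphismProperty.isomorphisms Scheme)
      (fun U : Z.affineOpens => U) (iSup_affineOpens_eq_top Z)]
  intro U
  have hU' : IsAffine (c ⁻¹ᵁ U.1).toScheme := U.2.preimage c
  have hUa : IsAffine U.1.toScheme := U.2
  refine ⟨hU', ?_⟩
  apply Groth.Agent.S13710.isIso_of_flat_family
  intro q
  let u : U.1.toScheme := U.1.toScheme.isoSpec.inv.base q
  have hu : U.1.toScheme.isoSpec.hom.base u = q := by
    simp only [u, ← Scheme.Hom.comp_apply, Iso.inv_hom_id]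
    rfl
  obtain ⟨Y', g, hflatg, ⟨y', hy'⟩, hiso⟩ := H u.1
  have hy'U : y' ∈ g ⁻¹ᵁ U.1 := by
    show g.base y' ∈ U.1
    rw [hy']
    exact u.2
  obtain ⟨V', hV', hy'V, hV'le⟩ : ∃ W : Y'.Opens, IsAffineOpen W ∧ y' ∈ W ∧ W ≤ g ⁻¹ᵁ U.1 := by
    obtain ⟨_, ⟨W, hW, rfl⟩, hyW, hWle⟩ :=
      Y'.isBasis_affineOpens.exists_subset_of_mem_open hy'U (g ⁻¹ᵁ U.1).isOpen
    exact ⟨W, hW, hyW, hWle⟩
  have hV'a : IsAffine V'.toScheme := hV'
  let k : V'.toScheme ⟶ U.1.toScheme := g.resLE U.1 V' hV'le
  let v : V'.toScheme := ⟨y', hy'V⟩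
  have hkv : k.base v = u := by
    apply Subtype.ext
    have h1 : (k ≫ U.1.ι).base v = (V'.ι ≫ g).base v := by
      rw [Scheme.Hom.resLE_comp_ι]
    rw [Scheme.Hom.comp_apply, Scheme.Hom.comp_apply, Scheme.Opens.ι_apply,
      Scheme.Opens.ι_apply] at h1
    exact h1.trans hy'
  have sq : IsPullback (pullback.fst (c ∣_ U.1) k) (pullback.snd (c ∣_ U.1) k) (c ∣_ U.1) k :=
    IsPullback.of_hasPullback _ _
  have big : IsPullback (pullback.fst (c ∣_ U.1) k ≫ (c ⁻¹ᵁ U.1).ι)
      (pullback.snd (c ∣_ U.1) k) c (k ≫ U.1.ι) :=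
    sq.paste_horiz (isPullback_morphismRestrict c U.1).flip
  rw [Scheme.Hom.resLE_comp_ι] at big
  let l : pullback (c ∣_ U.1) k ⟶ pullback c g :=
    pullback.lift (pullback.fst (c ∣_ U.1) k ≫ (c ⁻¹ᵁ U.1).ι)
      (pullback.snd (c ∣_ U.1) k ≫ V'.ι)
      (by rw [Category.assoc, Category.assoc]; exact (Category.assoc _ _ _).symm.trans big.w)
  have left : IsPullback l (pullback.snd (c ∣_ U.1) k) (pullback.snd c g) V'.ι := by
    refine IsPullback.of_right ?_ ?_ (IsPullback.of_hasPullback c g)
    · have hl : l ≫ pullback.fst c g = pullback.fst (c ∣_ U.1) k ≫ (c ⁻¹ᵁ U.1).ι :=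
        pullback.lift_fst _ _ _
      rw [hl]
      exact big
    · exact pullback.lift_snd _ _ _
  have hsnd : IsIso (pullback.snd (c ∣_ U.1) k) :=
    MorphismProperty.of_isPullback (P := MorphismProperty.isomorphisms Scheme) left hiso
  have hpush := isPushout_appTop_of_isPullback sq
  have hsnd' : IsIso (pullback.snd (c ∣_ U.1) k).appTop :=
    inferInstanceAs (IsIso ((pullback.snd (c ∣_ U.1) k).app ⊤))
  have hflat : Flat k := inferInstance
  refine ⟨_, _, k.appTop, (pullback.fst (c ∣_ U.1) k).appTop,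
    (pullback.snd (c ∣_ U.1) k).appTop,
    (HasRingHomProperty.iff_of_isAffine (P := @Flat)).mp hflat, hpush, hsnd',
    ⟨V'.toScheme.isoSpec.hom.base v, ?_⟩⟩
  have hnat := Scheme.isoSpec_hom_naturality k
  have h2 := congrArg (fun m => m.base v) hnat
  simp only [Scheme.Hom.comp_apply] at h2
  rw [hkv, hu] at h2
  exact h2


/-- Let f : X → Y be a morphism of schemes and g : Y' → Y a faithfully flat morphism (flat and
surjective, not assumed quasi-compact). Then f is affine exactly when it is quasi-compact,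
quasi-separated, and its base change X ×_Y Y' → Y' along g is affine. -/
theorem result {X Y Y' : Scheme.{u}} (f : X ⟶ Y) (g : Y' ⟶ Y)
    [Flat g] [Surjective g] :
    IsAffineHom f ↔ QuasiCompact f ∧ QuasiSeparated f ∧ IsAffineHom (pullback.snd f g) := by
  constructor
  · intro h
    exact ⟨inferInstance, inferInstance, MorphismProperty.pullback_snd (P := @IsAffineHom) _ _ h⟩
  · rintro ⟨hqc, hqs, haff'⟩
    rw [HasAffineProperty.iff_of_iSup_eq_top (P := @IsAffineHom)
      (fun U : Y.affineOpens => U) (iSup_affineOpens_eq_top Y)]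
    intro U
    have hUa : IsAffine U.1.toScheme := U.2
    have hcpt : CompactSpace (f ⁻¹ᵁ U.1).toScheme :=
      (HasAffineProperty.iff_of_iSup_eq_top (P := @QuasiCompact)
        (fun U : Y.affineOpens => U) (iSup_affineOpens_eq_top Y)).mp hqc U
    have hqsep : QuasiSeparatedSpace (f ⁻¹ᵁ U.1).toScheme :=
      (HasAffineProperty.iff_of_iSup_eq_top (P := @QuasiSeparated)
        (fun U : Y.affineOpens => U) (iSup_affineOpens_eq_top Y)).mp hqs U
    show IsAffine (f ⁻¹ᵁ U.1).toScheme
    refine ⟨?_⟩
    -- notation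
    let Xu : Scheme.{u} := (f ⁻¹ᵁ U.1).toScheme
    let fu : Xu ⟶ U.1.toScheme := f ∣_ U.1
    let c : Xu ⟶ Spec Γ(Xu, ⊤) := Xu.toSpecΓ
    let π : Spec Γ(Xu, ⊤) ⟶ U.1.toScheme := Spec.map fu.appTop ≫ U.1.toScheme.isoSpec.inv
    have hcπ : c ≫ π = fu := by
      simp only [c, π]
      rw [← Category.assoc, ← Scheme.toSpecΓ_naturality, Category.assoc]
      have : U.1.toScheme.toSpecΓ ≫ U.1.toScheme.isoSpec.inv = 𝟙 _ := by
        rw [← Scheme.isoSpec_hom]
        exact Iso.hom_inv_id _
      rw [this, Category.comp_id]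
    show IsIso c
    apply isIso_of_flat_family c
    intro z
    let u : U.1.toScheme := π.base z
    obtain ⟨y', hy'⟩ := g.surjective u.1
    have hy'U : y' ∈ g ⁻¹ᵁ U.1 := by
      show g.base y' ∈ U.1
      rw [hy']
      exact u.2
    obtain ⟨V', hV', hy'V, hV'le⟩ : ∃ W : Y'.Opens, IsAffineOpen W ∧ y' ∈ W ∧ W ≤ g ⁻¹ᵁ U.1 := by
      obtain ⟨_, ⟨W, hW, rfl⟩, hyW, hWle⟩ :=
        Y'.isBasis_affineOpens.exists_subset_of_mem_open hy'U (g ⁻¹ᵁ U.1).isOpen
      exact ⟨W, hW, hyW, hWle⟩
    have hV'a : IsAffine V'.toScheme := hV'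
    let k : V'.toScheme ⟶ U.1.toScheme := g.resLE U.1 V' hV'le
    let v : V'.toScheme := ⟨y', hy'V⟩
    have hkv : k.base v = u := by
      apply Subtype.ext
      have h1 : (k ≫ U.1.ι).base v = (V'.ι ≫ g).base v := by
        rw [Scheme.Hom.resLE_comp_ι]
      rw [Scheme.Hom.comp_apply, Scheme.Hom.comp_apply, Scheme.Opens.ι_apply,
        Scheme.Opens.ι_apply] at h1
      exact h1.trans hy'
    have hflatk : Flat k := inferInstance
    let h : pullback π k ⟶ Spec Γ(Xu, ⊤) := pullback.fst π k
    have hflath : Flat h := inferInstance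
    refine ⟨pullback π k, h, hflath, ?_, ?_⟩
    · obtain ⟨w, hw, _⟩ := Scheme.Pullback.exists_preimage_pullback (f := π) (g := k) z v hkv.symm
      exact ⟨w, hw⟩
    · -- the squares
      have sqL : IsPullback (pullback.snd c h) (pullback.fst c h) h c :=
        (IsPullback.of_hasPullback c h).flip
      have sqR : IsPullback (pullback.snd π k) (pullback.fst π k) k π :=
        (IsPullback.of_hasPullback π k).flip
      have bigU : IsPullback (pullback.fst c h) (pullback.snd c h ≫ pullback.snd π k) fu k := by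
        have := (sqL.paste_horiz sqR).flip
        rw [hcπ] at this
        exact this
      -- the source of the base change is affine
      have big : IsPullback (pullback.fst c h ≫ (f ⁻¹ᵁ U.1).ι)
          (pullback.snd c h ≫ pullback.snd π k) f (k ≫ U.1.ι) :=
        bigU.paste_horiz (isPullback_morphismRestrict f U.1).flip
      rw [Scheme.Hom.resLE_comp_ι] at big
      let l : pullback c h ⟶ pullback f g :=
        pullback.lift (pullback.fst c h ≫ (f ⁻¹ᵁ U.1).ι)
          ((pullback.snd c h ≫ pullback.snd π k) ≫ V'.ι)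
          (by rw [Category.assoc, Category.assoc (pullback.snd c h ≫ pullback.snd π k)];
              exact (Category.assoc _ _ _).symm.trans big.w)
      have left : IsPullback l (pullback.snd c h ≫ pullback.snd π k) (pullback.snd f g) V'.ι := by
        refine IsPullback.of_right ?_ ?_ (IsPullback.of_hasPullback f g)
        · have hl : l ≫ pullback.fst f g = pullback.fst c h ≫ (f ⁻¹ᵁ U.1).ι :=
            pullback.lift_fst _ _ _
          rw [hl]
          exact big
        · exact pullback.lift_snd _ _ _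
      have haffW : IsAffineHom (pullback.snd c h ≫ pullback.snd π k) :=
        MorphismProperty.of_isPullback (P := @IsAffineHom) left haff'
      have hWaff : IsAffine (pullback c h) :=
        isAffine_of_isAffineHom (pullback.snd c h ≫ pullback.snd π k)
      -- flat base change
      have hfb : IsIso (pushoutSection bigU (US := ⊤) (UT := ⊤) (UX := ⊤) (UY := ⊤)
          (by simp) (by simp) (by simp)) :=
        isIso_pushoutSection_of_isQuasiSeparated_of_flat_right bigU _ _ _
          (isAffineOpen_top _) (isAffineOpen_top _) (by simpa using isCompact_univ)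
          (by simpa using isQuasiSeparated_univ)
      rw [isIso_pushoutSection_iff] at hfb
      have hfb' : IsPushout fu.appTop k.appTop (pullback.fst c h).appTop
          (pullback.snd c h ≫ pullback.snd π k).appTop := by
        rw [appLE_top_top, appLE_top_top, appLE_top_top, appLE_top_top] at hfb
        exact hfb
      have hR : IsPushout π.appTop k.appTop (pullback.fst π k).appTop (pullback.snd π k).appTop :=
        isPushout_appTop_of_isPullback (IsPullback.of_hasPullback π k)
      have hfu : fu.appTop = π.appTop ≫ c.appTop := by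
        rw [← Scheme.Hom.comp_appTop, hcπ]
      rw [hfu, Scheme.Hom.comp_appTop] at hfb'
      have hL : IsPushout c.appTop h.appTop (pullback.fst c h).appTop (pullback.snd c h).appTop := by
        refine IsPushout.of_left hfb' ?_ hR
        rw [← Scheme.Hom.comp_appTop, ← Scheme.Hom.comp_appTop, pullback.condition]
      have hciso : IsIso c.appTop := by
        simp only [c]
        rw [Scheme.toSpecΓ_appTop]
        infer_instance
      have hsndTop : IsIso (pullback.snd c h).appTop := hL.isIso_inr_of_isIso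
      rw [← MorphismProperty.isomorphisms.iff,
        HasAffineProperty.iff_of_isAffine (P := MorphismProperty.isomorphisms Scheme)]
      exact ⟨hWaff, hsndTop⟩

end Groth.Agent.S13711
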