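import Groth.Statements.S13718
import Groth.Agent.H74.CayleyHam

set_option autoImplicit false
universe u
open scoped TensorProduct
open ZeroCyc

namespace Groth.Agent.S13718

/-- Let φ : B' → B be a map of commutative algebras over the commutative ring A and F : B → A a
multiplicative polynomial law homogeneous of degree d, with push-forward the law F ∘ φ : B' → A.
Then the radical of the kernel of F ∘ φ equals the radical of the inverse image under φ of the
kernel of F: the support of the pushed-forward family of zero-cycles on Spec B' is the image of the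
support of the family on Spec B. (The published statement is for affine morphisms X → Y → S of
algebraic spaces; this row is the case of an affine base.) -/
theorem result {A : Type u} [CommRing A] {B : Type u} [CommRing B] [Algebra A B]
    {B' : Type u} [CommRing B'] [Algebra A B'] {d : ℕ} (F : PolLaw.MulLaw A B A d) (φ : B' →ₐ[A] B) :
    (PolLaw.ker (F.precomp φ).law).radical = ((PolLaw.ker F.law).comap φ).radical := by
  apply le_antisymm
  · apply Ideal.radical_le_radical_iff.2
    intro b' hb'
    refine ⟨d, ?_⟩
    rw [Ideal.mem_comap, map_pow]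
    have hCH := Groth.Agent.H74.CayleyHam.CH F (φ b')
    have hχ : Groth.Agent.H74.CayleyHam.charpoly F (φ b') = (-Polynomial.X) ^ d := by
      rw [Groth.Agent.H74.CayleyHam.charpoly, ← Groth.Agent.H74.CayleyHam.u₀_map φ b']
      have h1 : F.law.toFun' (Polynomial A)
          (φ.toLinearMap.lTensor (Polynomial A) (Groth.Agent.H74.CayleyHam.u₀ A b')) =
          (F.precomp φ).law.toFun' (Polynomial A) (Groth.Agent.H74.CayleyHam.u₀ A b') := rfl
      rw [h1]
      have h2 : Groth.Agent.H74.CayleyHam.u₀ A b' =
          (-(Polynomial.X ⊗ₜ[A] (1 : B')) : Polynomial A ⊗[A] B') +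
            1 * ((1 : Polynomial A) ⊗ₜ[A] b') := by
        rw [Groth.Agent.H74.CayleyHam.u₀, one_mul]; abel
      rw [h2, hb' (Polynomial A) _ 1]
      have h3 : (-(Polynomial.X ⊗ₜ[A] (1 : B')) : Polynomial A ⊗[A] B') =
          (-Polynomial.X : Polynomial A) • (1 : Polynomial A ⊗[A] B') := by
        rw [Algebra.TensorProduct.one_def, TensorProduct.smul_tmul', smul_eq_mul, mul_one,
          TensorProduct.neg_tmul]
      rw [h3, (F.precomp φ).homog, ((F.precomp φ).mult _).1]
      rw [Algebra.TensorProduct.one_def, TensorProduct.smul_tmul', TensorProduct.rid_tmul]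
      simp
    rw [hχ] at hCH
    rw [map_pow, map_neg, Polynomial.aeval_X, neg_pow] at hCH
    have h4 := Ideal.mul_mem_left _ ((-1 : B) ^ d) hCH
    rw [← mul_assoc, ← mul_pow, neg_one_mul, neg_neg, one_pow, one_mul] at h4
    exact h4
  · apply Ideal.radical_mono
    intro b' hb'
    rw [Ideal.mem_comap] at hb'
    intro S _ _ x w
    show F.law.toFun' S (φ.toLinearMap.lTensor S (x + w * ((1 : S) ⊗ₜ[A] b'))) =
      F.law.toFun' S (φ.toLinearMap.lTensor S x)
    rw [map_add, PolLaw.lTensor_algHom_apply φ S (w * _), map_mul, ← PolLaw.lTensor_algHom_apply,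
      Algebra.TensorProduct.map_tmul, AlgHom.id_apply]
    exact hb' S _ _

end Groth.Agent.S13718
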