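import Groth.Statements.S13720


set_option autoImplicit false
universe u
open scoped TensorProduct
open ZeroCyc

namespace Groth.Agent.S13720

/-- the precomposed law evaluated on a test algebra -/
theorem precomp_toFun' {A : Type u} [CommRing A] {B B' C : Type u} [CommRing B] [Algebra A B]
    [CommRing B'] [Algebra A B'] [CommRing C] [Algebra A C] {d : ℕ} (F : PolLaw.MulLaw A B C d)
    (f : B' →ₐ[A] B) (S : Type u) [CommSemiring S] [Algebra A S] (z : S ⊗[A] B') :
    (F.precomp f).law.toFun' S z =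
      F.law.toFun' S (Algebra.TensorProduct.map (AlgHom.id S S) f z) := by
  rw [← PolLaw.lTensor_algHom_apply]
  rfl

/-- lifting a tensor to a finite stage of a direct system -/
theorem exists_lift {A : Type u} [CommRing A] {B : Type u} [CommRing B] [Algebra A B]
    {ι : Type u} [Preorder ι] [IsDirected ι (fun i j => i ≤ j)]
    (Bi : ι → Type u) [∀ i, CommRing (Bi i)] [∀ i, Algebra A (Bi i)]
    (t : ∀ i j : ι, i ≤ j → (Bi i →ₐ[A] Bi j)) (φ : ∀ i : ι, Bi i →ₐ[A] B)
    (hcomp : ∀ (i j : ι) (h : i ≤ j), (φ j).comp (t i j h) = φ i)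
    (hsurj : ∀ b : B, ∃ (i : ι) (x : Bi i), φ i x = b)
    (S : Type u) [CommSemiring S] [Algebra A S] (z : S ⊗[A] B) (i₀ : ι) :
    ∃ (j : ι) (_ : i₀ ≤ j) (z' : S ⊗[A] Bi j),
      Algebra.TensorProduct.map (AlgHom.id S S) (φ j) z' = z := by
  induction z using TensorProduct.induction_on with
  | zero => exact ⟨i₀, le_rfl, 0, map_zero _⟩
  | tmul s b =>
    obtain ⟨k, x, hx⟩ := hsurj b
    obtain ⟨j, hj₁, hj₂⟩ := exists_ge_ge i₀ k
    refine ⟨j, hj₁, s ⊗ₜ[A] t k j hj₂ x, ?_⟩
    rw [Algebra.TensorProduct.map_tmul, AlgHom.id_apply, ← AlgHom.comp_apply, hcomp, hx]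
  | add z₁ z₂ h₁ h₂ =>
    obtain ⟨j₁, hj₁, z₁', hz₁⟩ := h₁
    obtain ⟨j₂, hj₂, z₂', hz₂⟩ := h₂
    obtain ⟨j, hj₁', hj₂'⟩ := exists_ge_ge j₁ j₂
    refine ⟨j, hj₁.trans hj₁', Algebra.TensorProduct.map (AlgHom.id S S) (t j₁ j hj₁') z₁' +
      Algebra.TensorProduct.map (AlgHom.id S S) (t j₂ j hj₂') z₂', ?_⟩
    rw [map_add, ← AlgHom.comp_apply, ← AlgHom.comp_apply, ← Algebra.TensorProduct.map_comp,
      ← Algebra.TensorProduct.map_comp, hcomp, hcomp, AlgHom.comp_id, hz₁, hz₂]

/-- Let B be the filtered direct limit of a directed system (B_i, t_ij : B_i → B_j) of commutative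
algebras over the commutative ring A, with structure maps φ_i : B_i → B (jointly surjective, and an
element of B_i vanishing in B already vanishes in some B_j), and let F : B → C be a multiplicative
polynomial law homogeneous of degree d, with restrictions F_i = F ∘ φ_i. Then an element b of B lies
in the kernel of F if and only if it is the image of some x ∈ B_i whose images in B_j lie in the
kernel of F_j for every j ≥ i; that is, the kernel of F is the direct limit of the kernels of the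
F_i. -/
theorem result {A : Type u} [CommRing A] {B : Type u} [CommRing B] [Algebra A B]
    {C : Type u} [CommRing C] [Algebra A C] {ι : Type u} [Preorder ι] [IsDirected ι (fun i j => i ≤ j)] [Nonempty ι]
    (Bi : ι → Type u) [∀ i, CommRing (Bi i)] [∀ i, Algebra A (Bi i)]
    (t : ∀ i j : ι, i ≤ j → (Bi i →ₐ[A] Bi j)) (φ : ∀ i : ι, Bi i →ₐ[A] B)
    (hcomp : ∀ (i j : ι) (h : i ≤ j), (φ j).comp (t i j h) = φ i)
    (hsurj : ∀ b : B, ∃ (i : ι) (x : Bi i), φ i x = b)
    (hzero : ∀ (i : ι) (x : Bi i), φ i x = 0 → ∃ (j : ι) (h : i ≤ j), t i j h x = 0)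
    {d : ℕ} (F : PolLaw.MulLaw A B C d) (b : B) :
    b ∈ PolLaw.ker F.law ↔ ∃ (i : ι) (x : Bi i), φ i x = b ∧
      ∀ (j : ι) (h : i ≤ j), t i j h x ∈ PolLaw.ker (F.precomp (φ j)).law := by
  constructor
  · intro hb
    obtain ⟨i, x, hx⟩ := hsurj b
    refine ⟨i, x, hx, ?_⟩
    intro j hij S _ _ x' w'
    rw [precomp_toFun', precomp_toFun', map_add, map_mul, Algebra.TensorProduct.map_tmul,
      AlgHom.id_apply, ← AlgHom.comp_apply, hcomp, hx]
    exact hb S _ _
  · rintro ⟨i, x, hx, hker⟩ S _ _ x' w'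
    obtain ⟨j₁, hj₁, x₁, hx₁⟩ := exists_lift Bi t φ hcomp hsurj S x' i
    obtain ⟨j, hj, w'', hw''⟩ := exists_lift Bi t φ hcomp hsurj S w' j₁
    have hij : i ≤ j := hj₁.trans hj
    obtain ⟨x'', hx3⟩ : ∃ x'' : S ⊗[A] Bi j,
        Algebra.TensorProduct.map (AlgHom.id S S) (φ j) x'' = x' := by
      refine ⟨Algebra.TensorProduct.map (AlgHom.id S S) (t j₁ j hj) x₁, ?_⟩
      rw [← AlgHom.comp_apply, ← Algebra.TensorProduct.map_comp, hcomp, AlgHom.comp_id, hx₁]
    have e : (φ j) ((t i j hij) x) = b := by rw [← AlgHom.comp_apply, hcomp, hx]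
    have h := hker j hij S x'' w''
    rw [precomp_toFun', precomp_toFun', map_add, map_mul, Algebra.TensorProduct.map_tmul,
      AlgHom.id_apply, e, hx3, hw''] at h
    exact h

end Groth.Agent.S13720
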