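import Groth.Statements.S13721
import Mathlib
import Groth.Agent.H76.PolLawBC
-- import your own Groth.Agent.* helpers here

set_option autoImplicit false
universe u
open scoped TensorProduct
open ZeroCyc

namespace Groth.Agent.S13721


open Groth.Agent.H76.PolLawBC

theorem exists_lift_left {A : Type u} [CommRing A] {B : Type u} [CommRing B] [Algebra A B]
    {A' : Type u} [CommRing A'] [Algebra A A'] {ι : Type u} [Preorder ι]
    [IsDirected ι (fun i j => i ≤ j)] [Nonempty ι]
    (Ai : ι → Type u) [∀ i, CommRing (Ai i)] [∀ i, Algebra A (Ai i)]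
    (t : ∀ i j : ι, i ≤ j → (Ai i →ₐ[A] Ai j)) (φ : ∀ i : ι, Ai i →ₐ[A] A')
    (hcomp : ∀ (i j : ι) (h : i ≤ j), (φ j).comp (t i j h) = φ i)
    (hsurj : ∀ a : A', ∃ (i : ι) (x : Ai i), φ i x = a) (z : A' ⊗[A] B) :
    ∃ (j : ι) (c : Ai j ⊗[A] B), Algebra.TensorProduct.map (φ j) (AlgHom.id A B) c = z := by
  induction z using TensorProduct.induction_on with
  | zero => exact ⟨Classical.arbitrary ι, 0, map_zero _⟩
  | tmul a b =>
    obtain ⟨k, x, hx⟩ := hsurj a
    exact ⟨k, x ⊗ₜ[A] b, by rw [Algebra.TensorProduct.map_tmul, hx, AlgHom.id_apply]⟩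
  | add z₁ z₂ h₁ h₂ =>
    obtain ⟨j₁, c₁, hc₁⟩ := h₁
    obtain ⟨j₂, c₂, hc₂⟩ := h₂
    obtain ⟨j, hj₁, hj₂⟩ := exists_ge_ge j₁ j₂
    refine ⟨j, Algebra.TensorProduct.map (t j₁ j hj₁) (AlgHom.id A B) c₁ +
      Algebra.TensorProduct.map (t j₂ j hj₂) (AlgHom.id A B) c₂, ?_⟩
    rw [map_add, map_map_apply, map_map_apply, hcomp, hcomp, hc₁, hc₂]



/-- Let F : B → A be a multiplicative polynomial law homogeneous of degree d over the commutative ring
A, on a commutative A-algebra B which is finite as an A-module, and let A' be the filtered direct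
limit of a directed system (A'_i, t_ij) of commutative A-algebras (t_ii the identity, t_jk ∘ t_ij =
t_ik) with structure maps φ_i : A'_i → A' (compatible with the t_ij, jointly surjective, and an
element of A'_i vanishing in A' already vanishes in some A'_j). Then the kernel of the base change
of F to A', an ideal of A' ⊗_A B, is the supremum over i of the extensions along φ_i ⊗ B of the
kernels of the base changes of F to the A'_i: the kernel of the base-changed law is the direct limit
of the kernels. (The published statement has no finiteness hypothesis on B and is false without one: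
for a suitable algebra B that is not finitely generated and a suitable directed system of quotients
of A, an element of A' ⊗_A B lies in the kernel over the limit although it comes from the kernel at
no finite stage, because the conditions cutting out the kernel at an element are infinitely many and
die one at a time along the system; the published proof's reduction to finite B does not go through.
This row assumes B finite over A, the case that proof establishes.) -/
theorem result {A : Type u} [CommRing A] {B : Type u} [CommRing B] [Algebra A B]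
    [Module.Finite A B] {A' : Type u} [CommRing A'] [Algebra A A'] {ι : Type u} [Preorder ι] [IsDirected ι (fun i j => i ≤ j)] [Nonempty ι]
    (Ai : ι → Type u) [∀ i, CommRing (Ai i)] [∀ i, Algebra A (Ai i)]
    (t : ∀ i j : ι, i ≤ j → (Ai i →ₐ[A] Ai j)) (φ : ∀ i : ι, Ai i →ₐ[A] A')
    (hcomp : ∀ (i j : ι) (h : i ≤ j), (φ j).comp (t i j h) = φ i)
    (hsurj : ∀ a : A', ∃ (i : ι) (x : Ai i), φ i x = a)
    (hzero : ∀ (i : ι) (x : Ai i), φ i x = 0 → ∃ (j : ι) (h : i ≤ j), t i j h x = 0)
    (hid : ∀ (i : ι) (h : i ≤ i), t i i h = AlgHom.id A (Ai i))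
    (htrans : ∀ (i j k : ι) (hij : i ≤ j) (hjk : j ≤ k), (t j k hjk).comp (t i j hij) = t i k (hij.trans hjk))
    {d : ℕ} (F : PolLaw.MulLaw A B A d) :
    PolLaw.kerBC F.law A' =
      ⨆ i : ι, (PolLaw.kerBC F.law (Ai i)).map (Algebra.TensorProduct.map (φ i) (AlgHom.id A B)) := by
  classical
  obtain ⟨n, e, he⟩ := Module.Finite.exists_fin (R := A) (M := B)
  apply le_antisymm
  · intro b' hb'
    obtain ⟨i, c, hc⟩ := exists_lift_left Ai t φ hcomp hsurj b'
    have h1 : P1 e F.law A' b' = P0 e F.law A' := (mem_kerBC_iff e he F.law A' b').mp hb'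
    have h2 : MvPolynomial.mapAlgHom (φ i) (P1 e F.law (Ai i) c) =
        MvPolynomial.mapAlgHom (φ i) (P0 e F.law (Ai i)) := by
      rw [mapHom_P1, mapHom_P0, hc, h1]
    have h3 : ∀ α, ∃ (j : ι) (h : i ≤ j),
        t i j h ((P1 e F.law (Ai i) c).coeff α - (P0 e F.law (Ai i)).coeff α) = 0 := by
      intro α
      apply hzero
      have := congrArg (MvPolynomial.coeff α) h2
      rw [MvPolynomial.mapAlgHom_apply, MvPolynomial.mapAlgHom_apply, MvPolynomial.coeff_map,
        MvPolynomial.coeff_map] at this
      rw [map_sub, sub_eq_zero]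
      exact this
    choose jα hjα hjα0 using h3
    let s : Finset (Fin n ⊕ Fin n →₀ ℕ) :=
      (P1 e F.law (Ai i) c).support ∪ (P0 e F.law (Ai i)).support
    obtain ⟨j, hj⟩ := Finset.exists_le (s.image jα ∪ {i})
    have hij : i ≤ j := hj i (Finset.mem_union_right _ (Finset.mem_singleton_self i))
    have h4 : MvPolynomial.mapAlgHom (t i j hij) (P1 e F.law (Ai i) c) =
        MvPolynomial.mapAlgHom (t i j hij) (P0 e F.law (Ai i)) := by
      ext α
      rw [MvPolynomial.mapAlgHom_apply, MvPolynomial.mapAlgHom_apply, MvPolynomial.coeff_map,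
        MvPolynomial.coeff_map]
      show t i j hij ((P1 e F.law (Ai i) c).coeff α) = t i j hij ((P0 e F.law (Ai i)).coeff α)
      by_cases hα : α ∈ s
      · have hαj : jα α ≤ j := hj _ (Finset.mem_union_left _ (Finset.mem_image_of_mem _ hα))
        have h5 : t i j hij = (t (jα α) j hαj).comp (t i (jα α) (hjα α)) :=
          (htrans _ _ _ _ _).symm
        rw [← sub_eq_zero, ← map_sub, h5, AlgHom.comp_apply, hjα0 α, map_zero]
      · have h6 : (P1 e F.law (Ai i) c).coeff α = 0 := by
          by_contra hne
          exact hα (Finset.mem_union_left _ (MvPolynomial.mem_support_iff.mpr hne))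
        have h7 : (P0 e F.law (Ai i)).coeff α = 0 := by
          by_contra hne
          exact hα (Finset.mem_union_right _ (MvPolynomial.mem_support_iff.mpr hne))
        rw [h6, h7]
    rw [mapHom_P1, mapHom_P0] at h4
    have h8 : Algebra.TensorProduct.map (t i j hij) (AlgHom.id A B) c ∈ PolLaw.kerBC F.law (Ai j) :=
      (mem_kerBC_iff e he F.law (Ai j) _).mpr h4
    have h9 : Algebra.TensorProduct.map (φ j) (AlgHom.id A B)
        (Algebra.TensorProduct.map (t i j hij) (AlgHom.id A B) c) = b' := by
      rw [map_map_apply, hcomp, hc]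
    rw [← h9]
    exact (le_iSup (fun i => (PolLaw.kerBC F.law (Ai i)).map
      (Algebra.TensorProduct.map (φ i) (AlgHom.id A B))) j) (Ideal.mem_map_of_mem _ h8)
  · apply iSup_le
    intro i
    rw [Ideal.map_le_iff_le_comap]
    intro c hc
    rw [Ideal.mem_comap]
    intro R _ _ _ _ x w
    letI : Algebra (Ai i) R := ((algebraMap A' R).comp (φ i : Ai i →+* A')).toAlgebra
    haveI : IsScalarTower A (Ai i) R := IsScalarTower.of_algebraMap_eq (fun a => by
      show algebraMap A R a = algebraMap A' R (φ i (algebraMap A (Ai i) a))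
      rw [AlgHom.commutes, ← IsScalarTower.algebraMap_apply])
    have h := hc R x w
    have e1 : (IsScalarTower.toAlgHom A A' R).comp (φ i) = IsScalarTower.toAlgHom A (Ai i) R :=
      AlgHom.ext (fun a => rfl)
    rw [map_map_apply, e1]
    exact h

end Groth.Agent.S13721
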