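import Groth.Statements.S13722
import Mathlib

set_option autoImplicit false
universe u
open scoped TensorProduct
open ZeroCyc

namespace Groth.Agent.S13722

open Polynomial

/-- over a domain: if `P(X) * P(-X)` is constant then `P` takes the same value at `0` and `1` -/
theorem eval_eq_of_domain {D : Type*} [CommRing D] [IsDomain D] (P : D[X]) (c : D)
    (h : P * P.comp (-X) = C c) : P.eval 1 = P.eval 0 := by
  by_cases hP : P = 0
  · simp [hP]
  have hXX : (-X : D[X]).comp (-X) = X := by simp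
  have hcomp : P.comp (-X) ≠ 0 := by
    intro h0
    apply hP
    have h1 : (P.comp (-X)).comp (-X) = P := by
      rw [Polynomial.comp_assoc, hXX, Polynomial.comp_X]
    rw [← h1, h0, Polynomial.zero_comp]
  have hdeg : (P * P.comp (-X)).natDegree = P.natDegree + (P.comp (-X)).natDegree :=
    Polynomial.natDegree_mul hP hcomp
  rw [h, Polynomial.natDegree_C, Polynomial.natDegree_comp, Polynomial.natDegree_neg,
    Polynomial.natDegree_X, mul_one] at hdeg
  have h0 : P.natDegree = 0 := by omega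
  rw [Polynomial.eq_C_of_natDegree_eq_zero h0]
  simp

/-- over a reduced ring: if `P(X) * P(-X)` is constant then `P` takes the same value at `0`, `1` -/
theorem eval_eq_of_reduced {R : Type*} [CommRing R] [IsReduced R] (P : R[X]) (c : R)
    (h : P * P.comp (-X) = C c) : P.eval 1 = P.eval 0 := by
  have hnil : P.eval 1 - P.eval 0 ∈ nilradical R := by
    rw [nilradical_eq_sInf, Ideal.mem_sInf]
    intro 𝔭 h𝔭
    have hprime : 𝔭.IsPrime := h𝔭
    let f := Ideal.Quotient.mk 𝔭
    have hQ : (P.map f) * (P.map f).comp (-X) = C (f c) := by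
      have h1 := congrArg (Polynomial.map f) h
      simpa [Polynomial.map_mul, Polynomial.map_comp] using h1
    have key : (P.map f).eval 1 = (P.map f).eval 0 := eval_eq_of_domain (P.map f) (f c) hQ
    have e1 : (P.map f).eval 1 = f (P.eval 1) := by
      have h2 := Polynomial.eval₂_hom (p := P) f (1 : R)
      rw [map_one] at h2
      rw [Polynomial.eval_map]
      exact h2
    have e0 : (P.map f).eval 0 = f (P.eval 0) := by
      have h2 := Polynomial.eval₂_hom (p := P) f (0 : R)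
      rw [map_zero] at h2
      rw [Polynomial.eval_map]
      exact h2
    rw [e1, e0] at key
    show P.eval 1 - P.eval 0 ∈ 𝔭
    rw [← Ideal.Quotient.eq_zero_iff_mem, map_sub, sub_eq_zero]
    exact key
  rw [nilradical_eq_zero] at hnil
  exact sub_eq_zero.mp (by simpa using hnil)

section law

variable {A : Type u} [CommRing A] {B : Type u} [CommRing B] [Algebra A B]
    {C : Type u} [CommRing C] [Algebra A C]

/-- simultaneous lift of two tensors to a polynomial test algebra -/
theorem exists_lift₂ {S : Type u} [CommSemiring S] [Algebra A S] (t₁ t₂ : S ⊗[A] B) :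
    ∃ (n : ℕ) (ψ : MvPolynomial (Fin n) A →ₐ[A] S) (p₁ p₂ : MvPolynomial (Fin n) A ⊗[A] B),
      ψ.toLinearMap.rTensor B p₁ = t₁ ∧ ψ.toLinearMap.rTensor B p₂ = t₂ := by
  obtain ⟨A₁, hA₁, ht₁⟩ := TensorProduct.Algebra.exists_of_fg t₁
  obtain ⟨A₂, hA₂, ht₂⟩ := TensorProduct.Algebra.exists_of_fg t₂
  have hB : Subalgebra.FG (A₁ ⊔ A₂) := Subalgebra.FG.sup hA₁ hA₂
  obtain ⟨gen, hgen⟩ := PolynomialLaw.exists_range_φ_eq_of_fg hB
  have h1 : A₁ ≤ (PolynomialLaw.φ A gen).range := hgen ▸ le_sup_left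
  have h2 : A₂ ≤ (PolynomialLaw.φ A gen).range := hgen ▸ le_sup_right
  obtain ⟨p₁, hp₁⟩ := PolynomialLaw.exists_lift_of_mem_range_rTensor _ h1 ht₁
  obtain ⟨p₂, hp₂⟩ := PolynomialLaw.exists_lift_of_mem_range_rTensor _ h2 ht₂
  exact ⟨gen.card, PolynomialLaw.φ A gen, p₁, p₂, hp₁, hp₂⟩

theorem rTensor_algHom_apply' {M : Type u} [CommRing M] [Algebra A M]
    {S S' : Type u} [CommSemiring S] [Algebra A S] [CommSemiring S'] [Algebra A S']
    (φ : S →ₐ[A] S') (x : S ⊗[A] M) :
    φ.toLinearMap.rTensor M x = Algebra.TensorProduct.map φ (AlgHom.id A M) x := by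
  induction x using TensorProduct.induction_on with
  | zero => simp
  | tmul a b => rfl
  | add a b ha hb => simp [ha, hb]

/-- base change of an algebra map along `B` -/
noncomputable abbrev bc {S S' : Type u} [CommSemiring S] [Algebra A S] [CommSemiring S']
    [Algebra A S'] (φ : S →ₐ[A] S') : S ⊗[A] B →ₐ[A] S' ⊗[A] B :=
  Algebra.TensorProduct.map φ (AlgHom.id A B)

theorem bc_comp {S S' S'' : Type u} [CommSemiring S] [Algebra A S] [CommSemiring S']
    [Algebra A S'] [CommSemiring S''] [Algebra A S''] (φ : S →ₐ[A] S') (ψ : S' →ₐ[A] S'')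
    (z : S ⊗[A] B) : bc ψ (bc φ z) = bc (ψ.comp φ) z := by
  induction z using TensorProduct.induction_on with
  | zero => simp
  | tmul a b => rfl
  | add a b ha hb => simp only [map_add, ha, hb]

/-- compatibility of a law with algebra maps, in terms of `Algebra.TensorProduct.map` -/
theorem compat (F : B →ₚₗ[A] C) {S S' : Type u} [CommSemiring S] [Algebra A S] [CommSemiring S']
    [Algebra A S'] (φ : S →ₐ[A] S') (z : S ⊗[A] B) :
    Algebra.TensorProduct.map φ (AlgHom.id A C) (F.toFun' S z) =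
      F.toFun' S' (Algebra.TensorProduct.map φ (AlgHom.id A B) z) := by
  rw [← rTensor_algHom_apply', ← rTensor_algHom_apply']
  exact PolynomialLaw.isCompat_apply' (f := F) φ z

/-- kernel membership can be tested on polynomial test algebras -/
theorem mem_ker_of_forall_mvPolynomial (F : B →ₚₗ[A] C) (b : B)
    (H : ∀ (n : ℕ) (x w : MvPolynomial (Fin n) A ⊗[A] B),
      F.toFun' (MvPolynomial (Fin n) A) (x + w * ((1 : MvPolynomial (Fin n) A) ⊗ₜ[A] b)) =
        F.toFun' (MvPolynomial (Fin n) A) x) :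
    b ∈ PolLaw.ker F := by
  intro S _ _ x w
  obtain ⟨n, ψ, x', w', hx', hw'⟩ := exists_lift₂ (A := A) (B := B) x w
  rw [rTensor_algHom_apply'] at hx' hw'
  have h1 : x + w * ((1 : S) ⊗ₜ[A] b) = Algebra.TensorProduct.map ψ (AlgHom.id A B)
      (x' + w' * ((1 : MvPolynomial (Fin n) A) ⊗ₜ[A] b)) := by
    rw [map_add, map_mul, hx', hw', Algebra.TensorProduct.map_tmul, map_one, AlgHom.id_apply]
  rw [h1, ← compat, H n x' w', compat, hx']

/-- evaluation into the test algebra of a law followed by an algebra map from the target -/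
noncomputable def mu {T : Type u} [CommSemiring T] [Algebra A T] (τ : C →ₐ[A] T) :
    T ⊗[A] C →ₐ[A] T :=
  Algebra.TensorProduct.lift (AlgHom.id A T) τ (fun _ _ => Commute.all _ _)

theorem mu_comp {T T' : Type u} [CommSemiring T] [Algebra A T] [CommSemiring T'] [Algebra A T']
    (τ : C →ₐ[A] T) (ψ : T →ₐ[A] T') :
    ψ.comp (mu τ) = (mu (ψ.comp τ)).comp (Algebra.TensorProduct.map ψ (AlgHom.id A C)) := by
  apply Algebra.TensorProduct.ext'
  intro a c
  simp [mu, Algebra.TensorProduct.lift_tmul]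

/-- naturality of `mu ∘ F` -/
theorem mu_natural (F : B →ₚₗ[A] C) {T T' : Type u} [CommSemiring T] [Algebra A T]
    [CommSemiring T'] [Algebra A T'] (τ : C →ₐ[A] T) (ψ : T →ₐ[A] T') (z : T ⊗[A] B) :
    ψ (mu τ (F.toFun' T z)) =
      mu (ψ.comp τ) (F.toFun' T' (Algebra.TensorProduct.map ψ (AlgHom.id A B) z)) := by
  rw [← compat, ← AlgHom.comp_apply, mu_comp, AlgHom.comp_apply]

/-- the core computation: over a test ring `S₀` with `S₀ ⊗ C` reduced, an element whose square
lies in the kernel of a multiplicative law satisfies the kernel condition -/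
theorem core {d : ℕ} (F : PolLaw.MulLaw A B C d) (b : B) (hb : b ^ 2 ∈ PolLaw.ker F.law)
    (S₀ : Type u) [CommRing S₀] [Algebra A S₀] [IsReduced (S₀ ⊗[A] C)] (x w : S₀ ⊗[A] B) :
    F.law.toFun' S₀ (x + w * ((1 : S₀) ⊗ₜ[A] b)) = F.law.toFun' S₀ x := by
  -- notation
  let R₀ := S₀ ⊗[A] C
  let T := Polynomial R₀
  let σ : S₀ →ₐ[A] R₀ := Algebra.TensorProduct.includeLeft
  let τ₀ : C →ₐ[A] R₀ := Algebra.TensorProduct.includeRight
  let Ca : R₀ →ₐ[A] T := Polynomial.CAlgHom
  let lam : S₀ →ₐ[A] T := Ca.comp σ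
  let τT : C →ₐ[A] T := Ca.comp τ₀
  let ev : R₀ → (T →ₐ[A] R₀) := fun a => (Polynomial.aeval a).restrictScalars A
  let nu : T →ₐ[A] T := (Polynomial.aeval (-X : T)).restrictScalars A
  have hev_eval : ∀ (a : R₀) (Q : T), ev a Q = Q.eval a := by
    intro a Q
    show Polynomial.aeval a Q = Q.eval a
    rw [Polynomial.coe_aeval_eq_eval]
  have hevCa : ∀ a, (ev a).comp Ca = AlgHom.id A R₀ := by
    intro a
    refine AlgHom.ext (fun r => ?_)
    show Polynomial.aeval a (Polynomial.C r) = r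
    rw [Polynomial.aeval_C]
    rfl
  have hnuCa : nu.comp Ca = Ca := by
    refine AlgHom.ext (fun r => ?_)
    show Polynomial.aeval (-X : T) (Polynomial.C r) = Polynomial.C r
    rw [Polynomial.aeval_C]
    rfl
  -- the key identification over R₀
  have key0 : ∀ z : S₀ ⊗[A] B, mu τ₀ (F.law.toFun' R₀ (bc σ z)) = F.law.toFun' S₀ z := by
    intro z
    rw [← compat]
    have h1 : (mu τ₀).comp (Algebra.TensorProduct.map σ (AlgHom.id A C)) = AlgHom.id A R₀ := by
      apply Algebra.TensorProduct.ext'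
      intro s c
      show mu τ₀ (Algebra.TensorProduct.map σ (AlgHom.id A C) (s ⊗ₜ[A] c)) = s ⊗ₜ[A] c
      rw [Algebra.TensorProduct.map_tmul, AlgHom.id_apply]
      show Algebra.TensorProduct.lift (AlgHom.id A R₀) τ₀ _ (σ s ⊗ₜ[A] c) = _
      rw [Algebra.TensorProduct.lift_tmul, AlgHom.id_apply]
      show (s ⊗ₜ[A] (1 : C)) * ((1 : S₀) ⊗ₜ[A] c) = s ⊗ₜ[A] c
      rw [Algebra.TensorProduct.tmul_mul_tmul, mul_one, one_mul]
    rw [← AlgHom.comp_apply, h1, AlgHom.id_apply]
  -- elements over T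
  let xT : T ⊗[A] B := bc lam x
  let wT : T ⊗[A] B := bc lam w
  let u : T ⊗[A] B := (X : T) ⊗ₜ[A] (1 : B)
  let yT : T ⊗[A] B := u * wT * ((1 : T) ⊗ₜ[A] b)
  let G : T ⊗[A] B → T := fun z => mu τT (F.law.toFun' T z)
  have hGmul : ∀ z z', G (z * z') = G z * G z' := by
    intro z z'
    show mu τT (F.law.toFun' T (z * z')) = mu τT (F.law.toFun' T z) * mu τT (F.law.toFun' T z')
    rw [(F.mult T).2, map_mul]
  let P : T := G (xT + yT)
  -- evaluations
  have hevlam : ∀ a, (ev a).comp lam = σ := by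
    intro a
    show (ev a).comp (Ca.comp σ) = σ
    rw [← AlgHom.comp_assoc, hevCa, AlgHom.id_comp]
  have hevτ : ∀ a, (ev a).comp τT = τ₀ := by
    intro a
    show (ev a).comp (Ca.comp τ₀) = τ₀
    rw [← AlgHom.comp_assoc, hevCa, AlgHom.id_comp]
  have hbc_ev : ∀ (a : R₀) (z : S₀ ⊗[A] B), bc (ev a) (bc lam z) = bc σ z := by
    intro a z
    rw [bc_comp, hevlam]
  have hev_u : ∀ a : R₀, bc (ev a) u = a ⊗ₜ[A] (1 : B) := by
    intro a
    show Algebra.TensorProduct.map (ev a) (AlgHom.id A B) ((X : T) ⊗ₜ[A] (1 : B)) = _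
    rw [Algebra.TensorProduct.map_tmul, hev_eval, Polynomial.eval_X, AlgHom.id_apply]
  have hev_b : ∀ a : R₀, bc (ev a) ((1 : T) ⊗ₜ[A] b) = (1 : R₀) ⊗ₜ[A] b := by
    intro a
    show Algebra.TensorProduct.map (ev a) (AlgHom.id A B) ((1 : T) ⊗ₜ[A] b) = _
    rw [Algebra.TensorProduct.map_tmul, map_one, AlgHom.id_apply]
  have hevP : ∀ a : R₀, P.eval a =
      mu τ₀ (F.law.toFun' R₀ (bc σ x + (a ⊗ₜ[A] (1 : B)) * bc σ w * ((1 : R₀) ⊗ₜ[A] b))) := by
    intro a
    rw [← hev_eval]
    show ev a (mu τT (F.law.toFun' T (xT + yT))) = _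
    rw [mu_natural, hevτ]
    have hz : Algebra.TensorProduct.map (ev a) (AlgHom.id A B) (xT + yT) =
        bc σ x + (a ⊗ₜ[A] (1 : B)) * bc σ w * ((1 : R₀) ⊗ₜ[A] b) := by
      show bc (ev a) (xT + u * wT * ((1 : T) ⊗ₜ[A] b)) = _
      rw [map_add, map_mul, map_mul, hev_u, hev_b]
      show bc (ev a) (bc lam x) + a ⊗ₜ[A] (1 : B) * bc (ev a) (bc lam w) * _ = _
      rw [hbc_ev, hbc_ev]
    rw [hz]
  have hP0 : P.eval 0 = F.law.toFun' S₀ x := by
    have h := hevP 0
    rw [TensorProduct.zero_tmul, zero_mul, zero_mul, add_zero, key0] at h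
    exact h
  have hP1 : P.eval 1 = F.law.toFun' S₀ (x + w * ((1 : S₀) ⊗ₜ[A] b)) := by
    have h := hevP 1
    have h2 : bc σ x + ((1 : R₀) ⊗ₜ[A] (1 : B)) * bc σ w * ((1 : R₀) ⊗ₜ[A] b) =
        bc σ (x + w * ((1 : S₀) ⊗ₜ[A] b)) := by
      rw [map_add, map_mul]
      have h3 : bc σ ((1 : S₀) ⊗ₜ[A] b) = (1 : R₀) ⊗ₜ[A] b := by
        show Algebra.TensorProduct.map σ (AlgHom.id A B) ((1 : S₀) ⊗ₜ[A] b) = _
        rw [Algebra.TensorProduct.map_tmul, map_one, AlgHom.id_apply]
      rw [h3, ← Algebra.TensorProduct.one_def, one_mul]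
    rw [h2, key0] at h
    exact h
  -- the reflection
  have hnulam : nu.comp lam = lam := by
    show nu.comp (Ca.comp σ) = Ca.comp σ
    rw [← AlgHom.comp_assoc, hnuCa]
  have hnuτ : nu.comp τT = τT := by
    show nu.comp (Ca.comp τ₀) = Ca.comp τ₀
    rw [← AlgHom.comp_assoc, hnuCa]
  have hbc_nu : ∀ z : S₀ ⊗[A] B, bc nu (bc lam z) = bc lam z := by
    intro z
    rw [bc_comp, hnulam]
  have hnu_u : bc nu u = -u := by
    show Algebra.TensorProduct.map nu (AlgHom.id A B) ((X : T) ⊗ₜ[A] (1 : B)) = _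
    rw [Algebra.TensorProduct.map_tmul, AlgHom.id_apply]
    have : nu (X : T) = -X := by
      show Polynomial.aeval (-X : T) (X : T) = -X
      rw [Polynomial.aeval_X]
    rw [this, TensorProduct.neg_tmul]
  have hnu_b : bc nu ((1 : T) ⊗ₜ[A] b) = (1 : T) ⊗ₜ[A] b := by
    show Algebra.TensorProduct.map nu (AlgHom.id A B) ((1 : T) ⊗ₜ[A] b) = _
    rw [Algebra.TensorProduct.map_tmul, map_one, AlgHom.id_apply]
  have hnuP : nu P = G (xT - yT) := by
    show nu (mu τT (F.law.toFun' T (xT + yT))) = mu τT (F.law.toFun' T (xT - yT))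
    rw [mu_natural, hnuτ]
    have hz : Algebra.TensorProduct.map nu (AlgHom.id A B) (xT + yT) = xT - yT := by
      show bc nu (bc lam x + u * bc lam w * ((1 : T) ⊗ₜ[A] b)) =
        bc lam x - u * bc lam w * ((1 : T) ⊗ₜ[A] b)
      rw [map_add, map_mul, map_mul, hnu_u, hnu_b, hbc_nu, hbc_nu]
      ring
    rw [hz]
  -- the product
  have hprod : P * nu P = Polynomial.C ((F.law.toFun' S₀ x) ^ 2) := by
    rw [hnuP]
    show G (xT + yT) * G (xT - yT) = _
    rw [← hGmul]
    have h1 : (xT + yT) * (xT - yT) =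
        xT * xT + (-(u * u * wT * wT)) * ((1 : T) ⊗ₜ[A] (b ^ 2)) := by
      have hb2 : ((1 : T) ⊗ₜ[A] (b ^ 2) : T ⊗[A] B) =
          ((1 : T) ⊗ₜ[A] b) * ((1 : T) ⊗ₜ[A] b) := by
        rw [Algebra.TensorProduct.tmul_mul_tmul, one_mul, pow_two]
      rw [hb2]
      show (xT + u * wT * ((1 : T) ⊗ₜ[A] b)) * (xT - u * wT * ((1 : T) ⊗ₜ[A] b)) = _
      ring
    rw [h1]
    have h2 : G (xT * xT + (-(u * u * wT * wT)) * ((1 : T) ⊗ₜ[A] (b ^ 2))) = G (xT * xT) := by
      show mu τT (F.law.toFun' T _) = mu τT (F.law.toFun' T _)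
      rw [hb T (xT * xT) (-(u * u * wT * wT))]
    rw [h2, hGmul]
    have h3 : G xT = Polynomial.C (F.law.toFun' S₀ x) := by
      have h4 : xT = bc Ca (bc σ x) := by
        rw [bc_comp]
      have h5 := mu_natural F.law τ₀ Ca (bc σ x)
      rw [key0] at h5
      show mu τT (F.law.toFun' T xT) = _
      rw [h4]
      exact h5.symm
    rw [h3, ← map_mul, pow_two]
  have hfinal := eval_eq_of_reduced P ((F.law.toFun' S₀ x) ^ 2) (by
    rw [Polynomial.comp_eq_aeval]
    exact hprod)
  rw [hP1, hP0] at hfinal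
  exact hfinal

theorem isReduced_mvPolynomial_tensor [IsReduced C] (n : ℕ) :
    IsReduced (MvPolynomial (Fin n) A ⊗[A] C) := by
  let e1 : MvPolynomial (Fin n) A ⊗[A] C ≃ₐ[A] C ⊗[A] MvPolynomial (Fin n) A :=
    Algebra.TensorProduct.comm A _ _
  let e2 : C ⊗[A] MvPolynomial (Fin n) A ≃ₐ[C] MvPolynomial (Fin n) C :=
    MvPolynomial.algebraTensorAlgEquiv A C
  exact isReduced_of_injective (e1.toRingEquiv.trans e2.toRingEquiv) (RingEquiv.injective _)

end law


/-- Let B and C be commutative algebras over the commutative ring A and F : B → C a multiplicative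
polynomial law homogeneous of degree d. If C is reduced, then the quotient of B by the kernel of F
is reduced. In particular the image of a family of zero-cycles parametrised by a reduced base is
reduced. -/
theorem result {A : Type u} [CommRing A] {B : Type u} [CommRing B] [Algebra A B]
    {C : Type u} [CommRing C] [Algebra A C] [IsReduced C] {d : ℕ} (F : PolLaw.MulLaw A B C d) :
    IsReduced (PolLaw.image F.law) := by
  rw [← Ideal.isRadical_iff_quotient_reduced]
  have sq : ∀ b : B, b ^ 2 ∈ PolLaw.ker F.law → b ∈ PolLaw.ker F.law := by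
    intro b hb
    apply mem_ker_of_forall_mvPolynomial
    intro n x w
    have := isReduced_mvPolynomial_tensor (A := A) (C := C) n
    exact core F b hb (MvPolynomial (Fin n) A) x w
  intro b hb
  obtain ⟨n, hn⟩ := hb
  induction n using Nat.strong_induction_on generalizing b with
  | _ n ih =>
    rcases Nat.lt_or_ge n 2 with h | h
    · interval_cases n
      · rw [pow_zero] at hn
        have : PolLaw.ker F.law = ⊤ := (Ideal.eq_top_iff_one _).mpr hn
        rw [this]
        exact Submodule.mem_top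
      · simpa using hn
    · have hm : (n + 1) / 2 < n := by omega
      have h2 : (b ^ ((n + 1) / 2)) ^ 2 ∈ PolLaw.ker F.law := by
        rw [← pow_mul]
        have h3 : (n + 1) / 2 * 2 = n + ((n + 1) / 2 * 2 - n) := by omega
        rw [h3, pow_add]
        exact Ideal.mul_mem_right _ _ hn
      exact ih _ hm (sq _ h2)

end Groth.Agent.S13722
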