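import Groth.Statements.S13725
import Mathlib.Algebra.CharP.Lemmas
import Mathlib.RingTheory.TensorProduct.Basic

set_option autoImplicit false
universe u
open scoped TensorProduct
open ZeroCyc

namespace Groth.Agent.S13725

/-- Let k be a field of characteristic p > 0 and let F : k → k be the law x ↦ x^p, multiplicative and
homogeneous of degree p over k. The kernel of F is the zero ideal, but after the flat base change k
→ A' = k[X]/(X^p) the kernel of the base-changed law on A' ⊗_k k is not zero (the class of X lies in
it). So in characteristic p, forming the kernel of a multiplicative law is not compatible with flat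
base change. -/
theorem result {k : Type u} [Field k] (p : ℕ) [Fact p.Prime] [CharP k p] :
    PolLaw.ker (PolLaw.MulLaw.pow k k p).law = ⊥ ∧
      PolLaw.kerBC (PolLaw.MulLaw.pow k k p).law (AdjoinRoot ((Polynomial.X : Polynomial k) ^ p)) ≠ ⊥ := by
  have hp : p.Prime := Fact.out
  constructor
  · rw [eq_bot_iff]
    intro b hb
    rw [Ideal.mem_bot]
    have h := hb k 0 1
    change (0 + 1 * ((1 : k) ⊗ₜ[k] b)) ^ p = (0 : k ⊗[k] k) ^ p at h
    rw [zero_add, one_mul, zero_pow hp.ne_zero, Algebra.TensorProduct.tmul_pow, one_pow] at h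
    have h2 := congrArg (TensorProduct.lid k k) h
    rw [TensorProduct.lid_tmul, one_smul, map_zero] at h2
    exact pow_eq_zero_iff hp.ne_zero |>.mp h2
  · intro hbot
    set g : Polynomial k := (Polynomial.X : Polynomial k) ^ p with hg
    have hmem : (AdjoinRoot.root g) ⊗ₜ[k] (1 : k) ∈
        PolLaw.kerBC (PolLaw.MulLaw.pow k k p).law (AdjoinRoot g) := by
      intro R _ _ _ _ x w
      change (x + w * _) ^ p = x ^ p
      obtain ⟨r, hr⟩ := exists_add_pow_prime_eq hp x
        (w * Algebra.TensorProduct.map (IsScalarTower.toAlgHom k (AdjoinRoot g) R) (AlgHom.id k k)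
          ((AdjoinRoot.root g) ⊗ₜ[k] (1 : k)))
      rw [hr]
      have hpz : ((p : ℕ) : R ⊗[k] k) = 0 := by
        have : ((p : ℕ) : R ⊗[k] k) = algebraMap k (R ⊗[k] k) ((p : ℕ) : k) := by
          rw [map_natCast]
        rw [this, CharP.cast_eq_zero, map_zero]
      have hroot : (AdjoinRoot.root g) ^ p = 0 := by
        have : AdjoinRoot.mk g g = 0 := AdjoinRoot.mk_self
        rw [hg, map_pow, AdjoinRoot.mk_X] at this
        exact this
      have hc : (Algebra.TensorProduct.map (IsScalarTower.toAlgHom k (AdjoinRoot g) R) (AlgHom.id k k)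
          ((AdjoinRoot.root g) ⊗ₜ[k] (1 : k))) ^ p = 0 := by
        rw [← map_pow, Algebra.TensorProduct.tmul_pow, hroot, TensorProduct.zero_tmul, map_zero]
      rw [mul_pow, hc, mul_zero, hpz, zero_mul, zero_mul, zero_mul, add_zero, add_zero]
    rw [hbot, Ideal.mem_bot] at hmem
    have h2 := congrArg (TensorProduct.rid k (AdjoinRoot g)) hmem
    rw [TensorProduct.rid_tmul, one_smul, map_zero] at h2
    have h3 : AdjoinRoot.mk g Polynomial.X = 0 := by rwa [AdjoinRoot.mk_X]
    rw [AdjoinRoot.mk_eq_zero] at h3
    have h4 := Polynomial.natDegree_le_of_dvd h3 Polynomial.X_ne_zero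
    rw [hg, Polynomial.natDegree_X_pow, Polynomial.natDegree_X] at h4
    exact absurd hp.two_le (by omega)

end Groth.Agent.S13725
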