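import Groth.Statements.S13726
import Mathlib

set_option autoImplicit false
universe u
open scoped TensorProduct
open ZeroCyc

namespace Groth.Agent.S13726


theorem mem_ker_pow_iff {A : Type u} [CommRing A] (p : ℕ) (hp : p.Prime) (hpA : ((p : ℕ) : A) = 0)
    (b : A) : b ∈ PolLaw.ker (PolLaw.MulLaw.pow A A p).law ↔ b ^ p = 0 := by
  constructor
  · intro hb
    have hb' : ∀ (S : Type u) [CommSemiring S] [Algebra A S] (x w : S ⊗[A] A),
        (x + w * ((1 : S) ⊗ₜ[A] b)) ^ p = x ^ p := hb
    have h' := hb' A (0 : A ⊗[A] A) (1 : A ⊗[A] A)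
    rw [zero_add, one_mul, Algebra.TensorProduct.tmul_pow, one_pow, zero_pow hp.ne_zero] at h'
    have h2 := congrArg (Algebra.TensorProduct.lid A A) h'
    simpa using h2
  · intro hb
    have : ∀ (S : Type u) [CommSemiring S] [Algebra A S] (x w : S ⊗[A] A),
        (x + w * ((1 : S) ⊗ₜ[A] b)) ^ p = x ^ p := by
      intro S _ _ x w
      obtain ⟨r, hr⟩ := exists_add_pow_prime_eq hp x (w * ((1 : S) ⊗ₜ[A] b))
      have hpS : ((p : ℕ) : S ⊗[A] A) = 0 := by
        have h1 : ((p : ℕ) : S ⊗[A] A) = algebraMap A (S ⊗[A] A) ((p : ℕ) : A) := by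
          rw [map_natCast]
        rw [h1, hpA, map_zero]
      rw [hr, hpS, mul_pow, Algebra.TensorProduct.tmul_pow, hb, TensorProduct.tmul_zero]
      simp
    exact this

section
variable {k : Type u} [Field k] (p : ℕ) [Fact p.Prime] [CharP k p]

local notation "AA" => (MvPolynomial ℕ k ⧸ Ideal.span (Set.range fun i : ℕ => (MvPolynomial.X i : MvPolynomial ℕ k) ^ p))
local notation "II" => (Ideal.span (Set.range fun i : ℕ => (MvPolynomial.X i : MvPolynomial ℕ k) ^ p))
local notation "MM" => (Ideal.map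
        (Ideal.Quotient.mk (Ideal.span (Set.range fun i : ℕ => (MvPolynomial.X i : MvPolynomial ℕ k) ^ p)))
        (Ideal.span (Set.range fun i : ℕ => (MvPolynomial.X i : MvPolynomial ℕ k))))

theorem natCast_eq_zero : ((p : ℕ) : AA) = 0 := by
  have h1 : ((p : ℕ) : AA) = algebraMap k AA ((p : ℕ) : k) := by rw [map_natCast]
  rw [h1, CharP.cast_eq_zero k p, map_zero]

theorem II_le : II ≤ RingHom.ker (MvPolynomial.constantCoeff : MvPolynomial ℕ k →+* k) := by
  have hp := (Fact.out : p.Prime)
  rw [Ideal.span_le]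
  rintro _ ⟨i, rfl⟩
  show _ ∈ RingHom.ker _
  rw [RingHom.mem_ker, map_pow, MvPolynomial.constantCoeff_X, zero_pow hp.ne_zero]

/-- the augmentation -/
noncomputable def aug : AA →+* k :=
  Ideal.Quotient.lift II (MvPolynomial.constantCoeff : MvPolynomial ℕ k →+* k)
    (fun a ha => RingHom.mem_ker.1 (II_le p ha))

theorem pow_eq_zero_of_mem (b : AA) (hb : b ∈ MM) : b ^ p = 0 := by
  have hp := (Fact.out : p.Prime)
  rw [Ideal.map_span] at hb
  induction hb using Submodule.span_induction with
  | mem x h =>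
    obtain ⟨_, ⟨i, rfl⟩, rfl⟩ := h
    rw [← map_pow]
    exact Ideal.Quotient.eq_zero_iff_mem.2 (Ideal.subset_span ⟨i, rfl⟩)
  | zero => exact zero_pow hp.ne_zero
  | add x y hx hy ihx ihy =>
    obtain ⟨r, hr⟩ := exists_add_pow_prime_eq hp x y
    rw [hr, ihx, ihy, natCast_eq_zero p]
    simp
  | smul a x hx ih =>
    rw [smul_eq_mul, mul_pow, ih, mul_zero]

theorem mem_of_pow_eq_zero (b : AA) (hb : b ^ p = 0) : b ∈ MM := by
  have hp := (Fact.out : p.Prime)
  have h1 : aug p b = 0 := by
    have : (aug p b) ^ p = 0 := by rw [← map_pow, hb, map_zero]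
    exact (pow_eq_zero_iff hp.ne_zero).1 this
  obtain ⟨q, rfl⟩ := Ideal.Quotient.mk_surjective b
  have h2 : MvPolynomial.constantCoeff q = 0 := by
    have : aug p (Ideal.Quotient.mk _ q) = MvPolynomial.constantCoeff q := Ideal.Quotient.lift_mk _ _ _
    rw [← this]; exact h1
  apply Ideal.mem_map_of_mem
  have h3 : (Set.range fun i : ℕ => (MvPolynomial.X i : MvPolynomial ℕ k)) =
      (MvPolynomial.X '' (Set.univ : Set ℕ) : Set (MvPolynomial ℕ k)) := by
    rw [Set.image_univ]
  rw [h3, MvPolynomial.mem_ideal_span_X_image]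
  intro m hm
  have hm0 : m ≠ 0 := by
    rintro rfl
    rw [MvPolynomial.mem_support_iff] at hm
    exact hm (by rw [← MvPolynomial.constantCoeff_eq]; exact h2)
  obtain ⟨i, hi⟩ := DFunLike.ne_iff.1 hm0
  exact ⟨i, Set.mem_univ _, by simpa using hi⟩

/-- kill all variables except `j`, send `X j` to `ε` -/
noncomputable def toDual (j : ℕ) : AA →+* DualNumber k :=
  Ideal.Quotient.lift II
    ((MvPolynomial.aeval (fun i : ℕ => if i = j then (DualNumber.eps : DualNumber k) else 0) :
      MvPolynomial ℕ k →ₐ[k] DualNumber k) : MvPolynomial ℕ k →+* DualNumber k)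
    (by
      have hp := (Fact.out : p.Prime)
      intro a ha
      have hle : II ≤ RingHom.ker ((MvPolynomial.aeval (fun i : ℕ => if i = j then (DualNumber.eps : DualNumber k) else 0) :
          MvPolynomial ℕ k →ₐ[k] DualNumber k) : MvPolynomial ℕ k →+* DualNumber k) := by
        rw [Ideal.span_le]
        rintro _ ⟨i, rfl⟩
        show _ ∈ RingHom.ker _
        rw [RingHom.mem_ker, map_pow]
        show ((MvPolynomial.aeval (fun i : ℕ => if i = j then (DualNumber.eps : DualNumber k) else 0))
          (MvPolynomial.X i)) ^ p = 0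
        rw [MvPolynomial.aeval_X]
        split_ifs
        · exact pow_eq_zero_of_le hp.two_le DualNumber.eps_pow_two
        · exact zero_pow hp.ne_zero
      exact RingHom.mem_ker.1 (hle ha))

theorem toDual_mk_X (j i : ℕ) :
    toDual p j (Ideal.Quotient.mk _ (MvPolynomial.X i)) = if i = j then (DualNumber.eps : DualNumber k) else 0 := by
  have : toDual p j (Ideal.Quotient.mk _ (MvPolynomial.X i)) =
      (MvPolynomial.aeval (fun i : ℕ => if i = j then (DualNumber.eps : DualNumber k) else 0))
          (MvPolynomial.X i) := Ideal.Quotient.lift_mk _ _ _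
  rw [this, MvPolynomial.aeval_X]

theorem eps_ne_zero' : (DualNumber.eps : DualNumber k) ≠ 0 := by
  intro h
  have := congrArg TrivSqZeroExt.snd h
  rw [DualNumber.snd_eps] at this
  exact one_ne_zero this

theorem not_fg : ¬ (MM).FG := by
  intro hfg
  rw [Ideal.map_span] at hfg
  obtain ⟨s', hs', hspan⟩ := (Submodule.fg_span_iff_fg_span_finset_subset _).1 hfg
  classical
  -- index function
  let idx : AA → ℕ := fun a =>
    if h : ∃ i : ℕ, Ideal.Quotient.mk II (MvPolynomial.X i) = a then h.choose else 0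
  have hidx : ∀ a ∈ s', Ideal.Quotient.mk II (MvPolynomial.X (idx a)) = a := by
    intro a ha
    obtain ⟨_, ⟨i, rfl⟩, hi⟩ := hs' ha
    have h : ∃ i : ℕ, Ideal.Quotient.mk II (MvPolynomial.X i) = a := ⟨i, hi⟩
    simp only [idx, dif_pos h]
    exact h.choose_spec
  obtain ⟨j, hj⟩ := Infinite.exists_notMem_finset (s'.image idx)
  have hkill : Submodule.span AA (s' : Set AA) ≤ RingHom.ker (toDual (k := k) p j) := by
    rw [Submodule.span_le]
    intro a ha
    show a ∈ RingHom.ker (toDual (k := k) p j)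
    rw [RingHom.mem_ker, ← hidx a ha, toDual_mk_X, if_neg]
    intro h
    exact hj (Finset.mem_image.2 ⟨a, ha, h⟩)
  have hmem : Ideal.Quotient.mk II (MvPolynomial.X j) ∈ Submodule.span AA (s' : Set AA) := by
    have h0 : Ideal.Quotient.mk II (MvPolynomial.X j) ∈ Ideal.span ((Ideal.Quotient.mk II) ''
        (Set.range fun i : ℕ => (MvPolynomial.X i : MvPolynomial ℕ k))) :=
      Ideal.subset_span ⟨_, ⟨j, rfl⟩, rfl⟩
    have h1 : Ideal.span ((Ideal.Quotient.mk II) ''
        (Set.range fun i : ℕ => (MvPolynomial.X i : MvPolynomial ℕ k))) = Submodule.span AA (s' : Set AA) := hspan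
    rw [← h1]; exact h0
  have := hkill hmem
  rw [RingHom.mem_ker, toDual_mk_X, if_pos rfl] at this
  exact eps_ne_zero' this

end

/-- Let k be a field of characteristic p > 0 and A = k[t_i : i ∈ ℕ]/(t_i^p : i ∈ ℕ). The law x ↦ x^p
from A to A is multiplicative and homogeneous of degree p over A; its kernel is the ideal generated
by the classes of the variables t_i, and this ideal is not finitely generated. Hence the image of a
family of zero-cycles need not be of finite presentation over the base even when X → S is. -/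
theorem result {k : Type u} [Field k] (p : ℕ) [Fact p.Prime] [CharP k p] :
    PolLaw.ker (PolLaw.MulLaw.pow
        (MvPolynomial ℕ k ⧸ Ideal.span (Set.range fun i : ℕ => (MvPolynomial.X i : MvPolynomial ℕ k) ^ p))
        (MvPolynomial ℕ k ⧸ Ideal.span (Set.range fun i : ℕ => (MvPolynomial.X i : MvPolynomial ℕ k) ^ p)) p).law =
      (Ideal.span (Set.range fun i : ℕ => (MvPolynomial.X i : MvPolynomial ℕ k))).map
        (Ideal.Quotient.mk (Ideal.span (Set.range fun i : ℕ => (MvPolynomial.X i : MvPolynomial ℕ k) ^ p))) ∧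
    ¬ (PolLaw.ker (PolLaw.MulLaw.pow
        (MvPolynomial ℕ k ⧸ Ideal.span (Set.range fun i : ℕ => (MvPolynomial.X i : MvPolynomial ℕ k) ^ p))
        (MvPolynomial ℕ k ⧸ Ideal.span (Set.range fun i : ℕ => (MvPolynomial.X i : MvPolynomial ℕ k) ^ p)) p).law).FG := by
  have hp := (Fact.out : p.Prime)
  have hker : PolLaw.ker (PolLaw.MulLaw.pow
        (MvPolynomial ℕ k ⧸ Ideal.span (Set.range fun i : ℕ => (MvPolynomial.X i : MvPolynomial ℕ k) ^ p))
        (MvPolynomial ℕ k ⧸ Ideal.span (Set.range fun i : ℕ => (MvPolynomial.X i : MvPolynomial ℕ k) ^ p)) p).law =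
      (Ideal.span (Set.range fun i : ℕ => (MvPolynomial.X i : MvPolynomial ℕ k))).map
        (Ideal.Quotient.mk (Ideal.span (Set.range fun i : ℕ => (MvPolynomial.X i : MvPolynomial ℕ k) ^ p))) := by
    ext b
    rw [mem_ker_pow_iff p hp (natCast_eq_zero p)]
    exact ⟨mem_of_pow_eq_zero p b, pow_eq_zero_of_mem p b⟩
  refine ⟨hker, ?_⟩
  rw [hker]
  exact not_fg p

end Groth.Agent.S13726
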