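import Groth.Statements.S13727
import Mathlib
import Groth.Agent.H76.PolLawBC
import Groth.Agent.S13719
-- import your own Groth.Agent.* helpers here

set_option autoImplicit false
universe u
open scoped TensorProduct
open ZeroCyc

namespace Groth.Agent.S13727


open Groth.Agent.H76.PolLawBC

section Abs

variable {T : Type*} [CommSemiring T] {ε ε' κ κ' : T}

theorem absA0 (h0 : ε + ε' = 1) (x w : T) : x + w * ε = (x + w) * ε + x * ε' := by
  calc x + w * ε = x * 1 + w * ε := by ring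
    _ = x * (ε + ε') + w * ε := by rw [h0]
    _ = (x + w) * ε + x * ε' := by ring

theorem absA1 (h1 : ε * ε = ε + κ) (h2 : ε * ε' = κ') (h3 : ε' * ε' = ε' + κ) (σ σ' : T) :
    (σ * ε + ε') * (σ' * ε + ε') =
      (σ * σ' * ε + ε') + (σ * σ' * κ + σ * κ' + σ' * κ' + κ) := by
  calc (σ * ε + ε') * (σ' * ε + ε')
      = σ * σ' * (ε * ε) + σ * (ε * ε') + σ' * (ε * ε') + ε' * ε' := by ring
    _ = σ * σ' * (ε + κ) + σ * κ' + σ' * κ' + (ε' + κ) := by rw [h1, h2, h3]
    _ = (σ * σ' * ε + ε') + (σ * σ' * κ + σ * κ' + σ' * κ' + κ) := by ring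

theorem absA5 (h1 : ε * ε = ε + κ) (h2 : ε * ε' = κ') (h3 : ε' * ε' = ε' + κ) (x w : T) :
    ((x + w) * ε + ε') * (ε + x * ε') =
      ((x + w) * ε + x * ε') + ((x + w) * κ + (x + w) * x * κ' + κ' + x * κ) := by
  calc ((x + w) * ε + ε') * (ε + x * ε')
      = (x + w) * (ε * ε) + (x + w) * x * (ε * ε') + ε * ε' + x * (ε' * ε') := by ring
    _ = (x + w) * (ε + κ) + (x + w) * x * κ' + κ' + x * (ε' + κ) := by rw [h1, h2, h3]
    _ = ((x + w) * ε + x * ε') + ((x + w) * κ + (x + w) * x * κ' + κ' + x * κ) := by ring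

theorem absA6 (h2 : ε * ε' = κ') (h3 : ε' * ε' = ε' + κ) (y : T) :
    ε' * (y * ε + ε') = ε' + (y * κ' + κ) := by
  calc ε' * (y * ε + ε') = y * (ε * ε') + ε' * ε' := by ring
    _ = y * κ' + (ε' + κ) := by rw [h2, h3]
    _ = ε' + (y * κ' + κ) := by ring

end Abs

section Alg

variable {A : Type u} [CommRing A] {B : Type u} [CommRing B] [Algebra A B]

theorem ker_apply (f : B →ₚₗ[A] A) {b : B} (hb : b ∈ PolLaw.ker f) (S : Type u) [CommSemiring S]
    [Algebra A S] (x w : S ⊗[A] B) :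
    f.toFun' S (x + w * ((1 : S) ⊗ₜ[A] b)) = f.toFun' S x := hb S x w

variable (A) in
/-- the ideal of `S ⊗ B` generated by `1 ⊗ K` -/
def JJ (K : Ideal B) (S : Type u) [CommSemiring S] [Algebra A S] : Ideal (S ⊗[A] B) :=
  Ideal.span (Set.range fun k : K => (1 : S) ⊗ₜ[A] (k : B))

theorem tmul_mem (K : Ideal B) (S : Type u) [CommSemiring S] [Algebra A S] (s : S) {k : B}
    (hk : k ∈ K) : s ⊗ₜ[A] k ∈ JJ A K S := by
  have h : s ⊗ₜ[A] k = (s ⊗ₜ[A] (1 : B)) * ((1 : S) ⊗ₜ[A] k) := by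
    rw [Algebra.TensorProduct.tmul_mul_tmul, mul_one, one_mul]
  rw [h]
  exact Ideal.mul_mem_left _ _ (Ideal.subset_span ⟨⟨k, hk⟩, rfl⟩)

theorem F_congr (f : B →ₚₗ[A] A) (S : Type u) [CommSemiring S] [Algebra A S] {z : S ⊗[A] B}
    (hz : z ∈ JJ A (PolLaw.ker f) S) (x : S ⊗[A] B) : f.toFun' S (x + z) = f.toFun' S x := by
  have key : ∀ x w : S ⊗[A] B, f.toFun' S (x + w * z) = f.toFun' S x := by
    unfold JJ at hz
    refine Submodule.span_induction
      (p := fun z _ => ∀ x w : S ⊗[A] B, f.toFun' S (x + w * z) = f.toFun' S x) ?_ ?_ ?_ ?_ hz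
    · rintro z ⟨k, rfl⟩ x w
      exact ker_apply f k.2 S x w
    · intro x w
      rw [mul_zero, add_zero]
    · intro z₁ z₂ _ _ h₁ h₂ x w
      rw [mul_add, ← add_assoc, h₂, h₁]
    · intro a z _ h x w
      rw [smul_eq_mul, ← mul_assoc]
      exact h x (w * a)
  have := key x 1
  rwa [one_mul] at this

theorem tmul_congr (S : Type u) [CommSemiring S] [Algebra A S] (s : S) {b b' : B} (h : b = b') :
    s ⊗ₜ[A] b = s ⊗ₜ[A] b' := by rw [h]

theorem rel0 (S : Type u) [CommSemiring S] [Algebra A S] (e : B) :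
    ((1 : S) ⊗ₜ[A] e) + (1 : S) ⊗ₜ[A] (1 - e) = 1 := by
  have h : e + (1 - e) = 1 := by ring
  rw [← TensorProduct.tmul_add, h, Algebra.TensorProduct.one_def]

theorem rel1 (S : Type u) [CommSemiring S] [Algebra A S] (e : B) :
    ((1 : S) ⊗ₜ[A] e) * ((1 : S) ⊗ₜ[A] e) = (1 : S) ⊗ₜ[A] e + (1 : S) ⊗ₜ[A] (e * e - e) := by
  rw [Algebra.TensorProduct.tmul_mul_tmul, mul_one, ← TensorProduct.tmul_add]
  exact tmul_congr S 1 (by ring)

theorem rel2 (S : Type u) [CommSemiring S] [Algebra A S] (e : B) :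
    ((1 : S) ⊗ₜ[A] e) * ((1 : S) ⊗ₜ[A] (1 - e)) = (1 : S) ⊗ₜ[A] (-(e * e - e)) := by
  rw [Algebra.TensorProduct.tmul_mul_tmul, mul_one]
  exact tmul_congr S 1 (by ring)

theorem rel3 (S : Type u) [CommSemiring S] [Algebra A S] (e : B) :
    ((1 : S) ⊗ₜ[A] (1 - e)) * ((1 : S) ⊗ₜ[A] (1 - e)) =
      (1 : S) ⊗ₜ[A] (1 - e) + (1 : S) ⊗ₜ[A] (e * e - e) := by
  rw [Algebra.TensorProduct.tmul_mul_tmul, mul_one, ← TensorProduct.tmul_add]
  exact tmul_congr S 1 (by ring)

variable (A) in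
/-- the element `s ⊗ e + 1 ⊗ (1 - e)` -/
noncomputable def ww (e : B) (S : Type u) [CommSemiring S] [Algebra A S] (s : S) : S ⊗[A] B :=
  s ⊗ₜ[A] e + (1 : S) ⊗ₜ[A] (1 - e)

theorem ww_eq (e : B) (S : Type u) [CommSemiring S] [Algebra A S] (s : S) :
    ww A e S s = (s ⊗ₜ[A] (1 : B)) * ((1 : S) ⊗ₜ[A] e) + (1 : S) ⊗ₜ[A] (1 - e) := by
  unfold ww
  rw [Algebra.TensorProduct.tmul_mul_tmul, mul_one, one_mul]

theorem ww_mul_congr (f : B →ₚₗ[A] A) {e : B} (he : e * e - e ∈ PolLaw.ker f) (S : Type u)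
    [CommSemiring S] [Algebra A S] (s s' : S) :
    f.toFun' S (ww A e S (s * s')) = f.toFun' S (ww A e S s * ww A e S s') := by
  have hk : (1 : S) ⊗ₜ[A] (e * e - e) ∈ JJ A (PolLaw.ker f) S := tmul_mem _ S 1 he
  have hk' : (1 : S) ⊗ₜ[A] (-(e * e - e)) ∈ JJ A (PolLaw.ker f) S :=
    tmul_mem _ S 1 (neg_mem he)
  have key := absA1 (rel1 (A := A) S e) (rel2 S e) (rel3 S e) (s ⊗ₜ[A] (1 : B))
    (s' ⊗ₜ[A] (1 : B))
  have e1 : (s ⊗ₜ[A] (1 : B)) * (s' ⊗ₜ[A] (1 : B)) = (s * s') ⊗ₜ[A] (1 : B) := by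
    rw [Algebra.TensorProduct.tmul_mul_tmul, mul_one]
  rw [e1, ← ww_eq, ← ww_eq, ← ww_eq] at key
  rw [key]
  refine (F_congr f S ?_ _).symm
  exact add_mem (add_mem (add_mem (Ideal.mul_mem_left _ _ hk) (Ideal.mul_mem_left _ _ hk'))
    (Ideal.mul_mem_left _ _ hk')) hk

section Pow

open Polynomial

theorem exists_pow' [ConnectedSpace (PrimeSpectrum A)] (f : B →ₚₗ[A] A) (hf : PolLaw.IsMult f)
    (w : ∀ (S : Type u) [CommSemiring S] [Algebra A S], S → S ⊗[A] B)
    (hnat : ∀ (S S' : Type u) [CommSemiring S] [Algebra A S] [CommSemiring S'] [Algebra A S']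
      (φ : S →ₐ[A] S') (s : S),
      Algebra.TensorProduct.map φ (AlgHom.id A B) (w S s) = w S' (φ s))
    (hmul : ∀ (S : Type u) [CommSemiring S] [Algebra A S] (s s' : S),
      f.toFun' S (w S (s * s')) = f.toFun' S (w S s * w S s'))
    (hone : ∀ (S : Type u) [CommSemiring S] [Algebra A S], w S 1 = 1) :
    ∃ k : ℕ, ∀ (S : Type u) [CommSemiring S] [Algebra A S] (s : S),
      f.toFun' S (w S s) = s ^ k • (1 : S ⊗[A] A) := by
  obtain ⟨P, hP⟩ : ∃ P : A[X], P = val f A[X] (w A[X] X) := ⟨_, rfl⟩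
  have hval : ∀ (S : Type u) [CommSemiring S] [Algebra A S] (s : S),
      val f S (w S s) = Polynomial.aeval s P := by
    intro S _ _ s
    have h := val_map f (Polynomial.aeval s : A[X] →ₐ[A] S) (w A[X] X)
    rw [hnat, Polynomial.aeval_X] at h
    rw [h, hP]
  have hM : Polynomial.aeval (C X * X : A[X][X]) P =
      Polynomial.aeval (C X : A[X][X]) P * Polynomial.aeval (X : A[X][X]) P := by
    have h1 := hval A[X][X] (C X * X)
    have h2 := hval A[X][X] (C X)
    have h3 := hval A[X][X] X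
    have h4 : val f A[X][X] (w A[X][X] (C X * X)) =
        val f A[X][X] (w A[X][X] (C X) * w A[X][X] X) :=
      congrArg (TensorProduct.rid A A[X][X]) (hmul A[X][X] (C X) X)
    rw [← h1, ← h2, ← h3, h4, S13719.val_mul_of f hf]
  have hU : Polynomial.aeval (1 : A) P = 1 := by
    rw [← hval A 1, hone, S13719.val_one_of f hf]
  obtain ⟨k, hk⟩ := S13719.eq_X_pow_of_mult P hM hU
  refine ⟨k, fun S _ _ s => ?_⟩
  apply (TensorProduct.rid A S).injective
  have hv : val f S (w S s) = s ^ k := by rw [hval, hk, map_pow, Polynomial.aeval_X]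
  have hr : TensorProduct.rid A S (s ^ k • (1 : S ⊗[A] A)) = s ^ k := by
    rw [Algebra.TensorProduct.one_def, TensorProduct.smul_tmul', TensorProduct.rid_tmul, one_smul,
      smul_eq_mul, mul_one]
  exact hv.trans hr.symm

theorem pow_inj [Nontrivial A] (k k' : ℕ)
    (h : ((Polynomial.X : Polynomial A) ^ k • (1 : Polynomial A ⊗[A] A)) =
      (Polynomial.X : Polynomial A) ^ k' • (1 : Polynomial A ⊗[A] A)) : k = k' := by
  have h' := congrArg (TensorProduct.rid A (Polynomial A)) h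
  rw [Algebra.TensorProduct.one_def, TensorProduct.smul_tmul', TensorProduct.smul_tmul',
    TensorProduct.rid_tmul, TensorProduct.rid_tmul, one_smul, one_smul, smul_eq_mul, smul_eq_mul,
    mul_one, mul_one] at h'
  have h'' := congrArg Polynomial.natDegree h'
  rwa [Polynomial.natDegree_X_pow, Polynomial.natDegree_X_pow] at h''

end Pow

/-- the multiplicity relation: `F (s ⊗ e + 1 ⊗ (1 - e)) = s ^ n` -/
def MM (f : B →ₚₗ[A] A) (e : B) (n : ℕ) : Prop :=
  ∀ (S : Type u) [CommSemiring S] [Algebra A S] (s : S),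
    f.toFun' S (ww A e S s) = s ^ n • (1 : S ⊗[A] A)

theorem MM_exists [ConnectedSpace (PrimeSpectrum A)] (f : B →ₚₗ[A] A) (hf : PolLaw.IsMult f)
    {e : B} (he : e * e - e ∈ PolLaw.ker f) : ∃ n : ℕ, MM f e n := by
  have h := exists_pow' f hf (fun S _ _ s => ww A e S s)
    (by
      intro S S' _ _ _ _ φ s
      show Algebra.TensorProduct.map φ (AlgHom.id A B) (ww A e S s) = ww A e S' (φ s)
      unfold ww
      rw [map_add, Algebra.TensorProduct.map_tmul, Algebra.TensorProduct.map_tmul, map_one,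
        AlgHom.id_apply, AlgHom.id_apply])
    (by
      intro S _ _ s s'
      exact ww_mul_congr f he S s s')
    (by
      intro S _ _
      show ww A e S 1 = 1
      unfold ww
      exact rel0 S e)
  obtain ⟨k, hk⟩ := h
  exact ⟨k, hk⟩

theorem MM_unique [Nontrivial A] (f : B →ₚₗ[A] A) {e : B} {n n' : ℕ} (h : MM f e n)
    (h' : MM f e n') : n = n' := by
  apply pow_inj (A := A)
  rw [← h (Polynomial A) Polynomial.X, ← h' (Polynomial A) Polynomial.X]

theorem MM_congr (f : B →ₚₗ[A] A) {e e' : B} {n : ℕ} (h : MM f e n)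
    (hc : e' - e ∈ PolLaw.ker f) : MM f e' n := by
  intro S _ _ s
  have a1 : s ⊗ₜ[A] e' = s ⊗ₜ[A] e + s ⊗ₜ[A] (e' - e) := by
    rw [← TensorProduct.tmul_add]
    exact tmul_congr S s (by ring)
  have a2 : (1 : S) ⊗ₜ[A] (1 - e') = (1 : S) ⊗ₜ[A] (1 - e) + (1 : S) ⊗ₜ[A] (-(e' - e)) := by
    rw [← TensorProduct.tmul_add]
    exact tmul_congr S 1 (by ring)
  have e1 : ww A e' S s =
      ww A e S s + (s ⊗ₜ[A] (e' - e) + (1 : S) ⊗ₜ[A] (-(e' - e))) := by
    unfold ww
    rw [a1, a2, add_add_add_comm]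
  have hz : s ⊗ₜ[A] (e' - e) + (1 : S) ⊗ₜ[A] (-(e' - e)) ∈ JJ A (PolLaw.ker f) S :=
    add_mem (tmul_mem _ S s hc) (tmul_mem _ S 1 (neg_mem hc))
  rw [e1, F_congr f S hz]
  exact h S s

theorem MM_add (f : B →ₚₗ[A] A) (hf : PolLaw.IsMult f) {e g : B} {n n' : ℕ} (h : MM f e n)
    (h' : MM f g n') (hc : e * g ∈ PolLaw.ker f) : MM f (e + g) (n + n') := by
  intro S _ _ s
  have a1 : s ⊗ₜ[A] (e * (1 - g)) = s ⊗ₜ[A] e + s ⊗ₜ[A] (-(e * g)) := by
    rw [← TensorProduct.tmul_add]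
    exact tmul_congr S s (by ring)
  have a2 : s ⊗ₜ[A] ((1 - e) * g) = s ⊗ₜ[A] g + s ⊗ₜ[A] (-(e * g)) := by
    rw [← TensorProduct.tmul_add]
    exact tmul_congr S s (by ring)
  have a3 : (1 : S) ⊗ₜ[A] ((1 - e) * (1 - g)) =
      (1 : S) ⊗ₜ[A] (1 - (e + g)) + (1 : S) ⊗ₜ[A] (e * g) := by
    rw [← TensorProduct.tmul_add]
    exact tmul_congr S 1 (by ring)
  have key : ww A e S s * ww A g S s = ww A (e + g) S s +
      ((s * s) ⊗ₜ[A] (e * g) + s ⊗ₜ[A] (-(e * g)) + s ⊗ₜ[A] (-(e * g)) +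
        (1 : S) ⊗ₜ[A] (e * g)) := by
    unfold ww
    rw [add_mul, mul_add, mul_add, Algebra.TensorProduct.tmul_mul_tmul,
      Algebra.TensorProduct.tmul_mul_tmul, Algebra.TensorProduct.tmul_mul_tmul,
      Algebra.TensorProduct.tmul_mul_tmul]
    simp only [mul_one, one_mul]
    rw [a1, a2, a3, TensorProduct.tmul_add]
    abel
  have hz : (s * s) ⊗ₜ[A] (e * g) + s ⊗ₜ[A] (-(e * g)) + s ⊗ₜ[A] (-(e * g)) +
      (1 : S) ⊗ₜ[A] (e * g) ∈ JJ A (PolLaw.ker f) S :=
    add_mem (add_mem (add_mem (tmul_mem _ S _ hc) (tmul_mem _ S _ (neg_mem hc)))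
      (tmul_mem _ S _ (neg_mem hc))) (tmul_mem _ S _ hc)
  have h5 := F_congr f S hz (ww A (e + g) S s)
  rw [← key, (hf S).2, h S s, h' S s] at h5
  rw [← h5, smul_mul_smul_comm, one_mul, ← pow_add]

theorem MM_one (f : B →ₚₗ[A] A) (hf : PolLaw.IsMult f) {d : ℕ} (hh : PolLaw.IsHomog f d) :
    MM f (1 : B) d := by
  intro S _ _ s
  have e1 : ww A (1 : B) S s = s • (1 : S ⊗[A] B) := by
    unfold ww
    rw [sub_self, TensorProduct.tmul_zero, add_zero, Algebra.TensorProduct.one_def,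
      TensorProduct.smul_tmul', smul_eq_mul, mul_one]
  rw [e1, hh S s 1, (hf S).1]

theorem MM_zero (f : B →ₚₗ[A] A) (hf : PolLaw.IsMult f) {e : B}
    (he : e * e - e ∈ PolLaw.ker f) (h : MM f e 0) : e ∈ PolLaw.ker f := by
  intro S _ _ x w
  have hk : (1 : S) ⊗ₜ[A] (e * e - e) ∈ JJ A (PolLaw.ker f) S := tmul_mem _ S 1 he
  have hk' : (1 : S) ⊗ₜ[A] (-(e * e - e)) ∈ JJ A (PolLaw.ker f) S :=
    tmul_mem _ S 1 (neg_mem he)
  have h0 := rel0 (A := A) S e
  have h1 := rel1 (A := A) S e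
  have h2 := rel2 (A := A) S e
  have h3 := rel3 (A := A) S e
  have hε' : f.toFun' S ((1 : S) ⊗ₜ[A] (1 - e)) = 1 := by
    have h4 := h S 0
    unfold ww at h4
    rw [TensorProduct.zero_tmul, zero_add, pow_zero, one_smul] at h4
    exact h4
  have hG : ∀ y : S ⊗[A] B,
      f.toFun' S (y * ((1 : S) ⊗ₜ[A] e) + (1 : S) ⊗ₜ[A] (1 - e)) = 1 := by
    intro y
    have k6 := absA6 h2 h3 y
    have hz : y * ((1 : S) ⊗ₜ[A] (-(e * e - e))) + (1 : S) ⊗ₜ[A] (e * e - e) ∈
        JJ A (PolLaw.ker f) S := add_mem (Ideal.mul_mem_left _ _ hk') hk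
    have h5 := F_congr f S hz ((1 : S) ⊗ₜ[A] (1 - e))
    rw [← k6, (hf S).2, hε', one_mul] at h5
    exact h5
  have aux : ∀ x w : S ⊗[A] B, f.toFun' S (x + w * ((1 : S) ⊗ₜ[A] e)) =
      f.toFun' S ((1 : S) ⊗ₜ[A] e + x * ((1 : S) ⊗ₜ[A] (1 - e))) := by
    intro x w
    have k5 := absA5 h1 h2 h3 x w
    have hz : (x + w) * ((1 : S) ⊗ₜ[A] (e * e - e)) +
        (x + w) * x * ((1 : S) ⊗ₜ[A] (-(e * e - e))) + (1 : S) ⊗ₜ[A] (-(e * e - e)) +
        x * ((1 : S) ⊗ₜ[A] (e * e - e)) ∈ JJ A (PolLaw.ker f) S :=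
      add_mem (add_mem (add_mem (Ideal.mul_mem_left _ _ hk) (Ideal.mul_mem_left _ _ hk')) hk')
        (Ideal.mul_mem_left _ _ hk)
    have h5 := F_congr f S hz ((x + w) * ((1 : S) ⊗ₜ[A] e) + x * ((1 : S) ⊗ₜ[A] (1 - e)))
    rw [← k5, (hf S).2, hG, one_mul] at h5
    rw [absA0 h0 x w]
    exact h5.symm
  have a1 := aux x w
  have a2 := aux x 0
  rw [zero_mul, add_zero] at a2
  rw [a1, a2]

/-- the multiplicity relation on the image algebra -/
def Mr (f : B →ₚₗ[A] A) (r : B ⧸ PolLaw.ker f) (n : ℕ) : Prop :=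
  ∃ b : B, Ideal.Quotient.mk (PolLaw.ker f) b = r ∧ MM f b n

theorem Mr_exists [ConnectedSpace (PrimeSpectrum A)] (f : B →ₚₗ[A] A) (hf : PolLaw.IsMult f)
    {r : B ⧸ PolLaw.ker f} (hr : IsIdempotentElem r) : ∃ n : ℕ, Mr f r n := by
  obtain ⟨b, rfl⟩ := Ideal.Quotient.mk_surjective r
  have hb : b * b - b ∈ PolLaw.ker f :=
    Ideal.Quotient.eq_zero_iff_mem.mp (by rw [map_sub, map_mul, hr.eq, sub_self])
  obtain ⟨n, hn⟩ := MM_exists f hf hb
  exact ⟨n, b, rfl, hn⟩

theorem Mr_add (f : B →ₚₗ[A] A) (hf : PolLaw.IsMult f) {r r' : B ⧸ PolLaw.ker f} {n n' : ℕ}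
    (h : Mr f r n) (h' : Mr f r' n') (hrr : r * r' = 0) : Mr f (r + r') (n + n') := by
  obtain ⟨b, rfl, hb⟩ := h
  obtain ⟨b', rfl, hb'⟩ := h'
  have hc : b * b' ∈ PolLaw.ker f :=
    Ideal.Quotient.eq_zero_iff_mem.mp (by rw [map_mul]; exact hrr)
  exact ⟨b + b', map_add _ _ _, MM_add f hf hb hb' hc⟩

theorem Mr_zero (f : B →ₚₗ[A] A) (hf : PolLaw.IsMult f) {r : B ⧸ PolLaw.ker f}
    (hr : IsIdempotentElem r) (h : Mr f r 0) : r = 0 := by
  obtain ⟨b, rfl, hb⟩ := h
  have hb' : b * b - b ∈ PolLaw.ker f :=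
    Ideal.Quotient.eq_zero_iff_mem.mp (by rw [map_sub, map_mul, hr.eq, sub_self])
  exact Ideal.Quotient.eq_zero_iff_mem.mpr (MM_zero f hf hb' hb)

theorem Mr_unique [Nontrivial A] (f : B →ₚₗ[A] A) {r : B ⧸ PolLaw.ker f} {n n' : ℕ}
    (h : Mr f r n) (h' : Mr f r n') : n = n' := by
  obtain ⟨b, hb, hM⟩ := h
  obtain ⟨b', hb', hM'⟩ := h'
  have hc : b' - b ∈ PolLaw.ker f := Ideal.Quotient.eq.mp (hb'.trans hb.symm)
  exact MM_unique f (MM_congr f hM hc) hM'

theorem Mr_one (f : B →ₚₗ[A] A) (hf : PolLaw.IsMult f) {d : ℕ} (hh : PolLaw.IsHomog f d) :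
    Mr f (1 : B ⧸ PolLaw.ker f) d := ⟨1, map_one _, MM_one f hf hh⟩

end Alg

section Top

theorem preconn_of_triv {R' : Type*} [CommRing R']
    (h : ∀ a : R', IsIdempotentElem a → a = 0 ∨ a = 1) :
    PreconnectedSpace (PrimeSpectrum R') := by
  rw [preconnectedSpace_iff_clopen]
  intro s hs
  obtain ⟨e, he, rfl⟩ := PrimeSpectrum.isClopen_iff.mp hs
  rcases h e he with h0 | h1
  · left
    rw [h0]
    simp
  · right
    rw [h1]
    simp

theorem idem_quot_triv {R : Type*} [CommRing R] (x : PrimeSpectrum R)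
    (a : R ⧸ Ideal.span {g : R | IsIdempotentElem g ∧ g ∈ x.asIdeal})
    (ha : IsIdempotentElem a) : a = 0 ∨ a = 1 := by
  have hgen : ∀ g : R, IsIdempotentElem g → g ∈ x.asIdeal →
      g ∈ Ideal.span {g : R | IsIdempotentElem g ∧ g ∈ x.asIdeal} :=
    fun g h1 h2 => Ideal.subset_span ⟨h1, h2⟩
  have hp : ∀ z ∈ Ideal.span {g : R | IsIdempotentElem g ∧ g ∈ x.asIdeal},
      ∃ e : R, IsIdempotentElem e ∧ e ∈ x.asIdeal ∧ z * e = z := by
    intro z hz
    refine Submodule.span_induction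
      (p := fun z _ => ∃ e : R, IsIdempotentElem e ∧ e ∈ x.asIdeal ∧ z * e = z) ?_ ?_ ?_ ?_ hz
    · intro z hz
      exact ⟨z, hz.1, hz.2, hz.1.eq⟩
    · exact ⟨0, IsIdempotentElem.zero, x.asIdeal.zero_mem, mul_zero 0⟩
    · rintro z₁ z₂ _ _ ⟨e₁, he₁, hx₁, hz₁⟩ ⟨e₂, he₂, hx₂, hz₂⟩
      refine ⟨e₁ + e₂ - e₁ * e₂, ?_, ?_, ?_⟩
      · show (e₁ + e₂ - e₁ * e₂) * (e₁ + e₂ - e₁ * e₂) = e₁ + e₂ - e₁ * e₂
        have h1 : e₁ * e₁ = e₁ := he₁.eq
        have h2 : e₂ * e₂ = e₂ := he₂.eq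
        linear_combination (1 - e₂) ^ 2 * h1 + (1 - e₁) * h2
      · exact x.asIdeal.sub_mem (x.asIdeal.add_mem hx₁ hx₂) (x.asIdeal.mul_mem_left _ hx₂)
      · linear_combination (1 - e₂) * hz₁ + (1 - e₁) * hz₂
    · rintro c z _ ⟨e, he, hx, hz⟩
      exact ⟨e, he, hx, by rw [smul_eq_mul, mul_assoc, hz]⟩
  obtain ⟨b, rfl⟩ := Ideal.Quotient.mk_surjective a
  have hb : b * b - b ∈ Ideal.span {g : R | IsIdempotentElem g ∧ g ∈ x.asIdeal} :=
    Ideal.Quotient.eq_zero_iff_mem.mp (by rw [map_sub, map_mul, ha.eq, sub_self])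
  obtain ⟨e, he, hex, hze⟩ := hp _ hb
  have he' : e * e = e := he.eq
  have ha₁ : IsIdempotentElem (b * (1 - e)) := by
    show b * (1 - e) * (b * (1 - e)) = b * (1 - e)
    linear_combination (-1 : R) * hze + b ^ 2 * he'
  have ha₁' : b * (1 - e) * (b * (1 - e)) = b * (1 - e) := ha₁
  have ha₂ : IsIdempotentElem (1 - b * (1 - e)) := by
    show (1 - b * (1 - e)) * (1 - b * (1 - e)) = 1 - b * (1 - e)
    linear_combination ha₁'
  have hmk : Ideal.Quotient.mk (Ideal.span {g : R | IsIdempotentElem g ∧ g ∈ x.asIdeal})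
      (b * (1 - e)) =
      Ideal.Quotient.mk (Ideal.span {g : R | IsIdempotentElem g ∧ g ∈ x.asIdeal}) b := by
    have h0 : Ideal.Quotient.mk (Ideal.span {g : R | IsIdempotentElem g ∧ g ∈ x.asIdeal}) e = 0 :=
      Ideal.Quotient.eq_zero_iff_mem.mpr (hgen e he hex)
    rw [map_mul, map_sub, map_one, h0, sub_zero, mul_one]
  have hprod : b * (1 - e) * (1 - b * (1 - e)) ∈ x.asIdeal := by
    have h0 : b * (1 - e) * (1 - b * (1 - e)) = 0 := by
      linear_combination (-1 : R) * ha₁'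
    rw [h0]
    exact x.asIdeal.zero_mem
  rcases x.isPrime.mem_or_mem hprod with h | h
  · left
    rw [← hmk]
    exact Ideal.Quotient.eq_zero_iff_mem.mpr (hgen _ ha₁ h)
  · right
    have h5 := Ideal.Quotient.eq_zero_iff_mem.mpr (hgen _ ha₂ h)
    rw [map_sub, map_one, hmk, sub_eq_zero] at h5
    exact h5.symm

theorem sep {R : Type*} [CommRing R] (x y : PrimeSpectrum R)
    (h : connectedComponent x ≠ connectedComponent y) :
    ∃ g : R, IsIdempotentElem g ∧ g ∈ x.asIdeal ∧ g ∉ y.asIdeal := by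
  by_contra hno
  push_neg at hno
  have hIx : Ideal.span {g : R | IsIdempotentElem g ∧ g ∈ x.asIdeal} ≤ x.asIdeal :=
    Ideal.span_le.mpr (fun g hg => hg.2)
  have hIy : Ideal.span {g : R | IsIdempotentElem g ∧ g ∈ x.asIdeal} ≤ y.asIdeal :=
    Ideal.span_le.mpr (fun g hg => hno g hg.1 hg.2)
  haveI : PreconnectedSpace
      (PrimeSpectrum (R ⧸ Ideal.span {g : R | IsIdempotentElem g ∧ g ∈ x.asIdeal})) :=
    preconn_of_triv (idem_quot_triv x)
  have hrange : Set.range (PrimeSpectrum.comap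
      (Ideal.Quotient.mk (Ideal.span {g : R | IsIdempotentElem g ∧ g ∈ x.asIdeal}))) =
      PrimeSpectrum.zeroLocus
        ((Ideal.span {g : R | IsIdempotentElem g ∧ g ∈ x.asIdeal} : Ideal R) : Set R) := by
    rw [range_comap_of_surjective _ _ Ideal.Quotient.mk_surjective, Ideal.mk_ker]
  have hconn : IsPreconnected (PrimeSpectrum.zeroLocus
      ((Ideal.span {g : R | IsIdempotentElem g ∧ g ∈ x.asIdeal} : Ideal R) : Set R)) := by
    rw [← hrange]
    exact isPreconnected_range (PrimeSpectrum.continuous_comap _)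
  have hx : x ∈ PrimeSpectrum.zeroLocus
      ((Ideal.span {g : R | IsIdempotentElem g ∧ g ∈ x.asIdeal} : Ideal R) : Set R) :=
    (PrimeSpectrum.mem_zeroLocus _ _).mpr hIx
  have hy : y ∈ PrimeSpectrum.zeroLocus
      ((Ideal.span {g : R | IsIdempotentElem g ∧ g ∈ x.asIdeal} : Ideal R) : Set R) :=
    (PrimeSpectrum.mem_zeroLocus _ _).mpr hIy
  exact h (connectedComponent_eq (hconn.subset_connectedComponent hx hy))

end Top

section Main

variable {A : Type u} [CommRing A] {B : Type u} [CommRing B] [Algebra A B]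

theorem card_le [ConnectedSpace (PrimeSpectrum A)] (f : B →ₚₗ[A] A) (hf : PolLaw.IsMult f) :
    ∀ (n : ℕ) (r : B ⧸ PolLaw.ker f), IsIdempotentElem r → Mr f r n →
      ∀ T : Finset (PrimeSpectrum (B ⧸ PolLaw.ker f)), (∀ x ∈ T, r ∉ x.asIdeal) →
        (∀ x ∈ T, ∀ y ∈ T, connectedComponent x = connectedComponent y → x = y) →
        T.card ≤ n := by
  classical
  have hA : Nontrivial A := S13719.nontrivial_of_connected
  intro n
  induction n using Nat.strong_induction_on with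
  | _ n ih =>
    intro r hr hM T hT hinj
    have hr' : r * r = r := hr.eq
    have hpos : T.Nonempty → 1 ≤ n := by
      rintro ⟨x, hx⟩
      by_contra hlt
      have hn : n = 0 := by omega
      rw [hn] at hM
      have h0 := Mr_zero f hf hr hM
      apply hT x hx
      rw [h0]
      exact x.asIdeal.zero_mem
    rcases Nat.lt_or_ge 1 T.card with h1 | h1
    · obtain ⟨x, hx, y, hy, hxy⟩ := Finset.one_lt_card.mp h1
      have hcc : connectedComponent x ≠ connectedComponent y :=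
        fun hc => hxy (hinj x hx y hy hc)
      obtain ⟨g, hg, hgx, hgy⟩ := sep x y hcc
      have hg' : g * g = g := hg.eq
      have i₁ : IsIdempotentElem (r * g) := by
        show r * g * (r * g) = r * g
        calc r * g * (r * g) = (r * r) * (g * g) := by ring
          _ = r * g := by rw [hr', hg']
      have i₂ : IsIdempotentElem (r * (1 - g)) := by
        show r * (1 - g) * (r * (1 - g)) = r * (1 - g)
        linear_combination (1 - g) ^ 2 * hr' + r * hg'
      obtain ⟨n₁, hn₁⟩ := Mr_exists f hf i₁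
      obtain ⟨n₂, hn₂⟩ := Mr_exists f hf i₂
      have horth : r * g * (r * (1 - g)) = 0 := by
        linear_combination (-(r * r)) * hg'
      have hsum : r * g + r * (1 - g) = r := by ring
      have hM' := Mr_add f hf hn₁ hn₂ horth
      rw [hsum] at hM'
      have hn : n = n₁ + n₂ := Mr_unique f hM hM'
      have hc := Finset.card_filter_add_card_filter_not (s := T) (fun z => g ∈ z.asIdeal)
      have hT₂ : ∀ z ∈ T.filter (fun z => g ∈ z.asIdeal), r * (1 - g) ∉ z.asIdeal := by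
        intro z hz
        rw [Finset.mem_filter] at hz
        intro hmem
        rcases z.isPrime.mem_or_mem hmem with h | h
        · exact hT z hz.1 h
        · apply z.isPrime.ne_top
          rw [Ideal.eq_top_iff_one]
          have h6 := z.asIdeal.add_mem h hz.2
          rwa [sub_add_cancel] at h6
      have hT₁ : ∀ z ∈ T.filter (fun z => ¬ g ∈ z.asIdeal), r * g ∉ z.asIdeal := by
        intro z hz
        rw [Finset.mem_filter] at hz
        intro hmem
        rcases z.isPrime.mem_or_mem hmem with h | h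
        · exact hT z hz.1 h
        · exact hz.2 h
      have hx₂ : x ∈ T.filter (fun z => g ∈ z.asIdeal) := Finset.mem_filter.mpr ⟨hx, hgx⟩
      have hy₁ : y ∈ T.filter (fun z => ¬ g ∈ z.asIdeal) := Finset.mem_filter.mpr ⟨hy, hgy⟩
      have hn₁pos : 1 ≤ n₁ := by
        by_contra hlt
        have h0 : n₁ = 0 := by omega
        rw [h0] at hn₁
        have h7 := Mr_zero f hf i₁ hn₁
        apply hT₁ y hy₁
        rw [h7]
        exact y.asIdeal.zero_mem
      have hn₂pos : 1 ≤ n₂ := by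
        by_contra hlt
        have h0 : n₂ = 0 := by omega
        rw [h0] at hn₂
        have h7 := Mr_zero f hf i₂ hn₂
        apply hT₂ x hx₂
        rw [h7]
        exact x.asIdeal.zero_mem
      have c₁ := ih n₁ (by omega) (r * g) i₁ hn₁ _ hT₁
        (fun a ha b hb => hinj a (Finset.mem_filter.mp ha).1 b (Finset.mem_filter.mp hb).1)
      have c₂ := ih n₂ (by omega) (r * (1 - g)) i₂ hn₂ _ hT₂
        (fun a ha b hb => hinj a (Finset.mem_filter.mp ha).1 b (Finset.mem_filter.mp hb).1)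
      omega
    · rcases Nat.eq_zero_or_pos T.card with h0 | h0
      · omega
      · have := hpos (Finset.card_pos.mp h0)
        omega

end Main



/-- Let A be a commutative ring whose prime spectrum is connected, B a commutative A-algebra and F : B →
A a multiplicative polynomial law homogeneous of degree d. Then Spec(B/ker F), the support of the
family of zero-cycles of degree d defined by F, has at most d connected components (in particular
finitely many). -/
theorem result {A : Type u} [CommRing A] [ConnectedSpace (PrimeSpectrum A)]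
    {B : Type u} [CommRing B] [Algebra A B] {d : ℕ} (F : PolLaw.MulLaw A B A d) :
    Finite (ConnectedComponents (PrimeSpectrum (PolLaw.image F.law))) ∧
      Nat.card (ConnectedComponents (PrimeSpectrum (PolLaw.image F.law))) ≤ d := by
  classical
  have hmain : ∀ T : Finset (PrimeSpectrum (PolLaw.image F.law)),
      (∀ x ∈ T, ∀ y ∈ T, connectedComponent x = connectedComponent y → x = y) → T.card ≤ d := by
    intro T hT
    refine card_le F.law F.mult d 1 IsIdempotentElem.one (Mr_one F.law F.mult F.homog) T ?_ hT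
    intro x _ h1
    exact x.isPrime.ne_top ((Ideal.eq_top_iff_one _).mpr h1)
  have hC : ∀ C : Finset (ConnectedComponents (PrimeSpectrum (PolLaw.image F.law))),
      C.card ≤ d := by
    intro C
    have hsurj : Function.Surjective
        (ConnectedComponents.mk : PrimeSpectrum (PolLaw.image F.law) → _) :=
      ConnectedComponents.surjective_coe
    have hcard : (C.image (Function.surjInv hsurj)).card = C.card :=
      Finset.card_image_of_injective C (Function.injective_surjInv hsurj)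
    rw [← hcard]
    apply hmain
    intro x hx y hy hxy
    obtain ⟨c, _, rfl⟩ := Finset.mem_image.mp hx
    obtain ⟨c', _, rfl⟩ := Finset.mem_image.mp hy
    have h2 : ConnectedComponents.mk (Function.surjInv hsurj c) =
        ConnectedComponents.mk (Function.surjInv hsurj c') :=
      ConnectedComponents.coe_eq_coe.mpr hxy
    rw [Function.surjInv_eq hsurj, Function.surjInv_eq hsurj] at h2
    rw [h2]
  have hfin : Finite (ConnectedComponents (PrimeSpectrum (PolLaw.image F.law))) := by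
    by_contra hnf
    rw [not_finite_iff_infinite] at hnf
    obtain ⟨s, hs⟩ := Infinite.exists_subset_card_eq
      (ConnectedComponents (PrimeSpectrum (PolLaw.image F.law))) (d + 1)
    have := hC s
    omega
  refine ⟨hfin, ?_⟩
  haveI := Fintype.ofFinite (ConnectedComponents (PrimeSpectrum (PolLaw.image F.law)))
  rw [Nat.card_eq_fintype_card, ← Finset.card_univ]
  exact hC Finset.univ

end Groth.Agent.S13727
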