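import Groth.Statements.S13728
import Mathlib

set_option autoImplicit false
universe u
open scoped TensorProduct
open ZeroCyc

namespace Groth.Agent.S13728

section Aux

theorem tmap_id_apply {A : Type u} [CommRing A] {B : Type u} [CommRing B] [Algebra A B] (d : ℕ)
    (x : ⨂[A] _ : Fin d, B) : SymTen.tmap A d (AlgHom.id A B) x = x := by
  induction x using PiTensorProduct.induction_on with
  | smul_tprod r g => simp
  | add x y hx hy => simp [hx, hy]

theorem tmap_comp_apply {A : Type u} [CommRing A] {B C D : Type u} [CommRing B] [Algebra A B]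
    [CommRing C] [Algebra A C] [CommRing D] [Algebra A D] (d : ℕ) (f : B →ₐ[A] C)
    (g : C →ₐ[A] D) (x : ⨂[A] _ : Fin d, B) :
    SymTen.tmap A d g (SymTen.tmap A d f x) = SymTen.tmap A d (g.comp f) x := by
  induction x using PiTensorProduct.induction_on with
  | smul_tprod r h => simp
  | add x y hx hy => simp [hx, hy]

/-- the `d`-fold tensor power of the `i`-th algebra -/
abbrev TPow (A : Type u) [CommRing A] {ι : Type u} (Bi : ι → Type u) [∀ i, CommRing (Bi i)]
    [∀ i, Algebra A (Bi i)] (d : ℕ) (i : ι) : Type u := ⨂[A] _ : Fin d, Bi i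

/-- transition maps on tensor powers -/
noncomputable def fT {A : Type u} [CommRing A] {ι : Type u} [Preorder ι] (Bi : ι → Type u)
    [∀ i, CommRing (Bi i)] [∀ i, Algebra A (Bi i)]
    (t : ∀ i j : ι, i ≤ j → (Bi i →ₐ[A] Bi j)) (d : ℕ) :
    ∀ i j, i ≤ j → TPow A Bi d i →ₗ[A] TPow A Bi d j :=
  fun i j h => (SymTen.tmap A d (t i j h)).toLinearMap

variable {A : Type u} [CommRing A] {B : Type u} [CommRing B] [Algebra A B]
    {ι : Type u} [Preorder ι] [IsDirected ι (fun i j => i ≤ j)] [Nonempty ι]
    (Bi : ι → Type u) [∀ i, CommRing (Bi i)] [∀ i, Algebra A (Bi i)]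
    (t : ∀ i j : ι, i ≤ j → (Bi i →ₐ[A] Bi j)) (φ : ∀ i : ι, Bi i →ₐ[A] B)
    (hcomp : ∀ (i j : ι) (h : i ≤ j), (φ j).comp (t i j h) = φ i)
    (hsurj : ∀ b : B, ∃ (i : ι) (x : Bi i), φ i x = b)
    (hzero : ∀ (i : ι) (x : Bi i), φ i x = 0 → ∃ (j : ι) (h : i ≤ j), t i j h x = 0)
    (hid : ∀ (i : ι) (h : i ≤ i), t i i h = AlgHom.id A (Bi i))
    (htrans : ∀ (i j k : ι) (hij : i ≤ j) (hjk : j ≤ k),
      (t j k hjk).comp (t i j hij) = t i k (hij.trans hjk))

include hcomp in
theorem phi_t (i j : ι) (h : i ≤ j) (x : Bi i) : φ j (t i j h x) = φ i x :=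
  DFunLike.congr_fun (hcomp i j h) x

include htrans in
theorem tt (i j k : ι) (hij : i ≤ j) (hjk : j ≤ k) (hik : i ≤ k) (x : Bi i) :
    t j k hjk (t i j hij x) = t i k hik x :=
  DFunLike.congr_fun (htrans i j k hij hjk) x

include hcomp hsurj in
theorem exists_lift {κ : Type} [Finite κ] (f : κ → B) :
    ∃ (j : ι) (g : κ → Bi j), ∀ k, φ j (g k) = f k := by
  choose i x hx using fun k => hsurj (f k)
  obtain ⟨M, hM⟩ := Finite.exists_le i
  exact ⟨M, fun k => t (i k) M (hM k) (x k), fun k => by
    rw [← hx k]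
    exact phi_t Bi t φ hcomp (i k) M (hM k) (x k)⟩

include hcomp hzero htrans in
theorem exists_unify {κ : Type} [Finite κ] {j j' : ι} (g : κ → Bi j) (g' : κ → Bi j')
    (h : ∀ k, φ j (g k) = φ j' (g' k)) :
    ∃ (l : ι) (hj : j ≤ l) (hj' : j' ≤ l), ∀ k, t j l hj (g k) = t j' l hj' (g' k) := by
  obtain ⟨l₀, h1, h2⟩ := exists_ge_ge j j'
  have hz : ∀ k, ∃ (l : ι) (hl : l₀ ≤ l),
      t l₀ l hl (t j l₀ h1 (g k) - t j' l₀ h2 (g' k)) = 0 := by
    intro k
    apply hzero
    rw [map_sub, phi_t Bi t φ hcomp, phi_t Bi t φ hcomp, h k, sub_self]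
  choose l hl hlz using hz
  obtain ⟨M, hM⟩ := Finite.exists_le l
  obtain ⟨M', hM1, hM2⟩ := exists_ge_ge M l₀
  refine ⟨M', h1.trans hM2, h2.trans hM2, fun k => ?_⟩
  have e1 : t j M' (h1.trans hM2) (g k) =
      t (l k) M' ((hM k).trans hM1) (t l₀ (l k) (hl k) (t j l₀ h1 (g k))) := by
    rw [tt Bi t htrans j l₀ (l k) h1 (hl k) (h1.trans (hl k)),
      tt Bi t htrans j (l k) M' (h1.trans (hl k)) ((hM k).trans hM1) (h1.trans hM2)]
  have e2 : t j' M' (h2.trans hM2) (g' k) =
      t (l k) M' ((hM k).trans hM1) (t l₀ (l k) (hl k) (t j' l₀ h2 (g' k))) := by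
    rw [tt Bi t htrans j' l₀ (l k) h2 (hl k) (h2.trans (hl k)),
      tt Bi t htrans j' (l k) M' (h2.trans (hl k)) ((hM k).trans hM1) (h2.trans hM2)]
  have h3 := congrArg (t (l k) M' ((hM k).trans hM1)) (hlz k)
  rw [map_sub, map_sub, map_zero, sub_eq_zero] at h3
  rw [e1, e2]
  exact h3

include hid htrans in
theorem dirSys (d : ℕ) : DirectedSystem (TPow A Bi d) (fT Bi t d · · ·) where
  map_self i x := by
    show SymTen.tmap A d (t i i le_rfl) x = x
    rw [hid]
    exact tmap_id_apply d x
  map_map k j i hij hjk x := by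
    show SymTen.tmap A d (t j k hjk) (SymTen.tmap A d (t i j hij) x) =
      SymTen.tmap A d (t i k (hij.trans hjk)) x
    rw [tmap_comp_apply, htrans]

include hcomp hsurj in
theorem exists_tlift (d : ℕ) (z : ⨂[A] _ : Fin d, B) :
    ∃ (i : ι) (y : TPow A Bi d i), SymTen.tmap A d (φ i) y = z := by
  induction z using PiTensorProduct.induction_on with
  | smul_tprod r f =>
    obtain ⟨j, g, hg⟩ := exists_lift Bi t φ hcomp hsurj f
    refine ⟨j, r • PiTensorProduct.tprod A g, ?_⟩
    rw [map_smul, SymTen.tmap_tprod]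
    congr 2
    funext k
    exact hg k
  | add z₁ z₂ h₁ h₂ =>
    obtain ⟨i₁, y₁, e₁⟩ := h₁
    obtain ⟨i₂, y₂, e₂⟩ := h₂
    obtain ⟨j, hj1, hj2⟩ := exists_ge_ge i₁ i₂
    refine ⟨j, SymTen.tmap A d (t i₁ j hj1) y₁ + SymTen.tmap A d (t i₂ j hj2) y₂, ?_⟩
    rw [map_add, tmap_comp_apply, tmap_comp_apply, hcomp, hcomp, e₁, e₂]

include hcomp hsurj hzero hid htrans in
theorem zero_detect (d : ℕ) (i : ι) (y : TPow A Bi d i) (hy : SymTen.tmap A d (φ i) y = 0) :
    ∃ (j : ι) (h : i ≤ j), SymTen.tmap A d (t i j h) y = 0 := by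
  classical
  haveI := dirSys Bi t hid htrans d
  have hex : ∀ f : Fin d → B, ∃ p : Σ j, (Fin d → Bi j), ∀ k, φ p.1 (p.2 k) = f k := by
    intro f
    obtain ⟨j, g, hg⟩ := exists_lift Bi t φ hcomp hsurj f
    exact ⟨⟨j, g⟩, hg⟩
  choose P hP using hex
  have key : ∀ (f : Fin d → B) (j : ι) (g : Fin d → Bi j), (∀ k, φ j (g k) = f k) →
      Module.DirectLimit.of A ι (TPow A Bi d) (fT Bi t d) (P f).1
        (PiTensorProduct.tprod A (P f).2) =
      Module.DirectLimit.of A ι (TPow A Bi d) (fT Bi t d) j (PiTensorProduct.tprod A g) := by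
    intro f j g hg
    obtain ⟨l, h1, h2, hl⟩ := exists_unify Bi t φ hcomp hzero htrans (P f).2 g
      (fun k => by rw [hP f k, hg k])
    have e1 := Module.DirectLimit.of_f (R := A) (ι := ι) (G := TPow A Bi d) (f := fT Bi t d)
      (i := (P f).1) (j := l) (hij := h1) (x := PiTensorProduct.tprod A (P f).2)
    have e2 := Module.DirectLimit.of_f (R := A) (ι := ι) (G := TPow A Bi d) (f := fT Bi t d)
      (i := j) (j := l) (hij := h2) (x := PiTensorProduct.tprod A g)
    rw [← e1, ← e2]
    congr 1
    show SymTen.tmap A d (t _ l h1) (PiTensorProduct.tprod A (P f).2) =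
      SymTen.tmap A d (t j l h2) (PiTensorProduct.tprod A g)
    rw [SymTen.tmap_tprod, SymTen.tmap_tprod]
    congr 1
    funext k
    exact hl k
  let m : MultilinearMap A (fun _ : Fin d => B)
      (Module.DirectLimit (TPow A Bi d) (fT Bi t d)) :=
    { toFun := fun f => Module.DirectLimit.of A ι (TPow A Bi d) (fT Bi t d) (P f).1
        (PiTensorProduct.tprod A (P f).2)
      map_update_add' := by
        intro _ f k x y
        obtain ⟨j, g', hg'⟩ := exists_lift Bi t φ hcomp hsurj (κ := Option (Option (Fin d)))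
          (fun o => match o with
            | none => x
            | some none => y
            | some (some l) => f l)
        have hgx : φ j (g' none) = x := hg' none
        have hgy : φ j (g' (some none)) = y := hg' (some none)
        have hgf : ∀ l, φ j (g' (some (some l))) = f l := fun l => hg' (some (some l))
        have hup : ∀ (z : B) (z' : Bi j), φ j z' = z → ∀ l,
            φ j (Function.update (fun l => g' (some (some l))) k z' l) =
              Function.update f k z l := by
          intro z z' hz l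
          simp only [Function.update_apply]
          split_ifs with hl
          · exact hz
          · exact hgf l
        show Module.DirectLimit.of A ι (TPow A Bi d) (fT Bi t d) (P (Function.update f k (x + y))).1
            (PiTensorProduct.tprod A (P (Function.update f k (x + y))).2) =
          Module.DirectLimit.of A ι (TPow A Bi d) (fT Bi t d) (P (Function.update f k x)).1
            (PiTensorProduct.tprod A (P (Function.update f k x)).2) +
          Module.DirectLimit.of A ι (TPow A Bi d) (fT Bi t d) (P (Function.update f k y)).1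
            (PiTensorProduct.tprod A (P (Function.update f k y)).2)
        rw [key _ j _ (hup (x + y) (g' none + g' (some none)) (by rw [map_add, hgx, hgy])),
          key _ j _ (hup x (g' none) hgx), key _ j _ (hup y (g' (some none)) hgy),
          MultilinearMap.map_update_add, map_add]
      map_update_smul' := by
        intro _ f k c x
        obtain ⟨j, g', hg'⟩ := exists_lift Bi t φ hcomp hsurj (κ := Option (Fin d))
          (fun o => match o with
            | none => x
            | some l => f l)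
        have hgx : φ j (g' none) = x := hg' none
        have hgf : ∀ l, φ j (g' (some l)) = f l := fun l => hg' (some l)
        have hup : ∀ (z : B) (z' : Bi j), φ j z' = z → ∀ l,
            φ j (Function.update (fun l => g' (some l)) k z' l) =
              Function.update f k z l := by
          intro z z' hz l
          simp only [Function.update_apply]
          split_ifs with hl
          · exact hz
          · exact hgf l
        show Module.DirectLimit.of A ι (TPow A Bi d) (fT Bi t d) (P (Function.update f k (c • x))).1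
            (PiTensorProduct.tprod A (P (Function.update f k (c • x))).2) =
          c • Module.DirectLimit.of A ι (TPow A Bi d) (fT Bi t d) (P (Function.update f k x)).1
            (PiTensorProduct.tprod A (P (Function.update f k x)).2)
        rw [key _ j _ (hup (c • x) (c • g' none) (by rw [map_smul, hgx])),
          key _ j _ (hup x (g' none) hgx), MultilinearMap.map_update_smul, map_smul] }
  have hΨ : ∀ (i : ι) (y : TPow A Bi d i),
      PiTensorProduct.lift m (SymTen.tmap A d (φ i) y) =
        Module.DirectLimit.of A ι (TPow A Bi d) (fT Bi t d) i y := by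
    intro i y
    induction y using PiTensorProduct.induction_on with
    | smul_tprod r g =>
      rw [map_smul, SymTen.tmap_tprod, map_smul, PiTensorProduct.lift.tprod, map_smul]
      congr 1
      exact key _ i g (fun k => rfl)
    | add x y hx hy => rw [map_add, map_add, hx, hy, map_add]
  have h0 : Module.DirectLimit.of A ι (TPow A Bi d) (fT Bi t d) i y = 0 := by
    rw [← hΨ i y, hy, map_zero]
  obtain ⟨j, hij, hj⟩ := Module.DirectLimit.of.zero_exact h0
  exact ⟨j, hij, hj⟩

end Aux


/-- The functor B ↦ TS^d_A(B) (symmetric tensors of degree d, the invariants of the symmetric group in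
the d-fold tensor power) commutes with filtered direct limits. Concretely, let B be the direct limit
of a directed system (B_i, t_ij : B_i → B_j) of commutative algebras over the commutative ring A
(t_ii the identity, t_jk ∘ t_ij = t_ik) with structure maps φ_i : B_i → B (compatible with the t_ij,
jointly surjective, and an element of B_i vanishing in B vanishes in some B_j). Then every element
of TS^d_A(B) is the image of an element of some TS^d_A(B_i), and an element of TS^d_A(B_i) whose
image in TS^d_A(B) is zero has image zero in TS^d_A(B_j) for some j ≥ i. -/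
theorem result {A : Type u} [CommRing A] {B : Type u} [CommRing B] [Algebra A B]
    {ι : Type u} [Preorder ι] [IsDirected ι (fun i j => i ≤ j)] [Nonempty ι]
    (Bi : ι → Type u) [∀ i, CommRing (Bi i)] [∀ i, Algebra A (Bi i)]
    (t : ∀ i j : ι, i ≤ j → (Bi i →ₐ[A] Bi j)) (φ : ∀ i : ι, Bi i →ₐ[A] B)
    (hcomp : ∀ (i j : ι) (h : i ≤ j), (φ j).comp (t i j h) = φ i)
    (hsurj : ∀ b : B, ∃ (i : ι) (x : Bi i), φ i x = b)
    (hzero : ∀ (i : ι) (x : Bi i), φ i x = 0 → ∃ (j : ι) (h : i ≤ j), t i j h x = 0)
    (hid : ∀ (i : ι) (h : i ≤ i), t i i h = AlgHom.id A (Bi i))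
    (htrans : ∀ (i j k : ι) (hij : i ≤ j) (hjk : j ≤ k), (t j k hjk).comp (t i j hij) = t i k (hij.trans hjk)) (d : ℕ) :
    (∀ z : SymTen.TS A B d, ∃ (i : ι) (y : SymTen.TS A (Bi i) d), SymTen.TSmap A d (φ i) y = z) ∧
      ∀ (i : ι) (y : SymTen.TS A (Bi i) d), SymTen.TSmap A d (φ i) y = 0 →
        ∃ (j : ι) (h : i ≤ j), SymTen.TSmap A d (t i j h) y = 0 := by
  classical
  have hzd := zero_detect Bi t φ hcomp hsurj hzero hid htrans d
  refine ⟨?_, ?_⟩
  · intro z
    obtain ⟨i, y₀, hy₀⟩ := exists_tlift Bi t φ hcomp hsurj d z.1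
    have hw : ∀ σ : Equiv.Perm (Fin d), ∃ (j : ι) (h : i ≤ j),
        SymTen.tmap A d (t i j h)
          (PiTensorProduct.reindex A (fun _ : Fin d => Bi i) σ y₀ - y₀) = 0 := by
      intro σ
      apply hzd
      rw [map_sub, SymTen.tmap_reindex, hy₀, (SymTen.mem_TS_iff A B d z.1).mp z.2 σ, sub_self]
    choose j hj hjz using hw
    obtain ⟨M, hM⟩ := Finite.exists_le j
    obtain ⟨M', hM1, hM2⟩ := exists_ge_ge M i
    have hsym : SymTen.tmap A d (t i M' hM2) y₀ ∈ SymTen.TS A (Bi M') d := by
      rw [SymTen.mem_TS_iff]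
      intro σ
      have h1 := congrArg (SymTen.tmap A d (t (j σ) M' ((hM σ).trans hM1))) (hjz σ)
      rw [tmap_comp_apply, htrans, map_zero, map_sub, SymTen.tmap_reindex, sub_eq_zero] at h1
      exact h1
    refine ⟨M', ⟨_, hsym⟩, ?_⟩
    apply Subtype.ext
    show SymTen.tmap A d (φ M') (SymTen.tmap A d (t i M' hM2) y₀) = z.1
    rw [tmap_comp_apply, hcomp, hy₀]
  · intro i y hy
    have h1 : SymTen.tmap A d (φ i) y.1 = 0 := congrArg Subtype.val hy
    obtain ⟨j, h, hj⟩ := hzd i y.1 h1
    exact ⟨j, h, Subtype.ext hj⟩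

end Groth.Agent.S13728
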