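import Groth.Statements.S13729
import Groth.Agent.H80.NLGamma

set_option autoImplicit false
universe u
open scoped TensorProduct
open ZeroCyc

namespace Groth.Agent.S13729

/-- Let (C, γ) be the algebra of divided powers Γ^d_A(B) of a commutative A-algebra B with its universal
multiplicative law γ : B → C homogeneous of degree d (every multiplicative law B → C' homogeneous of
degree d factors uniquely through γ by an algebra map C → C'). If B is flat over A then C = Γ^d_A(B)
is flat over A. (The published statement is that Γ^d(X/S) → S inherits flatness from X → S for any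
separated algebraic space X over S; this row is the case X and S affine, where Γ^d(X/S) = Spec
Γ^d_A(B).) -/
theorem result {A : Type u} [CommRing A] {B : Type u} [CommRing B] [Algebra A B] {C : Type u} [CommRing C] [Algebra A C]
    {d : ℕ} (γ : PolLaw.MulLaw A B C d) (hγ : PolLaw.IsGammaD γ) [Module.Flat A B] :
    Module.Flat A C := by
  obtain ⟨τ, -, hτ⟩ := Groth.Agent.H80.NLGamma.main' (A := A) (B := B) (d := d)
    (Or.inl inferInstance)
  obtain ⟨f, hf, -⟩ := hγ (SymTen.TS A B d) τ
  obtain ⟨g, hg, -⟩ := hτ C γ
  obtain ⟨i, -, hi⟩ := hγ C γ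
  have h1 : g.comp f = AlgHom.id A C := by
    have e1 : g.comp f = i := hi _ (by
      show PolLaw.postcomp (g.comp f).toLinearMap γ.law = γ.law
      rw [AlgHom.comp_toLinearMap, Groth.Agent.H74.GammaSpan.postcomp_comp, hf, hg])
    have e2 : AlgHom.id A C = i := hi _ (Groth.Agent.H74.GammaSpan.postcomp_id γ.law)
    rw [e1, e2]
  have hflat : Module.Flat A (SymTen.TS A B d) := by
    have := Groth.Agent.H80.FlatTSFree.flat_TSsub (A := A) (N := B) (n := d)
    have heq : Subalgebra.toSubmodule (SymTen.TS A B d) = Groth.Agent.H80.FlatTS.TSsub A B d := by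
      ext t
      rw [Groth.Agent.H80.FlatTS.mem_TSsub]
      rfl
    exact Module.Flat.of_linearEquiv (LinearEquiv.ofEq _ _ heq)
  refine Module.Flat.of_retract f.toLinearMap g.toLinearMap ?_
  rw [← AlgHom.comp_toLinearMap, h1]
  rfl

end Groth.Agent.S13729
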