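import Groth.Statements.S13731
import Groth.Agent.H69.DVRQuot
import Groth.Agent.H73.DVRSpec

set_option autoImplicit false
set_option linter.style.haveILetI false
universe u
open HTop

namespace Groth.Agent.S13731

open CategoryTheory CategoryTheory.Limits AlgebraicGeometry in
/-- Let X be a separated Noetherian scheme and {p_i : U_i → X} a finite family of separated morphisms of
finite type whose induced morphism from the disjoint union of the U_i to X is universally submersive
(an h-covering). Then every point x of X is p_i(u) for some i and some point u of U_i admitting a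
generization ξ in U_i whose image p_i(ξ) is a generic point of an irreducible component of X.
Equivalently, the irreducible components of the U_i dominating an irreducible component of X jointly
cover X. -/
theorem result {X : Scheme.{u}} [IsNoetherian X] [X.IsSeparated] (E : PreZeroHypercover.{u} X) [Finite E.I₀] [∀ i, LocallyOfFiniteType (E.f i)] [∀ i, QuasiCompact (E.f i)] [∀ i, IsSeparated (E.f i)] (hE : SGA1.UnivSubmersive (Sigma.desc E.f)) (x : X) : ∃ (i : E.I₀) (ξ u : E.X i), ξ ⤳ u ∧ E.f i u = x ∧ closure {E.f i ξ} ∈ irreducibleComponents ↥X := by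
  classical
  have hq : Topology.IsQuotientMap (Sigma.desc E.f).base :=
    MorphismProperty.universally_le _ _ hE
  have hpt : ∀ z : ↥(∐ E.X), ∃ i, ∃ u : E.X i, (Sigma.ι E.X i).base u = z :=
    fun z => (sigmaOpenCover E.X).exists_eq z
  have hπι : ∀ i (u : E.X i), (Sigma.desc E.f).base ((Sigma.ι E.X i).base u) = (E.f i).base u := by
    intro i u
    rw [← Scheme.Hom.comp_apply, Sigma.ι_desc]
  obtain ⟨η, hη⟩ : ∃ η : X, IsGenericPoint η (irreducibleComponent x) :=
    QuasiSober.sober isIrreducible_irreducibleComponent isClosed_irreducibleComponent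
  have hηx : η ⤳ x := hη.specializes mem_irreducibleComponent
  have hcomp : closure {η} ∈ irreducibleComponents ↥X := by
    rw [hη.def]
    exact irreducibleComponent_mem_irreducibleComponents x
  by_cases hxη : x = η
  · obtain ⟨z, hz⟩ := hq.surjective x
    obtain ⟨i, u, rfl⟩ := hpt z
    have hu : (E.f i).base u = x := by rw [← hπι, hz]
    refine ⟨i, u, u, specializes_rfl, hu, ?_⟩
    have : closure {(E.f i).base u} ∈ irreducibleComponents ↥X := by
      rw [hu, hxη]
      exact hcomp
    exact this
  · obtain ⟨A, h, hDVR, hcl, hcomp'⟩ := Groth.Agent.H73.KA.exists_dvr_through_specialization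
      (𝟙 X) η x hηx hxη
    let g₀ : ↥(Spec (CommRingCat.of A)) := (⟨⊥, Ideal.isPrime_bot⟩ : PrimeSpectrum A)
    have hg₀ : h.base g₀ = η := by
      let pt₀ : ↥(Spec (X.residueField η)) :=
        (⟨⊥, Ideal.isPrime_bot⟩ : PrimeSpectrum (X.residueField η))
      have e1 : (Spec.map (CommRingCat.ofHom A.subtype)).base pt₀ = g₀ := by
        apply PrimeSpectrum.ext
        change Ideal.comap A.subtype ⊥ = ⊥
        exact Ideal.comap_bot_of_injective _ Subtype.val_injective
      rw [← e1, ← Scheme.Hom.comp_apply, hcomp', Scheme.Hom.comp_apply,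
        Scheme.fromSpecResidueField_apply]
      rfl
    have hq' : Topology.IsQuotientMap (pullback.snd (Sigma.desc E.f) h).base :=
      hE _ _ _ (IsPullback.of_hasPullback (Sigma.desc E.f) h).flip
    have hcond : ∀ w : ↥(pullback (Sigma.desc E.f) h),
        (Sigma.desc E.f).base ((pullback.fst (Sigma.desc E.f) h).base w) =
          h.base ((pullback.snd (Sigma.desc E.f) h).base w) := by
      intro w
      rw [← Scheme.Hom.comp_apply, ← Scheme.Hom.comp_apply, pullback.condition]
    obtain ⟨w', w, hsp, hw', hw⟩ :=
      Groth.Agent.H69.DVRQuot.exists_specializes_of_isQuotientMap _ hq'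
    have hsp1 : (pullback.fst (Sigma.desc E.f) h).base w' ⤳
        (pullback.fst (Sigma.desc E.f) h).base w :=
      hsp.map (pullback.fst (Sigma.desc E.f) h).continuous
    obtain ⟨i, u, hu⟩ := hpt ((pullback.fst (Sigma.desc E.f) h).base w)
    have hmem : (pullback.fst (Sigma.desc E.f) h).base w' ∈ Set.range (Sigma.ι E.X i).base :=
      hsp1.mem_open (Sigma.ι E.X i).isOpenEmbedding.isOpen_range ⟨u, hu⟩
    obtain ⟨ξ, hξ⟩ := hmem
    have h1 : ξ ⤳ u := by
      rw [← hξ, ← hu] at hsp1
      exact ((Sigma.ι E.X i).isOpenEmbedding.isInducing.specializes_iff).mp hsp1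
    have h2 : (E.f i).base u = x := by
      rw [← hπι, hu, hcond, hw]
      exact hcl
    have h3 : (E.f i).base ξ = η := by
      rw [← hπι, hξ, hcond, hw']
      exact hg₀
    refine ⟨i, ξ, u, h1, h2, ?_⟩
    have : closure {(E.f i).base ξ} ∈ irreducibleComponents ↥X := by
      rw [h3]
      exact hcomp
    exact this

end Groth.Agent.S13731
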