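import Groth.Statements.S13737
import Mathlib
import Groth.Agent.H9.BlowUpMax
import Groth.Agent.H73.DVRSpec
import Groth.Agent.H11.SubmDVR

set_option autoImplicit false
set_option linter.style.haveILetI false
set_option linter.unusedSectionVars false
set_option linter.unusedVariables false
universe u
open HTop

namespace Groth.Agent.S13737

section Helpers

open CategoryTheory CategoryTheory.Limits AlgebraicGeometry TopologicalSpace

/-- Every point of a quasi-sober `T0` space has a maximal generization. -/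
theorem exists_isMaxPt_specializes {T : Type*} [TopologicalSpace T] [QuasiSober T] [T0Space T]
    (x : T) : ∃ η : T, Groth.Agent.H9.IsMaxPt η ∧ η ⤳ x := by
  obtain ⟨η, hη⟩ := QuasiSober.sober (isIrreducible_irreducibleComponent (x := x))
    isClosed_irreducibleComponent
  refine ⟨η, ?_, ?_⟩
  · intro y hy
    have h1 : closure ({η} : Set T) ⊆ closure {y} := specializes_iff_closure_subset.mp hy
    have h2 : closure ({y} : Set T) = irreducibleComponent x := by
      refine eq_irreducibleComponent isIrreducible_singleton.closure.isPreirreducible ?_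
      rw [← hη.def]
      exact h1
    have h3 : closure ({y} : Set T) = closure {η} := h2.trans hη.def.symm
    exact (inseparable_iff_closure_eq.mpr h3).eq
  · rw [specializes_iff_mem_closure, hη.def]
    exact mem_irreducibleComponent

end Helpers


open CategoryTheory CategoryTheory.Limits AlgebraicGeometry in
/-- Let X be a separated integral Noetherian scheme, b : X' → X a blow-up of X in a quasi-coherent sheaf
of ideals (characterised by the universal property of blowing up), with X' separated and b of finite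
type, and let U be an open subscheme of X' whose composite U → X' → X is universally submersive (an
h-covering). Then U = X'. (The published statement takes X only integral; its proof applies the
surjectivity of dominating components for Noetherian schemes, so this row takes X Noetherian.) -/
theorem result {X X' : Scheme.{u}} [IsNoetherian X] [X.IsSeparated] [IsIntegral X] [X'.IsSeparated] (𝓘 : X.IdealSheafData) (b : X' ⟶ X) [LocallyOfFiniteType b] [QuasiCompact b] (hb : BlowUp.IsBlowUp b 𝓘) (U : X'.Opens) (hU : SGA1.UnivSubmersive (U.ι ≫ b)) : U = ⊤ := by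
  classical
  haveI : IsLocallyNoetherian X' := LocallyOfFiniteType.isLocallyNoetherian b
  haveI hiso : IsIso (b ∣_ 𝓘.support.compl) :=
    Groth.Agent.H9.isIso_morphismRestrict_compl_of_isBlowUp 𝓘 b hb
  have hbij := Groth.Agent.H9.bijOn_isMaxPt_of_isBlowUp 𝓘 b hb
  have hq : Topology.IsQuotientMap (U.ι ≫ b).base :=
    hU (𝟙 _) (𝟙 _) (U.ι ≫ b) (IsPullback.id_vert _)
  have hsurj : Function.Surjective (U.ι ≫ b).base := hq.surjective
  -- injectivity over the complement of the support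
  have hinjW : ∀ z₁ z₂ : X', b.base z₁ ∈ 𝓘.support.compl → b.base z₂ ∈ 𝓘.support.compl →
      b.base z₁ = b.base z₂ → z₁ = z₂ := by
    intro z₁ z₂ h1 h2 h12
    have hz : (b ∣_ 𝓘.support.compl).homeomorph (⟨z₁, h1⟩ : ↥(b ⁻¹ᵁ 𝓘.support.compl)) =
        (b ∣_ 𝓘.support.compl).homeomorph (⟨z₂, h2⟩ : ↥(b ⁻¹ᵁ 𝓘.support.compl)) := by
      apply Subtype.ext
      exact (morphismRestrict_base_coe b _ (⟨z₁, h1⟩ : ↥(b ⁻¹ᵁ 𝓘.support.compl))).trans
        (h12.trans (morphismRestrict_base_coe b _ (⟨z₂, h2⟩ : ↥(b ⁻¹ᵁ 𝓘.support.compl))).symm)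
    exact congrArg Subtype.val ((b ∣_ 𝓘.support.compl).homeomorph.injective hz)
  rw [eq_top_iff]
  intro x' _
  by_contra hx'U
  obtain ⟨η', hη'max, hη'sp⟩ := exists_isMaxPt_specializes x'
  have hη'V : b.base η' ∈ 𝓘.support.compl := (hbij.mapsTo hη'max).2
  -- the maximal point lies in `U`
  have hη'U : η' ∈ U := by
    obtain ⟨u, hu⟩ := hsurj (b.base η')
    have hu' : b.base (U.ι.base u) = b.base η' := hu
    have h1 : b.base (U.ι.base u) ∈ 𝓘.support.compl := by rw [hu']; exact hη'V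
    have h2 := hinjW (U.ι.base u) η' h1 hη'V hu'
    rw [← h2]
    have hm : U.ι.base u ∈ Set.range U.ι.base := ⟨u, rfl⟩
    rw [Scheme.Opens.range_ι] at hm
    exact hm
  have hne : x' ≠ η' := fun h => hx'U (h ▸ hη'U)
  -- a DVR through the specialization `η' ⤳ x'`
  obtain ⟨A, h, hA, hhcl, hAeq⟩ :=
    Groth.Agent.H73.KA.exists_dvr_through_specialization (𝟙 X') η' x' hη'sp hne
  haveI := hA
  -- lift along the universally submersive morphism
  obtain ⟨V, iV1, iV2, iV3, ψ₀, k, hψloc, hψinj, hk⟩ :=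
    Groth.Agent.H11.SubmDVR.exists_dvr_lift (U.ι ≫ b) hU ↥A (h ≫ b)
  obtain ⟨α, hα⟩ : ∃ α : Spec (CommRingCat.of V) ⟶ X', α = k ≫ U.ι := ⟨_, rfl⟩
  obtain ⟨β, hβ⟩ : ∃ β : Spec (CommRingCat.of V) ⟶ X',
      β = Spec.map (CommRingCat.ofHom ψ₀) ≫ h := ⟨_, rfl⟩
  have hαβb : α ≫ b = β ≫ b := by
    rw [hα, hβ, Category.assoc, Category.assoc]
    exact hk
  -- generic points
  obtain ⟨ξ, hξ⟩ : ∃ z : ↥(Spec (CommRingCat.of V)), PrimeSpectrum.asIdeal (R := V) z = ⊥ :=
    ⟨(⟨⊥, Ideal.isPrime_bot⟩ : PrimeSpectrum V), rfl⟩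
  obtain ⟨ξA, hξA⟩ : ∃ z : PrimeSpectrum A, z.asIdeal = ⊥ := ⟨⟨⊥, Ideal.isPrime_bot⟩, rfl⟩
  obtain ⟨pt, hpt⟩ : ∃ z : PrimeSpectrum (X'.residueField η'), z.asIdeal = ⊥ :=
    ⟨⟨⊥, Ideal.isPrime_bot⟩, rfl⟩
  have hβξ : β.base ξ = η' := by
    have h1 : (Spec.map (CommRingCat.ofHom ψ₀)).base ξ = ξA := by
      apply PrimeSpectrum.ext
      show Ideal.comap ψ₀ (PrimeSpectrum.asIdeal (R := V) ξ) = ξA.asIdeal
      rw [hξ, hξA, ← RingHom.ker_eq_comap_bot]
      exact (RingHom.injective_iff_ker_eq_bot ψ₀).mp hψinj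
    have h2 : (Spec.map (CommRingCat.ofHom A.subtype)).base pt = ξA := by
      apply PrimeSpectrum.ext
      show Ideal.comap A.subtype pt.asIdeal = ξA.asIdeal
      rw [hpt, hξA, ← RingHom.ker_eq_comap_bot]
      exact (RingHom.injective_iff_ker_eq_bot _).mp Subtype.val_injective
    have h3 : h.base ξA = η' := by
      rw [← h2]
      calc h.base ((Spec.map (CommRingCat.ofHom A.subtype)).base pt)
          = (Spec.map (CommRingCat.ofHom A.subtype) ≫ h).base pt := rfl
        _ = (X'.fromSpecResidueField η' ≫ 𝟙 X').base pt := by rw [hAeq]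
        _ = η' := by
            rw [Category.comp_id]
            exact Scheme.fromSpecResidueField_apply η' pt
    rw [hβ]
    show h.base ((Spec.map (CommRingCat.ofHom ψ₀)).base ξ) = η'
    rw [h1]
    exact h3
  have hdense : Dense ({ξ} : Set ↥(Spec (CommRingCat.of V))) := by
    rw [dense_iff_closure_eq]
    exact (PrimeSpectrum.closure_singleton (R := V) ξ).trans
      (by rw [hξ]; exact PrimeSpectrum.zeroLocus_bot)
  have H : ∀ x ∈ ({ξ} : Set ↥(Spec (CommRingCat.of V))),
      (Spec (CommRingCat.of V)).fromSpecResidueField x ≫ α =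
        (Spec (CommRingCat.of V)).fromSpecResidueField x ≫ β := by
    intro x hx
    rw [Set.mem_singleton_iff] at hx
    subst hx
    obtain ⟨r, hr⟩ : ∃ r, r = (Spec (CommRingCat.of V)).fromSpecResidueField x := ⟨_, rfl⟩
    rw [← hr]
    have hrx : ∀ t, r.base t = x := fun t => by
      rw [hr]
      exact Scheme.fromSpecResidueField_apply x t
    have hrb : (r ≫ α) ≫ b = (r ≫ β) ≫ b := by
      rw [Category.assoc, Category.assoc, hαβb]
    have hrβ : ∀ t, (r ≫ β).base t = η' := fun t => by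
      show β.base (r.base t) = η'
      rw [hrx t]
      exact hβξ
    have hrα : ∀ t, b.base ((r ≫ α).base t) = b.base η' := fun t => by
      have h1 : ((r ≫ α) ≫ b).base t = ((r ≫ β) ≫ b).base t := by rw [hrb]
      have h2 : b.base ((r ≫ α).base t) = b.base ((r ≫ β).base t) := h1
      rw [h2, hrβ t]
    have hRα : Set.range (r ≫ α).base ⊆ Set.range (b ⁻¹ᵁ 𝓘.support.compl).ι.base := by
      rw [Scheme.Opens.range_ι]
      rintro _ ⟨t, rfl⟩
      show b.base ((r ≫ α).base t) ∈ 𝓘.support.compl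
      rw [hrα t]
      exact hη'V
    have hRβ : Set.range (r ≫ β).base ⊆ Set.range (b ⁻¹ᵁ 𝓘.support.compl).ι.base := by
      rw [Scheme.Opens.range_ι]
      rintro _ ⟨t, rfl⟩
      show b.base ((r ≫ β).base t) ∈ 𝓘.support.compl
      rw [hrβ t]
      exact hη'V
    haveI hmono : Mono ((b ⁻¹ᵁ 𝓘.support.compl).ι ≫ b) := by
      rw [← morphismRestrict_ι]
      infer_instance
    have e1 : IsOpenImmersion.lift (b ⁻¹ᵁ 𝓘.support.compl).ι (r ≫ α) hRα =
        IsOpenImmersion.lift (b ⁻¹ᵁ 𝓘.support.compl).ι (r ≫ β) hRβ := by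
      apply (cancel_mono ((b ⁻¹ᵁ 𝓘.support.compl).ι ≫ b)).mp
      calc IsOpenImmersion.lift (b ⁻¹ᵁ 𝓘.support.compl).ι (r ≫ α) hRα ≫
            ((b ⁻¹ᵁ 𝓘.support.compl).ι ≫ b)
          = (IsOpenImmersion.lift (b ⁻¹ᵁ 𝓘.support.compl).ι (r ≫ α) hRα ≫
              (b ⁻¹ᵁ 𝓘.support.compl).ι) ≫ b := (Category.assoc _ _ _).symm
        _ = (r ≫ α) ≫ b := by rw [IsOpenImmersion.lift_fac]
        _ = (r ≫ β) ≫ b := hrb
        _ = (IsOpenImmersion.lift (b ⁻¹ᵁ 𝓘.support.compl).ι (r ≫ β) hRβ ≫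
              (b ⁻¹ᵁ 𝓘.support.compl).ι) ≫ b := by rw [IsOpenImmersion.lift_fac]
        _ = IsOpenImmersion.lift (b ⁻¹ᵁ 𝓘.support.compl).ι (r ≫ β) hRβ ≫
            ((b ⁻¹ᵁ 𝓘.support.compl).ι ≫ b) := Category.assoc _ _ _
    calc r ≫ α = IsOpenImmersion.lift (b ⁻¹ᵁ 𝓘.support.compl).ι (r ≫ α) hRα ≫
          (b ⁻¹ᵁ 𝓘.support.compl).ι := (IsOpenImmersion.lift_fac _ _ _).symm
      _ = IsOpenImmersion.lift (b ⁻¹ᵁ 𝓘.support.compl).ι (r ≫ β) hRβ ≫
          (b ⁻¹ᵁ 𝓘.support.compl).ι := by rw [e1]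
      _ = r ≫ β := IsOpenImmersion.lift_fac _ _ _
  have hαβ : α = β :=
    ext_of_fromSpecResidueField_eq α β (terminal.from X') {ξ} hdense H (terminal.hom_ext _ _)
  -- the closed point
  have hcl : β.base (IsLocalRing.closedPoint V) = x' := by
    rw [hβ]
    show h.base ((Spec.map (CommRingCat.ofHom ψ₀)).base (IsLocalRing.closedPoint V)) = x'
    have h1 : (Spec.map (CommRingCat.ofHom ψ₀)).base (IsLocalRing.closedPoint V) =
        IsLocalRing.closedPoint A := (IsLocalRing.isLocalHom_iff_comap_closedPoint ψ₀).mp hψloc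
    rw [h1]
    exact hhcl
  apply hx'U
  rw [← hcl, ← hαβ, hα]
  show U.ι.base (k.base (IsLocalRing.closedPoint V)) ∈ U
  have hm : U.ι.base (k.base (IsLocalRing.closedPoint V)) ∈ Set.range U.ι.base := ⟨_, rfl⟩
  rw [Scheme.Opens.range_ι] at hm
  exact hm

end Groth.Agent.S13737
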