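import Groth.Statements.S13738
import Mathlib

set_option autoImplicit false
set_option linter.style.haveILetI false
set_option linter.unusedSectionVars false
set_option linter.unusedVariables false
universe u
open SGA1

namespace Groth.Agent.S13738

section Helpers
open CategoryTheory CategoryTheory.Limits AlgebraicGeometry

theorem exists_smul_eq {X S : Scheme.{u}} (q : X ⟶ S) {G : Type u} [Group G] (ρ : G →* Aut X)
    (htrans : ∀ (Ω : Type u) [Field Ω] [IsAlgClosed Ω] (τ₁ τ₂ : Spec (CommRingCat.of Ω) ⟶ X),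
      τ₁ ≫ q = τ₂ ≫ q → ∃ g : G, τ₁ ≫ (ρ g).hom = τ₂)
    (x y : X) (hxy : q x = q y) : ∃ g : G, (ρ g).hom x = y := by
  obtain ⟨z, hz1, hz2⟩ := Scheme.Pullback.exists_preimage_pullback (f := q) (g := q) x y hxy
  obtain ⟨τ, hτ⟩ : ∃ τ : Spec (CommRingCat.of (AlgebraicClosure ((pullback q q).residueField z))) ⟶
      pullback q q, τ = Spec.map (CommRingCat.ofHom (algebraMap ((pullback q q).residueField z)
        (AlgebraicClosure ((pullback q q).residueField z)))) ≫
        (pullback q q).fromSpecResidueField z := ⟨_, rfl⟩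
  obtain ⟨g, hg⟩ := htrans (AlgebraicClosure ((pullback q q).residueField z))
    (τ ≫ pullback.fst q q) (τ ≫ pullback.snd q q)
    (by rw [Category.assoc, Category.assoc, pullback.condition])
  refine ⟨g, ?_⟩
  obtain ⟨w⟩ : Nonempty (Spec (CommRingCat.of (AlgebraicClosure ((pullback q q).residueField z)))) :=
    ⟨(⟨⊥, Ideal.isPrime_bot⟩ : PrimeSpectrum (AlgebraicClosure ((pullback q q).residueField z)))⟩
  have hτw : τ w = z := by
    rw [hτ, Scheme.Hom.comp_apply, Scheme.fromSpecResidueField_apply]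
  have h := congrArg (fun φ : Spec (CommRingCat.of (AlgebraicClosure
    ((pullback q q).residueField z))) ⟶ X => φ w) hg
  simp only [Scheme.Hom.comp_apply] at h
  rw [hτw, hz1, hz2] at h
  exact h

theorem lemmaB {X S : Scheme.{u}} (q : X ⟶ S) {G : Type u} [Group G] [Finite G] (ρ : G →* Aut X)
    (hA : ∀ x y : X, q x = q y → ∃ g : G, (ρ g).hom x = y)
    (T₀ : Set X) (hcl : IsClosed T₀) (hirr : IsIrreducible T₀) (hq : q '' T₀ = Set.univ)
    (T : Set X) (hT : T ∈ irreducibleComponents X) : ∃ g : G, (ρ g).hom '' T₀ = T := by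
  classical
  haveI := Fintype.ofFinite G
  have hT' : Maximal IsIrreducible T := hT
  have hcover : T ⊆ ⋃₀ ↑(Finset.univ.image (fun g : G => (ρ g).hom '' T₀)) := by
    intro x _
    have hx : q x ∈ q '' T₀ := hq ▸ Set.mem_univ _
    obtain ⟨y, hy, hyx⟩ := hx
    obtain ⟨g, hg⟩ := hA y x hyx
    refine Set.mem_sUnion.mpr ⟨(ρ g).hom '' T₀, ?_, ⟨y, hy, hg⟩⟩
    rw [Finset.mem_coe, Finset.mem_image]
    exact ⟨g, Finset.mem_univ g, rfl⟩
  obtain ⟨z, hz, hTz⟩ := (isIrreducible_iff_sUnion_isClosed.mp hT'.1) _ (by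
    intro z hz
    rw [Finset.mem_image] at hz
    obtain ⟨g, -, rfl⟩ := hz
    haveI : IsIso (ρ g).hom := Iso.isIso_hom (ρ g)
    exact (ρ g).hom.isClosedEmbedding.isClosedMap _ hcl) hcover
  rw [Finset.mem_image] at hz
  obtain ⟨g, -, rfl⟩ := hz
  refine ⟨g, ?_⟩
  have hirr' : IsIrreducible ((ρ g).hom '' T₀) :=
    hirr.image _ (ρ g).hom.continuous.continuousOn
  exact (hT'.eq_of_subset hirr' hTz).symm

theorem main {X S : Scheme.{u}} [IsNoetherian S] [S.IsSeparated] [X.IsSeparated]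
    [IrreducibleSpace ↥S] (q : X ⟶ S) [IsFinite q] [Surjective q] {G : Type u} [Group G] [Finite G]
    (ρ : G →* Aut X) (hρ : ∀ g : G, (ρ g).hom ≫ q = q)
    (htrans : ∀ (Ω : Type u) [Field Ω] [IsAlgClosed Ω] (τ₁ τ₂ : Spec (CommRingCat.of Ω) ⟶ X),
      τ₁ ≫ q = τ₂ ≫ q → ∃ g : G, τ₁ ≫ (ρ g).hom = τ₂) :
    (∀ T ∈ irreducibleComponents ↥X, Set.image (fun x => q x) T = Set.univ) ∧
      ∀ T₁ ∈ irreducibleComponents ↥X, ∀ T₂ ∈ irreducibleComponents ↥X,
        ∃ g : G, Set.image (fun x => (ρ g).hom x) T₁ = T₂ := by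
  have hA := exists_smul_eq q ρ htrans
  have hqg : ∀ (g : G) (x : X), q ((ρ g).hom x) = q x := fun g x => by
    rw [← Scheme.Hom.comp_apply, hρ g]
  obtain ⟨x₀, hx₀⟩ := q.surjective (genericPoint S)
  have hq₀ : q '' irreducibleComponent x₀ = Set.univ := by
    have hcl : IsClosed (q '' irreducibleComponent x₀) :=
      q.isClosedMap _ isClosed_irreducibleComponent
    have hmem : genericPoint S ∈ q '' irreducibleComponent x₀ :=
      ⟨x₀, mem_irreducibleComponent, hx₀⟩
    have h := hcl.closure_subset_iff.mpr (Set.singleton_subset_iff.mpr hmem)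
    rw [(genericPoint_spec S).def] at h
    exact Set.eq_univ_of_univ_subset h
  have h1 : ∀ T ∈ irreducibleComponents ↥X, q '' T = Set.univ := by
    intro T hT
    obtain ⟨g, rfl⟩ := lemmaB q ρ hA _ isClosed_irreducibleComponent
      isIrreducible_irreducibleComponent hq₀ T hT
    rw [Set.image_image]
    simp only [hqg]
    exact hq₀
  refine ⟨h1, fun T₁ hT₁ T₂ hT₂ => ?_⟩
  have hT₁' : Maximal IsIrreducible T₁ := hT₁
  exact lemmaB q ρ hA T₁ (isClosed_of_mem_irreducibleComponents T₁ hT₁) hT₁'.1 (h1 T₁ hT₁) T₂ hT₂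

end Helpers


open CategoryTheory CategoryTheory.Limits AlgebraicGeometry in
/-- Let S be a separated irreducible Noetherian scheme, q : X → S finite and surjective with X
separated, and G a finite group acting on X by S-automorphisms, transitively on the geometric points
of X over every geometric point of S. Then every irreducible component of X maps onto S and G acts
transitively on the set of irreducible components of X. -/
theorem result {X S : Scheme.{u}} [IsNoetherian S] [S.IsSeparated] [X.IsSeparated] [IrreducibleSpace ↥S] (q : X ⟶ S) [IsFinite q] [Surjective q] {G : Type u} [Group G] [Finite G] (ρ : G →* Aut X) (hρ : ∀ g : G, (ρ g).hom ≫ q = q) (htrans : ∀ (Ω : Type u) [Field Ω] [IsAlgClosed Ω] (τ₁ τ₂ : Spec (CommRingCat.of Ω) ⟶ X), τ₁ ≫ q = τ₂ ≫ q → ∃ g : G, τ₁ ≫ (ρ g).hom = τ₂) : (∀ T ∈ irreducibleComponents ↥X, Set.image (fun x => q x) T = Set.univ) ∧ ∀ T₁ ∈ irreducibleComponents ↥X, ∀ T₂ ∈ irreducibleComponents ↥X, ∃ g : G, Set.image (fun x => (ρ g).hom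 x) T₁ = T₂ := by
  exact main q ρ hρ htrans

end Groth.Agent.S13738
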