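import Groth.Statements.S13739
import Mathlib

set_option autoImplicit false
set_option linter.style.haveILetI false
set_option linter.unusedSectionVars false
set_option linter.unusedVariables false
universe u
open SGA1

namespace Groth.Agent.S13739

section Helpers
open CategoryTheory CategoryTheory.Limits AlgebraicGeometry TopologicalSpace

theorem isAffineHom_sigmaDesc {σ : Type u} [Finite σ] {Y : σ → Scheme.{u}} {Z : Scheme.{u}}
    (f : ∀ i, Y i ⟶ Z) [∀ i, IsAffineHom (f i)] : IsAffineHom (Sigma.desc f) := by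
  refine ⟨fun U hU => ?_⟩
  have hpre : (Sigma.desc f) ⁻¹ᵁ U = ⨆ i, (Sigma.ι Y i) ''ᵁ ((f i) ⁻¹ᵁ U) := by
    refine SetLike.ext fun x => ?_
    rw [Opens.mem_iSup]
    constructor
    · intro hx
      obtain ⟨i, y, hy'⟩ : ∃ (i : σ) (y : Y i), (Sigma.ι Y i) y = x :=
        (sigmaOpenCover Y).exists_eq x
      subst hy'
      refine ⟨i, ⟨y, ?_, rfl⟩⟩
      have h1 : (Sigma.desc f) ((Sigma.ι Y i) y) = f i y := by
        rw [← Scheme.Hom.comp_apply, Sigma.ι_desc]
      have h2 : (Sigma.desc f) ((Sigma.ι Y i) y) ∈ U := hx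
      rw [h1] at h2
      exact h2
    · rintro ⟨i, y, hy, rfl⟩
      have h1 : (Sigma.desc f) ((Sigma.ι Y i) y) = f i y := by
        rw [← Scheme.Hom.comp_apply, Sigma.ι_desc]
      show (Sigma.desc f) ((Sigma.ι Y i) y) ∈ U
      rw [h1]
      exact hy
  rw [hpre]
  refine IsAffineOpen.iSup_of_disjoint (fun i => ?_) ?_
  · exact (IsAffineHom.isAffine_preimage U hU).image_of_isOpenImmersion (Sigma.ι Y i)
  · intro i j hij
    show Disjoint ((Sigma.ι Y i) ''ᵁ ((f i) ⁻¹ᵁ U)) ((Sigma.ι Y j) ''ᵁ ((f j) ⁻¹ᵁ U))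
    exact (disjoint_opensRange_sigmaι Y i j hij).mono
      (Scheme.Hom.image_le_opensRange _ _) (Scheme.Hom.image_le_opensRange _ _)

theorem universallyClosed_sigmaDesc {σ : Type u} [Finite σ] {Y : σ → Scheme.{u}} {Z : Scheme.{u}}
    (f : ∀ i, Y i ⟶ Z) [∀ i, UniversallyClosed (f i)] [QuasiCompact (Sigma.desc f)] :
    UniversallyClosed (Sigma.desc f) := by
  apply UniversallyClosed.of_valuativeCriterion
  intro S
  obtain ⟨w⟩ : Nonempty (Spec (CommRingCat.of S.K)) :=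
    ⟨(⟨⊥, Ideal.isPrime_bot⟩ : PrimeSpectrum S.K)⟩
  obtain ⟨i, y, hy'⟩ : ∃ (i : σ) (y : Y i), (Sigma.ι Y i) y = S.i₁ w :=
    (sigmaOpenCover Y).exists_eq (S.i₁ w)
  have hrange : Set.range S.i₁ ⊆ Set.range (Sigma.ι Y i) := by
    rintro _ ⟨w', rfl⟩
    have hw : w' = w := Subsingleton.elim (α := PrimeSpectrum S.K) w' w
    rw [hw]
    exact ⟨y, hy'⟩
  obtain ⟨a, ha⟩ : ∃ a : Spec (CommRingCat.of S.K) ⟶ Y i, a ≫ Sigma.ι Y i = S.i₁ :=
    ⟨IsOpenImmersion.lift (Sigma.ι Y i) S.i₁ hrange, IsOpenImmersion.lift_fac _ _ _⟩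
  have hsq : CommSq a (Spec.map (CommRingCat.ofHom (algebraMap S.R S.K))) (f i) S.i₂ := ⟨by
    rw [← S.commSq.w, ← ha, Category.assoc, Sigma.ι_desc]⟩
  have hex : ValuativeCriterion.Existence (f i) := by
    have h : UniversallyClosed (f i) := inferInstance
    rw [UniversallyClosed.eq_valuativeCriterion] at h
    exact h.1
  obtain ⟨l, hl₁, hl₂⟩ :=
    (hex { R := S.R, K := S.K, i₁ := a, i₂ := S.i₂, commSq := hsq }).exists_lift
  dsimp only at hl₁ hl₂
  refine ⟨⟨⟨l ≫ Sigma.ι Y i, ?_, ?_⟩⟩⟩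
  · rw [← Category.assoc, hl₁, ha]
  · rw [Category.assoc, Sigma.ι_desc, hl₂]

set_option backward.isDefEq.respectTransparency.types false in
theorem locallyOfFiniteType_sigmaDesc {σ : Type u} {Y : σ → Scheme.{u}} {Z : Scheme.{u}}
    (f : ∀ i, Y i ⟶ Z) [∀ i, LocallyOfFiniteType (f i)] : LocallyOfFiniteType (Sigma.desc f) :=
  IsZariskiLocalAtSource.sigmaDesc (fun _ ↦ inferInstance)

theorem isFinite_sigmaDesc {σ : Type u} [Finite σ] {Y : σ → Scheme.{u}} {Z : Scheme.{u}}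
    (f : ∀ i, Y i ⟶ Z) [∀ i, IsFinite (f i)] : IsFinite (Sigma.desc f) := by
  haveI : IsAffineHom (Sigma.desc f) := isAffineHom_sigmaDesc f
  haveI : UniversallyClosed (Sigma.desc f) := universallyClosed_sigmaDesc f
  haveI : LocallyOfFiniteType (Sigma.desc f) := locallyOfFiniteType_sigmaDesc f
  rw [IsFinite.iff_isIntegralHom_and_locallyOfFiniteType]
  exact ⟨IsIntegralHom.iff_universallyClosed_and_isAffineHom.mpr ⟨inferInstance, inferInstance⟩,
    inferInstance⟩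

theorem main {X S Y : Scheme.{u}} [IsNoetherian S] [S.IsSeparated] [X.IsSeparated] [Y.IsSeparated]
    (q : X ⟶ S) [IsFinite q] [Surjective q] {G : Type u} [Group G] [Finite G] (ρ : G →* Aut X)
    (hρ : ∀ g : G, (ρ g).hom ≫ q = q)
    (htrans : ∀ (Ω : Type u) [Field Ω] [IsAlgClosed Ω] (τ₁ τ₂ : Spec (CommRingCat.of Ω) ⟶ X),
      τ₁ ≫ q = τ₂ ≫ q → ∃ g : G, τ₁ ≫ (ρ g).hom = τ₂)
    (r : Y ⟶ X) (υ : (∐ fun _ : G => Y) ⟶ pullback (r ≫ q) q)
    (hυ₁ : ∀ σ : G, Sigma.ι (fun _ : G => Y) σ ≫ υ ≫ pullback.fst (r ≫ q) q = 𝟙 Y)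
    (hυ₂ : ∀ σ : G, Sigma.ι (fun _ : G => Y) σ ≫ υ ≫ pullback.snd (r ≫ q) q = r ≫ (ρ σ).hom) :
    IsFinite υ ∧ Surjective υ := by
  constructor
  · have hυ : υ = Sigma.desc (fun σ : G => Sigma.ι (fun _ : G => Y) σ ≫ υ) :=
      Sigma.hom_ext _ _ (fun σ => by rw [Sigma.ι_desc])
    haveI : IsSeparated (pullback.fst (r ≫ q) q) := inferInstance
    haveI : ∀ σ : G, IsFinite (Sigma.ι (fun _ : G => Y) σ ≫ υ) := by
      intro σ
      haveI : IsClosedImmersion ((Sigma.ι (fun _ : G => Y) σ ≫ υ) ≫ pullback.fst (r ≫ q) q) := by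
        rw [Category.assoc, hυ₁ σ]
        infer_instance
      haveI : IsClosedImmersion (Sigma.ι (fun _ : G => Y) σ ≫ υ) :=
        IsClosedImmersion.of_comp _ (pullback.fst (r ≫ q) q)
      infer_instance
    rw [hυ]
    exact isFinite_sigmaDesc _
  · refine ⟨fun p => ?_⟩
    obtain ⟨τ, hτ⟩ : ∃ τ : Spec (CommRingCat.of (AlgebraicClosure
        ((pullback (r ≫ q) q).residueField p))) ⟶ pullback (r ≫ q) q,
        τ = Spec.map (CommRingCat.ofHom (algebraMap ((pullback (r ≫ q) q).residueField p)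
          (AlgebraicClosure ((pullback (r ≫ q) q).residueField p)))) ≫
          (pullback (r ≫ q) q).fromSpecResidueField p := ⟨_, rfl⟩
    obtain ⟨g, hg⟩ := htrans (AlgebraicClosure ((pullback (r ≫ q) q).residueField p))
      (τ ≫ pullback.fst (r ≫ q) q ≫ r) (τ ≫ pullback.snd (r ≫ q) q)
      (by simp only [Category.assoc]; rw [pullback.condition])
    have key : (τ ≫ pullback.fst (r ≫ q) q ≫ Sigma.ι (fun _ : G => Y) g) ≫ υ = τ := by
      apply pullback.hom_ext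
      · simp only [Category.assoc]
        rw [hυ₁ g, Category.comp_id]
      · simp only [Category.assoc]
        rw [hυ₂ g, ← hg]
        simp only [Category.assoc]
    obtain ⟨w⟩ : Nonempty (Spec (CommRingCat.of (AlgebraicClosure
        ((pullback (r ≫ q) q).residueField p)))) :=
      ⟨(⟨⊥, Ideal.isPrime_bot⟩ : PrimeSpectrum (AlgebraicClosure
        ((pullback (r ≫ q) q).residueField p)))⟩
    have hτw : τ w = p := by
      rw [hτ, Scheme.Hom.comp_apply, Scheme.fromSpecResidueField_apply]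
    refine ⟨(τ ≫ pullback.fst (r ≫ q) q ≫ Sigma.ι (fun _ : G => Y) g) w, ?_⟩
    rw [← Scheme.Hom.comp_apply, key, hτw]

end Helpers


open CategoryTheory CategoryTheory.Limits AlgebraicGeometry in
/-- Let S be a separated Noetherian scheme, q : X → S finite surjective with X separated, G a finite
group acting on X by S-automorphisms and transitively on the geometric points of X over every
geometric point of S, and r : Y → X a morphism with Y separated. If υ is the morphism from the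
disjoint union of G copies of Y to Y ×_S X (Y over S through r ≫ q) whose σ-th component is (id_Y, r
≫ σ), then υ is finite and surjective. -/
theorem result {X S Y : Scheme.{u}} [IsNoetherian S] [S.IsSeparated] [X.IsSeparated] [Y.IsSeparated] (q : X ⟶ S) [IsFinite q] [Surjective q] {G : Type u} [Group G] [Finite G] (ρ : G →* Aut X) (hρ : ∀ g : G, (ρ g).hom ≫ q = q) (htrans : ∀ (Ω : Type u) [Field Ω] [IsAlgClosed Ω] (τ₁ τ₂ : Spec (CommRingCat.of Ω) ⟶ X), τ₁ ≫ q = τ₂ ≫ q → ∃ g : G, τ₁ ≫ (ρ g).hom = τ₂) (r : Y ⟶ X) (υ : (∐ fun _ : G => Y) ⟶ pullback (r ≫ q) q) (hυ₁ : ∀ σ : G, Sigma.ι (fun _ : G => Y) σ ≫ υ ≫ pullback.fst (r ≫ q) q = 𝟙 Y) (hυ₂ : ∀ σ : G, Sigma.ι (fun _ : G => Y) σ ≫ υ ≫ pullback.snd (r ≫ q) q = r ≫ (ρ σ).hom) : IsFinite υ ∧ Surjective υ := by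
  exact main q ρ hρ htrans r υ hυ₁ hυ₂

end Groth.Agent.S13739
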