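import Groth.Statements.S13740
import Mathlib
import Groth.Agent.S13739

set_option autoImplicit false
set_option linter.style.haveILetI false
set_option linter.unusedSectionVars false
set_option linter.unusedVariables false
universe w u
open SGA1

namespace Groth.Agent.S13740

section Helpers
open CategoryTheory CategoryTheory.Limits AlgebraicGeometry Opposite

theorem univSubmersive_of {X Y : Scheme.{u}} (f : X ⟶ Y) [UniversallyClosed f] [Surjective f] :
    SGA1.UnivSubmersive f := by
  intro X' Y' i₁ i₂ f' H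
  haveI : UniversallyClosed f' :=
    MorphismProperty.of_isPullback (P := @UniversallyClosed) H.flip inferInstance
  haveI : Surjective f' :=
    MorphismProperty.of_isPullback (P := @Surjective) H.flip inferInstance
  exact (f'.isClosedMap).isQuotientMap f'.continuous f'.surjective

theorem surjective_sigmaDesc {σ : Type u} {Y : σ → Scheme.{u}} {Z : Scheme.{u}}
    (f : ∀ i, Y i ⟶ Z) (i : σ) [Surjective (f i)] : Surjective (Sigma.desc f) := by
  refine ⟨fun z => ?_⟩
  obtain ⟨y, hy⟩ := (f i).surjective z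
  refine ⟨(Sigma.ι Y i) y, ?_⟩
  rw [← Scheme.Hom.comp_apply, Sigma.ι_desc]
  exact hy

theorem main {X S : Scheme.{u}} [IsNoetherian S] [S.IsSeparated] [X.IsSeparated] (q : X ⟶ S)
    [IsFinite q] [Surjective q] {G : Type u} [Group G] [Finite G] (ρ : G →* Aut X)
    (hρ : ∀ g : G, (ρ g).hom ≫ q = q)
    (htrans : ∀ (Ω : Type u) [Field Ω] [IsAlgClosed Ω] (τ₁ τ₂ : Spec (CommRingCat.of Ω) ⟶ X),
      τ₁ ≫ q = τ₂ ≫ q → ∃ g : G, τ₁ ≫ (ρ g).hom = τ₂)
    (F : Scheme.{u}ᵒᵖ ⥤ Type w)
    (hF : ∀ ⦃T : Scheme.{u}⦄ (E : PreZeroHypercover.{u} T), Finite E.I₀ →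
      (∀ i, LocallyOfFiniteType (E.f i)) → (∀ i, QuasiCompact (E.f i)) →
      (∀ i, LocallyQuasiFinite (E.f i)) → SGA1.UnivSubmersive (Sigma.desc E.f) →
      Presieve.IsSheafFor F E.presieve₀) :
    Function.Injective (F.map q.op) ∧ Set.range (F.map q.op) =
      {f : F.obj (Opposite.op X) | ∀ g : G, F.map (ρ g).hom.op f = f} := by
  -- first cover: the single morphism q
  have hS1 : Presieve.IsSheafFor F
      (Presieve.ofArrows (fun _ : PUnit.{u+1} => X) (fun _ => q)) := by
    refine hF (T := S) ⟨PUnit.{u+1}, fun _ => X, fun _ => q⟩ (inferInstanceAs (Finite PUnit.{u+1}))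
      (fun _ => inferInstanceAs (LocallyOfFiniteType q))
      (fun _ => inferInstanceAs (QuasiCompact q))
      (fun _ => inferInstanceAs (LocallyQuasiFinite q)) ?_
    haveI : ∀ i : PUnit.{u+1}, IsFinite ((fun _ : PUnit.{u+1} => q) i) := fun _ => ‹IsFinite q›
    haveI : IsFinite (Sigma.desc (fun _ : PUnit.{u+1} => q)) :=
      Groth.Agent.S13739.isFinite_sigmaDesc (fun _ : PUnit.{u+1} => q)
    haveI : Surjective ((fun _ : PUnit.{u+1} => q) PUnit.unit) := ‹Surjective q›
    haveI : Surjective (Sigma.desc (fun _ : PUnit.{u+1} => q)) :=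
      surjective_sigmaDesc (fun _ : PUnit.{u+1} => q) PUnit.unit
    exact univSubmersive_of (Sigma.desc (fun _ : PUnit.{u+1} => q))
  -- second cover: the graphs of the translates
  have hs : ∀ σ : G, 𝟙 X ≫ (𝟙 X ≫ q) = (ρ σ).hom ≫ q := fun σ => by
    rw [Category.id_comp, Category.id_comp, hρ σ]
  obtain ⟨s, hs1, hs2⟩ : ∃ s : G → (X ⟶ pullback (𝟙 X ≫ q) q),
      (∀ σ, s σ ≫ pullback.fst (𝟙 X ≫ q) q = 𝟙 X) ∧
      (∀ σ, s σ ≫ pullback.snd (𝟙 X ≫ q) q = (ρ σ).hom) :=
    ⟨fun σ => pullback.lift (𝟙 X) (ρ σ).hom (hs σ), fun σ => pullback.lift_fst _ _ _,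
      fun σ => pullback.lift_snd _ _ _⟩
  have hυ₁ : ∀ σ : G, Sigma.ι (fun _ : G => X) σ ≫ Sigma.desc s ≫
      pullback.fst (𝟙 X ≫ q) q = 𝟙 X := fun σ => by
    rw [← Category.assoc, Sigma.ι_desc, hs1]
  have hυ₂ : ∀ σ : G, Sigma.ι (fun _ : G => X) σ ≫ Sigma.desc s ≫
      pullback.snd (𝟙 X ≫ q) q = 𝟙 X ≫ (ρ σ).hom := fun σ => by
    rw [← Category.assoc, Sigma.ι_desc, hs2, Category.id_comp]
  obtain ⟨hfin, hsurj⟩ := Groth.Agent.S13739.main q ρ hρ htrans (𝟙 X) (Sigma.desc s) hυ₁ hυ₂
  haveI : IsSeparated (pullback.fst (𝟙 X ≫ q) q) := inferInstance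
  have hci : ∀ σ : G, IsClosedImmersion (s σ) := fun σ => by
    haveI : IsClosedImmersion (s σ ≫ pullback.fst (𝟙 X ≫ q) q) := by
      rw [hs1]
      infer_instance
    exact IsClosedImmersion.of_comp (s σ) (pullback.fst (𝟙 X ≫ q) q)
  have hS2 : Presieve.IsSheafFor F (Presieve.ofArrows (fun _ : G => X) s) := by
    refine hF (T := pullback (𝟙 X ≫ q) q) ⟨G, fun _ => X, s⟩ ‹Finite G›
      (fun σ => ?_) (fun σ => ?_) (fun σ => ?_) ?_
    · haveI := hci σ
      exact inferInstanceAs (LocallyOfFiniteType (s σ))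
    · haveI := hci σ
      exact inferInstanceAs (QuasiCompact (s σ))
    · haveI := hci σ
      exact inferInstanceAs (LocallyQuasiFinite (s σ))
    · haveI := hfin
      haveI := hsurj
      exact univSubmersive_of (Sigma.desc s)
  have hkey : ∀ f : F.obj (op X), (∀ g : G, F.map (ρ g).hom.op f = f) →
      F.map (pullback.fst (𝟙 X ≫ q) q).op f = F.map (pullback.snd (𝟙 X ≫ q) q).op f := by
    intro f hf
    refine hS2.isSeparatedFor.ext ?_
    rintro Y e ⟨σ⟩
    rw [← Functor.map_comp_apply, ← Functor.map_comp_apply, ← op_comp, ← op_comp,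
      hs1, hs2, hf σ, op_id, Functor.map_id_apply]
  refine ⟨?_, ?_⟩
  · intro t₁ t₂ h
    refine hS1.isSeparatedFor.ext ?_
    rintro Y e ⟨i⟩
    exact h
  · refine Set.ext fun f => ⟨?_, ?_⟩
    · rintro ⟨t, rfl⟩ g
      show F.map (ρ g).hom.op (F.map q.op t) = F.map q.op t
      rw [← Functor.map_comp_apply, ← op_comp, hρ g]
    · intro hf
      have hf' : ∀ g : G, F.map (ρ g).hom.op f = f := hf
      obtain ⟨t, ht, -⟩ := ((Presieve.isSheafFor_arrows_iff _ _).mp hS1) (fun _ => f) (by
        intro i j Z gi gj hcomm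
        have hcomm' : gi ≫ q = gj ≫ q := hcomm
        have hl : gi ≫ (𝟙 X ≫ q) = gj ≫ q := by
          rw [Category.id_comp]
          exact hcomm'
        obtain ⟨l, hl1, hl2⟩ : ∃ l : Z ⟶ pullback (𝟙 X ≫ q) q,
            l ≫ pullback.fst (𝟙 X ≫ q) q = gi ∧ l ≫ pullback.snd (𝟙 X ≫ q) q = gj :=
          ⟨pullback.lift gi gj hl, pullback.lift_fst _ _ _, pullback.lift_snd _ _ _⟩
        have e1 : F.map gi.op f = F.map l.op (F.map (pullback.fst (𝟙 X ≫ q) q).op f) := by
          rw [← Functor.map_comp_apply, ← op_comp, hl1]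
        have e2 : F.map gj.op f = F.map l.op (F.map (pullback.snd (𝟙 X ≫ q) q).op f) := by
          rw [← Functor.map_comp_apply, ← op_comp, hl2]
        show F.map gi.op f = F.map gj.op f
        rw [e1, e2, hkey f hf'])
      exact ⟨t, ht PUnit.unit⟩

end Helpers


open CategoryTheory CategoryTheory.Limits AlgebraicGeometry in
/-- Let S be a separated Noetherian scheme, π : X → S finite and surjective with X separated, G a finite
group acting on X by S-automorphisms and transitively on the geometric points of X over every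
geometric point of S, and F a presheaf of sets on schemes satisfying the sheaf condition for every
finite family of quasi-finite morphisms of finite type whose induced morphism from the disjoint
union is universally submersive (a qfh-sheaf). Then pulling back along π identifies F(S) with the
G-invariant elements of F(X): F(π) is injective with image the invariants. (The published statement
takes F a qfh-sheaf on Noetherian schemes over S; this row takes a presheaf on all schemes with the
sheaf property for every such family, a stronger hypothesis.) -/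
theorem result {X S : Scheme.{u}} [IsNoetherian S] [S.IsSeparated] [X.IsSeparated] (q : X ⟶ S) [IsFinite q] [Surjective q] {G : Type u} [Group G] [Finite G] (ρ : G →* Aut X) (hρ : ∀ g : G, (ρ g).hom ≫ q = q) (htrans : ∀ (Ω : Type u) [Field Ω] [IsAlgClosed Ω] (τ₁ τ₂ : Spec (CommRingCat.of Ω) ⟶ X), τ₁ ≫ q = τ₂ ≫ q → ∃ g : G, τ₁ ≫ (ρ g).hom = τ₂) (F : Scheme.{u}ᵒᵖ ⥤ Type w) (hF : ∀ ⦃T : Scheme.{u}⦄ (E : PreZeroHypercover.{u} T), Finite E.I₀ → (∀ i, LocallyOfFiniteType (E.f i)) → (∀ i, QuasiCompact (E.f i)) → (∀ i, LocallyQuasiFinite (E.f i)) → SGA1.UnivSubmersive (Sigma.desc E.f) → Presieve.IsSheafFor F E.presieve₀) : Function.Injective (F.map q.op) ∧ Set.range (F.map q.op) = {f : F.obj (Opposite.op X) | ∀ g : G, F.map (ρ g).hom.op f = f} := by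
  exact main q ρ hρ htrans F hF

end Groth.Agent.S13740
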