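import Groth.Statements.S13741
import Mathlib

set_option autoImplicit false
set_option linter.style.haveILetI false
set_option linter.unusedSectionVars false
set_option linter.unusedVariables false
universe u
open SGA1

namespace Groth.Agent.S13741

section Helpers
open CategoryTheory CategoryTheory.Limits AlgebraicGeometry

theorem exists_aut {F E Ω : Type u} [Field F] [Field E] [Field Ω] [Algebra F E] [Normal F E]
    (φ₁ φ₂ : E →+* Ω) (h : φ₁.comp (algebraMap F E) = φ₂.comp (algebraMap F E)) :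
    ∃ σ : E ≃ₐ[F] E, ∀ e, φ₁ (σ e) = φ₂ e := by
  letI : Algebra E Ω := φ₁.toAlgebra
  letI : Algebra F Ω := (φ₁.comp (algebraMap F E)).toAlgebra
  haveI : IsScalarTower F E Ω := IsScalarTower.of_algebraMap_eq (fun _ => rfl)
  have hc : ∀ r : F, φ₂ (algebraMap F E r) = algebraMap F Ω r :=
    fun r => (RingHom.congr_fun h r).symm
  let ψ : E →ₐ[F] Ω := { φ₂ with commutes' := hc }
  refine ⟨ψ.restrictNormal' E, fun e => ?_⟩
  exact AlgHom.restrictNormal_commutes ψ E e

theorem exists_factor {X : Scheme.{u}} {Ω : Type u} [Field Ω] (x : X)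
    (τ : Spec (CommRingCat.of Ω) ⟶ X) (w : Spec (CommRingCat.of Ω)) (hx : τ w = x) :
    ∃ φ : X.residueField x ⟶ CommRingCat.of Ω, τ = Spec.map φ ≫ X.fromSpecResidueField x := by
  have hw : w = IsLocalRing.closedPoint Ω := Subsingleton.elim (α := PrimeSpectrum Ω) _ _
  subst hw
  subst hx
  exact ⟨_, (Scheme.descResidueField_stalkClosedPointTo_fromSpecResidueField Ω X τ).symm⟩

theorem main {X S : Scheme.{u}} (q : X ⟶ S) {G : Type u} [Group G] (ρ : G →* Aut X)
    (hρ : ∀ g : G, (ρ g).hom ≫ q = q)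
    (h1 : ∀ x y : X, q x = q y → ∃ g : G, (ρ g).hom x = y)
    (h2 : ∀ x : X, @Normal (S.residueField (q x)) (X.residueField x) _ _
      (q.residueFieldMap x).hom.toAlgebra)
    (h3 : ∀ (x : X) (σ : X.residueField x ≅ X.residueField x),
      q.residueFieldMap x ≫ σ.hom = q.residueFieldMap x →
      ∃ g : G, X.fromSpecResidueField x ≫ (ρ g).hom = Spec.map σ.hom ≫ X.fromSpecResidueField x)
    (Ω : Type u) [Field Ω] [IsAlgClosed Ω] (τ₁ τ₂ : Spec (CommRingCat.of Ω) ⟶ X)
    (hτ : τ₁ ≫ q = τ₂ ≫ q) : ∃ g : G, τ₁ ≫ (ρ g).hom = τ₂ := by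
  obtain ⟨w⟩ : Nonempty (Spec (CommRingCat.of Ω)) :=
    ⟨(⟨⊥, Ideal.isPrime_bot⟩ : PrimeSpectrum Ω)⟩
  have hq12 : q (τ₁ w) = q (τ₂ w) := by
    have h := congrArg (fun φ : Spec (CommRingCat.of Ω) ⟶ S => φ w) hτ
    simpa only [Scheme.Hom.comp_apply] using h
  obtain ⟨g₀, hg₀⟩ := h1 _ _ hq12
  obtain ⟨γ₀, hγ₀⟩ : ∃ γ₀ : X ⟶ X, γ₀ = (ρ g₀).hom := ⟨_, rfl⟩
  obtain ⟨x, hx⟩ : ∃ x : X, x = τ₂ w := ⟨_, rfl⟩
  have hx1 : (τ₁ ≫ γ₀) w = x := by
    rw [Scheme.Hom.comp_apply, hγ₀, hg₀, hx]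
  obtain ⟨φ₁, hφ₁⟩ := exists_factor x (τ₁ ≫ γ₀) w hx1
  obtain ⟨φ₂, hφ₂⟩ := exists_factor x τ₂ w hx.symm
  have hτ' : (τ₁ ≫ γ₀) ≫ q = τ₂ ≫ q := by
    rw [Category.assoc, hγ₀, hρ g₀, hτ]
  have hcompat : q.residueFieldMap x ≫ φ₁ = q.residueFieldMap x ≫ φ₂ := by
    rw [hφ₁, hφ₂, Category.assoc, Category.assoc,
      ← Scheme.Hom.SpecMap_residueFieldMap_fromSpecResidueField, ← Category.assoc,
      ← Category.assoc, cancel_mono, ← Spec.map_comp, ← Spec.map_comp] at hτ'
    exact Spec.map_injective hτ'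
  letI : Algebra (S.residueField (q x)) (X.residueField x) := (q.residueFieldMap x).hom.toAlgebra
  haveI : Normal (S.residueField (q x)) (X.residueField x) := h2 x
  obtain ⟨σ, hσ⟩ := exists_aut (F := S.residueField (q x)) (E := X.residueField x) (Ω := Ω)
    φ₁.hom φ₂.hom (by
      ext r
      exact ConcreteCategory.congr_hom hcompat r)
  obtain ⟨σiso, hσiso⟩ : ∃ σiso : X.residueField x ≅ X.residueField x,
      ∀ e, σiso.hom.hom e = σ e := by
    refine ⟨⟨CommRingCat.ofHom σ.toRingEquiv.toRingHom,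
      CommRingCat.ofHom σ.symm.toRingEquiv.toRingHom, ?_, ?_⟩, fun e => rfl⟩
    · ext e
      exact σ.symm_apply_apply e
    · ext e
      exact σ.apply_symm_apply e
  obtain ⟨g, hg⟩ := h3 x σiso (by
    ext r
    show σiso.hom.hom ((q.residueFieldMap x).hom r) = (q.residueFieldMap x).hom r
    rw [hσiso]
    exact σ.commutes r)
  refine ⟨g * g₀, ?_⟩
  have hmul : (ρ (g * g₀)).hom = γ₀ ≫ (ρ g).hom := by
    rw [map_mul, hγ₀]
    rfl
  have hσφ : σiso.hom ≫ φ₁ = φ₂ := by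
    ext e
    show φ₁.hom (σiso.hom.hom e) = φ₂.hom e
    rw [hσiso]
    exact hσ e
  rw [hmul, ← Category.assoc, hφ₁, Category.assoc, hg, ← Category.assoc, ← Spec.map_comp, hσφ,
    ← hφ₂]

end Helpers


open CategoryTheory CategoryTheory.Limits AlgebraicGeometry in
/-- Let S be a separated Noetherian scheme, q : X → S finite and surjective with X separated, and G a
finite group acting on X by S-automorphisms. Assume that G acts transitively on every fibre of q,
that each residue field extension k(x)/k(q x) is normal, and that for each x every k(q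
x)-automorphism of k(x) is induced by an element of G fixing x. Then for every algebraically closed
field Ω, any two Ω-points of X with the same composite to S are conjugate under G. -/
theorem result {X S : Scheme.{u}} [IsNoetherian S] [S.IsSeparated] [X.IsSeparated] (q : X ⟶ S) [IsFinite q] [Surjective q] {G : Type u} [Group G] [Finite G] (ρ : G →* Aut X) (hρ : ∀ g : G, (ρ g).hom ≫ q = q) (h1 : ∀ x y : X, q x = q y → ∃ g : G, (ρ g).hom x = y) (h2 : ∀ x : X, @Normal (S.residueField (q x)) (X.residueField x) _ _ (q.residueFieldMap x).hom.toAlgebra) (h3 : ∀ (x : X) (σ : X.residueField x ≅ X.residueField x), q.residueFieldMap x ≫ σ.hom = q.residueFieldMap x → ∃ g : G, X.fromSpecResidueField x ≫ (ρ g).hom = Spec.map σ.hom ≫ X.fromSpecResidueField x) (Ω : Type u) [Field Ω] [IsAlgClosed Ω] (τ₁ τ₂ : Spec (CommRingCat.of Ω) ⟶ X) (hτ : τ₁ ≫ q = τ₂ ≫ q) : ∃ g : G, τ₁ ≫ (ρ g).hom = τ₂ := by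
  exact main q ρ hρ h1 h2 h3 Ω τ₁ τ₂ hτ

end Groth.Agent.S13741
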