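import Groth.Statements.S13742
import Mathlib

set_option autoImplicit false
universe u
open Cyc

namespace Groth.Agent.S13742

section helpers

open CategoryTheory CategoryTheory.Limits AlgebraicGeometry Topology

/-- A space with a dense point is irreducible. -/
theorem irreducibleSpace_of_dense_point {T : Type*} [TopologicalSpace T] (t : T)
    (ht : closure ({t} : Set T) = Set.univ) : IrreducibleSpace T := by
  refine (irreducibleSpace_def T).mpr ?_
  have h : IsIrreducible (closure ({t} : Set T)) := isIrreducible_singleton.closure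
  rw [ht] at h
  simpa using h

theorem closure_singleton_eq_univ_of_isInducing {A B : Type*} [TopologicalSpace A]
    [TopologicalSpace B] {p : A → B} (hp : IsInducing p) (a : A)
    (ha : closure ({p a} : Set B) = Set.univ) : closure ({a} : Set A) = Set.univ := by
  rw [hp.closure_eq_preimage_closure_image, Set.image_singleton, ha, Set.preimage_univ]

theorem stalkSpecializes_injective {Z : Scheme.{u}} [IsIntegral Z] {x y : Z} (h : y ⤳ x) :
    Function.Injective (Z.presheaf.stalkSpecializes h) := by
  rw [injective_iff_map_eq_zero]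
  intro a ha
  obtain ⟨U, hx, s, rfl⟩ := TopCat.Presheaf.exists_germ_eq Z.presheaf a
  have hy : y ∈ U := h.mem_open U.isOpen hx
  have e : Z.presheaf.stalkSpecializes h (Z.presheaf.germ U x hx s) =
      Z.presheaf.germ U y hy s := by
    rw [← ConcreteCategory.comp_apply, TopCat.Presheaf.germ_stalkSpecializes]
  rw [e] at ha
  have hs : s = 0 := germ_injective_of_isIntegral Z y hy (by rw [ha, map_zero])
  rw [hs, map_zero]

theorem isReduced_of_preimmersion_of_dense {F Z : Scheme.{u}} (p : F ⟶ Z) [IsPreimmersion p]
    [IsIntegral Z] (ζ' : F) (hζ' : closure ({ζ'} : Set F) = Set.univ)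
    (hζ : closure ({p.base ζ'} : Set Z) = Set.univ) : IsReduced F := by
  have : ∀ x' : F, _root_.IsReduced (F.presheaf.stalk x') := by
    intro x'
    have hsp : ζ' ⤳ x' := by
      rw [specializes_iff_mem_closure, hζ']; trivial
    have hsurj := p.stalkMap_surjective x'
    have hfield : IsField (Z.presheaf.stalk (p.base ζ')) :=
      isField_stalk_of_closure_mem_irreducibleComponents Z _ (by
        rw [hζ, irreducibleComponents_eq_singleton]; rfl)
    have hinj : Function.Injective (p.stalkMap x') := by
      rw [injective_iff_map_eq_zero]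
      intro a ha
      have h1 := p.stalkSpecializes_stalkMap_apply ζ' x' hsp a
      rw [ha, map_zero] at h1
      have h2 : Z.presheaf.stalkSpecializes (p.base.hom.map_specializes hsp) a = 0 := by
        by_contra hb
        obtain ⟨c, hc⟩ := hfield.mul_inv_cancel hb
        have h3 := congrArg (fun t => p.stalkMap ζ' t) hc
        simp only [map_mul, h1, zero_mul, map_one] at h3
        exact zero_ne_one h3
      exact stalkSpecializes_injective _ (by rw [h2, map_zero])
    let e : Z.presheaf.stalk (p.base x') ≃+* F.presheaf.stalk x' :=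
      RingEquiv.ofBijective (p.stalkMap x').hom ⟨hinj, hsurj⟩
    exact isReduced_of_injective e.symm.toRingHom e.symm.injective
  exact isReduced_of_isReduced_stalk F

theorem range_map_left {Z' Z S Y : Scheme.{u}} (i : Z' ⟶ Z) (g : Z ⟶ S) (φ : Y ⟶ S)
    (h1 : (i ≫ g) ≫ 𝟙 S = i ≫ g) (h2 : φ ≫ 𝟙 S = 𝟙 Y ≫ φ) :
    Set.range (pullback.map (i ≫ g) φ g φ i (𝟙 _) (𝟙 _) h1 h2) =
      (pullback.fst g φ) ⁻¹' Set.range i := by
  have e : pullback.map (i ≫ g) φ g φ i (𝟙 _) (𝟙 _) h1 h2 =
      (pullbackRightPullbackFstIso g φ i).inv ≫ pullback.snd i (pullback.fst g φ) := by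
    apply pullback.hom_ext
    · rw [Category.assoc, pullbackRightPullbackFstIso_inv_snd_fst]
      exact pullback.lift_fst _ _ _
    · rw [Category.assoc, pullbackRightPullbackFstIso_inv_snd_snd]
      exact (pullback.lift_snd _ _ _).trans (Category.comp_id _)
  have hsurj : Function.Surjective (pullbackRightPullbackFstIso g φ i).inv :=
    (pullbackRightPullbackFstIso g φ i).inv.homeomorph.surjective
  rw [e, ← Scheme.Pullback.range_snd]
  ext x
  constructor
  · rintro ⟨y, rfl⟩
    exact ⟨_, rfl⟩
  · rintro ⟨y, rfl⟩
    obtain ⟨y', rfl⟩ := hsurj y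
    exact ⟨y', rfl⟩

end helpers

open CategoryTheory CategoryTheory.Limits AlgebraicGeometry in
/-- Let S be a separated Noetherian scheme, f : X → S separated of finite type, z a point of X mapping
to a generic point of an irreducible component of S, and ι : Z → X a closed immersion from a reduced
scheme with image the closure of z (the closure of z with its reduced structure). Then Z ×_S Spec
k(f z) is an integral scheme, and its image in the fibre X ×_S Spec k(f z) is the closure of the
unique point w of that fibre lying over z: Z ×_S Spec k(f z) is the closure of z in its fibre, with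
reduced structure. -/
theorem result {X S Z : Scheme.{u}} [IsNoetherian S] [S.IsSeparated] [X.IsSeparated] (f : X ⟶ S) [LocallyOfFiniteType f] [QuasiCompact f] (z : X) (hz : closure {f z} ∈ irreducibleComponents ↥S) (ι : Z ⟶ X) [IsClosedImmersion ι] [IsReduced Z] (hZ : Set.range ι = closure {z}) : IsIntegral (pullback (ι ≫ f) (S.fromSpecResidueField (f z))) ∧ ∃ w : ↥(pullback f (S.fromSpecResidueField (f z))), pullback.fst f (S.fromSpecResidueField (f z)) w = z ∧ Set.range (pullback.map (ι ≫ f) (S.fromSpecResidueField (f z)) f (S.fromSpecResidueField (f z)) ι (𝟙 _) (𝟙 S) (Category.comp_id _) ((Category.comp_id _).trans (Category.id_comp _).symm)) = closure {w} := by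
  obtain ⟨ζ, rfl⟩ : ∃ ζ : Z, ι ζ = z := by
    have : z ∈ Set.range ι := by rw [hZ]; exact subset_closure rfl
    exact this
  have hζ : closure ({ζ} : Set Z) = Set.univ := by
    rw [ι.isClosedEmbedding.isInducing.closure_eq_preimage_closure_image, Set.image_singleton,
      ← hZ]
    exact Set.preimage_range _
  have : IrreducibleSpace Z := irreducibleSpace_of_dense_point ζ hζ
  have : IsIntegral Z := isIntegral_of_irreducibleSpace_of_isReduced Z
  have hmem : ζ ∈ Set.range ((ι ≫ f).fiberι (f (ι ζ))) := by
    rw [Scheme.Hom.range_fiberι]; rfl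
  obtain ⟨ζ', hζ'⟩ := hmem
  have hζ2 : closure ({((ι ≫ f).fiberι (f (ι ζ))) ζ'} : Set Z) = Set.univ := by
    rw [hζ']; exact hζ
  have hdense : closure ({ζ'} : Set ((ι ≫ f).fiber (f (ι ζ)))) = Set.univ :=
    closure_singleton_eq_univ_of_isInducing
      ((ι ≫ f).fiberι (f (ι ζ))).isEmbedding.isInducing ζ' hζ2
  refine ⟨?_, ?_⟩
  · change IsIntegral ((ι ≫ f).fiber (f (ι ζ)))
    have : IrreducibleSpace ((ι ≫ f).fiber (f (ι ζ))) :=
      irreducibleSpace_of_dense_point ζ' hdense
    have : IsReduced ((ι ≫ f).fiber (f (ι ζ))) :=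
      isReduced_of_preimmersion_of_dense ((ι ≫ f).fiberι (f (ι ζ))) ζ' hdense hζ2
    exact isIntegral_of_irreducibleSpace_of_isReduced _
  · have hmemz : ι ζ ∈ Set.range (pullback.fst f (S.fromSpecResidueField (f (ι ζ)))) := by
      have h0 := Scheme.Hom.range_fiberι f (f (ι ζ))
      change Set.range (pullback.fst f (S.fromSpecResidueField (f (ι ζ)))) = _ at h0
      rw [h0]; rfl
    obtain ⟨w, hw⟩ := hmemz
    refine ⟨w, hw, ?_⟩
    rw [range_map_left ι f _]
    rw [(pullback.fst f (S.fromSpecResidueField (f (ι ζ)))).isEmbedding.isInducing.closure_eq_preimage_closure_image,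
      Set.image_singleton, hw, hZ]

end Groth.Agent.S13742
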