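import Groth.Statements.S13757
import Mathlib.Tactic.Linarith
import Mathlib.Algebra.Order.BigOperators.Group.Finset
import Mathlib.Data.Fintype.Lattice

set_option autoImplicit false
universe u
open LabGraph

namespace Groth.Agent.S13757

/-- Let G be a finite connected multigraph (loops and multiple edges allowed) with vertex set V, edge
set E, endpoint map E → V × V and a labelling of the edges by positive integers l. A vertex
labelling φ : V → ℤ is Cartier when l(e) divides the difference of the values of φ at the two
endpoints of every edge e; its multidegree is the vertex labelling whose value at v is the sum, over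
the edge-ends at v, of (value of φ at the other endpoint − φ(v)) / l(e). Then the Cartier vertex
labellings of multidegree zero are exactly the constant ones: the kernel of the multidegree operator
on Cartier labellings is ℤ, embedded as the constants. -/
theorem result
    {V E : Type u} [Fintype V] [Fintype E] [DecidableEq V] [DecidableEq E]
    (ends : E → V × V) (l : E → ℕ) (hl : ∀ e, 0 < l e) (hconn : LabGraph.Connected ends)
    (φ : V → ℤ) (hφ : LabGraph.IsCartier ends l φ) :
    (∀ v : V, LabGraph.mdeg ends l φ v = 0) ↔ ∀ v w : V, φ v = φ w := by
  have hlpos : ∀ e, (0 : ℤ) < (l e : ℤ) := fun e => by exact_mod_cast hl e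
  constructor
  · intro h
    obtain ⟨hne, hpath⟩ := hconn
    -- a vertex where φ is maximal
    obtain ⟨v₀, hv₀⟩ := Finite.exists_max φ
    -- the key step: neighbours of a maximal vertex are maximal
    have key : ∀ v w : V, (∀ u, φ u ≤ φ v) → LabGraph.Adj ends v w → φ w = φ v := by
      intro v w hv hadj
      have hsum := h v
      unfold LabGraph.mdeg at hsum
      have hterm : ∀ e ∈ (Finset.univ : Finset E),
          ((if (ends e).1 = v then (φ (ends e).2 - φ (ends e).1) / (l e : ℤ) else 0) +
            (if (ends e).2 = v then (φ (ends e).1 - φ (ends e).2) / (l e : ℤ) else 0)) ≤ 0 := by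
        intro e _
        apply add_nonpos
        · split_ifs with h1
          · apply Int.ediv_nonpos_of_nonpos_of_neg _ (hlpos e)
            rw [h1]; linarith [hv (ends e).2]
          · exact le_rfl
        · split_ifs with h2
          · apply Int.ediv_nonpos_of_nonpos_of_neg _ (hlpos e)
            rw [h2]; linarith [hv (ends e).1]
          · exact le_rfl
      have hzero := (Finset.sum_eq_zero_iff_of_nonpos hterm).mp hsum
      obtain ⟨e, he | he⟩ := hadj
      · have h0 := hzero e (Finset.mem_univ e)
        have h1 : (if (ends e).1 = v then (φ (ends e).2 - φ (ends e).1) / (l e : ℤ) else 0) ≤ 0 := by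
          split_ifs with h1
          · apply Int.ediv_nonpos_of_nonpos_of_neg _ (hlpos e)
            rw [h1]; linarith [hv (ends e).2]
          · exact le_rfl
        have h2 : (if (ends e).2 = v then (φ (ends e).1 - φ (ends e).2) / (l e : ℤ) else 0) ≤ 0 := by
          split_ifs with h2
          · apply Int.ediv_nonpos_of_nonpos_of_neg _ (hlpos e)
            rw [h2]; linarith [hv (ends e).1]
          · exact le_rfl
        have h3 : (if (ends e).1 = v then (φ (ends e).2 - φ (ends e).1) / (l e : ℤ) else 0) = 0 := by
          linarith
        rw [he] at h3
        simp only [if_true] at h3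
        by_contra hne'
        have hlt : φ w - φ v < 0 := by
          have := hv w
          have : φ w ≠ φ v := hne'
          omega
        have := Int.ediv_neg_of_neg_of_pos hlt (hlpos e)
        omega
      · have h0 := hzero e (Finset.mem_univ e)
        have h1 : (if (ends e).1 = v then (φ (ends e).2 - φ (ends e).1) / (l e : ℤ) else 0) ≤ 0 := by
          split_ifs with h1
          · apply Int.ediv_nonpos_of_nonpos_of_neg _ (hlpos e)
            rw [h1]; linarith [hv (ends e).2]
          · exact le_rfl
        have h2 : (if (ends e).2 = v then (φ (ends e).1 - φ (ends e).2) / (l e : ℤ) else 0) ≤ 0 := by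
          split_ifs with h2
          · apply Int.ediv_nonpos_of_nonpos_of_neg _ (hlpos e)
            rw [h2]; linarith [hv (ends e).1]
          · exact le_rfl
        have h3 : (if (ends e).2 = v then (φ (ends e).1 - φ (ends e).2) / (l e : ℤ) else 0) = 0 := by
          linarith
        rw [he] at h3
        simp only [if_true] at h3
        by_contra hne'
        have hlt : φ w - φ v < 0 := by
          have := hv w
          have : φ w ≠ φ v := hne'
          omega
        have := Int.ediv_neg_of_neg_of_pos hlt (hlpos e)
        omega
    -- every vertex reachable from v₀ is maximal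
    have hall : ∀ w : V, φ w = φ v₀ := by
      intro w
      have := hpath v₀ w
      induction this with
      | refl => rfl
      | tail _ hadj ih =>
        have hmax : ∀ u, φ u ≤ φ _ := fun u => by rw [ih]; exact hv₀ u
        rw [key _ _ hmax hadj, ih]
    intro v w
    rw [hall v, hall w]
  · intro h v
    unfold LabGraph.mdeg
    apply Finset.sum_eq_zero
    intro e _
    rw [h (ends e).2 (ends e).1]
    simp

end Groth.Agent.S13757
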