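import Groth.Statements.S13759
import Mathlib

set_option autoImplicit false
universe u
open LabGraph

namespace Groth.Agent.S13759

section helpers
open LabGraph
variable {V E : Type u} [Fintype V] [Fintype E] [DecidableEq V] [DecidableEq E]

theorem pathVert_zero (ends : E → V × V) (l : E → ℕ) (e : E) :
    pathVert ends l e 0 = Sum.inl (ends e).1 := by
  unfold pathVert; rw [dif_pos rfl]

theorem pathVert_top (ends : E → V × V) (l : E → ℕ) (e : E) (hl : 0 < l e) (j : ℕ) (hj : l e ≤ j) :
    pathVert ends l e j = Sum.inl (ends e).2 := by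
  unfold pathVert; rw [dif_neg (by omega), dif_neg (by omega)]

theorem pathVert_inl_iff (ends : E → V × V) (l : E → ℕ) (e : E) (k : ℕ) (hk : k < l e) (v : V) :
    pathVert ends l e k = Sum.inl v ↔ k = 0 ∧ (ends e).1 = v := by
  unfold pathVert
  by_cases h0 : k = 0
  · rw [dif_pos h0]; simp [h0]
  · rw [dif_neg h0, dif_pos hk]; simp [h0]

theorem pathVert_succ_inl_iff (ends : E → V × V) (l : E → ℕ) (e : E) (k : ℕ) (hk : k < l e) (v : V) :
    pathVert ends l e (k + 1) = Sum.inl v ↔ k + 1 = l e ∧ (ends e).2 = v := by
  unfold pathVert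
  by_cases h : k + 1 < l e
  · rw [dif_neg (by omega), dif_pos h]
    have : ¬ (k + 1 = l e) := by omega
    simp [this]
  · rw [dif_neg (by omega), dif_neg h]
    have : k + 1 = l e := by omega
    simp [this]

theorem pathVert_inr_iff (ends : E → V × V) (l : E → ℕ) (e : E) (k : ℕ) (e₀ : E)
    (i : Fin (l e₀ - 1)) :
    pathVert ends l e k = Sum.inr ⟨e₀, i⟩ ↔ e = e₀ ∧ k = i.val + 1 := by
  unfold pathVert
  by_cases h0 : k = 0
  · rw [dif_pos h0]
    have : ¬ (k = i.val + 1) := by omega
    simp [this]
  · by_cases hk : k < l e
    · rw [dif_neg h0, dif_pos hk]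
      constructor
      · intro h
        have h' := Sum.inr.inj h
        obtain ⟨he, hi⟩ := Sigma.mk.inj_iff.mp h'
        subst he
        have h2 := eq_of_heq hi
        have h3 := congrArg Fin.val h2
        simp only at h3
        exact ⟨rfl, by omega⟩
      · rintro ⟨rfl, hk'⟩
        congr 1
        refine Sigma.ext rfl (heq_of_eq (Fin.ext ?_))
        simp only
        omega
    · rw [dif_neg h0, dif_neg hk]
      constructor
      · intro h; exact absurd h (by simp)
      · rintro ⟨rfl, hk'⟩
        exfalso
        have := i.2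
        omega

theorem sum_fin_ite_single {n : ℕ} (c : Fin n → Prop) [DecidablePred c] (F : Fin n → ℤ) (j₀ : ℕ)
    (hj₀ : j₀ < n) (hc : ∀ k : Fin n, c k ↔ k.val = j₀) :
    ∑ k : Fin n, (if c k then F k else 0) = F ⟨j₀, hj₀⟩ := by
  rw [Finset.sum_eq_single ⟨j₀, hj₀⟩]
  · rw [if_pos ((hc _).mpr rfl)]
  · intro k _ hk
    rw [if_neg]
    intro h
    exact hk (Fin.ext ((hc k).mp h))
  · intro h; exact absurd (Finset.mem_univ _) h

theorem sum_fin_ite_none {n : ℕ} (c : Fin n → Prop) [DecidablePred c] (F : Fin n → ℤ)
    (hc : ∀ k : Fin n, ¬ c k) :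
    ∑ k : Fin n, (if c k then F k else 0) = 0 := by
  apply Finset.sum_eq_zero
  intro k _
  rw [if_neg (hc k)]

theorem mdeg_bl (ends : E → V × V) (l : E → ℕ) (ψ : BlVert V E l → ℤ) (w : BlVert V E l) :
    mdeg (blEnds ends l) (fun _ => 1) ψ w =
      ∑ e : E, ∑ k : Fin (l e),
        ((if pathVert ends l e k.val = w then
            ψ (pathVert ends l e (k.val + 1)) - ψ (pathVert ends l e k.val) else 0) +
         (if pathVert ends l e (k.val + 1) = w then
            ψ (pathVert ends l e k.val) - ψ (pathVert ends l e (k.val + 1)) else 0)) := by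
  unfold mdeg
  rw [Fintype.sum_sigma]
  refine Finset.sum_congr rfl fun e _ => Finset.sum_congr rfl fun k _ => ?_
  simp [blEnds]

end helpers

/-- Let G be a finite connected multigraph with vertex set V, edge set E, endpoint map E → V × V and
positive integer edge labels l, and let G̃ be its total blow-up graph: every edge e is replaced by a
path of l(e) edges through l(e) − 1 new vertices, all new edges labelled 1 (so every vertex
labelling of G̃ is Cartier and its multidegree is the sum over edge-ends of the differences of
values). Let H, resp. H̃, be the cokernel of the multidegree operator from Cartier vertex labellings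
of G to ℤ^V, resp. of G̃ to ℤ^Ṽ, and ε : H → H̃ the map induced by extending vertex labellings of G
by zero on the new vertices. Then ε is injective: if a vertex labelling α of G, extended by zero, is
the multidegree of some vertex labelling of G̃, then α is the multidegree of some Cartier vertex
labelling of G. -/
theorem result
    {V E : Type u} [Fintype V] [Fintype E] [DecidableEq V] [DecidableEq E]
    (ends : E → V × V) (l : E → ℕ) (hl : ∀ e, 0 < l e) (hconn : LabGraph.Connected ends)
    (α : V → ℤ) (ψ : LabGraph.BlVert V E l → ℤ)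
    (hψ : ∀ w : LabGraph.BlVert V E l,
      LabGraph.mdeg (LabGraph.blEnds ends l) (fun _ => 1) ψ w = Sum.elim α (fun _ => (0 : ℤ)) w) :
    ∃ φ : V → ℤ, LabGraph.IsCartier ends l φ ∧ ∀ v : V, LabGraph.mdeg ends l φ v = α v := by
  classical
  have hint : ∀ (e₀ : E) (j : ℕ), j + 1 < l e₀ →
      ψ (pathVert ends l e₀ (j + 1 + 1)) - ψ (pathVert ends l e₀ (j + 1)) =
      ψ (pathVert ends l e₀ (j + 1)) - ψ (pathVert ends l e₀ j) := by
    intro e₀ j hj
    have h := hψ (Sum.inr ⟨e₀, ⟨j, by omega⟩⟩)
    rw [mdeg_bl] at h
    simp only [Sum.elim_inr] at h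
    rw [Finset.sum_eq_single e₀] at h
    · rw [Finset.sum_add_distrib,
        sum_fin_ite_single (fun k : Fin (l e₀) => pathVert ends l e₀ k.val = Sum.inr ⟨e₀, ⟨j, by omega⟩⟩)
          (fun k => ψ (pathVert ends l e₀ (k.val + 1)) - ψ (pathVert ends l e₀ k.val)) (j + 1) hj
          (fun k => by
            rw [pathVert_inr_iff]
            simp),
        sum_fin_ite_single (fun k : Fin (l e₀) => pathVert ends l e₀ (k.val + 1) = Sum.inr ⟨e₀, ⟨j, by omega⟩⟩)
          (fun k => ψ (pathVert ends l e₀ k.val) - ψ (pathVert ends l e₀ (k.val + 1))) j (by omega)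
          (fun k => by
            rw [pathVert_inr_iff]
            simp)] at h
      simp only at h
      linarith
    · intro e _ hne
      apply Finset.sum_eq_zero
      intro k _
      have c1 : ¬ (pathVert ends l e k.val = Sum.inr ⟨e₀, ⟨j, by omega⟩⟩) := by
        rw [pathVert_inr_iff]; intro hh; exact hne hh.1
      have c2 : ¬ (pathVert ends l e (k.val + 1) = Sum.inr ⟨e₀, ⟨j, by omega⟩⟩) := by
        rw [pathVert_inr_iff]; intro hh; exact hne hh.1
      rw [if_neg c1, if_neg c2, add_zero]
    · intro hh; exact absurd (Finset.mem_univ _) hh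
  have hAP : ∀ (e : E) (j : ℕ), j < l e →
      ψ (pathVert ends l e (j + 1)) - ψ (pathVert ends l e j) =
      ψ (pathVert ends l e (0 + 1)) - ψ (pathVert ends l e 0) := by
    intro e j
    induction j with
    | zero => intro _; rfl
    | succ j ih =>
      intro hj
      rw [hint e j hj]
      exact ih (by omega)
  obtain ⟨d, hd⟩ : ∃ d : E → ℤ, d = fun e => ψ (pathVert ends l e (0 + 1)) - ψ (pathVert ends l e 0) :=
    ⟨_, rfl⟩
  have hAP' : ∀ (e : E) (j : ℕ), j < l e →
      ψ (pathVert ends l e (j + 1)) - ψ (pathVert ends l e j) = d e := by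
    intro e j hj; rw [hd]; exact hAP e j hj
  have hlin : ∀ (e : E) (j : ℕ), j ≤ l e →
      ψ (pathVert ends l e j) = ψ (pathVert ends l e 0) + j * d e := by
    intro e j
    induction j with
    | zero => intro _; simp
    | succ j ih =>
      intro hj
      have h1 := ih (by omega)
      have h2 := hAP' e j (by omega)
      push_cast; linarith
  have hends : ∀ e : E, ψ (Sum.inl (ends e).2) - ψ (Sum.inl (ends e).1) = (l e : ℤ) * d e := by
    intro e
    have h1 := hlin e (l e) le_rfl
    rw [pathVert_top ends l e (hl e) (l e) le_rfl, pathVert_zero] at h1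
    linarith
  have hα : ∀ v : V, α v = ∑ e : E, ((if (ends e).1 = v then d e else 0) +
      (if (ends e).2 = v then - d e else 0)) := by
    intro v
    have h := hψ (Sum.inl v)
    rw [mdeg_bl] at h
    simp only [Sum.elim_inl] at h
    rw [← h]
    refine Finset.sum_congr rfl fun e _ => ?_
    have hterm : ∀ k : Fin (l e),
        ((if pathVert ends l e k.val = Sum.inl v then
            ψ (pathVert ends l e (k.val + 1)) - ψ (pathVert ends l e k.val) else 0) +
         (if pathVert ends l e (k.val + 1) = Sum.inl v then
            ψ (pathVert ends l e k.val) - ψ (pathVert ends l e (k.val + 1)) else 0)) =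
        ((if pathVert ends l e k.val = Sum.inl v then d e else 0) +
         (if pathVert ends l e (k.val + 1) = Sum.inl v then - d e else 0)) := by
      intro k
      have h2 := hAP' e k.val k.2
      congr 1
      · split_ifs
        · exact h2
        · rfl
      · split_ifs
        · linarith
        · rfl
    rw [Finset.sum_congr rfl (fun k _ => hterm k), Finset.sum_add_distrib]
    congr 1
    · by_cases hv : (ends e).1 = v
      · rw [if_pos hv, sum_fin_ite_single (fun k : Fin (l e) => pathVert ends l e k.val = Sum.inl v)
          (fun _ => d e) 0 (hl e) (fun k => by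
            rw [pathVert_inl_iff ends l e k.val k.2]
            simp [hv])]
      · rw [if_neg hv, sum_fin_ite_none (fun k : Fin (l e) => pathVert ends l e k.val = Sum.inl v)
          (fun _ => d e) (fun k => by
            rw [pathVert_inl_iff ends l e k.val k.2]
            intro hh; exact hv hh.2)]
    · by_cases hv : (ends e).2 = v
      · rw [if_pos hv, sum_fin_ite_single (fun k : Fin (l e) => pathVert ends l e (k.val + 1) = Sum.inl v)
          (fun _ => - d e) (l e - 1) (by have := hl e; omega) (fun k => by
            rw [pathVert_succ_inl_iff ends l e k.val k.2]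
            have := hl e
            simp only [hv, and_true]
            omega)]
      · rw [if_neg hv, sum_fin_ite_none (fun k : Fin (l e) => pathVert ends l e (k.val + 1) = Sum.inl v)
          (fun _ => - d e) (fun k => by
            rw [pathVert_succ_inl_iff ends l e k.val k.2]
            intro hh; exact hv hh.2)]
  refine ⟨fun v => ψ (Sum.inl v), ?_, ?_⟩
  · intro e
    show (l e : ℤ) ∣ ψ (Sum.inl (ends e).1) - ψ (Sum.inl (ends e).2)
    have := hends e
    exact ⟨- d e, by linarith⟩
  · intro v
    rw [hα v]
    unfold LabGraph.mdeg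
    refine Finset.sum_congr rfl fun e _ => ?_
    have hne : (l e : ℤ) ≠ 0 := by have := hl e; exact_mod_cast this.ne'
    have h1 : (ψ (Sum.inl (ends e).2) - ψ (Sum.inl (ends e).1)) / (l e : ℤ) = d e := by
      rw [hends e]; exact Int.mul_ediv_cancel_left _ hne
    have h2 : (ψ (Sum.inl (ends e).1) - ψ (Sum.inl (ends e).2)) / (l e : ℤ) = - d e := by
      have : ψ (Sum.inl (ends e).1) - ψ (Sum.inl (ends e).2) = (l e : ℤ) * (- d e) := by
        have := hends e; linarith
      rw [this]; exact Int.mul_ediv_cancel_left _ hne
    simp only [h1, h2]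

end Groth.Agent.S13759
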