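import Groth.Statements.S1376
import Groth.Agent.S0385
import Groth.Agent.H73.FiniteExt

set_option autoImplicit false
universe u
open FlatMor

namespace Groth.Agent.S1376

open AlgebraicGeometry CategoryTheory Limits in
/-- Let S be quasi-compact and quasi-separated, U a quasi-compact open of S and V → U a surjective
finite morphism. Then there is a surjective finite morphism V' → S whose base change to U is V (V is
the fibre product of V' and U over S). -/
theorem result {S V : Scheme.{u}} [CompactSpace ↑S] [QuasiSeparatedSpace ↑S] (U : S.Opens) (hU : IsCompact (U : Set ↑S))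
    (v : V ⟶ (U : Scheme.{u})) [IsFinite v] [Surjective v] :
    ∃ (V' : Scheme.{u}) (π : V' ⟶ S) (i : V ⟶ V'), Surjective π ∧ IsFinite π ∧ IsPullback i v π U.ι := by
  have hcU : CompactSpace (U : Scheme.{u}) := isCompact_iff_compactSpace.mp hU
  have hqc : QuasiCompact U.ι := quasiCompact_of_compactSpace _
  obtain ⟨T, j, π, hj, hjc, hπ, hfac⟩ := Groth.Agent.S0385.result (v ≫ U.ι)
  let c : j.image ⟶ T := j.imageι
  let I : S.IdealSheafData :=
    Scheme.IdealSheafData.vanishingIdeal ⟨(U : Set S)ᶜ, U.isOpen.isClosed_compl⟩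
  let z : I.subscheme ⟶ S := I.subschemeι
  have hcomm : (j.toImage ≫ (coprod.inl : j.image ⟶ j.image ⨿ I.subscheme)) ≫
      coprod.desc (c ≫ π) z = v ≫ U.ι := by
    rw [Category.assoc, coprod.inl_desc, Scheme.Hom.toImage_imageι_assoc, hfac]
  refine ⟨j.image ⨿ I.subscheme, coprod.desc (c ≫ π) z, j.toImage ≫ coprod.inl, ?_,
    inferInstance, ?_⟩
  · refine ⟨fun s => ?_⟩
    by_cases hs : s ∈ U
    · obtain ⟨x, hx⟩ := v.surjective ⟨s, hs⟩
      refine ⟨(j.toImage ≫ (coprod.inl : j.image ⟶ j.image ⨿ I.subscheme)) x, ?_⟩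
      rw [← Scheme.Hom.comp_apply, hcomm, Scheme.Hom.comp_apply, hx]
      rfl
    · have hsz : s ∈ Set.range z := by
        rw [Scheme.IdealSheafData.range_subschemeι,
          Scheme.IdealSheafData.coe_support_vanishingIdeal]
        exact hs
      obtain ⟨y, rfl⟩ := hsz
      refine ⟨(coprod.inr : I.subscheme ⟶ j.image ⨿ I.subscheme) y, ?_⟩
      rw [← Scheme.Hom.comp_apply, coprod.inr_desc]
  · refine (IsOpenImmersion.isPullback v (j.toImage ≫ coprod.inl) U.ι _ hcomm ?_).flip
    rw [Scheme.Opens.opensRange_ι]
    apply le_antisymm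
    · intro y hy
      obtain ⟨(t | w), rfl⟩ := (coprodMk j.image I.subscheme).surjective y
      · rw [coprodMk_inl] at hy ⊢
        have hy' : π (c t) ∈ U := by
          have : (coprod.desc (c ≫ π) z) ((coprod.inl : j.image ⟶ j.image ⨿ I.subscheme) t)
              = π (c t) := by
            rw [← Scheme.Hom.comp_apply, coprod.inl_desc, Scheme.Hom.comp_apply]
          rw [← this]; exact hy
        have hcl : c t ∈ closure (Set.range j) := by
          rw [← Scheme.Hom.support_ker]
          have : c t ∈ Set.range c := ⟨t, rfl⟩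
          rwa [Scheme.IdealSheafData.range_subschemeι] at this
        obtain ⟨x, hx⟩ := Groth.Agent.H73.FiniteExt.mem_range_of_mem_closure U v j π hfac
          (c t) hcl hy'
        refine ⟨x, ?_⟩
        rw [Scheme.Hom.comp_apply]
        congr 1
        apply c.isEmbedding.injective
        rw [← hx, ← Scheme.Hom.comp_apply, Scheme.Hom.toImage_imageι]
      · exfalso
        rw [coprodMk_inr] at hy
        have h1 : (coprod.desc (c ≫ π) z) ((coprod.inr : I.subscheme ⟶ j.image ⨿ I.subscheme) w)
            = z w := by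
          rw [← Scheme.Hom.comp_apply, coprod.inr_desc]
        have h2 : z w ∈ (U : Set S)ᶜ := by
          have : z w ∈ Set.range z := ⟨w, rfl⟩
          rwa [Scheme.IdealSheafData.range_subschemeι,
            Scheme.IdealSheafData.coe_support_vanishingIdeal] at this
        apply h2
        rw [← h1]; exact hy
    · rintro _ ⟨x, rfl⟩
      show (coprod.desc (c ≫ π) z) ((j.toImage ≫ coprod.inl) x) ∈ U
      rw [← Scheme.Hom.comp_apply, hcomm, Scheme.Hom.comp_apply]
      exact (v x).2

end Groth.Agent.S1376
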