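import Groth.Statements.S13760
-- import your own Groth.Agent.* helpers here
import Groth.Agent.H39.LabG
import Groth.Agent.S13759

set_option autoImplicit false
universe u
open LabGraph

namespace Groth.Agent.S13760

open Groth.Agent.H39.LabG Groth.Agent.S13759

section aux
variable {V E : Type u} [Fintype V] [Fintype E] [DecidableEq V] [DecidableEq E]

/-- The multidegree of a labelling of the blow-up graph at a new vertex is a second difference. -/
lemma mdeg_bl_inr (ends : E → V × V) (l : E → ℕ) (ψ : BlVert V E l → ℤ) (e₀ : E) (j : ℕ)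
    (hj : j + 1 < l e₀) :
    mdeg (blEnds ends l) (fun _ => 1) ψ (Sum.inr ⟨e₀, ⟨j, by omega⟩⟩) =
      (ψ (pathVert ends l e₀ (j + 1 + 1)) - ψ (pathVert ends l e₀ (j + 1))) +
      (ψ (pathVert ends l e₀ j) - ψ (pathVert ends l e₀ (j + 1))) := by
  rw [mdeg_bl]
  rw [Finset.sum_eq_single e₀]
  · rw [Finset.sum_add_distrib,
      sum_fin_ite_single (fun k : Fin (l e₀) => pathVert ends l e₀ k.val = Sum.inr ⟨e₀, ⟨j, by omega⟩⟩)
        (fun k => ψ (pathVert ends l e₀ (k.val + 1)) - ψ (pathVert ends l e₀ k.val)) (j + 1) hj
        (fun k => by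
          rw [pathVert_inr_iff]
          simp),
      sum_fin_ite_single (fun k : Fin (l e₀) => pathVert ends l e₀ (k.val + 1) = Sum.inr ⟨e₀, ⟨j, by omega⟩⟩)
        (fun k => ψ (pathVert ends l e₀ k.val) - ψ (pathVert ends l e₀ (k.val + 1))) j (by omega)
        (fun k => by
          rw [pathVert_inr_iff]
          simp)]
  · intro e _ hne
    apply Finset.sum_eq_zero
    intro k _
    have c1 : ¬ (pathVert ends l e k.val = Sum.inr ⟨e₀, ⟨j, by omega⟩⟩) := by
      rw [pathVert_inr_iff]; intro hh; exact hne hh.1
    have c2 : ¬ (pathVert ends l e (k.val + 1) = Sum.inr ⟨e₀, ⟨j, by omega⟩⟩) := by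
      rw [pathVert_inr_iff]; intro hh; exact hne hh.1
    rw [if_neg c1, if_neg c2, add_zero]
  · intro hh; exact absurd (Finset.mem_univ _) hh

/-- Particular solution of the second-difference recurrence. -/
def qseq (b : ℕ → ℤ) : ℕ → ℤ
  | 0 => 0
  | 1 => 0
  | (j + 2) => 2 * qseq b (j + 1) - qseq b j - b j

lemma qseq_zero (b : ℕ → ℤ) : qseq b 0 = 0 := by rw [qseq]
lemma qseq_one (b : ℕ → ℤ) : qseq b 1 = 0 := by rw [qseq]
lemma qseq_succ_succ (b : ℕ → ℤ) (j : ℕ) :
    qseq b (j + 2) = 2 * qseq b (j + 1) - qseq b j - b j := by rw [qseq]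

end aux


/-- Let G be a finite connected multigraph with vertex set V, edge set E, endpoint map E → V × V and
positive integer edge labels l, let G̃ be its total blow-up graph (every edge e replaced by a path
of l(e) edges through l(e) − 1 new vertices, all labelled 1), and let ε : H → H̃ be the map from the
cokernel of the multidegree operator on Cartier vertex labellings of G to the cokernel of the
multidegree operator on vertex labellings of G̃ induced by extension by zero. Then ε is surjective —
every vertex labelling β of G̃ can be corrected by the multidegree of a vertex labelling of G̃ so as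
to vanish at all new vertices — if and only if G is circuit-coprime (the labels along every circuit
have greatest common divisor 1). (The published statement is 'ε is an isomorphism if and only if the
labelled graph is circuit-coprime'; injectivity of ε holds for every labelled graph, so the content
is the equivalence for surjectivity, stated here with the cokernels unpacked.) -/
theorem result
    {V E : Type u} [Fintype V] [Fintype E] [DecidableEq V] [DecidableEq E]
    (ends : E → V × V) (l : E → ℕ) (hl : ∀ e, 0 < l e) (hconn : LabGraph.Connected ends) :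
    (∀ β : LabGraph.BlVert V E l → ℤ, ∃ (ψ : LabGraph.BlVert V E l → ℤ) (α : V → ℤ),
        ∀ w : LabGraph.BlVert V E l,
          LabGraph.mdeg (LabGraph.blEnds ends l) (fun _ => 1) ψ w + β w = Sum.elim α (fun _ => (0 : ℤ)) w) ↔
      LabGraph.IsCircuitCoprime ends l := by
  classical
  constructor
  · intro hA
    apply coprime_of_R ends l
    apply R_of_potential ends l
    intro x
    obtain ⟨ψ, α, hψ⟩ := hA (Sum.elim (fun _ => 0)
      (fun w => if w.2.val + 2 = l w.1 then - x w.1 else 0))
    refine ⟨fun v => ψ (Sum.inl v), fun e => ?_⟩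
    have hrec : ∀ j, j + 1 < l e →
        ψ (pathVert ends l e (j + 1 + 1)) - ψ (pathVert ends l e (j + 1)) =
          (ψ (pathVert ends l e (j + 1)) - ψ (pathVert ends l e j)) -
            (if j + 2 = l e then - x e else 0) := by
      intro j hj
      have h := hψ (Sum.inr ⟨e, ⟨j, by omega⟩⟩)
      rw [mdeg_bl_inr ends l ψ e j hj] at h
      simp only [Sum.elim_inr] at h
      linarith
    obtain ⟨t, ht⟩ : ∃ t, t = ψ (pathVert ends l e (0 + 1)) - ψ (pathVert ends l e 0) := ⟨_, rfl⟩
    have hδ : ∀ j, j + 1 < l e →
        ψ (pathVert ends l e (j + 1)) - ψ (pathVert ends l e j) = t := by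
      intro j
      induction j with
      | zero => intro _; exact ht.symm
      | succ j ih =>
        intro hj
        have h1 := hrec j (by omega)
        have h2 := ih (by omega)
        rw [if_neg (by omega)] at h1
        linarith
    have hlin : ∀ j, j < l e → ψ (pathVert ends l e j) = ψ (pathVert ends l e 0) + j * t := by
      intro j
      induction j with
      | zero => intro _; simp
      | succ j ih =>
        intro hj
        have h1 := ih (by omega)
        have h2 := hδ j hj
        push_cast
        linarith
    show (l e : ℤ) ∣ x e - (ψ (Sum.inl (ends e).2) - ψ (Sum.inl (ends e).1))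
    have hle := hl e
    have htop : ψ (Sum.inl (ends e).2) = ψ (pathVert ends l e (l e)) := by
      rw [pathVert_top ends l e (hl e) (l e) le_rfl]
    have hbot : ψ (Sum.inl (ends e).1) = ψ (pathVert ends l e 0) := by
      rw [pathVert_zero]
    rw [htop, hbot]
    by_cases h1 : l e = 1
    · rw [h1]; simp
    · obtain ⟨m, hm⟩ : ∃ m, l e = m + 2 := ⟨l e - 2, by omega⟩
      have h2 := hrec m (by omega)
      rw [if_pos (by omega)] at h2
      have h3 := hδ m (by omega)
      have h4 := hlin (m + 1) (by omega)
      refine ⟨-t, ?_⟩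
      rw [hm]
      push_cast at h4 ⊢
      linarith
  · intro hcc β
    obtain ⟨q, hq⟩ : ∃ q : E → ℕ → ℤ, q = fun e =>
        qseq (fun j => if h : j + 1 < l e then β (Sum.inr ⟨e, ⟨j, by omega⟩⟩) else 0) := ⟨_, rfl⟩
    have hq0 : ∀ e, q e 0 = 0 := fun e => by rw [hq]; exact qseq_zero _
    have hq2 : ∀ e j (hj : j + 1 < l e), q e (j + 2) =
        2 * q e (j + 1) - q e j - β (Sum.inr ⟨e, ⟨j, by omega⟩⟩) := by
      intro e j hj
      rw [hq]
      simp only
      rw [qseq_succ_succ, dif_pos hj]
    obtain ⟨φ, hφ⟩ := exists_potential ends l hl hcc (fun e => q e (l e)) Finset.univ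
    obtain ⟨t, ht⟩ : ∃ t : E → ℤ, ∀ e, (l e : ℤ) * t e = dd ends φ e - q e (l e) := by
      refine ⟨fun e => (dd ends φ e - q e (l e)) / (l e : ℤ), fun e => ?_⟩
      have h1 : (l e : ℤ) ∣ dd ends φ e - q e (l e) := by
        have := hφ e (Finset.mem_univ e)
        have h2 : dd ends φ e - q e (l e) = -(q e (l e) - dd ends φ e) := by ring
        rw [h2]
        exact (dvd_neg).mpr this
      exact Int.mul_ediv_cancel' h1
    obtain ⟨ψ, hψdef⟩ : ∃ ψ : BlVert V E l → ℤ, ψ = Sum.elim φ
        (fun w => φ (ends w.1).1 + ((w.2.val : ℤ) + 1) * t w.1 + q w.1 (w.2.val + 1)) := ⟨_, rfl⟩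
    have hP : ∀ e j, j ≤ l e →
        ψ (pathVert ends l e j) = φ (ends e).1 + (j : ℤ) * t e + q e j := by
      intro e j hj
      unfold pathVert
      by_cases h0 : j = 0
      · rw [dif_pos h0, hψdef, h0]
        simp [hq0]
      · by_cases hlt : j < l e
        · rw [dif_neg h0, dif_pos hlt, hψdef]
          simp only [Sum.elim_inr]
          have h1 : j - 1 + 1 = j := by omega
          have h2 : ((j - 1 : ℕ) : ℤ) + 1 = j := by
            have : ((j - 1 + 1 : ℕ) : ℤ) = j := by rw [h1]
            push_cast at this
            exact this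
          rw [h1, h2]
        · rw [dif_neg h0, dif_neg hlt, hψdef]
          simp only [Sum.elim_inl]
          have h1 : j = l e := by omega
          have h2 := ht e
          unfold dd at h2
          rw [h1]
          linarith
    refine ⟨ψ, fun v => mdeg (blEnds ends l) (fun _ => 1) ψ (Sum.inl v) + β (Sum.inl v), ?_⟩
    intro w
    rcases w with v | ⟨e, ⟨j, hj'⟩⟩
    · rfl
    · have hj : j + 1 < l e := by omega
      have h1 := mdeg_bl_inr ends l ψ e j hj
      simp only [Sum.elim_inr]
      rw [h1, hP e (j + 1 + 1) (by omega), hP e (j + 1) (by omega), hP e j (by omega),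
        hq2 e j hj]
      push_cast
      ring

end Groth.Agent.S13760
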