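import Groth.Statements.S1377
import Mathlib.AlgebraicGeometry.Normalization
import Mathlib.AlgebraicGeometry.Limits

set_option autoImplicit false
universe u
open FlatMor

namespace Groth.Agent.S1377

section aux
open AlgebraicGeometry CategoryTheory CategoryTheory.Limits TopologicalSpace

variable {S V : Scheme.{u}} (U : S.Opens) (v : V ⟶ (U : Scheme.{u}))

/-- `snd` of the pullback of `v ≫ U.ι` along `U.ι` is a base change of `v`. -/
lemma isPullback_aux :
    IsPullback (pullback.fst (v ≫ U.ι) U.ι) (pullback.snd (v ≫ U.ι) U.ι) v (𝟙 _) := by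
  have big : IsPullback (pullback.snd (v ≫ U.ι) U.ι ≫ 𝟙 _) (pullback.fst (v ≫ U.ι) U.ι) U.ι
      (v ≫ U.ι) := by
    rw [Category.comp_id]; exact (IsPullback.of_hasPullback (v ≫ U.ι) U.ι).flip
  have hp : pullback.snd (v ≫ U.ι) U.ι ≫ 𝟙 _ = pullback.fst (v ≫ U.ι) U.ι ≫ v := by
    rw [Category.comp_id, ← cancel_mono U.ι, Category.assoc]; exact pullback.condition.symm
  exact (IsPullback.of_right big hp (IsKernelPair.id_of_mono U.ι)).flip

instance [IsIntegralHom v] : IsIntegralHom (pullback.snd (v ≫ U.ι) U.ι) :=
  MorphismProperty.of_isPullback (P := @IsIntegralHom) (isPullback_aux U v) inferInstance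

instance : IsIso (pullback.fst (v ≫ U.ι) U.ι) := (isPullback_aux U v).isIso_fst_of_isIso

variable [QuasiCompact U.ι] [IsIntegralHom v]

lemma sqN : IsPullback (v ≫ U.ι).toNormalization v (v ≫ U.ι).fromNormalization U.ι := by
  have hsm : Smooth U.ι := inferInstance
  have h1 : (inv (pullback.fst (v ≫ U.ι) U.ι) ≫ (pullback.snd (v ≫ U.ι) U.ι).toNormalization ≫
      (v ≫ U.ι).normalizationPullback U.ι) ≫ pullback.fst _ _ = (v ≫ U.ι).toNormalization := by
    simp only [Category.assoc]
    rw [Scheme.Hom.toNormalization_normalizationPullback_fst, IsIso.inv_hom_id_assoc]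
  have h2 : (inv (pullback.fst (v ≫ U.ι) U.ι) ≫ (pullback.snd (v ≫ U.ι) U.ι).toNormalization ≫
      (v ≫ U.ι).normalizationPullback U.ι) ≫ pullback.snd _ _ = v := by
    simp only [Category.assoc]
    rw [Scheme.Hom.normalizationPullback_snd, Scheme.Hom.toNormalization_fromNormalization,
      IsIso.inv_comp_eq, (isPullback_aux U v).w, Category.comp_id]
  have hiso : IsIso (inv (pullback.fst (v ≫ U.ι) U.ι) ≫
      (pullback.snd (v ≫ U.ι) U.ι).toNormalization ≫ (v ≫ U.ι).normalizationPullback U.ι) :=
    inferInstance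
  exact IsPullback.of_iso_pullback ⟨by simp⟩ (asIso (inv (pullback.fst (v ≫ U.ι) U.ι) ≫
      (pullback.snd (v ≫ U.ι) U.ι).toNormalization ≫ (v ≫ U.ι).normalizationPullback U.ι)) h1 h2

lemma main [Surjective v] : ∃ (V' : Scheme.{u}) (π : V' ⟶ S) (i : V ⟶ V'),
    Surjective π ∧ IsIntegralHom π ∧ IsPullback i v π U.ι := by
  have hZ : Set.range (Scheme.IdealSheafData.vanishingIdeal
      (⟨(U : Set S)ᶜ, U.isOpen.isClosed_compl⟩ : Closeds S)).subschemeι = (U : Set S)ᶜ := by
    rw [Scheme.IdealSheafData.range_subschemeι, Scheme.IdealSheafData.coe_support_vanishingIdeal]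
    rfl
  generalize (Scheme.IdealSheafData.vanishingIdeal
      (⟨(U : Set S)ᶜ, U.isOpen.isClosed_compl⟩ : Closeds S)) = I at hZ
  have sq := sqN U v
  have htoN : IsOpenImmersion (v ≫ U.ι).toNormalization :=
    MorphismProperty.of_isPullback (P := @IsOpenImmersion) sq.flip inferInstance
  refine ⟨(v ≫ U.ι).normalization ⨿ I.subscheme,
    coprod.desc (v ≫ U.ι).fromNormalization I.subschemeι,
    (v ≫ U.ι).toNormalization ≫ coprod.inl, ?_, inferInstance, ?_⟩
  · constructor
    intro s
    by_cases hs : s ∈ U
    · obtain ⟨y, hy⟩ := v.surjective ⟨s, hs⟩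
      refine ⟨(coprod.inl : (v ≫ U.ι).normalization ⟶ _) ((v ≫ U.ι).toNormalization y), ?_⟩
      rw [← Scheme.Hom.comp_apply, ← Scheme.Hom.comp_apply, coprod.inl_desc,
        Scheme.Hom.toNormalization_fromNormalization, Scheme.Hom.comp_apply, hy]
      rfl
    · obtain ⟨z, hz⟩ : s ∈ Set.range I.subschemeι := by rw [hZ]; exact hs
      refine ⟨(coprod.inr : I.subscheme ⟶ _) z, ?_⟩
      rw [← Scheme.Hom.comp_apply, coprod.inr_desc, hz]
  · refine (IsOpenImmersion.isPullback v ((v ≫ U.ι).toNormalization ≫ coprod.inl) U.ι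
      (coprod.desc (v ≫ U.ι).fromNormalization I.subschemeι) ?_ ?_).flip
    · rw [Category.assoc, coprod.inl_desc, Scheme.Hom.toNormalization_fromNormalization]
    · rw [Scheme.Opens.opensRange_ι]
      ext x
      obtain ⟨(n | z), rfl⟩ := (coprodMk _ _).surjective x
      · rw [coprodMk_inl]
        have h1 : (coprod.desc (v ≫ U.ι).fromNormalization I.subschemeι)
            ((coprod.inl : (v ≫ U.ι).normalization ⟶ _) n) = (v ≫ U.ι).fromNormalization n := by
          rw [← Scheme.Hom.comp_apply, coprod.inl_desc]
        constructor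
        · intro hx
          have hx' : (v ≫ U.ι).fromNormalization n ∈ U := by rw [← h1]; exact hx
          obtain ⟨y, hy1, -⟩ := Scheme.exists_preimage_of_isPullback sq n
            ⟨(v ≫ U.ι).fromNormalization n, hx'⟩ rfl
          exact ⟨y, by rw [Scheme.Hom.comp_apply]; exact congrArg _ hy1⟩
        · rintro ⟨y, hy⟩
          rw [Scheme.Hom.comp_apply] at hy
          have hn : (v ≫ U.ι).toNormalization y = n :=
            (coprod.inl : (v ≫ U.ι).normalization ⟶ _).isOpenEmbedding.injective hy
          show (coprod.desc (v ≫ U.ι).fromNormalization I.subschemeι)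
            ((coprod.inl : (v ≫ U.ι).normalization ⟶ _) n) ∈ U
          rw [h1, ← hn, ← Scheme.Hom.comp_apply, Scheme.Hom.toNormalization_fromNormalization,
            Scheme.Hom.comp_apply]
          exact (v y).2
      · rw [coprodMk_inr]
        have h2 : (coprod.desc (v ≫ U.ι).fromNormalization I.subschemeι)
            ((coprod.inr : I.subscheme ⟶ _) z) = I.subschemeι z := by
          rw [← Scheme.Hom.comp_apply, coprod.inr_desc]
        constructor
        · intro hx
          have h3 : I.subschemeι z ∈ (U : Set S)ᶜ := by rw [← hZ]; exact ⟨z, rfl⟩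
          have h4 : I.subschemeι z ∈ U := by rw [← h2]; exact hx
          exact absurd h4 h3
        · rintro ⟨y, hy⟩
          rw [Scheme.Hom.comp_apply] at hy
          exact absurd hy (inl_ne_inr _ _ _ _)

end aux

open AlgebraicGeometry CategoryTheory Limits in
/-- Let S be a scheme, U ⊆ S an open subscheme whose inclusion U → S is quasi-compact (U retrocompact in
S), and V → U a surjective integral morphism. Then there are a scheme V' and a surjective integral
morphism V' → S whose base change to U is V → U. (The published statement puts no condition on U,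
and in that generality it is false: e.g. S = Spec ∏_i ℤ/4^i with U = D(2) ∪ ⋃_i D(e_i), e_i the
idempotents, and V equal to U except that over D(2) it is cut out by x = (2^i)_i. Stated here with U
→ S quasi-compact, under which hypothesis the published argument applies.) -/
theorem result {S V : Scheme.{u}} (U : S.Opens) [QuasiCompact U.ι]
    (v : V ⟶ (U : Scheme.{u})) [IsIntegralHom v] [Surjective v] :
    ∃ (V' : Scheme.{u}) (π : V' ⟶ S) (i : V ⟶ V'), Surjective π ∧ IsIntegralHom π ∧ IsPullback i v π U.ι := by
  exact main U v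

end Groth.Agent.S1377
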