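import Groth.Statements.S13771
import Mathlib.Tactic

set_option autoImplicit false
universe u v w
open PLie

namespace Groth.Agent.S13771

section aux

variable {R : Type u} [CommRing R] {p : ℕ} [CharP R p]
variable {L : Type v} {L' : Type w} [LieRing L] [LieAlgebra R L] [LieRing L'] [LieAlgebra R L']

theorem map_bracketWord (h : L →ₗ⁅R⁆ L') {ι : Type*} (x : ι → L) (x₁ : L) (l : List ι) :
    h (PLie.bracketWord x x₁ l) = PLie.bracketWord (fun i => h (x i)) (h x₁) l := by
  induction l with
  | nil => rfl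
  | cons i l ih => rw [PLie.bracketWord_cons, PLie.bracketWord_cons, LieHom.map_lie, ih]

theorem bracketWord_zero {ι : Type*} (x : ι → L) (l : List ι) :
    PLie.bracketWord x (0 : L) l = 0 := by
  induction l with
  | nil => rfl
  | cons i l ih => rw [PLie.bracketWord_cons, ih, lie_zero]

theorem map_pair (h : L →ₗ⁅R⁆ L') (x₀ x₁ : L) :
    (fun b => h (PLie.pair x₀ x₁ b)) = PLie.pair (h x₀) (h x₁) := by
  funext b
  cases b <;> simp [PLie.pair]

theorem map_jacobson (h : L →ₗ⁅R⁆ L') (x₀ x₁ : L) :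
    h (PLie.jacobson R p x₀ x₁) = PLie.jacobson R p (h x₀) (h x₁) := by
  unfold PLie.jacobson
  rw [map_sum]
  refine Finset.sum_congr rfl fun t _ => ?_
  rw [map_smul, map_bracketWord, map_pair]

theorem jacobson_zero_right (x₀ : L) : PLie.jacobson R p x₀ (0 : L) = 0 := by
  unfold PLie.jacobson
  refine Finset.sum_eq_zero fun t _ => ?_
  rw [bracketWord_zero, smul_zero]

theorem pmap_ext {φ ψ : PLie.PMap R p L} (h : ∀ x, φ x = ψ x) : φ = ψ := by
  cases φ with
  | mk f1 a1 b1 c1 =>
    cases ψ with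
    | mk f2 a2 b2 c2 =>
      have : f1 = f2 := funext h
      subst this
      rfl

end aux

/-- Let R be a commutative ring of prime characteristic p, L₁ and L₂ Lie algebras over R, φ a p-mapping
on L₁ and f : L₁ → L₂ a morphism of Lie algebras whose kernel is stable under φ (a p-ideal). Then
the image f(L₁), a Lie subalgebra of L₂, carries exactly one p-mapping ψ for which the corestriction
of f to its image is a morphism of p-Lie algebras, i.e. ψ (f x) = f (φ x) for all x. -/
theorem result (R : Type u) [CommRing R] (p : ℕ) [Fact p.Prime] [CharP R p]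
    (L₁ : Type v) [LieRing L₁] [LieAlgebra R L₁] (L₂ : Type w) [LieRing L₂] [LieAlgebra R L₂]
    (φ : PLie.PMap R p L₁) (f : L₁ →ₗ⁅R⁆ L₂) (hker : ∀ x : L₁, f x = 0 → f (φ x) = 0) :
    ∃! ψ : PLie.PMap R p f.range, PLie.IsPHom φ ψ f.rangeRestrict := by
  classical
  have hwd : ∀ x x' : L₁, f x = f x' → f (φ x) = f (φ x') := by
    intro x x' hxx'
    obtain ⟨k, rfl⟩ : ∃ k, x' = x + k := ⟨x' - x, by abel⟩
    have hk : f k = 0 := by
      rw [map_add] at hxx'
      exact (add_eq_left.mp hxx'.symm)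
    have h1 : φ (x + k) = φ x + φ k - jacobson R p x k := φ.map_add x k
    rw [h1, map_sub, map_add, hker k hk, map_jacobson, hk, jacobson_zero_right, add_zero,
      sub_zero]
  choose sec hsec using fun y : f.range => (LieHom.mem_range f y.1).mp y.2
  have hψ : ∀ x : L₁, f.rangeRestrict (φ (sec (f.rangeRestrict x))) = f.rangeRestrict (φ x) := by
    intro x
    apply Subtype.ext
    simp only [LieHom.rangeRestrict_apply]
    exact hwd _ _ (hsec _)
  have hsurj := f.surjective_rangeRestrict
  have hpow : ∀ (n : ℕ) (x w : L₁),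
      (LieAlgebra.ad R f.range (f.rangeRestrict x) ^ n) (f.rangeRestrict w) =
        f.rangeRestrict ((LieAlgebra.ad R L₁ x ^ n) w) := by
    intro n x
    induction n with
    | zero => intro w; simp
    | succ n ih =>
      intro w
      rw [pow_succ, pow_succ, Module.End.mul_apply, Module.End.mul_apply, LieAlgebra.ad_apply,
        LieAlgebra.ad_apply, ← LieHom.map_lie, ih]
  refine ⟨⟨fun y => f.rangeRestrict (φ (sec y)), ?_, ?_, ?_⟩, ?_, ?_⟩
  · intro c y
    obtain ⟨x, rfl⟩ := hsurj y
    show f.rangeRestrict (φ (sec (c • f.rangeRestrict x))) =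
      c ^ p • f.rangeRestrict (φ (sec (f.rangeRestrict x)))
    rw [← map_smul, hψ, hψ, φ.map_smul, map_smul]
  · intro y
    obtain ⟨x, rfl⟩ := hsurj y
    show LieAlgebra.ad R f.range (f.rangeRestrict (φ (sec (f.rangeRestrict x)))) =
      LieAlgebra.ad R f.range (f.rangeRestrict x) ^ p
    ext z
    obtain ⟨w, rfl⟩ := hsurj z
    rw [hψ, hpow, LieAlgebra.ad_apply, ← LieHom.map_lie, ← LieAlgebra.ad_apply (R := R), φ.ad_map]
  · intro y₀ y₁
    obtain ⟨x₀, rfl⟩ := hsurj y₀
    obtain ⟨x₁, rfl⟩ := hsurj y₁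
    show f.rangeRestrict (φ (sec (f.rangeRestrict x₀ + f.rangeRestrict x₁))) =
      f.rangeRestrict (φ (sec (f.rangeRestrict x₀))) +
        f.rangeRestrict (φ (sec (f.rangeRestrict x₁))) -
        jacobson R p (f.rangeRestrict x₀) (f.rangeRestrict x₁)
    rw [← map_add, hψ, hψ, hψ, ← map_jacobson, ← map_add, ← map_sub]
    congr 1
    exact φ.map_add x₀ x₁
  · intro x
    show f.rangeRestrict (φ x) = f.rangeRestrict (φ (sec (f.rangeRestrict x)))
    rw [hψ]
  · intro ψ' hψ'
    apply pmap_ext
    intro y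
    obtain ⟨x, rfl⟩ := hsurj y
    show ψ' (f.rangeRestrict x) = f.rangeRestrict (φ (sec (f.rangeRestrict x)))
    rw [hψ]
    exact (hψ' x).symm

end Groth.Agent.S13771
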