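import Groth.Statements.S13773
import Groth.Agent.S3312
import Groth.Agent.H84.Jacobson
import Mathlib

set_option autoImplicit false
universe u v w
open PLie

namespace Groth.Agent.S13773

open Groth.Agent.H84.Jac

section General

variable {R : Type u} [CommRing R] {p : ℕ} [hp : Fact p.Prime] [CharP R p]
variable {L : Type v} [LieRing L] [LieAlgebra R L] {ι : Type w} (b : Module.Basis ι R L)

/-- two `p`-maps agreeing on a basis are equal -/
theorem pmap_ext (φ ψ : PLie.PMap R p L) (h : ∀ i, φ.toFun (b i) = ψ.toFun (b i)) : φ = ψ := by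
  have hzero : ∀ χ : PLie.PMap R p L, χ.toFun 0 = 0 := by
    intro χ
    have h0 := χ.map_smul 0 0
    rw [zero_smul, zero_pow hp.out.ne_zero, zero_smul] at h0
    exact h0
  have hfun : φ.toFun = ψ.toFun := by
    funext x
    have hx : x ∈ Submodule.span R (Set.range b) := by rw [b.span_eq]; exact Submodule.mem_top
    induction hx using Submodule.span_induction with
    | mem x hx =>
      obtain ⟨i, rfl⟩ := hx
      exact h i
    | zero => rw [hzero, hzero]
    | add x y _ _ ihx ihy => rw [φ.map_add, ψ.map_add, ihx, ihy]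
    | smul c x _ ihx => rw [φ.map_smul, ψ.map_smul, ihx]
  obtain ⟨f1, a1, b1, c1⟩ := φ
  obtain ⟨f2, a2, b2, c2⟩ := ψ
  have : f1 = f2 := hfun
  subst this
  rfl

variable {A : Type*} [Ring A] [Algebra R A] (e : L →ₗ[R] A)

/-- the `p`-semilinear correction `f x = ∑ cᵢ^p zᵢ` -/
noncomputable def corrF (z : ι → A) (x : L) : A :=
  (b.repr x).sum fun i c => c ^ p • z i

theorem corrF_add (z : ι → A) (x y : L) : corrF (p := p) b z (x + y) = corrF (p := p) b z x + corrF (p := p) b z y := by
  unfold corrF
  rw [map_add, Finsupp.sum_add_index']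
  · intro i
    rw [zero_pow hp.out.ne_zero, zero_smul]
  · intro i c d
    rw [add_pow_char, add_smul]

theorem corrF_smul (z : ι → A) (c : R) (x : L) :
    corrF (p := p) b z (c • x) = c ^ p • corrF (p := p) b z x := by
  unfold corrF
  rw [map_smul, Finsupp.sum_smul_index, Finsupp.smul_sum]
  · refine Finsupp.sum_congr fun i _ => ?_
    rw [mul_pow, mul_smul]
  · intro i
    rw [zero_pow hp.out.ne_zero, zero_smul]

theorem corrF_basis (z : ι → A) (i : ι) : corrF (p := p) b z (b i) = z i := by
  unfold corrF
  rw [b.repr_self, Finsupp.sum_single_index]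
  · rw [one_pow, one_smul]
  · rw [zero_pow hp.out.ne_zero, zero_smul]

theorem corrF_zero (z : ι → A) : corrF (p := p) b z 0 = 0 := by
  unfold corrF
  rw [map_zero, Finsupp.sum_zero_index]

theorem corrF_comm (z : ι → A) (c : A) (hz : ∀ i, z i * c = c * z i) (x : L) :
    corrF (p := p) b z x * c = c * corrF (p := p) b z x := by
  unfold corrF Finsupp.sum
  rw [Finset.sum_mul, Finset.mul_sum]
  refine Finset.sum_congr rfl fun i _ => ?_
  rw [smul_mul_assoc, hz, mul_smul_comm]

variable (hinj : Function.Injective e) (he : ∀ x y : L, e ⁅x, y⁆ = e x * e y - e y * e x)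
variable (y : ι → L) (hy : ∀ i : ι, LieAlgebra.ad R L (b i) ^ p = LieAlgebra.ad R L (y i))

include he hy in
theorem z_comm (i : ι) (w : L) :
    (e (b i) ^ p - e (y i)) * e w = e w * (e (b i) ^ p - e (y i)) := by
  have h1 := map_ad_pow p e he (b i) w
  rw [hy i, LieAlgebra.ad_apply, he] at h1
  rw [sub_mul, mul_sub]
  have h2 : e (b i) ^ p * e w - e (y i) * e w - (e w * e (b i) ^ p - e w * e (y i)) =
      (e (b i) ^ p * e w - e w * e (b i) ^ p) - (e (y i) * e w - e w * e (y i)) := by abel
  rw [← sub_eq_zero, h2, h1, sub_self]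

include he hy in
theorem exists_preimage (x : L) :
    ∃ v : L, e v = e x ^ p - corrF (p := p) b (fun i => e (b i) ^ p - e (y i)) x := by
  have hx : x ∈ Submodule.span R (Set.range b) := by rw [b.span_eq]; exact Submodule.mem_top
  induction hx using Submodule.span_induction with
  | mem x hx =>
    obtain ⟨i, rfl⟩ := hx
    exact ⟨y i, by rw [corrF_basis, sub_sub_cancel]⟩
  | zero =>
    exact ⟨0, by rw [corrF_zero, map_zero, zero_pow hp.out.ne_zero, sub_zero]⟩
  | add x x' _ _ ihx ihx' =>
    obtain ⟨v, hv⟩ := ihx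
    obtain ⟨v', hv'⟩ := ihx'
    refine ⟨v + v' - PLie.jacobson R p x x', ?_⟩
    rw [map_sub, map_add, hv, hv', map_add, add_pow_map p e he, corrF_add]
    abel
  | smul c x _ ihx =>
    obtain ⟨v, hv⟩ := ihx
    refine ⟨c ^ p • v, ?_⟩
    rw [map_smul, hv, map_smul, smul_pow, corrF_smul, smul_sub]

include hinj he hy in
theorem exists_pmap_of_embedding : ∃ φ : PLie.PMap R p L, ∀ i : ι, φ.toFun (b i) = y i := by
  classical
  let z : ι → A := fun i => e (b i) ^ p - e (y i)
  choose φ₀ hφ₀ using exists_preimage b e he y hy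
  have hzc : ∀ (w : L) (i : ι), z i * e w = e w * z i := fun w i => z_comm b e he y hy i w
  refine ⟨⟨φ₀, ?_, ?_, ?_⟩, ?_⟩
  · intro c x
    apply hinj
    rw [hφ₀, map_smul, map_smul, hφ₀, smul_pow, corrF_smul, smul_sub]
  · intro x
    ext w
    rw [LieAlgebra.ad_apply]
    apply hinj
    rw [he, hφ₀, map_ad_pow p e he, sub_mul, mul_sub, corrF_comm b z (e w) (hzc w) x]
    abel
  · intro x x'
    apply hinj
    rw [hφ₀, map_sub, map_add, map_add, hφ₀, hφ₀, add_pow_map p e he, corrF_add]
    abel
  · intro i
    apply hinj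
    show e (φ₀ (b i)) = e (y i)
    rw [hφ₀, corrF_basis, sub_sub_cancel]

end General

section PBW

open Groth.Agent.S3312

variable {R : Type u} [CommRing R] {L : Type v} [LieRing L] [LieAlgebra R L]
  {ι : Type w} [LinearOrder ι] (b : Module.Basis ι R L)

theorem rho_mul (x y : L) :
    (rho b ⁅x, y⁆ : Module.End R (V R ι)) =
      (rho b x : Module.End R (V R ι)) * rho b y - (rho b y : Module.End R (V R ι)) * rho b x :=
  (rho_lie b x y).trans rfl

theorem rho_basis_nil (i : ι) :
    rho b (b i) (z R nilSL) = Finsupp.single (⟨[i], (List.pairwise_singleton _ i).sortedLE⟩ : SL ι) 1 := by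
  rw [rho_of_le b i nilSL (by intro a ha; cases ha)]
  rfl

theorem rho_injective : Function.Injective (rho b) := by
  classical
  refine (injective_iff_map_eq_zero (rho b)).2 ?_
  intro x hx
  have key : ∀ j : ι, b.coord j =
      (Finsupp.lapply (⟨[j], (List.pairwise_singleton _ j).sortedLE⟩ : SL ι)) ∘ₗ
        ((rho b).flip (z R nilSL)) := by
    intro j
    apply b.ext
    intro i
    rw [LinearMap.comp_apply, LinearMap.flip_apply, rho_basis_nil, Finsupp.lapply_apply,
      Module.Basis.coord_apply, b.repr_self, Finsupp.single_apply, Finsupp.single_apply]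
    by_cases hij : i = j
    · subst hij; simp
    · rw [if_neg hij, if_neg]
      intro h
      apply hij
      have := congrArg Subtype.val h
      simpa using this
  have h0 : b.repr x = 0 := by
    ext j
    have := congrArg (fun f => f x) (key j)
    simp only [Module.Basis.coord_apply, LinearMap.comp_apply, LinearMap.flip_apply] at this
    rw [this, hx, LinearMap.zero_apply, map_zero, Finsupp.zero_apply]
  exact b.repr.map_eq_zero_iff.1 h0

end PBW

/-- Let R be a commutative ring of prime characteristic p and L a Lie algebra over R, free as an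
R-module with basis b indexed by ι, and let y : ι → L satisfy (ad (b i)) ^ p = ad (y i) in the
R-linear endomorphisms of L for every i. Then L carries exactly one p-mapping φ with φ (b i) = y i
for all i. -/
theorem result (R : Type u) [CommRing R] (p : ℕ) [Fact p.Prime] [CharP R p]
    (L : Type v) [LieRing L] [LieAlgebra R L] {ι : Type w} (b : Module.Basis ι R L) (y : ι → L)
    (hy : ∀ i : ι, LieAlgebra.ad R L (b i) ^ p = LieAlgebra.ad R L (y i)) :
    ∃! φ : PLie.PMap R p L, ∀ i : ι, φ (b i) = y i := by
  classical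
  letI : LinearOrder ι := linearOrderOfSTO WellOrderingRel
  obtain ⟨φ, hφ⟩ := exists_pmap_of_embedding (A := Module.End R (Groth.Agent.S3312.V R ι)) b
    (Groth.Agent.S3312.rho b) (rho_injective b) (rho_mul b) y hy
  refine ⟨φ, hφ, fun ψ hψ => ?_⟩
  exact pmap_ext b ψ φ (fun i => (hψ i).trans (hφ i).symm)

end Groth.Agent.S13773
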