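import Groth.Statements.S13775
import Mathlib.Tactic

set_option autoImplicit false
universe u v
open PLie

namespace Groth.Agent.S13775

/-- Let R be a commutative ring of prime characteristic p and L a Lie algebra over R, free as a module
with basis x = bs 0, y = bs 1, z = bs 2 and brackets [x,y] = y, [x,z] = y + z, [y,z] = 0. Then L
carries no p-mapping. (The published statement is the corresponding entry of the classification
table of three-dimensional Lie algebras over an algebraically closed field of characteristic p; this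
row states it over every commutative ring of characteristic p.) -/
theorem result (R : Type u) [CommRing R] (p : ℕ) [Fact p.Prime] [CharP R p]
    (L : Type v) [LieRing L] [LieAlgebra R L] (bs : Module.Basis (Fin 3) R L)
    (hxy : ⁅bs 0, bs 1⁆ = bs 1) (hxz : ⁅bs 0, bs 2⁆ = bs 1 + bs 2) (hyz : ⁅bs 1, bs 2⁆ = 0) :
    IsEmpty (PLie.PMap R p L) := by
  refine ⟨fun φ => ?_⟩
  have hy : ∀ n : ℕ, (LieAlgebra.ad R L (bs 0) ^ n) (bs 1) = bs 1 := by
    intro n
    induction n with
    | zero => simp
    | succ n ih => rw [pow_succ, Module.End.mul_apply, LieAlgebra.ad_apply, hxy, ih]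
  have hz : ∀ n : ℕ, (LieAlgebra.ad R L (bs 0) ^ n) (bs 2) = (n : R) • bs 1 + bs 2 := by
    intro n
    induction n with
    | zero => simp
    | succ n ih =>
      rw [pow_succ, Module.End.mul_apply, LieAlgebra.ad_apply, hxz, map_add, hy, ih]
      push_cast
      rw [add_smul, one_smul]
      abel
  have h := φ.ad_map (bs 0)
  have h1 := LinearMap.congr_fun h (bs 2)
  rw [hz, CharP.cast_eq_zero R p, zero_smul, zero_add, LieAlgebra.ad_apply] at h1
  have hw : φ.toFun (bs 0) = bs.repr (φ.toFun (bs 0)) 0 • bs 0 + bs.repr (φ.toFun (bs 0)) 1 • bs 1 +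
      bs.repr (φ.toFun (bs 0)) 2 • bs 2 := by
    conv_lhs => rw [← bs.sum_repr (φ.toFun (bs 0)), Fin.sum_univ_three]
  rw [hw] at h1
  simp only [add_lie, smul_lie, hxz, hyz, lie_self, smul_zero, add_zero] at h1
  have h2 := congrArg (fun v => bs.repr v 1) h1
  have h3 := congrArg (fun v => bs.repr v 2) h1
  simp [Module.Basis.repr_self, Finsupp.single_apply] at h2 h3
  have h4 : (1 : R) = 0 := by rw [← h3, h2]
  have h5 := (CharP.cast_eq_zero_iff R p 1).mp (by simpa using h4)
  have h6 := (Fact.out : p.Prime).one_lt
  have h7 := Nat.le_of_dvd one_pos h5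
  omega

end Groth.Agent.S13775
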