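import Groth.Statements.S13776
import Groth.Agent.S13773
import Groth.Agent.H84.PLieAux
import Mathlib

set_option autoImplicit false
universe u v
open PLie

namespace Groth.Agent.S13776

open Groth.Agent.H84.PLieAux

/-- Let R be a commutative ring of prime characteristic p, t ∈ R, and L a Lie algebra over R, free as a
module with basis x = bs 0, y = bs 1, z = bs 2 and brackets [x,y] = y, [x,z] = t • z, [y,z] = 0.
Then L carries a p-mapping if and only if t ^ p = t. (The published statement is the corresponding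
entry of the classification table over an algebraically closed field of characteristic p, where the
condition reads: t lies in the prime field; this row states it over every commutative ring of
characteristic p.) -/
theorem result (R : Type u) [CommRing R] (p : ℕ) [Fact p.Prime] [CharP R p] (t : R)
    (L : Type v) [LieRing L] [LieAlgebra R L] (bs : Module.Basis (Fin 3) R L)
    (hxy : ⁅bs 0, bs 1⁆ = bs 1) (hxz : ⁅bs 0, bs 2⁆ = t • bs 2) (hyz : ⁅bs 1, bs 2⁆ = 0) :
    Nonempty (PLie.PMap R p L) ↔ t ^ p = t := by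
  have hp2 : 2 ≤ p := (Fact.out : p.Prime).two_le
  have h10 : ⁅bs 1, bs 0⁆ = -bs 1 := by rw [← lie_skew, hxy]
  have h20 : ⁅bs 2, bs 0⁆ = -(t • bs 2) := by rw [← lie_skew, hxz]
  have h21 : ⁅bs 2, bs 1⁆ = 0 := by rw [← lie_skew, hyz, neg_zero]
  have e0 : ∀ w : L, (LieAlgebra.ad R L (bs 0) ^ p) w = (fun u => ⁅bs 0, u⁆)^[p] w :=
    fun w => ad_pow_apply (bs 0) w p
  constructor
  · rintro ⟨φ⟩
    obtain ⟨α, β, γ, hw⟩ : ∃ α β γ : R, φ.toFun (bs 0) = α • bs 0 + β • bs 1 + γ • bs 2 := by
      refine ⟨bs.repr (φ.toFun (bs 0)) 0, bs.repr (φ.toFun (bs 0)) 1, bs.repr (φ.toFun (bs 0)) 2, ?_⟩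
      conv_lhs => rw [← bs.sum_repr (φ.toFun (bs 0)), Fin.sum_univ_three]
    have had := φ.ad_map (bs 0)
    rw [hw] at had
    have h1 := LinearMap.congr_fun had (bs 1)
    have h2 := LinearMap.congr_fun had (bs 2)
    rw [LieAlgebra.ad_apply, e0, iter_eigen (bs 0) (bs 1) (1 : R) (by rw [hxy, one_smul]), one_pow,
      one_smul] at h1
    rw [LieAlgebra.ad_apply, e0, iter_eigen (bs 0) (bs 2) t hxz] at h2
    simp only [add_lie, smul_lie, hxy, lie_self, h21, smul_zero, add_zero] at h1
    simp only [add_lie, smul_lie, hxz, hyz, lie_self, smul_zero, add_zero, smul_smul] at h2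
    have hα : α = 1 := eq_of_smul_basis_eq bs α 1 1 (by rw [h1, one_smul])
    have h3 := eq_of_smul_basis_eq bs _ _ 2 h2
    rw [hα, one_mul] at h3
    exact h3.symm
  · intro ht
    have hy : ∀ i : Fin 3, LieAlgebra.ad R L (bs i) ^ p =
        LieAlgebra.ad R L ((![bs 0, 0, 0] : Fin 3 → L) i) := by
      intro i
      match i with
      | 0 =>
        show LieAlgebra.ad R L (bs 0) ^ p = LieAlgebra.ad R L (bs 0)
        refine bs.ext fun j => ?_
        rw [ad_pow_apply, LieAlgebra.ad_apply]
        match j with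
        | 0 =>
          rw [iter_eigen (bs 0) (bs 0) (0 : R) (by rw [lie_self, zero_smul]), zero_pow (by omega),
            zero_smul, lie_self]
        | 1 => rw [iter_eigen (bs 0) (bs 1) (1 : R) (by rw [hxy, one_smul]), one_pow, one_smul, hxy]
        | 2 => rw [iter_eigen (bs 0) (bs 2) t hxz, ht, hxz]
      | 1 =>
        show LieAlgebra.ad R L (bs 1) ^ p = LieAlgebra.ad R L 0
        rw [map_zero]
        refine bs.ext fun j => ?_
        rw [ad_pow_apply, LinearMap.zero_apply]
        refine iter_nil2 _ _ ?_ p hp2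
        match j with
        | 0 => rw [h10, lie_neg, lie_self, neg_zero]
        | 1 => rw [lie_self, lie_zero]
        | 2 => rw [hyz, lie_zero]
      | 2 =>
        show LieAlgebra.ad R L (bs 2) ^ p = LieAlgebra.ad R L 0
        rw [map_zero]
        refine bs.ext fun j => ?_
        rw [ad_pow_apply, LinearMap.zero_apply]
        refine iter_nil2 _ _ ?_ p hp2
        match j with
        | 0 => rw [h20, lie_neg, lie_smul, lie_self, smul_zero, neg_zero]
        | 1 => rw [h21, lie_zero]
        | 2 => rw [lie_self, lie_zero]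
    obtain ⟨φ, _, _⟩ := Groth.Agent.S13773.result R p L bs _ hy
    exact ⟨φ⟩

end Groth.Agent.S13776
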