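import Groth.Statements.S19868
import Groth.Agent.S13773
import Groth.Agent.H84.PLieAux
import Mathlib

set_option autoImplicit false
universe u v
open PLie

namespace Groth.Agent.S19868

open Groth.Agent.H84.PLieAux
open DualNumber

local macro "dn" : tactic => `(tactic| (apply TrivSqZeroExt.ext <;> simp <;> ring_nf))
local macro "lc" : tactic => `(tactic| (match_scalars <;> dn))

theorem iter_nil_of {L : Type*} [LieRing L]
    (x w : L) (k : ℕ) (h : (fun u : L => ⁅x, u⁆)^[k] w = 0) (n : ℕ) (hn : k ≤ n) :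
    (fun u : L => ⁅x, u⁆)^[n] w = 0 := by
  obtain ⟨m, rfl⟩ := Nat.exists_eq_add_of_le hn
  rw [add_comm, Function.iterate_add_apply, h, iter_zero]

theorem repr3 {R : Type*} [CommRing R] {L : Type*} [AddCommGroup L] [Module R L]
    (bs : Module.Basis (Fin 3) R L) (w : L) :
    w = bs.repr w 0 • bs 0 + bs.repr w 1 • bs 1 + bs.repr w 2 • bs 2 := by
  conv_lhs => rw [← bs.sum_repr w, Fin.sum_univ_three]

theorem coeff_eq {R : Type*} [CommRing R] {L : Type*} [AddCommGroup L] [Module R L]
    (bs : Module.Basis (Fin 3) R L) {α β γ α' β' γ' : R}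
    (h : α • bs 0 + β • bs 1 + γ • bs 2 = α' • bs 0 + β' • bs 1 + γ' • bs 2) :
    α = α' ∧ β = β' ∧ γ = γ' := by
  refine ⟨?_, ?_, ?_⟩
  · have := congrArg (fun u => bs.repr u 0) h
    simpa [Finsupp.single_apply] using this
  · have := congrArg (fun u => bs.repr u 1) h
    simpa [Finsupp.single_apply] using this
  · have := congrArg (fun u => bs.repr u 2) h
    simpa [Finsupp.single_apply] using this

theorem coeff_eq_zero {R : Type*} [CommRing R] {L : Type*} [AddCommGroup L] [Module R L]
    (bs : Module.Basis (Fin 3) R L) {α β γ : R}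
    (h : α • bs 0 + β • bs 1 + γ • bs 2 = 0) :
    α = 0 ∧ β = 0 ∧ γ = 0 := by
  refine ⟨?_, ?_, ?_⟩
  · have := congrArg (fun u => bs.repr u 0) h
    simpa [Finsupp.single_apply] using this
  · have := congrArg (fun u => bs.repr u 1) h
    simpa [Finsupp.single_apply] using this
  · have := congrArg (fun u => bs.repr u 2) h
    simpa [Finsupp.single_apply] using this

theorem coeff_eq_x {R : Type*} [CommRing R] {L : Type*} [AddCommGroup L] [Module R L]
    (bs : Module.Basis (Fin 3) R L) {α β γ δ : R}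
    (h : α • bs 0 + β • bs 1 + γ • bs 2 = δ • bs 0) :
    α = δ ∧ β = 0 ∧ γ = 0 := by
  refine ⟨?_, ?_, ?_⟩
  · have := congrArg (fun u => bs.repr u 0) h
    simpa [Finsupp.single_apply] using this
  · have := congrArg (fun u => bs.repr u 1) h
    simpa [Finsupp.single_apply] using this
  · have := congrArg (fun u => bs.repr u 2) h
    simpa [Finsupp.single_apply] using this

section Scalars
variable {K : Type u} [Field K]

theorem fst_seps (s : K) : (s • ε : DualNumber K).fst = 0 := by simp
theorem snd_seps (s : K) : (s • ε : DualNumber K).snd = s := by simp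
theorem fst_mul_seps (α : DualNumber K) (s : K) : (α * (s • ε)).fst = 0 := by simp
theorem snd_mul_seps (α : DualNumber K) (s : K) : (α * (s • ε)).snd = α.fst * s := by simp [mul_comm]
theorem fst_mul_one_add (α : DualNumber K) (s : K) : (α * (1 + s • ε)).fst = α.fst := by simp

end Scalars

open DualNumber in
/-- Let K be a field of prime characteristic p, K[ε] the ring of dual numbers (taken with its
characteristic-p structure) and a, …, i ∈ K. Let L be a Lie algebra over K[ε], free as a module with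
basis x = bs 0, y = bs 1, z = bs 2 and brackets [x,y] = aε x + bε y + cε z, [x,z] = dε x + eε y + fε
z, [y,z] = (1 + gε) x + hε y + iε z, a first-order deformation of the Heisenberg algebra (the Jacobi
identity forces b + f = 0). Then L carries a p-mapping over K[ε] if and only if b = c = e = 0 when p
= 2; for odd p there is no condition. (The published statement is about the singularity of the point
h_3 in the restrictable locus of the rank-one-centre stratum of the moduli scheme of based
three-dimensional Lie algebras over the prime field; this row states the restrictability criterion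
for the first-order deformations of h_3 asserted in its proof, over any field of characteristic p in
place of the prime field.) -/
theorem result (K : Type u) [Field K] (p : ℕ) [Fact p.Prime] [CharP K p]
    [CharP (DualNumber K) p] (a b c d e f g h i : K)
    (L : Type v) [LieRing L] [LieAlgebra (DualNumber K) L] (bs : Module.Basis (Fin 3) (DualNumber K) L)
    (hxy : ⁅bs 0, bs 1⁆ = (a • ε : DualNumber K) • bs 0 + (b • ε : DualNumber K) • bs 1 + (c • ε : DualNumber K) • bs 2)
    (hxz : ⁅bs 0, bs 2⁆ = (d • ε : DualNumber K) • bs 0 + (e • ε : DualNumber K) • bs 1 + (f • ε : DualNumber K) • bs 2)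
    (hyz : ⁅bs 1, bs 2⁆ = (1 + g • ε : DualNumber K) • bs 0 + (h • ε : DualNumber K) • bs 1 + (i • ε : DualNumber K) • bs 2) :
    Nonempty (PLie.PMap (DualNumber K) p L) ↔ (p = 2 → b = 0 ∧ c = 0 ∧ e = 0) := by
  have hp2 : 2 ≤ p := (Fact.out : p.Prime).two_le
  have hyx : ⁅bs 1, bs 0⁆ = -((a • ε : DualNumber K) • bs 0 + (b • ε : DualNumber K) • bs 1 + (c • ε : DualNumber K) • bs 2) := by
    rw [← lie_skew, hxy]
  have hzx : ⁅bs 2, bs 0⁆ = -((d • ε : DualNumber K) • bs 0 + (e • ε : DualNumber K) • bs 1 + (f • ε : DualNumber K) • bs 2) := by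
    rw [← lie_skew, hxz]
  have hzy : ⁅bs 2, bs 1⁆ = -((1 + g • ε : DualNumber K) • bs 0 + (h • ε : DualNumber K) • bs 1 + (i • ε : DualNumber K) • bs 2) := by
    rw [← lie_skew, hyz]
  have X2x : ⁅bs 0, ⁅bs 0, bs 0⁆⁆ = 0 := by rw [lie_self, lie_zero]
  have X2y : ⁅bs 0, ⁅bs 0, bs 1⁆⁆ = 0 := by
    rw [hxy]; simp only [lie_add, lie_smul, lie_self, hxy, hxz]; lc
  have X2z : ⁅bs 0, ⁅bs 0, bs 2⁆⁆ = 0 := by
    rw [hxz]; simp only [lie_add, lie_smul, lie_self, hxy, hxz]; lc
  have Y2x : ⁅bs 1, ⁅bs 1, bs 0⁆⁆ = (-(c • ε) : DualNumber K) • bs 0 := by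
    rw [hyx]; simp only [lie_neg, lie_add, lie_smul, hyx, lie_self, hyz]; lc
  have Y2y : ⁅bs 1, ⁅bs 1, bs 1⁆⁆ = 0 := by rw [lie_self, lie_zero]
  have Y2z : ⁅bs 1, ⁅bs 1, bs 2⁆⁆ = ((i • ε - a • ε : DualNumber K)) • bs 0 -
      (b • ε : DualNumber K) • bs 1 - (c • ε : DualNumber K) • bs 2 := by
    rw [hyz]; simp only [lie_neg, lie_add, lie_smul, hyx, lie_self, hyz]; lc
  have Y3x : ⁅bs 1, ⁅bs 1, ⁅bs 1, bs 0⁆⁆⁆ = 0 := by
    rw [Y2x]; simp only [lie_smul, hyx]; lc
  have Y3z : ⁅bs 1, ⁅bs 1, ⁅bs 1, bs 2⁆⁆⁆ = (-(c • ε) : DualNumber K) • bs 0 := by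
    rw [Y2z]; simp only [lie_sub, lie_smul, lie_self, hyx, hyz]; lc
  have Y4z : ⁅bs 1, ⁅bs 1, ⁅bs 1, ⁅bs 1, bs 2⁆⁆⁆⁆ = 0 := by
    rw [Y3z]; simp only [lie_smul, hyx]; lc
  have Z2x : ⁅bs 2, ⁅bs 2, bs 0⁆⁆ = (e • ε : DualNumber K) • bs 0 := by
    rw [hzx]; simp only [lie_neg, lie_add, lie_smul, lie_self, hzx, hzy]; lc
  have Z2y : ⁅bs 2, ⁅bs 2, bs 1⁆⁆ = (d • ε + h • ε : DualNumber K) • bs 0 +
      (e • ε : DualNumber K) • bs 1 + (f • ε : DualNumber K) • bs 2 := by
    rw [hzy]; simp only [lie_neg, lie_add, lie_smul, lie_self, hzx, hzy]; lc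
  have Z2z : ⁅bs 2, ⁅bs 2, bs 2⁆⁆ = 0 := by rw [lie_self, lie_zero]
  have Z3x : ⁅bs 2, ⁅bs 2, ⁅bs 2, bs 0⁆⁆⁆ = 0 := by
    rw [Z2x]; simp only [lie_smul, hzx]; lc
  have Z3y : ⁅bs 2, ⁅bs 2, ⁅bs 2, bs 1⁆⁆⁆ = (-(e • ε) : DualNumber K) • bs 0 := by
    rw [Z2y]; simp only [lie_add, lie_smul, lie_self, hzx, hzy]; lc
  have Z4y : ⁅bs 2, ⁅bs 2, ⁅bs 2, ⁅bs 2, bs 1⁆⁆⁆⁆ = 0 := by
    rw [Z3y]; simp only [lie_smul, hzx]; lc
  by_cases h2 : p = 2
  · subst h2
    constructor
    · rintro ⟨φ⟩ -
      -- general bracket normal forms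
      have e1 : ∀ α β γ : DualNumber K, ⁅α • bs 0 + β • bs 1 + γ • bs 2, bs 0⁆ =
          (-(β * (a • ε)) - γ * (d • ε)) • bs 0 + (-(β * (b • ε)) - γ * (e • ε)) • bs 1 +
            (-(β * (c • ε)) - γ * (f • ε)) • bs 2 := by
        intro α β γ
        simp only [add_lie, smul_lie, lie_self, hyx, hzx]
        match_scalars <;> ring
      have e2 : ∀ α β γ : DualNumber K, ⁅α • bs 0 + β • bs 1 + γ • bs 2, bs 1⁆ =
          (α * (a • ε) - γ * (1 + g • ε)) • bs 0 + (α * (b • ε) - γ * (h • ε)) • bs 1 +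
            (α * (c • ε) - γ * (i • ε)) • bs 2 := by
        intro α β γ
        simp only [add_lie, smul_lie, lie_self, hxy, hzy]
        match_scalars <;> ring
      have e3 : ∀ α β γ : DualNumber K, ⁅α • bs 0 + β • bs 1 + γ • bs 2, bs 2⁆ =
          (α * (d • ε) + β * (1 + g • ε)) • bs 0 + (α * (e • ε) + β * (h • ε)) • bs 1 +
            (α * (f • ε) + β * (i • ε)) • bs 2 := by
        intro α β γ
        simp only [add_lie, smul_lie, lie_self, hxz, hyz]
        match_scalars <;> ring
      -- φ (bs 1)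
      obtain ⟨α, β, γ, hw⟩ : ∃ α β γ : DualNumber K,
          φ.toFun (bs 1) = α • bs 0 + β • bs 1 + γ • bs 2 := ⟨_, _, _, repr3 bs _⟩
      have had := φ.ad_map (bs 1)
      rw [hw] at had
      have hX := LinearMap.congr_fun had (bs 0)
      have hY := LinearMap.congr_fun had (bs 1)
      have hZ := LinearMap.congr_fun had (bs 2)
      rw [LieAlgebra.ad_apply, ad_pow_apply] at hX hY hZ
      change _ = ⁅bs 1, ⁅bs 1, bs 0⁆⁆ at hX
      change _ = ⁅bs 1, ⁅bs 1, bs 1⁆⁆ at hY
      change _ = ⁅bs 1, ⁅bs 1, bs 2⁆⁆ at hZ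
      rw [e1, Y2x] at hX
      rw [e2, Y2y] at hY
      rw [e3, Y2z] at hZ
      have hZ' : (α * (d • ε) + β * (1 + g • ε)) • bs 0 + (α * (e • ε) + β * (h • ε)) • bs 1 +
            (α * (f • ε) + β * (i • ε)) • bs 2 =
          (i • ε - a • ε : DualNumber K) • bs 0 + (-(b • ε) : DualNumber K) • bs 1 +
            (-(c • ε) : DualNumber K) • bs 2 := by
        rw [hZ]; simp only [neg_smul]; abel
      obtain ⟨q6, -, -⟩ := coeff_eq_x bs hX
      obtain ⟨q1, q2, -⟩ := coeff_eq_zero bs hY
      obtain ⟨q3, q4, -⟩ := coeff_eq bs hZ'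
      have hγ : γ.fst = 0 := by
        have this : (α * (a • ε) - γ * (1 + g • ε)).fst = (0 : K) := congrArg TrivSqZeroExt.fst q1
        rw [TrivSqZeroExt.fst_sub, fst_mul_seps, fst_mul_one_add, zero_sub, neg_eq_zero] at this
        exact this
      have hβ : β.fst = 0 := by
        have := congrArg TrivSqZeroExt.fst q3
        rw [TrivSqZeroExt.fst_add, fst_mul_seps, fst_mul_one_add, TrivSqZeroExt.fst_sub,
          fst_seps, fst_seps, zero_add, sub_zero] at this
        exact this
      have k2 : α.fst * b = 0 := by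
        have this : (α * (b • ε) - γ * (h • ε)).snd = (0 : K) := congrArg TrivSqZeroExt.snd q2
        rw [TrivSqZeroExt.snd_sub, snd_mul_seps, snd_mul_seps, hγ, zero_mul, sub_zero] at this
        exact this
      have k4 : α.fst * e = -b := by
        have := congrArg TrivSqZeroExt.snd q4
        rw [TrivSqZeroExt.snd_add, snd_mul_seps, snd_mul_seps, TrivSqZeroExt.snd_neg, snd_seps,
          hβ, zero_mul, add_zero] at this
        exact this
      have k6 : c = 0 := by
        have := congrArg TrivSqZeroExt.snd q6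
        rw [TrivSqZeroExt.snd_sub, TrivSqZeroExt.snd_neg, snd_mul_seps, snd_mul_seps,
          TrivSqZeroExt.snd_neg, snd_seps, hβ, hγ, zero_mul, zero_mul, neg_zero, sub_zero] at this
        exact (neg_eq_zero.1 this.symm)
      have hb : b = 0 := by
        have : b * b = 0 := by linear_combination b * k4 - e * k2
        exact mul_self_eq_zero.1 this
      -- φ (bs 2)
      obtain ⟨α', β', γ', hw'⟩ : ∃ α β γ : DualNumber K,
          φ.toFun (bs 2) = α • bs 0 + β • bs 1 + γ • bs 2 := ⟨_, _, _, repr3 bs _⟩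
      have had' := φ.ad_map (bs 2)
      rw [hw'] at had'
      have hY2 := LinearMap.congr_fun had' (bs 1)
      rw [LieAlgebra.ad_apply, ad_pow_apply] at hY2
      change _ = ⁅bs 2, ⁅bs 2, bs 1⁆⁆ at hY2
      rw [e2, Z2y] at hY2
      obtain ⟨q7, q8, -⟩ := coeff_eq bs hY2
      have hγ' : γ'.fst = 0 := by
        have := congrArg TrivSqZeroExt.fst q7
        rw [TrivSqZeroExt.fst_sub, fst_mul_seps, fst_mul_one_add, TrivSqZeroExt.fst_add,
          fst_seps, fst_seps, zero_sub, add_zero, neg_eq_zero] at this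
        exact this
      have k8 : e = 0 := by
        have := congrArg TrivSqZeroExt.snd q8
        rw [TrivSqZeroExt.snd_sub, snd_mul_seps, snd_mul_seps, snd_seps, hγ', hb, mul_zero,
          zero_mul, sub_zero] at this
        exact this.symm
      exact ⟨hb, k6, k8⟩
    · intro hbce
      obtain ⟨hb, hc, he⟩ := hbce rfl
      subst hb hc he
      -- Jacobi identity forces f = 0
      have hf : f = 0 := by
        have hJ := lie_jacobi (bs 0) (bs 1) (bs 2)
        rw [hyz, hzx, hxy] at hJ
        simp only [lie_neg, lie_add, lie_smul, lie_self, hxy, hxz, hyz, hyx, hzx, hzy] at hJ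
        have := congrArg (fun u => (bs.repr u 0).snd) hJ
        simp [Finsupp.single_apply] at this
        exact this
      subst hf
      have hy : ∀ j : Fin 3, LieAlgebra.ad (DualNumber K) L (bs j) ^ 2 =
          LieAlgebra.ad (DualNumber K) L
            ((![0, (i • ε - a • ε : DualNumber K) • bs 1,
              (-(d • ε + h • ε) : DualNumber K) • bs 2] : Fin 3 → L) j) := by
        intro j
        match j with
        | 0 =>
          show LieAlgebra.ad (DualNumber K) L (bs 0) ^ 2 = LieAlgebra.ad (DualNumber K) L 0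
          rw [map_zero (LieAlgebra.ad (DualNumber K) L)]
          refine bs.ext fun k => ?_
          rw [ad_pow_apply, LinearMap.zero_apply]
          show ⁅bs 0, ⁅bs 0, bs k⁆⁆ = 0
          match k with
          | 0 => exact X2x
          | 1 => exact X2y
          | 2 => exact X2z
        | 1 =>
          show LieAlgebra.ad (DualNumber K) L (bs 1) ^ 2 =
            LieAlgebra.ad (DualNumber K) L ((i • ε - a • ε : DualNumber K) • bs 1)
          refine bs.ext fun k => ?_
          rw [ad_pow_apply, LieAlgebra.ad_apply, smul_lie]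
          show ⁅bs 1, ⁅bs 1, bs k⁆⁆ = _
          match k with
          | 0 => rw [Y2x, hyx]; lc
          | 1 => rw [Y2y, lie_self, smul_zero]
          | 2 => rw [Y2z, hyz]; lc
        | 2 =>
          show LieAlgebra.ad (DualNumber K) L (bs 2) ^ 2 =
            LieAlgebra.ad (DualNumber K) L ((-(d • ε + h • ε) : DualNumber K) • bs 2)
          refine bs.ext fun k => ?_
          rw [ad_pow_apply, LieAlgebra.ad_apply, smul_lie]
          show ⁅bs 2, ⁅bs 2, bs k⁆⁆ = _
          match k with
          | 0 => rw [Z2x, hzx]; lc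
          | 1 => rw [Z2y, hzy]; lc
          | 2 => rw [Z2z, lie_self, smul_zero]
      obtain ⟨φ, _, _⟩ := Groth.Agent.S13773.result (DualNumber K) 2 L bs _ hy
      exact ⟨φ⟩
  · refine ⟨fun _ hp => absurd hp h2, fun _ => ?_⟩
    by_cases h3 : p = 3
    · subst h3
      have hy : ∀ j : Fin 3, LieAlgebra.ad (DualNumber K) L (bs j) ^ 3 =
          LieAlgebra.ad (DualNumber K) L
            ((![0, (-(c • ε) : DualNumber K) • bs 1, (e • ε : DualNumber K) • bs 2] : Fin 3 → L) j) := by
        intro j
        match j with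
        | 0 =>
          show LieAlgebra.ad (DualNumber K) L (bs 0) ^ 3 = LieAlgebra.ad (DualNumber K) L 0
          rw [map_zero (LieAlgebra.ad (DualNumber K) L)]
          refine bs.ext fun k => ?_
          rw [ad_pow_apply, LinearMap.zero_apply]
          refine iter_nil2 _ _ ?_ 3 (by norm_num)
          match k with
          | 0 => exact X2x
          | 1 => exact X2y
          | 2 => exact X2z
        | 1 =>
          show LieAlgebra.ad (DualNumber K) L (bs 1) ^ 3 =
            LieAlgebra.ad (DualNumber K) L ((-(c • ε) : DualNumber K) • bs 1)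
          refine bs.ext fun k => ?_
          rw [ad_pow_apply, LieAlgebra.ad_apply, smul_lie]
          show ⁅bs 1, ⁅bs 1, ⁅bs 1, bs k⁆⁆⁆ = _
          match k with
          | 0 => rw [Y3x, hyx]; lc
          | 1 => rw [lie_self, lie_zero, lie_zero, smul_zero]
          | 2 => rw [Y3z, hyz]; lc
        | 2 =>
          show LieAlgebra.ad (DualNumber K) L (bs 2) ^ 3 =
            LieAlgebra.ad (DualNumber K) L ((e • ε : DualNumber K) • bs 2)
          refine bs.ext fun k => ?_
          rw [ad_pow_apply, LieAlgebra.ad_apply, smul_lie]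
          show ⁅bs 2, ⁅bs 2, ⁅bs 2, bs k⁆⁆⁆ = _
          match k with
          | 0 => rw [Z3x, hzx]; lc
          | 1 => rw [Z3y, hzy]; lc
          | 2 => rw [lie_self, lie_zero, lie_zero, smul_zero]
      obtain ⟨φ, _, _⟩ := Groth.Agent.S13773.result (DualNumber K) 3 L bs _ hy
      exact ⟨φ⟩
    · have hp4 : 4 ≤ p := by omega
      have hy : ∀ j : Fin 3, LieAlgebra.ad (DualNumber K) L (bs j) ^ p =
          LieAlgebra.ad (DualNumber K) L ((fun _ => 0 : Fin 3 → L) j) := by
        intro j
        show LieAlgebra.ad (DualNumber K) L (bs j) ^ p = LieAlgebra.ad (DualNumber K) L 0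
        rw [map_zero (LieAlgebra.ad (DualNumber K) L)]
        refine bs.ext fun k => ?_
        rw [ad_pow_apply, LinearMap.zero_apply]
        match j with
        | 0 =>
          refine iter_nil2 _ _ ?_ p hp2
          match k with
          | 0 => exact X2x
          | 1 => exact X2y
          | 2 => exact X2z
        | 1 =>
          refine iter_nil_of _ _ 4 ?_ p hp4
          show ⁅bs 1, ⁅bs 1, ⁅bs 1, ⁅bs 1, bs k⁆⁆⁆⁆ = 0
          match k with
          | 0 => rw [Y3x, lie_zero]
          | 1 => rw [lie_self, lie_zero, lie_zero, lie_zero]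
          | 2 => exact Y4z
        | 2 =>
          refine iter_nil_of _ _ 4 ?_ p hp4
          show ⁅bs 2, ⁅bs 2, ⁅bs 2, ⁅bs 2, bs k⁆⁆⁆⁆ = 0
          match k with
          | 0 => rw [Z3x, lie_zero]
          | 1 => exact Z4y
          | 2 => rw [lie_self, lie_zero, lie_zero, lie_zero]
      obtain ⟨φ, _, _⟩ := Groth.Agent.S13773.result (DualNumber K) p L bs _ hy
      exact ⟨φ⟩

end Groth.Agent.S19868
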