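import Groth.Statements.S13778
import Groth.Agent.S13773
import Groth.Agent.S19868
import Groth.Agent.H84.PLieAux
import Mathlib

set_option autoImplicit false
universe u v
open PLie

namespace Groth.Agent.S13778

open Groth.Agent.H84.PLieAux
open Groth.Agent.S19868 (repr3 coeff_eq coeff_eq_zero coeff_eq_x iter_nil_of fst_seps snd_seps
  fst_mul_seps snd_mul_seps fst_mul_one_add)
open DualNumber

local macro "dn" : tactic => `(tactic| (apply TrivSqZeroExt.ext <;> simp <;> ring_nf))
local macro "lc" : tactic => `(tactic| (match_scalars <;> dn))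

section Sig
variable {K : Type u} [Field K]

/-- geometric sum `1 + t + ... + t^(n-1)` -/
def sig (t : K) (n : ℕ) : K := ∑ m ∈ Finset.range n, t ^ m

theorem sig_zero (t : K) : sig t 0 = 0 := by simp [sig]

theorem sig_succ (t : K) (n : ℕ) : sig t (n + 1) = sig t n + t ^ n :=
  Finset.sum_range_succ _ _

theorem sig_succ' (t : K) (n : ℕ) : sig t (n + 1) = 1 + sig t n * t := by
  induction n with
  | zero => simp [sig]
  | succ n ih =>
    calc sig t (n + 1 + 1) = sig t (n + 1) + t ^ (n + 1) := sig_succ _ _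
      _ = (1 + sig t n * t) + t ^ (n + 1) := by rw [ih]
      _ = 1 + (sig t n + t ^ n) * t := by ring
      _ = 1 + sig t (n + 1) * t := by rw [sig_succ]

theorem sig_mul (t : K) (n : ℕ) : (t - 1) * sig t n = t ^ n - 1 := by
  induction n with
  | zero => simp [sig]
  | succ n ih => rw [sig_succ, mul_add, ih]; ring

theorem sig_one (n : ℕ) : sig (1 : K) n = n := by simp [sig]

theorem sig_p_of_ne (t : K) (p : ℕ) (ht : t ^ p = t) (h1 : t ≠ 1) : sig t p = 1 := by
  have h := sig_mul t p
  rw [ht] at h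
  have h' : t - 1 ≠ 0 := sub_ne_zero.2 h1
  exact mul_left_cancel₀ h' (by rw [h, mul_one])

theorem sig_p_one (p : ℕ) [CharP K p] : sig (1 : K) p = 0 := by
  rw [sig_one]; exact CharP.cast_eq_zero K p

end Sig

section Scalars
variable {K : Type u} [Field K]

@[simp] theorem fst_alg (t : K) : (algebraMap K (DualNumber K) t).fst = t := by
  rw [TrivSqZeroExt.algebraMap_eq_inl]; rfl

@[simp] theorem snd_alg (t : K) : (algebraMap K (DualNumber K) t).snd = 0 := by
  rw [TrivSqZeroExt.algebraMap_eq_inl]; rfl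

theorem fst_mul_T (α : DualNumber K) (t f : K) :
    (α * (algebraMap K (DualNumber K) t + f • ε)).fst = α.fst * t := by simp

theorem snd_mul_T (α : DualNumber K) (t f : K) :
    (α * (algebraMap K (DualNumber K) t + f • ε)).snd = α.fst * f + α.snd * t := by
  simp

theorem snd_mul_one_add (α : DualNumber K) (s : K) :
    (α * (1 + s • ε)).snd = α.snd + α.fst * s := by
  simp [add_comm]

theorem fst_B_pow (b : K) (n : ℕ) : ((1 + b • ε : DualNumber K) ^ n).fst = 1 := by
  rw [TrivSqZeroExt.fst_pow]; simp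

theorem fst_T_pow (t f : K) (n : ℕ) :
    ((algebraMap K (DualNumber K) t + f • ε) ^ n).fst = t ^ n := by
  rw [TrivSqZeroExt.fst_pow]; simp

theorem seps_pow (s : K) (n : ℕ) (hn : 2 ≤ n) : (s • ε : DualNumber K) ^ n = 0 := by
  apply pow_eq_zero_of_le hn
  rw [pow_two]
  apply TrivSqZeroExt.ext <;> simp

theorem B_pow_p (p : ℕ) [Fact p.Prime] [CharP (DualNumber K) p] (b : K) :
    (1 + b • ε : DualNumber K) ^ p = 1 := by
  rw [add_pow_char, one_pow, seps_pow b p (Fact.out : p.Prime).two_le, add_zero]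

theorem T_pow_p (p : ℕ) [Fact p.Prime] [CharP (DualNumber K) p] (t f : K) (ht : t ^ p = t) :
    (algebraMap K (DualNumber K) t + f • ε) ^ p = algebraMap K (DualNumber K) t := by
  rw [add_pow_char, seps_pow f p (Fact.out : p.Prime).two_le, add_zero, ← map_pow, ht]

end Scalars

theorem coeff1 {R : Type*} [CommRing R] {L : Type*} [AddCommGroup L] [Module R L]
    (bs : Module.Basis (Fin 3) R L) {α β γ : R} {w : L}
    (h : α • bs 0 + β • bs 1 + γ • bs 2 = w) : β = bs.repr w 1 := by
  have := congrArg (fun u => bs.repr u 1) h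
  simpa [Finsupp.single_apply] using this

open DualNumber in

open DualNumber in
/-- Let K be a field of prime characteristic p, K[ε] the ring of dual numbers (taken with its
characteristic-p structure), t ∈ K with t ^ p = t (an element of the prime field), and a, …, i ∈ K.
Let L be a Lie algebra over K[ε], free as a module with basis x = bs 0, y = bs 1, z = bs 2 and
brackets [x,y] = aε x + (1 + bε) y + cε z, [x,z] = dε x + eε y + (t + fε) z, [y,z] = gε x + hε y +
iε z. Then L carries a p-mapping over K[ε] if and only if b t = f, c = e = 0 when t = 1, and g = 0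
when p = 2. (The published statement determines the singular locus of the restrictable locus in the
centreless stratum of the moduli scheme of based three-dimensional Lie algebras, for t non-zero, and
the rank-one-centre stratum treats t = 0; this row states the restrictability criterion for the
first-order deformations of l_t that the proofs compute, over any field of characteristic p in place
of the prime field and for every t in the prime field.) -/
theorem result (K : Type u) [Field K] (p : ℕ) [Fact p.Prime] [CharP K p]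
    [CharP (DualNumber K) p] (t a b c d e f g h i : K) (ht : t ^ p = t)
    (L : Type v) [LieRing L] [LieAlgebra (DualNumber K) L] (bs : Module.Basis (Fin 3) (DualNumber K) L)
    (hxy : ⁅bs 0, bs 1⁆ = (a • ε : DualNumber K) • bs 0 + (1 + b • ε : DualNumber K) • bs 1 + (c • ε : DualNumber K) • bs 2)
    (hxz : ⁅bs 0, bs 2⁆ = (d • ε : DualNumber K) • bs 0 + (e • ε : DualNumber K) • bs 1 +
      (algebraMap K (DualNumber K) t + f • ε) • bs 2)
    (hyz : ⁅bs 1, bs 2⁆ = (g • ε : DualNumber K) • bs 0 + (h • ε : DualNumber K) • bs 1 + (i • ε : DualNumber K) • bs 2) :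
    Nonempty (PLie.PMap (DualNumber K) p L) ↔ (b * t = f ∧ (t = 1 → c = 0 ∧ e = 0) ∧ (p = 2 → g = 0)) := by
  have hp2 : 2 ≤ p := (Fact.out : p.Prime).two_le
  have hp1 : p = (p - 1) + 1 := by omega
  have hyx : ⁅bs 1, bs 0⁆ = -((a • ε : DualNumber K) • bs 0 + (1 + b • ε : DualNumber K) • bs 1 + (c • ε : DualNumber K) • bs 2) := by
    rw [← lie_skew, hxy]
  have hzx : ⁅bs 2, bs 0⁆ = -((d • ε : DualNumber K) • bs 0 + (e • ε : DualNumber K) • bs 1 +
      (algebraMap K (DualNumber K) t + f • ε) • bs 2) := by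
    rw [← lie_skew, hxz]
  have hzy : ⁅bs 2, bs 1⁆ = -((g • ε : DualNumber K) • bs 0 + (h • ε : DualNumber K) • bs 1 + (i • ε : DualNumber K) • bs 2) := by
    rw [← lie_skew, hyz]
  -- Jacobi identity in coordinates
  have hJ : ((-(t + 1) * g) • ε : DualNumber K) • bs 0 + ((d - t * h) • ε : DualNumber K) • bs 1 +
      ((-(t * a) - i) • ε : DualNumber K) • bs 2 = 0 := by
    refine Eq.trans ?_ (lie_jacobi (bs 0) (bs 1) (bs 2))
    rw [hyz, hzx, hxy]
    simp only [lie_neg, lie_add, lie_smul, lie_self, hxy, hxz, hyz, hyx, hzx, hzy]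
    lc
  have hd : d = t * h := by
    obtain ⟨-, j2, -⟩ := coeff_eq_zero bs hJ
    have this : ((d - t * h) • ε : DualNumber K).snd = (0 : K) := congrArg TrivSqZeroExt.snd j2
    rw [snd_seps] at this
    exact sub_eq_zero.1 this
  -- step lemmas for ad x
  have Sy : ∀ (s r : K) (β : DualNumber K),
      ⁅bs 0, (s • ε : DualNumber K) • bs 0 + β • bs 1 + (r • ε : DualNumber K) • bs 2⁆ =
        ((β.fst * a) • ε : DualNumber K) • bs 0 + (β * (1 + b • ε)) • bs 1 +
          ((β.fst * c + r * t) • ε : DualNumber K) • bs 2 := by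
    intro s r β
    simp only [lie_add, lie_smul, lie_self, hxy, hxz]
    lc
  have Sz : ∀ (s r : K) (γ : DualNumber K),
      ⁅bs 0, (s • ε : DualNumber K) • bs 0 + (r • ε : DualNumber K) • bs 1 + γ • bs 2⁆ =
        ((γ.fst * d) • ε : DualNumber K) • bs 0 + ((r + γ.fst * e) • ε : DualNumber K) • bs 1 +
          (γ * (algebraMap K (DualNumber K) t + f • ε)) • bs 2 := by
    intro s r γ
    simp only [lie_add, lie_smul, lie_self, hxy, hxz]
    lc
  have Xy : ∀ n : ℕ, (fun u : L => ⁅bs 0, u⁆)^[n + 1] (bs 1) =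
      (a • ε : DualNumber K) • bs 0 + ((1 + b • ε : DualNumber K) ^ (n + 1)) • bs 1 +
        ((sig t (n + 1) * c) • ε : DualNumber K) • bs 2 := by
    intro n
    induction n with
    | zero =>
      show ⁅bs 0, bs 1⁆ = _
      rw [hxy, sig_succ', sig_zero]
      simp
    | succ n ih =>
      rw [Function.iterate_succ_apply', ih, Sy, fst_B_pow, one_mul, one_mul, ← pow_succ]
      have e1 : c + sig t (n + 1) * c * t = sig t (n + 1 + 1) * c := by
        rw [sig_succ' t (n + 1)]; ring
      rw [e1]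
  have Xz : ∀ n : ℕ, (fun u : L => ⁅bs 0, u⁆)^[n + 1] (bs 2) =
      ((t ^ n * d) • ε : DualNumber K) • bs 0 + ((sig t (n + 1) * e) • ε : DualNumber K) • bs 1 +
        ((algebraMap K (DualNumber K) t + f • ε) ^ (n + 1)) • bs 2 := by
    intro n
    induction n with
    | zero =>
      show ⁅bs 0, bs 2⁆ = _
      rw [hxz, sig_succ', sig_zero]
      simp
    | succ n ih =>
      rw [Function.iterate_succ_apply', ih, Sz, fst_T_pow, ← pow_succ]
      have e1 : sig t (n + 1) * e + t ^ (n + 1) * e = sig t (n + 1 + 1) * e := by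
        rw [sig_succ t (n + 1)]; ring
      rw [e1]
  have Xpx : (fun u : L => ⁅bs 0, u⁆)^[p] (bs 0) = 0 :=
    iter_nil_of (bs 0) (bs 0) 1 (lie_self (bs 0)) p (by omega)
  have Xpy : (fun u : L => ⁅bs 0, u⁆)^[p] (bs 1) =
      (a • ε : DualNumber K) • bs 0 + (1 : DualNumber K) • bs 1 +
        ((sig t p * c) • ε : DualNumber K) • bs 2 := by
    have := Xy (p - 1)
    rw [← hp1, B_pow_p] at this
    exact this
  have Xpz : (fun u : L => ⁅bs 0, u⁆)^[p] (bs 2) =
      ((t ^ (p - 1) * d) • ε : DualNumber K) • bs 0 + ((sig t p * e) • ε : DualNumber K) • bs 1 +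
        (algebraMap K (DualNumber K) t) • bs 2 := by
    have := Xz (p - 1)
    rw [← hp1, T_pow_p p t f ht] at this
    exact this
  -- squares and cubes of ad y, ad z
  have Y2x : ⁅bs 1, ⁅bs 1, bs 0⁆⁆ = (a • ε : DualNumber K) • bs 1 := by
    rw [hyx]; simp only [lie_neg, lie_add, lie_smul, hyx, lie_self, hyz]; lc
  have Y2y : ⁅bs 1, ⁅bs 1, bs 1⁆⁆ = 0 := by rw [lie_self, lie_zero]
  have Y2z : ⁅bs 1, ⁅bs 1, bs 2⁆⁆ = (-(g • ε) : DualNumber K) • bs 1 := by
    rw [hyz]; simp only [lie_neg, lie_add, lie_smul, hyx, lie_self, hyz]; lc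
  have Y3x : ⁅bs 1, ⁅bs 1, ⁅bs 1, bs 0⁆⁆⁆ = 0 := by rw [Y2x, lie_smul, lie_self, smul_zero]
  have Y3z : ⁅bs 1, ⁅bs 1, ⁅bs 1, bs 2⁆⁆⁆ = 0 := by rw [Y2z, lie_smul, lie_self, smul_zero]
  have Z2x : ⁅bs 2, ⁅bs 2, bs 0⁆⁆ = ((t * d) • ε : DualNumber K) • bs 2 := by
    rw [hzx]; simp only [lie_neg, lie_add, lie_smul, lie_self, hzx, hzy]; lc
  have Z2y : ⁅bs 2, ⁅bs 2, bs 1⁆⁆ = ((t * g) • ε : DualNumber K) • bs 2 := by
    rw [hzy]; simp only [lie_neg, lie_add, lie_smul, lie_self, hzx, hzy]; lc
  have Z2z : ⁅bs 2, ⁅bs 2, bs 2⁆⁆ = 0 := by rw [lie_self, lie_zero]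
  have Z3x : ⁅bs 2, ⁅bs 2, ⁅bs 2, bs 0⁆⁆⁆ = 0 := by rw [Z2x, lie_smul, lie_self, smul_zero]
  have Z3y : ⁅bs 2, ⁅bs 2, ⁅bs 2, bs 1⁆⁆⁆ = 0 := by rw [Z2y, lie_smul, lie_self, smul_zero]
  -- general bracket normal forms
  have e1 : ∀ α β γ : DualNumber K, ⁅α • bs 0 + β • bs 1 + γ • bs 2, bs 0⁆ =
      (-(β * (a • ε)) - γ * (d • ε)) • bs 0 + (-(β * (1 + b • ε)) - γ * (e • ε)) • bs 1 +
        (-(β * (c • ε)) - γ * (algebraMap K (DualNumber K) t + f • ε)) • bs 2 := by
    intro α β γ
    simp only [add_lie, smul_lie, lie_self, hyx, hzx]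
    match_scalars <;> ring
  have e2 : ∀ α β γ : DualNumber K, ⁅α • bs 0 + β • bs 1 + γ • bs 2, bs 1⁆ =
      (α * (a • ε) - γ * (g • ε)) • bs 0 + (α * (1 + b • ε) - γ * (h • ε)) • bs 1 +
        (α * (c • ε) - γ * (i • ε)) • bs 2 := by
    intro α β γ
    simp only [add_lie, smul_lie, lie_self, hxy, hzy]
    match_scalars <;> ring
  have e3 : ∀ α β γ : DualNumber K, ⁅α • bs 0 + β • bs 1 + γ • bs 2, bs 2⁆ =
      (α * (d • ε) + β * (g • ε)) • bs 0 + (α * (e • ε) + β * (h • ε)) • bs 1 +
        (α * (algebraMap K (DualNumber K) t + f • ε) + β * (i • ε)) • bs 2 := by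
    intro α β γ
    simp only [add_lie, smul_lie, lie_self, hxz, hyz]
    match_scalars <;> ring
  constructor
  · rintro ⟨φ⟩
    obtain ⟨α, β, γ, hw⟩ : ∃ α β γ : DualNumber K,
        φ.toFun (bs 0) = α • bs 0 + β • bs 1 + γ • bs 2 := ⟨_, _, _, repr3 bs _⟩
    have had := φ.ad_map (bs 0)
    rw [hw] at had
    have hX := LinearMap.congr_fun had (bs 0)
    have hY := LinearMap.congr_fun had (bs 1)
    have hZ := LinearMap.congr_fun had (bs 2)
    rw [LieAlgebra.ad_apply, ad_pow_apply] at hX hY hZ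
    rw [e1, Xpx] at hX
    rw [e2, Xpy] at hY
    rw [e3, Xpz] at hZ
    obtain ⟨-, q2, q3⟩ := coeff_eq_zero bs hX
    obtain ⟨-, r2, r3⟩ := coeff_eq bs hY
    obtain ⟨-, s2, s3⟩ := coeff_eq bs hZ
    have hβ : β.fst = 0 := by
      have this : (-(β * (1 + b • ε)) - γ * (e • ε)).fst = (0 : K) := congrArg TrivSqZeroExt.fst q2
      rw [TrivSqZeroExt.fst_sub, TrivSqZeroExt.fst_neg, fst_mul_one_add, fst_mul_seps, sub_zero,
        neg_eq_zero] at this
      exact this
    have hγt : γ.fst * t = 0 := by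
      have this : (-(β * (c • ε)) - γ * (algebraMap K (DualNumber K) t + f • ε)).fst = (0 : K) :=
        congrArg TrivSqZeroExt.fst q3
      rw [TrivSqZeroExt.fst_sub, TrivSqZeroExt.fst_neg, fst_mul_seps, fst_mul_T, neg_zero, zero_sub,
        neg_eq_zero] at this
      exact this
    have hα : α.fst = 1 := by
      have this : (α * (1 + b • ε) - γ * (h • ε)).fst = (1 : K) := congrArg TrivSqZeroExt.fst r2
      rw [TrivSqZeroExt.fst_sub, fst_mul_one_add, fst_mul_seps, sub_zero] at this
      exact this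
    have k4 : α.snd + α.fst * b - γ.fst * h = 0 := by
      have this : (α * (1 + b • ε) - γ * (h • ε)).snd = (0 : K) := congrArg TrivSqZeroExt.snd r2
      rw [TrivSqZeroExt.snd_sub, snd_mul_one_add, snd_mul_seps] at this
      exact this
    have k3 : α.fst * c - γ.fst * i = sig t p * c := by
      have this : (α * (c • ε) - γ * (i • ε)).snd = sig t p * c := by
        rw [r3, snd_seps]
      rw [TrivSqZeroExt.snd_sub, snd_mul_seps, snd_mul_seps] at this
      exact this
    have k2 : α.fst * e + β.fst * h = sig t p * e := by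
      have this : (α * (e • ε) + β * (h • ε)).snd = sig t p * e := by
        rw [s2, snd_seps]
      rw [TrivSqZeroExt.snd_add, snd_mul_seps, snd_mul_seps] at this
      exact this
    have k5 : α.fst * f + α.snd * t + β.fst * i = 0 := by
      have this : (α * (algebraMap K (DualNumber K) t + f • ε) + β * (i • ε)).snd = (0 : K) := by
        rw [s3]; simp
      rw [TrivSqZeroExt.snd_add, snd_mul_T, snd_mul_seps] at this
      exact this
    rw [hα] at k4 k3 k2 k5
    rw [hβ] at k2 k5
    refine ⟨?_, ?_, ?_⟩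
    · linear_combination t * k4 - k5 + h * hγt
    · intro h1
      have hγ : γ.fst = 0 := by rw [h1, mul_one] at hγt; exact hγt
      have hs : sig t p = 0 := by rw [h1]; exact sig_p_one p
      rw [hs, hγ] at k3
      rw [hs] at k2
      constructor
      · linear_combination k3
      · linear_combination k2
    · intro h2
      subst h2
      obtain ⟨α', β', γ', hw'⟩ : ∃ α β γ : DualNumber K,
          φ.toFun (bs 1) = α • bs 0 + β • bs 1 + γ • bs 2 := ⟨_, _, _, repr3 bs _⟩
      have had' := φ.ad_map (bs 1)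
      rw [hw'] at had'
      have hX' := LinearMap.congr_fun had' (bs 0)
      have hY' := LinearMap.congr_fun had' (bs 1)
      have hZ' := LinearMap.congr_fun had' (bs 2)
      rw [LieAlgebra.ad_apply, ad_pow_apply] at hX' hY' hZ'
      change _ = ⁅bs 1, ⁅bs 1, bs 0⁆⁆ at hX'
      change _ = ⁅bs 1, ⁅bs 1, bs 1⁆⁆ at hY'
      change _ = ⁅bs 1, ⁅bs 1, bs 2⁆⁆ at hZ'
      rw [e1, Y2x] at hX'
      rw [e2, Y2y] at hY'
      rw [e3, Y2z] at hZ'
      have u1 := coeff1 bs hX'
      obtain ⟨-, u2, -⟩ := coeff_eq_zero bs hY'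
      have u3 := coeff1 bs hZ'
      rw [repr_smul_self] at u1 u3
      have hβ' : β'.fst = 0 := by
        have this : (-(β' * (1 + b • ε)) - γ' * (e • ε)).fst = (0 : K) := by rw [u1, fst_seps]
        rw [TrivSqZeroExt.fst_sub, TrivSqZeroExt.fst_neg, fst_mul_one_add, fst_mul_seps, sub_zero,
          neg_eq_zero] at this
        exact this
      have hα' : α'.fst = 0 := by
        have this : (α' * (1 + b • ε) - γ' * (h • ε)).fst = (0 : K) := congrArg TrivSqZeroExt.fst u2
        rw [TrivSqZeroExt.fst_sub, fst_mul_one_add, fst_mul_seps, sub_zero] at this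
        exact this
      have this : (α' * (e • ε) + β' * (h • ε)).snd = -g := by
        rw [u3, TrivSqZeroExt.snd_neg, snd_seps]
      rw [TrivSqZeroExt.snd_add, snd_mul_seps, snd_mul_seps, hα', hβ', zero_mul, zero_mul,
        add_zero] at this
      exact neg_eq_zero.1 this.symm
  · rintro ⟨hf, hce, hg⟩
    subst hf
    have hd' : t ^ (p - 1) * d = d := by
      rw [hd, ← mul_assoc, ← pow_succ, ← hp1, ht]
    have hsc : sig t p * c = c := by
      by_cases h1 : t = 1
      · rw [(hce h1).1, mul_zero]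
      · rw [sig_p_of_ne t p ht h1, one_mul]
    have hse : sig t p * e = e := by
      by_cases h1 : t = 1
      · rw [(hce h1).2, mul_zero]
      · rw [sig_p_of_ne t p ht h1, one_mul]
    have hx0 : LieAlgebra.ad (DualNumber K) L (bs 0) ^ p =
        LieAlgebra.ad (DualNumber K) L ((1 - b • ε : DualNumber K) • bs 0) := by
      refine bs.ext fun k => ?_
      rw [ad_pow_apply, LieAlgebra.ad_apply, smul_lie]
      match k with
      | 0 => rw [Xpx, lie_self, smul_zero]
      | 1 => rw [Xpy, hxy, hsc]; lc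
      | 2 => rw [Xpz, hxz, hd', hse]; lc
    by_cases h2 : p = 2
    · subst h2
      obtain rfl : g = 0 := hg rfl
      have hy : ∀ j : Fin 3, LieAlgebra.ad (DualNumber K) L (bs j) ^ 2 =
          LieAlgebra.ad (DualNumber K) L
            ((![(1 - b • ε : DualNumber K) • bs 0, (-(a • ε) : DualNumber K) • bs 1,
              (-(d • ε) : DualNumber K) • bs 2] : Fin 3 → L) j) := by
        intro j
        match j with
        | 0 => exact hx0
        | 1 =>
          show LieAlgebra.ad (DualNumber K) L (bs 1) ^ 2 =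
            LieAlgebra.ad (DualNumber K) L ((-(a • ε) : DualNumber K) • bs 1)
          refine bs.ext fun k => ?_
          rw [ad_pow_apply, LieAlgebra.ad_apply, smul_lie]
          show ⁅bs 1, ⁅bs 1, bs k⁆⁆ = _
          match k with
          | 0 => rw [Y2x, hyx]; lc
          | 1 => rw [Y2y, lie_self, smul_zero]
          | 2 => rw [Y2z, hyz]; lc
        | 2 =>
          show LieAlgebra.ad (DualNumber K) L (bs 2) ^ 2 =
            LieAlgebra.ad (DualNumber K) L ((-(d • ε) : DualNumber K) • bs 2)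
          refine bs.ext fun k => ?_
          rw [ad_pow_apply, LieAlgebra.ad_apply, smul_lie]
          show ⁅bs 2, ⁅bs 2, bs k⁆⁆ = _
          match k with
          | 0 => rw [Z2x, hzx]; lc
          | 1 => rw [Z2y, hzy]; lc
          | 2 => rw [Z2z, lie_self, smul_zero]
      obtain ⟨φ, _, _⟩ := Groth.Agent.S13773.result (DualNumber K) 2 L bs _ hy
      exact ⟨φ⟩
    · have hp3 : 3 ≤ p := by omega
      have hy : ∀ j : Fin 3, LieAlgebra.ad (DualNumber K) L (bs j) ^ p =
          LieAlgebra.ad (DualNumber K) L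
            ((![(1 - b • ε : DualNumber K) • bs 0, 0, 0] : Fin 3 → L) j) := by
        intro j
        match j with
        | 0 => exact hx0
        | 1 =>
          show LieAlgebra.ad (DualNumber K) L (bs 1) ^ p = LieAlgebra.ad (DualNumber K) L 0
          rw [map_zero (LieAlgebra.ad (DualNumber K) L)]
          refine bs.ext fun k => ?_
          rw [ad_pow_apply, LinearMap.zero_apply]
          refine iter_nil_of _ _ 3 ?_ p hp3
          show ⁅bs 1, ⁅bs 1, ⁅bs 1, bs k⁆⁆⁆ = 0
          match k with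
          | 0 => exact Y3x
          | 1 => rw [lie_self, lie_zero, lie_zero]
          | 2 => exact Y3z
        | 2 =>
          show LieAlgebra.ad (DualNumber K) L (bs 2) ^ p = LieAlgebra.ad (DualNumber K) L 0
          rw [map_zero (LieAlgebra.ad (DualNumber K) L)]
          refine bs.ext fun k => ?_
          rw [ad_pow_apply, LinearMap.zero_apply]
          refine iter_nil_of _ _ 3 ?_ p hp3
          show ⁅bs 2, ⁅bs 2, ⁅bs 2, bs k⁆⁆⁆ = 0
          match k with
          | 0 => exact Z3x
          | 1 => exact Z3y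
          | 2 => rw [lie_self, lie_zero, lie_zero]
      obtain ⟨φ, _, _⟩ := Groth.Agent.S13773.result (DualNumber K) p L bs _ hy
      exact ⟨φ⟩

end Groth.Agent.S13778
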