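import Groth.Statements.S13779
import Groth.Agent.S13773
import Groth.Agent.H84.PLieAux
import Mathlib

set_option autoImplicit false
universe u v
open PLie

namespace Groth.Agent.S13779

open Groth.Agent.H84.PLieAux

theorem iter_succ {L : Type v} [LieRing L] (x w : L) (n : ℕ) :
    (fun u : L => ⁅x, u⁆)^[n + 1] w = ⁅x, (fun u : L => ⁅x, u⁆)^[n] w⁆ :=
  Function.iterate_succ_apply' _ _ _

/-- Let p be an odd prime, R a commutative ring of characteristic p, t ∈ R, and L a Lie algebra over R,
free as a module with basis x = bs 0, y = bs 1, z = bs 2 and brackets [x,y] = z, [x,z] = t • y,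
[y,z] = 0. Then L carries a p-mapping φ with φ x = t ^ ((p - 1) / 2) • x, φ y = 0 and φ z = 0. (The
published statement concerns the Lie algebra with these brackets over a field of Laurent series
k((t)), k algebraically closed of odd characteristic, t the variable; this row states its
restrictability over every commutative ring of odd prime characteristic and every t.) -/
theorem result (R : Type u) [CommRing R] (p : ℕ) [Fact p.Prime] [CharP R p] (hp : p ≠ 2)
    (t : R) (L : Type v) [LieRing L] [LieAlgebra R L] (bs : Module.Basis (Fin 3) R L)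
    (hxy : ⁅bs 0, bs 1⁆ = bs 2) (hxz : ⁅bs 0, bs 2⁆ = t • bs 1) (hyz : ⁅bs 1, bs 2⁆ = 0) :
    ∃ φ : PLie.PMap R p L, φ (bs 0) = t ^ ((p - 1) / 2) • bs 0 ∧ φ (bs 1) = 0 ∧ φ (bs 2) = 0 := by
  have hp2 : 2 ≤ p := (Fact.out : p.Prime).two_le
  have hodd : Odd p := (Fact.out : p.Prime).odd_of_ne_two hp
  obtain ⟨k, hk⟩ := hodd
  have hk2 : (p - 1) / 2 = k := by omega
  have h10 : ⁅bs 1, bs 0⁆ = -bs 2 := by rw [← lie_skew, hxy]
  have h20 : ⁅bs 2, bs 0⁆ = -(t • bs 1) := by rw [← lie_skew, hxz]
  have h21 : ⁅bs 2, bs 1⁆ = 0 := by rw [← lie_skew, hyz, neg_zero]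
  have hy : ∀ i : Fin 3, LieAlgebra.ad R L (bs i) ^ p =
      LieAlgebra.ad R L ((![t ^ k • bs 0, 0, 0] : Fin 3 → L) i) := by
    intro i
    match i with
    | 0 =>
      show LieAlgebra.ad R L (bs 0) ^ p = LieAlgebra.ad R L (t ^ k • bs 0)
      refine bs.ext fun j => ?_
      rw [ad_pow_apply, LieAlgebra.ad_apply, smul_lie]
      match j with
      | 0 =>
        rw [iter_eigen (bs 0) (bs 0) (0 : R) (by rw [lie_self, zero_smul]), zero_pow (by omega),
          zero_smul, lie_self, smul_zero]
      | 1 =>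
        rw [hk, iter_succ,
          iter_eigen2 (bs 0) (bs 1) t (by rw [hxy, hxz]), lie_smul, hxy]
      | 2 =>
        rw [hk, iter_succ,
          iter_eigen2 (bs 0) (bs 2) t (by rw [hxz, lie_smul, hxy]), lie_smul, hxz]
    | 1 =>
      show LieAlgebra.ad R L (bs 1) ^ p = LieAlgebra.ad R L 0
      rw [map_zero]
      refine bs.ext fun j => ?_
      rw [ad_pow_apply, LinearMap.zero_apply]
      refine iter_nil2 _ _ ?_ p hp2
      match j with
      | 0 => rw [h10, lie_neg, hyz, neg_zero]
      | 1 => rw [lie_self, lie_zero]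
      | 2 => rw [hyz, lie_zero]
    | 2 =>
      show LieAlgebra.ad R L (bs 2) ^ p = LieAlgebra.ad R L 0
      rw [map_zero]
      refine bs.ext fun j => ?_
      rw [ad_pow_apply, LinearMap.zero_apply]
      refine iter_nil2 _ _ ?_ p hp2
      match j with
      | 0 => rw [h20, lie_neg, lie_smul, h21, smul_zero, neg_zero]
      | 1 => rw [h21, lie_zero]
      | 2 => rw [lie_self, lie_zero]
  obtain ⟨φ, hφ, _⟩ := Groth.Agent.S13773.result R p L bs _ hy
  refine ⟨φ, ?_, ?_, ?_⟩
  · rw [hk2]; exact hφ 0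
  · exact hφ 1
  · exact hφ 2

end Groth.Agent.S13779
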