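import Groth.Statements.S13781
import Mathlib
import Groth.Agent.S9246
import Groth.Agent.H3.Regular
import Groth.Agent.H23.RegularLocal

set_option autoImplicit false
universe u
open CAlg

namespace Groth.Agent.S13781

open Polynomial in
/-- In `A[t]/(t^e - s)`, `s = t^e`. -/
theorem root_pow {A : Type u} [CommRing A] (s : A) (e : ℕ) :
    algebraMap A (AdjoinRoot (X ^ e - C s : A[X])) s =
      (AdjoinRoot.root (X ^ e - C s : A[X])) ^ e := by
  have h := AdjoinRoot.mk_self (f := (X ^ e - C s : A[X]))
  rw [map_sub, map_pow, AdjoinRoot.mk_X, AdjoinRoot.mk_C, sub_eq_zero] at h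
  rw [AdjoinRoot.algebraMap_eq]
  exact h.symm

open Polynomial in
noncomputable def gMap {A : Type u} [CommRing A] (s : A) (e : ℕ) (he : 0 < e) :
    (A ⧸ Ideal.span {s}) →ₐ[A]
      (AdjoinRoot (X ^ e - C s : A[X]) ⧸ Ideal.span {AdjoinRoot.root (X ^ e - C s : A[X])}) :=
  Ideal.Quotient.liftₐ (Ideal.span {s}) (Algebra.ofId A _) (by
    intro a ha
    obtain ⟨c, rfl⟩ := Ideal.mem_span_singleton'.mp ha
    have hs0 : algebraMap A (AdjoinRoot (X ^ e - C s : A[X]) ⧸
        Ideal.span {AdjoinRoot.root (X ^ e - C s : A[X])}) s = 0 := by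
      rw [IsScalarTower.algebraMap_apply A (AdjoinRoot (X ^ e - C s : A[X])) _,
        Ideal.Quotient.algebraMap_eq, root_pow, Ideal.Quotient.eq_zero_iff_mem]
      exact Ideal.pow_mem_of_mem _ (Ideal.mem_span_singleton_self _) e he
    rw [Algebra.ofId_apply, map_mul, hs0, mul_zero])

open Polynomial in
noncomputable def hMap {A : Type u} [CommRing A] (s : A) (e : ℕ) (he : 0 < e) :
    (AdjoinRoot (X ^ e - C s : A[X]) ⧸ Ideal.span {AdjoinRoot.root (X ^ e - C s : A[X])}) →ₐ[A]
      (A ⧸ Ideal.span {s}) :=
  Ideal.Quotient.liftₐ (Ideal.span {AdjoinRoot.root (X ^ e - C s : A[X])})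
    (AdjoinRoot.liftAlgHom (X ^ e - C s : A[X]) (Algebra.ofId A (A ⧸ Ideal.span {s})) 0 (by
      rw [eval₂_sub, eval₂_pow, eval₂_X, eval₂_C, zero_pow he.ne', zero_sub, neg_eq_zero]
      exact Ideal.Quotient.eq_zero_iff_mem.mpr (Ideal.mem_span_singleton_self s)))
    (by
      intro b hb
      obtain ⟨c, rfl⟩ := Ideal.mem_span_singleton'.mp hb
      rw [map_mul, AdjoinRoot.liftAlgHom_root, mul_zero])

open Polynomial in
/-- `A/(s) ≃ B/(t)` for `B = A[t]/(t^e - s)`, `e > 0`. -/
noncomputable def quotEquiv {A : Type u} [CommRing A] (s : A) (e : ℕ) (he : 0 < e) :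
    (A ⧸ Ideal.span {s}) ≃ₐ[A]
      (AdjoinRoot (X ^ e - C s : A[X]) ⧸ Ideal.span {AdjoinRoot.root (X ^ e - C s : A[X])}) :=
  AlgEquiv.ofAlgHom (gMap s e he) (hMap s e he)
    (by
      refine Ideal.Quotient.algHom_ext _ ?_
      apply AdjoinRoot.algHom_ext
      show gMap s e he (hMap s e he (Ideal.Quotient.mk _ (AdjoinRoot.root _))) =
        Ideal.Quotient.mk _ (AdjoinRoot.root _)
      rw [Ideal.Quotient.mk_singleton_self, map_zero, map_zero])
    (by
      refine Ideal.Quotient.algHom_ext _ ?_
      ext)

open Polynomial in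
/-- `(A[t]/(t^e - s))[1/t]` is étale over `A` when `e` is invertible. -/
theorem etale_away {A : Type u} [CommRing A] (s : A) (e : ℕ) (he : 0 < e) (u : A)
    (hu : (e : A) * u = 1) :
    Algebra.Etale A (Localization.Away (AdjoinRoot.root (X ^ e - C s : A[X]))) := by
  let P : StandardEtalePair A :=
    { f := X ^ e - C s
      monic_f := monic_X_pow_sub_C s he.ne'
      g := X
      cond := ⟨C u * X, 0, e, by
        rw [mul_zero, add_zero, derivative_sub, derivative_C, sub_zero, derivative_X_pow]
        have h1 : (X : A[X]) ^ (e - 1) * X = X ^ e := by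
          rw [← pow_succ, Nat.sub_add_cancel he]
        calc C (e : A) * X ^ (e - 1) * (C u * X) = C ((e : A) * u) * (X ^ (e - 1) * X) := by
              rw [C_mul]; ring
          _ = X ^ e := by rw [hu, C_1, one_mul, h1]⟩ }
  exact Algebra.Etale.of_equiv P.equivAwayAdjoinRoot

/-- Localisations of `B` at primes not containing `t` are regular if `B[1/t]` is étale over a
regular ring. -/
theorem regular_of_etale_away {A B : Type u} [CommRing A] [CommRing B] [Algebra A B]
    [IsRegularRing A] (t : B) [Algebra.Etale A (Localization.Away t)]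
    (q : Ideal B) [hq : q.IsPrime] (ht : t ∉ q) :
    IsRegularLocalRing (Localization.AtPrime q) := by
  have hdisj : Disjoint (Submonoid.powers t : Set B) (q : Set B) := by
    rw [Set.disjoint_left]
    intro x hx hn
    obtain ⟨n, rfl⟩ := (Submonoid.mem_powers_iff x t).mp hx
    exact ht (hq.mem_of_pow_mem n hn)
  haveI hQ : (q.map (algebraMap B (Localization.Away t))).IsPrime :=
    IsLocalization.isPrime_of_isPrime_disjoint (Submonoid.powers t) _ q hq hdisj
  have hcomap : (q.map (algebraMap B (Localization.Away t))).comap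
      (algebraMap B (Localization.Away t)) = q :=
    IsLocalization.under_map_of_isPrime_disjoint (Submonoid.powers t) _ hq hdisj
  haveI h1 : IsRegularLocalRing
      (Localization.AtPrime (q.map (algebraMap B (Localization.Away t)))) :=
    (Groth.Agent.S9246.result A (Localization.Away t) _).mp inferInstance
  have h2 : IsRegularLocalRing (Localization.AtPrime
      ((q.map (algebraMap B (Localization.Away t))).comap
        (algebraMap B (Localization.Away t)))) :=
    IsRegularLocalRing.of_ringEquiv
      (IsLocalization.localizationLocalizationAtPrimeIsoLocalization (Submonoid.powers t)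
        (q.map (algebraMap B (Localization.Away t)))).toRingEquiv.symm
  have h3 : ∀ (q' : Ideal B) [q'.IsPrime], q' = q →
      IsRegularLocalRing (Localization.AtPrime q') →
      IsRegularLocalRing (Localization.AtPrime q) := by
    intro q' _ h hr
    subst h
    exact hr
  exact h3 _ hcomap h2

/-- Localisations of `B` at primes containing a non-zero-divisor `t` with `B/(t)` regular are
regular. -/
theorem regular_of_quotient_regular {B : Type u} [CommRing B] [IsNoetherianRing B] (t : B)
    (htnzd : t ∈ nonZeroDivisors B) [IsRegularRing (B ⧸ Ideal.span {t})]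
    (q : Ideal B) [hq : q.IsPrime] (ht : t ∈ q) :
    IsRegularLocalRing (Localization.AtPrime q) := by
  haveI : IsNoetherianRing (Localization.AtPrime q) :=
    IsLocalization.isNoetherianRing q.primeCompl _ inferInstance
  have hle : Ideal.span {t} ≤ q := (Ideal.span_singleton_le_iff_mem q).mpr ht
  haveI hqbar : (q.map (Ideal.Quotient.mk (Ideal.span {t}))).IsPrime :=
    Ideal.isPrime_map_quotientMk_of_isPrime hle
  have hsub : Algebra.algebraMapSubmonoid (B ⧸ Ideal.span {t}) q.primeCompl =
      (q.map (Ideal.Quotient.mk (Ideal.span {t}))).primeCompl := by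
    ext c
    obtain ⟨a, rfl⟩ := Ideal.Quotient.mk_surjective c
    rw [Ideal.mem_primeCompl_iff, Ideal.mem_quotient_iff_mem hle]
    constructor
    · rintro ⟨s', hs', hsa⟩ ha
      rw [Ideal.Quotient.algebraMap_eq, Ideal.Quotient.eq] at hsa
      apply hs'
      have hsplit : s' = (s' - a) + a := by ring
      rw [SetLike.mem_coe, hsplit]
      exact q.add_mem (hle hsa) ha
    · intro ha
      exact Algebra.mem_algebraMapSubmonoid_of_mem (⟨a, ha⟩ : q.primeCompl)
  haveI hloc : IsLocalization (q.map (Ideal.Quotient.mk (Ideal.span {t}))).primeCompl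
      (Localization.AtPrime q ⧸ (Ideal.span {t}).map (algebraMap B (Localization.AtPrime q))) :=
    hsub ▸ (inferInstance : IsLocalization
      (Algebra.algebraMapSubmonoid (B ⧸ Ideal.span {t}) q.primeCompl)
      (Localization.AtPrime q ⧸ (Ideal.span {t}).map (algebraMap B (Localization.AtPrime q))))
  let e2 : Localization.AtPrime (q.map (Ideal.Quotient.mk (Ideal.span {t})))
      ≃ₐ[B ⧸ Ideal.span {t}]
      (Localization.AtPrime q ⧸ (Ideal.span {t}).map (algebraMap B (Localization.AtPrime q))) :=
    IsLocalization.algEquiv (q.map (Ideal.Quotient.mk (Ideal.span {t}))).primeCompl _ _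
  haveI h3 : IsRegularLocalRing
      (Localization.AtPrime q ⧸ (Ideal.span {t}).map (algebraMap B (Localization.AtPrime q))) :=
    IsRegularLocalRing.of_ringEquiv e2.toRingEquiv
  have hmap : (Ideal.span {t}).map (algebraMap B (Localization.AtPrime q)) =
      Ideal.span {algebraMap B (Localization.AtPrime q) t} := by
    rw [Ideal.map_span, Set.image_singleton]
  haveI h4 : IsRegularLocalRing
      (Localization.AtPrime q ⧸ Ideal.span {algebraMap B (Localization.AtPrime q) t}) :=
    IsRegularLocalRing.of_ringEquiv (Ideal.quotEquivOfEq hmap)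
  have hxm : algebraMap B (Localization.AtPrime q) t ∈
      IsLocalRing.maximalIdeal (Localization.AtPrime q) :=
    (IsLocalization.AtPrime.to_map_mem_maximal_iff (Localization.AtPrime q) q t).mpr ht
  have hxnzd : algebraMap B (Localization.AtPrime q) t ∈
      nonZeroDivisors (Localization.AtPrime q) :=
    IsLocalization.map_nonZeroDivisors_le q.primeCompl _ (Submonoid.mem_map_of_mem _ htnzd)
  exact Groth.Agent.H3.isRegularLocalRing_of_quotient (Localization.AtPrime q) _ hxm hxnzd


/-- Let A be a regular local ring, s a non-zero element of A such that A/(s) is regular, and e a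
positive integer invertible in A. Then A[t]/(t^e - s) is regular. (Regularity of a ring is taken
throughout as: Noetherian, with every localization at a prime ideal a regular local ring; the
hypotheses on A and on A/(s) and the conclusion on A[t]/(t^e - s) are all read this way, which for
the local rings A and A/(s) is the usual notion once localizations of regular local rings are known
to be regular.) -/
theorem result (A : Type u) [CommRing A] [IsLocalRing A]
    [IsRegularRing A] (s : A) (hs : s ≠ 0) (hreg : IsRegularRing (A ⧸ Ideal.span {s}))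
    (e : ℕ) (he : 0 < e) (heu : IsUnit (e : A)) :
    IsRegularRing (AdjoinRoot (Polynomial.X ^ e - Polynomial.C s)) := by
  haveI hA : IsRegularLocalRing A := IsRegularLocalRing.of_isRegularRing_of_isLocalRing A
  haveI hdom : IsDomain A := Groth.Agent.H23.isDomain_of_isRegularLocalRing A
  have hmonic : (Polynomial.X ^ e - Polynomial.C s : Polynomial A).Monic :=
    Polynomial.monic_X_pow_sub_C s he.ne'
  haveI hfree : Module.Free A (AdjoinRoot (Polynomial.X ^ e - Polynomial.C s : Polynomial A)) :=
    hmonic.free_adjoinRoot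
  have htnzd : AdjoinRoot.root (Polynomial.X ^ e - Polynomial.C s : Polynomial A) ∈
      nonZeroDivisors (AdjoinRoot (Polynomial.X ^ e - Polynomial.C s : Polynomial A)) := by
    rw [mem_nonZeroDivisors_iff_right]
    intro b hb
    have h1 : b * (AdjoinRoot.root (Polynomial.X ^ e - Polynomial.C s : Polynomial A)) ^ e = 0 := by
      have hpow : (AdjoinRoot.root (Polynomial.X ^ e - Polynomial.C s : Polynomial A)) ^ e =
          AdjoinRoot.root (Polynomial.X ^ e - Polynomial.C s : Polynomial A) *
            (AdjoinRoot.root (Polynomial.X ^ e - Polynomial.C s : Polynomial A)) ^ (e - 1) := by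
        rw [← pow_succ', Nat.sub_add_cancel he]
      rw [hpow, ← mul_assoc, hb, zero_mul]
    rw [← root_pow, mul_comm, ← Algebra.smul_def] at h1
    exact (smul_eq_zero_iff_right hs).mp h1
  haveI := hreg
  haveI hBt : IsRegularRing (AdjoinRoot (Polynomial.X ^ e - Polynomial.C s : Polynomial A) ⧸
      Ideal.span {AdjoinRoot.root (Polynomial.X ^ e - Polynomial.C s : Polynomial A)}) :=
    IsRegularRing.of_ringEquiv (quotEquiv s e he).toRingEquiv
  obtain ⟨u, hu⟩ := heu.exists_right_inv
  haveI hEt : Algebra.Etale A (Localization.Away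
      (AdjoinRoot.root (Polynomial.X ^ e - Polynomial.C s : Polynomial A))) :=
    etale_away s e he u hu
  rw [isRegularRing_iff]
  intro q hq
  by_cases ht : AdjoinRoot.root (Polynomial.X ^ e - Polynomial.C s : Polynomial A) ∈ q
  · exact regular_of_quotient_regular _ htnzd q ht
  · exact regular_of_etale_away (A := A) _ q ht

end Groth.Agent.S13781
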