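import Groth.Statements.S13782
import Groth.Agent.H10.Kummer

set_option autoImplicit false
universe u
open CAlg

namespace Groth.Agent.S13782

/-- Let k be a field, A a smooth k-algebra, s an irreducible element of A and e an integer, at least 2,
that is invertible in k. Then the k-algebra A[t]/(t^e - s) is smooth exactly when the quotient ring
A/(s) is a smooth k-algebra. (Smooth over k means formally smooth and of finite presentation over
k.) -/
theorem result (k A : Type u) [Field k] [CommRing A] [Algebra k A]
    [Algebra.Smooth k A] (s : A) (hs : Irreducible s) (e : ℕ) (he : 2 ≤ e) (hek : (e : k) ≠ 0) :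
    Algebra.Smooth k (AdjoinRoot (Polynomial.X ^ e - Polynomial.C s)) ↔
      Algebra.Smooth k (A ⧸ Ideal.span {s}) := by
  classical
  have hfs : Algebra.FormallySmooth k (Polynomial A) := Algebra.FormallySmooth.comp k A (Polynomial A)
  have hfp : Algebra.FinitePresentation k (Polynomial A) := inferInstance
  have he1 : e = (e - 1) + 1 := by omega
  have he2 : e - 1 ≠ 0 := by omega
  have hmonic : (Polynomial.X ^ e - Polynomial.C s : Polynomial A).Monic :=
    Polynomial.monic_X_pow_sub_C s (by omega)
  have hcoeff0 : (Polynomial.X ^ e - Polynomial.C s : Polynomial A).coeff 0 = -s := by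
    rw [Polynomial.coeff_sub, Polynomial.coeff_X_pow, Polynomial.coeff_C_zero,
      if_neg (by omega), zero_sub]
  constructor
  · intro hB
    have hBfs : Algebra.FormallySmooth k
        (Polynomial A ⧸ Ideal.span {(Polynomial.X ^ e - Polynomial.C s : Polynomial A)}) :=
      hB.formallySmooth
    obtain ⟨D, u, hu, hD⟩ :=
      Groth.Agent.H10.Kummer.exists_derivation_of_formallySmooth_quotient
        (R := k) (Polynomial.X ^ e - Polynomial.C s : Polynomial A) hBfs
    have hu0 : u = 0 := (hmonic.mul_left_eq_zero_iff).mp hu
    rw [hu0, add_zero] at hD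
    obtain ⟨g, hg⟩ := Ideal.mem_span_singleton'.mp hD
    -- the derivation of `A`
    let δ₀ : Derivation k A A := (Polynomial.lcoeff A 0).compDer (D.compAlgebraMap A)
    have hδ₀ : ∀ a : A, δ₀ a = (D (Polynomial.C a)).coeff 0 := fun a => rfl
    have hDf : D (Polynomial.X ^ e - Polynomial.C s : Polynomial A) =
        e • ((Polynomial.X : Polynomial A) ^ (e - 1) • D (Polynomial.X : Polynomial A)) -
          D (Polynomial.C s) := by
      rw [map_sub, Derivation.leibniz_pow]
    have hc1 : (e • ((Polynomial.X : Polynomial A) ^ (e - 1) •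
        D (Polynomial.X : Polynomial A))).coeff 0 = 0 := by
      rw [Polynomial.coeff_smul, smul_eq_mul, Polynomial.mul_coeff_zero, Polynomial.coeff_X_pow,
        if_neg (by omega), zero_mul, smul_zero]
    have hkey : δ₀ s = -1 + g.coeff 0 * s := by
      have h1 : D (Polynomial.X ^ e - Polynomial.C s : Polynomial A) =
          1 + g * (Polynomial.X ^ e - Polynomial.C s) := by rw [hg]; ring
      have h2 := congrArg (fun p : Polynomial A => p.coeff 0) h1
      beta_reduce at h2
      rw [hDf, Polynomial.coeff_sub, hc1, Polynomial.coeff_add, Polynomial.coeff_one_zero,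
        Polynomial.mul_coeff_zero, hcoeff0, ← hδ₀] at h2
      linear_combination -h2
    have hfsQ : Algebra.FormallySmooth k (A ⧸ Ideal.span {s}) := by
      refine Groth.Agent.H10.Kummer.formallySmooth_quotient_span_singleton (R := k) s (-δ₀) ?_
      rw [Derivation.neg_apply, hkey]
      refine Ideal.mem_span_singleton'.mpr ⟨-g.coeff 0, ?_⟩
      ring
    have hfpQ : Algebra.FinitePresentation k (A ⧸ Ideal.span {s}) :=
      Algebra.FinitePresentation.quotient ⟨{s}, by simp⟩
    exact ⟨hfsQ, hfpQ⟩
  · intro hQ
    have hQfs : Algebra.FormallySmooth k (A ⧸ Ideal.span {s}) := hQ.formallySmooth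
    obtain ⟨D₀, u, hu, hD₀⟩ :=
      Groth.Agent.H10.Kummer.exists_derivation_of_formallySmooth_quotient (R := k) s hQfs
    have hD₁ := Groth.Agent.H10.Kummer.derivation_sub_one_mem_of_irreducible hs D₀ u hu hD₀
    obtain ⟨w, hw⟩ := Ideal.mem_span_singleton'.mp hD₁
    -- coefficientwise derivation and derivative
    let Dc : Derivation k (Polynomial A) (Polynomial A) :=
      PolynomialModule.equivPolynomialSelf.compDer D₀.mapCoeffs
    let Dx : Derivation k (Polynomial A) (Polynomial A) :=
      (Polynomial.derivative' (R := A)).restrictScalars k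
    have hDcX : Dc (Polynomial.X ^ e - Polynomial.C s : Polynomial A) = -Polynomial.C (D₀ s) := by
      ext n
      show D₀ ((Polynomial.X ^ e - Polynomial.C s : Polynomial A).coeff n) = _
      by_cases hn : n = 0
      · subst hn
        rw [hcoeff0, map_neg, Polynomial.coeff_neg, Polynomial.coeff_C_zero]
      · rw [Polynomial.coeff_sub, Polynomial.coeff_X_pow, Polynomial.coeff_neg,
          Polynomial.coeff_C_of_ne_zero hn, Polynomial.coeff_C_of_ne_zero hn, sub_zero, neg_zero]
        split_ifs
        · exact D₀.map_one_eq_zero
        · exact map_zero _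
    have hDxX : Dx (Polynomial.X ^ e - Polynomial.C s : Polynomial A) =
        Polynomial.C (e : A) * Polynomial.X ^ (e - 1) := by
      show Polynomial.derivative (Polynomial.X ^ e - Polynomial.C s : Polynomial A) = _
      rw [Polynomial.derivative_sub, Polynomial.derivative_X_pow, Polynomial.derivative_C, sub_zero]
    let α : Polynomial A :=
      -(Polynomial.C (algebraMap k A (e : k)⁻¹) * Polynomial.X * Polynomial.C w)
    have hinv : algebraMap k A (e : k)⁻¹ * (e : A) = 1 := by
      rw [← map_natCast (algebraMap k A) e, ← map_mul, inv_mul_cancel₀ hek, map_one]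
    have hfsB : Algebra.FormallySmooth k
        (Polynomial A ⧸ Ideal.span {(Polynomial.X ^ e - Polynomial.C s : Polynomial A)}) := by
      refine Groth.Agent.H10.Kummer.formallySmooth_quotient_span_singleton (R := k)
        (Polynomial.X ^ e - Polynomial.C s : Polynomial A) (α • Dx - Dc) ?_
      rw [Derivation.sub_apply, Derivation.smul_apply, hDcX, hDxX, smul_eq_mul]
      refine Ideal.mem_span_singleton'.mpr ⟨-Polynomial.C w, ?_⟩
      have hD₀s : D₀ s = 1 + w * s := by linear_combination -hw
      have hXe : (Polynomial.X : Polynomial A) ^ e = Polynomial.X ^ (e - 1) * Polynomial.X := by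
        rw [← pow_succ, ← he1]
      have hC : (Polynomial.C (algebraMap k A (e : k)⁻¹) * Polynomial.C (e : A) : Polynomial A) = 1 := by
        rw [← Polynomial.C_mul, hinv, Polynomial.C_1]
      rw [hD₀s, hXe]
      simp only [α, Polynomial.C_add, Polynomial.C_mul, Polynomial.C_1]
      linear_combination ((Polynomial.X ^ (e - 1) * Polynomial.X * Polynomial.C w : Polynomial A)) * hC
    have hfpB : Algebra.FinitePresentation k
        (Polynomial A ⧸ Ideal.span {(Polynomial.X ^ e - Polynomial.C s : Polynomial A)}) :=
      Algebra.FinitePresentation.quotient ⟨{Polynomial.X ^ e - Polynomial.C s}, by simp⟩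
    exact ⟨hfsB, hfpB⟩

end Groth.Agent.S13782
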