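import Groth.Statements.S13785
import Mathlib
-- import your own Groth.Agent.* helpers here

set_option autoImplicit false
universe u
open CAlg

namespace Groth.Agent.S13785

/-- For any commutative ring A, the determinant of the generic n × n matrix is a nonzerodivisor of the
polynomial ring over A in the n² matrix entries. -/
theorem result (A : Type u) [CommRing A] (n : ℕ) :
    (Matrix.mvPolynomialX (Fin n) (Fin n) A).det ∈ nonZeroDivisors (MvPolynomial (Fin n × Fin n) A) := by
  classical
  set B := MvPolynomial (Fin n × Fin n) A with hB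
  -- the substitution x_ij ↦ x_ij + t δ_ij
  let φ : B →+* Polynomial B :=
    (MvPolynomial.eval₂Hom ((Polynomial.C : B →+* Polynomial B).comp MvPolynomial.C)
      (fun ij : Fin n × Fin n =>
        Polynomial.C (MvPolynomial.X ij) + if ij.1 = ij.2 then Polynomial.X else 0))
  let ψ : Polynomial B →+* B := Polynomial.evalRingHom 0
  have hψφ : ∀ g : B, ψ (φ g) = g := by
    intro g
    have : ψ.comp φ = RingHom.id B := by
      apply MvPolynomial.ringHom_ext
      · intro a
        simp [φ, ψ]
      · intro ij
        have e : φ (MvPolynomial.X ij) =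
            Polynomial.C (MvPolynomial.X ij) + if ij.1 = ij.2 then Polynomial.X else 0 :=
          MvPolynomial.eval₂Hom_X' _ _ _
        rw [RingHom.comp_apply, e, RingHom.id_apply]
        by_cases h : ij.1 = ij.2 <;> simp [ψ, h]
    exact RingHom.congr_fun this g
  have hdet : φ (Matrix.mvPolynomialX (Fin n) (Fin n) A).det =
      (-(Matrix.mvPolynomialX (Fin n) (Fin n) A)).charpoly := by
    rw [RingHom.map_det, Matrix.charpoly]
    congr 1
    refine Matrix.ext fun i j => ?_
    have e : φ (MvPolynomial.X (i, j)) =
        Polynomial.C (MvPolynomial.X (i, j)) + if i = j then Polynomial.X else 0 :=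
      MvPolynomial.eval₂Hom_X' _ _ _
    rw [Matrix.charmatrix_apply, RingHom.mapMatrix_apply, Matrix.map_apply,
      Matrix.mvPolynomialX_apply, e, Matrix.neg_apply, Matrix.mvPolynomialX_apply]
    by_cases h : i = j
    · subst h
      simp
      ring
    · simp [h, Matrix.diagonal_apply_ne _ h]
  rw [mem_nonZeroDivisors_iff_right]
  intro g hg
  have h1 : φ g * (-(Matrix.mvPolynomialX (Fin n) (Fin n) A)).charpoly = 0 := by
    rw [← hdet, ← map_mul, hg, map_zero]
  have h2 : φ g = 0 :=
    (Matrix.charpoly_monic _).mem_nonZeroDivisors |> fun h =>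
      (mem_nonZeroDivisors_iff_right.mp h) _ h1
  rw [← hψφ g, h2, map_zero]

end Groth.Agent.S13785
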