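import Groth.Statements.S13786
import Mathlib
-- import your own Groth.Agent.* helpers here

set_option autoImplicit false
universe u
open CAlg

namespace Groth.Agent.S13786

open Polynomial in
theorem main (A : Type u) [CommRing A] [Nontrivial A] (n : ℕ) (hn : 0 < n) :
    Module.FaithfullyFlat A
      (MvPolynomial (Fin n × Fin n) A ⧸ Ideal.span {(Matrix.mvPolynomialX (Fin n) (Fin n) A).det}) := by
  classical
  set o : Fin n × Fin n := (⟨0, hn⟩, ⟨0, hn⟩) with ho
  let S := {x : Fin n × Fin n // x ≠ o}
  let C := MvPolynomial S A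
  let Φ : MvPolynomial (Fin n × Fin n) A →ₐ[A] C[X] :=
    MvPolynomial.aeval (fun ij => if h : ij = o then (X : C[X]) else
      (if ij.1 = ij.2 then (X : C[X]) else 0) + Polynomial.C (MvPolynomial.X (⟨ij, h⟩ : S)))
  let g : C →ₐ[A] MvPolynomial (Fin n × Fin n) A :=
    MvPolynomial.aeval (fun s : S => MvPolynomial.X s.1 -
      (if s.1.1 = s.1.2 then MvPolynomial.X o else 0))
  let Ψ : C[X] →ₐ[A] MvPolynomial (Fin n × Fin n) A :=
    Polynomial.aevalTower g (MvPolynomial.X o)
  have hΦX : ∀ ij, Φ (MvPolynomial.X ij) = if h : ij = o then (X : C[X]) else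
      (if ij.1 = ij.2 then (X : C[X]) else 0) + Polynomial.C (MvPolynomial.X (⟨ij, h⟩ : S)) :=
    fun ij => MvPolynomial.aeval_X _ _
  have hgX : ∀ s : S, g (MvPolynomial.X s) = MvPolynomial.X s.1 -
      (if s.1.1 = s.1.2 then MvPolynomial.X o else 0) := fun s => MvPolynomial.aeval_X _ _
  have hΨX : Ψ X = MvPolynomial.X o := Polynomial.aevalTower_X _ _
  have hΨC : ∀ c : C, Ψ (Polynomial.C c) = g c := fun c => Polynomial.aevalTower_C _ _ _
  have hΦo : Φ (MvPolynomial.X o) = X := by rw [hΦX, dif_pos rfl]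
  have h1 : Ψ.comp Φ = AlgHom.id A _ := by
    apply MvPolynomial.algHom_ext
    intro ij
    rw [AlgHom.comp_apply, AlgHom.id_apply, hΦX]
    by_cases h : ij = o
    · rw [dif_pos h, hΨX, h]
    · rw [dif_neg h, map_add, hΨC, hgX]
      by_cases hd : ij.1 = ij.2
      · rw [if_pos hd, if_pos hd, hΨX]; ring
      · rw [if_neg hd, if_neg hd, map_zero]; ring
  have h2 : Φ.comp Ψ = AlgHom.id A _ := by
    apply Polynomial.algHom_ext'
    · apply MvPolynomial.algHom_ext
      intro s
      rw [AlgHom.comp_apply, AlgHom.comp_apply, AlgHom.comp_apply, AlgHom.id_apply,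
        Polynomial.CAlgHom_apply, hΨC, hgX, map_sub, hΦX, dif_neg s.2]
      by_cases hd : s.1.1 = s.1.2
      · rw [if_pos hd, if_pos hd, hΦo]
        ring
      · rw [if_neg hd, if_neg hd, map_zero]
        ring
    · rw [AlgHom.comp_apply, AlgHom.id_apply, hΨX, hΦo]
  let e : MvPolynomial (Fin n × Fin n) A ≃ₐ[A] C[X] := AlgEquiv.ofAlgHom Φ Ψ h2 h1
  let B : Matrix (Fin n) (Fin n) C := fun i j =>
    if h : (i, j) = o then 0 else MvPolynomial.X (⟨(i, j), h⟩ : S)
  set f : C[X] := Matrix.det ((X : C[X]) • (1 : Matrix (Fin n) (Fin n) C[X]) + B.map Polynomial.C)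
    with hf
  have key : Φ (Matrix.mvPolynomialX (Fin n) (Fin n) A).det = f := by
    rw [AlgHom.map_det, hf]
    congr 1
    apply Matrix.ext
    intro i j
    rw [AlgHom.mapMatrix_apply, Matrix.map_apply, Matrix.mvPolynomialX_apply,
      Matrix.add_apply, Matrix.smul_apply, smul_eq_mul, hΦX, Matrix.map_apply]
    show _ = X * (1 : Matrix (Fin n) (Fin n) C[X]) i j + Polynomial.C
      (if h : (i, j) = o then 0 else MvPolynomial.X (⟨(i, j), h⟩ : S))
    by_cases h : (i, j) = o
    · rw [dif_pos h, dif_pos h]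
      have hij : i = j := by
        have h1 := congrArg Prod.fst h
        have h2 := congrArg Prod.snd h
        simp only [ho] at h1 h2
        rw [h1, h2]
      rw [Matrix.one_apply, if_pos hij, map_zero, mul_one, add_zero]
    · rw [dif_neg h, dif_neg h]
      by_cases hd : i = j
      · rw [if_pos hd, Matrix.one_apply, if_pos hd, mul_one]
      · rw [if_neg hd, Matrix.one_apply, if_neg hd, mul_zero]
  have hmonic : f.Monic := Polynomial.leadingCoeff_det_X_one_add_C B
  have hcoeff : f.coeff n = 1 := by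
    have := Polynomial.coeff_det_X_add_C_card (1 : Matrix (Fin n) (Fin n) C) B
    simp only [Matrix.map_one, Polynomial.C_eq_zero, map_one, Fintype.card_fin,
      Matrix.det_one] at this
    rw [hf]
    exact this
  have hne1 : f ≠ 1 := by
    intro h
    rw [h, Polynomial.coeff_one, if_neg (by omega)] at hcoeff
    exact zero_ne_one hcoeff
  have hnu : ¬ IsUnit f := fun hu => hne1 (hmonic.isUnit_iff.mp hu)
  haveI hnt : Nontrivial (C[X] ⧸ Ideal.span {f}) := by
    apply Ideal.Quotient.nontrivial_iff.mpr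
    rw [Ne, Ideal.span_singleton_eq_top]
    exact hnu
  haveI : Module.Free C (C[X] ⧸ Ideal.span {f}) := hmonic.free_quotient
  haveI : Module.Free A (C[X] ⧸ Ideal.span {f}) := Module.Free.trans (R := A) (S := C)
  haveI : Module.FaithfullyFlat A (C[X] ⧸ Ideal.span {f}) := inferInstance
  have eq : (MvPolynomial (Fin n × Fin n) A ⧸
      Ideal.span {(Matrix.mvPolynomialX (Fin n) (Fin n) A).det}) ≃ₐ[A] (C[X] ⧸ Ideal.span {f}) :=
    Ideal.quotientEquivAlg _ _ e (by
      rw [Ideal.map_span, Set.image_singleton]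
      congr 2
      exact key.symm)
  exact Module.FaithfullyFlat.of_linearEquiv _ _ eq.toLinearEquiv



/-- For a commutative ring A and n ≥ 1, with det the determinant of the generic n × n matrix in the
polynomial ring A[X] in n² indeterminates, the A-algebra A[X]/(det) is faithfully flat over A. (For
n = 0 the determinant is 1 and the quotient is the zero ring, so n ≥ 1 is required.) -/
theorem result (A : Type u) [CommRing A] (n : ℕ) (hn : 0 < n) :
    Module.FaithfullyFlat A
      (MvPolynomial (Fin n × Fin n) A ⧸ Ideal.span {(Matrix.mvPolynomialX (Fin n) (Fin n) A).det}) := by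
  rcases subsingleton_or_nontrivial A with hA | hA
  · haveI : Subsingleton (MvPolynomial (Fin n × Fin n) A ⧸
        Ideal.span {(Matrix.mvPolynomialX (Fin n) (Fin n) A).det}) := Module.subsingleton A _
    exact { submodule_ne_top := fun m hm => absurd (Subsingleton.elim m ⊤) hm.ne_top }
  · exact main A n hn

end Groth.Agent.S13786
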