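import Groth.Statements.S13787
import Mathlib

set_option autoImplicit false
universe u
open CAlg

namespace Groth.Agent.S13787

/-- Let A be a nonzero commutative ring and n ≥ 1, let det be the determinant of the generic n × n
matrix in the polynomial ring A[X] in its n² entries, and let A[X, 1/det] be the localization at det
(the coordinate ring of GL_n over A). The homomorphism Aˣ × ℤ → (A[X, 1/det])ˣ sending (a, e) to a ·
det^e is injective. (The published statement takes the exponent in the group of locally constant
ℤ-valued functions on Spec A, which also covers A = 0; with integer exponents as here, A must be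
nonzero and n ≥ 1.) -/
theorem result (A : Type u) [CommRing A] [Nontrivial A] (n : ℕ) (hn : 0 < n) :
    Function.Injective (fun p : Aˣ × ℤ =>
        Units.map (algebraMap A (Localization.Away (Matrix.mvPolynomialX (Fin n) (Fin n) A).det)).toMonoidHom p.1 *
          (IsLocalization.Away.algebraMap_isUnit (S := Localization.Away (Matrix.mvPolynomialX (Fin n) (Fin n) A).det)
            (Matrix.mvPolynomialX (Fin n) (Fin n) A).det).unit ^ p.2) := by
  classical
  obtain ⟨det, hdet⟩ : ∃ det : MvPolynomial (Fin n × Fin n) A,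
      det = (Matrix.mvPolynomialX (Fin n) (Fin n) A).det := ⟨_, rfl⟩
  rw [← hdet]
  obtain ⟨D, hD⟩ : ∃ D : Matrix (Fin n) (Fin n) (LaurentPolynomial A),
      D = Matrix.diagonal (fun i => if i = (⟨0, hn⟩ : Fin n) then LaurentPolynomial.T 1 else 1) :=
    ⟨_, rfl⟩
  obtain ⟨φ, hφ⟩ : ∃ φ : MvPolynomial (Fin n × Fin n) A →+* LaurentPolynomial A,
      φ = MvPolynomial.eval₂Hom LaurentPolynomial.C (fun p : Fin n × Fin n => D p.1 p.2) :=
    ⟨_, rfl⟩
  have hφdet : φ det = LaurentPolynomial.T 1 := by
    rw [hdet, RingHom.map_det, RingHom.mapMatrix_apply]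
    have h1 : (Matrix.mvPolynomialX (Fin n) (Fin n) A).map ⇑φ = D := by
      rw [hφ]
      exact Matrix.mvPolynomialX_map_eval₂ _ D
    rw [h1, hD, Matrix.det_diagonal, Finset.prod_ite_eq']
    simp
  have hunit : IsUnit (φ det) := by rw [hφdet]; exact LaurentPolynomial.isUnit_T 1
  have hψ : ∀ a, (IsLocalization.Away.lift (S := Localization.Away det) det hunit)
      (algebraMap _ _ a) = φ a := IsLocalization.Away.lift_eq det hunit
  obtain ⟨ψ, hψdef⟩ : ∃ ψ : Localization.Away det →+* LaurentPolynomial A,
      ψ = IsLocalization.Away.lift (S := Localization.Away det) det hunit := ⟨_, rfl⟩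
  rw [← hψdef] at hψ
  have hT1 : (LaurentPolynomial.T 1 : LaurentPolynomial A) * LaurentPolynomial.T (-1) = 1 := by
    rw [← LaurentPolynomial.T_add]; simp
  have hT2 : (LaurentPolynomial.T (-1) : LaurentPolynomial A) * LaurentPolynomial.T 1 = 1 := by
    rw [← LaurentPolynomial.T_add]; simp
  obtain ⟨v, hvdef⟩ : ∃ v : (LaurentPolynomial A)ˣ,
      v = ⟨LaurentPolynomial.T 1, LaurentPolynomial.T (-1), hT1, hT2⟩ := ⟨_, rfl⟩
  have hv1 : (v : LaurentPolynomial A) = LaurentPolynomial.T 1 := by rw [hvdef]
  have hvinv : ((v⁻¹ : (LaurentPolynomial A)ˣ) : LaurentPolynomial A) =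
      LaurentPolynomial.T (-1) := by rw [hvdef]; rfl
  have hv : ∀ e : ℤ, ((v ^ e : (LaurentPolynomial A)ˣ) : LaurentPolynomial A) =
      LaurentPolynomial.T e := by
    intro e
    induction e using Int.induction_on with
    | zero => simp
    | succ i ih => rw [zpow_add_one, Units.val_mul, ih, hv1, LaurentPolynomial.T_add]
    | pred i ih => rw [zpow_sub_one, Units.val_mul, ih, hvinv, LaurentPolynomial.T_sub]
  have hu : Units.map (ψ : Localization.Away det →* LaurentPolynomial A)
      (IsLocalization.Away.algebraMap_isUnit (S := Localization.Away det) det).unit = v := by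
    apply Units.ext
    rw [Units.coe_map, IsUnit.unit_spec, hv1]
    show ψ (algebraMap _ _ det) = _
    rw [hψ, hφdet]
  have key : ∀ p : Aˣ × ℤ, ((Units.map (ψ : Localization.Away det →* LaurentPolynomial A)
      (Units.map (algebraMap A (Localization.Away det)).toMonoidHom p.1 *
        (IsLocalization.Away.algebraMap_isUnit (S := Localization.Away det) det).unit ^ p.2) :
      (LaurentPolynomial A)ˣ) : LaurentPolynomial A) =
      LaurentPolynomial.C (p.1 : A) * LaurentPolynomial.T p.2 := by
    intro p
    rw [map_mul, map_zpow, Units.val_mul, hu, hv]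
    congr 1
    show ψ (algebraMap A (Localization.Away det) (p.1 : A)) = _
    rw [IsScalarTower.algebraMap_apply A (MvPolynomial (Fin n × Fin n) A)
      (Localization.Away det), hψ, MvPolynomial.algebraMap_eq, hφ]
    exact MvPolynomial.eval₂Hom_C _ _ _
  intro p q hpq
  have h1 := key p
  have h2 := key q
  have h3 : LaurentPolynomial.C (p.1 : A) * LaurentPolynomial.T p.2 =
      LaurentPolynomial.C (q.1 : A) * LaurentPolynomial.T q.2 := by
    rw [← h1, ← h2]
    exact congrArg (fun w => ((Units.map (ψ : Localization.Away det →* LaurentPolynomial A) w :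
      (LaurentPolynomial A)ˣ) : LaurentPolynomial A)) hpq
  rw [← LaurentPolynomial.single_eq_C_mul_T, ← LaurentPolynomial.single_eq_C_mul_T,
    AddMonoidAlgebra.single_inj] at h3
  rcases h3 with ⟨h4, h5⟩ | ⟨h4, -⟩
  · exact Prod.ext (Units.ext h5) h4
  · exact absurd h4 (Units.ne_zero p.1)

end Groth.Agent.S13787
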