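import Groth.Statements.S13788
import Mathlib

set_option autoImplicit false
universe u
open CAlg

namespace Groth.Agent.S13788

open MvPolynomial

section general
variable {K : Type*} [CommRing K] {σ : Type*}

open Classical in
/-- zero out the variables in `S` -/
noncomputable def zeroOut (S : Set σ) : MvPolynomial σ K →ₐ[K] MvPolynomial σ K :=
  aeval (fun v => if v ∈ S then 0 else X v)

open Classical in
/-- scale the variables in `S` by a new variable -/
noncomputable def scaleBy (S : Set σ) : MvPolynomial σ K →ₐ[K] Polynomial (MvPolynomial σ K) :=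
  aeval (fun v => if v ∈ S then Polynomial.X * Polynomial.C (X v) else Polynomial.C (X v))

lemma zeroOut_X_mem {S : Set σ} {v : σ} (hv : v ∈ S) : zeroOut (K := K) S (X v) = 0 := by
  simp [zeroOut, hv]

lemma zeroOut_X_not_mem {S : Set σ} {v : σ} (hv : v ∉ S) : zeroOut (K := K) S (X v) = X v := by
  simp [zeroOut, hv]

lemma scaleBy_X_mem {S : Set σ} {v : σ} (hv : v ∈ S) :
    scaleBy (K := K) S (X v) = Polynomial.X * Polynomial.C (X v) := by
  simp [scaleBy, hv]

lemma scaleBy_X_not_mem {S : Set σ} {v : σ} (hv : v ∉ S) :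
    scaleBy (K := K) S (X v) = Polynomial.C (X v) := by
  simp [scaleBy, hv]

lemma scaleBy_C (S : Set σ) (a : K) :
    scaleBy (K := K) S (C a) = Polynomial.C (C a) := by
  rw [← MvPolynomial.algebraMap_eq, AlgHom.commutes, Polynomial.algebraMap_apply]

lemma zeroOut_C (S : Set σ) (a : K) : zeroOut (K := K) S (C a) = C a := by
  rw [← MvPolynomial.algebraMap_eq, AlgHom.commutes]

lemma eval_one_scaleBy (S : Set σ) (p : MvPolynomial σ K) : (scaleBy S p).eval 1 = p := by
  have h : (Polynomial.evalRingHom (1 : MvPolynomial σ K)).comp (scaleBy (K := K) S).toRingHom =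
      RingHom.id _ := by
    apply MvPolynomial.ringHom_ext
    · intro a
      simp [scaleBy_C]
    · intro v
      by_cases hv : v ∈ S
      · simp [scaleBy_X_mem hv]
      · simp [scaleBy_X_not_mem hv]
  exact RingHom.congr_fun h p

lemma eval_zero_scaleBy (S : Set σ) (p : MvPolynomial σ K) :
    (scaleBy S p).eval 0 = zeroOut S p := by
  have h : (Polynomial.evalRingHom (0 : MvPolynomial σ K)).comp (scaleBy (K := K) S).toRingHom =
      (zeroOut (K := K) S).toRingHom := by
    apply MvPolynomial.ringHom_ext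
    · intro a
      simp [scaleBy_C, zeroOut_C]
    · intro v
      by_cases hv : v ∈ S
      · simp [scaleBy_X_mem hv, zeroOut_X_mem hv]
      · simp [scaleBy_X_not_mem hv, zeroOut_X_not_mem hv]
  exact RingHom.congr_fun h p

lemma zeroOut_union (S T : Set σ) (p : MvPolynomial σ K) :
    zeroOut (S ∪ T) p = zeroOut S (zeroOut T p) := by
  have h : zeroOut (K := K) (S ∪ T) = (zeroOut S).comp (zeroOut T) := by
    apply MvPolynomial.algHom_ext
    intro v
    rw [AlgHom.comp_apply]
    by_cases hT : v ∈ T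
    · rw [zeroOut_X_mem hT, map_zero, zeroOut_X_mem (Set.mem_union_right S hT)]
    · rw [zeroOut_X_not_mem hT]
      by_cases hS : v ∈ S
      · rw [zeroOut_X_mem hS, zeroOut_X_mem (Set.mem_union_left T hS)]
      · rw [zeroOut_X_not_mem hS, zeroOut_X_not_mem (fun h => h.elim hS hT)]
  rw [h, AlgHom.comp_apply]

lemma zeroOut_empty (p : MvPolynomial σ K) : zeroOut (∅ : Set σ) p = p := by
  have h : zeroOut (K := K) (∅ : Set σ) = AlgHom.id K _ := by
    apply MvPolynomial.algHom_ext
    intro v
    rw [zeroOut_X_not_mem (by simp), AlgHom.id_apply]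
  rw [h, AlgHom.id_apply]

lemma zeroOut_univ (p : MvPolynomial σ K) :
    zeroOut (Set.univ : Set σ) p = C (constantCoeff p) := by
  have h : zeroOut (K := K) (Set.univ : Set σ) = aeval (fun _ => (0 : MvPolynomial σ K)) := by
    apply MvPolynomial.algHom_ext
    intro v
    rw [zeroOut_X_mem (Set.mem_univ v), aeval_X]
  rw [h, aeval_zero', MvPolynomial.algebraMap_eq]

lemma zeroOut_single_of_mem {S : Set σ} {v : σ} (hv : v ∈ S) {h : MvPolynomial σ K}
    (hS : zeroOut S h = h) : zeroOut {v} h = h := by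
  have hu : ({v} : Set σ) ∪ S = S :=
    Set.union_eq_self_of_subset_left (Set.singleton_subset_iff.2 hv)
  calc zeroOut {v} h = zeroOut {v} (zeroOut S h) := by rw [hS]
    _ = zeroOut ({v} ∪ S) h := (zeroOut_union _ _ _).symm
    _ = zeroOut S h := by rw [hu]
    _ = h := hS

lemma const_of_singles [Fintype σ] (h : MvPolynomial σ K)
    (hs : ∀ v : σ, zeroOut {v} h = h) : h = C (constantCoeff h) := by
  classical
  have key : ∀ T : Finset σ, zeroOut (↑T : Set σ) h = h := by
    intro T
    induction T using Finset.induction_on with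
    | empty => rw [Finset.coe_empty]; exact zeroOut_empty h
    | insert v T _ ih => rw [Finset.coe_insert, Set.insert_eq, zeroOut_union, ih, hs]
  have h1 := key Finset.univ
  rw [Finset.coe_univ, zeroOut_univ] at h1
  exact h1.symm

lemma dichotomy [IsDomain K] (S : Set σ) (f g : MvPolynomial σ K) (hfg : f * g ≠ 0)
    (hΘ : scaleBy S (f * g) = Polynomial.X * Polynomial.C (f * g)) :
    zeroOut S f = f ∨ zeroOut S g = g := by
  have hC0 : (Polynomial.C (f * g) : Polynomial (MvPolynomial σ K)) ≠ 0 := by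
    simpa using hfg
  have hmul : scaleBy S f * scaleBy S g = Polynomial.X * Polynomial.C (f * g) := by
    rw [← map_mul, hΘ]
  have hne : scaleBy S f * scaleBy S g ≠ 0 := by
    rw [hmul]; exact mul_ne_zero Polynomial.X_ne_zero hC0
  have hf0 : scaleBy S f ≠ 0 := left_ne_zero_of_mul hne
  have hg0 : scaleBy S g ≠ 0 := right_ne_zero_of_mul hne
  have hdeg : (scaleBy S f).natDegree + (scaleBy S g).natDegree = 1 := by
    rw [← Polynomial.natDegree_mul hf0 hg0, hmul, Polynomial.natDegree_X_mul hC0,
      Polynomial.natDegree_C]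
  have key : ∀ h : MvPolynomial σ K, (scaleBy S h).natDegree = 0 → zeroOut S h = h := by
    intro h hh
    obtain ⟨c, hc⟩ : ∃ c, scaleBy S h = Polynomial.C c :=
      ⟨_, Polynomial.eq_C_of_natDegree_eq_zero hh⟩
    have h1 := eval_one_scaleBy S h
    have h0 := eval_zero_scaleBy S h
    rw [hc, Polynomial.eval_C] at h1 h0
    rw [← h0, h1]
  rcases Nat.eq_zero_or_pos (scaleBy S f).natDegree with h | h
  · exact Or.inl (key f h)
  · exact Or.inr (key g (by omega))

open Classical in
lemma eval_zeroOut (S : Set σ) (x : σ → K) (p : MvPolynomial σ K) :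
    eval x (zeroOut S p) = eval (fun v => if v ∈ S then 0 else x v) p := by
  have h : (eval x).comp (zeroOut (K := K) S).toRingHom =
      eval (fun v => if v ∈ S then 0 else x v) := by
    apply MvPolynomial.ringHom_ext
    · intro a
      simp [zeroOut_C]
    · intro v
      by_cases hv : v ∈ S
      · simp [zeroOut_X_mem hv, hv]
      · simp [zeroOut_X_not_mem hv, hv]
  exact RingHom.congr_fun h p

end general

section det
variable (K : Type*) [CommRing K] (n : ℕ)

/-- generic determinant -/
noncomputable abbrev Dm : MvPolynomial (Fin n × Fin n) K :=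
  (Matrix.mvPolynomialX (Fin n) (Fin n) K).det

/-- variables of row `i` -/
def rowS (i : Fin n) : Set (Fin n × Fin n) := {v | v.1 = i}
/-- variables of column `j` -/
def colS (j : Fin n) : Set (Fin n × Fin n) := {v | v.2 = j}

lemma scaleBy_row_det (i : Fin n) :
    scaleBy (K := K) (rowS n i) (Dm K n) = Polynomial.X * Polynomial.C (Dm K n) := by
  set N : Matrix (Fin n) (Fin n) (Polynomial (MvPolynomial (Fin n × Fin n) K)) :=
    (Polynomial.C : MvPolynomial (Fin n × Fin n) K →+*
      Polynomial (MvPolynomial (Fin n × Fin n) K)).mapMatrix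
      (Matrix.mvPolynomialX (Fin n) (Fin n) K) with hN
  have h1 : (scaleBy (K := K) (rowS n i)).mapMatrix (Matrix.mvPolynomialX (Fin n) (Fin n) K) =
      Matrix.updateRow N i ((Polynomial.X : Polynomial (MvPolynomial (Fin n × Fin n) K)) • N i) := by
    ext a b : 2
    rw [AlgHom.mapMatrix_apply, Matrix.map_apply, Matrix.mvPolynomialX_apply]
    by_cases ha : a = i
    · subst ha
      rw [Matrix.updateRow_self, scaleBy_X_mem (show (a, b) ∈ rowS n a from rfl)]
      simp [hN, Matrix.mvPolynomialX_apply]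
    · rw [Matrix.updateRow_ne ha, scaleBy_X_not_mem (show (a, b) ∉ rowS n i from ha)]
      simp [hN, Matrix.mvPolynomialX_apply]
  rw [Dm, AlgHom.map_det, h1, Matrix.det_updateRow_smul, Matrix.updateRow_eq_self, hN,
    ← RingHom.map_det]

lemma scaleBy_col_det (j : Fin n) :
    scaleBy (K := K) (colS n j) (Dm K n) = Polynomial.X * Polynomial.C (Dm K n) := by
  set N : Matrix (Fin n) (Fin n) (Polynomial (MvPolynomial (Fin n × Fin n) K)) :=
    (Polynomial.C : MvPolynomial (Fin n × Fin n) K →+*
      Polynomial (MvPolynomial (Fin n × Fin n) K)).mapMatrix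
      (Matrix.mvPolynomialX (Fin n) (Fin n) K) with hN
  have h1 : (scaleBy (K := K) (colS n j)).mapMatrix (Matrix.mvPolynomialX (Fin n) (Fin n) K) =
      Matrix.updateCol N j ((Polynomial.X : Polynomial (MvPolynomial (Fin n × Fin n) K)) • fun a => N a j) := by
    ext a b : 2
    rw [AlgHom.mapMatrix_apply, Matrix.map_apply, Matrix.mvPolynomialX_apply]
    by_cases hb : b = j
    · subst hb
      rw [Matrix.updateCol_self, scaleBy_X_mem (show (a, b) ∈ colS n b from rfl)]
      simp [hN, Matrix.mvPolynomialX_apply]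
    · rw [Matrix.updateCol_ne hb, scaleBy_X_not_mem (show (a, b) ∉ colS n j from hb)]
      simp [hN, Matrix.mvPolynomialX_apply]
  rw [Dm, AlgHom.map_det, h1, Matrix.det_updateCol_smul, Matrix.updateCol_eq_self, hN,
    ← RingHom.map_det]

/-- specialise the generic matrix to `t • 1` -/
noncomputable def spec : MvPolynomial (Fin n × Fin n) K →ₐ[K] Polynomial K :=
  aeval (fun v => if v.1 = v.2 then Polynomial.X else 0)

lemma spec_det : spec K n (Dm K n) = Polynomial.X ^ n := by
  have h1 : (spec K n).mapMatrix (Matrix.mvPolynomialX (Fin n) (Fin n) K) =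
      Matrix.diagonal (fun _ => (Polynomial.X : Polynomial K)) := by
    ext a b : 2
    rw [AlgHom.mapMatrix_apply, Matrix.map_apply, Matrix.mvPolynomialX_apply,
      Matrix.diagonal_apply]
    simp [spec]
  rw [Dm, AlgHom.map_det, h1, Matrix.det_diagonal]
  simp

lemma spec_C (a : K) : spec K n (C a) = Polynomial.C a := by
  rw [← MvPolynomial.algebraMap_eq, AlgHom.commutes]
  rfl

lemma spec_X_diag (i : Fin n) : spec K n (X (i, i)) = Polynomial.X := by
  simp [spec]

lemma eval_Dm (x : Fin n × Fin n → K) :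
    eval x (Dm K n) = (Matrix.of fun a b => x (a, b)).det := by
  rw [Dm, RingHom.map_det]
  congr 1
  ext a b : 2
  simp [Matrix.mvPolynomialX_apply]

lemma zeroOut_single_det_ne [Nontrivial K] (i j : Fin n) :
    zeroOut {(i, j)} (Dm K n) ≠ Dm K n := by
  classical
  intro h
  set π : Equiv.Perm (Fin n) := Equiv.swap i j with hπ
  set M₀ : Matrix (Fin n) (Fin n) K := Equiv.Perm.permMatrix K π with hM₀
  have h2 := congrArg (eval (fun p : Fin n × Fin n => M₀ p.1 p.2)) h
  rw [eval_zeroOut, eval_Dm, eval_Dm] at h2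
  have hR : (Matrix.of fun a b => M₀ (a, b).1 (a, b).2) = M₀ := by
    ext a b : 2
    rfl
  rw [hR] at h2
  have h3 : (0 : K) = M₀.det := by
    rw [← h2]
    symm
    apply Matrix.det_eq_zero_of_row_eq_zero i
    intro b
    simp only [Matrix.of_apply]
    by_cases hb : b = j
    · subst hb; simp
    · have hz : M₀ i b = 0 := by
        simp [hM₀, hπ, Equiv.Perm.permMatrix, PEquiv.toMatrix_apply, Equiv.toPEquiv_apply,
          Ne.symm hb]
      simp [hz]
  rw [hM₀, Matrix.det_permutation] at h3
  rcases Int.units_eq_one_or (Equiv.Perm.sign π) with hs | hs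
  · rw [hs] at h3; simp at h3
  · rw [hs] at h3; simp at h3

theorem irreducible_det [IsDomain K] (hn : 0 < n) : Irreducible (Dm K n) := by
  have hD0 : Dm K n ≠ 0 := Matrix.det_mvPolynomialX_ne_zero (Fin n) K
  have hconst : ∀ (c : K) (h : MvPolynomial (Fin n × Fin n) K), h * C c = Dm K n →
      IsUnit (C c : MvPolynomial (Fin n × Fin n) K) := by
    intro c h hh
    have h1 := congrArg (spec K n) hh
    rw [map_mul, spec_C, spec_det] at h1
    have h2 := congrArg (fun q => Polynomial.coeff q n) h1
    simp only [Polynomial.coeff_mul_C, Polynomial.coeff_X_pow_self] at h2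
    exact (IsUnit.of_mul_eq_one ((spec K n h).coeff n) (by rw [mul_comm]; exact h2)).map C
  have key : ∀ f g : MvPolynomial (Fin n × Fin n) K, f * g = Dm K n →
      zeroOut (rowS n ⟨0, hn⟩) g = g → ∃ c, g = C c := by
    intro f g hfg hrow
    have hfg0 : f * g ≠ 0 := by rw [hfg]; exact hD0
    have hrowd : ∀ i, zeroOut (rowS n i) f = f ∨ zeroOut (rowS n i) g = g := fun i =>
      dichotomy (rowS n i) f g hfg0 (by rw [hfg]; exact scaleBy_row_det K n i)
    have hcold : ∀ j, zeroOut (colS n j) f = f ∨ zeroOut (colS n j) g = g := fun j =>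
      dichotomy (colS n j) f g hfg0 (by rw [hfg]; exact scaleBy_col_det K n j)
    have hbad1 : ∀ i j, zeroOut (rowS n i) g = g → zeroOut (colS n j) f = f → False := by
      intro i j h1 h2
      have hg := zeroOut_single_of_mem (show (i, j) ∈ rowS n i from rfl) h1
      have hf := zeroOut_single_of_mem (show (i, j) ∈ colS n j from rfl) h2
      apply zeroOut_single_det_ne K n i j
      rw [← hfg, map_mul, hf, hg]
    have hbad2 : ∀ i j, zeroOut (rowS n i) f = f → zeroOut (colS n j) g = g → False := by
      intro i j h1 h2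
      have hf := zeroOut_single_of_mem (show (i, j) ∈ rowS n i from rfl) h1
      have hg := zeroOut_single_of_mem (show (i, j) ∈ colS n j from rfl) h2
      apply zeroOut_single_det_ne K n i j
      rw [← hfg, map_mul, hf, hg]
    have hcolg : ∀ j, zeroOut (colS n j) g = g := fun j =>
      (hcold j).resolve_left (fun h => hbad1 _ j hrow h)
    have hrowg : ∀ i, zeroOut (rowS n i) g = g := fun i =>
      (hrowd i).resolve_left (fun h => hbad2 i ⟨0, hn⟩ h (hcolg _))
    exact ⟨_, const_of_singles g (fun v =>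
      zeroOut_single_of_mem (show v ∈ rowS n v.1 from rfl) (hrowg v.1))⟩
  refine ⟨?_, ?_⟩
  · intro hu
    have h1 : IsUnit (spec K n (Dm K n)) := hu.map (spec K n)
    rw [spec_det] at h1
    have h2 := Polynomial.natDegree_eq_zero_of_isUnit h1
    rw [Polynomial.natDegree_X_pow] at h2
    omega
  · intro f g hfg
    have hfg' : f * g = Dm K n := hfg.symm
    have hgf' : g * f = Dm K n := by rw [mul_comm]; exact hfg'
    rcases dichotomy (rowS n ⟨0, hn⟩) f g (by rw [hfg']; exact hD0)
      (by rw [hfg']; exact scaleBy_row_det K n _) with h | h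
    · obtain ⟨c, hc⟩ := key g f hgf' h
      left
      rw [hc]
      exact hconst c g (by rw [← hc]; exact hgf')
    · obtain ⟨c, hc⟩ := key f g hfg' h
      right
      rw [hc]
      exact hconst c f (by rw [← hc]; exact hfg')

end det

theorem prime_det (F : Type*) [Field F] (n : ℕ) (hn : 0 < n) : Prime (Dm F n) :=
  UniqueFactorizationMonoid.irreducible_iff_prime.1 (irreducible_det F n hn)

theorem factor_field (F : Type*) [Field F] (n : ℕ) (hn : 0 < n) :
    ∀ (m : ℕ) (f g : MvPolynomial (Fin n × Fin n) F), f * g = (Dm F n) ^ m →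
      ∃ (c : F) (k : ℕ), f = C c * (Dm F n) ^ k := by
  have hD0 : Dm F n ≠ 0 := Matrix.det_mvPolynomialX_ne_zero (Fin n) F
  have hp := prime_det F n hn
  intro m
  induction m with
  | zero =>
    intro f g h
    rw [pow_zero] at h
    have hu : IsUnit f := IsUnit.of_mul_eq_one g h
    obtain ⟨r, -, hr⟩ := MvPolynomial.isUnit_iff_eq_C_of_isReduced.1 hu
    exact ⟨r, 0, by rw [hr, pow_zero, mul_one]⟩
  | succ m ih =>
    intro f g h
    have hdvd : Dm F n ∣ f * g := ⟨(Dm F n) ^ m, by rw [h, pow_succ, mul_comm]⟩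
    rcases hp.dvd_or_dvd hdvd with ⟨f', hf'⟩ | ⟨g', hg'⟩
    · have h2 : f' * g = (Dm F n) ^ m := by
        apply mul_left_cancel₀ hD0
        rw [← mul_assoc, ← hf', h, pow_succ, mul_comm]
      obtain ⟨c, k, hk⟩ := ih f' g h2
      exact ⟨c, k + 1, by rw [hf', hk, pow_succ]; ring⟩
    · have h2 : f * g' = (Dm F n) ^ m := by
        apply mul_left_cancel₀ hD0
        rw [mul_left_comm, ← hg', h, pow_succ, mul_comm]
      exact ih f g' h2

lemma map_Dm {A B : Type*} [CommRing A] [CommRing B] (φ : A →+* B) (n : ℕ) :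
    MvPolynomial.map φ (Dm A n) = Dm B n := by
  rw [Dm, RingHom.map_det]
  congr 1
  ext a b : 2
  simp [Matrix.mvPolynomialX_apply]

lemma spec_map {A B : Type*} [CommRing A] [CommRing B] (φ : A →+* B) (n : ℕ)
    (p : MvPolynomial (Fin n × Fin n) A) :
    spec B n (MvPolynomial.map φ p) = Polynomial.map φ (spec A n p) := by
  have h : (spec B n).toRingHom.comp (MvPolynomial.map φ) =
      (Polynomial.mapRingHom φ).comp (spec A n).toRingHom := by
    apply MvPolynomial.ringHom_ext
    · intro a
      simp [spec_C]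
    · intro v
      by_cases hv : v.1 = v.2
      · simp [spec, hv]
      · simp [spec, hv]
  exact RingHom.congr_fun h p

lemma dom_mono {R : Type*} [CommRing R] [IsDomain R] (F G : Polynomial R) (N : ℕ)
    (h : F * G = Polynomial.X ^ N) : ∃ d : ℕ, ∀ i, i ≠ d → F.coeff i = 0 := by
  obtain ⟨d, -, hd⟩ := (dvd_prime_pow Polynomial.prime_X N).1 ⟨G, h.symm⟩
  obtain ⟨u, hu⟩ := hd
  refine ⟨d, fun i hi => ?_⟩
  obtain ⟨r, -, hru⟩ := Polynomial.isUnit_iff.1 (u⁻¹).isUnit
  have hF : F = Polynomial.C r * Polynomial.X ^ d := by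
    rw [hru, ← hu, mul_comm F, ← mul_assoc, Units.inv_mul, one_mul]
  rw [hF, Polynomial.coeff_C_mul_X_pow, if_neg hi]

theorem mono_of_mul_eq_X_pow (A : Type*) [CommRing A] [Nontrivial A] [IsReduced A]
    (hconn : ∀ e : A, IsIdempotentElem e → e = 0 ∨ e = 1) (F G : Polynomial A) (N : ℕ)
    (h : F * G = Polynomial.X ^ N) :
    ∃ (a : Aˣ) (j : ℕ), F = Polynomial.C (a : A) * Polynomial.X ^ j := by
  have horth : ∀ i i' : ℕ, i ≠ i' → F.coeff i * F.coeff i' = 0 := by
    intro i i' hii
    apply IsNilpotent.eq_zero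
    rw [nilpotent_iff_mem_prime]
    intro p hp
    haveI := hp
    have hq : Polynomial.map (Ideal.Quotient.mk p) F * Polynomial.map (Ideal.Quotient.mk p) G =
        Polynomial.X ^ N := by
      rw [← Polynomial.map_mul, h, Polynomial.map_pow, Polynomial.map_X]
    obtain ⟨d, hd⟩ := dom_mono _ _ _ hq
    by_cases hid : i = d
    · have hne : i' ≠ d := fun h' => hii (hid.trans h'.symm)
      have h3 := hd i' hne
      rw [Polynomial.coeff_map, Ideal.Quotient.eq_zero_iff_mem] at h3
      exact p.mul_mem_left _ h3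
    · have h3 := hd i hid
      rw [Polynomial.coeff_map, Ideal.Quotient.eq_zero_iff_mem] at h3
      exact p.mul_mem_right _ h3
  set e : ℕ → A := fun i => F.coeff i * G.coeff (N - i) with he
  have hsum : ∑ i ∈ Finset.range (N + 1), e i = 1 := by
    have h1 := congrArg (fun q => Polynomial.coeff q N) h
    simp only [Polynomial.coeff_mul, Polynomial.coeff_X_pow_self] at h1
    rw [Finset.Nat.sum_antidiagonal_eq_sum_range_succ_mk] at h1
    exact h1
  have heorth : ∀ i i', i ≠ i' → e i * e i' = 0 := by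
    intro i i' hii
    simp only [he]
    rw [mul_mul_mul_comm, horth i i' hii, zero_mul]
  have hidem : ∀ i ∈ Finset.range (N + 1), IsIdempotentElem (e i) := by
    intro i hi
    have h1 : e i * ∑ i' ∈ Finset.range (N + 1), e i' = e i * e i := by
      rw [Finset.mul_sum]
      exact Finset.sum_eq_single i (fun b _ hb => heorth i b (Ne.symm hb))
        (fun h' => absurd hi h')
    rw [hsum, mul_one] at h1
    exact h1.symm
  obtain ⟨i0, hi0, hone⟩ : ∃ i0 ∈ Finset.range (N + 1), e i0 = 1 := by
    by_contra hcon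
    have hcon' : ∀ i ∈ Finset.range (N + 1), e i ≠ 1 := fun i hi h1 => hcon ⟨i, hi, h1⟩
    have h0 : ∑ i ∈ Finset.range (N + 1), e i = 0 :=
      Finset.sum_eq_zero (fun i hi => (hconn _ (hidem i hi)).resolve_right (hcon' i hi))
    rw [hsum] at h0
    exact one_ne_zero h0
  have hone' : F.coeff i0 * G.coeff (N - i0) = 1 := hone
  have hunit : IsUnit (F.coeff i0) := IsUnit.of_mul_eq_one _ hone'
  refine ⟨hunit.unit, i0, ?_⟩
  ext i
  rw [Polynomial.coeff_C_mul_X_pow, IsUnit.unit_spec]
  by_cases hi : i = i0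
  · rw [if_pos hi, hi]
  · rw [if_neg hi]
    calc F.coeff i = F.coeff i * (F.coeff i0 * G.coeff (N - i0)) := by rw [hone', mul_one]
      _ = 0 := by rw [← mul_assoc, horth i i0 hi, zero_mul]

theorem factor_reduced (A : Type u) [CommRing A] [Nontrivial A] [IsReduced A] (n : ℕ)
    (hconn : ∀ e : A, IsIdempotentElem e → e = 0 ∨ e = 1) (hn : 0 < n) (m : ℕ)
    (f g : MvPolynomial (Fin n × Fin n) A) (h : f * g = (Dm A n) ^ m) :
    ∃ (a : Aˣ) (k : ℕ), f = C (a : A) * (Dm A n) ^ k := by
  have hFG : spec A n f * spec A n g = Polynomial.X ^ (n * m) := by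
    rw [← map_mul, h, map_pow, spec_det, ← pow_mul]
  obtain ⟨a, j, hF⟩ := mono_of_mul_eq_X_pow A hconn _ _ _ hFG
  refine ⟨a, j / n, ?_⟩
  rw [← sub_eq_zero]
  ext mon
  rw [MvPolynomial.coeff_zero]
  apply IsNilpotent.eq_zero
  rw [nilpotent_iff_mem_prime]
  intro p hp
  haveI := hp
  obtain ⟨c, k, hck⟩ := factor_field p.ResidueField n hn m
    (MvPolynomial.map (algebraMap A p.ResidueField) f)
    (MvPolynomial.map (algebraMap A p.ResidueField) g)
    (by rw [← map_mul, h, map_pow, map_Dm])
  have h1 : Polynomial.map (algebraMap A p.ResidueField) (spec A n f) =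
      Polynomial.C c * Polynomial.X ^ (n * k) := by
    rw [← spec_map, hck, map_mul, map_pow, spec_C, spec_det, ← pow_mul]
  rw [hF, Polynomial.map_mul, Polynomial.map_pow, Polynomial.map_C, Polynomial.map_X] at h1
  have h2 := congrArg (fun q => Polynomial.coeff q j) h1
  simp only [Polynomial.coeff_C_mul_X_pow, ↓reduceIte] at h2
  have hφa : algebraMap A p.ResidueField (a : A) ≠ 0 :=
    (a.isUnit.map (algebraMap A p.ResidueField)).ne_zero
  have hjk : j = n * k := by
    by_contra hne
    rw [if_neg hne] at h2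
    exact hφa h2
  rw [if_pos hjk] at h2
  have hk' : j / n = k := by rw [hjk]; exact Nat.mul_div_cancel_left k hn
  rw [← Ideal.algebraMap_residueField_eq_zero (I := p), ← MvPolynomial.coeff_map, map_sub,
    map_mul, map_pow, MvPolynomial.map_C, map_Dm, hck, hk', ← h2, sub_self,
    MvPolynomial.coeff_zero]

section main
variable (A : Type u) [CommRing A] (n : ℕ)

/-- the unit `det` of the coordinate ring of `GL_n` -/
noncomputable def dUnit : (Localization.Away (Dm A n))ˣ :=
  (IsLocalization.Away.algebraMap_isUnit (S := Localization.Away (Dm A n)) (Dm A n)).unit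

lemma dUnit_val : ((dUnit A n : (Localization.Away (Dm A n))ˣ) : Localization.Away (Dm A n)) =
    algebraMap (MvPolynomial (Fin n × Fin n) A) (Localization.Away (Dm A n)) (Dm A n) := rfl

/-- the map of the statement -/
noncomputable def PhiMap (p : Aˣ × ℤ) : (Localization.Away (Dm A n))ˣ :=
  Units.map (algebraMap A (Localization.Away (Dm A n))).toMonoidHom p.1 * (dUnit A n) ^ p.2

/-- specialisation to Laurent polynomials -/
noncomputable def psiHom : Localization.Away (Dm A n) →+* LaurentPolynomial A :=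
  IsLocalization.Away.lift (Dm A n)
    (g := (Polynomial.toLaurent).comp (spec A n).toRingHom)
    (by
      show IsUnit (Polynomial.toLaurent (spec A n (Dm A n)))
      rw [spec_det, Polynomial.toLaurent_X_pow]
      exact LaurentPolynomial.isUnit_T _)

lemma psiHom_algebraMap (p : MvPolynomial (Fin n × Fin n) A) :
    psiHom A n (algebraMap _ _ p) = Polynomial.toLaurent (spec A n p) := by
  rw [psiHom, IsLocalization.Away.lift_eq]; rfl

lemma psiHom_scalar (a : A) :
    psiHom A n (algebraMap A (Localization.Away (Dm A n)) a) = LaurentPolynomial.C a := by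
  rw [IsScalarTower.algebraMap_apply A (MvPolynomial (Fin n × Fin n) A)
    (Localization.Away (Dm A n)), psiHom_algebraMap, MvPolynomial.algebraMap_eq, spec_C,
    Polynomial.toLaurent_C]

lemma unit_zpow_T (τ : (LaurentPolynomial A)ˣ) (N : ℤ)
    (hτ : (τ : LaurentPolynomial A) = LaurentPolynomial.T N) (e : ℤ) :
    ((τ ^ e : (LaurentPolynomial A)ˣ) : LaurentPolynomial A) = LaurentPolynomial.T (N * e) := by
  have hnat : ∀ k : ℕ, ((τ ^ k : (LaurentPolynomial A)ˣ) : LaurentPolynomial A) =
      LaurentPolynomial.T (N * k) := by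
    intro k
    rw [Units.val_pow_eq_pow_val, hτ, LaurentPolynomial.T_pow, mul_comm]
  obtain ⟨k, rfl | rfl⟩ := e.eq_nat_or_neg
  · rw [zpow_natCast]; exact hnat k
  · rw [zpow_neg, zpow_natCast]
    have h1 : ((τ ^ k)⁻¹ : (LaurentPolynomial A)ˣ).val * (τ ^ k : (LaurentPolynomial A)ˣ).val = 1 :=
      Units.inv_mul _
    rw [hnat k] at h1
    calc ((τ ^ k)⁻¹ : (LaurentPolynomial A)ˣ).val
        = ((τ ^ k)⁻¹ : (LaurentPolynomial A)ˣ).val *
            (LaurentPolynomial.T (N * k) * LaurentPolynomial.T (N * -k)) := by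
          rw [← LaurentPolynomial.T_add, mul_neg, add_neg_cancel, LaurentPolynomial.T_zero,
            mul_one]
      _ = LaurentPolynomial.T (N * -k) := by rw [← mul_assoc, h1, one_mul]

lemma psiHom_dUnit_zpow (e : ℤ) :
    psiHom A n (((dUnit A n) ^ e : (Localization.Away (Dm A n))ˣ) : Localization.Away (Dm A n)) =
      LaurentPolynomial.T ((n : ℤ) * e) := by
  have h0 : ((Units.map (psiHom A n).toMonoidHom (dUnit A n) : (LaurentPolynomial A)ˣ) :
      LaurentPolynomial A) = LaurentPolynomial.T (n : ℤ) := by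
    show psiHom A n ((dUnit A n : (Localization.Away (Dm A n))ˣ) : Localization.Away (Dm A n)) = _
    rw [dUnit_val, psiHom_algebraMap, spec_det, Polynomial.toLaurent_X_pow]
  have h1 := unit_zpow_T A _ _ h0 e
  rw [← map_zpow] at h1
  exact h1

lemma psiHom_PhiMap (p : Aˣ × ℤ) :
    psiHom A n ((PhiMap A n p : (Localization.Away (Dm A n))ˣ) : Localization.Away (Dm A n)) =
      AddMonoidAlgebra.single ((n : ℤ) * p.2) (p.1 : A) := by
  rw [PhiMap, Units.val_mul, map_mul, psiHom_dUnit_zpow, LaurentPolynomial.single_eq_C_mul_T]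
  congr 1
  exact psiHom_scalar A n _

lemma PhiMap_injective [Nontrivial A] (hn : 0 < n) : Function.Injective (PhiMap A n) := by
  rintro ⟨a, e⟩ ⟨a', e'⟩ h
  have h1 := congrArg (fun u : (Localization.Away (Dm A n))ˣ =>
    (psiHom A n (u : Localization.Away (Dm A n))).coeff) h
  simp only [psiHom_PhiMap, AddMonoidAlgebra.coeff_single] at h1
  rcases (Finsupp.single_eq_single_iff _ _ _ _).1 h1 with ⟨h2, h3⟩ | ⟨h2, -⟩
  · have he : e = e' := by
      have hn' : (n : ℤ) ≠ 0 := by exact_mod_cast hn.ne'
      exact mul_left_cancel₀ hn' h2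
    have ha : a = a' := Units.ext h3
    rw [he, ha]
  · exact absurd h2 a.ne_zero

lemma reduced_of_surj [Nontrivial A] (hn : 0 < n) (hs : Function.Surjective (PhiMap A n)) :
    IsReduced A := by
  refine ⟨fun x hx => ?_⟩
  have hnil : IsNilpotent (C x * X ((⟨0, hn⟩ : Fin n), (⟨0, hn⟩ : Fin n)) :
      MvPolynomial (Fin n × Fin n) A) := by
    obtain ⟨k, hk⟩ := hx
    exact ⟨k, by rw [mul_pow, ← map_pow, hk, map_zero, zero_mul]⟩
  obtain ⟨⟨a, e⟩, hae⟩ := hs (Units.map
    (algebraMap (MvPolynomial (Fin n × Fin n) A) (Localization.Away (Dm A n))).toMonoidHom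
    hnil.isUnit_one_add.unit)
  have h1 := congrArg (fun w : (Localization.Away (Dm A n))ˣ =>
    (psiHom A n (w : Localization.Away (Dm A n))).coeff) hae
  have h2 : psiHom A n (algebraMap (MvPolynomial (Fin n × Fin n) A) (Localization.Away (Dm A n))
      (1 + C x * X ((⟨0, hn⟩ : Fin n), (⟨0, hn⟩ : Fin n)))) =
      AddMonoidAlgebra.single (0 : ℤ) (1 : A) + AddMonoidAlgebra.single (1 : ℤ) x := by
    rw [psiHom_algebraMap, map_add, map_one, map_mul, spec_C, spec_X_diag, map_add, map_one,
      map_mul, Polynomial.toLaurent_C, Polynomial.toLaurent_X,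
      LaurentPolynomial.single_eq_C_mul_T, LaurentPolynomial.single_eq_C_mul_T,
      LaurentPolynomial.T_zero, map_one, mul_one]
  have h3 : (AddMonoidAlgebra.single ((n : ℤ) * e) (a : A) : LaurentPolynomial A).coeff =
      (AddMonoidAlgebra.single (0 : ℤ) (1 : A) + AddMonoidAlgebra.single (1 : ℤ) x :
        LaurentPolynomial A).coeff := by
    rw [← h2, ← psiHom_PhiMap A n (a, e)]
    exact h1
  rw [AddMonoidAlgebra.coeff_add, AddMonoidAlgebra.coeff_single, AddMonoidAlgebra.coeff_single,
    AddMonoidAlgebra.coeff_single] at h3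
  have h40 := DFunLike.congr_fun h3 0
  have h41 := DFunLike.congr_fun h3 1
  simp only [Finsupp.add_apply, Finsupp.single_apply] at h40 h41
  have hne0 : (n : ℤ) * e = 0 := by
    by_contra hne
    rw [if_neg hne] at h40
    simp at h40
  rw [hne0] at h41
  simpa using h41.symm

theorem surj_of_reduced [Nontrivial A] [IsReduced A]
    (hconn : ∀ e : A, IsIdempotentElem e → e = 0 ∨ e = 1) (hn : 0 < n) :
    Function.Surjective (PhiMap A n) := by
  intro u
  obtain ⟨⟨f, df⟩, hf⟩ := IsLocalization.surj (Submonoid.powers (Dm A n))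
    ((u : (Localization.Away (Dm A n))ˣ) : Localization.Away (Dm A n))
  obtain ⟨⟨g, dg⟩, hg⟩ := IsLocalization.surj (Submonoid.powers (Dm A n))
    ((u⁻¹ : (Localization.Away (Dm A n))ˣ) : Localization.Away (Dm A n))
  obtain ⟨r, hr⟩ := (Submonoid.mem_powers_iff _ _).1 df.2
  obtain ⟨s, hs⟩ := (Submonoid.mem_powers_iff _ _).1 dg.2
  simp only at hf hg
  rw [← hr] at hf
  rw [← hs] at hg
  have h1 : algebraMap (MvPolynomial (Fin n × Fin n) A) (Localization.Away (Dm A n)) (f * g) =
      algebraMap (MvPolynomial (Fin n × Fin n) A) (Localization.Away (Dm A n))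
        ((Dm A n) ^ (r + s)) := by
    rw [map_mul, ← hf, ← hg, pow_add, map_mul, mul_mul_mul_comm, Units.mul_inv, one_mul]
  obtain ⟨⟨dc, hdc⟩, hc⟩ := (IsLocalization.eq_iff_exists (Submonoid.powers (Dm A n))
    (Localization.Away (Dm A n))).1 h1
  obtain ⟨c, hcc⟩ := (Submonoid.mem_powers_iff _ _).1 hdc
  simp only at hc
  rw [← hcc] at hc
  have h2 : ((Dm A n) ^ c * f) * g = (Dm A n) ^ (c + (r + s)) := by
    rw [mul_assoc, hc, ← pow_add]
  obtain ⟨a, k, hk⟩ := factor_reduced A n hconn hn _ _ _ h2
  refine ⟨(a, (k : ℤ) - c - r), ?_⟩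
  have hkey : Units.map (algebraMap A (Localization.Away (Dm A n))).toMonoidHom a *
      (dUnit A n) ^ k = (dUnit A n) ^ c * (u * (dUnit A n) ^ r) := by
    apply Units.ext
    rw [Units.val_mul, Units.val_mul, Units.val_mul, Units.val_pow_eq_pow_val,
      Units.val_pow_eq_pow_val, Units.val_pow_eq_pow_val, dUnit_val]
    show algebraMap A (Localization.Away (Dm A n)) (a : A) * _ = _
    rw [← map_pow, ← map_pow, ← map_pow, hf, ← map_mul, hk, map_mul,
      IsScalarTower.algebraMap_apply A (MvPolynomial (Fin n × Fin n) A)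
        (Localization.Away (Dm A n)), MvPolynomial.algebraMap_eq]
  have e1 : (dUnit A n) ^ ((k : ℤ) - c - r) * (dUnit A n) ^ ((c : ℤ) + r) =
      (dUnit A n) ^ (k : ℤ) := by
    rw [← zpow_add]; congr 1; ring
  have h3 : PhiMap A n (a, (k : ℤ) - c - r) * (dUnit A n) ^ ((c : ℤ) + r) =
      u * (dUnit A n) ^ ((c : ℤ) + r) := by
    rw [PhiMap, mul_assoc, e1, zpow_natCast, hkey, zpow_add, zpow_natCast, zpow_natCast,
      mul_left_comm]
  exact mul_right_cancel h3

end main

/-- Units of GL_n: let A be a nonzero commutative ring whose only idempotents are 0 and 1, let n ≥ 1,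
let det be the determinant of the generic n × n matrix in the polynomial ring A[X] in its n²
entries, and let A[X, 1/det] be the coordinate ring of GL_n over A. The homomorphism Aˣ × ℤ → (A[X,
1/det])ˣ, (a, e) ↦ a · det^e, is bijective if and only if A is reduced. (The published statement
allows Spec A disconnected, with exponents locally constant ℤ-valued functions on Spec A; this row
is the connected case, to which the published proof reduces.) -/
theorem result (A : Type u) [CommRing A] [Nontrivial A]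
    (hconn : ∀ e : A, IsIdempotentElem e → e = 0 ∨ e = 1) (n : ℕ) (hn : 0 < n) :
    Function.Bijective (fun p : Aˣ × ℤ =>
        Units.map (algebraMap A (Localization.Away (Matrix.mvPolynomialX (Fin n) (Fin n) A).det)).toMonoidHom p.1 *
          (IsLocalization.Away.algebraMap_isUnit (S := Localization.Away (Matrix.mvPolynomialX (Fin n) (Fin n) A).det)
            (Matrix.mvPolynomialX (Fin n) (Fin n) A).det).unit ^ p.2) ↔ IsReduced A := by
  constructor
  · intro h
    exact reduced_of_surj A n hn h.2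
  · intro h
    haveI := h
    exact ⟨PhiMap_injective A n hn, surj_of_reduced A n hconn hn⟩

end Groth.Agent.S13788
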