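import Groth.Statements.S13790
import Groth.Agent.S13789

set_option autoImplicit false
universe u
open CAlg

namespace Groth.Agent.S13790

/-- Let A be a commutative ring with total ring of fractions Q and let B be a ring with A ⊆ B ⊆ Q. Then
Q, with the inclusion B ⊆ Q, is the total ring of fractions of B. -/
theorem result {A Q : Type u} [CommRing A] [CommRing Q] [Algebra A Q] [IsFractionRing A Q] (B : Subalgebra A Q) :
    IsFractionRing B Q := by
  obtain ⟨h1, h2⟩ := Groth.Agent.S13789.result (A := A) (Q := Q) B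
  change IsLocalization (nonZeroDivisors B) Q
  rw [isLocalization_iff]
  refine ⟨?_, ?_, ?_⟩
  · rintro ⟨b, hb⟩
    obtain ⟨r, u, hr, hu, h⟩ := h2 b hb
    have hru : IsUnit (algebraMap A Q r) := IsLocalization.map_units Q ⟨r, hr⟩
    have : IsUnit ((b : Q) * algebraMap A Q u) := by rw [h]; exact hru
    exact isUnit_of_mul_isUnit_left this
  · intro z
    obtain ⟨⟨a, s⟩, h⟩ := IsLocalization.surj (nonZeroDivisors A) z
    exact ⟨⟨algebraMap A B a, ⟨algebraMap A B s, h1 s s.2⟩⟩, h⟩
  · intro x y hxy
    refine ⟨1, ?_⟩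
    have : x = y := Subtype.ext hxy
    rw [this]

end Groth.Agent.S13790
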