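import Groth.Statements.S13791
import Groth.Agent.H67.ConstH1

set_option autoImplicit false
universe u
open CategoryTheory
open CohSite

namespace Groth.Agent.S13791

/-- On a site, for a short exact sequence 0 → A → B → C → 0 of abelian groups the map H¹(A) → H¹(B) on
the first cohomology of the associated constant sheaves is injective. Stated for an injective
homomorphism f : A → B (C being its cokernel), with H¹ the Ext-based sheaf cohomology of the site. -/
theorem result {C : Type u} [SmallCategory C] (J : GrothendieckTopology C)
    {A B : Type u} [AddCommGroup A] [AddCommGroup B] (f : A →+ B) (hf : Function.Injective f) :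
    Function.Injective
      (Sheaf.H.map ((constantSheaf J AddCommGrpCat.{u}).map (AddCommGrpCat.ofHom f)) 1) := by
  classical
  have hw : AddCommGrpCat.ofHom f ≫ AddCommGrpCat.ofHom (QuotientAddGroup.mk' f.range) = 0 := by
    ext a
    exact (QuotientAddGroup.eq_zero_iff _).2 ⟨a, rfl⟩
  let S₀ : ShortComplex AddCommGrpCat.{u} :=
    ShortComplex.mk (AddCommGrpCat.ofHom f)
      (AddCommGrpCat.ofHom (QuotientAddGroup.mk' f.range)) hw
  have hS₀ : S₀.ShortExact := by
    have h1 : Mono S₀.f := (AddCommGrpCat.mono_iff_injective _).2 hf
    have h2 : Epi S₀.g :=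
      (AddCommGrpCat.epi_iff_surjective _).2 (QuotientAddGroup.mk'_surjective _)
    have h3 : S₀.Exact := by
      rw [ShortComplex.ab_exact_iff]
      intro b hb
      have hb' : (QuotientAddGroup.mk' f.range) b = 0 := hb
      exact (QuotientAddGroup.eq_zero_iff _).1 hb'
    exact ShortComplex.ShortExact.mk' h3 h1 h2
  exact Groth.Agent.H67.ConstH1.H1_injective J S₀ hS₀

end Groth.Agent.S13791
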