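import Groth.Statements.S13793
import Groth.Agent.H43.TorusUnits

set_option autoImplicit false
universe u
open CAlg

namespace Groth.Agent.S13793
open AddMonoidAlgebra

/-! ### generalities on group algebras -/

section Gen

variable {A : Type*} [CommRing A]

/-- Products of elements all of whose coefficients lie in a square-zero ideal vanish. -/
theorem mul_eq_zero_of_coeff_mem {M : Type*} [AddMonoid M] (J : Ideal A) (hJ : J * J = ⊥)
    (x y : AddMonoidAlgebra A M) (hx : ∀ e, x.coeff e ∈ J) (hy : ∀ e, y.coeff e ∈ J) :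
    x * y = 0 := by
  rw [AddMonoidAlgebra.mul_def]
  unfold Finsupp.sum
  refine Finset.sum_eq_zero fun a _ => Finset.sum_eq_zero fun b _ => ?_
  have h0 : x.coeff a * y.coeff b = 0 := by
    have h := Ideal.mul_mem_mul (hx a) (hy b)
    rwa [hJ, Ideal.mem_bot] at h
  show AddMonoidAlgebra.single (a + b) (x.coeff a * y.coeff b) = 0
  rw [h0, AddMonoidAlgebra.single_zero]

/-- Coefficients of the image under an injective-with-explicit-inverse map of exponents. -/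
theorem coeff_mapDomain_of {M N : Type*} [AddMonoid M] [AddMonoid N] (f : M →+ N) (g : N → M)
    (P : N → Prop) [DecidablePred P] (h : ∀ e w, f e = w ↔ (P w ∧ e = g w))
    (x : AddMonoidAlgebra A M) (w : N) :
    (AddMonoidAlgebra.mapDomainRingHom A f x).coeff w = if P w then x.coeff (g w) else 0 := by
  classical
  induction x using AddMonoidAlgebra.induction_linear with
  | zero => simp
  | add x y hx hy =>
    rw [map_add, AddMonoidAlgebra.coeff_add, Finsupp.add_apply, hx, hy,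
      AddMonoidAlgebra.coeff_add, Finsupp.add_apply]
    split_ifs <;> simp
  | single m r =>
    rw [AddMonoidAlgebra.mapDomainRingHom_apply, AddMonoidAlgebra.mapDomain_single,
      AddMonoidAlgebra.coeff_single, AddMonoidAlgebra.coeff_single, Finsupp.single_apply,
      Finsupp.single_apply]
    by_cases hw : f m = w
    · obtain ⟨h1, h2⟩ := (h m w).mp hw
      rw [if_pos hw, if_pos h1, if_pos h2]
    · rw [if_neg hw]
      by_cases h1 : P w
      · rw [if_pos h1, if_neg (fun h2 => hw ((h m w).mpr ⟨h1, h2⟩))]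
      · rw [if_neg h1]

/-- Base change of coefficients commutes with maps of exponents. -/
theorem map_mapDomain {B : Type*} [CommRing B] (π : A →+* B) {M N : Type*} [AddMonoid M]
    [AddMonoid N] (f : M →+ N) (x : AddMonoidAlgebra A M) :
    AddMonoidAlgebra.mapRingHom N π (AddMonoidAlgebra.mapDomainRingHom A f x) =
      AddMonoidAlgebra.mapDomainRingHom B f (AddMonoidAlgebra.mapRingHom M π x) := by
  induction x using AddMonoidAlgebra.induction_linear with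
  | zero => simp
  | add x y hx hy => rw [map_add, map_add, hx, hy, map_add, map_add]
  | single m r =>
    rw [AddMonoidAlgebra.mapDomainRingHom_apply, AddMonoidAlgebra.mapDomain_single,
      AddMonoidAlgebra.mapRingHom_single, AddMonoidAlgebra.mapRingHom_single,
      AddMonoidAlgebra.mapDomainRingHom_apply, AddMonoidAlgebra.mapDomain_single]

theorem comm_group_identity {G : Type*} [CommGroup G] (p q r s t w : G) :
    p * q⁻¹ * r * (p * s⁻¹ * t)⁻¹ * (q * s⁻¹ * w) * (r * t⁻¹ * w)⁻¹ = 1 := by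
  simp only [mul_inv, inv_inv]
  calc _ = (p * p⁻¹) * (q * q⁻¹) * (r * r⁻¹) * (s * s⁻¹) * (t * t⁻¹) * (w * w⁻¹) := by ac_rfl
    _ = 1 := by simp

end Gen

/-! ### the coface maps -/

abbrev f0 : (Fin 2 → ℤ) →+ (Fin 3 → ℤ) :=
  (Matrix.mulVecLin (!![0, 0; 1, 0; 0, 1] : Matrix (Fin 3) (Fin 2) ℤ)).toAddMonoidHom
abbrev f1 : (Fin 2 → ℤ) →+ (Fin 3 → ℤ) :=
  (Matrix.mulVecLin (!![1, 0; 1, 0; 0, 1] : Matrix (Fin 3) (Fin 2) ℤ)).toAddMonoidHom
abbrev f2 : (Fin 2 → ℤ) →+ (Fin 3 → ℤ) :=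
  (Matrix.mulVecLin (!![1, 0; 0, 1; 0, 1] : Matrix (Fin 3) (Fin 2) ℤ)).toAddMonoidHom
abbrev f3 : (Fin 2 → ℤ) →+ (Fin 3 → ℤ) :=
  (Matrix.mulVecLin (!![1, 0; 0, 1; 0, 0] : Matrix (Fin 3) (Fin 2) ℤ)).toAddMonoidHom
abbrev g0 : (Fin 1 → ℤ) →+ (Fin 2 → ℤ) :=
  (Matrix.mulVecLin (!![0; 1] : Matrix (Fin 2) (Fin 1) ℤ)).toAddMonoidHom
abbrev g1 : (Fin 1 → ℤ) →+ (Fin 2 → ℤ) :=
  (Matrix.mulVecLin (!![1; 1] : Matrix (Fin 2) (Fin 1) ℤ)).toAddMonoidHom
abbrev g2 : (Fin 1 → ℤ) →+ (Fin 2 → ℤ) :=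
  (Matrix.mulVecLin (!![1; 0] : Matrix (Fin 2) (Fin 1) ℤ)).toAddMonoidHom

theorem f0_apply (e : Fin 2 → ℤ) : f0 e = ![0, e 0, e 1] := by
  funext i; fin_cases i <;> simp [f0, Matrix.mulVec, dotProduct, Fin.sum_univ_two]
theorem f1_apply (e : Fin 2 → ℤ) : f1 e = ![e 0, e 0, e 1] := by
  funext i; fin_cases i <;> simp [f1, Matrix.mulVec, dotProduct, Fin.sum_univ_two]
theorem f2_apply (e : Fin 2 → ℤ) : f2 e = ![e 0, e 1, e 1] := by
  funext i; fin_cases i <;> simp [f2, Matrix.mulVec, dotProduct, Fin.sum_univ_two]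
theorem f3_apply (e : Fin 2 → ℤ) : f3 e = ![e 0, e 1, 0] := by
  funext i; fin_cases i <;> simp [f3, Matrix.mulVec, dotProduct, Fin.sum_univ_two]
theorem g0_apply (e : Fin 1 → ℤ) : g0 e = ![0, e 0] := by
  funext i; fin_cases i <;> simp [g0, Matrix.mulVec, dotProduct]
theorem g1_apply (e : Fin 1 → ℤ) : g1 e = ![e 0, e 0] := by
  funext i; fin_cases i <;> simp [g1, Matrix.mulVec, dotProduct]
theorem g2_apply (e : Fin 1 → ℤ) : g2 e = ![e 0, 0] := by
  funext i; fin_cases i <;> simp [g2, Matrix.mulVec, dotProduct]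

theorem f0_iff (e : Fin 2 → ℤ) (v : Fin 3 → ℤ) : f0 e = v ↔ (v 0 = 0 ∧ e = ![v 1, v 2]) := by
  rw [f0_apply]
  constructor
  · rintro rfl
    refine ⟨rfl, ?_⟩
    funext i; fin_cases i <;> rfl
  · rintro ⟨h0, rfl⟩
    funext i; fin_cases i <;> simp [h0]
theorem f1_iff (e : Fin 2 → ℤ) (v : Fin 3 → ℤ) : f1 e = v ↔ (v 0 = v 1 ∧ e = ![v 0, v 2]) := by
  rw [f1_apply]
  constructor
  · rintro rfl
    refine ⟨rfl, ?_⟩
    funext i; fin_cases i <;> rfl
  · rintro ⟨h0, rfl⟩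
    funext i; fin_cases i <;> simp [h0]
theorem f2_iff (e : Fin 2 → ℤ) (v : Fin 3 → ℤ) : f2 e = v ↔ (v 1 = v 2 ∧ e = ![v 0, v 1]) := by
  rw [f2_apply]
  constructor
  · rintro rfl
    refine ⟨rfl, ?_⟩
    funext i; fin_cases i <;> rfl
  · rintro ⟨h0, rfl⟩
    funext i; fin_cases i <;> simp [h0]
theorem f3_iff (e : Fin 2 → ℤ) (v : Fin 3 → ℤ) : f3 e = v ↔ (v 2 = 0 ∧ e = ![v 0, v 1]) := by
  rw [f3_apply]
  constructor
  · rintro rfl
    refine ⟨rfl, ?_⟩
    funext i; fin_cases i <;> rfl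
  · rintro ⟨h0, rfl⟩
    funext i; fin_cases i <;> simp [h0]
theorem g0_iff (e : Fin 1 → ℤ) (w : Fin 2 → ℤ) : g0 e = w ↔ (w 0 = 0 ∧ e = ![w 1]) := by
  rw [g0_apply]
  constructor
  · rintro rfl
    refine ⟨rfl, ?_⟩
    funext i; fin_cases i; rfl
  · rintro ⟨h0, rfl⟩
    funext i; fin_cases i <;> simp [h0]
theorem g1_iff (e : Fin 1 → ℤ) (w : Fin 2 → ℤ) : g1 e = w ↔ (w 0 = w 1 ∧ e = ![w 0]) := by
  rw [g1_apply]
  constructor
  · rintro rfl
    refine ⟨rfl, ?_⟩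
    funext i; fin_cases i; rfl
  · rintro ⟨h0, rfl⟩
    funext i; fin_cases i <;> simp [h0]
theorem g2_iff (e : Fin 1 → ℤ) (w : Fin 2 → ℤ) : g2 e = w ↔ (w 1 = 0 ∧ e = ![w 0]) := by
  rw [g2_apply]
  constructor
  · rintro rfl
    refine ⟨rfl, ?_⟩
    funext i; fin_cases i; rfl
  · rintro ⟨h0, rfl⟩
    funext i; fin_cases i <;> simp [h0]

theorem g2_inj : Function.Injective (g2 : (Fin 1 → ℤ) → (Fin 2 → ℤ)) := by
  intro e e' h
  have h1 := ((g2_iff e (g2 e')).mp h).2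
  have h2 := ((g2_iff e' (g2 e')).mp rfl).2
  rw [h1, ← h2]

theorem c00 : f0.comp g0 = f1.comp g0 := by
  refine AddMonoidHom.ext fun e => ?_
  rw [AddMonoidHom.comp_apply, AddMonoidHom.comp_apply, g0_apply, f0_apply, f1_apply]
  funext i; fin_cases i <;> simp
theorem c01 : f0.comp g1 = f2.comp g0 := by
  refine AddMonoidHom.ext fun e => ?_
  rw [AddMonoidHom.comp_apply, AddMonoidHom.comp_apply, g0_apply, g1_apply, f0_apply, f2_apply]
  funext i; fin_cases i <;> simp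
theorem c02 : f0.comp g2 = f3.comp g0 := by
  refine AddMonoidHom.ext fun e => ?_
  rw [AddMonoidHom.comp_apply, AddMonoidHom.comp_apply, g0_apply, g2_apply, f0_apply, f3_apply]
  funext i; fin_cases i <;> simp
theorem c11 : f1.comp g1 = f2.comp g1 := by
  refine AddMonoidHom.ext fun e => ?_
  rw [AddMonoidHom.comp_apply, AddMonoidHom.comp_apply, g1_apply, f1_apply, f2_apply]
  funext i; fin_cases i <;> simp
theorem c12 : f1.comp g2 = f3.comp g1 := by
  refine AddMonoidHom.ext fun e => ?_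
  rw [AddMonoidHom.comp_apply, AddMonoidHom.comp_apply, g1_apply, g2_apply, f1_apply, f3_apply]
  funext i; fin_cases i <;> simp
theorem c22 : f2.comp g2 = f3.comp g2 := by
  refine AddMonoidHom.ext fun e => ?_
  rw [AddMonoidHom.comp_apply, AddMonoidHom.comp_apply, g2_apply, f2_apply, f3_apply]
  funext i; fin_cases i <;> simp

/-! ### the complex of unit groups -/

section Cx

variable (A : Type*) [CommRing A]

abbrev L (p : ℕ) : Type _ := AddMonoidAlgebra A (Fin p → ℤ)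

noncomputable abbrev d0 : L A 2 →+* L A 3 := AddMonoidAlgebra.mapDomainRingHom A f0
noncomputable abbrev d1 : L A 2 →+* L A 3 := AddMonoidAlgebra.mapDomainRingHom A f1
noncomputable abbrev d2 : L A 2 →+* L A 3 := AddMonoidAlgebra.mapDomainRingHom A f2
noncomputable abbrev d3 : L A 2 →+* L A 3 := AddMonoidAlgebra.mapDomainRingHom A f3
noncomputable abbrev e0 : L A 1 →+* L A 2 := AddMonoidAlgebra.mapDomainRingHom A g0
noncomputable abbrev e1 : L A 1 →+* L A 2 := AddMonoidAlgebra.mapDomainRingHom A g1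
noncomputable abbrev e2 : L A 1 →+* L A 2 := AddMonoidAlgebra.mapDomainRingHom A g2

noncomputable abbrev D0 : (L A 2)ˣ →* (L A 3)ˣ := Units.map (d0 A).toMonoidHom
noncomputable abbrev D1 : (L A 2)ˣ →* (L A 3)ˣ := Units.map (d1 A).toMonoidHom
noncomputable abbrev D2 : (L A 2)ˣ →* (L A 3)ˣ := Units.map (d2 A).toMonoidHom
noncomputable abbrev D3 : (L A 2)ˣ →* (L A 3)ˣ := Units.map (d3 A).toMonoidHom
noncomputable abbrev E0 : (L A 1)ˣ →* (L A 2)ˣ := Units.map (e0 A).toMonoidHom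
noncomputable abbrev E1 : (L A 1)ˣ →* (L A 2)ˣ := Units.map (e1 A).toMonoidHom
noncomputable abbrev E2 : (L A 1)ˣ →* (L A 2)ˣ := Units.map (e2 A).toMonoidHom

/-- The differential on 2-cochains. -/
noncomputable def cocU : (L A 2)ˣ →* (L A 3)ˣ := D0 A * (D1 A)⁻¹ * D2 A * (D3 A)⁻¹

/-- The differential on 1-cochains. -/
noncomputable def cobU : (L A 1)ˣ →* (L A 2)ˣ := E0 A * (E1 A)⁻¹ * E2 A

theorem cocU_apply (ξ : (L A 2)ˣ) :
    cocU A ξ = D0 A ξ * (D1 A ξ)⁻¹ * D2 A ξ * (D3 A ξ)⁻¹ := rfl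

theorem cobU_apply (η : (L A 1)ˣ) : cobU A η = E0 A η * (E1 A η)⁻¹ * E2 A η := rfl

/-- ring-level cocycle condition -/
def IsCoc (x : L A 2) : Prop := d0 A x * d2 A x = d1 A x * d3 A x

/-- ring-level coboundary condition -/
def IsCob (x : L A 2) (y : L A 1) : Prop := x * e1 A y = e0 A y * e2 A y

theorem isCoc_of_cocU (ξ : (L A 2)ˣ) (h : cocU A ξ = 1) : IsCoc A (ξ : L A 2) := by
  rw [cocU_apply] at h
  have h1 : D0 A ξ * (D1 A ξ)⁻¹ * D2 A ξ = D3 A ξ := mul_inv_eq_one.mp h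
  have h2 : D0 A ξ * D2 A ξ = D3 A ξ * D1 A ξ := by
    rw [mul_right_comm] at h1
    exact mul_inv_eq_iff_eq_mul.mp h1
  have h3 := congrArg Units.val h2
  rw [Units.val_mul, Units.val_mul] at h3
  unfold IsCoc
  rw [mul_comm (d1 A _)]
  exact h3

theorem cobU_of_isCob (ξ : (L A 2)ˣ) (η : (L A 1)ˣ) (h : IsCob A (ξ : L A 2) (η : L A 1)) :
    ξ = cobU A η := by
  rw [cobU_apply]
  have h2 : ξ * E1 A η = E0 A η * E2 A η := Units.ext h
  rw [mul_right_comm]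
  exact eq_mul_inv_of_mul_eq h2

theorem dd_ring {f f' : (Fin 2 → ℤ) →+ (Fin 3 → ℤ)} {g g' : (Fin 1 → ℤ) →+ (Fin 2 → ℤ)}
    (h : f.comp g = f'.comp g') (η : (L A 1)ˣ) :
    Units.map (AddMonoidAlgebra.mapDomainRingHom A f).toMonoidHom
      (Units.map (AddMonoidAlgebra.mapDomainRingHom A g).toMonoidHom η) =
    Units.map (AddMonoidAlgebra.mapDomainRingHom A f').toMonoidHom
      (Units.map (AddMonoidAlgebra.mapDomainRingHom A g').toMonoidHom η) := by
  apply Units.ext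
  show AddMonoidAlgebra.mapDomainRingHom A f (AddMonoidAlgebra.mapDomainRingHom A g (η : L A 1)) =
    AddMonoidAlgebra.mapDomainRingHom A f' (AddMonoidAlgebra.mapDomainRingHom A g' (η : L A 1))
  have h1 : ∀ (p : (Fin 2 → ℤ) →+ (Fin 3 → ℤ)) (q : (Fin 1 → ℤ) →+ (Fin 2 → ℤ)) (x : L A 1),
      AddMonoidAlgebra.mapDomainRingHom A p (AddMonoidAlgebra.mapDomainRingHom A q x) =
        AddMonoidAlgebra.mapDomainRingHom A (p.comp q) x := by
    intro p q x
    rw [AddMonoidAlgebra.mapDomainRingHom_comp]; rfl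
  rw [h1, h1, h]

theorem cocU_cobU (η : (L A 1)ˣ) : cocU A (cobU A η) = 1 := by
  rw [cobU_apply, cocU_apply]
  simp only [map_mul, map_inv]
  have h00 : D0 A (E0 A η) = D1 A (E0 A η) := dd_ring A c00 η
  have h01 : D0 A (E1 A η) = D2 A (E0 A η) := dd_ring A c01 η
  have h02 : D0 A (E2 A η) = D3 A (E0 A η) := dd_ring A c02 η
  have h11 : D1 A (E1 A η) = D2 A (E1 A η) := dd_ring A c11 η
  have h12 : D1 A (E2 A η) = D3 A (E1 A η) := dd_ring A c12 η
  have h22 : D2 A (E2 A η) = D3 A (E2 A η) := dd_ring A c22 η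
  rw [h00, h01, h02, h11, h12, h22]
  exact comm_group_identity _ _ _ _ _ _

/-! coefficient formulas -/

theorem coeff_d0' (ν : L A 2) (v : Fin 3 → ℤ) :
    (d0 A ν).coeff v = if v 0 = 0 then ν.coeff ![v 1, v 2] else 0 :=
  coeff_mapDomain_of f0 (fun v => ![v 1, v 2]) (fun v => v 0 = 0) f0_iff ν v
theorem coeff_d1' (ν : L A 2) (v : Fin 3 → ℤ) :
    (d1 A ν).coeff v = if v 0 = v 1 then ν.coeff ![v 0, v 2] else 0 :=
  coeff_mapDomain_of f1 (fun v => ![v 0, v 2]) (fun v => v 0 = v 1) f1_iff ν v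
theorem coeff_d2' (ν : L A 2) (v : Fin 3 → ℤ) :
    (d2 A ν).coeff v = if v 1 = v 2 then ν.coeff ![v 0, v 1] else 0 :=
  coeff_mapDomain_of f2 (fun v => ![v 0, v 1]) (fun v => v 1 = v 2) f2_iff ν v
theorem coeff_d3' (ν : L A 2) (v : Fin 3 → ℤ) :
    (d3 A ν).coeff v = if v 2 = 0 then ν.coeff ![v 0, v 1] else 0 :=
  coeff_mapDomain_of f3 (fun v => ![v 0, v 1]) (fun v => v 2 = 0) f3_iff ν v
theorem coeff_e0' (μ : L A 1) (w : Fin 2 → ℤ) :
    (e0 A μ).coeff w = if w 0 = 0 then μ.coeff ![w 1] else 0 :=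
  coeff_mapDomain_of g0 (fun w => ![w 1]) (fun w => w 0 = 0) g0_iff μ w
theorem coeff_e1' (μ : L A 1) (w : Fin 2 → ℤ) :
    (e1 A μ).coeff w = if w 0 = w 1 then μ.coeff ![w 0] else 0 :=
  coeff_mapDomain_of g1 (fun w => ![w 0]) (fun w => w 0 = w 1) g1_iff μ w
theorem coeff_e2' (μ : L A 1) (w : Fin 2 → ℤ) :
    (e2 A μ).coeff w = if w 1 = 0 then μ.coeff ![w 0] else 0 :=
  coeff_mapDomain_of g2 (fun w => ![w 0]) (fun w => w 1 = 0) g2_iff μ w

theorem coeff_d0 (ν : L A 2) (a b c : ℤ) :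
    (d0 A ν).coeff ![a, b, c] = if a = 0 then ν.coeff ![b, c] else 0 := coeff_d0' A ν ![a, b, c]
theorem coeff_d1 (ν : L A 2) (a b c : ℤ) :
    (d1 A ν).coeff ![a, b, c] = if a = b then ν.coeff ![a, c] else 0 := coeff_d1' A ν ![a, b, c]
theorem coeff_d2 (ν : L A 2) (a b c : ℤ) :
    (d2 A ν).coeff ![a, b, c] = if b = c then ν.coeff ![a, b] else 0 := coeff_d2' A ν ![a, b, c]
theorem coeff_d3 (ν : L A 2) (a b c : ℤ) :
    (d3 A ν).coeff ![a, b, c] = if c = 0 then ν.coeff ![a, b] else 0 := coeff_d3' A ν ![a, b, c]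
theorem coeff_e0 (μ : L A 1) (a b : ℤ) :
    (e0 A μ).coeff ![a, b] = if a = 0 then μ.coeff ![b] else 0 := coeff_e0' A μ ![a, b]
theorem coeff_e1 (μ : L A 1) (a b : ℤ) :
    (e1 A μ).coeff ![a, b] = if a = b then μ.coeff ![a] else 0 := coeff_e1' A μ ![a, b]
theorem coeff_e2 (μ : L A 1) (a b : ℤ) :
    (e2 A μ).coeff ![a, b] = if b = 0 then μ.coeff ![a] else 0 := coeff_e2' A μ ![a, b]

end Cx

/-! ### base change of the coefficient ring -/

section BC

variable {A : Type*} [CommRing A] {B : Type*} [CommRing B] (π : A →+* B)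

noncomputable abbrev PiR (p : ℕ) : L A p →+* L B p := AddMonoidAlgebra.mapRingHom (Fin p → ℤ) π

noncomputable abbrev PiU (p : ℕ) : (L A p)ˣ →* (L B p)ˣ := Units.map (PiR π p).toMonoidHom

theorem PiU_nat {p q : ℕ} (f : (Fin p → ℤ) →+ (Fin q → ℤ)) (ξ : (L A p)ˣ) :
    PiU π q (Units.map (AddMonoidAlgebra.mapDomainRingHom A f).toMonoidHom ξ) =
      Units.map (AddMonoidAlgebra.mapDomainRingHom B f).toMonoidHom (PiU π p ξ) :=
  Units.ext (map_mapDomain π f _)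

theorem PiU_cocU (ξ : (L A 2)ˣ) : PiU π 3 (cocU A ξ) = cocU B (PiU π 2 ξ) := by
  rw [cocU_apply, cocU_apply]
  simp only [map_mul, map_inv]
  have h0 : PiU π 3 (D0 A ξ) = D0 B (PiU π 2 ξ) := PiU_nat π f0 ξ
  have h1 : PiU π 3 (D1 A ξ) = D1 B (PiU π 2 ξ) := PiU_nat π f1 ξ
  have h2 : PiU π 3 (D2 A ξ) = D2 B (PiU π 2 ξ) := PiU_nat π f2 ξ
  have h3 : PiU π 3 (D3 A ξ) = D3 B (PiU π 2 ξ) := PiU_nat π f3 ξ
  rw [h0, h1, h2, h3]

theorem PiU_cobU (η : (L A 1)ˣ) : PiU π 2 (cobU A η) = cobU B (PiU π 1 η) := by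
  rw [cobU_apply, cobU_apply]
  simp only [map_mul, map_inv]
  have h0 : PiU π 2 (E0 A η) = E0 B (PiU π 1 η) := PiU_nat π g0 η
  have h1 : PiU π 2 (E1 A η) = E1 B (PiU π 1 η) := PiU_nat π g1 η
  have h2 : PiU π 2 (E2 A η) = E2 B (PiU π 1 η) := PiU_nat π g2 η
  rw [h0, h1, h2]

end BC

/-! ### the square-zero case -/

theorem sq_zero (A : Type*) [CommRing A] (J : Ideal A) (hJ : J * J = ⊥) (ξ : (L A 2)ˣ)
    (hcoc : cocU A ξ = 1) (hξ : ∀ w, ((ξ : L A 2) - 1).coeff w ∈ J) :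
    ∃ η : (L A 1)ˣ, ξ = cobU A η := by
  classical
  have hc : IsCoc A (ξ : L A 2) := isCoc_of_cocU A ξ hcoc
  obtain ⟨ν, hν⟩ : ∃ ν : L A 2, ν = (ξ : L A 2) - 1 := ⟨_, rfl⟩
  have hξν : (ξ : L A 2) = 1 + ν := by rw [hν]; ring
  have hνJ : ∀ w, ν.coeff w ∈ J := by rw [hν]; exact hξ
  have m0 : ∀ v, (d0 A ν).coeff v ∈ J := fun v => by
    rw [coeff_d0']; split_ifs
    · exact hνJ _
    · exact J.zero_mem
  have m1 : ∀ v, (d1 A ν).coeff v ∈ J := fun v => by
    rw [coeff_d1']; split_ifs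
    · exact hνJ _
    · exact J.zero_mem
  have m2 : ∀ v, (d2 A ν).coeff v ∈ J := fun v => by
    rw [coeff_d2']; split_ifs
    · exact hνJ _
    · exact J.zero_mem
  have m3 : ∀ v, (d3 A ν).coeff v ∈ J := fun v => by
    rw [coeff_d3']; split_ifs
    · exact hνJ _
    · exact J.zero_mem
  have hadd : d0 A ν + d2 A ν = d1 A ν + d3 A ν := by
    have h : d0 A (ξ : L A 2) * d2 A (ξ : L A 2) = d1 A (ξ : L A 2) * d3 A (ξ : L A 2) := hc
    rw [hξν] at h
    simp only [map_add, map_one] at h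
    have p02 : d0 A ν * d2 A ν = 0 := mul_eq_zero_of_coeff_mem J hJ _ _ m0 m2
    have p13 : d1 A ν * d3 A ν = 0 := mul_eq_zero_of_coeff_mem J hJ _ _ m1 m3
    have e1 : (1 + d0 A ν) * (1 + d2 A ν) = 1 + (d0 A ν + d2 A ν) + d0 A ν * d2 A ν := by ring
    have e2 : (1 + d1 A ν) * (1 + d3 A ν) = 1 + (d1 A ν + d3 A ν) + d1 A ν * d3 A ν := by ring
    rw [e1, e2, p02, p13, add_zero, add_zero] at h
    exact add_left_cancel h
  obtain ⟨μ, hμdef⟩ : ∃ μ : L A 1, μ = AddMonoidAlgebra.comapDomain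
      (g2 : (Fin 1 → ℤ) → (Fin 2 → ℤ)) g2_inj ν := ⟨_, rfl⟩
  have hμ : ∀ e, μ.coeff e = ν.coeff ![e 0, 0] := by
    intro e
    rw [hμdef, AddMonoidAlgebra.coeff_comapDomain, Finsupp.comapDomain_apply, g2_apply]
  have hμ1 : ∀ a : ℤ, μ.coeff ![a] = ν.coeff ![a, 0] := fun a => hμ ![a]
  have hμJ : ∀ e, μ.coeff e ∈ J := fun e => by rw [hμ]; exact hνJ _
  have n0 : ∀ w, (e0 A μ).coeff w ∈ J := fun w => by
    rw [coeff_e0']; split_ifs
    · exact hμJ _
    · exact J.zero_mem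
  have n1 : ∀ w, (e1 A μ).coeff w ∈ J := fun w => by
    rw [coeff_e1']; split_ifs
    · exact hμJ _
    · exact J.zero_mem
  have n2 : ∀ w, (e2 A μ).coeff w ∈ J := fun w => by
    rw [coeff_e2']; split_ifs
    · exact hμJ _
    · exact J.zero_mem
  have key : ∀ x y : ℤ, ν.coeff ![x, y] + (if x = y then ν.coeff ![x, 0] else 0) =
      (if x = 0 then ν.coeff ![y, 0] else 0) + (if y = 0 then ν.coeff ![x, 0] else 0) := by
    intro x y
    have h := congrArg (fun z => z.coeff ![x, y, 0]) hadd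
    simp only [AddMonoidAlgebra.coeff_add, Finsupp.add_apply] at h
    rw [coeff_d0, coeff_d1, coeff_d2, coeff_d3, if_pos rfl] at h
    have h' : (if y = 0 then ν.coeff ![x, y] else 0) = (if y = 0 then ν.coeff ![x, 0] else 0) := by
      split_ifs with hy
      · rw [hy]
      · rfl
    rw [h'] at h
    rw [add_comm]
    exact h.symm
  have hsum : ν + e1 A μ = e0 A μ + e2 A μ := by
    apply AddMonoidAlgebra.ext
    ext w
    have hw : w = ![w 0, w 1] := by funext i; fin_cases i <;> rfl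
    have hxy : ∀ x y : ℤ, (ν + e1 A μ).coeff ![x, y] = (e0 A μ + e2 A μ).coeff ![x, y] := by
      intro x y
      rw [AddMonoidAlgebra.coeff_add, AddMonoidAlgebra.coeff_add, Finsupp.add_apply,
        Finsupp.add_apply, coeff_e0, coeff_e1, coeff_e2]
      simp only [hμ1]
      exact key x y
    rw [hw]
    exact hxy _ _
  have hμμ : μ * μ = 0 := mul_eq_zero_of_coeff_mem J hJ _ _ hμJ hμJ
  have hunit : (1 + μ) * (1 - μ) = 1 := by
    have : (1 + μ) * (1 - μ) = 1 - μ * μ := by ring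
    rw [this, hμμ, sub_zero]
  refine ⟨⟨1 + μ, 1 - μ, hunit, by rw [mul_comm]; exact hunit⟩, ?_⟩
  apply cobU_of_isCob
  show (ξ : L A 2) * e1 A (1 + μ) = e0 A (1 + μ) * e2 A (1 + μ)
  rw [hξν]
  simp only [map_add, map_one]
  have q1 : ν * e1 A μ = 0 := mul_eq_zero_of_coeff_mem J hJ _ _ hνJ n1
  have q2 : e0 A μ * e2 A μ = 0 := mul_eq_zero_of_coeff_mem J hJ _ _ n0 n2
  have e1' : (1 + ν) * (1 + e1 A μ) = 1 + (ν + e1 A μ) + ν * e1 A μ := by ring
  have e2' : (1 + e0 A μ) * (1 + e2 A μ) = 1 + (e0 A μ + e2 A μ) + e0 A μ * e2 A μ := by ring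
  rw [e1', e2', q1, q2, hsum]

/-! ### lifting units along a square-zero quotient -/

theorem lift_unit {A : Type*} [CommRing A] (J : Ideal A) (hJJ : J * J = ⊥) (p : ℕ)
    (ηB : (L (A ⧸ J) p)ˣ) : ∃ η : (L A p)ˣ, PiU (Ideal.Quotient.mk J) p η = ηB := by
  have hsurj : Function.Surjective (PiR (Ideal.Quotient.mk J) p) := by
    rw [AddMonoidAlgebra.coe_mapRingHom]
    exact AddMonoidAlgebra.map_surjective _ Ideal.Quotient.mk_surjective
  obtain ⟨x, hx⟩ := hsurj (ηB : L (A ⧸ J) p)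
  obtain ⟨y, hy⟩ := hsurj ((ηB⁻¹ : (L (A ⧸ J) p)ˣ) : L (A ⧸ J) p)
  obtain ⟨t, ht⟩ : ∃ t, t = x * y - 1 := ⟨_, rfl⟩
  have htJ : ∀ w, t.coeff w ∈ J := by
    intro w
    have e1 : PiR (Ideal.Quotient.mk J) p t = 0 := by
      rw [ht, map_sub, map_mul, map_one, hx, hy, Units.mul_inv, sub_self]
    have e2 := congrArg (fun z => z.coeff w) e1
    simp only [AddMonoidAlgebra.coeff_mapRingHom] at e2
    exact Ideal.Quotient.eq_zero_iff_mem.mp (by simpa using e2)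
  have htt : t * t = 0 := mul_eq_zero_of_coeff_mem J hJJ t t htJ htJ
  have hxy : x * (y * (1 - t)) = 1 := by
    have h1 : x * y = 1 + t := by rw [ht]; ring
    calc x * (y * (1 - t)) = (x * y) * (1 - t) := by ring
      _ = (1 + t) * (1 - t) := by rw [h1]
      _ = 1 - t * t := by ring
      _ = 1 := by rw [htt, sub_zero]
  refine ⟨⟨x, y * (1 - t), hxy, by rw [mul_comm]; exact hxy⟩, ?_⟩
  exact Units.ext hx

/-! ### the induction step and the nilpotent case -/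

theorem step {A : Type u} [CommRing A] (N J : Ideal A) (hJJ : J * J = ⊥)
    (ih : ∀ ξB : (L (A ⧸ J) 2)ˣ, cocU (A ⧸ J) ξB = 1 →
      (∀ w, ((ξB : L (A ⧸ J) 2) - 1).coeff w ∈ N.map (Ideal.Quotient.mk J)) →
      ∃ ηB : (L (A ⧸ J) 1)ˣ, ξB = cobU (A ⧸ J) ηB)
    (ξ : (L A 2)ˣ) (hcoc : cocU A ξ = 1) (hξ : ∀ w, ((ξ : L A 2) - 1).coeff w ∈ N) :
    ∃ η : (L A 1)ˣ, ξ = cobU A η := by
  have hcocB : cocU (A ⧸ J) (PiU (Ideal.Quotient.mk J) 2 ξ) = 1 := by
    rw [← PiU_cocU, hcoc, map_one]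
  have hξB : ∀ w, (((PiU (Ideal.Quotient.mk J) 2 ξ : (L (A ⧸ J) 2)ˣ) : L (A ⧸ J) 2) - 1).coeff w ∈
      N.map (Ideal.Quotient.mk J) := by
    intro w
    have e1 : ((PiU (Ideal.Quotient.mk J) 2 ξ : (L (A ⧸ J) 2)ˣ) : L (A ⧸ J) 2) - 1 =
        PiR (Ideal.Quotient.mk J) 2 ((ξ : L A 2) - 1) := by
      rw [map_sub, map_one]; rfl
    rw [e1, AddMonoidAlgebra.coeff_mapRingHom]
    exact Ideal.mem_map_of_mem _ (hξ w)
  obtain ⟨ηB, hηB⟩ := ih _ hcocB hξB
  obtain ⟨η₁, hη₁⟩ := lift_unit J hJJ 1 ηB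
  have hcoc₁ : cocU A (ξ * (cobU A η₁)⁻¹) = 1 := by
    rw [map_mul, map_inv, cocU_cobU, hcoc, inv_one, mul_one]
  have hPiOne : PiU (Ideal.Quotient.mk J) 2 (ξ * (cobU A η₁)⁻¹) = 1 := by
    rw [map_mul, map_inv, PiU_cobU, hη₁, ← hηB, mul_inv_cancel]
  have hξ₁ : ∀ w, (((ξ * (cobU A η₁)⁻¹ : (L A 2)ˣ) : L A 2) - 1).coeff w ∈ J := by
    intro w
    have e1 : PiR (Ideal.Quotient.mk J) 2 (((ξ * (cobU A η₁)⁻¹ : (L A 2)ˣ) : L A 2) - 1) = 0 := by
      rw [map_sub, map_one, sub_eq_zero]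
      exact congrArg Units.val hPiOne
    have e2 := congrArg (fun z => z.coeff w) e1
    simp only [AddMonoidAlgebra.coeff_mapRingHom] at e2
    exact Ideal.Quotient.eq_zero_iff_mem.mp (by simpa using e2)
  obtain ⟨η₂, hη₂⟩ := sq_zero A J hJJ _ hcoc₁ hξ₁
  refine ⟨η₂ * η₁, ?_⟩
  rw [map_mul, ← hη₂, inv_mul_cancel_right]

theorem nilp_case (k : ℕ) (hk : 1 ≤ k) : ∀ (A : Type u) [CommRing A] (N : Ideal A), N ^ k = ⊥ →
    ∀ ξ : (L A 2)ˣ, cocU A ξ = 1 → (∀ w, ((ξ : L A 2) - 1).coeff w ∈ N) →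
    ∃ η : (L A 1)ˣ, ξ = cobU A η := by
  induction k, hk using Nat.le_induction with
  | base =>
    intro A _ N hN ξ hcoc hξ
    rw [pow_one] at hN
    refine ⟨1, ?_⟩
    rw [map_one]
    apply Units.ext
    have h0 : (ξ : L A 2) - 1 = 0 := by
      apply AddMonoidAlgebra.ext
      ext w
      have h := hξ w
      rw [hN, Ideal.mem_bot] at h
      rw [h]; rfl
    exact sub_eq_zero.mp h0
  | succ k hk ih =>
    intro A _ N hN ξ hcoc hξ
    have hJJ : (N ^ k) * (N ^ k) = ⊥ := by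
      have h1 : (N ^ k) * (N ^ k) = N ^ (k + k) := by rw [pow_add]
      have h2 : N ^ (k + k) ≤ N ^ (k + 1) := Ideal.pow_le_pow_right (by omega)
      rw [h1]
      exact le_bot_iff.mp (hN ▸ h2)
    have hNB : (N.map (Ideal.Quotient.mk (N ^ k))) ^ k = ⊥ := by
      rw [← Ideal.map_pow]
      exact Ideal.map_quotient_self _
    exact step N (N ^ k) hJJ
      (fun ξB h1 h2 => ih (A ⧸ N ^ k) (N.map (Ideal.Quotient.mk (N ^ k))) hNB ξB h1 h2) ξ hcoc hξ

/-! ### reduction modulo primes -/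

theorem coeff_mod_prime {A : Type*} [CommRing A] (ξ : (L A 2)ˣ) (hcoc : cocU A ξ = 1)
    (P : Ideal A) [P.IsPrime] :
    (ξ : L A 2).coeff 0 ∉ P ∧ ∀ w, w ≠ 0 → (ξ : L A 2).coeff w ∈ P := by
  classical
  have hu : IsUnit (PiR (Ideal.Quotient.mk P) 2 (ξ : L A 2)) := ξ.isUnit.map _
  obtain ⟨a, e, ha, hae⟩ := Groth.Agent.H43.TorusUnits.isUnit_pi 2 _ hu
  have hcocB : cocU (A ⧸ P) (PiU (Ideal.Quotient.mk P) 2 ξ) = 1 := by
    rw [← PiU_cocU, hcoc, map_one]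
  have hc := isCoc_of_cocU (A ⧸ P) _ hcocB
  have hc' : IsCoc (A ⧸ P) (AddMonoidAlgebra.single e a) := by
    rw [← hae]; exact hc
  unfold IsCoc at hc'
  rw [AddMonoidAlgebra.mapDomainRingHom_apply, AddMonoidAlgebra.mapDomainRingHom_apply,
    AddMonoidAlgebra.mapDomainRingHom_apply, AddMonoidAlgebra.mapDomainRingHom_apply,
    AddMonoidAlgebra.mapDomain_single, AddMonoidAlgebra.mapDomain_single,
    AddMonoidAlgebra.mapDomain_single, AddMonoidAlgebra.mapDomain_single,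
    AddMonoidAlgebra.single_mul_single, AddMonoidAlgebra.single_mul_single] at hc'
  have haa : a * a ≠ 0 := (ha.mul ha).ne_zero
  have he := (AddMonoidAlgebra.single_left_inj haa).mp hc'
  rw [f0_apply, f1_apply, f2_apply, f3_apply] at he
  have he0 : e 0 = 0 := by
    have h := congrFun he 0
    change 0 + e 0 = e 0 + e 0 at h
    omega
  have he1 : e 1 = 0 := by
    have h := congrFun he 2
    change e 1 + e 1 = e 1 + 0 at h
    omega
  have hez : e = 0 := by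
    funext i; fin_cases i
    · exact he0
    · exact he1
  subst hez
  have hco : ∀ w, (Ideal.Quotient.mk P) ((ξ : L A 2).coeff w) =
      (AddMonoidAlgebra.single (0 : Fin 2 → ℤ) a).coeff w := by
    intro w; rw [← hae, AddMonoidAlgebra.coeff_mapRingHom]
  constructor
  · intro h0
    have h := hco 0
    rw [AddMonoidAlgebra.coeff_single, Finsupp.single_eq_same,
      Ideal.Quotient.eq_zero_iff_mem.mpr h0] at h
    exact ha.ne_zero h.symm
  · intro w hw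
    have h := hco w
    rw [AddMonoidAlgebra.coeff_single, Finsupp.single_apply, if_neg (Ne.symm hw)] at h
    exact Ideal.Quotient.eq_zero_iff_mem.mp h

/-! ### constants -/

section Const

variable (A : Type*) [CommRing A]

noncomputable abbrev constU (p : ℕ) : Aˣ →* (L A p)ˣ :=
  Units.map (AddMonoidAlgebra.singleZeroRingHom : A →+* L A p).toMonoidHom

theorem constU_val (p : ℕ) (c : Aˣ) :
    ((constU A p c : (L A p)ˣ) : L A p) = AddMonoidAlgebra.single 0 (c : A) := rfl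

theorem map_constU {p q : ℕ} (f : (Fin p → ℤ) →+ (Fin q → ℤ)) (c : Aˣ) :
    Units.map (AddMonoidAlgebra.mapDomainRingHom A f).toMonoidHom (constU A p c) = constU A q c := by
  apply Units.ext
  show AddMonoidAlgebra.mapDomainRingHom A f (AddMonoidAlgebra.single 0 (c : A)) =
    AddMonoidAlgebra.single 0 (c : A)
  rw [AddMonoidAlgebra.mapDomainRingHom_apply, AddMonoidAlgebra.mapDomain_single, map_zero]

theorem cocU_constU (c : Aˣ) : cocU A (constU A 2 c) = 1 := by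
  rw [cocU_apply]
  have h0 : D0 A (constU A 2 c) = constU A 3 c := map_constU A f0 c
  have h1 : D1 A (constU A 2 c) = constU A 3 c := map_constU A f1 c
  have h2 : D2 A (constU A 2 c) = constU A 3 c := map_constU A f2 c
  have h3 : D3 A (constU A 2 c) = constU A 3 c := map_constU A f3 c
  rw [h0, h1, h2, h3, mul_inv_cancel, one_mul, mul_inv_cancel]

theorem cobU_constU (c : Aˣ) : cobU A (constU A 1 c) = constU A 2 c := by
  rw [cobU_apply]
  have h0 : E0 A (constU A 1 c) = constU A 2 c := map_constU A g0 c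
  have h1 : E1 A (constU A 1 c) = constU A 2 c := map_constU A g1 c
  have h2 : E2 A (constU A 1 c) = constU A 2 c := map_constU A g2 c
  rw [h0, h1, h2, mul_inv_cancel, one_mul]

end Const

/-! ### the main theorem -/

theorem main (A : Type u) [CommRing A] (ξ : (L A 2)ˣ) (hcoc : cocU A ξ = 1) :
    ∃ η : (L A 1)ˣ, ξ = cobU A η := by
  classical
  have hprime : ∀ (P : Ideal A), P.IsPrime →
      (ξ : L A 2).coeff 0 ∉ P ∧ ∀ w, w ≠ 0 → (ξ : L A 2).coeff w ∈ P :=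
    fun P hP => by
      have := hP
      exact coeff_mod_prime ξ hcoc P
  have hcu : IsUnit ((ξ : L A 2).coeff 0) := by
    by_contra hnu
    obtain ⟨M, hM, hcM⟩ := exists_max_ideal_of_mem_nonunits
      (show (ξ : L A 2).coeff 0 ∈ nonunits A from hnu)
    exact (hprime M hM.isPrime).1 hcM
  have hnil : ∀ w, w ≠ 0 → (ξ : L A 2).coeff w ∈ nilradical A := fun w hw =>
    mem_nilradical.mpr (nilpotent_iff_mem_prime.mpr fun P hP => (hprime P hP).2 w hw)
  obtain ⟨c, hc⟩ := hcu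
  -- normalise the constant term
  obtain ⟨ξ', hξ'⟩ : ∃ ξ' : (L A 2)ˣ, ξ' = ξ * constU A 2 c⁻¹ := ⟨_, rfl⟩
  have hcoc' : cocU A ξ' = 1 := by
    rw [hξ', map_mul, hcoc, cocU_constU, mul_one]
  have hco' : ∀ w, ((ξ' : L A 2) - 1).coeff w ∈ nilradical A := by
    intro w
    have e1 : (ξ' : L A 2) = (ξ : L A 2) * AddMonoidAlgebra.single 0 ((c⁻¹ : Aˣ) : A) := by
      rw [hξ']; rfl
    rw [AddMonoidAlgebra.coeff_sub, Finsupp.sub_apply, e1, AddMonoidAlgebra.coeff_mul_single_zero,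
      AddMonoidAlgebra.one_def, AddMonoidAlgebra.coeff_single, Finsupp.single_apply]
    by_cases hw : w = 0
    · subst hw
      rw [if_pos rfl, ← hc, Units.mul_inv, sub_self]
      exact Ideal.zero_mem _
    · rw [if_neg (Ne.symm hw), sub_zero]
      exact Ideal.mul_mem_right _ _ (hnil w hw)
  -- the ideal generated by the coefficients of `ξ' - 1`
  obtain ⟨ν, hν⟩ : ∃ ν : L A 2, ν = (ξ' : L A 2) - 1 := ⟨_, rfl⟩
  rw [← hν] at hco'
  obtain ⟨N, hNdef⟩ : ∃ N : Ideal A,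
      N = Ideal.span ((ν.coeff.support.image fun w => ν.coeff w : Finset A) : Set A) := ⟨_, rfl⟩
  have hNfg : N.FG := ⟨_, hNdef.symm⟩
  have hNnil : N ≤ nilradical A := by
    rw [hNdef, Ideal.span_le]
    intro x hx
    obtain ⟨w, -, rfl⟩ := Finset.mem_image.mp (Finset.mem_coe.mp hx)
    exact hco' w
  have hmemN : ∀ w, ν.coeff w ∈ N := by
    intro w
    by_cases hw : w ∈ ν.coeff.support
    · rw [hNdef]
      exact Ideal.subset_span (Finset.mem_coe.mpr (Finset.mem_image_of_mem _ hw))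
    · rw [Finsupp.notMem_support_iff.mp hw]
      exact N.zero_mem
  obtain ⟨k, hk⟩ := (hNfg.isNilpotent_iff_le_nilradical).mpr hNnil
  have hk' : N ^ (k + 1) = ⊥ := by
    rw [pow_succ, hk, Ideal.zero_eq_bot, Ideal.bot_mul]
  rw [hν] at hmemN
  obtain ⟨η', hη'⟩ := nilp_case (k + 1) (by omega) A N hk' ξ' hcoc' hmemN
  refine ⟨η' * constU A 1 c, ?_⟩
  rw [map_mul, ← hη', cobU_constU, hξ', mul_assoc, ← map_mul, inv_mul_cancel, map_one, mul_one]

/-- For any commutative ring A, the second cohomology of the complex of unit groups A[t₁^±]ˣ → A[t₁^±,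
t₂^±]ˣ → A[t₁^±, t₂^±, t₃^±]ˣ → ⋯ attached to the cosimplicial ring of Laurent polynomial rings
(coface maps (t₁, t₂) ↦ (t₂, t₃), (t₁t₂, t₃), (t₁, t₂t₃), (t₁, t₂) and t₁ ↦ t₂, t₁t₂, t₁) vanishes:
every unit ξ of A[t₁^±, t₂^±] with ξ(t₂,t₃) ξ(t₁t₂,t₃)⁻¹ ξ(t₁,t₂t₃) ξ(t₁,t₂)⁻¹ = 1 is of the form
η(t₂) η(t₁t₂)⁻¹ η(t₁) for a unit η of A[t^±]. Laurent polynomial rings are written as group algebras
of ℤ^p and the coface maps as the maps induced by the corresponding additive maps ℤ^p → ℤ^(p+1). -/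
theorem result (A : Type u) [CommRing A] (ξ : (AddMonoidAlgebra A (Fin 2 → ℤ))ˣ)
    (hξ : Units.map (AddMonoidAlgebra.mapDomainRingHom A
          (Matrix.mulVecLin (!![0, 0; 1, 0; 0, 1] : Matrix (Fin 3) (Fin 2) ℤ)).toAddMonoidHom).toMonoidHom ξ *
        (Units.map (AddMonoidAlgebra.mapDomainRingHom A
          (Matrix.mulVecLin (!![1, 0; 1, 0; 0, 1] : Matrix (Fin 3) (Fin 2) ℤ)).toAddMonoidHom).toMonoidHom ξ)⁻¹ *
        Units.map (AddMonoidAlgebra.mapDomainRingHom A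
          (Matrix.mulVecLin (!![1, 0; 0, 1; 0, 1] : Matrix (Fin 3) (Fin 2) ℤ)).toAddMonoidHom).toMonoidHom ξ *
        (Units.map (AddMonoidAlgebra.mapDomainRingHom A
          (Matrix.mulVecLin (!![1, 0; 0, 1; 0, 0] : Matrix (Fin 3) (Fin 2) ℤ)).toAddMonoidHom).toMonoidHom ξ)⁻¹ = 1) :
    ∃ η : (AddMonoidAlgebra A (Fin 1 → ℤ))ˣ,
      ξ = Units.map (AddMonoidAlgebra.mapDomainRingHom A
          (Matrix.mulVecLin (!![0; 1] : Matrix (Fin 2) (Fin 1) ℤ)).toAddMonoidHom).toMonoidHom η *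
        (Units.map (AddMonoidAlgebra.mapDomainRingHom A
          (Matrix.mulVecLin (!![1; 1] : Matrix (Fin 2) (Fin 1) ℤ)).toAddMonoidHom).toMonoidHom η)⁻¹ *
        Units.map (AddMonoidAlgebra.mapDomainRingHom A
          (Matrix.mulVecLin (!![1; 0] : Matrix (Fin 2) (Fin 1) ℤ)).toAddMonoidHom).toMonoidHom η := by
  exact main A ξ hξ

end Groth.Agent.S13793
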