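import Groth.Statements.S13794
import Mathlib.Tactic

set_option autoImplicit false
universe u
open Polynomial
open Curves

namespace Groth.Agent.S13794

/-- Let k be a field of characteristic not 3 and β ∈ k. If a line ax + by + c = 0 with a³ ≠ b³ is the
tangent line at a flex point of the affine cubic x³ + y³ + β = 3xy, then β is a cube in k. Here the
line is normalised to b ≠ 0 (the roles of x and y are symmetric) and the flex-tangency is expressed
by the restriction of the cubic to the line being λ (x − x₀)³. -/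
theorem result {k : Type u} [Field k] (h3 : (3 : k) ≠ 0)
    (β a b c : k) (hb : b ≠ 0) (hab : a ^ 3 ≠ b ^ 3) (lam x₀ : k)
    (hflex : (X : k[X]) ^ 3 + (C (-a / b) * X + C (-c / b)) ^ 3 + C β - 3 * X * (C (-a / b) * X + C (-c / b)) =
      C lam * (X - C x₀) ^ 3) :
    ∃ γ : k, β = γ ^ 3 := by
  obtain ⟨m, hm⟩ : ∃ m : k, m = -a / b := ⟨_, rfl⟩
  obtain ⟨n, hn⟩ : ∃ n : k, n = -c / b := ⟨_, rfl⟩
  rw [← hm, ← hn] at hflex
  have hL : (X : k[X]) ^ 3 + (C m * X + C n) ^ 3 + C β - 3 * X * (C m * X + C n) =
      C (1 + m ^ 3) * X ^ 3 + C (3 * m ^ 2 * n - 3 * m) * X ^ 2 + C (3 * m * n ^ 2 - 3 * n) * X +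
        C (n ^ 3 + β) := by
    simp only [map_add, map_sub, map_mul, map_pow, map_one, map_ofNat]
    ring
  have hR : C lam * ((X : k[X]) - C x₀) ^ 3 =
      C lam * X ^ 3 + C (-(3 * lam * x₀)) * X ^ 2 + C (3 * lam * x₀ ^ 2) * X +
        C (-(lam * x₀ ^ 3)) := by
    simp only [map_neg, map_mul, map_pow, map_ofNat]
    ring
  rw [hL, hR] at hflex
  have c3 := congrArg (fun p : k[X] => p.coeff 3) hflex
  have c2 := congrArg (fun p : k[X] => p.coeff 2) hflex
  have c1 := congrArg (fun p : k[X] => p.coeff 1) hflex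
  have c0 := congrArg (fun p : k[X] => p.coeff 0) hflex
  simp only [coeff_add, coeff_C_mul, coeff_X_pow, coeff_X, coeff_C] at c3 c2 c1 c0
  norm_num at c3 c2 c1 c0
  have hlam : lam ≠ 0 := by
    rw [← c3, hm]
    intro h0
    apply hab
    field_simp at h0
    linear_combination -h0
  -- divide by 3
  have e2 : m ^ 2 * n - m = -(lam * x₀) := by
    apply mul_left_cancel₀ h3
    linear_combination c2
  have e1 : m * n ^ 2 - n = lam * x₀ ^ 2 := by
    apply mul_left_cancel₀ h3
    linear_combination c1
  by_cases hmn : m * n = 1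
  · have hx0 : x₀ = 0 := by
      have : lam * x₀ = 0 := by linear_combination (-m) * hmn + e2
      rcases mul_eq_zero.mp this with h | h
      · exact absurd h hlam
      · exact h
    refine ⟨-n, ?_⟩
    rw [hx0] at c0
    linear_combination c0
  · have hmn' : m * n - 1 ≠ 0 := sub_ne_zero.mpr hmn
    have h4 : m * x₀ + n = 0 := by
      apply mul_left_cancel₀ hmn'
      linear_combination x₀ * e2 + e1
    have h5 : m = x₀ := by
      have : n = -(m * x₀) := by linear_combination h4
      rw [this] at e2
      linear_combination -e2 - x₀ * c3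
    refine ⟨-m, ?_⟩
    have h6 : n = -(m * m) := by rw [← h5] at h4; linear_combination h4
    rw [← h5] at c0
    rw [h6] at c0
    linear_combination c0 + m ^ 3 * c3

end Groth.Agent.S13794
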