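import Groth.Statements.S13795
import Mathlib

set_option autoImplicit false
set_option linter.style.haveILetI false
set_option linter.unusedSectionVars false
universe u
open TensorProduct
open Brauer

namespace Groth.Agent.S13795

section morita

variable {A : Type u} [CommRing A] {F G : Type u} [AddCommGroup F] [Module A F]
  [AddCommGroup G] [Module A G]

/-- `E`-linear maps `F → G`, where `E = End F` acts on `G` through `ρ`. -/
def homE (ρ : Module.End A F →ₐ[A] Module.End A G) : Submodule A (F →ₗ[A] G) where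
  carrier := {l | ∀ (e : Module.End A F) (y : F), l (e y) = ρ e (l y)}
  add_mem' := fun {a b} ha hb e y => by
    rw [LinearMap.add_apply, LinearMap.add_apply, ha, hb, map_add]
  zero_mem' := fun e y => by
    rw [LinearMap.zero_apply, LinearMap.zero_apply, map_zero]
  smul_mem' := fun c l hl e y => by
    rw [LinearMap.smul_apply, LinearMap.smul_apply, hl, map_smul]

/-- the family `g ↦ (y ↦ ρ(θ(-) y) g)` of elements of `homE ρ` -/
def lam (ρ : Module.End A F →ₐ[A] Module.End A G) (θ : Module.Dual A F) :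
    G →ₗ[A] (F →ₗ[A] G) :=
  (ρ.toLinearMap ∘ₗ LinearMap.smulRightₗ θ).flip

lemma lam_apply (ρ : Module.End A F →ₐ[A] Module.End A G) (θ : Module.Dual A F) (g : G) (y : F) :
    lam ρ θ g y = ρ (θ.smulRight y) g := rfl

lemma smulRight_comp (θ : Module.Dual A F) (e : Module.End A F) (y : F) :
    θ.smulRight (e y) = e * θ.smulRight y := by
  ext z
  rw [LinearMap.smulRight_apply, Module.End.mul_apply, LinearMap.smulRight_apply, map_smul]

lemma lam_mem (ρ : Module.End A F →ₐ[A] Module.End A G) (θ : Module.Dual A F) (g : G) :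
    lam ρ θ g ∈ homE ρ := by
  intro e y
  rw [lam_apply, lam_apply, smulRight_comp, map_mul]
  rfl

/-- `lam` with values in `homE ρ`. -/
def lamE (ρ : Module.End A F →ₐ[A] Module.End A G) (θ : Module.Dual A F) : G →ₗ[A] homE ρ :=
  LinearMap.codRestrict (homE ρ) (lam ρ θ) (lam_mem ρ θ)

/-- evaluation `F ⊗ Hom_E(F, G) → G` -/
def ev (ρ : Module.End A F →ₐ[A] Module.End A G) : F ⊗[A] homE ρ →ₗ[A] G :=
  TensorProduct.lift (homE ρ).subtype.flip

lemma ev_tmul (ρ : Module.End A F →ₐ[A] Module.End A G) (y : F) (l : homE ρ) :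
    ev ρ (y ⊗ₜ l) = l.1 y := rfl

/-- the inverse of `ev`, built from a dual basis of `F` -/
def evInv (ρ : Module.End A F →ₐ[A] Module.End A G) {n : ℕ} (x : Fin n → F)
    (ψ : Fin n → Module.Dual A F) : G →ₗ[A] F ⊗[A] homE ρ :=
  ∑ j, (TensorProduct.mk A F (homE ρ) (x j)) ∘ₗ lamE ρ (ψ j)

lemma evInv_apply (ρ : Module.End A F →ₐ[A] Module.End A G) {n : ℕ} (x : Fin n → F)
    (ψ : Fin n → Module.Dual A F) (g : G) :
    evInv ρ x ψ g = ∑ j, x j ⊗ₜ[A] lamE ρ (ψ j) g := by
  simp only [evInv, LinearMap.sum_apply, LinearMap.comp_apply, TensorProduct.mk_apply]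

theorem ev_evInv (ρ : Module.End A F →ₐ[A] Module.End A G) {n : ℕ} (x : Fin n → F)
    (ψ : Fin n → Module.Dual A F) (hx : ∀ y : F, ∑ j, ψ j y • x j = y) (g : G) :
    ev ρ (evInv ρ x ψ g) = g := by
  rw [evInv_apply, map_sum]
  have h1 : ∀ j, ev ρ (x j ⊗ₜ[A] lamE ρ (ψ j) g) = ρ ((ψ j).smulRight (x j)) g := fun j => rfl
  simp only [h1]
  rw [← LinearMap.sum_apply, ← map_sum]
  have h2 : ∑ j, (ψ j).smulRight (x j) = (1 : Module.End A F) := by
    ext y
    rw [LinearMap.sum_apply]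
    simp only [LinearMap.smulRight_apply]
    exact hx y
  rw [h2, map_one]
  rfl

theorem evInv_ev (ρ : Module.End A F →ₐ[A] Module.End A G) {n : ℕ} (x : Fin n → F)
    (ψ : Fin n → Module.Dual A F) (hx : ∀ y : F, ∑ j, ψ j y • x j = y) (t : F ⊗[A] homE ρ) :
    evInv ρ x ψ (ev ρ t) = t := by
  induction t using TensorProduct.induction_on with
  | zero => rw [map_zero, map_zero]
  | tmul y l =>
    rw [ev_tmul, evInv_apply]
    have h1 : ∀ j, lamE ρ (ψ j) (l.1 y) = ψ j y • l := by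
      intro j
      apply Subtype.ext
      ext z
      show ρ ((ψ j).smulRight z) (l.1 y) = (ψ j y • l.1) z
      rw [← l.2 ((ψ j).smulRight z) y, LinearMap.smulRight_apply, map_smul, LinearMap.smul_apply]
    simp only [h1, ← TensorProduct.smul_tmul]
    rw [← TensorProduct.sum_tmul, hx]
  | add a b ha hb => rw [map_add, map_add, ha, hb]

/-- Morita: `F ⊗ Hom_E(F, G) ≃ G`. -/
def evEquiv (ρ : Module.End A F →ₐ[A] Module.End A G) {n : ℕ} (x : Fin n → F)
    (ψ : Fin n → Module.Dual A F) (hx : ∀ y : F, ∑ j, ψ j y • x j = y) :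
    F ⊗[A] homE ρ ≃ₗ[A] G :=
  LinearEquiv.ofLinearMap (ev ρ) (evInv ρ x ψ) (LinearMap.ext (ev_evInv ρ x ψ hx))
    (LinearMap.ext (evInv_ev ρ x ψ hx))

lemma evEquiv_tmul (ρ : Module.End A F →ₐ[A] Module.End A G) {n : ℕ} (x : Fin n → F)
    (ψ : Fin n → Module.Dual A F) (hx : ∀ y : F, ∑ j, ψ j y • x j = y) (y : F) (l : homE ρ) :
    evEquiv ρ x ψ hx (y ⊗ₜ l) = l.1 y := rfl

variable (A F) in
lemma exists_dualBasis [Module.Finite A F] [Module.Projective A F] :
    ∃ (n : ℕ) (x : Fin n → F) (ψ : Fin n → Module.Dual A F), ∀ y : F, ∑ j, ψ j y • x j = y := by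
  classical
  obtain ⟨n, f, g, -, -, hfg⟩ := Module.Finite.exists_comp_eq_id_of_projective A F
  refine ⟨n, fun i => f (fun j => if i = j then 1 else 0), fun i => LinearMap.proj i ∘ₗ g,
    fun y => ?_⟩
  have h1 := LinearMap.pi_apply_eq_sum_univ f (g y)
  have h2 : f (g y) = y := LinearMap.congr_fun hfg y
  show ∑ j, g y j • f (fun k => if j = k then 1 else 0) = y
  rw [← h1, h2]

variable (A F) in
lemma exists_generator [Module.Finite A F] [Module.Projective A F] [Module.FaithfullyFlat A F] :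
    ∃ (s : Finset (Module.Dual A F × F)) (θ : Module.Dual A F × F → Module.Dual A F)
      (yy : Module.Dual A F × F → F), ∑ p ∈ s, θ p (yy p) = 1 := by
  obtain ⟨n, x, ψ, hx⟩ := exists_dualBasis A F
  have hT : Submodule.span A (Set.range fun p : Module.Dual A F × F => p.1 p.2) = ⊤ := by
    by_contra hne
    obtain ⟨m, hm, hTm⟩ := Ideal.exists_le_maximal
      (Submodule.span A (Set.range fun p : Module.Dual A F × F => p.1 p.2) : Ideal A) hne
    apply Module.FaithfullyFlat.submodule_ne_top (R := A) (M := F) hm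
    rw [eq_top_iff]
    rintro y -
    rw [← hx y]
    exact Submodule.sum_mem _ fun j _ =>
      Submodule.smul_mem_smul (hTm (Submodule.subset_span ⟨(ψ j, y), rfl⟩)) Submodule.mem_top
  have h1 : (1 : A) ∈ Submodule.span A (Set.range fun p : Module.Dual A F × F => p.1 p.2) := by
    rw [hT]
    exact Submodule.mem_top
  rw [Finsupp.mem_span_range_iff_exists_finsupp] at h1
  obtain ⟨c, hc⟩ := h1
  refine ⟨c.support, fun p => c p • p.1, fun p => p.2, ?_⟩
  rw [← hc, Finsupp.sum]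
  refine Finset.sum_congr rfl fun p _ => ?_
  rw [LinearMap.smul_apply]

lemma central_eq {ι : Type*} (s : Finset ι) (θ : ι → Module.Dual A F) (yy : ι → F)
    (hgen : ∑ i ∈ s, θ i (yy i) = 1) (h : F →ₗ[A] F)
    (hh : ∀ (e : Module.End A F) (f : F), h (e f) = e (h f)) (f : F) :
    h f = (∑ i ∈ s, θ i (h (yy i))) • f := by
  have h1 : f = ∑ i ∈ s, (θ i).smulRight f (yy i) := by
    simp only [LinearMap.smulRight_apply]
    rw [← Finset.sum_smul, hgen, one_smul]
  conv_lhs => rw [h1]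
  rw [map_sum, Finset.sum_smul]
  refine Finset.sum_congr rfl fun i _ => ?_
  rw [hh, LinearMap.smulRight_apply]

lemma tmul_lid_rTensor (θ : Module.Dual A F) (f : F) (N : Type u) [AddCommGroup N] [Module A N]
    (t : F ⊗[A] N) :
    f ⊗ₜ[A] (TensorProduct.lid A N ((θ.rTensor N) t)) = ((θ.smulRight f).rTensor N) t := by
  induction t using TensorProduct.induction_on with
  | zero => simp only [map_zero, TensorProduct.tmul_zero]
  | tmul y n =>
    rw [LinearMap.rTensor_tmul, LinearMap.rTensor_tmul, TensorProduct.lid_tmul,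
      LinearMap.smulRight_apply, TensorProduct.tmul_smul, TensorProduct.smul_tmul']
  | add a b ha hb => simp only [map_add, TensorProduct.tmul_add, ha, hb]

lemma tmul_zeta {ι : Type*} (s : Finset ι) (θ : ι → Module.Dual A F) (yy : ι → F)
    (hgen : ∑ i ∈ s, θ i (yy i) = 1) (N : Type u) [AddCommGroup N] [Module A N]
    (l : F →ₗ[A] F ⊗[A] N)
    (hl : ∀ (e : Module.End A F) (f : F), l (e f) = (e.rTensor N) (l f)) (f : F) :
    f ⊗ₜ[A] (∑ i ∈ s, TensorProduct.lid A N (((θ i).rTensor N) (l (yy i)))) = l f := by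
  rw [TensorProduct.tmul_sum]
  simp only [tmul_lid_rTensor, ← hl, LinearMap.smulRight_apply]
  rw [← map_sum, ← Finset.sum_smul, hgen, one_smul]

lemma eq_zero_of_tmul_eq_zero {ι : Type*} (s : Finset ι) (θ : ι → Module.Dual A F) (yy : ι → F)
    (hgen : ∑ i ∈ s, θ i (yy i) = 1) (N : Type u) [AddCommGroup N] [Module A N] (t : N)
    (ht : ∀ f : F, f ⊗ₜ[A] t = (0 : F ⊗[A] N)) : t = 0 := by
  have h1 : t = ∑ i ∈ s, TensorProduct.lid A N (((θ i).rTensor N) (yy i ⊗ₜ[A] t)) := by
    simp only [LinearMap.rTensor_tmul, TensorProduct.lid_tmul]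
    rw [← Finset.sum_smul, hgen, one_smul]
  rw [h1]
  simp only [ht, map_zero, Finset.sum_const_zero]

end morita

/-- In the case of an affine scheme — let A be a commutative ring, F and G finitely generated projective
A-modules of everywhere positive rank, and φ an A-algebra isomorphism from End_A(F) to End_A(G).
Then there are an invertible A-module L and an A-linear isomorphism ξ : F ⊗ L ≅ G which induces φ:
for every endomorphism f of F, φ(f) = ξ ∘ (f ⊗ 1) ∘ ξ⁻¹. (The published statement is for finite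
locally free modules of positive rank on any locally ringed site; this row is the case of the
Zariski site of Spec A, written in terms of modules.) -/
theorem result (A : Type u) [CommRing A]
    (F G : Type u) [AddCommGroup F] [Module A F] [Module.Finite A F] [Module.Projective A F] [Module.FaithfullyFlat A F]
    [AddCommGroup G] [Module A G] [Module.Finite A G] [Module.Projective A G] [Module.FaithfullyFlat A G]
    (φ : Module.End A F ≃ₐ[A] Module.End A G) :
    ∃ (L : Type u) (_ : AddCommGroup L) (_ : Module A L), Module.Invertible A L ∧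
      ∃ ξ : F ⊗[A] L ≃ₗ[A] G, ∀ f : Module.End A F, φ f = ξ.conj (TensorProduct.map f LinearMap.id) := by
  classical
  obtain ⟨n, x, ψ, hx⟩ := exists_dualBasis A F
  obtain ⟨n', x', ψ', hx'⟩ := exists_dualBasis A G
  obtain ⟨s₀, θ, yy, hgen⟩ := exists_generator A F
  let ρ : Module.End A F →ₐ[A] Module.End A G := φ.toAlgHom
  let ρ' : Module.End A G →ₐ[A] Module.End A F := φ.symm.toAlgHom
  have hρ : ∀ (e : Module.End A F) (g : G), ρ e g = φ e g := fun _ _ => rfl
  have hρ' : ∀ (e : Module.End A G) (f : F), ρ' e f = φ.symm e f := fun _ _ => rfl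
  obtain ⟨ξ, hξ⟩ : ∃ ξ : F ⊗[A] homE ρ ≃ₗ[A] G, ∀ (y : F) (l : homE ρ), ξ (y ⊗ₜ l) = l.1 y :=
    ⟨evEquiv ρ x ψ hx, fun _ _ => rfl⟩
  obtain ⟨ξ', hξ'⟩ : ∃ ξ' : G ⊗[A] homE ρ' ≃ₗ[A] F,
      ∀ (y : G) (l : homE ρ'), ξ' (y ⊗ₜ l) = l.1 y :=
    ⟨evEquiv ρ' x' ψ' hx', fun _ _ => rfl⟩
  obtain ⟨Θ, hΘ⟩ : ∃ Θ : F ⊗[A] (homE ρ ⊗[A] homE ρ') ≃ₗ[A] F,
      ∀ (f : F) (l : homE ρ) (m : homE ρ'), Θ (f ⊗ₜ (l ⊗ₜ m)) = m.1 (l.1 f) := by
    refine ⟨(TensorProduct.assoc A F (homE ρ) (homE ρ')).symm ≪≫ₗ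
      (TensorProduct.congr ξ (LinearEquiv.refl A (homE ρ'))) ≪≫ₗ ξ', fun f l m => ?_⟩
    rw [LinearEquiv.trans_apply, LinearEquiv.trans_apply, TensorProduct.assoc_symm_tmul,
      TensorProduct.congr_tmul, hξ, LinearEquiv.refl_apply, hξ']
  have hΘe : ∀ (e : Module.End A F) (t : F ⊗[A] (homE ρ ⊗[A] homE ρ')),
      Θ ((e.rTensor _) t) = e (Θ t) := by
    intro e t
    induction t using TensorProduct.induction_on with
    | zero => simp only [map_zero]
    | tmul f u =>
      induction u using TensorProduct.induction_on with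
      | zero => simp only [TensorProduct.tmul_zero, map_zero]
      | tmul l m =>
        rw [LinearMap.rTensor_tmul, hΘ, hΘ, l.2 e f, m.2 (ρ e) (l.1 f), hρ']
        show (φ.symm (φ e)) _ = _
        rw [AlgEquiv.symm_apply_apply]
      | add a b ha hb => simp only [TensorProduct.tmul_add, map_add, ha, hb]
    | add a b ha hb => simp only [map_add, ha, hb]
  obtain ⟨cmap, hcmap⟩ : ∃ cmap : homE ρ ⊗[A] homE ρ' →ₗ[A] A,
      ∀ t, cmap t = ∑ p ∈ s₀, θ p (Θ (yy p ⊗ₜ t)) := by
    refine ⟨∑ p ∈ s₀, (θ p) ∘ₗ Θ.toLinearMap ∘ₗ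
      (TensorProduct.mk A F (homE ρ ⊗[A] homE ρ') (yy p)), fun t => ?_⟩
    simp only [LinearMap.sum_apply, LinearMap.comp_apply, TensorProduct.mk_apply,
      LinearEquiv.coe_coe]
  have hcentral : ∀ (t : homE ρ ⊗[A] homE ρ') (f : F), Θ (f ⊗ₜ t) = cmap t • f := by
    intro t f
    obtain ⟨h, hh0⟩ : ∃ h : F →ₗ[A] F, ∀ f, h f = Θ (f ⊗ₜ t) :=
      ⟨Θ.toLinearMap ∘ₗ (TensorProduct.mk A F (homE ρ ⊗[A] homE ρ')).flip t, fun _ => rfl⟩
    have hh : ∀ (e : Module.End A F) (f : F), h (e f) = e (h f) := fun e f => by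
      rw [hh0, hh0, ← hΘe e (f ⊗ₜ t), LinearMap.rTensor_tmul]
    have h0 := central_eq s₀ θ yy hgen h hh f
    rw [hcmap, ← hh0, h0]
    simp only [hh0]
  have hinj : Function.Injective cmap := by
    rw [injective_iff_map_eq_zero]
    intro t ht
    apply eq_zero_of_tmul_eq_zero s₀ θ yy hgen (homE ρ ⊗[A] homE ρ') t
    intro f
    apply Θ.injective
    rw [hcentral, ht, zero_smul, map_zero]
  have hsurj : Function.Surjective cmap := by
    obtain ⟨l₀, hl₀0⟩ : ∃ l₀ : F →ₗ[A] F ⊗[A] (homE ρ ⊗[A] homE ρ'), ∀ f, l₀ f = Θ.symm f :=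
      ⟨Θ.symm.toLinearMap, fun _ => rfl⟩
    have hl₀ : ∀ (e : Module.End A F) (f : F), l₀ (e f) = (e.rTensor _) (l₀ f) := by
      intro e f
      apply Θ.injective
      rw [hΘe, hl₀0, hl₀0, Θ.apply_symm_apply, Θ.apply_symm_apply]
    obtain ⟨t₁, ht₁⟩ : ∃ t₁ : homE ρ ⊗[A] homE ρ', ∀ f : F, f ⊗ₜ[A] t₁ = l₀ f :=
      ⟨_, tmul_zeta s₀ θ yy hgen (homE ρ ⊗[A] homE ρ') l₀ hl₀⟩
    have hc1 : cmap t₁ = 1 := by
      rw [hcmap]
      have h3 : ∀ p, Θ (yy p ⊗ₜ[A] t₁) = yy p := fun p => by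
        rw [ht₁, hl₀0, Θ.apply_symm_apply]
      simp only [h3]
      exact hgen
    intro a
    exact ⟨a • t₁, by rw [map_smul, hc1, smul_eq_mul, mul_one]⟩
  haveI : Module.Invertible A (homE ρ) :=
    Module.Invertible.left (LinearEquiv.ofBijective cmap ⟨hinj, hsurj⟩)
  refine ⟨homE ρ, inferInstance, inferInstance, inferInstance, ξ, ?_⟩
  intro f
  apply LinearMap.ext
  intro g
  obtain ⟨t, rfl⟩ := ξ.surjective g
  rw [LinearEquiv.conj_apply_apply, ξ.symm_apply_apply]
  induction t using TensorProduct.induction_on with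
  | zero => simp only [map_zero]
  | tmul y l =>
    rw [TensorProduct.map_tmul, hξ, hξ, LinearMap.id_apply, l.2 f y, hρ]
  | add a b ha hb => simp only [map_add, ha, hb]

end Groth.Agent.S13795
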