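import Groth.Statements.S13796
import Groth.Agent.H96.AzSplit
import Groth.Agent.H96.AzDescend
import Groth.Agent.H96.AzGlue

set_option autoImplicit false
universe u
open scoped TensorProduct
open Brauer

namespace Groth.Agent.S13796

/-- In the case of an affine scheme — let R be a commutative ring and A an Azumaya R-algebra of constant
rank n². Then there exist a finitely generated projective R-module E of constant rank n^n and an
R-algebra isomorphism from the n-fold tensor power A ⊗ ⋯ ⊗ A to End_R(E) (existence of an
isomorphism only), so the Brauer class of A is n-torsion. For n = 0 the hypotheses force R = 0,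
where the statement holds trivially. (The published statement is for Azumaya algebras of constant
rank n² on any locally ringed site; this row is the case of the étale site of Spec R, written in
terms of modules: an Azumaya algebra here is one in the usual, étale-local sense.) -/
theorem result (R : Type u) [CommRing R] (A : Type u) [Ring A] [Algebra R A]
    [IsAzumaya R A] (n : ℕ) (hrk : ∀ p : PrimeSpectrum R, Module.rankAtStalk (R := R) A p = n ^ 2) :
    ∃ (E : Type u) (_ : AddCommGroup E) (_ : Module R E), Module.Finite R E ∧ Module.Projective R E ∧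
      (∀ p : PrimeSpectrum R, Module.rankAtStalk (R := R) E p = n ^ n) ∧
      Nonempty ((⨂[R] _ : Fin n, A) ≃ₐ[R] Module.End R E) := by
  classical
  obtain ⟨T, _, _, hff, ⟨φ⟩⟩ := Groth.Agent.H96.AzSplit.exists_splitting R A n hrk
  obtain ⟨s, hs⟩ := Groth.Agent.H96.AzDescend.exists_descent R A n φ
  have hF' : (1 : Groth.Agent.H96.MatUnits.D T n) ∈ Submodule.span T (Set.range
      fun p : Groth.Agent.H96.MatUnits.D T n × Groth.Agent.H96.MatUnits.D T n =>
        p.1 * Groth.Agent.H96.MatUnits.eD T n * p.2) := by
    rw [← Groth.Agent.H96.MatUnits.sum_eps_eD_eps T n]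
    apply Submodule.sum_mem
    intro a _
    exact Submodule.subset_span ⟨(Groth.Agent.H96.MatUnits.eps T n a id,
      Groth.Agent.H96.MatUnits.eps T n id a), rfl⟩
  have hS' := Groth.Agent.H96.MatUnits.exists_eD_mul_mul_eD T n
  have hF := Groth.Agent.H96.AzGlue.full (Groth.Agent.H96.AzDescend.Phi R A n φ)
    (Groth.Agent.H96.MatUnits.eD T n) s hs hF'
  have hS := Groth.Agent.H96.AzGlue.rankOne (Groth.Agent.H96.AzDescend.Phi R A n φ)
    (Groth.Agent.H96.MatUnits.eD T n) s hs hS'
  obtain ⟨hfin, hproj, hrank⟩ := Groth.Agent.H96.AzGlue.finite_projective_rank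
    (Groth.Agent.H96.AzDescend.Phi R A n φ) (Groth.Agent.H96.MatUnits.eD T n) s hs
    (Groth.Agent.H96.MatUnits.wEquiv T n)
  refine ⟨Groth.Agent.H96.MoritaRankOne.E (R := R) s, inferInstance, inferInstance, hfin, hproj,
    ?_, ?_⟩
  · intro p
    rw [hrank p]
    simp
  · exact ⟨AlgEquiv.ofBijective (Groth.Agent.H96.MoritaRankOne.rho s)
      ⟨Groth.Agent.H96.MoritaRankOne.rho_injective s hF,
        Groth.Agent.H96.MoritaRankOne.rho_surjective s hF hS⟩⟩

end Groth.Agent.S13796
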