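import Groth.Statements.S13798
import Groth.Agent.H43.TorusUnits

set_option autoImplicit false
universe u
open CategoryTheory CategoryTheory.Limits AlgebraicGeometry Opposite
open Curves

namespace Groth.Agent.S13798
open Groth.Agent.H43.TorusUnits

section Helpers

variable (X : Scheme.{u}) (n : ℕ)

abbrev Lam : Type u := ULift.{u} (AddMonoidAlgebra ℤ (Fin n → ℤ))

noncomputable abbrev TT : Scheme.{u} := Spec (CommRingCat.of (Lam.{u} n))

noncomputable abbrev p1 : X ⨯ TT.{u} n ⟶ X := prod.fst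

noncomputable abbrev p2 : X ⨯ TT.{u} n ⟶ TT.{u} n := prod.snd

/-- The monomial functions on `X × T`. -/
noncomputable def mon (e : Fin n → ℤ) : Γ(X ⨯ TT.{u} n, ⊤) :=
  (p2 X n).appTop.hom
    ((Scheme.ΓSpecIso (CommRingCat.of (Lam.{u} n))).inv.hom
      (ULift.up (AddMonoidAlgebra.single e 1)))

/-- The augmentation `ℤ[ℤⁿ] → Γ(X)`. -/
noncomputable def aug : Lam.{u} n →+* Γ(X, ⊤) :=
  (AddMonoidAlgebra.liftNCRingHom (Int.castRingHom Γ(X, ⊤))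
    (1 : Multiplicative (Fin n → ℤ) →* Γ(X, ⊤)) (fun _ _ => Commute.all _ _)).comp
    (ULift.ringEquiv : Lam.{u} n ≃+* AddMonoidAlgebra ℤ (Fin n → ℤ)).toRingHom

theorem aug_single (e : Fin n → ℤ) :
    aug X n (ULift.up (AddMonoidAlgebra.single e 1)) = 1 := by
  unfold aug
  show (AddMonoidAlgebra.liftNCRingHom (Int.castRingHom Γ(X, ⊤))
    (1 : Multiplicative (Fin n → ℤ) →* Γ(X, ⊤)) (fun _ _ => Commute.all _ _))
    (AddMonoidAlgebra.single e 1) = 1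
  rw [AddMonoidAlgebra.liftNCRingHom_single]
  simp

/-- The constant map `X → T` at the unit point. -/
noncomputable def qq : X ⟶ TT.{u} n := X.toSpecΓ ≫ Spec.map (CommRingCat.ofHom (aug X n))

theorem qq_appTop : (Scheme.ΓSpecIso (CommRingCat.of (Lam.{u} n))).inv ≫ (qq X n).appTop =
    CommRingCat.ofHom (aug X n) := by
  unfold qq
  rw [Scheme.Hom.comp_appTop, ← Category.assoc, ← Scheme.ΓSpecIso_inv_naturality, Category.assoc,
    Scheme.toSpecΓ_appTop, Iso.inv_hom_id, Category.comp_id]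

/-- The unit section `X → X × T`. -/
noncomputable def sec : X ⟶ X ⨯ TT.{u} n := prod.lift (𝟙 X) (qq X n)

theorem sec_fst : sec X n ≫ p1 X n = 𝟙 X := prod.lift_fst _ _

theorem sec_snd : sec X n ≫ p2 X n = qq X n := prod.lift_snd _ _

theorem sec_mon (e : Fin n → ℤ) : (sec X n).appTop.hom (mon X n e) = 1 := by
  have h1 : (p2 X n).appTop ≫ (sec X n).appTop = (qq X n).appTop := by
    rw [← Scheme.Hom.comp_appTop, sec_snd]
  have h2 : (sec X n).appTop.hom (mon X n e) =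
      ((Scheme.ΓSpecIso (CommRingCat.of (Lam.{u} n))).inv ≫ (qq X n).appTop).hom
        (ULift.up (AddMonoidAlgebra.single e 1)) := by
    rw [← h1]; rfl
  rw [h2, qq_appTop]
  exact aug_single X n e

theorem sec_fst_apply (a : Γ(X, ⊤)) :
    (sec X n).appTop.hom ((p1 X n).appTop.hom a) = a := by
  have h1 : (p1 X n).appTop ≫ (sec X n).appTop = 𝟙 _ := by
    rw [← Scheme.Hom.comp_appTop, sec_fst, Scheme.Hom.id_appTop]
  exact congrArg (fun f => f.hom a) h1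

theorem mon_add (e e' : Fin n → ℤ) : mon X n (e + e') = mon X n e * mon X n e' := by
  unfold mon
  rw [← map_mul, ← map_mul]
  congr 2
  show ULift.up _ = ULift.up (_ * _)
  rw [AddMonoidAlgebra.single_mul_single, one_mul]

theorem restrict_eq {W U : X.Opens} (h : W ≤ U) {x y : Γ(X ⨯ TT.{u} n, ⊤)}
    (hxy : ((p1 X n) ⁻¹ᵁ U).ι.appTop.hom x = ((p1 X n) ⁻¹ᵁ U).ι.appTop.hom y) :
    ((p1 X n) ⁻¹ᵁ W).ι.appTop.hom x = ((p1 X n) ⁻¹ᵁ W).ι.appTop.hom y := by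
  have e1 : ((p1 X n) ⁻¹ᵁ W).ι =
      (X ⨯ TT.{u} n).homOfLE ((p1 X n).preimage_mono h) ≫ ((p1 X n) ⁻¹ᵁ U).ι :=
    (Scheme.homOfLE_ι _ _).symm
  have e2 : ((p1 X n) ⁻¹ᵁ W).ι.appTop = ((p1 X n) ⁻¹ᵁ U).ι.appTop ≫
      ((X ⨯ TT.{u} n).homOfLE ((p1 X n).preimage_mono h)).appTop := by
    rw [e1, Scheme.Hom.comp_appTop]
  rw [e2]
  exact congrArg ((X ⨯ TT.{u} n).homOfLE ((p1 X n).preimage_mono h)).appTop.hom hxy

end Helpers


section Main

variable (X : Scheme.{u}) [IsIntegral X] (n : ℕ)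

theorem local_analysis (w' : Γ(X ⨯ TT.{u} n, ⊤)) (hw' : IsUnit w')
    (hsw' : (sec X n).appTop.hom w' = 1) (U : X.Opens) (hU : IsAffineOpen U) [Nonempty U] :
    (∃ e : Fin n → ℤ, ((p1 X n) ⁻¹ᵁ U).ι.appTop.hom w' =
      ((p1 X n) ⁻¹ᵁ U).ι.appTop.hom (mon X n e)) ∧
    (∀ e e' : Fin n → ℤ, ((p1 X n) ⁻¹ᵁ U).ι.appTop.hom (mon X n e') =
      ((p1 X n) ⁻¹ᵁ U).ι.appTop.hom (mon X n e) → e' = e) := by
  have hP : IsPullback (p1 X n) (p2 X n) (specULiftZIsTerminal.from X)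
      (specULiftZIsTerminal.from _) :=
    IsPullback.of_is_product' (prodIsProd X (TT.{u} n)) specULiftZIsTerminal
  obtain ⟨ψc, ψi, h1, h2, h3, h4⟩ :=
    exists_local_iso (Fin n → ℤ) (p1 X n) (p2 X n) hP U Γ(X, U) hU.isoSpec
  have hβ : ∀ e : Fin n → ℤ, ((p1 X n) ⁻¹ᵁ U).ι.appTop.hom (mon X n e) =
      ψc.hom (AddMonoidAlgebra.single e 1) := by
    intro e
    have e0 := congrArg (fun φ => φ.hom (ULift.up (AddMonoidAlgebra.single e (1 : ℤ)))) h4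
    have e1 : (CommRingCat.ofHom (rho Γ(X, U) (Fin n → ℤ)) ≫ ψc).hom
        (ULift.up (AddMonoidAlgebra.single e (1 : ℤ))) =
        ψc.hom (AddMonoidAlgebra.single e 1) := by
      show ψc.hom (rho _ _ (ULift.up (AddMonoidAlgebra.single e 1))) = _
      rw [rho_single, Int.cast_one]
    rw [← e1]
    refine Eq.trans ?_ e0.symm
    rw [Scheme.Hom.comp_appTop]
    rfl
  have hψinj : Function.Injective ψc.hom := by
    intro x y hxy
    have hx : ∀ z, ψi.hom (ψc.hom z) = z := fun z => congrArg (fun φ => φ.hom z) h2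
    rw [← hx x, ← hx y, hxy]
  refine ⟨?_, ?_⟩
  · have hwu : IsUnit (((p1 X n) ⁻¹ᵁ U).ι.appTop.hom w') := hw'.map _
    obtain ⟨b, e, hb, hbe⟩ := isUnit_pi n (ψi.hom (((p1 X n) ⁻¹ᵁ U).ι.appTop.hom w'))
      (hwu.map ψi.hom)
    have hw1 : ((p1 X n) ⁻¹ᵁ U).ι.appTop.hom w' =
        ψc.hom (ψi.hom (((p1 X n) ⁻¹ᵁ U).ι.appTop.hom w')) :=
      (congrArg (fun φ => φ.hom (((p1 X n) ⁻¹ᵁ U).ι.appTop.hom w')) h1).symm
    have hsplit : (AddMonoidAlgebra.single e b : AddMonoidAlgebra Γ(X, U) (Fin n → ℤ)) =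
        AddMonoidAlgebra.single 0 b * AddMonoidAlgebra.single e 1 := by
      rw [AddMonoidAlgebra.single_mul_single, zero_add, mul_one]
    have hw2 : ((p1 X n) ⁻¹ᵁ U).ι.appTop.hom w' =
        ψc.hom (AddMonoidAlgebra.single 0 b) * ((p1 X n) ⁻¹ᵁ U).ι.appTop.hom (mon X n e) := by
      rw [hβ, ← map_mul, ← hsplit, ← hbe]
      exact hw1
    have sqU := isPullback_morphismRestrict (p1 X n) U
    let sU : (U : Scheme.{u}) ⟶ ((p1 X n) ⁻¹ᵁ U : Scheme.{u}) :=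
      sqU.lift (𝟙 _) (U.ι ≫ sec X n)
        (by rw [Category.id_comp, Category.assoc, sec_fst, Category.comp_id])
    have hsU1 : sU ≫ ((p1 X n) ∣_ U) = 𝟙 _ := sqU.lift_fst _ _ _
    have hsU2 : sU ≫ ((p1 X n) ⁻¹ᵁ U).ι = U.ι ≫ sec X n := sqU.lift_snd _ _ _
    have hres : ∀ x : Γ(X ⨯ TT.{u} n, ⊤), sU.appTop.hom (((p1 X n) ⁻¹ᵁ U).ι.appTop.hom x) =
        U.ι.appTop.hom ((sec X n).appTop.hom x) := by
      intro x
      have : ((p1 X n) ⁻¹ᵁ U).ι.appTop ≫ sU.appTop = (sec X n).appTop ≫ U.ι.appTop := by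
        rw [← Scheme.Hom.comp_appTop, ← Scheme.Hom.comp_appTop, hsU2]
      exact congrArg (fun φ => φ.hom x) this
    have hα : sU.appTop.hom (ψc.hom (AddMonoidAlgebra.single 0 b)) =
        ((Scheme.ΓSpecIso Γ(X, U)).inv ≫ hU.isoSpec.hom.appTop).hom b := by
      have e3 : (CommRingCat.ofHom (AddMonoidAlgebra.singleZeroRingHom :
          Γ(X, U) →+* AddMonoidAlgebra Γ(X, U) (Fin n → ℤ)) ≫ ψc) ≫ sU.appTop =
          (Scheme.ΓSpecIso Γ(X, U)).inv ≫ hU.isoSpec.hom.appTop := by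
        rw [h3, Category.assoc, ← Scheme.Hom.comp_appTop, ← Category.assoc, hsU1,
          Category.id_comp]
      exact congrArg (fun φ => φ.hom b) e3
    have h1' : (1 : Γ((U : Scheme.{u}), ⊤)) =
        ((Scheme.ΓSpecIso Γ(X, U)).inv ≫ hU.isoSpec.hom.appTop).hom b := by
      have := congrArg sU.appTop.hom hw2
      rw [map_mul, hres, hres, hsw', sec_mon, map_one, mul_one, hα] at this
      exact this
    have hb1 : b = 1 := by
      have hret : ((Scheme.ΓSpecIso Γ(X, U)).inv ≫ hU.isoSpec.hom.appTop) ≫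
          (hU.isoSpec.inv.appTop ≫ (Scheme.ΓSpecIso Γ(X, U)).hom) = 𝟙 _ := by
        rw [Category.assoc, ← Category.assoc hU.isoSpec.hom.appTop, ← Scheme.Hom.comp_appTop,
          Iso.inv_hom_id, Scheme.Hom.id_appTop, Category.id_comp, Iso.inv_hom_id]
      have hx : ∀ z, (hU.isoSpec.inv.appTop ≫ (Scheme.ΓSpecIso Γ(X, U)).hom).hom
          (((Scheme.ΓSpecIso Γ(X, U)).inv ≫ hU.isoSpec.hom.appTop).hom z) = z :=
        fun z => congrArg (fun φ => φ.hom z) hret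
      rw [← hx b, ← h1', map_one]
    refine ⟨e, ?_⟩
    rw [hw2, hb1]
    have h11 : (AddMonoidAlgebra.single (0 : Fin n → ℤ) (1 : Γ(X, U)) :
        AddMonoidAlgebra Γ(X, U) (Fin n → ℤ)) = 1 := rfl
    rw [h11, map_one, one_mul]
  · intro e e' h
    rw [hβ, hβ] at h
    exact (AddMonoidAlgebra.single_left_inj one_ne_zero).mp (hψinj h)

theorem main (v : Γ(X ⨯ TT.{u} n, ⊤)) (hv : IsUnit v) :
    ∃! p : (Γ(X, ⊤))ˣ × (Fin n → ℤ),
      v = (p1 X n).appTop.hom (p.1 : Γ(X, ⊤)) * mon X n p.2 := by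
  have ha : IsUnit ((sec X n).appTop.hom v) := hv.map (sec X n).appTop.hom
  obtain ⟨ua, hua⟩ := ha
  have hw'u : IsUnit (v * (p1 X n).appTop.hom ((ua⁻¹ : (Γ(X, ⊤))ˣ) : Γ(X, ⊤))) :=
    hv.mul ((Units.isUnit ua⁻¹).map (p1 X n).appTop.hom)
  have hsw' : (sec X n).appTop.hom
      (v * (p1 X n).appTop.hom ((ua⁻¹ : (Γ(X, ⊤))ˣ) : Γ(X, ⊤))) = 1 := by
    rw [map_mul, sec_fst_apply, ← hua, Units.mul_inv]
  obtain ⟨x₀⟩ := (inferInstance : Nonempty X)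
  obtain ⟨U₀, (hU₀ : IsAffineOpen U₀), hxU₀, -⟩ :=
    TopologicalSpace.Opens.isBasis_iff_nbhd.mp X.isBasis_affineOpens
      (show x₀ ∈ (⊤ : X.Opens) from trivial)
  have : Nonempty U₀ := ⟨⟨x₀, hxU₀⟩⟩
  obtain ⟨⟨e₀, he₀⟩, hinj₀⟩ := local_analysis X n _ hw'u hsw' U₀ hU₀
  have hall : ∀ (U : X.Opens) (hU : IsAffineOpen U) (x : X) (hx : x ∈ U),
      ((p1 X n) ⁻¹ᵁ U).ι.appTop.hom
        (v * (p1 X n).appTop.hom ((ua⁻¹ : (Γ(X, ⊤))ˣ) : Γ(X, ⊤))) =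
      ((p1 X n) ⁻¹ᵁ U).ι.appTop.hom (mon X n e₀) := by
    intro U hU x hx
    have : Nonempty U := ⟨⟨x, hx⟩⟩
    obtain ⟨⟨e, he⟩, -⟩ := local_analysis X n _ hw'u hsw' U hU
    obtain ⟨y, hyU, hyU₀⟩ : ((U : Set X) ∩ (U₀ : Set X)).Nonempty :=
      nonempty_preirreducible_inter U.2 U₀.2 ⟨x, hx⟩ ⟨x₀, hxU₀⟩
    obtain ⟨W, (hW : IsAffineOpen W), hyW, hWle⟩ :=
      TopologicalSpace.Opens.isBasis_iff_nbhd.mp X.isBasis_affineOpens
        (show y ∈ U ⊓ U₀ from ⟨hyU, hyU₀⟩)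
    have : Nonempty W := ⟨⟨y, hyW⟩⟩
    obtain ⟨-, hinjW⟩ := local_analysis X n _ hw'u hsw' W hW
    have r1 := restrict_eq X n (hWle.trans inf_le_left) he
    have r2 := restrict_eq X n (hWle.trans inf_le_right) he₀
    have hee : e = e₀ := hinjW e₀ e (r1.symm.trans r2)
    rw [he, hee]
  have hglob : v * (p1 X n).appTop.hom ((ua⁻¹ : (Γ(X, ⊤))ˣ) : Γ(X, ⊤)) = mon X n e₀ := by
    let ι := {U : X.Opens // IsAffineOpen U ∧ (U : Set X).Nonempty}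
    have hcov : (⊤ : (X ⨯ TT.{u} n).Opens) ≤ ⨆ i : ι, ((p1 X n) ⁻¹ᵁ i.1).ι ''ᵁ ⊤ := by
      intro y _
      obtain ⟨W, (hW : IsAffineOpen W), hyW, -⟩ :=
        TopologicalSpace.Opens.isBasis_iff_nbhd.mp X.isBasis_affineOpens
          (show (p1 X n).base y ∈ (⊤ : X.Opens) from trivial)
      refine TopologicalSpace.Opens.mem_iSup.mpr ⟨⟨W, hW, ⟨_, hyW⟩⟩, ?_⟩
      rw [Scheme.Opens.ι_image_top]
      exact hyW
    apply (X ⨯ TT.{u} n).sheaf.eq_of_locally_eq' (fun i : ι => ((p1 X n) ⁻¹ᵁ i.1).ι ''ᵁ ⊤) ⊤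
      (fun i => homOfLE le_top) hcov
    intro i
    obtain ⟨x, hx⟩ := i.2.2
    have := hall i.1 i.2.1 x hx
    rw [Scheme.Opens.ι_appTop] at this
    exact this
  have hv2 : v = (p1 X n).appTop.hom (ua : Γ(X, ⊤)) * mon X n e₀ := by
    rw [← hglob, mul_comm, mul_assoc, ← map_mul, Units.inv_mul, map_one, mul_one]
  refine ⟨(ua, e₀), hv2, ?_⟩
  rintro ⟨u', e'⟩ h
  have h' : v = (p1 X n).appTop.hom (u' : Γ(X, ⊤)) * mon X n e' := h
  have hu' : (u' : Γ(X, ⊤)) = (ua : Γ(X, ⊤)) := by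
    have := congrArg (sec X n).appTop.hom h'
    rw [map_mul, sec_fst_apply, sec_mon, mul_one] at this
    rw [hua, this]
  have hu'' : u' = ua := Units.ext hu'
  subst hu''
  have hm : mon X n e' = v * (p1 X n).appTop.hom ((u'⁻¹ : (Γ(X, ⊤))ˣ) : Γ(X, ⊤)) := by
    conv_rhs => rw [h']
    rw [mul_comm ((p1 X n).appTop.hom (u' : Γ(X, ⊤))) _, mul_assoc, ← map_mul, Units.mul_inv,
      map_one, mul_one]
  have hee : e' = e₀ := hinj₀ e₀ e' (by rw [hm, he₀])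
  rw [hee]

end Main

/-- Units on tori: let X be an integral scheme and P = X × 𝔾_mⁿ, the product with the n-dimensional
split torus Spec ℤ[ℤⁿ] = Spec ℤ[t₁^±, …, t_n^±]. The canonical map Γ(X, O_X)ˣ × ℤⁿ → Γ(P, O_P)ˣ, (u,
e) ↦ pr₁^*(u) · pr₂^*(t^e), is an isomorphism: every invertible global function on P is uniquely of
this form. -/
theorem result (X : Scheme.{u}) [IsIntegral X] (n : ℕ)
    (v : Γ(X ⨯ Spec (CommRingCat.of (ULift.{u} (AddMonoidAlgebra ℤ (Fin n → ℤ)))), ⊤)) (hv : IsUnit v) :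
    ∃! p : (Γ(X, ⊤))ˣ × (Fin n → ℤ),
      v = (prod.fst : X ⨯ Spec (CommRingCat.of (ULift.{u} (AddMonoidAlgebra ℤ (Fin n → ℤ)))) ⟶ X).appTop (p.1 : Γ(X, ⊤)) *
        (prod.snd : X ⨯ Spec (CommRingCat.of (ULift.{u} (AddMonoidAlgebra ℤ (Fin n → ℤ)))) ⟶ Spec (CommRingCat.of (ULift.{u} (AddMonoidAlgebra ℤ (Fin n → ℤ))))).appTop
          ((Scheme.ΓSpecIso (CommRingCat.of (ULift.{u} (AddMonoidAlgebra ℤ (Fin n → ℤ))))).inv (ULift.up (AddMonoidAlgebra.single p.2 1))) := by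
  exact main X n v hv

end Groth.Agent.S13798
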