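import Groth.Statements.S13801
import Mathlib.Tactic

set_option autoImplicit false
open ChowMon

namespace Groth.Agent.S13801

theorem sum_div_le {k : ℕ} (a : Fin k → ℕ) (d : ℕ) :
    ∑ i, a i / d ≤ (∑ i, a i) / d := by
  classical
  have : ∀ s : Finset (Fin k), ∑ i ∈ s, a i / d ≤ (∑ i ∈ s, a i) / d := by
    intro s
    induction s using Finset.induction_on with
    | empty => simp
    | insert i s hi ih =>
      rw [Finset.sum_insert hi, Finset.sum_insert hi]
      exact le_trans (Nat.add_le_add_left ih _) (Nat.add_div_le_add_div _ _ _)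
  exact this Finset.univ

theorem sum_div_lt {k : ℕ} (a : Fin k → ℕ) (d : ℕ) (hd : 0 < d) (hdvd : d ∣ ∑ i, a i)
    (h : ∃ i, ¬ d ∣ a i) : ∑ i, a i / d < (∑ i, a i) / d := by
  obtain ⟨i₀, hi₀⟩ := h
  -- sum of remainders is positive
  have hmod : 0 < ∑ i, a i % d := by
    apply Finset.sum_pos'
    · intro i _; exact Nat.zero_le _
    · exact ⟨i₀, Finset.mem_univ _, Nat.pos_of_ne_zero (fun h0 => hi₀ (Nat.dvd_of_mod_eq_zero h0))⟩
  have hsum : ∑ i, a i = d * ∑ i, a i / d + ∑ i, a i % d := by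
    rw [Finset.mul_sum, ← Finset.sum_add_distrib]
    exact Finset.sum_congr rfl fun i _ => (Nat.div_add_mod (a i) d).symm
  obtain ⟨q, hq⟩ := hdvd
  rw [hq, Nat.mul_div_cancel_left q hd]
  by_contra hcon
  push_neg at hcon
  have h1 : d * q ≤ d * ∑ i, a i / d := Nat.mul_le_mul_left d hcon
  rw [hq] at hsum
  omega

/-- For a prime p and positive natural numbers a_1, ..., a_k with sum n one has v_p(a_1!) + ... +
v_p(a_k!) ≤ v_p(n!), and the inequality is strict whenever some a_i is not divisible by p^(v_p(n)). -/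
theorem result {k : ℕ} (p : ℕ) [Fact p.Prime]
    (a : Fin k → ℕ) (ha : ∀ i, 0 < a i) :
    (∑ i, padicValNat p (a i).factorial ≤ padicValNat p (∑ i, a i).factorial) ∧
      ((∃ i, ¬ p ^ padicValNat p (∑ j, a j) ∣ a i) →
        ∑ i, padicValNat p (a i).factorial < padicValNat p (∑ i, a i).factorial) := by
  classical
  set n := ∑ i, a i with hn
  have hb : ∀ m, m ≤ n → Nat.log p m < Nat.log p n + 1 := fun m hm =>
    Nat.lt_succ_of_le (Nat.log_mono_right hm)
  have hai : ∀ i, a i ≤ n := fun i => Finset.single_le_sum (f := a) (fun _ _ => Nat.zero_le _)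
    (Finset.mem_univ i)
  have hL : ∀ i, padicValNat p (a i).factorial = ∑ j ∈ Finset.Ico 1 (Nat.log p n + 1), a i / p ^ j :=
    fun i => padicValNat_factorial (hb _ (hai i))
  have hR : padicValNat p n.factorial = ∑ j ∈ Finset.Ico 1 (Nat.log p n + 1), n / p ^ j :=
    padicValNat_factorial (hb _ le_rfl)
  have hswap : ∑ i, padicValNat p (a i).factorial =
      ∑ j ∈ Finset.Ico 1 (Nat.log p n + 1), ∑ i, a i / p ^ j := by
    rw [Finset.sum_comm]
    exact Finset.sum_congr rfl fun i _ => hL i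
  constructor
  · rw [hswap, hR]
    exact Finset.sum_le_sum fun j _ => sum_div_le a (p ^ j)
  · rintro ⟨i₀, hi₀⟩
    rw [hswap, hR]
    have hp : p.Prime := Fact.out
    have hnpos : 0 < n := lt_of_lt_of_le (ha i₀) (hai i₀)
    have he1 : 1 ≤ padicValNat p n := by
      by_contra h0
      push_neg at h0
      have : padicValNat p n = 0 := by omega
      rw [this, pow_zero] at hi₀
      exact hi₀ (one_dvd _)
    have hdvd : p ^ padicValNat p n ∣ n := pow_padicValNat_dvd
    have hele : padicValNat p n ≤ Nat.log p n := by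
      have h1 : p ^ padicValNat p n ≤ n := Nat.le_of_dvd hnpos hdvd
      exact Nat.le_log_of_pow_le hp.one_lt h1
    apply Finset.sum_lt_sum
    · intro j _; exact sum_div_le a (p ^ j)
    · refine ⟨padicValNat p n, Finset.mem_Ico.mpr ⟨he1, Nat.lt_succ_of_le hele⟩, ?_⟩
      exact sum_div_lt a _ (pow_pos hp.pos _) hdvd ⟨i₀, hi₀⟩

end Groth.Agent.S13801
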