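import Groth.Statements.S13806
import Groth.Agent.H69.EtaPtQ
import Groth.Agent.S13812

set_option autoImplicit false
universe u
open EtaPt

namespace Groth.Agent.S13806

/-- For a commutative ring A with finitely many minimal prime ideals and an integral ring map g : A → B
with N_η(g) bijective, there is exactly one ring map g' : B → M_η(A) with g' ∘ g = q_A. Here η is a
natural transformation from the identity of the category of fields to an endofunctor F with F(η_K)
bijective and η_K purely inseparable for every field K, N_η(A) is the product of the F(k(p)) over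
the primes p of A with diagonal map t_A, and M_η(A) ⊆ N_η(A) is the subring of elements sent into
the range of t_R by every ring map from A to a valuation ring R at whose fraction field η is
bijective; q_A : A → M_η(A) is the corestriction of t_A. -/
theorem result (η : EtaPt.FieldEndo.{u}) (A : Type u) [CommRing A]
    (hA : (minimalPrimes A).Finite) (B : Type u) [CommRing B] (g : A →+* B)
    (hg : g.IsIntegral) (hN : Function.Bijective (η.Nmap g)) :
    ∃! g' : B →+* η.M A, g'.comp g = η.q A := by
  have hb := Groth.Agent.S13812.result η g hg hN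
  have key : ∀ (h1 h2 : B →+* η.M A), h1.comp g = η.q A → h2.comp g = η.q A → h1 = h2 := by
    intro h1 h2 e1 e2
    apply RingHom.ext
    intro b
    have hN12 : ∀ y, η.Nmap h1 y = η.Nmap h2 y := by
      intro y
      obtain ⟨x, rfl⟩ := hN.2 y
      rw [← Groth.Agent.H69.Nmap_comp, ← Groth.Agent.H69.Nmap_comp, e1, e2]
    have h3 : η.t (η.M A) (h1 b) = η.t (η.M A) (h2 b) := by
      rw [← η.Nmap_t_apply h1 b, ← η.Nmap_t_apply h2 b, hN12]
    rw [← Groth.Agent.H69.Nmap_q_eq_t η hA, ← Groth.Agent.H69.Nmap_q_eq_t η hA] at h3
    exact Subtype.ext ((Groth.Agent.H69.Nmap_q_bijective η hA).1 h3)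
  let r : η.M A →+* η.M B := (η.Nmap g).restrict (η.M A) (η.M B) (fun x hx => hb.1 hx)
  have hr : Function.Bijective r := by
    constructor
    · intro x y hxy
      exact Subtype.ext (hN.1 (congrArg Subtype.val hxy))
    · rintro ⟨y, hy⟩
      obtain ⟨x, hx, rfl⟩ := hb.2.2 hy
      exact ⟨⟨x, hx⟩, rfl⟩
  let e : η.M A ≃+* η.M B := RingEquiv.ofBijective r hr
  have hcomp : ((e.symm : η.M B →+* η.M A).comp (η.q B)).comp g = η.q A := by
    apply RingHom.ext
    intro a
    show e.symm (η.q B (g a)) = η.q A a
    rw [RingEquiv.symm_apply_eq]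
    apply Subtype.ext
    exact (η.Nmap_t_apply g a).symm
  exact ⟨(e.symm : η.M B →+* η.M A).comp (η.q B), hcomp, fun g'' hg'' => key _ _ hg'' hcomp⟩

end Groth.Agent.S13806
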