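import Groth.Statements.S13807
import Groth.Agent.H69.EtaPt

set_option autoImplicit false
universe u
open EtaPt

namespace Groth.Agent.S13807

/-- For a field K the pointwise ring M_η(K) is all of N_η(K) = F(k((0))). Here η is a natural
transformation from the identity of the category of fields to an endofunctor F with F(η_K) bijective
and η_K purely inseparable for every field K, N_η(A) is the product of the F(k(p)) over the primes p
of A with diagonal map t_A, and M_η(A) ⊆ N_η(A) is the subring of elements sent into the range of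
t_R by every ring map from A to a valuation ring R at whose fraction field η is bijective; q_A : A →
M_η(A) is the corestriction of t_A. -/
theorem result (η : EtaPt.FieldEndo.{u}) (K : Type u) [Field K] : η.M K = ⊤ := by
  rw [eq_top_iff]
  intro x _
  rw [Groth.Agent.H69.mem_M_iff]
  intro R _ _ _ hR g
  classical
  let p₀ : PrimeSpectrum K := ⟨⊥, Ideal.isPrime_bot⟩
  have hq : ∀ q : PrimeSpectrum R, p₀.asIdeal = q.asIdeal.comap g := by
    intro q
    exact (Ideal.eq_bot_of_prime (q.asIdeal.comap g)).symm
  have hmax : p₀.asIdeal.IsMaximal := Ideal.bot_isMaximal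
  obtain ⟨n, a', ha'⟩ := η.exists_pow_mem_range_eta p₀.asIdeal.ResidueField (x p₀)
  obtain ⟨a, rfl⟩ := Ideal.algebraMap_residueField_surjective p₀.asIdeal a'
  set e := ringExpChar p₀.asIdeal.ResidueField with he
  have hE : ExpChar p₀.asIdeal.ResidueField e := ringExpChar.expChar _
  have hNq : ∀ q : PrimeSpectrum R, η.Nmap g x q =
      η.map (Ideal.ResidueField.map p₀.asIdeal q.asIdeal g (hq q)) (x p₀) :=
    fun q => Groth.Agent.H69.Nmap_apply_of_eq η g x q p₀ (hq q)
  have hpow : ∀ q : PrimeSpectrum R,
      (η.map (Ideal.ResidueField.map p₀.asIdeal q.asIdeal g (hq q)) (x p₀)) ^ e ^ n =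
        η.eta q.asIdeal.ResidueField (algebraMap R q.asIdeal.ResidueField (g a)) := by
    intro q
    rw [← map_pow, ← ha', Groth.Agent.H69.map_eta_apply, Ideal.ResidueField.map_algebraMap]
  let q₀ : PrimeSpectrum R := ⟨⊥, Ideal.isPrime_bot⟩
  have hbij := Groth.Agent.H69.eta_bijective_bot η hR
  obtain ⟨z, hz⟩ := hbij.2 (η.map (Ideal.ResidueField.map p₀.asIdeal q₀.asIdeal g (hq q₀)) (x p₀))
  have hzpow : z ^ e ^ n = algebraMap R (⊥ : Ideal R).ResidueField (g a) := by
    apply Groth.Agent.H69.eta_injective η
    rw [map_pow, hz]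
    exact hpow q₀
  have hepos : 0 < e ^ n := pow_pos (expChar_pos p₀.asIdeal.ResidueField e) n
  have hint : IsIntegral R z := by
    apply IsIntegral.of_pow hepos
    rw [hzpow]
    exact isIntegral_algebraMap
  obtain ⟨r, hr⟩ := IsIntegrallyClosed.isIntegral_iff.mp hint
  have hrpow : r ^ e ^ n = g a := by
    apply IsFractionRing.injective R (⊥ : Ideal R).ResidueField
    rw [map_pow, hr, hzpow]
  refine ⟨r, ?_⟩
  funext q
  rw [hNq q]
  have hEq : ExpChar q.asIdeal.ResidueField e :=
    expChar_of_injective_ringHom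
      (Ideal.ResidueField.map p₀.asIdeal q.asIdeal g (hq q)).injective e
  apply Groth.Agent.H69.pow_expChar_pow_inj η q.asIdeal.ResidueField e n
  rw [hpow q, Groth.Agent.H69.t_apply, ← map_pow, ← map_pow, hrpow]

end Groth.Agent.S13807
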