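import Groth.Statements.S13808
import Groth.Agent.H69.EtaPtVal

set_option autoImplicit false
universe u
open EtaPt

namespace Groth.Agent.S13808

/-- For an integral domain A such that η is bijective at the fraction field of A, the projection of
N_η(A) onto its factor F(k((0))) at the generic point is injective on M_η(A). Here η is a natural
transformation from the identity of the category of fields to an endofunctor F with F(η_K) bijective
and η_K purely inseparable for every field K, N_η(A) is the product of the F(k(p)) over the primes p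
of A with diagonal map t_A, and M_η(A) ⊆ N_η(A) is the subring of elements sent into the range of
t_R by every ring map from A to a valuation ring R at whose fraction field η is bijective; q_A : A →
M_η(A) is the corestriction of t_A. -/
theorem result (η : EtaPt.FieldEndo.{u}) (A : Type u) [CommRing A] [IsDomain A] (hA : η.InV A) :
    Set.InjOn (fun x : η.N A => x ⟨⊥, Ideal.isPrime_bot⟩) (η.M A) := by
  intro x hx x' hx' h0
  change x ⟨⊥, Ideal.isPrime_bot⟩ = x' ⟨⊥, Ideal.isPrime_bot⟩ at h0
  funext p
  have hφ : Function.Injective (algebraMap A (FractionRing A)) :=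
    IsFractionRing.injective A (FractionRing A)
  have hker : RingHom.ker (algebraMap A (FractionRing A)) ≤ p.asIdeal := by
    rw [(RingHom.injective_iff_ker_eq_bot _).mp hφ]; exact bot_le
  obtain ⟨V, hmem, hcomap⟩ :=
    Groth.Agent.H69.exists_valuationSubring_comap_eq (algebraMap A (FractionRing A)) p.asIdeal hker
  set g : A →+* V := (algebraMap A (FractionRing A)).codRestrict V.toSubring hmem with hgdef
  have hg : Function.Injective g := fun a b hab => hφ (congrArg Subtype.val hab)
  have hV : η.InV V := Groth.Agent.H69.InV_valuationSubring η hA V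
  obtain ⟨r, hr⟩ := hx V hV g
  obtain ⟨r', hr'⟩ := hx' V hV g
  let q₀ : PrimeSpectrum V := ⟨⊥, Ideal.isPrime_bot⟩
  have hq₀ : (⟨⊥, Ideal.isPrime_bot⟩ : PrimeSpectrum A).asIdeal = q₀.asIdeal.comap g := by
    show (⊥ : Ideal A) = Ideal.comap g ⊥
    rw [← RingHom.ker_eq_comap_bot, (RingHom.injective_iff_ker_eq_bot g).mp hg]
  have e1 := congrFun hr q₀
  have e1' := congrFun hr' q₀
  rw [Groth.Agent.H69.Nmap_apply_of_eq η g x q₀ _ hq₀] at e1
  rw [Groth.Agent.H69.Nmap_apply_of_eq η g x' q₀ _ hq₀] at e1'
  have hrr' : r = r' := by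
    have h1 : η.t V r q₀ = η.t V r' q₀ := by rw [e1, e1', h0]
    rw [Groth.Agent.H69.t_apply, Groth.Agent.H69.t_apply] at h1
    exact IsFractionRing.injective V (⊥ : Ideal V).ResidueField
      (Groth.Agent.H69.eta_injective η _ h1)
  let q₁ : PrimeSpectrum V := ⟨IsLocalRing.maximalIdeal V, inferInstance⟩
  have hq₁ : p.asIdeal = q₁.asIdeal.comap g := hcomap.symm
  have e2 := congrFun hr q₁
  have e2' := congrFun hr' q₁
  rw [Groth.Agent.H69.Nmap_apply_of_eq η g x q₁ p hq₁] at e2
  rw [Groth.Agent.H69.Nmap_apply_of_eq η g x' q₁ p hq₁] at e2'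
  rw [hrr'] at e2
  exact (η.map _).injective (e2.symm.trans e2')

end Groth.Agent.S13808
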