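import Groth.Statements.S13809
import Groth.Agent.H69.EtaPtInt
import Groth.Agent.S13808

set_option autoImplicit false
universe u
open EtaPt

namespace Groth.Agent.S13809

/-- For an integrally closed domain A such that η is bijective at the fraction field of A, the map q_A :
A → M_η(A) is bijective. Here η is a natural transformation from the identity of the category of
fields to an endofunctor F with F(η_K) bijective and η_K purely inseparable for every field K,
N_η(A) is the product of the F(k(p)) over the primes p of A with diagonal map t_A, and M_η(A) ⊆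
N_η(A) is the subring of elements sent into the range of t_R by every ring map from A to a valuation
ring R at whose fraction field η is bijective; q_A : A → M_η(A) is the corestriction of t_A. -/
theorem result (η : EtaPt.FieldEndo.{u}) (A : Type u) [CommRing A] [IsDomain A] [IsIntegrallyClosed A]
    (hA : η.InV A) : Function.Bijective (η.q A) := by
  classical
  constructor
  · intro a b hab
    have h1 : η.t A a = η.t A b := congrArg Subtype.val hab
    have h2 := congrFun h1 ⟨⊥, Ideal.isPrime_bot⟩
    rw [Groth.Agent.H69.t_apply, Groth.Agent.H69.t_apply] at h2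
    exact IsFractionRing.injective A (⊥ : Ideal A).ResidueField
      (Groth.Agent.H69.eta_injective η _ h2)
  · rintro ⟨x, hx⟩
    have hbot := Groth.Agent.H69.eta_bijective_bot η hA
    obtain ⟨c, hc⟩ := hbot.2 (x ⟨⊥, Ideal.isPrime_bot⟩)
    have hcA : ∃ a, algebraMap A (⊥ : Ideal A).ResidueField a = c := by
      apply Groth.Agent.H69.exists_algebraMap_eq_of_forall_valuationSubring
      intro V hAV
      set g : A →+* V := (algebraMap A (⊥ : Ideal A).ResidueField).codRestrict V.toSubring hAV
        with hgdef
      have hg : Function.Injective g := fun a b hab =>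
        IsFractionRing.injective A (⊥ : Ideal A).ResidueField (congrArg Subtype.val hab)
      have hV : η.InV V := Groth.Agent.H69.InV_valuationSubring η hbot V
      obtain ⟨r, hr⟩ := hx V hV g
      let q₀ : PrimeSpectrum V := ⟨⊥, Ideal.isPrime_bot⟩
      have hq₀ : (⟨⊥, Ideal.isPrime_bot⟩ : PrimeSpectrum A).asIdeal = q₀.asIdeal.comap g := by
        show (⊥ : Ideal A) = Ideal.comap g ⊥
        rw [← RingHom.ker_eq_comap_bot, (RingHom.injective_iff_ker_eq_bot g).mp hg]
      have e1 := congrFun hr q₀
      rw [Groth.Agent.H69.Nmap_apply_of_eq η g x q₀ _ hq₀, Groth.Agent.H69.t_apply, ← hc,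
        Groth.Agent.H69.map_eta_apply] at e1
      have e2 := Groth.Agent.H69.eta_injective η _ e1
      -- the comparison map back to the residue field of A at zero
      let ψ : (⊥ : Ideal V).ResidueField →+* (⊥ : Ideal A).ResidueField :=
        IsFractionRing.lift (A := V) (K := (⊥ : Ideal V).ResidueField)
          (g := V.subtype) Subtype.val_injective
      have hψ : ∀ v : V, ψ (algebraMap V (⊥ : Ideal V).ResidueField v) = (v : (⊥ : Ideal A).ResidueField) :=
        fun v => IsFractionRing.lift_algebraMap _ v
      have hid : ψ.comp (Ideal.ResidueField.map (⊥ : Ideal A) (⊥ : Ideal V) g hq₀) =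
          RingHom.id _ := by
        apply Ideal.ResidueField.ringHom_ext
        ext a
        simp only [RingHom.comp_apply, RingHom.id_apply, Ideal.ResidueField.map_algebraMap, hψ]
        rfl
      have hcr : c = (r : (⊥ : Ideal A).ResidueField) := by
        have h3 := congrArg ψ e2
        rw [hψ] at h3
        rw [h3]
        exact (congrArg (fun h => h c) (congrArg DFunLike.coe hid)).symm
      rw [hcr]
      exact r.2
    obtain ⟨a, ha⟩ := hcA
    refine ⟨a, Subtype.ext ?_⟩
    show η.t A a = x
    apply Groth.Agent.S13808.result η A hA (η.t_mem_M A a) hx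
    show η.t A a ⟨⊥, Ideal.isPrime_bot⟩ = x ⟨⊥, Ideal.isPrime_bot⟩
    rw [Groth.Agent.H69.t_apply, ha, hc]

end Groth.Agent.S13809
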