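import Groth.Statements.S13810
import Groth.Agent.H69.EtaPtLoc

set_option autoImplicit false
universe u
open EtaPt

namespace Groth.Agent.S13810


open Groth.Agent.H69

theorem fst_surj (A B : Type u) [CommRing A] [CommRing B] :
    Function.Surjective (RingHom.fst A B) := fun a => ⟨(a, 0), rfl⟩

theorem snd_surj (A B : Type u) [CommRing A] [CommRing B] :
    Function.Surjective (RingHom.snd A B) := fun b => ⟨(0, b), rfl⟩

theorem mem_range_fst_of_mem {A B : Type u} [CommRing A] [CommRing B] (P : PrimeSpectrum (A × B))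
    (h : ((0 : A), (1 : B)) ∈ P.asIdeal) :
    P ∈ Set.range (PrimeSpectrum.comap (RingHom.fst A B)) := by
  rw [range_comap_of_surjective _ _ (fst_surj A B), PrimeSpectrum.mem_zeroLocus]
  rintro ⟨a, b⟩ hab
  have ha : a = 0 := hab
  have : ((a, b) : A × B) = (a, b) * (0, 1) := by
    rw [ha]; ext <;> simp
  show ((a, b) : A × B) ∈ P.asIdeal
  rw [this]
  exact P.asIdeal.mul_mem_left _ h

theorem mem_range_snd_of_mem {A B : Type u} [CommRing A] [CommRing B] (P : PrimeSpectrum (A × B))
    (h : ((1 : A), (0 : B)) ∈ P.asIdeal) :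
    P ∈ Set.range (PrimeSpectrum.comap (RingHom.snd A B)) := by
  rw [range_comap_of_surjective _ _ (snd_surj A B), PrimeSpectrum.mem_zeroLocus]
  rintro ⟨a, b⟩ hab
  have hb : b = 0 := hab
  have : ((a, b) : A × B) = (a, b) * (1, 0) := by
    rw [hb]; ext <;> simp
  show ((a, b) : A × B) ∈ P.asIdeal
  rw [this]
  exact P.asIdeal.mul_mem_left _ h

theorem prime_cases {A B : Type u} [CommRing A] [CommRing B] (P : PrimeSpectrum (A × B)) :
    P ∈ Set.range (PrimeSpectrum.comap (RingHom.fst A B)) ∨
      P ∈ Set.range (PrimeSpectrum.comap (RingHom.snd A B)) := by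
  have h : ((0 : A), (1 : B)) * ((1 : A), (0 : B)) ∈ P.asIdeal := by
    have : ((0 : A), (1 : B)) * ((1 : A), (0 : B)) = 0 := by ext <;> simp
    rw [this]; exact P.asIdeal.zero_mem
  rcases P.2.mem_or_mem h with h1 | h2
  · exact Or.inl (mem_range_fst_of_mem P h1)
  · exact Or.inr (mem_range_snd_of_mem P h2)

theorem comap_fst_not_mem_range_snd {A B : Type u} [CommRing A] [CommRing B]
    (p : PrimeSpectrum A) :
    PrimeSpectrum.comap (RingHom.fst A B) p ∉
      Set.range (PrimeSpectrum.comap (RingHom.snd A B)) := by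
  rintro ⟨q, hq⟩
  have h1 : ((0 : A), (1 : B)) ∈ (PrimeSpectrum.comap (RingHom.fst A B) p).asIdeal := by
    show (0 : A) ∈ p.asIdeal
    exact p.asIdeal.zero_mem
  rw [← hq] at h1
  have h2 : (1 : B) ∈ q.asIdeal := h1
  exact q.2.ne_top ((Ideal.eq_top_iff_one _).mpr h2)

theorem comap_snd_not_mem_range_fst {A B : Type u} [CommRing A] [CommRing B]
    (q : PrimeSpectrum B) :
    PrimeSpectrum.comap (RingHom.snd A B) q ∉
      Set.range (PrimeSpectrum.comap (RingHom.fst A B)) := by
  rintro ⟨p, hp⟩
  have h1 : ((1 : A), (0 : B)) ∈ (PrimeSpectrum.comap (RingHom.snd A B) q).asIdeal := by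
    show (0 : B) ∈ q.asIdeal
    exact q.asIdeal.zero_mem
  rw [← hp] at h1
  have h2 : (1 : A) ∈ p.asIdeal := h1
  exact p.2.ne_top ((Ideal.eq_top_iff_one _).mpr h2)

/-- an element of `N(A)` vanishing on the range of `Spec f` is killed by `N(f)` -/
theorem Nmap_eq_zero_of_vanish {A B : Type u} [CommRing A] [CommRing B]
    (η : EtaPt.FieldEndo.{u}) (f : A →+* B) (x : η.N A)
    (h : ∀ q : PrimeSpectrum B, x (PrimeSpectrum.comap f q) = 0) : η.Nmap f x = 0 := by
  funext q
  rw [Nmap_apply, h q, map_zero]
  rfl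

theorem exists_factor_of_surjective {A B C : Type u} [CommRing A] [CommRing B] [CommRing C]
    (f : A →+* B) (hf : Function.Surjective f) (g : A →+* C)
    (h : RingHom.ker f ≤ RingHom.ker g) : ∃ g₁ : B →+* C, g₁.comp f = g :=
  ⟨f.liftOfSurjective hf ⟨g, h⟩, RingHom.liftOfSurjective_comp f hf ⟨g, h⟩⟩

/-- For commutative rings A and B, the pair of maps N_η of the two projections restricts to a bijection
from M_η(A × B) onto M_η(A) × M_η(B). Here η is a natural transformation from the identity of the
category of fields to an endofunctor F with F(η_K) bijective and η_K purely inseparable for every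
field K, N_η(A) is the product of the F(k(p)) over the primes p of A with diagonal map t_A, and
M_η(A) ⊆ N_η(A) is the subring of elements sent into the range of t_R by every ring map from A to a
valuation ring R at whose fraction field η is bijective; q_A : A → M_η(A) is the corestriction of
t_A. -/
theorem result (η : EtaPt.FieldEndo.{u}) (A B : Type u) [CommRing A] [CommRing B] :
    Set.BijOn (fun x : η.N (A × B) => (η.Nmap (RingHom.fst A B) x, η.Nmap (RingHom.snd A B) x))
      (η.M (A × B)) ((η.M A : Set (η.N A)) ×ˢ (η.M B : Set (η.N B))) := by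
  classical
  have hsf := fst_surj A B
  have hss := snd_surj A B
  refine ⟨?_, ?_, ?_⟩
  · intro x hx
    exact ⟨Nmap_mem_M η _ hx, Nmap_mem_M η _ hx⟩
  · intro x _ x' _ hxx'
    have h1 : η.Nmap (RingHom.fst A B) x = η.Nmap (RingHom.fst A B) x' :=
      congrArg Prod.fst hxx'
    have h2 : η.Nmap (RingHom.snd A B) x = η.Nmap (RingHom.snd A B) x' :=
      congrArg Prod.snd hxx'
    funext P
    rcases prime_cases P with ⟨p, rfl⟩ | ⟨q, rfl⟩
    · have := congrFun h1 p
      rw [Nmap_apply, Nmap_apply] at this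
      exact (η.map _).injective this
    · have := congrFun h2 q
      rw [Nmap_apply, Nmap_apply] at this
      exact (η.map _).injective this
  · rintro ⟨y, z⟩ ⟨hy, hz⟩
    obtain ⟨x₁, hx₁, hx₁0⟩ := exists_Nmap_eq_of_surjectiveOnStalks η (RingHom.fst A B)
      (RingHom.surjectiveOnStalks_of_surjective hsf)
      (PrimeSpectrum.comap_injective_of_surjective _ hsf) y
    obtain ⟨x₂, hx₂, hx₂0⟩ := exists_Nmap_eq_of_surjectiveOnStalks η (RingHom.snd A B)
      (RingHom.surjectiveOnStalks_of_surjective hss)
      (PrimeSpectrum.comap_injective_of_surjective _ hss) z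
    have h12 : η.Nmap (RingHom.fst A B) x₂ = 0 :=
      Nmap_eq_zero_of_vanish η _ x₂ (fun p => hx₂0 _ (comap_fst_not_mem_range_snd p))
    have h21 : η.Nmap (RingHom.snd A B) x₁ = 0 :=
      Nmap_eq_zero_of_vanish η _ x₁ (fun q => hx₁0 _ (comap_snd_not_mem_range_fst q))
    have hfst : η.Nmap (RingHom.fst A B) (x₁ + x₂) = y := by
      rw [map_add, hx₁, h12, add_zero]
    have hsnd : η.Nmap (RingHom.snd A B) (x₁ + x₂) = z := by
      rw [map_add, hx₂, h21, zero_add]
    refine ⟨x₁ + x₂, ?_, ?_⟩
    · intro R _ _ _ hR g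
      have h0 : g ((0 : A), (1 : B)) * g ((1 : A), (0 : B)) = 0 := by
        rw [← map_mul]
        have : ((0 : A), (1 : B)) * ((1 : A), (0 : B)) = 0 := by ext <;> simp
        rw [this, map_zero]
      rcases mul_eq_zero.mp h0 with h1 | h2
      · -- `g` factors through `fst`
        have hker : RingHom.ker (RingHom.fst A B) ≤ RingHom.ker g := by
          rintro ⟨a, b⟩ hab
          have ha : a = 0 := hab
          have : ((a, b) : A × B) = (a, b) * (0, 1) := by
            rw [ha]; ext <;> simp
          rw [RingHom.mem_ker, this, map_mul, h1, mul_zero]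
        obtain ⟨g₁, rfl⟩ := exists_factor_of_surjective _ hsf g hker
        rw [Nmap_comp, hfst]
        exact hy R hR g₁
      · have hker : RingHom.ker (RingHom.snd A B) ≤ RingHom.ker g := by
          rintro ⟨a, b⟩ hab
          have hb : b = 0 := hab
          have : ((a, b) : A × B) = (a, b) * (1, 0) := by
            rw [hb]; ext <;> simp
          rw [RingHom.mem_ker, this, map_mul, h2, mul_zero]
        obtain ⟨g₁, rfl⟩ := exists_factor_of_surjective _ hss g hker
        rw [Nmap_comp, hsnd]
        exact hz R hR g₁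
    · show (η.Nmap (RingHom.fst A B) (x₁ + x₂), η.Nmap (RingHom.snd A B) (x₁ + x₂)) = (y, z)
      rw [hfst, hsnd]

end Groth.Agent.S13810
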