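import Groth.Statements.S13814
import Groth.Agent.H69.EtaPtVR

set_option autoImplicit false
universe u
open EtaPt

namespace Groth.Agent.S13814


open Groth.Agent.H69

theorem exists_of_pow_eq (η : EtaPt.FieldEndo.{u}) (R : Type u) [CommRing R] [IsDomain R]
    [ValuationRing R]
    (hη : η.InV R ∨ ∀ (k : Type u) [Field k], ringChar k = ringChar R →
      Function.Bijective (η.eta k) → PerfectField k)
    (z : η.obj (⊥ : Ideal R).ResidueField) (m : ℕ) (hm : m ≠ 0) (r : R)
    (h : z ^ m = η.eta _ (algebraMap R (⊥ : Ideal R).ResidueField r)) :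
    ∃ x : η.M R, (x : η.N R) ⟨⊥, Ideal.isPrime_bot⟩ = z := by
  have hint : ((η.eta (⊥ : Ideal R).ResidueField).comp
      (algebraMap R (⊥ : Ideal R).ResidueField)).IsIntegralElem z := by
    refine ⟨Polynomial.X ^ m - Polynomial.C r, Polynomial.monic_X_pow_sub_C r hm, ?_⟩
    rw [Polynomial.eval₂_sub, Polynomial.eval₂_pow, Polynomial.eval₂_X, Polynomial.eval₂_C, h]
    simp
  obtain ⟨x, hx, hxz⟩ := exists_mem_M_generic η R hη z hint
  exact ⟨⟨x, hx⟩, hxz⟩

theorem exists_common_pow (η : EtaPt.FieldEndo.{u}) (K : Type u) [Field K] (z w : η.obj K) :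
    ∃ (n : ℕ) (c d : K), z ^ ringExpChar K ^ n = η.eta K c ∧ w ^ ringExpChar K ^ n = η.eta K d := by
  obtain ⟨n₁, c, hc⟩ := η.exists_pow_mem_range_eta K z
  obtain ⟨n₂, d, hd⟩ := η.exists_pow_mem_range_eta K w
  refine ⟨n₁ + n₂, c ^ ringExpChar K ^ n₂, d ^ ringExpChar K ^ n₁, ?_, ?_⟩
  · rw [pow_add, pow_mul, ← hc, map_pow]
  · rw [add_comm, pow_add, pow_mul, ← hd, map_pow]

theorem exists_mul_eq (η : EtaPt.FieldEndo.{u}) (R : Type u) [CommRing R] [IsDomain R]
    [ValuationRing R]
    (hη : η.InV R ∨ ∀ (k : Type u) [Field k], ringChar k = ringChar R →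
      Function.Bijective (η.eta k) → PerfectField k)
    (a b : η.M R) (m : ℕ) (hm : m ≠ 0) (r₁ r₂ c₀ : R)
    (ha : ((a : η.N R) ⟨⊥, Ideal.isPrime_bot⟩) ^ m =
      η.eta _ (algebraMap R (⊥ : Ideal R).ResidueField r₁))
    (hb : ((b : η.N R) ⟨⊥, Ideal.isPrime_bot⟩) ^ m =
      η.eta _ (algebraMap R (⊥ : Ideal R).ResidueField r₂))
    (h : r₁ * c₀ = r₂) : ∃ c : η.M R, a * c = b := by
  have hinj : ∀ x y : η.M R, (x : η.N R) ⟨⊥, Ideal.isPrime_bot⟩ =
      (y : η.N R) ⟨⊥, Ideal.isPrime_bot⟩ → x = y := fun x y hxy =>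
    Subtype.ext (injOn_generic η R x.2 y.2 hxy)
  by_cases hα : (a : η.N R) ⟨⊥, Ideal.isPrime_bot⟩ = 0
  · have h1 : η.eta _ (algebraMap R (⊥ : Ideal R).ResidueField r₁) = 0 := by
      rw [← ha, hα, zero_pow hm]
    have hr1 : r₁ = 0 := by
      have h2 := (map_eq_zero_iff _ (eta_injective η _)).mp h1
      exact (map_eq_zero_iff _ (IsFractionRing.injective R (⊥ : Ideal R).ResidueField)).mp h2
    have hr2 : r₂ = 0 := by rw [← h, hr1, zero_mul]
    have hβ : (b : η.N R) ⟨⊥, Ideal.isPrime_bot⟩ = 0 := by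
      rw [hr2, map_zero, map_zero] at hb
      exact (pow_eq_zero_iff hm).mp hb
    refine ⟨0, ?_⟩
    rw [mul_zero]
    apply hinj
    rw [hβ]
    rfl
  · have hne : η.eta _ (algebraMap R (⊥ : Ideal R).ResidueField r₁) ≠ 0 := by
      rw [← ha]; exact pow_ne_zero _ hα
    have hγ : ((b : η.N R) ⟨⊥, Ideal.isPrime_bot⟩ / (a : η.N R) ⟨⊥, Ideal.isPrime_bot⟩) ^ m =
        η.eta _ (algebraMap R (⊥ : Ideal R).ResidueField c₀) := by
      rw [div_pow, ha, hb, ← h, map_mul, map_mul, mul_div_cancel_left₀ _ hne]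
    obtain ⟨x, hx⟩ := exists_of_pow_eq η R hη _ m hm c₀ hγ
    refine ⟨x, hinj _ _ ?_⟩
    show (a : η.N R) ⟨⊥, Ideal.isPrime_bot⟩ * (x : η.N R) ⟨⊥, Ideal.isPrime_bot⟩ =
      (b : η.N R) ⟨⊥, Ideal.isPrime_bot⟩
    rw [hx, mul_div_cancel₀ _ hα]

/-- Let R be a valuation ring with fraction field K = k((0)) such that η is bijective at K, or such that
every field of the same characteristic as R at which η is bijective is perfect. Then the ring M_η(R)
is again a valuation ring, every element of F(K) is a quotient of generic components of elements of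
M_η(R), and an element of F(K) that is both the generic component of an element of M_η(R) and in the
image of K comes from R. (The published statement assumes nothing about η beyond the standing
conditions, and then fails: for the endofunctor equal to the perfect closure on the fields of
characteristic 2 and transcendence degree at least 2 over the prime field and to the identity on
every other field, and R = F_2(s)[t] localised at (t), neither of the elements (s^(1/2) t, 0) and
(t, 0) of M_η(R) ⊆ F(K) × F_2(s) divides the other, so M_η(R) is not a valuation ring. This row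
assumes that η is bijective at Frac R, or that every field of the same characteristic as R at which
η is bijective is perfect; both the identity and the perfect closure satisfy this.) Here η is a
natural transformation from the identity of the category of fields to an endofunctor F with F(η_K)
bijective and η_K purely inseparable for every field K, N_η(A) is the product of the F(k(p)) over
the primes p of A with diagonal map t_A, and M_η(A) ⊆ N_η(A) is the subring of elements sent into
the range of t_R by every ring map from A to a valuation ring R at whose fraction field η is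
bijective; q_A : A → M_η(A) is the corestriction of t_A. -/
theorem result (η : EtaPt.FieldEndo.{u}) (R : Type u) [CommRing R] [IsDomain R] [ValuationRing R]
    (hη : η.InV R ∨ ∀ (k : Type u) [Field k], ringChar k = ringChar R →
      Function.Bijective (η.eta k) → PerfectField k) :
    IsDomain (η.M R) ∧ PreValuationRing (η.M R) ∧
      (∀ y : η.obj (⊥ : Ideal R).ResidueField, ∃ a b : η.M R,
        (b : η.N R) ⟨⊥, Ideal.isPrime_bot⟩ ≠ 0 ∧
          y * (b : η.N R) ⟨⊥, Ideal.isPrime_bot⟩ = (a : η.N R) ⟨⊥, Ideal.isPrime_bot⟩) ∧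
      (fun x : η.N R => x ⟨⊥, Ideal.isPrime_bot⟩) '' (η.M R : Set (η.N R)) ∩
          Set.range (η.eta (⊥ : Ideal R).ResidueField) =
        Set.range ((η.eta (⊥ : Ideal R).ResidueField).comp (algebraMap R (⊥ : Ideal R).ResidueField)) := by
  classical
  have hinj : Function.Injective (evM η (⟨⊥, Ideal.isPrime_bot⟩ : PrimeSpectrum R)) := by
    intro x y hxy
    exact Subtype.ext (injOn_generic η R x.2 y.2 hxy)
  have hdom : IsDomain (η.M R) := Function.Injective.isDomain (evM η _) hinj
  have he0 : ringExpChar (⊥ : Ideal R).ResidueField ≠ 0 :=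
    expChar_ne_zero (⊥ : Ideal R).ResidueField _
  refine ⟨hdom, ⟨?_⟩, ?_, ?_⟩
  · intro a b
    obtain ⟨n, c, d, hc, hd⟩ := exists_common_pow η (⊥ : Ideal R).ResidueField
      ((a : η.N R) ⟨⊥, Ideal.isPrime_bot⟩) ((b : η.N R) ⟨⊥, Ideal.isPrime_bot⟩)
    have hac : ((η.eta (⊥ : Ideal R).ResidueField).comp
        (algebraMap R (⊥ : Ideal R).ResidueField)).IsIntegralElem (η.eta _ c) := by
      rw [← hc]
      exact isIntegralElem_pow _ (component_isIntegralElem η a.2 ⟨⊥, Ideal.isPrime_bot⟩) _
    have hbd : ((η.eta (⊥ : Ideal R).ResidueField).comp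
        (algebraMap R (⊥ : Ideal R).ResidueField)).IsIntegralElem (η.eta _ d) := by
      rw [← hd]
      exact isIntegralElem_pow _ (component_isIntegralElem η b.2 ⟨⊥, Ideal.isPrime_bot⟩) _
    obtain ⟨r₁, rfl⟩ := exists_algebraMap_eq_of_isIntegralElem_eta η R c hac
    obtain ⟨r₂, rfl⟩ := exists_algebraMap_eq_of_isIntegralElem_eta η R d hbd
    obtain ⟨c₀, h | h⟩ := ValuationRing.cond r₁ r₂
    · obtain ⟨x, hx⟩ := exists_mul_eq η R hη a b _ (pow_ne_zero n he0) r₁ r₂ c₀ hc hd h
      exact ⟨x, Or.inl hx⟩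
    · obtain ⟨x, hx⟩ := exists_mul_eq η R hη b a _ (pow_ne_zero n he0) r₂ r₁ c₀ hd hc h
      exact ⟨x, Or.inr hx⟩
  · intro y
    obtain ⟨n, k, hk⟩ := η.exists_pow_mem_range_eta (⊥ : Ideal R).ResidueField y
    obtain ⟨r, s, hs, rfl⟩ := IsFractionRing.div_surjective (A := R) k
    have hs0 : algebraMap R (⊥ : Ideal R).ResidueField s ≠ 0 :=
      map_ne_zero_of_mem_nonZeroDivisors _ (IsFractionRing.injective R _) hs
    obtain ⟨m, hm⟩ : ∃ m, m = ringExpChar (⊥ : Ideal R).ResidueField ^ n := ⟨_, rfl⟩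
    rw [← hm] at hk
    have hm0 : m ≠ 0 := by rw [hm]; exact pow_ne_zero n he0
    have hz : (y * η.eta _ (algebraMap R (⊥ : Ideal R).ResidueField s)) ^ m =
        η.eta _ (algebraMap R (⊥ : Ideal R).ResidueField (r * s ^ (m - 1))) := by
      rw [mul_pow, ← hk, ← map_pow, ← map_mul]
      congr 1
      rw [map_mul, map_pow]
      have hpow : (algebraMap R (⊥ : Ideal R).ResidueField s) ^ m =
          algebraMap R (⊥ : Ideal R).ResidueField s *
            (algebraMap R (⊥ : Ideal R).ResidueField s) ^ (m - 1) := by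
        rw [← pow_succ', Nat.sub_add_cancel (Nat.one_le_iff_ne_zero.mpr hm0)]
      rw [hpow]
      field_simp
    obtain ⟨a, ha⟩ := exists_of_pow_eq η R hη _ m hm0 _ hz
    refine ⟨a, η.q R s, ?_, ?_⟩
    · show η.eta _ (algebraMap R (⊥ : Ideal R).ResidueField s) ≠ 0
      exact (map_ne_zero _).mpr hs0
    · exact ha.symm
  · ext z
    constructor
    · rintro ⟨⟨x, hx, rfl⟩, ⟨c, hc⟩⟩
      have hint := component_isIntegralElem η hx ⟨⊥, Ideal.isPrime_bot⟩
      change ((η.eta (⊥ : Ideal R).ResidueField).comp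
        (algebraMap R (⊥ : Ideal R).ResidueField)).IsIntegralElem
          (x ⟨⊥, Ideal.isPrime_bot⟩) at hint
      have hc' : η.eta _ c = x ⟨⊥, Ideal.isPrime_bot⟩ := hc
      rw [← hc'] at hint
      obtain ⟨r, rfl⟩ := exists_algebraMap_eq_of_isIntegralElem_eta η R c hint
      exact ⟨r, hc'⟩
    · rintro ⟨r, rfl⟩
      exact ⟨⟨η.t R r, η.t_mem_M R r, rfl⟩, ⟨algebraMap R _ r, rfl⟩⟩

end Groth.Agent.S13814
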