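import Groth.Statements.S13816
import Groth.Agent.H69.EtaPtTest

set_option autoImplicit false
universe u
open EtaPt

namespace Groth.Agent.S13816


open Groth.Agent.H69

theorem mem_M_of_Nmap_mem_M (η : EtaPt.FieldEndo.{u}) {A B : Type u} [CommRing A] [CommRing B]
    (f : A →+* B) (hf : f.IsIntegral) (hs : Function.Surjective (PrimeSpectrum.comap f))
    (x : η.N A) (hB : η.Nmap f x ∈ η.M B) : x ∈ η.M A := by
  classical
  apply mem_M_of_residue_tests
  intro p V hV
  obtain ⟨Q₀, hQ₀⟩ := hs p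
  have hpQ : p.asIdeal = Q₀.asIdeal.comap f := by rw [← hQ₀]; rfl
  obtain ⟨ι, hι⟩ : ∃ ι : η.obj p.asIdeal.ResidueField →+* η.obj Q₀.asIdeal.ResidueField,
      ι = η.map (Ideal.ResidueField.map p.asIdeal Q₀.asIdeal f hpQ) := ⟨_, rfl⟩
  have hψf : ∀ a, evA η Q₀ (f a) = ι (evA η p a) := by
    intro a
    rw [hι, evA_apply, evA_apply, map_eta_apply, Ideal.ResidueField.map_algebraMap]
  obtain ⟨gV, hgV⟩ : ∃ gV : A →+* V, gV = (evA η p).codRestrict V.toSubring hV := ⟨_, rfl⟩
  have hgVa : ∀ a, ((gV a : V) : η.obj p.asIdeal.ResidueField) = evA η p a := by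
    intro a; rw [hgV]; rfl
  have hψint : ∀ b, (ι.comp V.subtype).IsIntegralElem (evA η Q₀ b) := by
    intro b
    obtain ⟨P, hPm, hP0⟩ := hf b
    refine ⟨P.map gV, hPm.map gV, ?_⟩
    rw [Polynomial.eval₂_map]
    have hc : (ι.comp V.subtype).comp gV = (evA η Q₀).comp f := by
      apply RingHom.ext
      intro a
      show ι ((gV a : V) : η.obj p.asIdeal.ResidueField) = evA η Q₀ (f a)
      rw [hgVa, hψf]
    rw [hc, ← Polynomial.hom_eval₂, hP0, map_zero]
  have key : ∀ (W : ValuationSubring (η.obj Q₀.asIdeal.ResidueField))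
      (_ : ∀ s, (ι.comp V.subtype).IsIntegralElem s → s ∈ W)
      (hVW : ∀ v : V, (ι.comp V.subtype) v ∈ W.toSubring),
      ι (x p) ∈ W ∧ ∀ hx : ι (x p) ∈ W, η.t W ⟨ι (x p), hx⟩ =
        η.Nmap ((ι.comp V.subtype).codRestrict W.toSubring hVW) (η.Nmap gV x) := by
    intro W hW hVW
    have hψW : ∀ b, evA η Q₀ b ∈ W.toSubring := fun b => hW _ (hψint b)
    have hInV : η.InV W := InV_valuationSubring η (eta_bijective_obj η _) W
    obtain ⟨r', hr'⟩ := hB W hInV ((evA η Q₀).codRestrict W.toSubring hψW)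
    rw [← Nmap_comp] at hr'
    have hφ : ∀ a, ((evA η Q₀).comp f) a ∈ W.toSubring := fun a => hψW (f a)
    have hc1 : ((evA η Q₀).codRestrict W.toSubring hψW).comp f =
        ((evA η Q₀).comp f).codRestrict W.toSubring hφ :=
      RingHom.ext fun a => Subtype.ext rfl
    have hc2 : ((evA η Q₀).codRestrict W.toSubring hψW).comp f =
        ((ι.comp V.subtype).codRestrict W.toSubring hVW).comp gV := by
      apply RingHom.ext
      intro a
      apply Subtype.ext
      show evA η Q₀ (f a) = ι ((gV a : V) : η.obj p.asIdeal.ResidueField)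
      rw [hgVa, hψf]
    have hker : p.asIdeal = RingHom.ker ((evA η Q₀).comp f) := by
      rw [← RingHom.comap_ker, ker_evA]
      exact hpQ
    have hr'' : η.t W r' = η.Nmap (((evA η Q₀).comp f).codRestrict W.toSubring hφ) x := by
      rw [← hc1]; exact hr'
    have g1 := generic_component η ((evA η Q₀).comp f) W hφ x r' hr'' p hker
      (ι.comp (η.eta _)) (fun a => (hψf a).symm)
    rw [η.map_comp, RingHom.comp_apply, map_eta_eq_eta_obj, map_eta_apply] at g1
    have hr'x : (r' : η.obj Q₀.asIdeal.ResidueField) = ι (x p) := eta_injective η _ g1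
    refine ⟨hr'x ▸ r'.2, fun hx => ?_⟩
    have hrr : (⟨ι (x p), hx⟩ : W) = r' := Subtype.ext hr'x.symm
    rw [hrr, hr', hc2, Nmap_comp]
  -- Step 1: the generic component lies in `V`
  have hxV : x p ∈ V := by
    obtain ⟨W, hW, hVW, hcomap⟩ :=
      exists_valuationSubring_extension ι V (IsLocalRing.maximalIdeal V)
    obtain ⟨hxW, -⟩ := key W hW hVW
    by_contra hnot
    have hinv : (x p)⁻¹ ∈ V := (V.mem_or_inv_mem (x p)).resolve_left hnot
    have hx0 : x p ≠ 0 := fun h0 => hnot (h0 ▸ V.zero_mem)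
    have hnu : (⟨(x p)⁻¹, hinv⟩ : V) ∈ IsLocalRing.maximalIdeal V := by
      rw [IsLocalRing.mem_maximalIdeal, mem_nonunits_iff]
      intro hu
      obtain ⟨w, hw⟩ := isUnit_iff_exists_inv.mp hu
      have h1 : (x p)⁻¹ * (w : η.obj p.asIdeal.ResidueField) = 1 := congrArg Subtype.val hw
      have h2 : (w : η.obj p.asIdeal.ResidueField) = x p := by
        have := congrArg (fun t => x p * t) h1
        simpa [mul_inv_cancel_left₀ hx0] using this
      exact hnot (h2 ▸ w.2)
    rw [← hcomap, Ideal.mem_comap] at hnu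
    have hmul : (⟨ι (x p), hxW⟩ : W) *
        ((ι.comp V.subtype).codRestrict W.toSubring hVW ⟨(x p)⁻¹, hinv⟩) = 1 := by
      apply Subtype.ext
      show ι (x p) * ι ((x p)⁻¹) = 1
      rw [← map_mul, mul_inv_cancel₀ hx0, map_one]
    have h1mem : (1 : W) ∈ IsLocalRing.maximalIdeal W := by
      rw [← hmul]
      exact Ideal.mul_mem_left _ _ hnu
    exact (IsLocalRing.maximalIdeal.isMaximal W).ne_top ((Ideal.eq_top_iff_one _).mpr h1mem)
  -- Step 2
  refine ⟨⟨x p, hxV⟩, ?_⟩
  rw [← hgV]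
  funext 𝔮
  obtain ⟨W, hW, hVW, hcomap⟩ := exists_valuationSubring_extension ι V 𝔮.asIdeal
  obtain ⟨hxW, hkey⟩ := key W hW hVW
  have h1 := hkey hxW
  have h2 : η.t W ⟨ι (x p), hxW⟩ =
      η.Nmap ((ι.comp V.subtype).codRestrict W.toSubring hVW) (η.t V ⟨x p, hxV⟩) :=
    (η.Nmap_t_apply ((ι.comp V.subtype).codRestrict W.toSubring hVW) ⟨x p, hxV⟩).symm
  rw [h2] at h1
  let 𝔪 : PrimeSpectrum W := ⟨IsLocalRing.maximalIdeal W, inferInstance⟩
  have h𝔪 : 𝔮.asIdeal = 𝔪.asIdeal.comap ((ι.comp V.subtype).codRestrict W.toSubring hVW) :=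
    hcomap.symm
  have e := congrFun h1 𝔪
  rw [Nmap_apply_of_eq η _ _ 𝔪 𝔮 h𝔪, Nmap_apply_of_eq η _ _ 𝔪 𝔮 h𝔪] at e
  exact (η.map _).injective e

/-- If f : A → B is an integral ring map with Spec(f) surjective, then an element of N_η(A) lies in
M_η(A) if and only if its image under N_η(f) lies in M_η(B). Here η is a natural transformation from
the identity of the category of fields to an endofunctor F with F(η_K) bijective and η_K purely
inseparable for every field K, N_η(A) is the product of the F(k(p)) over the primes p of A with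
diagonal map t_A, and M_η(A) ⊆ N_η(A) is the subring of elements sent into the range of t_R by every
ring map from A to a valuation ring R at whose fraction field η is bijective; q_A : A → M_η(A) is
the corestriction of t_A. -/
theorem result (η : EtaPt.FieldEndo.{u}) {A B : Type u} [CommRing A] [CommRing B] (f : A →+* B)
    (hf : f.IsIntegral) (hs : Function.Surjective (PrimeSpectrum.comap f)) (x : η.N A) :
    x ∈ η.M A ↔ η.Nmap f x ∈ η.M B := by
  exact ⟨fun hx => Nmap_mem_M η f hx, mem_M_of_Nmap_mem_M η f hf hs x⟩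

end Groth.Agent.S13816
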