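import Groth.Statements.S13820
import Groth.Agent.H69.EtaPtRel2

set_option autoImplicit false
universe u
open EtaPt

namespace Groth.Agent.S13820

/-- Let A have finitely many minimal prime ideals and let B be an A-algebra with Spec B → Spec A
surjective, C the integral closure of A in B; then the inclusion C ⊆ B carries (C/A)_η onto (B/A)_η.
Here η is a natural transformation from the identity of the category of fields to an endofunctor F
with F(η_K) bijective and η_K purely inseparable for every field K, N_η(A) is the product of the
F(k(p)) over the primes p of A with diagonal map t_A, and M_η(A) ⊆ N_η(A) is the subring of elements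
sent into the range of t_R by every ring map from A to a valuation ring R at whose fraction field η
is bijective; q_A : A → M_η(A) is the corestriction of t_A. For a ring map f : A → B, (B/A)_η ⊆ B
denotes the subring of elements b with t_B(b) in N_η(f)(M_η(A)) (the image in B of the fibre product
of M_η(A) and B over M_η(B)), and q_{B/A} : A → (B/A)_η the corestriction of f. -/
theorem result (η : EtaPt.FieldEndo.{u}) (A B : Type u) [CommRing A] [CommRing B] [Algebra A B]
    (hA : (minimalPrimes A).Finite) (hs : Function.Surjective (PrimeSpectrum.comap (algebraMap A B))) :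
    (η.rel (algebraMap A (integralClosure A B))).map (integralClosure A B).val.toRingHom =
      η.rel (algebraMap A B) := by
  have hcomp : (integralClosure A B).val.toRingHom.comp (algebraMap A (integralClosure A B)) =
      algebraMap A B := RingHom.ext fun a => rfl
  apply le_antisymm
  · rintro _ ⟨c, hc, rfl⟩
    obtain ⟨x, hx, hxc⟩ := hc
    refine ⟨x, hx, ?_⟩
    rw [← hcomp, Groth.Agent.H69.Nmap_comp, hxc]
    exact η.Nmap_t_apply _ c
  · intro b hb
    -- `b` is integral over `A`
    have hint : ∀ d : η.rel (algebraMap A B), (d : B) ∈ integralClosure A B := by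
      intro d
      obtain ⟨P, hPm, hP0⟩ := Groth.Agent.H69.qRel_isIntegral η (algebraMap A B) hs hA d
      refine ⟨P, hPm, ?_⟩
      have h1 := Polynomial.hom_eval₂ P (η.qRel (algebraMap A B)) (η.rel (algebraMap A B)).subtype d
      rw [hP0, map_zero] at h1
      exact h1.symm
    let j : η.rel (algebraMap A B) →+* integralClosure A B :=
      RingHom.codRestrict (η.rel (algebraMap A B)).subtype (integralClosure A B) hint
    have hj : j.comp (η.qRel (algebraMap A B)) = algebraMap A (integralClosure A B) :=
      RingHom.ext fun a => Subtype.ext rfl
    refine ⟨j ⟨b, hb⟩, ?_, rfl⟩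
    refine ⟨(Groth.Agent.H69.relLift η (algebraMap A B) hs ⟨b, hb⟩ : η.N A),
      (Groth.Agent.H69.relLift η (algebraMap A B) hs ⟨b, hb⟩).2, ?_⟩
    rw [← hj, Groth.Agent.H69.Nmap_comp, Groth.Agent.H69.Nmap_qRel_relLift η _ hs hA]
    exact η.Nmap_t_apply j ⟨b, hb⟩

end Groth.Agent.S13820
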