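import Groth.Statements.S13822
import Groth.Agent.H69.EtaPtRel
import Mathlib.RingTheory.Flat.FaithfullyFlat.Algebra

set_option autoImplicit false
universe u
open scoped TensorProduct
open EtaPt

namespace Groth.Agent.S13822

/-- Let A → A' be faithfully flat with A and A' having finitely many minimal prime ideals, and B an
A-algebra with Spec B → Spec A surjective; if q_{(A' ⊗ B)/A'} is bijective then q_{B/A} is
bijective. Here η is a natural transformation from the identity of the category of fields to an
endofunctor F with F(η_K) bijective and η_K purely inseparable for every field K, N_η(A) is the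
product of the F(k(p)) over the primes p of A with diagonal map t_A, and M_η(A) ⊆ N_η(A) is the
subring of elements sent into the range of t_R by every ring map from A to a valuation ring R at
whose fraction field η is bijective; q_A : A → M_η(A) is the corestriction of t_A. For a ring map f
: A → B, (B/A)_η ⊆ B denotes the subring of elements b with t_B(b) in N_η(f)(M_η(A)) (the image in B
of the fibre product of M_η(A) and B over M_η(B)), and q_{B/A} : A → (B/A)_η the corestriction of f. -/
theorem result (η : EtaPt.FieldEndo.{u}) (A A' B : Type u) [CommRing A] [CommRing A'] [CommRing B]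
    [Algebra A A'] [Algebra A B] [Module.FaithfullyFlat A A']
    (hA : (minimalPrimes A).Finite) (hA' : (minimalPrimes A').Finite)
    (hs : Function.Surjective (PrimeSpectrum.comap (algebraMap A B)))
    (h : Function.Bijective (η.qRel (Algebra.TensorProduct.includeLeftRingHom : A' →+* A' ⊗[A] B))) :
    Function.Bijective (η.qRel (algebraMap A B)) := by
  classical
  obtain ⟨v, hv⟩ : ∃ v : B →+* A' ⊗[A] B, ∀ b, v b = (1 : A') ⊗ₜ[A] b :=
    ⟨(Algebra.TensorProduct.includeRight : B →ₐ[A] A' ⊗[A] B).toRingHom, fun b => rfl⟩
  have hf' : ∀ a' : A', (Algebra.TensorProduct.includeLeftRingHom : A' →+* A' ⊗[A] B) a' =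
      a' ⊗ₜ[A] (1 : B) := fun a' => rfl
  have hcomm : (Algebra.TensorProduct.includeLeftRingHom : A' →+* A' ⊗[A] B).comp
      (algebraMap A A') = v.comp (algebraMap A B) := by
    apply RingHom.ext
    intro a
    show (Algebra.TensorProduct.includeLeftRingHom : A' →+* A' ⊗[A] B) (algebraMap A A' a) =
      v (algebraMap A B a)
    rw [hv, hf', Algebra.algebraMap_eq_smul_one, Algebra.algebraMap_eq_smul_one,
      TensorProduct.smul_tmul]
  have hf'inj : Function.Injective
      (Algebra.TensorProduct.includeLeftRingHom : A' →+* A' ⊗[A] B) :=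
    fun a b hab => h.1 (Subtype.ext hab)
  have huinj : Function.Injective (algebraMap A A') := FaithfulSMul.algebraMap_injective A A'
  have e : ∀ a, (Algebra.TensorProduct.includeLeftRingHom : A' →+* A' ⊗[A] B)
      (algebraMap A A' a) = v (algebraMap A B a) :=
    fun a => congrArg (fun φ => φ a) (congrArg DFunLike.coe hcomm)
  constructor
  · intro a₁ a₂ h12
    have h1 : algebraMap A B a₁ = algebraMap A B a₂ := congrArg Subtype.val h12
    apply huinj
    apply hf'inj
    rw [e a₁, e a₂, h1]
  · rintro ⟨b, x, hx, hxb⟩
    have hvb : v b ∈ η.rel (Algebra.TensorProduct.includeLeftRingHom : A' →+* A' ⊗[A] B) := by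
      refine ⟨η.Nmap (algebraMap A A') x, Groth.Agent.H69.Nmap_mem_M η _ hx, ?_⟩
      rw [← Groth.Agent.H69.Nmap_comp, hcomm, Groth.Agent.H69.Nmap_comp, hxb]
      exact η.Nmap_t_apply v b
    obtain ⟨a', ha'⟩ := h.2 ⟨v b, hvb⟩
    have ha'' : a' ⊗ₜ[A] (1 : B) = (1 : A') ⊗ₜ[A] b := by
      have := congrArg Subtype.val ha'
      rw [← hv, ← hf']
      exact this
    have h1 := congrArg (LinearMap.lTensor A' (LinearMap.range (Algebra.linearMap A B)).mkQ) ha''
    rw [LinearMap.lTensor_tmul, LinearMap.lTensor_tmul] at h1
    have hπ1 : (LinearMap.range (Algebra.linearMap A B)).mkQ (1 : B) = 0 := by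
      rw [Submodule.mkQ_apply, Submodule.Quotient.mk_eq_zero]
      exact ⟨1, by rw [Algebra.linearMap_apply, map_one]⟩
    rw [hπ1, TensorProduct.tmul_zero] at h1
    have h2 : (LinearMap.range (Algebra.linearMap A B)).mkQ b = 0 := by
      apply Module.FaithfullyFlat.tensorProduct_mk_injective (A := A) (B := A')
        (B ⧸ LinearMap.range (Algebra.linearMap A B))
      rw [TensorProduct.mk_apply, map_zero]
      exact h1.symm
    rw [Submodule.mkQ_apply, Submodule.Quotient.mk_eq_zero] at h2
    obtain ⟨a, ha⟩ := h2
    exact ⟨a, Subtype.ext ha⟩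

end Groth.Agent.S13822
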