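import Groth.Statements.S13823
import Groth.Agent.H69.EtaPtRel
import Mathlib.RingTheory.Flat.FaithfullyFlat.Algebra
import Mathlib.RingTheory.Flat.TorsionFree

set_option autoImplicit false
universe u
open EtaPt

namespace Groth.Agent.S13823

/-- Let A → A' be faithfully flat with A and A' having finitely many minimal prime ideals, and let Ā, Ā'
be the integral closures of A, A' in their total rings of fractions; if q_{Ā'/A'} is bijective then
q_{Ā/A} is bijective. Here η is a natural transformation from the identity of the category of fields
to an endofunctor F with F(η_K) bijective and η_K purely inseparable for every field K, N_η(A) is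
the product of the F(k(p)) over the primes p of A with diagonal map t_A, and M_η(A) ⊆ N_η(A) is the
subring of elements sent into the range of t_R by every ring map from A to a valuation ring R at
whose fraction field η is bijective; q_A : A → M_η(A) is the corestriction of t_A. For a ring map f
: A → B, (B/A)_η ⊆ B denotes the subring of elements b with t_B(b) in N_η(f)(M_η(A)) (the image in B
of the fibre product of M_η(A) and B over M_η(B)), and q_{B/A} : A → (B/A)_η the corestriction of f. -/
theorem result (η : EtaPt.FieldEndo.{u}) (A A' : Type u) [CommRing A] [CommRing A'] [Algebra A A'] [Module.FaithfullyFlat A A']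
    (hA : (minimalPrimes A).Finite) (hA' : (minimalPrimes A').Finite)
    (h : Function.Bijective (η.qRel (algebraMap A' (integralClosure A' (FractionRing A'))))) :
    Function.Bijective (η.qRel (algebraMap A (integralClosure A (FractionRing A)))) := by
  classical
  have hnzd : nonZeroDivisors A ≤ (nonZeroDivisors A').comap (algebraMap A A') := by
    intro r hr
    have hreg : IsSMulRegular A' r := Module.Flat.isSMulRegular_of_nonZeroDivisors hr
    show algebraMap A A' r ∈ nonZeroDivisors A'
    rw [mem_nonZeroDivisors_iff_right]
    intro x hx
    apply hreg
    show r • x = r • 0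
    rw [smul_zero, Algebra.smul_def, mul_comm]
    exact hx
  obtain ⟨jQ, hjQ⟩ : ∃ jQ : FractionRing A →+* FractionRing A',
      ∀ a, jQ (algebraMap A (FractionRing A) a) =
        algebraMap A' (FractionRing A') (algebraMap A A' a) :=
    ⟨IsLocalization.map (FractionRing A') (algebraMap A A') hnzd, IsLocalization.map_eq hnzd⟩
  have hjint : ∀ b : integralClosure A (FractionRing A),
      (jQ.comp (integralClosure A (FractionRing A)).val.toRingHom) b ∈
        integralClosure A' (FractionRing A') := by
    intro b
    exact IsIntegral.map_of_comp_eq (algebraMap A A') jQ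
      (RingHom.ext fun a => (hjQ a).symm) b.2
  obtain ⟨j, hj⟩ : ∃ j : integralClosure A (FractionRing A) →+*
      integralClosure A' (FractionRing A'), ∀ b, ((j b : integralClosure A' (FractionRing A')) :
        FractionRing A') = jQ (b : FractionRing A) :=
    ⟨(jQ.comp (integralClosure A (FractionRing A)).val.toRingHom).codRestrict
      (integralClosure A' (FractionRing A')) hjint, fun b => rfl⟩
  have hcomm : j.comp (algebraMap A (integralClosure A (FractionRing A))) =
      (algebraMap A' (integralClosure A' (FractionRing A'))).comp (algebraMap A A') := by
    apply RingHom.ext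
    intro a
    apply Subtype.ext
    rw [RingHom.comp_apply, hj]
    exact hjQ a
  constructor
  · intro a₁ a₂ h12
    have h1 : algebraMap A (integralClosure A (FractionRing A)) a₁ =
        algebraMap A (integralClosure A (FractionRing A)) a₂ := congrArg Subtype.val h12
    have h2 : algebraMap A (FractionRing A) a₁ = algebraMap A (FractionRing A) a₂ :=
      congrArg Subtype.val h1
    exact IsFractionRing.injective A (FractionRing A) h2
  · rintro ⟨b, x, hx, hxb⟩
    have hjb : j b ∈ η.rel (algebraMap A' (integralClosure A' (FractionRing A'))) := by
      refine ⟨η.Nmap (algebraMap A A') x, Groth.Agent.H69.Nmap_mem_M η _ hx, ?_⟩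
      rw [← Groth.Agent.H69.Nmap_comp, ← hcomm, Groth.Agent.H69.Nmap_comp, hxb]
      exact η.Nmap_t_apply j b
    obtain ⟨a', ha'⟩ := h.2 ⟨j b, hjb⟩
    have ha1 : algebraMap A' (integralClosure A' (FractionRing A')) a' = j b :=
      congrArg Subtype.val ha'
    have ha'' : algebraMap A' (FractionRing A') a' = jQ (b : FractionRing A) := by
      rw [← hj, ← ha1]
      rfl
    obtain ⟨⟨a, s⟩, hbs⟩ := IsLocalization.surj (nonZeroDivisors A) (b : FractionRing A)
    have h3 : a' * algebraMap A A' (s : A) = algebraMap A A' a := by
      apply IsFractionRing.injective A' (FractionRing A')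
      rw [map_mul, ha'', ← hjQ, ← map_mul, hbs, hjQ]
    have h4 : a ∈ Ideal.span {(s : A)} := by
      rw [← Ideal.comap_map_eq_self_of_faithfullyFlat (B := A') (Ideal.span {(s : A)}),
        Ideal.mem_comap, Ideal.map_span, Set.image_singleton, Ideal.mem_span_singleton']
      exact ⟨a', h3⟩
    obtain ⟨a₀, ha₀⟩ := Ideal.mem_span_singleton'.mp h4
    refine ⟨a₀, ?_⟩
    apply Subtype.ext
    apply Subtype.ext
    show algebraMap A (FractionRing A) a₀ = (b : FractionRing A)
    have hunit : IsUnit (algebraMap A (FractionRing A) (s : A)) :=
      IsLocalization.map_units (FractionRing A) s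
    apply hunit.mul_right_cancel
    rw [hbs, ← map_mul, ha₀]

end Groth.Agent.S13823
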