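import Groth.Statements.S13826
import Groth.Agent.H69.UHomeo
import Groth.Agent.H69.EtaPtQ
import Groth.Agent.S13806

set_option autoImplicit false
universe u
open EtaPt

namespace Groth.Agent.S13826


open AlgebraicGeometry CategoryTheory Groth.Agent.H69

theorem isPurelyInseparable_of_surjective {F E : Type*} [CommRing F] [CommRing E] (f : F →+* E)
    (hf : Function.Surjective f) : f.IsPurelyInseparable := by
  letI := f.toAlgebra
  exact ⟨Algebra.isIntegral_of_surjective hf, fun x _ => hf x⟩

/-- A ring map that is integral, bijective on spectra and with bijective residue field maps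
induces a universal homeomorphism with isomorphisms on residue fields. -/
theorem isUnivHomeo_and_residueFieldsIso {A C : Type u} [CommRing A] [CommRing C] (ψ : A →+* C)
    (hint : ψ.IsIntegral) (hbij : Function.Bijective (PrimeSpectrum.comap ψ))
    (hres : ∀ y : PrimeSpectrum C, Function.Bijective
      (Ideal.ResidueField.map (PrimeSpectrum.comap ψ y).asIdeal y.asIdeal ψ rfl)) :
    FlatMor.IsUnivHomeo (Spec.map (CommRingCat.ofHom ψ)) ∧
      HTop.ResidueFieldsIso (Spec.map (CommRingCat.ofHom ψ)) := by
  have hiso : HTop.ResidueFieldsIso (Spec.map (CommRingCat.ofHom ψ)) := by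
    intro y
    exact (isIso_residueFieldMap_Spec_iff ψ y).mpr (hres y)
  refine ⟨?_, hiso⟩
  haveI : IsIntegralHom (Spec.map (CommRingCat.ofHom ψ)) := IsIntegralHom.SpecMap_iff.mpr hint
  haveI : Surjective (Spec.map (CommRingCat.ofHom ψ)) := ⟨hbij.2⟩
  haveI : UniversallyInjective (Spec.map (CommRingCat.ofHom ψ)) := by
    apply ((tfae_universallyInjective (Spec.map (CommRingCat.ofHom ψ))).out 2 0).mp
    refine ⟨hbij.1, fun x => ?_⟩
    apply isPurelyInseparable_of_surjective
    haveI := hiso x
    exact ((ConcreteCategory.isIso_iff_bijective _).mp inferInstance).2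
  exact isUnivHomeo_of_integral _

/-- For the identity endofunctor and a commutative ring A with finitely many minimal prime ideals, q_A :
A → M(A) is a seminormalization of A: Spec(q_A) is a universal homeomorphism with trivial residue
field extensions, final among ring maps out of A with these properties. Here M(A) ⊆ ∏_p k(p) is the
subring of families whose image in ∏_q k(q), for every ring map from A to a valuation ring R, is the
diagonal image of an element of R. -/
theorem result (A : Type u) [CommRing A] (hA : (minimalPrimes A).Finite) :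
    HTop.IsRingSN (EtaPt.FieldEndo.ident.{u}.q A) := by
  classical
  have hres : ∀ Q : PrimeSpectrum (EtaPt.FieldEndo.ident.{u}.M A), Function.Bijective
      (Ideal.ResidueField.map (PrimeSpectrum.comap (EtaPt.FieldEndo.ident.{u}.q A) Q).asIdeal
        Q.asIdeal (EtaPt.FieldEndo.ident.{u}.q A) rfl) :=
    map_residue_bijective EtaPt.FieldEndo.ident.{u} hA
  refine ⟨isUnivHomeo_and_residueFieldsIso _ (q_isIntegral _ A hA) (comap_q_bijective _ hA) hres,
    ?_⟩
  intro C _ ψ hψ hψres
  have hint := isIntegral_of_isUnivHomeo_Spec ψ hψ
  have hbij := comap_bijective_of_isUnivHomeo_Spec ψ hψ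
  have hres' : ∀ y : PrimeSpectrum C, Function.Bijective (EtaPt.FieldEndo.ident.{u}.map
      (Ideal.ResidueField.map (PrimeSpectrum.comap ψ y).asIdeal y.asIdeal ψ rfl)) := by
    intro y
    exact (isIso_residueFieldMap_Spec_iff ψ y).mp (hψres y)
  have hN := Nmap_bijective_of_comap_bijective EtaPt.FieldEndo.ident.{u} ψ hbij hres'
  exact Groth.Agent.S13806.result EtaPt.FieldEndo.ident.{u} A hA C ψ hint hN

end Groth.Agent.S13826
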