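import Groth.Statements.S13829
import Groth.Agent.H69.EtaPtAway

set_option autoImplicit false
universe u
open EtaPt

namespace Groth.Agent.S13829

/-- For A with finitely many minimal prime ideals, f ∈ A and a ring map φ : A → B with Spec(φ)
surjective, the localization of (B/A)_η at f is (B_f/A_f)_η: the image of (B/A)_η in B_f lies in
(B_f/A_f)_η, and every element of (B_f/A_f)_η times a power of the image of f is the image of an
element of (B/A)_η. Here η is a natural transformation from the identity of the category of fields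
to an endofunctor F with F(η_K) bijective and η_K purely inseparable for every field K, N_η(A) is
the product of the F(k(p)) over the primes p of A with diagonal map t_A, and M_η(A) ⊆ N_η(A) is the
subring of elements sent into the range of t_R by every ring map from A to a valuation ring R at
whose fraction field η is bijective; q_A : A → M_η(A) is the corestriction of t_A. For a ring map f
: A → B, (B/A)_η ⊆ B denotes the subring of elements b with t_B(b) in N_η(f)(M_η(A)) (the image in B
of the fibre product of M_η(A) and B over M_η(B)), and q_{B/A} : A → (B/A)_η the corestriction of f. -/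
theorem result (η : EtaPt.FieldEndo.{u}) {A B : Type u} [CommRing A] [CommRing B] (hA : (minimalPrimes A).Finite)
    (φ : A →+* B) (hs : Function.Surjective (PrimeSpectrum.comap φ)) (f : A) :
    (η.rel φ).map (algebraMap B (Localization.Away (φ f))) ≤ η.rel (Localization.awayMap φ f) ∧
      ∀ y ∈ η.rel (Localization.awayMap φ f), ∃ x ∈ η.rel φ, ∃ n : ℕ,
        y * algebraMap B (Localization.Away (φ f)) (φ f) ^ n = algebraMap B (Localization.Away (φ f)) x := by
  have hcomm : ∀ a : A, Localization.awayMap φ f (algebraMap A (Localization.Away f) a) =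
      algebraMap B (Localization.Away (φ f)) (φ a) := fun a => IsLocalization.map_eq _ a
  have hcc : (algebraMap B (Localization.Away (φ f))).comp φ =
      (Localization.awayMap φ f).comp (algebraMap A (Localization.Away f)) :=
    RingHom.ext fun a => (hcomm a).symm
  constructor
  · rintro _ ⟨b, ⟨x, hx, hxb⟩, rfl⟩
    refine ⟨η.Nmap (algebraMap A (Localization.Away f)) x,
      Groth.Agent.H69.Nmap_mem_M η _ hx, ?_⟩
    rw [← Groth.Agent.H69.Nmap_comp, ← hcc, Groth.Agent.H69.Nmap_comp, hxb]
    exact η.Nmap_t_apply _ b
  · rintro y ⟨z, hz, hzy⟩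
    obtain ⟨x, hx, n, hxn⟩ := Groth.Agent.H69.exists_mem_M_away η hA f z hz
    obtain ⟨⟨b₀, ⟨s, m, hm⟩⟩, hb₀⟩ := IsLocalization.surj (Submonoid.powers (φ f)) y
    have hm' : φ f ^ m = s := hm
    have hb₀' : y * algebraMap B (Localization.Away (φ f)) (φ f) ^ m =
        algebraMap B (Localization.Away (φ f)) b₀ := by
      rw [← hb₀, ← map_pow, hm']
    obtain ⟨u, hu⟩ : ∃ u, u = η.t (Localization.Away (φ f))
      (algebraMap B (Localization.Away (φ f)) (φ f)) := ⟨_, rfl⟩
    have ha : η.Nmap (algebraMap B (Localization.Away (φ f))) (η.t B (b₀ * φ f ^ n)) =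
        η.t (Localization.Away (φ f)) y * u ^ m * u ^ n := by
      rw [η.Nmap_t_apply, map_mul, map_mul, map_pow, map_pow, ← hb₀', map_mul, map_pow, hu]
    have hb : η.Nmap (algebraMap B (Localization.Away (φ f))) (η.Nmap φ (x * η.t A f ^ m)) =
        η.t (Localization.Away (φ f)) y * u ^ n * u ^ m := by
      rw [← Groth.Agent.H69.Nmap_comp, hcc, Groth.Agent.H69.Nmap_comp,
        map_mul (η.Nmap (algebraMap A (Localization.Away f))), map_pow, η.Nmap_t_apply, ← hxn,
        map_mul, map_mul, map_pow, map_pow, η.Nmap_t_apply, hcomm, hzy, hu]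
    -- the difference is killed by `N(β)`
    have hd : η.Nmap (algebraMap B (Localization.Away (φ f)))
        (η.t B (b₀ * φ f ^ n) - η.Nmap φ (x * η.t A f ^ m)) = 0 := by
      rw [map_sub, ha, hb]
      ring
    have hd' := Groth.Agent.H69.t_mul_eq_zero_of_Nmap_away_eq_zero η (φ f) _ hd
    rw [mul_sub, sub_eq_zero] at hd'
    refine ⟨b₀ * φ f ^ (n + 1), ⟨x * η.t A f ^ (m + 1), ?_, ?_⟩, m + (n + 1), ?_⟩
    · exact Subring.mul_mem _ hx (Subring.pow_mem _ (η.t_mem_M A f) _)
    · rw [pow_succ (η.t A f), ← mul_assoc, map_mul (η.Nmap φ), η.Nmap_t_apply, mul_comm, hd'.symm,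
        ← map_mul]
      congr 1
      ring
    · rw [pow_add, ← mul_assoc, hb₀', map_mul, map_pow]

end Groth.Agent.S13829
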