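import Groth.Statements.S13830
import Groth.Agent.H69.UHomeo
import Groth.Agent.H69.EtaPtRel2
import Groth.Agent.S13826
import Groth.Agent.S13819

set_option autoImplicit false
universe u
open AlgebraicGeometry
open EtaPt

namespace Groth.Agent.S13830

/-- For the identity endofunctor, a commutative ring A with finitely many minimal prime ideals and an
A-algebra B with Spec B → Spec A surjective, the subring (B/A) ⊆ B (elements b whose residue classes
(b mod q)_q come from a family in M(A) ⊆ ∏_p k(p), M(A) being the families that come from an element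
of R after any base change to a valuation ring R) is the seminormalization of A in B: Spec (B/A) →
Spec A is a universal homeomorphism with trivial residue field extensions, and every A-subalgebra C
of B with these two properties is contained in (B/A). -/
theorem result (A B : Type u) [CommRing A] [CommRing B] [Algebra A B] (hA : (minimalPrimes A).Finite)
    (hs : Function.Surjective (PrimeSpectrum.comap (algebraMap A B))) :
    (FlatMor.IsUnivHomeo (Spec.map (CommRingCat.ofHom (EtaPt.FieldEndo.ident.{u}.qRel (algebraMap A B)))) ∧
      HTop.ResidueFieldsIso (Spec.map (CommRingCat.ofHom (EtaPt.FieldEndo.ident.{u}.qRel (algebraMap A B))))) ∧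
    ∀ C : Subalgebra A B,
      FlatMor.IsUnivHomeo (Spec.map (CommRingCat.ofHom (algebraMap A C))) →
      HTop.ResidueFieldsIso (Spec.map (CommRingCat.ofHom (algebraMap A C))) →
      C.toSubring ≤ EtaPt.FieldEndo.ident.{u}.rel (algebraMap A B) := by
  classical
  refine ⟨Groth.Agent.S13826.isUnivHomeo_and_residueFieldsIso _
    (Groth.Agent.H69.qRel_isIntegral _ (algebraMap A B) hs hA)
    (Groth.Agent.H69.comap_qRel_bijective _ (algebraMap A B) hs hA)
    (Groth.Agent.H69.map_residue_bijective_rel EtaPt.FieldEndo.ident.{u} (algebraMap A B) hs hA), ?_⟩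
  intro C hψ hψres
  have hint := Groth.Agent.H69.isIntegral_of_isUnivHomeo_Spec (algebraMap A C) hψ
  have hbij := Groth.Agent.H69.comap_bijective_of_isUnivHomeo_Spec (algebraMap A C) hψ
  have hres' : ∀ y : PrimeSpectrum C, Function.Bijective (EtaPt.FieldEndo.ident.{u}.map
      (Ideal.ResidueField.map (PrimeSpectrum.comap (algebraMap A C) y).asIdeal y.asIdeal
        (algebraMap A C) rfl)) := by
    intro y
    exact (Groth.Agent.H69.isIso_residueFieldMap_Spec_iff (algebraMap A C) y).mp (hψres y)
  have hN := Groth.Agent.H69.Nmap_bijective_of_comap_bijective EtaPt.FieldEndo.ident.{u}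
    (algebraMap A C) hbij hres'
  have hcomp : C.val.toRingHom.comp (algebraMap A C) = algebraMap A B := RingHom.ext fun a => rfl
  have h19 := Groth.Agent.S13819.result EtaPt.FieldEndo.ident.{u} hA (algebraMap A C)
    C.val.toRingHom (by rw [hcomp]; exact hs) hint hN
  rw [hcomp] at h19
  intro c hc
  exact h19 ⟨⟨c, hc⟩, rfl⟩

end Groth.Agent.S13830
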