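import Groth.Statements.S13831
import Groth.Agent.H69.ResDeg
import Groth.Agent.H69.UHomeo2
import Mathlib

set_option autoImplicit false
universe u
open AlgebraicGeometry
open ChowMon

namespace Groth.Agent.S13831

/-- For a finite universal homeomorphism p : T' → T of Noetherian schemes there is an integer d ≥ 1 such
that for every point t' of T' over t the residue field degree [k(t') : k(t)] is a power of the
exponential characteristic of k(t) dividing d. -/
theorem result {T' T : Scheme.{u}} (p : T' ⟶ T) [IsFinite p] (hp : FlatMor.IsUnivHomeo p)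
    [IsNoetherian T] [IsNoetherian T'] [T.IsSeparated] [T'.IsSeparated] :
    ∃ d : ℕ, 0 < d ∧ ∀ t' : T', ∃ e : ℕ,
      @Module.finrank (T.residueField (p t')) (T'.residueField t') _ _
          (p.residueFieldMap t').hom.toAlgebra.toModule =
        ringExpChar (T.residueField (p t')) ^ e ∧
      ringExpChar (T.residueField (p t')) ^ e ∣ d := by
  classical
  -- finite affine cover of T
  obtain ⟨F, hF⟩ := (isCompact_univ (X := T)).elim_finite_subcover
    (fun U : T.affineOpens => (U.1 : Set T)) (fun U => U.1.isOpen) (by
      intro x _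
      obtain ⟨U, hU, hxU, -⟩ := T.isBasis_affineOpens.exists_subset_of_mem_open
        (Set.mem_univ x) isOpen_univ
      obtain ⟨V, hV, rfl⟩ := hU
      exact Set.mem_iUnion.mpr ⟨⟨V, hV⟩, hxU⟩)
  -- generators
  have hgen : ∀ U : T.affineOpens, ∃ s : Finset Γ(T', p ⁻¹ᵁ U.1),
      letI := (p.app U.1).hom.toAlgebra
      Submodule.span Γ(T, U.1) (s : Set Γ(T', p ⁻¹ᵁ U.1)) = ⊤ := by
    intro U
    have hfin := IsFinite.finite_app p U.1 U.2
    letI := (p.app U.1).hom.toAlgebra
    have : Module.Finite Γ(T, U.1) Γ(T', p ⁻¹ᵁ U.1) := hfin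
    exact Module.Finite.fg_top
  choose sU hsU using hgen
  let N := F.sup (fun U => (sU U).card)
  refine ⟨N.factorial, Nat.factorial_pos N, ?_⟩
  intro t'
  have hmem := hF (Set.mem_univ (p t'))
  obtain ⟨U, hUF, ht⟩ : ∃ U ∈ F, p t' ∈ (U.1 : Set T) := by
    simpa using hmem
  obtain ⟨hfin, hle⟩ := Groth.Agent.H69.finrank_residueField_le_card p U.1 (U.2.preimage p)
    (sU U) (hsU U) t' ht
  letI := (p.residueFieldMap t').hom.toAlgebra
  haveI : Module.Finite (T.residueField (p t')) (T'.residueField t') := hfin
  haveI : UniversallyInjective p := Groth.Agent.H69.universallyInjective_of_isUnivHomeo p hp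
  have htf : UniversallyInjective p ↔
      (Function.Injective p ∧ ∀ x, (p.residueFieldMap x).hom.IsPurelyInseparable) :=
    (tfae_universallyInjective p).out 0 2
  have hpi : IsPurelyInseparable (T.residueField (p t')) (T'.residueField t') :=
    (htf.mp ‹UniversallyInjective p›).2 t'
  obtain ⟨e, he⟩ := IsPurelyInseparable.finrank_eq_pow (F := T.residueField (p t'))
    (T'.residueField t') (ringExpChar (T.residueField (p t')))
  refine ⟨e, he, ?_⟩
  apply Nat.dvd_factorial
  · exact pow_pos (expChar_pos (T.residueField (p t')) _) e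
  · rw [← he]
    exact hle.trans (Finset.le_sup (f := fun U => (sU U).card) hUF)

end Groth.Agent.S13831
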