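import Groth.Statements.S13834
import Mathlib
import Groth.Agent.H25.IrredGen

set_option autoImplicit false
universe u
open AlgebraicGeometry
open EtaPt

namespace Groth.Agent.S13834

set_option linter.style.haveILetI false
set_option linter.unusedVariables false
open CategoryTheory AlgebraicGeometry
open Groth.Agent.H25.IrredGen


/-- If f : Y → X is faithfully flat and locally of finite presentation and each quasi-compact open
subset of X has only finitely many irreducible components, the same is true of each quasi-compact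
open subset of Y. -/
theorem result {Y X : Scheme.{u}} (f : Y ⟶ X) [Flat f] [LocallyOfFinitePresentation f] [Surjective f]
    (hX : ∀ U : X.Opens, IsCompact (U : Set X) → (irreducibleComponents (U : Type u)).Finite)
    (V : Y.Opens) (hV : IsCompact (V : Set Y)) : (irreducibleComponents (V : Type u)).Finite := by
  have hch : ∀ v : V, ∃ (U : X.Opens) (W : Y.Opens), IsAffineOpen U ∧ IsAffineOpen W ∧ v.1 ∈ W ∧
      W ≤ V ∧ W ≤ f ⁻¹ᵁ U := by
    intro v
    obtain ⟨U, hU, hvU, -⟩ := exists_isAffineOpen_mem_and_subset (x := f v.1) (U := ⊤) trivial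
    obtain ⟨W, hW, hvW, hWsub⟩ :=
      exists_isAffineOpen_mem_and_subset (x := v.1) (U := V ⊓ f ⁻¹ᵁ U) ⟨v.2, hvU⟩
    exact ⟨U, W, hU, hW, hvW, fun w hw => (hWsub hw).1, fun w hw => (hWsub hw).2⟩
  choose U W hU hW hvW hWV hWU using hch
  obtain ⟨t, ht⟩ := hV.elim_finite_subcover (fun v : V => (W v : Set Y)) (fun v => (W v).isOpen)
    (fun y hy => Set.mem_iUnion.mpr ⟨⟨y, hy⟩, hvW ⟨y, hy⟩⟩)
  have ht' : (V : Set Y) ⊆ ⋃ k ∈ (↑t : Set _), (W k : Set Y) := by
    intro y hy
    obtain ⟨i, hi⟩ := Set.mem_iUnion.mp (ht hy)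
    obtain ⟨hit, hy'⟩ := Set.mem_iUnion.mp hi
    exact Set.mem_iUnion.mpr ⟨i, Set.mem_iUnion.mpr ⟨Finset.mem_coe.mpr hit, hy'⟩⟩
  have hfin : ∀ v ∈ (↑t : Set _), (genericPoints ↥(W v : Set Y)).Finite := by
    intro v _
    have : IsAffine (W v).toScheme := hW v
    have : IsAffine (U v).toScheme := hU v
    have h1 : (genericPoints ↥(U v).toScheme).Finite :=
      genericPoints.finite (hX (U v) (hU v).isCompact)
    exact finite_genericPoints_of_flat (f.resLE (U v) (W v) (hWU v)) h1
  have key := finite_genericPoints_of_cover (α := Y) t.finite_toSet (V := (V : Set Y))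
    (fun v => (W v : Set Y)) (fun v _ => (W v).isOpen) (fun v _ => hWV v) ht' hfin
  have : QuasiSober ↥(V : Set Y) := V.isOpen.isOpenEmbedding_subtypeVal.quasiSober
  exact finite_irreducibleComponents_of_finite_genericPoints key

end Groth.Agent.S13834
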