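import Groth.Statements.S13835
import Groth.Agent.H69.UHSch
import Mathlib

set_option autoImplicit false
universe u
open AlgebraicGeometry CategoryTheory
open ChowMon

namespace Groth.Agent.S13835

/-- Let p : T' → T be a universal homeomorphism of separated schemes with T reduced and f' : T' → Y a
morphism (Y separated); if T has an open cover by affine opens U_i such that each restriction of f'
to p⁻¹(U_i) factors through p⁻¹(U_i) → U_i, then f' factors through p. -/
theorem result {T' T Y : Scheme.{u}} (p : T' ⟶ T) (hp : FlatMor.IsUnivHomeo p) [IsReduced T]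
    [T.IsSeparated] [T'.IsSeparated] [Y.IsSeparated] (f' : T' ⟶ Y)
    {ι : Type u} (U : ι → T.affineOpens) (hU : ⨆ i, (U i : T.Opens) = ⊤)
    (hloc : ∀ i, ∃ fi : ((U i : T.Opens) : Scheme.{u}) ⟶ Y, (p ⁻¹ᵁ (U i : T.Opens)).ι ≫ f' = (p ∣_ (U i : T.Opens)) ≫ fi) :
    ∃ f : T ⟶ Y, p ≫ f = f' := by
  classical
  choose fi hfi using hloc
  have hsurj : Surjective p := ((Groth.Agent.S0415.result p).mp hp).2.2
  let 𝒰 : T.OpenCover := T.openCoverOfIsOpenCover (fun i => (U i : T.Opens)) hU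
  have hcompat : ∀ i j : ι, Limits.pullback.fst ((U i : T.Opens).ι) ((U j : T.Opens).ι) ≫ fi i =
      Limits.pullback.snd ((U i : T.Opens).ι) ((U j : T.Opens).ι) ≫ fi j := by
    intro i j
    -- the overlap is reduced
    haveI : IsReduced (Limits.pullback ((U i : T.Opens).ι) ((U j : T.Opens).ι)) :=
      isReduced_of_isOpenImmersion
        (Limits.pullback.fst ((U i : T.Opens).ι) ((U j : T.Opens).ι) ≫ (U i : T.Opens).ι)
    -- base change of `p` to the overlap
    let g := Limits.pullback.fst ((U i : T.Opens).ι) ((U j : T.Opens).ι) ≫ (U i : T.Opens).ι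
    let q := Limits.pullback.snd p g
    let r := Limits.pullback.fst p g
    have hcond : r ≫ p = q ≫ g := Limits.pullback.condition
    haveI : Surjective q := MorphismProperty.pullback_snd (P := @Surjective) _ _ hsurj
    apply ext_of_isDominant q
    -- lifts
    have hi1 : (q ≫ Limits.pullback.fst ((U i : T.Opens).ι) ((U j : T.Opens).ι)) ≫
        (U i : T.Opens).ι = r ≫ p := by
      rw [Category.assoc]; exact hcond.symm
    have hj1 : (q ≫ Limits.pullback.snd ((U i : T.Opens).ι) ((U j : T.Opens).ι)) ≫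
        (U j : T.Opens).ι = r ≫ p := by
      rw [Category.assoc, ← Limits.pullback.condition]; exact hcond.symm
    let li := (isPullback_morphismRestrict p (U i : T.Opens)).lift _ _ hi1
    let lj := (isPullback_morphismRestrict p (U j : T.Opens)).lift _ _ hj1
    have hli1 : li ≫ (p ∣_ (U i : T.Opens)) =
        q ≫ Limits.pullback.fst ((U i : T.Opens).ι) ((U j : T.Opens).ι) :=
      (isPullback_morphismRestrict p (U i : T.Opens)).lift_fst _ _ hi1
    have hli2 : li ≫ (p ⁻¹ᵁ (U i : T.Opens)).ι = r :=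
      (isPullback_morphismRestrict p (U i : T.Opens)).lift_snd _ _ hi1
    have hlj1 : lj ≫ (p ∣_ (U j : T.Opens)) =
        q ≫ Limits.pullback.snd ((U i : T.Opens).ι) ((U j : T.Opens).ι) :=
      (isPullback_morphismRestrict p (U j : T.Opens)).lift_fst _ _ hj1
    have hlj2 : lj ≫ (p ⁻¹ᵁ (U j : T.Opens)).ι = r :=
      (isPullback_morphismRestrict p (U j : T.Opens)).lift_snd _ _ hj1
    calc q ≫ Limits.pullback.fst ((U i : T.Opens).ι) ((U j : T.Opens).ι) ≫ fi i
        = (li ≫ (p ∣_ (U i : T.Opens))) ≫ fi i := by rw [hli1, Category.assoc]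
      _ = li ≫ (p ⁻¹ᵁ (U i : T.Opens)).ι ≫ f' := by rw [Category.assoc, hfi i]
      _ = r ≫ f' := by rw [← Category.assoc, hli2]
      _ = lj ≫ (p ⁻¹ᵁ (U j : T.Opens)).ι ≫ f' := by rw [← Category.assoc, hlj2]
      _ = (lj ≫ (p ∣_ (U j : T.Opens))) ≫ fi j := by rw [Category.assoc, hfi j]
      _ = q ≫ Limits.pullback.snd ((U i : T.Opens).ι) ((U j : T.Opens).ι) ≫ fi j := by
          rw [hlj1, Category.assoc]
  refine ⟨𝒰.glueMorphisms fi hcompat, ?_⟩
  have hU' : TopologicalSpace.IsOpenCover (fun i => p ⁻¹ᵁ (U i : T.Opens)) := by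
    show (⨆ i, p ⁻¹ᵁ (U i : T.Opens)) = ⊤
    rw [eq_top_iff]
    intro x _
    have hx : p x ∈ (⨆ i, (U i : T.Opens)) := by rw [hU]; trivial
    obtain ⟨i, hi⟩ := TopologicalSpace.Opens.mem_iSup.mp hx
    exact TopologicalSpace.Opens.mem_iSup.mpr ⟨i, hi⟩
  refine Scheme.Cover.hom_ext (T'.openCoverOfIsOpenCover _ hU') _ _ fun i => ?_
  show (p ⁻¹ᵁ (U i : T.Opens)).ι ≫ p ≫ 𝒰.glueMorphisms fi hcompat =
    (p ⁻¹ᵁ (U i : T.Opens)).ι ≫ f'
  rw [← Category.assoc, ← morphismRestrict_ι, Category.assoc]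
  have h1 : (U i : T.Opens).ι ≫ 𝒰.glueMorphisms fi hcompat = fi i :=
    𝒰.ι_glueMorphisms fi hcompat i
  rw [h1, hfi i]

end Groth.Agent.S13835
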