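import Groth.Statements.S13838
import Groth.Agent.H69.UHomeo2

set_option autoImplicit false
universe u
open AlgebraicGeometry
open HTop

namespace Groth.Agent.S13838


open Groth.Agent in
theorem aux (A B : Type u) [CommRing A] [CommRing B] [Algebra A B]
    (hpi : ∀ p : PrimeSpectrum A, ∃ q : PrimeSpectrum B, ∃ hq : p.asIdeal = Ideal.comap (algebraMap A B) q.asIdeal,
      ∀ x : q.asIdeal.ResidueField,
        (∃ n : ℕ, x ^ ringExpChar p.asIdeal.ResidueField ^ n ∈
            Set.range (Ideal.ResidueField.map p.asIdeal q.asIdeal (algebraMap A B) hq)) →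
        x ∈ Set.range (Ideal.ResidueField.map p.asIdeal q.asIdeal (algebraMap A B) hq))
    (C : Subalgebra A B)
    (hui : UniversallyInjective (Spec.map (CommRingCat.ofHom (algebraMap A C))))
    (hinj : Function.Injective (PrimeSpectrum.comap (algebraMap A C)))
    (r : PrimeSpectrum C) :
    Function.Surjective (Ideal.ResidueField.map (PrimeSpectrum.comap (algebraMap A C) r).asIdeal
      r.asIdeal (algebraMap A C) rfl) := by
  intro x
  obtain ⟨q, hq, hclosed⟩ := hpi (PrimeSpectrum.comap (algebraMap A C) r)
  have hr : r = PrimeSpectrum.comap (C.val : C →+* B) q := by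
    apply hinj
    apply PrimeSpectrum.ext
    rw [hq]
    exact Ideal.ext fun a => Iff.rfl
  have hr' : r.asIdeal = Ideal.comap (C.val : C →+* B) q.asIdeal := congrArg PrimeSpectrum.asIdeal hr
  have hcomp : (Ideal.ResidueField.map r.asIdeal q.asIdeal (C.val : C →+* B) hr').comp
      (Ideal.ResidueField.map (PrimeSpectrum.comap (algebraMap A C) r).asIdeal
        r.asIdeal (algebraMap A C) rfl) =
      Ideal.ResidueField.map (PrimeSpectrum.comap (algebraMap A C) r).asIdeal q.asIdeal
        (algebraMap A B) hq := by
    apply Ideal.ResidueField.ringHom_ext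
    ext a
    simp only [RingHom.comp_apply, Ideal.ResidueField.map_algebraMap]
    rfl
  obtain ⟨n, z, hz⟩ := H69.exists_pow_mem_range_residueFieldMap (algebraMap A C) hui r.asIdeal x
  have h1 : ∃ n : ℕ, (Ideal.ResidueField.map r.asIdeal q.asIdeal (C.val : C →+* B) hr' x) ^
      ringExpChar (PrimeSpectrum.comap (algebraMap A C) r).asIdeal.ResidueField ^ n ∈
        Set.range (Ideal.ResidueField.map (PrimeSpectrum.comap (algebraMap A C) r).asIdeal q.asIdeal
        (algebraMap A B) hq) := by
    refine ⟨n, z, ?_⟩
    rw [← hcomp, RingHom.comp_apply, ← map_pow]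
    exact congrArg _ hz
  obtain ⟨w, hw⟩ := hclosed _ h1
  refine ⟨w, (Ideal.ResidueField.map r.asIdeal q.asIdeal (C.val : C →+* B) hr').injective ?_⟩
  rw [← hw, ← hcomp]
  rfl

/-- Let A ⊆ B be an integral ring extension where A and B have finitely many minimal prime ideals, such
that every prime p of A has a prime q of B above it for which k(p) is closed under extracting
p-power roots inside k(q) (the purely inseparable closure of k(p) in k(q) is k(p)); then the semi-
and weak normalizations of A in B coincide: every A-subalgebra C of B with Spec C → Spec A a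
universal homeomorphism already induces isomorphisms on residue fields. -/
theorem result (A B : Type u) [CommRing A] [CommRing B] [Algebra A B] (hinj : Function.Injective (algebraMap A B))
    [Algebra.IsIntegral A B] (hA : (minimalPrimes A).Finite) (hB : (minimalPrimes B).Finite)
    (hpi : ∀ p : PrimeSpectrum A, ∃ q : PrimeSpectrum B, ∃ hq : p.asIdeal = Ideal.comap (algebraMap A B) q.asIdeal,
      ∀ x : q.asIdeal.ResidueField,
        (∃ n : ℕ, x ^ ringExpChar p.asIdeal.ResidueField ^ n ∈
            Set.range (Ideal.ResidueField.map p.asIdeal q.asIdeal (algebraMap A B) hq)) →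
        x ∈ Set.range (Ideal.ResidueField.map p.asIdeal q.asIdeal (algebraMap A B) hq)) :
    ∀ C : Subalgebra A B, FlatMor.IsUnivHomeo (Spec.map (CommRingCat.ofHom (algebraMap A C))) →
      HTop.ResidueFieldsIso (Spec.map (CommRingCat.ofHom (algebraMap A C))) := by
  intro C hC y
  rw [H69.isIso_residueFieldMap_Spec_iff]
  refine ⟨RingHom.injective _, ?_⟩
  exact aux A B hpi C (H69.universallyInjective_of_isUnivHomeo _ hC)
    (H69.comap_bijective_of_isUnivHomeo_Spec _ hC).1 y

end Groth.Agent.S13838
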