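import Groth.Statements.S13839
import Groth.Agent.H69.SymTenPI
import Groth.Agent.H69.SNMem
import Mathlib

set_option autoImplicit false
universe u
open AlgebraicGeometry
open scoped TensorProduct
open ChowMon

namespace Groth.Agent.S13839

/-- Let C be a Noetherian seminormal A-algebra, g : C → C' an A-algebra map with C' reduced such that
Spec C' → Spec C is a finite universal homeomorphism, and d ≥ 1 an integer divisible by every
residue degree [k(q) : k(g⁻¹q)]; let B be a flat A-algebra and φ : B → C' an A-algebra map. Then for
every symmetric tensor x ∈ TS^d_A(B) the element φ(m_d(x)) of C', m_d : B^{⊗d} → B the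
multiplication, lies in the image of C. (The published statement does not assume C' reduced and is
false without it: take A = C = k a field, C' = k[ε]/(ε²), d = 1, B = k[t] and φ(t) = ε; then ε is
not in k.) -/
theorem result (A C C' B : Type u) [CommRing A] [CommRing C] [CommRing C'] [CommRing B]
    [Algebra A C] [Algebra A C'] [Algebra A B] [IsNoetherianRing C] (hC : HTop.IsSeminormalRing C)
    (g : C →ₐ[A] C') [IsReduced C'] (hfin : g.toRingHom.Finite)
    (hg : FlatMor.IsUnivHomeo (Spec.map (CommRingCat.ofHom g.toRingHom)))
    (d : ℕ) (hd : 0 < d)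
    (hdeg : ∀ q : PrimeSpectrum C',
      @Module.finrank (PrimeSpectrum.comap g.toRingHom q).asIdeal.ResidueField q.asIdeal.ResidueField _ _
          (Ideal.ResidueField.map (PrimeSpectrum.comap g.toRingHom q).asIdeal q.asIdeal g.toRingHom
            rfl).toAlgebra.toModule ∣ d)
    [Module.Flat A B] (φ : B →ₐ[A] C') (x : ⨂[A] _ : Fin d, B) (hx : x ∈ SymTen.TS A B d) :
    φ (PiTensorProduct.lift (MultilinearMap.mkPiAlgebra A (Fin d) B) x) ∈ g.range := by
  have hUH : Groth.Agent.H69.RingUH g.toRingHom := Groth.Agent.H69.ringUH_of_isUnivHomeo _ hg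
  have key := Groth.Agent.H69.mem_range_of_forall_residue_mem hC g.toRingHom hUH
    (φ (PiTensorProduct.lift (MultilinearMap.mkPiAlgebra A (Fin d) B) x)) ?_
  · obtain ⟨c, hc⟩ := key
    exact ⟨c, hc⟩
  intro q
  have hdq := hdeg q
  letI : Algebra (q.asIdeal.comap g.toRingHom).ResidueField q.asIdeal.ResidueField :=
    (Ideal.ResidueField.map (q.asIdeal.comap g.toRingHom) q.asIdeal g.toRingHom rfl).toAlgebra
  haveI hpi : IsPurelyInseparable (q.asIdeal.comap g.toRingHom).ResidueField
      q.asIdeal.ResidueField :=
    Groth.Agent.H69.isPurelyInseparable_residueField_of_ringHom_ext g.toRingHom hUH.ext q.asIdeal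
  have hdq' : Module.finrank (q.asIdeal.comap g.toRingHom).ResidueField q.asIdeal.ResidueField ∣ d :=
    hdq
  haveI : FiniteDimensional (q.asIdeal.comap g.toRingHom).ResidueField q.asIdeal.ResidueField := by
    apply Module.finite_of_finrank_pos
    exact Nat.pos_of_dvd_of_pos hdq' hd
  letI : Algebra A (q.asIdeal.comap g.toRingHom).ResidueField :=
    ((algebraMap C (q.asIdeal.comap g.toRingHom).ResidueField).comp (algebraMap A C)).toAlgebra
  letI : Algebra A q.asIdeal.ResidueField :=
    ((algebraMap C' q.asIdeal.ResidueField).comp (algebraMap A C')).toAlgebra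
  haveI : IsScalarTower A (q.asIdeal.comap g.toRingHom).ResidueField q.asIdeal.ResidueField := by
    apply IsScalarTower.of_algebraMap_eq
    intro a
    show algebraMap C' q.asIdeal.ResidueField (algebraMap A C' a) =
      Ideal.ResidueField.map (q.asIdeal.comap g.toRingHom) q.asIdeal g.toRingHom rfl
        (algebraMap C (q.asIdeal.comap g.toRingHom).ResidueField (algebraMap A C a))
    rw [Ideal.ResidueField.map_algebraMap]
    congr 1
    exact (g.commutes a).symm
  let ψ : B →ₐ[A] q.asIdeal.ResidueField :=
    { toRingHom := (algebraMap C' q.asIdeal.ResidueField).comp φ.toRingHom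
      commutes' := by
        intro a
        show algebraMap C' q.asIdeal.ResidueField (φ (algebraMap A B a)) = _
        rw [φ.commutes]
        rfl }
  have := Groth.Agent.H69.mul_symTen_mem_range
    (K := (q.asIdeal.comap g.toRingHom).ResidueField) (L := q.asIdeal.ResidueField) d hdq' ψ x hx
  obtain ⟨k, hk⟩ := this
  exact ⟨k, hk⟩

end Groth.Agent.S13839
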