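import Groth.Statements.S13844
import Groth.Agent.S1556

set_option autoImplicit false
universe u
open CategoryTheory CategoryTheory.Limits AlgebraicGeometry
attribute [local instance] Curv2.resAlgebra
open Curves

namespace Groth.Agent.S13844

/-- Let K be a field and C a normal curve over K, namely an integral normal separated K-scheme of finite
type of dimension one, and let S be a set of closed points of C whose residue fields are separable
over K. If the structure morphism of C is smooth at every point outside S, then it is smooth. (The
published statement takes S to be a closed subscheme finite étale over K, that is finitely many such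
points; this row allows any set of closed points with separable residue fields.) -/
theorem result (K : Type u) [Field K] (C : Scheme.{u}) [C.Over (Spec (CommRingCat.of K))]
    [IsIntegral C] [IsSeparated (C ↘ (Spec (CommRingCat.of K)))] [LocallyOfFinitePresentation (C ↘ (Spec (CommRingCat.of K)))]
    [QuasiCompact (C ↘ (Spec (CommRingCat.of K)))] (hN : ∀ x : C, IsIntegrallyClosed (C.presheaf.stalk x))
    (hdim : topologicalKrullDim C = 1) (S : Set C)
    (hS : ∀ x ∈ S, IsClosed ({x} : Set C) ∧ Algebra.IsSeparable K (C.residueField x))
    (hsm : ∀ x : C, x ∉ S → x ∈ (C ↘ (Spec (CommRingCat.of K))).smoothLocus) :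
    AlgebraicGeometry.Smooth (C ↘ (Spec (CommRingCat.of K))) := by
  rw [← Scheme.Hom.smoothLocus_eq_top_iff, ← top_le_iff]
  intro x _
  by_cases hxS : x ∈ S
  · obtain ⟨hxc, hxsep⟩ := hS x hxS
    haveI := hxsep
    refine (Groth.Agent.S1556.result K C hdim x hxc).mp ?_
    haveI : IsLocallyNoetherian C :=
      LocallyOfFiniteType.isLocallyNoetherian (C ↘ (Spec (CommRingCat.of K)))
    haveI := hN x
    have hdimA : ringKrullDim (C.presheaf.stalk x) ≤ 1 :=
      (Groth.Agent.H9.FibDim.ringKrullDim_stalk_le C x).trans hdim.le
    haveI : Ring.KrullDimLE 1 (C.presheaf.stalk x) :=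
      Ring.krullDimLE_iff.mpr (by rw [Nat.cast_one]; exact hdimA)
    have h30 : (IsIntegrallyClosed (C.presheaf.stalk x) ∧
        ∀ P : Ideal (C.presheaf.stalk x), P ≠ ⊥ → P.IsPrime →
          P = IsLocalRing.maximalIdeal (C.presheaf.stalk x)) ↔
        IsPrincipalIdealRing (C.presheaf.stalk x) :=
      (tfae_of_isNoetherianRing_of_isLocalRing_of_isDomain (C.presheaf.stalk x)).out 3 0
    have hpid : IsPrincipalIdealRing (C.presheaf.stalk x) :=
      h30.mp ⟨inferInstance, fun P hP hP' =>
        IsLocalRing.eq_maximalIdeal (hP'.isMaximal_of_ne_bot hP)⟩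
    refine { toIsPrincipalIdealRing := hpid, toIsLocalRing := inferInstance, not_a_field' := ?_ }
    intro hbot
    have hη : IsGenericPoint (genericPoint C) (Set.univ : Set C) := genericPoint_spec C
    have h1 := Groth.Agent.H7.fromSpecStalk_bot_eq x (genericPoint C) hη
    have h2 : (⟨⊥, Ideal.isPrime_bot⟩ : PrimeSpectrum (C.presheaf.stalk x)) =
        IsLocalRing.closedPoint _ := by
      apply PrimeSpectrum.ext
      exact hbot.symm
    rw [h2, Scheme.fromSpecStalk_closedPoint] at h1
    have huniv : ({x} : Set C) = Set.univ := by
      rw [← hxc.closure_eq, h1]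
      exact hη.def
    haveI : Subsingleton C := ⟨fun a b => by
      have ha : a ∈ ({x} : Set C) := huniv ▸ Set.mem_univ a
      have hb : b ∈ ({x} : Set C) := huniv ▸ Set.mem_univ b
      rw [Set.mem_singleton_iff.mp ha, Set.mem_singleton_iff.mp hb]⟩
    have h0 := topologicalKrullDim_zero_of_discreteTopology C
    rw [hdim] at h0
    exact absurd h0 (by simp)
  · exact hsm x hxS

end Groth.Agent.S13844
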