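import Groth.Statements.S13846
import Mathlib

set_option autoImplicit false
universe u v
open TwSh

namespace Groth.Agent.S13846

open DirectSum

section proj
variable {k : Type u} [Field k] {W : Type v} [AddCommGroup W] [Module k W]
  (𝒲 : ℤ → Submodule k W) [DirectSum.Decomposition 𝒲]

noncomputable def pr (j : ℤ) : W →ₗ[k] W :=
  (𝒲 j).subtype ∘ₗ DirectSum.component k ℤ (fun j => 𝒲 j) j ∘ₗ
    (DirectSum.decomposeLinearEquiv 𝒲).toLinearMap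

theorem pr_apply (j : ℤ) (w : W) : pr 𝒲 j w = ((DirectSum.decompose 𝒲 w) j : W) := rfl

theorem pr_mem (j : ℤ) (w : W) : pr 𝒲 j w ∈ 𝒲 j := by
  rw [pr_apply]; exact Submodule.coe_mem _

theorem pr_same {j : ℤ} {w : W} (hw : w ∈ 𝒲 j) : pr 𝒲 j w = w := by
  rw [pr_apply]; exact DirectSum.decompose_of_mem_same 𝒲 hw

theorem pr_ne {j l : ℤ} {w : W} (hw : w ∈ 𝒲 l) (h : l ≠ j) : pr 𝒲 j w = 0 := by
  rw [pr_apply]; exact DirectSum.decompose_of_mem_ne 𝒲 hw h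

theorem sum_pr (w : W) : ∃ s : Finset ℤ, ∑ j ∈ s, pr 𝒲 j w = w := by
  classical
  exact ⟨_, DirectSum.sum_support_decompose 𝒲 w⟩

theorem eq_of_mem_mem {a b : ℤ} {w : W} (ha : w ∈ 𝒲 a) (hb : w ∈ 𝒲 b) (hw : w ≠ 0) : a = b := by
  by_contra hab
  apply hw
  rw [← pr_same 𝒲 hb, pr_ne 𝒲 ha hab]

end proj

section main
variable (k : Type u) [Field k] (V W : Type v) [AddCommGroup V] [Module k V]
  [FiniteDimensional k V] [Nontrivial V] [AddCommGroup W] [Module k W] [FiniteDimensional k W]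
  (𝒱 : ℤ → Submodule k V) [DirectSum.Decomposition 𝒱]
  (𝒲 : ℤ → Submodule k W) [DirectSum.Decomposition 𝒲]
  (φ : Module.End k V ≃ₐ[k] Module.End k W)
  (hφ : ∀ (d : ℤ) (f : Module.End k V), (∀ (i : ℤ) (x : V), x ∈ 𝒱 i → f x ∈ 𝒱 (i + d)) →
    ∀ (i : ℤ) (y : W), y ∈ 𝒲 i → φ f y ∈ 𝒲 (i + d))
  (g : V ≃ₗ[k] W) (hg : ∀ f : Module.End k V, φ f = (g : V →ₗ[k] W) ∘ₗ f ∘ₗ (g.symm : W →ₗ[k] V))

include hφ hg in
/-- key: x ∈ V_i, y ∈ V_i' nonzero x, and g x = Σ components: if some info -/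
theorem key {i i' : ℤ} {x y : V} (hx : x ∈ 𝒱 i) (hx0 : x ≠ 0) (hy : y ∈ 𝒱 i') :
    ∃ T : Module.End k W, (∀ (j : ℤ) (w : W), w ∈ 𝒲 j → T w ∈ 𝒲 (j + (i' - i))) ∧
      ∃ ℓ : V →ₗ[k] k, ℓ x = 1 ∧ ∀ w, T w = ℓ (g.symm w) • g y := by
  obtain ⟨ℓ₀, hℓ₀⟩ := Module.Projective.exists_dual_eq_one k hx0
  obtain ⟨ℓ, hℓ⟩ : ∃ ℓ : V →ₗ[k] k, ℓ = ℓ₀ ∘ₗ pr 𝒱 i := ⟨_, rfl⟩
  have hℓx : ℓ x = 1 := by rw [hℓ, LinearMap.comp_apply, pr_same 𝒱 hx, hℓ₀]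
  have hℓne : ∀ l, l ≠ i → ∀ v ∈ 𝒱 l, ℓ v = 0 := by
    intro l hl v hv
    rw [hℓ, LinearMap.comp_apply, pr_ne 𝒱 hv hl, map_zero]
  refine ⟨φ (ℓ.smulRight y), ?_, ℓ, hℓx, ?_⟩
  · apply hφ
    intro l v hv
    rw [LinearMap.smulRight_apply]
    by_cases hl : l = i
    · subst hl
      have : l + (i' - l) = i' := by ring
      rw [this]
      exact Submodule.smul_mem _ _ hy
    · rw [hℓne l hl v hv, zero_smul]; exact Submodule.zero_mem _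
  · intro w
    rw [hg]
    simp [LinearMap.smulRight_apply]

include hφ hg in
theorem homog {i : ℤ} {x : V} (hx : x ∈ 𝒱 i) (hx0 : x ≠ 0) : ∃ j, g x ∈ 𝒲 j := by
  obtain ⟨T, hT, ℓ, hℓx, hTw⟩ := key k V W 𝒱 𝒲 φ hφ g hg hx hx0 hx
  obtain ⟨s, hs⟩ := sum_pr 𝒲 (g x)
  have hsum : ∑ j ∈ s, ℓ (g.symm (pr 𝒲 j (g x))) = 1 := by
    rw [← map_sum, ← map_sum, hs, LinearEquiv.symm_apply_apply, hℓx]
  obtain ⟨j, -, hj⟩ : ∃ j ∈ s, ℓ (g.symm (pr 𝒲 j (g x))) ≠ 0 := by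
    by_contra hcon
    push Not at hcon
    rw [Finset.sum_eq_zero hcon] at hsum
    exact zero_ne_one hsum
  refine ⟨j, ?_⟩
  have h1 := hT j _ (pr_mem 𝒲 j (g x))
  rw [hTw, sub_self, add_zero] at h1
  have := Submodule.smul_mem (𝒲 j) (ℓ (g.symm (pr 𝒲 j (g x))))⁻¹ h1
  rwa [smul_smul, inv_mul_cancel₀ hj, one_smul] at this

include hφ hg in
theorem shift {i i' j j' : ℤ} {x y : V} (hx : x ∈ 𝒱 i) (hx0 : x ≠ 0) (hy : y ∈ 𝒱 i') (hy0 : y ≠ 0)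
    (hgx : g x ∈ 𝒲 j) (hgy : g y ∈ 𝒲 j') : j' - i' = j - i := by
  obtain ⟨T, hT, ℓ, hℓx, hTw⟩ := key k V W 𝒱 𝒲 φ hφ g hg hx hx0 hy
  have h1 := hT j _ hgx
  rw [hTw, LinearEquiv.symm_apply_apply, hℓx, one_smul] at h1
  have h0 : g y ≠ 0 := by
    intro h; exact hy0 (by simpa using h)
  have := eq_of_mem_mem 𝒲 hgy h1 h0
  omega

end main

theorem main (k : Type u) [Field k] (V W : Type v) [AddCommGroup V] [Module k V]
    [FiniteDimensional k V] [Nontrivial V] [AddCommGroup W] [Module k W] [FiniteDimensional k W]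
    (𝒱 : ℤ → Submodule k V) (h𝒱 : DirectSum.IsInternal 𝒱) (𝒲 : ℤ → Submodule k W)
    (h𝒲 : DirectSum.IsInternal 𝒲) (φ : Module.End k V ≃ₐ[k] Module.End k W)
    (hφ : ∀ (d : ℤ) (f : Module.End k V), (∀ (i : ℤ) (x : V), x ∈ 𝒱 i → f x ∈ 𝒱 (i + d)) →
      ∀ (i : ℤ) (y : W), y ∈ 𝒲 i → φ f y ∈ 𝒲 (i + d)) :
    ∃ (n : ℤ) (g : V ≃ₗ[k] W),
      (∀ i : ℤ, Submodule.map (g : V →ₗ[k] W) (𝒱 i) = 𝒲 (i + n)) ∧
      (∀ f : Module.End k V, φ f = (g : V →ₗ[k] W) ∘ₗ f ∘ₗ (g.symm : W →ₗ[k] V)) ∧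
      ∀ (n' : ℤ) (g' : V ≃ₗ[k] W),
        (∀ i : ℤ, Submodule.map (g' : V →ₗ[k] W) (𝒱 i) = 𝒲 (i + n')) →
        (∀ f : Module.End k V, φ f = (g' : V →ₗ[k] W) ∘ₗ f ∘ₗ (g'.symm : W →ₗ[k] V)) →
        n' = n ∧ ∃ c : kˣ, ∀ x : V, g' x = c • g x := by
  classical
  haveI := h𝒱.chooseDecomposition
  haveI := h𝒲.chooseDecomposition
  obtain ⟨g, hg0⟩ := φ.eq_linearEquivConjAlgEquiv
  have hg : ∀ f : Module.End k V, φ f = (g : V →ₗ[k] W) ∘ₗ f ∘ₗ (g.symm : W →ₗ[k] V) :=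
    fun f => by rw [hg0]; rfl
  obtain ⟨i0, x0, hx0, hx00⟩ : ∃ i x, x ∈ 𝒱 i ∧ x ≠ 0 := by
    obtain ⟨v, hv⟩ := exists_ne (0 : V)
    obtain ⟨s, hs⟩ := sum_pr 𝒱 v
    by_contra hcon
    push Not at hcon
    apply hv
    rw [← hs]
    exact Finset.sum_eq_zero (fun j _ => hcon j _ (pr_mem 𝒱 j v))
  obtain ⟨j0, hj0⟩ := homog k V W 𝒱 𝒲 φ hφ g hg hx0 hx00
  have hsh : ∀ i x, x ∈ 𝒱 i → g x ∈ 𝒲 (i + (j0 - i0)) := by
    intro i x hx
    by_cases hx1 : x = 0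
    · subst hx1; simp
    · obtain ⟨j, hj⟩ := homog k V W 𝒱 𝒲 φ hφ g hg hx hx1
      have h1 := shift k V W 𝒱 𝒲 φ hφ g hg hx0 hx00 hx hx1 hj0 hj
      have h2 : j = i + (j0 - i0) := by omega
      rwa [h2] at hj
  have hmap : ∀ (g' : V ≃ₗ[k] W) (n' : ℤ), (∀ i x, x ∈ 𝒱 i → g' x ∈ 𝒲 (i + n')) →
      ∀ i, Submodule.map (g' : V →ₗ[k] W) (𝒱 i) = 𝒲 (i + n') := by
    intro g' n' h i
    apply le_antisymm
    · rintro _ ⟨x, hx, rfl⟩; exact h i x hx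
    · intro w hw
      have hcomm : ∀ v : V, pr 𝒲 (i + n') (g' v) = g' (pr 𝒱 i v) := by
        intro v
        induction v using DirectSum.Decomposition.inductionOn 𝒱 with
        | zero => simp
        | @homogeneous l m =>
          by_cases hl : l = i
          · subst hl
            rw [pr_same 𝒱 m.2, pr_same 𝒲 (h l _ m.2)]
          · rw [pr_ne 𝒱 m.2 hl, pr_ne 𝒲 (h l _ m.2) (by omega), map_zero]
        | add a b ha hb => rw [map_add, map_add, ha, hb, map_add, map_add]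
      refine ⟨pr 𝒱 i (g'.symm w), pr_mem 𝒱 i _, ?_⟩
      have := hcomm (g'.symm w)
      rw [LinearEquiv.apply_symm_apply, pr_same 𝒲 hw] at this
      exact this.symm
  refine ⟨j0 - i0, g, hmap g _ hsh, hg, ?_⟩
  intro n' g' hg'map hg'
  have hx0' : g' x0 ∈ 𝒲 (i0 + n') := by
    rw [← hg'map i0]; exact ⟨x0, hx0, rfl⟩
  have hconj : g'.conjAlgEquiv k = g.conjAlgEquiv k := by
    ext f : 1
    rw [LinearEquiv.conjAlgEquiv_apply, LinearEquiv.conjAlgEquiv_apply]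
    exact (hg' f).symm.trans (hg f)
  obtain ⟨α, hα⟩ := (LinearEquiv.conjAlgEquiv_ext_iff' g' g).mp hconj
  have hαx : ∀ x : V, g' x = α • g x := by
    intro x; rw [hα]; rfl
  refine ⟨?_, α, hαx⟩
  have h1 : g' x0 ∈ 𝒲 (i0 + (j0 - i0)) := by
    rw [hαx]; exact Submodule.smul_mem _ _ (hsh i0 x0 hx0)
  have h0 : g' x0 ≠ 0 := by
    intro h; exact hx00 (by simpa using h)
  have := eq_of_mem_mem 𝒲 hx0' h1 h0
  omega


/-- Let k be a field and V, W finite-dimensional ℤ-graded k-vector spaces, V = ⊕ V_i with V ≠ 0 and W =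
⊕ W_i. Let φ : End_k(V) ≃ End_k(W) be a k-algebra isomorphism which sends every endomorphism
homogeneous of degree d (one mapping V_i into V_{i+d} for all i) to an endomorphism homogeneous of
degree d. Then there are an integer n and a k-linear isomorphism g : V ≅ W with g(V_i) = W_{i+n} for
every i such that φ(f) = g ∘ f ∘ g⁻¹ for all f; moreover n is unique and g is unique up to a nonzero
scalar: if g' : V ≅ W satisfies g'(V_i) = W_{i+n'} for all i and φ(f) = g' ∘ f ∘ g'⁻¹ for all f,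
then n' = n and g' = c·g for some c ∈ kˣ. (The published statement is about non-zero perfect
complexes over k: an isomorphism of their derived endomorphism algebras, as algebra objects of the
derived category, is induced by an isomorphism from the first complex to a shift of the second, for
a unique shift and up to a unit; this row is its form for finite-dimensional ℤ-graded vector spaces,
to which the bounded derived category of a field is equivalent by taking cohomology.) -/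
theorem result (k : Type u) [Field k] (V W : Type v) [AddCommGroup V] [Module k V] [FiniteDimensional k V] [Nontrivial V] [AddCommGroup W] [Module k W] [FiniteDimensional k W] (𝒱 : ℤ → Submodule k V) (h𝒱 : DirectSum.IsInternal 𝒱) (𝒲 : ℤ → Submodule k W) (h𝒲 : DirectSum.IsInternal 𝒲) (φ : Module.End k V ≃ₐ[k] Module.End k W) (hφ : ∀ (d : ℤ) (f : Module.End k V), (∀ (i : ℤ) (x : V), x ∈ 𝒱 i → f x ∈ 𝒱 (i + d)) → ∀ (i : ℤ) (y : W), y ∈ 𝒲 i → φ f y ∈ 𝒲 (i + d)) : ∃ (n : ℤ) (g : V ≃ₗ[k] W), (∀ i : ℤ, Submodule.map (g : V →ₗ[k] W) (𝒱 i) = 𝒲 (i + n)) ∧ (∀ f : Module.End k V, φ f = (g : V →ₗ[k] W) ∘ₗ f ∘ₗ (g.symm : W →ₗ[k] V)) ∧ ∀ (n' : ℤ) (g' : V ≃ₗ[k] W), (∀ i : ℤ, Submodule.map (g' : V →ₗ[k] W) (𝒱 i) = 𝒲 (i + n')) → (∀ f : Module.End k V, φ f = (g' : V →ₗ[k] W) ∘ₗ f ∘ₗ (g'.symm : W →ₗ[k] V)) → n' = n ∧ ∃ c : kˣ, ∀ x : V, g' x = c • g x := by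
  exact main k V W 𝒱 h𝒱 𝒲 h𝒲 φ hφ

end Groth.Agent.S13846
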