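import Groth.Statements.S13847
import Mathlib
-- import your own Groth.Agent.* helpers here

set_option autoImplicit false
universe u v
open TwSh

namespace Groth.Agent.S13847


section Helpers
open Module

/-- `A ⧸ J(A)`. -/
abbrev Ab (A : Type u) [Ring A] : Type u := A ⧸ Ring.jacobson A

/-- `J(A) • P`. -/
abbrev JP (A : Type u) [Ring A] (P : Type v) [AddCommGroup P] [Module A P] : Submodule A P :=
  Ring.jacobson A • (⊤ : Submodule A P)

/-- `P ⧸ J(A) • P`, a module over `A ⧸ J(A)`. -/
abbrev Pb (A : Type u) [Ring A] (P : Type v) [AddCommGroup P] [Module A P] : Type v :=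
  P ⧸ JP A P

/-- Existence of `t` pairwise orthogonal nonzero idempotents. -/
def HasOrth (B : Type*) [Ring B] (t : ℕ) : Prop :=
  ∃ e : Fin t → B, (∀ i, e i * e i = e i) ∧ (∀ i, e i ≠ 0) ∧ (∀ i j, i ≠ j → e i * e j = 0)

theorem HasOrth.map {B B' : Type*} [Ring B] [Ring B'] {t : ℕ} (h : HasOrth B t) (φ : B ≃+* B') :
    HasOrth B' t := by
  obtain ⟨e, h1, h2, h3⟩ := h
  refine ⟨fun i => φ (e i), fun i => ?_, fun i => ?_, fun i j hij => ?_⟩
  · rw [← map_mul, h1]
  · exact (map_ne_zero_iff φ φ.injective).mpr (h2 i)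
  · rw [← map_mul, h3 i j hij, map_zero]

theorem orth_le {R : Type*} [Ring R] {N : Type*} [AddCommGroup N] [Module R N] {t : ℕ}
    (h : HasOrth (Module.End R N) t) : (t : ℕ∞) ≤ Module.length R N := by
  obtain ⟨e, h1, h2, h3⟩ := h
  let Φ : (∀ i : Fin t, LinearMap.range (e i)) →ₗ[R] N :=
    ∑ i, (LinearMap.range (e i)).subtype ∘ₗ LinearMap.proj i
  have hΦ : ∀ x, Φ x = ∑ i, (x i : N) := by
    intro x
    simp [Φ, LinearMap.sum_apply]
  have hinj : Function.Injective Φ := by
    rw [← LinearMap.ker_eq_bot, LinearMap.ker_eq_bot']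
    intro x hx
    funext j
    apply Subtype.ext
    show (x j : N) = 0
    have hxj : ∀ i, e j (x i : N) = if i = j then (x j : N) else 0 := by
      intro i
      obtain ⟨y, hy⟩ := (x i).2
      split_ifs with hij
      · subst hij
        rw [← hy, ← Module.End.mul_apply, h1]
      · rw [← hy, ← Module.End.mul_apply, h3 j i (Ne.symm hij), LinearMap.zero_apply]
    have h4 : e j (Φ x) = (x j : N) := by
      rw [hΦ, map_sum]
      simp [hxj]
    rw [hx, map_zero] at h4
    exact h4.symm
  calc (t : ℕ∞) = ∑ _i : Fin t, (1 : ℕ∞) := by simp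
    _ ≤ ∑ i : Fin t, Module.length R (LinearMap.range (e i)) := by
        refine Finset.sum_le_sum fun i _ => ?_
        haveI : Nontrivial (LinearMap.range (e i)) := by
          obtain ⟨y, hy⟩ : ∃ y, e i y ≠ 0 := by
            by_contra hcon
            push_neg at hcon
            exact h2 i (LinearMap.ext hcon)
          exact ⟨⟨⟨e i y, y, rfl⟩, 0, fun h0 => hy (congrArg Subtype.val h0)⟩⟩
        exact ENat.one_le_iff_ne_zero.mpr (ne_of_gt (Module.length_pos_iff.mpr inferInstance))
    _ = Module.length R (∀ i : Fin t, LinearMap.range (e i)) :=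
        (Module.length_pi_of_fintype R _).symm
    _ ≤ Module.length R N := Module.length_le_of_injective Φ hinj

theorem orth_fun {R : Type*} [Ring R] {S : Type*} [AddCommGroup S] [Module R S] [Nontrivial S]
    (n : ℕ) : HasOrth (Module.End R (Fin n → S)) n := by
  classical
  refine ⟨fun i => (LinearMap.single R (fun _ : Fin n => S) i) ∘ₗ (LinearMap.proj i),
    fun i => ?_, fun i => ?_, fun i j hij => ?_⟩
  · apply LinearMap.ext; intro x
    show (Pi.single i ((Pi.single i (x i) : Fin n → S) i) : Fin n → S) = (Pi.single i (x i) : Fin n → S)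
    rw [Pi.single_eq_same]
  · intro h0
    obtain ⟨s, hs⟩ := exists_ne (0 : S)
    have h1 := congrFun (LinearMap.congr_fun h0 (Pi.single i s)) i
    apply hs
    have h2 : (Pi.single i ((Pi.single i s : Fin n → S) i) : Fin n → S) i = 0 := h1
    rwa [Pi.single_eq_same, Pi.single_eq_same] at h2
  · apply LinearMap.ext; intro x
    show (Pi.single i ((Pi.single j (x j) : Fin n → S) i) : Fin n → S) = 0
    rw [Pi.single_eq_of_ne hij, Pi.single_zero]

theorem length_fun {R : Type*} [Ring R] {S : Type*} [AddCommGroup S] [Module R S]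
    [IsSimpleModule R S] (n : ℕ) : Module.length R (Fin n → S) = n := by
  rw [Module.length_pi_of_fintype]
  simp [Module.length_eq_one]

theorem simple_equiv (R : Type*) [Ring R] [IsSimpleRing R] [IsArtinianRing R]
    (S₁ : Type*) [AddCommGroup S₁] [Module R S₁] [IsSimpleModule R S₁]
    (S₂ : Type*) [AddCommGroup S₂] [Module R S₂] [IsSimpleModule R S₂] :
    Nonempty (S₁ ≃ₗ[R] S₂) := by
  obtain ⟨I1, ⟨e1⟩⟩ := IsSemisimpleRing.exists_linearEquiv_ideal_of_isSimpleModule R S₁
  obtain ⟨I2, ⟨e2⟩⟩ := IsSemisimpleRing.exists_linearEquiv_ideal_of_isSimpleModule R S₂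
  haveI : IsSimpleModule R I1 := IsSimpleModule.congr e1.symm
  haveI : IsSimpleModule R I2 := IsSimpleModule.congr e2.symm
  obtain ⟨e3⟩ := IsSimpleRing.isIsotypic R R I1 I2
  exact ⟨e1.trans (e3.symm.trans e2.symm)⟩

theorem struct (R : Type*) [Ring R] [IsSimpleRing R] [IsArtinianRing R]
    (S : Type*) [AddCommGroup S] [Module R S] [IsSimpleModule R S]
    (N : Type*) [AddCommGroup N] [Module R N] [Module.Finite R N] :
    ∃ n : ℕ, Nonempty (N ≃ₗ[R] Fin n → S) := by
  have h : IsIsotypicOfType R N S := fun m _ => simple_equiv R m S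
  exact h.linearEquiv_fun

variable {A : Type u} [Ring A]

theorem nak {M : Type*} [AddCommGroup M] [Module A M] [Module.Finite A M]
    (N : Submodule A M) (h : N ⊔ Ring.jacobson A • (⊤ : Submodule A M) = ⊤) : N = ⊤ := by
  have h1 : (⊤ : Submodule A (M ⧸ N)) ≤ Ring.jacobson A • (⊤ : Submodule A (M ⧸ N)) := by
    have h2 : Submodule.map N.mkQ (N ⊔ Ring.jacobson A • (⊤ : Submodule A M)) = ⊤ := by
      rw [h, Submodule.map_top, Submodule.range_mkQ]
    rw [Submodule.map_sup, Submodule.map_smul'', Submodule.map_top, Submodule.range_mkQ,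
      Submodule.mkQ_map_self, bot_sup_eq] at h2
    exact h2.ge
  have h4 := Submodule.FG.eq_bot_of_le_jacobson_smul (Module.Finite.fg_top) h1
  rw [eq_top_iff]
  intro x _
  have hx : N.mkQ x ∈ (⊤ : Submodule A (M ⧸ N)) := Submodule.mem_top
  rw [h4, Submodule.mem_bot] at hx
  exact (Submodule.Quotient.mk_eq_zero N).mp hx

section Bar

variable {P : Type v} [AddCommGroup P] [Module A P] {Q : Type v} [AddCommGroup Q] [Module A Q]

theorem map_JP_le (f : P →ₗ[A] Q) : JP A P ≤ (JP A Q).comap f := by
  rw [← Submodule.map_le_iff_le_comap, Submodule.map_smul'']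
  exact Submodule.smul_mono le_rfl le_top

/-- The map induced on `P ⧸ J P`, linear over `A ⧸ J`. -/
noncomputable def barMap (f : P →ₗ[A] Q) : Pb A P →ₗ[Ab A] Pb A Q :=
  { toFun := Submodule.mapQ (JP A P) (JP A Q) f (map_JP_le f)
    map_add' := fun x y => map_add _ x y
    map_smul' := fun r x => by
      obtain ⟨a, rfl⟩ := Ideal.Quotient.mk_surjective r
      exact map_smul (Submodule.mapQ (JP A P) (JP A Q) f (map_JP_le f)) a x }

/-- Restriction of scalars from `A ⧸ J` to `A`. -/
def ofBar (g : Pb A P →ₗ[Ab A] Pb A Q) : Pb A P →ₗ[A] Pb A Q :=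
  { toFun := g
    map_add' := fun x y => map_add g x y
    map_smul' := fun a x => map_smul g (Ideal.Quotient.mk (Ring.jacobson A) a) x }

theorem liftBar [Module.Projective A P] (g : Pb A P →ₗ[Ab A] Pb A Q) :
    ∃ φ : P →ₗ[A] Q, barMap φ = g := by
  obtain ⟨φ, hφ⟩ := Module.projective_lifting_property (JP A Q).mkQ
    ((ofBar g).comp (JP A P).mkQ) (Submodule.mkQ_surjective _)
  refine ⟨φ, LinearMap.ext fun x => ?_⟩
  obtain ⟨y, rfl⟩ := Submodule.mkQ_surjective (JP A P) x
  exact LinearMap.congr_fun hφ y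

theorem finite_bar [Module.Finite A P] : Module.Finite (Ab A) (Pb A P) := by
  obtain ⟨s, hs⟩ := (Module.Finite.fg_top : (⊤ : Submodule A (Pb A P)).FG)
  refine ⟨⟨s, ?_⟩⟩
  rw [eq_top_iff]
  rintro x -
  have hx : x ∈ Submodule.span A (s : Set (Pb A P)) := by rw [hs]; exact Submodule.mem_top
  induction hx using Submodule.span_induction with
  | mem y hy => exact Submodule.subset_span hy
  | zero => exact Submodule.zero_mem _
  | add y z _ _ hy hz => exact Submodule.add_mem _ hy hz
  | smul a y _ hy =>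
    exact Submodule.smul_mem _ (Ideal.Quotient.mk (Ring.jacobson A) a) hy

end Bar

section PsiSec

variable (P : Type v) [AddCommGroup P] [Module A P]

/-- Reduction of endomorphisms modulo the radical, as a ring homomorphism. -/
noncomputable def Psi : Module.End A P →+* Module.End (Ab A) (Pb A P) where
  toFun := barMap
  map_one' := LinearMap.ext fun x => by
    obtain ⟨y, rfl⟩ := Submodule.mkQ_surjective (JP A P) x; rfl
  map_mul' f g := LinearMap.ext fun x => by
    obtain ⟨y, rfl⟩ := Submodule.mkQ_surjective (JP A P) x; rfl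
  map_zero' := LinearMap.ext fun x => by
    obtain ⟨y, rfl⟩ := Submodule.mkQ_surjective (JP A P) x; rfl
  map_add' f g := LinearMap.ext fun x => by
    obtain ⟨y, rfl⟩ := Submodule.mkQ_surjective (JP A P) x; rfl

variable {P}

theorem surj_one_sub [Module.Finite A P] (h : Module.End A P) (hh : ∀ y, h y ∈ JP A P) :
    Function.Surjective ⇑(1 - h : Module.End A P) := by
  have h0 : LinearMap.range (1 - h) = ⊤ := by
    apply nak
    rw [eq_top_iff]
    intro x _
    have hx : x = (1 - h) x + h x := by simp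
    rw [hx]
    exact Submodule.add_mem_sup (LinearMap.mem_range_self _ x) (hh x)
  exact LinearMap.range_eq_top.mp h0

theorem isUnit_one_sub [Module.Finite A P] [Module.Projective A P] (h : Module.End A P)
    (hh : ∀ y, h y ∈ JP A P) : IsUnit (1 - h) := by
  have hsurj := surj_one_sub h hh
  obtain ⟨s, hs⟩ := Module.projective_lifting_property (1 - h) LinearMap.id hsurj
  have hs' : ∀ y, s y - h (s y) = y := fun y => by
    have h0 := LinearMap.congr_fun hs y
    simpa using h0
  have hs1 : ∀ y, (1 - s : Module.End A P) y ∈ JP A P := by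
    intro y
    have h0 : (1 - s : Module.End A P) y = - h (s y) := by
      show y - s y = - h (s y)
      calc y - s y = (s y - h (s y)) - s y := by rw [hs' y]
        _ = - h (s y) := by abel
    rw [h0]
    exact Submodule.neg_mem _ (hh _)
  have hssurj : Function.Surjective s := by
    have h0 := surj_one_sub (1 - s : Module.End A P) hs1
    rwa [sub_sub_cancel] at h0
  rw [Module.End.isUnit_iff]
  refine ⟨?_, hsurj⟩
  intro x x' hxx'
  obtain ⟨y, rfl⟩ := hssurj x
  obtain ⟨y', rfl⟩ := hssurj x'
  have h1 : (1 - h) (s y) = y := hs' y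
  have h2 : (1 - h) (s y') = y' := hs' y'
  have h3 : y = y' := by rw [← h1, ← h2, hxx']
  rw [h3]

theorem rad_iff [Module.Finite A P] [Module.Projective A P] [IsSemisimpleRing (Ab A)]
    (f : Module.End A P) :
    Psi P f = 0 ↔ ∀ g : Module.End A P, IsUnit (1 - g * f) := by
  constructor
  · intro hf g
    apply isUnit_one_sub
    intro y
    have h1 : Psi P (g * f) = 0 := by rw [map_mul, hf, mul_zero]
    have h2 := LinearMap.congr_fun h1 (Submodule.Quotient.mk y)
    exact (Submodule.Quotient.mk_eq_zero _).mp h2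
  · intro hall
    by_contra hne
    obtain ⟨C, hC⟩ := exists_isCompl (LinearMap.ker (Psi P f))
    have hι : Function.Injective ((Psi P f) ∘ₗ C.subtype) := by
      rw [← LinearMap.ker_eq_bot, LinearMap.ker_eq_bot']
      intro c hc
      have h1 : (c : Pb A P) ∈ LinearMap.ker (Psi P f) ⊓ C := ⟨hc, c.2⟩
      rw [hC.inf_eq_bot, Submodule.mem_bot] at h1
      exact Subtype.ext h1
    obtain ⟨gb, hgb⟩ := IsSemisimpleModule.extension_property ((Psi P f) ∘ₗ C.subtype) hι
      C.subtype
    obtain ⟨g, hg⟩ := liftBar gb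
    have hu : IsUnit (Psi P (1 - g * f)) := (hall g).map (Psi P)
    rw [map_sub, map_one, map_mul] at hu
    have hCne : C ≠ ⊥ := by
      intro h0
      apply hne
      have h1 := hC.sup_eq_top
      rw [h0, sup_bot_eq] at h1
      exact LinearMap.ker_eq_top.mp h1
    obtain ⟨c, hcC, hc0⟩ := Submodule.exists_mem_ne_zero_of_ne_bot hCne
    have hinj := ((Module.End.isUnit_iff _).mp hu).1
    apply hc0
    apply hinj
    rw [map_zero]
    have h3 : gb (Psi P f c) = c := LinearMap.congr_fun hgb ⟨c, hcC⟩
    have h4 : Psi P g = gb := hg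
    rw [h4]
    show c - gb (Psi P f c) = 0
    rw [h3, sub_self]

end PsiSec

section Transfer

variable {P : Type v} [AddCommGroup P] [Module A P] [Module.Finite A P] [Module.Projective A P]
  {Q : Type v} [AddCommGroup Q] [Module A Q] [Module.Finite A Q] [Module.Projective A Q]

theorem key [IsSemisimpleRing (Ab A)] (e : Module.End A P ≃+* Module.End A Q)
    (x : Module.End A P) : Psi P x = 0 ↔ Psi Q (e x) = 0 := by
  rw [rad_iff, rad_iff]
  constructor
  · intro h g'
    have h0 := (h (e.symm g')).map e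
    rwa [map_sub, map_one, map_mul, RingEquiv.apply_symm_apply] at h0
  · intro h g
    have h0 := (h (e g)).map e.symm
    rwa [map_sub, map_one, map_mul, RingEquiv.symm_apply_apply, RingEquiv.symm_apply_apply] at h0

theorem transfer [IsSemisimpleRing (Ab A)] (e : Module.End A P ≃+* Module.End A Q) {t : ℕ}
    (h : HasOrth (Module.End (Ab A) (Pb A P)) t) : HasOrth (Module.End (Ab A) (Pb A Q)) t := by
  obtain ⟨ε, h1, h2, h3⟩ := h
  have hlift : ∀ i, ∃ f : Module.End A P, Psi P f = ε i := fun i => liftBar (ε i)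
  choose f hf using hlift
  refine ⟨fun i => Psi Q (e (f i)), fun i => ?_, fun i => ?_, fun i j hij => ?_⟩
  · have h0 : Psi P (f i * f i - f i) = 0 := by rw [map_sub, map_mul, hf, h1, sub_self]
    have h4 := (key e _).mp h0
    simp only [map_sub, map_mul, sub_eq_zero] at h4
    exact h4
  · intro h0
    have h4 := (key e _).mpr h0
    rw [hf] at h4
    exact h2 i h4
  · have h0 : Psi P (f i * f j) = 0 := by rw [map_mul, hf, hf, h3 i j hij]
    have h4 := (key e _).mp h0
    simpa only [map_mul] using h4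

theorem lift_equiv (φb : Pb A P ≃ₗ[Ab A] Pb A Q) : Nonempty (P ≃ₗ[A] Q) := by
  obtain ⟨φ, hφ⟩ := liftBar (φb : Pb A P →ₗ[Ab A] Pb A Q)
  obtain ⟨ψ, hψ⟩ := liftBar (φb.symm : Pb A Q →ₗ[Ab A] Pb A P)
  have e1 : ∀ y, (Submodule.Quotient.mk (φ y) : Pb A Q) = φb (Submodule.Quotient.mk y) :=
    fun y => LinearMap.congr_fun hφ (Submodule.Quotient.mk y)
  have e2 : ∀ z, (Submodule.Quotient.mk (ψ z) : Pb A P) = φb.symm (Submodule.Quotient.mk z) :=
    fun z => LinearMap.congr_fun hψ (Submodule.Quotient.mk z)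
  have h1 : ∀ y, (1 - ψ ∘ₗ φ : Module.End A P) y ∈ JP A P := by
    intro y
    rw [← Submodule.Quotient.mk_eq_zero]
    show (Submodule.Quotient.mk (y - ψ (φ y)) : Pb A P) = 0
    rw [Submodule.Quotient.mk_sub, e2, e1, LinearEquiv.symm_apply_apply, sub_self]
  have h2 : ∀ z, (1 - φ ∘ₗ ψ : Module.End A Q) z ∈ JP A Q := by
    intro z
    rw [← Submodule.Quotient.mk_eq_zero]
    show (Submodule.Quotient.mk (z - φ (ψ z)) : Pb A Q) = 0
    rw [Submodule.Quotient.mk_sub, e1, e2, LinearEquiv.apply_symm_apply, sub_self]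
  have u1 := isUnit_one_sub _ h1
  have u2 := isUnit_one_sub _ h2
  rw [sub_sub_cancel] at u1 u2
  have b1 := (Module.End.isUnit_iff _).mp u1
  have b2 := (Module.End.isUnit_iff _).mp u2
  have hinj : Function.Injective φ := fun x x' hx =>
    b1.1 (show ψ (φ x) = ψ (φ x') by rw [hx])
  have hsurj : Function.Surjective φ := fun z => by
    obtain ⟨w, hw⟩ := b2.2 z
    exact ⟨ψ w, hw⟩
  exact ⟨LinearEquiv.ofBijective φ ⟨hinj, hsurj⟩⟩

end Transfer

end Helpers



/-- Let A be a ring which is strongly local, that is, the quotient of A by its Jacobson radical J is a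
simple left-Artinian ring, and let P and Q be finitely generated projective left A-modules. If
End_A(P) and End_A(Q) are isomorphic as rings, then P ≅ Q as A-modules. (The published assertion
says more, that every ring isomorphism End_A(P) ≅ End_A(Q) is induced by an isomorphism P ≅ Q; that
is not correct for isomorphisms which are not linear over the centre — complex conjugation is a ring
automorphism of End_ℂ(ℂ) = ℂ induced by no ℂ-linear map — and this row keeps the existence of an
isomorphism P ≅ Q, which is what the first part of the printed proof establishes.) -/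
theorem result (A : Type u) [Ring A] [IsSimpleRing (A ⧸ Ring.jacobson A)] [IsArtinianRing (A ⧸ Ring.jacobson A)] (P Q : Type v) [AddCommGroup P] [Module A P] [Module.Finite A P] [Module.Projective A P] [AddCommGroup Q] [Module A Q] [Module.Finite A Q] [Module.Projective A Q] (e : Module.End A P ≃+* Module.End A Q) : Nonempty (P ≃ₗ[A] Q) := by
  haveI : IsSemisimpleRing (Ab A) := inferInstance
  obtain ⟨n0, hn0, I₀, hI₀, -⟩ := IsSimpleRing.exists_ringEquiv_matrix_end_mulOpposite (Ab A)
  haveI := hI₀
  haveI : Nontrivial I₀ := IsSimpleModule.nontrivial (Ab A) I₀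
  haveI := finite_bar (A := A) (P := P)
  haveI := finite_bar (A := A) (P := Q)
  obtain ⟨p, ⟨eP⟩⟩ := struct (Ab A) I₀ (Pb A P)
  obtain ⟨q, ⟨eQ⟩⟩ := struct (Ab A) I₀ (Pb A Q)
  have hPlen : Module.length (Ab A) (Pb A P) = p := by rw [eP.length_eq, length_fun]
  have hQlen : Module.length (Ab A) (Pb A Q) = q := by rw [eQ.length_eq, length_fun]
  have hPorth : HasOrth (Module.End (Ab A) (Pb A P)) p :=
    (orth_fun (R := Ab A) (S := I₀) p).map eP.symm.conjRingEquiv
  have hQorth : HasOrth (Module.End (Ab A) (Pb A Q)) q :=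
    (orth_fun (R := Ab A) (S := I₀) q).map eQ.symm.conjRingEquiv
  have h1 : (p : ℕ∞) ≤ q := by rw [← hQlen]; exact orth_le (transfer e hPorth)
  have h2 : (q : ℕ∞) ≤ p := by rw [← hPlen]; exact orth_le (transfer e.symm hQorth)
  have hpq : p = q := le_antisymm (by exact_mod_cast h1) (by exact_mod_cast h2)
  subst hpq
  exact lift_equiv (eP.trans eQ.symm)

end Groth.Agent.S13847
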