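import Groth.Statements.S13848
import Mathlib

set_option autoImplicit false
set_option linter.style.haveILetI false
set_option linter.unusedSectionVars false
universe u v
open TwSh

namespace Groth.Agent.S13848

section Helpers

variable {A : Type u} [Ring A] {P : Type v} [AddCommGroup P] [Module A P]

/-- the trace ideal of `P`: the left ideal spanned by all values `f x`, `f : P → A` linear. -/
def Tr (A : Type u) [Ring A] (P : Type v) [AddCommGroup P] [Module A P] : Ideal A :=
  Submodule.span A (Set.range fun fx : (P →ₗ[A] A) × P => fx.1 fx.2)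

theorem apply_mem_Tr (f : P →ₗ[A] A) (x : P) : f x ∈ Tr A P :=
  Submodule.subset_span ⟨(f, x), rfl⟩

theorem Tr_mul_right (t : A) (ht : t ∈ Tr A P) (b : A) : t * b ∈ Tr A P := by
  unfold Tr at ht
  induction ht using Submodule.span_induction with
  | mem t ht =>
    obtain ⟨⟨f, x⟩, rfl⟩ := ht
    show f x * b ∈ Tr A P
    have e : f x * b = ((LinearMap.toSpanSingleton A A b).comp f) x := by
      simp [LinearMap.toSpanSingleton_apply]
    rw [e]
    exact apply_mem_Tr _ _
  | zero => rw [zero_mul]; exact Submodule.zero_mem _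
  | add t t' _ _ iht iht' => rw [add_mul]; exact Submodule.add_mem _ iht iht'
  | smul c t _ iht => rw [smul_mul_assoc]; exact Submodule.smul_mem _ c iht

theorem Tr_eq_top [IsSimpleRing (A ⧸ Ring.jacobson A)] [Module.Finite A P]
    [Module.Projective A P] [Nontrivial P] : Tr A P = ⊤ := by
  have hπ : Function.Surjective (Ideal.Quotient.mk (Ring.jacobson A)) :=
    Ideal.Quotient.mk_surjective
  obtain ⟨IB, hIB⟩ : ∃ IB : TwoSidedIdeal (A ⧸ Ring.jacobson A),
      ∀ b, b ∈ IB ↔ ∃ a ∈ Tr A P, Ideal.Quotient.mk (Ring.jacobson A) a = b := by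
    refine ⟨TwoSidedIdeal.mk' {b | ∃ a ∈ Tr A P, Ideal.Quotient.mk (Ring.jacobson A) a = b}
      ⟨0, Submodule.zero_mem _, map_zero _⟩ ?_ ?_ ?_ ?_,
      fun b => TwoSidedIdeal.mem_mk' _ _ _ _ _ _ b⟩
    · rintro x y ⟨a, ha, rfl⟩ ⟨a', ha', rfl⟩
      exact ⟨a + a', Submodule.add_mem _ ha ha', map_add _ a a'⟩
    · rintro x ⟨a, ha, rfl⟩
      exact ⟨-a, Submodule.neg_mem _ ha, map_neg _ a⟩
    · rintro x y ⟨a, ha, rfl⟩
      obtain ⟨x', rfl⟩ := hπ x
      exact ⟨x' * a, (Tr A P).mul_mem_left x' ha, map_mul _ x' a⟩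
    · rintro x y ⟨a, ha, rfl⟩
      obtain ⟨y', rfl⟩ := hπ y
      exact ⟨a * y', Tr_mul_right a ha y', map_mul _ a y'⟩
  rcases eq_bot_or_eq_top IB with hbot | htop
  · exfalso
    have hJ : ∀ (f : P →ₗ[A] A) (x : P), f x ∈ Ring.jacobson A := by
      intro f x
      have : Ideal.Quotient.mk (Ring.jacobson A) (f x) ∈ IB :=
        (hIB _).mpr ⟨f x, apply_mem_Tr f x, rfl⟩
      rw [hbot, TwoSidedIdeal.mem_bot] at this
      exact Ideal.Quotient.eq_zero_iff_mem.mp this
    obtain ⟨s, hs⟩ := (Module.projective_def' (R := A) (P := P)).mp inferInstance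
    have hle : (⊤ : Submodule A P) ≤ Ring.jacobson A • (⊤ : Submodule A P) := by
      intro x _
      have hx : Finsupp.linearCombination A id (s x) = x := by
        have := congrArg (fun g => g x) hs
        simpa using this
      suffices h : Finsupp.linearCombination A id (s x)
          ∈ Ring.jacobson A • (⊤ : Submodule A P) by rwa [hx] at h
      rw [Finsupp.linearCombination_apply, Finsupp.sum]
      refine Submodule.sum_mem _ (fun y _ => ?_)
      refine Submodule.smul_mem_smul ?_ Submodule.mem_top
      exact hJ ((Finsupp.lapply y).comp s) x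
    have hfg : (⊤ : Submodule A P).FG := Module.Finite.fg_top
    have h0 := Submodule.FG.eq_bot_of_le_jacobson_smul hfg hle
    obtain ⟨x, hx⟩ := exists_ne (0 : P)
    have : x ∈ (⊥ : Submodule A P) := h0 ▸ Submodule.mem_top
    exact hx ((Submodule.mem_bot A).mp this)
  · have h1 : (1 : A ⧸ Ring.jacobson A) ∈ IB := by rw [htop]; exact TwoSidedIdeal.mem_top _
    obtain ⟨a, ha, hπa⟩ := (hIB 1).mp h1
    by_contra hne
    obtain ⟨m, hm, hle⟩ := Ideal.exists_le_maximal (Tr A P) hne
    haveI := hm
    have hJm : Ring.jacobson A ≤ m := Ring.jacobson_le_of_isMaximal m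
    have h1a : (1 - a) ∈ Ring.jacobson A := by
      rw [← Ideal.Quotient.eq_zero_iff_mem, map_sub, map_one, hπa, sub_self]
    have : (1 : A) ∈ m := by
      have := m.add_mem (hJm h1a) (hle ha)
      simpa using this
    exact hm.ne_top ((Ideal.eq_top_iff_one m).mpr this)

theorem main_thm [IsSimpleRing (A ⧸ Ring.jacobson A)] [Module.Finite A P]
    [Module.Projective A P] [Nontrivial P]
    (u : P ≃ₗ[A] P)
    (hu : ∀ f : Module.End A P, (u : P →ₗ[A] P) ∘ₗ f = f ∘ₗ (u : P →ₗ[A] P)) :
    ∃! a : A, (∀ b : A, a * b = b * a) ∧ ∀ x : P, u x = a • x := by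
  have hTr : Tr A P = ⊤ := Tr_eq_top
  have hfaith : ∀ c : A, (∀ x : P, c • x = 0) → c = 0 := by
    intro c hc
    have key : ∀ t ∈ Tr A P, ∀ b : A, c * (b * t) = 0 := by
      intro t ht
      unfold Tr at ht
      induction ht using Submodule.span_induction with
      | mem t ht =>
        obtain ⟨⟨f, y⟩, rfl⟩ := ht
        intro b
        show c * (b * f y) = 0
        have : c * (b * f y) = f (c • (b • y)) := by
          rw [map_smul, map_smul, smul_eq_mul, smul_eq_mul]
        rw [this, hc, map_zero]
      | zero => intro b; simp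
      | add t t' _ _ iht iht' => intro b; rw [mul_add, mul_add, iht b, iht' b, add_zero]
      | smul b' t _ iht => intro b; rw [smul_eq_mul, ← mul_assoc b b' t]; exact iht (b * b')
    have := key 1 (hTr ▸ Submodule.mem_top) 1
    simpa using this
  have hid : ∀ (f : P →ₗ[A] A) (x y : P), f y • u x = f (u y) • x := by
    intro f x y
    have := congrArg (fun g : P →ₗ[A] P => g y) (hu ((LinearMap.toSpanSingleton A P x).comp f))
    simp only [LinearMap.comp_apply, LinearMap.toSpanSingleton_apply, LinearEquiv.coe_coe,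
      map_smul] at this
    exact this
  have hΦ : ∀ t ∈ Tr A P, ∃ a : A, ∀ x : P, t • u x = a • x := by
    intro t ht
    unfold Tr at ht
    induction ht using Submodule.span_induction with
    | mem t ht =>
      obtain ⟨⟨f, y⟩, rfl⟩ := ht
      exact ⟨f (u y), fun x => hid f x y⟩
    | zero => exact ⟨0, fun x => by simp⟩
    | add t t' _ _ iht iht' =>
      obtain ⟨a, ha⟩ := iht
      obtain ⟨a', ha'⟩ := iht'
      exact ⟨a + a', fun x => by rw [add_smul, add_smul, ha, ha']⟩
    | smul b t _ iht =>
      obtain ⟨a, ha⟩ := iht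
      exact ⟨b * a, fun x => by rw [smul_eq_mul, mul_smul, mul_smul, ha]⟩
  obtain ⟨a, ha⟩ := hΦ 1 (hTr ▸ Submodule.mem_top)
  have ha' : ∀ x : P, u x = a • x := fun x => by simpa using ha x
  refine ⟨a, ⟨?_, ha'⟩, ?_⟩
  · intro b
    apply sub_eq_zero.mp
    apply hfaith
    intro x
    have h1 : u (b • x) = a • (b • x) := ha' (b • x)
    rw [map_smul, ha' x] at h1
    rw [sub_smul, mul_smul, mul_smul, ← h1, sub_self]
  · rintro a'' ⟨_, ha''⟩
    apply sub_eq_zero.mp
    apply hfaith
    intro x
    rw [sub_smul, ← ha'' x, ← ha' x, sub_self]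

end Helpers

/-- Let A be a ring with A/J a simple left-Artinian ring, J the Jacobson radical, and let P be a
non-zero finitely generated projective left A-module. An A-linear automorphism u of P which commutes
with every A-linear endomorphism of P (equivalently, induces the identity on End_A(P) by
conjugation) is scalar multiplication by a unique central element a of A: u(x) = a·x for all x ∈ P,
and a is determined by u. (So the automorphisms of P acting trivially on End_A(P) are exactly the
central units of A acting by scalars; the published assertion does not exclude P = 0, where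
uniqueness fails.) -/
theorem result (A : Type u) [Ring A] [IsSimpleRing (A ⧸ Ring.jacobson A)] [IsArtinianRing (A ⧸ Ring.jacobson A)] (P : Type v) [AddCommGroup P] [Module A P] [Module.Finite A P] [Module.Projective A P] [Nontrivial P] (u : P ≃ₗ[A] P) (hu : ∀ f : Module.End A P, (u : P →ₗ[A] P) ∘ₗ f = f ∘ₗ (u : P →ₗ[A] P)) : ∃! a : A, (∀ b : A, a * b = b * a) ∧ ∀ x : P, u x = a • x := by
  exact main_thm u hu

end Groth.Agent.S13848
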