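import Groth.Statements.S13860
import Mathlib.Tactic

set_option autoImplicit false
universe u v w
open ModRep

namespace Groth.Agent.S13860

/-- For k a field of characteristic p > 0, G a finite group and P a Sylow p-subgroup of G, a short exact
sequence of k[G]-modules has a k[G]-linear splitting exactly when it has a k[P]-linear one. Stated
here for the surjection of the sequence: a G-equivariant k-linear map g : B → C between k-linear
representations of G admits a G-equivariant k-linear section if and only if it admits a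
P-equivariant k-linear section. -/
theorem result {k : Type u} [Field k] (p : ℕ) [Fact p.Prime]
    [CharP k p] {G : Type v} [Group G] [Finite G] (P : Sylow p G)
    {B C : Type w} [AddCommGroup B] [Module k B] [AddCommGroup C] [Module k C]
    (ρB : Representation k G B) (ρC : Representation k G C)
    (g : B →ₗ[k] C) (hg : ∀ x : G, g ∘ₗ ρB x = ρC x ∘ₗ g) :
    (∃ s : C →ₗ[k] B, g ∘ₗ s = LinearMap.id ∧ ∀ x : G, s ∘ₗ ρC x = ρB x ∘ₗ s) ↔
      (∃ s : C →ₗ[k] B, g ∘ₗ s = LinearMap.id ∧ ∀ x : G, x ∈ P → s ∘ₗ ρC x = ρB x ∘ₗ s) := by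
  classical
  constructor
  · rintro ⟨s, hs, hsG⟩
    exact ⟨s, hs, fun x _ => hsG x⟩
  · rintro ⟨s, hs, hsP⟩
    haveI : Fintype (G ⧸ (P : Subgroup G)) := Fintype.ofFinite _
    have hgρ : ∀ (x : G) (b : B), g (ρB x b) = ρC x (g b) := fun x b =>
      LinearMap.congr_fun (hg x) b
    have hsg : ∀ c : C, g (s c) = c := fun c => LinearMap.congr_fun hs c
    have hsρ : ∀ (h : G), h ∈ (P : Subgroup G) → ∀ c : C, s (ρC h c) = ρB h (s c) :=
      fun h hh c => LinearMap.congr_fun (hsP h hh) c
    let F₀ : G → (C →ₗ[k] B) := fun x => ρB x ∘ₗ s ∘ₗ ρC x⁻¹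
    have hF₀app : ∀ x c, F₀ x c = ρB x (s (ρC x⁻¹ c)) := fun x c => rfl
    have hF₀ : ∀ x h, h ∈ (P : Subgroup G) → F₀ (x * h) = F₀ x := by
      intro x h hh
      ext c
      rw [hF₀app, hF₀app, mul_inv_rev, map_mul, map_mul, Module.End.mul_apply,
        Module.End.mul_apply, hsρ h⁻¹ (inv_mem hh), Representation.self_inv_apply]
    let F : G ⧸ (P : Subgroup G) → (C →ₗ[k] B) := Quotient.lift F₀ (by
      intro a b hab
      have hab' : a⁻¹ * b ∈ (P : Subgroup G) := QuotientGroup.leftRel_apply.mp hab
      have : b = a * (a⁻¹ * b) := by group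
      rw [this, hF₀ a _ hab'])
    have hFmk : ∀ x : G, F (QuotientGroup.mk x) = F₀ x := fun x => rfl
    have hFsmul : ∀ (y : G) (q : G ⧸ (P : Subgroup G)) (c : C),
        F (y • q) (ρC y c) = ρB y (F q c) := by
      intro y q c
      induction q using QuotientGroup.induction_on with
      | H x =>
        show F (QuotientGroup.mk (y * x)) (ρC y c) = ρB y (F (QuotientGroup.mk x) c)
        rw [hFmk, hFmk, hF₀app, hF₀app, mul_inv_rev, map_mul, map_mul, Module.End.mul_apply,
          Module.End.mul_apply, Representation.inv_self_apply]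
    have hgF : ∀ (q : G ⧸ (P : Subgroup G)) (c : C), g (F q c) = c := by
      intro q c
      induction q using QuotientGroup.induction_on with
      | H x =>
        rw [hFmk, hF₀app, hgρ, hsg, Representation.self_inv_apply]
    have hn : ((Fintype.card (G ⧸ (P : Subgroup G)) : ℕ) : k) ≠ 0 := by
      intro h0
      rw [CharP.cast_eq_zero_iff k p] at h0
      have h1 := P.not_dvd_index
      rw [Subgroup.index_eq_card, Nat.card_eq_fintype_card] at h1
      exact h1 h0
    refine ⟨((Fintype.card (G ⧸ (P : Subgroup G)) : ℕ) : k)⁻¹ • ∑ q, F q, ?_, ?_⟩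
    · ext c
      simp only [LinearMap.comp_apply, LinearMap.smul_apply, LinearMap.sum_apply, map_smul,
        map_sum, hgF, Finset.sum_const, Finset.card_univ, LinearMap.id_apply]
      rw [← Nat.cast_smul_eq_nsmul k, smul_smul, inv_mul_cancel₀ hn, one_smul]
    · intro y
      ext c
      simp only [LinearMap.comp_apply, LinearMap.smul_apply, LinearMap.sum_apply, map_smul,
        map_sum]
      congr 1
      rw [← Equiv.sum_comp (MulAction.toPerm y) (fun q => F q (ρC y c))]
      exact Finset.sum_congr rfl fun q _ => hFsmul y q c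

end Groth.Agent.S13860
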