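import Groth.Statements.S13867
import Groth.Agent.H63.QuotTower
import Groth.Agent.H63.SteinBC2
import Groth.Agent.H63.SteinPt
import Groth.Agent.H63.SteinDescent
import Groth.Agent.H63.QuotAdapt
import Groth.Agent.H8.ProperDescent

set_option autoImplicit false
universe u
open CategoryTheory MonoidalCategory CartesianMonoidalCategory MonObj GrpObj AlgebraicGeometry
open ParSch

namespace Groth.Agent.S13867

/-- Let k be an algebraically closed field, G a group scheme of finite type over k and H ⊆ H' closed
subgroup schemes of G. Let q : G → X and q' : G → X' be the quotients of G by H and by H' (fppf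
quotients represented by schemes), f : X → X' the morphism with q ≫ f = q', and r : H' → Y the
quotient of H' by H. Then f is a contraction (proper, and O_{X'}(U) → O_X(f⁻¹ U) is an isomorphism
for every open U of X') if and only if Y is proper over k and the global functions of Y reduce to k
(the map k → Γ(Y, O_Y) is an isomorphism). -/
theorem result
    (k : Type u) [Field k] [IsAlgClosed k]
    (G : Over (Spec (CommRingCat.of k))) [GrpObj G] [LocallyOfFiniteType G.hom] [QuasiCompact G.hom]
    (H H' : Over (Spec (CommRingCat.of k))) [GrpObj H] [GrpObj H']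
    (iH : H ⟶ G) [IsMonHom iH] (hH : IsClosedImmersion iH.left)
    (iH' : H' ⟶ G) [IsMonHom iH'] (hH' : IsClosedImmersion iH'.left)
    (e : H ⟶ H') [IsMonHom e] (he : e ≫ iH' = iH)
    (X X' Y : Over (Spec (CommRingCat.of k))) (q : G ⟶ X) (hq : RedSub.IsQuotient iH q) (q' : G ⟶ X') (hq' : RedSub.IsQuotient iH' q')
    (f : X ⟶ X') (hf : q ≫ f = q') (r : H' ⟶ Y) (hr : RedSub.IsQuotient e r) :
    (IsProper f.left ∧ ∀ U : X'.left.Opens, IsIso (f.left.app U)) ↔
      (IsProper Y.hom ∧ IsIso Y.hom.appTop) := by

  haveI : IsClosedImmersion iH'.left := hH'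
  haveI : LocallyOfFiniteType H'.hom := by
    rw [← Over.w iH']
    infer_instance
  haveI : Mono iH' := by
    haveI : Mono iH'.left := inferInstance
    exact Over.mono_of_mono_left iH'
  obtain ⟨a, o, ha, hX⟩ := Groth.Agent.H63.QuotAdapt.exists_action_of_isQuotient iH q hq
  obtain ⟨a', o', ha', hX'⟩ := Groth.Agent.H63.QuotAdapt.exists_action_of_isQuotient iH' q' hq'
  obtain ⟨b, y, hb, hY⟩ := Groth.Agent.H63.QuotAdapt.exists_action_of_isQuotient e r hr
  obtain ⟨m, hm⟩ := Groth.Agent.H63.QuotTower.exists_tower_square iH iH' e he a o hX a' o' hX'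
    b y hY f (by rw [ha, ha', hf])
  rw [ha'] at hm
  have SQ : IsPullback (fst G Y).left m.left q'.left f.left := hm.map (Over.forget _)
  have PQ : IsPullback (fst G Y).left (snd G Y).left G.hom Y.hom :=
    IsPullback.of_hasPullback G.hom Y.hom
  obtain ⟨hq's, hq'f, -, -⟩ := hq'
  haveI := hq's
  haveI := hq'f
  haveI : QuasiCompact q'.left := Groth.Agent.H63.SteinPt.quasiCompact_of_lft_qc G q'.left
  haveI : Nonempty G.left := ⟨η[G].left (IsLocalRing.closedPoint k)⟩
  haveI : Surjective G.hom := Groth.Agent.H63.SteinPt.surjective_of_nonempty G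
  haveI : Flat G.hom := inferInstance
  constructor
  · rintro ⟨hfp, hfs⟩
    haveI := hfp
    have h1 : IsProper (fst G Y).left :=
      MorphismProperty.of_isPullback (P := @IsProper) SQ.flip hfp
    have h2 : ∀ V, IsIso ((fst G Y).left.app V) :=
      Groth.Agent.H63.SteinBC2.isIso_app_of_isPullback_of_flat SQ.flip hfs
    have h3 : IsProper Y.hom :=
      MorphismProperty.of_isPullback_of_descendsAlong (P := @IsProper)
        (Q := (@Surjective ⊓ @Flat ⊓ @QuasiCompact : MorphismProperty Scheme.{u}))
        PQ ⟨⟨inferInstance, inferInstance⟩, inferInstance⟩ h1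
    haveI := h3
    exact ⟨h3, Groth.Agent.H63.SteinDescent.isIso_app_of_isPullback_of_flat_surjective PQ.flip h2 ⊤⟩
  · rintro ⟨hYp, hYs⟩
    haveI := hYp
    have h1 : IsProper (fst G Y).left :=
      MorphismProperty.of_isPullback (P := @IsProper) PQ.flip hYp
    have h2 : ∀ V, IsIso ((fst G Y).left.app V) :=
      Groth.Agent.H63.SteinBC2.isIso_app_of_isPullback_of_flat PQ.flip
        (Groth.Agent.H63.SteinPt.isIso_app_of_isIso_appTop Y.hom hYs)
    have h3 : IsProper f.left :=
      MorphismProperty.of_isPullback_of_descendsAlong (P := @IsProper)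
        (Q := (@Surjective ⊓ @Flat ⊓ @QuasiCompact : MorphismProperty Scheme.{u}))
        SQ ⟨⟨inferInstance, inferInstance⟩, inferInstance⟩ h1
    haveI := h3
    exact ⟨h3, Groth.Agent.H63.SteinDescent.isIso_app_of_isPullback_of_flat_surjective SQ.flip h2⟩

end Groth.Agent.S13867
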