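import Groth.Statements.S13875
import Mathlib
import Groth.Agent.H74.GammaSpan
-- import your own Groth.Agent.* helpers here

set_option autoImplicit false
universe u
open scoped TensorProduct
open ZeroCyc

namespace Groth.Agent.S13875

open PolLaw
open Groth.Agent.H74.GammaSpan (exists_lift_pair rTensor_smul_apply)

section Generic

variable {A : Type u} [CommRing A] {B M : Type u} [CommRing B] [Algebra A B] [AddCommGroup M] [Module A M]
  [Module B M] [IsScalarTower A B M]

theorem map_map {R R' R'' : Type u} [CommRing R] [Algebra A R] [CommRing R'] [Algebra A R'] [CommRing R'']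
    [Algebra A R''] (f : R →ₐ[A] R') (g : R' →ₐ[A] R'') (x : R ⊗[A] B) :
    Algebra.TensorProduct.map g (AlgHom.id A B) (Algebra.TensorProduct.map f (AlgHom.id A B) x) =
      Algebra.TensorProduct.map (g.comp f) (AlgHom.id A B) x := by
  induction x using TensorProduct.induction_on with
  | zero => simp
  | tmul r b => simp [Algebra.TensorProduct.map_tmul]
  | add x y hx hy => simp only [map_add, hx, hy]

theorem map_smul' {R R' : Type u} [CommRing R] [Algebra A R] [CommRing R'] [Algebra A R']
    (f : R →ₐ[A] R') (q : R) (x : R ⊗[A] B) :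
    Algebra.TensorProduct.map f (AlgHom.id A B) (q • x) =
      f q • Algebra.TensorProduct.map f (AlgHom.id A B) x := by
  rw [← PolLaw.rTensor_algHom_apply, ← PolLaw.rTensor_algHom_apply, rTensor_smul_apply]

theorem repr_rTensor {R R' : Type u} [CommRing R] [Algebra A R] [CommRing R'] [Algebra A R']
    {ι : Type} [Fintype ι] (ψ : R →ₐ[A] R') (bR : Module.Basis ι R (R ⊗[A] M))
    (bR' : Module.Basis ι R' (R' ⊗[A] M))
    (h : ∀ i, ψ.toLinearMap.rTensor M (bR i) = bR' i) (z : R ⊗[A] M) (i : ι) :
    bR'.repr (ψ.toLinearMap.rTensor M z) i = ψ (bR.repr z i) := by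
  have hz : ψ.toLinearMap.rTensor M z = ∑ j, ψ (bR.repr z j) • bR' j := by
    conv_lhs => rw [← bR.sum_repr z]
    rw [map_sum]
    refine Finset.sum_congr rfl fun j _ => ?_
    rw [rTensor_smul_apply, h]
  have := congrFun (bR'.repr_sum_self (fun j => ψ (bR.repr z j))) i
  rw [hz]
  exact this

theorem det_nat {R R' : Type u} [CommRing R] [Algebra A R] [CommRing R'] [Algebra A R']
    {ι : Type} [Fintype ι] [DecidableEq ι] (ψ : R →ₐ[A] R') (bR : Module.Basis ι R (R ⊗[A] M))
    (bR' : Module.Basis ι R' (R' ⊗[A] M))
    (h : ∀ i, ψ.toLinearMap.rTensor M (bR i) = bR' i) (x : R ⊗[A] B) :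
    LinearMap.det (actEnd M R' (Algebra.TensorProduct.map ψ (AlgHom.id A B) x)) =
      ψ (LinearMap.det (actEnd M R x)) := by
  rw [← LinearMap.det_toMatrix bR', ← LinearMap.det_toMatrix bR, AlgHom.map_det]
  congr 1
  ext i j
  simp only [AlgHom.mapMatrix_apply, Matrix.map_apply, LinearMap.toMatrix_apply]
  rw [← repr_rTensor ψ bR bR' h, rTensor_actEnd M ψ, h]

/-- the determinant of the action is integral. -/
theorem isIntegralElem_det {P F : Type u} [CommRing P] [Algebra A P] [Field F] [IsAlgClosed F]
    [Algebra A F] [Module.Finite A M] (θ : P →ₐ[A] F) (x : P ⊗[A] B) :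
    θ.toRingHom.IsIntegralElem
      (LinearMap.det (actEnd M F (Algebra.TensorProduct.map θ (AlgHom.id A B) x))) := by
  classical
  obtain ⟨p, hpm, hp⟩ := LinearMap.exists_monic_and_aeval_eq_zero P (actEnd M P x)
  have hp' : actEnd M P (Polynomial.aeval x p) = 0 := by
    rw [← Polynomial.aeval_algHom_apply]; exact hp
  let Ψ : P ⊗[A] B →+* Module.End F (F ⊗[A] M) :=
    ((actEnd M F : F ⊗[A] B →ₐ[F] Module.End F (F ⊗[A] M)) : F ⊗[A] B →+* _).comp
      ((Algebra.TensorProduct.map θ (AlgHom.id A B) : P ⊗[A] B →ₐ[A] F ⊗[A] B) :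
        P ⊗[A] B →+* F ⊗[A] B)
  let E : Module.End F (F ⊗[A] M) := actEnd M F (Algebra.TensorProduct.map θ (AlgHom.id A B) x)
  have hΨx : Ψ x = E := rfl
  have hΨ0 : Ψ (Polynomial.aeval x p) = 0 := by
    apply LinearMap.ext
    intro w
    induction w using TensorProduct.induction_on with
    | zero => simp
    | tmul f m =>
      have h2 := rTensor_actEnd M θ (Polynomial.aeval x p) ((1 : P) ⊗ₜ[A] m)
      rw [hp', LinearMap.zero_apply, map_zero, LinearMap.rTensor_tmul, AlgHom.toLinearMap_apply,
        map_one] at h2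
      have h3 : f ⊗ₜ[A] m = f • ((1 : F) ⊗ₜ[A] m) := by
        rw [TensorProduct.smul_tmul', smul_eq_mul, mul_one]
      rw [h3, map_smul, LinearMap.zero_apply]
      show f • (actEnd M F (Algebra.TensorProduct.map θ (AlgHom.id A B) (Polynomial.aeval x p)))
        ((1 : F) ⊗ₜ[A] m) = 0
      rw [← h2, smul_zero]
    | add w w' hw hw' => simp only [map_add, hw, hw']
  have hev : Polynomial.eval₂ (Ψ.comp (algebraMap P (P ⊗[A] B))) (Ψ x) p = 0 := by
    rw [← Polynomial.hom_eval₂, ← Polynomial.aeval_def]; exact hΨ0
  have hcomp : Ψ.comp (algebraMap P (P ⊗[A] B)) =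
      (algebraMap F (Module.End F (F ⊗[A] M))).comp θ.toRingHom := by
    refine RingHom.ext fun c => ?_
    have e1 : Algebra.TensorProduct.map θ (AlgHom.id A B) (algebraMap P (P ⊗[A] B) c) =
        algebraMap F (F ⊗[A] B) (θ c) := by
      rw [Algebra.TensorProduct.algebraMap_apply, Algebra.TensorProduct.algebraMap_apply,
        Algebra.TensorProduct.map_tmul, map_one]
      rfl
    show actEnd M F (Algebra.TensorProduct.map θ (AlgHom.id A B) (algebraMap P (P ⊗[A] B) c)) =
      algebraMap F _ (θ c)
    rw [e1, AlgHom.commutes]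
  have hev' : Polynomial.eval₂ ((algebraMap F (Module.End F (F ⊗[A] M))).comp θ.toRingHom) E p = 0 := by
    rw [← hcomp, ← hΨx]; exact hev
  have hroot : ∀ μ : F, Module.End.HasEigenvalue E μ → Polynomial.eval₂ θ.toRingHom μ p = 0 := by
    intro μ hμ
    obtain ⟨v, hv⟩ := hμ.exists_hasEigenvector
    have h1 := Module.End.aeval_apply_of_hasEigenvector (p := p.map θ.toRingHom) hv
    have h0 : Polynomial.aeval E (p.map θ.toRingHom) = 0 := by
      rw [Polynomial.aeval_def, Polynomial.eval₂_map]; exact hev'
    rw [h0, LinearMap.zero_apply, Polynomial.eval_map] at h1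
    exact (smul_eq_zero.mp h1.symm).resolve_right hv.2
  letI : Algebra P F := θ.toRingHom.toAlgebra
  have hdet : LinearMap.det E = (LinearMap.charpoly E).roots.prod :=
    Module.End.det_eq_prod_roots_charpoly_of_splits (IsAlgClosed.splits _)
  have hI : IsIntegral P (LinearMap.charpoly E).roots.prod := by
    apply IsIntegral.multiset_prod
    intro μ hμ
    have hr : (LinearMap.charpoly E).IsRoot μ :=
      ((Polynomial.mem_roots (LinearMap.charpoly_monic E).ne_zero).mp hμ)
    have he := (Module.End.hasEigenvalue_iff_isRoot_charpoly E μ).mpr hr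
    exact ⟨p, hpm, hroot μ he⟩
  show θ.toRingHom.IsIntegralElem (LinearMap.det E)
  rw [hdet]
  exact hI

end Generic

section KStruct

variable {A : Type u} [CommRing A] [IsDomain A] {B M : Type u} [CommRing B] [Algebra A B] [AddCommGroup M]
  [Module A M] [Module B M] [IsScalarTower A B M] [Module.Finite A M] {d : ℕ}

/-- the chosen basis of the generic fibre -/
noncomputable def bK (hd : Module.finrank (FractionRing A) (FractionRing A ⊗[A] M) = d) :
    Module.Basis (Fin d) (FractionRing A) (FractionRing A ⊗[A] M) :=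
  Module.finBasisOfFinrankEq _ _ hd

/-- base-changed basis of `R ⊗[A] M` for a `K`-algebra `R` -/
noncomputable def bas (hd : Module.finrank (FractionRing A) (FractionRing A ⊗[A] M) = d)
    (R : Type u) [CommRing R] [Algebra A R] [Algebra (FractionRing A) R]
    [IsScalarTower A (FractionRing A) R] : Module.Basis (Fin d) R (R ⊗[A] M) :=
  (Algebra.TensorProduct.basis R (bK hd)).map
    (TensorProduct.AlgebraTensorModule.cancelBaseChange A (FractionRing A) R R M)

theorem bas_apply (hd : Module.finrank (FractionRing A) (FractionRing A ⊗[A] M) = d)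
    (R : Type u) [CommRing R] [Algebra A R] [Algebra (FractionRing A) R]
    [IsScalarTower A (FractionRing A) R] (i : Fin d) :
    bas hd R i = TensorProduct.AlgebraTensorModule.cancelBaseChange A (FractionRing A) R R M
      ((1 : R) ⊗ₜ[FractionRing A] (bK hd i)) := by
  simp [bas]

theorem cancel_nat {R R' : Type u} [CommRing R] [Algebra A R] [Algebra (FractionRing A) R]
    [IsScalarTower A (FractionRing A) R] [CommRing R'] [Algebra A R'] [Algebra (FractionRing A) R']
    [IsScalarTower A (FractionRing A) R'] (ψ : R →ₐ[FractionRing A] R') (w : FractionRing A ⊗[A] M) :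
    (ψ.restrictScalars A).toLinearMap.rTensor M
      (TensorProduct.AlgebraTensorModule.cancelBaseChange A (FractionRing A) R R M
        ((1 : R) ⊗ₜ[FractionRing A] w)) =
    TensorProduct.AlgebraTensorModule.cancelBaseChange A (FractionRing A) R' R' M
      ((1 : R') ⊗ₜ[FractionRing A] w) := by
  induction w using TensorProduct.induction_on with
  | zero => simp
  | tmul k m =>
    rw [TensorProduct.AlgebraTensorModule.cancelBaseChange_tmul,
      TensorProduct.AlgebraTensorModule.cancelBaseChange_tmul, LinearMap.rTensor_tmul,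
      AlgHom.toLinearMap_apply, AlgHom.restrictScalars_apply, map_smul, map_one]
  | add w w' hw hw' => simp only [TensorProduct.tmul_add, map_add, hw, hw']

theorem bas_nat (hd : Module.finrank (FractionRing A) (FractionRing A ⊗[A] M) = d)
    {R R' : Type u} [CommRing R] [Algebra A R] [Algebra (FractionRing A) R]
    [IsScalarTower A (FractionRing A) R] [CommRing R'] [Algebra A R'] [Algebra (FractionRing A) R']
    [IsScalarTower A (FractionRing A) R'] (ψ : R →ₐ[FractionRing A] R') (i : Fin d) :
    (ψ.restrictScalars A).toLinearMap.rTensor M (bas hd R i) = bas hd R' i := by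
  rw [bas_apply, bas_apply, cancel_nat]

theorem det_natK (hd : Module.finrank (FractionRing A) (FractionRing A ⊗[A] M) = d)
    {R R' : Type u} [CommRing R] [Algebra A R] [Algebra (FractionRing A) R]
    [IsScalarTower A (FractionRing A) R] [CommRing R'] [Algebra A R'] [Algebra (FractionRing A) R']
    [IsScalarTower A (FractionRing A) R'] (ψ : R →ₐ[FractionRing A] R') (x : R ⊗[A] B) :
    LinearMap.det (actEnd M R' (Algebra.TensorProduct.map (ψ.restrictScalars A) (AlgHom.id A B) x)) =
      ψ (LinearMap.det (actEnd M R x)) :=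
  det_nat (ψ.restrictScalars A) (bas hd R) (bas hd R') (bas_nat hd ψ) x

theorem finrank_eq (hd : Module.finrank (FractionRing A) (FractionRing A ⊗[A] M) = d)
    (R : Type u) [CommRing R] [Nontrivial R] [Algebra A R] [Algebra (FractionRing A) R]
    [IsScalarTower A (FractionRing A) R] : Module.finrank R (R ⊗[A] M) = d := by
  rw [Module.finrank_eq_card_basis (bas hd R), Fintype.card_fin]

/-- `A[t] → K[t]` -/
noncomputable def mapA (A : Type u) [CommRing A] (n : ℕ) :
    MvPolynomial (Fin n) A →ₐ[A] MvPolynomial (Fin n) (FractionRing A) :=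
  MvPolynomial.mapAlgHom (Algebra.ofId A (FractionRing A))

theorem mapA_apply (n : ℕ) (p : MvPolynomial (Fin n) A) :
    mapA A n p = MvPolynomial.map (algebraMap A (FractionRing A)) p := rfl

theorem map_inj (n : ℕ) : Function.Injective
    (MvPolynomial.map (algebraMap A (FractionRing A)) :
      MvPolynomial (Fin n) A → MvPolynomial (Fin n) (FractionRing A)) :=
  MvPolynomial.map_injective _ (IsFractionRing.injective A (FractionRing A))

variable (M) in
/-- the determinant over `K[t]` -/
noncomputable def Dq (n : ℕ) (x : MvPolynomial (Fin n) A ⊗[A] B) :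
    MvPolynomial (Fin n) (FractionRing A) :=
  LinearMap.det (M := MvPolynomial (Fin n) (FractionRing A) ⊗[A] M)
    (actEnd M (MvPolynomial (Fin n) (FractionRing A))
      (Algebra.TensorProduct.map (mapA A n) (AlgHom.id A B) x))

theorem Dq_one (n : ℕ) : Dq M n (1 : MvPolynomial (Fin n) A ⊗[A] B) = 1 := by
  unfold Dq
  rw [map_one, map_one, map_one]

theorem Dq_mul (n : ℕ) (x y : MvPolynomial (Fin n) A ⊗[A] B) :
    Dq M n (x * y) = Dq M n x * Dq M n y := by
  unfold Dq
  rw [map_mul, map_mul, map_mul]

theorem Dq_smul (hd : Module.finrank (FractionRing A) (FractionRing A ⊗[A] M) = d) (n : ℕ)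
    (q : MvPolynomial (Fin n) A) (x : MvPolynomial (Fin n) A ⊗[A] B) :
    Dq M n (q • x) = (MvPolynomial.map (algebraMap A (FractionRing A)) q) ^ d * Dq M n x := by
  haveI := Module.Free.of_basis (bas (M := M) hd (MvPolynomial (Fin n) (FractionRing A)))
  unfold Dq
  rw [map_smul', map_smul, LinearMap.det_smul, finrank_eq hd]
  rfl

/-- extension of `φ` to `K[t]` -/
noncomputable def phiK {n m : ℕ} (φ : MvPolynomial (Fin n) A →ₐ[A] MvPolynomial (Fin m) A) :
    MvPolynomial (Fin n) (FractionRing A) →ₐ[FractionRing A] MvPolynomial (Fin m) (FractionRing A) :=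
  MvPolynomial.aeval (fun i => mapA A m (φ (MvPolynomial.X i)))

theorem phiK_comp {n m : ℕ} (φ : MvPolynomial (Fin n) A →ₐ[A] MvPolynomial (Fin m) A) :
    ((phiK φ).restrictScalars A).comp (mapA A n) = (mapA A m).comp φ := by
  apply MvPolynomial.algHom_ext
  intro i
  simp [phiK, mapA_apply]

theorem Dq_nat (hd : Module.finrank (FractionRing A) (FractionRing A ⊗[A] M) = d) {n m : ℕ}
    (φ : MvPolynomial (Fin n) A →ₐ[A] MvPolynomial (Fin m) A) (x : MvPolynomial (Fin n) A ⊗[A] B) :
    Dq M m (Algebra.TensorProduct.map φ (AlgHom.id A B) x) = phiK φ (Dq M n x) := by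
  unfold Dq
  rw [map_map, ← phiK_comp, ← map_map, det_natK hd]

theorem Dq_mem [IsIntegrallyClosed A]
    (hd : Module.finrank (FractionRing A) (FractionRing A ⊗[A] M) = d) (n : ℕ)
    (x : MvPolynomial (Fin n) A ⊗[A] B) :
    Dq M n x ∈ Set.range (MvPolynomial.map (algebraMap A (FractionRing A)) :
      MvPolynomial (Fin n) A → MvPolynomial (Fin n) (FractionRing A)) := by
  classical
  have hinj : Function.Injective (algebraMap (MvPolynomial (Fin n) (FractionRing A))
      (AlgebraicClosure (FractionRing (MvPolynomial (Fin n) (FractionRing A))))) := by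
    rw [IsScalarTower.algebraMap_eq (MvPolynomial (Fin n) (FractionRing A))
      (FractionRing (MvPolynomial (Fin n) (FractionRing A)))
      (AlgebraicClosure (FractionRing (MvPolynomial (Fin n) (FractionRing A))))]
    exact (algebraMap (FractionRing (MvPolynomial (Fin n) (FractionRing A)))
      (AlgebraicClosure (FractionRing (MvPolynomial (Fin n) (FractionRing A))))).injective.comp
      (IsFractionRing.injective _ _)
  let g : MvPolynomial (Fin n) (FractionRing A) →ₐ[FractionRing A]
      AlgebraicClosure (FractionRing (MvPolynomial (Fin n) (FractionRing A))) :=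
    IsScalarTower.toAlgHom (FractionRing A) _ _
  have hnat := det_natK (M := M) (B := B) hd g
    (Algebra.TensorProduct.map (mapA A n) (AlgHom.id A B) x)
  rw [map_map] at hnat
  have hint := isIntegralElem_det (M := M) ((g.restrictScalars A).comp (mapA A n)) x
  rw [hnat] at hint
  have hfeq : ((g.restrictScalars A).comp (mapA A n)).toRingHom =
      (algebraMap (MvPolynomial (Fin n) (FractionRing A))
        (AlgebraicClosure (FractionRing (MvPolynomial (Fin n) (FractionRing A))))).comp
        (MvPolynomial.map (algebraMap A (FractionRing A))) := RingHom.ext fun t => rfl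
  rw [hfeq] at hint
  have hint' : (MvPolynomial.map (algebraMap A (FractionRing A)) :
      MvPolynomial (Fin n) A →+* MvPolynomial (Fin n) (FractionRing A)).IsIntegralElem (Dq M n x) :=
    RingHom.IsIntegralElem.of_map hinj hint
  have h2 : @IsIntegral (MvPolynomial (Fin n) A) (MvPolynomial (Fin n) (FractionRing A)) _ _
      MvPolynomial.algebraMvPolynomial (Dq M n x) := hint'
  have h3 := (MvPolynomial.isIntegral_iff_isIntegral_coeff (R := A) (S := FractionRing A)
    (σ := Fin n) (f := Dq M n x)).mp h2
  rw [MvPolynomial.mem_range_map_iff_coeffs_subset]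
  intro c hc
  obtain ⟨ν, -, rfl⟩ := MvPolynomial.mem_coeffs_iff.mp hc
  exact IsIntegrallyClosed.isIntegral_iff.mp (h3 ν)

variable [IsIntegrallyClosed A]

/-- the polynomial value -/
noncomputable def Tp (hd : Module.finrank (FractionRing A) (FractionRing A ⊗[A] M) = d) (n : ℕ)
    (x : MvPolynomial (Fin n) A ⊗[A] B) : MvPolynomial (Fin n) A :=
  Classical.choose (Dq_mem (M := M) hd n x)

theorem Tp_spec (hd : Module.finrank (FractionRing A) (FractionRing A ⊗[A] M) = d) (n : ℕ)
    (x : MvPolynomial (Fin n) A ⊗[A] B) :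
    MvPolynomial.map (algebraMap A (FractionRing A)) (Tp hd n x) = Dq M n x :=
  Classical.choose_spec (Dq_mem (M := M) hd n x)

theorem Tp_one (hd : Module.finrank (FractionRing A) (FractionRing A ⊗[A] M) = d) (n : ℕ) :
    Tp (B := B) hd n 1 = 1 := by
  apply map_inj n
  rw [Tp_spec, Dq_one, map_one]

theorem Tp_mul (hd : Module.finrank (FractionRing A) (FractionRing A ⊗[A] M) = d) (n : ℕ)
    (x y : MvPolynomial (Fin n) A ⊗[A] B) : Tp hd n (x * y) = Tp hd n x * Tp hd n y := by
  apply map_inj n
  rw [Tp_spec, map_mul, Tp_spec, Tp_spec, Dq_mul]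

theorem Tp_smul (hd : Module.finrank (FractionRing A) (FractionRing A ⊗[A] M) = d) (n : ℕ)
    (q : MvPolynomial (Fin n) A) (x : MvPolynomial (Fin n) A ⊗[A] B) :
    Tp hd n (q • x) = q ^ d * Tp hd n x := by
  apply map_inj n
  rw [Tp_spec, map_mul, map_pow, Tp_spec, Dq_smul hd]

theorem Tp_nat (hd : Module.finrank (FractionRing A) (FractionRing A ⊗[A] M) = d) {n m : ℕ}
    (φ : MvPolynomial (Fin n) A →ₐ[A] MvPolynomial (Fin m) A) (x : MvPolynomial (Fin n) A ⊗[A] B) :
    φ (Tp hd n x) = Tp hd m (Algebra.TensorProduct.map φ (AlgHom.id A B) x) := by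
  apply map_inj m
  rw [Tp_spec, Dq_nat hd, ← Tp_spec hd n x]
  exact (DFunLike.congr_fun (phiK_comp φ) (Tp hd n x)).symm

/-- the polynomial members of the law -/
noncomputable def Tn (hd : Module.finrank (FractionRing A) (FractionRing A ⊗[A] M) = d) (n : ℕ)
    (x : MvPolynomial (Fin n) A ⊗[A] B) : MvPolynomial (Fin n) A ⊗[A] A :=
  Tp hd n x ⊗ₜ[A] (1 : A)

theorem Tn_compat (hd : Module.finrank (FractionRing A) (FractionRing A ⊗[A] M) = d) (n m : ℕ)
    (φ : MvPolynomial (Fin n) A →ₐ[A] MvPolynomial (Fin m) A) :
    φ.toLinearMap.rTensor A ∘ Tn (B := B) hd n = Tn hd m ∘ φ.toLinearMap.rTensor B := by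
  funext x
  simp only [Function.comp_apply, Tn]
  rw [LinearMap.rTensor_tmul, AlgHom.toLinearMap_apply, Tp_nat hd φ x, PolLaw.rTensor_algHom_apply]

end KStruct


/-- Affine form of the determinant law over a normal base. Let A be an integrally closed domain with
fraction field K, B a commutative A-algebra and M a B-module that is finitely generated as an
A-module (not necessarily flat over A), and let d be the generic rank of M, the dimension of the
K-vector space K ⊗_A M. Then there is exactly one multiplicative polynomial law N : B → A over A,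
homogeneous of degree d, such that for every n and every x ∈ A[t_1, …, t_n] ⊗_A B the value N(x) ∈
A[t_1, …, t_n], read in the fraction field L of A[t_1, …, t_n], is the determinant of x acting on
the finite-dimensional L-vector space L ⊗_A M. (Over a general test algebra the law is the unique
extension of these members; for M free of rank d over A it is the determinant law of M.) -/
theorem result {A B M : Type u} [CommRing A] [IsDomain A] [IsIntegrallyClosed A]
    [CommRing B] [Algebra A B] [AddCommGroup M] [Module A M] [Module B M] [IsScalarTower A B M] [Module.Finite A M]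
    (d : ℕ) (hd : Module.finrank (FractionRing A) (FractionRing A ⊗[A] M) = d) :
    ∃! N : PolLaw.MulLaw A B A d, ∀ (n : ℕ) (x : MvPolynomial (Fin n) A ⊗[A] B),
      algebraMap (MvPolynomial (Fin n) A) (FractionRing (MvPolynomial (Fin n) A))
          (TensorProduct.rid A (MvPolynomial (Fin n) A) (N.law.toFun' (MvPolynomial (Fin n) A) x)) =
        LinearMap.det (PolLaw.actEnd M (FractionRing (MvPolynomial (Fin n) A))
          (Algebra.TensorProduct.map
            (IsScalarTower.toAlgHom A (MvPolynomial (Fin n) A) (FractionRing (MvPolynomial (Fin n) A)))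
            (AlgHom.id A B) x)) := by
  classical
  obtain ⟨F₀, hF₀⟩ := (Groth.Agent.S13174.result (A := A) (M := B) (N := A)).2
    ⟨Tn (M := M) hd, Tn_compat hd⟩
  have hF : ∀ n, F₀.toFun' (MvPolynomial (Fin n) A) = Tn (M := M) hd n :=
    fun n => congr_fun (congrArg Subtype.val hF₀) n
  have hmult : IsMult F₀ := by
    intro S _ _
    have hpoly_mul : ∀ (n : ℕ) (p q : MvPolynomial (Fin n) A ⊗[A] B),
        F₀.toFun' (MvPolynomial (Fin n) A) (p * q) =
          F₀.toFun' (MvPolynomial (Fin n) A) p * F₀.toFun' (MvPolynomial (Fin n) A) q := by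
      intro n p q
      simp only [hF, Tn]
      rw [Tp_mul, Algebra.TensorProduct.tmul_mul_tmul, mul_one]
    have hpoly_one : F₀.toFun' (MvPolynomial (Fin 0) A) 1 = 1 := by
      simp only [hF, Tn]
      rw [Tp_one]
      rfl
    refine ⟨?_, fun x y => ?_⟩
    · let ψ : MvPolynomial (Fin 0) A →ₐ[A] S := MvPolynomial.aeval Fin.elim0
      have h1 : ψ.toLinearMap.rTensor B 1 = 1 := by rw [PolLaw.rTensor_algHom_apply, map_one]
      have h := congr_fun (F₀.isCompat' ψ) 1
      simp only [Function.comp_apply] at h
      rw [← h1, ← h, hpoly_one, PolLaw.rTensor_algHom_apply, map_one]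
    · obtain ⟨n, ψ, p, q, rfl, rfl⟩ := exists_lift_pair x y
      have hmul : ψ.toLinearMap.rTensor B p * ψ.toLinearMap.rTensor B q =
          ψ.toLinearMap.rTensor B (p * q) := by
        rw [PolLaw.rTensor_algHom_apply, PolLaw.rTensor_algHom_apply, PolLaw.rTensor_algHom_apply,
          map_mul]
      have h := fun z => congr_fun (F₀.isCompat' ψ) z
      simp only [Function.comp_apply] at h
      rw [hmul, ← h, ← h, ← h, hpoly_mul, PolLaw.rTensor_algHom_apply, map_mul,
        ← PolLaw.rTensor_algHom_apply, ← PolLaw.rTensor_algHom_apply]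
  have hhom : IsHomog F₀ d := by
    intro S _ _ s x
    obtain ⟨n, ψ, p, q, rfl, rfl⟩ := PolynomialLaw.exists_lift' (R := A) x s
    have hpoly : F₀.toFun' (MvPolynomial (Fin n) A) (q • p) =
        q ^ d • F₀.toFun' (MvPolynomial (Fin n) A) p := by
      simp only [hF, Tn]
      rw [Tp_smul, TensorProduct.smul_tmul', smul_eq_mul]
    have h := fun z => congr_fun (F₀.isCompat' ψ) z
    simp only [Function.comp_apply] at h
    rw [← rTensor_smul_apply, ← h, ← h, hpoly, rTensor_smul_apply, map_pow]
  have hprop : ∀ (n : ℕ) (x : MvPolynomial (Fin n) A ⊗[A] B),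
      algebraMap (MvPolynomial (Fin n) A) (FractionRing (MvPolynomial (Fin n) A))
          (TensorProduct.rid A (MvPolynomial (Fin n) A) (F₀.toFun' (MvPolynomial (Fin n) A) x)) =
        LinearMap.det (PolLaw.actEnd M (FractionRing (MvPolynomial (Fin n) A))
          (Algebra.TensorProduct.map
            (IsScalarTower.toAlgHom A (MvPolynomial (Fin n) A) (FractionRing (MvPolynomial (Fin n) A)))
            (AlgHom.id A B) x)) := by
    intro n x
    rw [hF]
    simp only [Tn]
    rw [TensorProduct.rid_tmul, one_smul]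
    letI : Algebra (FractionRing A) (FractionRing (MvPolynomial (Fin n) A)) :=
      FractionRing.liftAlgebra A (FractionRing (MvPolynomial (Fin n) A))
    haveI : IsScalarTower A (FractionRing A) (FractionRing (MvPolynomial (Fin n) A)) :=
      FractionRing.isScalarTower_liftAlgebra A (FractionRing (MvPolynomial (Fin n) A))
    let ι : MvPolynomial (Fin n) (FractionRing A) →ₐ[FractionRing A]
        FractionRing (MvPolynomial (Fin n) A) :=
      MvPolynomial.aeval (fun i => algebraMap (MvPolynomial (Fin n) A)
        (FractionRing (MvPolynomial (Fin n) A)) (MvPolynomial.X i))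
    have hι : (ι.restrictScalars A).comp (mapA A n) =
        IsScalarTower.toAlgHom A (MvPolynomial (Fin n) A) (FractionRing (MvPolynomial (Fin n) A)) := by
      apply MvPolynomial.algHom_ext
      intro i
      simp [ι, mapA_apply]
    have h1 := det_natK (M := M) (B := B) hd ι
      (Algebra.TensorProduct.map (mapA A n) (AlgHom.id A B) x)
    rw [map_map, hι] at h1
    rw [h1]
    change _ = ι (Dq M n x)
    rw [← Tp_spec hd n x]
    exact (DFunLike.congr_fun hι (Tp hd n x)).symm
  refine ⟨⟨F₀, hhom, hmult⟩, hprop, ?_⟩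
  intro N' hN'
  apply MulLaw.ext
  apply (Groth.Agent.S13174.result (A := A) (M := B) (N := A)).1
  refine Subtype.ext (funext fun n => funext fun x => ?_)
  show N'.law.toFun' (MvPolynomial (Fin n) A) x = F₀.toFun' (MvPolynomial (Fin n) A) x
  apply (TensorProduct.rid A (MvPolynomial (Fin n) A)).injective
  apply IsFractionRing.injective (MvPolynomial (Fin n) A) (FractionRing (MvPolynomial (Fin n) A))
  rw [hN' n x, hprop n x]

end Groth.Agent.S13875
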