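import Groth.Statements.S13882
import Mathlib

set_option autoImplicit false
universe u
open FinCov

namespace Groth.Agent.S13882

section Aux
open MvPolynomial W4c1hurwitzcpt

variable (K : Type u) [Field K] (d : ℕ)

/-- variables: structure constants and unit coordinates -/
abbrev V : Type := (Fin d × Fin d × Fin d) ⊕ Fin d

abbrev P : Type u := MvPolynomial (V d) K

noncomputable def cX (i j k : Fin d) : P K d := X (Sum.inl (i, j, k))
noncomputable def uX (i : Fin d) : P K d := X (Sum.inr i)

/-- the relations -/
def Rel : Set (P K d) :=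
  {r | (∃ i j k, r = cX K d i j k - cX K d j i k) ∨
    (∃ i j l m, r = (∑ k, cX K d i j k * cX K d k l m) - ∑ k, cX K d j l k * cX K d i k m) ∨
    (∃ j m, r = (∑ i, uX K d i * cX K d i j m) - (if j = m then 1 else 0))}

abbrev BB : Type u := P K d ⧸ Ideal.span (Rel K d)

variable {K d}

theorem mk_rel_comm (i j k : Fin d) :
    Ideal.Quotient.mk (Ideal.span (Rel K d)) (cX K d i j k) =
      Ideal.Quotient.mk (Ideal.span (Rel K d)) (cX K d j i k) := by
  rw [← sub_eq_zero, ← map_sub]
  exact Ideal.Quotient.eq_zero_iff_mem.mpr (Ideal.subset_span (Or.inl ⟨i, j, k, rfl⟩))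

theorem mk_rel_assoc (i j l m : Fin d) :
    Ideal.Quotient.mk (Ideal.span (Rel K d)) (∑ k, cX K d i j k * cX K d k l m) =
      Ideal.Quotient.mk (Ideal.span (Rel K d)) (∑ k, cX K d j l k * cX K d i k m) := by
  rw [← sub_eq_zero, ← map_sub]
  exact Ideal.Quotient.eq_zero_iff_mem.mpr
    (Ideal.subset_span (Or.inr (Or.inl ⟨i, j, l, m, rfl⟩)))

theorem mk_rel_unit (j m : Fin d) :
    Ideal.Quotient.mk (Ideal.span (Rel K d)) (∑ i, uX K d i * cX K d i j m) =
      Ideal.Quotient.mk (Ideal.span (Rel K d)) (if j = m then 1 else 0) := by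
  rw [← sub_eq_zero, ← map_sub]
  exact Ideal.Quotient.eq_zero_iff_mem.mpr
    (Ideal.subset_span (Or.inr (Or.inr ⟨j, m, rfl⟩)))

variable {A : Type u} [CommRing A] [Algebra K A]

/-- forward map -/
noncomputable def toBased (g : BB K d →ₐ[K] A) : BasedAlg d A where
  c i j k := g (Ideal.Quotient.mk _ (cX K d i j k))
  u i := g (Ideal.Quotient.mk _ (uX K d i))
  comm i j k := by rw [mk_rel_comm]
  assoc i j l m := by
    have h := congrArg g (mk_rel_assoc (K := K) i j l m)
    simpa only [map_sum, map_mul] using h
  unit j m := by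
    have h := congrArg g (mk_rel_unit (K := K) j m)
    simp only [map_sum, map_mul] at h
    rw [h]
    split_ifs <;> simp

/-- evaluation point of a based algebra -/
def pt (s : BasedAlg d A) : V d → A :=
  Sum.elim (fun ijk => s.c ijk.1 ijk.2.1 ijk.2.2) s.u

theorem aeval_cX (s : BasedAlg d A) (i j k : Fin d) : aeval (pt s) (cX K d i j k) = s.c i j k := by
  rw [cX, aeval_X]
  rfl

theorem aeval_uX (s : BasedAlg d A) (i : Fin d) : aeval (pt s) (uX K d i) = s.u i := by
  rw [uX, aeval_X]
  rfl

theorem aeval_rel (s : BasedAlg d A) : ∀ r ∈ Ideal.span (Rel K d), aeval (pt s) r = 0 := by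
  have h : Ideal.span (Rel K d) ≤ RingHom.ker (aeval (R := K) (pt s)).toRingHom := by
    rw [Ideal.span_le]
    rintro r (⟨i, j, k, rfl⟩ | ⟨i, j, l, m, rfl⟩ | ⟨j, m, rfl⟩)
    · show aeval (pt s) _ = 0
      rw [map_sub, aeval_cX, aeval_cX, s.comm, sub_self]
    · show aeval (pt s) _ = 0
      rw [map_sub, map_sum, map_sum]
      simp only [map_mul, aeval_cX]
      rw [s.assoc, sub_self]
    · show aeval (pt s) _ = 0
      rw [map_sub, map_sum]
      simp only [map_mul, aeval_cX, aeval_uX]
      rw [s.unit]
      split_ifs <;> simp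
  exact fun r hr => h hr

/-- backward map -/
noncomputable def ofBased (s : BasedAlg d A) : BB K d →ₐ[K] A :=
  Ideal.Quotient.liftₐ _ (aeval (pt s)) (aeval_rel s)

theorem ofBased_mk (s : BasedAlg d A) (p : P K d) :
    ofBased (K := K) s (Ideal.Quotient.mk _ p) = aeval (pt s) p := rfl

noncomputable def etaEquiv : (BB K d →ₐ[K] A) ≃ BasedAlg d A where
  toFun := toBased
  invFun := ofBased
  left_inv g := by
    apply Ideal.Quotient.algHom_ext
    apply MvPolynomial.algHom_ext
    intro v
    show ofBased (toBased g) (Ideal.Quotient.mk _ (X v)) = g (Ideal.Quotient.mk _ (X v))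
    rw [ofBased_mk, aeval_X]
    rcases v with ⟨i, j, k⟩ | i
    · rfl
    · rfl
  right_inv s := by
    ext
    · show ofBased (K := K) s (Ideal.Quotient.mk _ (cX K d _ _ _)) = _
      rw [ofBased_mk, aeval_cX]
    · show ofBased (K := K) s (Ideal.Quotient.mk _ (uX K d _)) = _
      rw [ofBased_mk, aeval_uX]

end Aux

/-- Over a field K of characteristic zero, the functor that sends a K-scheme S to the set of isomorphism
classes of pairs (A, τ) of an O_S-algebra A and an O_S-module isomorphism τ from A to the free
module of rank d, equivalently to the set of commutative unital algebra structures on the rank-d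
free module with its standard basis, is represented by an affine K-scheme of finite type. Stated on
affine K-schemes in one universe: there is a finitely generated commutative K-algebra B with
bijections between K-algebra maps B → A and based algebra structures of rank d over A, natural in
the commutative K-algebra A. -/
theorem result (K : Type u) [Field K] [CharZero K] (d : ℕ) :
    ∃ (B : Type u) (_ : CommRing B) (_ : Algebra K B) (_ : Algebra.FiniteType K B)
      (η : ∀ (A : Type u) [CommRing A] [Algebra K A], (B →ₐ[K] A) ≃ W4c1hurwitzcpt.BasedAlg d A),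
      ∀ (A A' : Type u) [CommRing A] [Algebra K A] [CommRing A'] [Algebra K A']
        (f : A →ₐ[K] A') (g : B →ₐ[K] A),
        η A' (f.comp g) = (η A g).map f.toRingHom := by
  refine ⟨BB K d, inferInstance, inferInstance, ?_, fun A _ _ => etaEquiv, ?_⟩
  · exact Algebra.FiniteType.of_surjective (Ideal.Quotient.mkₐ K (Ideal.span (Rel K d)))
      (Ideal.Quotient.mkₐ_surjective K _)
  · intro A A' _ _ _ _ f g
    rfl

end Groth.Agent.S13882
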