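import Groth.Statements.S13884
import Mathlib
import Groth.Agent.H64.RootD


set_option autoImplicit false
universe u
open Crimp

namespace Groth.Agent.S13884

/-- Over R = k⟦t⟧ with k an algebraically closed field of characteristic zero, let S' = k⟦x⟧ regarded as
an R-algebra through t ↦ x ^ 3, that is S' = R[x] / (x ^ 3 - t), the smooth totally ramified triple
cover of the formal disk. If M is an R-submodule of S' which is free of rank 3, then M has an
R-basis consisting of three power series whose x-adic valuations are pairwise distinct modulo 3.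
(Items (2) and (3) of the published proposition, on the base change of M to R[s] / (s ^ 3 - t), are
not restated.) -/
theorem result {k : Type u} [Field k] [IsAlgClosed k] [CharZero k]
    (M : Submodule (PowerSeries k) (W4c1hurwitzcpt.RootDisk 3 k))
    (bM : Module.Basis (Fin 3) (PowerSeries k) M) :
    ∃ g : Module.Basis (Fin 3) (PowerSeries k) M, ∀ i j : Fin 3, i ≠ j →
      ¬ Nat.ModEq 3 (PowerSeries.order (W4c1hurwitzcpt.RootDisk.val (((g i : M) : (W4c1hurwitzcpt.RootDisk 3 k)) : W4c1hurwitzcpt.RootDisk 3 k))).toNat
        (PowerSeries.order (W4c1hurwitzcpt.RootDisk.val (((g j : M) : (W4c1hurwitzcpt.RootDisk 3 k)) : W4c1hurwitzcpt.RootDisk 3 k))).toNat := by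
  classical
  obtain ⟨C, g, hg, hspan⟩ := Groth.Agent.H64.RootD.exists_gens 3 M
  have h3 : Module.finrank (PowerSeries k) M = 3 := by
    rw [Module.finrank_eq_card_basis bM, Fintype.card_fin]
  have hcard : 3 ≤ C.card := by
    have h1 : Module.finrank (PowerSeries k)
        (Submodule.span (PowerSeries k) (g '' (C : Set (Fin 3)))) = 3 := by
      rw [← hspan]; exact h3
    have h2 := finrank_span_finset_le_card (R := PowerSeries k) (C.image g)
    rw [Finset.coe_image] at h2
    have h4 := Finset.card_image_le (s := C) (f := g)
    unfold Set.finrank at h2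
    omega
  have hCuniv : C = Finset.univ := by
    apply Finset.eq_univ_of_card
    have := Finset.card_le_univ C
    rw [Fintype.card_fin] at this ⊢
    omega
  subst hCuniv
  have hgM : ∀ i : Fin 3, g i ∈ M := fun i => (hg i (Finset.mem_univ i)).1
  have hspan' : ⊤ ≤ Submodule.span (PowerSeries k)
      (Set.range (fun i : Fin 3 => (⟨g i, hgM i⟩ : M))) := by
    intro x _
    have hx : (x : W4c1hurwitzcpt.RootDisk 3 k) ∈
        Submodule.span (PowerSeries k) (g '' ((Finset.univ : Finset (Fin 3)) : Set (Fin 3))) := by
      rw [← hspan]; exact x.2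
    have hmap : Submodule.map M.subtype (Submodule.span (PowerSeries k)
        (Set.range (fun i : Fin 3 => (⟨g i, hgM i⟩ : M)))) =
        Submodule.span (PowerSeries k) (g '' ((Finset.univ : Finset (Fin 3)) : Set (Fin 3))) := by
      rw [Submodule.map_span, ← Set.range_comp, Finset.coe_univ, Set.image_univ]
      rfl
    rw [← hmap] at hx
    obtain ⟨y, hy, hyx⟩ := hx
    have : y = x := Subtype.ext hyx
    rwa [← this]
  refine ⟨basisOfTopLeSpanOfCardEqFinrank _ hspan' (by rw [h3, Fintype.card_fin]), ?_⟩
  intro i j hij hmod
  simp only [coe_basisOfTopLeSpanOfCardEqFinrank] at hmod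
  have hi := (hg i (Finset.mem_univ i)).2.2
  have hj := (hg j (Finset.mem_univ j)).2.2
  unfold Nat.ModEq at hmod
  rw [hi, hj] at hmod
  exact hij (Fin.ext hmod)

end Groth.Agent.S13884
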