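import Groth.Statements.S13885
import Mathlib
import Groth.Agent.H64.RootD


set_option autoImplicit false
universe u
open Crimp

namespace Groth.Agent.S13885

/-- Over R = k⟦t⟧ with k an algebraically closed field of characteristic zero, let S' = k⟦x⟧ × R, where
k⟦x⟧ is regarded as an R-algebra through t ↦ x ^ 2, that is S' = R[x] / (x ^ 2 - t) ⊕ R, the smooth
simply ramified triple cover of the formal disk, with R embedded diagonally. If M is an R-submodule
of S' containing 1 which is free of rank 3, then M is spanned by 1, (f₁, 0) and (f₂, 0) for some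
power series f₁, f₂ whose x-adic valuations are distinct modulo 2. (Items (2) and (3) of the
published proposition, on the base change of M to R[s] / (s ^ 2 - t), are not restated.) -/
theorem result {k : Type u} [Field k] [IsAlgClosed k] [CharZero k]
    (M : Submodule (PowerSeries k) (W4c1hurwitzcpt.RootDisk 2 k × PowerSeries k))
    (h1 : (1 : (W4c1hurwitzcpt.RootDisk 2 k × PowerSeries k)) ∈ M)
    (bM : Module.Basis (Fin 3) (PowerSeries k) M) :
    ∃ f₁ f₂ : W4c1hurwitzcpt.RootDisk 2 k,
      ¬ Nat.ModEq 2 (PowerSeries.order (W4c1hurwitzcpt.RootDisk.val (f₁ : W4c1hurwitzcpt.RootDisk 2 k))).toNat (PowerSeries.order (W4c1hurwitzcpt.RootDisk.val (f₂ : W4c1hurwitzcpt.RootDisk 2 k))).toNat ∧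
      M = Submodule.span (PowerSeries k) {(1 : (W4c1hurwitzcpt.RootDisk 2 k × PowerSeries k)), (f₁, 0), (f₂, 0)} := by
  classical
  obtain ⟨C, g, hg, hspan⟩ := Groth.Agent.H64.RootD.exists_gens 2
    (M.comap (LinearMap.inl (PowerSeries k) (W4c1hurwitzcpt.RootDisk 2 k) (PowerSeries k)))
  have hM : M = Submodule.span (PowerSeries k)
      (insert (1 : W4c1hurwitzcpt.RootDisk 2 k × PowerSeries k)
        ((fun z => ((z, 0) : W4c1hurwitzcpt.RootDisk 2 k × PowerSeries k)) ''
          (g '' (C : Set (Fin 2))))) := by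
    apply le_antisymm
    · intro x hx
      obtain ⟨z, s⟩ := x
      have h1' : s • (1 : W4c1hurwitzcpt.RootDisk 2 k × PowerSeries k) ∈ M := M.smul_mem s h1
      have hdiff : ((z, s) : W4c1hurwitzcpt.RootDisk 2 k × PowerSeries k) - s • 1 =
          (z - s • (1 : W4c1hurwitzcpt.RootDisk 2 k), 0) := by
        ext <;> simp
      have hz : z - s • (1 : W4c1hurwitzcpt.RootDisk 2 k) ∈
          M.comap (LinearMap.inl (PowerSeries k) (W4c1hurwitzcpt.RootDisk 2 k) (PowerSeries k)) := by
        show ((z - s • (1 : W4c1hurwitzcpt.RootDisk 2 k), 0) :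
          W4c1hurwitzcpt.RootDisk 2 k × PowerSeries k) ∈ M
        rw [← hdiff]; exact M.sub_mem hx h1'
      rw [hspan] at hz
      have h2 : ((z - s • (1 : W4c1hurwitzcpt.RootDisk 2 k), 0) :
          W4c1hurwitzcpt.RootDisk 2 k × PowerSeries k) ∈ Submodule.span (PowerSeries k)
          (insert (1 : W4c1hurwitzcpt.RootDisk 2 k × PowerSeries k)
            ((fun z => ((z, 0) : W4c1hurwitzcpt.RootDisk 2 k × PowerSeries k)) ''
              (g '' (C : Set (Fin 2))))) := by
        have := Submodule.mem_map_of_mem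
          (f := LinearMap.inl (PowerSeries k) (W4c1hurwitzcpt.RootDisk 2 k) (PowerSeries k)) hz
        rw [Submodule.map_span] at this
        exact Submodule.span_mono (Set.subset_insert _ _) this
      have h3 : s • (1 : W4c1hurwitzcpt.RootDisk 2 k × PowerSeries k) ∈
          Submodule.span (PowerSeries k)
          (insert (1 : W4c1hurwitzcpt.RootDisk 2 k × PowerSeries k)
            ((fun z => ((z, 0) : W4c1hurwitzcpt.RootDisk 2 k × PowerSeries k)) ''
              (g '' (C : Set (Fin 2))))) :=
        Submodule.smul_mem _ s (Submodule.subset_span (Set.mem_insert _ _))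
      have hsum : ((z, s) : W4c1hurwitzcpt.RootDisk 2 k × PowerSeries k) =
          (z - s • (1 : W4c1hurwitzcpt.RootDisk 2 k), 0) + s • 1 := by
        rw [← hdiff, sub_add_cancel]
      rw [hsum]
      exact Submodule.add_mem _ h2 h3
    · rw [Submodule.span_le]
      rintro x (rfl | ⟨_, ⟨c, hc, rfl⟩, rfl⟩)
      · exact h1
      · exact (hg c (Finset.mem_coe.mp hc)).1
  have h3 : Module.finrank (PowerSeries k) M = 3 := by
    rw [Module.finrank_eq_card_basis bM, Fintype.card_fin]
  have hcard : 2 ≤ C.card := by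
    have h1' : Module.finrank (PowerSeries k) (Submodule.span (PowerSeries k)
      (insert (1 : W4c1hurwitzcpt.RootDisk 2 k × PowerSeries k)
        ((fun z => ((z, 0) : W4c1hurwitzcpt.RootDisk 2 k × PowerSeries k)) ''
          (g '' (C : Set (Fin 2)))))) = 3 := by
      rw [← hM]; exact h3
    have h2 := finrank_span_finset_le_card (R := PowerSeries k)
      (insert (1 : W4c1hurwitzcpt.RootDisk 2 k × PowerSeries k)
        ((C.image g).image (fun z => ((z, 0) : W4c1hurwitzcpt.RootDisk 2 k × PowerSeries k))))
    rw [Finset.coe_insert, Finset.coe_image, Finset.coe_image] at h2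
    have h4 := Finset.card_image_le (s := C) (f := g)
    have h5 := Finset.card_image_le (s := C.image g)
      (f := (fun z => ((z, 0) : W4c1hurwitzcpt.RootDisk 2 k × PowerSeries k)))
    have h6 := Finset.card_insert_le (1 : W4c1hurwitzcpt.RootDisk 2 k × PowerSeries k)
        ((C.image g).image (fun z => ((z, 0) : W4c1hurwitzcpt.RootDisk 2 k × PowerSeries k)))
    unfold Set.finrank at h2
    omega
  have hCuniv : C = Finset.univ := by
    apply Finset.eq_univ_of_card
    have := Finset.card_le_univ C
    rw [Fintype.card_fin] at this ⊢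
    omega
  subst hCuniv
  refine ⟨g 0, g 1, ?_, ?_⟩
  · have h0 := (hg 0 (Finset.mem_univ _)).2.2
    have h1 := (hg 1 (Finset.mem_univ _)).2.2
    intro hmod
    unfold Nat.ModEq at hmod
    rw [h0, h1] at hmod
    simp at hmod
  · rw [hM]
    congr 1
    ext x
    constructor
    · rintro (rfl | ⟨_, ⟨c, -, rfl⟩, rfl⟩)
      · exact Or.inl rfl
      · fin_cases c
        · exact Or.inr (Or.inl rfl)
        · exact Or.inr (Or.inr rfl)
    · rintro (rfl | rfl | rfl)
      · exact Or.inl rfl
      · exact Or.inr ⟨_, ⟨0, by simp, rfl⟩, rfl⟩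
      · exact Or.inr ⟨_, ⟨1, by simp, rfl⟩, rfl⟩

end Groth.Agent.S13885
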