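import Groth.Statements.S13886
import Groth.Agent.S13879
import Mathlib.Tactic
import Mathlib.RingTheory.PowerSeries.Inverse

set_option autoImplicit false
universe u
open Crimp

namespace Groth.Agent.S13886


theorem third_index : ∀ i j : Fin 3, i ≠ j →
    ∃ l : Fin 3, l ≠ i ∧ l ≠ j ∧ ∀ x : Fin 3, x = i ∨ x = j ∨ x = l := by
  decide

/-- Over R = k⟦t⟧ with k an algebraically closed field of characteristic zero, let S' = R × R × R be the
unramified triple cover of the formal disk and let m ≤ n ≤ 2m be natural numbers. For every f in S'
not lying in R·1 + t S', the R-submodule S = R·1 + R·(t ^ m f) + t ^ n S' is closed under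
multiplication, hence an R-subalgebra (a crimp), and S' / S is isomorphic to R / (t ^ m) ⊕ R / (t ^
n) (so the crimp has μ-invariant n - m and branch divisor (t ^ (2(m+n)))). Together with the
structure result for submodules with this quotient, this identifies the k-points of the space of
crimps of splitting type (m, n), 2m ≥ n, with the submodules of this shape. (The published statement
moreover asserts that this stratum is an irreducible variety of dimension n - m; that part is not
restated.) -/
theorem result {k : Type u} [Field k] [IsAlgClosed k] [CharZero k]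
    (m n : ℕ) (hmn : m ≤ n) (hn : n ≤ 2 * m)
    (f : (Fin 3 → PowerSeries k)) (hf : f ∉ Submodule.span (PowerSeries k) {(1 : (Fin 3 → PowerSeries k))} ⊔ Ideal.span {(PowerSeries.X : PowerSeries k)} • (⊤ : Submodule (PowerSeries k) (Fin 3 → PowerSeries k)))
    (S : Submodule (PowerSeries k) (Fin 3 → PowerSeries k))
    (hS : S = Submodule.span (PowerSeries k) {(1 : (Fin 3 → PowerSeries k)), ((PowerSeries.X : PowerSeries k) ^ m) • f} ⊔
        Ideal.span {(PowerSeries.X : PowerSeries k) ^ n} • (⊤ : Submodule (PowerSeries k) (Fin 3 → PowerSeries k))) :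
    (∀ x ∈ S, ∀ y ∈ S, x * y ∈ S) ∧
    Nonempty (((Fin 3 → PowerSeries k) ⧸ S) ≃ₗ[PowerSeries k]
      ((PowerSeries k ⧸ Ideal.span {(PowerSeries.X : PowerSeries k) ^ m}) × (PowerSeries k ⧸ Ideal.span {(PowerSeries.X : PowerSeries k) ^ n}))) := by
  have hcc : ∃ i j : Fin 3,
      PowerSeries.constantCoeff (f i) ≠ PowerSeries.constantCoeff (f j) := by
    by_contra hno
    push Not at hno
    apply hf
    have hdvd : ∀ i : Fin 3, (PowerSeries.X : PowerSeries k) ∣
        f i - PowerSeries.C (PowerSeries.constantCoeff (f 0)) := by
      intro i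
      rw [PowerSeries.X_dvd_iff, map_sub, PowerSeries.constantCoeff_C, hno i 0, sub_self]
    choose g hg using hdvd
    have hfe : f = (PowerSeries.C (PowerSeries.constantCoeff (f 0))) •
        (1 : Fin 3 → PowerSeries k) + (PowerSeries.X : PowerSeries k) • g := by
      funext i
      simp only [Pi.add_apply, Pi.smul_apply, Pi.one_apply, smul_eq_mul, mul_one]
      rw [← hg i]
      ring
    rw [hfe]
    exact Submodule.add_mem _
      (Submodule.mem_sup_left (Submodule.smul_mem _ _ (Submodule.subset_span rfl)))
      (Submodule.mem_sup_right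
        (Submodule.smul_mem_smul (Ideal.subset_span rfl) Submodule.mem_top))
  obtain ⟨i, j, hij⟩ := hcc
  have hine : i ≠ j := fun h => hij (by rw [h])
  obtain ⟨l, hli, hlj, hcover⟩ := third_index i j hine
  have hunit : IsUnit (f i - f j) := by
    rw [PowerSeries.isUnit_iff_constantCoeff, map_sub]
    exact isUnit_iff_ne_zero.mpr (sub_ne_zero.mpr hij)
  obtain ⟨u, hwu⟩ := hunit.exists_right_inv
  constructor
  · apply (Groth.Agent.S13879.result m n f S hS).mpr
    rw [hS]
    apply Submodule.mem_sup_right
    have : ((PowerSeries.X : PowerSeries k) ^ (2 * m)) • (f * f) =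
        ((PowerSeries.X : PowerSeries k) ^ n) • (((PowerSeries.X : PowerSeries k) ^ (2 * m - n)) • (f * f)) := by
      rw [smul_smul, ← pow_add]
      congr 2
      omega
    rw [this]
    exact Submodule.smul_mem_smul (Ideal.subset_span rfl) Submodule.mem_top
  · obtain ⟨pb, hpb⟩ : ∃ pb : (Fin 3 → PowerSeries k) →ₗ[PowerSeries k] PowerSeries k,
        ∀ x, pb x = u * (x i - x j) :=
      ⟨{ toFun := fun x => u * (x i - x j)
         map_add' := by
           intro x y
           simp only [Pi.add_apply]
           ring
         map_smul' := by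
           intro r x
           simp only [Pi.smul_apply, smul_eq_mul, RingHom.id_apply]
           ring }, fun x => rfl⟩
    obtain ⟨pc, hpc⟩ : ∃ pc : (Fin 3 → PowerSeries k) →ₗ[PowerSeries k] PowerSeries k,
        ∀ x, pc x = x l - (x i - f i * pb x) - f l * pb x :=
      ⟨{ toFun := fun x => x l - (x i - f i * pb x) - f l * pb x
         map_add' := by
           intro x y
           simp only [Pi.add_apply, map_add]
           ring
         map_smul' := by
           intro r x
           simp only [Pi.smul_apply, smul_eq_mul, RingHom.id_apply, map_smul]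
           ring }, fun x => rfl⟩
    have hdec : ∀ x : Fin 3 → PowerSeries k,
        x = (x i - f i * pb x) • (1 : Fin 3 → PowerSeries k) + pb x • f +
          pc x • (Pi.single l 1 : Fin 3 → PowerSeries k) := by
      intro x
      funext x'
      simp only [Pi.add_apply, Pi.smul_apply, Pi.one_apply, smul_eq_mul, mul_one, Pi.single_apply]
      rcases hcover x' with h | h | h
      · rw [h, if_neg hli.symm, mul_zero, add_zero]
        ring
      · rw [h, if_neg hlj.symm, mul_zero, add_zero, hpb]
        linear_combination (x i - x j) * hwu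
      · rw [h, if_pos rfl, mul_one, hpc]
        ring
    -- values on special vectors
    have hpb_f : pb f = 1 := by rw [hpb, mul_comm]; exact hwu
    have hpc_f : pc f = 0 := by rw [hpc, hpb_f]; ring
    have hpb_one : pb 1 = 0 := by rw [hpb]; simp
    have hpc_one : pc 1 = 0 := by rw [hpc, hpb_one]; simp
    have hpb_e : pb (Pi.single l 1 : Fin 3 → PowerSeries k) = 0 := by
      rw [hpb, Pi.single_apply, Pi.single_apply, if_neg hli.symm, if_neg hlj.symm, sub_self, mul_zero]
    have hpc_e : pc (Pi.single l 1 : Fin 3 → PowerSeries k) = 1 := by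
      rw [hpc, hpb_e, Pi.single_apply, Pi.single_apply, if_pos rfl, if_neg hli.symm]
      ring
    obtain ⟨Φ, hΦ⟩ : ∃ Φ : (Fin 3 → PowerSeries k) →ₗ[PowerSeries k]
        ((PowerSeries k ⧸ Ideal.span {(PowerSeries.X : PowerSeries k) ^ m}) ×
          (PowerSeries k ⧸ Ideal.span {(PowerSeries.X : PowerSeries k) ^ n})),
        ∀ x, Φ x = (Submodule.Quotient.mk (pb x), Submodule.Quotient.mk (pc x)) :=
      ⟨LinearMap.prod ((Submodule.mkQ _).comp pb) ((Submodule.mkQ _).comp pc), fun x => rfl⟩
    have hmemker : ∀ x, x ∈ LinearMap.ker Φ ↔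
        pb x ∈ Ideal.span {(PowerSeries.X : PowerSeries k) ^ m} ∧
        pc x ∈ Ideal.span {(PowerSeries.X : PowerSeries k) ^ n} := by
      intro x
      rw [LinearMap.mem_ker, hΦ, Prod.mk_eq_zero, Submodule.Quotient.mk_eq_zero,
        Submodule.Quotient.mk_eq_zero]
    have hmn : Ideal.span {(PowerSeries.X : PowerSeries k) ^ n} ≤
        Ideal.span {(PowerSeries.X : PowerSeries k) ^ m} := by
      rw [Ideal.span_singleton_le_span_singleton]
      exact pow_dvd_pow _ hmn
    have hker : S = LinearMap.ker Φ := by
      apply le_antisymm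
      · rw [hS]
        apply sup_le
        · rw [Submodule.span_le]
          intro y hy
          rcases hy with rfl | rfl
          · exact (hmemker _).mpr ⟨by rw [hpb_one]; exact Submodule.zero_mem _,
              by rw [hpc_one]; exact Submodule.zero_mem _⟩
          · refine (hmemker _).mpr ⟨?_, ?_⟩
            · rw [map_smul, hpb_f, smul_eq_mul, mul_one]
              exact Ideal.subset_span rfl
            · rw [map_smul, hpc_f, smul_zero]
              exact Submodule.zero_mem _
        · rw [Submodule.smul_le]
          intro r hr y _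
          refine (hmemker _).mpr ⟨?_, ?_⟩
          · rw [map_smul, smul_eq_mul]
            exact hmn (Ideal.mul_mem_right _ _ hr)
          · rw [map_smul, smul_eq_mul]
            exact Ideal.mul_mem_right _ _ hr
      · intro x hx
        obtain ⟨hb, hc⟩ := (hmemker x).mp hx
        obtain ⟨b', hb'⟩ := Ideal.mem_span_singleton'.mp hb
        obtain ⟨c', hc'⟩ := Ideal.mem_span_singleton'.mp hc
        rw [hdec x, hS, ← hb', ← hc']
        refine Submodule.add_mem _ (Submodule.add_mem _ ?_ ?_) ?_
        · exact Submodule.mem_sup_left (Submodule.smul_mem _ _ (Submodule.subset_span (by simp)))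
        · apply Submodule.mem_sup_left
          rw [mul_smul]
          exact Submodule.smul_mem _ _ (Submodule.subset_span (by simp))
        · apply Submodule.mem_sup_right
          rw [mul_comm, mul_smul]
          exact Submodule.smul_mem_smul (Ideal.subset_span rfl) Submodule.mem_top
    have hsurj : Function.Surjective Φ := by
      rintro ⟨β', γ'⟩
      obtain ⟨β, rfl⟩ := Submodule.Quotient.mk_surjective _ β'
      obtain ⟨γ, rfl⟩ := Submodule.Quotient.mk_surjective _ γ'
      refine ⟨β • f + γ • (Pi.single l 1 : Fin 3 → PowerSeries k), ?_⟩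
      rw [hΦ, map_add, map_add, map_smul, map_smul, map_smul, map_smul, hpb_f, hpc_f, hpb_e, hpc_e]
      simp
    exact ⟨(Submodule.quotEquivOfEq _ _ hker).trans (Φ.quotKerEquivOfSurjective hsurj)⟩

end Groth.Agent.S13886
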