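import Groth.Statements.S13888
-- import your own Groth.Agent.* helpers here

set_option autoImplicit false
universe u
open CategoryTheory CategoryTheory.Limits MonoidalCategory
attribute [local instance] HasDerivedCategory.standard
open DTen

namespace Groth.Agent.S13888

section
variable {A : Type u} [CommRing A] [DTen.HasLTen A] [DTen.HasLTen₃ A] [DTen.IsSymMonoidal A]

lemma associator_nat {T T₀ : Dual.D A} (g : T ⟶ T₀) (K L : Dual.D A) :
    (LTen₂ A).map (Prod.mkHom ((LTen₂ A).map (Prod.mkHom g (𝟙 K))) (𝟙 L)) ≫ (associator T₀ K L).hom =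
      (associator T K L).hom ≫ (LTen₂ A).map (Prod.mkHom g (𝟙 ((LTen₂ A).obj (K, L)))) := by
  rw [← cancel_mono ((assocR A).app (T₀, (K, L)))]
  rw [Category.assoc, Category.assoc, associator_hom_assocR]
  have h1 := (assocL A).naturality (X := (T, (K, L))) (Y := (T₀, (K, L)))
    (Prod.mkHom g (Prod.mkHom (𝟙 K) (𝟙 L)))
  have h2 := (assocR A).naturality (X := (T, (K, L))) (Y := (T₀, (K, L)))
    (Prod.mkHom g (Prod.mkHom (𝟙 K) (𝟙 L)))
  have h3 : (LTenR A).map (X := (T, (K, L))) (Y := (T₀, (K, L)))
      (Prod.mkHom g (Prod.mkHom (𝟙 K) (𝟙 L))) =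
      (LTen₂ A).map (Prod.mkHom g (𝟙 ((LTen₂ A).obj (K, L)))) := by
    dsimp [LTenR]
    congr 2
    exact (LTen₂ A).map_id (K, L)
  have h4 : (LTenL A).map (X := (T, (K, L))) (Y := (T₀, (K, L)))
      (Prod.mkHom g (Prod.mkHom (𝟙 K) (𝟙 L))) =
      (LTen₂ A).map (Prod.mkHom ((LTen₂ A).map (Prod.mkHom g (𝟙 K))) (𝟙 L)) := rfl
  rw [← h3, h2, associator_hom_assocR_assoc]
  exact h1

lemma comp_curryHom [DTen.HasRHom A] (K L M T : Dual.D A)
    (g : T ⟶ (RHomR A ((LTen₂ A).obj (K, L))).obj M) :
    g ≫ curryHom K L M =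
      (rhomAdj A K).homEquiv T ((RHomR A L).obj M)
        ((rhomAdj A L).homEquiv ((LTen₂ A).obj (T, K)) M
          ((associator T K L).hom ≫
            ((rhomAdj A ((LTen₂ A).obj (K, L))).homEquiv T M).symm g)) := by
  apply ((rhomAdj A K).homEquiv T ((RHomR A L).obj M)).symm.injective
  rw [Equiv.symm_apply_apply]
  apply ((rhomAdj A L).homEquiv ((LTen₂ A).obj (T, K)) M).symm.injective
  rw [Equiv.symm_apply_apply]
  rw [Adjunction.homEquiv_naturality_left_symm]
  rw [Adjunction.homEquiv_naturality_left_symm]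
  have h1 : ((rhomAdj A K).homEquiv _ ((RHomR A L).obj M)).symm (curryHom K L M) =
      rhomHomEquiv _ _ _ (curryHomAux K L M) := by
    unfold curryHom
    exact Equiv.symm_apply_apply _ _
  rw [h1]
  have h2 : ((rhomAdj A L).homEquiv
        ((tensorRightD A K).obj ((RHomR A ((LTen₂ A).obj (K, L))).obj M)) M).symm
      (rhomHomEquiv _ _ _ (curryHomAux K L M)) =
      curryHomAux K L M := Equiv.symm_apply_apply _ _
  erw [h2]
  rw [Adjunction.homEquiv_counit]
  unfold curryHomAux
  have h3 := associator_nat g K L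
  rw [← Category.assoc]
  rw [← Category.assoc]
  exact congrArg (· ≫ ev ((LTen₂ A).obj (K, L)) M) h3

theorem main [DTen.HasRHom A] (K L M : Dual.D A) : IsIso (DTen.curryHom K L M) := by
  apply isIso_of_yoneda_map_bijective
  intro T
  let e : (T ⟶ (RHomR A ((LTen₂ A).obj (K, L))).obj M) ≃
      (T ⟶ (RHomR A K).obj ((RHomR A L).obj M)) :=
    ((rhomAdj A ((LTen₂ A).obj (K, L))).homEquiv T M).symm.trans
      ((associator T K L).symm.homFromEquiv.trans
        (((rhomAdj A L).homEquiv ((LTen₂ A).obj (T, K)) M).trans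
          ((rhomAdj A K).homEquiv T ((RHomR A L).obj M))))
  have he : (fun x : T ⟶ (RHomR A ((LTen₂ A).obj (K, L))).obj M => x ≫ curryHom K L M) = e := by
    funext g
    rw [comp_curryHom]
    rfl
  rw [he]
  exact e.bijective

end


/-- For a commutative ring `A` (assuming the derived tensor product on `D(A)` with its triple version
exists, that its symmetry, unit and associativity maps are isomorphisms, and that every `- ⊗^L L`
has a right adjoint `RHom(L, -)`) and objects `K`, `L`, `M` of `D(A)`, the canonical morphism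
`RHom(K ⊗^L L, M) ⟶ RHom(K, RHom(L, M))`, namely the double adjunct of the associativity isomorphism
followed by evaluation at `K ⊗^L L`, is an isomorphism. (Functoriality in the three objects is built
into the construction; the identification on `H^0` with the hom bijection of the adjunction is not
part of this row.) -/
theorem result (A : Type u) [CommRing A] [DTen.HasLTen A] [DTen.HasLTen₃ A]
    [DTen.IsSymMonoidal A] [DTen.HasRHom A] (K L M : Dual.D A) :
    IsIso (DTen.curryHom K L M) := by
  exact main K L M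

end Groth.Agent.S13888
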