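import Groth.Statements.S13889
import Groth.Agent.H33.DTenClosed

set_option autoImplicit false
universe u
open CategoryTheory CategoryTheory.Limits MonoidalCategory
attribute [local instance] HasDerivedCategory.standard
open DTen

namespace Groth.Agent.S13889

section
open Groth.Agent.H35.TriChase Groth.Agent.H35.DTenExact Groth.Agent.H35.DTenUnit
open Groth.Agent.H33.RHomModel Groth.Agent.H33.RHomExact Groth.Agent.H33.RelChase
open Groth.Agent.H33.DTenClosed
open Pretriangulated Opposite DerivedCategory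

variable {A : Type u} [CommRing A] [DTen.HasLTen A] [DTen.HasLTen₃ A] [DTen.IsSymMonoidal A]
  [DTen.HasRHom A]

/-- `K ↦ RHom(L, M) ⊗^L K`. -/
noncomputable abbrev Fh (L M : Dual.D A) : Dual.D A ⥤ Dual.D A :=
  (LTen A).obj ((RHomR A L).obj M)

/-- `K ↦ RHom(RHom(K, L), M)`. -/
noncomputable abbrev Gh (L M : Dual.D A) : Dual.D A ⥤ Dual.D A :=
  ((RHom A).flip.obj L).rightOp ⋙ (RHom A).flip.obj M

lemma evalHom_symm (K L M : Dual.D A) :
    ((rhomAdj A ((RHomR A K).obj L)).homEquiv _ _).symm (evalHom K L M) = evalHomAux K L M :=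
  Equiv.symm_apply_apply _ _

lemma stuff_eq (L : Dual.D A) {K K' : Dual.D A} (g : K ⟶ K') :
    (LTen₂ A).map (Prod.mkHom g (𝟙 ((RHomR A K').obj L))) ≫
        (symm A).app ((RHomR A K').obj L, K') ≫ ev K' L =
      (LTen₂ A).map (Prod.mkHom (𝟙 K) (RHomMap g L)) ≫
        (symm A).app ((RHomR A K).obj L, K) ≫ ev K L := by
  have s1 : (LTen₂ A).map (Prod.mkHom g (𝟙 ((RHomR A K').obj L))) ≫
      (symm A).app ((RHomR A K').obj L, K') =
      (symm A).app ((RHomR A K').obj L, K) ≫
        (LTen₂ A).map (Prod.mkHom (𝟙 ((RHomR A K').obj L)) g) :=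
    (symm A).naturality (X := ((RHomR A K').obj L, K)) (Y := ((RHomR A K').obj L, K'))
      (Prod.mkHom (𝟙 ((RHomR A K').obj L)) g)
  have s2 : (LTen₂ A).map (Prod.mkHom (𝟙 K) (RHomMap g L)) ≫
      (symm A).app ((RHomR A K).obj L, K) =
      (symm A).app ((RHomR A K').obj L, K) ≫
        (LTen₂ A).map (Prod.mkHom (RHomMap g L) (𝟙 K)) :=
    (symm A).naturality (X := ((RHomR A K').obj L, K)) (Y := ((RHomR A K).obj L, K))
      (Prod.mkHom (RHomMap g L) (𝟙 K))
  rw [← Category.assoc, s1, Category.assoc, ← RHom_map_ev, ← Category.assoc, ← s2, Category.assoc]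

lemma evalHom_natural (L M : Dual.D A) {K K' : Dual.D A} (g : K ⟶ K') :
    (LTen₂ A).map (Prod.mkHom (𝟙 ((RHomR A L).obj M)) g) ≫ evalHom K' L M =
      evalHom K L M ≫ RHomMap (RHomMap g L) M := by
  apply ((rhomAdj A ((RHomR A K').obj L)).homEquiv _ _).symm.injective
  rw [homEquiv_symm_comp_RHomMap, Adjunction.homEquiv_naturality_left_symm]
  refine (congrArg (fun t => (tensorRightD A ((RHomR A K').obj L)).map
    ((LTen₂ A).map (Prod.mkHom (𝟙 ((RHomR A L).obj M)) g)) ≫ t) (evalHom_symm K' L M)).trans ?_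
  refine Eq.trans ?_ (congrArg (fun t => (LTen₂ A).map
    (Prod.mkHom (𝟙 ((LTen₂ A).obj ((RHomR A L).obj M, K))) (RHomMap g L)) ≫ t)
    (evalHom_symm K L M)).symm
  unfold evalHomAux
  have a1 := associator_naturality (𝟙 ((RHomR A L).obj M)) g (𝟙 ((RHomR A K').obj L))
  have a2 := associator_naturality (𝟙 ((RHomR A L).obj M)) (𝟙 K) (RHomMap g L)
  have h0 : (LTen₂ A).map (Prod.mkHom (𝟙 ((RHomR A L).obj M)) (𝟙 K)) = 𝟙 _ :=
    (LTen₂ A).map_id ((RHomR A L).obj M, K)
  rw [h0] at a2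
  have L1 : (LTen₂ A).map (Prod.mkHom ((LTen₂ A).map (Prod.mkHom (𝟙 ((RHomR A L).obj M)) g)) (𝟙 ((RHomR A K').obj L))) ≫
      (associator ((RHomR A L).obj M) K' ((RHomR A K').obj L)).hom ≫
        (LTen₂ A).map (Prod.mkHom (𝟙 ((RHomR A L).obj M)) ((symm A).app (((RHomR A K').obj L), K') ≫ ev K' L)) ≫ ev L M =
      (associator ((RHomR A L).obj M) K ((RHomR A K').obj L)).hom ≫
        (LTen₂ A).map (Prod.mkHom (𝟙 ((RHomR A L).obj M)) ((LTen₂ A).map (Prod.mkHom g (𝟙 ((RHomR A K').obj L))) ≫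
          (symm A).app (((RHomR A K').obj L), K') ≫ ev K' L)) ≫ ev L M := by
    rw [← Category.assoc, a1, Category.assoc,
      ← Category.assoc ((LTen₂ A).map _) ((LTen₂ A).map _) (ev L M), map_comp_mkHom,
      Category.id_comp]
  have R1 : (LTen₂ A).map (Prod.mkHom (𝟙 ((LTen₂ A).obj (((RHomR A L).obj M), K))) (RHomMap g L)) ≫
      (associator ((RHomR A L).obj M) K ((RHomR A K).obj L)).hom ≫
        (LTen₂ A).map (Prod.mkHom (𝟙 ((RHomR A L).obj M)) ((symm A).app (((RHomR A K).obj L), K) ≫ ev K L)) ≫ ev L M =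
      (associator ((RHomR A L).obj M) K ((RHomR A K').obj L)).hom ≫
        (LTen₂ A).map (Prod.mkHom (𝟙 ((RHomR A L).obj M)) ((LTen₂ A).map (Prod.mkHom (𝟙 K) (RHomMap g L)) ≫
          (symm A).app (((RHomR A K).obj L), K) ≫ ev K L)) ≫ ev L M := by
    rw [← Category.assoc, a2, Category.assoc,
      ← Category.assoc ((LTen₂ A).map _) ((LTen₂ A).map _) (ev L M), map_comp_mkHom,
      Category.id_comp]
  exact L1.trans ((congrArg (fun t => (associator ((RHomR A L).obj M) K ((RHomR A K').obj L)).hom ≫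
    (LTen₂ A).map (Prod.mkHom (𝟙 ((RHomR A L).obj M)) t) ≫ ev L M) (stuff_eq L g)).trans R1.symm)

/-- `evalHom - L M` as a natural transformation. -/
noncomputable def evalHomNat (L M : Dual.D A) : Fh L M ⟶ Gh L M where
  app K := evalHom K L M
  naturality K K' g := evalHom_natural L M g

lemma hFh (L M : Dual.D A) : WeakExactOn BP (Fh L M) :=
  WeakExactOn.of_weakExact _ (weakExact_tensorLeftD _)

lemma hGh (L M : Dual.D A) : WeakExactOn BP (Gh L M) where
  zero {a b c} p q h ha hc := by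
    show RHomMap (RHomMap p L) M ≫ RHomMap (RHomMap q L) M = 0
    obtain ⟨r, hr⟩ := DT_RHomMap p q h ha hc L
    have h0 : RHomMap q L ≫ RHomMap p L = 0 := comp_distTriang_mor_zero₁₂ _ hr
    rw [← RHomMap_comp, h0, RHomMap_zero]
  exact {a b c} p q h ha hc S u₀ hu := by
    obtain ⟨u, rfl⟩ : ∃ u : S ⟶ (RHomR A ((RHomR A b).obj L)).obj M, u = u₀ := ⟨u₀, rfl⟩
    have hu' : u ≫ RHomMap (RHomMap q L) M = 0 := hu
    have h1 : (LTen₂ A).map (Prod.mkHom (𝟙 S) (RHomMap q L)) ≫
        ((rhomAdj A ((RHomR A b).obj L)).homEquiv S M).symm u = 0 := by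
      rw [← homEquiv_symm_comp_RHomMap, hu', Adjunction.homEquiv_counit, Functor.map_zero,
        zero_comp]
    obtain ⟨r, hr⟩ := DT_tensorLeftD S _ _ (DT_RHomMap p q h ha hc L)
    obtain ⟨v, hv⟩ : ∃ v : (LTen₂ A).obj (S, (RHomR A a).obj L) ⟶ M,
        ((rhomAdj A ((RHomR A b).obj L)).homEquiv S M).symm u =
          (LTen₂ A).map (Prod.mkHom (𝟙 S) (RHomMap p L)) ≫ v :=
      Triangle.yoneda_exact₂ _ hr _ h1
    refine ⟨(rhomAdj A ((RHomR A a).obj L)).homEquiv S M v, ?_⟩
    show (rhomAdj A ((RHomR A a).obj L)).homEquiv S M v ≫ RHomMap (RHomMap p L) M = u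
    apply ((rhomAdj A ((RHomR A b).obj L)).homEquiv S M).symm.injective
    rw [homEquiv_symm_comp_RHomMap, Equiv.symm_apply_apply]
    exact hv.symm

lemma hF0 (L M : Dual.D A) (x : Dual.D A) (hx : IsZero x) : IsZero ((Fh L M).obj x) :=
  isZero_LTen_right _ hx

lemma hG0 (L M : Dual.D A) (x : Dual.D A) (hx : IsZero x) : IsZero ((Gh L M).obj x) :=
  isZero_RHomR (isZero_RHomR hx L) M

/-- If `- ⊗^L U` is an equivalence then `evalHom U L M` is an isomorphism. -/
lemma isIso_evalHom_of_isEquivalence (U L M : Dual.D A) [(tensorRightD A U).IsEquivalence] :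
    IsIso (evalHom U L M) := by
  have : (RHomR A U).IsEquivalence := (rhomAdj A U).isEquivalence_right_of_isEquivalence_left
  have hev : IsIso (ev U L) := inferInstanceAs (IsIso ((rhomAdj A U).counit.app L))
  let R := (RHomR A U).obj L
  let X := (RHomR A L).obj M
  let θ : (LTen₂ A).obj (U, R) ≅ L := braiding R U ≪≫ asIso (ev U L)
  have hθ : θ.hom = (symm A).app (R, U) ≫ ev U L := rfl
  apply isIso_of_yoneda_map_bijective
  intro S
  let Φ := tensorRightD A U
  let S' := Φ.objPreimage S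
  let eS : Φ.obj S' ≅ S := Φ.objObjPreimageIso S
  let ea : (S' ⟶ X) ≃ (Φ.obj S' ⟶ Φ.obj X) := (Functor.FullyFaithful.ofFullyFaithful Φ).homEquiv
  let ec : (Φ.obj S' ⟶ (RHomR A R).obj M) ≃ ((tensorRightD A R).obj (Φ.obj S') ⟶ M) :=
    ((rhomAdj A R).homEquiv (Φ.obj S') M).symm
  let ι : (LTen₂ A).obj ((LTen₂ A).obj (S', U), R) ≅ (LTen₂ A).obj (S', L) :=
    associator S' U R ≪≫ ((LTen A).obj S').mapIso θ
  let d : (S' ⟶ X) ≃ ((tensorRightD A R).obj (Φ.obj S') ⟶ M) :=
    ((rhomAdj A L).homEquiv S' M).symm.trans ι.symm.homFromEquiv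
  have key : ∀ u' : S' ⟶ X, ec (Φ.map u' ≫ evalHom U L M) = d u' := by
    intro u'
    show ((rhomAdj A R).homEquiv (Φ.obj S') M).symm (Φ.map u' ≫ evalHom U L M) =
      ((associator S' U R).hom ≫ (LTen₂ A).map (Prod.mkHom (𝟙 S') θ.hom)) ≫
        ((rhomAdj A L).homEquiv S' M).symm u'
    rw [Adjunction.homEquiv_naturality_left_symm]
    refine (congrArg (fun t => (tensorRightD A R).map (Φ.map u') ≫ t)
      (evalHom_symm U L M)).trans ?_
    rw [Adjunction.homEquiv_counit]
    unfold evalHomAux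
    have h := associator_naturality u' (𝟙 U) (𝟙 R)
    have h0 : (LTen₂ A).map (Prod.mkHom (𝟙 U) (𝟙 R)) = 𝟙 _ := (LTen₂ A).map_id (U, R)
    rw [h0] at h
    show (LTen₂ A).map (Prod.mkHom ((LTen₂ A).map (Prod.mkHom u' (𝟙 U))) (𝟙 R)) ≫
        (associator X U R).hom ≫ (LTen₂ A).map (Prod.mkHom (𝟙 X) ((symm A).app (R, U) ≫ ev U L)) ≫
          ev L M =
      ((associator S' U R).hom ≫ (LTen₂ A).map (Prod.mkHom (𝟙 S') θ.hom)) ≫
        (LTen₂ A).map (Prod.mkHom u' (𝟙 L)) ≫ ev L M
    rw [← Category.assoc, h, Category.assoc, Category.assoc,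
      ← Category.assoc ((LTen₂ A).map _) ((LTen₂ A).map _) (ev L M), map_comp_mkHom,
      ← Category.assoc ((LTen₂ A).map _) ((LTen₂ A).map _) (ev L M), map_comp_mkHom, hθ,
      Category.id_comp, Category.comp_id, Category.comp_id, Category.id_comp]
  have hfun : (fun x : Φ.obj S' ⟶ (LTen₂ A).obj (X, U) => x ≫ evalHom U L M) =
      ec.symm ∘ d ∘ ea.symm := by
    funext x
    obtain ⟨u', rfl⟩ : ∃ u', Φ.map u' = x := ⟨ea.symm x, ea.apply_symm_apply x⟩
    show Φ.map u' ≫ evalHom U L M = ec.symm (d (ea.symm (ea u')))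
    rw [Equiv.symm_apply_apply, ← key u', Equiv.symm_apply_apply]
  have hb : Function.Bijective (fun x : Φ.obj S' ⟶ (LTen₂ A).obj (X, U) => x ≫ evalHom U L M) := by
    rw [hfun]
    exact ec.symm.bijective.comp (d.bijective.comp ea.symm.bijective)
  have hfun2 : (fun x : S ⟶ (LTen₂ A).obj (X, U) => x ≫ evalHom U L M) =
      (fun y => eS.inv ≫ y) ∘ (fun x : Φ.obj S' ⟶ (LTen₂ A).obj (X, U) => x ≫ evalHom U L M) ∘
        (fun x => eS.hom ≫ x) := by
    funext x
    simp
  rw [hfun2]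
  exact (eS.homFromEquiv).bijective.comp (hb.comp (eS.symm.homFromEquiv).bijective)

lemma extClosed (L M : Dual.D A) :
    Groth.Agent.H35.Devissage.IsExtClosed (Pr BP (evalHomNat L M)) where
  iso e h := h.iso stable_BP e
  zero hK := Pr.zero stable_BP (hF0 L M) (hG0 L M) hK
  ext T hT h1 h3 := Pr.ext stable_BP (hFh L M) (hGh L M) T hT h1 h3

lemma Pr_unit (L M : Dual.D A) :
    Pr BP (evalHomNat L M) ((singleFunctor (ModuleCat.{u} A) 0).obj (ModuleCat.of A A)) := by
  refine ⟨BP_single (ModuleCat.of A A) 0, ?_⟩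
  have h : PP (evalHomNat L M) (DTen.unit A) := fun n => by
    have := isEquivalence_tensorRightD_unit_shift (A := A) n
    exact isIso_evalHom_of_isEquivalence ((DTen.unit A)⟦n⟧) L M
  exact h.iso ((singleFunctorIsoCompQ (ModuleCat.{u} A) 0).app (ModuleCat.of A A)).symm

lemma Pr_free (L M : Dual.D A) (m : ℕ) :
    Pr BP (evalHomNat L M)
      ((singleFunctor (ModuleCat.{u} A) 0).obj (ModuleCat.of A (Fin m → A))) := by
  induction m with
  | zero =>
    apply (extClosed L M).zero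
    apply Functor.map_isZero
    exact ModuleCat.isZero_of_subsingleton _
  | succ m ih =>
    let F := singleFunctor (ModuleCat.{u} A) 0
    have h2 := Pr.biprod stable_BP (hFh L M) (hGh L M) (Pr_unit L M) ih
    let e0 : ModuleCat.of A (Fin (m + 1) → A) ≅
        (ModuleCat.of A A ⊞ ModuleCat.of A (Fin m → A) : ModuleCat.{u} A) :=
      (Fin.consLinearEquiv A (fun _ : Fin (m + 1) => A)).symm.toModuleIso ≪≫
        (ModuleCat.biprodIsoProd (ModuleCat.of A A) (ModuleCat.of A (Fin m → A))).symm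
    haveI : PreservesBinaryBiproducts F := preservesBinaryBiproducts_of_preservesBiproducts F
    exact h2.iso stable_BP ((F.mapIso e0 ≪≫ F.mapBiprod _ _).symm)

lemma Pr_finiteProjective (L M : Dual.D A) (N : ModuleCat.{u} A) [Module.Finite A N]
    [Module.Projective A N] (i : ℤ) :
    Pr BP (evalHomNat L M) ((singleFunctor (ModuleCat.{u} A) i).obj N) := by
  obtain ⟨m, f, g, -, -, hfg⟩ := Module.Finite.exists_comp_eq_id_of_projective A N
  let F := singleFunctor (ModuleCat.{u} A) 0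
  have h0 : Pr BP (evalHomNat L M) (F.obj N) := by
    refine Pr.retract stable_BP (F.map (ModuleCat.ofHom g)) (F.map (ModuleCat.ofHom f)) ?_
      (BP_single N 0) (Pr_free L M m)
    rw [← F.map_comp, ← ModuleCat.ofHom_comp, hfg]
    exact F.map_id N
  have e := ((singleFunctors (ModuleCat.{u} A)).shiftIso (-i) i 0 (by omega)).app N
  exact (h0.shift stable_BP (-i)).iso stable_BP e

theorem main (K L M : Dual.D A) (hK : DRing.IsPerfect A K) : IsIso (DTen.evalHom K L M) := by
  obtain ⟨E, a, b, hE, hfp, ⟨e⟩⟩ := hK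
  have h : Pr BP (evalHomNat L M) (Q.obj E) := by
    refine Groth.Agent.H35.Devissage.of_terms (extClosed L M) a ((b - a).toNat + 1) E b hE
      (by omega) (fun i => ?_)
    have := (hfp i).1
    have := (hfp i).2
    exact Pr_finiteProjective L M (E.X i) i
  exact (h.2.iso e).self

end


/-- For a commutative ring `A` (assuming the derived tensor product on `D(A)` with its triple version
exists, that its symmetry, unit and associativity maps are isomorphisms, and that every `- ⊗^L L`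
has a right adjoint `RHom(L, -)`) and objects `K`, `L`, `M` of `D(A)` with `K` perfect, the
canonical evaluation morphism `RHom(L, M) ⊗^L K ⟶ RHom(RHom(K, L), M)` (the adjunct of: associate,
swap `K` past `RHom(K, L)`, evaluate at `K`, evaluate at `L`) is an isomorphism. -/
theorem result (A : Type u) [CommRing A] [DTen.HasLTen A] [DTen.HasLTen₃ A]
    [DTen.IsSymMonoidal A] [DTen.HasRHom A] (K L M : Dual.D A)
    (hK : DRing.IsPerfect A K) :
    IsIso (DTen.evalHom K L M) := by
  exact main K L M hK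

end Groth.Agent.S13889
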