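import Groth.Statements.S1389
import Mathlib.AlgebraicGeometry.PullbackCarrier
import Mathlib.AlgebraicGeometry.Morphisms.FormallyUnramified

set_option autoImplicit false
universe u
open FlatMor

namespace Groth.Agent.S1389

open AlgebraicGeometry CategoryTheory Limits in
/-- Let (U, u) and (U', u') be étale neighbourhoods of a point s of S and h₁, h₂ two S-morphisms U → U'
sending u to u' which induce the same map of residue fields κ(u') → κ(u). Then there is an étale
neighbourhood (U'', u'') of s with an S-morphism h : U'' → U sending u'' to u and with h followed by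
h₁ equal to h followed by h₂. -/
theorem result {S U U' : Scheme.{u}} (s : S) (g : U ⟶ S) (g' : U' ⟶ S) [Etale g] [Etale g'] (u : U) (u' : U')
    (hu : g u = s) (hu' : g' u' = s) (h₁ h₂ : U ⟶ U') (w₁ : h₁ ≫ g' = g) (w₂ : h₂ ≫ g' = g) (e₁ : h₁ u = u') (e₂ : h₂ u = u')
    (hres : (U'.residueFieldCongr e₁).inv ≫ h₁.residueFieldMap u = (U'.residueFieldCongr e₂).inv ≫ h₂.residueFieldMap u) :
    ∃ (U'' : Scheme.{u}) (g'' : U'' ⟶ S) (u'' : U'') (h : U'' ⟶ U), Etale g'' ∧ g'' u'' = s ∧ h ≫ g = g'' ∧ h u'' = u ∧ h ≫ h₁ = h ≫ h₂ := by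
  let k : U ⟶ pullback g' g' := pullback.lift h₁ h₂ (by rw [w₁, w₂])
  have hk1 : k ≫ pullback.fst g' g' = h₁ := pullback.lift_fst _ _ _
  have hk2 : k ≫ pullback.snd g' g' = h₂ := pullback.lift_snd _ _ _
  let φ : U'.residueField u' ⟶ U.residueField u := (U'.residueFieldCongr e₁).inv ≫ h₁.residueFieldMap u
  have hφ1 : U.fromSpecResidueField u ≫ h₁ = Spec.map φ ≫ U'.fromSpecResidueField u' := by
    simp only [φ, Spec.map_comp, Category.assoc]
    rw [← Scheme.Hom.SpecMap_residueFieldMap_fromSpecResidueField]
    congr 1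
    simp
  have hφ2 : U.fromSpecResidueField u ≫ h₂ = Spec.map φ ≫ U'.fromSpecResidueField u' := by
    simp only [φ, hres, Spec.map_comp, Category.assoc]
    rw [← Scheme.Hom.SpecMap_residueFieldMap_fromSpecResidueField]
    congr 1
    simp
  have hkey : U.fromSpecResidueField u ≫ k =
      Spec.map φ ≫ U'.fromSpecResidueField u' ≫ pullback.diagonal g' := by
    apply pullback.hom_ext
    · simp only [Category.assoc, hk1, pullback.diagonal_fst, Category.comp_id, hφ1]
    · simp only [Category.assoc, hk2, pullback.diagonal_snd, Category.comp_id, hφ2]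
  have hku : k u = pullback.diagonal g' u' := by
    have pt : Spec (U.residueField u) := default
    have := congrArg (fun m : Spec (U.residueField u) ⟶ pullback g' g' => m pt) hkey
    simpa using this
  have hmem : u ∈ Set.range (pullback.snd (pullback.diagonal g') k) := by
    rw [Scheme.Pullback.range_snd]
    exact ⟨u', hku.symm⟩
  obtain ⟨u'', hu''⟩ := hmem
  refine ⟨pullback (pullback.diagonal g') k, pullback.snd (pullback.diagonal g') k ≫ g, u'',
    pullback.snd (pullback.diagonal g') k, inferInstance, ?_, rfl, hu'', ?_⟩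
  · rw [Scheme.Hom.comp_apply, hu'', hu]
  · rw [← hk1, ← hk2, ← Category.assoc, ← Category.assoc, ← pullback.condition]
    simp

end Groth.Agent.S1389
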