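import Groth.Statements.S13890
import Groth.Agent.S13889
import Groth.Agent.H35.WayOutDTen

set_option autoImplicit false
universe u
open CategoryTheory CategoryTheory.Limits MonoidalCategory
attribute [local instance] HasDerivedCategory.standard
open DTen

namespace Groth.Agent.S13890

/-- For a commutative ring `A` (assuming the derived tensor product on `D(A)` with its triple version
exists, that its symmetry, unit and associativity maps are isomorphisms, and that every `- ⊗^L L`
has a right adjoint `RHom(L, -)`) and objects `K`, `L`, `M` of `D(A)` with `K` pseudo-coherent, `L`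
in `D^+(A)` and `M` of finite injective dimension, the canonical evaluation morphism `RHom(L, M) ⊗^L
K ⟶ RHom(RHom(K, L), M)` is an isomorphism. -/
theorem result (A : Type u) [CommRing A] [DTen.HasLTen A] [DTen.HasLTen₃ A]
    [DTen.IsSymMonoidal A] [DTen.HasRHom A]
    (K L M : Dual.D A) (hK : DRing.IsPseudoCoherent' A K) (n : ℤ) (hL : DerivedCategory.IsGE L n)
    (hM : DRing.HasFiniteInjDim A M) :
    IsIso (DTen.evalHom K L M) := by
  obtain ⟨a, b, hMab⟩ := hM
  have hL' : L.IsGE n := hL
  have hR : ((DTen.RHomR A L).obj M).IsLE (b - n) :=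
    Groth.Agent.H35.WayOutDTen.isLE_RHomR_of_injAmp L M n a b hMab
  have hFb : ∀ (X : Dual.D A) (p : ℤ), Groth.Agent.H33.RHomExact.BP X → X.IsLE p →
      ((Groth.Agent.S13889.Fh L M).obj X).IsLE (p + (b - n)) := by
    intro X p _ hX
    have h1 : DerivedCategory.TStructure.t.IsLE ((Groth.Agent.S13889.Fh L M).obj X) (b - n + p) :=
      Groth.Agent.H35.WayOutDTen.isLE_LTen₂ ((DTen.RHomR A L).obj M) X (b - n) p
    exact DerivedCategory.TStructure.t.isLE_of_le _ (b - n + p) (p + (b - n)) (by omega)
  have hGb : ∀ (X : Dual.D A) (p : ℤ), Groth.Agent.H33.RHomExact.BP X → X.IsLE p →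
      ((Groth.Agent.S13889.Gh L M).obj X).IsLE (p + (b - n)) := by
    intro X p _ hX
    have h1 : ((DTen.RHomR A X).obj L).IsGE (n - p) :=
      Groth.Agent.H35.WayOutDTen.isGE_RHomR X L p n
    have h2 : DerivedCategory.TStructure.t.IsLE ((Groth.Agent.S13889.Gh L M).obj X)
        (b - (n - p)) :=
      Groth.Agent.H35.WayOutDTen.isLE_RHomR_of_injAmp ((DTen.RHomR A X).obj L) M
        (n - p) a b hMab
    exact DerivedCategory.TStructure.t.isLE_of_le _ (b - (n - p)) (p + (b - n)) (by omega)
  exact Groth.Agent.H35.WayOut.wayOut (Groth.Agent.S13889.evalHomNat L M)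
    (Groth.Agent.S13889.hFh L M) (Groth.Agent.S13889.hGh L M) (b - n) hFb hGb
    (fun P hP => Groth.Agent.S13889.main P L M hP) K hK

end Groth.Agent.S13890
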