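import Groth.Statements.S13891
import Groth.Agent.H33.DTenClosed

set_option autoImplicit false
universe u
open CategoryTheory CategoryTheory.Limits MonoidalCategory
attribute [local instance] HasDerivedCategory.standard
open DTen

namespace Groth.Agent.S13891

section
open Groth.Agent.H35.TriChase Groth.Agent.H35.DTenExact Groth.Agent.H35.DTenUnit
open Groth.Agent.H33.RHomModel Groth.Agent.H33.RHomExact Groth.Agent.H33.RelChase
open Groth.Agent.H33.DTenClosed
open Pretriangulated Opposite DerivedCategory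

variable {A : Type u} [CommRing A] [DTen.HasLTen A] [DTen.HasLTen₃ A] [DTen.IsSymMonoidal A]
  [DTen.HasRHom A]

/-- `M ↦ K ⊗^L RHom(M, L)`. -/
noncomputable abbrev Fc (K L : Dual.D A) : (Dual.D A)ᵒᵖ ⥤ Dual.D A :=
  (RHom A).flip.obj L ⋙ (LTen A).obj K

/-- `M ↦ RHom(M, K ⊗^L L)`. -/
noncomputable abbrev Gc (K L : Dual.D A) : (Dual.D A)ᵒᵖ ⥤ Dual.D A :=
  (RHom A).flip.obj ((LTen₂ A).obj (K, L))

lemma evalTen_symm (K L M : Dual.D A) :
    ((rhomAdj A M).homEquiv _ _).symm (evalTen K L M) = evalTenAux K L M :=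
  Equiv.symm_apply_apply _ _

lemma evalTen_natural (K L : Dual.D A) {M M' : Dual.D A} (g : M' ⟶ M) :
    (LTen₂ A).map (Prod.mkHom (𝟙 K) (RHomMap g L)) ≫ evalTen K L M' =
      evalTen K L M ≫ RHomMap g ((LTen₂ A).obj (K, L)) := by
  apply ((rhomAdj A M').homEquiv _ _).symm.injective
  rw [homEquiv_symm_comp_RHomMap, Adjunction.homEquiv_naturality_left_symm]
  refine (congrArg (fun t => (tensorRightD A M').map
    ((LTen₂ A).map (Prod.mkHom (𝟙 K) (RHomMap g L))) ≫ t) (evalTen_symm K L M')).trans ?_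
  refine Eq.trans ?_ (congrArg (fun t => (LTen₂ A).map
    (Prod.mkHom (𝟙 ((LTen₂ A).obj (K, (RHomR A M).obj L))) g) ≫ t) (evalTen_symm K L M)).symm
  unfold evalTenAux
  have a1 := associator_naturality (𝟙 K) (RHomMap g L) (𝟙 M')
  have a2 := associator_naturality (𝟙 K) (𝟙 ((RHomR A M).obj L)) g
  have h0 : (LTen₂ A).map (Prod.mkHom (𝟙 K) (𝟙 ((RHomR A M).obj L))) = 𝟙 _ :=
    (LTen₂ A).map_id (K, (RHomR A M).obj L)
  rw [h0] at a2
  show (LTen₂ A).map (Prod.mkHom ((LTen₂ A).map (Prod.mkHom (𝟙 K) (RHomMap g L))) (𝟙 M')) ≫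
      (associator K ((RHomR A M').obj L) M').hom ≫ (LTen₂ A).map (Prod.mkHom (𝟙 K) (ev M' L)) =
    (LTen₂ A).map (Prod.mkHom (𝟙 ((LTen₂ A).obj (K, (RHomR A M).obj L))) g) ≫
      (associator K ((RHomR A M).obj L) M).hom ≫ (LTen₂ A).map (Prod.mkHom (𝟙 K) (ev M L))
  rw [← Category.assoc, a1, ← Category.assoc, a2, Category.assoc, Category.assoc, map_comp_mkHom,
    map_comp_mkHom, RHom_map_ev]

/-- `evalTen K L -` as a natural transformation of contravariant functors. -/
noncomputable def evalTenNat (K L : Dual.D A) : Fc K L ⟶ Gc K L where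
  app X := evalTen K L (unop X)
  naturality X Y g := evalTen_natural K L g.unop

lemma DT_Fc (K L : Dual.D A) {a b c : Dual.D A} (p : a ⟶ b) (q : b ⟶ c) (h : DT p q) (ha : BP a)
    (hc : BP c) : DT ((Fc K L).map q.op) ((Fc K L).map p.op) :=
  DT_tensorLeftD K _ _ (DT_RHomMap p q h ha hc L)

lemma DT_Gc (K L : Dual.D A) {a b c : Dual.D A} (p : a ⟶ b) (q : b ⟶ c) (h : DT p q) (ha : BP a)
    (hc : BP c) : DT ((Gc K L).map q.op) ((Gc K L).map p.op) :=
  DT_RHomMap p q h ha hc _

/-- The natural transformation on which the chase runs. -/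
noncomputable abbrev η' (K L : Dual.D A) : (Gc K L).rightOp ⟶ (Fc K L).rightOp :=
  NatTrans.rightOp (evalTenNat K L)

lemma hG' (K L : Dual.D A) : WeakExactOn BP (Gc K L).rightOp :=
  weakExactOn_rightOp (Gc K L) (fun p q h ha hc => DT_Gc K L p q h ha hc)

lemma hF' (K L : Dual.D A) : WeakExactOn BP (Fc K L).rightOp :=
  weakExactOn_rightOp (Fc K L) (fun p q h ha hc => DT_Fc K L p q h ha hc)

lemma hG0 (K L : Dual.D A) (x : Dual.D A) (hx : IsZero x) : IsZero ((Gc K L).rightOp.obj x) :=
  (isZero_RHomR hx _).op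

lemma hF0 (K L : Dual.D A) (x : Dual.D A) (hx : IsZero x) : IsZero ((Fc K L).rightOp.obj x) :=
  (isZero_LTen_right K (isZero_RHomR hx L)).op

/-- If `- ⊗^L U` is an equivalence then `evalTen K L U` is an isomorphism. -/
lemma isIso_evalTen_of_isEquivalence (K L U : Dual.D A) [(tensorRightD A U).IsEquivalence] :
    IsIso (evalTen K L U) := by
  have : (RHomR A U).IsEquivalence := (rhomAdj A U).isEquivalence_right_of_isEquivalence_left
  have h3 : IsIso (ev U L) := inferInstanceAs (IsIso ((rhomAdj A U).counit.app L))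
  have h4 : IsIso (evalTenAux K L U) := by
    unfold evalTenAux
    have : IsIso ((LTen₂ A).map (Prod.mkHom (𝟙 K) (ev U L))) :=
      inferInstanceAs (IsIso (((LTen A).obj K).map (ev U L)))
    infer_instance
  show IsIso ((rhomAdj A U).homEquiv _ _ (evalTenAux K L U))
  rw [Adjunction.homEquiv_unit]
  infer_instance

lemma extClosed (K L : Dual.D A) :
    Groth.Agent.H35.Devissage.IsExtClosed (Pr BP (η' K L)) where
  iso e h := h.iso stable_BP e
  zero hK := Pr.zero stable_BP (hG0 K L) (hF0 K L) hK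
  ext T hT h1 h3 := Pr.ext stable_BP (hG' K L) (hF' K L) T hT h1 h3

lemma Pr_unit (K L : Dual.D A) :
    Pr BP (η' K L) ((singleFunctor (ModuleCat.{u} A) 0).obj (ModuleCat.of A A)) := by
  refine ⟨BP_single (ModuleCat.of A A) 0, ?_⟩
  have h : PP (η' K L) (DTen.unit A) := fun n => by
    have := isEquivalence_tensorRightD_unit_shift (A := A) n
    have := isIso_evalTen_of_isEquivalence K L ((DTen.unit A)⟦n⟧)
    show IsIso (evalTen K L ((DTen.unit A)⟦n⟧)).op
    infer_instance
  exact h.iso ((singleFunctorIsoCompQ (ModuleCat.{u} A) 0).app (ModuleCat.of A A)).symm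

lemma Pr_free (K L : Dual.D A) (m : ℕ) :
    Pr BP (η' K L)
      ((singleFunctor (ModuleCat.{u} A) 0).obj (ModuleCat.of A (Fin m → A))) := by
  induction m with
  | zero =>
    apply (extClosed K L).zero
    apply Functor.map_isZero
    exact ModuleCat.isZero_of_subsingleton _
  | succ m ih =>
    let F := singleFunctor (ModuleCat.{u} A) 0
    have h2 := Pr.biprod stable_BP (hG' K L) (hF' K L) (Pr_unit K L) ih
    let e0 : ModuleCat.of A (Fin (m + 1) → A) ≅
        (ModuleCat.of A A ⊞ ModuleCat.of A (Fin m → A) : ModuleCat.{u} A) :=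
      (Fin.consLinearEquiv A (fun _ : Fin (m + 1) => A)).symm.toModuleIso ≪≫
        (ModuleCat.biprodIsoProd (ModuleCat.of A A) (ModuleCat.of A (Fin m → A))).symm
    haveI : PreservesBinaryBiproducts F := preservesBinaryBiproducts_of_preservesBiproducts F
    exact h2.iso stable_BP ((F.mapIso e0 ≪≫ F.mapBiprod _ _).symm)

lemma Pr_finiteProjective (K L : Dual.D A) (N : ModuleCat.{u} A) [Module.Finite A N]
    [Module.Projective A N] (i : ℤ) :
    Pr BP (η' K L) ((singleFunctor (ModuleCat.{u} A) i).obj N) := by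
  obtain ⟨m, f, g, -, -, hfg⟩ := Module.Finite.exists_comp_eq_id_of_projective A N
  let F := singleFunctor (ModuleCat.{u} A) 0
  have h0 : Pr BP (η' K L) (F.obj N) := by
    refine Pr.retract stable_BP (F.map (ModuleCat.ofHom g)) (F.map (ModuleCat.ofHom f)) ?_
      (BP_single N 0) (Pr_free K L m)
    rw [← F.map_comp, ← ModuleCat.ofHom_comp, hfg]
    exact F.map_id N
  have e := ((singleFunctors (ModuleCat.{u} A)).shiftIso (-i) i 0 (by omega)).app N
  exact (h0.shift stable_BP (-i)).iso stable_BP e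

theorem main (K L M : Dual.D A) (hM : DRing.IsPerfect A M) : IsIso (DTen.evalTen K L M) := by
  obtain ⟨E, a, b, hE, hfp, ⟨e⟩⟩ := hM
  have h : Pr BP (η' K L) (Q.obj E) := by
    refine Groth.Agent.H35.Devissage.of_terms (extClosed K L) a ((b - a).toNat + 1) E b hE
      (by omega) (fun i => ?_)
    have := (hfp i).1
    have := (hfp i).2
    exact Pr_finiteProjective K L (E.X i) i
  have h2 : IsIso ((η' K L).app M) := (h.2.iso e).self
  have h3 : IsIso (evalTen K L M).op := h2
  exact isIso_of_op _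

end


/-- For a commutative ring `A` (assuming the derived tensor product on `D(A)` with its triple version
exists, that its symmetry, unit and associativity maps are isomorphisms, and that every `- ⊗^L L`
has a right adjoint `RHom(L, -)`) and objects `K`, `L`, `M` of `D(A)` with `M` perfect, the
canonical morphism `K ⊗^L RHom(M, L) ⟶ RHom(M, K ⊗^L L)` (the adjunct of the associativity
isomorphism followed by `K ⊗^L` the evaluation at `M`) is an isomorphism. -/
theorem result (A : Type u) [CommRing A] [DTen.HasLTen A] [DTen.HasLTen₃ A]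
    [DTen.IsSymMonoidal A] [DTen.HasRHom A] (K L M : Dual.D A)
    (hM : DRing.IsPerfect A M) :
    IsIso (DTen.evalTen K L M) := by
  exact main K L M hM

end Groth.Agent.S13891
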