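import Groth.Statements.S13892
import Groth.Agent.H35.DTenUnit
import Groth.Agent.H35.Devissage

set_option autoImplicit false
universe u
open CategoryTheory CategoryTheory.Limits MonoidalCategory
attribute [local instance] HasDerivedCategory.standard
open DTen

namespace Groth.Agent.S13892

open Groth.Agent.H35.TriChase Groth.Agent.H35.DTenExact Groth.Agent.H35.DTenUnit
open Pretriangulated

section
variable {A : Type u} [CommRing A] [DTen.HasLTen A] [DTen.HasLTen₃ A] [DTen.IsSymMonoidal A]
  [DTen.HasRHom A]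

/-- `evalTen - L M` as a natural transformation. -/
noncomputable def evalTenNat (L M : Dual.D A) :
    tensorRightD A ((RHomR A M).obj L) ⟶ tensorRightD A L ⋙ RHomR A M where
  app K := evalTen K L M
  naturality K K' g := by
    show (LTen₂ A).map (Prod.mkHom g (𝟙 ((RHomR A M).obj L))) ≫ evalTen K' L M =
      evalTen K L M ≫ (RHomR A M).map ((LTen₂ A).map (Prod.mkHom g (𝟙 L)))
    unfold evalTen
    rw [← Adjunction.homEquiv_naturality_left, ← Adjunction.homEquiv_naturality_right]
    congr 1
    unfold evalTenAux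
    have h := associator_naturality g (𝟙 ((RHomR A M).obj L)) (𝟙 M)
    have h0 : (LTen₂ A).map (Prod.mkHom (𝟙 ((RHomR A M).obj L)) (𝟙 M)) = 𝟙 _ :=
      (LTen₂ A).map_id ((RHomR A M).obj L, M)
    rw [h0] at h
    show (LTen₂ A).map (Prod.mkHom ((LTen₂ A).map (Prod.mkHom g (𝟙 ((RHomR A M).obj L))))
        (𝟙 M)) ≫ _ = _
    rw [← Category.assoc, h, Category.assoc, Category.assoc, map_comp_mkHom, map_comp_mkHom,
      Category.id_comp, Category.comp_id, Category.id_comp, Category.comp_id]

/-- If `U ⊗^L -` is an equivalence then `evalTen U L M` is an isomorphism. -/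
lemma isIso_evalTen_of_isEquivalence (U L M : Dual.D A) [((LTen A).obj U).IsEquivalence] :
    IsIso (evalTen U L M) := by
  apply isIso_of_yoneda_map_bijective
  intro S
  let Φ := (LTen A).obj U
  let X := (RHomR A M).obj L
  let S' := Φ.objPreimage S
  let eS : Φ.obj S' ≅ S := Φ.objObjPreimageIso S
  -- the three bijections
  let ea : (S' ⟶ X) ≃ (Φ.obj S' ⟶ Φ.obj X) := (Functor.FullyFaithful.ofFullyFaithful Φ).homEquiv
  let ec : (Φ.obj S' ⟶ (RHomR A M).obj ((LTen₂ A).obj (U, L))) ≃
      ((tensorRightD A M).obj (Φ.obj S') ⟶ (LTen₂ A).obj (U, L)) :=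
    ((rhomAdj A M).homEquiv (Φ.obj S') ((LTen₂ A).obj (U, L))).symm
  let d : (S' ⟶ X) ≃ ((tensorRightD A M).obj (Φ.obj S') ⟶ (LTen₂ A).obj (U, L)) :=
    ((rhomAdj A M).homEquiv S' L).symm.trans
      ((Functor.FullyFaithful.ofFullyFaithful Φ).homEquiv.trans
        (associator U S' M).symm.homFromEquiv)
  have key : ∀ u' : S' ⟶ X, ec (Φ.map u' ≫ evalTen U L M) = d u' := by
    intro u'
    show ((rhomAdj A M).homEquiv (Φ.obj S') ((LTen₂ A).obj (U, L))).symm
        (Φ.map u' ≫ evalTen U L M) =
      (associator U S' M).hom ≫ Φ.map (((rhomAdj A M).homEquiv S' L).symm u')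
    rw [Adjunction.homEquiv_naturality_left_symm]
    have h1 : ((rhomAdj A M).homEquiv ((LTen₂ A).obj (U, X)) ((LTen₂ A).obj (U, L))).symm
        (evalTen U L M) = evalTenAux U L M := by
      unfold evalTen
      exact Equiv.symm_apply_apply _ _
    erw [h1]
    rw [Adjunction.homEquiv_counit]
    unfold evalTenAux
    have h := associator_naturality (𝟙 U) u' (𝟙 M)
    show (LTen₂ A).map (Prod.mkHom ((LTen₂ A).map (Prod.mkHom (𝟙 U) u')) (𝟙 M)) ≫
        (associator U X M).hom ≫ (LTen₂ A).map (Prod.mkHom (𝟙 U) (ev M L)) =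
      (associator U S' M).hom ≫ (LTen₂ A).map (Prod.mkHom (𝟙 U)
        ((LTen₂ A).map (Prod.mkHom u' (𝟙 M)) ≫ ev M L))
    rw [← Category.assoc, h, Category.assoc, map_comp_mkHom, Category.id_comp]
  have hfun : (fun x : Φ.obj S' ⟶ (LTen₂ A).obj (U, X) => x ≫ evalTen U L M) =
      ec.symm ∘ d ∘ ea.symm := by
    funext x
    obtain ⟨u', rfl⟩ : ∃ u', Φ.map u' = x := ⟨ea.symm x, ea.apply_symm_apply x⟩
    show Φ.map u' ≫ evalTen U L M = ec.symm (d (ea.symm (ea u')))
    rw [Equiv.symm_apply_apply, ← key u', Equiv.symm_apply_apply]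
  have hb : Function.Bijective (fun x : Φ.obj S' ⟶ (LTen₂ A).obj (U, X) => x ≫ evalTen U L M) := by
    rw [hfun]
    exact ec.symm.bijective.comp (d.bijective.comp ea.symm.bijective)
  have hfun2 : (fun x : S ⟶ (LTen₂ A).obj (U, X) => x ≫ evalTen U L M) =
      (fun y => eS.inv ≫ y) ∘ (fun x : Φ.obj S' ⟶ (LTen₂ A).obj (U, X) => x ≫ evalTen U L M) ∘
        (fun x => eS.hom ≫ x) := by
    funext x
    simp
  rw [hfun2]
  exact (eS.homFromEquiv).bijective.comp (hb.comp (eS.symm.homFromEquiv).bijective)

lemma PP_unit (L M : Dual.D A) : PP (evalTenNat L M) (DTen.unit A) := fun n => by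
  have := isEquivalence_LTen_unit_shift (A := A) n
  exact isIso_evalTen_of_isEquivalence ((DTen.unit A)⟦n⟧) L M

lemma extClosed (L M : Dual.D A) :
    Groth.Agent.H35.Devissage.IsExtClosed (PP (evalTenNat L M)) where
  iso e h := h.iso e
  zero hK := PP.zero hK
  ext T hT h1 h3 := PP.ext (weakExact_tensorRightD _) (weakExact_tensorRightD_comp_RHomR L M)
    T hT h1 h3

/-- `PP` holds for `N[0]` for every finite free module `Fin m → A`. -/
lemma PP_free (L M : Dual.D A) (m : ℕ) :
    PP (evalTenNat L M)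
      ((DerivedCategory.singleFunctor (ModuleCat.{u} A) 0).obj (ModuleCat.of A (Fin m → A))) := by
  induction m with
  | zero =>
    apply (extClosed L M).zero
    apply Functor.map_isZero
    exact ModuleCat.isZero_of_subsingleton _
  | succ m ih =>
    let F := DerivedCategory.singleFunctor (ModuleCat.{u} A) 0
    have h1 : PP (evalTenNat L M) (F.obj (ModuleCat.of A A)) :=
      (PP_unit L M).iso ((DerivedCategory.singleFunctorIsoCompQ (ModuleCat.{u} A) 0).app
        (ModuleCat.of A A)).symm
    have h2 := PP.biprod (weakExact_tensorRightD _) (weakExact_tensorRightD_comp_RHomR L M) h1 ih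
    let e0 : ModuleCat.of A (Fin (m + 1) → A) ≅
        (ModuleCat.of A A ⊞ ModuleCat.of A (Fin m → A) : ModuleCat.{u} A) :=
      (Fin.consLinearEquiv A (fun _ : Fin (m + 1) => A)).symm.toModuleIso ≪≫
        (ModuleCat.biprodIsoProd (ModuleCat.of A A) (ModuleCat.of A (Fin m → A))).symm
    haveI : PreservesBinaryBiproducts F := preservesBinaryBiproducts_of_preservesBiproducts F
    exact h2.iso ((F.mapIso e0 ≪≫ F.mapBiprod _ _).symm)

lemma PP_finiteProjective (L M : Dual.D A) (N : ModuleCat.{u} A) [Module.Finite A N]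
    [Module.Projective A N] (i : ℤ) :
    PP (evalTenNat L M) ((DerivedCategory.singleFunctor (ModuleCat.{u} A) i).obj N) := by
  obtain ⟨m, f, g, -, -, hfg⟩ := Module.Finite.exists_comp_eq_id_of_projective A N
  let F := DerivedCategory.singleFunctor (ModuleCat.{u} A) 0
  have h0 : PP (evalTenNat L M) (F.obj N) := by
    refine PP.retract (F.map (ModuleCat.ofHom g)) (F.map (ModuleCat.ofHom f)) ?_ (PP_free L M m)
    rw [← F.map_comp, ← ModuleCat.ofHom_comp, hfg]
    exact F.map_id N
  have e := ((DerivedCategory.singleFunctors (ModuleCat.{u} A)).shiftIso (-i) i 0 (by omega)).app N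
  exact (h0.shift (-i)).iso e

theorem main (K L M : Dual.D A) (hK : DRing.IsPerfect A K) : IsIso (DTen.evalTen K L M) := by
  obtain ⟨E, a, b, hE, hfp, ⟨e⟩⟩ := hK
  have h : PP (evalTenNat L M) (DerivedCategory.Q.obj E) := by
    refine Groth.Agent.H35.Devissage.of_terms (extClosed L M) a ((b - a).toNat + 1) E b hE
      (by omega) (fun i => ?_)
    have := (hfp i).1
    have := (hfp i).2
    exact PP_finiteProjective L M (E.X i) i
  exact (h.iso e).self

end


/-- For a commutative ring `A` (assuming the derived tensor product on `D(A)` with its triple version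
exists, that its symmetry, unit and associativity maps are isomorphisms, and that every `- ⊗^L L`
has a right adjoint `RHom(L, -)`) and objects `K`, `L`, `M` of `D(A)` with `K` perfect, the
canonical morphism `K ⊗^L RHom(M, L) ⟶ RHom(M, K ⊗^L L)` is an isomorphism. -/
theorem result (A : Type u) [CommRing A] [DTen.HasLTen A] [DTen.HasLTen₃ A]
    [DTen.IsSymMonoidal A] [DTen.HasRHom A] (K L M : Dual.D A)
    (hK : DRing.IsPerfect A K) :
    IsIso (DTen.evalTen K L M) := by
  exact main K L M hK

end Groth.Agent.S13892
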