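import Groth.Statements.S13906
import Groth.Agent.H86.P1Conn

set_option autoImplicit false
universe u
open P1Fin

namespace Groth.Agent.S13906

open AlgebraicGeometry CategoryTheory in
/-- Let S be a scheme and g : X → P^1_S a finite, flat, locally finitely presented morphism. An open and
closed subset W of X that contains every point of X lying over the zero section of P^1_S → S is all
of X. (In the published corollary W is the locus over which a given equivariant etale morphism T → X
of constant rank is a torsor under a finite group, an open and closed subset of X; that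
open-and-closed locus is taken as the hypothesis here, and the conclusion W = X is the corollary's
content.) -/
theorem result (S X : Scheme.{u})
    (g : X ⟶ CohB1.ProjSpaceOver 1 S) [IsFinite g] [Flat g] [LocallyOfFinitePresentation g]
    (W : Set X) (hW : IsClopen W)
    (h0 : ∀ x : X, g x ∈ Set.range (P1.sect S 0) → x ∈ W) : W = Set.univ := by
  classical
  by_contra hne
  obtain ⟨x, hx⟩ : ∃ x, x ∉ W := by
    by_contra h
    push_neg at h
    exact hne (Set.eq_univ_of_forall h)
  have hZ : IsClopen (g '' Wᶜ) := ⟨g.isClosedMap _ hW.compl.1, g.isOpenMap _ hW.compl.2⟩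
  have hz : g x ∈ g '' Wᶜ := ⟨x, hx, rfl⟩
  have hconn : _root_.IsConnected ((CohB1.ProjSpaceOver.toBase 1 S) ⁻¹'
      {(CohB1.ProjSpaceOver.toBase 1 S) (g x)}) :=
    (CohB1.ProjSpaceOver.toBase 1 S).isConnected_preimage_singleton _
  have hsub : (CohB1.ProjSpaceOver.toBase 1 S) ⁻¹' {(CohB1.ProjSpaceOver.toBase 1 S) (g x)} ⊆
      g '' Wᶜ :=
    hconn.isPreconnected.subset_isClopen hZ ⟨g x, rfl, hz⟩
  have hcomp : P1.sect S 0 ≫ CohB1.ProjSpaceOver.toBase 1 S = 𝟙 S := Limits.pullback.lift_snd _ _ _
  have hσ : (P1.sect S 0) ((CohB1.ProjSpaceOver.toBase 1 S) (g x)) ∈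
      (CohB1.ProjSpaceOver.toBase 1 S) ⁻¹' {(CohB1.ProjSpaceOver.toBase 1 S) (g x)} := by
    show (CohB1.ProjSpaceOver.toBase 1 S) ((P1.sect S 0) ((CohB1.ProjSpaceOver.toBase 1 S) (g x))) =
      (CohB1.ProjSpaceOver.toBase 1 S) (g x)
    rw [← Scheme.Hom.comp_apply, hcomp]
    rfl
  obtain ⟨x', hx'W, hx'⟩ := hsub hσ
  exact hx'W (h0 x' ⟨_, hx'.symm⟩)

end Groth.Agent.S13906
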