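import Groth.Statements.S13903
import Mathlib

set_option autoImplicit false
set_option maxHeartbeats 400000
universe u
open EtAlg

namespace Groth.Agent.S13903
theorem card_homs_ge (K L : Type u) [Field K] [CommRing L] [Algebra K L] [Module.Finite K L]
    [IsReduced L] [Algebra.IsSeparable K L] :
    Module.finrank K L ≤ Nat.card (L →ₐ[K] AlgebraicClosure K) := by
  classical
  haveI : IsArtinianRing L := IsArtinianRing.of_finite K L
  let e : L ≃ₐ[K] (∀ m : MaximalSpectrum L, L ⧸ m.asIdeal) :=
    (IsArtinianRing.equivPi L).restrictScalars K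
  letI : Fintype (MaximalSpectrum L) := Fintype.ofFinite _
  letI fld : ∀ m : MaximalSpectrum L, Field (L ⧸ m.asIdeal) :=
    fun m => @Ideal.Quotient.field _ _ m.asIdeal m.isMaximal
  haveI hfin : ∀ m : MaximalSpectrum L, Module.Finite K (L ⧸ m.asIdeal) := fun m =>
    Module.Finite.of_surjective (Ideal.Quotient.mkₐ K m.asIdeal).toLinearMap
      (Ideal.Quotient.mkₐ_surjective K m.asIdeal)
  haveI hsep : ∀ m : MaximalSpectrum L, Algebra.IsSeparable K (L ⧸ m.asIdeal) := fun m =>
    ⟨fun y => by
      obtain ⟨x, rfl⟩ := Ideal.Quotient.mk_surjective y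
      have hx : (minpoly K x).Separable := Algebra.IsSeparable.isSeparable K x
      refine Polynomial.Separable.of_dvd hx (minpoly.dvd K _ ?_)
      rw [show (Ideal.Quotient.mk m.asIdeal x) = (Ideal.Quotient.mkₐ K m.asIdeal) x from rfl,
        Polynomial.aeval_algHom_apply, minpoly.aeval, map_zero]⟩
  have h1 : Module.finrank K L = ∑ m : MaximalSpectrum L, Module.finrank K (L ⧸ m.asIdeal) := by
    rw [e.toLinearEquiv.finrank_eq, Module.finrank_pi_fintype]
  have h2 : ∀ m : MaximalSpectrum L,
      Nat.card ((L ⧸ m.asIdeal) →ₐ[K] AlgebraicClosure K) = Module.finrank K (L ⧸ m.asIdeal) :=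
    fun m => AlgHom.natCard_of_splits K (L ⧸ m.asIdeal) (AlgebraicClosure K)
      (fun x => IsAlgClosed.splits _)
  let Φ : (Σ m : MaximalSpectrum L, (L ⧸ m.asIdeal) →ₐ[K] AlgebraicClosure K) →
      (L →ₐ[K] AlgebraicClosure K) :=
    fun p => p.2.comp (Ideal.Quotient.mkₐ K p.1.asIdeal)
  have hΦ : Function.Injective Φ := by
    rintro ⟨m, σ⟩ ⟨m', σ'⟩ h
    have hker : ∀ (n : MaximalSpectrum L) (τ : (L ⧸ n.asIdeal) →ₐ[K] AlgebraicClosure K) (x : L),
        τ (Ideal.Quotient.mk n.asIdeal x) = 0 ↔ x ∈ n.asIdeal := by
      intro n τ x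
      rw [map_eq_zero_iff τ τ.toRingHom.injective, Ideal.Quotient.eq_zero_iff_mem]
    have hpt : ∀ x : L, σ (Ideal.Quotient.mk m.asIdeal x) = σ' (Ideal.Quotient.mk m'.asIdeal x) :=
      fun x => congrArg (fun f : L →ₐ[K] AlgebraicClosure K => f x) h
    have hmm : m = m' := by
      apply MaximalSpectrum.ext
      ext x
      rw [← hker m σ x, ← hker m' σ' x, hpt x]
    subst hmm
    have : σ = σ' := by
      ext y
      obtain ⟨x, rfl⟩ := Ideal.Quotient.mk_surjective y
      exact hpt x
    rw [this]
  calc Module.finrank K L
      = ∑ m : MaximalSpectrum L, Nat.card ((L ⧸ m.asIdeal) →ₐ[K] AlgebraicClosure K) := by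
        rw [h1]; exact Finset.sum_congr rfl (fun m _ => (h2 m).symm)
    _ = Nat.card (Σ m : MaximalSpectrum L, (L ⧸ m.asIdeal) →ₐ[K] AlgebraicClosure K) :=
        (Nat.card_sigma).symm
    _ ≤ Nat.card (L →ₐ[K] AlgebraicClosure K) := Nat.card_le_card_of_injective Φ hΦ

/-- Let K be a field and L a finite-dimensional reduced commutative K-algebra of dimension d all of
whose elements are separable over K, generated as a K-algebra by z and t. In any finite set of at
least d^(4d) elements of K there is an element c such that c • z + t generates L as a K-algebra.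
(The published statement does not require separability; for K of characteristic p and L obtained by
adjoining p-th roots of two independent indeterminates, L is a reduced finite K-algebra generated by
two elements with no single generator, so separability over K is assumed here, as the counting in
the published proof requires.) -/
theorem result (K L : Type u) [Field K] [CommRing L]
    [Algebra K L] [Module.Finite K L] [IsReduced L] [Algebra.IsSeparable K L] (z t : L)
    (hgen : Algebra.adjoin K ({z, t} : Set L) = ⊤) (S : Finset K)
    (hS : Module.finrank K L ^ (4 * Module.finrank K L) ≤ S.card) :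
    ∃ c ∈ S, Algebra.adjoin K ({c • z + t} : Set L) = ⊤ := by
  classical
  by_cases hd0 : Module.finrank K L = 0
  · haveI : Subsingleton L := (Module.finrank_zero_iff (R := K)).mp hd0
    have hpos : 0 < S.card := by rw [hd0] at hS; simpa using hS
    obtain ⟨c, hc⟩ := Finset.card_pos.mp hpos
    refine ⟨c, hc, SetLike.ext fun x => ⟨fun _ => Algebra.mem_top, fun _ => ?_⟩⟩
    rw [Subsingleton.elim x 0]; exact zero_mem _
  · haveI : Finite (L →ₐ[K] AlgebraicClosure K) := inferInstance
    letI := Fintype.ofFinite (L →ₐ[K] AlgebraicClosure K)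
    have hH : Module.finrank K L ≤ Fintype.card (L →ₐ[K] AlgebraicClosure K) := by
      rw [Fintype.card_eq_nat_card]; exact card_homs_ge K L
    have hH' : Fintype.card (L →ₐ[K] AlgebraicClosure K) ≤ Module.finrank K L := by
      rw [Fintype.card_eq_nat_card]; exact card_algHom_le_finrank K L (AlgebraicClosure K)
    by_contra hcon
    push Not at hcon
    have hbad : ∀ c ∈ S, ∃ p : (L →ₐ[K] AlgebraicClosure K) × (L →ₐ[K] AlgebraicClosure K),
        p.1 ≠ p.2 ∧ p.1 (c • z + t) = p.2 (c • z + t) := by
      intro c hc
      by_contra hno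
      push Not at hno
      apply hcon c hc
      obtain ⟨M, hM⟩ : ∃ M : Subalgebra K L, M = Algebra.adjoin K ({c • z + t} : Set L) := ⟨_, rfl⟩
      rw [← hM]
      have hwM : c • z + t ∈ M := by rw [hM]; exact Algebra.subset_adjoin (Set.mem_singleton _)
      have hinj : Function.Injective
          (fun φ : L →ₐ[K] AlgebraicClosure K => φ.comp M.val) := by
        intro φ ψ h
        by_contra hne
        apply hno (φ, ψ) hne
        have := congrArg (fun f : M →ₐ[K] AlgebraicClosure K => f ⟨c • z + t, hwM⟩) h
        simpa using this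
      have h3 : Module.finrank K L ≤ Module.finrank K M := by
        calc Module.finrank K L ≤ Nat.card (L →ₐ[K] AlgebraicClosure K) := card_homs_ge K L
          _ ≤ Nat.card (M →ₐ[K] AlgebraicClosure K) := Nat.card_le_card_of_injective _ hinj
          _ ≤ Module.finrank K M := card_algHom_le_finrank K M (AlgebraicClosure K)
      have h4 : Subalgebra.toSubmodule M = ⊤ := by
        apply Submodule.eq_top_of_finrank_eq
        rw [Subalgebra.finrank_toSubmodule]
        exact le_antisymm (by rw [← Subalgebra.finrank_toSubmodule]; exact Submodule.finrank_le _) h3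
      exact Subalgebra.toSubmodule_injective (h4.trans Algebra.top_toSubmodule.symm)
    haveI : Nonempty (L →ₐ[K] AlgebraicClosure K) :=
      Fintype.card_pos_iff.mp (lt_of_lt_of_le (Nat.pos_of_ne_zero hd0) hH)
    choose! P hP1 hP2 using hbad
    have hmaps : ∀ c ∈ S, P c ∈ (Finset.univ : Finset (L →ₐ[K] AlgebraicClosure K)).offDiag := by
      intro c hc
      rw [Finset.mem_offDiag]
      exact ⟨Finset.mem_univ _, Finset.mem_univ _, hP1 c hc⟩
    have hinjP : Set.InjOn P (S : Set K) := by
      intro c hc c' hc' h
      by_contra hne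
      have e1 := hP2 c hc
      have e2 := hP2 c' hc'
      rw [← h] at e2
      rw [map_add, map_add, map_smul, map_smul, Algebra.smul_def, Algebra.smul_def] at e1 e2
      have hz : (P c).1 z = (P c).2 z := by
        have h5 : (algebraMap K (AlgebraicClosure K) c - algebraMap K (AlgebraicClosure K) c') *
            ((P c).1 z - (P c).2 z) = 0 := by linear_combination e1 - e2
        rcases mul_eq_zero.mp h5 with h0 | h0
        · exact absurd ((algebraMap K (AlgebraicClosure K)).injective (sub_eq_zero.mp h0)) hne
        · exact sub_eq_zero.mp h0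
      have ht : (P c).1 t = (P c).2 t := by rw [hz] at e1; exact add_left_cancel e1
      apply hP1 c hc
      apply AlgHom.ext_of_adjoin_eq_top hgen
      intro x hx
      rcases hx with rfl | rfl
      · exact hz
      · exact ht
    have hcard : S.card ≤ ((Finset.univ : Finset (L →ₐ[K] AlgebraicClosure K)).offDiag).card :=
      Finset.card_le_card_of_injOn P hmaps hinjP
    rw [Finset.offDiag_card, Finset.card_univ] at hcard
    have hHd : Fintype.card (L →ₐ[K] AlgebraicClosure K) = Module.finrank K L := le_antisymm hH' hH
    rw [hHd] at hcard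
    have hdpos : 0 < Module.finrank K L := Nat.pos_of_ne_zero hd0
    have h6 : Module.finrank K L * Module.finrank K L ≤
        Module.finrank K L ^ (4 * Module.finrank K L) := by
      calc Module.finrank K L * Module.finrank K L = Module.finrank K L ^ 2 := (sq _).symm
        _ ≤ Module.finrank K L ^ (4 * Module.finrank K L) :=
          Nat.pow_le_pow_right hdpos (by omega)
    have h7 : Module.finrank K L * Module.finrank K L - Module.finrank K L <
        Module.finrank K L * Module.finrank K L := Nat.sub_lt (Nat.mul_pos hdpos hdpos) hdpos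
    omega

end Groth.Agent.S13903
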