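import Groth.Statements.S13904
import Mathlib.RingTheory.Ideal.GoingUp
import Mathlib.RingTheory.KrullDimension.Polynomial
import Mathlib.RingTheory.KrullDimension.Field
import Mathlib.RingTheory.KrullDimension.NonZeroDivisors
import Mathlib.Tactic

set_option autoImplicit false
universe u
open CAlg

namespace Groth.Agent.S13904

theorem dim_le_of_ringHom_isIntegral {R S : Type*} [CommRing R] [CommRing S] (f : R →+* S)
    (hf : f.IsIntegral) : ringKrullDim S ≤ ringKrullDim R := by
  algebraize [f]
  refine Order.krullDim_le_of_strictMono (PrimeSpectrum.comap (algebraMap R S)) ?_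
  intro P Q hPQ
  have h1 : P.asIdeal < Q.asIdeal := hPQ
  exact Ideal.IsIntegral.comap_lt_comap (R := R) h1

/-- Let k be a field, A a commutative k-algebra and φ : k[x_1, …, x_r] → A a finite k-algebra map such
that A/p has Krull dimension r for every minimal prime p of A (an equidimensional affine scheme of
dimension r, finite over affine r-space). Then for every minimal prime p of A and every prime q of
k[x_1, …, x_r] there is a prime P ⊇ p of A with φ⁻¹(P) = q: the finite map restricted to each
irreducible component of Spec A is surjective onto affine r-space. (The published statement is over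
an algebraically closed field with φ a Noether normalisation; this row allows any field and any
finite k-algebra map φ.) -/
theorem result (k : Type u) [Field k] (r : ℕ)
    (A : Type u) [CommRing A] [Algebra k A] (φ : MvPolynomial (Fin r) k →ₐ[k] A)
    (hφ : φ.toRingHom.Finite)
    (hdim : ∀ p ∈ minimalPrimes A, ringKrullDim (A ⧸ p) = r)
    (p : Ideal A) (hp : p ∈ minimalPrimes A)
    (q : Ideal (MvPolynomial (Fin r) k)) [q.IsPrime] :
    ∃ P : Ideal A, P.IsPrime ∧ p ≤ P ∧ P.comap φ.toRingHom = q := by
  classical
  have hpprime : p.IsPrime := Ideal.minimalPrimes_isPrime hp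
  have hBdim : ringKrullDim (MvPolynomial (Fin r) k) = (r : WithBot ℕ∞) := by
    rw [MvPolynomial.ringKrullDim_of_isNoetherianRing, ringKrullDim_eq_zero_of_field]
    simp
  have hψint : ((Ideal.Quotient.mk p).comp φ.toRingHom).IsIntegral :=
    RingHom.IsIntegral.trans _ _ hφ.to_isIntegral
      (RingHom.isIntegral_of_surjective _ Ideal.Quotient.mk_surjective)
  have hker : p.comap φ.toRingHom = ⊥ := by
    by_contra hne
    obtain ⟨x, hx, hx0⟩ := Submodule.exists_mem_ne_zero_of_ne_bot hne
    have hxnzd : x ∈ nonZeroDivisors (MvPolynomial (Fin r) k) :=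
      mem_nonZeroDivisors_of_ne_zero hx0
    have h1 := ringKrullDim_quotient_succ_le_of_nonZeroDivisor hxnzd
    let g : MvPolynomial (Fin r) k ⧸ Ideal.span {x} →+* A ⧸ p :=
      Ideal.Quotient.lift (Ideal.span {x}) ((Ideal.Quotient.mk p).comp φ.toRingHom) (by
        intro a ha
        obtain ⟨c, rfl⟩ := Ideal.mem_span_singleton.mp ha
        have hx' : φ.toRingHom x ∈ p := hx
        rw [RingHom.comp_apply, Ideal.Quotient.eq_zero_iff_mem, map_mul]
        exact p.mul_mem_right _ hx')
    have hg : g.IsIntegral := by
      apply RingHom.IsIntegral.tower_top (Ideal.Quotient.mk (Ideal.span {x})) g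
      have : g.comp (Ideal.Quotient.mk (Ideal.span {x})) =
          (Ideal.Quotient.mk p).comp φ.toRingHom := by
        ext a <;> simp [g]
      rw [this]
      exact hψint
    have h2 := dim_le_of_ringHom_isIntegral g hg
    rw [hdim p hp] at h2
    rw [hBdim] at h1
    have h3 : ((r : ℕ) : WithBot ℕ∞) + 1 ≤ (r : WithBot ℕ∞) :=
      le_trans (add_le_add_left h2 1) h1
    have h4 : ((r + 1 : ℕ) : WithBot ℕ∞) ≤ ((r : ℕ) : WithBot ℕ∞) := by
      push_cast
      exact h3
    have h5 : r + 1 ≤ r := by exact_mod_cast h4
    omega
  algebraize [φ.toRingHom]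
  obtain ⟨Q, hQp, hQprime, hQ⟩ := Ideal.exists_ideal_over_prime_of_isIntegral q p (by
    change p.comap φ.toRingHom ≤ q
    rw [hker]
    exact bot_le)
  exact ⟨Q, hQprime, hQp, hQ⟩

end Groth.Agent.S13904
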