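import Groth.Statements.S13905
import Mathlib.LinearAlgebra.FiniteDimensional.Lemmas
import Mathlib.LinearAlgebra.FiniteDimensional.Basic
import Mathlib.Tactic

set_option autoImplicit false
universe u
open ProjGeom

namespace Groth.Agent.S13905


theorem finrank_inf_hyperplane {k V : Type*} [Field k] [AddCommGroup V] [Module k V]
    [FiniteDimensional k V]
    (n : ℕ) (hV : Module.finrank k V = n + 1) (H W : Submodule k V)
    (hH : Module.finrank k H = n)
    (hW : ¬ W ≤ H) : Module.finrank k ↥(H ⊓ W) + 1 = Module.finrank k W := by
  have hlt : H < H ⊔ W :=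
    lt_of_le_of_ne le_sup_left (fun h => hW (by rw [h]; exact le_sup_right))
  have h1 : Module.finrank k H < Module.finrank k ↥(H ⊔ W) :=
    Submodule.finrank_lt_finrank_of_lt hlt
  have h2 : Module.finrank k ↥(H ⊔ W) ≤ n + 1 := hV ▸ Submodule.finrank_le _
  have h3 := Submodule.finrank_sup_add_finrank_inf_eq H W
  omega

open W4c1etcurveeff3b in
/-- Hyperplanes of projective n-space in general position, in linear-algebra form (V of dimension n + 1
over a field k, hyperplanes as n-dimensional subspaces, points as nonzero vectors): if S is a finite
set of hyperplanes in general position with at least n members and H is a hyperplane containing none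
of the lines cut out by n members of S, then S with H added is again in general position. (The
published statement is for hyperplanes of P^n_k and closed points; a closed point lying on n + 1
members is automatically one of the rational points cut out by n of them, so the condition on
nonzero vectors of V is the same condition.) -/
theorem result (k V : Type u) [Field k]
    [AddCommGroup V] [Module k V] [DecidableEq (Submodule k V)] (n : ℕ) (S : Finset (Submodule k V))
    (hS : InGeneralPosition k V n S) (hn : n ≤ S.card) (H : Submodule k V)
    (hH : Module.finrank k H = n)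
    (havoid : ∀ T ⊆ S, T.card = n → ¬ (T.inf id ≤ H)) :
    InGeneralPosition k V n (insert H S) := by
  classical
  obtain ⟨hV, hdim, hinf, hpt⟩ := hS
  have hfd : FiniteDimensional k V := Module.finite_of_finrank_pos (by omega)
  by_cases hHS : H ∈ S
  · rw [Finset.insert_eq_of_mem hHS]; exact ⟨hV, hdim, hinf, hpt⟩
  have hF3 : ∀ T' ⊆ S, T'.card ≤ n → ¬ (T'.inf id ≤ H) := by
    intro T' hT' hc hle
    obtain ⟨T'', h1, h2, h3⟩ := Finset.exists_subsuperset_card_eq hT' hc hn
    exact havoid T'' h2 h3 (le_trans (Finset.inf_mono h1) hle)
  have hsplit : ∀ T ⊆ insert H S, H ∈ T →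
      (T.erase H ⊆ S ∧ T = insert H (T.erase H) ∧ (T.erase H).card + 1 = T.card) := by
    intro T hT hHT
    refine ⟨?_, (Finset.insert_erase hHT).symm, Finset.card_erase_add_one hHT⟩
    intro x hx
    have hx' := Finset.mem_erase.mp hx
    rcases Finset.mem_insert.mp (hT hx'.2) with h | h
    · exact absurd h hx'.1
    · exact h
  have hnot : ∀ T ⊆ insert H S, H ∉ T → T ⊆ S := by
    intro T hT hHT x hx
    rcases Finset.mem_insert.mp (hT hx) with h | h
    · exact absurd (h ▸ hx) hHT
    · exact h
  refine ⟨hV, ?_, ?_, ?_⟩
  · intro H' hH'
    rcases Finset.mem_insert.mp hH' with h | h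
    · rw [h]; exact hH
    · exact hdim H' h
  · intro T hT hc
    by_cases hHT : H ∈ T
    · obtain ⟨h1, h2, h3⟩ := hsplit T hT hHT
      have hc' : (T.erase H).card ≤ n := by omega
      have hW := hinf _ h1 hc'
      have hF4 := finrank_inf_hyperplane n hV H ((T.erase H).inf id) hH (hF3 _ h1 hc')
      have hinf_eq : T.inf id = H ⊓ (T.erase H).inf id := by
        conv_lhs => rw [h2]
        rw [Finset.inf_insert, id_eq]
      rw [hinf_eq]
      omega
    · exact hinf T (hnot T hT hHT) hc
  · intro v hv T hT hall
    by_cases hHT : H ∈ T
    · obtain ⟨h1, h2, h3⟩ := hsplit T hT hHT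
      have hall' : ∀ H' ∈ T.erase H, v ∈ H' :=
        fun H' hH' => hall H' (Finset.mem_of_mem_erase hH')
      have hc' := hpt v hv _ h1 hall'
      have hvH : v ∈ H := hall H hHT
      by_contra hcon
      have hcard : (T.erase H).card = n := by omega
      have hW : Module.finrank k ↥((T.erase H).inf id) = 1 := by
        rw [hinf _ h1 hc', hcard]; omega
      have hvW : v ∈ (T.erase H).inf id := by
        rw [Submodule.mem_finsetInf]
        intro i hi
        exact hall' i hi
      apply hF3 _ h1 hc'
      intro w hw
      have hv0 : (⟨v, hvW⟩ : ↥((T.erase H).inf id)) ≠ 0 := by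
        intro h0
        exact hv (congrArg Subtype.val h0)
      obtain ⟨c, hc⟩ := (finrank_eq_one_iff_of_nonzero' _ hv0).mp hW ⟨w, hw⟩
      have hwv : w = c • v := by
        have := congrArg Subtype.val hc
        simpa using this.symm
      rw [hwv]
      exact H.smul_mem c hvH
    · exact hpt v hv T (hnot T hT hHT) hall

end Groth.Agent.S13905
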