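import Groth.Statements.S13907
import Mathlib
import Groth.Agent.H21.ProjChain

set_option autoImplicit false
universe u
open ProjGeom

namespace Groth.Agent.S13907

open Groth.Agent.S10915 (irr mem_irr_iff irr_isMaximal le_irr_of_isHomogeneous)
open Groth.Agent.H21.ProjTop Groth.Agent.H21.ProjDim Groth.Agent.H21.ProjInter Groth.Agent.H21.ProjHyper Groth.Agent.H21.ProjChain

/-- Over an algebraically closed field k, let C be a nonempty irreducible closed subset of the
underlying space of projective n-space with homogeneous coordinates x_0, …, x_n, and for i ≤ n let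
L_i be the linear subspace where x_1, …, x_i vanish. Then there is an index i ≤ n with C ∩ L_i
nonempty and of topological Krull dimension zero. -/
theorem result (k : Type u) [Field k]
    [IsAlgClosed k] (n : ℕ) (C : Set (ProjectiveSpectrum (CohB1.polyGrading n k)))
    (hC : IsClosed C) (hirr : IsIrreducible C) :
    ∃ i : ℕ, i ≤ n ∧
      (C ∩ ProjectiveSpectrum.zeroLocus (CohB1.polyGrading n k)
          ((fun j : Fin (n + 1) => (MvPolynomial.X j : MvPolynomial (Fin (n + 1)) k)) ''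
            {j : Fin (n + 1) | 1 ≤ j.val ∧ j.val ≤ i})).Nonempty ∧
      topologicalKrullDim ↥(C ∩ ProjectiveSpectrum.zeroLocus (CohB1.polyGrading n k)
          ((fun j : Fin (n + 1) => (MvPolynomial.X j : MvPolynomial (Fin (n + 1)) k)) ''
            {j : Fin (n + 1) | 1 ≤ j.val ∧ j.val ≤ i})) = 0 := by
  classical
  obtain ⟨x, rfl⟩ := exists_eq_Ici_of_isIrreducible hC hirr
  have hWcl : ∀ i : ℕ, IsClosed ({y : ProjectiveSpectrum (CohB1.polyGrading n k) | x ≤ y} ∩
      ProjectiveSpectrum.zeroLocus (CohB1.polyGrading n k)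
        ((fun j : Fin (n + 1) => (MvPolynomial.X j : MvPolynomial (Fin (n + 1)) k)) ''
          {j : Fin (n + 1) | 1 ≤ j.val ∧ j.val ≤ i})) :=
    fun i => (isClosed_Ici x).inter (ProjectiveSpectrum.isClosed_zeroLocus _ _)
  have hmem : ∀ (i : ℕ) (z : ProjectiveSpectrum (CohB1.polyGrading n k)),
      z ∈ ({y : ProjectiveSpectrum (CohB1.polyGrading n k) | x ≤ y} ∩
        ProjectiveSpectrum.zeroLocus (CohB1.polyGrading n k)
          ((fun j : Fin (n + 1) => (MvPolynomial.X j : MvPolynomial (Fin (n + 1)) k)) ''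
            {j : Fin (n + 1) | 1 ≤ j.val ∧ j.val ≤ i})) ↔
      x ≤ z ∧ ∀ j : Fin (n + 1), 1 ≤ j.val → j.val ≤ i →
        (MvPolynomial.X j : MvPolynomial (Fin (n + 1)) k) ∈ z.asHomogeneousIdeal.toIdeal := by
    intro i z
    constructor
    · rintro ⟨h1, h2⟩
      rw [ProjectiveSpectrum.mem_zeroLocus] at h2
      exact ⟨h1, fun j hj1 hj2 => h2 ⟨j, ⟨hj1, hj2⟩, rfl⟩⟩
    · rintro ⟨h1, h2⟩
      refine ⟨h1, ?_⟩
      rw [ProjectiveSpectrum.mem_zeroLocus]
      rintro _ ⟨j, ⟨hj1, hj2⟩, rfl⟩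
      exact h2 j hj1 hj2
  have hW0 : ({y : ProjectiveSpectrum (CohB1.polyGrading n k) | x ≤ y} ∩
      ProjectiveSpectrum.zeroLocus (CohB1.polyGrading n k)
        ((fun j : Fin (n + 1) => (MvPolynomial.X j : MvPolynomial (Fin (n + 1)) k)) ''
          {j : Fin (n + 1) | 1 ≤ j.val ∧ j.val ≤ 0})).Nonempty :=
    ⟨x, (hmem 0 x).mpr ⟨le_refl x, fun j hj1 hj2 => by omega⟩⟩
  let Pr : ℕ → Prop := fun i => ({y : ProjectiveSpectrum (CohB1.polyGrading n k) | x ≤ y} ∩
      ProjectiveSpectrum.zeroLocus (CohB1.polyGrading n k)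
        ((fun j : Fin (n + 1) => (MvPolynomial.X j : MvPolynomial (Fin (n + 1)) k)) ''
          {j : Fin (n + 1) | 1 ≤ j.val ∧ j.val ≤ i})).Nonempty
  have hi_le : Nat.findGreatest Pr n ≤ n := Nat.findGreatest_le n
  have hi_ne : Pr (Nat.findGreatest Pr n) := Nat.findGreatest_spec (P := Pr) (Nat.zero_le n) hW0
  have hi_max : ∀ j, Nat.findGreatest Pr n < j → j ≤ n → ¬ Pr j :=
    fun j hij hjn => Nat.findGreatest_is_greatest hij hjn
  refine ⟨Nat.findGreatest Pr n, hi_le, hi_ne, ?_⟩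
  rw [topologicalKrullDim_subtype _ (hWcl _)]
  apply krullDim_subtype_eq_zero hi_ne
  intro z₁ hz₁ z₂ hz₂ hlt
  by_cases hin : Nat.findGreatest Pr n = n
  · obtain ⟨e, he, h2⟩ := dim_ge_two_of_lt hlt
    have hle1 := dim_quotient_le_one_of_vars (L := z₁.asHomogeneousIdeal.toIdeal)
      (fun j hj => ((hmem _ z₁).mp hz₁).2 j
        (Nat.pos_of_ne_zero (fun h => hj (Fin.ext h))) (by rw [hin]; omega))
    rw [he] at hle1
    have hle1' : e ≤ 1 := by exact_mod_cast hle1
    omega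
  · have hin' : Nat.findGreatest Pr n + 1 ≤ n := by omega
    obtain ⟨w, hw1, hw2⟩ := exists_point_ge_of_lt hlt
      (MvPolynomial.isHomogeneous_X k (⟨Nat.findGreatest Pr n + 1, by omega⟩ : Fin (n + 1))) one_pos
    apply hi_max (Nat.findGreatest Pr n + 1) (Nat.lt_succ_self _) hin'
    refine ⟨w, (hmem _ w).mpr ⟨le_trans ((hmem _ z₁).mp hz₁).1 hw1, fun j hj1 hj2 => ?_⟩⟩
    by_cases hj : j.val ≤ Nat.findGreatest Pr n
    · exact (toIdeal_le_iff _ _).mpr hw1 (((hmem _ z₁).mp hz₁).2 j hj1 hj)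
    · have hjeq : j = ⟨Nat.findGreatest Pr n + 1, by omega⟩ := Fin.ext (by simp only; omega)
      rw [hjeq]
      exact hw2

end Groth.Agent.S13907
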