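import Groth.Statements.S13912
import Mathlib

set_option autoImplicit false
set_option linter.style.haveILetI false
set_option linter.unusedSectionVars false
set_option linter.unusedVariables false
universe u
open PlaneConic

namespace Groth.Agent.S13912

section Helpers

open MvPolynomial

variable {k : Type u} [Field k]

theorem deg_one (d : Fin 3 →₀ ℕ) (hd : d.degree = 1) : ∃ j, d = Finsupp.single j 1 := by
  rw [Finsupp.degree_eq_sum, Fin.sum_univ_three] at hd
  have h0 : (d 0 = 1 ∧ d 1 = 0 ∧ d 2 = 0) ∨ (d 0 = 0 ∧ d 1 = 1 ∧ d 2 = 0) ∨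
      (d 0 = 0 ∧ d 1 = 0 ∧ d 2 = 1) := by omega
  rcases h0 with ⟨a, b, c⟩ | ⟨a, b, c⟩ | ⟨a, b, c⟩
  · refine ⟨0, Finsupp.ext fun i => ?_⟩
    fin_cases i <;> simp [a, b, c]
  · refine ⟨1, Finsupp.ext fun i => ?_⟩
    fin_cases i <;> simp [a, b, c]
  · refine ⟨2, Finsupp.ext fun i => ?_⟩
    fin_cases i <;> simp [a, b, c]

theorem rep (P : MvPolynomial (Fin 3) k) (hP : P.IsHomogeneous 1) :
    P = ∑ i, C (coeff (Finsupp.single i 1) P) * X i := by
  ext d
  rw [MvPolynomial.coeff_sum]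
  simp only [MvPolynomial.coeff_C_mul, MvPolynomial.coeff_X]
  by_cases hd : d.degree = 1
  · obtain ⟨j, rfl⟩ := deg_one d hd
    rw [Finset.sum_eq_single j]
    · simp
    · intro b _ hb
      rw [if_neg, mul_zero]
      intro h
      exact hb (Finsupp.single_left_injective one_ne_zero h)
    · intro h; exact absurd (Finset.mem_univ _) h
  · rw [hP.coeff_eq_zero hd]
    symm
    apply Finset.sum_eq_zero
    intro i _
    rw [if_neg, mul_zero]
    intro h
    apply hd
    rw [← h, Finsupp.degree_single]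

/-- the linear functional of a linear form. -/
noncomputable def lin (P : MvPolynomial (Fin 3) k) : (Fin 3 → k) →ₗ[k] k :=
  ∑ i, (coeff (Finsupp.single i 1) P) • (LinearMap.proj i : (Fin 3 → k) →ₗ[k] k)

theorem lin_apply (P : MvPolynomial (Fin 3) k) (hP : P.IsHomogeneous 1) (x : Fin 3 → k) :
    lin P x = eval x P := by
  conv_rhs => rw [rep P hP]
  simp [lin, LinearMap.sum_apply]

theorem exists_mul_of_ker {V : Type*} [AddCommGroup V] [Module k V] (f l : V →ₗ[k] k)
    (h : ∀ x, l x = 0 → f x = 0) : ∃ w : k, ∀ x, f x = w * l x := by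
  by_cases hl : ∀ x, l x = 0
  · exact ⟨0, fun x => by rw [h x (hl x), zero_mul]⟩
  · push Not at hl
    obtain ⟨x₁, hx₁⟩ := hl
    refine ⟨f x₁ / l x₁, fun x => ?_⟩
    have h1 : l (x - (l x / l x₁) • x₁) = 0 := by
      rw [map_sub, map_smul, smul_eq_mul, div_mul_cancel₀ _ hx₁, sub_self]
    have h2 := h _ h1
    rw [map_sub, map_smul, smul_eq_mul, sub_eq_zero] at h2
    rw [h2]; ring

theorem prod_zero {V : Type*} [AddCommGroup V] [Module k V] (P : V → Prop)
    (hadd : ∀ u u', P u → P u' → P (u + u')) (β γ : V →ₗ[k] k)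
    (h : ∀ u, P u → β u * γ u = 0) : (∀ u, P u → β u = 0) ∨ (∀ u, P u → γ u = 0) := by
  by_contra hcon
  push Not at hcon
  obtain ⟨⟨u, hu, hβ⟩, ⟨u', hu', hγ⟩⟩ := hcon
  have h1 : γ u = 0 := (mul_eq_zero.1 (h u hu)).resolve_left hβ
  have h2 : β u' = 0 := (mul_eq_zero.1 (h u' hu')).resolve_right hγ
  have h3 := h (u + u') (hadd u u' hu hu')
  rw [map_add, map_add, h1, h2, add_zero, zero_add] at h3
  exact (mul_ne_zero hβ hγ) h3

theorem H1 {V : Type*} [AddCommGroup V] [Module k V] (α β γ δ l : V →ₗ[k] k)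
    (hdet : ∀ x, l x = 0 → α x * δ x = β x * γ x)
    (x₁ : V) (hx₁ : l x₁ = 0) (hα₁ : α x₁ ≠ 0) (hβ : ∀ u, l u = 0 → α u = 0 → β u = 0) :
    ∃ c : k, ∀ x, l x = 0 → β x = c * α x ∧ δ x = c * γ x := by
  obtain ⟨c, hc⟩ : ∃ c, c = β x₁ / α x₁ := ⟨_, rfl⟩
  have hβc : ∀ x, l x = 0 → β x = c * α x := by
    intro x hx
    have h1 : l (x - (α x / α x₁) • x₁) = 0 := by
      rw [map_sub, map_smul, hx, hx₁, smul_zero, sub_zero]
    have h2 : α (x - (α x / α x₁) • x₁) = 0 := by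
      rw [map_sub, map_smul, smul_eq_mul, div_mul_cancel₀ _ hα₁, sub_self]
    have h3 := hβ _ h1 h2
    rw [map_sub, map_smul, smul_eq_mul, sub_eq_zero] at h3
    rw [h3, hc]; ring
  have hδ₁ : ∀ x, l x = 0 → α x ≠ 0 → δ x = c * γ x := by
    intro x hx hαx
    have h1 := hdet x hx
    rw [hβc x hx] at h1
    apply mul_left_cancel₀ hαx
    rw [h1]; ring
  refine ⟨c, fun x hx => ⟨hβc x hx, ?_⟩⟩
  by_cases hαx : α x = 0
  · have hx' : l (x + x₁) = 0 := by rw [map_add, hx, hx₁, add_zero]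
    have h1 := hδ₁ (x + x₁) hx' (by rw [map_add, hαx, zero_add]; exact hα₁)
    have h2 := hδ₁ x₁ hx₁ hα₁
    rw [map_add, map_add, h2] at h1
    linear_combination h1
  · exact hδ₁ x hx hαx

theorem lemL {V : Type*} [AddCommGroup V] [Module k V] (α β γ δ l : V →ₗ[k] k)
    (hdet : ∀ x, l x = 0 → α x * δ x = β x * γ x) :
    (∃ q0 q1 : k, (q0 ≠ 0 ∨ q1 ≠ 0) ∧
      ∀ x, l x = 0 → α x * q0 + β x * q1 = 0 ∧ γ x * q0 + δ x * q1 = 0) ∨
    (∃ p0 p1 : k, (p0 ≠ 0 ∨ p1 ≠ 0) ∧
      ∀ x, l x = 0 → p0 * α x + p1 * γ x = 0 ∧ p0 * β x + p1 * δ x = 0) := by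
  have hadd1 : ∀ u u' : V, l u = 0 → l u' = 0 → l (u + u') = 0 :=
    fun u u' h h' => by rw [map_add, h, h', add_zero]
  by_cases hα : ∀ x, l x = 0 → α x = 0
  · have hprod : ∀ u, l u = 0 → β u * γ u = 0 :=
      fun u hu => by rw [← hdet u hu, hα u hu, zero_mul]
    rcases prod_zero (fun u => l u = 0) hadd1 β γ hprod with hβ | hγ
    · right
      exact ⟨1, 0, Or.inl one_ne_zero, fun x hx => by rw [hα x hx, hβ x hx]; simp⟩
    · left
      exact ⟨1, 0, Or.inl one_ne_zero, fun x hx => by rw [hα x hx, hγ x hx]; simp⟩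
  · push Not at hα
    obtain ⟨x₁, hx₁, hα₁⟩ := hα
    have hadd2 : ∀ u u' : V, (l u = 0 ∧ α u = 0) → (l u' = 0 ∧ α u' = 0) →
        (l (u + u') = 0 ∧ α (u + u') = 0) :=
      fun u u' h h' => ⟨by rw [map_add, h.1, h'.1, add_zero], by rw [map_add, h.2, h'.2, add_zero]⟩
    have hprod : ∀ u, (l u = 0 ∧ α u = 0) → β u * γ u = 0 :=
      fun u hu => by rw [← hdet u hu.1, hu.2, zero_mul]
    rcases prod_zero (fun u => l u = 0 ∧ α u = 0) hadd2 β γ hprod with hβ | hγ
    · left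
      obtain ⟨c, hc⟩ := H1 α β γ δ l hdet x₁ hx₁ hα₁ (fun u h1 h2 => hβ u ⟨h1, h2⟩)
      refine ⟨c, -1, Or.inr (by simp), fun x hx => ?_⟩
      obtain ⟨h1, h2⟩ := hc x hx
      constructor
      · rw [h1]; ring
      · rw [h2]; ring
    · right
      have hdet' : ∀ x, l x = 0 → α x * δ x = γ x * β x :=
        fun x hx => by rw [hdet x hx, mul_comm]
      obtain ⟨c, hc⟩ := H1 α γ β δ l hdet' x₁ hx₁ hα₁ (fun u h1 h2 => hγ u ⟨h1, h2⟩)
      refine ⟨c, -1, Or.inr (by simp), fun x hx => ?_⟩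
      obtain ⟨h1, h2⟩ := hc x hx
      constructor
      · rw [h1]; ring
      · rw [h2]; ring

theorem keyK {V : Type*} [AddCommGroup V] [Module k V] (α β γ δ l l' : V →ₗ[k] k)
    (hdet : ∀ x, α x * δ x - β x * γ x = l x * l' x) :
    ∃ p0 p1 q0 q1 : k, (p0 ≠ 0 ∨ p1 ≠ 0) ∧ (q0 ≠ 0 ∨ q1 ≠ 0) ∧
      ∀ x, p0 * (α x * q0 + β x * q1) + p1 * (γ x * q0 + δ x * q1) = 0 := by
  have hdet' : ∀ x, l x = 0 → α x * δ x = β x * γ x := fun x hx => by
    have := hdet x
    rw [hx, zero_mul, sub_eq_zero] at this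
    exact this
  rcases lemL α β γ δ l hdet' with ⟨q0, q1, hq, hker⟩ | ⟨p0, p1, hp, hker⟩
  · obtain ⟨w₀, hw₀⟩ := exists_mul_of_ker (q0 • α + q1 • β) l (fun x hx => by
      have := (hker x hx).1
      simp only [LinearMap.add_apply, LinearMap.smul_apply, smul_eq_mul]
      linear_combination this)
    obtain ⟨w₁, hw₁⟩ := exists_mul_of_ker (q0 • γ + q1 • δ) l (fun x hx => by
      have := (hker x hx).2
      simp only [LinearMap.add_apply, LinearMap.smul_apply, smul_eq_mul]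
      linear_combination this)
    simp only [LinearMap.add_apply, LinearMap.smul_apply, smul_eq_mul] at hw₀ hw₁
    by_cases hw : w₀ = 0 ∧ w₁ = 0
    · refine ⟨1, 0, q0, q1, Or.inl one_ne_zero, hq, fun x => ?_⟩
      have h0 := hw₀ x
      rw [hw.1, zero_mul] at h0
      linear_combination h0
    · refine ⟨w₁, -w₀, q0, q1, ?_, hq, fun x => ?_⟩
      · by_contra hcon
        push Not at hcon
        exact hw ⟨by simpa using hcon.2, hcon.1⟩
      · linear_combination w₁ * hw₀ x - w₀ * hw₁ x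
  · obtain ⟨w₀, hw₀⟩ := exists_mul_of_ker (p0 • α + p1 • γ) l (fun x hx => by
      have := (hker x hx).1
      simp only [LinearMap.add_apply, LinearMap.smul_apply, smul_eq_mul]
      linear_combination this)
    obtain ⟨w₁, hw₁⟩ := exists_mul_of_ker (p0 • β + p1 • δ) l (fun x hx => by
      have := (hker x hx).2
      simp only [LinearMap.add_apply, LinearMap.smul_apply, smul_eq_mul]
      linear_combination this)
    simp only [LinearMap.add_apply, LinearMap.smul_apply, smul_eq_mul] at hw₀ hw₁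
    by_cases hw : w₀ = 0 ∧ w₁ = 0
    · refine ⟨p0, p1, 1, 0, hp, Or.inl one_ne_zero, fun x => ?_⟩
      have h0 := hw₀ x
      rw [hw.1, zero_mul] at h0
      linear_combination h0
    · refine ⟨p0, p1, w₁, -w₀, hp, ?_, fun x => ?_⟩
      · by_contra hcon
        push Not at hcon
        exact hw ⟨by simpa using hcon.2, hcon.1⟩
      · linear_combination w₁ * hw₀ x - w₀ * hw₁ x

theorem exists_gl_row (p0 p1 : k) (hp : p0 ≠ 0 ∨ p1 ≠ 0) :
    ∃ g : GL (Fin 2) k, g.val 0 0 = p0 ∧ g.val 0 1 = p1 := by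
  by_cases h0 : p0 = 0
  · have h1 : p1 ≠ 0 := hp.resolve_left (not_not.2 h0)
    have hdet : IsUnit (Matrix.det !![p0, p1; 1, 0]) := by
      rw [Matrix.det_fin_two_of]; simp [h1]
    exact ⟨⟨!![p0, p1; 1, 0], (!![p0, p1; 1, 0])⁻¹, Matrix.mul_nonsing_inv _ hdet,
      Matrix.nonsing_inv_mul _ hdet⟩, by simp, by simp⟩
  · have hdet : IsUnit (Matrix.det !![p0, p1; 0, 1]) := by
      rw [Matrix.det_fin_two_of]; simp [h0]
    exact ⟨⟨!![p0, p1; 0, 1], (!![p0, p1; 0, 1])⁻¹, Matrix.mul_nonsing_inv _ hdet,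
      Matrix.nonsing_inv_mul _ hdet⟩, by simp, by simp⟩

theorem exists_gl_col (q0 q1 : k) (hq : q0 ≠ 0 ∨ q1 ≠ 0) :
    ∃ h : GL (Fin 2) k, h.val 0 1 = q0 ∧ h.val 1 1 = q1 := by
  by_cases h0 : q0 = 0
  · have h1 : q1 ≠ 0 := hq.resolve_left (not_not.2 h0)
    have hdet : IsUnit (Matrix.det !![1, q0; 0, q1]) := by
      rw [Matrix.det_fin_two_of]; simp [h1]
    exact ⟨⟨!![1, q0; 0, q1], (!![1, q0; 0, q1])⁻¹, Matrix.mul_nonsing_inv _ hdet,
      Matrix.nonsing_inv_mul _ hdet⟩, by simp, by simp⟩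
  · have hdet : IsUnit (Matrix.det !![0, q0; 1, q1]) := by
      rw [Matrix.det_fin_two_of]; simp [h0]
    exact ⟨⟨!![0, q0; 1, q1], (!![0, q0; 1, q1])⁻¹, Matrix.mul_nonsing_inv _ hdet,
      Matrix.nonsing_inv_mul _ hdet⟩, by simp, by simp⟩

theorem hom_entry (M : Matrix (Fin 2) (Fin 2) (MvPolynomial (Fin 3) k))
    (hM : ∀ a b : Fin 2, (M a b).IsHomogeneous 1) (G H : Matrix (Fin 2) (Fin 2) k) (i j : Fin 2) :
    (((C : k →+* MvPolynomial (Fin 3) k).mapMatrix G * M *
      (C : k →+* MvPolynomial (Fin 3) k).mapMatrix H) i j).IsHomogeneous 1 := by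
  rw [Matrix.mul_apply]
  apply IsHomogeneous.sum
  intro b _
  have h1 : (((C : k →+* MvPolynomial (Fin 3) k).mapMatrix G * M) i b).IsHomogeneous 1 := by
    rw [Matrix.mul_apply]
    apply IsHomogeneous.sum
    intro a _
    have := (isHomogeneous_C (Fin 3) (G i a)).mul (hM a b)
    simpa [RingHom.mapMatrix_apply] using this
  have := h1.mul (isHomogeneous_C (Fin 3) (H b j))
  simpa [RingHom.mapMatrix_apply] using this

end Helpers

/-- Over an algebraically closed field k of characteristic zero, for a 2 × 2 matrix M of linear forms in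
k[X_0, X_1, X_2] (entries homogeneous of degree 1, zero allowed), det M is a product of two linear
forms if and only if M can be brought by invertible scalar row and column operations g M h, with g,
h in GL_2(k), to a matrix with zero upper-right entry. (The published statement concerns matrices
with nonzero determinant; this row also allows determinant zero, where both sides hold.) -/
theorem result (k : Type u) [Field k] [IsAlgClosed k] [CharZero k]
    (M : Matrix (Fin 2) (Fin 2) (MvPolynomial (Fin 3) k)) (hM : ∀ a b : Fin 2, (M a b).IsHomogeneous 1) :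
    (∃ l₁ l₂ : MvPolynomial (Fin 3) k, l₁.IsHomogeneous 1 ∧ l₂.IsHomogeneous 1 ∧ M.det = l₁ * l₂) ↔
    ∃ g h : GL (Fin 2) k,
      ((MvPolynomial.C : k →+* MvPolynomial (Fin 3) k).mapMatrix g.val * M *
        (MvPolynomial.C : k →+* MvPolynomial (Fin 3) k).mapMatrix h.val) 0 1 = 0 := by
  constructor
  · rintro ⟨l₁, l₂, hl₁, hl₂, hdet⟩
    have hdetx : ∀ x : Fin 3 → k, lin (M 0 0) x * lin (M 1 1) x - lin (M 0 1) x * lin (M 1 0) x
        = lin l₁ x * lin l₂ x := by
      intro x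
      rw [lin_apply _ (hM 0 0), lin_apply _ (hM 0 1), lin_apply _ (hM 1 0),
        lin_apply _ (hM 1 1), lin_apply _ hl₁, lin_apply _ hl₂]
      have := congrArg (MvPolynomial.eval x) hdet
      rw [Matrix.det_fin_two, map_sub, map_mul, map_mul, map_mul] at this
      exact this
    obtain ⟨p0, p1, q0, q1, hp, hq, hK⟩ := keyK (V := Fin 3 → k) (lin (M 0 0)) (lin (M 0 1))
      (lin (M 1 0)) (lin (M 1 1)) (lin l₁) (lin l₂) hdetx
    obtain ⟨g, hg0, hg1⟩ := exists_gl_row p0 p1 hp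
    obtain ⟨h, hh0, hh1⟩ := exists_gl_col q0 q1 hq
    refine ⟨g, h, ?_⟩
    haveI : Infinite k := inferInstance
    apply MvPolynomial.funext
    intro x
    simp only [Matrix.mul_apply, Fin.sum_univ_two, RingHom.mapMatrix_apply, Matrix.map_apply,
      hg0, hg1, hh0, hh1, map_add, map_mul, MvPolynomial.eval_C, map_zero]
    have := hK x
    rw [lin_apply _ (hM 0 0), lin_apply _ (hM 0 1), lin_apply _ (hM 1 0),
      lin_apply _ (hM 1 1)] at this
    linear_combination this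
  · rintro ⟨g, h, hz⟩
    have hdg : g.val.det ≠ 0 := ((Matrix.isUnit_iff_isUnit_det _).1 g.isUnit).ne_zero
    have hdh : h.val.det ≠ 0 := ((Matrix.isUnit_iff_isUnit_det _).1 h.isUnit).ne_zero
    have hom := hom_entry M hM g.val h.val
    obtain ⟨M', hM'⟩ : ∃ M' : Matrix (Fin 2) (Fin 2) (MvPolynomial (Fin 3) k),
        M' = (MvPolynomial.C : k →+* MvPolynomial (Fin 3) k).mapMatrix g.val * M *
          (MvPolynomial.C : k →+* MvPolynomial (Fin 3) k).mapMatrix h.val := ⟨_, rfl⟩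
    rw [← hM'] at hz hom
    have hdetM' : M'.det = M' 0 0 * M' 1 1 := by
      rw [Matrix.det_fin_two, hz, zero_mul, sub_zero]
    have hdet2 : M'.det = MvPolynomial.C g.val.det * M.det * MvPolynomial.C h.val.det := by
      rw [hM', Matrix.det_mul, Matrix.det_mul, ← RingHom.map_det, ← RingHom.map_det]
    have h1 : (MvPolynomial.C (g.val.det)⁻¹ : MvPolynomial (Fin 3) k) * MvPolynomial.C g.val.det
        = 1 := by rw [← map_mul, inv_mul_cancel₀ hdg, map_one]
    have h2 : (MvPolynomial.C h.val.det : MvPolynomial (Fin 3) k) * MvPolynomial.C (h.val.det)⁻¹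
        = 1 := by rw [← map_mul, mul_inv_cancel₀ hdh, map_one]
    refine ⟨MvPolynomial.C ((g.val.det)⁻¹ * (h.val.det)⁻¹) * M' 0 0, M' 1 1, ?_, hom 1 1, ?_⟩
    · have := (MvPolynomial.isHomogeneous_C (Fin 3) ((g.val.det)⁻¹ * (h.val.det)⁻¹)).mul (hom 0 0)
      simpa using this
    · rw [mul_assoc, ← hdetM', hdet2, map_mul]
      linear_combination (-M.det * MvPolynomial.C h.val.det * MvPolynomial.C (h.val.det)⁻¹) * h1 +
        (-M.det) * h2

end Groth.Agent.S13912
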