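import Groth.Statements.S13913
import Mathlib.RingTheory.MvPolynomial.EulerIdentity
import Mathlib.Tactic

set_option autoImplicit false
universe u
open PlaneCubic

namespace Groth.Agent.S13913

/-- Over an algebraically closed field of characteristic zero, for linearly independent linear forms z₁,
z₂ and quadratic forms q₁, q₂ in three variables and a nonzero common zero p of z₁ and z₂, the point
p is a singular point of the plane cubic z₁q₂ − z₂q₁ = 0 (all three partial derivatives vanish at p)
if and only if q₁ and q₂ both vanish at p. -/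
theorem result (k : Type u) [Field k] [IsAlgClosed k] [CharZero k]
    (z₁ z₂ q₁ q₂ : MvPolynomial (Fin 3) k) (hz₁ : z₁.IsHomogeneous 1) (hz₂ : z₂.IsHomogeneous 1)
    (hq₁ : q₁.IsHomogeneous 2) (hq₂ : q₂.IsHomogeneous 2) (hind : LinearIndependent k ![z₁, z₂])
    (p : Fin 3 → k) (hp : p ≠ 0) (hp₁ : MvPolynomial.eval p z₁ = 0) (hp₂ : MvPolynomial.eval p z₂ = 0) :
    (∀ i : Fin 3, MvPolynomial.eval p (MvPolynomial.pderiv i (z₁ * q₂ - z₂ * q₁)) = 0) ↔
      (MvPolynomial.eval p q₁ = 0 ∧ MvPolynomial.eval p q₂ = 0) := by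
  have hexp : ∀ i : Fin 3, MvPolynomial.eval p (MvPolynomial.pderiv i (z₁ * q₂ - z₂ * q₁)) =
      MvPolynomial.eval p q₂ * MvPolynomial.eval p (MvPolynomial.pderiv i z₁) -
        MvPolynomial.eval p q₁ * MvPolynomial.eval p (MvPolynomial.pderiv i z₂) := by
    intro i
    simp only [map_sub, Derivation.leibniz, map_add, smul_eq_mul, map_mul, hp₁, hp₂, zero_mul,
      zero_add]
  constructor
  · intro h
    have hw : (MvPolynomial.eval p q₂ • z₁ + (-MvPolynomial.eval p q₁) • z₂).IsHomogeneous 1 := by
      rw [← MvPolynomial.mem_homogeneousSubmodule]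
      exact Submodule.add_mem _ (Submodule.smul_mem _ _ hz₁) (Submodule.smul_mem _ _ hz₂)
    have hpd : ∀ i : Fin 3,
        MvPolynomial.pderiv i (MvPolynomial.eval p q₂ • z₁ + (-MvPolynomial.eval p q₁) • z₂) = 0 := by
      intro i
      have h0 := hw.pderiv (i := i)
      rw [show 1 - 1 = 0 from rfl, ← MvPolynomial.totalDegree_zero_iff_isHomogeneous,
        MvPolynomial.totalDegree_eq_zero_iff_eq_C] at h0
      have h1 : MvPolynomial.eval p (MvPolynomial.pderiv i
          (MvPolynomial.eval p q₂ • z₁ + (-MvPolynomial.eval p q₁) • z₂)) = 0 := by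
        have h2 := h i
        rw [hexp i] at h2
        simp only [map_add, Derivation.map_smul, MvPolynomial.smul_eval]
        linear_combination h2
      rw [h0, MvPolynomial.eval_C] at h1
      rw [h0, h1, map_zero]
    have heuler := hw.sum_X_mul_pderiv
    simp only [hpd, mul_zero, Finset.sum_const_zero, one_smul] at heuler
    have := (LinearIndependent.pair_iff.mp hind) _ _ heuler.symm
    exact ⟨neg_eq_zero.mp this.2, this.1⟩
  · rintro ⟨h1, h2⟩ i
    rw [hexp i, h1, h2, zero_mul, zero_mul, sub_zero]

end Groth.Agent.S13913
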