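import Groth.Statements.S13918
import Mathlib
import Groth.Agent.H88.RamP1

set_option autoImplicit false
universe u
open W4c1limliniiii

namespace Groth.Agent.S13918
open Groth.Agent.H88.RamP1

open Polynomial in
/-- Over an algebraically closed field of characteristic p (zero allowed), fix three distinct points of
the affine line, an integer d and ramification indices e_i with 2 ≤ e_i ≤ d, each e_i prime to p,
and ∑ (e_i − 1) = 2d − 2. Then there is at most one separable self-map of the projective line of
degree d, taken up to automorphisms of the target, with ramification index exactly e_i at the i-th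
point — such maps being encoded as base-point-free separable pencils of polynomials of degree at
most d — and there is none precisely when some two-dimensional space of polynomials of degree at
most d with identically vanishing Wronskian contains, for each i, a non-zero member vanishing to
order at least e_i at the i-th point (an inseparable pencil, base points allowed, with at least the
required ramification). (The three points are taken on the affine line, which is no restriction up
to a change of coordinate; the assertion that the solution, when it exists, is a reduced point of
the parameter scheme is not restated.) -/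
theorem result (k : Type u) [Field k] [IsAlgClosed k]
    (p : ℕ) [CharP k p] (d : ℕ) (P : Fin 3 → k) (hP : Function.Injective P)
    (e : Fin 3 → ℕ) (he : W4c1limliniiii.Admissible p d e) :
    (W4c1limliniiii.ramMaps d P e).Subsingleton ∧
      (W4c1limliniiii.ramMaps d P e = ∅ ↔
        ∃ V : Submodule k k[X], V ≤ Polynomial.degreeLE k d ∧ Module.finrank k V = 2 ∧
          ¬ W4c1limliniiii.IsSeparable V ∧
          ∀ i, ∃ s ∈ V, s ≠ 0 ∧ e i ≤ Polynomial.rootMultiplicity (P i) s) := by
  have D := Data.of_admissible hP he
  refine ⟨ramMaps_subsingleton D, ⟨fun hempty => ?_, ?_⟩⟩
  · obtain ⟨V₀, hgood, hinsep⟩ := exists_insep_of_empty D hempty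
    refine ⟨V₀, hgood.1, hgood.2.1, hinsep, fun i => ?_⟩
    obtain ⟨s, hs, hs0, hdvd⟩ := hgood.2.2 i
    exact ⟨s, hs, hs0, (Polynomial.le_rootMultiplicity_iff hs0).mpr hdvd⟩
  · rintro ⟨V₀, hle, hfin, hinsep, hmem⟩
    rw [Set.eq_empty_iff_forall_notMem]
    intro V hV
    refine not_mem_of_insep D ⟨hle, hfin, fun i => ?_⟩ hinsep hV
    obtain ⟨s, hs, hs0, hm⟩ := hmem i
    exact ⟨s, hs, hs0, (Polynomial.le_rootMultiplicity_iff hs0).mp hm⟩

end Groth.Agent.S13918
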