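import Groth.Statements.S13919
import Mathlib
import Groth.Agent.H88.RamP1

set_option autoImplicit false
universe u
open W4c1limliniiii

namespace Groth.Agent.S13919
open Groth.Agent.H88.RamP1

open Polynomial in
/-- Over an algebraically closed field of characteristic p (zero allowed), fix three distinct points of
the affine line and indices 2 ≤ e_i ≤ d prime to p with ∑ (e_i − 1) = 2d − 2, and encode self-maps
of the projective line up to automorphisms of the target as base-point-free separable pencils of
polynomials of degree at most d. If p is positive, the first two indices are less than p and p ≤ d,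
then there is no separable degree-d self-map of the projective line with ramification index exactly
e_i at the i-th point; if p = 0 or d < p there is exactly one up to automorphisms of the target.
(The first clause includes the case d = p; with it, when all e_i are less than p, the three-point
count is one map if p = 0 or p > d and none otherwise.) -/
theorem result (k : Type u) [Field k] [IsAlgClosed k]
    (p : ℕ) [CharP k p] (d : ℕ) (P : Fin 3 → k) (hP : Function.Injective P)
    (e : Fin 3 → ℕ) (he : W4c1limliniiii.Admissible p d e) :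
    (p ≠ 0 → e 0 < p → e 1 < p → p ≤ d → W4c1limliniiii.ramMaps d P e = ∅) ∧
      (p = 0 ∨ d < p → ∃ V : Submodule k k[X], W4c1limliniiii.ramMaps d P e = {V}) := by
  have D := Data.of_admissible hP he
  refine ⟨fun hp0 h0 h1 hpd => ?_, fun hp => ?_⟩
  · have hprime : p.Prime := (CharP.char_is_prime_or_zero k p).resolve_right hp0
    have hfact : Fact p.Prime := ⟨hprime⟩
    obtain ⟨u, hu⟩ : ∃ u : k[X], u = (X - C (P 2)) ^ (e 2 - p) := ⟨_, rfl⟩
    have hu0 : u ≠ 0 := by rw [hu]; exact pow_ne_zero _ (X_sub_C_ne_zero _)
    have hudeg : u.natDegree = e 2 - p := by rw [hu]; exact natDegree_pow_X_sub_C' _ _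
    have hXp0 : (X ^ p : k[X]) ≠ 0 := pow_ne_zero _ X_ne_zero
    have hkey : ∀ c : k, u * (X - C c) ^ p = (-(c ^ p)) • u + (1 : k) • (u * X ^ p) := by
      intro c
      rw [sub_pow_char (X : k[X]) (C c), smul_eq_C_mul, one_smul, C_neg, C_pow]
      ring
    have hd2 := D.le_d 2
    have hli : ∀ a b : k, a • u + b • (u * X ^ p) = 0 → a = 0 ∧ b = 0 := by
      intro a b hab
      have h1 : u * (C a + C b * X ^ p) = 0 := by
        rw [← hab, smul_eq_C_mul, smul_eq_C_mul]
        ring
      have hz : C a + C b * X ^ p = 0 := (mul_eq_zero.mp h1).resolve_left hu0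
      have ha : a = 0 := by
        have h := congrArg (fun q : k[X] => q.coeff 0) hz
        simp only [coeff_add, coeff_C_zero, coeff_C_mul, coeff_X_pow, coeff_zero] at h
        rw [if_neg (fun h0 : 0 = p => hp0 h0.symm), mul_zero, add_zero] at h
        exact h
      subst ha
      rw [C_0, zero_add] at hz
      have hb : C b = 0 := (mul_eq_zero.mp hz).resolve_right hXp0
      exact ⟨rfl, C_eq_zero.mp hb⟩
    have hgood : Good d P e (Submodule.span k (Set.range ![u, u * X ^ p])) := by
      refine ⟨?_, ?_, ?_⟩
      · rw [Submodule.span_le]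
        rintro _ ⟨i, rfl⟩
        rcases (by decide : ∀ x : Fin 2, x = 0 ∨ x = 1) i with rfl | rfl
        · refine mem_degreeLE_of_natDegree_le ?_
          show u.natDegree ≤ d
          rw [hudeg]
          omega
        · refine mem_degreeLE_of_natDegree_le ?_
          show (u * X ^ p).natDegree ≤ d
          rw [natDegree_mul hu0 hXp0, natDegree_X_pow, hudeg]
          omega
      · rw [finrank_span_eq_card (LinearIndependent.pair_iff.mpr hli), Fintype.card_fin]
      · intro i
        refine ⟨u * (X - C (P i)) ^ p, ?_, mul_ne_zero hu0 (pow_ne_zero _ (X_sub_C_ne_zero _)), ?_⟩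
        · rw [hkey]
          exact mem_span_pair' _ _ _ _
        · rcases fin3 i with rfl | rfl | rfl
          · exact Dvd.dvd.mul_left (pow_dvd_pow _ h0.le) _
          · exact Dvd.dvd.mul_left (pow_dvd_pow _ h1.le) _
          · rw [hu, ← pow_add]
            exact pow_dvd_pow _ (by omega)
    have hinsep : ¬ W4c1limliniiii.IsSeparable (Submodule.span k (Set.range ![u, u * X ^ p])) := by
      rintro ⟨F, hF, G, hG, hFG⟩
      obtain ⟨a, b, rfl⟩ := exists_of_mem_span_pair' _ _ F hF
      obtain ⟨a', b', rfl⟩ := exists_of_mem_span_pair' _ _ G hG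
      rw [wronskian_comb] at hFG
      have hW : wronskian u (u * X ^ p) = 0 := by
        have hd : derivative (X ^ p : k[X]) = 0 := by
          rw [derivative_X_pow, CharP.cast_eq_zero k p, C_0, zero_mul]
        simp only [wronskian, derivative_mul, hd]
        ring
      rw [hW, mul_zero] at hFG
      exact hFG rfl
    rw [Set.eq_empty_iff_forall_notMem]
    intro V hV
    exact not_mem_of_insep D hgood hinsep hV
  · have hne : (W4c1limliniiii.ramMaps d P e).Nonempty := by
      by_contra hne
      rw [Set.not_nonempty_iff_eq_empty] at hne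
      obtain ⟨V₀, hgood, hinsep⟩ := exists_insep_of_empty D hne
      obtain ⟨G0, G1, hG0V, hG1V, hG00, hG10, _, d0, d1, d2, hli, hspan⟩ := hgood.normal D
      have hdeg : ∀ s ∈ V₀, s.natDegree ≤ d :=
        fun s hs => natDegree_le_of_mem_degreeLE (hgood.1 hs)
      exact hinsep ⟨G0, hG0V, G1, hG1V,
        wronskian_ne_zero_of_indep p d hp G0 G1 (hdeg _ hG0V) (hdeg _ hG1V) hli⟩
    obtain ⟨V, hV⟩ := hne
    exact ⟨V, (ramMaps_subsingleton D).eq_singleton_of_mem hV⟩

end Groth.Agent.S13919
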