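import Groth.Statements.S19560
import Mathlib

set_option autoImplicit false
universe u
open W4c1limliniiii

namespace Groth.Agent.S19560

open Polynomial in
theorem wron_mult (k : Type u) [Field k] (T s1 : k[X]) (a : k) (hT : T.eval a ≠ 0) (hs1 : s1 ≠ 0)
    (hs1a : s1.eval a = 0) (hW : wronskian T s1 ≠ 0) :
    (((s1.rootMultiplicity a : ℕ) : k) ≠ 0 →
      (wronskian T s1).rootMultiplicity a + 1 = s1.rootMultiplicity a) ∧
    (((s1.rootMultiplicity a : ℕ) : k) = 0 →
      s1.rootMultiplicity a ≤ (wronskian T s1).rootMultiplicity a) := by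
  obtain ⟨u, hu, hudvd⟩ := Polynomial.exists_eq_pow_rootMultiplicity_mul_and_not_dvd s1 hs1 a
  have hmpos : 0 < s1.rootMultiplicity a := (Polynomial.rootMultiplicity_pos hs1).mpr hs1a
  generalize s1.rootMultiplicity a = m at hu hmpos ⊢
  obtain ⟨m', rfl⟩ : ∃ m', m = m' + 1 := ⟨m - 1, by omega⟩
  have hua : u.eval a ≠ 0 := by
    intro h; exact hudvd (Polynomial.dvd_iff_isRoot.mpr h)
  have hder : derivative s1 =
      (X - C a) ^ m' * (C ((m' + 1 : ℕ) : k) * u + (X - C a) * derivative u) := by
    rw [hu, derivative_mul, Polynomial.derivative_X_sub_C_pow, Nat.add_sub_cancel]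
    ring
  have hWeq : wronskian T s1 = (X - C a) ^ m' *
      (C ((m' + 1 : ℕ) : k) * T * u + (X - C a) * (T * derivative u - derivative T * u)) := by
    rw [wronskian, hder]
    rw [hu]
    ring
  set R := C ((m' + 1 : ℕ) : k) * T * u + (X - C a) * (T * derivative u - derivative T * u) with hR
  have hRa : R.eval a = ((m' + 1 : ℕ) : k) * T.eval a * u.eval a := by
    simp [hR]
  constructor
  · intro hmk
    have hRa' : R.eval a ≠ 0 := by
      rw [hRa]; exact mul_ne_zero (mul_ne_zero hmk hT) hua
    have hRne : ¬ IsRoot R a := hRa'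
    rw [hWeq, rootMultiplicity_mul (by rw [← hWeq]; exact hW), rootMultiplicity_X_sub_C_pow,
      rootMultiplicity_eq_zero hRne]
  · intro hmk
    rw [le_rootMultiplicity_iff hW, hWeq]
    have hR2 : R = (X - C a) * (T * derivative u - derivative T * u) := by
      rw [hR, hmk]; simp
    rw [hR2, pow_succ]
    exact ⟨T * derivative u - derivative T * u, by ring⟩

open Polynomial in
theorem core (k : Type u) [Field k] (p : ℕ) [CharP k p] (W T s1 : k[X]) (a c : k) (hc : c ≠ 0)
    (hW : W ≠ 0) (hT : T.eval a ≠ 0) (hs1a : s1.eval a = 0) (hWT : wronskian T s1 = C c * W)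
    (e : ℕ) (he : W.rootMultiplicity a + 1 = e) (hp : p = 0 ∨ e - 1 < p) :
    s1 ≠ 0 ∧ s1.rootMultiplicity a = e ∧ ¬ p ∣ e := by
  have hCW : C c * W ≠ 0 := mul_ne_zero (by simpa using hc) hW
  have hWT0 : wronskian T s1 ≠ 0 := by rw [hWT]; exact hCW
  have hs1 : s1 ≠ 0 := by
    rintro rfl
    exact hWT0 (wronskian_zero_right T)
  have hmult : (wronskian T s1).rootMultiplicity a = W.rootMultiplicity a := by
    rw [hWT, rootMultiplicity_mul hCW, rootMultiplicity_C, zero_add]
  obtain ⟨h1, h2⟩ := wron_mult k T s1 a hT hs1 hs1a hWT0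
  have hmpos : 0 < s1.rootMultiplicity a := (Polynomial.rootMultiplicity_pos hs1).mpr hs1a
  by_cases hmk : ((s1.rootMultiplicity a : ℕ) : k) = 0
  · exfalso
    have hle := h2 hmk
    rw [hmult] at hle
    have hdvd : p ∣ s1.rootMultiplicity a := (CharP.cast_eq_zero_iff k p _).mp hmk
    rcases hp with hp | hp
    · subst hp
      have := Nat.eq_zero_of_zero_dvd hdvd
      omega
    · have := Nat.le_of_dvd hmpos hdvd
      omega
  · have h3 := h1 hmk
    rw [hmult] at h3
    refine ⟨hs1, by omega, ?_⟩
    intro hdvd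
    apply hmk
    have : s1.rootMultiplicity a = e := by omega
    rw [this]
    exact (CharP.cast_eq_zero_iff k p _).mpr hdvd

open Polynomial in
theorem part2 (k : Type u) [Field k] (s s1 : k[X]) (a t c' : k) (ht : t ≠ 0) (hs : s ≠ 0)
    (h : C t * s = C c' * s1) : s.rootMultiplicity a = s1.rootMultiplicity a := by
  have h1 : C t * s ≠ 0 := mul_ne_zero (by simpa using ht) hs
  have h2 : C c' * s1 ≠ 0 := by rw [← h]; exact h1
  have e1 : (C t * s).rootMultiplicity a = s.rootMultiplicity a := by
    rw [rootMultiplicity_mul h1, rootMultiplicity_C, zero_add]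
  have e2 : (C c' * s1).rootMultiplicity a = s1.rootMultiplicity a := by
    rw [rootMultiplicity_mul h2, rootMultiplicity_C, zero_add]
  rw [← e1, h, e2]

open Polynomial in
/-- Let k be an algebraically closed field of characteristic p (a prime or zero) and let F, G be
polynomials spanning a base-point-free pencil V of degree d (a two-dimensional space of polynomials
of degree at most d containing one of degree d and with no common zero in k), so that V encodes a
degree-d self-map F/G of the projective line up to automorphisms of the target. Suppose the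
Wronskian W = F′G − FG′ is non-zero and vanishes at the point a to order exactly e − 1 with e ≥ 1,
and that p = 0 or e − 1 < p. Then the map is tamely ramified at a with index e: the largest order of
vanishing at a of a non-zero member of V is e, and p does not divide e. (The hypothesis W ≠ 0 makes
the order of vanishing meaningful; for W = 0 the map is inseparable.) -/
theorem result
    (k : Type u) [Field k] [IsAlgClosed k] (p : ℕ) [CharP k p]
    (d : ℕ) (F G : k[X]) (hV : W4c1limliniiii.IsPencil d (Submodule.span k {F, G}))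
    (hW : Polynomial.wronskian F G ≠ 0) (a : k) (e : ℕ)
    (he : (Polynomial.wronskian F G).rootMultiplicity a + 1 = e) (hp : p = 0 ∨ e - 1 < p) :
    W4c1limliniiii.HasRamIdx (Submodule.span k {F, G}) a e ∧ ¬ p ∣ e := by
  obtain ⟨-, -, -, hbpf⟩ := hV
  obtain ⟨s0, hs0V, hs0a⟩ := hbpf a
  have hFG : F.eval a ≠ 0 ∨ G.eval a ≠ 0 := by
    by_contra h
    push Not at h
    obtain ⟨α, β, rfl⟩ := Submodule.mem_span_pair.mp hs0V
    apply hs0a
    simp [h.1, h.2]
  set s1 := C (G.eval a) * F - C (F.eval a) * G with hs1
  have hs1V : s1 ∈ Submodule.span k {F, G} := by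
    rw [Submodule.mem_span_pair]
    refine ⟨G.eval a, -F.eval a, ?_⟩
    simp only [hs1, Polynomial.smul_eq_C_mul, map_neg]
    ring
  have hs1a : s1.eval a = 0 := by
    simp only [hs1, eval_sub, eval_mul, eval_C]
    ring
  have hWF : wronskian F s1 = C (-(F.eval a)) * wronskian F G := by
    simp only [wronskian, hs1, derivative_sub, derivative_C_mul, map_neg]
    ring
  have hWG : wronskian G s1 = C (-(G.eval a)) * wronskian F G := by
    simp only [wronskian, hs1, derivative_sub, derivative_C_mul, map_neg]
    ring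
  have hcore : s1 ≠ 0 ∧ s1.rootMultiplicity a = e ∧ ¬ p ∣ e := by
    rcases hFG with hF | hG
    · exact core k p _ F s1 a _ (neg_ne_zero.mpr hF) hW hF hs1a hWF e he hp
    · exact core k p _ G s1 a _ (neg_ne_zero.mpr hG) hW hG hs1a hWG e he hp
  obtain ⟨hs1ne, hs1m, hpe⟩ := hcore
  refine ⟨⟨⟨s1, hs1V, hs1ne, hs1m.ge⟩, ?_⟩, hpe⟩
  intro s hsV hsne
  by_cases hsa : s.eval a = 0
  · obtain ⟨α, β, rfl⟩ := Submodule.mem_span_pair.mp hsV
    have hrel : α * F.eval a + β * G.eval a = 0 := by
      simpa [Polynomial.smul_eq_C_mul] using hsa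
    have hC : C α * C (F.eval a) + C β * C (G.eval a) = 0 := by
      rw [← C_mul, ← C_mul, ← C_add, hrel, C_0]
    have hm : (α • F + β • G).rootMultiplicity a = s1.rootMultiplicity a := by
      rcases hFG with hF | hG
      · apply part2 k _ s1 a (F.eval a) (-β) hF hsne
        simp only [hs1, Polynomial.smul_eq_C_mul, map_neg]
        linear_combination F * hC
      · apply part2 k _ s1 a (G.eval a) α hG hsne
        simp only [hs1, Polynomial.smul_eq_C_mul]
        linear_combination G * hC
    rw [hm, hs1m]
  · rw [rootMultiplicity_eq_zero hsa]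
    exact Nat.zero_le _

end Groth.Agent.S19560
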