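import Groth.Statements.S13920
import Mathlib
import Groth.Agent.H88.RamP1
import Groth.Agent.S19560

set_option autoImplicit false
universe u
open W4c1limliniiii

namespace Groth.Agent.S13920
open Groth.Agent.H88.RamP1

section helpers

open Polynomial

variable {k : Type*} [Field k]

theorem natDegree_comb {A B : k[X]} (h : B.natDegree < A.natDegree) (x y : k) (hx : x ≠ 0) :
    (x • A + y • B).natDegree = A.natDegree := by
  have h1 : (x • A).natDegree = A.natDegree := by rw [smul_eq_C_mul, natDegree_C_mul hx]
  have h2 : (y • B).natDegree ≤ B.natDegree := natDegree_smul_le y B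
  rw [natDegree_add_eq_left_of_natDegree_lt (by omega), h1]

theorem indep_of_natDegree_lt {A B : k[X]} (hB : B ≠ 0) (h : B.natDegree < A.natDegree) :
    ∀ x y : k, x • A + y • B = 0 → x = 0 ∧ y = 0 := by
  intro x y hxy
  have hx : x = 0 := by
    by_contra hx
    have h1 := natDegree_comb h x y hx
    rw [hxy, natDegree_zero] at h1
    omega
  subst hx
  rw [zero_smul, zero_add] at hxy
  exact ⟨rfl, (smul_eq_zero.mp hxy).resolve_right hB⟩

theorem span_pair_eq (a b : k[X]) :
    Submodule.span k ({a, b} : Set k[X]) = Submodule.span k (Set.range ![a, b]) := by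
  rw [Matrix.range_cons_cons_empty]

end helpers


open Polynomial in
/-- Over an algebraically closed field of prime characteristic p, fix n points of the affine line with
ramification indices e_i < p, and at infinity an index E with p < E and E prime to p, the datum (E,
e_1, …, e_n) being admissible for degree d (each index between 2 and d, ∑ (index − 1) = 2d − 2). If
one separable degree-d self-map of the projective line (up to automorphisms of the target, encoded
as a base-point-free separable pencil of polynomials of degree at most d) has ramification index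
exactly e_i at the i-th point and exactly E at infinity, then infinitely many do: the set of such
pencils is empty or infinite. (The consequence for general points, that no such map exists, is not
restated.) -/
theorem result
    (k : Type u) [Field k] [IsAlgClosed k] (p : ℕ) [Fact p.Prime] [CharP k p]
    (d n : ℕ) (P : Fin n → k) (e : Fin n → ℕ) (E : ℕ)
    (he : W4c1limliniiii.Admissible p d (Fin.cons E e : Fin (n + 1) → ℕ))
    (hlt : ∀ i, e i < p) (hE : p < E) :
    {V : Submodule k k[X] | V ∈ W4c1limliniiii.ramMaps d P e ∧ W4c1limliniiii.HasRamIdxInf d V E} = ∅ ∨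
      {V : Submodule k k[X] | V ∈ W4c1limliniiii.ramMaps d P e ∧
        W4c1limliniiii.HasRamIdxInf d V E}.Infinite := by
  classical
  by_cases hS : {V : Submodule k k[X] | V ∈ W4c1limliniiii.ramMaps d P e ∧
      W4c1limliniiii.HasRamIdxInf d V E} = ∅
  · exact Or.inl hS
  right
  obtain ⟨V, hVram, hVinf⟩ := Set.nonempty_iff_ne_empty.mpr hS
  obtain ⟨⟨hle, hfin, ⟨F, hFV, hFd⟩, hbpf⟩, hsep, hram⟩ := hVram
  obtain ⟨⟨G, hGV, hG0, hGd⟩, hinf2⟩ := hVinf
  have hGd' : d ≤ G.natDegree + E := hinf2 G hGV hG0
  have hE2 : 2 ≤ E ∧ E ≤ d := by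
    have h := he.1 0
    simp only [Fin.cons_zero] at h
    exact ⟨h.1, h.2.1⟩
  have he2 : ∀ i, 2 ≤ e i := by
    intro i
    have h := he.1 i.succ
    simp only [Fin.cons_succ] at h
    exact h.1
  have hp2 : 2 ≤ p := (Fact.out : p.Prime).two_le
  have hdegG : G.natDegree + E = d := le_antisymm hGd hGd'
  have hGF : G.natDegree < F.natDegree := by omega
  have hli := indep_of_natDegree_lt hG0 hGF
  have hspanV := exists_comb_of_finrank_two V hfin F G hFV hGV hli
  have hW : wronskian F G ≠ 0 := by
    obtain ⟨A, hA, B, hB, hAB⟩ := hsep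
    obtain ⟨a, b, rfl⟩ := hspanV A hA
    obtain ⟨a', b', rfl⟩ := hspanV B hB
    rw [wronskian_comb] at hAB
    exact right_ne_zero_of_mul hAB
  have hmult : ∀ i, (wronskian F G).rootMultiplicity (P i) + 1 = e i := by
    intro i
    obtain ⟨⟨s1, hs1V, hs10, hs1m⟩, hmax⟩ := hram i
    have hm : s1.rootMultiplicity (P i) = e i := le_antisymm (hmax s1 hs1V hs10) hs1m
    have hs1a : s1.eval (P i) = 0 := by
      have h2 := he2 i
      exact (rootMultiplicity_pos hs10).mp (by omega)
    obtain ⟨T, hTV, hTa⟩ := hbpf (P i)
    have hliT : ∀ x y : k, x • T + y • s1 = 0 → x = 0 ∧ y = 0 := by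
      intro x y hxy
      have h1 := congrArg (eval (P i)) hxy
      rw [eval_add, eval_smul, eval_smul, hs1a, smul_zero, add_zero, eval_zero,
        smul_eq_mul] at h1
      have hx : x = 0 := (mul_eq_zero.mp h1).resolve_right hTa
      subst hx
      rw [zero_smul, zero_add] at hxy
      exact ⟨rfl, (smul_eq_zero.mp hxy).resolve_right hs10⟩
    have hspanT := exists_comb_of_finrank_two V hfin T s1 hTV hs1V hliT
    obtain ⟨x, y, hF⟩ := hspanT F hFV
    obtain ⟨x', y', hG⟩ := hspanT G hGV
    have hWeq : wronskian F G = C (x * y' - x' * y) * wronskian T s1 := by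
      rw [hF, hG, wronskian_comb]
    have hWT : wronskian T s1 ≠ 0 := by
      intro h0
      rw [hWeq, h0, mul_zero] at hW
      exact hW rfl
    have hdet : C (x * y' - x' * y) ≠ 0 := by
      intro h0
      rw [hWeq, h0, zero_mul] at hW
      exact hW rfl
    have hrm : (wronskian F G).rootMultiplicity (P i) =
        (wronskian T s1).rootMultiplicity (P i) := by
      rw [hWeq, rootMultiplicity_mul (mul_ne_zero hdet hWT), rootMultiplicity_C, zero_add]
    have hne : ((s1.rootMultiplicity (P i) : ℕ) : k) ≠ 0 := by
      rw [hm]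
      intro h0
      have hdvd := (CharP.cast_eq_zero_iff k p (e i)).mp h0
      have h3 := Nat.le_of_dvd (by have := he2 i; omega) hdvd
      have h4 := hlt i
      omega
    have h3 := (Groth.Agent.S19560.wron_mult k T s1 (P i) hTa hs10 hs1a hWT).1 hne
    rw [hrm, h3, hm]
  have hd : derivative (X ^ p : k[X]) = 0 := by
    rw [derivative_X_pow, CharP.cast_eq_zero k p, C_0, zero_mul]
  have hXp0 : (X ^ p : k[X]) ≠ 0 := pow_ne_zero _ X_ne_zero
  have hQdeg : ∀ c : k, (C c * X ^ p * G).natDegree ≤ p + G.natDegree := by
    intro c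
    have h1 : (C c * X ^ p * G).natDegree ≤ (C c * X ^ p).natDegree + G.natDegree :=
      natDegree_mul_le
    have h2 := natDegree_C_mul_X_pow_le c p
    omega
  have hFcdeg : ∀ c : k, (F + C c * X ^ p * G).natDegree = d := by
    intro c
    rw [natDegree_add_eq_left_of_natDegree_lt (by have := hQdeg c; omega), hFd]
  have hkey : ∀ c : k,
      (Submodule.span k ({F + C c * X ^ p * G, G} : Set k[X]) ∈ W4c1limliniiii.ramMaps d P e ∧
        W4c1limliniiii.HasRamIdxInf d (Submodule.span k ({F + C c * X ^ p * G, G} : Set k[X])) E) ∧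
      (∀ s ∈ Submodule.span k ({F + C c * X ^ p * G, G} : Set k[X]), s ≠ 0 →
        s.natDegree = d ∨ s.natDegree = G.natDegree) := by
    intro c
    obtain ⟨Fc, hFc⟩ : ∃ Fc : k[X], Fc = F + C c * X ^ p * G := ⟨_, rfl⟩
    rw [← hFc]
    have hFcd : Fc.natDegree = d := by rw [hFc]; exact hFcdeg c
    have hGFc : G.natDegree < Fc.natDegree := by omega
    have hlic := indep_of_natDegree_lt hG0 hGFc
    have hFcm : Fc ∈ Submodule.span k ({Fc, G} : Set k[X]) :=
      Submodule.subset_span (Set.mem_insert _ _)
    have hGm : G ∈ Submodule.span k ({Fc, G} : Set k[X]) :=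
      Submodule.subset_span (Set.mem_insert_of_mem _ rfl)
    have hWc : wronskian Fc G = wronskian F G := by
      rw [hFc]
      simp only [wronskian, derivative_add, derivative_mul, derivative_C, hd]
      ring
    have hdegs : ∀ s ∈ Submodule.span k ({Fc, G} : Set k[X]), s ≠ 0 →
        s.natDegree = d ∨ s.natDegree = G.natDegree := by
      intro s hs hs0
      obtain ⟨x, y, rfl⟩ := Submodule.mem_span_pair.mp hs
      by_cases hx : x = 0
      · subst hx
        rw [zero_smul, zero_add] at hs0 ⊢
        right
        have hy : y ≠ 0 := by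
          rintro rfl
          exact hs0 (zero_smul _ _)
        rw [smul_eq_C_mul, natDegree_C_mul hy]
      · left
        rw [natDegree_comb hGFc x y hx, hFcd]
    have hpen : W4c1limliniiii.IsPencil d (Submodule.span k ({Fc, G} : Set k[X])) := by
      refine ⟨?_, ?_, ⟨Fc, hFcm, hFcd⟩, ?_⟩
      · rw [Submodule.span_le]
        intro s hs
        rcases Set.mem_insert_iff.mp hs with h | h
        · rw [h]; exact mem_degreeLE_of_natDegree_le hFcd.le
        · rw [Set.mem_singleton_iff] at h
          rw [h]; exact mem_degreeLE_of_natDegree_le (by omega)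
      · rw [span_pair_eq, finrank_span_eq_card (LinearIndependent.pair_iff.mpr hlic),
          Fintype.card_fin]
      · intro a
        by_cases hGa : G.eval a = 0
        · obtain ⟨s, hsV, hsa⟩ := hbpf a
          obtain ⟨x, y, rfl⟩ := hspanV s hsV
          refine ⟨Fc, hFcm, ?_⟩
          intro hFa
          apply hsa
          have hFa' : F.eval a = 0 := by
            rw [hFc, eval_add, eval_mul, hGa, mul_zero, add_zero] at hFa
            exact hFa
          rw [eval_add, eval_smul, eval_smul, hFa', hGa, smul_zero, smul_zero, add_zero]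
        · exact ⟨G, hGm, hGa⟩
    have hWc0 : wronskian Fc G ≠ 0 := by rw [hWc]; exact hW
    refine ⟨⟨⟨hpen, ⟨Fc, hFcm, G, hGm, hWc0⟩, fun i => ?_⟩,
      ⟨⟨G, hGm, hG0, hGd⟩, fun s hs hs0 => ?_⟩⟩, hdegs⟩
    · have hlti := hlt i
      exact (Groth.Agent.S19560.result k p d Fc G hpen hWc0 (P i) (e i)
        (by rw [hWc]; exact hmult i) (Or.inr (by omega))).1
    · rcases hdegs s hs hs0 with h | h
      · omega
      · omega
  have hinj : Function.Injective
      (fun c : k => Submodule.span k ({F + C c * X ^ p * G, G} : Set k[X])) := by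
    intro c c' hcc
    by_contra hne
    have hcc' : Submodule.span k ({F + C c * X ^ p * G, G} : Set k[X]) =
        Submodule.span k ({F + C c' * X ^ p * G, G} : Set k[X]) := hcc
    have h1 : F + C c * X ^ p * G ∈
        Submodule.span k ({F + C c' * X ^ p * G, G} : Set k[X]) := by
      rw [← hcc']; exact Submodule.subset_span (Set.mem_insert _ _)
    have h2 : F + C c' * X ^ p * G ∈
        Submodule.span k ({F + C c' * X ^ p * G, G} : Set k[X]) :=
      Submodule.subset_span (Set.mem_insert _ _)
    have h3 : X ^ p * G ∈ Submodule.span k ({F + C c' * X ^ p * G, G} : Set k[X]) := by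
      have h4 := Submodule.smul_mem _ ((c - c')⁻¹) (Submodule.sub_mem _ h1 h2)
      have h5 : (c - c')⁻¹ • ((F + C c * X ^ p * G) - (F + C c' * X ^ p * G)) = X ^ p * G := by
        rw [smul_eq_C_mul]
        have h6 : (F + C c * X ^ p * G) - (F + C c' * X ^ p * G) = C (c - c') * (X ^ p * G) := by
          rw [C_sub]; ring
        rw [h6, ← mul_assoc, ← C_mul, inv_mul_cancel₀ (sub_ne_zero.mpr hne), C_1, one_mul]
      rw [h5] at h4
      exact h4
    have hQ0 : X ^ p * G ≠ 0 := mul_ne_zero hXp0 hG0
    have hQd : (X ^ p * G).natDegree = p + G.natDegree := by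
      rw [natDegree_mul hXp0 hG0, natDegree_X_pow]
    rcases (hkey c').2 _ h3 hQ0 with h | h
    · omega
    · omega
  exact Set.infinite_of_injective_forall_mem hinj (fun c => (hkey c).1)

end Groth.Agent.S13920
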