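import Groth.Statements.S13926
import Mathlib.LinearAlgebra.FiniteDimensional.Lemmas
import Mathlib.Tactic

set_option autoImplicit false
universe u v w
open W4c1limliniiii

namespace Groth.Agent.S13926

theorem grow {k : Type u} [Field k] {E : Type w} [AddCommGroup E] [Module k E]
    [FiniteDimensional k E] (Q : Submodule k E) :
    ∀ (m : ℕ) (P : Submodule k E), P ≤ Q → Module.finrank k P + m ≤ Module.finrank k Q →
      ∃ V : Submodule k E, P ≤ V ∧ V ≤ Q ∧ Module.finrank k V = Module.finrank k P + m := by
  intro m
  induction m with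
  | zero => intro P hPQ _; exact ⟨P, le_rfl, hPQ, rfl⟩
  | succ m ih =>
    intro P hPQ hm
    obtain ⟨V, hPV, hVQ, hV⟩ := ih P hPQ (by omega)
    have hlt : V < Q := lt_of_le_of_ne hVQ (by rintro rfl; omega)
    obtain ⟨x, hxQ, hxV⟩ := SetLike.exists_of_lt hlt
    refine ⟨V ⊔ Submodule.span k {x}, le_trans hPV le_sup_left,
      sup_le hVQ ((Submodule.span_singleton_le_iff_mem x Q).mpr hxQ), ?_⟩
    rw [Submodule.finrank_sup_span_singleton hxV, hV]
    ring

/-- Let k be a field, E₁ and E₂ finite-dimensional vector spaces over k of the same dimension, f : E₁ →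
E₂ and g : E₂ → E₁ linear maps whose composite g ∘ f is multiplication by a scalar s, and V₁ a
subspace of E₁. Then there is a subspace V₂ of E₂ of the same dimension as V₁ with f(V₁) ≤ V₂ and
g(V₂) ≤ V₁. (The published statement is the surjectivity of the truncation morphisms of a linked
Grassmannian, with a further assertion on lifting families; this row is the lifting step over a
field — over a point the chain of linked subspaces V_1, …, V_{n'} extends one index at a time — and
assumes only g ∘ f = s.) -/
theorem result (k : Type u) [Field k]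
    (E₁ : Type v) (E₂ : Type w) [AddCommGroup E₁] [Module k E₁] [FiniteDimensional k E₁]
    [AddCommGroup E₂] [Module k E₂] [FiniteDimensional k E₂]
    (hdim : Module.finrank k E₁ = Module.finrank k E₂)
    (f : E₁ →ₗ[k] E₂) (g : E₂ →ₗ[k] E₁) (s : k) (hgf : g.comp f = s • LinearMap.id)
    (V₁ : Submodule k E₁) :
    ∃ V₂ : Submodule k E₂, Module.finrank k V₂ = Module.finrank k V₁ ∧
      Submodule.map f V₁ ≤ V₂ ∧ Submodule.map g V₂ ≤ V₁ := by
  by_cases hs : s = 0
  · subst hs
    have hgf0 : ∀ x, g (f x) = 0 := fun x => by
      have := LinearMap.congr_fun hgf x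
      simpa using this
    have hPQ : Submodule.map f V₁ ≤ Submodule.comap g V₁ := by
      rintro _ ⟨x, hx, rfl⟩
      show g (f x) ∈ V₁
      rw [hgf0]
      exact V₁.zero_mem
    have hP : Module.finrank k (Submodule.map f V₁) ≤ Module.finrank k V₁ :=
      Submodule.finrank_map_le f V₁
    have hQ : Module.finrank k V₁ ≤ Module.finrank k (Submodule.comap g V₁) := by
      have h1 := LinearMap.finrank_range_add_finrank_ker (V₁.mkQ ∘ₗ g)
      have h2 : LinearMap.ker (V₁.mkQ ∘ₗ g) = Submodule.comap g V₁ := by
        rw [LinearMap.ker_comp, Submodule.ker_mkQ]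
      have h3 := Submodule.finrank_le (LinearMap.range (V₁.mkQ ∘ₗ g))
      have h4 := Submodule.finrank_quotient_add_finrank V₁
      rw [h2] at h1
      omega
    obtain ⟨V, hPV, hVQ, hV⟩ := grow (Submodule.comap g V₁)
      (Module.finrank k V₁ - Module.finrank k (Submodule.map f V₁)) (Submodule.map f V₁) hPQ
      (by omega)
    exact ⟨V, by omega, hPV, Submodule.map_le_iff_le_comap.mpr hVQ⟩
  · have hgfs : ∀ x, g (f x) = s • x := fun x => by
      have := LinearMap.congr_fun hgf x
      simpa using this
    have hinj : Function.Injective f := by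
      intro x y hxy
      have h1 := congrArg g hxy
      rw [hgfs, hgfs] at h1
      exact smul_right_injective _ hs h1
    refine ⟨Submodule.map f V₁, ?_, le_rfl, ?_⟩
    · exact (Submodule.equivMapOfInjective f hinj V₁).finrank_eq.symm
    · rintro _ ⟨_, ⟨x, hx, rfl⟩, rfl⟩
      rw [hgfs]
      exact V₁.smul_mem s hx

end Groth.Agent.S13926
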