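import Groth.Statements.S13937
import Mathlib
import Groth.Agent.H88.RamP1

set_option autoImplicit false
universe u
open W4c1limliniiii

namespace Groth.Agent.S13937
open Groth.Agent.H88.RamP1

section helpers

open Polynomial

variable {k : Type*} [Field k] {d : ℕ} {P : Fin 3 → k} {e : Fin 3 → ℕ}

theorem pair_props (D : Data d P e) (F G : k[X]) (hFd : F.natDegree ≤ d) (hGd : G.natDegree ≤ d)
    (d0 : (X - C (P 0)) ^ e 0 ∣ F) (d1 : (X - C (P 1)) ^ e 1 ∣ G)
    (d2 : (X - C (P 2)) ^ e 2 ∣ (F - G)) (hne : F ≠ 0 ∨ G ≠ 0) :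
    F ≠ 0 ∧ G ≠ 0 ∧ F - G ≠ 0 ∧ (∀ a b : k, a • F + b • G = 0 → a = 0 ∧ b = 0) := by
  have hF0 : F ≠ 0 := by
    rintro rfl
    have hG0 : G ≠ 0 := hne.resolve_left (fun h => h rfl)
    rw [zero_sub] at d2
    exact D.no_common 1 2 (by decide) G hG0 hGd d1 (dvd_neg.mp d2)
  have hG0 : G ≠ 0 := by
    rintro rfl
    rw [sub_zero] at d2
    exact D.no_common 0 2 (by decide) F hF0 hFd d0 d2
  have hH0 : F - G ≠ 0 := by
    intro h
    have h3 : F = G := sub_eq_zero.mp h
    exact D.no_common 0 1 (by decide) F hF0 hFd d0 (by rw [h3]; exact d1)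
  refine ⟨hF0, hG0, hH0, ?_⟩
  intro a b hab
  have hb : b = 0 := by
    by_contra hb
    exact D.no_common 0 1 (by decide) G hG0 hGd (dvd_of_comb_eq_zero hb hab d0) d1
  subst hb
  rw [zero_smul, add_zero] at hab
  exact ⟨(smul_eq_zero.mp hab).resolve_right hF0, rfl⟩

/-- The linear space of normalised pairs. -/
def Lsub (d : ℕ) (P : Fin 3 → k) (e : Fin 3 → ℕ) : Submodule k (k[X] × k[X]) where
  carrier := {v | v.1 ∈ degreeLE k (d : WithBot ℕ) ∧ v.2 ∈ degreeLE k (d : WithBot ℕ) ∧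
    (X - C (P 0)) ^ e 0 ∣ v.1 ∧ (X - C (P 1)) ^ e 1 ∣ v.2 ∧ (X - C (P 2)) ^ e 2 ∣ (v.1 - v.2)}
  add_mem' := by
    rintro v w ⟨hv1, hv2, hv3, hv4, hv5⟩ ⟨hw1, hw2, hw3, hw4, hw5⟩
    refine ⟨Submodule.add_mem _ hv1 hw1, Submodule.add_mem _ hv2 hw2, dvd_add hv3 hw3,
      dvd_add hv4 hw4, ?_⟩
    have h : (v + w).1 - (v + w).2 = (v.1 - v.2) + (w.1 - w.2) := by
      simp only [Prod.fst_add, Prod.snd_add]
      ring
    rw [h]
    exact dvd_add hv5 hw5
  zero_mem' := by
    refine ⟨Submodule.zero_mem _, Submodule.zero_mem _, dvd_zero _, dvd_zero _, ?_⟩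
    simp
  smul_mem' := by
    rintro c v ⟨hv1, hv2, hv3, hv4, hv5⟩
    refine ⟨Submodule.smul_mem _ c hv1, Submodule.smul_mem _ c hv2, ?_, ?_, ?_⟩
    · show _ ∣ c • v.1
      rw [smul_eq_C_mul]
      exact Dvd.dvd.mul_left hv3 _
    · show _ ∣ c • v.2
      rw [smul_eq_C_mul]
      exact Dvd.dvd.mul_left hv4 _
    · have h : (c • v).1 - (c • v).2 = C c * (v.1 - v.2) := by
        simp only [Prod.smul_fst, Prod.smul_snd, smul_eq_C_mul]
        ring
      rw [h]
      exact Dvd.dvd.mul_left hv5 _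

theorem mem_Lsub {v : k[X] × k[X]} : v ∈ Lsub d P e ↔
    (v.1 ∈ degreeLE k (d : WithBot ℕ) ∧ v.2 ∈ degreeLE k (d : WithBot ℕ) ∧
    (X - C (P 0)) ^ e 0 ∣ v.1 ∧ (X - C (P 1)) ^ e 1 ∣ v.2 ∧ (X - C (P 2)) ^ e 2 ∣ (v.1 - v.2)) :=
  Iff.rfl

theorem ne_or_ne_of_ne_zero {v : k[X] × k[X]} (hv : v ≠ 0) : v.1 ≠ 0 ∨ v.2 ≠ 0 := by
  by_contra hcon
  push Not at hcon
  exact hv (Prod.ext hcon.1 hcon.2)

theorem span_pair_eq (a b : k[X]) :
    Submodule.span k ({a, b} : Set k[X]) = Submodule.span k (Set.range ![a, b]) := by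
  rw [Matrix.range_cons_cons_empty]

end helpers


open Polynomial in
/-- Over an algebraically closed field of characteristic p (zero allowed), fix three distinct points
P_1, P_2, P_3 of the affine line and admissible indices (2 ≤ e_i ≤ d, e_i prime to p, ∑ (e_i − 1) =
2d − 2). The two-dimensional spaces V of polynomials of degree at most d that contain, for each i, a
non-zero member vanishing to order at least e_i at P_i (the intersection of the three Schubert
cycles in the Grassmannian of pencils) form a projective space of some dimension m ≥ 0: there is a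
non-zero linear space L of pairs of polynomials such that sending a non-zero pair (F, G) ∈ L to the
span of F and G is a surjection onto that set of spaces under which two non-zero pairs have the same
image exactly when they are proportional. -/
theorem result (k : Type u) [Field k]
    [IsAlgClosed k] (p : ℕ) [CharP k p] (d : ℕ) (P : Fin 3 → k) (hP : Function.Injective P)
    (e : Fin 3 → ℕ) (he : W4c1limliniiii.Admissible p d e) :
    ∃ L : Submodule k (k[X] × k[X]), L ≠ ⊥ ∧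
      (∀ v ∈ L, v ≠ 0 →
        Submodule.span k {v.1, v.2} ≤ Polynomial.degreeLE k d ∧
          Module.finrank k (Submodule.span k {v.1, v.2}) = 2 ∧
          ∀ i, ∃ s ∈ Submodule.span k {v.1, v.2}, s ≠ 0 ∧
            e i ≤ Polynomial.rootMultiplicity (P i) s) ∧
      (∀ V : Submodule k k[X], V ≤ Polynomial.degreeLE k d → Module.finrank k V = 2 →
        (∀ i, ∃ s ∈ V, s ≠ 0 ∧ e i ≤ Polynomial.rootMultiplicity (P i) s) →
          ∃ v ∈ L, v ≠ 0 ∧ Submodule.span k {v.1, v.2} = V) ∧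
      (∀ v ∈ L, ∀ w ∈ L, v ≠ 0 → w ≠ 0 →
        Submodule.span k {v.1, v.2} = Submodule.span k {w.1, w.2} → ∃ c : k, w = c • v) := by
  have D := Data.of_admissible hP he
  refine ⟨Lsub d P e, ?_, ?_, ?_, ?_⟩
  · obtain ⟨F, G, hF0, hG0, hH0, hFd, hGd, d0, d1, d2, hli⟩ := exists_pair D
    intro hbot
    have hmem : (F, G) ∈ Lsub d P e :=
      mem_Lsub.mpr ⟨mem_degreeLE_of_natDegree_le hFd, mem_degreeLE_of_natDegree_le hGd, d0, d1, d2⟩
    rw [hbot, Submodule.mem_bot] at hmem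
    exact hF0 (congrArg Prod.fst hmem)
  · intro v hv hv0
    obtain ⟨h1, h2, d0, d1, d2⟩ := mem_Lsub.mp hv
    have hFd := natDegree_le_of_mem_degreeLE h1
    have hGd := natDegree_le_of_mem_degreeLE h2
    obtain ⟨hF0, hG0, hH0, hli⟩ :=
      pair_props D v.1 v.2 hFd hGd d0 d1 d2 (ne_or_ne_of_ne_zero hv0)
    have hgood := good_span D v.1 v.2 hF0 hG0 hH0 hFd hGd d0 d1 d2 hli
    rw [span_pair_eq]
    refine ⟨hgood.1, hgood.2.1, fun i => ?_⟩
    obtain ⟨s, hs, hs0, hdvd⟩ := hgood.2.2 i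
    exact ⟨s, hs, hs0, (le_rootMultiplicity_iff hs0).mpr hdvd⟩
  · intro V hle hfin hmem
    have hgood : Good d P e V := ⟨hle, hfin, fun i => by
      obtain ⟨s, hs, hs0, hm⟩ := hmem i
      exact ⟨s, hs, hs0, (le_rootMultiplicity_iff hs0).mp hm⟩⟩
    obtain ⟨G0, G1, hG0V, hG1V, hG00, hG10, _, d0, d1, d2, hli, hspan⟩ := hgood.normal D
    refine ⟨(G0, G1), mem_Lsub.mpr ⟨hle hG0V, hle hG1V, d0, d1, d2⟩, ?_, ?_⟩
    · intro h
      exact hG00 (congrArg Prod.fst h)
    · show Submodule.span k {G0, G1} = V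
      apply le_antisymm
      · rw [Submodule.span_le]
        intro x hx
        rcases Set.mem_insert_iff.mp hx with h | h
        · rw [h]; exact hG0V
        · rw [Set.mem_singleton_iff] at h
          rw [h]; exact hG1V
      · intro s hs
        obtain ⟨a, b, rfl⟩ := hspan s hs
        exact Submodule.add_mem _
          (Submodule.smul_mem _ _ (Submodule.subset_span (Set.mem_insert _ _)))
          (Submodule.smul_mem _ _ (Submodule.subset_span (Set.mem_insert_of_mem _ rfl)))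
  · intro v hv w hw hv0 hw0 hspan
    obtain ⟨h1, h2, d0, d1, d2⟩ := mem_Lsub.mp hv
    obtain ⟨h1', h2', d0', d1', d2'⟩ := mem_Lsub.mp hw
    have hFd := natDegree_le_of_mem_degreeLE h1
    have hGd := natDegree_le_of_mem_degreeLE h2
    obtain ⟨hF0, hG0, hH0, hli⟩ :=
      pair_props D v.1 v.2 hFd hGd d0 d1 d2 (ne_or_ne_of_ne_zero hv0)
    have hw1 : w.1 ∈ Submodule.span k ({v.1, v.2} : Set k[X]) := by
      rw [hspan]; exact Submodule.subset_span (Set.mem_insert _ _)
    have hw2 : w.2 ∈ Submodule.span k ({v.1, v.2} : Set k[X]) := by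
      rw [hspan]; exact Submodule.subset_span (Set.mem_insert_of_mem _ rfl)
    rw [Submodule.mem_span_pair] at hw1 hw2
    obtain ⟨a, b, hab⟩ := hw1
    obtain ⟨a', b', hab'⟩ := hw2
    have hb : b = 0 := by
      by_contra hb
      have h : (X - C (P 0)) ^ e 0 ∣ C b * v.2 := by
        have h3 : C b * v.2 = w.1 - C a * v.1 := by
          rw [← hab, smul_eq_C_mul, smul_eq_C_mul]; ring
        rw [h3]
        exact dvd_sub d0' (Dvd.dvd.mul_left d0 _)
      have h' : (X - C (P 0)) ^ e 0 ∣ v.2 :=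
        (IsUnit.dvd_mul_left (isUnit_C.mpr (Ne.isUnit hb))).mp h
      exact D.no_common 0 1 (by decide) v.2 hG0 hGd h' d1
    have ha' : a' = 0 := by
      by_contra ha'
      have h : (X - C (P 1)) ^ e 1 ∣ C a' * v.1 := by
        have h3 : C a' * v.1 = w.2 - C b' * v.2 := by
          rw [← hab', smul_eq_C_mul, smul_eq_C_mul]; ring
        rw [h3]
        exact dvd_sub d1' (Dvd.dvd.mul_left d1 _)
      have h' : (X - C (P 1)) ^ e 1 ∣ v.1 :=
        (IsUnit.dvd_mul_left (isUnit_C.mpr (Ne.isUnit ha'))).mp h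
      exact D.no_common 0 1 (by decide) v.1 hF0 hFd d0 h'
    subst hb
    subst ha'
    rw [zero_smul, add_zero] at hab
    rw [zero_smul, zero_add] at hab'
    have hab2 : a = b' := by
      by_contra hne2
      have h : (X - C (P 2)) ^ e 2 ∣ C (a - b') * v.2 := by
        have h3 : C (a - b') * v.2 = (w.1 - w.2) - C a * (v.1 - v.2) := by
          rw [← hab, ← hab', smul_eq_C_mul, smul_eq_C_mul, C_sub]; ring
        rw [h3]
        exact dvd_sub d2' (Dvd.dvd.mul_left d2 _)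
      have h' : (X - C (P 2)) ^ e 2 ∣ v.2 :=
        (IsUnit.dvd_mul_left (isUnit_C.mpr (Ne.isUnit (sub_ne_zero.mpr hne2)))).mp h
      exact D.no_common 1 2 (by decide) v.2 hG0 hGd d1 h'
    subst hab2
    refine ⟨a, ?_⟩
    exact Prod.ext hab.symm hab'.symm

end Groth.Agent.S13937
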