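import Groth.Statements.S13953
import Mathlib

set_option autoImplicit false
universe u
open TateLoc

namespace Groth.Agent.S13953

/-- Let (R_i) be a family of local commutative rings and R = ∏ R_i. Any open cover of Spec R can be
refined by one coming from a finite partition of the index set: there is a map c from the index set
to a finite set such that, for each value m, the basic open subset of Spec R defined by the
idempotent which is 1 at the indices with c i = m and 0 elsewhere (this open is the spectrum of the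
product of the R_i over that class) is contained in some member of the cover. -/
theorem result {ι : Type u} (R : ι → Type u)
    [∀ i, CommRing (R i)] [∀ i, IsLocalRing (R i)] {J : Type u}
    (U : J → TopologicalSpace.Opens (PrimeSpectrum (∀ i, R i))) (hU : ⨆ j, U j = ⊤) :
    ∃ (n : ℕ) (c : ι → Fin n), ∀ m : Fin n, ∃ j : J,
      PrimeSpectrum.basicOpen (fun i => if c i = m then (1 : R i) else 0) ≤ U j := by
  classical
  let P := {p : (∀ i, R i) × J // PrimeSpectrum.basicOpen p.1 ≤ U p.2}
  have hcov : (Set.univ : Set (PrimeSpectrum (∀ i, R i))) ⊆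
      ⋃ p : P, (PrimeSpectrum.basicOpen p.1.1 : Set (PrimeSpectrum (∀ i, R i))) := by
    intro x _
    have hx : x ∈ (⨆ j, U j : TopologicalSpace.Opens _) := by rw [hU]; trivial
    obtain ⟨j, hj⟩ := TopologicalSpace.Opens.mem_iSup.mp hx
    obtain ⟨_, ⟨f, rfl⟩, hxf, hfU⟩ :=
      PrimeSpectrum.isTopologicalBasis_basic_opens.exists_subset_of_mem_open hj (U j).2
    exact Set.mem_iUnion.mpr ⟨⟨(f, j), hfU⟩, hxf⟩
  obtain ⟨t, ht⟩ := isCompact_univ.elim_finite_subcover
    (fun p : P => (PrimeSpectrum.basicOpen p.1.1 : Set (PrimeSpectrum (∀ i, R i))))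
    (fun p => (PrimeSpectrum.basicOpen p.1.1).2) hcov
  have hsup : (⨆ p : t, PrimeSpectrum.basicOpen (p.1.1.1)) = ⊤ := by
    rw [eq_top_iff]
    intro x _
    obtain ⟨p, hp, hx⟩ := Set.mem_iUnion₂.mp (ht (Set.mem_univ x))
    exact TopologicalSpace.Opens.mem_iSup.mpr ⟨⟨p, hp⟩, hx⟩
  have hspan := PrimeSpectrum.iSup_basicOpen_eq_top_iff.mp hsup
  have h1 : (1 : ∀ i, R i) ∈ Ideal.span (Set.range fun p : t => (p.1.1.1 : ∀ i, R i)) := by
    rw [hspan]; trivial
  obtain ⟨a, ha⟩ := Ideal.mem_span_range_iff_exists_fun.mp h1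
  have hunit : ∀ i : ι, ∃ p : t, IsUnit ((p.1.1.1 : ∀ i, R i) i) := by
    intro i
    have hsum : IsUnit (∑ p : t, a p i * (p.1.1.1 : ∀ i, R i) i) := by
      have := congrFun ha i
      rw [Finset.sum_apply] at this
      simp only [Pi.mul_apply] at this
      rw [this]
      exact isUnit_one
    obtain ⟨p, -, hp⟩ := IsLocalRing.exists_of_isUnit_sum hsum
    exact ⟨p, isUnit_of_mul_isUnit_right hp⟩
  choose cp hcp using hunit
  let e : ↥t ≃ Fin t.card := t.equivFin
  refine ⟨t.card, fun i => e (cp i), fun m => ⟨(e.symm m).1.1.2, ?_⟩⟩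
  refine le_trans ?_ (e.symm m).1.2
  intro q hq
  have hq' : (fun i => if e (cp i) = m then (1 : R i) else 0) ∉ q.asIdeal := hq
  show (e.symm m).1.1.1 ∉ q.asIdeal
  intro hmem
  apply hq'
  let g : ∀ i, R i := fun i =>
    if e (cp i) = m then Ring.inverse (((e.symm m).1.1.1 : ∀ i, R i) i) else 0
  have hg : g * (e.symm m).1.1.1 = fun i => if e (cp i) = m then (1 : R i) else 0 := by
    funext i
    simp only [Pi.mul_apply, g]
    split_ifs with h
    · have hcpi : cp i = e.symm m := by rw [← h, Equiv.symm_apply_apply]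
      have := hcp i
      rw [hcpi] at this
      exact Ring.inverse_mul_cancel _ this
    · rw [zero_mul]
  rw [← hg]
  exact q.asIdeal.mul_mem_left g hmem

end Groth.Agent.S13953
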