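import Groth.Statements.S13958
import Mathlib.GroupTheory.FiniteAbelian.Basic
import Mathlib.Tactic

set_option autoImplicit false
universe u
open TateLoc

namespace Groth.Agent.S13958


theorem exists_finiteIndex_not_mem (Q : Type u) [CommGroup Q] [Group.FG Q] (g : Q) (hg : g ≠ 1) :
    ∃ H : Subgroup Q, H.FiniteIndex ∧ g ∉ H := by
  obtain ⟨ι, j, _, _, p, hp, e, ⟨φ⟩⟩ := CommGroup.equiv_free_prod_prod_multiplicative_zmod Q
  have hφg : φ g ≠ 1 := fun h => hg ((MulEquiv.map_eq_one_iff φ).1 h)
  by_cases h2 : (φ g).2 = 1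
  · have h1 : (φ g).1 ≠ 1 := fun h => hφg (Prod.ext h h2)
    obtain ⟨i, hi⟩ : ∃ i, (φ g).1 i ≠ 1 := by
      by_contra hcon
      push_neg at hcon
      exact h1 (funext hcon)
    obtain ⟨m, hm⟩ : ∃ m : ℤ, m = Multiplicative.toAdd ((φ g).1 i) := ⟨_, rfl⟩
    have hm0 : m ≠ 0 := by
      intro h
      apply hi
      rw [h] at hm
      have : (φ g).1 i = Multiplicative.ofAdd (0 : ℤ) := by
        rw [hm]; rfl
      rw [this]; rfl
    let f : Q →* Multiplicative (ZMod (m.natAbs + 1)) :=
      (AddMonoidHom.toMultiplicative (Int.castAddHom (ZMod (m.natAbs + 1)))).comp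
        ((Pi.evalMonoidHom (fun _ : j => Multiplicative ℤ) i).comp
          ((MonoidHom.fst _ _).comp φ.toMonoidHom))
    refine ⟨f.ker, Subgroup.finiteIndex_ker f, ?_⟩
    rw [MonoidHom.mem_ker]
    intro hfg
    have h3 : ((m : ℤ) : ZMod (m.natAbs + 1)) = 0 := by
      have hfg' : f g = Multiplicative.ofAdd
          (((Multiplicative.toAdd ((φ g).1 i) : ℤ)) : ZMod (m.natAbs + 1)) := rfl
      rw [← hm] at hfg'
      rw [hfg'] at hfg
      exact hfg
    rw [ZMod.intCast_zmod_eq_zero_iff_dvd] at h3
    apply hm0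
    apply Int.eq_zero_of_abs_lt_dvd h3
    rw [Int.abs_eq_natAbs]
    push_cast
    omega
  · haveI : ∀ i, NeZero (p i ^ e i) := fun i => ⟨pow_ne_zero _ (hp i).ne_zero⟩
    let f : Q →* ((i : ι) → Multiplicative (ZMod (p i ^ e i))) :=
      (MonoidHom.snd _ _).comp φ.toMonoidHom
    refine ⟨f.ker, Subgroup.finiteIndex_ker f, ?_⟩
    rw [MonoidHom.mem_ker]
    exact h2

open CategoryTheory in
/-- Let A' be a finitely generated abelian group (written multiplicatively, discrete) and A a subgroup.
If the image of x ∈ A' in the profinite completion of A' lies in the image of the profinite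
completion of A under the map induced by the inclusion, then x ∈ A. (The published statement says
that the square formed by the two completion maps and the two inclusions is Cartesian; given the
injectivity of the induced map on completions, which holds here, that amounts to this membership
criterion.) -/
theorem result (A' : Type u) [CommGroup A'] [Group.FG A']
    (A : Subgroup A') (x : A')
    (hx : ProfiniteGrp.ProfiniteCompletion.etaFn (GrpCat.of A') x ∈
      Set.range ⇑(ProfiniteGrp.profiniteCompletion.map (GrpCat.ofHom A.subtype)).hom) :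
    x ∈ A := by
  by_contra hxA
  have hq : (QuotientGroup.mk x : A' ⧸ A) ≠ 1 := by
    intro h
    exact hxA ((QuotientGroup.eq_one_iff x).1 h)
  obtain ⟨H, hH, hxH⟩ := exists_finiteIndex_not_mem (A' ⧸ A) _ hq
  haveI : Finite ((A' ⧸ A) ⧸ H) := Subgroup.finite_quotient_of_finiteIndex
  letI : TopologicalSpace ((A' ⧸ A) ⧸ H) := ⊥
  haveI : DiscreteTopology ((A' ⧸ A) ⧸ H) := ⟨rfl⟩
  haveI : IsTopologicalGroup ((A' ⧸ A) ⧸ H) := {}
  let P : ProfiniteGrp.{u} := ProfiniteGrp.of ((A' ⧸ A) ⧸ H)
  let g : A' →* ((A' ⧸ A) ⧸ H) := (QuotientGroup.mk' H).comp (QuotientGroup.mk' A)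
  have hgx : g x ≠ 1 := by
    intro h
    exact hxH ((QuotientGroup.eq_one_iff _).1 h)
  have hgA : ∀ a : A, g (a : A') = 1 := by
    intro a
    have : (QuotientGroup.mk' A) (a : A') = 1 := (QuotientGroup.eq_one_iff _).2 a.2
    show (QuotientGroup.mk' H) ((QuotientGroup.mk' A) (a : A')) = 1
    rw [this, map_one]
  let gh : ProfiniteGrp.ProfiniteCompletion.completion (GrpCat.of A') ⟶ P :=
    ProfiniteGrp.ProfiniteCompletion.lift (P := P) (GrpCat.ofHom g)
  have hlift : ∀ a : A', gh.hom (ProfiniteGrp.ProfiniteCompletion.etaFn (GrpCat.of A') a) = g a := by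
    intro a
    exact ConcreteCategory.congr_hom
      (ProfiniteGrp.ProfiniteCompletion.lift_eta (P := P) (GrpCat.ofHom g)) a
  have hmap : ∀ a : A, (ProfiniteGrp.profiniteCompletion.map (GrpCat.ofHom A.subtype)).hom
      (ProfiniteGrp.ProfiniteCompletion.etaFn (GrpCat.of A) a) =
      ProfiniteGrp.ProfiniteCompletion.etaFn (GrpCat.of A') (a : A') := by
    intro a
    exact ConcreteCategory.congr_hom
      (ProfiniteGrp.ProfiniteCompletion.lift_eta
        (P := ProfiniteGrp.ProfiniteCompletion.completion (GrpCat.of A'))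
        (GrpCat.ofHom A.subtype ≫ ProfiniteGrp.ProfiniteCompletion.eta (GrpCat.of A'))) a
  have hall : ∀ y : ProfiniteGrp.ProfiniteCompletion.completion (GrpCat.of A),
      gh.hom ((ProfiniteGrp.profiniteCompletion.map (GrpCat.ofHom A.subtype)).hom y) = 1 := by
    intro y
    refine (ProfiniteGrp.ProfiniteCompletion.denseRange (G := GrpCat.of A)).induction_on y ?_ ?_
    · exact isClosed_eq (gh.hom.continuous_toFun.comp
        (ProfiniteGrp.profiniteCompletion.map (GrpCat.ofHom A.subtype)).hom.continuous_toFun)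
        continuous_const
    · intro a
      rw [hmap, hlift]
      exact hgA a
  obtain ⟨y, hy⟩ := hx
  have h1 := hall y
  rw [hy, hlift] at h1
  exact hgx h1

end Groth.Agent.S13958
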