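import Groth.Statements.S13963
import Mathlib.Topology.Algebra.Group.OpenMapping
import Mathlib.Topology.Baire.LocallyCompactRegular
import Mathlib.Topology.Algebra.Group.Pointwise
import Mathlib.Tactic

set_option autoImplicit false
universe u
open TateLoc

namespace Groth.Agent.S13963

open scoped Pointwise

/-- Let A' → A → A'' be continuous homomorphisms of locally compact, second-countable, Hausdorff abelian
topological groups which form a short exact sequence of abstract groups (the first injective, the
second surjective, image equal to kernel). If A' and A'' are compact, then A is compact. -/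
theorem result (A' A A'' : Type u)
    [AddCommGroup A'] [TopologicalSpace A'] [IsTopologicalAddGroup A'] [SecondCountableTopology A'] [T2Space A']
    [CompactSpace A']
    [AddCommGroup A] [TopologicalSpace A] [IsTopologicalAddGroup A] [LocallyCompactSpace A]
    [SecondCountableTopology A] [T2Space A]
    [AddCommGroup A''] [TopologicalSpace A''] [IsTopologicalAddGroup A''] [SecondCountableTopology A''] [T2Space A'']
    [CompactSpace A'']
    (f : A' →+ A) (g : A →+ A'') (hf : Continuous f) (hg : Continuous g)
    (hinj : Function.Injective f) (hsurj : Function.Surjective g) (hex : g.ker = f.range) :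
    CompactSpace A := by
  have hopen : IsOpenMap g := AddMonoidHom.isOpenMap_of_sigmaCompact g hsurj hg
  have hK : IsCompact (Set.range f) := isCompact_range hf
  -- for each y pick a preimage with a compact neighbourhood
  have hex : ∀ y : A'', ∃ K : Set A, IsCompact K ∧ g '' K ∈ nhds y := by
    intro y
    obtain ⟨x, rfl⟩ := hsurj y
    obtain ⟨K, hKc, hKn⟩ := exists_compact_mem_nhds x
    exact ⟨K, hKc, hopen.image_mem_nhds hKn⟩
  choose K hKc hKn using hex
  obtain ⟨t, ht⟩ := CompactSpace.elim_nhds_subcover (fun y => g '' K y) hKn
  have hcov : (Set.univ : Set A) ⊆ ⋃ y ∈ t, (K y + Set.range f) := by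
    intro x _
    have hx : g x ∈ ⋃ y ∈ t, g '' K y := by rw [ht]; trivial
    simp only [Set.mem_iUnion] at hx ⊢
    obtain ⟨y, hy, k, hk, hgk⟩ := hx
    refine ⟨y, hy, ?_⟩
    have hker : x - k ∈ g.ker := by
      rw [AddMonoidHom.mem_ker, map_sub, hgk, sub_self]
    rw [hex] at hker
    obtain ⟨a, ha⟩ := hker
    exact ⟨k, hk, f a, ⟨a, rfl⟩, by rw [ha]; abel⟩
  have hcomp : IsCompact (⋃ y ∈ t, (K y + Set.range f)) :=
    t.isCompact_biUnion fun y _ => (hKc y).add hK
  exact ⟨hcomp.of_isClosed_subset isClosed_univ hcov⟩

end Groth.Agent.S13963
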