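import Groth.Statements.S13972
import Groth.Agent.H26.KoszLift

set_option autoImplicit false
universe u
open LCI

namespace Groth.Agent.S13972

/-- Let A' be an Artinian local ring, I a proper ideal of A', A = A'/I, R' a Noetherian A'-algebra flat
over A' and R = R'/IR'. Let f₁, …, f_r ∈ R be a Koszul-regular sequence (its Koszul complex is
acyclic in nonzero degrees) such that R/(f₁, …, f_r) is flat over A. Then: (1) for every choice of
lifts f'₁, …, f'_r ∈ R' of the f_i, the quotient R'/(f'₁, …, f'_r) is flat over A' and f'₁, …, f'_r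
is a Koszul-regular sequence in R'; (2) if J' ⊆ R' is an ideal with R'/J' flat over A' whose image
in R is the ideal (f₁, …, f_r), then J' is generated by any lifts f'₁, …, f'_r ∈ J' of the f_i. (The
published statement takes R' = R₀ ⊗_Λ A' for a flat Λ-algebra R₀ and a surjection A' → A of Artinian
local Λ-algebras; this row assumes only that R' is Noetherian and flat over A' and that I is a
proper ideal, which is what its proof uses. Regularity of a sequence is taken there in every
localization at a prime containing the ideal it generates, which over a Noetherian ring is the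
Koszul-acyclicity used in the proof and stated here.) -/
theorem result
    {A' : Type u} [CommRing A'] [IsLocalRing A'] [IsArtinianRing A'] (I : Ideal A') (hI : I ≠ ⊤)
    {R' : Type u} [CommRing R'] [Algebra A' R'] [IsNoetherianRing R'] [Module.Flat A' R']
    (r : ℕ) (f : Fin r → R' ⧸ I.map (algebraMap A' R'))
    (hf : LCI.IsKoszulRegularSeq (R' ⧸ I.map (algebraMap A' R')) (List.ofFn f))
    [Module.Flat (A' ⧸ I) ((R' ⧸ I.map (algebraMap A' R')) ⧸ Ideal.span (Set.range f))] :
    (∀ f' : Fin r → R', (∀ i, Ideal.Quotient.mk (I.map (algebraMap A' R')) (f' i) = f i) →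
        Module.Flat A' (R' ⧸ Ideal.span (Set.range f')) ∧ LCI.IsKoszulRegularSeq R' (List.ofFn f')) ∧
    (∀ (J' : Ideal R'), Module.Flat A' (R' ⧸ J') →
        J'.map (Ideal.Quotient.mk (I.map (algebraMap A' R'))) = Ideal.span (Set.range f) →
        ∀ f' : Fin r → R', (∀ i, f' i ∈ J') →
          (∀ i, Ideal.Quotient.mk (I.map (algebraMap A' R')) (f' i) = f i) →
          J' = Ideal.span (Set.range f')) := by
  classical
  have hnil : IsNilpotent I := by
    obtain ⟨n, hn⟩ := IsArtinianRing.isNilpotent_jacobson_bot (R := A')
    refine ⟨n, ?_⟩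
    have h1 : I ≤ Ideal.jacobson (⊥ : Ideal A') := by
      rw [IsLocalRing.jacobson_eq_maximalIdeal ⊥ bot_ne_top]
      exact IsLocalRing.le_maximalIdeal hI
    have h2 : I ^ n ≤ (Ideal.jacobson (⊥ : Ideal A')) ^ n := Ideal.pow_right_mono h1 n
    rw [hn, Ideal.zero_eq_bot] at h2
    rw [Ideal.zero_eq_bot]
    exact le_bot_iff.1 h2
  have hof : ∀ {S : Type u} [CommRing S] (g : Fin r → S),
      Ideal.ofList (List.ofFn g) = Ideal.span (Set.range g) := by
    intro S _ g
    show Ideal.span {x | x ∈ List.ofFn g} = _
    congr 1
    ext x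
    simp
  refine ⟨?_, ?_⟩
  · intro f' hf'
    have hmap : (List.ofFn f').map (Ideal.Quotient.mk (I.map (algebraMap A' R'))) =
        List.ofFn f := by
      rw [List.map_ofFn]
      congr 1
      funext i
      exact hf' i
    have hreg : LCI.IsKoszulRegularSeq (R' ⧸ I.map (algebraMap A' R'))
        ((List.ofFn f').map (Ideal.Quotient.mk (I.map (algebraMap A' R')))) := by
      rw [hmap]
      exact hf
    obtain ⟨h1, h2⟩ := Groth.Agent.H26.KoszLift.koszul_lift I hnil (List.ofFn f') hreg
      (Ideal.span (Set.range f)) (by rw [hmap, hof]) inferInstance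
      (Ideal.span (Set.range f')) (hof f').symm
    exact ⟨h2, h1⟩
  · intro J' hJ'flat hJ'map f' hf'mem hf'lift
    haveI := hJ'flat
    have hN : Ideal.span (Set.range f') ≤ J' :=
      Ideal.span_le.2 (by rintro _ ⟨i, rfl⟩; exact hf'mem i)
    refine le_antisymm ?_ hN
    let π : R' →ₗ[A'] (R' ⧸ J') := (Ideal.Quotient.mkₐ A' J').toLinearMap
    have hπ : Function.Surjective π := Ideal.Quotient.mk_surjective
    have hker : LinearMap.ker π = J'.restrictScalars A' := by
      ext x
      rw [LinearMap.mem_ker, Submodule.restrictScalars_mem]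
      exact Ideal.Quotient.eq_zero_iff_mem
    have hinf := Groth.Agent.H48.FlatLimit.inf_smul_top_le_smul_of_flat I π hπ
    rw [hker] at hinf
    have hkey : J'.restrictScalars A' ≤
        (Ideal.span (Set.range f')).restrictScalars A' ⊔ I • J'.restrictScalars A' := by
      intro x hx
      have hx' : x ∈ J' := hx
      have h1 : Ideal.Quotient.mk (I.map (algebraMap A' R')) x ∈
          (Ideal.span (Set.range f')).map (Ideal.Quotient.mk (I.map (algebraMap A' R'))) := by
        rw [Ideal.map_span, ← Set.range_comp,
          show (Ideal.Quotient.mk (I.map (algebraMap A' R'))) ∘ f' = f from funext hf'lift,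
          ← hJ'map]
        exact Ideal.mem_map_of_mem _ hx'
      obtain ⟨b, hb, hbx⟩ := (Ideal.mem_map_iff_of_surjective
        (Ideal.Quotient.mk (I.map (algebraMap A' R'))) Ideal.Quotient.mk_surjective).1 h1
      have h2 : x - b ∈ I.map (algebraMap A' R') := by
        apply Ideal.Quotient.eq_zero_iff_mem.1
        rw [map_sub, hbx, sub_self]
      have h3 : x - b ∈ J'.restrictScalars A' ⊓ I • (⊤ : Submodule A' R') := by
        refine ⟨J'.sub_mem hx' (hN hb), ?_⟩
        rw [Ideal.smul_top_eq_map]
        exact h2
      have h4 := hinf h3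
      have h5 : x = b + (x - b) := by ring
      rw [h5]
      exact Submodule.add_mem_sup hb h4
    have hfin := Groth.Agent.H26.LiftRes2.le_of_le_sup_smul I hnil hkey
    exact fun x hx => hfin hx

end Groth.Agent.S13972
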