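import Groth.Statements.S13981
import Groth.Agent.H61.ArtFunLift
import Groth.Agent.H61.SchlessSmall

set_option autoImplicit false
universe u v
open CategoryTheory
open ArtFun

namespace Groth.Agent.S13981

open ArtFun ArtFun.Art Groth.Agent.H61 Groth.Agent.H63 in
theorem truncMap_surjective' {Λ : Type u} {k : Type u} [CommRing Λ] [Field k] [Algebra Λ k]
    (S : CRing Λ k) (n : ℕ) : Function.Surjective (S.truncMap n) := by
  intro y
  obtain ⟨s, rfl⟩ := Ideal.Quotient.mk_surjective y
  exact ⟨Ideal.Quotient.mk _ s, rfl⟩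

open ArtFun ArtFun.Art Groth.Agent.H61 Groth.Agent.H63 in
/-- the comparison `A'/m^(n+2) → A'/m^(n+1) ×_{A/m^(n+1)} A/m^(n+2)` is surjective -/
theorem lift_surjective {Λ : Type u} {k : Type u} [CommRing Λ] [Field k] [Algebra Λ k]
    [IsNoetherianRing Λ] [Module.Finite Λ k]
    (A' A : CRing Λ k) (g : A'.carrier →ₐ[Λ] A.carrier) (hg : A.res.comp g = A'.res)
    (hgs : Function.Surjective g) (n : ℕ) :
    Function.Surjective (fibreProdLift (CRing.truncMapOfHom g hg n) (A.truncMap n)
      (truncMap_surjective' A n) (A'.truncMap n) (CRing.truncMapOfHom g hg (n + 1))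
      (CRing.truncMapOfHom_truncMap g hg n).symm) := by
  intro q
  have hts := truncMap_surjective' A n
  have hfp := isFibreProd_fibreProd (CRing.truncMapOfHom g hg n) (A.truncMap n) hts
  obtain ⟨α', hα'⟩ := Ideal.Quotient.mk_surjective
    (fibreProdFst (CRing.truncMapOfHom g hg n) (A.truncMap n) hts q)
  obtain ⟨α, hα⟩ := Ideal.Quotient.mk_surjective
    (fibreProdSnd (CRing.truncMapOfHom g hg n) (A.truncMap n) hts q)
  have hw := hfp.w_apply q
  rw [← hα', ← hα] at hw
  have hw' : Ideal.Quotient.mk (CRing.mpow A n) (g α') = Ideal.Quotient.mk (CRing.mpow A n) α := hw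
  rw [Ideal.Quotient.eq] at hw'
  have hmap : (CRing.mpow A' n).map g.toRingHom = CRing.mpow A n := by
    rw [CRing.mpow, Ideal.map_pow, IsLocalRing.map_maximalIdeal_of_surjective g.toRingHom hgs]
  rw [← hmap] at hw'
  obtain ⟨β', hβ', hgβ'⟩ := (Ideal.mem_map_iff_of_surjective g.toRingHom hgs).1 hw'
  have hgβ : g β' = g α' - α := hgβ'
  refine ⟨Ideal.Quotient.mk _ (α' - β'), ?_⟩
  apply hfp.inj
  · refine Eq.trans (b := Ideal.Quotient.mk (CRing.mpow A' n) (α' - β')) rfl ?_
    rw [← hα', Ideal.Quotient.eq]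
    have : α' - β' - α' = -β' := by ring
    rw [this]
    exact neg_mem hβ'
  · refine Eq.trans (b := Ideal.Quotient.mk (CRing.mpow A (n + 1)) (g (α' - β'))) rfl ?_
    rw [← hα, map_sub, hgβ]
    congr 1
    ring

/-- Let F be a functor on Artinian local Λ-algebras with residue field k (Λ Noetherian, Λ → k finite and
surjective) satisfying (RS) — the comparison map for A₁ ×_A A₂ is bijective whenever A₂ → A is
surjective — and let ξ be a versal family of F over a complete local Noetherian Λ-algebra R with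
residue field k. Then the lifting property defining versality also holds along surjections of
complete local Noetherian algebras: if g : A' → A is such a surjection, η' is a formal element of F
over A' (a compatible system over the truncations A'/m^(n+1)) and φ : R → A is a map under which the
formal element of ξ becomes the pushforward of η' along g, then φ lifts to ψ : R → A' with g ∘ ψ = φ
and with ξ inducing η' along ψ. (The published statement takes Λ complete local Noetherian with
residue field k; its proof does not use completeness of Λ, and this row assumes only Λ Noetherian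
with Λ → k surjective.) -/
theorem result {Λ : Type u} {k : Type u} [CommRing Λ] [Field k]
    [Algebra Λ k] [IsNoetherianRing Λ] [Module.Finite Λ k] (hΛ : Function.Surjective (algebraMap Λ k))
    {F : ArtFun.Art Λ k ⥤ Type v}
    (hRS : ∀ ⦃B A A₁ A₂ : ArtFun.Art Λ k⦄ (p₁ : B ⟶ A₁) (p₂ : B ⟶ A₂) (f₁ : A₁ ⟶ A) (f₂ : A₂ ⟶ A)
        (h : ArtFun.Art.IsFibreProd p₁ p₂ f₁ f₂), Function.Surjective f₂ → Function.Bijective (ArtFun.cmp F h))
    (R : ArtFun.CRing Λ k) (ξ : ArtFun.Family R.carrier R.res F) (hξ : ArtFun.IsVersal ξ)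
    (A' A : ArtFun.CRing Λ k) (g : A'.carrier →ₐ[Λ] A.carrier) (hg : A.res.comp g = A'.res)
    (hgs : Function.Surjective g) (η' : ArtFun.FormalElt F A')
    (φ : R.carrier →ₐ[Λ] A.carrier) (hφ : A.res.comp φ = R.res)
    (hsq : (ξ.along φ hφ).toFormalElt = η'.push g hg) :
    ∃ (ψ : R.carrier →ₐ[Λ] A'.carrier) (hψ : A'.res.comp ψ = R.res),
      g.comp ψ = φ ∧ (ξ.along ψ hψ).toFormalElt = η' := by
  classical
  open ArtFun ArtFun.Art Groth.Agent.H61 Groth.Agent.H63 in
  · let gn : ∀ n, A'.trunc n ⟶ A.trunc n := fun n => CRing.truncMapOfHom g hg n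
    let φn : ∀ n, HomSet R.carrier R.res (A.trunc n) := fun n =>
      ⟨(A.truncHom n).1.comp φ, by rw [← AlgHom.comp_assoc, (A.truncHom n).2, hφ]⟩
    have hφn : ∀ n, HomSet.map (A.truncMap n) (φn (n + 1)) = φn n := by
      intro n
      apply Subtype.ext
      change (A.truncMap n).toAlgHom.comp ((A.truncHom (n + 1)).1.comp φ) = (A.truncHom n).1.comp φ
      rw [← AlgHom.comp_assoc]
      exact congrArg (fun t => t.comp φ) (congrArg Subtype.val (A.truncMap_truncHom n))
    have hsqn : ∀ n, ξ.app _ (φn n) = F.map (gn n) (η'.elt n) := fun n =>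
      congrArg (fun u => u.elt n) hsq
    have hgn_surj : ∀ n, Function.Surjective (gn n) := by
      intro n x
      obtain ⟨a, rfl⟩ := Ideal.Quotient.mk_surjective x
      obtain ⟨a', rfl⟩ := hgs a
      exact ⟨Ideal.Quotient.mk _ a', rfl⟩
    let P : ∀ n, HomSet R.carrier R.res (A'.trunc n) → Prop := fun n ψ =>
      HomSet.map (gn n) ψ = φn n ∧ ξ.app _ ψ = η'.elt n
    have base : ∃ ψ, P 0 ψ := by
      obtain ⟨ψ, h1, h2⟩ := hξ (gn 0) (hgn_surj 0) (φn 0) (η'.elt 0) (hsqn 0).symm
      exact ⟨ψ, h1, h2⟩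
    have step : ∀ n (ψ : {ψ // P n ψ}), ∃ ψ' : {ψ' // P (n + 1) ψ'},
        HomSet.map (A'.truncMap n) ψ'.1 = ψ.1 := by
      rintro n ⟨ψ, hψ1, hψ2⟩
      have hts := truncMap_surjective' A n
      have hfp := isFibreProd_fibreProd (gn n) (A.truncMap n) hts
      have hc1 := fibreProdLift_fst (gn n) (A.truncMap n) hts (A'.truncMap n) (gn (n + 1))
        (CRing.truncMapOfHom_truncMap g hg n).symm
      have hc2 := fibreProdLift_snd (gn n) (A.truncMap n) hts (A'.truncMap n) (gn (n + 1))
        (CRing.truncMapOfHom_truncMap g hg n).symm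
      have hcs := lift_surjective A' A g hg hgs n
      obtain ⟨c, hc⟩ : ∃ c, c = fibreProdLift (gn n) (A.truncMap n) hts (A'.truncMap n)
        (gn (n + 1)) (CRing.truncMapOfHom_truncMap g hg n).symm := ⟨_, rfl⟩
      rw [← hc] at hc1 hc2
      have hcs' : Function.Surjective c := by rw [hc]; exact hcs
      obtain ⟨χ, hχ1, hχ2⟩ := _root_.H61.fibreProd_lift hfp ψ (φn (n + 1))
        (by rw [hψ1, hφn])
      have hξχ : ξ.app _ χ = F.map c (η'.elt (n + 1)) := by
        apply (hRS _ _ _ _ hfp hts).1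
        apply Subtype.ext
        apply Prod.ext
        · change F.map (fibreProdFst (gn n) (A.truncMap n) hts) (ξ.app _ χ) =
            F.map (fibreProdFst (gn n) (A.truncMap n) hts) (F.map c _)
          rw [← ξ.natural, hχ1, hψ2, ← Functor.map_comp_apply, hc1, η'.compat]
        · change F.map (fibreProdSnd (gn n) (A.truncMap n) hts) (ξ.app _ χ) =
            F.map (fibreProdSnd (gn n) (A.truncMap n) hts) (F.map c _)
          rw [← ξ.natural, hχ2, hsqn, ← Functor.map_comp_apply, hc2]
      obtain ⟨ψ', h1, h2⟩ := hξ c hcs' χ (η'.elt (n + 1)) hξχ.symm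
      refine ⟨⟨ψ', ⟨?_, h2⟩⟩, ?_⟩
      · rw [← hc2, homSet_map_comp, h1, hχ2]
      · change HomSet.map (A'.truncMap n) ψ' = ψ
        rw [← hc1, homSet_map_comp, h1, hχ1]
    choose nxt hnxt using step
    obtain ⟨ψ0, hψ0⟩ := base
    let seq : ∀ n, {ψ // P n ψ} := fun n =>
      Nat.rec (motive := fun n => {ψ // P n ψ}) ⟨ψ0, hψ0⟩ (fun n ψ => nxt n ψ) n
    have hseq : ∀ n, HomSet.map (A'.truncMap n) (seq (n + 1)).1 = (seq n).1 := fun n =>
      hnxt n (seq n)
    obtain ⟨ψ, hψres, hψn⟩ := exists_limit_hom A' (fun n => (seq n).1) hseq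
    refine ⟨ψ, hψres, ?_, ?_⟩
    · apply algHom_eq_of_trunc_eq A
      intro n
      have h1 : (A.truncHom n).1.comp g = (gn n).toAlgHom.comp (A'.truncHom n).1 :=
        AlgHom.ext fun _ => rfl
      rw [← AlgHom.comp_assoc, h1, AlgHom.comp_assoc, hψn n]
      exact congrArg Subtype.val (seq n).2.1
    · apply FormalElt.ext'
      intro n
      change ξ.app _ ⟨(A'.truncHom n).1.comp ψ, _⟩ = η'.elt n
      rw [← (seq n).2.2]
      congr 1
      exact Subtype.ext (hψn n)

end Groth.Agent.S13981
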