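import Mathlib
import Groth.Statements.S13989

set_option autoImplicit false
universe v u v' u' v'' u''
open CategoryTheory CategoryTheory.Limits
open CohGab

namespace Groth.Agent.S13989

section
variable {A A' : Type u} [Category.{v} A] [Abelian A] [Category.{v} A'] [Abelian A']
    (i : A' ⥤ A) [i.Full] [i.Faithful] [PreservesFiniteLimits i] [PreservesFiniteColimits i]
    (J : ObjectProperty A) [J.IsSerreClass] [(J.inverseImage i).IsSerreClass]

/-- Target side: a morphism from an object of `J` to `i N` is killed by `i q` for some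
`q : N ⟶ N₂` which is an isomorphism modulo `J ∩ A'`. -/
theorem lemmaB (hsub : ∀ (M : A') (N : A) (f : N ⟶ i.obj M), Mono f → J N → i.essImage N)
    (N : A') {K₀ : A} (a : K₀ ⟶ i.obj N) (hK₀ : J K₀) :
    ∃ (N₂ : A') (q : N ⟶ N₂), (J.inverseImage i).isoModSerre q ∧ a ≫ i.map q = 0 := by
  have hK : J (Abelian.image a) := J.prop_of_epi (Abelian.factorThruImage a) hK₀
  obtain ⟨K', ⟨φ⟩⟩ := hsub N (Abelian.image a) (Abelian.image.ι a) inferInstance hK
  let k : K' ⟶ N := i.preimage (φ.hom ≫ Abelian.image.ι a)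
  have hk : i.map k = φ.hom ≫ Abelian.image.ι a := i.map_preimage _
  haveI : Mono (i.map k) := by rw [hk]; infer_instance
  haveI : Mono k := i.mono_of_mono_map inferInstance
  refine ⟨cokernel k, cokernel.π k, ?_, ?_⟩
  · rw [ObjectProperty.isoModSerre_iff_of_epi]
    have hK' : (J.inverseImage i) K' := J.prop_of_iso φ.symm hK
    exact (J.inverseImage i).prop_of_iso (asIso (Abelian.factorThruImage k)) hK'
  · have h1 : Abelian.image.ι a = φ.inv ≫ i.map k := by rw [hk, Iso.inv_hom_id_assoc]
    rw [← Abelian.image.fac a, h1, Category.assoc, Category.assoc, ← i.map_comp,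
      cokernel.condition, i.map_zero, comp_zero, comp_zero]

/-- Source side: a morphism `s : X ⟶ i M` which is an isomorphism modulo `J` factors as an
epimorphism onto `i M₁` followed by `i j`, with `j` an isomorphism modulo `J ∩ A'`. -/
theorem lemmaA (hquot : ∀ (M : A') (N : A) (p : i.obj M ⟶ N), Epi p → J N → i.essImage N)
    (M : A') {X : A} (s : X ⟶ i.obj M) (hs : J.isoModSerre s) :
    ∃ (M₁ : A') (j : M₁ ⟶ M) (ρ : X ⟶ i.obj M₁),
      (J.inverseImage i).isoModSerre j ∧ Epi ρ ∧ ρ ≫ i.map j = s := by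
  have hC : J (cokernel s) := hs.2
  obtain ⟨C', ⟨φ⟩⟩ := hquot M (cokernel s) (cokernel.π s) inferInstance hC
  let c : M ⟶ C' := i.preimage (cokernel.π s ≫ φ.inv)
  have hc : i.map c = cokernel.π s ≫ φ.inv := i.map_preimage _
  haveI : Epi (i.map c) := by rw [hc]; infer_instance
  haveI : Epi c := i.epi_of_epi_map inferInstance
  have hs0 : s ≫ i.map c = 0 := by rw [hc, cokernel.condition_assoc, zero_comp]
  refine ⟨kernel c, kernel.ι c, kernel.lift (i.map c) s hs0 ≫ (PreservesKernel.iso i c).inv,
    ?_, ?_, ?_⟩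
  · rw [ObjectProperty.isoModSerre_iff_of_mono]
    have hC' : (J.inverseImage i) C' := J.prop_of_iso φ.symm hC
    exact (J.inverseImage i).prop_of_iso (asIso (Abelian.factorThruCoimage c)).symm hC'
  · have hex : (ShortComplex.mk s (i.map c) hs0).Exact :=
      ShortComplex.exact_of_g_is_cokernel _
        (cokernel.cokernelIso s (i.map c) φ.symm hc.symm)
    haveI : Epi (kernel.lift (i.map c) s hs0) :=
      (ShortComplex.exact_iff_epi_kernel_lift (ShortComplex.mk s (i.map c) hs0)).mp hex
    exact epi_comp _ _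
  · rw [Category.assoc, PreservesKernel.iso_inv_ι, kernel.lift_ι]

end

/-- Let A be an abelian category, A' a full abelian subcategory (given as a fully faithful exact functor
i : A' ⥤ A) and J a Serre subcategory of A, with J' = J ∩ A' (the preimage of J under i, a Serre
subcategory of A'). Assume that every subobject and every quotient object, in A, of an object of A'
which belongs to J belongs to A' (lies in the essential image of i). Then the functor A'/J' ⥤ A/J
induced between the quotient categories is fully faithful: for L : A ⥤ Q and L' : A' ⥤ Q'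
localization functors at the morphisms whose kernel and cokernel lie in J, resp. J', every functor Φ
: Q' ⥤ Q with L' ⋙ Φ ≅ i ⋙ L is full and faithful. -/
theorem result
    {A A' : Type u} [Category.{v} A] [Abelian A] [Category.{v} A'] [Abelian A']
    (i : A' ⥤ A) [i.Full] [i.Faithful] [PreservesFiniteLimits i] [PreservesFiniteColimits i]
    (J : ObjectProperty A) [J.IsSerreClass] [(J.inverseImage i).IsSerreClass]
    (hsub : ∀ (M : A') (N : A) (f : N ⟶ i.obj M), Mono f → J N → i.essImage N)
    (hquot : ∀ (M : A') (N : A) (p : i.obj M ⟶ N), Epi p → J N → i.essImage N)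
    {Q : Type u'} [Category.{v'} Q] (L : A ⥤ Q) [L.IsLocalization J.isoModSerre]
    {Q' : Type u''} [Category.{v''} Q'] (L' : A' ⥤ Q') [L'.IsLocalization (J.inverseImage i).isoModSerre]
    (Φ : Q' ⥤ Q) (e : L' ⋙ Φ ≅ i ⋙ L) : Φ.Full ∧ Φ.Faithful := by
  haveI : L'.EssSurj := Localization.essSurj L' (J.inverseImage i).isoModSerre
  have hinv : ∀ {M N : A'} (t : M ⟶ N), (J.inverseImage i).isoModSerre t →
      IsIso (L.map (i.map t)) := by
    intro M N t ht
    haveI : IsIso (L'.map t) := Localization.inverts L' (J.inverseImage i).isoModSerre t ht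
    have h : L.map (i.map t) = e.inv.app M ≫ Φ.map (L'.map t) ≫ e.hom.app N :=
      (NatIso.naturality_1 e t).symm
    rw [h]; infer_instance
  constructor
  · refine Φ.full_of_comp_essSurj L' (fun M N a => ?_)
    obtain ⟨b, ha⟩ : ∃ b : L.obj (i.obj M) ⟶ L.obj (i.obj N),
        a = e.hom.app M ≫ b ≫ e.inv.app N :=
      ⟨e.inv.app M ≫ a ≫ e.hom.app N, by
        simp [dsimp% e.hom_inv_id_app_assoc, dsimp% e.hom_inv_id_app]⟩
    obtain ⟨φ, hφ⟩ := Localization.exists_rightFraction L J.isoModSerre b
    obtain ⟨M₁, j, ρ, hj, hρ, hρj⟩ := lemmaA i J hquot M φ.s φ.hs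
    obtain ⟨N₂, q, hq, hq0⟩ := lemmaB i J hsub N (kernel.ι φ.s ≫ φ.f) φ.hs.1
    have hker : kernel.ι ρ ≫ (φ.f ≫ i.map q) = 0 := by
      have h1 : kernel.ι ρ ≫ φ.s = 0 := by rw [← hρj, kernel.condition_assoc, zero_comp]
      rw [← kernel.lift_ι φ.s (kernel.ι ρ) h1, Category.assoc,
        ← Category.assoc (kernel.ι φ.s), hq0, comp_zero]
    obtain ⟨γ, hγ⟩ := CokernelCofork.IsColimit.desc'
      (Abelian.epiIsCokernelOfKernel _ (kernelIsKernel ρ)) (φ.f ≫ i.map q) hker
    have hγ' : ρ ≫ γ = φ.f ≫ i.map q := hγ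
    let g : M₁ ⟶ N₂ := i.preimage γ
    have hg : i.map g = γ := i.map_preimage γ
    haveI := Localization.inverts L' (J.inverseImage i).isoModSerre j hj
    haveI := Localization.inverts L' (J.inverseImage i).isoModSerre q hq
    haveI := hinv j hj
    haveI := hinv q hq
    haveI : IsIso (L.map φ.s) := Localization.inverts L J.isoModSerre φ.s φ.hs
    haveI : IsIso (L.map ρ) := by
      haveI : IsIso (L.map ρ ≫ L.map (i.map j)) := by
        rw [← L.map_comp, hρj]; infer_instance
      exact IsIso.of_isIso_comp_right (L.map ρ) (L.map (i.map j))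
    have hb : L.map φ.s ≫ b = L.map φ.f := by
      rw [hφ]; exact φ.map_s_comp_map L _
    have hstar2 : L.map (i.map j) ≫ b ≫ L.map (i.map q) = L.map (i.map g) := by
      rw [← cancel_epi (L.map ρ)]
      calc L.map ρ ≫ L.map (i.map j) ≫ b ≫ L.map (i.map q)
          = L.map (ρ ≫ i.map j) ≫ b ≫ L.map (i.map q) := by rw [L.map_comp, Category.assoc]
        _ = (L.map φ.s ≫ b) ≫ L.map (i.map q) := by rw [hρj, Category.assoc]
        _ = L.map (φ.f ≫ i.map q) := by rw [hb, L.map_comp]
        _ = L.map (ρ ≫ i.map g) := by rw [← hγ', hg]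
        _ = L.map ρ ≫ L.map (i.map g) := L.map_comp _ _
    have hstar : Φ.map (L'.map j) ≫ a ≫ Φ.map (L'.map q) = Φ.map (L'.map g) := by
      have n1 : Φ.map (L'.map j) ≫ e.hom.app M = e.hom.app M₁ ≫ L.map (i.map j) :=
        e.hom.naturality j
      have n2 : e.inv.app N ≫ Φ.map (L'.map q) = L.map (i.map q) ≫ e.inv.app N₂ :=
        (e.inv.naturality q).symm
      have n3 : Φ.map (L'.map g) = e.hom.app M₁ ≫ L.map (i.map g) ≫ e.inv.app N₂ :=
        (NatIso.naturality_2 e g).symm
      rw [ha, n3, ← hstar2]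
      simp only [Category.assoc]
      rw [reassoc_of% n1, n2]
    refine ⟨inv (L'.map j) ≫ L'.map g ≫ inv (L'.map q), ?_⟩
    rw [Φ.map_comp, Φ.map_comp, Functor.map_inv, Functor.map_inv, ← hstar]
    simp
  · refine Functor.faithful_of_comp_of_hasLeftCalculusOfFractions L'
      (J.inverseImage i).isoModSerre Φ (fun M N f g hfg => ?_)
    have h1 : L.map (i.map f) = L.map (i.map g) := by
      have e1 : L.map (i.map f) = e.inv.app M ≫ Φ.map (L'.map f) ≫ e.hom.app N :=
        (NatIso.naturality_1 e f).symm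
      have e2 : L.map (i.map g) = e.inv.app M ≫ Φ.map (L'.map g) ≫ e.hom.app N :=
        (NatIso.naturality_1 e g).symm
      rw [e1, e2, hfg]
    obtain ⟨Z, s, hs, hfs⟩ :=
      (MorphismProperty.map_eq_iff_postcomp L J.isoModSerre (i.map f) (i.map g)).mp h1
    obtain ⟨N₂, q, hq, hq0⟩ := lemmaB i J hsub N (kernel.ι s) hs.1
    have h2 : (i.map f - i.map g) ≫ s = 0 := by rw [Preadditive.sub_comp, hfs, sub_self]
    have h3 : (i.map f - i.map g) ≫ i.map q = 0 := by
      rw [← kernel.lift_ι s _ h2, Category.assoc, hq0, comp_zero]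
    have h4 : i.map (f ≫ q) = i.map (g ≫ q) := by
      rw [i.map_comp, i.map_comp, ← sub_eq_zero, ← Preadditive.sub_comp]; exact h3
    have h5 : f ≫ q = g ≫ q := i.map_injective h4
    haveI := Localization.inverts L' (J.inverseImage i).isoModSerre q hq
    rw [← cancel_mono (L'.map q), ← L'.map_comp, ← L'.map_comp, h5]

end Groth.Agent.S13989
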