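import Mathlib
import Groth.Statements.S13993

set_option autoImplicit false
universe u
open CategoryTheory
open CAlg

namespace Groth.Agent.S13993

universe w v' u'

/-- Facts from the contravariant long exact sequence for a short exact sequence with projective
middle term. -/
theorem ses_facts {C : Type u'} [Category.{v'} C] [Abelian C] [HasExt.{w} C]
    {S : ShortComplex C} (hS : S.ShortExact) [Projective S.X₂] (Y : C) :
    (∀ x₃ : Abelian.Ext S.X₃ Y 1, ∃ φ : S.X₁ ⟶ Y,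
        hS.extClass.comp (Abelian.Ext.mk₀ φ) (add_zero 1) = x₃) ∧
    (∀ φ : S.X₁ ⟶ Y, hS.extClass.comp (Abelian.Ext.mk₀ φ) (add_zero 1) = 0 →
        ∃ ψ : S.X₂ ⟶ Y, S.f ≫ ψ = φ) ∧
    (∀ ψ : S.X₂ ⟶ Y, hS.extClass.comp (Abelian.Ext.mk₀ (S.f ≫ ψ)) (add_zero 1) = 0) := by
  refine ⟨fun x₃ => ?_, fun φ h => ?_, fun ψ => ?_⟩
  · have h0 : (Abelian.Ext.mk₀ S.g).comp x₃ (zero_add 1) = 0 :=
      Abelian.Ext.eq_zero_of_projective _
    obtain ⟨x₁, hx₁⟩ := Abelian.Ext.contravariant_sequence_exact₃ hS Y x₃ h0 (add_zero 1)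
    obtain ⟨φ, rfl⟩ := (Abelian.Ext.mk₀_bijective _ _).2 x₁
    exact ⟨φ, hx₁⟩
  · obtain ⟨x₂, hx₂⟩ := Abelian.Ext.contravariant_sequence_exact₁ hS Y (Abelian.Ext.mk₀ φ)
      (add_zero 1) h
    obtain ⟨ψ, rfl⟩ := (Abelian.Ext.mk₀_bijective _ _).2 x₂
    rw [Abelian.Ext.mk₀_comp_mk₀] at hx₂
    exact ⟨ψ, (Abelian.Ext.mk₀_bijective _ _).1 hx₂⟩
  · rw [← Abelian.Ext.mk₀_comp_mk₀]
    exact hS.extClass_comp_assoc _

/-- Formal dimension count. -/
theorem finrank_one_of_facts {k : Type u} [Field k] {C : Type u'} [Category.{v'} C] [Abelian C]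
    [Linear k C] [HasExt.{w} C] {X₃ Y P : C} (f : Y ⟶ P) (ec : Abelian.Ext X₃ Y 1)
    (E1 : ∀ x₃ : Abelian.Ext X₃ Y 1, ∃ φ : Y ⟶ Y,
      ec.comp (Abelian.Ext.mk₀ φ) (add_zero 1) = x₃)
    (E2 : ∀ φ : Y ⟶ Y, ec.comp (Abelian.Ext.mk₀ φ) (add_zero 1) = 0 →
      ∃ ψ : P ⟶ Y, f ≫ ψ = φ)
    (E3 : ∀ ψ : P ⟶ Y, ec.comp (Abelian.Ext.mk₀ (f ≫ ψ)) (add_zero 1) = 0)
    (evf : (Y ⟶ Y) → k) (hd : evf (𝟙 Y) = 1)
    (ha : ∀ (φ : Y ⟶ Y) (c : k), evf (φ - c • 𝟙 Y) = evf φ - c)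
    (hi : ∀ φ : Y ⟶ Y, evf φ = 0 → ∃ ψ : P ⟶ Y, f ≫ ψ = φ)
    (hii : ∀ ψ : P ⟶ Y, evf (f ≫ ψ) = 0) :
    Module.finrank k (Abelian.Ext X₃ Y 1) = 1 := by
  have hΦ0 : ∀ φ : Y ⟶ Y, evf φ = 0 → ec.comp (Abelian.Ext.mk₀ φ) (add_zero 1) = 0 := by
    intro φ h
    obtain ⟨ψ, rfl⟩ := hi φ h
    exact E3 ψ
  have hv : ec.comp (Abelian.Ext.mk₀ (𝟙 Y)) (add_zero 1) ≠ 0 := fun h => by
    obtain ⟨ψ, hψ⟩ := E2 _ h
    have h1 := hii ψ
    rw [hψ, hd] at h1
    exact one_ne_zero h1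
  refine (finrank_eq_one_iff_of_nonzero' _ hv).mpr ?_
  intro w
  obtain ⟨φ, rfl⟩ := E1 w
  refine ⟨evf φ, ?_⟩
  have h0 : evf (φ - evf φ • 𝟙 Y) = 0 := by rw [ha, sub_self]
  have h1 := hΦ0 _ h0
  calc evf φ • ec.comp (Abelian.Ext.mk₀ (𝟙 Y)) (add_zero 1)
      = ec.comp (Abelian.Ext.mk₀ (φ - evf φ • 𝟙 Y)) (add_zero 1)
          + evf φ • ec.comp (Abelian.Ext.mk₀ (𝟙 Y)) (add_zero 1) := by rw [h1, zero_add]
    _ = ec.comp (Abelian.Ext.mk₀ ((φ - evf φ • 𝟙 Y) + evf φ • 𝟙 Y)) (add_zero 1) := by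
        rw [Abelian.Ext.mk₀_add, Abelian.Ext.comp_add, Abelian.Ext.mk₀_smul (R := k),
          Abelian.Ext.comp_smul]
    _ = ec.comp (Abelian.Ext.mk₀ φ) (add_zero 1) := by rw [sub_add_cancel]

theorem hom_smul_id_apply {k : Type u} [Field k] {A : Type u} [CommRing A] [Algebra k A]
    (Y : ModuleCat.{u} A) (c : k) (q : Y) :
    (c • 𝟙 Y : Y ⟶ Y).hom q = algebraMap k A c • q := by
  open ModuleCat in
  rw [ModuleCat.hom_smul, LinearMap.smul_apply, ModuleCat.hom_id, LinearMap.id_apply,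
    algebraMap_smul]

section Concrete

variable {k : Type u} [Field k] {A : Type u} [CommRing A] [Algebra k A] (x y : A)

set_option quotPrecheck false in
local notation "Yx" => (ModuleCat.of A (A ⧸ Ideal.span {x}))
set_option quotPrecheck false in
local notation "Xy" => (ModuleCat.of A (A ⧸ Ideal.span {y}))
set_option quotPrecheck false in
local notation "mkx" => Ideal.Quotient.mk (Ideal.span {x})

/-- General computation: `Ext¹_A(A/(y), A/(x))` is one-dimensional over `k` when `xy = 0`,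
`ann(y) ⊆ (x)` and `A/(x, y) = k`. -/
theorem ext_one_finrank (hxy : x * y = 0) (hann : ∀ a : A, a * y = 0 → a ∈ Ideal.span {x})
    (ε : A →ₐ[k] k) (hεx : ε x = 0) (hεy : ε y = 0)
    (hε : ∀ a : A, ε a = 0 → a ∈ Ideal.span {x, y}) :
    Module.finrank k (Abelian.Ext (ModuleCat.of A (A ⧸ Ideal.span {y}))
      (ModuleCat.of A (A ⧸ Ideal.span {x})) 1) = 1 := by
  have hsm : ∀ a b : A, a • (mkx b) = mkx (a * b) := fun a b => rfl
  obtain ⟨μ, hμ⟩ : ∃ μ : (A ⧸ Ideal.span {x}) →ₗ[A] A, ∀ a : A, μ (mkx a) = a * y := by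
    have hJ : Ideal.span {x} ≤ LinearMap.ker (LinearMap.toSpanSingleton A A y) := by
      intro a ha
      obtain ⟨c, rfl⟩ := Ideal.mem_span_singleton'.mp ha
      rw [LinearMap.mem_ker, LinearMap.toSpanSingleton_apply, smul_eq_mul, mul_assoc, hxy,
        mul_zero]
    refine ⟨Submodule.liftQ (Ideal.span {x}) (LinearMap.toSpanSingleton A A y) hJ, fun a => ?_⟩
    show (Submodule.liftQ (Ideal.span {x}) (LinearMap.toSpanSingleton A A y) hJ)
      (Submodule.Quotient.mk a) = a * y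
    rw [Submodule.liftQ_apply, LinearMap.toSpanSingleton_apply, smul_eq_mul]
  have hμinj : Function.Injective μ := by
    rw [injective_iff_map_eq_zero]
    intro q hq
    obtain ⟨a, rfl⟩ := Ideal.Quotient.mk_surjective q
    rw [hμ] at hq
    exact Ideal.Quotient.eq_zero_iff_mem.mpr (hann a hq)
  have hw : (ModuleCat.ofHom μ : Yx ⟶ ModuleCat.of A A) ≫
      (ModuleCat.ofHom (Submodule.mkQ (Ideal.span {y})) : ModuleCat.of A A ⟶ Xy) = 0 := by
    apply ModuleCat.hom_ext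
    apply LinearMap.ext
    intro q
    obtain ⟨a, rfl⟩ := Ideal.Quotient.mk_surjective q
    show Submodule.Quotient.mk (μ (mkx a)) = 0
    rw [hμ, Submodule.Quotient.mk_eq_zero]
    exact Ideal.mem_span_singleton'.mpr ⟨a, rfl⟩
  have hS : (ShortComplex.mk (ModuleCat.ofHom μ : Yx ⟶ ModuleCat.of A A)
      (ModuleCat.ofHom (Submodule.mkQ (Ideal.span {y})) : ModuleCat.of A A ⟶ Xy) hw).ShortExact := by
    haveI : Mono (ModuleCat.ofHom μ : Yx ⟶ ModuleCat.of A A) :=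
      (ModuleCat.mono_iff_injective _).mpr hμinj
    haveI : Epi (ModuleCat.ofHom (Submodule.mkQ (Ideal.span {y})) : ModuleCat.of A A ⟶ Xy) :=
      (ModuleCat.epi_iff_surjective _).mpr (Submodule.mkQ_surjective _)
    refine ShortComplex.ShortExact.mk ?_
    rw [ShortComplex.moduleCat_exact_iff_range_eq_ker]
    show LinearMap.range μ = LinearMap.ker (Submodule.mkQ (Ideal.span {y}))
    rw [Submodule.ker_mkQ]
    ext a
    rw [LinearMap.mem_range]
    constructor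
    · rintro ⟨q, rfl⟩
      obtain ⟨c, rfl⟩ := Ideal.Quotient.mk_surjective q
      rw [hμ]
      exact Ideal.mem_span_singleton'.mpr ⟨c, rfl⟩
    · intro ha
      obtain ⟨c, rfl⟩ := Ideal.mem_span_singleton'.mp ha
      exact ⟨mkx c, hμ c⟩
  haveI : Projective (ShortComplex.mk (ModuleCat.ofHom μ : Yx ⟶ ModuleCat.of A A)
      (ModuleCat.ofHom (Submodule.mkQ (Ideal.span {y})) : ModuleCat.of A A ⟶ Xy) hw).X₂ :=
    (inferInstance : Projective (ModuleCat.of A A))
  obtain ⟨E1, E2, E3⟩ := ses_facts hS Yx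
  obtain ⟨εq, hεq⟩ : ∃ εq : (A ⧸ Ideal.span {x}) →+* k, ∀ a : A, εq (mkx a) = ε a := by
    refine ⟨Ideal.Quotient.lift (Ideal.span {x}) ε.toRingHom ?_, fun a => Ideal.Quotient.lift_mk _ _ _⟩
    intro a ha
    obtain ⟨c, rfl⟩ := Ideal.mem_span_singleton'.mp ha
    show ε (c * x) = 0
    rw [map_mul, hεx, mul_zero]
  have hφa : ∀ (φ : Yx ⟶ Yx) (a : A), φ.hom (mkx a) = a • φ.hom (mkx 1) := fun φ a => by
    rw [← map_smul, hsm, mul_one]
  refine finrank_one_of_facts (k := k) (ModuleCat.ofHom μ : Yx ⟶ ModuleCat.of A A) hS.extClass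
    E1 E2 E3 (fun φ => εq (φ.hom (mkx 1))) ?_ ?_ ?_ ?_
  · show εq (mkx 1) = 1
    rw [hεq, map_one]
  · intro φ c
    rw [ModuleCat.hom_sub, LinearMap.sub_apply, map_sub, hom_smul_id_apply, hsm, mul_one, hεq,
      AlgHom.commutes]
    rfl
  · intro φ h
    obtain ⟨b, hb⟩ := Ideal.Quotient.mk_surjective (φ.hom (mkx 1))
    have hb0 : ε b = 0 := by
      have h' : εq (φ.hom (mkx 1)) = 0 := h
      rw [← hb, hεq] at h'
      exact h'
    obtain ⟨c, d, hcd⟩ := Ideal.mem_span_pair.mp (hε b hb0)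
    refine ⟨ModuleCat.ofHom (LinearMap.toSpanSingleton A (A ⧸ Ideal.span {x}) (mkx d)), ?_⟩
    apply ModuleCat.hom_ext
    apply LinearMap.ext
    intro q
    obtain ⟨a, rfl⟩ := Ideal.Quotient.mk_surjective q
    rw [hφa φ a, ← hb, hsm]
    show (LinearMap.toSpanSingleton A (A ⧸ Ideal.span {x}) (mkx d)) (μ (mkx a)) = _
    rw [hμ, LinearMap.toSpanSingleton_apply, hsm, Ideal.Quotient.eq]
    refine Ideal.mem_span_singleton'.mpr ⟨-(a * c), ?_⟩
    rw [← hcd]; ring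
  · intro ψ
    obtain ⟨d, hd⟩ := Ideal.Quotient.mk_surjective (ψ.hom (1 : A))
    show εq (ψ.hom (μ (mkx 1))) = 0
    rw [hμ, one_mul, show y = y • (1 : A) by rw [smul_eq_mul, mul_one], map_smul, ← hd, hsm, hεq,
      map_mul, hεy, zero_mul]

end Concrete

section Node

variable (k : Type u) [Field k]

local notation "Rk" => MvPowerSeries (Fin 2) k
local notation "X0" => (MvPowerSeries.X (0 : Fin 2) : MvPowerSeries (Fin 2) k)
local notation "X1" => (MvPowerSeries.X (1 : Fin 2) : MvPowerSeries (Fin 2) k)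
set_option quotPrecheck false in
local notation "I0" => (Ideal.span {(MvPowerSeries.X (0 : Fin 2) : MvPowerSeries (Fin 2) k) * MvPowerSeries.X (1 : Fin 2)} : Ideal (MvPowerSeries (Fin 2) k))

theorem X1_ne_zero : X1 ≠ 0 := by
  intro h
  have h1 := congrArg (MvPowerSeries.coeff (Finsupp.single (1 : Fin 2) 1)) h
  rw [MvPowerSeries.coeff_index_single_self_X, map_zero] at h1
  exact one_ne_zero h1

/-- The constant coefficient as an algebra map. -/
noncomputable def cc : Rk →ₐ[k] k :=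
  { (MvPowerSeries.constantCoeff : Rk →+* k) with
    commutes' := fun r => by
      show MvPowerSeries.constantCoeff (algebraMap k Rk r) = algebraMap k k r
      rw [MvPowerSeries.algebraMap_apply, MvPowerSeries.constantCoeff_C] }

theorem cc_apply (f : Rk) : cc k f = MvPowerSeries.constantCoeff f := rfl

theorem cc_I0 : ∀ a ∈ I0, cc k a = 0 := by
  intro a ha
  obtain ⟨c, rfl⟩ := Ideal.mem_span_singleton'.mp ha
  rw [cc_apply, map_mul, map_mul, MvPowerSeries.constantCoeff_X, zero_mul, mul_zero]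

/-- The augmentation of the node algebra. -/
noncomputable def nodeEps : (Rk ⧸ I0) →ₐ[k] k := Ideal.Quotient.liftₐ I0 (cc k) (cc_I0 k)

theorem nodeEps_mk (f : Rk) :
    nodeEps k (Ideal.Quotient.mk I0 f) = MvPowerSeries.constantCoeff f := rfl

theorem node_hxy : Ideal.Quotient.mk I0 X0 * Ideal.Quotient.mk I0 X1 = 0 := by
  rw [← map_mul]
  exact Ideal.Quotient.eq_zero_iff_mem.mpr (Ideal.subset_span (Set.mem_singleton _))

theorem node_hann : ∀ a : Rk ⧸ I0, a * Ideal.Quotient.mk I0 X1 = 0 →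
    a ∈ Ideal.span {Ideal.Quotient.mk I0 X0} := by
  intro a ha
  obtain ⟨f, rfl⟩ := Ideal.Quotient.mk_surjective a
  rw [← map_mul, Ideal.Quotient.eq_zero_iff_mem, Ideal.mem_span_singleton'] at ha
  obtain ⟨g, hg⟩ := ha
  have hfg : f = g * X0 := by
    apply mul_right_cancel₀ (X1_ne_zero k)
    rw [← hg]; ring
  rw [hfg, map_mul]
  exact Ideal.mem_span_singleton'.mpr ⟨_, rfl⟩

theorem node_decomp (f : Rk) (hf : MvPowerSeries.constantCoeff f = 0) :
    ∃ g h : Rk, f = g * X0 + h * X1 := by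
  classical
  let f₁ : Rk := fun m => if m 0 = 0 then MvPowerSeries.coeff m f else 0
  have hc : ∀ m, MvPowerSeries.coeff m f₁ = if m 0 = 0 then MvPowerSeries.coeff m f else 0 :=
    fun m => rfl
  have h1 : X1 ∣ f₁ := by
    rw [MvPowerSeries.X_dvd_iff]
    intro m hm
    rw [hc]
    split_ifs with h0
    · have hm0 : m = 0 := by
        ext i
        fin_cases i
        · exact h0
        · exact hm
      rw [hm0, MvPowerSeries.coeff_zero_eq_constantCoeff_apply, hf]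
    · rfl
  have h0 : X0 ∣ f - f₁ := by
    rw [MvPowerSeries.X_dvd_iff]
    intro m hm
    rw [map_sub, hc, if_pos hm, sub_self]
  obtain ⟨h, hh⟩ := h1
  obtain ⟨g, hg⟩ := h0
  refine ⟨g, h, ?_⟩
  have : f = (f - f₁) + f₁ := by ring
  rw [this, hg, hh]; ring

theorem node_hε : ∀ a : Rk ⧸ I0, nodeEps k a = 0 →
    a ∈ Ideal.span {Ideal.Quotient.mk I0 X0, Ideal.Quotient.mk I0 X1} := by
  intro a ha
  obtain ⟨f, rfl⟩ := Ideal.Quotient.mk_surjective a
  rw [nodeEps_mk] at ha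
  obtain ⟨g, h, hgh⟩ := node_decomp k f ha
  refine Ideal.mem_span_pair.mpr ⟨Ideal.Quotient.mk I0 g, Ideal.Quotient.mk I0 h, ?_⟩
  rw [← map_mul, ← map_mul, ← map_add, ← hgh]

end Node

/-- Let k be a field and A = k[[x,y]]/(xy) the complete local ring of a node, with branch rings A/(y)
and A/(x) viewed as A-modules. Then the first Ext group Ext¹_A(A/(y), A/(x)) has dimension one over
k. (The published statement is for the local ring at a node of a reduced curve over an algebraically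
closed field of characteristic zero, a node being a point whose complete local ring is A; this row
states the case of the complete local ring A itself, over an arbitrary field.) -/
theorem result (k : Type u) [Field k] : Module.finrank k (Abelian.Ext (ModuleCat.of (MvPowerSeries (Fin 2) k ⧸ Ideal.span {(MvPowerSeries.X (0 : Fin 2) : MvPowerSeries (Fin 2) k) * MvPowerSeries.X (1 : Fin 2)}) ((MvPowerSeries (Fin 2) k ⧸ Ideal.span {(MvPowerSeries.X (0 : Fin 2) : MvPowerSeries (Fin 2) k) * MvPowerSeries.X (1 : Fin 2)}) ⧸ Ideal.span {Ideal.Quotient.mk (Ideal.span {(MvPowerSeries.X (0 : Fin 2) : MvPowerSeries (Fin 2) k) * MvPowerSeries.X (1 : Fin 2)}) (MvPowerSeries.X (1 : Fin 2))})) (ModuleCat.of (MvPowerSeries (Fin 2) k ⧸ Ideal.span {(MvPowerSeries.X (0 : Fin 2) : MvPowerSeries (Fin 2) k) * MvPowerSeries.X (1 : Fin 2)}) ((MvPowerSeries (Fin 2) k ⧸ Ideal.span {(MvPowerSeries.X (0 : Fin 2) : MvPowerSeries (Fin 2) k) * MvPowerSeries.X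 (1 : Fin 2)}) ⧸ Ideal.span {Ideal.Quotient.mk (Ideal.span {(MvPowerSeries.X (0 : Fin 2) : MvPowerSeries (Fin 2) k) * MvPowerSeries.X (1 : Fin 2)}) (MvPowerSeries.X (0 : Fin 2))})) 1) = 1 := by
  refine ext_one_finrank (k := k) _ _ (node_hxy k) (node_hann k) (nodeEps k) ?_ ?_ (node_hε k)
  · rw [nodeEps_mk, MvPowerSeries.constantCoeff_X]
  · rw [nodeEps_mk, MvPowerSeries.constantCoeff_X]

end Groth.Agent.S13993
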