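import Mathlib
import Groth.Statements.S13995

set_option autoImplicit false
universe u
open CAlg

namespace Groth.Agent.S13995

theorem eq_zero_of_finrank_one {K V W : Type*} [Field K] [AddCommGroup V] [Module K V]
    [AddCommGroup W] [Module K W] [Nontrivial W]
    (h1 : Module.finrank K V = 1) (f : V →ₗ[K] W) (hf : Function.Surjective f) (v : V)
    (hv : f v = 0) : v = 0 := by
  by_contra hne
  have hspan := (finrank_eq_one_iff_of_nonzero' v hne).mp h1
  obtain ⟨w, hw⟩ := exists_ne (0 : W)
  obtain ⟨u, rfl⟩ := hf w
  obtain ⟨c, rfl⟩ := hspan u
  rw [map_smul, hv, smul_zero] at hw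
  exact hw rfl

/-- Let R be a reduced Noetherian ring, M a finitely generated R-module all of whose associated primes
are minimal primes of R and whose localization at each minimal prime p is one-dimensional over the
field R_p, and let g : M → Q be a surjection onto a finitely generated R-module Q all of whose
associated primes are minimal primes of R. Then the kernel of g is the intersection, over the
minimal primes p of R lying in the support of Q, of the kernels of the localization maps M → M_p.
(The published statement is for a torsion-free coherent sheaf F of uniform rank one on a reduced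
connected projective curve over a characteristic-zero algebraically closed field: its non-zero
torsion-free quotients are exactly the maximal torsion-free quotients F_D of the restrictions of F
to subcurves D; this row is the corresponding statement for modules over a reduced Noetherian ring,
a subcurve being a set of minimal primes, and identifies each torsion-free quotient with F_D for D
the set of generic points of its support.) -/
theorem result (R : Type u) [CommRing R] [IsNoetherianRing R] [IsReduced R] (M : Type u) [AddCommGroup M] [Module R M] [Module.Finite R M] (hM : associatedPrimes R M ⊆ minimalPrimes R) (hrk : ∀ p : PrimeSpectrum R, p.asIdeal ∈ minimalPrimes R → Module.finrank (Localization.AtPrime p.asIdeal) (LocalizedModule p.asIdeal.primeCompl M) = 1) (Q : Type u) [AddCommGroup Q] [Module R Q] [Module.Finite R Q] (hQ : associatedPrimes R Q ⊆ minimalPrimes R) (g : M →ₗ[R] Q) (hg : Function.Surjective g) : LinearMap.ker g = ⨅ p ∈ {p : PrimeSpectrum R | p.asIdeal ∈ minimalPrimes R ∧ p ∈ Module.support R Q}, LinearMap.ker (LocalizedModule.mkLinearMap p.asIdeal.primeCompl M) := by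
  apply le_antisymm
  · intro m hm
    simp only [Submodule.mem_iInf]
    rintro p ⟨hpmin, hpsupp⟩
    rw [LinearMap.mem_ker] at hm ⊢
    have hnt : Nontrivial (LocalizedModule p.asIdeal.primeCompl Q) := hpsupp
    have hK0 : Ring.KrullDimLE 0 (Localization.AtPrime p.asIdeal) :=
      Ring.KrullDimLE.of_isLocalization p.asIdeal hpmin (Localization.AtPrime p.asIdeal)
    have hF : IsField (Localization.AtPrime p.asIdeal) := Ring.KrullDimLE.isField_of_isReduced
    letI : Field (Localization.AtPrime p.asIdeal) := hF.toField
    have hsurj := LocalizedModule.map_surjective p.asIdeal.primeCompl g hg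
    rw [LocalizedModule.mkLinearMap_apply]
    apply eq_zero_of_finrank_one (hrk p hpmin) (LocalizedModule.map p.asIdeal.primeCompl g) hsurj
    rw [LocalizedModule.map_mk, hm, LocalizedModule.zero_mk]
  · intro m hm
    rw [LinearMap.mem_ker]
    by_contra hq
    obtain ⟨P, hPass, hPle⟩ := exists_le_isAssociatedPrime_of_isNoetherianRing R (g m) hq
    have hPmin : P ∈ minimalPrimes R := hQ hPass
    obtain ⟨p, hp⟩ : ∃ p : PrimeSpectrum R, p.asIdeal = P := ⟨⟨P, hPass.isPrime⟩, rfl⟩
    subst hp
    have hpsupp : p ∈ Module.support R Q := by
      rw [Module.mem_support_iff_exists_annihilator]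
      refine ⟨g m, ?_⟩
      intro r hr
      apply hPle
      rw [Submodule.mem_colon_singleton, Submodule.mem_bot]
      exact (Submodule.mem_annihilator_span_singleton _ _).mp hr
    have hmp : m ∈ LinearMap.ker (LocalizedModule.mkLinearMap p.asIdeal.primeCompl M) := by
      simp only [Submodule.mem_iInf] at hm
      exact hm p ⟨hPmin, hpsupp⟩
    rw [LinearMap.mem_ker] at hmp
    obtain ⟨s, hsm⟩ := (IsLocalizedModule.eq_zero_iff p.asIdeal.primeCompl
      (LocalizedModule.mkLinearMap p.asIdeal.primeCompl M)).mp hmp
    have hsP : (s : R) ∈ p.asIdeal := by
      apply hPle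
      rw [Submodule.mem_colon_singleton, Submodule.mem_bot, ← map_smul]
      have : (s : R) • m = 0 := hsm
      rw [this, map_zero]
    exact s.2 hsP

end Groth.Agent.S13995
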