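import Groth.Statements.S13996
import Mathlib

set_option autoImplicit false
universe u
open CAlg

namespace Groth.Agent.S13996

theorem result (R : Type u) [CommRing R] [IsLocalRing R] [IsNoetherianRing R] [IsReduced R] (hdim : ringKrullDim R = 1) (M : Type u) [AddCommGroup M] [Module R M] [Module.Finite R M] [Nontrivial M] : (∀ r : R, r ∈ IsLocalRing.maximalIdeal R → IsSMulRegular R r → IsSMulRegular M r) ↔ (∃ x : R, x ∈ IsLocalRing.maximalIdeal R ∧ IsSMulRegular M x) := by
  classical
  have hm : (IsLocalRing.maximalIdeal R).height = 1 := by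
    have := IsLocalRing.maximalIdeal_height_eq_ringKrullDim (R := R)
    rw [hdim] at this
    exact_mod_cast this
  -- primes strictly below the maximal ideal are minimal
  have hmin : ∀ p : Ideal R, p.IsPrime → p < IsLocalRing.maximalIdeal R → p ∈ minimalPrimes R := by
    intro p hp hlt
    have := Ideal.height_add_one_le_of_lt_of_isPrime hlt
    rw [hm] at this
    have h0 : p.height = 0 := by
      by_contra h0
      have h1 : (1 : ℕ∞) ≤ p.height := Order.one_le_iff_ne_zero.mpr h0
      have h2 : (1 : ℕ∞) + 1 ≤ 1 := (add_le_add_left h1 1).trans this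
      exact absurd h2 (by decide)
    exact Ideal.height_eq_zero_iff.mp h0
  -- regular elements avoid minimal primes
  have hreg_notin : ∀ r : R, IsSMulRegular R r → ∀ p ∈ minimalPrimes R, r ∉ p := by
    intro r hr p hp hrp
    have := notMem_nonZeroDivisors_of_mem_mem_minimalPrimes hrp hp
    apply this
    rw [mem_nonZeroDivisors_iff_right]
    intro y hy
    apply hr
    simp only [smul_eq_mul, mul_zero]
    rw [mul_comm]; exact hy
  constructor
  · intro h
    -- find a regular element in the maximal ideal
    have hfin := minimalPrimes.finite_of_isNoetherianRing R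
    have hex : ∃ r ∈ IsLocalRing.maximalIdeal R, ∀ p ∈ minimalPrimes R, r ∉ p := by
      by_contra hcon
      push Not at hcon
      have hsub : ((IsLocalRing.maximalIdeal R : Ideal R) : Set R) ⊆
          ⋃ p ∈ (↑hfin.toFinset : Set (Ideal R)), (id p : Ideal R) := by
        intro r hr
        obtain ⟨p, hp, hrp⟩ := hcon r hr
        simp only [Set.mem_iUnion]
        exact ⟨p, by simpa using hp, hrp⟩
      rw [Ideal.subset_union_prime (⊥ : Ideal R) ⊥] at hsub
      · obtain ⟨p, hp, hle⟩ := hsub
        have hp' : p ∈ minimalPrimes R := by simpa using hp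
        have hpprime : p.IsPrime := hp'.1.1
        have : p = IsLocalRing.maximalIdeal R :=
          ((IsLocalRing.maximalIdeal.isMaximal R).eq_of_le hpprime.ne_top hle).symm
        rw [this] at hp'
        have := Ideal.height_eq_zero_iff.mpr hp'
        rw [hm] at this
        exact one_ne_zero this
      · intro p hp _ _
        have hp' : p ∈ minimalPrimes R := by simpa using hp
        exact hp'.1.1
    obtain ⟨r, hr, hrp⟩ := hex
    refine ⟨r, hr, h r hr ?_⟩
    -- r is a nonzerodivisor since R is reduced
    intro a b hab
    simp only [smul_eq_mul] at hab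
    have h0 : r * (a - b) = 0 := by rw [mul_sub, hab, sub_self]
    have hnil : a - b ∈ nilradical R := by
      rw [nilradical, ← Ideal.sInf_minimalPrimes]
      rw [Ideal.mem_sInf]
      intro p hp
      have hpprime : p.IsPrime := hp.1.1
      have : r * (a - b) ∈ p := by rw [h0]; exact zero_mem _
      exact (hpprime.mem_or_mem this).resolve_left (hrp p hp)
    rw [nilradical_eq_zero] at hnil
    exact sub_eq_zero.mp hnil
  · rintro ⟨x, hx, hxM⟩ r hr hrR
    by_contra hrM
    have hzd : r ∈ { r : R | ∃ y : M, y ≠ 0 ∧ r • y = 0 } := by
      simp only [Set.mem_ofPred_eq]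
      by_contra hno
      push Not at hno
      apply hrM
      intro a b hab
      have : r • (a - b) = 0 := by rw [smul_sub]; exact sub_eq_zero.mpr hab
      by_contra hne
      exact hno (a - b) (sub_ne_zero.mpr hne) this
    rw [← biUnion_associatedPrimes_eq_zero_divisors R M] at hzd
    simp only [Set.mem_iUnion] at hzd
    obtain ⟨p, hp, hrp⟩ := hzd
    have hpprime : p.IsPrime := hp.isPrime
    have hxp : x ∉ p := by
      intro hxp
      have : x ∈ ⋃ p ∈ associatedPrimes R M, (p : Set R) := by
        simp only [Set.mem_iUnion]; exact ⟨p, hp, hxp⟩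
      rw [biUnion_associatedPrimes_eq_zero_divisors R M] at this
      obtain ⟨y, hy, hxy⟩ := this
      exact hy (hxM (show x • y = x • 0 by rw [hxy, smul_zero]))
    have hlt : p < IsLocalRing.maximalIdeal R := by
      refine lt_of_le_of_ne (IsLocalRing.le_maximalIdeal hpprime.ne_top) ?_
      rintro rfl
      exact hxp hx
    exact hreg_notin r hrR p (hmin p hpprime hlt) hrp

end Groth.Agent.S13996
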