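import Mathlib
import Groth.Statements.S14000

set_option autoImplicit false
universe u
open Perf

namespace Groth.Agent.S14000

open CategoryTheory CategoryTheory.Limits

/-- One splitting step over a local ring. -/
theorem split_step {K : Type*} [CommRing K] [IsLocalRing K] {X Y : Type*} [AddCommGroup X]
    [AddCommGroup Y] [Module K X] [Module K Y] [Module.Finite K X] [Module.Projective K X]
    (g : X →ₗ[K] Y) (Z : Submodule K Y) (hZ : LinearMap.range g = Z)
    [hZp : Module.Projective K Z] :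
    Module.Projective K (LinearMap.ker g) ∧
      Module.finrank K X = Module.finrank K (LinearMap.ker g) + Module.finrank K Z := by
  subst hZ
  have hk : LinearMap.ker g.rangeRestrict = LinearMap.ker g := LinearMap.ker_rangeRestrict g
  rw [← hk]
  obtain ⟨σ, hσ⟩ := Module.projective_lifting_property g.rangeRestrict LinearMap.id
    g.surjective_rangeRestrict
  have hex : Function.Exact (LinearMap.ker g.rangeRestrict).subtype g.rangeRestrict :=
    LinearMap.exact_subtype_ker_map _
  obtain ⟨e, -, -⟩ := (hex.splitSurjectiveEquiv (Submodule.injective_subtype _)) ⟨σ, hσ⟩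
  haveI : Module.Projective K
      (↥(LinearMap.ker g.rangeRestrict) × ↥(LinearMap.range g)) := Module.Projective.of_equiv e
  haveI hpk : Module.Projective K ↥(LinearMap.ker g.rangeRestrict) :=
    Module.Projective.of_split (LinearMap.inl K _ ↥(LinearMap.range g)) (LinearMap.fst K _ _)
      (LinearMap.fst_comp_inl K _ _)
  haveI : Module.Finite K ↥(LinearMap.ker g.rangeRestrict) := by
    have hsurj : Function.Surjective
        ((LinearMap.fst K ↥(LinearMap.ker g.rangeRestrict) ↥(LinearMap.range g)) ∘ₗ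
          (e : X →ₗ[K] ↥(LinearMap.ker g.rangeRestrict) × ↥(LinearMap.range g))) := by
      intro a
      obtain ⟨b, hb⟩ := e.surjective (a, 0)
      exact ⟨b, by simp [hb]⟩
    exact Module.Finite.of_surjective _ hsurj
  haveI : Module.Free K ↥(LinearMap.ker g.rangeRestrict) := Module.free_of_flat_of_isLocalRing
  haveI : Module.Free K ↥(LinearMap.range g) := Module.free_of_flat_of_isLocalRing
  exact ⟨hpk, e.finrank_eq.trans Module.finrank_prod⟩

theorem alt_sum {K : Type*} [CommRing K] [IsLocalRing K] {M : ℕ → Type*}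
    [∀ n, AddCommGroup (M n)] [∀ n, Module K (M n)] [∀ n, Module.Finite K (M n)]
    [∀ n, Module.Free K (M n)]
    (d : ∀ n, M (n + 1) →ₗ[K] M n) (h0 : Subsingleton (M 0))
    (hex : ∀ n, Function.Exact (d (n + 1)) (d n)) (n : ℕ) :
    Module.Projective K (LinearMap.ker (d n)) ∧
    ∑ k ∈ Finset.range (n + 2), (-1 : ℤ) ^ k * (Module.finrank K (M k) : ℤ)
      = (-1) ^ (n + 1) * (Module.finrank K (LinearMap.ker (d n)) : ℤ) := by
  induction n with
  | zero =>
    have hker : LinearMap.ker (d 0) = ⊤ := by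
      rw [eq_top_iff]; intro x _; exact LinearMap.mem_ker.mpr (Subsingleton.elim _ _)
    refine ⟨Module.Projective.of_equiv (LinearEquiv.ofTop _ hker).symm, ?_⟩
    have h1 : Module.finrank K (M 0) = 0 := Module.finrank_zero_of_subsingleton
    have h2 : Module.finrank K (LinearMap.ker (d 0)) = Module.finrank K (M 1) :=
      (LinearEquiv.ofTop _ hker).finrank_eq
    have h3 : ∑ k ∈ Finset.range (0 + 2), (-1 : ℤ) ^ k * (Module.finrank K (M k) : ℤ)
        = (-1 : ℤ) ^ 0 * (Module.finrank K (M 0) : ℤ)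
          + (-1 : ℤ) ^ 1 * (Module.finrank K (M 1) : ℤ) := by
      rw [show (0 + 2 : ℕ) = 1 + 1 from rfl, Finset.sum_range_succ, Finset.sum_range_one]
    rw [h3, h1, h2]; simp
  | succ n ih =>
    obtain ⟨ihp, ihs⟩ := ih
    haveI := ihp
    obtain ⟨hp, hr⟩ := split_step (d (n + 1)) (LinearMap.ker (d n))
      (LinearMap.exact_iff.mp (hex n)).symm
    refine ⟨hp, ?_⟩
    have h3 : ∑ k ∈ Finset.range (n + 1 + 2), (-1 : ℤ) ^ k * (Module.finrank K (M k) : ℤ)
        = ∑ k ∈ Finset.range (n + 2), (-1 : ℤ) ^ k * (Module.finrank K (M k) : ℤ)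
          + (-1 : ℤ) ^ (n + 1 + 1) * (Module.finrank K (M (n + 1 + 1)) : ℤ) :=
      Finset.sum_range_succ _ (n + 2)
    rw [h3, ihs, hr]
    push_cast
    ring

theorem alt_sum_zero {K : Type*} [CommRing K] [IsLocalRing K] {M : ℕ → Type*}
    [∀ n, AddCommGroup (M n)] [∀ n, Module K (M n)] [∀ n, Module.Finite K (M n)]
    [∀ n, Module.Free K (M n)]
    (d : ∀ n, M (n + 1) →ₗ[K] M n) (h0 : Subsingleton (M 0))
    (hex : ∀ n, Function.Exact (d (n + 1)) (d n)) (n : ℕ) (hn : Subsingleton (M (n + 1))) :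
    ∑ k ∈ Finset.range (n + 2), (-1 : ℤ) ^ k * (Module.finrank K (M k) : ℤ) = 0 := by
  rw [(alt_sum d h0 hex n).2]
  haveI : Subsingleton (LinearMap.ker (d n)) := ⟨fun a b => Subtype.ext (Subsingleton.elim _ _)⟩
  rw [Module.finrank_zero_of_subsingleton]; simp

theorem exists_smul_mem_range_sc {A : Type u} [CommRing A] (S₀ : ShortComplex (ModuleCat.{u} A))
    (T : Submonoid A) (hH : Subsingleton (LocalizedModule T S₀.homology)) (x : S₀.X₂)
    (hx : S₀.g.hom x = 0) :
    ∃ t ∈ T, ∃ y : S₀.X₁, S₀.f.hom y = t • x := by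
  let e : S₀.homology ≃ₗ[A]
      (LinearMap.ker S₀.g.hom ⧸ LinearMap.range S₀.moduleCatToCycles) :=
    S₀.moduleCatHomologyIso.toLinearEquiv
  let x' : LinearMap.ker S₀.g.hom := ⟨x, hx⟩
  obtain ⟨t, ht, hth⟩ :=
    (LocalizedModule.subsingleton_iff.mp hH) (e.symm (Submodule.Quotient.mk x'))
  refine ⟨t, ht, ?_⟩
  have h1 : (Submodule.Quotient.mk (t • x') :
      LinearMap.ker S₀.g.hom ⧸ LinearMap.range S₀.moduleCatToCycles) = 0 := by
    have := congrArg e hth
    rw [map_smul, LinearEquiv.apply_symm_apply, map_zero] at this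
    rw [Submodule.Quotient.mk_smul]; exact this
  rw [Submodule.Quotient.mk_eq_zero] at h1
  obtain ⟨y, hy⟩ := h1
  exact ⟨y, congrArg Subtype.val hy⟩

theorem exists_smul_mem_range {A : Type u} [CommRing A] (P : CochainComplex (ModuleCat.{u} A) ℤ)
    (T : Submonoid A) (i j k : ℤ) (hij : i + 1 = j) (hjk : j + 1 = k)
    (hH : Subsingleton (LocalizedModule T (P.homology j))) (x : P.X j)
    (hx : (P.d j k).hom x = 0) :
    ∃ t ∈ T, ∃ y : P.X i, (P.d i j).hom y = t • x := by
  obtain rfl : (ComplexShape.up ℤ).prev j = i := (ComplexShape.up ℤ).prev_eq' hij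
  obtain rfl : (ComplexShape.up ℤ).next j = k := (ComplexShape.up ℤ).next_eq' hjk
  exact exists_smul_mem_range_sc (P.sc j) T hH x hx

theorem loc_exact {A : Type u} [CommRing A] (P : CochainComplex (ModuleCat.{u} A) ℤ)
    (T : Submonoid A) (i j k : ℤ) (hij : i + 1 = j) (hjk : j + 1 = k)
    (hH : Subsingleton (LocalizedModule T (P.homology j))) :
    Function.Exact (LocalizedModule.map T (P.d i j).hom) (LocalizedModule.map T (P.d j k).hom) := by
  have hdd : ∀ m : P.X i, (P.d j k).hom ((P.d i j).hom m) = 0 := fun m => by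
    have h := P.d_comp_d i j k
    have h2 : (P.d i j ≫ P.d j k).hom m = 0 := by
      rw [h, ModuleCat.hom_zero, LinearMap.zero_apply]
    exact h2
  intro y
  constructor
  · revert y
    refine LocalizedModule.induction_on (fun m t => ?_)
    intro hy
    rw [LocalizedModule.map_mk, ← LocalizedModule.zero_mk t, LocalizedModule.mk_eq] at hy
    obtain ⟨v, hv⟩ := hy
    have hr : (v : A) * (t : A) ∈ T := T.mul_mem v.2 t.2
    have hx : (P.d j k).hom (((v : A) * (t : A)) • m) = 0 := by
      rw [map_smul, mul_smul]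
      rw [smul_zero, smul_zero, Submonoid.smul_def, Submonoid.smul_def] at hv
      exact hv
    obtain ⟨t', ht', z, hz⟩ :=
      exists_smul_mem_range P T i j k hij hjk hH (((v : A) * (t : A)) • m) hx
    obtain ⟨w, hw⟩ : ∃ w : T, (w : A) = t' * ((v : A) * (t : A)) :=
      ⟨⟨_, T.mul_mem ht' hr⟩, rfl⟩
    refine ⟨LocalizedModule.mk z (w * t), ?_⟩
    rw [LocalizedModule.map_mk, hz]
    have h5 : t' • ((v : A) * (t : A)) • m = w • m := by
      rw [Submonoid.smul_def, hw]
      exact (mul_smul _ _ _).symm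
    rw [h5, LocalizedModule.mk_cancel_common_left]
  · rintro ⟨z, rfl⟩
    revert z
    refine LocalizedModule.induction_on (fun m t => ?_)
    rw [LocalizedModule.map_mk, LocalizedModule.map_mk, hdd, LocalizedModule.zero_mk]

theorem euler_loc {A : Type u} [CommRing A] (P : CochainComplex (ModuleCat.{u} A) ℤ)
    (s : Finset ℤ)
    (hP : ∀ i : ℤ, Module.Finite A (P.X i) ∧ Module.Projective A (P.X i))
    (hs : ∀ i : ℤ, i ∉ s → IsZero (P.X i))
    (T : Submonoid A) [IsLocalRing (Localization T)]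
    (hH : ∀ i : ℤ, Subsingleton (LocalizedModule T (P.homology i))) :
    (s.sum fun i => ((i.negOnePow : ℤˣ) : ℤ) *
      (Module.finrank (Localization T) (LocalizedModule T (P.X i)) : ℤ)) = 0 := by
  classical
  obtain ⟨c, hmem⟩ : ∃ c : ℕ, ∀ i ∈ s, i.natAbs < c :=
    ⟨s.sup Int.natAbs + 1, fun i hi => Nat.lt_succ_of_le (Finset.le_sup (f := Int.natAbs) hi)⟩
  have hout : ∀ i : ℤ, c ≤ i.natAbs → IsZero (P.X i) := fun i hi =>
    hs i (fun his => absurd (hmem i his) (not_lt.mpr hi))
  have hz : ∀ i : ℤ, IsZero (P.X i) → Subsingleton (LocalizedModule T (P.X i)) := fun i hi => by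
    haveI := ModuleCat.subsingleton_of_isZero hi
    infer_instance
  haveI hfin : ∀ n : ℕ, Module.Finite (Localization T)
      (LocalizedModule T (P.X ((c : ℤ) - (n : ℤ)))) := fun n => by
    haveI := (hP ((c : ℤ) - (n : ℤ))).1
    infer_instance
  haveI hfree : ∀ n : ℕ, Module.Free (Localization T)
      (LocalizedModule T (P.X ((c : ℤ) - (n : ℤ)))) := fun n => by
    haveI := (hP ((c : ℤ) - (n : ℤ))).1
    haveI := (hP ((c : ℤ) - (n : ℤ))).2
    exact Module.free_of_flat_of_isLocalRing
  have key : ∑ k ∈ Finset.range (2 * c + 2), (-1 : ℤ) ^ k *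
      (Module.finrank (Localization T) (LocalizedModule T (P.X ((c : ℤ) - (k : ℤ)))) : ℤ) = 0 := by
    refine alt_sum_zero (K := Localization T)
      (M := fun n : ℕ => LocalizedModule T (P.X ((c : ℤ) - (n : ℤ))))
      (fun n => LocalizedModule.map T (P.d ((c : ℤ) - ((n + 1 : ℕ) : ℤ)) ((c : ℤ) - (n : ℤ))).hom)
      ?_ ?_ (2 * c) ?_
    · exact hz _ (hout _ (by omega))
    · intro n
      exact loc_exact P T _ _ _ (by push_cast; ring) (by push_cast; ring) (hH _)
    · exact hz _ (hout _ (by omega))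
  have hfz : ∀ i : ℤ, i ∉ s → ((i.negOnePow : ℤˣ) : ℤ) *
      (Module.finrank (Localization T) (LocalizedModule T (P.X i)) : ℤ) = 0 := fun i hi => by
    haveI := hz i (hs i hi)
    rw [Module.finrank_zero_of_subsingleton]; simp
  have hinj : Set.InjOn (fun n : ℕ => (c : ℤ) - (n : ℤ)) ↑(Finset.range (2 * c + 2)) :=
    fun n _ m _ h => by
      have h' : (c : ℤ) - (n : ℤ) = (c : ℤ) - (m : ℤ) := h
      omega
  have hsub : s ⊆ (Finset.range (2 * c + 2)).image (fun n : ℕ => (c : ℤ) - (n : ℤ)) :=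
    fun i hi => by
      have := hmem i hi
      refine Finset.mem_image.mpr ⟨((c : ℤ) - i).toNat, Finset.mem_range.mpr (by omega), ?_⟩
      show (c : ℤ) - ((((c : ℤ) - i).toNat : ℕ) : ℤ) = i
      omega
  have hsign : ∀ n : ℕ, ((((c : ℤ) - (n : ℤ)).negOnePow : ℤˣ) : ℤ)
      = (((c : ℤ).negOnePow : ℤˣ) : ℤ) * (-1) ^ n := fun n => by
    rw [Int.negOnePow_sub, Units.val_mul]
    have h := Int.cast_negOnePow_natCast ℤ n
    rw [Int.cast_id] at h
    rw [h]
  rw [Finset.sum_subset hsub (fun i _ hi => hfz i hi), Finset.sum_image hinj]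
  calc _ = ∑ n ∈ Finset.range (2 * c + 2), (((c : ℤ).negOnePow : ℤˣ) : ℤ) * ((-1 : ℤ) ^ n *
        (Module.finrank (Localization T) (LocalizedModule T (P.X ((c : ℤ) - (n : ℤ)))) : ℤ)) :=
        Finset.sum_congr rfl (fun n _ => by simp only [hsign, mul_assoc])
    _ = (((c : ℤ).negOnePow : ℤˣ) : ℤ) * ∑ n ∈ Finset.range (2 * c + 2), ((-1 : ℤ) ^ n *
        (Module.finrank (Localization T) (LocalizedModule T (P.X ((c : ℤ) - (n : ℤ)))) : ℤ)) :=
        (Finset.mul_sum _ _ _).symm
    _ = 0 := by rw [key, mul_zero]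

open CategoryTheory CategoryTheory.Limits in
/-- Let A be a commutative ring and P a strictly perfect complex over A, that is a cochain complex of
finitely generated projective A-modules which is zero outside a finite set s of degrees. Suppose the
cohomological support of P has positive codimension: for every minimal prime q of A and every degree
i the localization at q of the cohomology module H^i(P) is zero. Then the Euler characteristic of P
vanishes identically: at every prime of A the alternating sum over i ∈ s of the ranks of the P^i is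
zero. -/
theorem result {A : Type u} [CommRing A]
    (P : CochainComplex (ModuleCat.{u} A) ℤ) (s : Finset ℤ)
    (hP : ∀ i : ℤ, Module.Finite A (P.X i) ∧ Module.Projective A (P.X i))
    (hs : ∀ i : ℤ, i ∉ s → IsZero (P.X i))
    (hsupp : ∀ q : PrimeSpectrum A, q.asIdeal ∈ minimalPrimes A →
      ∀ i : ℤ, Subsingleton (LocalizedModule q.asIdeal.primeCompl (P.homology i))) :
    ∀ x : PrimeSpectrum A,
      (s.sum fun i => ((i.negOnePow : ℤˣ) : ℤ) * (Module.rankAtStalk (R := A) (P.X i) x : ℤ)) = 0 := by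
  intro x
  obtain ⟨q, hqmin, hqx⟩ : ∃ q : PrimeSpectrum A, q.asIdeal ∈ minimalPrimes A ∧ q ≤ x := by
    obtain ⟨q, hqmin, hqx⟩ :=
      Ideal.exists_minimalPrimes_le (I := (⊥ : Ideal A)) (J := x.asIdeal) bot_le
    exact ⟨⟨q, Ideal.IsMinimalPrime.isPrime hqmin⟩, hqmin, hqx⟩
  have hr : ∀ i, Module.rankAtStalk (R := A) (P.X i) x =
      Module.finrank (Localization q.asIdeal.primeCompl)
        (LocalizedModule q.asIdeal.primeCompl (P.X i)) := fun i => by
    haveI := (hP i).1
    haveI := (hP i).2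
    exact (Module.rankAtStalk_eq_of_le_of_finite_of_flat (P.X i) hqx).symm
  refine (Finset.sum_congr rfl (fun i _ => ?_)).trans
    (euler_loc P s hP hs q.asIdeal.primeCompl (hsupp q hqmin))
  rw [hr i]

end Groth.Agent.S14000
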