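import Groth.Statements.S14004
import Groth.Agent.H93.SysNil
import Groth.Agent.H49.SmoothFibre

set_option autoImplicit false
universe u
open CategoryTheory AlgebraicGeometry
open FSch

namespace Groth.Agent.S14004

section aux
open CategoryTheory.Limits

lemma isIso_residueFieldMap {X Y : Scheme.{u}} (i : X ⟶ Y) [IsClosedImmersion i] (x : X) :
    IsIso (i.residueFieldMap x) := by
  rw [ConcreteCategory.isIso_iff_bijective]
  constructor
  · exact RingHom.injective (i.residueFieldMap x).hom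
  · have h1 : Function.Surjective (i.stalkMap x).hom := i.stalkMap_surjective x
    intro y
    obtain ⟨b, rfl⟩ := IsLocalRing.residue_surjective y
    obtain ⟨a, rfl⟩ := h1 b
    exact ⟨IsLocalRing.residue _ a, IsLocalRing.ResidueField.map_residue _ a⟩

lemma smooth_right_of_isPullback_of_isIso {A B C D : Scheme.{u}} {t : A ⟶ B} {l : A ⟶ C}
    {r : B ⟶ D} {b : C ⟶ D} (h : IsPullback t l r b) [IsIso b] [Smooth l] : Smooth r := by
  have : IsIso t := h.isIso_fst_of_isIso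
  rw [← MorphismProperty.cancel_left_of_respectsIso @Smooth t r, h.w]
  infer_instance

lemma smooth_fiber_of_isPullback {X₀ X Y₀ Y : Scheme.{u}} {j : X₀ ⟶ X} {f₀ : X₀ ⟶ Y₀}
    {f : X ⟶ Y} {i : Y₀ ⟶ Y} (H : IsPullback j f₀ f i) [IsClosedImmersion i] [Smooth f₀]
    (s₀ : Y₀) : Smooth (f.fiberToSpecResidueField (i s₀)) := by
  have hφ : IsIso (i.residueFieldMap s₀) := isIso_residueFieldMap i s₀
  have hsq := isPullback_fiberToSpecResidueField_of_isPullback H s₀
  have hb : IsIso (Spec.map (i.residueFieldMap s₀)) := inferInstance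
  have hl : Smooth (f₀.fiberToSpecResidueField s₀) :=
    MorphismProperty.pullback_snd (P := @Smooth) _ _ inferInstance
  exact @smooth_right_of_isPullback_of_isIso _ _ _ _ _ _ _ _ hsq hb hl

end aux

/-- Formal schemes are modelled as ℕ-indexed systems of thickenings. Let 𝔛 and 𝔜 be locally Noetherian
adic formal systems and f : 𝔛 ⟶ 𝔜 an adic morphism (every square X_n → X_{n+1}, Y_n → Y_{n+1}
cartesian) all of whose levels f_n : X_n ⟶ Y_n are flat. Then f is smooth, in the sense that every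
level f_n is smooth, if and only if the bottom level f_0 is smooth. -/
theorem result (𝔛 𝔜 : FSch.Sys.{u})
    (h𝔛 : 𝔛.IsLocNoethFormal) (h𝔜 : 𝔜.IsLocNoethFormal) (f : 𝔛 ⟶ 𝔜) (hf : FSch.IsAdicHom f)
    (hflat : ∀ n : ℕ, Flat ((f : FSch.Hom 𝔛 𝔜).app n)) :
    (∀ n : ℕ, AlgebraicGeometry.Smooth ((f : FSch.Hom 𝔛 𝔜).app n)) ↔
      AlgebraicGeometry.Smooth ((f : FSch.Hom 𝔛 𝔜).app 0) := by
  refine ⟨fun h => h 0, fun h0 n => ?_⟩
  have hYn : IsLocallyNoetherian (𝔜.X n) := h𝔜.2.2 n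
  have hlft : LocallyOfFiniteType ((f : FSch.Hom 𝔛 𝔜).app n) :=
    Groth.Agent.H93.SysNil.lft_level f h𝔜.1 h𝔜.2.1 hf n
  have hlfp : LocallyOfFinitePresentation ((f : FSch.Hom 𝔛 𝔜).app n) :=
    LocallyOfFinitePresentation.iff_locallyOfFiniteType.mpr hlft
  have hfl := hflat n
  have hc := Groth.Agent.H93.SysPull.isPullback_toX f hf n
  have hci := Groth.Agent.H93.SysPull.isClosedImmersion_toX h𝔜.1 n
  rw [← Scheme.Hom.smoothLocus_eq_top_iff, eq_top_iff]
  intro x _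
  obtain ⟨s₀, hs₀⟩ := Groth.Agent.H93.SysNil.toX_surj 𝔜 h𝔜.1 n (((f : FSch.Hom 𝔛 𝔜).app n) x)
  have hsm : Smooth (((f : FSch.Hom 𝔛 𝔜).app n).fiberToSpecResidueField
      (((f : FSch.Hom 𝔛 𝔜).app n) x)) := by
    rw [← hs₀]
    exact smooth_fiber_of_isPullback hc s₀
  obtain ⟨z, hz⟩ : ∃ z, ((f : FSch.Hom 𝔛 𝔜).app n).fiberι (((f : FSch.Hom 𝔛 𝔜).app n) x) z = x := by
    have : x ∈ Set.range (((f : FSch.Hom 𝔛 𝔜).app n).fiberι (((f : FSch.Hom 𝔛 𝔜).app n) x)) := by
      rw [Scheme.Hom.range_fiberι]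
      rfl
    exact this
  have hlfpfib : LocallyOfFinitePresentation (((f : FSch.Hom 𝔛 𝔜).app n).fiberToSpecResidueField
      (((f : FSch.Hom 𝔛 𝔜).app n) x)) :=
    MorphismProperty.pullback_snd (P := @LocallyOfFinitePresentation) _ _ hlfp
  refine (Groth.Agent.H49.SmoothFibre.mem_smoothLocus_iff_flat_and_fiber
    ((f : FSch.Hom 𝔛 𝔜).app n) x _ rfl z hz).mpr
    ⟨AlgebraicGeometry.Flat.stalkMap _ x, ?_⟩
  rw [Scheme.Hom.smoothLocus_eq_top]
  trivial

end Groth.Agent.S14004
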