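import Mathlib
import Groth.Statements.S14005

set_option autoImplicit false
universe u
open CategoryTheory AlgebraicGeometry
open CohTop

namespace Groth.Agent.S14005

/-- Take a scheme X with a locally Noetherian underlying topological space, F a sheaf of abelian groups
on X, x a point of X and s an element of the stalk F_x. Then the following are equivalent: (i) s is
the germ of a section t over some open neighbourhood U of x whose support in U is contained in the
closure of {x} (that is, s belongs to the subgroup Γ_x(F) of F_x); (ii) for every generization y ≠ x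
of x the image of s under the cospecialisation map F_x → F_y is zero (that is, viewed as a global
section of the inverse image of F on Spec O_{X,x}, s is supported at the closed point). -/
theorem result {X : Scheme.{u}}
    (hX : ∀ x : X, ∃ U : X.Opens, x ∈ U ∧ TopologicalSpace.NoetherianSpace U)
    (F : TopCat.Sheaf AddCommGrpCat.{u} X.carrier) (x : X) (s : F.presheaf.stalk x) :
    (∃ (U : X.Opens) (hx : x ∈ U) (t : F.presheaf.obj (Opposite.op U)),
        F.presheaf.germ U x hx t = s ∧
          ∀ (u : X) (hu : u ∈ U), F.presheaf.germ U u hu t ≠ 0 → u ∈ closure ({x} : Set X)) ↔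
      ∀ (y : X) (h : y ⤳ x), y ≠ x → F.presheaf.stalkSpecializes h s = 0 := by
  constructor
  · rintro ⟨U, hx, t, rfl, hsupp⟩ y h hyx
    have hy : y ∈ U := h.mem_open U.isOpen hx
    have hg : F.presheaf.stalkSpecializes h (F.presheaf.germ U x hx t)
        = F.presheaf.germ U y hy t :=
      TopCat.Presheaf.germ_stalkSpecializes_apply F.presheaf hx h t
    rw [hg]
    by_contra hne
    have hxy : x ⤳ y := specializes_iff_mem_closure.mpr (hsupp y hy hne)
    exact hyx ((h.antisymm hxy).eq)
  · intro hs
    classical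
    obtain ⟨U₁, hx₁, hN⟩ := hX x
    obtain ⟨U, hUU₁, hxU, t, htx⟩ := F.presheaf.exists_le_germ_eq s hx₁
    haveI : TopologicalSpace.NoetherianSpace {y : X // y ∈ U} := by
      haveI hN' : TopologicalSpace.NoetherianSpace {y : X // y ∈ U₁} := hN
      have hi : Topology.IsInducing
          (fun y : {y : X // y ∈ U} => (⟨y.1, hUU₁ y.2⟩ : {y : X // y ∈ U₁})) :=
        Topology.IsInducing.of_comp
          (f := fun y : {y : X // y ∈ U} => (⟨y.1, hUU₁ y.2⟩ : {y : X // y ∈ U₁}))
          (g := (Subtype.val : {y : X // y ∈ U₁} → X))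
          (Continuous.subtype_mk continuous_subtype_val _) continuous_subtype_val
          Topology.IsInducing.subtypeVal
      exact hi.noetherianSpace
    haveI : QuasiSober {y : X // y ∈ U} := (U.2.isOpenEmbedding_subtypeVal).quasiSober
    -- the open set where the germ of `t` vanishes
    have hNopen : IsOpen {u : X | ∃ hu : u ∈ U, F.presheaf.germ U u hu t = 0} := by
      rw [isOpen_iff_forall_mem_open]
      rintro u ⟨hu, hgu⟩
      have h0 : F.presheaf.germ U u hu t = F.presheaf.germ U u hu 0 := by rw [hgu, map_zero]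
      obtain ⟨W, hW, iU, iV, hres⟩ := F.presheaf.germ_eq u hu hu t 0 h0
      refine ⟨W, ?_, W.isOpen, hW⟩
      intro v hv
      refine ⟨iU.le hv, ?_⟩
      rw [← F.presheaf.germ_res_apply iU v hv t, hres, map_zero, map_zero]
    have hZc : IsClosed {y : {y : X // y ∈ U} | F.presheaf.germ U y.1 y.2 t ≠ 0} := by
      rw [← isOpen_compl_iff]
      have : {y : {y : X // y ∈ U} | F.presheaf.germ U y.1 y.2 t ≠ 0}ᶜ
          = Subtype.val ⁻¹' {u : X | ∃ hu : u ∈ U, F.presheaf.germ U u hu t = 0} := by
        ext y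
        simp only [Set.mem_compl_iff, Set.mem_ofPred_eq, not_not, Set.mem_preimage]
        exact ⟨fun h => ⟨y.2, h⟩, fun ⟨_, h⟩ => h⟩
      rw [this]
      exact hNopen.preimage continuous_subtype_val
    obtain ⟨S, hSfin, hScl, hSirr, hZeq⟩ :=
      TopologicalSpace.NoetherianSpace.exists_finite_set_isClosed_irreducible hZc
    have hOopen : IsOpen (⋂ C ∈ {C ∈ S | (⟨x, hxU⟩ : {y : X // y ∈ U}) ∉ C}, Cᶜ) :=
      Set.Finite.isOpen_biInter (hSfin.subset (Set.sep_subset _ _))
        (fun C hC => (hScl C hC.1).isOpen_compl)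
    let V : X.Opens := ⟨Subtype.val '' (⋂ C ∈ {C ∈ S | (⟨x, hxU⟩ : {y : X // y ∈ U}) ∉ C}, Cᶜ),
      U.2.isOpenMap_subtype_val _ hOopen⟩
    have hxV : x ∈ V :=
      ⟨⟨x, hxU⟩, Set.mem_iInter₂.mpr (fun C hC => hC.2), rfl⟩
    have hVU : V ≤ U := by
      rintro _ ⟨y, _, rfl⟩
      exact y.2
    refine ⟨V, hxV, F.presheaf.map (homOfLE hVU).op t, ?_, ?_⟩
    · rw [F.presheaf.germ_res_apply (homOfLE hVU) x hxV t]
      exact htx
    · rintro _ ⟨y, hyO, rfl⟩ hne
      rw [F.presheaf.germ_res_apply (homOfLE hVU) y.1 _ t] at hne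
      have hyZ : y ∈ {y : {y : X // y ∈ U} | F.presheaf.germ U y.1 y.2 t ≠ 0} := hne
      rw [hZeq] at hyZ
      obtain ⟨C, hCS, hyC⟩ := hyZ
      have hxC : (⟨x, hxU⟩ : {y : X // y ∈ U}) ∈ C := by
        by_contra hxC
        exact (Set.mem_iInter₂.mp hyO C ⟨hCS, hxC⟩) hyC
      obtain ⟨η, hη⟩ := QuasiSober.sober (hSirr C hCS) (hScl C hCS)
      have hηdef : closure {η} = C := hη
      have hηC : η ∈ C := hηdef ▸ subset_closure rfl
      have hηZ : η ∈ {y : {y : X // y ∈ U} | F.presheaf.germ U y.1 y.2 t ≠ 0} := by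
        rw [hZeq]; exact ⟨C, hCS, hηC⟩
      have hηx : η ⤳ (⟨x, hxU⟩ : {y : X // y ∈ U}) := specializes_iff_mem_closure.mpr (hηdef ▸ hxC)
      have hηx' : η.1 ⤳ x := hηx.map continuous_subtype_val
      by_cases hne' : η.1 = x
      · have hηeq : η = ⟨x, hxU⟩ := Subtype.ext hne'
        have hxy : (⟨x, hxU⟩ : {y : X // y ∈ U}) ⤳ y :=
          specializes_iff_mem_closure.mpr (by rw [← hηeq, hηdef]; exact hyC)
        have hxy' : x ⤳ y.1 := hxy.map continuous_subtype_val
        exact specializes_iff_mem_closure.mp hxy'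
      · exfalso
        have h1 := hs η.1 hηx' hne'
        rw [← htx] at h1
        have hg : F.presheaf.stalkSpecializes hηx' (F.presheaf.germ U x hxU t)
            = F.presheaf.germ U η.1 η.2 t :=
          TopCat.Presheaf.germ_stalkSpecializes_apply F.presheaf hxU hηx' t
        rw [hg] at h1
        exact hηZ h1

end Groth.Agent.S14005
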