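import Groth.Statements.S1401
import Groth.Agent.S1127

set_option autoImplicit false
universe u
open FlatMor

namespace Groth.Agent.S1401

section aux
open AlgebraicGeometry CategoryTheory CategoryTheory.Limits TopologicalSpace MorphismProperty
open Groth.Agent.H93.QAff

lemma main {X S X' S' : Scheme.{u}} (f : X ⟶ S) (f' : X' ⟶ S') (g' : X' ⟶ X) (g : S' ⟶ S)
    [Flat g] [Surjective g] [QuasiCompact g] (hc : IsPullback g' f' f g) (hf' : IndQAHom f') :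
    IndQAHom f := by
  rw [indQAHom_iff]
  intro V hVc hVqs U hUV hUc
  have h1 : CompactSpace U.toScheme := isCompact_iff_compactSpace.mp hUc
  have h2 : QuasiSeparatedSpace V.toScheme :=
    (isQuasiSeparated_iff_quasiSeparatedSpace _ V.2).mp hVqs
  have hqc : QuasiCompact (f.resLE V U hUV) := inferInstance
  have sq := Scheme.Hom.isPullback_resLE hc (US := V) (UT := g ⁻¹ᵁ V) (UX := U) le_rfl hUV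
    (UY := g' ⁻¹ᵁ U ⊓ f' ⁻¹ᵁ (g ⁻¹ᵁ V)) rfl
  have hgQ : (@Surjective ⊓ @Flat ⊓ @QuasiCompact : MorphismProperty Scheme.{u})
      (g.resLE V (g ⁻¹ᵁ V) le_rfl) := by
    rw [Scheme.Hom.resLE_eq_morphismRestrict]
    exact ⟨⟨IsZariskiLocalAtTarget.restrict (P := @Surjective) inferInstance V,
      IsZariskiLocalAtTarget.restrict (P := @Flat) inferInstance V⟩,
      IsZariskiLocalAtTarget.restrict (P := @QuasiCompact) inferInstance V⟩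
  have hqc' : QuasiCompact (f'.resLE (g ⁻¹ᵁ V) (g' ⁻¹ᵁ U ⊓ f' ⁻¹ᵁ (g ⁻¹ᵁ V)) inf_le_right) :=
    MorphismProperty.of_isPullback (P := @QuasiCompact) sq hqc
  have hQA' : QAHom (f'.resLE (g ⁻¹ᵁ V) (g' ⁻¹ᵁ U ⊓ f' ⁻¹ᵁ (g ⁻¹ᵁ V)) inf_le_right) := by
    refine ⟨hqc', fun D hD => ?_⟩
    have hcs : CompactSpace ((f'.resLE (g ⁻¹ᵁ V) (g' ⁻¹ᵁ U ⊓ f' ⁻¹ᵁ (g ⁻¹ᵁ V))
        inf_le_right) ⁻¹ᵁ D).toScheme :=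
      isCompact_iff_compactSpace.mp
        ((f'.resLE (g ⁻¹ᵁ V) (g' ⁻¹ᵁ U ⊓ f' ⁻¹ᵁ (g ⁻¹ᵁ V)) inf_le_right).isCompact_preimage
          hD.isCompact)
    refine of_indQA_open (((f'.resLE (g ⁻¹ᵁ V) (g' ⁻¹ᵁ U ⊓ f' ⁻¹ᵁ (g ⁻¹ᵁ V))
        inf_le_right) ⁻¹ᵁ D).ι ≫ (g' ⁻¹ᵁ U ⊓ f' ⁻¹ᵁ (g ⁻¹ᵁ V)).ι)
      (f' ⁻¹ᵁ ((g ⁻¹ᵁ V).ι ''ᵁ D)) ?_ (hf' _ (hD.image_of_isOpenImmersion (g ⁻¹ᵁ V).ι))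
    rintro _ ⟨z, rfl⟩
    have hkf : ((((f'.resLE (g ⁻¹ᵁ V) (g' ⁻¹ᵁ U ⊓ f' ⁻¹ᵁ (g ⁻¹ᵁ V)) inf_le_right) ⁻¹ᵁ D).ι ≫
        (g' ⁻¹ᵁ U ⊓ f' ⁻¹ᵁ (g ⁻¹ᵁ V)).ι) ≫ f') =
        ((f'.resLE (g ⁻¹ᵁ V) (g' ⁻¹ᵁ U ⊓ f' ⁻¹ᵁ (g ⁻¹ᵁ V)) inf_le_right) ⁻¹ᵁ D).ι ≫
          (f'.resLE (g ⁻¹ᵁ V) (g' ⁻¹ᵁ U ⊓ f' ⁻¹ᵁ (g ⁻¹ᵁ V)) inf_le_right) ≫ (g ⁻¹ᵁ V).ι := by
      rw [Category.assoc, Scheme.Hom.resLE_comp_ι]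
    have h3 : f' ((((f'.resLE (g ⁻¹ᵁ V) (g' ⁻¹ᵁ U ⊓ f' ⁻¹ᵁ (g ⁻¹ᵁ V)) inf_le_right) ⁻¹ᵁ D).ι ≫
        (g' ⁻¹ᵁ U ⊓ f' ⁻¹ᵁ (g ⁻¹ᵁ V)).ι) z) =
        (g ⁻¹ᵁ V).ι ((f'.resLE (g ⁻¹ᵁ V) (g' ⁻¹ᵁ U ⊓ f' ⁻¹ᵁ (g ⁻¹ᵁ V)) inf_le_right)
          (((f'.resLE (g ⁻¹ᵁ V) (g' ⁻¹ᵁ U ⊓ f' ⁻¹ᵁ (g ⁻¹ᵁ V)) inf_le_right) ⁻¹ᵁ D).ι z)) := by
      rw [← Scheme.Hom.comp_apply, hkf]; rfl
    show f' ((((f'.resLE (g ⁻¹ᵁ V) (g' ⁻¹ᵁ U ⊓ f' ⁻¹ᵁ (g ⁻¹ᵁ V)) inf_le_right) ⁻¹ᵁ D).ι ≫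
        (g' ⁻¹ᵁ U ⊓ f' ⁻¹ᵁ (g ⁻¹ᵁ V)).ι) z) ∈ (g ⁻¹ᵁ V).ι ''ᵁ D
    rw [h3]
    exact Set.mem_image_of_mem _ (ι_mem_preimage _ D z)
  have := Groth.Agent.S1127.main.{u}
  exact MorphismProperty.of_isPullback_of_descendsAlong (P := Groth.Agent.S1127.P.{u})
    (Q := (@Surjective ⊓ @Flat ⊓ @QuasiCompact : MorphismProperty Scheme.{u})) sq.flip hgQ hQA'

end aux

open AlgebraicGeometry CategoryTheory Limits in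
/-- Let S' → S be flat, surjective and quasi-compact and let f' be the base change of f : X → S to S'.
If f' is ind-quasi-affine then so is f. -/
theorem result {X S X' S' : Scheme.{u}} (f : X ⟶ S) (f' : X' ⟶ S') (g' : X' ⟶ X) (g : S' ⟶ S)
    [Flat g] [Surjective g] [QuasiCompact g] (hc : IsPullback g' f' f g) (hf' : MoreMor.IsIndQuasiAffineHom f') : MoreMor.IsIndQuasiAffineHom f := by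
  exact main f f' g' g hc hf'

end Groth.Agent.S1401
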