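import Mathlib
import Groth.Statements.S14018

set_option autoImplicit false
open CategoryTheory CategoryTheory.Limits Opposite
universe w v u
open CohSite

namespace Groth.Agent.S14018

theorem key {C : Type u} [Category.{v} C] (J : GrothendieckTopology C)
    (F : ℕᵒᵖ ⥤ Sheaf J (Type w)) (c : Cone F) (hc : IsLimit c) (n : ℕ) (U : C)
    (hU : ∀ (A B : Sheaf J (Type w)) (ψ : A ⟶ B), Epi ψ →
      Function.Surjective (ψ.hom.app (op U)))
    (hF : ∀ n : ℕ, Epi (F.map (homOfLE (Nat.le_succ n)).op))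
    (s' : (F.obj (op n)).obj.obj (op U)) :
    ∃ t' : c.pt.obj.obj (op U), (c.π.app (op n)).hom.app (op U) t' = s' := by
  let G : Sheaf J (Type w) ⥤ Type w :=
    sheafToPresheaf J (Type w) ⋙ (evaluation Cᵒᵖ (Type w)).obj (op U)
  have hcG : IsLimit (G.mapCone c) := isLimitOfPreserves G hc
  let sh : ℕ ⥤ ℕ := Monotone.functor (f := fun m => n + m)
    (fun a b h => Nat.add_le_add_left h n)
  let F' : ℕᵒᵖ ⥤ Type w := sh.op ⋙ F ⋙ G
  have hthin : ∀ {a b : ℕᵒᵖ} (p q : a ⟶ b), p = q :=
    fun p q => Quiver.Hom.unop_inj (Subsingleton.elim _ _)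
  have hF' : ∀ k, Function.Surjective (F'.map (homOfLE (Nat.le_succ k)).op) := fun k => by
    have h1 := hU _ _ (F.map (homOfLE (Nat.le_succ (n + k))).op) (hF (n + k))
    have h2 : sh.op.map (homOfLE (Nat.le_succ k)).op = (homOfLE (Nat.le_succ (n + k))).op :=
      hthin _ _
    show Function.Surjective ((F.map (sh.op.map (homOfLE (Nat.le_succ k)).op)).hom.app (op U))
    rw [h2]; exact h1
  obtain ⟨x', hx'0⟩ : ∃ x' : F'.sections, x'.1 (op 0) = s' := by
    obtain ⟨x', hx'⟩ :=
      Types.surjective_π_app_zero_of_surjective_map (Types.limitConeIsLimit F') hF' s'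
    exact ⟨x', hx'⟩
  let m : ∀ j : ℕᵒᵖ, op (n + j.unop) ⟶ j := fun j => (homOfLE (Nat.le_add_left j.unop n)).op
  have hx : (fun j : ℕᵒᵖ => (F ⋙ G).map (m j) (x'.1 (op j.unop))) ∈ (F ⋙ G).sections := by
    intro j j' f
    have e1 : x'.1 (op j'.unop)
        = F'.map (show (op j.unop : ℕᵒᵖ) ⟶ op j'.unop from f) (x'.1 (op j.unop)) :=
      (x'.2 _).symm
    show (F ⋙ G).map f ((F ⋙ G).map (m j) (x'.1 (op j.unop)))
      = (F ⋙ G).map (m j') (x'.1 (op j'.unop))
    rw [e1]
    show (F ⋙ G).map f ((F ⋙ G).map (m j) (x'.1 (op j.unop)))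
      = (F ⋙ G).map (m j') ((F ⋙ G).map (sh.op.map f) (x'.1 (op j.unop)))
    have e2 := FunctorToTypes.map_comp_apply (F ⋙ G) (m j) f (x'.1 (op j.unop))
    have e3 := FunctorToTypes.map_comp_apply (F ⋙ G) (sh.op.map f) (m j') (x'.1 (op j.unop))
    exact e2.symm.trans ((congrArg (fun p : op (n + j.unop) ⟶ j' =>
      (F ⋙ G).map p (x'.1 (op j.unop))) (hthin (m j ≫ f) (sh.op.map f ≫ m j'))).trans e3)
  refine ⟨(Types.isLimitEquivSections hcG).symm ⟨_, hx⟩, ?_⟩
  have h3 := Types.isLimitEquivSections_symm_apply hcG ⟨_, hx⟩ (op n)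
  have h4 := x'.2 (show (op n : ℕᵒᵖ) ⟶ op 0 from (homOfLE (Nat.zero_le n)).op)
  have h5 : m (op n) = sh.op.map (show (op n : ℕᵒᵖ) ⟶ op 0 from (homOfLE (Nat.zero_le n)).op) :=
    hthin _ _
  show (G.mapCone c).π.app (op n) _ = s'
  rw [h3]
  show (F ⋙ G).map (m (op n)) (x'.1 (op n)) = s'
  rw [h5, ← hx'0, ← h4]
  rfl

/-- Let (C, J) be a site with enough weakly contractible objects — every object V has a covering sieve
all of whose arrows factor through some weakly contractible object, an object U being weakly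
contractible when every epimorphism of sheaves of sets (valued in a fixed universe) is surjective on
sections over U. Then the topos of sheaves of sets is replete: if (F_n) is an inverse system of
sheaves of sets indexed by ℕ with every transition map F_(n+1) ⟶ F_n an epimorphism, then each
projection lim_n F_n ⟶ F_n is an epimorphism; the limit is taken as any limit cone. (The small
pro-étale site of a scheme is such a site.) -/
theorem result
    {C : Type u} [Category.{v} C] (J : GrothendieckTopology C)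
    (hwc : ∀ V : C, ∃ S : Sieve V, S ∈ J V ∧ ∀ ⦃W : C⦄ (f : W ⟶ V), S.arrows f →
      ∃ (U : C) (g : W ⟶ U) (h : U ⟶ V), (∀ (A B : Sheaf J (Type w)) (ψ : A ⟶ B), Epi ψ → Function.Surjective (ψ.hom.app (op U))) ∧ g ≫ h = f)
    (F : ℕᵒᵖ ⥤ Sheaf J (Type w))
    (hF : ∀ n : ℕ, Epi (F.map (homOfLE (Nat.le_succ n)).op))
    (c : Cone F) (hc : IsLimit c) (n : ℕ) :
    Epi (c.π.app (op n)) := by
  haveI : Sheaf.IsLocallySurjective (c.π.app (op n)) := by
    refine ⟨fun {V} s => ?_⟩
    obtain ⟨S, hS, hfac⟩ := hwc V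
    refine J.superset_covering ?_ hS
    intro W f hf
    obtain ⟨U, g, h, hU, rfl⟩ := hfac f hf
    obtain ⟨t', ht'⟩ := key J F c hc n U hU hF ((F.obj (op n)).obj.map h.op s)
    refine ⟨c.pt.obj.map g.op t', ?_⟩
    have hnat : (c.π.app (op n)).hom.app (op W) (c.pt.obj.map g.op t')
        = (F.obj (op n)).obj.map g.op ((c.π.app (op n)).hom.app (op U) t') := by
      have h0 := ConcreteCategory.congr_hom ((c.π.app (op n)).hom.naturality g.op) t'
      rw [types_comp_apply, types_comp_apply] at h0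
      exact h0
    rw [hnat, ht', op_comp, Functor.map_comp, types_comp_apply]
  infer_instance

end Groth.Agent.S14018
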