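import Groth.Statements.S14020
import Mathlib

set_option autoImplicit false
set_option linter.style.haveILetI false
universe u
open CAlg

namespace Groth.Agent.S14020

theorem isArtinian_of_finite_of_le_annihilator {R M : Type*} [CommRing R] [AddCommGroup M]
    [Module R M] (I : Ideal R) [IsArtinianRing (R ⧸ I)] [Module.Finite R M]
    (h : ∀ a ∈ I, ∀ x : M, a • x = 0) : IsArtinian R M := by
  have htors : Module.IsTorsionBySet R M I := fun x a => h a.1 a.2 x
  letI := htors.module
  haveI : IsScalarTower R (R ⧸ I) M := htors.isScalarTower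
  haveI : Module.Finite (R ⧸ I) M := Module.Finite.of_restrictScalars_finite R (R ⧸ I) M
  haveI : IsArtinian (R ⧸ I) M := inferInstance
  exact isArtinian_of_surjective_algebraMap (S := R) (R := R ⧸ I) Ideal.Quotient.mk_surjective

theorem isArtinian_quotient_pow
    (R : Type u) [CommRing R] (I : Ideal R) (hI : I.FG) [IsArtinianRing (R ⧸ I)] (n : ℕ) :
    IsArtinian R (R ⧸ I ^ n) := by
  induction n with
  | zero =>
    rw [pow_zero, Ideal.one_eq_top]
    haveI : Subsingleton (R ⧸ (⊤ : Ideal R)) := Ideal.Quotient.subsingleton_iff.mpr rfl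
    infer_instance
  | succ n ih =>
    let S : Submodule R (R ⧸ I ^ (n + 1)) := Submodule.map (Submodule.mkQ (I ^ (n + 1))) (I ^ n)
    have hle : I ^ (n + 1) ≤ I ^ n := Ideal.pow_le_pow_right (Nat.le_succ n)
    let g : (R ⧸ I ^ (n + 1)) →ₗ[R] (R ⧸ I ^ n) := Submodule.factor hle
    haveI : Module.Finite R S := Module.Finite.iff_fg.mpr (Submodule.FG.map _ (hI.pow (n := n)))
    haveI : IsArtinian R S := by
      apply isArtinian_of_finite_of_le_annihilator I
      rintro a ha ⟨x, y, hy, rfl⟩
      ext
      simp only [Submodule.coe_smul, Submodule.coe_zero]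
      rw [← map_smul, Submodule.mkQ_apply, Submodule.Quotient.mk_eq_zero, smul_eq_mul, pow_succ']
      exact Ideal.mul_mem_mul ha hy
    refine isArtinian_of_range_eq_ker S.subtype g ?_
    rw [Submodule.range_subtype]
    show S = LinearMap.ker (Submodule.mapQ _ _ LinearMap.id _)
    rw [Submodule.ker_mapQ]
    simp [S]

/-- Let R be a commutative ring and I a finitely generated ideal such that the quotient ring R/I is
artinian. Then R/I^n is artinian for every n. -/
theorem result
    (R : Type u) [CommRing R] (I : Ideal R) (hI : I.FG) [IsArtinianRing (R ⧸ I)] (n : ℕ) :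
    IsArtinianRing (R ⧸ I ^ n) := by
  exact isArtinian_of_tower R (isArtinian_quotient_pow R I hI n)

end Groth.Agent.S14020
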