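import Mathlib
import Groth.Statements.S14023

set_option autoImplicit false
open CategoryTheory CategoryTheory.Limits Opposite
universe v u
open ARSys

namespace Groth.Agent.S14023

section
variable {A : Type u} [Category.{v} A] [Abelian A]

/-- The system `n ↦ ∏_{m ≤ n} I m` with projections as transition maps. -/
noncomputable def Jfun (I : ℕ → A) : ℕᵒᵖ ⥤ A where
  obj t := ∏ᶜ fun m : Fin (t.unop + 1) => I m
  map {s t} f := Pi.lift fun m : Fin (t.unop + 1) =>
    Pi.π (fun m : Fin (s.unop + 1) => I m) (Fin.castLE (Nat.succ_le_succ (leOfHom f.unop)) m)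
  map_id t := by
    apply Pi.hom_ext; intro m
    rw [Pi.lift_π, Category.id_comp]
    rfl
  map_comp f g := by
    apply Pi.hom_ext; intro m
    rw [Pi.lift_π, Category.assoc, Pi.lift_π, Pi.lift_π]
    rfl

/-- Projection of `Jfun I` at level `t` to `I k`, `k ≤ t`. -/
noncomputable def Jπ (I : ℕ → A) (t : ℕᵒᵖ) (k : ℕ) (hk : k ≤ t.unop) : (Jfun I).obj t ⟶ I k :=
  Pi.π (fun m : Fin (t.unop + 1) => I m) ⟨k, Nat.lt_succ_of_le hk⟩

/-- Lift into `Jfun I` at level `t`. -/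
noncomputable def Jlift (I : ℕ → A) (t : ℕᵒᵖ) {X : A} (φ : ∀ k, k ≤ t.unop → (X ⟶ I k)) :
    X ⟶ (Jfun I).obj t :=
  Pi.lift fun m : Fin (t.unop + 1) => φ m (Nat.le_of_lt_succ m.2)

theorem Jlift_π (I : ℕ → A) (t : ℕᵒᵖ) {X : A} (φ : ∀ k, k ≤ t.unop → (X ⟶ I k))
    (k : ℕ) (hk : k ≤ t.unop) : Jlift I t φ ≫ Jπ I t k hk = φ k hk :=
  Pi.lift_π _ _

theorem Jhom_ext (I : ℕ → A) {t : ℕᵒᵖ} {X : A} {f g : X ⟶ (Jfun I).obj t}
    (h : ∀ k hk, f ≫ Jπ I t k hk = g ≫ Jπ I t k hk) : f = g :=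
  Pi.hom_ext _ _ (fun m => h m (Nat.le_of_lt_succ m.2))

theorem Jfun_map_π (I : ℕ → A) {s t : ℕᵒᵖ} (f : s ⟶ t) (k : ℕ) (hk : k ≤ t.unop) :
    (Jfun I).map f ≫ Jπ I t k hk = Jπ I s k (hk.trans (leOfHom f.unop)) :=
  Pi.lift_π _ _

/-- The arrow `t ⟶ op k` of `ℕᵒᵖ` attached to `k ≤ t`. -/
def arr (t : ℕᵒᵖ) (k : ℕ) (hk : k ≤ t.unop) : t ⟶ op k := (homOfLE hk).op

theorem arr_comp {s t : ℕᵒᵖ} (f : s ⟶ t) (k : ℕ) (hk : k ≤ t.unop) :
    f ≫ arr t k hk = arr s k (hk.trans (leOfHom f.unop)) :=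
  Quiver.Hom.unop_inj (Subsingleton.elim _ _)

theorem arr_self (k : ℕ) : arr (op k) k le_rfl = 𝟙 (op k) :=
  Quiver.Hom.unop_inj (Subsingleton.elim _ _)

/-- The morphism to `Jfun I` determined by a diagonal family. -/
noncomputable def toJ (I : ℕ → A) (H : ℕᵒᵖ ⥤ A) (d : ∀ m : ℕ, H.obj (op m) ⟶ I m) :
    H ⟶ Jfun I where
  app t := Jlift I t fun k hk => H.map (arr t k hk) ≫ d k
  naturality s t f := by
    apply Jhom_ext; intro k hk
    rw [Category.assoc, Category.assoc, Jlift_π, Jfun_map_π, Jlift_π, ← Category.assoc,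
      ← H.map_comp, arr_comp]

theorem toJ_app_π (I : ℕ → A) (H : ℕᵒᵖ ⥤ A) (d : ∀ m : ℕ, H.obj (op m) ⟶ I m) (t : ℕᵒᵖ)
    (k : ℕ) (hk : k ≤ t.unop) :
    (toJ I H d).app t ≫ Jπ I t k hk = H.map (arr t k hk) ≫ d k :=
  Jlift_π I t (fun k hk => H.map (arr t k hk) ≫ d k) k hk

theorem comp_toJ (I : ℕ → A) {G H : ℕᵒᵖ ⥤ A} (f : G ⟶ H) (d : ∀ m : ℕ, H.obj (op m) ⟶ I m) :
    f ≫ toJ I H d = toJ I G (fun m => f.app (op m) ≫ d m) := by
  ext t
  apply Jhom_ext; intro k hk
  rw [NatTrans.comp_app, Category.assoc, toJ_app_π, toJ_app_π, ← Category.assoc,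
    ← f.naturality, Category.assoc]

theorem eq_toJ (I : ℕ → A) {G : ℕᵒᵖ ⥤ A} (g : G ⟶ Jfun I) :
    g = toJ I G (fun m => g.app (op m) ≫ Jπ I (op m) m le_rfl) := by
  ext t
  apply Jhom_ext; intro k hk
  rw [toJ_app_π, ← Category.assoc, g.naturality, Category.assoc, Jfun_map_π]

theorem Jfun_injective (I : ℕ → A) [∀ n, Injective (I n)] : Injective (Jfun I) where
  factors {G H} g f _ := by
    haveI hmono : ∀ t, Mono (f.app t) := (NatTrans.mono_iff_mono_app f).mp inferInstance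
    refine ⟨toJ I H (fun m => Injective.factorThru
      (g.app (op m) ≫ Jπ I (op m) m le_rfl) (f.app (op m))), ?_⟩
    rw [comp_toJ]
    refine Eq.trans ?_ (eq_toJ I g).symm
    congr 1
    funext m
    exact Injective.comp_factorThru _ _

theorem mono_toJ (I : ℕ → A) (F : ℕᵒᵖ ⥤ A) (d : ∀ m : ℕ, F.obj (op m) ⟶ I m)
    [∀ m, Mono (d m)] : Mono (toJ I F d) := by
  have : ∀ t, Mono ((toJ I F d).app t) := by
    intro t
    induction t using Opposite.rec with
    | _ n =>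
    have h1 : (toJ I F d).app (op n) ≫ Jπ I (op n) n le_rfl = d n := by
      rw [toJ_app_π, arr_self, F.map_id, Category.id_comp]
    have : Mono ((toJ I F d).app (op n) ≫ Jπ I (op n) n le_rfl) := by
      rw [h1]; infer_instance
    exact mono_of_mono _ (Jπ I (op n) n le_rfl)
  exact NatTrans.mono_of_mono_app _

theorem evalLeftAdjoint_preservesMono (n : ℕ)
    [∀ a b : ℕᵒᵖ, HasCoproductsOfShape (a ⟶ b) A] [∀ a b : ℕᵒᵖ, Finite (a ⟶ b)] :
    (evaluationLeftAdjoint A (op n : ℕᵒᵖ)).PreservesMonomorphisms where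
  preserves {d₁ d₂} f hf := by
    have : ∀ t, Mono (((evaluationLeftAdjoint A (op n : ℕᵒᵖ)).map f).app t) := by
      intro t
      have h3 : ((evaluationLeftAdjoint A (op n : ℕᵒᵖ)).map f).app t
          = Limits.Sigma.map (fun _ : ((op n : ℕᵒᵖ) ⟶ t) => f) := by
        apply Sigma.hom_ext
        intro p
        exact (Sigma.ι_desc _ _).trans (Sigma.ι_map (fun _ => f) p).symm
      rw [h3]
      haveI : HasFiniteBiproducts A := Abelian.hasFiniteBiproducts
      haveI : HasBiproductsOfShape ((op n : ℕᵒᵖ) ⟶ t) A := hasBiproductsOfShape_finite A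
      exact Sigma.map_mono _
    exact NatTrans.mono_of_mono_app _

end

/-- For an abelian category A, the category of inverse systems (A_n)_n indexed by ℕ, i.e. of functors
ℕᵒᵖ ⥤ A, has enough injectives if and only if A has enough injectives. (The second assertion of the
published proposition, describing the injective systems, is not part of this row.) -/
theorem result
    (A : Type u) [Category.{v} A] [Abelian A] :
    EnoughInjectives (ℕᵒᵖ ⥤ A) ↔ EnoughInjectives A := by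
  constructor
  · intro hF
    haveI : ∀ a b : ℕᵒᵖ, Finite (a ⟶ b) := fun a b =>
      haveI : Subsingleton (a ⟶ b) := ⟨fun p q => Quiver.Hom.unop_inj (Subsingleton.elim _ _)⟩
      Finite.of_subsingleton
    refine ⟨fun X => ?_⟩
    let c : ℕᵒᵖ ⥤ A := (Functor.const ℕᵒᵖ).obj X
    haveI := evalLeftAdjoint_preservesMono (A := A) 0
    have hinj : Injective ((Injective.under c).obj (op 0)) :=
      Adjunction.map_injective (evaluationAdjunctionRight A (op 0 : ℕᵒᵖ)) (Injective.under c)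
        inferInstance
    have hmono : Mono ((Injective.ι c).app (op 0)) :=
      (NatTrans.mono_iff_mono_app (Injective.ι c)).mp inferInstance (op 0)
    exact ⟨⟨(Injective.under c).obj (op 0), hinj, (Injective.ι c).app (op 0), hmono⟩⟩
  · intro hA
    refine ⟨fun F => ?_⟩
    exact ⟨⟨Jfun (fun n => Injective.under (F.obj (op n))),
      Jfun_injective _, toJ _ F (fun m => Injective.ι (F.obj (op m))), mono_toJ _ F _⟩⟩

end Groth.Agent.S14023
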