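import Groth.Statements.S14026
import Groth.Agent.H67.Subterm

set_option autoImplicit false
open CategoryTheory CategoryTheory.Limits Opposite
universe v u
open CohSite

namespace Groth.Agent.S14026

/-- Let C be a site with topology J and U an object of C such that every object has at most one morphism
to U (a subobject of the terminal object). For sheaves of sets, let j^* be restriction to the
localized site C/U and j_! its left adjoint (extension by the empty set), which exists under the
stated sheafification and Kan-extension hypotheses. Then for every sheaf F on C/U the unit morphism
F ⟶ j^* j_! F is an isomorphism. -/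
theorem result
    {C : Type u} [Category.{v} C] (J : GrothendieckTopology C) (U : C)
    (hU : ∀ V : C, Subsingleton (V ⟶ U))
    [HasWeakSheafify J (Type (max u v))]
    [∀ (P : (Over U)ᵒᵖ ⥤ (Type (max u v))), (Over.forget U).op.HasLeftKanExtension P]
    (F : Sheaf (J.over U) (Type (max u v))) :
    IsIso (((Over.forget U).sheafAdjunctionContinuous (Type (max u v)) (J.over U) J).unit.app F) := by
  haveI : ∀ (P : (Over U)ᵒᵖ ⥤ (Type (max u v))),
      (Over.forget U).op.HasPointwiseRightKanExtension P := fun P Y => by
    haveI : HasLimitsOfSize.{v, max u v} (Type (max u v)) := inferInstance
    infer_instance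
  exact Groth.Agent.H67.Subterm.isIso_unit J U hU (Type (max u v)) F

end Groth.Agent.S14026
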