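import Groth.Statements.S14032
import Mathlib.RingTheory.Nilpotent.Basic
import Mathlib.RingTheory.Nilpotent.Lemmas
import Mathlib.RingTheory.Noetherian.Nilpotent
import Mathlib.LinearAlgebra.TensorProduct.Quotient
import Mathlib.LinearAlgebra.Finsupp.LinearCombination
import Mathlib.LinearAlgebra.Basis.Basic
import Mathlib.RingTheory.Ideal.Quotient.Basic
import Mathlib.RingTheory.Ideal.Operations
import Mathlib.Tactic

set_option autoImplicit false
universe u v
open W4c1frobunstiva

namespace Groth.Agent.S14032


open TensorProduct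

section aux
variable {R : Type u} [CommRing R] {M : Type v} [AddCommGroup M] [Module R M]

theorem mk_smul_eq (a : R) (t : (R ⧸ nilradical R) ⊗[R] M) :
    (Ideal.Quotient.mk (nilradical R) a) • t = a • t :=
  algebraMap_smul (R ⧸ nilradical R) a t

theorem exists_one_tmul (t : (R ⧸ nilradical R) ⊗[R] M) :
    ∃ x : M, t = (1 : R ⧸ nilradical R) ⊗ₜ[R] x := by
  obtain ⟨x, hx⟩ := Submodule.Quotient.mk_surjective _
    (TensorProduct.quotTensorEquivQuotSMul M (nilradical R) t)
  refine ⟨x, ?_⟩
  have h := TensorProduct.quotTensorEquivQuotSMul_symm_mk (M := M) (nilradical R) x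
  rw [hx, LinearEquiv.symm_apply_apply] at h
  exact h

theorem one_tmul_eq_zero_iff (x : M) :
    (1 : R ⧸ nilradical R) ⊗ₜ[R] x = 0 ↔ x ∈ (nilradical R) • (⊤ : Submodule R M) := by
  rw [← TensorProduct.quotTensorEquivQuotSMul_symm_mk (M := M) (nilradical R) x,
    LinearEquiv.map_eq_zero_iff, Submodule.Quotient.mk_eq_zero]

theorem sum_mk_smul_one_tmul {r : ℕ} (g : Fin r → R) (m : Fin r → M) :
    ∑ i, (Ideal.Quotient.mk (nilradical R) (g i)) • ((1 : R ⧸ nilradical R) ⊗ₜ[R] m i) =
      (1 : R ⧸ nilradical R) ⊗ₜ[R] (∑ i, g i • m i) := by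
  rw [TensorProduct.tmul_sum]
  refine Finset.sum_congr rfl fun i _ => ?_
  rw [mk_smul_eq, TensorProduct.tmul_smul]

theorem nakayama_nilpotent (N : Submodule R M) (I : Ideal R) (K : ℕ) (hK : I ^ K = ⊥)
    (h : ⊤ ≤ N ⊔ I • (⊤ : Submodule R M)) : N = ⊤ := by
  have hj : ∀ j : ℕ, (⊤ : Submodule R M) ≤ N ⊔ (I ^ j) • (⊤ : Submodule R M) := by
    intro j
    induction j with
    | zero => rw [pow_zero, Ideal.one_eq_top, Submodule.top_smul]; exact le_sup_right
    | succ j ih =>
      calc (⊤ : Submodule R M) ≤ N ⊔ I • (⊤ : Submodule R M) := h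
        _ ≤ N ⊔ I • (N ⊔ (I ^ j) • (⊤ : Submodule R M)) :=
            sup_le_sup_left (Submodule.smul_mono le_rfl ih) _
        _ = N ⊔ (I • N ⊔ I • (I ^ j) • (⊤ : Submodule R M)) := by rw [Submodule.smul_sup]
        _ ≤ N ⊔ (I ^ (j + 1)) • (⊤ : Submodule R M) := by
            rw [pow_succ', Submodule.mul_smul]
            exact sup_le le_sup_left (sup_le (le_trans Submodule.smul_le_right le_sup_left)
              le_sup_right)
  have h1 := hj K
  rw [hK, Submodule.bot_smul, sup_bot_eq] at h1
  exact top_le_iff.mp h1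

end aux

open TensorProduct in
/-- Let R be a commutative Noetherian ring with nilradical n, M an R-module and r a natural number. Then
M is NR-free of rank r — generated by r elements such that every linear relation among them has
nilpotent coefficients — if and only if (R/n) ⊗_R M is free of rank r over R/n, in the sense of
admitting a basis indexed by r elements. (The published statement assumes M finitely generated and
also gives the converse when R is local; over a Noetherian ring the nilradical is nilpotent, the
case used here, and finite generation is not needed.) -/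
theorem result (R : Type u) [CommRing R]
    [IsNoetherianRing R] (M : Type v) [AddCommGroup M] [Module R M] (r : ℕ) :
    W4c1frobunstiva.IsNRFree R M r ↔
      Nonempty (Module.Basis (Fin r) (R ⧸ nilradical R) ((R ⧸ nilradical R) ⊗[R] M)) := by
  classical
  constructor
  · rintro ⟨m, hmspan, hmrel⟩
    have hli : LinearIndependent (R ⧸ nilradical R)
        (fun i : Fin r => (1 : R ⧸ nilradical R) ⊗ₜ[R] m i) := by
      rw [Fintype.linearIndependent_iff]
      intro g hg i
      choose g' hg' using fun i => Ideal.Quotient.mk_surjective (g i)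
      have h1 : ∑ i, g i • ((1 : R ⧸ nilradical R) ⊗ₜ[R] m i) =
          (1 : R ⧸ nilradical R) ⊗ₜ[R] (∑ i, g' i • m i) := by
        rw [← sum_mk_smul_one_tmul]
        refine Finset.sum_congr rfl fun i _ => ?_
        rw [hg' i]
      rw [h1, one_tmul_eq_zero_iff, ← hmspan] at hg
      obtain ⟨c, hc, hsum⟩ := (Submodule.mem_ideal_smul_span_iff_exists_sum _ m _).mp hg
      rw [Finsupp.sum_fintype _ _ (fun i => zero_smul R (m i))] at hsum
      have hrel : ∑ i, (g' i - c i) • m i = 0 := by
        simp only [sub_smul, Finset.sum_sub_distrib]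
        rw [hsum, sub_self]
      have hn := hmrel _ hrel i
      have hci : IsNilpotent (c i) := mem_nilradical.mp (hc i)
      have hgi : g' i ∈ nilradical R := by
        have : g' i = (g' i - c i) + c i := by ring
        rw [this]
        exact Ideal.add_mem _ (mem_nilradical.mpr hn) (hc i)
      rw [← hg' i]
      exact Ideal.Quotient.eq_zero_iff_mem.mpr hgi
    have hspan : ⊤ ≤ Submodule.span (R ⧸ nilradical R)
        (Set.range (fun i : Fin r => (1 : R ⧸ nilradical R) ⊗ₜ[R] m i)) := by
      intro t _
      obtain ⟨x, rfl⟩ := exists_one_tmul t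
      have hx : x ∈ Submodule.span R (Set.range m) := by rw [hmspan]; trivial
      obtain ⟨c, rfl⟩ := (Submodule.mem_span_range_iff_exists_fun R).mp hx
      rw [← sum_mk_smul_one_tmul]
      exact Submodule.sum_mem _ fun i _ =>
        Submodule.smul_mem _ _ (Submodule.subset_span ⟨i, rfl⟩)
    exact ⟨Module.Basis.mk hli hspan⟩
  · rintro ⟨b⟩
    choose m hm using fun i => exists_one_tmul (b i)
    refine ⟨m, ?_, ?_⟩
    · obtain ⟨K, hK⟩ := IsNoetherianRing.isNilpotent_nilradical R
      refine nakayama_nilpotent _ (nilradical R) K hK ?_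
      intro x _
      choose g' hg' using fun i =>
        Ideal.Quotient.mk_surjective (b.repr ((1 : R ⧸ nilradical R) ⊗ₜ[R] x) i)
      have h1 : (1 : R ⧸ nilradical R) ⊗ₜ[R] x =
          (1 : R ⧸ nilradical R) ⊗ₜ[R] (∑ i, g' i • m i) := by
        rw [← sum_mk_smul_one_tmul]
        conv_lhs => rw [← b.sum_repr ((1 : R ⧸ nilradical R) ⊗ₜ[R] x)]
        refine Finset.sum_congr rfl fun i _ => ?_
        rw [hg' i, hm i]
      have h2 : x - ∑ i, g' i • m i ∈ (nilradical R) • (⊤ : Submodule R M) := by
        rw [← one_tmul_eq_zero_iff, TensorProduct.tmul_sub, sub_eq_zero]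
        exact h1
      have h3 : x = (∑ i, g' i • m i) + (x - ∑ i, g' i • m i) := by abel
      rw [h3]
      exact Submodule.add_mem_sup
        (Submodule.sum_mem _ fun i _ =>
          Submodule.smul_mem _ _ (Submodule.subset_span ⟨i, rfl⟩)) h2
    · intro a ha i
      have h1 : ∑ i, (Ideal.Quotient.mk (nilradical R) (a i)) • b i = 0 := by
        have := sum_mk_smul_one_tmul a m
        rw [ha, TensorProduct.tmul_zero] at this
        rw [← this]
        refine Finset.sum_congr rfl fun i _ => ?_
        rw [hm i]
      have h2 := (Fintype.linearIndependent_iff.mp b.linearIndependent) _ h1 i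
      exact mem_nilradical.mp (Ideal.Quotient.eq_zero_iff_mem.mp h2)

end Groth.Agent.S14032
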