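import Mathlib
import Groth.Statements.S14033

set_option autoImplicit false
universe u v
open W4c1frobunstiva

namespace Groth.Agent.S14033

open DualNumber Pointwise TrivSqZeroExt

section
variable {R : Type u} [CommRing R] {M : Type v} [AddCommGroup M] [Module R[ε] M] [Module R M]
  [IsScalarTower R R[ε] M]

theorem mem_E {x : M} :
    x ∈ (ε : R[ε]) • (⊤ : Submodule R[ε] M) ↔ ∃ m : M, (ε : R[ε]) • m = x := by
  rw [Submodule.mem_smul_pointwise_iff_exists]
  simp

theorem eps_smul_mem (m : M) : (ε : R[ε]) • m ∈ (ε : R[ε]) • (⊤ : Submodule R[ε] M) :=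
  mem_E.mpr ⟨m, rfl⟩

theorem eps_smul_of_mem {x : M} (hx : x ∈ (ε : R[ε]) • (⊤ : Submodule R[ε] M)) :
    (ε : R[ε]) • x = 0 := by
  obtain ⟨m, rfl⟩ := mem_E.mp hx
  rw [smul_smul, DualNumber.eps_mul_eps, zero_smul]

theorem smul_eq_inl_smul (a : R) (m : M) : a • m = (inl a : R[ε]) • m := by
  rw [← algebraMap_smul R[ε] a m, TrivSqZeroExt.algebraMap_eq_inl]

theorem decomp (z : R[ε]) : z = inl z.fst + inl z.snd * ε := by
  apply TrivSqZeroExt.ext
  · simp [TrivSqZeroExt.fst_mul]
  · simp

theorem eps_mul (z : R[ε]) : (ε : R[ε]) * z = inl z.fst * ε := by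
  apply TrivSqZeroExt.ext
  · simp [TrivSqZeroExt.fst_mul]
  · simp

theorem mk_smul_eq (z : R[ε]) (m : M) :
    (Submodule.Quotient.mk (z • m) : M ⧸ ((ε : R[ε]) • (⊤ : Submodule R[ε] M))) =
      z.fst • Submodule.Quotient.mk m := by
  have h1 : z • m = z.fst • m + (ε : R[ε]) • ((inl z.snd : R[ε]) • m) := by
    conv_lhs => rw [decomp z]
    rw [add_smul, ← smul_eq_inl_smul, mul_comm, mul_smul]
  have h2 : (Submodule.Quotient.mk ((ε : R[ε]) • ((inl z.snd : R[ε]) • m)) :
      M ⧸ ((ε : R[ε]) • (⊤ : Submodule R[ε] M))) = 0 :=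
    (Submodule.Quotient.mk_eq_zero _).mpr (eps_smul_mem ((inl z.snd : R[ε]) • m))
  rw [h1, Submodule.Quotient.mk_add, h2, add_zero, Submodule.Quotient.mk_smul]

variable (R M) in
/-- The quotient map `M → M/εM` as an `R`-linear map. -/
noncomputable def piR : M →ₗ[R] (M ⧸ ((ε : R[ε]) • (⊤ : Submodule R[ε] M))) :=
  ((ε : R[ε]) • (⊤ : Submodule R[ε] M)).mkQ.restrictScalars R

theorem piR_eq_zero {m : M} : piR R M m = 0 ↔ m ∈ (ε : R[ε]) • (⊤ : Submodule R[ε] M) :=
  Submodule.Quotient.mk_eq_zero _

theorem piR_smul (z : R[ε]) (m : M) : piR R M (z • m) = z.fst • piR R M m := mk_smul_eq z m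

theorem piR_surjective : Function.Surjective (piR R M) :=
  Submodule.Quotient.mk_surjective _

/-- `m ↦ ε • m` as an `R`-linear map `M → εM`. -/
noncomputable def mu0 : M →ₗ[R] (((ε : R[ε]) • (⊤ : Submodule R[ε] M)).restrictScalars R) where
  toFun m := ⟨(ε : R[ε]) • m, eps_smul_mem m⟩
  map_add' x y := by
    apply Subtype.ext
    show (ε : R[ε]) • (x + y) = (ε : R[ε]) • x + (ε : R[ε]) • y
    exact smul_add _ _ _
  map_smul' a x := by
    apply Subtype.ext
    show (ε : R[ε]) • (a • x) = a • ((ε : R[ε]) • x)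
    exact smul_comm _ _ _

theorem basis_of_quot {r : ℕ}
    (bQ : Module.Basis (Fin r) R (M ⧸ ((ε : R[ε]) • (⊤ : Submodule R[ε] M))))
    (bE : Module.Basis (Fin r) R (((ε : R[ε]) • (⊤ : Submodule R[ε] M)).restrictScalars R)) :
    Nonempty (Module.Basis (Fin r) R[ε] M) := by
  classical
  choose m hm using fun i => piR_surjective (R := R) (M := M) (bQ i)
  let L : (Fin r → R) →ₗ[R] M := Fintype.linearCombination R m
  have hL : ∀ c, L c = ∑ i, c i • m i := fun c => Fintype.linearCombination_apply R m c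
  have hpiL : ∀ c, piR R M (L c) = ∑ i, c i • bQ i := by
    intro c
    rw [hL, map_sum]
    refine Finset.sum_congr rfl (fun i _ => ?_)
    rw [map_smul, hm i]
  have G1 : ∀ x : M, ∃ c : Fin r → R, x - L c ∈ (ε : R[ε]) • (⊤ : Submodule R[ε] M) := by
    intro x
    refine ⟨bQ.equivFun (piR R M x), ?_⟩
    rw [← piR_eq_zero, map_sub, hpiL, bQ.sum_equivFun, sub_self]
  have G2 : ∀ c : Fin r → R, piR R M (L c) = 0 → c = 0 := by
    intro c hc
    rw [hpiL] at hc
    funext i
    exact Fintype.linearIndependent_iff.mp bQ.linearIndependent c hc i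
  let T : (Fin r → R) →ₗ[R] (((ε : R[ε]) • (⊤ : Submodule R[ε] M)).restrictScalars R) :=
    (mu0 (R := R) (M := M)).comp L
  have hT : ∀ c, ((T c : ((ε : R[ε]) • (⊤ : Submodule R[ε] M)).restrictScalars R) : M) =
      (ε : R[ε]) • L c := fun c => rfl
  have hTsurj : Function.Surjective T := by
    intro x
    obtain ⟨m', hm'⟩ := mem_E.mp ((Submodule.restrictScalars_mem R _ _).mp x.2)
    obtain ⟨c, hc⟩ := G1 m'
    refine ⟨c, Subtype.ext ?_⟩
    rw [hT, ← hm']
    have := eps_smul_of_mem hc
    rw [smul_sub, sub_eq_zero] at this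
    exact this.symm
  haveI : Module.Finite R (((ε : R[ε]) • (⊤ : Submodule R[ε] M)).restrictScalars R) :=
    Module.Finite.of_basis bE
  have hTinj : Function.Injective T :=
    OrzechProperty.injective_of_surjective_of_injective
      (bE.equivFun.symm : (Fin r → R) →ₗ[R] _) T bE.equivFun.symm.injective hTsurj
  have F5 : ∀ x : M, (ε : R[ε]) • x = 0 → x ∈ (ε : R[ε]) • (⊤ : Submodule R[ε] M) := by
    intro x hx
    obtain ⟨c, hc⟩ := G1 x
    have h1 := eps_smul_of_mem hc
    rw [smul_sub, hx, zero_sub, neg_eq_zero] at h1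
    have h2 : T c = 0 := Subtype.ext (by rw [hT, h1]; rfl)
    have h3 : c = 0 := hTinj (by rw [h2, map_zero])
    rw [h3, map_zero, sub_zero] at hc
    exact hc
  have hli : LinearIndependent R[ε] m := by
    rw [Fintype.linearIndependent_iff]
    intro g hg
    obtain ⟨a, had⟩ : ∃ a : Fin r → R, ∀ i, a i = (g i).fst := ⟨fun i => (g i).fst, fun _ => rfl⟩
    obtain ⟨b, hbd⟩ : ∃ b : Fin r → R, ∀ i, b i = (g i).snd := ⟨fun i => (g i).snd, fun _ => rfl⟩
    have ha : a = 0 := by
      apply G2
      rw [hpiL]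
      have := congrArg (piR R M) hg
      rw [map_sum, map_zero] at this
      rw [← this]
      refine Finset.sum_congr rfl (fun i _ => ?_)
      rw [piR_smul, hm i, had i]
    have hg' : ∀ i, g i = inl (b i) * ε := by
      intro i
      have h0 : (g i).fst = 0 := (had i).symm.trans (congrFun ha i)
      conv_lhs => rw [decomp (g i)]
      rw [h0, inl_zero, zero_add, hbd i]
    have hb : b = 0 := by
      apply G2
      rw [piR_eq_zero]
      apply F5
      rw [hL, Finset.smul_sum, ← hg]
      refine Finset.sum_congr rfl (fun i _ => ?_)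
      rw [hg' i, smul_eq_inl_smul (b i) (m i), mul_comm, mul_smul]
    intro i
    rw [hg' i, hb]
    simp
  have hsp : ⊤ ≤ Submodule.span R[ε] (Set.range m) := by
    intro x _
    obtain ⟨c, hc⟩ := G1 x
    obtain ⟨m', hm'⟩ := mem_E.mp hc
    obtain ⟨c', hc'⟩ := G1 m'
    have h1 := eps_smul_of_mem hc'
    rw [smul_sub, sub_eq_zero] at h1
    have hx : x = L c + (ε : R[ε]) • L c' := by
      rw [← h1, hm']; abel
    have hLmem : ∀ c : Fin r → R, L c ∈ Submodule.span R[ε] (Set.range m) := by
      intro c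
      rw [hL]
      exact Submodule.sum_mem _ (fun i _ =>
        Submodule.smul_of_tower_mem _ (c i) (Submodule.subset_span ⟨i, rfl⟩))
    rw [hx]
    exact Submodule.add_mem _ (hLmem c) (Submodule.smul_mem _ _ (hLmem c'))
  exact ⟨Module.Basis.mk hli hsp⟩

theorem quot_basis_of_basis {r : ℕ} (b : Module.Basis (Fin r) R[ε] M) :
    Nonempty (Module.Basis (Fin r) R (M ⧸ ((ε : R[ε]) • (⊤ : Submodule R[ε] M)))) := by
  classical
  have hli : LinearIndependent R (fun i => piR R M (b i)) := by
    rw [Fintype.linearIndependent_iff]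
    intro c hc
    have h1 : piR R M (∑ i, c i • b i) = 0 := by
      rw [map_sum, ← hc]
      exact Finset.sum_congr rfl (fun i _ => map_smul _ _ _)
    obtain ⟨m', hm'⟩ := mem_E.mp (piR_eq_zero.mp h1)
    intro i
    have h2 := congrArg (fun x => (b.repr x) i) hm'
    simp only [map_smul, Finsupp.smul_apply, smul_eq_mul] at h2
    have h3 : (∑ j, c j • b j) = ∑ j, (inl (c j) : R[ε]) • b j :=
      Finset.sum_congr rfl (fun j _ => smul_eq_inl_smul _ _)
    rw [h3, b.repr_sum_self] at h2
    have h4 := congrArg TrivSqZeroExt.fst h2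
    simpa [TrivSqZeroExt.fst_mul] using h4.symm
  have hsp : ⊤ ≤ Submodule.span R (Set.range (fun i => piR R M (b i))) := by
    intro q _
    obtain ⟨x, rfl⟩ := piR_surjective (R := R) (M := M) q
    have hx : piR R M x = ∑ i, (b.repr x i).fst • piR R M (b i) := by
      conv_lhs => rw [← b.sum_repr x]
      rw [map_sum]
      exact Finset.sum_congr rfl (fun i _ => piR_smul _ _)
    rw [hx]
    exact Submodule.sum_mem _ (fun i _ =>
      Submodule.smul_mem _ _ (Submodule.subset_span ⟨i, rfl⟩))
  exact ⟨Module.Basis.mk hli hsp⟩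

theorem eps_basis_of_basis {r : ℕ} (b : Module.Basis (Fin r) R[ε] M) :
    Nonempty (Module.Basis (Fin r) R
      (((ε : R[ε]) • (⊤ : Submodule R[ε] M)).restrictScalars R)) := by
  classical
  let v : Fin r → (((ε : R[ε]) • (⊤ : Submodule R[ε] M)).restrictScalars R) :=
    fun i => mu0 (b i)
  have hv : ∀ i, ((v i : ((ε : R[ε]) • (⊤ : Submodule R[ε] M)).restrictScalars R) : M) =
      (ε : R[ε]) • b i := fun i => rfl
  have hli : LinearIndependent R v := by
    rw [Fintype.linearIndependent_iff]
    intro c hc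
    have h1 : ∑ i, (inl (c i) * ε : R[ε]) • b i = 0 := by
      have := congrArg (Submodule.subtype _) hc
      rw [map_sum, map_zero] at this
      rw [← this]
      refine Finset.sum_congr rfl (fun i _ => ?_)
      rw [map_smul, Submodule.subtype_apply, hv, mul_smul, ← smul_eq_inl_smul]
    intro i
    have h2 := Fintype.linearIndependent_iff.mp b.linearIndependent _ h1 i
    have h3 := congrArg TrivSqZeroExt.snd h2
    simpa [DualNumber.snd_mul] using h3
  have hsp : ⊤ ≤ Submodule.span R (Set.range v) := by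
    intro x _
    obtain ⟨m', hm'⟩ := mem_E.mp ((Submodule.restrictScalars_mem R _ _).mp x.2)
    have hx : x = ∑ i, (b.repr m' i).fst • v i := by
      apply Subtype.ext
      rw [← hm']
      conv_lhs => rw [← b.sum_repr m']
      rw [Finset.smul_sum, Submodule.coe_sum]
      refine Finset.sum_congr rfl (fun i _ => ?_)
      rw [Submodule.coe_smul, hv, smul_smul, eps_mul, mul_smul, ← smul_eq_inl_smul]
    rw [hx]
    exact Submodule.sum_mem _ (fun i _ =>
      Submodule.smul_mem _ _ (Submodule.subset_span ⟨i, rfl⟩))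
  exact ⟨Module.Basis.mk hli hsp⟩

end

open DualNumber Pointwise in
/-- Let R be a commutative ring, R[ε] its ring of dual numbers (ε² = 0), M an R[ε]-module and r a
natural number. Then M is free of rank r over R[ε] (admits a basis of r elements) if and only if the
R-modules M/εM and εM are both free of rank r. (The published statement concerns a coherent sheaf on
the product of a scheme S with Spec ℤ[ε] and local freeness of rank r; that assertion is local, and
this row is its form over one ring, with no finiteness assumption on M and no hypothesis on R.) -/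
theorem result (R : Type u) [CommRing R] (M : Type v)
    [AddCommGroup M] [Module R[ε] M] [Module R M] [IsScalarTower R R[ε] M] (r : ℕ) :
    Nonempty (Module.Basis (Fin r) R[ε] M) ↔
      (Nonempty (Module.Basis (Fin r) R (M ⧸ ((ε : R[ε]) • (⊤ : Submodule R[ε] M)))) ∧
        Nonempty (Module.Basis (Fin r) R (((ε : R[ε]) • (⊤ : Submodule R[ε] M)).restrictScalars R))) := by
  constructor
  · rintro ⟨b⟩
    exact ⟨quot_basis_of_basis b, eps_basis_of_basis b⟩
  · rintro ⟨⟨bQ⟩, ⟨bE⟩⟩
    exact basis_of_quot bQ bE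

end Groth.Agent.S14033
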