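import Groth.Statements.S14034
import Mathlib.RingTheory.LocalRing.Module
import Mathlib.RingTheory.Nilpotent.Lemmas
import Mathlib.LinearAlgebra.Projection
import Mathlib.LinearAlgebra.Dimension.Free
import Mathlib.LinearAlgebra.Dimension.Constructions
import Mathlib.LinearAlgebra.Finsupp.LinearCombination
import Mathlib.Algebra.Module.Projective
import Mathlib.RingTheory.Noetherian.Basic
import Mathlib.Tactic

set_option autoImplicit false
universe u
open W4c1frobunstiva

namespace Groth.Agent.S14034


theorem ker_split_free {R P Q : Type*} [CommRing R] [IsLocalRing R] [IsNoetherianRing R]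
    [AddCommGroup P] [Module R P] [Module.Free R P] [Module.Finite R P]
    [AddCommGroup Q] [Module R Q] [Module.Free R Q] [Module.Finite R Q]
    (Ψ : P →ₗ[R] Q) (σ : Q →ₗ[R] P) (hσ : ∀ z, Ψ (σ z) = z) :
    ∃ ρ : P →ₗ[R] LinearMap.ker Ψ, (∀ x : LinearMap.ker Ψ, ρ x = x) ∧
      Module.Free R (LinearMap.ker Ψ) ∧
      Module.finrank R (LinearMap.ker Ψ) + Module.finrank R Q = Module.finrank R P := by
  let ρ : P →ₗ[R] LinearMap.ker Ψ :=
    LinearMap.codRestrict (LinearMap.ker Ψ) (LinearMap.id - σ.comp Ψ) (by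
      intro c
      simp [LinearMap.mem_ker, hσ])
  have hρ : ∀ x : LinearMap.ker Ψ, ρ x = x := by
    intro x
    apply Subtype.ext
    have hx : Ψ (x : P) = 0 := x.2
    simp [ρ, hx]
  have hproj : Module.Projective R (LinearMap.ker Ψ) :=
    Module.Projective.of_split (LinearMap.ker Ψ).subtype ρ (LinearMap.ext fun x => hρ x)
  have hfin : Module.Finite R (LinearMap.ker Ψ) := inferInstance
  have hfree : Module.Free R (LinearMap.ker Ψ) := Module.free_of_flat_of_isLocalRing
  have hcompl : IsCompl (LinearMap.ker Ψ) (LinearMap.ker ρ) := LinearMap.isCompl_of_proj hρ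
  have hρsurj : LinearMap.range ρ = ⊤ := LinearMap.range_eq_top.mpr fun x => ⟨x, hρ x⟩
  have hΨsurj : LinearMap.range Ψ = ⊤ := LinearMap.range_eq_top.mpr fun z => ⟨σ z, hσ z⟩
  have e := LinearMap.equivProdOfSurjectiveOfIsCompl ρ Ψ hρsurj hΨsurj hcompl.symm
  refine ⟨ρ, hρ, hfree, ?_⟩
  rw [e.finrank_eq, Module.finrank_prod]

theorem kerNR {R : Type u} [CommRing R] [IsLocalRing R] [IsNoetherianRing R]
    {P₁ P₂ Q : Type u}
    [AddCommGroup P₁] [Module R P₁] [Module.Free R P₁] [Module.Finite R P₁]
    [AddCommGroup P₂] [Module R P₂] [Module.Free R P₂] [Module.Finite R P₂]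
    [AddCommGroup Q] [Module R Q] [Module.Free R Q] [Module.Finite R Q]
    (U : Submodule R Q) (θ : P₂ →ₗ[R] Q) (hθ : LinearMap.range θ = U)
    (φ : P₁ →ₗ[R] Q ⧸ U) (hφ : Function.Surjective φ)
    (hker : ∀ y, θ y = 0 → ∀ lam : P₁ × P₂ →ₗ[R] R, IsNilpotent (lam (0, y))) :
    ∃ t : ℕ, t + Module.finrank R Q = Module.finrank R P₁ + Module.finrank R P₂ ∧
      W4c1frobunstiva.IsNRFree R (LinearMap.ker φ) t ∧
      (Function.Injective θ → Nonempty (Module.Basis (Fin t) R (LinearMap.ker φ))) := by
  classical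
  obtain ⟨ψ, hψ⟩ := Module.projective_lifting_property U.mkQ φ (Submodule.mkQ_surjective U)
  have hφψ : ∀ x, φ x = U.mkQ (ψ x) := fun x => by rw [← hψ]; rfl
  have hΨ : ∀ c : P₁ × P₂, (ψ.coprod θ) c = ψ c.1 + θ c.2 := LinearMap.coprod_apply _ _
  have hsurj : Function.Surjective (ψ.coprod θ) := by
    intro z
    obtain ⟨x, hx⟩ := hφ (U.mkQ z)
    have h1 : z - ψ x ∈ U := by
      rw [← Submodule.Quotient.mk_eq_zero, Submodule.Quotient.mk_sub, sub_eq_zero]
      rw [hφψ] at hx
      exact hx.symm
    rw [← hθ] at h1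
    obtain ⟨y, hy⟩ := h1
    refine ⟨(x, y), ?_⟩
    rw [hΨ]
    show ψ x + θ y = z
    rw [hy]; abel
  obtain ⟨σ, hσ⟩ := Module.projective_lifting_property (ψ.coprod θ) LinearMap.id hsurj
  have hσ' : ∀ z, (ψ.coprod θ) (σ z) = z := fun z => LinearMap.congr_fun hσ z
  obtain ⟨ρ, hρ, hfree, hrank⟩ := ker_split_free (ψ.coprod θ) σ hσ'
  rw [Module.finrank_prod] at hrank
  have hfinK : Module.Finite R (LinearMap.ker (ψ.coprod θ)) := inferInstance
  have hmem : ∀ c : LinearMap.ker (ψ.coprod θ),
      ((LinearMap.fst R P₁ P₂).comp (LinearMap.ker (ψ.coprod θ)).subtype) c ∈ LinearMap.ker φ := by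
    intro c
    have hc : (ψ.coprod θ) (c : P₁ × P₂) = 0 := c.2
    rw [hΨ] at hc
    have h2 : ψ (c : P₁ × P₂).1 = - θ (c : P₁ × P₂).2 := eq_neg_of_add_eq_zero_left hc
    show ((c : P₁ × P₂).1) ∈ LinearMap.ker φ
    rw [LinearMap.mem_ker, hφψ, h2, map_neg, neg_eq_zero, Submodule.mkQ_apply,
      Submodule.Quotient.mk_eq_zero, ← hθ]
    exact LinearMap.mem_range_self _ _
  have hp₁ : ∃ p₁ : LinearMap.ker (ψ.coprod θ) →ₗ[R] LinearMap.ker φ,
      ∀ c, ((p₁ c : LinearMap.ker φ) : P₁) = (c : P₁ × P₂).1 :=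
    ⟨LinearMap.codRestrict (LinearMap.ker φ)
      ((LinearMap.fst R P₁ P₂).comp (LinearMap.ker (ψ.coprod θ)).subtype) hmem, fun c => rfl⟩
  obtain ⟨p₁, hp₁⟩ := hp₁
  have hp₁surj : Function.Surjective p₁ := by
    rintro ⟨x, hx⟩
    rw [LinearMap.mem_ker, hφψ, Submodule.mkQ_apply, Submodule.Quotient.mk_eq_zero, ← hθ] at hx
    obtain ⟨y, hy⟩ := hx
    have hmemK : ((x, -y) : P₁ × P₂) ∈ LinearMap.ker (ψ.coprod θ) := by
      rw [LinearMap.mem_ker, hΨ]
      show ψ x + θ (-y) = 0
      rw [map_neg, hy, add_neg_cancel]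
    refine ⟨⟨(x, -y), hmemK⟩, ?_⟩
    apply Subtype.ext
    rw [hp₁]
  -- kernel elements of p₁
  have hp₁ker : ∀ c : LinearMap.ker (ψ.coprod θ), p₁ c = 0 →
      (c : P₁ × P₂) = (0, (c : P₁ × P₂).2) ∧ θ (c : P₁ × P₂).2 = 0 := by
    intro c hc0
    have h1 : (c : P₁ × P₂).1 = 0 := by
      rw [← hp₁, hc0]; rfl
    have hc : (ψ.coprod θ) (c : P₁ × P₂) = 0 := c.2
    rw [hΨ, h1, map_zero, zero_add] at hc
    exact ⟨Prod.ext h1 rfl, hc⟩
  refine ⟨Module.finrank R (LinearMap.ker (ψ.coprod θ)), hrank, ?_, ?_⟩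
  · refine ⟨fun j => p₁ (Module.finBasis R (LinearMap.ker (ψ.coprod θ)) j), ?_, ?_⟩
    · rw [show (fun j => p₁ (Module.finBasis R (LinearMap.ker (ψ.coprod θ)) j)) =
        p₁ ∘ (Module.finBasis R (LinearMap.ker (ψ.coprod θ))) from rfl, Set.range_comp,
        Submodule.span_image, Module.Basis.span_eq, Submodule.map_top, LinearMap.range_eq_top]
      exact hp₁surj
    · intro a ha j
      have hκ : p₁ (∑ i, a i • Module.finBasis R (LinearMap.ker (ψ.coprod θ)) i) = 0 := by
        rw [map_sum]
        simp_rw [map_smul]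
        exact ha
      obtain ⟨h1, h2⟩ := hp₁ker _ hκ
      have h3 := hker _ h2
        (((Module.finBasis R (LinearMap.ker (ψ.coprod θ))).coord j).comp ρ)
      rw [← h1, LinearMap.comp_apply, hρ, Module.Basis.coord_apply,
        Module.Basis.repr_sum_self] at h3
      exact h3
  · intro hinj
    have hp₁inj : Function.Injective p₁ := by
      rw [← LinearMap.ker_eq_bot, LinearMap.ker_eq_bot']
      intro c hc0
      obtain ⟨h1, h2⟩ := hp₁ker c hc0
      have h3 : (c : P₁ × P₂).2 = 0 := hinj (by rw [h2, map_zero])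
      apply Subtype.ext
      rw [h1, h3]; rfl
    exact ⟨(Module.finBasis R (LinearMap.ker (ψ.coprod θ))).map
      (LinearEquiv.ofBijective p₁ ⟨hp₁inj, hp₁surj⟩)⟩

theorem coord_eq {R : Type*} [CommRing R] {s l : ℕ} (hls : l ≤ s) (f : R) (y : Fin l → R)
    (i : Fin l) :
    (∑ j, y j • (Pi.single (Fin.castLE hls j) f : Fin s → R)) (Fin.castLE hls i) = y i * f := by
  rw [Finset.sum_apply, Finset.sum_eq_single i]
  · simp
  · intro j _ hji
    have hne : Fin.castLE hls i ≠ Fin.castLE hls j :=
      fun h => hji (Fin.castLE_injective hls h).symm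
    simp [hne]
  · intro h; exact absurd (Finset.mem_univ i) h

/-- Let R be a Noetherian local ring and f an element of R whose annihilator consists of nilpotent
elements (a f = 0 forces a nilpotent), r, s and l ≤ s natural numbers, N the quotient of the free
module R^s by the submodule spanned by f e_1, …, f e_l (e_i the standard basis vectors), and φ : R^r
→ N a surjective linear map. Then the kernel of φ is NR-free of rank r + l − s: it is generated by r
+ l − s elements every linear relation among which has nilpotent coefficients; and when l = 0 the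
kernel is free of rank r − s. (The published statement takes R Noetherian with irreducible spectrum
and R_red a domain, not necessarily local, and f arbitrary. Over the coordinate ring of the real
2-sphere the kernel of (x, y, z) : R³ → R is not free, and over k[x, y]/(y², xy) localised at (x, y)
with f = y the kernel of R → R/(y) is spanned by y with the non-nilpotent relation x·y = 0. The
published argument uses that the kernel of a surjection of free modules is free, true over a local
ring, and that a f = 0 forces a nilpotent, which is the hypothesis taken here; it holds when R_red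
is a domain and f is not nilpotent, and also for f = ε in A[ε] with A a domain, so primality of the
nilradical is not assumed.) -/
theorem result (R : Type u)
    [CommRing R] [IsNoetherianRing R] [IsLocalRing R] (f : R)
    (hann : ∀ a : R, a * f = 0 → IsNilpotent a) (r s l : ℕ) (hls : l ≤ s)
    (φ : (Fin r → R) →ₗ[R]
      ((Fin s → R) ⧸ Submodule.span R (Set.range fun i : Fin l => (Pi.single (Fin.castLE hls i) f : Fin s → R))))
    (hφ : Function.Surjective φ) :
    W4c1frobunstiva.IsNRFree R (LinearMap.ker φ) (r + l - s) ∧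
      (l = 0 → Nonempty (Module.Basis (Fin (r - s)) R (LinearMap.ker φ))) := by
  classical
  have hker : ∀ y : Fin l → R,
      (Fintype.linearCombination R
        (fun i : Fin l => (Pi.single (Fin.castLE hls i) f : Fin s → R))) y = 0 →
      ∀ lam : (Fin r → R) × (Fin l → R) →ₗ[R] R, IsNilpotent (lam (0, y)) := by
    intro y hy lam
    rw [Fintype.linearCombination_apply] at hy
    have hyi : ∀ i, y i ∈ nilradical R := by
      intro i
      have h1 := coord_eq hls f y i
      rw [hy] at h1
      exact mem_nilradical.mpr (hann (y i) h1.symm)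
    have h2 : lam (0, y) = (lam.comp (LinearMap.inr R (Fin r → R) (Fin l → R))) y := rfl
    rw [h2, LinearMap.pi_apply_eq_sum_univ]
    exact mem_nilradical.mp (Ideal.sum_mem _ fun i _ => by
      rw [smul_eq_mul]
      exact Ideal.mul_mem_right _ _ (hyi i))
  obtain ⟨t, ht, hNR, hbasis⟩ := kerNR
    (Submodule.span R (Set.range fun i : Fin l => (Pi.single (Fin.castLE hls i) f : Fin s → R)))
    (Fintype.linearCombination R
      (fun i : Fin l => (Pi.single (Fin.castLE hls i) f : Fin s → R)))
    (Fintype.range_linearCombination R _) φ hφ hker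
  rw [Module.finrank_fin_fun, Module.finrank_fin_fun, Module.finrank_fin_fun] at ht
  have ht' : t = r + l - s := by omega
  subst ht'
  refine ⟨hNR, fun hl0 => ?_⟩
  subst hl0
  exact hbasis (Function.injective_of_subsingleton _)

end Groth.Agent.S14034
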