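import Groth.Statements.S14035
import Groth.Agent.H57.RegFlat2
import Mathlib.RingTheory.LocalRing.ResidueField.Fiber

set_option autoImplicit false
universe u v
open W4c1frobunstiva

namespace Groth.Agent.S14035

open TensorProduct in
/-- If the fibre ring over `p` is reduced, a nilpotent element of `B` is killed, modulo `pB`, by some
`s ∉ p`. -/
theorem fibre_step (A : Type u) (B : Type v) [CommRing A] [CommRing B] [Algebra A B]
    (p : Ideal A) [p.IsPrime] (hred : IsReduced (p.ResidueField ⊗[A] B)) (x : B)
    (hx : IsNilpotent x) :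
    ∃ s : A, s ∉ p ∧ algebraMap A B s * x ∈ p.map (algebraMap A B) := by
  letI : Algebra B (p.Fiber B) := Algebra.TensorProduct.rightAlgebra
  have e := Ideal.Fiber.algEquivAux₁ (S := B) p
  have h0 : algebraMap B (p.Fiber B) x = 0 := by
    have h1 : IsNilpotent (algebraMap B (p.Fiber B) x) := hx.map _
    exact hred.eq_zero _ h1
  have h2 := e.commutes x
  rw [h0, map_zero] at h2
  have h3 : algebraMap B (Localization (Algebra.algebraMapSubmonoid B p.primeCompl)) x ∈
      (p.map (algebraMap A B)).map
        (algebraMap B (Localization (Algebra.algebraMapSubmonoid B p.primeCompl))) := by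
    rw [← Ideal.Quotient.eq_zero_iff_mem]
    exact h2.symm
  obtain ⟨⟨y, m⟩, hym⟩ := (IsLocalization.mem_map_algebraMap_iff
    (Algebra.algebraMapSubmonoid B p.primeCompl) _).mp h3
  rw [← map_mul] at hym
  obtain ⟨c, hc⟩ := (IsLocalization.eq_iff_exists
    (Algebra.algebraMapSubmonoid B p.primeCompl) _).mp hym
  obtain ⟨s₁, hs₁, hs₁eq⟩ := c.2
  obtain ⟨s₂, hs₂, hs₂eq⟩ := m.2
  refine ⟨s₁ * s₂, p.primeCompl.mul_mem hs₁ hs₂, ?_⟩
  have : algebraMap A B (s₁ * s₂) * x = (c : B) * (y : B) := by
    rw [← hc, map_mul, hs₁eq, hs₂eq]; ring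
  rw [this]
  exact Ideal.mul_mem_left _ _ y.2

open scoped Pointwise in

open TensorProduct in
/-- Let A → B be a ring homomorphism with B Noetherian. If B modulo its nilradical is flat over A and
every fibre ring κ(p) ⊗_A B, p a prime of A, is reduced, then B is reduced. (This is the affine form
of the statement for a morphism of schemes X → Y all of whose fibres are reduced and whose
restriction to the reduced closed subscheme X_red is flat. The published statement does not say X is
locally Noetherian, but its proof applies Nakayama's lemma to the nilradical as a finitely generated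
ideal; without it the square-zero extension of a discrete valuation ring A by Frac(A)/A is a
counterexample.) -/
theorem result (A : Type u) (B : Type v)
    [CommRing A] [CommRing B] [Algebra A B] [IsNoetherianRing B]
    [Module.Flat A (B ⧸ nilradical B)]
    (hfib : ∀ p : PrimeSpectrum A, IsReduced (p.asIdeal.ResidueField ⊗[A] B)) :
    IsReduced B := by
  classical
  rw [← nilradical_eq_bot_iff]
  by_contra hN
  have hfg : (nilradical B : Submodule B B).FG := IsNoetherian.noetherian _
  have hann : (Submodule.annihilator (nilradical B : Submodule B B)) ≠ ⊤ := by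
    intro h
    apply hN
    rwa [Submodule.annihilator_eq_top_iff] at h
  obtain ⟨𝔮, h𝔮max, h𝔮⟩ := Ideal.exists_le_maximal _ hann
  haveI : 𝔮.IsPrime := h𝔮max.isPrime
  haveI hpprime : (𝔮.comap (algebraMap A B)).IsPrime := Ideal.comap_isPrime _ _
  haveI : Module.Flat A (B ⧸ (nilradical B : Submodule B B).restrictScalars A) :=
    Module.Flat.of_linearEquiv (Submodule.Quotient.restrictScalarsEquiv A (nilradical B))
  have hpN : (𝔮.comap (algebraMap A B)) • ((nilradical B : Submodule B B).restrictScalars A) ≤
      (𝔮 • (nilradical B : Submodule B B)).restrictScalars A := by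
    rw [Submodule.smul_le]
    intro a ha n hn
    rw [Submodule.restrictScalars_mem, ← algebraMap_smul B a n]
    exact Submodule.smul_mem_smul (Ideal.mem_comap.mp ha) hn
  have hle : (nilradical B : Submodule B B) ≤ 𝔮 • (nilradical B : Submodule B B) := by
    intro x hx
    obtain ⟨s, hs, hsx⟩ := fibre_step A B (𝔮.comap (algebraMap A B))
      (hfib ⟨𝔮.comap (algebraMap A B), hpprime⟩) x (mem_nilradical.mp hx)
    have h1 : algebraMap A B s * x ∈ (𝔮.comap (algebraMap A B)) • (⊤ : Submodule A B) := by
      rw [← Groth.Agent.H57.mem_map_smul_top_iff (B := B) B, smul_eq_mul, Ideal.mul_top]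
      exact hsx
    have h2 : algebraMap A B s * x ∈ (nilradical B : Submodule B B).restrictScalars A :=
      Ideal.mul_mem_left _ _ hx
    have h3 := hpN (Groth.Agent.H57.mem_smul_of_mem_of_mem_smul_top
      (𝔮.comap (algebraMap A B)) ((nilradical B : Submodule B B).restrictScalars A) _ h2 h1)
    rw [Submodule.restrictScalars_mem] at h3
    have hs' : algebraMap A B s ∉ 𝔮 := hs
    obtain ⟨y, i, hi, hyi⟩ := h𝔮max.exists_inv hs'
    have : x = y * (algebraMap A B s * x) + i * x := by
      rw [← mul_assoc, ← add_mul, hyi, one_mul]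
    rw [this]
    exact Submodule.add_mem _ (Ideal.mul_mem_left _ _ h3) (Submodule.smul_mem_smul hi hx)
  obtain ⟨r, hr1, hr2⟩ :=
    Submodule.exists_sub_one_mem_and_smul_eq_zero_of_fg_of_le_smul 𝔮 _ hfg hle
  have hr : r ∈ 𝔮 := h𝔮 (Submodule.mem_annihilator.mpr hr2)
  apply h𝔮max.ne_top
  rw [Ideal.eq_top_iff_one]
  have : (1 : B) = r - (r - 1) := by ring
  rw [this]
  exact Ideal.sub_mem _ hr hr1

end Groth.Agent.S14035
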