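import Groth.Statements.S14038
import Mathlib

set_option autoImplicit false
set_option linter.style.haveILetI false
set_option linter.unusedSectionVars false
set_option linter.unusedVariables false
universe u
open W4c1frobunstiva

namespace Groth.Agent.S14038

section Helpers

open PowerSeries

section blk

variable {A : Type u} [CommRing A] {r : ℕ}

/-- block matrix with a distinguished first row/column. -/
def blk (a : A) (b c : Fin r → A) (d : Matrix (Fin r) (Fin r) A) :
    Matrix (Fin (r + 1)) (Fin (r + 1)) A :=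
  Matrix.of fun i j => Fin.cases (Fin.cases a b j) (fun i' => Fin.cases (c i') (d i') j) i

@[simp] theorem blk_00 (a : A) (b c : Fin r → A) (d : Matrix (Fin r) (Fin r) A) :
    blk a b c d 0 0 = a := by simp [blk]

@[simp] theorem blk_0s (a : A) (b c : Fin r → A) (d : Matrix (Fin r) (Fin r) A) (j : Fin r) :
    blk a b c d 0 (Fin.succ j) = b j := by simp [blk]

@[simp] theorem blk_s0 (a : A) (b c : Fin r → A) (d : Matrix (Fin r) (Fin r) A) (i : Fin r) :
    blk a b c d (Fin.succ i) 0 = c i := by simp [blk]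

@[simp] theorem blk_ss (a : A) (b c : Fin r → A) (d : Matrix (Fin r) (Fin r) A) (i j : Fin r) :
    blk a b c d (Fin.succ i) (Fin.succ j) = d i j := by simp [blk]

theorem eq_blk (Y : Matrix (Fin (r + 1)) (Fin (r + 1)) A) :
    Y = blk (Y 0 0) (fun j => Y 0 j.succ) (fun i => Y i.succ 0)
      (Y.submatrix Fin.succ Fin.succ) := by
  ext i j
  refine Fin.cases ?_ (fun i' => ?_) i <;> refine Fin.cases ?_ (fun j' => ?_) j <;> simp

theorem blk_one : blk (1 : A) (0 : Fin r → A) 0 (1 : Matrix (Fin r) (Fin r) A) = 1 := by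
  ext i j
  refine Fin.cases ?_ (fun i' => ?_) i <;> refine Fin.cases ?_ (fun j' => ?_) j
  · simp
  · rw [blk_0s, Matrix.one_apply_ne (Fin.succ_ne_zero j').symm]; rfl
  · rw [blk_s0, Matrix.one_apply_ne (Fin.succ_ne_zero i')]; rfl
  · rw [blk_ss, Matrix.one_apply, Matrix.one_apply]
    simp [Fin.succ_inj]

theorem blk_diag_mul (N D : Matrix (Fin r) (Fin r) A) (a : A) (t : Fin r → A) :
    blk 1 0 0 N * blk a t 0 D = blk a t 0 (N * D) := by
  ext i j
  refine Fin.cases ?_ (fun i' => ?_) i <;> refine Fin.cases ?_ (fun j' => ?_) j <;>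
    simp [Matrix.mul_apply, Fin.sum_univ_succ]

theorem blk_row_mul (p t : Fin r → A) (a : A) (H : Matrix (Fin r) (Fin r) A) :
    blk 1 p 0 1 * blk a t 0 H = blk a (fun j => t j + ∑ k, p k * H k j) 0 H := by
  ext i j
  refine Fin.cases ?_ (fun i' => ?_) i <;> refine Fin.cases ?_ (fun j' => ?_) j <;>
    simp [Matrix.mul_apply, Fin.sum_univ_succ, Matrix.one_apply]

theorem blk_row_mul' (q t : Fin r → A) (a : A) (H : Matrix (Fin r) (Fin r) A) :
    blk 1 (fun k => -q k) 0 1 * blk a t 0 H =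
      blk a (fun j => t j - ∑ k, q k * H k j) 0 H := by
  rw [blk_row_mul]
  have : (fun j => t j + ∑ k, -q k * H k j) = fun j => t j - ∑ k, q k * H k j := by
    funext j
    simp [sub_eq_add_neg, Finset.sum_neg_distrib]
  rw [this]

theorem blk_col_mul_zero (w : A) (c : Fin r → A) (Y : Matrix (Fin (r + 1)) (Fin (r + 1)) A)
    (j : Fin (r + 1)) : (blk w 0 c 1 * Y) 0 j = w * Y 0 j := by
  simp [Matrix.mul_apply, Fin.sum_univ_succ]

theorem blk_col_mul_succ (w : A) (c : Fin r → A) (Y : Matrix (Fin (r + 1)) (Fin (r + 1)) A)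
    (i : Fin r) (j : Fin (r + 1)) :
    (blk w 0 c 1 * Y) i.succ j = c i * Y 0 j + Y i.succ j := by
  simp [Matrix.mul_apply, Fin.sum_univ_succ, Matrix.one_apply]

theorem isUnit_of_left_inv {n : ℕ} (B Y : Matrix (Fin n) (Fin n) A) (h : B * Y = 1) : IsUnit Y :=
  (Matrix.isUnit_iff_isUnit_det Y).2 (Matrix.isUnit_det_of_left_inverse h)

theorem isUnit_blk_diag (N : Matrix (Fin r) (Fin r) A) (hN : IsUnit N) :
    IsUnit (blk 1 0 0 N) := by
  obtain ⟨u, rfl⟩ := hN
  apply isUnit_of_left_inv (blk 1 0 0 (↑u⁻¹ : Matrix (Fin r) (Fin r) A))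
  have h1 : ((u⁻¹ : (Matrix (Fin r) (Fin r) A)ˣ) : Matrix (Fin r) (Fin r) A) *
      (u : Matrix (Fin r) (Fin r) A) = 1 := Units.inv_mul u
  rw [blk_diag_mul, h1, blk_one]

theorem isUnit_blk_row (p : Fin r → A) : IsUnit (blk 1 p 0 1) := by
  apply isUnit_of_left_inv (blk 1 (fun k => -p k) 0 1)
  rw [blk_row_mul', ← blk_one]
  have : (fun j => p j - ∑ k, p k * (1 : Matrix (Fin r) (Fin r) A) k j) = 0 := by
    funext j
    simp [Matrix.one_apply]
  rw [this]

theorem isUnit_blk_col (w : Aˣ) (c : Fin r → A) : IsUnit (blk (w : A) 0 c 1) := by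
  apply isUnit_of_left_inv (blk ((w⁻¹ : Aˣ) : A) 0 (fun i => -(c i * ((w⁻¹ : Aˣ) : A))) 1)
  rw [← blk_one]
  ext i j
  refine Fin.cases ?_ (fun i' => ?_) i <;> refine Fin.cases ?_ (fun j' => ?_) j <;>
    simp [Matrix.mul_apply, Fin.sum_univ_succ, Matrix.one_apply, mul_assoc]

theorem isUnit_sign {ι : Type} [Fintype ι] [DecidableEq ι] (σ : Equiv.Perm ι) :
    IsUnit (((Equiv.Perm.sign σ : ℤˣ) : ℤ) : A) := by
  rcases Int.units_eq_one_or (Equiv.Perm.sign σ) with h | h <;> simp [h]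

end blk

variable {k : Type u} [Field k]

/-- row-reduced with exponents `e`. -/
def RowRed {r : ℕ} (H : Matrix (Fin r) (Fin r) (PowerSeries k)) (e : Fin r → ℕ) : Prop :=
  (∀ i, H i i = PowerSeries.X ^ e i) ∧ (∀ i j, j < i → H i j = 0) ∧
    (∀ i j, i < j → ∀ n, e j ≤ n → PowerSeries.coeff n (H i j) = 0)

theorem exists_min' {α : Type} (s : Finset α) (f : α → PowerSeries k) :
    s.Nonempty → ∃ m ∈ s, ∀ x ∈ s, f m ∣ f x := by
  classical
  induction s using Finset.induction_on with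
  | empty => intro h; exact absurd h Finset.not_nonempty_empty
  | insert a s ha ih =>
    intro _
    rcases s.eq_empty_or_nonempty with hs | hne
    · subst hs
      refine ⟨a, by simp, fun x hx => ?_⟩
      have : x = a := by simpa using hx
      rw [this]
    · obtain ⟨m, hm, hmin⟩ := ih hne
      rcases ValuationRing.dvd_total (f a) (f m) with h | h
      · refine ⟨a, Finset.mem_insert_self a s, fun x hx => ?_⟩
        rcases Finset.mem_insert.1 hx with hxa | hxs
        · rw [hxa]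
        · exact dvd_trans h (hmin x hxs)
      · refine ⟨m, Finset.mem_insert_of_mem hm, fun x hx => ?_⟩
        rcases Finset.mem_insert.1 hx with hxa | hxs
        · rw [hxa]; exact h
        · exact hmin x hxs

theorem clear_col {r : ℕ} (M : Matrix (Fin (r + 1)) (Fin (r + 1)) (PowerSeries k))
    (hM : M.det ≠ 0) :
    ∃ (N : Matrix (Fin (r + 1)) (Fin (r + 1)) (PowerSeries k)) (e₀ : ℕ), IsUnit N ∧
      (N * M) 0 0 = PowerSeries.X ^ e₀ ∧ ∀ i : Fin r, (N * M) i.succ 0 = 0 := by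
  obtain ⟨i₀, -, hmin⟩ := exists_min' (Finset.univ : Finset (Fin (r + 1))) (fun i => M i 0)
    Finset.univ_nonempty
  have hmin' : ∀ i, M i₀ 0 ∣ M i 0 := fun i => hmin i (Finset.mem_univ _)
  have hp : M i₀ 0 ≠ 0 := by
    intro h0
    apply hM
    apply Matrix.det_eq_zero_of_column_eq_zero 0
    intro i
    obtain ⟨c, hc⟩ := hmin' i
    rw [hc, h0, zero_mul]
  obtain ⟨e₀, u, hu⟩ := IsDiscreteValuationRing.eq_unit_mul_pow_irreducible
    (R := PowerSeries k) hp (ϖ := PowerSeries.X) PowerSeries.X_irreducible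
  obtain ⟨σ, hσ⟩ : ∃ σ : Equiv.Perm (Fin (r + 1)), σ = Equiv.swap 0 i₀ := ⟨_, rfl⟩
  obtain ⟨Mσ, hMσ⟩ : ∃ Mσ : Matrix (Fin (r + 1)) (Fin (r + 1)) (PowerSeries k),
      Mσ = M.submatrix σ id := ⟨_, rfl⟩
  have hσ0 : σ 0 = i₀ := by rw [hσ, Equiv.swap_apply_left]
  have h00 : Mσ 0 0 = (u : PowerSeries k) * (PowerSeries.X : PowerSeries k) ^ e₀ := by
    rw [hMσ]
    show M (σ 0) 0 = _
    rw [hσ0]; exact hu
  choose c hc using fun i : Fin r => hmin' (σ i.succ)
  have hs : ∀ i : Fin r, Mσ i.succ 0 = Mσ 0 0 * c i := by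
    intro i
    rw [hMσ]
    show M (σ i.succ) 0 = M (σ 0) 0 * c i
    rw [hσ0]; exact hc i
  have hP : (1 : Matrix (Fin (r + 1)) (Fin (r + 1)) (PowerSeries k)).submatrix σ id * M = Mσ := by
    rw [hMσ]
    ext i j
    simp [Matrix.mul_apply, Matrix.one_apply]
  have uP : IsUnit ((1 : Matrix (Fin (r + 1)) (Fin (r + 1)) (PowerSeries k)).submatrix σ id) := by
    rw [Matrix.isUnit_iff_isUnit_det, Matrix.det_permute, Matrix.det_one, mul_one]
    exact isUnit_sign σ
  refine ⟨blk ((u⁻¹ : (PowerSeries k)ˣ) : PowerSeries k) 0 (fun i => -c i) 1 *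
    (1 : Matrix (Fin (r + 1)) (Fin (r + 1)) (PowerSeries k)).submatrix σ id, e₀,
    (isUnit_blk_col u⁻¹ _).mul uP, ?_, ?_⟩
  · rw [Matrix.mul_assoc, hP, blk_col_mul_zero, h00, ← mul_assoc, Units.inv_mul, one_mul]
  · intro i
    rw [Matrix.mul_assoc, hP, blk_col_mul_succ, hs i]
    ring

theorem exists_reduce {r : ℕ} (H : Matrix (Fin r) (Fin r) (PowerSeries k)) (e : Fin r → ℕ)
    (hd : ∀ i, H i i = PowerSeries.X ^ e i) (hl : ∀ i j, j < i → H i j = 0)
    (b : Fin r → PowerSeries k) :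
    ∀ m : ℕ, m ≤ r → ∃ q : Fin r → PowerSeries k, ∀ j : Fin r, (j : ℕ) < m → ∀ n, e j ≤ n →
      PowerSeries.coeff n (b j - ∑ i, q i * H i j) = 0 := by
  intro m
  induction m with
  | zero => intro _; exact ⟨0, fun j hj => absurd hj (Nat.not_lt_zero _)⟩
  | succ m ih =>
    intro hm
    obtain ⟨q, hq⟩ := ih (Nat.le_of_succ_le hm)
    obtain ⟨jm, hjm⟩ : ∃ jm : Fin r, (jm : ℕ) = m := ⟨⟨m, hm⟩, rfl⟩
    obtain ⟨c, hc⟩ : ∃ c, c = b jm - ∑ i, q i * H i jm := ⟨_, rfl⟩
    obtain ⟨s, hs⟩ : ∃ s : PowerSeries k,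
        s = PowerSeries.mk fun n => PowerSeries.coeff (n + e jm) c := ⟨_, rfl⟩
    refine ⟨fun i => q i + if i = jm then s else 0, fun j hj n hn => ?_⟩
    have hsum : ∑ i, (q i + if i = jm then s else 0) * H i j =
        ∑ i, q i * H i j + s * H jm j := by
      simp only [add_mul, Finset.sum_add_distrib, ite_mul, zero_mul, Finset.sum_ite_eq',
        Finset.mem_univ, if_true]
    rw [hsum]
    rcases Nat.lt_succ_iff_lt_or_eq.1 hj with hlt | heq
    · have hjlt : j < jm := by rw [Fin.lt_def, hjm]; exact hlt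
      rw [hl jm j hjlt, mul_zero, add_zero]
      exact hq j hlt n hn
    · have hjj : j = jm := Fin.ext (by rw [heq, hjm])
      subst hjj
      rw [hd j, ← sub_sub, ← hc, map_sub, PowerSeries.coeff_mul_X_pow', if_pos hn, hs,
        PowerSeries.coeff_mk, Nat.sub_add_cancel hn, sub_self]

theorem exists_rr : ∀ (r : ℕ) (M : Matrix (Fin r) (Fin r) (PowerSeries k)), M.det ≠ 0 →
    ∃ (H N : Matrix (Fin r) (Fin r) (PowerSeries k)) (e : Fin r → ℕ),
      RowRed H e ∧ IsUnit N ∧ N * M = H := by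
  intro r
  induction r with
  | zero =>
    intro M _
    exact ⟨M, 1, Fin.elim0, ⟨fun i => i.elim0, fun i => i.elim0, fun i => i.elim0⟩, isUnit_one,
      Matrix.one_mul M⟩
  | succ r ih =>
    intro M hM
    obtain ⟨N₁, e₀, uN₁, h00, hs0⟩ := clear_col M hM
    obtain ⟨T, hT⟩ : ∃ T, T = N₁ * M := ⟨_, rfl⟩
    rw [← hT] at h00 hs0
    obtain ⟨t, ht⟩ : ∃ t : Fin r → PowerSeries k, t = fun j => T 0 j.succ := ⟨_, rfl⟩
    obtain ⟨D, hD⟩ : ∃ D : Matrix (Fin r) (Fin r) (PowerSeries k),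
        D = T.submatrix Fin.succ Fin.succ := ⟨_, rfl⟩
    have h3 : (fun i : Fin r => T i.succ 0) = 0 := funext hs0
    have hTb : T = blk (PowerSeries.X ^ e₀) t 0 D := by
      rw [eq_blk T, h00, h3, ht, hD]
    have hdetT : T.det ≠ 0 := by
      rw [hT, Matrix.det_mul]
      exact mul_ne_zero ((Matrix.isUnit_iff_isUnit_det N₁).1 uN₁).ne_zero hM
    have hdet : T.det = PowerSeries.X ^ e₀ * D.det := by
      rw [Matrix.det_succ_column_zero, Finset.sum_eq_single 0]
      · rw [h00, hD, Fin.succAbove_zero]; simp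
      · intro i _ hi
        obtain ⟨i', rfl⟩ := Fin.exists_succ_eq.2 hi
        rw [hs0 i']; simp
      · intro h; exact absurd (Finset.mem_univ _) h
    have hdetD : D.det ≠ 0 := by
      intro h0; apply hdetT; rw [hdet, h0, mul_zero]
    obtain ⟨H', N₂, e', hH', uN₂, hN₂⟩ := ih D hdetD
    obtain ⟨q, hq⟩ := exists_reduce H' e' hH'.1 hH'.2.1 t r le_rfl
    refine ⟨blk (PowerSeries.X ^ e₀) (fun j => t j - ∑ i, q i * H' i j) 0 H',
      blk 1 (fun i => -q i) 0 1 * (blk 1 0 0 N₂ * N₁), Fin.cons e₀ e', ⟨?_, ?_, ?_⟩,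
      (isUnit_blk_row _).mul ((isUnit_blk_diag N₂ uN₂).mul uN₁), ?_⟩
    · intro i
      refine Fin.cases ?_ (fun i' => ?_) i
      · rw [blk_00, Fin.cons_zero]
      · rw [blk_ss, Fin.cons_succ]; exact hH'.1 i'
    · intro i j
      refine Fin.cases ?_ (fun i' => ?_) i
      · intro h; exact absurd h (Fin.not_lt_zero _)
      · refine Fin.cases ?_ (fun j' => ?_) j
        · intro _; rw [blk_s0]; rfl
        · intro h; rw [blk_ss]; exact hH'.2.1 i' j' (Fin.succ_lt_succ_iff.1 h)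
    · intro i j
      refine Fin.cases ?_ (fun j' => ?_) j
      · intro h; exact absurd h (Fin.not_lt_zero _)
      · refine Fin.cases ?_ (fun i' => ?_) i
        · intro _ n hn
          rw [Fin.cons_succ] at hn
          rw [blk_0s]
          exact hq j' j'.2 n hn
        · intro h n hn
          rw [Fin.cons_succ] at hn
          rw [blk_ss]
          exact hH'.2.2 i' j' (Fin.succ_lt_succ_iff.1 h) n hn
    · rw [Matrix.mul_assoc, Matrix.mul_assoc, ← hT, hTb, blk_diag_mul, hN₂, blk_row_mul']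

theorem lower_zero {r : ℕ} (H H' U : Matrix (Fin r) (Fin r) (PowerSeries k)) (e : Fin r → ℕ)
    (hd : ∀ i, H i i = PowerSeries.X ^ e i) (hl : ∀ i j, j < i → H i j = 0)
    (hl' : ∀ i j, j < i → H' i j = 0) (hU : H' = U * H) :
    ∀ i j : Fin r, j < i → U i j = 0 := by
  intro i
  have key : ∀ n : ℕ, ∀ j : Fin r, (j : ℕ) = n → j < i → U i j = 0 := by
    intro n
    induction n using Nat.strong_induction_on with
    | _ n ih =>
      intro j hjn hji
      have h1 : H' i j = U i j * H j j := by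
        rw [hU, Matrix.mul_apply]
        apply Finset.sum_eq_single j
        · intro b _ hbj
          rcases lt_or_gt_of_ne hbj with hlt | hgt
          · rw [ih b (by rw [← hjn]; exact hlt) b rfl (lt_trans hlt hji), zero_mul]
          · rw [hl b j hgt, mul_zero]
        · intro h; exact absurd (Finset.mem_univ j) h
      rw [hl' i j hji, hd j] at h1
      exact (mul_eq_zero.1 h1.symm).resolve_right (pow_ne_zero _ PowerSeries.X_ne_zero)
  exact fun j hji => key j j rfl hji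

theorem diag_eq {r : ℕ} (H H' U : Matrix (Fin r) (Fin r) (PowerSeries k))
    (hlU : ∀ i j : Fin r, j < i → U i j = 0) (hl : ∀ i j, j < i → H i j = 0)
    (hU : H' = U * H) (j : Fin r) : H' j j = U j j * H j j := by
  rw [hU, Matrix.mul_apply]
  apply Finset.sum_eq_single j
  · intro b _ hbj
    rcases lt_or_gt_of_ne hbj with hlt | hgt
    · rw [hlU j b hlt, zero_mul]
    · rw [hl b j hgt, mul_zero]
  · intro h; exact absurd (Finset.mem_univ j) h

theorem X_pow_dvd_le {a b : ℕ} (c : PowerSeries k)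
    (h : (PowerSeries.X : PowerSeries k) ^ b = c * PowerSeries.X ^ a) : a ≤ b := by
  by_contra hlt
  have h1 := congrArg (PowerSeries.coeff b) h
  rw [PowerSeries.coeff_X_pow_self, PowerSeries.coeff_mul_X_pow', if_neg hlt] at h1
  exact one_ne_zero h1

theorem uniq_aux {r : ℕ} (H₁ H₂ U U' : Matrix (Fin r) (Fin r) (PowerSeries k))
    (e₁ e₂ : Fin r → ℕ) (h₁ : RowRed H₁ e₁) (h₂ : RowRed H₂ e₂)
    (hU : H₂ = U * H₁) (hU' : H₁ = U' * H₂) : H₂ = H₁ := by
  obtain ⟨hd₁, hl₁, hu₁⟩ := h₁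
  obtain ⟨hd₂, hl₂, hu₂⟩ := h₂
  have lU := lower_zero H₁ H₂ U e₁ hd₁ hl₁ hl₂ hU
  have lU' := lower_zero H₂ H₁ U' e₂ hd₂ hl₂ hl₁ hU'
  have dU := diag_eq H₁ H₂ U lU hl₁ hU
  have dU' := diag_eq H₂ H₁ U' lU' hl₂ hU'
  have he : ∀ j, e₁ j = e₂ j := by
    intro j
    have a1 := dU j
    rw [hd₂, hd₁] at a1
    have a2 := dU' j
    rw [hd₁, hd₂] at a2
    exact le_antisymm (X_pow_dvd_le _ a1) (X_pow_dvd_le _ a2)
  have hone : ∀ j, U j j = 1 := by
    intro j
    have a1 := dU j
    rw [hd₂, hd₁, he j] at a1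
    have a3 : (1 : PowerSeries k) * PowerSeries.X ^ e₂ j = U j j * PowerSeries.X ^ e₂ j := by
      rw [one_mul]; exact a1
    exact (mul_right_cancel₀ (pow_ne_zero _ PowerSeries.X_ne_zero) a3).symm
  have uU : ∀ i : Fin r, ∀ n : ℕ, ∀ j : Fin r, (j : ℕ) = n → i < j → U i j = 0 := by
    intro i n
    induction n using Nat.strong_induction_on with
    | _ n ih =>
      intro j hjn hij
      have hsum : ∑ x, U i x * H₁ x j = U i i * H₁ i j + U i j * H₁ j j := by
        apply Finset.sum_eq_add i j (ne_of_lt hij)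
        · intro c _ hc
          rcases lt_or_gt_of_ne hc.1 with hci | hci
          · rw [lU i c hci, zero_mul]
          · rcases lt_or_gt_of_ne hc.2 with hcj | hcj
            · rw [ih c (by rw [← hjn]; exact hcj) c rfl hci, zero_mul]
            · rw [hl₁ c j hcj, mul_zero]
        · intro h; exact absurd (Finset.mem_univ _) h
        · intro h; exact absurd (Finset.mem_univ _) h
      have h1 : H₂ i j = H₁ i j + U i j * PowerSeries.X ^ e₂ j := by
        rw [hU, Matrix.mul_apply, hsum, hone i, one_mul, hd₁ j, he j]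
      ext m
      rw [map_zero, ← PowerSeries.coeff_mul_X_pow (U i j) (e₂ j) m]
      have h2 : U i j * PowerSeries.X ^ e₂ j = H₂ i j - H₁ i j := by rw [h1]; ring
      rw [h2, map_sub, hu₂ i j hij (m + e₂ j) (Nat.le_add_left _ _),
        hu₁ i j hij (m + e₂ j) (by rw [he j]; exact Nat.le_add_left _ _), sub_zero]
  ext i j
  rw [hU, Matrix.mul_apply]
  rw [Finset.sum_eq_single i]
  · rw [hone i, one_mul]
  · intro b _ hbi
    rcases lt_or_gt_of_ne hbi with hlt | hgt
    · rw [lU i b hlt, zero_mul]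
    · rw [uU i b b rfl hgt, zero_mul]
  · intro h; exact absurd (Finset.mem_univ _) h

end Helpers

/-- Let k be a field and M a square matrix of size r over the formal power series ring k[[t]] with
non-zero determinant. Call a matrix H over k[[t]] row-reduced when it is upper triangular, each
diagonal entry is a power t^{e_i} of the variable, and every entry above the diagonal in column j is
a polynomial of degree less than e_j (all its coefficients in degrees ≥ e_j vanish). Then there is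
exactly one row-reduced H obtainable from M by left multiplication with an invertible matrix over
k[[t]]. (The published statement takes k algebraically closed; the row-reduction argument needs only
a field.) -/
theorem result (k : Type u) [Field k] (r : ℕ)
    (M : Matrix (Fin r) (Fin r) (PowerSeries k)) (hM : M.det ≠ 0) :
    ∃! H : Matrix (Fin r) (Fin r) (PowerSeries k),
      (∃ e : Fin r → ℕ, (∀ i, H i i = PowerSeries.X ^ e i) ∧ (∀ i j, j < i → H i j = 0) ∧
        (∀ i j, i < j → ∀ n, e j ≤ n → PowerSeries.coeff n (H i j) = 0)) ∧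
      ∃ N : Matrix (Fin r) (Fin r) (PowerSeries k), IsUnit N ∧ N * M = H := by
  obtain ⟨H, N, e, hH, uN, hN⟩ := exists_rr r M hM
  refine ⟨H, ⟨⟨e, hH.1, hH.2.1, hH.2.2⟩, N, uN, hN⟩, ?_⟩
  rintro H₂ ⟨⟨e₂, h2a, h2b, h2c⟩, N₂, uN₂, hN₂⟩
  obtain ⟨u, rfl⟩ := uN
  obtain ⟨u₂, rfl⟩ := uN₂
  have hM1 : M = (↑u⁻¹ : Matrix (Fin r) (Fin r) (PowerSeries k)) * H := by
    rw [← hN, ← Matrix.mul_assoc]
    have : ((u⁻¹ : (Matrix (Fin r) (Fin r) (PowerSeries k))ˣ) :
        Matrix (Fin r) (Fin r) (PowerSeries k)) * (u : Matrix (Fin r) (Fin r) (PowerSeries k)) = 1 :=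
      Units.inv_mul u
    rw [this, Matrix.one_mul]
  have hM2 : M = (↑u₂⁻¹ : Matrix (Fin r) (Fin r) (PowerSeries k)) * H₂ := by
    rw [← hN₂, ← Matrix.mul_assoc]
    have : ((u₂⁻¹ : (Matrix (Fin r) (Fin r) (PowerSeries k))ˣ) :
        Matrix (Fin r) (Fin r) (PowerSeries k)) * (u₂ : Matrix (Fin r) (Fin r) (PowerSeries k)) = 1 :=
      Units.inv_mul u₂
    rw [this, Matrix.one_mul]
  apply uniq_aux H H₂ ((u₂ : Matrix (Fin r) (Fin r) (PowerSeries k)) *
      ((u⁻¹ : (Matrix (Fin r) (Fin r) (PowerSeries k))ˣ) : Matrix (Fin r) (Fin r) (PowerSeries k)))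
    ((u : Matrix (Fin r) (Fin r) (PowerSeries k)) *
      ((u₂⁻¹ : (Matrix (Fin r) (Fin r) (PowerSeries k))ˣ) : Matrix (Fin r) (Fin r) (PowerSeries k)))
    e e₂ hH ⟨h2a, h2b, h2c⟩
  · rw [Matrix.mul_assoc, ← hM1, hN₂]
  · rw [Matrix.mul_assoc, ← hM2, hN]

end Groth.Agent.S14038
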