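import Mathlib
import Groth.Statements.S14039

set_option autoImplicit false
open W4c1frobunstiva

namespace Groth.Agent.S14039

open PowerSeries

/-- The generating polynomial `X + X^2 + ⋯ + X^(p-1)` as a power series. -/
noncomputable def P (p : ℕ) : PowerSeries ℤ :=
  ∑ j : Fin p, if 1 ≤ (j : ℕ) then (X : PowerSeries ℤ) ^ (j : ℕ) else 0

theorem claim1 (p n s : ℕ) :
    (Fintype.card {e : Fin n → Fin p // (∀ i, 1 ≤ (e i : ℕ)) ∧ ∑ i, (e i : ℕ) = s} : ℤ) =
      coeff s ((P p) ^ n) := by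
  have h1 : (P p) ^ n = ∏ _i : Fin n, P p := by simp
  rw [h1]
  unfold P
  rw [Finset.prod_univ_sum, Fintype.piFinset_univ, map_sum]
  have h2 : ∀ e : Fin n → Fin p,
      coeff s (∏ i, if 1 ≤ ((e i : Fin p) : ℕ) then (X : PowerSeries ℤ) ^ ((e i : Fin p) : ℕ)
        else 0) = if (∀ i, 1 ≤ (e i : ℕ)) ∧ ∑ i, (e i : ℕ) = s then 1 else 0 := by
    intro e
    rw [Fintype.prod_ite_zero]
    by_cases h : ∀ i, 1 ≤ (e i : ℕ)
    · rw [if_pos h, Finset.prod_pow_eq_pow_sum, coeff_X_pow]
      by_cases hs : ∑ i, (e i : ℕ) = s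
      · rw [if_pos hs.symm, if_pos ⟨h, hs⟩]
      · rw [if_neg (fun h => hs h.symm), if_neg (fun h => hs h.2)]
    · rw [if_neg h, map_zero, if_neg (fun h'' => h h''.1)]
  rw [Finset.sum_congr rfl (fun e _ => h2 e), Finset.sum_boole, Fintype.card_subtype]

theorem claim2 (p : ℕ) : P p * (1 - X) = X - X ^ (p - 1 + 1) := by
  unfold P
  rw [Fin.sum_univ_eq_sum_range (fun j => if 1 ≤ j then (X : PowerSeries ℤ) ^ j else 0) p]
  cases p with
  | zero => simp
  | succ q =>
    rw [Nat.add_sub_cancel]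
    induction q with
    | zero => simp
    | succ q ih =>
      rw [Finset.sum_range_succ, add_mul, ih, if_pos (by omega)]
      ring

theorem claim3 (n q : ℕ) : ((1 : PowerSeries ℤ) - X ^ q) ^ n =
    ∑ i ∈ Finset.range (n + 1),
      ((((-1 : ℤ) ^ i * (n.choose i : ℤ)) : ℤ) : PowerSeries ℤ) * X ^ (i * q) := by
  have : (1 : PowerSeries ℤ) - X ^ q = -X ^ q + 1 := by ring
  rw [this, add_pow]
  refine Finset.sum_congr rfl (fun i _ => ?_)
  rw [one_pow, mul_one, neg_pow, ← pow_mul]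
  push_cast
  ring

/-- For natural numbers p, n ≥ 1 and s, the number of monomials of degree s in n variables in which
every variable occurs with a positive exponent strictly less than p — that is, of exponent vectors
(e_1, …, e_n) with sum s and 1 ≤ e_i ≤ p − 1 — equals the inclusion–exclusion sum over i from 0 to n
of (−1)^i · C(n, i) · C(s − i(p − 1) − 1, n − 1), the last factor counting monomials of degree s −
i(p − 1) − n in n variables and read as 0 when s < i(p − 1) + n. (A companion count, by how many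
exponents lie below p/2, and a remark on polynomiality in s and p are not part of this row.) -/
theorem result (p n s : ℕ)
    (hn : 1 ≤ n) :
    (Fintype.card {e : Fin n → Fin p // (∀ i, 1 ≤ (e i : ℕ)) ∧ ∑ i, (e i : ℕ) = s} : ℤ) =
      ∑ i ∈ Finset.range (n + 1),
        (-1 : ℤ) ^ i * (n.choose i : ℤ) *
          (if i * (p - 1) + n ≤ s then (((s - i * (p - 1) - 1).choose (n - 1) : ℕ) : ℤ) else 0) := by
  rw [claim1]
  obtain ⟨d, rfl⟩ : ∃ d, n = d + 1 := ⟨n - 1, by omega⟩
  generalize hq : p - 1 = q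
  have hG : ((1 : PowerSeries ℤ) - X) * PowerSeries.mk 1 = 1 := by
    rw [mul_comm]; exact PowerSeries.mk_one_mul_one_sub_eq_one ℤ
  have hP : (P p) ^ (d + 1) = X ^ (d + 1) * ((1 : PowerSeries ℤ) - X ^ q) ^ (d + 1) *
      (PowerSeries.mk 1) ^ (d + 1) := by
    have h1 : P p * (1 - X) = X * (1 - X ^ q) := by rw [claim2, hq]; ring
    calc (P p) ^ (d + 1) = (P p * (1 - X)) ^ (d + 1) * (PowerSeries.mk 1) ^ (d + 1) := by
          rw [mul_pow, mul_assoc, ← mul_pow, hG, one_pow, mul_one]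
      _ = _ := by rw [h1, mul_pow]
  rw [hP, PowerSeries.mk_one_pow_eq_mk_choose_add, claim3, Finset.mul_sum, Finset.sum_mul, map_sum]
  refine Finset.sum_congr rfl (fun i _ => ?_)
  have h3 : X ^ (d + 1) * ((((-1 : ℤ) ^ i * ((d + 1).choose i : ℤ) : ℤ) : PowerSeries ℤ) *
        X ^ (i * q)) * (PowerSeries.mk fun k => ((Nat.choose (d + k) d : ℕ) : ℤ)) =
      ((-1 : ℤ) ^ i * ((d + 1).choose i : ℤ)) •
        (X ^ (i * q + (d + 1)) * PowerSeries.mk fun k => ((Nat.choose (d + k) d : ℕ) : ℤ)) := by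
    rw [zsmul_eq_mul]; ring
  rw [h3, map_zsmul, smul_eq_mul, PowerSeries.coeff_X_pow_mul', PowerSeries.coeff_mk]
  congr 1
  by_cases hc : i * q + (d + 1) ≤ s
  · rw [if_pos hc, if_pos hc]
    have e1 : d + (s - (i * q + (d + 1))) = s - i * q - 1 := by
      generalize i * q = t at hc ⊢
      omega
    have e2 : d + 1 - 1 = d := by omega
    rw [e1, e2]
  · rw [if_neg hc, if_neg hc]

end Groth.Agent.S14039
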