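import Groth.Statements.S14041
import Groth.Agent.H54.DetNorm
import Groth.Agent.H54.GenericFinite2
import Groth.Agent.H54.IrredFibres
import Groth.Agent.H54.FibreDimTdeg

set_option autoImplicit false
universe u
open CategoryTheory CategoryTheory.Limits AlgebraicGeometry
open W4c1frobunstiva

namespace Groth.Agent.S14041


open Groth.Agent.H54

section Ring

theorem loc_finite {R S Rₘ Sₘ : Type*} [CommRing R] [CommRing S] [CommRing Rₘ] [CommRing Sₘ]
    [Algebra R S] [Algebra Rₘ Sₘ] (φ : R →+* Rₘ) (ψ : S →+* Sₘ)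
    (hcomm : ψ.comp (algebraMap R S) = (algebraMap Rₘ Sₘ).comp φ) (g : R)
    (h1 : @IsLocalization.Away R _ g Rₘ _ φ.toAlgebra)
    (h2 : @IsLocalization.Away S _ (algebraMap R S g) Sₘ _ ψ.toAlgebra)
    [Module.Finite R S] : Module.Finite Rₘ Sₘ := by
  letI : Algebra R Rₘ := φ.toAlgebra
  letI : Algebra S Sₘ := ψ.toAlgebra
  letI : Algebra R Sₘ := (ψ.comp (algebraMap R S)).toAlgebra
  haveI : IsScalarTower R S Sₘ := IsScalarTower.of_algebraMap_eq (fun x => rfl)
  haveI : IsScalarTower R Rₘ Sₘ := IsScalarTower.of_algebraMap_eq (fun x => by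
    show (ψ.comp (algebraMap R S)) x = (algebraMap Rₘ Sₘ) (φ x)
    rw [hcomm]; rfl)
  haveI : IsLocalization (Submonoid.powers g) Rₘ := h1
  haveI : IsLocalization (Algebra.algebraMapSubmonoid S (Submonoid.powers g)) Sₘ := by
    have e : Algebra.algebraMapSubmonoid S (Submonoid.powers g) =
        Submonoid.powers (algebraMap R S g) := by
      simp [Algebra.algebraMapSubmonoid, Submonoid.map_powers]
    rw [e]; exact h2
  exact Module.Finite.of_isLocalization R S (Submonoid.powers g)

theorem exists_free_away {A B : Type u} [CommRing A] [IsDomain A] [CommRing B] [Algebra A B]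
    [Module.FinitePresentation A B] :
    ∃ r : A, r ≠ 0 ∧ Module.Free (Localization (Submonoid.powers r))
      (LocalizedModule (Submonoid.powers r) B) := by
  obtain ⟨r, hr, hfree, -⟩ := Module.FinitePresentation.exists_free_localizedModule_powers
    (nonZeroDivisors A) (LocalizedModule.mkLinearMap (nonZeroDivisors A) B) (FractionRing A)
  exact ⟨r, nonZeroDivisors.ne_zero hr, hfree⟩

end Ring

theorem exists_good_generic {X Y : Scheme.{u}} [IsIntegral Y] [IsLocallyNoetherian Y]
    (f : X ⟶ Y) (V' : Y.Opens) (hV' : IsAffineOpen V') (hne : Nonempty ↥V')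
    (hU' : IsAffineOpen (f ⁻¹ᵁ V')) (hfin : (f.app V').hom.Finite) :
    ∃ V : Y.Opens, IsAffineOpen V ∧ Nonempty ↥V ∧ IsAffineOpen (f ⁻¹ᵁ V) ∧
      (f.app V).hom.Finite ∧
      (letI := DetNorm.secAlg f V; Module.Free Γ(Y, V) Γ(X, f ⁻¹ᵁ V)) := by
  letI := DetNorm.secAlg f V'
  haveI : Module.Finite Γ(Y, V') Γ(X, f ⁻¹ᵁ V') := hfin
  haveI : IsNoetherianRing Γ(Y, V') := IsLocallyNoetherian.component_noetherian ⟨V', hV'⟩
  haveI : Nonempty V'.toScheme := hne
  haveI : IsDomain Γ(Y, V') := inferInstance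
  haveI : Module.FinitePresentation Γ(Y, V') Γ(X, f ⁻¹ᵁ V') :=
    Module.finitePresentation_of_finite _ _
  obtain ⟨r, hr0, hfree⟩ := exists_free_away (A := Γ(Y, V')) (B := Γ(X, f ⁻¹ᵁ V'))
  have hX : @IsLocalization.Away _ _ ((f.app V').hom r) Γ(X, f ⁻¹ᵁ (Y.basicOpen r)) _
      (X.presheaf.map ((TopologicalSpace.Opens.map f.base).map
        (homOfLE (Y.basicOpen_le r))).op).hom.toAlgebra :=
    hU'.isLocalization_of_eq_basicOpen _ _ (Scheme.preimage_basicOpen f r)
  refine ⟨Y.basicOpen r, hV'.basicOpen r, ?_, ?_, ?_, ?_⟩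
  · have hη : genericPoint Y ∈ V' :=
      ((genericPoint_spec Y).mem_open_set_iff V'.isOpen).mpr
        ⟨_, trivial, (Classical.arbitrary ↥V').2⟩
    refine ⟨⟨genericPoint Y, ?_⟩⟩
    rw [Scheme.mem_basicOpen Y r _ hη]
    have hinj := germ_injective_of_isIntegral Y (genericPoint Y) hη
    have hne0 : Y.presheaf.germ V' (genericPoint Y) hη r ≠ 0 := fun h0 =>
      hr0 (hinj (h0.trans (map_zero _).symm))
    exact (isUnit_iff_ne_zero (G₀ := Y.functionField)).mpr hne0
  · rw [Scheme.preimage_basicOpen f r]; exact hU'.basicOpen _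
  · letI := DetNorm.secAlg f (Y.basicOpen r)
    exact loc_finite _ _ (DetNorm.hcomm f (homOfLE (Y.basicOpen_le r))) r
      (DetNorm.away_Y hV' r) hX
  · letI := DetNorm.secAlg f (Y.basicOpen r)
    haveI := hfree
    exact DetNorm.free_transport _ _ (DetNorm.hcomm f (homOfLE (Y.basicOpen_le r))) r
      (DetNorm.away_Y hV' r) hX

theorem fibre_finrank {X Y : Scheme.{u}} (f : X ⟶ Y) (V : Y.Opens) (hV : IsAffineOpen V)
    (hU : IsAffineOpen (f ⁻¹ᵁ V)) (hfin : (f.app V).hom.Finite)
    (hfree : letI := DetNorm.secAlg f V; Module.Free Γ(Y, V) Γ(X, f ⁻¹ᵁ V)) (y : Y)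
    (hy : y ∈ V) :
    IsFinite (pullback.snd f (Y.fromSpecResidueField y)) ∧
      (letI := ((Scheme.ΓSpecIso (CommRingCat.of (Y.residueField y))).inv ≫
            (pullback.snd f (Y.fromSpecResidueField y)).appTop).hom.toAlgebra;
          Module.finrank (Y.residueField y) ↑(Γ(pullback f (Y.fromSpecResidueField y), ⊤))) =
      (letI := DetNorm.secAlg f V; Module.finrank Γ(Y, V) Γ(X, f ⁻¹ᵁ V)) := by
  letI := DetNorm.secAlg f V
  haveI : Module.Free Γ(Y, V) Γ(X, f ⁻¹ᵁ V) := hfree
  haveI : Module.Finite Γ(Y, V) Γ(X, f ⁻¹ᵁ V) := hfin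
  have hflat : (f.app V).hom.Flat := (inferInstance : Module.Flat Γ(Y, V) Γ(X, f ⁻¹ᵁ V))
  haveI : IsFinite (Spec.map (f.app V)) := (IsFinite.SpecMap_iff _).mpr hfin
  haveI : Flat (Spec.map (f.app V)) := Flat.SpecMap_iff.mpr hflat
  have hpb : IsPullback (Spec.map (f.app V)) hU.fromSpec hV.fromSpec f := by
    apply IsOpenImmersion.isPullback
    · have h := IsAffineOpen.SpecMap_appLE_fromSpec f hV hU le_rfl
      rw [Scheme.Hom.appLE_eq_app] at h
      exact h.symm
    · rw [hV.opensRange_fromSpec, hU.opensRange_fromSpec]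
  obtain ⟨φ, hφ⟩ : ∃ φ : Spec (Y.residueField y) ⟶ Y, φ = Y.fromSpecResidueField y := ⟨_, rfl⟩
  rw [← hφ]
  have hrange : Set.range φ ⊆ Set.range hV.fromSpec := by
    rw [hφ, Scheme.range_fromSpecResidueField, hV.range_fromSpec]
    exact Set.singleton_subset_iff.mpr hy
  obtain ⟨t, ht⟩ : ∃ t : Spec (Y.residueField y) ⟶ Spec Γ(Y, V), t ≫ hV.fromSpec = φ :=
    ⟨IsOpenImmersion.lift hV.fromSpec φ hrange, IsOpenImmersion.lift_fac _ _ _⟩
  have s : IsPullback (pullback.fst f φ) (pullback.snd f φ) f (t ≫ hV.fromSpec) := by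
    rw [ht]; exact IsPullback.of_hasPullback f φ
  have hsq := IsPullback.of_right' s hpb.flip
  haveI hgfin : IsFinite (pullback.snd f φ) :=
    MorphismProperty.of_isPullback (P := @IsFinite) hsq inferInstance
  refine ⟨hgfin, ?_⟩
  obtain ⟨pt⟩ : Nonempty (PrimeSpectrum (Y.residueField y)) := inferInstance
  have e1 := Scheme.Hom.finrank_of_isPullback _ _ _ _ hsq pt
  have e2 : Scheme.Hom.finrank (Spec.map (f.app V)) (t pt) =
      Module.finrank Γ(Y, V) Γ(X, f ⁻¹ᵁ V) := by
    rw [Scheme.Hom.finrank_SpecMap_eq_finrank hfin hflat]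
    show Module.rankAtStalk (R := Γ(Y, V)) Γ(X, f ⁻¹ᵁ V) (t pt) = _
    rw [Module.rankAtStalk_eq_finrank_of_free]
    rfl
  rw [← e2, ← e1]
  -- the fibre
  haveI : IsAffine (pullback f φ) := isAffine_of_isAffineHom (pullback.snd f φ)
  have key : (letI := ((Scheme.ΓSpecIso (Y.residueField y)).inv ≫
      (pullback.snd f φ).appTop).hom.toAlgebra;
      Module.finrank (Y.residueField y) ↑(Γ(pullback f φ, ⊤))) =
      Scheme.Hom.finrank (pullback.snd f φ) pt := by
    obtain ⟨ψ, hψ⟩ : ∃ ψ : Y.residueField y ⟶ Γ(pullback f φ, ⊤),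
        ψ = (Scheme.ΓSpecIso (Y.residueField y)).inv ≫ (pullback.snd f φ).appTop := ⟨_, rfl⟩
    rw [← hψ]
    have hg : (pullback f φ).isoSpec.hom ≫ Spec.map ψ = pullback.snd f φ := by
      rw [hψ, Spec.map_comp, ← Category.assoc, Scheme.isoSpec_hom_naturality,
        Scheme.isoSpec_Spec_hom, Category.assoc, ← Spec.map_comp, Iso.inv_hom_id, Spec.map_id,
        Category.comp_id]
    have e3 : Spec.map ψ = (pullback f φ).isoSpec.inv ≫ pullback.snd f φ := by
      rw [← hg, Iso.inv_hom_id_assoc]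
    haveI : IsFinite (Spec.map ψ) := by rw [e3]; infer_instance
    have hψfin : ψ.hom.Finite := (IsFinite.SpecMap_iff _).mp inferInstance
    letI := ψ.hom.toAlgebra
    have hψflat : ψ.hom.Flat :=
      (inferInstance : Module.Flat (Y.residueField y) Γ(pullback f φ, ⊤))
    haveI : Flat (Spec.map ψ) := Flat.SpecMap_iff.mpr hψflat
    have e4 := Scheme.Hom.finrank_comp_left_of_isIso (pullback f φ).isoSpec.hom (Spec.map ψ)
    rw [hg] at e4
    rw [e4, Scheme.Hom.finrank_SpecMap_eq_finrank hψfin hψflat]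
    show _ = Module.rankAtStalk (R := Y.residueField y) Γ(pullback f φ, ⊤) pt
    rw [Module.rankAtStalk_eq_finrank_of_free]
    rfl
  exact key

theorem finrank_generic {X Y : Scheme.{u}} [IsIntegral X] [IsIntegral Y] (f : X ⟶ Y)
    (hfξ : f.base (genericPoint X) = genericPoint Y) (V : Y.Opens) (hV : IsAffineOpen V)
    (hne : Nonempty ↥V) (hU : IsAffineOpen (f ⁻¹ᵁ V)) :
    (letI := (f.residueFieldMap (genericPoint X)).hom.toAlgebra;
      Module.finrank (Y.residueField (f.base (genericPoint X)))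
        (X.residueField (genericPoint X))) =
    (letI := DetNorm.secAlg f V; Module.finrank Γ(Y, V) Γ(X, f ⁻¹ᵁ V)) := by
  have hηV : f.base (genericPoint X) ∈ V := by
    rw [hfξ]
    exact ((genericPoint_spec Y).mem_open_set_iff V.isOpen).mpr
      ⟨_, trivial, (Classical.arbitrary ↥V).2⟩
  have hξU : genericPoint X ∈ f ⁻¹ᵁ V := hηV
  letI a1 : Algebra Γ(Y, V) Γ(X, f ⁻¹ᵁ V) := DetNorm.secAlg f V
  letI a2 : Algebra (Y.residueField (f.base (genericPoint X))) (X.residueField (genericPoint X)) :=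
    (f.residueFieldMap (genericPoint X)).hom.toAlgebra
  letI a3 : Algebra Γ(Y, V) (Y.residueField (f.base (genericPoint X))) :=
    (Y.presheaf.germ V (f.base (genericPoint X)) hηV ≫
      Y.residue (f.base (genericPoint X))).hom.toAlgebra
  letI a4 : Algebra Γ(X, f ⁻¹ᵁ V) (X.residueField (genericPoint X)) :=
    (X.presheaf.germ (f ⁻¹ᵁ V) (genericPoint X) hξU ≫ X.residue (genericPoint X)).hom.toAlgebra
  letI a5 : Algebra Γ(Y, V) (X.residueField (genericPoint X)) :=
    ((algebraMap Γ(X, f ⁻¹ᵁ V) (X.residueField (genericPoint X))).comp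
      (algebraMap Γ(Y, V) Γ(X, f ⁻¹ᵁ V))).toAlgebra
  haveI t1 : IsScalarTower Γ(Y, V) Γ(X, f ⁻¹ᵁ V) (X.residueField (genericPoint X)) :=
    IsScalarTower.of_algebraMap_eq (fun x => rfl)
  haveI t2 : IsScalarTower Γ(Y, V) (Y.residueField (f.base (genericPoint X)))
      (X.residueField (genericPoint X)) :=
    IsScalarTower.of_algebraMap_eq (fun x => by
      have h := H54.appLE_germ_residue f (le_refl (f ⁻¹ᵁ V)) (genericPoint X) hξU
      rw [Scheme.Hom.appLE_eq_app] at h
      exact congrArg (fun φ => φ.hom x) h)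
  haveI f1 : IsFractionRing Γ(Y, V) (Y.residueField (f.base (genericPoint X))) :=
    H54.isFractionRing_residueField_generic (f.base (genericPoint X)) hfξ V hV hηV
  haveI f2 : IsFractionRing Γ(X, f ⁻¹ᵁ V) (X.residueField (genericPoint X)) :=
    H54.isFractionRing_residueField_generic (genericPoint X) rfl (f ⁻¹ᵁ V) hU hξU
  exact IsFractionRing.finrank_eq Γ(Y, V) (Y.residueField (f.base (genericPoint X)))
    Γ(X, f ⁻¹ᵁ V) (X.residueField (genericPoint X))


/-- Let k be a field, X and Y integral schemes of finite type over k of the same (topological Krull)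
dimension, and f : X → Y a dominant k-morphism, so that f sends the generic point ξ of X to the
generic point of Y. Then κ(ξ) is a finite extension of the residue field at f(ξ), say of degree d,
and there is a non-empty open subset U of Y such that for every point y of U the fibre X_y = X ×_Y
Spec κ(y) is finite over κ(y) and its ring of global sections has dimension exactly d over κ(y).
(The published statement speaks of the length of X_y; the κ(y)-dimension of Γ(X_y, O) is the
invariant for which the equality holds on U, including at the generic point.) -/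
theorem result (k : Type u) [Field k] {X Y : Scheme.{u}}
    [X.Over (Spec (CommRingCat.of k))] [Y.Over (Spec (CommRingCat.of k))]
    [LocallyOfFiniteType (X ↘ Spec (CommRingCat.of k))] [QuasiCompact (X ↘ Spec (CommRingCat.of k))]
    [LocallyOfFiniteType (Y ↘ Spec (CommRingCat.of k))] [QuasiCompact (Y ↘ Spec (CommRingCat.of k))]
    [IsIntegral X] [IsIntegral Y] (f : X ⟶ Y) [IsDominant f]
    (hf : f ≫ (Y ↘ Spec (CommRingCat.of k)) = X ↘ Spec (CommRingCat.of k))
    (hdim : topologicalKrullDim ↥X = topologicalKrullDim ↥Y) :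
    (letI := (f.residueFieldMap (genericPoint ↥X)).hom.toAlgebra;
      Module.Finite (Y.residueField (f.base (genericPoint ↥X))) (X.residueField (genericPoint ↥X))) ∧
    ∃ U : Y.Opens, Nonempty ↥U ∧ ∀ y : Y, y ∈ U →
      IsFinite (pullback.snd f (Y.fromSpecResidueField y)) ∧
        (letI := ((Scheme.ΓSpecIso (CommRingCat.of (Y.residueField y))).inv ≫
            (pullback.snd f (Y.fromSpecResidueField y)).appTop).hom.toAlgebra;
          Module.finrank (Y.residueField y) ↑(Γ(pullback f (Y.fromSpecResidueField y), ⊤))) =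
        (letI := (f.residueFieldMap (genericPoint ↥X)).hom.toAlgebra;
          Module.finrank (Y.residueField (f.base (genericPoint ↥X))) (X.residueField (genericPoint ↥X))) := by
  haveI : LocallyOfFiniteType (f ≫ (Y ↘ Spec (CommRingCat.of k))) := by rw [hf]; infer_instance
  haveI : LocallyOfFiniteType f := locallyOfFiniteType_of_comp f (Y ↘ Spec (CommRingCat.of k))
  haveI : IsLocallyNoetherian Y :=
    LocallyOfFiniteType.isLocallyNoetherian (Y ↘ Spec (CommRingCat.of k))
  haveI : QuasiSeparated (Y ↘ Spec (CommRingCat.of k)) :=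
    (HasAffineProperty.iff_of_isAffine (P := @QuasiSeparated)).mpr inferInstance
  haveI : QuasiCompact (f ≫ (Y ↘ Spec (CommRingCat.of k))) := by rw [hf]; infer_instance
  haveI : QuasiCompact f := QuasiCompact.of_comp f (Y ↘ Spec (CommRingCat.of k))
  have hfξ : f.base (genericPoint X) = genericPoint Y := H54.map_genericPoint f
  have hgenX : ∀ x : X, genericPoint X ⤳ x := fun x => (genericPoint_spec X).specializes trivial
  have hA : (letI := (f.residueFieldMap (genericPoint X)).hom.toAlgebra;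
      Module.Finite (Y.residueField (f.base (genericPoint X)))
        (X.residueField (genericPoint X))) := by
    have h1 := H54.topologicalKrullDim_eq_tdeg_of_generic (X ↘ Spec (CommRingCat.of k))
      (genericPoint X) hgenX
    have h2 := H54.topologicalKrullDim_eq_tdeg_of_generic (Y ↘ Spec (CommRingCat.of k))
      (f.base (genericPoint X))
      (fun y => by rw [hfξ]; exact (genericPoint_spec Y).specializes trivial)
    have h3 := H54.tdeg_fibre_add (X ↘ Spec (CommRingCat.of k)) (Y ↘ Spec (CommRingCat.of k)) f hf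
      (f.base (genericPoint X)) (f.asFiber (genericPoint X))
    rw [f.fiberι_asFiber (genericPoint X)] at h3
    have h4 : (H54.tdeg (X ↘ Spec (CommRingCat.of k)) (genericPoint X) : WithBot ℕ∞) =
        (H54.tdeg (Y ↘ Spec (CommRingCat.of k)) (f.base (genericPoint X)) : WithBot ℕ∞) := by
      rw [← h1, ← h2]; exact hdim
    have h5 : H54.tdeg (X ↘ Spec (CommRingCat.of k)) (genericPoint X) =
        H54.tdeg (Y ↘ Spec (CommRingCat.of k)) (f.base (genericPoint X)) := by
      exact_mod_cast h4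
    have h0 : H54.tdeg (H54.fiberQ f (f.base (genericPoint X)))
        (f.asFiber (genericPoint X)) = 0 := by omega
    exact (H54.finite_residueField_iff_isAlgebraic f (genericPoint X)).mpr
      ((H54.isAlgebraic_iff_tdeg_eq_zero f (f.base (genericPoint X))
        (f.asFiber (genericPoint X)) (genericPoint X)
        (f.fiberι_asFiber (genericPoint X))).mpr h0)
  refine ⟨hA, ?_⟩
  have halg := (H54.finite_residueField_iff_isAlgebraic f (genericPoint X)).mp hA
  obtain ⟨U₀, V₀, e₀, hU₀, hV₀, hne₀, hfin₀⟩ :=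
    H54.exists_finite_resLE_of_isAlgebraic f _ rfl hfξ halg
  have hC : ∀ x : X, f.base x = genericPoint Y → x = genericPoint X := fun x hx =>
    (H54.isAlgebraic_iff_unique_preimage f (genericPoint X) hgenX).mp halg x (hx.trans hfξ.symm)
  obtain ⟨V', hV', hne', hfin'⟩ :=
    H54.exists_finite_restrict_of_quasiCompact f hC hfξ U₀ V₀ e₀ hU₀ hV₀ hne₀ hfin₀
  haveI : IsAffine V'.toScheme := hV'
  have hU' : IsAffineOpen (f ⁻¹ᵁ V') := isAffine_of_isAffineHom (f ∣_ V')
  have hfinapp : (f.app V').hom.Finite := by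
    have h1 : IsFinite (f.resLE V' (f ⁻¹ᵁ V') le_rfl) := by
      rw [Scheme.Hom.resLE_eq_morphismRestrict]; exact hfin'
    have h2 := (H54.isFinite_resLE_iff f hV' hU' le_rfl).mp h1
    rwa [Scheme.Hom.appLE_eq_app] at h2
  obtain ⟨V, hV, hne, hU, hfinV, hfree⟩ := exists_good_generic f V' hV' hne' hU' hfinapp
  refine ⟨V, hne, fun y hy => ?_⟩
  obtain ⟨h1, h2⟩ := fibre_finrank f V hV hU hfinV hfree y hy
  exact ⟨h1, h2.trans (finrank_generic f hfξ V hV hne hU).symm⟩
end Groth.Agent.S14041
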