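import Groth.Statements.S14043
import Mathlib.RingTheory.Nilpotent.Basic
import Mathlib.RingTheory.Nilpotent.Lemmas
import Mathlib.LinearAlgebra.Matrix.NonsingularInverse
import Mathlib.LinearAlgebra.Finsupp.LinearCombination
import Mathlib.RingTheory.Ideal.Quotient.Basic
import Mathlib.Tactic

set_option autoImplicit false
universe u v
open W4c1frobunstiva

namespace Groth.Agent.S14043


theorem act_mul {R : Type*} [CommRing R] {M : Type*} [AddCommGroup M] [Module R M] {r : ℕ}
    (X Y : Matrix (Fin r) (Fin r) R) (v : Fin r → M) (j : Fin r) :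
    ∑ i, (X * Y) j i • v i = ∑ l, X j l • ∑ i, Y l i • v i := by
  simp only [Matrix.mul_apply, Finset.sum_smul, Finset.smul_sum, mul_smul]
  rw [Finset.sum_comm]

theorem act_one {R : Type*} [CommRing R] {M : Type*} [AddCommGroup M] [Module R M] {r : ℕ}
    (v : Fin r → M) (j : Fin r) :
    ∑ i, (1 : Matrix (Fin r) (Fin r) R) j i • v i = v j := by
  simp [Matrix.one_apply, ite_smul]

theorem isUnit_det_of_sub_one_nilpotent {R : Type*} [CommRing R] {r : ℕ}
    (C : Matrix (Fin r) (Fin r) R)
    (hC : ∀ i j, IsNilpotent (C i j - (1 : Matrix (Fin r) (Fin r) R) i j)) :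
    IsUnit C.det := by
  have h1 : (Ideal.Quotient.mk (nilradical R)).mapMatrix C = 1 := by
    ext i j
    rw [RingHom.mapMatrix_apply, Matrix.map_apply]
    have h0 : Ideal.Quotient.mk (nilradical R) (C i j - (1 : Matrix (Fin r) (Fin r) R) i j) = 0 :=
      Ideal.Quotient.eq_zero_iff_mem.mpr (mem_nilradical.mpr (hC i j))
    rw [map_sub, sub_eq_zero] at h0
    rw [h0]
    by_cases hij : i = j
    · subst hij; simp
    · simp [hij]
  have h2 : Ideal.Quotient.mk (nilradical R) (C.det - 1) = 0 := by
    rw [map_sub, RingHom.map_det, h1, Matrix.det_one, map_one, sub_self]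
  have h3 : IsNilpotent (C.det - 1) := mem_nilradical.mp (Ideal.Quotient.eq_zero_iff_mem.mp h2)
  have h4 := h3.isUnit_add_one
  simpa using h4

theorem exists_unit_matrix {R : Type u} [CommRing R] {M : Type v} [AddCommGroup M] [Module R M]
    {r : ℕ} (e : Fin r → M) (he : W4c1frobunstiva.IsNRBasis R M e) (m : Fin r → M)
    (hm : Submodule.span R (Set.range m) = ⊤) :
    ∃ A : Matrix (Fin r) (Fin r) R, IsUnit A ∧ ∀ j, m j = ∑ i, A j i • e i := by
  have hex : ∀ (v : Fin r → M), Submodule.span R (Set.range v) = ⊤ →
      ∀ x : M, ∃ c : Fin r → R, x = ∑ i, c i • v i := by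
    intro v hv x
    have hx : x ∈ Submodule.span R (Set.range v) := by rw [hv]; trivial
    obtain ⟨c, hc⟩ := (Submodule.mem_span_range_iff_exists_fun R).mp hx
    exact ⟨c, hc.symm⟩
  choose A hA using fun j => hex e he.1 (m j)
  choose B hB using fun j => hex m hm (e j)
  have key : ∀ j, ∑ l, ((Matrix.of B * Matrix.of A) j l
      - (1 : Matrix (Fin r) (Fin r) R) j l) • e l = 0 := by
    intro j
    simp only [sub_smul, Finset.sum_sub_distrib]
    rw [act_mul, act_one, sub_eq_zero]
    simp only [Matrix.of_apply]
    conv_rhs => rw [hB j]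
    refine Finset.sum_congr rfl fun i _ => ?_
    rw [← hA i]
  have hnil : ∀ j l, IsNilpotent ((Matrix.of B * Matrix.of A) j l
      - (1 : Matrix (Fin r) (Fin r) R) j l) := fun j => he.2 _ (key j)
  have hdet := isUnit_det_of_sub_one_nilpotent (Matrix.of B * Matrix.of A) hnil
  rw [Matrix.det_mul] at hdet
  have hdetA : IsUnit (Matrix.of A).det := isUnit_of_mul_isUnit_right hdet
  exact ⟨Matrix.of A, (Matrix.isUnit_iff_isUnit_det _).mpr hdetA, fun j => by
    simpa only [Matrix.of_apply] using hA j⟩

/-- Let R be a commutative Noetherian ring, M an R-module that is NR-free of rank r — generated by some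
r elements all of whose linear relations have nilpotent coefficients — and m, m' two generating
families of M, each indexed by the same finite set of size r. Then some invertible r × r matrix T
over R expresses m' in terms of m, m'_j = Σ_i T_{ji} m_i; reducing modulo the nilradical n, such a T
induces the change-of-basis matrix between the bases of M/nM given by the images of m and m' (an
r-element generating family of M is itself an NR-basis), so only the existence of an invertible T is
asserted here. (T is not unique.) -/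
theorem result (R : Type u) [CommRing R]
    [IsNoetherianRing R] (M : Type v) [AddCommGroup M] [Module R M] (r : ℕ)
    (hM : W4c1frobunstiva.IsNRFree R M r) (m m' : Fin r → M)
    (hm : Submodule.span R (Set.range m) = ⊤) (hm' : Submodule.span R (Set.range m') = ⊤) :
    ∃ T : Matrix (Fin r) (Fin r) R, IsUnit T ∧ ∀ j, m' j = ∑ i, T j i • m i := by
  obtain ⟨e, he⟩ := hM
  obtain ⟨A, hAu, hA⟩ := exists_unit_matrix e he m hm
  obtain ⟨A', hAu', hA'⟩ := exists_unit_matrix e he m' hm'
  have hdet : IsUnit A.det := (Matrix.isUnit_iff_isUnit_det A).mp hAu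
  have hinv : ∀ i, e i = ∑ l, A⁻¹ i l • m l := by
    intro i
    have h1 : ∑ l, A⁻¹ i l • m l = ∑ l, A⁻¹ i l • ∑ p, A l p • e p :=
      Finset.sum_congr rfl fun l _ => by rw [hA l]
    rw [h1, ← act_mul, Matrix.nonsing_inv_mul A hdet, act_one]
  refine ⟨A' * A⁻¹, hAu'.mul (Matrix.isUnit_nonsing_inv_iff.mpr hAu), ?_⟩
  intro j
  rw [act_mul, hA' j]
  refine Finset.sum_congr rfl fun i _ => ?_
  rw [← hinv i]

end Groth.Agent.S14043
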