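import Groth.Statements.S14044
import Mathlib
import Groth.Agent.S14038

set_option autoImplicit false
set_option linter.style.haveILetI false
set_option linter.unusedSectionVars false
set_option linter.unusedVariables false
universe u
open W4c1frobunstiva

namespace Groth.Agent.S14044

section Helpers

open PowerSeries Groth.Agent.S14038

section blk2

variable {A : Type u} [CommRing A] {r : ℕ}

theorem blk_mul_diag (P D : Matrix (Fin r) (Fin r) A) (a : A) (t : Fin r → A) :
    blk a t 0 D * blk 1 0 0 P = blk a (fun j => ∑ k, t k * P k j) 0 (D * P) := by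
  ext i j
  refine Fin.cases ?_ (fun i' => ?_) i <;> refine Fin.cases ?_ (fun j' => ?_) j <;>
    simp [Matrix.mul_apply, Fin.sum_univ_succ]

theorem blk_mul_row (c t : Fin r → A) (a : A) (H : Matrix (Fin r) (Fin r) A) :
    blk a t 0 H * blk 1 c 0 1 = blk a (fun j => c j * a + t j) 0 H := by
  ext i j
  refine Fin.cases ?_ (fun i' => ?_) i <;> refine Fin.cases ?_ (fun j' => ?_) j <;>
    simp [Matrix.mul_apply, Fin.sum_univ_succ, Matrix.one_apply, mul_comm]

theorem blk_diag_mul_row (c : Fin r → A) (P : Matrix (Fin r) (Fin r) A) :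
    blk 1 0 0 P * blk 1 c 0 1 = blk 1 c 0 P := by
  ext i j
  refine Fin.cases ?_ (fun i' => ?_) i <;> refine Fin.cases ?_ (fun j' => ?_) j <;>
    simp [Matrix.mul_apply, Fin.sum_univ_succ, Matrix.one_apply]

end blk2

variable {k : Type u} [Field k]

def RowRedP (p : ℕ) {r : ℕ} (H : Matrix (Fin r) (Fin r) (PowerSeries k)) (e : Fin r → ℕ) : Prop :=
  (∀ i, H i i = PowerSeries.X ^ e i) ∧ (∀ i j, j < i → H i j = 0) ∧
    (∀ i j, i < j → ∀ n, (e j ≤ n ∨ (e i ≤ n ∧ n % p = e i % p)) →
      PowerSeries.coeff n (H i j) = 0)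

def IsPth (p : ℕ) {r : ℕ} (P : Matrix (Fin r) (Fin r) (PowerSeries k)) : Prop :=
  ∀ i j n, ¬ p ∣ n → PowerSeries.coeff n (P i j) = 0

theorem coeff_fix (p : ℕ) (e₀ : ℕ) (g : PowerSeries k) (n : ℕ) :
    PowerSeries.coeff n
      (-(PowerSeries.mk fun m => if p ∣ m then PowerSeries.coeff (m + e₀) g else 0) *
        PowerSeries.X ^ e₀ + g) =
      if e₀ ≤ n ∧ p ∣ (n - e₀) then 0 else PowerSeries.coeff n g := by
  rw [map_add, PowerSeries.coeff_mul_X_pow']
  by_cases h : e₀ ≤ n
  · rw [if_pos h, map_neg, PowerSeries.coeff_mk, Nat.sub_add_cancel h]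
    by_cases hp : p ∣ (n - e₀)
    · rw [if_pos hp, if_pos ⟨h, hp⟩, neg_add_cancel]
    · rw [if_neg hp, neg_zero, zero_add, if_neg (fun hh => hp hh.2)]
  · rw [if_neg h, zero_add, if_neg (fun hh => h hh.1)]

theorem exists_rrp (p : ℕ) : ∀ (r : ℕ) (M : Matrix (Fin r) (Fin r) (PowerSeries k)), M.det ≠ 0 →
    ∃ (H N P : Matrix (Fin r) (Fin r) (PowerSeries k)) (e : Fin r → ℕ),
      RowRedP p H e ∧ IsUnit N ∧ IsUnit P ∧ IsPth p P ∧ N * M * P = H := by
  intro r
  induction r with
  | zero =>
    intro M _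
    exact ⟨M, 1, 1, Fin.elim0, ⟨fun i => i.elim0, fun i => i.elim0, fun i => i.elim0⟩,
      isUnit_one, isUnit_one, fun i => i.elim0, by rw [Matrix.one_mul, Matrix.mul_one]⟩
  | succ r ih =>
    intro M hM
    obtain ⟨N₁, e₀, uN₁, h00, hs0⟩ := clear_col M hM
    obtain ⟨T, hT⟩ : ∃ T, T = N₁ * M := ⟨_, rfl⟩
    rw [← hT] at h00 hs0
    obtain ⟨t, ht⟩ : ∃ t : Fin r → PowerSeries k, t = fun j => T 0 j.succ := ⟨_, rfl⟩
    obtain ⟨D, hD⟩ : ∃ D : Matrix (Fin r) (Fin r) (PowerSeries k),
        D = T.submatrix Fin.succ Fin.succ := ⟨_, rfl⟩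
    have h3 : (fun i : Fin r => T i.succ 0) = 0 := funext hs0
    have hTb : T = blk (PowerSeries.X ^ e₀) t 0 D := by
      rw [eq_blk T, h00, h3, ht, hD]
    have hdetT : T.det ≠ 0 := by
      rw [hT, Matrix.det_mul]
      exact mul_ne_zero ((Matrix.isUnit_iff_isUnit_det N₁).1 uN₁).ne_zero hM
    have hdet : T.det = PowerSeries.X ^ e₀ * D.det := by
      rw [Matrix.det_succ_column_zero, Finset.sum_eq_single 0]
      · rw [h00, hD, Fin.succAbove_zero]; simp
      · intro i _ hi
        obtain ⟨i', rfl⟩ := Fin.exists_succ_eq.2 hi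
        rw [hs0 i']; simp
      · intro h; exact absurd (Finset.mem_univ _) h
    have hdetD : D.det ≠ 0 := by
      intro h0; apply hdetT; rw [hdet, h0, mul_zero]
    obtain ⟨H', N₂, P₂, e', hH', uN₂, uP₂, hP₂, hN₂⟩ := ih D hdetD
    obtain ⟨t', ht'⟩ : ∃ t' : Fin r → PowerSeries k, t' = fun j => ∑ k, t k * P₂ k j :=
      ⟨_, rfl⟩
    obtain ⟨q, hq⟩ := exists_reduce H' e' hH'.1 hH'.2.1 t' r le_rfl
    obtain ⟨t'', ht''⟩ : ∃ t'' : Fin r → PowerSeries k,
        t'' = fun j => t' j - ∑ i, q i * H' i j := ⟨_, rfl⟩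
    have ht''j : ∀ j, t'' j = t' j - ∑ i, q i * H' i j := fun j => by rw [ht'']
    obtain ⟨c, hc⟩ : ∃ c : Fin r → PowerSeries k, c = fun j =>
        -(PowerSeries.mk fun m => if p ∣ m then PowerSeries.coeff (m + e₀) (t'' j) else 0) :=
      ⟨_, rfl⟩
    have hcj : ∀ j, c j =
        -(PowerSeries.mk fun m => if p ∣ m then PowerSeries.coeff (m + e₀) (t'' j) else 0) :=
      fun j => by rw [hc]
    refine ⟨blk (PowerSeries.X ^ e₀) (fun j => c j * PowerSeries.X ^ e₀ + t'' j) 0 H',
      blk 1 (fun i => -q i) 0 1 * (blk 1 0 0 N₂ * N₁), blk 1 0 0 P₂ * blk 1 c 0 1,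
      Fin.cons e₀ e', ⟨?_, ?_, ?_⟩,
      (isUnit_blk_row _).mul ((isUnit_blk_diag N₂ uN₂).mul uN₁),
      (isUnit_blk_diag P₂ uP₂).mul (isUnit_blk_row c), ?_, ?_⟩
    · intro i
      refine Fin.cases ?_ (fun i' => ?_) i
      · rw [blk_00, Fin.cons_zero]
      · rw [blk_ss, Fin.cons_succ]; exact hH'.1 i'
    · intro i j
      refine Fin.cases ?_ (fun i' => ?_) i
      · intro h; exact absurd h (Fin.not_lt_zero _)
      · refine Fin.cases ?_ (fun j' => ?_) j
        · intro _; rw [blk_s0]; rfl
        · intro h; rw [blk_ss]; exact hH'.2.1 i' j' (Fin.succ_lt_succ_iff.1 h)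
    · intro i j
      refine Fin.cases ?_ (fun j' => ?_) j
      · intro h; exact absurd h (Fin.not_lt_zero _)
      · refine Fin.cases ?_ (fun i' => ?_) i
        · intro _ n hn
          rw [Fin.cons_succ, Fin.cons_zero] at hn
          rw [blk_0s]
          show PowerSeries.coeff n (c j' * PowerSeries.X ^ e₀ + t'' j') = 0
          rw [hcj j', coeff_fix]
          split_ifs with hif
          · rfl
          · rcases hn with hn | ⟨hn1, hn2⟩
            · rw [ht''j]; exact hq j' j'.2 n hn
            · exact absurd ⟨hn1, (Nat.dvd_iff_mod_eq_zero).2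
                (Nat.sub_mod_eq_zero_of_mod_eq hn2)⟩ hif
        · intro h n hn
          rw [Fin.cons_succ, Fin.cons_succ] at hn
          rw [blk_ss]
          exact hH'.2.2 i' j' (Fin.succ_lt_succ_iff.1 h) n hn
    · rw [blk_diag_mul_row]
      intro i j n hn
      refine Fin.cases ?_ (fun i' => ?_) i <;> refine Fin.cases ?_ (fun j' => ?_) j
      · rw [blk_00, PowerSeries.coeff_one, if_neg]
        rintro rfl
        exact hn (dvd_zero p)
      · rw [blk_0s, hcj j', map_neg, PowerSeries.coeff_mk, if_neg hn, neg_zero]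
      · rw [blk_s0]; exact map_zero _
      · rw [blk_ss]; exact hP₂ i' j' n hn
    · have hassoc : blk 1 (fun i => -q i) 0 1 * (blk 1 0 0 N₂ * N₁) * M *
          (blk 1 0 0 P₂ * blk 1 c 0 1) =
          blk 1 (fun i => -q i) 0 1 * ((blk 1 0 0 N₂ * (N₁ * M)) * blk 1 0 0 P₂) *
            blk 1 c 0 1 := by
        simp only [Matrix.mul_assoc]
      rw [hassoc, ← hT, hTb, blk_diag_mul, blk_mul_diag, hN₂, ← ht', blk_row_mul', ← ht'',
        blk_mul_row]

end Helpers


/-- Let k be a field, p a prime number and M a square matrix of size r over k[[t]] with non-zero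
determinant. Allowing, besides invertible row operations over k[[t]], invertible column operations
by matrices with entries in k[[t^p]] (power series whose coefficients vanish in all degrees not
divisible by p), M can be brought to a row-reduced form — upper triangular, diagonal entries
t^{e_i}, entries above the diagonal in column j polynomials of degree less than e_j — in which in
addition the (i, j) entry (i < j) has no term in a degree that is at least e_i and congruent to e_i
modulo p. (Existence only; the form is not unique. The published statement asks that no term in any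
degree congruent to e_i modulo p remain; the published reduction — adding k[[t^p]]-multiples of
column i to column j — removes exactly the terms of degree at least e_i, which is what is asserted
here. The published statement takes k algebraically closed of characteristic p, where k[[t^p]] is
the ring of p-th powers; neither assumption is used.) -/
theorem result (k : Type u)
    [Field k] (p : ℕ) [Fact p.Prime] (r : ℕ) (M : Matrix (Fin r) (Fin r) (PowerSeries k))
    (hM : M.det ≠ 0) :
    ∃ (N P : Matrix (Fin r) (Fin r) (PowerSeries k)) (e : Fin r → ℕ), IsUnit N ∧ IsUnit P ∧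
      (∀ i j n, ¬ p ∣ n → PowerSeries.coeff n (P i j) = 0) ∧
      (∀ i, (N * M * P) i i = PowerSeries.X ^ e i) ∧ (∀ i j, j < i → (N * M * P) i j = 0) ∧
      (∀ i j, i < j → ∀ n, (e j ≤ n ∨ (e i ≤ n ∧ n % p = e i % p)) →
        PowerSeries.coeff n ((N * M * P) i j) = 0) := by
  obtain ⟨H, N, P, e, hH, uN, uP, hP, hNMP⟩ := exists_rrp p r M hM
  refine ⟨N, P, e, uN, uP, hP, ?_, ?_, ?_⟩
  · rw [hNMP]; exact hH.1
  · rw [hNMP]; exact hH.2.1
  · rw [hNMP]; exact hH.2.2

end Groth.Agent.S14044
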