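import Groth.Statements.S14046
import Mathlib

set_option autoImplicit false
universe u v w
open W4c1frobunstiva

namespace Groth.Agent.S14046

open TensorProduct in
theorem result (R : Type u) (A : Type v)
    [CommRing R] [CommRing A] [Algebra R A] (I J : Ideal A) (hIJ : I ⊓ J = ⊥)
    [Module.Flat R (A ⧸ (I ⊔ J))] (R' : Type w) [CommRing R'] [Algebra R R'] :
    I.map (Algebra.TensorProduct.includeRight : A →ₐ[R] R' ⊗[R] A) ⊓
      J.map (Algebra.TensorProduct.includeRight : A →ₐ[R] R' ⊗[R] A) = ⊥ := by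
  -- the maps of the exact sequence
  let qI : A →ₗ[R] (A ⧸ I) := (Ideal.Quotient.mkₐ R I).toLinearMap
  let qJ : A →ₗ[R] (A ⧸ J) := (Ideal.Quotient.mkₐ R J).toLinearMap
  let g : A →ₗ[R] (A ⧸ I) × (A ⧸ J) := LinearMap.prod qI qJ
  let fI : (A ⧸ I) →ₗ[R] (A ⧸ (I ⊔ J)) := (Ideal.Quotient.factorₐ R (le_sup_left : I ≤ I ⊔ J)).toLinearMap
  let fJ : (A ⧸ J) →ₗ[R] (A ⧸ (I ⊔ J)) := (Ideal.Quotient.factorₐ R (le_sup_right : J ≤ I ⊔ J)).toLinearMap
  let f : (A ⧸ I) × (A ⧸ J) →ₗ[R] (A ⧸ (I ⊔ J)) := LinearMap.coprod fI (-fJ)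
  have hg : Function.Injective g := by
    rw [← LinearMap.ker_eq_bot, LinearMap.ker_eq_bot']
    intro a ha
    have h1 : Ideal.Quotient.mk I a = 0 := congrArg Prod.fst ha
    have h2 : Ideal.Quotient.mk J a = 0 := congrArg Prod.snd ha
    rw [Ideal.Quotient.eq_zero_iff_mem] at h1 h2
    have : a ∈ I ⊓ J := ⟨h1, h2⟩
    rw [hIJ] at this
    exact this
  have hf : Function.Surjective f := by
    intro z
    obtain ⟨x, rfl⟩ := Ideal.Quotient.mk_surjective z
    refine ⟨(Ideal.Quotient.mk I x, 0), ?_⟩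
    simp [f, fI]
  have hex : Function.Exact g f := by
    intro z
    constructor
    · obtain ⟨zx, zy⟩ := z
      obtain ⟨x, rfl⟩ := Ideal.Quotient.mk_surjective zx
      obtain ⟨y, rfl⟩ := Ideal.Quotient.mk_surjective zy
      intro h
      have h' : Ideal.Quotient.mk (I ⊔ J) x - Ideal.Quotient.mk (I ⊔ J) y = 0 := by
        simpa [f, fI, fJ, sub_eq_add_neg] using h
      rw [← map_sub, Ideal.Quotient.eq_zero_iff_mem] at h'
      obtain ⟨i, hi, j, hj, hij⟩ := Submodule.mem_sup.mp h'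
      refine ⟨x - i, ?_⟩
      have e1 : Ideal.Quotient.mk I (x - i) = Ideal.Quotient.mk I x := by
        rw [map_sub, Ideal.Quotient.eq_zero_iff_mem.mpr hi, sub_zero]
      have e2 : Ideal.Quotient.mk J (x - i) = Ideal.Quotient.mk J y := by
        have : x - i = y + j := by linear_combination -hij
        rw [this, map_add, Ideal.Quotient.eq_zero_iff_mem.mpr hj, add_zero]
      exact Prod.ext e1 e2
    · rintro ⟨a, rfl⟩
      simp [g, f, fI, fJ, qI, qJ]
  have hinj := LinearMap.lTensor_injective_of_exact_of_flat f hf g hg hex R'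
  -- ring maps to the quotients
  let ψI : R' ⊗[R] A →ₐ[R'] R' ⊗[R] (A ⧸ I) :=
    Algebra.TensorProduct.map (AlgHom.id R' R') (Ideal.Quotient.mkₐ R I)
  let ψJ : R' ⊗[R] A →ₐ[R'] R' ⊗[R] (A ⧸ J) :=
    Algebra.TensorProduct.map (AlgHom.id R' R') (Ideal.Quotient.mkₐ R J)
  have hI : I.map (Algebra.TensorProduct.includeRight : A →ₐ[R] R' ⊗[R] A) ≤ RingHom.ker ψI := by
    rw [Ideal.map_le_iff_le_comap]
    intro a ha
    simp [ψI, RingHom.mem_ker, Ideal.Quotient.eq_zero_iff_mem.mpr ha]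
  have hJ : J.map (Algebra.TensorProduct.includeRight : A →ₐ[R] R' ⊗[R] A) ≤ RingHom.ker ψJ := by
    rw [Ideal.map_le_iff_le_comap]
    intro a ha
    simp [ψJ, RingHom.mem_ker, Ideal.Quotient.eq_zero_iff_mem.mpr ha]
  have hψI : ∀ x, ψI x = qI.lTensor R' x := fun x => rfl
  have hψJ : ∀ x, ψJ x = qJ.lTensor R' x := fun x => rfl
  have hprod : ∀ x : R' ⊗[R] A, TensorProduct.prodRight R R R' (A ⧸ I) (A ⧸ J) (g.lTensor R' x) =
      (qI.lTensor R' x, qJ.lTensor R' x) := by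
    intro x
    induction x using TensorProduct.induction_on with
    | zero => simp; rfl
    | tmul r a => simp [g]
    | add x y hx hy => simp only [map_add, hx, hy, Prod.mk_add_mk]
  rw [eq_bot_iff]
  rintro x ⟨hxI, hxJ⟩
  have h1 : qI.lTensor R' x = 0 := by rw [← hψI]; exact hI hxI
  have h2 : qJ.lTensor R' x = 0 := by rw [← hψJ]; exact hJ hxJ
  have h3 : g.lTensor R' x = 0 := by
    apply (TensorProduct.prodRight R R R' (A ⧸ I) (A ⧸ J)).injective
    rw [hprod, h1, h2, map_zero]; rfl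
  have : x = 0 := hinj (by rw [h3, map_zero])
  exact this

end Groth.Agent.S14046
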