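import Mathlib
import Groth.Statements.S14048

set_option autoImplicit false
universe u
open TensorProduct
open CAlg

namespace Groth.Agent.S14048

open Polynomial

/-- The subring `ℤ[1/D]` of `ℚ`. -/
def W (D : ℕ) : Subring ℚ where
  carrier := {q | ∃ (k : ℕ) (z : ℤ), q * (D : ℚ) ^ k = z}
  mul_mem' := by
    rintro a b ⟨k1, z1, h1⟩ ⟨k2, z2, h2⟩
    refine ⟨k1 + k2, z1 * z2, ?_⟩
    push_cast
    rw [← h1, ← h2, pow_add]; ring
  one_mem' := ⟨0, 1, by simp⟩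
  add_mem' := by
    rintro a b ⟨k1, z1, h1⟩ ⟨k2, z2, h2⟩
    refine ⟨k1 + k2, z1 * (D : ℤ) ^ k2 + z2 * (D : ℤ) ^ k1, ?_⟩
    push_cast
    rw [← h1, ← h2, pow_add]; ring
  zero_mem' := ⟨0, 0, by simp⟩
  neg_mem' := by
    rintro a ⟨k, z, h⟩
    refine ⟨k, -z, ?_⟩
    push_cast
    rw [← h]; ring

theorem inv_mem_W {D d : ℕ} (hD : D ≠ 0) (hd : d ∣ D) : ((d : ℚ))⁻¹ ∈ W D := by
  obtain ⟨e, rfl⟩ := hd
  have hd0 : (d : ℚ) ≠ 0 := Nat.cast_ne_zero.mpr (Nat.mul_ne_zero_iff.mp hD).1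
  refine ⟨1, (e : ℤ), ?_⟩
  push_cast
  field_simp

theorem inv_prime_not_mem_W {D p : ℕ} (hp : p.Prime) (hpD : ¬ p ∣ D) : ((p : ℚ))⁻¹ ∉ W D := by
  rintro ⟨k, z, h⟩
  have hp0 : (p : ℚ) ≠ 0 := Nat.cast_ne_zero.mpr hp.ne_zero
  have h0 : (D : ℚ) ^ k = (p : ℚ) * ((p : ℚ)⁻¹ * (D : ℚ) ^ k) := by
    rw [← mul_assoc, mul_inv_cancel₀ hp0, one_mul]
  rw [h] at h0
  have h1 : ((D : ℤ) ^ k : ℤ) = (p : ℤ) * z := by exact_mod_cast h0
  have h2 : (p : ℤ) ∣ (D : ℤ) ^ k := ⟨z, h1⟩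
  have h3 : p ∣ D ^ k := by exact_mod_cast h2
  exact hpD (hp.dvd_of_dvd_pow h3)

abbrev Z2 := Localization.Away (2 : ℤ)

noncomputable def iota2 : Z2 →+* ℚ :=
  IsLocalization.Away.lift (2 : ℤ) (g := Int.castRingHom ℚ) (by
    rw [eq_intCast]; exact isUnit_iff_ne_zero.mpr (by norm_num))

theorem iota2_algebraMap (a : ℤ) : iota2 (algebraMap ℤ Z2 a) = (a : ℚ) := by
  unfold iota2
  rw [IsLocalization.Away.lift_eq]
  simp

theorem iota2_mem_W {D : ℕ} (hD : D ≠ 0) (h2 : 2 ∣ D) (z : Z2) : iota2 z ∈ W D := by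
  obtain ⟨n, a, h⟩ := IsLocalization.Away.surj (2 : ℤ) z
  have h' := congrArg iota2 h
  rw [map_mul, map_pow, iota2_algebraMap, iota2_algebraMap] at h'
  have h2' : ((2 : ℚ))⁻¹ ∈ W D := by simpa using inv_mem_W hD h2
  have : iota2 z = (a : ℚ) * ((2 : ℚ)⁻¹) ^ n := by
    rw [← h']; push_cast
    rw [mul_assoc, ← mul_pow, mul_inv_cancel₀ (two_ne_zero), one_pow, mul_one]
  rw [this]
  exact (W D).mul_mem (intCast_mem _ a) ((W D).pow_mem h2' n)

theorem L1 (A : Type u) [CommRing A] (y : ℚ ⊗[ℤ] A) :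
    ∃ (c : ℤ) (a : A), c ≠ 0 ∧ (c : ℚ ⊗[ℤ] A) * y = (1 : ℚ) ⊗ₜ[ℤ] a := by
  have : IsLocalizedModule (nonZeroDivisors ℤ) (TensorProduct.mk ℤ ℚ A 1) :=
    (isLocalizedModule_iff_isBaseChange (nonZeroDivisors ℤ) ℚ _).mpr
      (TensorProduct.isBaseChange ℤ A ℚ)
  obtain ⟨⟨a, c⟩, h⟩ := IsLocalizedModule.surj (nonZeroDivisors ℤ) (TensorProduct.mk ℤ ℚ A 1) y
  refine ⟨(c : ℤ), a, nonZeroDivisors.coe_ne_zero c, ?_⟩
  have h' : (c : ℤ) • y = (1 : ℚ) ⊗ₜ[ℤ] a := h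
  rw [← h', zsmul_eq_mul]

theorem L2 (A : Type u) [CommRing A] (a b : A) (h : (1 : ℚ) ⊗ₜ[ℤ] a = (1 : ℚ) ⊗ₜ[ℤ] b) :
    ∃ c : ℤ, c ≠ 0 ∧ (c : A) * a = (c : A) * b := by
  have : IsLocalizedModule (nonZeroDivisors ℤ) (TensorProduct.mk ℤ ℚ A 1) :=
    (isLocalizedModule_iff_isBaseChange (nonZeroDivisors ℤ) ℚ _).mpr
      (TensorProduct.isBaseChange ℤ A ℚ)
  obtain ⟨c, hc⟩ := IsLocalizedModule.exists_of_eq (S := nonZeroDivisors ℤ)
    (f := TensorProduct.mk ℤ ℚ A 1) h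
  refine ⟨(c : ℤ), nonZeroDivisors.coe_ne_zero c, ?_⟩
  have hc' : (c : ℤ) • a = (c : ℤ) • b := hc
  rwa [zsmul_eq_mul, zsmul_eq_mul] at hc'

theorem exists_N (A : Type u) [CommRing A] [IsNoetherianRing A] (t : A) (K : Set A)
    (hK : ∀ F ∈ K, ∃ M : ℕ, M ≠ 0 ∧ (M : A) * F ∈ Ideal.span {t - 1}) :
    ∃ N : ℕ, N ≠ 0 ∧ ∀ F ∈ K, (N : A) * F ∈ Ideal.span {t - 1} := by
  let f : ℕ →o Ideal A :=
    ⟨fun M => Submodule.comap (LinearMap.mulLeft A ((M.factorial : ℕ) : A)) (Ideal.span {t - 1}), by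
      intro M M' hMM' F hF
      rw [Submodule.mem_comap, LinearMap.mulLeft_apply] at hF ⊢
      obtain ⟨k, hk⟩ := Nat.factorial_dvd_factorial hMM'
      rw [hk, Nat.cast_mul, mul_comm ((M.factorial : ℕ) : A) (k : A), mul_assoc]
      exact Ideal.mul_mem_left _ _ hF⟩
  obtain ⟨n, hn⟩ := monotone_stabilizes_iff_noetherian.mpr (inferInstance : IsNoetherian A A) f
  refine ⟨n.factorial, Nat.factorial_ne_zero n, fun F hF => ?_⟩
  obtain ⟨M, hM0, hM⟩ := hK F hF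
  have h1 : F ∈ f M := by
    show ((M.factorial : ℕ) : A) * F ∈ Ideal.span {t - 1}
    obtain ⟨k, hk⟩ := Nat.dvd_factorial (Nat.pos_of_ne_zero hM0) le_rfl
    rw [hk, Nat.cast_mul, mul_comm ((M : ℕ) : A) (k : A), mul_assoc]
    exact Ideal.mul_mem_left _ _ hM
  have h2 : F ∈ f n := by
    have h3 : f M ≤ f (max M n) := f.monotone (le_max_left _ _)
    rw [hn (max M n) (le_max_right _ _)]
    exact h3 h1
  exact h2

theorem core (A : Type u) [CommRing A] (t : A) (P : A →+* ℚ[X]) (hPt : P t = X)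
    (s : A →+* Z2) (ι : Z2 →+* A) (hsι : ∀ z, s (ι z) = z) (hPι : ∀ z, P (ι z) = C (iota2 z))
    (hC1 : ∀ a, eval 1 (P a) = iota2 (s a))
    (N : ℕ) (hN0 : N ≠ 0) (hN : ∀ F : A, s F = 0 → ∃ G : A, (N : A) * F = (t - 1) * G) :
    ∀ d : ℕ, ∀ F : A, (P F).natDegree ≤ d → eval 0 (P F) ∈ W (2 * N) := by
  have hD : 2 * N ≠ 0 := by omega
  have hNinv : ((N : ℚ))⁻¹ ∈ W (2 * N) := inv_mem_W hD (Dvd.intro_left 2 rfl)
  have hι2 : ∀ z, iota2 z ∈ W (2 * N) := iota2_mem_W hD (Dvd.intro N rfl)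
  intro d
  induction d with
  | zero =>
    intro F hF
    have h := Polynomial.eq_C_of_natDegree_le_zero hF
    have e1 : eval 0 (P F) = eval 1 (P F) := by rw [h, eval_C, eval_C]
    rw [e1, hC1]; exact hι2 _
  | succ d ih =>
    intro F hF
    obtain ⟨G, hG⟩ := hN (F - ι (s F)) (by rw [map_sub, hsι, sub_self])
    have hPG : (N : ℚ[X]) * (P F - C (iota2 (s F))) = (X - 1) * P G := by
      have := congrArg P hG
      rwa [map_mul, map_natCast, map_sub, hPι, map_mul, map_sub, hPt, map_one] at this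
    have hdeg : (P G).natDegree ≤ d := by
      by_cases hG0 : P G = 0
      · rw [hG0, natDegree_zero]; exact Nat.zero_le d
      · have hX1 : (X - 1 : ℚ[X]) ≠ 0 := by
          rw [← C_1]; exact X_sub_C_ne_zero 1
        have h1 : ((X - 1 : ℚ[X]) * P G).natDegree = 1 + (P G).natDegree := by
          rw [natDegree_mul hX1 hG0, ← C_1, natDegree_X_sub_C]
        have h2 : ((N : ℚ[X]) * (P F - C (iota2 (s F)))).natDegree ≤ d + 1 := by
          refine (natDegree_mul_le).trans ?_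
          rw [natDegree_natCast, zero_add]
          refine (natDegree_sub_le _ _).trans ?_
          rw [natDegree_C]
          exact max_le hF (Nat.zero_le _)
        rw [hPG, h1] at h2
        omega
    have hev := congrArg (eval 0) hPG
    simp only [eval_mul, eval_natCast, eval_sub, eval_C, eval_X, eval_one] at hev
    have hN0' : (N : ℚ) ≠ 0 := Nat.cast_ne_zero.mpr hN0
    have hval : eval 0 (P F) = iota2 (s F) - ((N : ℚ))⁻¹ * eval 0 (P G) := by
      have : (N : ℚ) * (eval 0 (P F) - (iota2 (s F) - ((N : ℚ))⁻¹ * eval 0 (P G))) = 0 := by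
        have hcancel : (N : ℚ) * ((N : ℚ))⁻¹ = 1 := mul_inv_cancel₀ hN0'
        linear_combination hev + (eval 0 (P G)) * hcancel
      rcases mul_eq_zero.mp this with h | h
      · exact absurd h hN0'
      · exact sub_eq_zero.mp h
    rw [hval]
    exact (W (2 * N)).sub_mem (hι2 _) ((W (2 * N)).mul_mem hNinv (ih G hdeg))

/-- Let A be an integral domain in which 2 is invertible and let t be an element of A, so that Spec A is
a scheme over the affine line Spec ℤ[1/2][t]. Assume that (1) the ℚ-algebra map ℚ[X] → ℚ ⊗_ℤ A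
sending X to 1 ⊗ t is bijective (the map Spec A → Spec ℤ[1/2][t] becomes an isomorphism after base
change to ℚ); (2) every prime number is invertible in A/(t) (the fibre over t = 0 is of pure
characteristic zero); and (3) there is a ring homomorphism s : A → ℤ[1/2] with s(t) = 1 (the fibre
over t = 1 admits a section). Then A is not Noetherian. -/
theorem result (A : Type u) [CommRing A]
    [IsDomain A] (h2 : IsUnit (2 : A)) (t : A)
    (h1 : Function.Bijective (Polynomial.aeval (R := ℚ) ((1 : ℚ) ⊗ₜ[ℤ] t : ℚ ⊗[ℤ] A)))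
    (h0 : ∀ p : ℕ, p.Prime → IsUnit ((p : ℕ) : A ⧸ Ideal.span ({t} : Set A)))
    (s : A →+* Localization.Away (2 : ℤ)) (hs : s t = 1) :
    ¬ IsNoetherianRing A := by
  intro hNoeth
  have := hNoeth
  let e : ℚ[X] ≃ₐ[ℚ] (ℚ ⊗[ℤ] A) :=
    AlgEquiv.ofBijective (Polynomial.aeval ((1 : ℚ) ⊗ₜ[ℤ] t)) h1
  let j : A →+* (ℚ ⊗[ℤ] A) :=
    (Algebra.TensorProduct.includeRight : A →ₐ[ℤ] ℚ ⊗[ℤ] A).toRingHom
  let P : A →+* ℚ[X] := (e.symm : (ℚ ⊗[ℤ] A) →+* ℚ[X]).comp j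
  have hj : ∀ a, j a = (1 : ℚ) ⊗ₜ[ℤ] a := fun a => rfl
  have heP : ∀ a, e (P a) = j a := fun a => e.apply_symm_apply (j a)
  have heX : e X = j t := by
    show Polynomial.aeval ((1 : ℚ) ⊗ₜ[ℤ] t) X = _
    rw [Polynomial.aeval_X]; rfl
  have hPt : P t = X := by
    show e.symm (j t) = X
    rw [← heX, e.symm_apply_apply]
  -- evaluation at 1
  let g : A →ₐ[ℤ] ℚ := (iota2.comp s).toIntAlgHom
  let σ : (ℚ ⊗[ℤ] A) →ₐ[ℚ] ℚ :=
    Algebra.TensorProduct.lift (AlgHom.id ℚ ℚ) g (fun _ _ => Commute.all _ _)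
  have hσj : ∀ a, σ (j a) = iota2 (s a) := by
    intro a
    show σ ((1 : ℚ) ⊗ₜ[ℤ] a) = _
    rw [Algebra.TensorProduct.lift_tmul]
    simp [g]
  have hσe : ∀ q : ℚ[X], σ (e q) = eval 1 q := by
    intro q
    have : (σ.comp (e : ℚ[X] →ₐ[ℚ] (ℚ ⊗[ℤ] A))) = Polynomial.aeval (1 : ℚ) := by
      apply Polynomial.algHom_ext
      show σ (e X) = _
      rw [heX, hσj, hs, map_one, Polynomial.aeval_X]
    have h' := DFunLike.congr_fun this q
    rw [Polynomial.coe_aeval_eq_eval] at h'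
    exact h'
  have hC1 : ∀ a, eval 1 (P a) = iota2 (s a) := fun a => by rw [← hσe, heP, hσj]
  -- constants
  let ι : Z2 →+* A := IsLocalization.Away.lift (2 : ℤ) (g := Int.castRingHom A) (by
    rw [eq_intCast]; simpa using h2)
  have hsι : ∀ z, s (ι z) = z := by
    have : s.comp ι = RingHom.id Z2 :=
      IsLocalization.ringHom_ext (Submonoid.powers (2 : ℤ)) (RingHom.ext_int _ _)
    intro z; exact RingHom.congr_fun this z
  have hPι : ∀ z, P (ι z) = C (iota2 z) := by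
    have : P.comp ι = (C : ℚ →+* ℚ[X]).comp iota2 :=
      IsLocalization.ringHom_ext (Submonoid.powers (2 : ℤ)) (RingHom.ext_int _ _)
    intro z; exact RingHom.congr_fun this z
  -- the kernel of s is torsion modulo (t - 1)
  have heX1 : e (X - C 1) = j t - 1 := by rw [map_sub, heX, Polynomial.C_1, map_one]
  have hker : ∀ F ∈ (RingHom.ker s : Set A),
      ∃ M : ℕ, M ≠ 0 ∧ (M : A) * F ∈ Ideal.span {t - 1} := by
    intro F hF
    have hF' : s F = 0 := hF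
    have hroot : eval 1 (P F) = 0 := by rw [hC1, hF', map_zero]
    obtain ⟨Q, hQ⟩ : (X - C (1 : ℚ)) ∣ P F := Polynomial.dvd_iff_isRoot.mpr hroot
    obtain ⟨c, a, hc, hca⟩ := L1 A (e Q)
    have key : j ((c : A) * F) = j ((t - 1) * a) := by
      calc j ((c : A) * F) = (c : ℚ ⊗[ℤ] A) * j F := by rw [map_mul, map_intCast]
        _ = (c : ℚ ⊗[ℤ] A) * (e (X - C 1) * e Q) := by rw [← heP, hQ, map_mul]
        _ = e (X - C 1) * ((c : ℚ ⊗[ℤ] A) * e Q) := by ring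
        _ = (j t - 1) * j a := by rw [heX1, hca]; rfl
        _ = j ((t - 1) * a) := by rw [map_mul, map_sub, map_one]
    obtain ⟨c', hc', h⟩ := L2 A _ _ key
    have hmem : ((c' * c : ℤ) : A) * F ∈ Ideal.span {t - 1} := by
      rw [Ideal.mem_span_singleton']
      exact ⟨(c' : A) * a, by push_cast; linear_combination (-1 : A) * h⟩
    refine ⟨(c' * c).natAbs, Int.natAbs_ne_zero.mpr (mul_ne_zero hc' hc), ?_⟩
    have hM : (((c' * c).natAbs : ℕ) : A) = ((|c' * c| : ℤ) : A) := Nat.cast_natAbs (c' * c)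
    rcases abs_choice (c' * c) with h' | h'
    · rw [hM, h']; exact hmem
    · rw [hM, h', Int.cast_neg, neg_mul]; exact neg_mem hmem
  obtain ⟨N, hN0, hN⟩ := exists_N A t (RingHom.ker s : Set A) hker
  have hN' : ∀ F : A, s F = 0 → ∃ G : A, (N : A) * F = (t - 1) * G := by
    intro F hF
    obtain ⟨G, hG⟩ := Ideal.mem_span_singleton'.mp (hN F hF)
    exact ⟨G, by rw [← hG, mul_comm]⟩
  -- choose a prime
  obtain ⟨p, hp1, hp⟩ := Nat.exists_infinite_primes (2 * N + 1)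
  have hpD : ¬ p ∣ 2 * N := Nat.not_dvd_of_pos_of_lt (by omega) (by omega)
  obtain ⟨b, hb⟩ := (h0 p hp).exists_right_inv
  obtain ⟨f, rfl⟩ := Ideal.Quotient.mk_surjective b
  have hmem : (p : A) * f - 1 ∈ Ideal.span ({t} : Set A) := by
    rw [← Ideal.Quotient.eq_zero_iff_mem, map_sub, map_mul, map_natCast, map_one, hb, sub_self]
  obtain ⟨g', hg⟩ := Ideal.mem_span_singleton'.mp hmem
  have hP := congrArg P hg
  rw [map_mul, hPt, map_sub, map_mul, map_natCast, map_one] at hP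
  have hev := congrArg (eval 0) hP
  simp only [eval_mul, eval_X, mul_zero, eval_sub, eval_natCast, eval_one] at hev
  have hp0 : (p : ℚ) ≠ 0 := Nat.cast_ne_zero.mpr hp.ne_zero
  have hval : eval 0 (P f) = ((p : ℚ))⁻¹ := by
    have h1 : eval 0 (P f) * (p : ℚ) = 1 := by linear_combination (-1 : ℚ) * hev
    exact eq_inv_of_mul_eq_one_left h1
  have hW := core A t P hPt s ι hsι hPι hC1 N hN0 hN' (P f).natDegree f le_rfl
  rw [hval] at hW
  exact inv_prime_not_mem_W hp hpD hW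

end Groth.Agent.S14048
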