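import Groth.Statements.S14049
import Mathlib
import Groth.Agent.H93.ThickHom

set_option autoImplicit false
set_option maxHeartbeats 400000
universe u
open CategoryTheory AlgebraicGeometry
open LocStr

namespace Groth.Agent.S14049

theorem surj_of_surj_mod_sq {B A : Type*} [CommRing B] [CommRing A] (φ : B →+* A) (K : Ideal A)
    (m : ℕ) (hK : K ^ m = ⊥) (h : ∀ a : A, ∃ b : B, φ b - a ∈ K ^ 2) : Function.Surjective φ := by
  have hP : ∀ n : ℕ, 1 ≤ n → ∀ x ∈ K ^ n, ∃ b : B, x - φ b ∈ K ^ (n + 1) := by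
    intro n hn
    induction n, hn using Nat.le_induction with
    | base =>
      intro x hx
      obtain ⟨b, hb⟩ := h x
      refine ⟨b, ?_⟩
      have : x - φ b = -(φ b - x) := by ring
      rw [this]
      exact (K ^ (1 + 1)).neg_mem hb
    | succ n hn ih =>
      intro x hx
      rw [pow_succ] at hx
      refine Submodule.mul_induction_on hx ?_ ?_
      · intro y hy k hk
        obtain ⟨s, hs⟩ := ih y hy
        obtain ⟨r, hr⟩ := h k
        refine ⟨s * r, ?_⟩
        have hsK : φ s ∈ K ^ n := by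
          have : φ s = y - (y - φ s) := by ring
          rw [this]
          exact (K ^ n).sub_mem hy (Ideal.pow_le_pow_right (Nat.le_succ n) hs)
        have e : y * k - φ (s * r) = (y - φ s) * k - φ s * (φ r - k) := by
          rw [map_mul]; ring
        rw [e]
        refine (K ^ (n + 1 + 1)).sub_mem ?_ ?_
        · rw [pow_succ (K) (n + 1)]
          exact Ideal.mul_mem_mul hs hk
        · have : K ^ (n + 1 + 1) = K ^ n * K ^ 2 := by rw [← pow_add]
          rw [this]
          exact Ideal.mul_mem_mul hsK hr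
      · rintro x y ⟨b, hb⟩ ⟨c, hc⟩
        refine ⟨b + c, ?_⟩
        have : x + y - φ (b + c) = (x - φ b) + (y - φ c) := by rw [map_add]; ring
        rw [this]
        exact (K ^ (n + 1 + 1)).add_mem hb hc
  have hQ : ∀ n : ℕ, 2 ≤ n → ∀ a : A, ∃ b : B, a - φ b ∈ K ^ n := by
    intro n hn
    induction n, hn using Nat.le_induction with
    | base =>
      intro a
      obtain ⟨b, hb⟩ := h a
      refine ⟨b, ?_⟩
      have : a - φ b = -(φ b - a) := by ring
      rw [this]
      exact (K ^ 2).neg_mem hb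
    | succ n hn ih =>
      intro a
      obtain ⟨b, hb⟩ := ih a
      obtain ⟨c, hc⟩ := hP n (by omega) _ hb
      refine ⟨b + c, ?_⟩
      have : a - φ (b + c) = a - φ b - φ c := by rw [map_add]; ring
      rw [this]
      exact hc
  intro a
  obtain ⟨b, hb⟩ := hQ (max m 2) (le_max_right _ _) a
  have : K ^ (max m 2) ≤ K ^ m := Ideal.pow_le_pow_right (le_max_left _ _)
  have h0 := this hb
  rw [hK, Ideal.mem_bot, sub_eq_zero] at h0
  exact ⟨b, h0.symm⟩


/-- For schemes. Let f : X → Y be a morphism of schemes and let I be a quasi-coherent sheaf of ideals on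
X which is nilpotent (some power of I is zero). Let X₁ ⊆ X be the closed subscheme defined by I².
Then f is a closed immersion as soon as the composite X₁ → X → Y is one. (The published statement is
the same assertion for a morphism of algebraic stacks; it is stated here for schemes.) -/
theorem result (X Y : Scheme.{u}) (f : X ⟶ Y)
    (I : X.IdealSheafData) (hI : IsNilpotent I)
    (h : IsClosedImmersion ((I ^ 2).subschemeι ≫ f)) :
    IsClosedImmersion f := by
  classical
  obtain ⟨m, hm⟩ := hI
  have hm' : I ^ (m + 1) = ⊥ := by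
    rw [pow_succ, hm]
    exact zero_mul I
  obtain ⟨j, hj⟩ : ∃ j : (I ^ 2).subscheme ⟶ X, j = (I ^ 2).subschemeι := ⟨_, rfl⟩
  have hjsurj : Function.Surjective j.base := by
    rw [← Set.range_eq_univ]
    have h1 : Set.range j.base = ((I ^ 2).support : Set X) := by
      rw [hj]; exact Scheme.IdealSheafData.range_subschemeι _
    rw [h1, Scheme.IdealSheafData.support_pow I 2 (by norm_num),
      ← Scheme.IdealSheafData.support_pow I (m + 1) (by omega), hm']
    simp
  rw [← hj] at h
  haveI := h
  haveI : IsClosedImmersion j := by rw [hj]; infer_instance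
  have haff : IsAffineHom f :=
    (Groth.Agent.H93.ThickHom.affineHom_iff j (𝟙 Y) (j ≫ f) f hjsurj
      (by rw [Category.comp_id])).mp inferInstance
  rw [isClosedImmersion_iff_isAffineHom]
  refine ⟨haff, fun U hU => ?_⟩
  have hV : IsAffineOpen (f ⁻¹ᵁ U) := hU.preimage f
  have hsurj : Function.Surjective ((j ≫ f).app U) := Scheme.Hom.app_surjective (j ≫ f) U hU
  have hker : RingHom.ker (j.app (f ⁻¹ᵁ U)).hom = (I.ideal ⟨f ⁻¹ᵁ U, hV⟩) ^ 2 := by
    rw [hj, Scheme.IdealSheafData.ker_subschemeι_app (I ^ 2) ⟨f ⁻¹ᵁ U, hV⟩,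
      Scheme.IdealSheafData.ideal_pow]
    rfl
  have hKnil : (I.ideal ⟨f ⁻¹ᵁ U, hV⟩) ^ (m + 1) = ⊥ := by
    have := congrArg (fun J : X.IdealSheafData => J.ideal ⟨f ⁻¹ᵁ U, hV⟩) hm'
    simpa [Scheme.IdealSheafData.ideal_pow] using this
  refine surj_of_surj_mod_sq (f.app U).hom (I.ideal ⟨_, hV⟩) (m + 1) hKnil (fun a => ?_)
  obtain ⟨b, hb⟩ := hsurj ((j.app (f ⁻¹ᵁ U)).hom a)
  refine ⟨b, ?_⟩
  rw [← hker, RingHom.mem_ker, map_sub, sub_eq_zero]
  rw [← hb, Scheme.Hom.comp_app]
  rfl

end Groth.Agent.S14049
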