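import Groth.Statements.S1405
import Groth.Agent.H7.FiberBaseChange

set_option autoImplicit false
universe u
open FlatMor

namespace Groth.Agent.S1405

open AlgebraicGeometry CategoryTheory Limits in
/-- Let Y' → Y be flat, locally of finite presentation and surjective and f' the base change of f : X →
Y. Then all fibres of f are locally Noetherian if and only if all fibres of f' are. -/
theorem result {X Y X' Y' : Scheme.{u}} (f : X ⟶ Y) (f' : X' ⟶ Y') (g' : X' ⟶ X) (g : Y' ⟶ Y) [Flat g] [LocallyOfFinitePresentation g] [Surjective g]
    (hc : IsPullback g' f' f g) :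
    (∀ y : Y, IsLocallyNoetherian (f.fiber y)) ↔ ∀ y' : Y', IsLocallyNoetherian (f'.fiber y') := by
  constructor
  · intro h y'
    have H := isPullback_fiberToSpecResidueField_of_isPullback hc y'
    have hft : LocallyOfFiniteType g := inferInstance
    have hφ : (g.residueFieldMap y').hom.EssFiniteType :=
      RingHom.EssFiniteType.residueFieldMap (LocallyOfFiniteType.stalkMap (f := g) y')
    haveI : IsLocallyNoetherian (pullback f (Y.fromSpecResidueField (g y'))) := h (g y')
    exact Groth.Agent.H7.isLocallyNoetherian_of_isPullback_Spec_of_essFiniteType H hφ
  · intro h y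
    obtain ⟨y', rfl⟩ := g.surjective y
    have H := isPullback_fiberToSpecResidueField_of_isPullback hc y'
    have hφ : (g.residueFieldMap y').hom.FaithfullyFlat := by
      letI := (g.residueFieldMap y').hom.toAlgebra
      show Module.FaithfullyFlat (Y.residueField (g y')) (Y'.residueField y')
      infer_instance
    haveI : IsLocallyNoetherian (pullback f' (Y'.fromSpecResidueField y')) := h y'
    exact Groth.Agent.H7.isLocallyNoetherian_of_isPullback_Spec_of_faithfullyFlat H hφ

end Groth.Agent.S1405
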