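import Groth.Statements.S14051
import Mathlib

set_option autoImplicit false
set_option linter.unusedSectionVars false
universe u
open CAlg

namespace Groth.Agent.S14051

section
variable {R : Type u} [CommRing R] {A : Type u} [CommRing A] [Algebra R A]
    (𝒜 : ℕ → Submodule R A) [GradedAlgebra 𝒜]

theorem grade_mul_le (i j : ℕ) : 𝒜 i * 𝒜 j ≤ 𝒜 (i + j) := by
  rw [Submodule.mul_le]
  intro a ha b hb
  exact SetLike.mul_mem_graded ha hb

theorem grade_add (hA : ∀ n : ℕ, 𝒜 (n + 1) = 𝒜 1 * 𝒜 n) (a b : ℕ) :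
    𝒜 (a + b) = 𝒜 a * 𝒜 b := by
  induction a with
  | zero =>
    rw [zero_add]
    apply le_antisymm
    · intro x hx
      have : x = 1 * x := (one_mul x).symm
      rw [this]
      exact Submodule.mul_mem_mul (SetLike.GradedOne.one_mem) hx
    · have := grade_mul_le 𝒜 0 b
      rwa [zero_add] at this
  | succ a ih =>
    rw [Nat.succ_add, hA (a + b), ih, hA a, mul_assoc]

variable {M : Type u} [AddCommGroup M] [Module R M] [Module A M] [IsScalarTower R A M]
    (ℳ : ℕ → Submodule R M) [DirectSum.Decomposition ℳ] [SetLike.GradedSMul 𝒜 ℳ]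

theorem grade_smul_le (i j : ℕ) : 𝒜 i • ℳ j ≤ ℳ (i + j) := by
  rw [Submodule.smul_le]
  intro a ha b hb
  exact SetLike.GradedSMul.smul_mem ha hb

/-- the piece of degree `m` generated from degrees `≤ n₀` -/
def P (n₀ m : ℕ) : Submodule R M := ⨆ (d : ℕ) (_ : d ≤ n₀ ∧ d ≤ m), 𝒜 (m - d) • ℳ d

theorem P_le (n₀ m : ℕ) : P 𝒜 ℳ n₀ m ≤ ℳ m := by
  refine iSup₂_le fun d hd => ?_
  have := grade_smul_le 𝒜 ℳ (m - d) d
  rwa [Nat.sub_add_cancel hd.2] at this

omit [GradedAlgebra 𝒜] [SetLike.GradedSMul 𝒜 ℳ] in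
theorem decompose_mem_of_mem_iSup (Pm : ℕ → Submodule R M) (hP : ∀ m, Pm m ≤ ℳ m) (x : M)
    (hx : x ∈ ⨆ m, Pm m) (m : ℕ) : ((DirectSum.decompose ℳ x) m : M) ∈ Pm m := by
  classical
  induction hx using Submodule.iSup_induction' with
  | mem i y hy =>
    rw [DirectSum.decompose_of_mem ℳ (hP i hy)]
    by_cases h : i = m
    · subst h
      rw [DirectSum.of_eq_same]
      exact hy
    · rw [DirectSum.of_eq_of_ne _ _ _ (Ne.symm h)]
      simp
  | zero => simp
  | add y z _ _ hy hz =>
    rw [DirectSum.decompose_add, DirectSum.add_apply, Submodule.coe_add]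
    exact add_mem hy hz

theorem smul_mem_Q (n₀ : ℕ) (a : A) (q : M) (hq : q ∈ ⨆ m, P 𝒜 ℳ n₀ m) :
    a • q ∈ ⨆ m, P 𝒜 ℳ n₀ m := by
  induction a using DirectSum.Decomposition.inductionOn 𝒜 with
  | zero => simp
  | add a b ha hb => rw [add_smul]; exact add_mem ha hb
  | homogeneous a =>
    rename_i j
    induction hq using Submodule.iSup_induction' with
    | zero => simp
    | add y z _ _ hy hz => rw [smul_add]; exact add_mem hy hz
    | mem m y hy =>
      refine Submodule.mem_iSup_of_mem (j + m) ?_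
      unfold P at hy ⊢
      induction hy using Submodule.iSup_induction' with
      | zero => simp
      | add y z _ _ hy hz => rw [smul_add]; exact add_mem hy hz
      | mem d y hy =>
        rw [Submodule.mem_iSup] at hy ⊢
        intro N hN
        have hN' := hN d
        by_cases hd : d ≤ n₀ ∧ d ≤ m
        · have hd' : d ≤ n₀ ∧ d ≤ j + m := ⟨hd.1, hd.2.trans (Nat.le_add_left _ _)⟩
          have hy' : y ∈ 𝒜 (m - d) • ℳ d := by
            apply hy
            simp [hd]
          have hN'' : 𝒜 (j + m - d) • ℳ d ≤ N := by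
            simpa [hd'] using hN'
          apply hN''
          refine Submodule.smul_induction_on hy' ?_ ?_
          · intro r hr n hn
            rw [← mul_smul]
            refine Submodule.smul_mem_smul ?_ hn
            have := SetLike.mul_mem_graded a.2 hr
            rwa [show j + (m - d) = j + m - d by omega] at this
          · intro y z hy hz
            rw [smul_add]; exact add_mem hy hz
        · have : y = 0 := by
            have := hy ⊥ (by simp [hd])
            simpa using this
          subst this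
          simp

end

/-- Let A be a commutative ℕ-graded algebra over a base ring R which is generated by A_1 as an
A_0-algebra, written as A_{n+1} = A_1 · A_n for every n, and let M be a graded A-module: an A-module
with R-submodules M_n giving a direct-sum decomposition and A_i · M_j ⊆ M_{i+j}. If M is spanned
over A by a set of homogeneous elements all of degree at most n₀, then for every n ≥ n₀ and every k
≥ 0 the degree-(n+k) part of M is A_k · M_n. -/
theorem result
    (R : Type u) [CommRing R] (A : Type u) [CommRing A] [Algebra R A]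
    (𝒜 : ℕ → Submodule R A) [GradedAlgebra 𝒜]
    (hA : ∀ n : ℕ, 𝒜 (n + 1) = 𝒜 1 * 𝒜 n)
    (M : Type u) [AddCommGroup M] [Module R M] [Module A M] [IsScalarTower R A M]
    (ℳ : ℕ → Submodule R M) [DirectSum.Decomposition ℳ] [SetLike.GradedSMul 𝒜 ℳ]
    (s : Set M) (n₀ : ℕ) (hs : ∀ y ∈ s, ∃ d : ℕ, d ≤ n₀ ∧ y ∈ ℳ d)
    (hspan : Submodule.span A s = ⊤)
    (n k : ℕ) (hn : n₀ ≤ n) :
    ℳ (n + k) = 𝒜 k • ℳ n := by
  apply le_antisymm
  · -- every element lies in Q
    let Q' : Submodule A M :=
      { carrier := ((⨆ m, P 𝒜 ℳ n₀ m : Submodule R M) : Set M)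
        add_mem' := fun ha hb => add_mem ha hb
        zero_mem' := zero_mem _
        smul_mem' := fun a q hq => smul_mem_Q 𝒜 ℳ n₀ a q hq }
    have hsQ : s ⊆ Q' := by
      intro y hy
      obtain ⟨d, hd, hyd⟩ := hs y hy
      show y ∈ (⨆ m, P 𝒜 ℳ n₀ m : Submodule R M)
      refine Submodule.mem_iSup_of_mem d ?_
      unfold P
      refine Submodule.mem_iSup_of_mem d (Submodule.mem_iSup_of_mem ⟨hd, le_rfl⟩ ?_)
      rw [Nat.sub_self, ← one_smul A y]
      exact Submodule.smul_mem_smul SetLike.GradedOne.one_mem hyd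
    have htop : Q' = ⊤ := by
      rw [eq_top_iff, ← hspan]
      exact Submodule.span_le.mpr hsQ
    intro x hx
    have hxQ : x ∈ (⨆ m, P 𝒜 ℳ n₀ m : Submodule R M) := by
      have : x ∈ Q' := by rw [htop]; trivial
      exact this
    have hxP := decompose_mem_of_mem_iSup ℳ (P 𝒜 ℳ n₀) (P_le 𝒜 ℳ n₀) x hxQ (n + k)
    rw [DirectSum.decompose_of_mem_same ℳ hx] at hxP
    -- now P (n+k) ≤ 𝒜 k • ℳ n
    have hPle : P 𝒜 ℳ n₀ (n + k) ≤ 𝒜 k • ℳ n := by
      unfold P
      refine iSup₂_le fun d hd => ?_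
      have hdn : d ≤ n := hd.1.trans hn
      rw [show n + k - d = k + (n - d) by omega, grade_add 𝒜 hA]
      show (𝒜 k • 𝒜 (n - d)) • ℳ d ≤ _
      rw [Submodule.smul_assoc]
      refine Submodule.smul_mono le_rfl ?_
      have := grade_smul_le 𝒜 ℳ (n - d) d
      rwa [Nat.sub_add_cancel hdn] at this
    exact hPle hxP
  · have := grade_smul_le 𝒜 ℳ k n
    rwa [add_comm] at this

end Groth.Agent.S14051
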