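import Mathlib
import Groth.Statements.S14053

set_option autoImplicit false
universe u
open CAlg

namespace Groth.Agent.S14053

theorem comb (A1 A2 A3 e N : ℕ) (h : A1 + 2 * A2 + 3 * A3 = 6 * N) (he : e ≤ N) :
    ∃ t1 t2 t3, t1 ≤ A1 ∧ t2 ≤ A2 ∧ t3 ≤ A3 ∧ t1 + 2 * t2 + 3 * t3 = 6 * e := by
  by_cases h1 : 2 * e ≤ A3
  · exact ⟨0, 0, 2 * e, by omega, by omega, h1, by omega⟩
  · by_cases h2 : (6 * e - 3 * A3) / 2 ≤ A2
    · exact ⟨(6 * e - 3 * A3) % 2, (6 * e - 3 * A3) / 2, A3, by omega, h2, le_rfl, by omega⟩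
    · exact ⟨6 * e - 3 * A3 - 2 * A2, A2, A3, by omega, le_rfl, le_rfl, by omega⟩

section
variable {k R : Type u} [Field k] [CommRing R] [Algebra k R] (ℛ : ℕ → Submodule k R)
  [GradedAlgebra ℛ]

/-- products of powers of the generating pieces -/
def P (t : ℕ × ℕ × ℕ) : Submodule k R := ℛ 1 ^ t.1 * ℛ 2 ^ t.2.1 * ℛ 3 ^ t.2.2

def wt (t : ℕ × ℕ × ℕ) : ℕ := t.1 + 2 * t.2.1 + 3 * t.2.2

theorem mul_le_graded (a b : ℕ) : ℛ a * ℛ b ≤ ℛ (a + b) :=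
  Submodule.mul_le.mpr (fun _ hx _ hy => SetLike.mul_mem_graded hx hy)

theorem pow_le (i : ℕ) : ∀ n, ℛ i ^ n ≤ ℛ (n * i) := by
  intro n
  induction n with
  | zero => rw [pow_zero, zero_mul, Submodule.one_le]; exact SetLike.one_mem_graded ℛ
  | succ n ih =>
    rw [pow_succ, Nat.succ_mul]
    exact (mul_le_mul' ih le_rfl).trans (mul_le_graded ℛ _ _)

theorem P_le (t : ℕ × ℕ × ℕ) : P ℛ t ≤ ℛ (wt t) := by
  unfold P wt
  refine (mul_le_mul' (mul_le_mul' (pow_le ℛ 1 t.1) (pow_le ℛ 2 t.2.1))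
    (pow_le ℛ 3 t.2.2)).trans ?_
  refine (mul_le_mul' (mul_le_graded ℛ _ _) le_rfl).trans ?_
  refine (mul_le_graded ℛ _ _).trans ?_
  have : t.1 * 1 + t.2.1 * 2 + t.2.2 * 3 = t.1 + 2 * t.2.1 + 3 * t.2.2 := by ring
  rw [this]

theorem P_mul (t t' : ℕ × ℕ × ℕ) : P ℛ t * P ℛ t' = P ℛ (t + t') := by
  simp only [P, Prod.fst_add, Prod.snd_add, pow_add]
  ring

theorem T_eq_top
    (hgen : Algebra.adjoin k ((ℛ 1 : Set R) ∪ (ℛ 2 : Set R) ∪ (ℛ 3 : Set R)) = ⊤) :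
    (⨆ t, P ℛ t) = ⊤ := by
  have h1 : (1 : R) ∈ ⨆ t, P ℛ t := by
    apply Submodule.mem_iSup_of_mem ((0, 0, 0) : ℕ × ℕ × ℕ)
    have : P ℛ ((0, 0, 0) : ℕ × ℕ × ℕ) = 1 := by simp [P]
    rw [this]
    exact Submodule.one_le.mp le_rfl
  have hmul : ∀ x y, x ∈ ⨆ t, P ℛ t → y ∈ ⨆ t, P ℛ t → x * y ∈ ⨆ t, P ℛ t := by
    intro x y hx hy
    have : (⨆ t, P ℛ t) * (⨆ t, P ℛ t) ≤ ⨆ t, P ℛ t := by
      rw [Submodule.iSup_mul]
      refine iSup_le (fun t => ?_)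
      rw [Submodule.mul_iSup]
      refine iSup_le (fun t' => ?_)
      rw [P_mul]
      exact le_iSup (P ℛ) (t + t')
    exact this (Submodule.mul_mem_mul hx hy)
  have hS : Algebra.adjoin k ((ℛ 1 : Set R) ∪ (ℛ 2 : Set R) ∪ (ℛ 3 : Set R)) ≤
      Submodule.toSubalgebra (⨆ t, P ℛ t) h1 hmul := by
    apply Algebra.adjoin_le
    rintro x ((hx | hx) | hx)
    · show x ∈ ⨆ t, P ℛ t
      apply Submodule.mem_iSup_of_mem ((1, 0, 0) : ℕ × ℕ × ℕ)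
      have : P ℛ ((1, 0, 0) : ℕ × ℕ × ℕ) = ℛ 1 := by simp [P]
      rw [this]; exact hx
    · show x ∈ ⨆ t, P ℛ t
      apply Submodule.mem_iSup_of_mem ((0, 1, 0) : ℕ × ℕ × ℕ)
      have : P ℛ ((0, 1, 0) : ℕ × ℕ × ℕ) = ℛ 2 := by simp [P]
      rw [this]; exact hx
    · show x ∈ ⨆ t, P ℛ t
      apply Submodule.mem_iSup_of_mem ((0, 0, 1) : ℕ × ℕ × ℕ)
      have : P ℛ ((0, 0, 1) : ℕ × ℕ × ℕ) = ℛ 3 := by simp [P]
      rw [this]; exact hx
  rw [hgen] at hS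
  rw [eq_top_iff]
  intro x _
  exact hS (Algebra.mem_top : x ∈ (⊤ : Subalgebra k R))

theorem le_iSup_wt (hT : (⨆ t, P ℛ t) = ⊤) (N : ℕ) :
    ℛ N ≤ ⨆ (t : ℕ × ℕ × ℕ) (_ : wt t = N), P ℛ t := by
  intro x hx
  have hxT : x ∈ ⨆ t, P ℛ t := by rw [hT]; trivial
  have key : ∀ y ∈ ⨆ t, P ℛ t,
      (GradedRing.proj ℛ N y) ∈ ⨆ (t : ℕ × ℕ × ℕ) (_ : wt t = N), P ℛ t := by
    intro y hy
    refine Submodule.iSup_induction (P ℛ)
      (motive := fun y => GradedRing.proj ℛ N y ∈ ⨆ (t : ℕ × ℕ × ℕ) (_ : wt t = N), P ℛ t)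
      hy ?_ ?_ ?_
    · intro t y hy
      by_cases ht : wt t = N
      · have hyN : y ∈ ℛ N := ht ▸ P_le ℛ t hy
        rw [GradedRing.proj_apply, DirectSum.decompose_of_mem_same ℛ hyN]
        exact Submodule.mem_iSup_of_mem t (Submodule.mem_iSup_of_mem ht hy)
      · have hyw : y ∈ ℛ (wt t) := P_le ℛ t hy
        rw [GradedRing.proj_apply, DirectSum.decompose_of_mem_ne ℛ hyw ht]
        exact Submodule.zero_mem _
    · rw [map_zero]; exact Submodule.zero_mem _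
    · intro a b ha hb
      rw [map_add]; exact Submodule.add_mem _ ha hb
  have := key x hxT
  rwa [GradedRing.proj_apply, DirectSum.decompose_of_mem_same ℛ hx] at this

theorem step (hT : (⨆ t, P ℛ t) = ⊤) (e N : ℕ) (he : e ≤ N) :
    ℛ (6 * N) ≤ ℛ (6 * e) * ℛ (6 * (N - e)) := by
  refine (le_iSup_wt ℛ hT (6 * N)).trans ?_
  refine iSup_le (fun t => iSup_le (fun ht => ?_))
  obtain ⟨t1, t2, t3⟩ := t
  have ht' : t1 + 2 * t2 + 3 * t3 = 6 * N := ht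
  obtain ⟨s1, s2, s3, h1, h2, h3, h4⟩ := comb t1 t2 t3 e N ht' he
  have hsplit : P ℛ (t1, t2, t3) = P ℛ (s1, s2, s3) * P ℛ (t1 - s1, t2 - s2, t3 - s3) := by
    rw [P_mul]
    congr 1
    refine Prod.ext ?_ (Prod.ext ?_ ?_)
    · show t1 = s1 + (t1 - s1); omega
    · show t2 = s2 + (t2 - s2); omega
    · show t3 = s3 + (t3 - s3); omega
  rw [hsplit]
  refine mul_le_mul' ?_ ?_
  · have h5 := P_le ℛ ((s1, s2, s3) : ℕ × ℕ × ℕ)
    have hw : wt ((s1, s2, s3) : ℕ × ℕ × ℕ) = 6 * e := h4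
    rwa [hw] at h5
  · have h5 := P_le ℛ ((t1 - s1, t2 - s2, t3 - s3) : ℕ × ℕ × ℕ)
    have hw : wt ((t1 - s1, t2 - s2, t3 - s3) : ℕ × ℕ × ℕ) = 6 * (N - e) := by
      show (t1 - s1) + 2 * (t2 - s2) + 3 * (t3 - s3) = 6 * (N - e)
      omega
    rwa [hw] at h5

theorem main (hT : (⨆ t, P ℛ t) = ⊤) (e : ℕ) :
    ∀ m, 0 < m → ℛ (m * (6 * e)) ≤ ℛ (6 * e) ^ m := by
  intro m
  induction m with
  | zero => intro h; exact absurd h (lt_irrefl 0)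
  | succ m ih =>
    intro _
    rcases Nat.eq_zero_or_pos m with rfl | hm
    · simp
    · have h1 : (m + 1) * (6 * e) = 6 * ((m + 1) * e) := by ring
      rw [h1]
      refine (step ℛ hT e ((m + 1) * e) (Nat.le_mul_of_pos_left e (Nat.succ_pos m))).trans ?_
      have h2 : 6 * ((m + 1) * e - e) = m * (6 * e) := by
        have : (m + 1) * e - e = m * e := by rw [Nat.add_mul, one_mul, Nat.add_sub_cancel]
        rw [this]; ring
      rw [h2, pow_succ']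
      exact mul_le_mul' le_rfl (ih hm)

end

/-- Let k be a field and R a commutative ℕ-graded k-algebra with R_0 = k · 1 which is generated as a
k-algebra by R_1, R_2 and R_3, each a finite-dimensional k-vector space, of dimensions d_1, d_2,
d_3. Then for every natural number e ≥ 5 d_1 + 4 d_2 + 3 d_3 the (6e)-th Veronese subring of R is
generated in degree one over k: R_{6em} = (R_{6e})^m for every m > 0. -/
theorem result
    (k : Type u) [Field k] (R : Type u) [CommRing R] [Algebra k R]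
    (ℛ : ℕ → Submodule k R) [GradedAlgebra ℛ]
    (h0 : ℛ 0 = 1)
    (hgen : Algebra.adjoin k ((ℛ 1 : Set R) ∪ (ℛ 2 : Set R) ∪ (ℛ 3 : Set R)) = ⊤)
    [Module.Finite k (ℛ 1)] [Module.Finite k (ℛ 2)] [Module.Finite k (ℛ 3)]
    (e : ℕ) (he : 5 * Module.finrank k (ℛ 1) + 4 * Module.finrank k (ℛ 2) + 3 * Module.finrank k (ℛ 3) ≤ e)
    (m : ℕ) (hm : 0 < m) :
    ℛ (m * (6 * e)) = ℛ (6 * e) ^ m :=
  le_antisymm (main ℛ (T_eq_top ℛ hgen) e m hm) (pow_le ℛ (6 * e) m)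

end Groth.Agent.S14053
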