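import Groth.Statements.S5387
import Groth.Agent.H63.ActionTranslate

set_option autoImplicit false
universe u
open CategoryTheory CategoryTheory.Limits MonoidalCategory CartesianMonoidalCategory MonObj GrpObj AlgebraicGeometry
open SGA3

namespace Groth.Agent.S5387

/-- Let k be an algebraically closed field, G a group scheme locally of finite type over k and x a
closed point of G. Then the local ring of G at x is isomorphic to the local ring of G at the unit
point (an isomorphism is induced by a translation; this row asserts the existence of an isomorphism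
of rings). -/
theorem result (k : Type u) [Field k] [IsAlgClosed k] (G : Over (Spec (CommRingCat.of k))) [GrpObj G]
    [LocallyOfFiniteType G.hom] (pt : ↥(𝟙_ (Over (Spec (CommRingCat.of k)))).left) (x : G.left) (hx : IsClosed ({x} : Set G.left)) :
    Nonempty (G.left.presheaf.stalk (η[G].left.base pt) ≅ G.left.presheaf.stalk x) := by
  obtain ⟨τ, hτ⟩ := Groth.Agent.H63.ActionTranslate.exists_section_of_isClosed G x hx
  let e := Groth.Agent.H63.ActionTranslate.Liso τ
  haveI : Subsingleton ↥(𝟙_ (Over (Spec (CommRingCat.of k)))).left :=
    inferInstanceAs (Subsingleton (PrimeSpectrum k))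
  have hpt : pt = IsLocalRing.closedPoint k := Subsingleton.elim _ _
  have hx' : e.hom.left.base (η[G].left.base pt) = x := by
    have h := Groth.Agent.H63.ActionTranslate.point_comp_L (η[G]) τ
    have h2 : (η[G] : 𝟙_ _ ⟶ G) = 1 := by
      rw [Hom.one_def, toUnit_unit, Category.id_comp]
    rw [h2, _root_.mul_one] at h
    have h3 := congrArg (fun t => t.left.base pt) h
    simp only [Over.comp_left, Scheme.Hom.comp_base, TopCat.comp_app] at h3
    rw [← hτ, ← hpt, ← h3, h2]
    rfl
  haveI : IsIso e.hom.left := (inferInstance : IsIso ((Over.forget _).map e.hom))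
  haveI : IsIso (e.hom.left.stalkMap (η[G].left.base pt)) :=
    (IsOpenImmersion.iff_isIso_stalkMap.mp inferInstance).2 _
  exact ⟨(asIso (e.hom.left.stalkMap (η[G].left.base pt))).symm ≪≫ eqToIso (by rw [hx'])⟩

end Groth.Agent.S5387
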