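import Groth.Statements.S14059
import Mathlib
import Groth.Agent.S5387

set_option autoImplicit false
set_option maxHeartbeats 400000
set_option backward.isDefEq.respectTransparency.types false
universe u
open CategoryTheory MonoidalCategory CartesianMonoidalCategory MonObj GrpObj AlgebraicGeometry
open GrpSch

namespace Groth.Agent.S14059

open CategoryTheory.Limits in
set_option backward.isDefEq.respectTransparency.types false in
/-- For a field `k`, the germ map at any point of `Spec k` is bijective on global sections. -/
theorem germ_top_bijective_field (k : Type u) [Field k] (y : Spec (CommRingCat.of k)) :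
    Function.Bijective (((Spec (CommRingCat.of k)).presheaf.germ ⊤ y trivial).hom.comp
      (Scheme.ΓSpecIso (CommRingCat.of k)).inv.hom) := by
  have hinv : Function.Bijective (Scheme.ΓSpecIso (CommRingCat.of k)).inv.hom :=
    ConcreteCategory.bijective_of_isIso (Scheme.ΓSpecIso (CommRingCat.of k)).inv
  have hA : IsField Γ(Spec (CommRingCat.of k), ⊤) :=
    MulEquiv.isField (Field.toIsField k)
      (Scheme.ΓSpecIso (CommRingCat.of k)).commRingCatIsoToRingEquiv.toMulEquiv
  have hU : IsAffineOpen (⊤ : (Spec (CommRingCat.of k)).Opens) := isAffineOpen_top _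
  letI := (Spec (CommRingCat.of k)).presheaf.algebra_section_stalk
    (U := (⊤ : (Spec (CommRingCat.of k)).Opens)) ⟨y, trivial⟩
  haveI := hU.isLocalization_stalk ⟨y, trivial⟩
  have hM : (hU.primeIdealOf ⟨y, trivial⟩).asIdeal.primeCompl ≤
      IsUnit.submonoid Γ(Spec (CommRingCat.of k), ⊤) := by
    intro s hs
    have hs0 : s ≠ 0 := fun h0 => hs (h0 ▸ Ideal.zero_mem _)
    obtain ⟨t, ht⟩ := hA.mul_inv_cancel hs0
    exact IsUnit.of_mul_eq_one t ht
  let eq := IsLocalization.atUnits Γ(Spec (CommRingCat.of k), ⊤)
    (hU.primeIdealOf ⟨y, trivial⟩).asIdeal.primeCompl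
    (S := (Spec (CommRingCat.of k)).presheaf.stalk y) hM
  have heq : ∀ r, eq r = ((Spec (CommRingCat.of k)).presheaf.germ ⊤ y trivial).hom r := by
    intro r
    have h2 : eq r = algebraMap _ _ r := by simpa using eq.commutes r
    exact h2
  have hgerm : Function.Bijective ((Spec (CommRingCat.of k)).presheaf.germ ⊤ y trivial).hom := by
    constructor
    · intro r r' h
      apply eq.injective
      rw [heq, heq]; exact h
    · intro z
      obtain ⟨r, hr⟩ := eq.surjective z
      exact ⟨r, by rw [← heq]; exact hr⟩
  exact hgerm.comp hinv

open CategoryTheory.Limits in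
set_option backward.isDefEq.respectTransparency.types false in
theorem stalkMap_bijective_of_section {X : Scheme.{u}} {k : Type u} [Field k]
    (f : X ⟶ Spec (CommRingCat.of k))
    (σ : Spec (CommRingCat.of k) ⟶ X) (hσ : σ ≫ f = 𝟙 _) (a : Spec (CommRingCat.of k))
    (hF : IsField (X.presheaf.stalk (σ.base a))) :
    Function.Bijective ((X.presheaf.germ ⊤ (σ.base a) trivial).hom.comp
      (f.appTop.hom.comp (Scheme.ΓSpecIso (CommRingCat.of k)).inv.hom)) := by
  have hins : Inseparable ((σ ≫ f) a)
      ((𝟙 (Spec (CommRingCat.of k)) : Spec (CommRingCat.of k) ⟶ Spec (CommRingCat.of k)) a) :=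
    .of_eq (by rw [hσ])
  have h1 : (σ ≫ f).stalkMap a =
      ((Spec (CommRingCat.of k)).presheaf.stalkCongr hins).hom := by
    rw [Scheme.Hom.stalkMap_congr_hom _ _ hσ, Scheme.Hom.stalkMap_id]
    exact Category.comp_id _
  have hcomp : Function.Bijective (fun z => (σ.stalkMap a).hom ((f.stalkMap (σ.base a)).hom z)) := by
    have hb := ConcreteCategory.bijective_of_isIso
      ((Spec (CommRingCat.of k)).presheaf.stalkCongr hins).hom
    rw [← h1, Scheme.Hom.stalkMap_comp] at hb
    exact hb
  have hsinj : Function.Injective (σ.stalkMap a).hom := by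
    rw [injective_iff_map_eq_zero]
    intro z hz
    by_contra hz0
    obtain ⟨w, hw⟩ := hF.mul_inv_cancel hz0
    have : (σ.stalkMap a).hom (z * w) = 1 := by rw [hw, map_one]
    rw [map_mul, hz, zero_mul] at this
    exact zero_ne_one this
  have htbij : Function.Bijective (f.stalkMap (σ.base a)).hom := by
    constructor
    · intro z z' h
      exact hcomp.1 (by simp only [h])
    · intro w
      obtain ⟨z, hz⟩ := hcomp.2 ((σ.stalkMap a).hom w)
      exact ⟨z, hsinj hz⟩
  have hA := germ_top_bijective_field k (f.base (σ.base a))
  have hfun : ∀ c, ((X.presheaf.germ ⊤ (σ.base a) trivial).hom.comp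
      (f.appTop.hom.comp (Scheme.ΓSpecIso (CommRingCat.of k)).inv.hom)) c =
      (f.stalkMap (σ.base a)).hom ((((Spec (CommRingCat.of k)).presheaf.germ ⊤
        (f.base (σ.base a)) trivial).hom.comp
        (Scheme.ΓSpecIso (CommRingCat.of k)).inv.hom) c) := by
    intro c
    exact (Scheme.Hom.germ_stalkMap_apply f ⊤ (σ.base a) trivial
      ((Scheme.ΓSpecIso (CommRingCat.of k)).inv.hom c)).symm
  have : ((X.presheaf.germ ⊤ (σ.base a) trivial).hom.comp
      (f.appTop.hom.comp (Scheme.ΓSpecIso (CommRingCat.of k)).inv.hom) : k → _) =
      (f.stalkMap (σ.base a)).hom ∘ (((Spec (CommRingCat.of k)).presheaf.germ ⊤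
        (f.base (σ.base a)) trivial).hom.comp
        (Scheme.ΓSpecIso (CommRingCat.of k)).inv.hom) := funext hfun
  rw [this]
  exact htbij.comp hA

/-- Let k be an algebraically closed field and G a group scheme of finite type over k, with unit point e
(the image of the unit section). Then the tangent space of G at e is zero, that is the cotangent
space m_e/m_e² of the local ring O_{G,e} vanishes, if and only if G is isomorphic over k to a finite
disjoint union of copies of Spec k, stated as: the underlying space of G is finite and discrete and
the structure map k → O_{G,g} is bijective for every point g. (The published statement is over an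
arbitrary field; the group scheme of cube roots of unity over the rationals has zero tangent space
at the unit but a point with residue field larger than the base field, and the printed argument
translates by rational points, so the base field is taken algebraically closed here.) -/
theorem result (k : Type u) [Field k] [IsAlgClosed k]
    (G : Over (Spec (CommRingCat.of k))) [GrpObj G] [LocallyOfFiniteType G.hom] [QuasiCompact G.hom]
    (e : G.left) (he : e ∈ Set.range (η[G]).left.base) :
    letI : G.left.Over (Spec (CommRingCat.of k)) := ⟨G.hom⟩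
    Subsingleton (IsLocalRing.CotangentSpace (G.left.presheaf.stalk e)) ↔
      (Finite G.left ∧ DiscreteTopology G.left ∧
        ∀ g : G.left, Function.Bijective (Curv2.stalkMap k G.left g)) := by
  obtain ⟨pt, rfl⟩ := he
  haveI : IsLocallyNoetherian G.left := LocallyOfFiniteType.isLocallyNoetherian G.hom
  constructor
  · intro hsub
    have hFe : IsField (G.left.presheaf.stalk (η[G].left.base pt)) :=
      IsLocalRing.subsingleton_cotangentSpace_iff.mp hsub
    have hFclosed : ∀ x : G.left, IsClosed ({x} : Set G.left) →
        IsField (G.left.presheaf.stalk x) := by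
      intro x hx
      obtain ⟨iso⟩ := Groth.Agent.S5387.result k G pt x hx
      exact MulEquiv.isField hFe iso.symm.commRingCatIsoToRingEquiv.toMulEquiv
    haveI : CompactSpace G.left := QuasiCompact.compactSpace_of_compactSpace G.hom
    have hclosed : ∀ y : G.left, IsClosed ({y} : Set G.left) := by
      intro y
      obtain ⟨x, hx, hxc⟩ := (isClosed_closure (s := ({y} : Set G.left))).exists_closed_singleton
        ⟨y, subset_closure rfl⟩
      have hspec : y ⤳ x := specializes_iff_mem_closure.mpr hx
      have hy : y ∈ Set.range (G.left.fromSpecStalk x) := by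
        rw [Scheme.range_fromSpecStalk]; exact hspec
      obtain ⟨p, hp⟩ := hy
      have hFx := hFclosed x hxc
      have hmax : IsLocalRing.maximalIdeal (G.left.presheaf.stalk x) = ⊥ :=
        IsLocalRing.isField_iff_maximalIdeal_eq.mp hFx
      have hpe : p = IsLocalRing.closedPoint (G.left.presheaf.stalk x) := by
        apply PrimeSpectrum.ext
        have h1 : p.asIdeal ≤ IsLocalRing.maximalIdeal (G.left.presheaf.stalk x) :=
          IsLocalRing.le_maximalIdeal p.2.ne_top
        rw [hmax, le_bot_iff] at h1
        rw [h1]
        exact hmax.symm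
      have hyx : y = x := by
        rw [← hp, hpe]
        exact Scheme.fromSpecStalk_closedPoint
      rw [hyx]; exact hxc
    haveI : T1Space G.left := ⟨hclosed⟩
    haveI : IsNoetherian G.left := {}
    haveI : Finite G.left := by
      have hfin := TopologicalSpace.NoetherianSpace.finite_irreducibleComponents (α := G.left)
      have hsing : ∀ Z ∈ irreducibleComponents G.left, Z.Finite := by
        intro Z hZ
        have hirr : IsIrreducible Z := hZ.1
        have hcl : IsClosed Z := isClosed_of_mem_irreducibleComponents Z hZ
        obtain ⟨z, hz⟩ := QuasiSober.sober hirr hcl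
        have : Z = {z} := by
          rw [← hz.def, (hclosed z).closure_eq]
        rw [this]; exact Set.finite_singleton z
      have huniv : (Set.univ : Set G.left).Finite := by
        rw [← sUnion_irreducibleComponents]
        exact hfin.sUnion hsing
      exact Set.finite_univ_iff.mp huniv
    refine ⟨inferInstance, inferInstance, fun g => ?_⟩
    obtain ⟨σ, hσ1, hσ2⟩ : ∃ σ : Spec (CommRingCat.of k) ⟶ G.left,
        σ ≫ G.hom = 𝟙 _ ∧ ∀ a, σ.base a = g :=
      ⟨pointOfClosedPoint G.hom g (hclosed g), pointOfClosedPoint_comp G.hom g (hclosed g),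
        fun a => pointOfClosedPoint_apply G.hom g (hclosed g) a⟩
    have ha := hσ2 (IsLocalRing.closedPoint k)
    subst ha
    exact stalkMap_bijective_of_section G.hom σ hσ1 (IsLocalRing.closedPoint k)
      (hFclosed _ (hclosed _))
  · rintro ⟨-, -, hb⟩
    have hF : IsField (G.left.presheaf.stalk (η[G].left.base pt)) :=
      MulEquiv.isField (Field.toIsField k)
        (RingEquiv.ofBijective _ (hb (η[G].left.base pt))).symm.toMulEquiv
    exact IsLocalRing.subsingleton_cotangentSpace_iff.mpr hF

end Groth.Agent.S14059
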