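import Groth.Statements.S1406
import Groth.Agent.H7.NoethDescent

set_option autoImplicit false
universe u
open FlatMor

namespace Groth.Agent.S1406

open AlgebraicGeometry CategoryTheory Limits in
/-- The map on fibres induced by `a`. -/
noncomputable def fiberComp {X X' Y : Scheme.{u}} (f : X ⟶ Y) (a : X' ⟶ X) (y : Y) :
    (a ≫ f).fiber y ⟶ f.fiber y :=
  pullback.lift ((a ≫ f).fiberι y ≫ a) ((a ≫ f).fiberToSpecResidueField y)
    (by rw [Category.assoc]; exact (a ≫ f).fiber_fac y)

open AlgebraicGeometry CategoryTheory Limits in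
theorem fiberComp_fiberι {X X' Y : Scheme.{u}} (f : X ⟶ Y) (a : X' ⟶ X) (y : Y) :
    fiberComp f a y ≫ f.fiberι y = (a ≫ f).fiberι y ≫ a :=
  pullback.lift_fst _ _ _

open AlgebraicGeometry CategoryTheory Limits in
theorem fiberComp_toSpec {X X' Y : Scheme.{u}} (f : X ⟶ Y) (a : X' ⟶ X) (y : Y) :
    fiberComp f a y ≫ f.fiberToSpecResidueField y = (a ≫ f).fiberToSpecResidueField y :=
  pullback.lift_snd _ _ _

open AlgebraicGeometry CategoryTheory Limits in
/-- The map on fibres induced by `a` is a base change of `a`. -/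
theorem isPullback_fiberComp {X X' Y : Scheme.{u}} (f : X ⟶ Y) (a : X' ⟶ X) (y : Y) :
    IsPullback ((a ≫ f).fiberι y) (fiberComp f a y) a (f.fiberι y) := by
  refine IsPullback.of_bot (v₂₁ := f.fiberToSpecResidueField y) (v₂₂ := f)
    (h₃₁ := Y.fromSpecResidueField y) ?_ (fiberComp_fiberι f a y).symm
    (IsPullback.of_hasPullback f (Y.fromSpecResidueField y))
  rw [fiberComp_toSpec]
  exact IsPullback.of_hasPullback (a ≫ f) (Y.fromSpecResidueField y)

open AlgebraicGeometry CategoryTheory Limits in
/-- Let a : X' → X be flat, locally of finite presentation and surjective. Then all fibres of f : X → Y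
are locally Noetherian if and only if all fibres of a ≫ f are. -/
theorem result {X X' Y : Scheme.{u}} (f : X ⟶ Y) (a : X' ⟶ X) [Flat a] [LocallyOfFinitePresentation a] [Surjective a] :
    (∀ y : Y, IsLocallyNoetherian (f.fiber y)) ↔ ∀ y : Y, IsLocallyNoetherian ((a ≫ f).fiber y) := by
  have key : ∀ y : Y, IsLocallyNoetherian (f.fiber y) ↔ IsLocallyNoetherian ((a ≫ f).fiber y) := by
    intro y
    have hp := isPullback_fiberComp f a y
    have h1 : Flat (fiberComp f a y) := MorphismProperty.of_isPullback (P := @Flat) hp ‹_›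
    have h2 : LocallyOfFinitePresentation (fiberComp f a y) :=
      MorphismProperty.of_isPullback (P := @LocallyOfFinitePresentation) hp ‹_›
    have h3 : Surjective (fiberComp f a y) :=
      MorphismProperty.of_isPullback (P := @Surjective) hp ‹_›
    exact Groth.Agent.H7.isLocallyNoetherian_iff_of_fppf (fiberComp f a y)
  exact forall_congr' key

end Groth.Agent.S1406
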