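import Groth.Statements.S14060
import Groth.Agent.H42.CohTopLib

set_option autoImplicit false
universe u
open CategoryTheory CategoryTheory.Limits TopologicalSpace
open CohTop

namespace Groth.Agent.S14060

section Abstract

universe w' v' u'
variable {C : Type u'} [Category.{v'} C] [Abelian C] [HasExt.{w'} C]

open Limits Abelian

/-- Transport of `Ext`-vanishing along an isomorphism in the second variable. -/
lemma ext_eq_zero_of_iso {P A B : C} (e : A ≅ B) (n : ℕ) (h : ∀ x : Ext P A n, x = 0)
    (x : Ext P B n) : x = 0 := by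
  have h1 : (x.comp (Ext.mk₀ e.inv) (add_zero n)).comp (Ext.mk₀ e.hom) (add_zero n) = x := by
    rw [Ext.comp_assoc_of_third_deg_zero, Ext.mk₀_comp_mk₀, e.inv_hom_id, Ext.comp_mk₀_id]
  rw [← h1, h (x.comp (Ext.mk₀ e.inv) (add_zero n)), Ext.zero_comp]

/-- The short complex `ker a ⟶ A ⟶ ker b` associated to `A ⟶ B ⟶ D` with zero composition. -/
noncomputable abbrev kerSC {A B D : C} (a : A ⟶ B) (b : B ⟶ D) (w : a ≫ b = 0) : ShortComplex C :=
  ShortComplex.mk (kernel.ι a) (kernel.lift b a w) (by
    rw [← cancel_mono (kernel.ι b), Category.assoc, kernel.lift_ι, kernel.condition, zero_comp])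

lemma kerSC_shortExact {A B D : C} (a : A ⟶ B) (b : B ⟶ D) (w : a ≫ b = 0)
    (hex : (ShortComplex.mk a b w).Exact) : (kerSC a b w).ShortExact := by
  have hepi : Epi (kernel.lift b a w) :=
    (ShortComplex.exact_iff_epi_kernel_lift (ShortComplex.mk a b w)).1 hex
  have hexact : (kerSC a b w).Exact := by
    apply ShortComplex.exact_of_f_is_kernel
    exact KernelFork.IsLimit.ofι _ _ (fun {W} k hk => kernel.lift a k (by
        have h := hk =≫ kernel.ι b
        rw [Category.assoc, kernel.lift_ι, zero_comp] at h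
        exact h)) (fun k hk => kernel.lift_ι _ _ _) (fun k hk m hm => by
        apply (cancel_mono (kernel.ι a)).1
        rw [kernel.lift_ι]
        exact hm)
  exact { exact := hexact, mono_f := inferInstanceAs (Mono (kernel.ι a)), epi_g := hepi }

theorem exists_lift (P : C) (F : ChainComplex C ℕ) (r : ℕ)
    (hmono : Mono (F.d (r + 1) r)) (hepi : Epi (F.d 1 0))
    (hex : ∀ j : ℕ, 1 ≤ j → j < r + 1 → F.ExactAt j)
    (hvan : ∀ i : ℕ, i + 2 ≤ r + 1 → ∀ x : Ext P (F.X (i + 2)) (i + 1), x = 0)
    (g : P ⟶ F.X 0) : ∃ g' : P ⟶ F.X 1, g' ≫ F.d 1 0 = g := by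
  have hsc : ∀ i, i + 1 < r + 1 → (ShortComplex.mk (F.d (i + 2) (i + 1)) (F.d (i + 1) i)
      (F.d_comp_d _ _ _)).Exact := by
    intro i hi
    exact (F.exactAt_iff' (i + 2) (i + 1) i (by simp) (by simp)).1 (hex (i + 1) (by omega) hi)
  have A : ∀ k i : ℕ, i + k + 1 = r →
      ∀ x : Ext P (kernel (F.d (i + 1) i)) (i + 1), x = 0 := by
    intro k
    induction k with
    | zero =>
      intro i hi x
      have hr : r = i + 1 := by omega
      subst hr
      have hS := kerSC_shortExact (F.d (i + 2) (i + 1)) (F.d (i + 1) i) (F.d_comp_d _ _ _)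
        (hsc i (by omega))
      have hm : Mono (kernel.lift (F.d (i + 1) i) (F.d (i + 2) (i + 1)) (F.d_comp_d _ _ _)) := by
        have : Mono (kernel.lift (F.d (i + 1) i) (F.d (i + 2) (i + 1)) (F.d_comp_d _ _ _) ≫
            kernel.ι (F.d (i + 1) i)) := by
          rw [kernel.lift_ι]
          exact hmono
        exact mono_of_mono _ (kernel.ι (F.d (i + 1) i))
      have he : Epi (kernel.lift (F.d (i + 1) i) (F.d (i + 2) (i + 1)) (F.d_comp_d _ _ _)) :=
        hS.epi_g
      have hiso : IsIso (kernel.lift (F.d (i + 1) i) (F.d (i + 2) (i + 1))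
        (F.d_comp_d _ _ _)) := isIso_of_mono_of_epi _
      exact ext_eq_zero_of_iso (asIso (kernel.lift (F.d (i + 1) i) (F.d (i + 2) (i + 1))
        (F.d_comp_d _ _ _))) (i + 1) (hvan i (by omega)) x
    | succ k ih =>
      intro i hi x
      have hS := kerSC_shortExact (F.d (i + 2) (i + 1)) (F.d (i + 1) i) (F.d_comp_d _ _ _)
        (hsc i (by omega))
      obtain ⟨x₂, hx₂⟩ := Ext.covariant_sequence_exact₃ P hS x (rfl : i + 1 + 1 = i + 2)
        (ih (i + 1) (by omega) _)
      have hx0 : x₂ = 0 := hvan i (by omega) x₂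
      rw [← hx₂, hx0, Ext.zero_comp]
  rcases Nat.eq_zero_or_pos r with hr | hr
  · subst hr
    have hm : Mono (F.d 1 0) := hmono
    have : IsIso (F.d 1 0) := isIso_of_mono_of_epi _
    exact ⟨g ≫ inv (F.d 1 0), by simp⟩
  · have hK : ∀ x : Ext P (kernel (F.d 1 0)) 1, x = 0 := A (r - 1) 0 (by omega)
    let S : ShortComplex C := ShortComplex.mk (kernel.ι (F.d 1 0)) (F.d 1 0) (kernel.condition _)
    have hS : S.ShortExact :=
      { exact := ShortComplex.exact_of_f_is_kernel _ (kernelIsKernel _)
        mono_f := inferInstanceAs (Mono (kernel.ι (F.d 1 0)))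
        epi_g := hepi }
    obtain ⟨x₂, hx₂⟩ := Ext.covariant_sequence_exact₃ P hS (Ext.mk₀ g) (rfl : 0 + 1 = 1) (hK _)
    obtain ⟨g', rfl⟩ := (Ext.mk₀_bijective _ _).2 x₂
    rw [Ext.mk₀_comp_mk₀] at hx₂
    exact ⟨g', (Ext.mk₀_bijective _ _).1 hx₂⟩

end Abstract


/-- Let X be a topological space, r ≥ 1 an integer and 0 → F_r → ⋯ → F_2 → F_1 → F_0 → 0 an exact
sequence of sheaves of abelian groups on X, presented as a chain complex F of abelian sheaves
indexed by the natural numbers whose differential F_r → F_{r−1} is a monomorphism, whose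
differential F_1 → F_0 is an epimorphism of sheaves, and which is exact at F_j for 1 ≤ j ≤ r − 1
(for r = 1 the single map F_1 → F_0 is mono and epi). Assume the sheaf cohomology groups H^{j−1}(X,
F_j) vanish for 2 ≤ j ≤ r. Then the map on global sections F_1(X) → F_0(X) is surjective. (The
instance hypothesis that the category of abelian sheaves on X has Ext groups in the universe of X
holds for every X, abelian sheaves on a space forming a Grothendieck abelian category; it is the
setting in which sheaf cohomology is defined.) -/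
theorem result (X : TopCat.{u})
    [HasExt.{u} (Sheaf (Opens.grothendieckTopology X) AddCommGrpCat.{u})]
    (r : ℕ) (hr : 1 ≤ r)
    (F : ChainComplex (Sheaf (Opens.grothendieckTopology X) AddCommGrpCat.{u}) ℕ)
    (hmono : Mono (F.d r (r - 1))) (hepi : Epi (F.d 1 0))
    (hex : ∀ j : ℕ, 1 ≤ j → j < r → F.ExactAt j)
    (hvan : ∀ j : ℕ, 2 ≤ j → j ≤ r → Subsingleton (Sheaf.H (F.X j) (j - 1))) :
    Function.Surjective ((F.d 1 0).hom.app (Opposite.op ⊤)) := by
  obtain ⟨r', rfl⟩ : ∃ r', r = r' + 1 := ⟨r - 1, by omega⟩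
  intro s
  let rep := Groth.Agent.H42.CohTopLib.secRepConst X
  have hmono' : Mono (F.d (r' + 1) r') := by simpa using hmono
  obtain ⟨g', hg'⟩ := exists_lift (Groth.Agent.H42.CohTopLib.constZ X) F r' hmono' hepi hex
    (fun i hi x => by
      have h := hvan (i + 2) (by omega) hi
      have e : i + 2 - 1 = i + 1 := by omega
      rw [e] at h
      exact Subsingleton.elim _ _) ((rep.e (F.X 0)).symm s)
  refine ⟨rep.e (F.X 1) g', ?_⟩
  have h := rep.nat g' (F.d 1 0)
  rw [hg', Equiv.apply_symm_apply] at h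
  exact h.symm

end Groth.Agent.S14060
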