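import Groth.Statements.S14064
import Mathlib
import Groth.Agent.H18.SectionIntegral
import Groth.Agent.H18.AmpleTensor
import Groth.Agent.H8.InvTensor

set_option autoImplicit false
set_option maxHeartbeats 400000
set_option backward.isDefEq.respectTransparency.types false
universe u
open CategoryTheory CategoryTheory.Limits AlgebraicGeometry TopologicalSpace
open Surf

namespace Groth.Agent.S14064
open Groth.Agent.H18 Groth.Agent.H18.SectionIntegral Groth.Agent.H18.TensorGen
  Groth.Agent.H18.TensorPowIso Groth.Agent.H18.SecTw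

set_option backward.isDefEq.respectTransparency.types false in
/-- A nontrivial `H⁰(X, N)` gives a nonzero global section `O ⟶ N`. -/
theorem exists_hom_ne_zero {X : Scheme.{u}} (N : X.Modules) (h : Nontrivial (Coh.HH X N 0)) :
    ∃ s : Coh.structureModule X ⟶ N, s ≠ 0 := by
  let e : Coh.HH X N 0 ≃+ (Coh.toAb N).obj.obj (Opposite.op (⊤ : Opens X)) :=
    Sheaf.H.equiv₀ (Coh.toAb N) (T := (⊤ : Opens X)) isTerminalTop
  obtain ⟨x, hx⟩ := exists_ne (0 : Coh.HH X N 0)
  have hex : e x ≠ 0 := fun h0 => hx (e.injective (h0.trans e.map_zero.symm))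
  let t : Γ(N, ⊤) := e x
  refine ⟨secHom N t, fun h0 => hex ?_⟩
  have h1 := sv_secHom N t ⊤
  rw [h0, sv_zero] at h1
  have h2 : N.presheaf.map (homOfLE (le_top : (⊤ : X.Opens) ≤ ⊤)).op t = t := res_self' N t
  rw [h2] at h1
  exact h1.symm

/-- Fix a field k, an integral proper k-scheme X, and an invertible O_X-module L with tensor inverse M.
Suppose that L^{⊗j} has a nonzero global section for every j ≥ 4 and that no tensor power L^{⊗j}
with j ≥ 1 is isomorphic to O_X. Then H⁰(X, M^{⊗i}) = 0 for every i ≥ 1: the negative powers of L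
have no nonzero global sections. (The published statement is for the canonical module of a minimal
surface of general type over an algebraically closed field, where the fourth and higher powers are
globally generated by a deep result quoted without proof, and non-triviality of the positive powers
comes from bigness; the published deduction of this part uses exactly the two hypotheses carried
here, on an integral proper X.) -/
theorem result (k : Type u) [Field k]
    (X : Scheme.{u}) [X.Over (Spec (CommRingCat.of k))] [IsProper (X ↘ (Spec (CommRingCat.of k)))] [IsIntegral X]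
    (L M : X.Modules) (hL : PicF.IsInvertible L) (hM : ClSub.IsInverseOf M L)
    (hsec : ∀ j : ℕ, 4 ≤ j → Nontrivial (Coh.HH X (CohB1.tensorPow L j) 0))
    (hnt : ∀ j : ℕ, 1 ≤ j → IsEmpty (CohB1.tensorPow L j ≅ Coh.structureModule X))
    (i : ℕ) (hi : 1 ≤ i) :
    Subsingleton (Coh.HH X (CohB1.tensorPow M i) 0) := by
  obtain ⟨eML⟩ := hM
  have hMinv : PicF.IsInvertible M := Groth.Agent.H8.InvTensor.isInvertible_of_tensor_iso M L eML
  by_contra hcon
  rw [not_subsingleton_iff_nontrivial] at hcon
  obtain ⟨s, hs⟩ := exists_hom_ne_zero (CohB1.tensorPow M i) hcon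
  obtain ⟨t, ht⟩ := exists_hom_ne_zero (CohB1.tensorPow L (i * 4)) (hsec (i * 4) (by omega))
  obtain ⟨e1⟩ := nonempty_tensorPow_tensorPow hMinv i 4
  have hMi : PicF.IsInvertible (CohB1.tensorPow M i) := isInvertible_tensorPow hMinv i
  have hs4 : SecTwist.powHom s 4 ≫ e1.hom ≠ 0 := by
    intro h0
    apply powHom_ne_zero hMi s hs 4
    rw [← cancel_mono e1.hom, h0, Limits.zero_comp]
  obtain ⟨e2⟩ := AmpleTensor.nonempty_tensorPow_tensorMod hMinv hL (i * 4)
  obtain ⟨e3⟩ := AmpleIso.nonempty_tensorPow_iso eML (i * 4)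
  obtain ⟨e4⟩ := QAffAmple.nonempty_tensorPow_unit_iso (X := X) (i * 4)
  have hMn := isInvertible_tensorPow hMinv (i * 4)
  have hLn := isInvertible_tensorPow hL (i * 4)
  have hfield : IsField (Γ(X, ⊤) : Type u) :=
    isField_of_universallyClosed k (X ↘ (Spec (CommRingCat.of k)))
  have hp : SecTwist.tmulHom (SecTwist.powHom s 4 ≫ e1.hom) t ≠ 0 :=
    tmulHom_ne_zero hMn hLn _ t hs4 ht
  have hu : SecTwist.tmulHom (SecTwist.powHom s 4 ≫ e1.hom) t ≫ (e2 ≪≫ e3 ≪≫ e4).hom ≠ 0 := by
    intro h0
    apply hp
    rw [← cancel_mono (e2 ≪≫ e3 ≪≫ e4).hom, h0, Limits.zero_comp]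
  have h1 := genLocus_eq_top_of_ne_zero hfield _ hu
  rw [TwistAmple.genLocus_comp_iso, genLocus_tmulHom hMn hLn] at h1
  have h2 : CohB1.genLocus _ t = ⊤ := top_le_iff.mp (h1 ▸ inf_le_right)
  have h3 := isIso_of_genLocus_eq_top t h2
  exact (hnt (i * 4) (by omega)).false (asIso t).symm

end Groth.Agent.S14064
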