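import Groth.Statements.S14066
import Groth.Agent.H18.LinEmb

set_option autoImplicit false
universe u
open CategoryTheory CategoryTheory.Limits AlgebraicGeometry TopologicalSpace
open Variety

namespace Groth.Agent.S14066

/-- Let k be a field, and let X₁ and X₂ be k-schemes with closed immersions i₁ : X₁ → P^n_k and i₂ : X₂
→ P^m_k over k. Then there is a closed immersion of the disjoint union X₁ ⨿ X₂ into P^{n+m+1}_k over
k, that is, compatible with the structure morphism of the coproduct induced by those of X₁ and X₂.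
(Stated as the step of the published proof showing that a disjoint union of two projective k-schemes
is projective.) -/
theorem result (k : Type u) [Field k] (n m : ℕ)
    (X₁ X₂ : Scheme.{u}) [X₁.Over (Spec (CommRingCat.of k))] [X₂.Over (Spec (CommRingCat.of k))]
    (i₁ : X₁ ⟶ CohB1.ProjSpace n k) [IsClosedImmersion i₁] (h₁ : i₁ ≫ CohB1.ProjSpace.toSpec n k = X₁ ↘ (Spec (CommRingCat.of k)))
    (i₂ : X₂ ⟶ CohB1.ProjSpace m k) [IsClosedImmersion i₂] (h₂ : i₂ ≫ CohB1.ProjSpace.toSpec m k = X₂ ↘ (Spec (CommRingCat.of k))) :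
    ∃ j : X₁ ⨿ X₂ ⟶ CohB1.ProjSpace (n + m + 1) k, IsClosedImmersion j ∧
      j ≫ CohB1.ProjSpace.toSpec (n + m + 1) k = coprod.desc (X₁ ↘ (Spec (CommRingCat.of k))) (X₂ ↘ (Spec (CommRingCat.of k))) := by
  classical
  let g₁ : Fin (n + m + 1 + 1) → MvPolynomial (Fin (n + 1)) k := fun i =>
    if h : i.val < n + 1 then MvPolynomial.X ⟨i.val, h⟩ else 0
  let e₁ : Fin (n + 1) → Fin (n + m + 1 + 1) := fun j => ⟨j.val, by omega⟩
  let g₂ : Fin (n + m + 1 + 1) → MvPolynomial (Fin (m + 1)) k := fun i =>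
    if h : n + 1 ≤ i.val then MvPolynomial.X ⟨i.val - (n + 1), by omega⟩ else 0
  let e₂ : Fin (m + 1) → Fin (n + m + 1 + 1) := fun j => ⟨n + 1 + j.val, by omega⟩
  have hg₁ : ∀ i, (g₁ i).IsHomogeneous 1 := by
    intro i
    show (if h : i.val < n + 1 then (MvPolynomial.X ⟨i.val, h⟩ : MvPolynomial (Fin (n + 1)) k) else 0).IsHomogeneous 1
    split_ifs
    · exact MvPolynomial.isHomogeneous_X _ _
    · exact MvPolynomial.isHomogeneous_zero _ _ _
  have hg₂ : ∀ i, (g₂ i).IsHomogeneous 1 := by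
    intro i
    show (if h : n + 1 ≤ i.val then (MvPolynomial.X ⟨i.val - (n + 1), by omega⟩ : MvPolynomial (Fin (m + 1)) k) else 0).IsHomogeneous 1
    split_ifs
    · exact MvPolynomial.isHomogeneous_X _ _
    · exact MvPolynomial.isHomogeneous_zero _ _ _
  have he₁ : ∀ j, g₁ (e₁ j) = MvPolynomial.X j := by
    intro j
    show (if h : (e₁ j).val < n + 1 then (MvPolynomial.X ⟨(e₁ j).val, h⟩ : MvPolynomial (Fin (n + 1)) k) else 0) = _
    rw [dif_pos (show (e₁ j).val < n + 1 from j.2)]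
  have he₂ : ∀ j, g₂ (e₂ j) = MvPolynomial.X j := by
    intro j
    show (if h : n + 1 ≤ (e₂ j).val then (MvPolynomial.X ⟨(e₂ j).val - (n + 1), by omega⟩ : MvPolynomial (Fin (m + 1)) k) else 0) = _
    rw [dif_pos (show n + 1 ≤ (e₂ j).val from Nat.le_add_right _ _)]
    congr 1
    apply Fin.ext
    show n + 1 + j.val - (n + 1) = j.val
    omega
  have hdis : ∀ j, g₂ (e₁ j) = 0 := by
    intro j
    show (if h : n + 1 ≤ (e₁ j).val then (MvPolynomial.X ⟨(e₁ j).val - (n + 1), by omega⟩ : MvPolynomial (Fin (m + 1)) k) else 0) = _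
    rw [dif_neg (show ¬ n + 1 ≤ (e₁ j).val from not_le.2 j.2)]
  let E₁ : CohB1.ProjSpace n k ⟶ CohB1.ProjSpace (n + m + 1) k := Groth.Agent.H18.LinEmb.emb k g₁ hg₁ e₁ he₁
  let E₂ : CohB1.ProjSpace m k ⟶ CohB1.ProjSpace (n + m + 1) k := Groth.Agent.H18.LinEmb.emb k g₂ hg₂ e₂ he₂
  haveI : IsClosedImmersion E₁ := inferInstanceAs (IsClosedImmersion (Groth.Agent.H18.LinEmb.emb k g₁ hg₁ e₁ he₁))
  haveI : IsClosedImmersion E₂ := inferInstanceAs (IsClosedImmersion (Groth.Agent.H18.LinEmb.emb k g₂ hg₂ e₂ he₂))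
  have hE₁ : E₁ ≫ CohB1.ProjSpace.toSpec (n + m + 1) k = CohB1.ProjSpace.toSpec n k :=
    Groth.Agent.H18.LinEmb.emb_toSpec k g₁ hg₁ e₁ he₁
  have hE₂ : E₂ ≫ CohB1.ProjSpace.toSpec (n + m + 1) k = CohB1.ProjSpace.toSpec m k :=
    Groth.Agent.H18.LinEmb.emb_toSpec k g₂ hg₂ e₂ he₂
  refine ⟨coprod.desc (i₁ ≫ E₁) (i₂ ≫ E₂), ?_, ?_⟩
  · refine Groth.Agent.H18.CoprodCI.isClosedImmersion_coprod_desc _ _ fun x y => ?_
    rw [Scheme.Hom.comp_apply, Scheme.Hom.comp_apply]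
    exact Groth.Agent.H18.LinEmb.emb_ne k g₁ hg₁ e₁ he₁ g₂ hg₂ e₂ he₂ hdis _ _
  · apply coprod.hom_ext
    · rw [coprod.inl_desc_assoc, coprod.inl_desc, Category.assoc, hE₁, h₁]
    · rw [coprod.inr_desc_assoc, coprod.inr_desc, Category.assoc, hE₂, h₂]

end Groth.Agent.S14066
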