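import Groth.Statements.S14078
import Groth.Agent.H65.FC78_SW
import Groth.Agent.H64.FC78_TOP

set_option autoImplicit false
open CategoryTheory CategoryTheory.Limits AlgebraicGeometry
universe u
open FamCyc

namespace Groth.Agent.S14078


/-- Let f : X ⟶ S be a morphism of schemes locally of finite type, i : Z ⟶ X an immersion such that Z ⟶
S is locally quasi-finite, and z a point of Z. Then there are an étale morphism g : T ⟶ S and an
open subscheme U of X ×_S T such that the preimage U ×_X Z of Z in U is finite over T and contains a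
point u over z whose residue field extension κ(z) → κ(u) is an isomorphism, u being moreover the
only point of U ×_X Z in its fibre over T. (The published statement covers algebraic spaces X, with
U ⟶ X ×_S T étale in general and an open subspace when X is a scheme; this row is the scheme case.) -/
theorem result {Z X S : Scheme.{u}} (f : X ⟶ S)
    [LocallyOfFiniteType f] (i : Z ⟶ X) [IsImmersion i] [LocallyQuasiFinite (i ≫ f)] (z : Z) :
    ∃ (T : Scheme.{u}) (g : T ⟶ S) (U : (pullback f g).Opens)
      (u : ↥(pullback (U.ι ≫ pullback.fst f g) i)),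
      Etale g ∧
      IsFinite (pullback.fst (U.ι ≫ pullback.fst f g) i ≫ U.ι ≫ pullback.snd f g) ∧
      (pullback.snd (U.ι ≫ pullback.fst f g) i).base u = z ∧
      IsIso ((pullback.snd (U.ι ≫ pullback.fst f g) i).residueFieldMap u) ∧
      ∀ u' : ↥(pullback (U.ι ≫ pullback.fst f g) i),
        (pullback.fst (U.ι ≫ pullback.fst f g) i ≫ U.ι ≫ pullback.snd f g).base u' =
          (pullback.fst (U.ι ≫ pullback.fst f g) i ≫ U.ι ≫ pullback.snd f g).base u → u' = u := by
  have hz : (i ≫ f).QuasiFiniteAt z := (i ≫ f).quasiFiniteAt z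
  obtain ⟨T, g, W, v, _, hg, hvW, hfin, hfst, hres, huniq⟩ :=
    Groth.Agent.H65.FC78SW.exists_etale_finite_unique_residue (i ≫ f) z hz
  obtain ⟨U, θ, hθ, hrange, hθfst, hθsnd⟩ :=
    Groth.Agent.H64.FC78_TOP.exists_opens_adapted f g i W
  have hv' : v ∈ Set.range θ := by rw [hrange]; exact hvW
  obtain ⟨u, hu⟩ := hv'
  subst hu
  refine ⟨T, g, U, u, hg, ?_, ?_, ?_, ?_⟩
  · rw [← hθsnd]
    have hr : Set.range θ = Set.range W.ι := by
      rw [hrange]; simp
    have hfac : θ = (IsOpenImmersion.isoOfRangeEq θ W.ι hr).hom ≫ W.ι :=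
      (IsOpenImmersion.isoOfRangeEq_hom_fac θ W.ι hr).symm
    rw [hfac, Category.assoc]
    haveI := hfin
    infer_instance
  · have h1 : (pullback.snd (U.ι ≫ pullback.fst f g) i) u =
        (θ ≫ pullback.fst (i ≫ f) g) u := by rw [hθfst]
    exact h1.trans hfst
  · rw [Scheme.Hom.residueFieldMap_congr hθfst.symm, Scheme.residueFieldMap_comp]
    haveI := hres
    haveI := hθ
    haveI h5 : IsIso (θ.residueFieldMap u) := inferInstance
    refine @IsIso.comp_isIso _ _ _ _ _ _ _ inferInstance ?_
    exact @IsIso.comp_isIso _ _ _ _ _ _ _ hres h5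
  · intro u' hu'
    have h2 : (θ ≫ pullback.snd (i ≫ f) g) u' = (θ ≫ pullback.snd (i ≫ f) g) u := by
      rw [hθsnd]; exact hu'
    have h3 : θ u' ∈ W := by
      have : θ u' ∈ Set.range θ := ⟨u', rfl⟩
      rw [hrange] at this; exact this
    exact θ.injective (huniq _ h3 h2)

end Groth.Agent.S14078
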