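import Groth.Statements.S14085
import Groth.Agent.H70.Flat

set_option autoImplicit false
universe u
open FlatMor

namespace Groth.Agent.S14085

theorem result (R A B : Type u) [CommRing R] [CommRing A] [CommRing B]
    [Algebra R A] [Algebra R B] [Module.Flat R A] [Module.Flat R B] (I : Ideal A)
    [Algebra B (A ⧸ I)] [IsScalarTower R B (A ⧸ I)] [Module.Finite B (A ⧸ I)] [Module.Flat B (A ⧸ I)]
    (hinj : Function.Injective (algebraMap B (A ⧸ I))) :
    Module.Flat R ↥(AlgHom.equalizer ((IsScalarTower.toAlgHom R B (A ⧸ I)).comp (AlgHom.fst R B A))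
          ((Ideal.Quotient.mkₐ R I).comp (AlgHom.snd R B A))) := by
  haveI : Module.Flat R (A ⧸ I) := Module.Flat.trans R B (A ⧸ I)
  haveI : Module.Flat R (B × A) := Groth.Agent.H70.flat_prod R B A
  set φ₁ := (IsScalarTower.toAlgHom R B (A ⧸ I)).comp (AlgHom.fst R B A) with hφ₁
  set φ₂ := (Ideal.Quotient.mkₐ R I).comp (AlgHom.snd R B A) with hφ₂
  let E := AlgHom.equalizer φ₁ φ₂
  let g : E →ₗ[R] B × A := E.val.toLinearMap
  let f : B × A →ₗ[R] A ⧸ I := φ₁.toLinearMap - φ₂.toLinearMap
  have hg : Function.Injective g := Subtype.val_injective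
  have hf : Function.Surjective f := by
    intro z
    obtain ⟨a, rfl⟩ := Ideal.Quotient.mk_surjective z
    refine ⟨(0, -a), ?_⟩
    simp [f, φ₁, φ₂]
  have hex : Function.Exact g f := by
    intro x
    constructor
    · intro hx
      have : x ∈ E := by
        rw [AlgHom.mem_equalizer]
        have : φ₁ x - φ₂ x = 0 := hx
        exact sub_eq_zero.mp this
      exact ⟨⟨x, this⟩, rfl⟩
    · rintro ⟨y, rfl⟩
      have := (AlgHom.mem_equalizer φ₁ φ₂ y.1).mp y.2
      show φ₁ y.1 - φ₂ y.1 = 0
      rw [this, sub_self]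
  exact Groth.Agent.H70.flat_of_exact g f hg hf hex

end Groth.Agent.S14085
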