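import Groth.Statements.S14086
import Groth.Agent.H70.Flat
import Groth.Agent.H70.FFlat

set_option autoImplicit false
set_option linter.style.haveILetI false
universe u
open FlatMor

namespace Groth.Agent.S14086

open TensorProduct in
theorem result (R A B R' : Type u) [CommRing R] [CommRing A]
    [CommRing B] [CommRing R'] [Algebra R A] [Algebra R B] [Algebra R R'] [Module.Flat R A] [Module.Flat R B]
    (I : Ideal A) [Algebra B (A ⧸ I)] [IsScalarTower R B (A ⧸ I)] [Module.Finite B (A ⧸ I)] [Module.Flat B (A ⧸ I)]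
    (hinj : Function.Injective (algebraMap B (A ⧸ I))) :
    Function.Injective (Algebra.TensorProduct.map (AlgHom.id R' R')
        ((AlgHom.snd R B A).comp (AlgHom.equalizer ((IsScalarTower.toAlgHom R B (A ⧸ I)).comp (AlgHom.fst R B A))
          ((Ideal.Quotient.mkₐ R I).comp (AlgHom.snd R B A))).val)) ∧
    ∀ (b : TensorProduct R R' B) (a : TensorProduct R R' A),
      Algebra.TensorProduct.map (AlgHom.id R' R') (IsScalarTower.toAlgHom R B (A ⧸ I)) b =
        Algebra.TensorProduct.map (AlgHom.id R' R') (Ideal.Quotient.mkₐ R I) a →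
      ∃ x : TensorProduct R R' ↥(AlgHom.equalizer ((IsScalarTower.toAlgHom R B (A ⧸ I)).comp (AlgHom.fst R B A))
          ((Ideal.Quotient.mkₐ R I).comp (AlgHom.snd R B A))),
        Algebra.TensorProduct.map (AlgHom.id R' R') ((AlgHom.fst R B A).comp (AlgHom.equalizer ((IsScalarTower.toAlgHom R B (A ⧸ I)).comp (AlgHom.fst R B A))
          ((Ideal.Quotient.mkₐ R I).comp (AlgHom.snd R B A))).val) x = b ∧
        Algebra.TensorProduct.map (AlgHom.id R' R') ((AlgHom.snd R B A).comp (AlgHom.equalizer ((IsScalarTower.toAlgHom R B (A ⧸ I)).comp (AlgHom.fst R B A))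
          ((Ideal.Quotient.mkₐ R I).comp (AlgHom.snd R B A))).val) x = a := by
  haveI : Module.Flat R (A ⧸ I) := Module.Flat.trans R B (A ⧸ I)
  haveI : Module.FaithfullyFlat B (A ⧸ I) :=
    Groth.Agent.H70.faithfullyFlat_of_finite_of_injective B (A ⧸ I) hinj
  set φ := IsScalarTower.toAlgHom R B (A ⧸ I) with hφ
  set mk := Ideal.Quotient.mkₐ R I with hmk
  set φ₁ := φ.comp (AlgHom.fst R B A) with hφ₁
  set φ₂ := mk.comp (AlgHom.snd R B A) with hφ₂
  set E := AlgHom.equalizer φ₁ φ₂ with hE
  let g : E →ₗ[R] B × A := E.val.toLinearMap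
  let f : B × A →ₗ[R] A ⧸ I := φ₁.toLinearMap - φ₂.toLinearMap
  have hg : Function.Injective g := Subtype.val_injective
  have hf : Function.Surjective f := by
    intro z
    obtain ⟨a, rfl⟩ := Ideal.Quotient.mk_surjective z
    refine ⟨(0, -a), ?_⟩
    simp [f, φ₁, φ₂, mk]
  have hex : Function.Exact g f := by
    intro x
    constructor
    · intro hx
      have : x ∈ E := by
        rw [AlgHom.mem_equalizer]
        have : φ₁ x - φ₂ x = 0 := hx
        exact sub_eq_zero.mp this
      exact ⟨⟨x, this⟩, rfl⟩
    · rintro ⟨y, rfl⟩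
      have := (AlgHom.mem_equalizer φ₁ φ₂ y.1).mp y.2
      show φ₁ y.1 - φ₂ y.1 = 0
      rw [this, sub_self]
  have hexT : Function.Exact (g.lTensor R') (f.lTensor R') := lTensor_exact R' hex hf
  have hinjT : Function.Injective (g.lTensor R') :=
    LinearMap.lTensor_injective_of_exact_of_flat f hf g hg hex R'
  let e := TensorProduct.prodRight R R R' B A
  have hd : ∀ z : R' ⊗[R] (B × A), f.lTensor R' z =
      φ.toLinearMap.lTensor R' (e z).1 - mk.toLinearMap.lTensor R' (e z).2 := by
    intro z
    induction z using TensorProduct.induction_on with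
    | zero => simp
    | tmul r ba => simp [e, f, φ₁, φ₂]
    | add x y hx hy => simp only [map_add, hx, hy, Prod.fst_add, Prod.snd_add]; abel
  have he : ∀ x : R' ⊗[R] E, e (g.lTensor R' x) =
      (((AlgHom.fst R B A).comp E.val).toLinearMap.lTensor R' x,
        ((AlgHom.snd R B A).comp E.val).toLinearMap.lTensor R' x) := by
    intro x
    induction x using TensorProduct.induction_on with
    | zero => simp; rfl
    | tmul r y => simp [e, g]
    | add x y hx hy => simp only [map_add, hx, hy, Prod.mk_add_mk]
  have hP : Function.Injective (φ.toLinearMap.lTensor R') :=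
    Groth.Agent.H70.lTensor_injective_of_faithfullyFlat R B (A ⧸ I) R'
  constructor
  · show Function.Injective (((AlgHom.snd R B A).comp E.val).toLinearMap.lTensor R')
    rw [← LinearMap.ker_eq_bot, LinearMap.ker_eq_bot']
    intro x hx
    have h1 := he x
    rw [hx] at h1
    have h2 : f.lTensor R' (g.lTensor R' x) = 0 := hexT.apply_apply_eq_zero x
    rw [hd, h1] at h2
    simp only [map_zero, sub_zero] at h2
    have h3 := hP (by rw [h2, map_zero] :
      φ.toLinearMap.lTensor R' (((AlgHom.fst R B A).comp E.val).toLinearMap.lTensor R' x) =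
        φ.toLinearMap.lTensor R' 0)
    rw [h3] at h1
    have h4 : g.lTensor R' x = 0 := e.injective (by rw [h1, map_zero]; rfl)
    exact hinjT (by rw [h4, map_zero])
  · intro b a hba
    have hba' : φ.toLinearMap.lTensor R' b = mk.toLinearMap.lTensor R' a := hba
    have hz : f.lTensor R' (e.symm (b, a)) = 0 := by
      rw [hd, LinearEquiv.apply_symm_apply, hba', sub_self]
    obtain ⟨x, hx⟩ := (hexT _).mp hz
    refine ⟨x, ?_⟩
    have h1 := he x
    rw [hx, LinearEquiv.apply_symm_apply] at h1
    exact ⟨(congrArg Prod.fst h1).symm, (congrArg Prod.snd h1).symm⟩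

end Groth.Agent.S14086
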