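import Groth.Statements.S14087
import Mathlib

set_option autoImplicit false
set_option linter.style.haveILetI false
set_option linter.unusedSectionVars false
universe u
open ArSing

namespace Groth.Agent.S14087

section Helpers

open Polynomial

/-- A `k`-algebra all of whose elements are `c + a * y` with `a` nilpotent is `k[x]/(x^m)`. -/
theorem curvilinear {k R : Type u} [Field k] [CommRing R] [Algebra k R] (a : R)
    (hnil : ∃ r : ℕ, a ^ r = 0)
    (hdec : ∀ x : R, ∃ (c : k) (y : R), x = algebraMap k R c + a * y) :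
    ∃ m : ℕ, Nonempty (R ≃ₐ[k] (Polynomial k ⧸ Ideal.span {(X : Polynomial k) ^ m})) := by
  classical
  obtain ⟨r, hr⟩ := hnil
  let φ : Polynomial k →ₐ[k] R := Polynomial.aeval a
  have hφX : φ Polynomial.X = a := Polynomial.aeval_X _
  have hφC : ∀ c : k, φ (Polynomial.C c) = algebraMap k R c := fun c =>
    Polynomial.aeval_C _ c
  have hφsurj : Function.Surjective φ := by
    have key : ∀ m : ℕ, ∀ x : R, ∃ (p : Polynomial k) (y : R),
        x = φ p + a ^ m * y := by
      intro m
      induction m with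
      | zero => intro x; exact ⟨0, x, by simp⟩
      | succ m ih =>
        intro x
        obtain ⟨p, y, hxy⟩ := ih x
        obtain ⟨c, y', hy'⟩ := hdec y
        refine ⟨p + Polynomial.C c * Polynomial.X ^ m, y', ?_⟩
        rw [hxy, hy', map_add, map_mul, map_pow, hφX, hφC]
        ring
    intro x
    obtain ⟨p, y, hxy⟩ := key r x
    exact ⟨p, by rw [hxy, hr, zero_mul, add_zero]⟩
  have hXr : (Polynomial.X : Polynomial k) ^ r ∈ RingHom.ker φ := by
    rw [RingHom.mem_ker, map_pow, hφX]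
    exact hr
  obtain ⟨p, hp⟩ := (IsPrincipalIdealRing.principal (RingHom.ker φ)).principal
  have hdvd : p ∣ Polynomial.X ^ r := by
    have h1 : (Polynomial.X : Polynomial k) ^ r ∈ Ideal.span {p} := by
      rw [Ideal.span, ← hp]
      exact hXr
    exact Ideal.mem_span_singleton.mp h1
  obtain ⟨s, -, hs⟩ := (dvd_prime_pow Polynomial.prime_X r).mp hdvd
  have hker : RingHom.ker φ = Ideal.span {(Polynomial.X : Polynomial k) ^ s} := by
    rw [hp]
    exact Ideal.span_singleton_eq_span_singleton.mpr hs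
  let e1 : (Polynomial k ⧸ RingHom.ker φ) ≃ₐ[k] R :=
    Ideal.quotientKerAlgEquivOfSurjective hφsurj
  let e2 : (Polynomial k ⧸ RingHom.ker φ) ≃ₐ[k]
      (Polynomial k ⧸ Ideal.span {(Polynomial.X : Polynomial k) ^ s}) :=
    Ideal.quotientEquivAlgOfEq k hker
  exact ⟨s, ⟨e1.symm.trans e2⟩⟩

variable {k : Type u} [Field k] {n : ℕ}

theorem root_pow_eq_zero :
    (Ideal.Quotient.mk (Ideal.span {(X : Polynomial k) ^ n}) X) ^ n = 0 := by
  rw [← map_pow]
  exact Ideal.Quotient.eq_zero_iff_mem.mpr (Ideal.mem_span_singleton_self _)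

theorem exists_decomp (b : Polynomial k ⧸ Ideal.span {(X : Polynomial k) ^ n}) :
    ∃ (c : k) (b' : Polynomial k ⧸ Ideal.span {(X : Polynomial k) ^ n}),
      b = algebraMap k _ c + Ideal.Quotient.mk _ X * b' := by
  obtain ⟨p, rfl⟩ := Ideal.Quotient.mk_surjective b
  refine ⟨p.coeff 0, Ideal.Quotient.mk _ p.divX, ?_⟩
  rw [IsScalarTower.algebraMap_apply k (Polynomial k)
    (Polynomial k ⧸ Ideal.span {(X : Polynomial k) ^ n}), Ideal.Quotient.algebraMap_eq,
    ← Polynomial.C_eq_algebraMap, ← map_mul, ← map_add]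
  congr 1
  conv_lhs => rw [← Polynomial.divX_mul_X_add p]
  ring

theorem exists_span_eq_pow (b : Polynomial k ⧸ Ideal.span {(X : Polynomial k) ^ n}) :
    ∃ j : ℕ, Ideal.span {b} =
      Ideal.span {(Ideal.Quotient.mk (Ideal.span {(X : Polynomial k) ^ n}) X) ^ j} := by
  classical
  obtain ⟨p, rfl⟩ := Ideal.Quotient.mk_surjective b
  have hd := EuclideanDomain.span_gcd p ((X : Polynomial k) ^ n)
  have hdvd : EuclideanDomain.gcd p ((X : Polynomial k) ^ n) ∣ X ^ n :=
    EuclideanDomain.gcd_dvd_right _ _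
  obtain ⟨j, -, hj⟩ := (dvd_prime_pow Polynomial.prime_X n).mp hdvd
  have hd' : Ideal.span {(X : Polynomial k) ^ j} = Ideal.span {p, X ^ n} := by
    rw [← hd]
    exact (Ideal.span_singleton_eq_span_singleton.mpr hj).symm
  refine ⟨j, le_antisymm ?_ ?_⟩
  · rw [Ideal.span_singleton_le_span_singleton, ← map_pow]
    have h1 : p ∈ Ideal.span {(X : Polynomial k) ^ j} := by
      rw [hd']; exact Ideal.subset_span (by simp)
    exact map_dvd _ (Ideal.mem_span_singleton.mp h1)
  · rw [Ideal.span_singleton_le_span_singleton]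
    have h1 : (X : Polynomial k) ^ j ∈ Ideal.span {p, X ^ n} := by
      rw [← hd']; exact Ideal.mem_span_singleton_self _
    obtain ⟨u, v, huv⟩ := Ideal.mem_span_pair.mp h1
    refine ⟨Ideal.Quotient.mk _ u, ?_⟩
    rw [← map_pow, ← huv, map_add, map_mul, map_mul]
    have h0 : Ideal.Quotient.mk (Ideal.span {(X : Polynomial k) ^ n}) (X ^ n) = 0 :=
      Ideal.Quotient.eq_zero_iff_mem.mpr (Ideal.mem_span_singleton_self _)
    rw [h0, mul_zero, add_zero, mul_comm]

theorem one_notMem_span_root (hn : 0 < n) :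
    (1 : Polynomial k ⧸ Ideal.span {(X : Polynomial k) ^ n}) ∉
      Ideal.span {Ideal.Quotient.mk (Ideal.span {(X : Polynomial k) ^ n}) X} := by
  intro h
  obtain ⟨s, hs⟩ := Ideal.mem_span_singleton.mp h
  have h1 : (1 : Polynomial k ⧸ Ideal.span {(X : Polynomial k) ^ n}) = 0 := by
    calc (1 : Polynomial k ⧸ Ideal.span {(X : Polynomial k) ^ n}) = 1 ^ n := (one_pow n).symm
      _ = (Ideal.Quotient.mk _ X * s) ^ n := by rw [← hs]
      _ = 0 := by rw [mul_pow, root_pow_eq_zero, zero_mul]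
  have h2 : (1 : Polynomial k) ∈ Ideal.span {(X : Polynomial k) ^ n} := by
    rw [← Ideal.Quotient.eq_zero_iff_mem, map_one]; exact h1
  have h3 : IsUnit ((X : Polynomial k) ^ n) :=
    Ideal.span_singleton_eq_top.mp ((Ideal.eq_top_iff_one _).mpr h2)
  exact Polynomial.not_isUnit_X ((isUnit_pow_iff hn.ne').mp h3)

end Helpers


open Polynomial in
/-- Over an algebraically closed field k, if B = k[t]/(t^n) with n ≥ 1 is flat over a k-subalgebra A ⊆ B
(a finite flat extension of pointed finite algebras with curvilinear top), then A is curvilinear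
too: A is isomorphic as a k-algebra to k[t]/(t^m) for some m. -/
theorem result (k : Type u) [Field k] [IsAlgClosed k]
    (n : ℕ) (hn : 0 < n)
    (A : Subalgebra k (Polynomial k ⧸ Ideal.span {(X : Polynomial k) ^ n}))
    [Module.Flat A (Polynomial k ⧸ Ideal.span {(X : Polynomial k) ^ n})] :
    ∃ m : ℕ, Nonempty (A ≃ₐ[k] (Polynomial k ⧸ Ideal.span {(X : Polynomial k) ^ m})) := by
  classical
  set t := Ideal.Quotient.mk (Ideal.span {(X : Polynomial k) ^ n}) X with ht
  -- the maximal ideal of A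
  let 𝔪 : Ideal A := Ideal.comap (algebraMap A (Polynomial k ⧸ Ideal.span {(X : Polynomial k) ^ n}))
    (Ideal.span {t})
  have hmem : ∀ x : A, x ∈ 𝔪 ↔ (x : Polynomial k ⧸ Ideal.span {(X : Polynomial k) ^ n}) ∈
      Ideal.span {t} := fun x => Iff.rfl
  have hmnil : ∀ x : A, x ∈ 𝔪 → x ^ n = 0 := by
    intro x hx
    obtain ⟨s, hs⟩ := Ideal.mem_span_singleton.mp ((hmem x).mp hx)
    apply Subtype.ext
    rw [SubmonoidClass.coe_pow, hs, mul_pow, root_pow_eq_zero, zero_mul]
    rfl
  have hdecA : ∀ x : A, ∃ (c : k) (y : A), y ∈ 𝔪 ∧ x = algebraMap k A c + y := by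
    intro x
    obtain ⟨c, b', hb'⟩ := exists_decomp (x : Polynomial k ⧸ Ideal.span {(X : Polynomial k) ^ n})
    refine ⟨c, x - algebraMap k A c, ?_, by ring⟩
    rw [hmem]
    have : ((x - algebraMap k A c : A) : Polynomial k ⧸ Ideal.span {(X : Polynomial k) ^ n}) =
        t * b' := by
      rw [AddSubgroupClass.coe_sub, hb']
      simp
      rfl
    rw [this]
    exact Ideal.mul_mem_right _ _ (Ideal.mem_span_singleton_self _)
  have hunit : ∀ x : A, x ∉ 𝔪 → IsUnit x := by
    intro x hx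
    obtain ⟨c, y, hy, hxy⟩ := hdecA x
    have hc : c ≠ 0 := by
      rintro rfl
      apply hx
      rw [hxy, map_zero, zero_add]
      exact hy
    rw [hxy]
    exact IsNilpotent.isUnit_add_left_of_commute ⟨n, hmnil y hy⟩
      ((isUnit_iff_ne_zero.mpr hc).map (algebraMap k A)) (Commute.all _ _)
  -- choose a generator of minimal order
  have hex : ∃ j : ℕ, ∃ x : A, x ∈ 𝔪 ∧
      Ideal.span {(x : Polynomial k ⧸ Ideal.span {(X : Polynomial k) ^ n})} =
        Ideal.span {t ^ j} := by
    obtain ⟨j, hj⟩ := exists_span_eq_pow ((0 : A) : Polynomial k ⧸ Ideal.span {(X : Polynomial k) ^ n})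
    exact ⟨j, 0, 𝔪.zero_mem, hj⟩
  obtain ⟨a, ha𝔪, haj⟩ := Nat.find_spec hex
  have hmin : ∀ x : A, x ∈ 𝔪 →
      (a : Polynomial k ⧸ Ideal.span {(X : Polynomial k) ^ n}) ∣
        (x : Polynomial k ⧸ Ideal.span {(X : Polynomial k) ^ n}) := by
    intro x hx
    obtain ⟨i, hi⟩ := exists_span_eq_pow (x : Polynomial k ⧸ Ideal.span {(X : Polynomial k) ^ n})
    have hle : Nat.find hex ≤ i := Nat.find_min' hex ⟨x, hx, hi⟩
    rw [← Ideal.span_singleton_le_span_singleton, hi, haj,
      Ideal.span_singleton_le_span_singleton]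
    exact pow_dvd_pow _ hle
  -- flatness: divisibility descends to A
  have key : ∀ x : A, x ∈ 𝔪 → a ∣ x := by
    intro x hx
    obtain ⟨b, hb⟩ := hmin x hx
    obtain ⟨κ, α, y, h1, h2⟩ := Module.Flat.isTrivialRelation_of_sum_smul_eq_zero
      (R := A) (M := Polynomial k ⧸ Ideal.span {(X : Polynomial k) ^ n})
      (f := ![x, a]) (x := ![1, -b]) (by
        rw [Fin.sum_univ_two]
        show (x : Polynomial k ⧸ Ideal.span {(X : Polynomial k) ^ n}) * 1 +
          (a : Polynomial k ⧸ Ideal.span {(X : Polynomial k) ^ n}) * (-b) = 0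
        rw [hb]
        ring)
    have h2' : ∀ j, x * α 0 j + a * α 1 j = 0 := fun j => by
      have := h2 j
      rw [Fin.sum_univ_two] at this
      exact this
    obtain ⟨j, hj⟩ : ∃ j, α 0 j ∉ 𝔪 := by
      by_contra hall
      push Not at hall
      apply one_notMem_span_root (k := k) hn
      have h10 : (1 : Polynomial k ⧸ Ideal.span {(X : Polynomial k) ^ n}) = ∑ j, α 0 j • y j :=
        h1 0
      rw [h10]
      refine Ideal.sum_mem _ fun j _ => ?_
      show ((α 0 j : A) : Polynomial k ⧸ Ideal.span {(X : Polynomial k) ^ n}) * y j ∈ _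
      exact Ideal.mul_mem_right _ _ ((hmem _).mp (hall j))
    obtain ⟨u, hu⟩ := (hunit _ hj).exists_right_inv
    refine ⟨-(α 1 j * u), ?_⟩
    have := h2' j
    linear_combination u * this + (-x) * hu
  -- conclude
  refine curvilinear (k := k) (R := A) a ⟨n, hmnil a ha𝔪⟩ ?_
  intro x
  obtain ⟨c, y, hy, hxy⟩ := hdecA x
  obtain ⟨y', rfl⟩ := key y hy
  exact ⟨c, y', hxy⟩

end Groth.Agent.S14087
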