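import Mathlib
import Groth.Statements.S14088

set_option autoImplicit false
universe u
open ArSing

namespace Groth.Agent.S14088

variable {A : Type u} [CommRing A]

def R (h τ : A) (k : ℕ) : A := ∏ i ∈ Finset.range k, (h + (i : A) * τ)

theorem R_succ (h τ : A) (k : ℕ) : R h τ (k + 1) = R h τ k * (h + (k : A) * τ) :=
  Finset.prod_range_succ _ _

def a (τ : A) (m n s : ℕ) : A :=
  (-1 : A) ^ s * (Nat.factorial s : A) * (Nat.choose n s : A) * (Nat.choose m s : A) * τ ^ s

theorem choose_cast (m s : ℕ) :
    ((Nat.choose m (s + 1) : ℕ) : A) * ((s : A) + 1) = (Nat.choose m s : A) * ((m : A) - (s : A)) := by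
  by_cases hs : s ≤ m
  · have := congrArg (Nat.cast : ℕ → A) (Nat.choose_succ_right_eq m s)
    push_cast [Nat.cast_sub hs] at this
    exact this
  · push Not at hs
    rw [Nat.choose_eq_zero_of_lt hs, Nat.choose_eq_zero_of_lt (Nat.lt_succ_of_lt hs)]
    simp

theorem a_rec (τ : A) (m n s : ℕ) :
    a τ m (n + 1) (s + 1) = a τ m n (s + 1) - a τ m n s * ((m : A) - (s : A)) * τ := by
  unfold a
  rw [Nat.choose_succ_succ', Nat.factorial_succ]
  push_cast
  linear_combination (-((-1 : A) ^ s * (Nat.factorial s : A) * (Nat.choose n s : A) *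
    τ ^ (s + 1))) * choose_cast (A := A) m s

theorem main (h τ : A) (m : ℕ) : ∀ n : ℕ, R h τ n * R h τ m =
    ∑ s ∈ Finset.range (n + 1), a τ m n s * R h τ (m + n - s) := by
  intro n
  induction n with
  | zero => simp [a, R]
  | succ n ih =>
    have e2 : m + (n + 1) = m + n + 1 := rfl
    rw [e2]
    have hstep1 : ∀ s ∈ Finset.range (n + 1), (h + (n : A) * τ) * R h τ (m + n - s) =
        R h τ (m + n + 1 - s) - ((m : A) - (s : A)) * τ * R h τ (m + n - s) := by
      intro s hs
      have hs' : s ≤ n := Nat.lt_succ_iff.mp (Finset.mem_range.mp hs)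
      have e : m + n + 1 - s = (m + n - s) + 1 := by omega
      have hc : ((m + n - s : ℕ) : A) = (m : A) + (n : A) - (s : A) := by
        rw [Nat.cast_sub (by omega), Nat.cast_add]
      rw [e, R_succ, hc]; ring
    have hL0 : R h τ (n + 1) * R h τ m = (h + (n : A) * τ) * (R h τ n * R h τ m) := by
      rw [R_succ]; ring
    have hL : R h τ (n + 1) * R h τ m =
        ∑ s ∈ Finset.range (n + 1), a τ m n s * R h τ (m + n + 1 - s) -
          ∑ s ∈ Finset.range (n + 1),
            a τ m n s * ((m : A) - (s : A)) * τ * R h τ (m + n - s) := by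
      rw [hL0, ih, Finset.mul_sum, ← Finset.sum_sub_distrib]
      refine Finset.sum_congr rfl (fun s hs => ?_)
      have := hstep1 s hs
      linear_combination (a τ m n s) * this
    have hR : ∑ s ∈ Finset.range (n + 1 + 1), a τ m (n + 1) s * R h τ (m + n + 1 - s) =
        ∑ s ∈ Finset.range (n + 1),
            a τ m (n + 1) (s + 1) * R h τ (m + n + 1 - (s + 1)) +
          a τ m (n + 1) 0 * R h τ (m + n + 1 - 0) := Finset.sum_range_succ' _ _
    have hR2 : ∑ s ∈ Finset.range (n + 1),
          a τ m (n + 1) (s + 1) * R h τ (m + n + 1 - (s + 1)) =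
        ∑ s ∈ Finset.range (n + 1), a τ m n (s + 1) * R h τ (m + n - s) -
          ∑ s ∈ Finset.range (n + 1),
            a τ m n s * ((m : A) - (s : A)) * τ * R h τ (m + n - s) := by
      rw [← Finset.sum_sub_distrib]
      refine Finset.sum_congr rfl (fun s _ => ?_)
      rw [Nat.add_sub_add_right, a_rec]; ring
    have hA : ∑ s ∈ Finset.range (n + 1), a τ m n s * R h τ (m + n + 1 - s) =
        ∑ s ∈ Finset.range n, a τ m n (s + 1) * R h τ (m + n + 1 - (s + 1)) +
          a τ m n 0 * R h τ (m + n + 1 - 0) := Finset.sum_range_succ' _ _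
    have hB : ∑ s ∈ Finset.range (n + 1), a τ m n (s + 1) * R h τ (m + n - s) =
        ∑ s ∈ Finset.range n, a τ m n (s + 1) * R h τ (m + n - s) +
          a τ m n (n + 1) * R h τ (m + n - n) := Finset.sum_range_succ _ _
    have hz : a τ m n (n + 1) = 0 := by simp [a, Nat.choose_succ_self]
    have hC : ∑ s ∈ Finset.range n, a τ m n (s + 1) * R h τ (m + n + 1 - (s + 1)) =
        ∑ s ∈ Finset.range n, a τ m n (s + 1) * R h τ (m + n - s) := by
      refine Finset.sum_congr rfl (fun s _ => ?_)
      rw [Nat.add_sub_add_right]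
    have h0 : a τ m (n + 1) 0 = a τ m n 0 := by simp [a]
    rw [hL, hR, hR2, hA, hB, hz, hC, h0]
    ring

/-- The identity behind the torus-equivariant classes h_i = h_0 + i τ of the coordinate hyperplanes of a
projective space of binary forms, stated in an arbitrary commutative ring: for n ≤ m, (h_0 ⋯
h_(n-1))^2 · h_n ⋯ h_(m-1) equals the sum over s = 0, …, n of (-1)^s s! (n choose s) (m choose s)
τ^s h_0 ⋯ h_(m+n-s-1), where h_i = h + i τ. (The published statement is in the equivariant Chow ring
of that projective space; only the relations h_i = h_j + (j - i) τ are used, so it holds in any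
commutative ring.) -/
theorem result (A : Type u) [CommRing A] (h τ : A) (n m : ℕ) (hnm : n ≤ m) :
    (∏ i ∈ Finset.range n, (h + (i : A) * τ) ^ 2) * ∏ i ∈ Finset.Ico n m, (h + (i : A) * τ) =
      ∑ s ∈ Finset.range (n + 1), (-1 : A) ^ s * (Nat.factorial s : A) * (Nat.choose n s : A) *
        (Nat.choose m s : A) * τ ^ s * ∏ i ∈ Finset.range (m + n - s), (h + (i : A) * τ) := by
  have h1 : (∏ i ∈ Finset.range n, (h + (i : A) * τ) ^ 2) *
      ∏ i ∈ Finset.Ico n m, (h + (i : A) * τ) = R h τ n * R h τ m := by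
    unfold R
    rw [Finset.prod_pow, sq, mul_assoc, Finset.prod_range_mul_prod_Ico _ hnm]
  rw [h1, main h τ m n]
  refine Finset.sum_congr rfl (fun s _ => ?_)
  rfl

end Groth.Agent.S14088
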