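import Mathlib
import Groth.Statements.S1409
-- import your own Groth.Agent.* helpers here

set_option autoImplicit false
universe u
open FlatMor

namespace Groth.Agent.S1409

/-- going down for a flat ring hom -/
theorem goingDown {A B : Type u} [CommRing A] [CommRing B] (g : A →+* B)
    (hg : letI := g.toAlgebra; Module.Flat A B) (Q : Ideal B) [Q.IsPrime] (p : Ideal A) [p.IsPrime]
    (hle : p ≤ Q.comap g) : ∃ P : Ideal B, P ≤ Q ∧ P.IsPrime ∧ P.comap g = p := by
  letI := g.toAlgebra
  haveI : Module.Flat A B := hg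
  haveI : Q.LiesOver (Q.comap g) := ⟨rfl⟩
  obtain ⟨P, hPQ, hP, hPl⟩ := Ideal.exists_ideal_le_liesOver_of_le (p := p) (q := Q.comap g) Q hle
  exact ⟨P, hPQ, hP, hPl.over.symm⟩

/-- the direct limit ring -/
abbrev Rlim {ι : Type u} [Preorder ι] (G : ι → Type u) [∀ i, CommRing (G i)]
    (f : ∀ i j, i ≤ j → G i →+* G j) : Type u :=
  Ring.DirectLimit G fun i j h => ⇑(f i j h)

/-- the canonical maps -/
noncomputable abbrev phi {ι : Type u} [Preorder ι] (G : ι → Type u) [∀ i, CommRing (G i)]
    (f : ∀ i j, i ≤ j → G i →+* G j) (i : ι) : G i →+* Rlim G f :=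
  Ring.DirectLimit.of G (fun i j h => ⇑(f i j h)) i

section
variable {ι : Type u} [Preorder ι] [IsDirected ι (· ≤ ·)] [Nonempty ι] (G : ι → Type u)
  [∀ i, CommRing (G i)] (f : ∀ i j, i ≤ j → G i →+* G j)
  [DirectedSystem G fun i j h => f i j h]

theorem phi_f {i j : ι} (h : i ≤ j) (x : G i) : phi G f j (f i j h x) = phi G f i x :=
  Ring.DirectLimit.of_f h x

theorem comap_phi {i j : ι} (h : i ≤ j) (P : Ideal (Rlim G f)) :
    (P.comap (phi G f j)).comap (f i j h) = P.comap (phi G f i) := by
  ext x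
  simp only [Ideal.mem_comap]
  rw [phi_f]

theorem comap_mem_minimalPrimes
    (hflat : ∀ i j (h : i ≤ j), letI := (f i j h).toAlgebra; Module.Flat (G i) (G j))
    (i : ι) (P : Ideal (Rlim G f)) (hP : P ∈ minimalPrimes (Rlim G f)) :
    P.comap (phi G f i) ∈ minimalPrimes (G i) := by
  haveI hPprime : P.IsPrime := hP.1.1
  obtain ⟨q, hq, hqle⟩ := Ideal.exists_minimalPrimes_le (I := (⊥ : Ideal (G i)))
    (J := P.comap (phi G f i)) bot_le
  haveI hqprime : q.IsPrime := hq.1.1
  suffices hle : P.comap (phi G f i) ≤ q by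
    have : P.comap (phi G f i) = q := le_antisymm hle hqle
    rw [this]; exact hq
  -- the multiplicative set
  let S : Submonoid (Rlim G f) := P.primeCompl ⊔ q.primeCompl.map (phi G f i)
  have h0 : ∀ x ∈ S, x ≠ 0 := by
    intro x hx hx0
    obtain ⟨y, hy, z, hz, hyz⟩ := Submonoid.mem_sup.1 hx
    obtain ⟨t, ht, rfl⟩ := Submonoid.mem_map.1 hz
    obtain ⟨j0, y', rfl⟩ := Ring.DirectLimit.exists_of y
    obtain ⟨k, hik, hjk⟩ := exists_ge_ge i j0
    have hk0 : phi G f k (f j0 k hjk y' * f i k hik t) = 0 := by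
      rw [map_mul, phi_f, phi_f]
      rw [← hx0, ← hyz]
    obtain ⟨l, hkl, hl⟩ := Ring.DirectLimit.of.zero_exact hk0
    rw [map_mul, DirectedSystem.map_map' f, DirectedSystem.map_map' f] at hl
    have hil : i ≤ l := hik.trans hkl
    have hy'' : f j0 l (hjk.trans hkl) y' ∉ P.comap (phi G f l) := by
      intro hmem
      rw [Ideal.mem_comap, phi_f] at hmem
      exact hy hmem
    obtain ⟨q', hq'le, hq'prime, hq'comap⟩ := goingDown (f i l hil) (hflat i l hil)
      (P.comap (phi G f l)) q (by rw [comap_phi]; exact hqle)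
    have hmem : f j0 l (hjk.trans hkl) y' * f i l hil t ∈ q' := by rw [hl]; exact q'.zero_mem
    rcases hq'prime.mem_or_mem hmem with h1 | h1
    · exact hy'' (hq'le h1)
    · have h2 : t ∈ q'.comap (f i l hil) := h1
      rw [hq'comap] at h2
      exact ht h2
  have hdisj : Disjoint ((⊥ : Ideal (Rlim G f)) : Set (Rlim G f)) (S : Set (Rlim G f)) := by
    rw [Set.disjoint_left]
    intro x hx hxS
    have : x = 0 := by simpa using hx
    exact h0 x hxS this
  obtain ⟨Q, hQprime, -, hQdisj⟩ := Ideal.exists_le_prime_disjoint (⊥ : Ideal (Rlim G f)) S hdisj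
  have hQP : Q ≤ P := by
    intro x hxQ
    by_contra hxP
    exact (Set.disjoint_left.1 hQdisj hxQ) (show x ∈ S from Submonoid.mem_sup_left hxP)
  have hPQ : P ≤ Q := hP.2 ⟨hQprime, bot_le⟩ hQP
  intro x hx
  by_contra hxq
  have h1 : phi G f i x ∈ Q := hPQ hx
  have h2 : phi G f i x ∈ S := Submonoid.mem_sup_right (Submonoid.mem_map.2 ⟨x, hxq, rfl⟩)
  exact Set.disjoint_left.1 hQdisj h1 h2

theorem exists_minimalPrimes_comap_eq
    (hinj : ∀ i j (h : i ≤ j), Function.Injective (f i j h))
    (i : ι) (q : Ideal (G i)) (hq : q ∈ minimalPrimes (G i)) :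
    ∃ Q ∈ minimalPrimes (Rlim G f), Q.comap (phi G f i) = q := by
  haveI hqprime : q.IsPrime := hq.1.1
  have hφinj : Function.Injective (phi G f i) := Ring.DirectLimit.of_injective (G := G) f hinj i
  let S : Submonoid (Rlim G f) := q.primeCompl.map (phi G f i)
  have hdisj : Disjoint ((⊥ : Ideal (Rlim G f)) : Set (Rlim G f)) (S : Set (Rlim G f)) := by
    rw [Set.disjoint_left]
    intro x hx hxS
    have hx0 : x = 0 := by simpa using hx
    obtain ⟨t, ht, rfl⟩ := Submonoid.mem_map.1 hxS
    have : t = 0 := hφinj (by rw [hx0, map_zero])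
    exact ht (this ▸ q.zero_mem)
  obtain ⟨Q', hQ'prime, -, hQ'disj⟩ :=
    Ideal.exists_le_prime_disjoint (⊥ : Ideal (Rlim G f)) S hdisj
  haveI := hQ'prime
  obtain ⟨Q, hQ, hQQ'⟩ := Ideal.exists_minimalPrimes_le (I := (⊥ : Ideal (Rlim G f))) (J := Q') bot_le
  haveI hQprime : Q.IsPrime := hQ.1.1
  refine ⟨Q, hQ, ?_⟩
  have hle : Q.comap (phi G f i) ≤ q := by
    intro x hx
    by_contra hxq
    exact Set.disjoint_left.1 hQ'disj (hQQ' hx) (Submonoid.mem_map.2 ⟨x, hxq, rfl⟩)
  exact le_antisymm hle (hq.2 ⟨inferInstance, bot_le⟩ hle)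

end

/-- Let (R_i) be a directed system of commutative rings whose transition maps are faithfully flat, with
colimit R. Then, counting in the extended natural numbers, the minimal primes of R are exactly as
numerous as the supremum over i of the count of minimal primes of R_i. -/
theorem result {ι : Type u} [Preorder ι] [IsDirected ι (· ≤ ·)] [Nonempty ι] (G : ι → Type u) [∀ i, CommRing (G i)]
    (f : ∀ i j, i ≤ j → G i →+* G j) [DirectedSystem G fun i j h => f i j h]
    (hf : ∀ i j (h : i ≤ j), letI := (f i j h).toAlgebra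
      Module.FaithfullyFlat (G i) (G j)) :
    (minimalPrimes (Ring.DirectLimit G fun i j h => ⇑(f i j h))).encard = ⨆ i, (minimalPrimes (G i)).encard := by
  classical
  have hflat : ∀ i j (h : i ≤ j), letI := (f i j h).toAlgebra; Module.Flat (G i) (G j) := by
    intro i j h
    letI := (f i j h).toAlgebra
    haveI := hf i j h
    infer_instance
  have hinj : ∀ i j (h : i ≤ j), Function.Injective (f i j h) := by
    intro i j h
    letI := (f i j h).toAlgebra
    haveI := hf i j h
    exact FaithfulSMul.algebraMap_injective (G i) (G j)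
  show (minimalPrimes (Rlim G f)).encard = ⨆ i, (minimalPrimes (G i)).encard
  apply le_antisymm
  · -- `≤`
    refine ENat.forall_natCast_le_iff_le.1 fun n hn => ?_
    obtain ⟨t, hts, htn⟩ := Set.exists_subset_encard_eq hn
    have htfin : t.Finite := Set.finite_of_encard_eq_coe htn
    have hsep : ∀ p : Ideal (Rlim G f) × Ideal (Rlim G f), ∃ i : ι,
        p.1 ≠ p.2 → p.1.comap (phi G f i) ≠ p.2.comap (phi G f i) := by
      intro p
      by_cases hne : p.1 = p.2
      · exact ⟨Classical.arbitrary ι, fun h => absurd hne h⟩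
      · have hex : ∃ x, ¬ (x ∈ p.1 ↔ x ∈ p.2) := by
          by_contra hcon
          exact hne (Ideal.ext (not_exists_not.1 hcon))
        obtain ⟨x, hx⟩ := hex
        obtain ⟨i, x', rfl⟩ := Ring.DirectLimit.exists_of x
        refine ⟨i, fun _ heq => hx ?_⟩
        have h1 : x' ∈ p.1.comap (phi G f i) ↔ x' ∈ p.2.comap (phi G f i) := by rw [heq]
        exact h1
    choose idx hidx using hsep
    obtain ⟨M, hM⟩ := ((htfin.toFinset ×ˢ htfin.toFinset).image idx).exists_le
    have hinjOn : Set.InjOn (fun P : Ideal (Rlim G f) => P.comap (phi G f M)) t := by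
      intro P hP P' hP' heq
      by_contra hne
      have hi : idx (P, P') ≤ M :=
        hM _ (Finset.mem_image.2 ⟨(P, P'), by simp [hP, hP'], rfl⟩)
      apply hidx (P, P') hne
      show P.comap (phi G f (idx (P, P'))) = P'.comap (phi G f (idx (P, P')))
      rw [← comap_phi G f hi P, ← comap_phi G f hi P']
      exact congrArg (Ideal.comap (f _ _ hi)) heq
    have hmaps : Set.MapsTo (fun P : Ideal (Rlim G f) => P.comap (phi G f M)) t
        (minimalPrimes (G M)) :=
      fun P hP => comap_mem_minimalPrimes G f hflat M P (hts hP)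
    calc (n : ℕ∞) = t.encard := htn.symm
      _ ≤ (minimalPrimes (G M)).encard := Set.encard_le_encard_of_injOn hmaps hinjOn
      _ ≤ ⨆ i, (minimalPrimes (G i)).encard := le_iSup (fun i => (minimalPrimes (G i)).encard) M
  · -- `≥`
    refine iSup_le fun i => ?_
    have hD := exists_minimalPrimes_comap_eq G f hinj i
    choose! F hF using hD
    refine Set.encard_le_encard_of_injOn (f := F) (fun q hq => (hF q hq).1) ?_
    intro q hq q' hq' heq
    rw [← (hF q hq).2, ← (hF q' hq').2, heq]

end Groth.Agent.S1409
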