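import Mathlib
import Groth.Statements.S14091

set_option autoImplicit false
universe u
open ArSing

namespace Groth.Agent.S14091

open Polynomial in
theorem surj_aux {k B : Type u} [Field k] [CommRing B] [IsLocalRing B] [Algebra k B] (x : B)
    (hx : IsLocalRing.maximalIdeal B = Ideal.span {x})
    (hres : ∀ b : B, ∃ c : k, b - algebraMap k B c ∈ IsLocalRing.maximalIdeal B) :
    ∀ (n : ℕ) (b : B), ∃ p : k[X], b - aeval x p ∈ Ideal.span {x ^ n} := by
  intro n
  induction n with
  | zero => intro b; exact ⟨0, by simp⟩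
  | succ n ih =>
    intro b
    obtain ⟨p, hp⟩ := ih b
    obtain ⟨b', hb'⟩ := Ideal.mem_span_singleton'.mp hp
    obtain ⟨c, hc⟩ := hres b'
    rw [hx] at hc
    obtain ⟨a', ha'⟩ := Ideal.mem_span_singleton'.mp hc
    refine ⟨p + C c * X ^ n, ?_⟩
    rw [Ideal.mem_span_singleton']
    refine ⟨a', ?_⟩
    rw [map_add, map_mul, aeval_C, map_pow, aeval_X, pow_succ]
    linear_combination (x ^ n) * ha' + hb'

open Polynomial in
/-- Over an algebraically closed field k, a finite local k-algebra B whose cotangent space m/m^2 has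
dimension at most one over the residue field is isomorphic, as a k-algebra, to k[t]/(t^n) with n =
dim_k B (curvilinear pointed algebras of degree n have a single isomorphism class). -/
theorem result (k B : Type u) [Field k] [IsAlgClosed k]
    [CommRing B] [IsLocalRing B] [Algebra k B] [Module.Finite k B]
    (hcurv : Module.finrank (IsLocalRing.ResidueField B) (IsLocalRing.CotangentSpace B) ≤ 1) :
    Nonempty (B ≃ₐ[k] (Polynomial k ⧸ Ideal.span {(X : Polynomial k) ^ Module.finrank k B})) := by
  classical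
  haveI : IsArtinianRing B := IsArtinianRing.of_finite k B
  obtain ⟨x, hx0⟩ := (IsLocalRing.finrank_cotangentSpace_le_one_iff.mp hcurv).principal
  have hx : IsLocalRing.maximalIdeal B = Ideal.span {x} := hx0
  obtain ⟨N, hN⟩ : ∃ N, (IsLocalRing.maximalIdeal B) ^ N = ⊥ := by
    have := IsArtinianRing.isNilpotent_jacobson_bot (R := B)
    rw [IsLocalRing.jacobson_eq_maximalIdeal ⊥ bot_ne_top] at this
    exact this
  have hxN : x ^ N = 0 := by
    have : x ^ N ∈ (IsLocalRing.maximalIdeal B) ^ N :=
      Ideal.pow_mem_pow (by rw [hx]; exact Ideal.mem_span_singleton_self x) N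
    rw [hN] at this
    exact this
  have hres : ∀ b : B, ∃ c : k, b - algebraMap k B c ∈ IsLocalRing.maximalIdeal B := by
    intro b
    haveI : Module.Finite k (IsLocalRing.ResidueField B) :=
      Module.Finite.of_surjective
        (IsScalarTower.toAlgHom k B (IsLocalRing.ResidueField B)).toLinearMap
        (IsLocalRing.residue_surjective (R := B))
    haveI : Algebra.IsIntegral k (IsLocalRing.ResidueField B) := Algebra.IsIntegral.of_finite k _
    obtain ⟨c, hc⟩ := (IsAlgClosed.algebraMap_bijective_of_isIntegral (k := k)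
      (K := IsLocalRing.ResidueField B)).2 (IsLocalRing.residue B b)
    refine ⟨c, ?_⟩
    rw [← IsLocalRing.residue_eq_zero_iff, map_sub, ← hc,
      IsScalarTower.algebraMap_apply k B (IsLocalRing.ResidueField B) c,
      IsLocalRing.ResidueField.algebraMap_eq, sub_self]
  have hsurj : Function.Surjective (aeval x : k[X] →ₐ[k] B) := by
    intro b
    obtain ⟨p, hp⟩ := surj_aux x hx hres N b
    have h0 : b - aeval x p = 0 := by simpa [hxN] using hp
    exact ⟨p, (sub_eq_zero.mp h0).symm⟩
  -- the kernel
  have hXN : (X : k[X]) ^ N ∈ RingHom.ker (aeval x : k[X] →ₐ[k] B) := by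
    rw [RingHom.mem_ker, map_pow, aeval_X, hxN]
  obtain ⟨j, hI⟩ : ∃ j : ℕ, RingHom.ker (aeval x : k[X] →ₐ[k] B) = Ideal.span {(X : k[X]) ^ j} := by
    set I : Ideal k[X] := RingHom.ker (aeval x : k[X] →ₐ[k] B) with hIdef
    have hdvd : Submodule.IsPrincipal.generator I ∣ (X : k[X]) ^ N :=
      (Submodule.IsPrincipal.mem_iff_generator_dvd I).mp hXN
    obtain ⟨j, _, hj⟩ := (dvd_prime_pow Polynomial.prime_X N).mp hdvd
    refine ⟨j, ?_⟩
    rw [← Ideal.span_singleton_generator I]
    exact Ideal.span_singleton_eq_span_singleton.mpr hj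
  let e1 : B ≃ₐ[k] (k[X] ⧸ Ideal.span {(X : k[X]) ^ j}) :=
    (Ideal.quotientKerAlgEquivOfSurjective hsurj).symm.trans (Ideal.quotientEquivAlgOfEq k hI)
  have hj : Module.finrank k B = j := by
    rw [e1.toLinearEquiv.finrank_eq, finrank_quotient_span_eq_natDegree, natDegree_X_pow]
  rw [hj]
  exact ⟨e1⟩

end Groth.Agent.S14091
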