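import Groth.Statements.S14094
import Mathlib
import Groth.Agent.H76.NodeInv
-- import your own Groth.Agent.* helpers here

set_option autoImplicit false
universe u
open ArSing

namespace Groth.Agent.S14094


open PowerSeries
open Groth.Agent.S14083 (rhoHom)
open Groth.Agent.S14081 (hC2K EE EE_X EE_C rho_X cc_rho rho_EE xMap_X nf ringA_local y_sq)
open Groth.Agent.S14093 (nf_unique memK K1_max)
open Groth.Agent.H76.NodeInv (even_of_rho evenodd evenodd_unique rho_sub_dvd nf_ext sigma_xi phi_xi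
  memX x_nzd hxc length_quot_x)

section ALevel
variable (k : Type u) [Field k] (r s : ℕ)

theorem part1 (h2 : (2:k) ≠ 0) (σ : ArSing.ring k r ≃ₐ[k] ArSing.ring k r)
    (hx : σ (ArSing.x k r) = -ArSing.x k r) (hy : σ (ArSing.y k r) = ArSing.y k r)
    (φ : ArSing.ring k s →ₐ[k] ArSing.ring k r) (hφx : φ (ArSing.x k s) = ArSing.x k r ^ 2)
    (hφy : φ (ArSing.y k s) = ArSing.y k r) (α : ArSing.ring k r) :
    σ α = α ↔ α ∈ φ.range := by
  constructor
  · intro hα
    obtain ⟨a, b, rfl⟩ := nf k r α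
    rw [map_add, map_mul, sigma_xi k r h2 σ hx, sigma_xi k r h2 σ hx, hy] at hα
    obtain ⟨ha, hb⟩ := nf_ext k r h2 hα
    obtain ⟨a', rfl⟩ := even_of_rho h2 a ha
    obtain ⟨b', rfl⟩ := even_of_rho h2 b hb
    rw [AlgHom.mem_range]
    refine ⟨ArSing.xMap k s a' + ArSing.xMap k s b' * ArSing.y k s, ?_⟩
    rw [map_add, map_mul, phi_xi k r h2 s φ hφx, phi_xi k r h2 s φ hφx, hφy]
  · intro hα
    obtain ⟨β, rfl⟩ := (AlgHom.mem_range _).mp hα
    obtain ⟨a', b', rfl⟩ := nf k s β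
    rw [map_add, map_mul, phi_xi k r h2 s φ hφx, phi_xi k r h2 s φ hφx, hφy,
      map_add, map_mul, sigma_xi k r h2 σ hx, sigma_xi k r h2 σ hx, hy, rho_EE, rho_EE]

theorem part2a (h2 : (2:k) ≠ 0)
    (φ : ArSing.ring k s →ₐ[k] ArSing.ring k r) (hφx : φ (ArSing.x k s) = ArSing.x k r ^ 2)
    (hφy : φ (ArSing.y k s) = ArSing.y k r) : φ.toRingHom.Flat := by
  letI alg : Algebra (ArSing.ring k s) (ArSing.ring k r) := φ.toRingHom.toAlgebra
  show Module.Flat (ArSing.ring k s) (ArSing.ring k r)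
  let L : (ArSing.ring k s × ArSing.ring k s) →ₗ[ArSing.ring k s] ArSing.ring k r :=
    { toFun := fun p => φ p.1 + φ p.2 * ArSing.x k r
      map_add' := fun p q => by
        show φ (p.1 + q.1) + φ (p.2 + q.2) * ArSing.x k r =
          (φ p.1 + φ p.2 * ArSing.x k r) + (φ q.1 + φ q.2 * ArSing.x k r)
        rw [map_add, map_add]; ring
      map_smul' := fun c p => by
        show φ (c * p.1) + φ (c * p.2) * ArSing.x k r =
          φ c * (φ p.1 + φ p.2 * ArSing.x k r)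
        rw [map_mul, map_mul]; ring }
  have key : ∀ a₀ b₀ a₁ b₁ : PowerSeries k,
      φ (ArSing.xMap k s a₀ + ArSing.xMap k s b₀ * ArSing.y k s) +
        φ (ArSing.xMap k s a₁ + ArSing.xMap k s b₁ * ArSing.y k s) * ArSing.x k r =
      ArSing.xMap k r (EE k a₀ + X * EE k a₁) +
        ArSing.xMap k r (EE k b₀ + X * EE k b₁) * ArSing.y k r := by
    intro a₀ b₀ a₁ b₁
    simp only [map_add, map_mul, phi_xi k r h2 s φ hφx, hφy, xMap_X]
    ring
  have hinj : Function.Injective L := by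
    rw [injective_iff_map_eq_zero]
    intro p hp
    obtain ⟨p₁, p₂⟩ := p
    obtain ⟨a₀, b₀, rfl⟩ := nf k s p₁
    obtain ⟨a₁, b₁, rfl⟩ := nf k s p₂
    have hp' : φ (ArSing.xMap k s a₀ + ArSing.xMap k s b₀ * ArSing.y k s) +
        φ (ArSing.xMap k s a₁ + ArSing.xMap k s b₁ * ArSing.y k s) * ArSing.x k r = 0 := hp
    rw [key] at hp'
    obtain ⟨hA, hB⟩ := nf_unique k r h2 _ _ hp'
    obtain ⟨ha₀, ha₁⟩ := evenodd_unique h2 _ _ hA
    obtain ⟨hb₀, hb₁⟩ := evenodd_unique h2 _ _ hB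
    have e₁ : ArSing.xMap k s a₀ + ArSing.xMap k s b₀ * ArSing.y k s = 0 := by
      rw [ha₀, hb₀, map_zero, zero_mul, add_zero]
    have e₂ : ArSing.xMap k s a₁ + ArSing.xMap k s b₁ * ArSing.y k s = 0 := by
      rw [ha₁, hb₁, map_zero, zero_mul, add_zero]
    exact Prod.ext e₁ e₂
  have hsurj : Function.Surjective L := by
    intro α
    obtain ⟨a, b, rfl⟩ := nf k r α
    obtain ⟨a₀, a₁, rfl⟩ := evenodd h2 a
    obtain ⟨b₀, b₁, rfl⟩ := evenodd h2 b
    exact ⟨(ArSing.xMap k s a₀ + ArSing.xMap k s b₀ * ArSing.y k s,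
      ArSing.xMap k s a₁ + ArSing.xMap k s b₁ * ArSing.y k s), key a₀ b₀ a₁ b₁⟩
  exact Module.Flat.of_linearEquiv (LinearEquiv.ofBijective L ⟨hinj, hsurj⟩).symm

theorem part2b (h2 : (2:k) ≠ 0)
    (φ : ArSing.ring k s →ₐ[k] ArSing.ring k r) (hφx : φ (ArSing.x k s) = ArSing.x k r ^ 2)
    (hφy : φ (ArSing.y k s) = ArSing.y k r) (I : Ideal (ArSing.ring k s)) (hI : I.IsMaximal) :
    Ideal.map φ I ≠ ⊤ := by
  haveI := ringA_local k s
  have hIeq : I = Ideal.span {ArSing.y k s, ArSing.x k s ^ 1} := by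
    rw [IsLocalRing.eq_maximalIdeal hI, IsLocalRing.eq_maximalIdeal (K1_max k s h2)]
  intro htop
  have hle : Ideal.map φ I ≤ Ideal.span {ArSing.y k r, ArSing.x k r ^ 1} := by
    rw [hIeq, Ideal.map_span, Ideal.span_le]
    rintro _ ⟨z, hz, rfl⟩
    rw [Set.mem_insert_iff, Set.mem_singleton_iff] at hz
    rcases hz with rfl | rfl
    · rw [hφy]
      exact Ideal.subset_span (Set.mem_insert _ _)
    · rw [map_pow, hφx]
      simp only [pow_one]
      rw [sq]
      exact Ideal.mul_mem_left _ _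
        (Ideal.subset_span (Set.mem_insert_of_mem _ (Set.mem_singleton _)))
  rw [htop, top_le_iff] at hle
  exact (K1_max k r h2).ne_top hle

theorem ideal_eq (h2 : (2:k) ≠ 0) (σ : ArSing.ring k r ≃ₐ[k] ArSing.ring k r)
    (hx : σ (ArSing.x k r) = -ArSing.x k r) (hy : σ (ArSing.y k r) = ArSing.y k r) :
    Ideal.span (Set.range fun a : ArSing.ring k r => σ a - a) = Ideal.span {ArSing.x k r} := by
  apply le_antisymm
  · rw [Ideal.span_le]
    rintro _ ⟨α, rfl⟩
    obtain ⟨a, b, rfl⟩ := nf k r α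
    show σ (ArSing.xMap k r a + ArSing.xMap k r b * ArSing.y k r) -
      (ArSing.xMap k r a + ArSing.xMap k r b * ArSing.y k r) ∈ Ideal.span {ArSing.x k r}
    rw [map_add, map_mul, sigma_xi k r h2 σ hx, sigma_xi k r h2 σ hx, hy]
    have e : ArSing.xMap k r (rhoHom k a) + ArSing.xMap k r (rhoHom k b) * ArSing.y k r -
        (ArSing.xMap k r a + ArSing.xMap k r b * ArSing.y k r) =
        ArSing.xMap k r (rhoHom k a - a) + ArSing.xMap k r (rhoHom k b - b) * ArSing.y k r := by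
      rw [map_sub, map_sub]; ring
    rw [e, memX k r h2]
    exact ⟨rho_sub_dvd a, rho_sub_dvd b⟩
  · rw [Ideal.span_le, Set.singleton_subset_iff]
    have hmem : σ (ArSing.x k r) - ArSing.x k r ∈
        Ideal.span (Set.range fun a : ArSing.ring k r => σ a - a) :=
      Ideal.subset_span ⟨ArSing.x k r, rfl⟩
    have e : ArSing.x k r =
        (-ArSing.xMap k r (C (2⁻¹ : k))) * (σ (ArSing.x k r) - ArSing.x k r) := by
      rw [hx]; linear_combination (-ArSing.x k r) * hxc k r h2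
    have hm := Ideal.mul_mem_left _ (-ArSing.xMap k r (C (2⁻¹ : k))) hmem
    rw [← e] at hm
    exact hm

end ALevel



/-- K algebraically closed of characteristic prime to 2 and to r+1, r = 2m - 1 with m ≥ 2, σ the
involution x ↦ -x, y ↦ y of A_r = k[[x,y]]/(y^2 - x^(r+1)), and φ : A_(m-1) → A_r the k-algebra map
x ↦ x^2, y ↦ y. Then the invariant subalgebra of σ is the image of φ (so A_r^σ ≅ A_(m-1)), φ is
faithfully flat (flat, and the maximal ideal of A_(m-1) does not generate the unit ideal), and the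
fixed locus of σ is a Cartier divisor of length 2: its ideal, generated by the elements σ(a) - a, is
generated by one nonzerodivisor and has quotient of length 2. -/
theorem result (k : Type u) [Field k] [IsAlgClosed k] (m r : ℕ)
    (hm : 2 ≤ m) (hr : r = 2 * m - 1) (h2 : (2 : k) ≠ 0) (hr1 : ((r + 1 : ℕ) : k) ≠ 0)
    (σ : ArSing.ring k r ≃ₐ[k] ArSing.ring k r) (hx : σ (ArSing.x k r) = -ArSing.x k r)
    (hy : σ (ArSing.y k r) = ArSing.y k r)
    (φ : ArSing.ring k (m - 1) →ₐ[k] ArSing.ring k r) (hφx : φ (ArSing.x k (m - 1)) = ArSing.x k r ^ 2)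
    (hφy : φ (ArSing.y k (m - 1)) = ArSing.y k r) :
    (∀ a : ArSing.ring k r, σ a = a ↔ a ∈ φ.range) ∧
    (φ.toRingHom.Flat ∧ ∀ I : Ideal (ArSing.ring k (m - 1)), I.IsMaximal → Ideal.map φ I ≠ ⊤) ∧
    (∃ g : ArSing.ring k r, g ∈ nonZeroDivisors (ArSing.ring k r) ∧ Ideal.span (Set.range fun a : ArSing.ring k r => σ a - a) = Ideal.span {g}) ∧
    Module.length (ArSing.ring k r) (ArSing.ring k r ⧸ Ideal.span (Set.range fun a : ArSing.ring k r => σ a - a)) = 2 := by
  refine ⟨part1 k r (m - 1) h2 σ hx hy φ hφx hφy,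
    ⟨part2a k r (m - 1) h2 φ hφx hφy, part2b k r (m - 1) h2 φ hφx hφy⟩,
    ⟨ArSing.x k r, x_nzd k r h2, ideal_eq k r h2 σ hx hy⟩, ?_⟩
  rw [ideal_eq k r h2 σ hx hy]
  exact length_quot_x k r h2

end Groth.Agent.S14094
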