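import Groth.Statements.S14095
import Mathlib
import Groth.Agent.H76.NodeInv
-- import your own Groth.Agent.* helpers here

set_option autoImplicit false
universe u
open ArSing

namespace Groth.Agent.S14095


open PowerSeries
open Groth.Agent.S14083 (rhoHom)
open Groth.Agent.S14081 (hC2K EE EE_X EE_C rho_X cc_rho rho_EE xMap_X nf ringA_local y_sq)
open Groth.Agent.S14093 (nf_unique memK K1_max)
open Groth.Agent.H76.NodeInv (even_of_rho odd_of_rho evenodd evenodd_unique rho_sub_dvd nf_ext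
  sigma_xi phi_xi memX hxc length_K1 not_principal flat_mem2 not_X_sq_dvd_X)

section ALevel
variable (k : Type u) [Field k] (r s : ℕ)

theorem phi_nf (h2 : (2:k) ≠ 0)
    (φ : ArSing.ring k s →ₐ[k] ArSing.ring k r) (hφx : φ (ArSing.x k s) = ArSing.x k r ^ 2)
    (hφy : φ (ArSing.y k s) = ArSing.x k r * ArSing.y k r) (a' b' : PowerSeries k) :
    φ (ArSing.xMap k s a' + ArSing.xMap k s b' * ArSing.y k s) =
      ArSing.xMap k r (EE k a') + ArSing.xMap k r (X * EE k b') * ArSing.y k r := by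
  rw [map_add, map_mul, phi_xi k r h2 s φ hφx, phi_xi k r h2 s φ hφx, hφy, map_mul, xMap_X]
  ring

theorem part1 (h2 : (2:k) ≠ 0) (σ : ArSing.ring k r ≃ₐ[k] ArSing.ring k r)
    (hx : σ (ArSing.x k r) = -ArSing.x k r) (hy : σ (ArSing.y k r) = -ArSing.y k r)
    (φ : ArSing.ring k s →ₐ[k] ArSing.ring k r) (hφx : φ (ArSing.x k s) = ArSing.x k r ^ 2)
    (hφy : φ (ArSing.y k s) = ArSing.x k r * ArSing.y k r) (α : ArSing.ring k r) :
    σ α = α ↔ α ∈ φ.range := by
  constructor
  · intro hα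
    obtain ⟨a, b, rfl⟩ := nf k r α
    rw [map_add, map_mul, sigma_xi k r h2 σ hx, sigma_xi k r h2 σ hx, hy] at hα
    have hα' : ArSing.xMap k r (rhoHom k a) + ArSing.xMap k r (-rhoHom k b) * ArSing.y k r =
        ArSing.xMap k r a + ArSing.xMap k r b * ArSing.y k r := by
      rw [map_neg]; linear_combination hα
    obtain ⟨ha, hb⟩ := nf_ext k r h2 hα'
    obtain ⟨a', rfl⟩ := even_of_rho h2 a ha
    obtain ⟨b', rfl⟩ := odd_of_rho h2 b (neg_eq_iff_eq_neg.mp hb)
    rw [AlgHom.mem_range]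
    exact ⟨ArSing.xMap k s a' + ArSing.xMap k s b' * ArSing.y k s,
      phi_nf k r s h2 φ hφx hφy a' b'⟩
  · intro hα
    obtain ⟨β, rfl⟩ := (AlgHom.mem_range _).mp hα
    obtain ⟨a', b', rfl⟩ := nf k s β
    rw [phi_nf k r s h2 φ hφx hφy, map_add, map_mul, sigma_xi k r h2 σ hx,
      sigma_xi k r h2 σ hx, hy, rho_EE, map_mul, rho_X, rho_EE]
    simp only [neg_mul, map_neg]
    ring

theorem part2 (h2 : (2:k) ≠ 0)
    (φ : ArSing.ring k s →ₐ[k] ArSing.ring k r) (hφx : φ (ArSing.x k s) = ArSing.x k r ^ 2)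
    (hφy : φ (ArSing.y k s) = ArSing.x k r * ArSing.y k r) : Function.Injective φ := by
  rw [injective_iff_map_eq_zero]
  intro β hβ
  obtain ⟨a', b', rfl⟩ := nf k s β
  rw [phi_nf k r s h2 φ hφx hφy] at hβ
  obtain ⟨hA, hB⟩ := nf_unique k r h2 _ _ hβ
  have ha : a' = 0 := Groth.Agent.S14096.expand_inj a' 0 (by rw [map_zero]; exact hA)
  have hB' : EE k b' = 0 := (mul_eq_zero.mp hB).resolve_left X_ne_zero
  have hb : b' = 0 := Groth.Agent.S14096.expand_inj b' 0 (by rw [map_zero]; exact hB')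
  rw [ha, hb, map_zero, zero_mul, add_zero]

theorem part3 (h2 : (2:k) ≠ 0) (hr2 : 2 ≤ r + 1)
    (φ : ArSing.ring k s →ₐ[k] ArSing.ring k r) (hφx : φ (ArSing.x k s) = ArSing.x k r ^ 2)
    (hφy : φ (ArSing.y k s) = ArSing.x k r * ArSing.y k r) : ¬ φ.toRingHom.Flat := by
  intro hflat
  have hrel : φ.toRingHom (ArSing.y k s) * ArSing.x k r +
      φ.toRingHom (ArSing.x k s) * (-ArSing.y k r) = 0 := by
    show φ (ArSing.y k s) * ArSing.x k r + φ (ArSing.x k s) * (-ArSing.y k r) = 0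
    rw [hφx, hφy]; ring
  have hmem := flat_mem2 φ.toRingHom hflat (ArSing.y k s) (ArSing.x k s) (ArSing.x k r)
    (-ArSing.y k r) hrel (Ideal.span {ArSing.y k r, ArSing.x k r ^ 2}) (by
      intro a₁ a₂ h
      show φ a₁ ∈ Ideal.span {ArSing.y k r, ArSing.x k r ^ 2}
      obtain ⟨c, d, rfl⟩ := nf k s a₁
      obtain ⟨e, g, rfl⟩ := nf k s a₂
      have h0 : ArSing.xMap k s (d * X ^ (s + 1) + X * e) +
          ArSing.xMap k s (c + X * g) * ArSing.y k s = 0 := by
        simp only [map_add, map_mul, map_pow, xMap_X]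
        linear_combination h - ArSing.xMap k s d * y_sq k s
      obtain ⟨-, hc⟩ := nf_unique k s h2 _ _ h0
      have hc' : c = X * (-g) := by linear_combination hc
      rw [phi_nf k r s h2 φ hφx hφy, memK k r h2 2 hr2, hc', map_mul, EE_X]
      exact dvd_mul_right _ _)
  have hx2 : ArSing.xMap k r X + ArSing.xMap k r 0 * ArSing.y k r ∈
      Ideal.span {ArSing.y k r, ArSing.x k r ^ 2} := by
    rw [xMap_X, map_zero, zero_mul, add_zero]; exact hmem
  rw [memK k r h2 2 hr2] at hx2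
  exact not_X_sq_dvd_X le_rfl hx2

theorem ideal_eq (h2 : (2:k) ≠ 0) (σ : ArSing.ring k r ≃ₐ[k] ArSing.ring k r)
    (hx : σ (ArSing.x k r) = -ArSing.x k r) (hy : σ (ArSing.y k r) = -ArSing.y k r) :
    Ideal.span (Set.range fun a : ArSing.ring k r => σ a - a) =
      Ideal.span {ArSing.y k r, ArSing.x k r ^ 1} := by
  have h1r : 1 ≤ r + 1 := Nat.le_add_left 1 r
  apply le_antisymm
  · rw [Ideal.span_le]
    rintro _ ⟨α, rfl⟩
    obtain ⟨a, b, rfl⟩ := nf k r α
    show σ (ArSing.xMap k r a + ArSing.xMap k r b * ArSing.y k r) -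
      (ArSing.xMap k r a + ArSing.xMap k r b * ArSing.y k r) ∈
        Ideal.span {ArSing.y k r, ArSing.x k r ^ 1}
    rw [map_add, map_mul, sigma_xi k r h2 σ hx, sigma_xi k r h2 σ hx, hy]
    have e : ArSing.xMap k r (rhoHom k a) + ArSing.xMap k r (rhoHom k b) * -ArSing.y k r -
        (ArSing.xMap k r a + ArSing.xMap k r b * ArSing.y k r) =
        ArSing.xMap k r (rhoHom k a - a) +
          ArSing.xMap k r (-rhoHom k b - b) * ArSing.y k r := by
      simp only [map_sub, map_neg]; ring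
    rw [e, memK k r h2 1 h1r, pow_one]
    exact rho_sub_dvd a
  · rw [Ideal.span_le]
    intro z hz
    rw [Set.mem_insert_iff, Set.mem_singleton_iff] at hz
    rcases hz with rfl | rfl
    · have hmem : σ (ArSing.y k r) - ArSing.y k r ∈
          Ideal.span (Set.range fun a : ArSing.ring k r => σ a - a) :=
        Ideal.subset_span ⟨ArSing.y k r, rfl⟩
      have e : ArSing.y k r =
          (-ArSing.xMap k r (C (2⁻¹ : k))) * (σ (ArSing.y k r) - ArSing.y k r) := by
        rw [hy]; linear_combination (-ArSing.y k r) * hxc k r h2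
      have hm := Ideal.mul_mem_left _ (-ArSing.xMap k r (C (2⁻¹ : k))) hmem
      rw [← e] at hm
      exact hm
    · rw [pow_one]
      have hmem : σ (ArSing.x k r) - ArSing.x k r ∈
          Ideal.span (Set.range fun a : ArSing.ring k r => σ a - a) :=
        Ideal.subset_span ⟨ArSing.x k r, rfl⟩
      have e : ArSing.x k r =
          (-ArSing.xMap k r (C (2⁻¹ : k))) * (σ (ArSing.x k r) - ArSing.x k r) := by
        rw [hx]; linear_combination (-ArSing.x k r) * hxc k r h2
      have hm := Ideal.mul_mem_left _ (-ArSing.xMap k r (C (2⁻¹ : k))) hmem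
      rw [← e] at hm
      exact hm

end ALevel



/-- K algebraically closed of characteristic prime to 2 and to r+1, r = 2m - 1 with m ≥ 1, σ the
involution x ↦ -x, y ↦ -y of A_r = k[[x,y]]/(y^2 - x^(r+1)), and φ : A_m → A_r the k-algebra map x ↦
x^2, y ↦ xy. Then the invariant subalgebra of σ is the image of φ and φ is injective (so A_r^σ ≅
A_m), φ is not flat, and the fixed locus of σ is the reduced closed point and is not a Cartier
divisor: the ideal generated by the elements σ(a) - a has quotient of length 1 and is not generated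
by one nonzerodivisor. -/
theorem result (k : Type u) [Field k] [IsAlgClosed k] (m r : ℕ)
    (hm : 1 ≤ m) (hr : r = 2 * m - 1) (h2 : (2 : k) ≠ 0) (hr1 : ((r + 1 : ℕ) : k) ≠ 0)
    (σ : ArSing.ring k r ≃ₐ[k] ArSing.ring k r) (hx : σ (ArSing.x k r) = -ArSing.x k r)
    (hy : σ (ArSing.y k r) = -ArSing.y k r)
    (φ : ArSing.ring k m →ₐ[k] ArSing.ring k r) (hφx : φ (ArSing.x k m) = ArSing.x k r ^ 2)
    (hφy : φ (ArSing.y k m) = ArSing.x k r * ArSing.y k r) :
    (∀ a : ArSing.ring k r, σ a = a ↔ a ∈ φ.range) ∧ Function.Injective φ ∧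
    ¬ φ.toRingHom.Flat ∧
    Module.length (ArSing.ring k r) (ArSing.ring k r ⧸ Ideal.span (Set.range fun a : ArSing.ring k r => σ a - a)) = 1 ∧
    ¬ (∃ g : ArSing.ring k r, g ∈ nonZeroDivisors (ArSing.ring k r) ∧ Ideal.span (Set.range fun a : ArSing.ring k r => σ a - a) = Ideal.span {g}) := by
  have hr2 : 2 ≤ r + 1 := by omega
  refine ⟨part1 k r m h2 σ hx hy φ hφx hφy, part2 k r m h2 φ hφx hφy,
    part3 k r m h2 hr2 φ hφx hφy, ?_, ?_⟩
  · rw [ideal_eq k r h2 σ hx hy]
    exact length_K1 k r h2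
  · rw [ideal_eq k r h2 σ hx hy]
    exact not_principal k r h2 hr2

end Groth.Agent.S14095
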