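import Mathlib
import Groth.Statements.S14097

set_option autoImplicit false
universe u
open ArSing

namespace Groth.Agent.S14097

theorem esymm_zero' {A : Type u} [CommSemiring A] (s : Multiset A) : s.esymm 0 = 1 := by
  simp [Multiset.esymm]

theorem esymm_card {A : Type u} [CommSemiring A] (s : Multiset A) :
    s.esymm (Multiset.card s) = s.prod := by
  simp [Multiset.esymm]

theorem esymm_cons {A : Type u} [CommSemiring A] (a : A) (s : Multiset A) (n : ℕ) :
    (a ::ₘ s).esymm (n + 1) = s.esymm (n + 1) + a * s.esymm n := by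
  simp only [Multiset.esymm, Multiset.powersetCard_cons, Multiset.map_add, Multiset.sum_add,
    Multiset.map_map, Function.comp_def, Multiset.prod_cons, Multiset.sum_map_mul_left]

theorem aux {A : Type u} [CommRing A] (τ a : A) (s : Multiset A) (n : ℕ)
    (hcard : s.esymm (n + 1) = s.prod) :
    ∑ j ∈ Finset.range (n + 1 + 1), τ ^ (n + 1 - j) * (a ::ₘ s).esymm j =
      (τ + a) * (∑ j ∈ Finset.range (n + 1), τ ^ (n - j) * s.esymm j) + s.prod := by
  have hT1 : ∑ j ∈ Finset.range (n + 1 + 1), τ ^ (n + 1 - j) * s.esymm j =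
      ∑ j ∈ Finset.range (n + 1), τ ^ (n - j) * s.esymm (j + 1) + τ ^ (n + 1) := by
    have h1 : ∑ j ∈ Finset.range (n + 1 + 1), τ ^ (n + 1 - j) * s.esymm j =
        ∑ j ∈ Finset.range (n + 1), τ ^ (n + 1 - (j + 1)) * s.esymm (j + 1) +
          τ ^ (n + 1 - 0) * s.esymm 0 := Finset.sum_range_succ' _ _
    rw [h1, esymm_zero', Nat.sub_zero, mul_one]
    congr 1
    refine Finset.sum_congr rfl (fun j _ => ?_)
    rw [Nat.add_sub_add_right]
  have hT2 : ∑ j ∈ Finset.range (n + 1 + 1), τ ^ (n + 1 - j) * s.esymm j =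
      τ * (∑ j ∈ Finset.range (n + 1), τ ^ (n - j) * s.esymm j) + s.prod := by
    have h1 : ∑ j ∈ Finset.range (n + 1 + 1), τ ^ (n + 1 - j) * s.esymm j =
        ∑ j ∈ Finset.range (n + 1), τ ^ (n + 1 - j) * s.esymm j +
          τ ^ (n + 1 - (n + 1)) * s.esymm (n + 1) := Finset.sum_range_succ _ _
    rw [h1, Nat.sub_self, pow_zero, one_mul, hcard, Finset.mul_sum]
    congr 1
    refine Finset.sum_congr rfl (fun j hj => ?_)
    have hj' : j < n + 1 := Finset.mem_range.mp hj
    have e : n + 1 - j = (n - j) + 1 := by omega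
    rw [e, pow_succ]; ring
  have hL : ∑ j ∈ Finset.range (n + 1 + 1), τ ^ (n + 1 - j) * (a ::ₘ s).esymm j =
      ∑ j ∈ Finset.range (n + 1), τ ^ (n + 1 - (j + 1)) * (a ::ₘ s).esymm (j + 1) +
        τ ^ (n + 1 - 0) * (a ::ₘ s).esymm 0 := Finset.sum_range_succ' _ _
  have hstep : ∑ j ∈ Finset.range (n + 1), τ ^ (n + 1 - (j + 1)) * (a ::ₘ s).esymm (j + 1) =
      ∑ j ∈ Finset.range (n + 1), τ ^ (n - j) * s.esymm (j + 1) +
        a * ∑ j ∈ Finset.range (n + 1), τ ^ (n - j) * s.esymm j := by
    rw [Finset.mul_sum, ← Finset.sum_add_distrib]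
    refine Finset.sum_congr rfl (fun j _ => ?_)
    rw [Nat.add_sub_add_right, esymm_cons]; ring
  rw [hL, hstep, esymm_zero', Nat.sub_zero, mul_one]
  linear_combination hT1.symm.trans hT2

theorem hb_lemma {A : Type u} [CommRing A] (τ : A) (h : ℕ → A) (n : ℕ)
    (hrel : h n ^ 2 + τ * h n = 0) :
    h n * (∑ j ∈ Finset.range (n + 1),
        τ ^ (n - j) * (((Multiset.range (n + 1)).map h).esymm j)) =
      ((Multiset.range (n + 1)).map h).prod := by
  cases n with
  | zero => simp [esymm_zero', Multiset.range_succ]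
  | succ n =>
    have hS : (Multiset.range (n + 1 + 1)).map h =
        h (n + 1) ::ₘ (Multiset.range (n + 1)).map h := by
      rw [Multiset.range_succ (n + 1), Multiset.map_cons]
    have hcard : ((Multiset.range (n + 1)).map h).esymm (n + 1) =
        ((Multiset.range (n + 1)).map h).prod := by
      have := esymm_card ((Multiset.range (n + 1)).map h)
      rwa [Multiset.card_map, Multiset.card_range] at this
    rw [hS, aux τ (h (n + 1)) _ n hcard, Multiset.prod_cons]
    linear_combination (∑ j ∈ Finset.range (n + 1),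
        τ ^ (n - j) * (((Multiset.range (n + 1)).map h).esymm j)) * hrel

theorem main {A : Type u} [CommRing A] (τ : A) (h : ℕ → A) :
    ∀ n : ℕ, (∀ i, i ≤ n → h i ^ 2 + τ * h i = 0) →
    ∏ i ∈ Finset.range n, (h i + h (i + 1) + τ) =
      ∑ j ∈ Finset.range (n + 1),
        τ ^ (n - j) * (((Multiset.range (n + 1)).map h).esymm j) := by
  intro n
  induction n with
  | zero =>
    intro _
    simp [esymm_zero']
  | succ n ih =>
    intro hrel
    have ihn := ih (fun i hi => hrel i (Nat.le_succ_of_le hi))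
    rw [Finset.prod_range_succ, ihn]
    have hS : (Multiset.range (n + 1 + 1)).map h =
        h (n + 1) ::ₘ (Multiset.range (n + 1)).map h := by
      rw [Multiset.range_succ (n + 1), Multiset.map_cons]
    have hcard : ((Multiset.range (n + 1)).map h).esymm (n + 1) =
        ((Multiset.range (n + 1)).map h).prod := by
      have := esymm_card ((Multiset.range (n + 1)).map h)
      rwa [Multiset.card_map, Multiset.card_range] at this
    rw [hS, aux τ (h (n + 1)) _ n hcard]
    have hb := hb_lemma τ h n (hrel n (Nat.le_succ n))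
    linear_combination hb

/-- In any commutative ring, if h_0, …, h_(k-1) (k ≥ 2) and τ satisfy h_i^2 + τ h_i = 0, then ∏_(i ≤
k-2) (h_i + h_(i+1) + τ) = Σ_(j ≤ k-1) τ^(k-1-j) e_j(h), e_j the elementary symmetric functions.
(The published statement is the resulting formula for the class of the small diagonal in the Chow
ring of (P^1)^k, where the h_i are the hyperplane classes of the factors and satisfy these
relations; only the ring identity is asserted here.) -/
theorem result (A : Type u) [CommRing A] (k : ℕ) (hk : 2 ≤ k) (τ : A)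
    (h : ℕ → A) (hrel : ∀ i, i < k → h i ^ 2 + τ * h i = 0) :
    ∏ i ∈ Finset.range (k - 1), (h i + h (i + 1) + τ) =
      ∑ j ∈ Finset.range k, τ ^ (k - 1 - j) * (((Finset.range k).val.map h).esymm j) := by
  obtain ⟨n, rfl⟩ : ∃ n, k = n + 1 := ⟨k - 1, by omega⟩
  have hm := main τ h n (fun i hi => hrel i (by omega))
  have e1 : n + 1 - 1 = n := by omega
  rw [e1, Finset.range_val]
  exact hm

end Groth.Agent.S14097
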