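import Groth.Statements.S14100
import Mathlib

set_option autoImplicit false
set_option linter.style.haveILetI false
universe w v u
open DCoh

namespace Groth.Agent.S14100

section
open CategoryTheory Triangulated DerivedCategory Pretriangulated Limits

variable {C : Type u} [Category.{v} C] [Abelian C] [HasDerivedCategory.{w} C]

variable (C) in
/-- the canonical t-structure -/
noncomputable abbrev tC : Triangulated.TStructure (DerivedCategory C) := DerivedCategory.TStructure.t

theorem lemmaA (b : ℤ) {X Y : DerivedCategory C} [X.IsGE b] [X.IsLE b] [Y.IsGE b] [Y.IsLE b]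
    (g : X ⟶ Y) (hg : (homologyFunctor C b).map g = 0) : g = 0 := by
  obtain ⟨A, ⟨eX⟩⟩ := exists_iso_singleFunctor_obj_of_isGE_of_isLE X b
  obtain ⟨B, ⟨eY⟩⟩ := exists_iso_singleFunctor_obj_of_isGE_of_isLE Y b
  obtain ⟨φ, hφ⟩ := (singleFunctor C b).map_surjective (eX.inv ≫ g ≫ eY.hom)
  have h1 : (homologyFunctor C b).map ((singleFunctor C b).map φ) = 0 := by
    rw [hφ]; simp [hg]
  have h2 : φ = 0 := by
    have := NatIso.naturality_1 (singleFunctorCompHomologyFunctorIso C b) φ
    simp only [Functor.comp_obj, Functor.id_obj, Functor.comp_map, Functor.id_map] at this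
    rw [← this, h1]; simp
  have h3 : eX.inv ≫ g ≫ eY.hom = 0 := by rw [← hφ, h2]; simp
  have h4 : g = eX.hom ≫ (eX.inv ≫ g ≫ eY.hom) ≫ eY.inv := by simp
  rw [h4, h3]; simp

theorem epi_homology_truncGEπ (b : ℤ) (X : DerivedCategory C) :
    Epi ((homologyFunctor C b).map (((tC C).truncGEπ b).app X)) := by
  have hT := (tC C).triangleLTGE_distinguished b X
  have := (HomologySequence.epi_homologyMap_mor₂_iff _ hT b (b + 1) rfl).2 ?_
  · exact this
  · apply IsZero.eq_of_tgt
    exact isZero_of_isLE (((tC C).truncLT b).obj X) (b - 1) (b + 1) (by omega)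

theorem mono_homology_truncLTι (b q : ℤ) (hq : q < b) (X : DerivedCategory C) :
    Mono ((homologyFunctor C q).map (((tC C).truncLTι b).app X)) := by
  have hT := (tC C).triangleLTGE_distinguished b X
  have := (HomologySequence.mono_homologyMap_mor₁_iff _ hT (q - 1) q (by omega)).2 ?_
  · exact this
  · apply IsZero.eq_of_src
    exact isZero_of_isGE (((tC C).truncGE b).obj X) b (q - 1) (by omega)

theorem lemmaB (b : ℤ) {X Y : DerivedCategory C} [X.IsLE b] [Y.IsLE b] (f : X ⟶ Y)
    (hf : (homologyFunctor C b).map f = 0) : f ≫ ((tC C).truncGEπ b).app Y = 0 := by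
  have hepi := epi_homology_truncGEπ b X
  have h0 : ((tC C).truncGE b).map f = 0 := by
    apply lemmaA b
    rw [← cancel_epi ((homologyFunctor C b).map (((tC C).truncGEπ b).app X)), ← Functor.map_comp,
      (tC C).truncGEπ_naturality, Functor.map_comp, hf]
    simp
  rw [← (tC C).truncGEπ_naturality, h0, comp_zero]

theorem exists_lift (b : ℤ) {X Y : DerivedCategory C} [X.IsLE b] [Y.IsLE b] (f : X ⟶ Y)
    (hf : (homologyFunctor C b).map f = 0) :
    ∃ g : X ⟶ ((tC C).truncLT b).obj Y, f = g ≫ ((tC C).truncLTι b).app Y :=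
  Triangle.coyoneda_exact₂ _ ((tC C).triangleLTGE_distinguished b Y) f (lemmaB b f hf)

theorem homology_truncLT_map_eq_zero (b q : ℤ) {X Y : DerivedCategory C} (f : X ⟶ Y)
    (hf : (homologyFunctor C q).map f = 0) :
    (homologyFunctor C q).map (((tC C).truncLT b).map f) = 0 := by
  by_cases hq : q < b
  · have := mono_homology_truncLTι b q hq Y
    rw [← cancel_mono ((homologyFunctor C q).map (((tC C).truncLTι b).app Y)), ← Functor.map_comp,
      ((tC C).truncLTι b).naturality f, Functor.id_map, Functor.map_comp, hf]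
    simp
  · apply IsZero.eq_of_src
    exact isZero_of_isLE (((tC C).truncLT b).obj X) (b - 1) q (by omega)

/-- the successor functor on `ℕ` -/
def succFunctor : ℕ ⥤ ℕ := Monotone.functor (f := fun i : ℕ => i + 1) (fun _ _ h => Nat.succ_le_succ h)

theorem main (n : ℕ) : ∀ (a : ℤ) (K : ℕ ⥤ DerivedCategory C)
    (_ : ∀ i : ℕ, i ≤ n + 1 → (K.obj i).IsGE a)
    (_ : ∀ i : ℕ, i ≤ n + 1 → (K.obj i).IsLE (a + n))
    (_ : ∀ i : ℕ, i ≤ n → ∀ q : ℤ,
      (DerivedCategory.homologyFunctor C q).map (K.map (homOfLE (Nat.le_succ i))) = 0),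
    K.map (homOfLE (Nat.zero_le (n + 1))) = 0 := by
  induction n with
  | zero =>
    intro a K hGE hLE hzero
    have h0 := hGE 0 (by omega)
    have h1 := hGE 1 (by omega)
    have h0' := hLE 0 (by omega)
    have h1' := hLE 1 (by omega)
    simp only [Nat.cast_zero, add_zero] at h0' h1'
    exact lemmaA a _ (hzero 0 le_rfl a)
  | succ n ih =>
    intro a K hGE hLE hzero
    set b : ℤ := a + ((n + 1 : ℕ) : ℤ) with hb
    have hLE' : ∀ i : ℕ, i ≤ n + 2 → (K.obj i).IsLE b := hLE
    haveI := hLE' 0 (by omega)
    haveI := hLE' 1 (by omega)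
    obtain ⟨g, hg⟩ := exists_lift b (K.map (homOfLE (Nat.le_succ 0))) (hzero 0 (by omega) b)
    let K' : ℕ ⥤ DerivedCategory C := succFunctor ⋙ K ⋙ (tC C).truncLT b
    have key : K'.map (homOfLE (Nat.zero_le (n + 1))) = 0 := by
      apply ih a K'
      · intro i hi
        haveI := hGE (i + 1) (by omega)
        show (((tC C).truncLT b).obj (K.obj (i + 1))).IsGE a
        infer_instance
      · intro i hi
        show (((tC C).truncLT b).obj (K.obj (i + 1))).IsLE (a + n)
        have : a + (n : ℤ) = b - 1 := by rw [hb]; push_cast; ring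
        rw [this]
        infer_instance
      · intro i hi q
        show (homologyFunctor C q).map (((tC C).truncLT b).map (K.map _)) = 0
        apply homology_truncLT_map_eq_zero
        exact hzero (i + 1) (by omega) q
    have hcomp : K.map (homOfLE (Nat.zero_le (n + 1 + 1))) =
        K.map (homOfLE (Nat.le_succ 0)) ≫ K.map (homOfLE (show 1 ≤ n + 1 + 1 by omega)) := by
      rw [← K.map_comp]; rfl
    rw [hcomp, hg, Category.assoc]
    have hnat := ((tC C).truncLTι b).naturality (K.map (homOfLE (show 1 ≤ n + 1 + 1 by omega)))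
    rw [Functor.id_map] at hnat
    rw [← hnat]
    have key' : ((tC C).truncLT b).map (K.map (homOfLE (show 1 ≤ n + 1 + 1 by omega))) = 0 := key
    rw [key', zero_comp, comp_zero]

end

open CategoryTheory in
/-- Let C be an abelian category, a an integer and n a natural number, and let K_0 → K_1 → ⋯ → K_{n+1}
be composable morphisms in the derived category of C such that each K_i has cohomology concentrated
in degrees a, …, a+n and each map K_i → K_{i+1} induces zero on every cohomology object. Then the
composite K_0 → K_{n+1} is zero. (The chain is given as a functor from the ordered set of natural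
numbers; only its values on 0, …, n+1 matter.) -/
theorem result
    (C : Type u) [Category.{v} C] [Abelian C] [HasDerivedCategory.{w} C]
    (a : ℤ) (n : ℕ) (K : ℕ ⥤ DerivedCategory C)
    (hGE : ∀ i : ℕ, i ≤ n + 1 → (K.obj i).IsGE a)
    (hLE : ∀ i : ℕ, i ≤ n + 1 → (K.obj i).IsLE (a + n))
    (hzero : ∀ i : ℕ, i ≤ n → ∀ q : ℤ,
      (DerivedCategory.homologyFunctor C q).map (K.map (homOfLE (Nat.le_succ i))) = 0) :
    K.map (homOfLE (Nat.zero_le (n + 1))) = 0 :=
  main n a K hGE hLE hzero

end Groth.Agent.S14100
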