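import Groth.Statements.S14102
import Mathlib
-- import your own Groth.Agent.* helpers here

set_option autoImplicit false
universe w u
open DCoh

namespace Groth.Agent.S14102

open CategoryTheory Limits MonoidalCategory TensorProduct

section Ghost

open DerivedCategory Pretriangulated Triangulated

universe w' v' u'

variable {C : Type u'} [Category.{v'} C] [Abelian C] [HasDerivedCategory.{w'} C]

variable (C) in
/-- The canonical t-structure. -/
noncomputable abbrev tD : Triangulated.TStructure (DerivedCategory C) := DerivedCategory.TStructure.t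

/-- A morphism between objects concentrated in degree `k` which is zero on `H^k` is zero. -/
lemma heart_zero (k : ℤ) (U V : DerivedCategory C) [U.IsGE k] [U.IsLE k] [V.IsGE k] [V.IsLE k]
    (ψ : U ⟶ V) (h : (homologyFunctor C k).map ψ = 0) : ψ = 0 := by
  obtain ⟨A₁, ⟨e₁⟩⟩ := exists_iso_singleFunctor_obj_of_isGE_of_isLE U k
  obtain ⟨A₂, ⟨e₂⟩⟩ := exists_iso_singleFunctor_obj_of_isGE_of_isLE V k
  obtain ⟨g, hg⟩ := (singleFunctor C k).map_surjective (e₁.inv ≫ ψ ≫ e₂.hom)
  have h1 : (homologyFunctor C k).map ((singleFunctor C k).map g) = 0 := by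
    rw [hg, CategoryTheory.Functor.map_comp, CategoryTheory.Functor.map_comp, h, zero_comp,
      comp_zero]
  have nat : (homologyFunctor C k).map ((singleFunctor C k).map g) ≫
      (singleFunctorCompHomologyFunctorIso C k).hom.app A₂ =
      (singleFunctorCompHomologyFunctorIso C k).hom.app A₁ ≫ g :=
    (singleFunctorCompHomologyFunctorIso C k).hom.naturality g
  rw [h1, zero_comp] at nat
  have hg0 : g = 0 := by
    rw [← cancel_epi ((singleFunctorCompHomologyFunctorIso C k).hom.app A₁), ← nat, comp_zero]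
  rw [hg0, CategoryTheory.Functor.map_zero] at hg
  have e : ψ = e₁.hom ≫ (e₁.inv ≫ ψ ≫ e₂.hom) ≫ e₂.inv := by simp
  rw [e, ← hg, zero_comp, comp_zero]

lemma epi_H_truncGEπ (k : ℤ) (X : DerivedCategory C) :
    Epi ((homologyFunctor C k).map (((tD C).truncGEπ k).app X)) :=
  (HomologySequence.epi_homologyMap_mor₂_iff _ ((tD C).triangleLTGE_distinguished k X) k (k + 1)
    rfl).2
    (IsZero.eq_of_tgt (isZero_of_isLE (((tD C).truncLT k).obj X) (k - 1) (k + 1) (by omega)) _ _)

lemma mono_H_truncLTι (k₀ k₁ : ℤ) (hk : k₀ + 1 = k₁) (Y : DerivedCategory C) :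
    Mono ((homologyFunctor C k₀).map (((tD C).truncLTι k₁).app Y)) :=
  (HomologySequence.mono_homologyMap_mor₁_iff _ ((tD C).triangleLTGE_distinguished k₁ Y) (k₀ - 1) k₀
    (by omega)).2
    (IsZero.eq_of_src (isZero_of_isGE (((tD C).truncGE k₁).obj Y) k₁ (k₀ - 1) (by omega)) _ _)

lemma step (k₀ k₁ : ℤ) (hk : k₀ + 1 = k₁) (X Y : DerivedCategory C) [X.IsGE k₀] [Y.IsGE k₀]
    (f : X ⟶ Y) (hf : (homologyFunctor C k₀).map f = 0) :
    ∃ h : ((tD C).truncGE k₁).obj X ⟶ Y, f = ((tD C).truncGEπ k₁).app X ≫ h := by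
  subst hk
  have nat : ((tD C).truncLT (k₀ + 1)).map f ≫ ((tD C).truncLTι (k₀ + 1)).app Y =
      ((tD C).truncLTι (k₀ + 1)).app X ≫ f := ((tD C).truncLTι (k₀ + 1)).naturality f
  have hτ : ((tD C).truncLT (k₀ + 1)).map f = 0 := by
    apply heart_zero k₀
    have := mono_H_truncLTι k₀ (k₀ + 1) rfl Y
    rw [← cancel_mono ((homologyFunctor C k₀).map (((tD C).truncLTι (k₀ + 1)).app Y)), zero_comp,
      ← CategoryTheory.Functor.map_comp, nat, CategoryTheory.Functor.map_comp, hf, comp_zero]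
  have h0 : ((tD C).truncLTι (k₀ + 1)).app X ≫ f = 0 := by
    rw [← nat, hτ, zero_comp]
  exact Triangle.yoneda_exact₂ _ ((tD C).triangleLTGE_distinguished (k₀ + 1) X) f h0

/-- Composite of a sequence of maps `Y n ⟶ ... ⟶ Y 1 ⟶ Y 0`. -/
noncomputable def compSeq (Y : ℕ → DerivedCategory C) (f : ∀ i, Y (i + 1) ⟶ Y i) :
    ∀ n, Y n ⟶ Y 0
  | 0 => 𝟙 _
  | (n + 1) => f n ≫ compSeq Y f n

lemma comp_ghost (a : ℤ) (Y : ℕ → DerivedCategory C) (f : ∀ i, Y (i + 1) ⟶ Y i)
    (hY : ∀ i, (Y i).IsGE a) (hf : ∀ i q, (homologyFunctor C q).map (f i) = 0) :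
    ∀ (n : ℕ) (k : ℤ), k = a + n → ∃ g : ((tD C).truncGE k).obj (Y n) ⟶ Y 0,
      compSeq Y f n = ((tD C).truncGEπ k).app (Y n) ≫ g := by
  intro n
  induction n with
  | zero =>
    intro k hk
    have hk' : k = a := by simpa using hk
    subst hk'
    have := hY 0
    exact ⟨inv (((tD C).truncGEπ k).app (Y 0)), by simp [compSeq]⟩
  | succ n ih =>
    intro k hk
    obtain ⟨g, hg⟩ := ih (k - 1) (by push_cast at hk; omega)
    have := hY n
    have := hY (n + 1)
    have hτ : (homologyFunctor C (k - 1)).map (((tD C).truncGE (k - 1)).map (f n)) = 0 := by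
      have := epi_H_truncGEπ (k - 1) (Y (n + 1))
      rw [← cancel_epi ((homologyFunctor C (k - 1)).map (((tD C).truncGEπ (k - 1)).app (Y (n + 1)))),
        comp_zero, ← CategoryTheory.Functor.map_comp, (tD C).truncGEπ_naturality,
        CategoryTheory.Functor.map_comp, hf, zero_comp]
    obtain ⟨h, hh⟩ := step (k - 1) k (by omega) _ _ (((tD C).truncGE (k - 1)).map (f n)) hτ
    refine ⟨((tD C).truncGE k).map (((tD C).truncGEπ (k - 1)).app (Y (n + 1))) ≫ h ≫ g, ?_⟩
    have e1 : f n ≫ ((tD C).truncGEπ (k - 1)).app (Y n) ≫ g =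
        ((tD C).truncGEπ (k - 1)).app (Y (n + 1)) ≫ ((tD C).truncGE (k - 1)).map (f n) ≫ g := by
      rw [← Category.assoc, ← (tD C).truncGEπ_naturality (k - 1) (f n), Category.assoc]
    have e2 : ((tD C).truncGEπ k).app (Y (n + 1)) ≫
        ((tD C).truncGE k).map (((tD C).truncGEπ (k - 1)).app (Y (n + 1))) ≫ h ≫ g =
        ((tD C).truncGEπ (k - 1)).app (Y (n + 1)) ≫
          ((tD C).truncGEπ k).app (((tD C).truncGE (k - 1)).obj (Y (n + 1))) ≫ h ≫ g := by
      have nat2 : ((tD C).truncGEπ k).app (Y (n + 1)) ≫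
          ((tD C).truncGE k).map (((tD C).truncGEπ (k - 1)).app (Y (n + 1))) =
          ((tD C).truncGEπ (k - 1)).app (Y (n + 1)) ≫
            ((tD C).truncGEπ k).app (((tD C).truncGE (k - 1)).obj (Y (n + 1))) :=
        (tD C).truncGEπ_naturality k _
      rw [← Category.assoc, nat2, Category.assoc]
    rw [e2]
    show f n ≫ compSeq Y f n = _
    rw [hg, e1, hh]
    simp only [Category.assoc]

theorem comp_ghost_eq_zero (a b : ℤ) (Y : ℕ → DerivedCategory C) (f : ∀ i, Y (i + 1) ⟶ Y i)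
    (hY : ∀ i, (Y i).IsGE a) (hY' : ∀ i, (Y i).IsLE b)
    (hf : ∀ i q, (homologyFunctor C q).map (f i) = 0)
    (n : ℕ) (hn : b < a + n) : compSeq Y f n = 0 := by
  obtain ⟨g, hg⟩ := comp_ghost a Y f hY hf n (a + n) rfl
  have := hY' n
  have : (Y n).IsLE (a + n - 1) := (tD C).isLE_of_le _ b _ (by omega)
  have hz : IsZero (((tD C).truncGE (a + n)).obj (Y n)) :=
    (tD C).isZero_truncGE_obj_of_isLE (a + n - 1) (a + n) (by omega) _
  rw [hg, hz.eq_of_tgt (((tD C).truncGEπ (a + n)).app (Y n)) 0, zero_comp]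

lemma ghost_of_homologyMap_zero {K L : CochainComplex C ℤ} (φ : K ⟶ L) (q : ℤ)
    (h : HomologicalComplex.homologyMap φ q = 0) :
    (homologyFunctor C q).map (Q.map φ) = 0 := by
  have nat : (homologyFunctor C q).map (Q.map φ) ≫ (homologyFunctorFactors C q).hom.app L = 0 := by
    rw [homologyFunctorFactors_hom_naturality, h]
    exact comp_zero
  rw [← cancel_mono ((homologyFunctorFactors C q).hom.app L), nat, zero_comp]

end Ghost

section Lin

variable {A : Type u} [CommRing A]

/-- The multiplication map `I ⊗ V → V`. -/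
noncomputable def mu (I : Ideal A) (V : Type u) [AddCommGroup V] [Module A V] :
    (↥I ⊗[A] V) →ₗ[A] V :=
  (TensorProduct.lid A V).toLinearMap ∘ₗ LinearMap.rTensor V I.subtype

lemma mu_tmul (I : Ideal A) (V : Type u) [AddCommGroup V] [Module A V] (x : I) (v : V) :
    mu I V (x ⊗ₜ[A] v) = (x : A) • v := by
  simp [mu]

lemma mu_lTensor (I : Ideal A) {V W : Type u} [AddCommGroup V] [Module A V] [AddCommGroup W]
    [Module A W] (g : V →ₗ[A] W) (z : ↥I ⊗[A] V) :
    mu I W (LinearMap.lTensor I g z) = g (mu I V z) := by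
  induction z using TensorProduct.induction_on with
  | zero => simp
  | tmul x v => simp [mu_tmul]
  | add x y hx hy => simp [hx, hy]

lemma mu_rTensor {I' I : Ideal A} (h : I' ≤ I) (V : Type u) [AddCommGroup V] [Module A V]
    (z : ↥I' ⊗[A] V) :
    mu I V (LinearMap.rTensor V (Submodule.inclusion h) z) = mu I' V z := by
  induction z using TensorProduct.induction_on with
  | zero => simp
  | tmul x v => simp [mu_tmul]
  | add x y hx hy => simp [hx, hy]

lemma mu_injective (I : Ideal A) (V : Type u) [AddCommGroup V] [Module A V] [Module.Flat A V] :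
    Function.Injective (mu I V) := by
  unfold mu
  rw [LinearMap.coe_comp]
  exact (TensorProduct.lid A V).injective.comp
    (Module.Flat.rTensor_preserves_injective_linearMap _ Subtype.val_injective)

lemma mu_mem (I : Ideal A) (V : Type u) [AddCommGroup V] [Module A V] (z : ↥I ⊗[A] V) :
    mu I V z ∈ (I • ⊤ : Submodule A V) := by
  induction z using TensorProduct.induction_on with
  | zero => simp
  | tmul x v => rw [mu_tmul]; exact Submodule.smul_mem_smul x.2 Submodule.mem_top
  | add x y hx hy => rw [map_add]; exact Submodule.add_mem _ hx hy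

lemma mu_surj (I : Ideal A) (V : Type u) [AddCommGroup V] [Module A V] {w : V}
    (hw : w ∈ (I • ⊤ : Submodule A V)) : ∃ z, mu I V z = w := by
  refine Submodule.smul_induction_on hw (fun r hr n _ => ⟨(⟨r, hr⟩ : I) ⊗ₜ[A] n, ?_⟩) ?_
  · rw [mu_tmul]
  · rintro x y ⟨zx, hx⟩ ⟨zy, hy⟩
    exact ⟨zx + zy, by rw [map_add, hx, hy]⟩

lemma ar_step [IsNoetherianRing A] (J : Ideal A) {V' V V'' : Type u} [AddCommGroup V']
    [Module A V'] [AddCommGroup V] [Module A V] [AddCommGroup V''] [Module A V'']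
    [Module.Finite A V] (d' : V' →ₗ[A] V) (d : V →ₗ[A] V'')
    (hJ : ∀ x ∈ J, ∀ z : V, d z = 0 → ∃ y, d' y = x • z) :
    ∃ c : ℕ, ∀ c' ≥ c, ∀ (k : ℕ) (w : V), w ∈ (J ^ (k + c' + 1) • ⊤ : Submodule A V) → d w = 0 →
      ∃ w' ∈ (J ^ k • ⊤ : Submodule A V'), d' w' = w := by
  obtain ⟨c, hc⟩ := Ideal.exists_pow_inf_eq_pow_smul J (LinearMap.ker d)
  refine ⟨c, fun c' hc' k w hw hdw => ?_⟩
  have h1 : w ∈ (J ^ (k + c + 1) • ⊤ ⊓ LinearMap.ker d : Submodule A V) := by
    refine ⟨?_, hdw⟩
    exact Submodule.smul_mono_left (Ideal.pow_le_pow_right (by omega)) hw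
  rw [hc (k + c + 1) (by omega)] at h1
  have e : k + c + 1 - c = k + 1 := by omega
  rw [e, pow_succ, Submodule.mul_smul] at h1
  have h2 : (J ^ k • (J • (J ^ c • ⊤ ⊓ LinearMap.ker d)) : Submodule A V) ≤
      Submodule.map d' (J ^ k • ⊤) := by
    rw [Submodule.map_smul'']
    refine Submodule.smul_mono le_rfl ?_
    rw [Submodule.smul_le]
    intro x hx z hz
    obtain ⟨y, hy⟩ := hJ x hx z (LinearMap.mem_ker.1 hz.2)
    exact ⟨y, Submodule.mem_top, hy⟩
  obtain ⟨w', hw', hw'2⟩ := h2 h1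
  exact ⟨w', hw', hw'2⟩

lemma key {I' I : Ideal A} (h : I' ≤ I) {V' V V'' : Type u} [AddCommGroup V']
    [Module A V'] [AddCommGroup V] [Module A V] [AddCommGroup V''] [Module A V'']
    [Module.Flat A V] (d' : V' →ₗ[A] V) (d : V →ₗ[A] V'')
    (hP : ∀ w ∈ (I' • ⊤ : Submodule A V), d w = 0 → ∃ w' ∈ (I • ⊤ : Submodule A V'), d' w' = w)
    (z : ↥I' ⊗[A] V) (hz : LinearMap.lTensor I' d z = 0) :
    ∃ y : ↥I ⊗[A] V', LinearMap.lTensor I d' y = LinearMap.rTensor V (Submodule.inclusion h) z := by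
  have hw : d (mu I' V z) = 0 := by rw [← mu_lTensor, hz, map_zero]
  obtain ⟨w', hw', e⟩ := hP _ (mu_mem I' V z) hw
  obtain ⟨y, hy⟩ := mu_surj I V' hw'
  refine ⟨y, mu_injective I V ?_⟩
  rw [mu_lTensor, hy, e, mu_rTensor]

lemma hm0 {S₁ S₂ : ShortComplex (ModuleCat.{u} A)} (φ : S₁ ⟶ S₂)
    (h : ∀ z : S₁.X₂, S₁.g.hom z = 0 → ∃ y : S₂.X₁, S₂.f.hom y = φ.τ₂.hom z) :
    ShortComplex.homologyMap φ = 0 := by
  rw [← cancel_epi S₁.homologyπ, comp_zero, ShortComplex.homologyπ_naturality]
  apply ModuleCat.hom_ext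
  apply LinearMap.ext
  intro z
  have hz : S₁.g.hom (S₁.iCycles.hom z) = 0 := congrArg (fun g => g.hom z) S₁.iCycles_g
  obtain ⟨y, hy⟩ := h _ hz
  have e : (ShortComplex.cyclesMap φ).hom z = S₂.toCycles.hom y := by
    apply (ModuleCat.mono_iff_injective S₂.iCycles).1 inferInstance
    have e1 := congrArg (fun g => g.hom z) (ShortComplex.cyclesMap_i φ)
    have e2 := congrArg (fun g => g.hom y) S₂.toCycles_i
    exact e1.trans (hy.symm.trans e2.symm)
  have e3 := congrArg (fun g => g.hom y) S₂.toCycles_comp_homologyπ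
  show S₂.homologyπ.hom ((ShortComplex.cyclesMap φ).hom z) = 0
  rw [e]
  exact e3

variable (K : CochainComplex (ModuleCat.{u} A) ℤ)

lemma kills (J : Ideal A) (hJ : ∀ q : ℤ, ∀ x ∈ J, ∀ c : ↑(K.homology q), x • c = 0)
    (q : ℤ) (x : A) (hx : x ∈ J) (z : K.X q) (hz : (K.sc q).g.hom z = 0) :
    ∃ y, (K.sc q).f.hom y = x • z := by
  let S := K.sc q
  let zz : LinearMap.ker S.g.hom := ⟨z, hz⟩
  have h1 := hJ q x hx
    (S.moduleCatHomologyIso.inv.hom ((LinearMap.range S.moduleCatToCycles).mkQ zz))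
  have h2 := congrArg S.moduleCatHomologyIso.hom.hom h1
  have h2' : x • (S.moduleCatHomologyIso.hom.hom
      (S.moduleCatHomologyIso.inv.hom ((LinearMap.range S.moduleCatToCycles).mkQ zz))) = 0 :=
    (LinearMap.map_smul S.moduleCatHomologyIso.hom.hom x _).symm.trans
      (h2.trans (LinearMap.map_zero _))
  have h3 : S.moduleCatHomologyIso.hom.hom
      (S.moduleCatHomologyIso.inv.hom ((LinearMap.range S.moduleCatToCycles).mkQ zz)) =
      (LinearMap.range S.moduleCatToCycles).mkQ zz :=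
    congrArg (fun g => g.hom ((LinearMap.range S.moduleCatToCycles).mkQ zz))
      S.moduleCatHomologyIso.inv_hom_id
  rw [h3] at h2'
  have h4 : (LinearMap.range S.moduleCatToCycles).mkQ (x • zz) = 0 :=
    (LinearMap.map_smul _ x zz).trans h2'
  rw [Submodule.mkQ_apply, Submodule.Quotient.mk_eq_zero] at h4
  obtain ⟨y, hy⟩ := h4
  exact ⟨y, congrArg Subtype.val hy⟩

/-- The complex `I ⊗ K`. -/
noncomputable abbrev T (I : Ideal A) : CochainComplex (ModuleCat.{u} A) ℤ :=
  (((curriedTensor (ModuleCat.{u} A)).obj (ModuleCat.of A ↥I)).mapHomologicalComplex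
    (ComplexShape.up ℤ)).obj K

/-- The map `I' ⊗ K ⟶ I ⊗ K` induced by an inclusion of ideals. -/
noncomputable abbrev tmap {I' I : Ideal A} (h : I' ≤ I) : T K I' ⟶ T K I :=
  (NatTrans.mapHomologicalComplex ((curriedTensor (ModuleCat.{u} A)).map
    (ModuleCat.ofHom (Submodule.inclusion h))) (ComplexShape.up ℤ)).app K

lemma tmap_comp {I₁ I₂ I₃ : Ideal A} (h₁ : I₁ ≤ I₂) (h₂ : I₂ ≤ I₃) :
    tmap K h₁ ≫ tmap K h₂ = tmap K (h₁.trans h₂) := by
  ext q : 1
  apply ModuleCat.hom_ext
  apply TensorProduct.ext'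
  intro x v
  rfl

lemma tmap_refl {I : Ideal A} (h : I ≤ I) : tmap K h = 𝟙 _ := by
  ext q : 1
  apply ModuleCat.hom_ext
  apply TensorProduct.ext'
  intro x v
  rfl

lemma tmap_homologyMap_zero {I' I : Ideal A} (h : I' ≤ I) (q : ℤ) [Module.Flat A (K.X q)]
    (hP : ∀ w ∈ (I' • ⊤ : Submodule A (K.X q)), (K.sc q).g.hom w = 0 →
      ∃ w' ∈ (I • ⊤ : Submodule A (K.X ((ComplexShape.up ℤ).prev q))), (K.sc q).f.hom w' = w) :
    HomologicalComplex.homologyMap (tmap K h) q = 0 := by
  apply hm0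
  intro z hz
  have : Module.Flat A ↑(K.sc q).X₂ := inferInstanceAs (Module.Flat A (K.X q))
  exact key h (K.sc q).f.hom (K.sc q).g.hom hP z hz

end Lin

/-- Affine form — let A be a Noetherian commutative ring, K a bounded cochain complex of finitely
generated projective A-modules and J an ideal of A that annihilates every cohomology module of K.
Then for some natural number n and every positive integer m, the map J^(n+m) ⊗_A K → J^m ⊗_A K
induced by the inclusion of ideals is zero in the derived category of A-modules. (The published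
statement is for a perfect complex on a noetherian scheme or formal scheme with the derived tensor
product; over an affine scheme a perfect complex is represented by a bounded complex of finitely
generated projective modules, for which the derived tensor product with J^m is the termwise tensor
product used here.) -/
theorem result
    (A : Type u) [CommRing A] [IsNoetherianRing A] [HasDerivedCategory.{w} (ModuleCat.{u} A)]
    (K : CochainComplex (ModuleCat.{u} A) ℤ) (a b : ℤ)
    (hK : ∀ q : ℤ, q < a ∨ b < q → Limits.IsZero (K.X q))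
    (hfin : ∀ q : ℤ, Module.Finite A (K.X q)) (hproj : ∀ q : ℤ, Module.Projective A (K.X q))
    (J : Ideal A) (hJ : ∀ q : ℤ, ∀ x ∈ J, ∀ c : ↑(K.homology q), x • c = 0) :
    ∃ n : ℕ, ∀ m : ℕ, 0 < m →
      DerivedCategory.Q.map
        ((NatTrans.mapHomologicalComplex
          ((curriedTensor (ModuleCat.{u} A)).map
            (ModuleCat.ofHom (Submodule.inclusion (p := J ^ (n + m)) (p' := J ^ m)
              (Ideal.pow_le_pow_right (Nat.le_add_left m n)))))
          (ComplexShape.up ℤ)).app K) = 0 := by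
  have h1 : ∀ q : ℤ, ∃ c : ℕ, ∀ c' ≥ c, ∀ (k : ℕ) (w : K.X q),
      w ∈ (J ^ (k + c' + 1) • ⊤ : Submodule A (K.X q)) → (K.sc q).g.hom w = 0 →
      ∃ w' ∈ (J ^ k • ⊤ : Submodule A (K.X ((ComplexShape.up ℤ).prev q))),
        (K.sc q).f.hom w' = w := by
    intro q
    have : Module.Finite A ↑(K.sc q).X₂ := hfin q
    exact ar_step J (K.sc q).f.hom (K.sc q).g.hom (fun x hx z hz => kills K J hJ q x hx z hz)
  choose cf hcf using h1
  let c := (Finset.Icc a b).sup cf
  have hP : ∀ (q : ℤ) (k : ℕ) (w : K.X q),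
      w ∈ (J ^ (k + c + 1) • ⊤ : Submodule A (K.X q)) → (K.sc q).g.hom w = 0 →
      ∃ w' ∈ (J ^ k • ⊤ : Submodule A (K.X ((ComplexShape.up ℤ).prev q))),
        (K.sc q).f.hom w' = w := by
    intro q k w hw hdw
    by_cases hq : q ∈ Finset.Icc a b
    · exact hcf q c (Finset.le_sup hq) k w hw hdw
    · have hz : IsZero (K.X q) := hK q (by rw [Finset.mem_Icc] at hq; omega)
      have : Subsingleton (K.X q) := ModuleCat.subsingleton_of_isZero hz
      exact ⟨0, Submodule.zero_mem _, @Subsingleton.elim _ this _ _⟩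
  have hℓ : b - a + 1 ≤ ((b - a + 1).toNat : ℤ) := Int.self_le_toNat _
  refine ⟨(c + 1) * (b - a + 1).toNat, fun m _ => ?_⟩
  have hmono : ∀ i : ℕ, m + (c + 1) * i ≤ m + (c + 1) * (i + 1) := fun i =>
    Nat.add_le_add_left (Nat.mul_le_mul_left _ (Nat.le_succ i)) m
  have hmono0 : ∀ i : ℕ, m + (c + 1) * 0 ≤ m + (c + 1) * i := fun i =>
    Nat.add_le_add_left (Nat.mul_le_mul_left _ (Nat.zero_le i)) m
  let Y : ℕ → DerivedCategory (ModuleCat.{u} A) := fun i =>
    DerivedCategory.Q.obj (T K (J ^ (m + (c + 1) * i)))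
  let f : ∀ i, Y (i + 1) ⟶ Y i := fun i =>
    DerivedCategory.Q.map (tmap K (Ideal.pow_le_pow_right (hmono i)))
  have hGE : ∀ i, (Y i).IsGE a := fun i => by
    have : (T K (J ^ (m + (c + 1) * i))).IsStrictlyGE a := by
      rw [CochainComplex.isStrictlyGE_iff]
      intro j hj
      exact Functor.map_isZero ((curriedTensor (ModuleCat.{u} A)).obj
        (ModuleCat.of A ↥(J ^ (m + (c + 1) * i)))) (hK j (Or.inl hj))
    show (DerivedCategory.Q.obj (T K (J ^ (m + (c + 1) * i)))).IsGE a
    infer_instance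
  have hLE : ∀ i, (Y i).IsLE b := fun i => by
    have : (T K (J ^ (m + (c + 1) * i))).IsStrictlyLE b := by
      rw [CochainComplex.isStrictlyLE_iff]
      intro j hj
      exact Functor.map_isZero ((curriedTensor (ModuleCat.{u} A)).obj
        (ModuleCat.of A ↥(J ^ (m + (c + 1) * i)))) (hK j (Or.inr hj))
    show (DerivedCategory.Q.obj (T K (J ^ (m + (c + 1) * i)))).IsLE b
    infer_instance
  have hghost : ∀ i q, (DerivedCategory.homologyFunctor (ModuleCat.{u} A) q).map (f i) = 0 := by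
    intro i q
    have : Module.Flat A (K.X q) := by
      have := hproj q
      infer_instance
    have e : m + (c + 1) * (i + 1) = (m + (c + 1) * i) + c + 1 := by ring
    refine ghost_of_homologyMap_zero _ q (tmap_homologyMap_zero K _ q ?_)
    intro w hw hdw
    rw [e] at hw
    exact hP q _ w hw hdw
  have hcomp : ∀ n : ℕ, compSeq Y f n =
      DerivedCategory.Q.map (tmap K (Ideal.pow_le_pow_right (hmono0 n))) := by
    intro n
    induction n with
    | zero =>
      show 𝟙 _ = _
      rw [tmap_refl, CategoryTheory.Functor.map_id]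
    | succ n ih =>
      show f n ≫ compSeq Y f n = _
      rw [ih]
      show DerivedCategory.Q.map _ ≫ DerivedCategory.Q.map _ = _
      rw [← CategoryTheory.Functor.map_comp, tmap_comp]
  have hzero := comp_ghost_eq_zero a b Y f hGE hLE hghost (b - a + 1).toNat (by omega)
  rw [hcomp] at hzero
  have hle : J ^ ((c + 1) * (b - a + 1).toNat + m) ≤ J ^ (m + (c + 1) * (b - a + 1).toNat) :=
    le_of_eq (by rw [add_comm])
  have hfac := tmap_comp K hle (Ideal.pow_le_pow_right (hmono0 (b - a + 1).toNat))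
  show DerivedCategory.Q.map (tmap K _) = 0
  have : DerivedCategory.Q.map (tmap K hle) ≫
      DerivedCategory.Q.map (tmap K (Ideal.pow_le_pow_right (hmono0 (b - a + 1).toNat))) = 0 := by
    rw [hzero, comp_zero]
  rw [← CategoryTheory.Functor.map_comp, hfac] at this
  exact this

end Groth.Agent.S14102
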