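import Groth.Statements.S14105
import Groth.Agent.H9.FiberCodim
import Groth.Agent.H9.QuotDim
set_option linter.style.haveILetI false

set_option autoImplicit false
universe u
open CategoryTheory CategoryTheory.Limits AlgebraicGeometry Opposite TopologicalSpace
open CInt

namespace Groth.Agent.S14105

open IsLocalRing Groth.Agent.H9 Groth.Agent.H9.FiberCodim

/-- The local ring of a fibre at a point, compared with `CInt.fiberStalk` at its image. -/
theorem nonempty_equiv_fiberStalk {X S : Scheme.{u}} (f : X ⟶ S) (s : S) (z : ↥(f.fiber s)) :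
    Nonempty ((f.fiber s).presheaf.stalk z ≃+* CInt.fiberStalk f ((f.fiberι s).base z)) := by
  obtain ⟨e⟩ := exists_fiberStalk_equiv f ((f.fiberι s).base z)
  exact ⟨(fiberStalkEquiv f s z).symm.trans e⟩

theorem isNoetherianRing_fiber_stalk {X S : Scheme.{u}} [IsLocallyNoetherian X] (f : X ⟶ S) (s : S)
    (z : ↥(f.fiber s)) : IsNoetherianRing ((f.fiber s).presheaf.stalk z) :=
  isNoetherianRing_of_ringEquiv _ (fiberStalkEquiv f s z)

theorem flat_SpecMap_of_field {k : Type u} [Field k] {K₁ : CommRingCat.{u}}
    (φ : CommRingCat.of k ⟶ K₁) : Flat (Spec.map φ) := by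
  rw [HasRingHomProperty.Spec_iff (P := @Flat)]
  letI := φ.hom.toAlgebra
  show Module.Flat k K₁
  infer_instance

section

variable {X S S' : Scheme.{u}} (f : X ⟶ S) (g : S' ⟶ S) (s' : S')

/-- The morphism from the fibre of the base change to the fibre of `f`. -/
noncomputable def fibMap : (pullback.snd f g).fiber s' ⟶ f.fiber (g.base s') :=
  pullback.map _ _ _ _ (pullback.fst f g) (Spec.map (g.residueFieldMap s')) g
    (IsPullback.of_hasPullback f g).w.symm (by simp)

theorem isPullback_fibMap :
    IsPullback (fibMap f g s') ((pullback.snd f g).fiberToSpecResidueField s')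
      (f.fiberToSpecResidueField (g.base s')) (Spec.map (g.residueFieldMap s')) :=
  isPullback_fiberToSpecResidueField_of_isPullback (IsPullback.of_hasPullback f g) s'

theorem flat_fibMap : Flat (fibMap f g s') :=
  MorphismProperty.of_isPullback (P := @Flat) (isPullback_fibMap f g s').flip
    (flat_SpecMap_of_field (k := S.residueField (g.base s')) (g.residueFieldMap s'))

theorem fibMap_fiberι :
    fibMap f g s' ≫ f.fiberι (g.base s') = (pullback.snd f g).fiberι s' ≫ pullback.fst f g := by
  unfold fibMap Scheme.Hom.fiberι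
  exact pullback.lift_fst _ _ _

theorem fiberι_fibMap_apply (z' : ↥((pullback.snd f g).fiber s')) :
    (f.fiberι (g.base s')).base ((fibMap f g s').base z') =
      (pullback.fst f g).base (((pullback.snd f g).fiberι s').base z') := by
  have := congrArg (fun m => m.base z') (fibMap_fiberι f g s')
  simpa using this

end

theorem key_le {X S S' : Scheme.{u}} (f : X ⟶ S) (g : S' ⟶ S)
    [IsLocallyNoetherian X] [IsLocallyNoetherian (pullback f g)] (y' : ↥(pullback f g)) :
    ringKrullDim ↑(CInt.fiberStalk f ((pullback.fst f g).base y')) ≤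
      ringKrullDim ↑(CInt.fiberStalk (pullback.snd f g) y') := by
  let s' := (pullback.snd f g).base y'
  let z' : ↥((pullback.snd f g).fiber s') := (pullback.snd f g).asFiber y'
  have hz : (f.fiberι (g.base s')).base ((fibMap f g s').base z') = (pullback.fst f g).base y' := by
    rw [fiberι_fibMap_apply]
    exact congrArg _ ((pullback.snd f g).fiberι_asFiber y')
  obtain ⟨e1⟩ := nonempty_equiv_fiberStalk f (g.base s') ((fibMap f g s').base z')
  have h1 : ringKrullDim ↑((f.fiber (g.base s')).presheaf.stalk ((fibMap f g s').base z')) =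
      ringKrullDim ↑(CInt.fiberStalk f ((pullback.fst f g).base y')) := by
    rw [← hz]
    exact ringKrullDim_eq_of_ringEquiv e1
  haveI := isNoetherianRing_fiber_stalk f (g.base s') ((fibMap f g s').base z')
  haveI := isNoetherianRing_fiber_stalk (pullback.snd f g) s' z'
  haveI := flat_fibMap f g s'
  have h2 := Groth.Agent.H25.DimLocal.ringKrullDim_le_of_flat ((fibMap f g s').stalkMap z').hom
    (AlgebraicGeometry.Flat.stalkMap (fibMap f g s') z')
  rw [← h1]
  exact h2

theorem key_ge {X S S' : Scheme.{u}} (f : X ⟶ S) (g : S' ⟶ S)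
    [IsLocallyNoetherian X] [IsLocallyNoetherian (pullback f g)] (y₀ : ↥(pullback f g)) :
    ∃ y' : ↥(pullback f g), (pullback.fst f g).base y' = (pullback.fst f g).base y₀ ∧
      ringKrullDim ↑(CInt.fiberStalk (pullback.snd f g) y') ≤
        ringKrullDim ↑(CInt.fiberStalk f ((pullback.fst f g).base y₀)) := by
  let s' := (pullback.snd f g).base y₀
  let z₀' : ↥((pullback.snd f g).fiber s') := (pullback.snd f g).asFiber y₀
  obtain ⟨z', hz', h0⟩ := Groth.Agent.H9.QuotDim.exists_point_fiber_dim_zero (fibMap f g s')
    ((fibMap f g s').base z₀') ⟨z₀', rfl⟩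
  have hpt : (f.fiberι (g.base s')).base ((fibMap f g s').base z') =
      (pullback.fst f g).base y₀ := by
    rw [hz', fiberι_fibMap_apply]
    exact congrArg _ ((pullback.snd f g).fiberι_asFiber y₀)
  refine ⟨((pullback.snd f g).fiberι s').base z', ?_, ?_⟩
  · rw [← fiberι_fibMap_apply, hpt]
  · obtain ⟨e1⟩ := nonempty_equiv_fiberStalk f (g.base s') ((fibMap f g s').base z')
    obtain ⟨e2⟩ := nonempty_equiv_fiberStalk (pullback.snd f g) s' z'
    have h1 : ringKrullDim ↑((f.fiber (g.base s')).presheaf.stalk ((fibMap f g s').base z')) =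
        ringKrullDim ↑(CInt.fiberStalk f ((pullback.fst f g).base y₀)) := by
      rw [← hpt]
      exact ringKrullDim_eq_of_ringEquiv e1
    rw [← ringKrullDim_eq_of_ringEquiv e2, ← h1]
    haveI := isNoetherianRing_fiber_stalk f (g.base s') ((fibMap f g s').base z')
    haveI := isNoetherianRing_fiber_stalk (pullback.snd f g) s' z'
    have h3 := Groth.Agent.S3447.dim_le ((fibMap f g s').stalkMap z').hom
    rw [h0, add_zero] at h3
    exact h3

/-- Let f : X → S be a morphism and g : S' → S a base change, with X, S, S' and X' = X ×_S S' locally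
Noetherian, and let Y be a closed subset of X with preimage Y' under the projection X' → X. Writing
the codimension of a closed subset relative to a morphism as the infimum, over its points, of the
Krull dimension of the local ring of the fibre through that point: the codimension of Y' relative to
X' → S' is at least the codimension of Y relative to f, and the two are equal when the projection X'
→ X maps Y' onto Y. -/
theorem result {X S S' : Scheme.{u}} (f : X ⟶ S) (g : S' ⟶ S)
    [IsLocallyNoetherian X] [IsLocallyNoetherian S] [IsLocallyNoetherian S']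
    [IsLocallyNoetherian (pullback f g)] (Y : Set ↥X) (hY : IsClosed Y) :
    ((⨅ y : Y, ringKrullDim ↑(CInt.fiberStalk f y.1)) ≤
      ⨅ y' : (fun x' => (pullback.fst f g) x') ⁻¹' Y,
        ringKrullDim ↑(CInt.fiberStalk (pullback.snd f g) y'.1)) ∧
    (Y ⊆ Set.range (pullback.fst f g).base →
      (⨅ y' : (fun x' => (pullback.fst f g) x') ⁻¹' Y,
        ringKrullDim ↑(CInt.fiberStalk (pullback.snd f g) y'.1)) =
        ⨅ y : Y, ringKrullDim ↑(CInt.fiberStalk f y.1)) := by
  have part1 : (⨅ y : Y, ringKrullDim ↑(CInt.fiberStalk f y.1)) ≤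
      ⨅ y' : (fun x' => (pullback.fst f g) x') ⁻¹' Y,
        ringKrullDim ↑(CInt.fiberStalk (pullback.snd f g) y'.1) := by
    refine le_iInf fun y' => ?_
    exact (iInf_le _ (⟨(pullback.fst f g).base y'.1, y'.2⟩ : Y)).trans (key_le f g y'.1)
  refine ⟨part1, fun hsub => le_antisymm ?_ part1⟩
  refine le_iInf fun y => ?_
  obtain ⟨y₀, hy₀⟩ := hsub y.2
  obtain ⟨y', hy', hle⟩ := key_ge f g y₀
  have hmem : y' ∈ (fun x' => (pullback.fst f g) x') ⁻¹' Y := by
    show (pullback.fst f g).base y' ∈ Y
    rw [hy', hy₀]
    exact y.2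
  refine (iInf_le _ (⟨y', hmem⟩ : ((fun x' => (pullback.fst f g) x') ⁻¹' Y : Set _))).trans ?_
  rw [hy₀] at hle
  exact hle

end Groth.Agent.S14105
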