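import Groth.Statements.S14109
import Groth.Agent.H9.FiberCodim
import Groth.Agent.H9.QuotDim

set_option autoImplicit false
universe u
open CategoryTheory CategoryTheory.Limits AlgebraicGeometry Opposite TopologicalSpace
open CInt

namespace Groth.Agent.S14109

open IsLocalRing in
/-- Setup: the two fibre local rings as quotients of the stalks of `X` and `X'`. -/
theorem fiber_data {X X' S : Scheme.{u}} (f : X ⟶ S) (g : X' ⟶ X) (y' : X') :
    ∃ I : Ideal (X.presheaf.stalk (g.base y')), I ≤ maximalIdeal (X.presheaf.stalk (g.base y')) ∧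
      Nonempty ((X.presheaf.stalk (g.base y') ⧸ I) ≃+* CInt.fiberStalk f (g.base y')) ∧
      Nonempty ((X'.presheaf.stalk y' ⧸ I.map (g.stalkMap y').hom) ≃+*
        CInt.fiberStalk (g ≫ f) y') := by
  refine ⟨Ideal.map (f.stalkMap (g.base y')).hom
    (maximalIdeal (S.presheaf.stalk (f.base (g.base y')))), ?_, ?_, ?_⟩
  · rw [Ideal.map_le_iff_le_comap, maximalIdeal_comap]
  · exact Groth.Agent.H9.FiberCodim.exists_fiberStalk_equiv f (g.base y')
  · obtain ⟨e⟩ := Groth.Agent.H9.FiberCodim.exists_fiberStalk_equiv (g ≫ f) y'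
    have hcomp : (g ≫ f).stalkMap y' = f.stalkMap (g.base y') ≫ g.stalkMap y' :=
      Scheme.Hom.stalkMap_comp g f y'
    have hpt : ∀ r, ((g ≫ f).stalkMap y').hom r =
        (g.stalkMap y').hom ((f.stalkMap (g.base y')).hom r) := fun r => by
      rw [hcomp]; rfl
    have hI : Ideal.map ((g ≫ f).stalkMap y').hom
        (maximalIdeal (S.presheaf.stalk ((g ≫ f).base y'))) =
        (Ideal.map (f.stalkMap (g.base y')).hom
          (maximalIdeal (S.presheaf.stalk (f.base (g.base y'))))).map (g.stalkMap y').hom := by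
      apply le_antisymm
      · rw [Ideal.map_le_iff_le_comap]
        intro r hr
        rw [Ideal.mem_comap, hpt]
        exact Ideal.mem_map_of_mem _ (Ideal.mem_map_of_mem _ hr)
      · rw [Ideal.map_map, Ideal.map_le_iff_le_comap]
        intro r hr
        rw [Ideal.mem_comap, RingHom.comp_apply, ← hpt]
        exact Ideal.mem_map_of_mem _ hr
    exact ⟨(Ideal.quotEquivOfEq hI.symm).trans e⟩

/-- Let f : X → S and g : X' → X be morphisms of locally Noetherian schemes with g surjective, Y a
closed subset of X and Y' its preimage under g. Then the codimension of Y' relative to the composite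
X' → S (the infimum over y' ∈ Y' of the Krull dimension of the local ring at y' of the fibre of that
composite through y') is at most the codimension of Y relative to f (the same infimum over y ∈ Y for
the fibres of f). -/
theorem result {X X' S : Scheme.{u}} [IsLocallyNoetherian X]
    [IsLocallyNoetherian X'] [IsLocallyNoetherian S] (f : X ⟶ S) (g : X' ⟶ X) [Surjective g]
    (Y : Set ↥X) (hY : IsClosed Y) :
    (⨅ y' : (fun x' => g x') ⁻¹' Y, ringKrullDim ↑(CInt.fiberStalk (g ≫ f) y'.1)) ≤
      ⨅ y : Y, ringKrullDim ↑(CInt.fiberStalk f y.1) := by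
  refine le_iInf fun y => ?_
  obtain ⟨y', hy', h0⟩ := Groth.Agent.H9.QuotDim.exists_point_fiber_dim_zero g y.1
    (‹Surjective g›.surj y.1)
  have hmem : y' ∈ (fun x' => g x') ⁻¹' Y := by
    show g.base y' ∈ Y
    rw [hy']
    exact y.2
  refine (iInf_le _ (⟨y', hmem⟩ : ((fun x' => g x') ⁻¹' Y : Set X'))).trans ?_
  obtain ⟨I, hI, ⟨e1⟩, ⟨e2⟩⟩ := fiber_data f g y'
  have hgoal : ringKrullDim ↑(CInt.fiberStalk (g ≫ f) y') ≤
      ringKrullDim ↑(CInt.fiberStalk f (g.base y')) := by
    rw [← ringKrullDim_eq_of_ringEquiv e1, ← ringKrullDim_eq_of_ringEquiv e2]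
    exact Groth.Agent.H9.QuotDim.ringKrullDim_quot_map_le (g.stalkMap y').hom I hI h0.le
  rw [hy'] at hgoal
  exact hgoal

end Groth.Agent.S14109
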