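import Groth.Statements.S14110
import Groth.Agent.H9.FiberCodim
import Groth.Agent.H9.QuotDim

set_option autoImplicit false
universe u
open CategoryTheory CategoryTheory.Limits AlgebraicGeometry Opposite TopologicalSpace
open CInt

namespace Groth.Agent.S14110

open IsLocalRing in
/-- Setup: the two fibre local rings as quotients of the stalks of `X` and `X'`. -/
theorem fiber_data {X X' S : Scheme.{u}} (f : X ⟶ S) (g : X' ⟶ X) (y' : X') :
    ∃ I : Ideal (X.presheaf.stalk (g.base y')), I ≤ maximalIdeal (X.presheaf.stalk (g.base y')) ∧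
      Nonempty ((X.presheaf.stalk (g.base y') ⧸ I) ≃+* CInt.fiberStalk f (g.base y')) ∧
      Nonempty ((X'.presheaf.stalk y' ⧸ I.map (g.stalkMap y').hom) ≃+*
        CInt.fiberStalk (g ≫ f) y') := by
  refine ⟨Ideal.map (f.stalkMap (g.base y')).hom
    (maximalIdeal (S.presheaf.stalk (f.base (g.base y')))), ?_, ?_, ?_⟩
  · rw [Ideal.map_le_iff_le_comap, maximalIdeal_comap]
  · exact Groth.Agent.H9.FiberCodim.exists_fiberStalk_equiv f (g.base y')
  · obtain ⟨e⟩ := Groth.Agent.H9.FiberCodim.exists_fiberStalk_equiv (g ≫ f) y'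
    have hcomp : (g ≫ f).stalkMap y' = f.stalkMap (g.base y') ≫ g.stalkMap y' :=
      Scheme.Hom.stalkMap_comp g f y'
    have hpt : ∀ r, ((g ≫ f).stalkMap y').hom r =
        (g.stalkMap y').hom ((f.stalkMap (g.base y')).hom r) := fun r => by
      rw [hcomp]; rfl
    have hI : Ideal.map ((g ≫ f).stalkMap y').hom
        (maximalIdeal (S.presheaf.stalk ((g ≫ f).base y'))) =
        (Ideal.map (f.stalkMap (g.base y')).hom
          (maximalIdeal (S.presheaf.stalk (f.base (g.base y'))))).map (g.stalkMap y').hom := by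
      apply le_antisymm
      · rw [Ideal.map_le_iff_le_comap]
        intro r hr
        rw [Ideal.mem_comap, hpt]
        exact Ideal.mem_map_of_mem _ (Ideal.mem_map_of_mem _ hr)
      · rw [Ideal.map_map, Ideal.map_le_iff_le_comap]
        intro r hr
        rw [Ideal.mem_comap, RingHom.comp_apply, ← hpt]
        exact Ideal.mem_map_of_mem _ hr
    exact ⟨(Ideal.quotEquivOfEq hI.symm).trans e⟩

/-- Let f : X → S and g : X' → X be morphisms of locally Noetherian schemes with f a Cohen–Macaulay
morphism (flat, every local ring of every fibre a Cohen–Macaulay local ring) and g flat, Y a closed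
subset of X and Y' its preimage under g. Then the codimension of Y relative to f (the infimum over y
∈ Y of the Krull dimension of the local ring at y of the fibre of f through y) is at most the
codimension of Y' relative to the composite X' → S. -/
theorem result {X X' S : Scheme.{u}} [IsLocallyNoetherian X]
    [IsLocallyNoetherian X'] [IsLocallyNoetherian S] (f : X ⟶ S) [Flat f]
    (hCM : ∀ x : ↥X, LocCoh.IsCohenMacaulayLocalRing ↑(CInt.fiberStalk f x)) (g : X' ⟶ X) [Flat g]
    (Y : Set ↥X) (hY : IsClosed Y) :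
    (⨅ y : Y, ringKrullDim ↑(CInt.fiberStalk f y.1)) ≤
      ⨅ y' : (fun x' => g x') ⁻¹' Y, ringKrullDim ↑(CInt.fiberStalk (g ≫ f) y'.1) := by
  refine le_iInf fun y' => ?_
  refine (iInf_le _ (⟨g.base y'.1, y'.2⟩ : Y)).trans ?_
  obtain ⟨I, hI, ⟨e1⟩, ⟨e2⟩⟩ := fiber_data f g y'.1
  show ringKrullDim ↑(CInt.fiberStalk f (g.base y'.1)) ≤ _
  rw [← ringKrullDim_eq_of_ringEquiv e1, ← ringKrullDim_eq_of_ringEquiv e2]
  exact Groth.Agent.H9.QuotDim.ringKrullDim_quot_le_of_flat (g.stalkMap y'.1).hom
    (AlgebraicGeometry.Flat.stalkMap g y'.1) I hI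

end Groth.Agent.S14110
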