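import Groth.Statements.S14112
import Groth.Agent.H42.QH_Def
import Groth.Agent.H42.QH_AUX
import Groth.Agent.H39.OmegaA
import Groth.Agent.S9498
import Groth.Agent.H8.LocFreeNearFinite
import Groth.Agent.H42.NH_T1
import Groth.Agent.H42.NH_S1
import Groth.Agent.H76.QH_Q6
import Groth.Agent.H10.QH_Q1
import Groth.Agent.H66.QH_KP
import Groth.Agent.H66.QH_Q5
import Groth.Agent.H25.QH_R6

set_option autoImplicit false
universe u
open CategoryTheory CategoryTheory.Limits AlgebraicGeometry Opposite TopologicalSpace
attribute [local instance] HasDerivedCategory.standard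
open DCoh

namespace Groth.Agent.S14112

open Groth.Agent.H42.QH

instance instAdditiveΓ (R : CommRingCat.{u}) : (moduleSpecΓFunctor (R := R)).Additive :=
  (tilde.adjunction (R := R)).right_adjoint_additive

/-- Let X be an affine scheme, E a bounded above cochain complex of finite locally free O_X-modules (a
strictly pseudo-coherent complex) and F a cochain complex of quasi-coherent O_X-modules. Then the
canonical map from morphisms E → F in the homotopy category K(O_X) to morphisms E → F in the derived
category D(O_X) is bijective. (The published statement allows F to be any complex of O_X-modules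
with quasi-coherent cohomology sheaves; that is false already for E = O_X on the affine line over a
field, taking for F the two-term complex given by multiplication by x - 1 on the extension by zero
of the structure sheaf of the complement of the origin, whose only cohomology sheaf is the
skyscraper at the point 1 while it has no nonzero global sections; the published proof first
replaces F by a complex of quasi-coherent modules, and this row takes F of that form.) -/
theorem result {X : Scheme.{u}} [IsAffine X]
    (E F : CochainComplex X.Modules ℤ) (b : ℤ) (hEb : ∀ i : ℤ, b < i → IsZero (E.X i))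
    (hE : ∀ i : ℤ, FlatMod.IsFinLocFree (E.X i)) (hF : ∀ i : ℤ, Coh.IsQCoh (F.X i)) :
    Function.Bijective (fun φ : (HomotopyCategory.quotient X.Modules (ComplexShape.up ℤ)).obj E ⟶
        (HomotopyCategory.quotient X.Modules (ComplexShape.up ℤ)).obj F =>
      (DerivedCategory.Qh (C := X.Modules)).map φ) := by
  let A : CommRingCat.{u} := Γ(X, ⊤)
  let e := X.isoSpec
  let Φe := Groth.Agent.H39.OmegaA.pushforwardEquiv e
  let Ψ : (Spec A).Modules ⥤ X.Modules := Scheme.Modules.pushforward e.inv
  let Φf : X.Modules ⥤ (Spec A).Modules := Scheme.Modules.pushforward e.hom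
  haveI : Ψ.IsEquivalence := (inferInstance : Φe.inverse.IsEquivalence)
  haveI : Φf.IsEquivalence := (inferInstance : Φe.functor.IsEquivalence)
  haveI : PreservesFiniteLimits (tilde.functor A) := (Groth.Agent.S9498.key A).1
  haveI : PreservesFiniteColimits (tilde.functor A) := (Groth.Agent.S9498.key A).2
  let Fn : ModuleCat.{u} A ⥤ X.Modules := tilde.functor A ⋙ Ψ
  let G : X.Modules ⥤ ModuleCat.{u} A := Φf ⋙ moduleSpecΓFunctor (R := A)
  haveI : Ψ.Additive := (inferInstance : (Scheme.Modules.pushforward e.inv).Additive)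
  haveI : Φf.Additive := (inferInstance : (Scheme.Modules.pushforward e.hom).Additive)
  haveI : PreservesFiniteLimits Ψ := inferInstance
  haveI : PreservesFiniteColimits Ψ := inferInstance
  haveI : Fn.Additive := (inferInstance : (tilde.functor A ⋙ Ψ).Additive)
  haveI : PreservesFiniteLimits Fn := (inferInstance : PreservesFiniteLimits (tilde.functor A ⋙ Ψ))
  haveI : PreservesFiniteColimits Fn :=
    (inferInstance : PreservesFiniteColimits (tilde.functor A ⋙ Ψ))
  let adjΨ : Ψ ⊣ Φf := Φe.symm.toAdjunction
  let adj0 : Fn ⊣ G := (tilde.adjunction (R := A)).comp adjΨ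
  haveI : G.Additive := adj0.right_adjoint_additive
  have hFf : Fn.FullyFaithful :=
    (tilde.fullyFaithfulFunctor (R := A)).comp (Functor.FullyFaithful.ofFullyFaithful Ψ)
  haveI : Fn.Full := hFf.full
  haveI : Fn.Faithful := hFf.faithful
  -- essential image = quasi-coherent modules
  have hess : ∀ M : X.Modules, Coh.IsQCoh (X := X) M ↔ Fn.essImage M := by
    intro M
    constructor
    · intro hM
      have h1 : Coh.IsQCoh (Φf.obj M) := Groth.Agent.H76.QH_Q6.Q6 e M hM
      haveI : (Φf.obj M).IsQuasicoherent := h1
      have h2 : (tilde.functor A).essImage (Φf.obj M) := by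
        rw [essImage_tilde]; exact h1
      obtain ⟨N, ⟨i⟩⟩ := h2
      exact ⟨N, ⟨Ψ.mapIso i ≪≫ (Φe.unitIso.app M).symm⟩⟩
    · rintro ⟨N, ⟨i⟩⟩
      have h1 : Coh.IsQCoh ((tilde.functor A).obj N) := by
        show ((tilde.functor A).obj N).IsQuasicoherent
        infer_instance
      have h2 : Coh.IsQCoh (Ψ.obj ((tilde.functor A).obj N)) := Groth.Agent.H76.QH_Q6.Q6 e.symm _ h1
      exact (SheafOfModules.isQuasicoherent X.ringCatSheaf).prop_of_iso i h2
  obtain ⟨eT0⟩ := Groth.Agent.H76.QH_Q6.ET e.symm
  have eT : Fn.obj (ModuleCat.of A A) ≅ SheafOfModules.unit (ModSite.ringSh (Groth.Agent.H31.Stalk.shX X)) :=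
    Ψ.mapIso (tildeSelf (R := A)) ≪≫ eT0
  have i1 : Fn.Additive := inferInstance
  have i2 : PreservesFiniteLimits Fn := inferInstance
  have i3 : PreservesFiniteColimits Fn := inferInstance
  obtain ⟨hfull, hfaith, -⟩ := @Groth.Agent.H42.QH.aux' X _ A Fn i1 i2 i3 G adj0 hFf hess eT
  haveI := hfull
  haveI := hfaith
  let K := (G.mapHomologicalComplex (ComplexShape.up ℤ)).obj E
  let L := (G.mapHomologicalComplex (ComplexShape.up ℤ)).obj F
  have hKb : ∀ i : ℤ, b < i → IsZero (K.X i) := fun i hi => G.map_isZero (hEb i hi)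
  have hKp : ∀ i : ℤ, Projective (K.X i) := fun i =>
    Groth.Agent.H42.NH.S1 A (Φf.obj (E.X i)) (Groth.Agent.H42.NH.T1 e (E.X i) (hE i))
  have hKL : QhBij K L := Groth.Agent.H66.QH_KP.KP K L b hKb hKp
  have hFKL := @Groth.Agent.H10.QH_Q1.Q1 _ _ _ _ _ _ _ _ Fn i1 i2 i3 hFf.full hFf.faithful hfull hfaith K L hKL
  obtain ⟨θE⟩ := Groth.Agent.H25.QH_R6.R6 Fn G adj0 E (fun i => (hess _).1
    (Groth.Agent.H8.isQuasicoherent_of_isFinLocFree _ (hE i)))
  obtain ⟨θF⟩ := Groth.Agent.H25.QH_R6.R6 Fn G adj0 F (fun i => (hess _).1 (hF i))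
  exact Groth.Agent.H66.QH_Q5.Q5 θE θF hFKL


end Groth.Agent.S14112
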