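import Groth.Statements.S14113
import Groth.Agent.H39.OmegaA
import Groth.Agent.S9498
import Groth.Agent.H8.LocFreeNearFinite
import Groth.Agent.H42.NH_T1
import Groth.Agent.H37.NH_G12
import Groth.Agent.H5.NH_G0
import Groth.Agent.H5.NH_G3a
import Groth.Agent.H42.NH_S1
import Groth.Agent.H80.NH_S2

set_option autoImplicit false
universe u
open CategoryTheory CategoryTheory.Limits AlgebraicGeometry Opposite TopologicalSpace
attribute [local instance] HasDerivedCategory.standard
open DCoh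

namespace Groth.Agent.S14113

instance instAdditiveΓ (R : CommRingCat.{u}) : (moduleSpecΓFunctor (R := R)).Additive :=
  (tilde.adjunction (R := R)).right_adjoint_additive

/-- The case of `Spec R`: transfer to `ModuleCat R` via the tilde functor. -/
theorem specCase (R : CommRingCat.{u}) (E : CochainComplex (Spec R).Modules ℤ) (b : ℤ)
    (hEb : ∀ i : ℤ, b < i → IsZero (E.X i)) (hE : ∀ i : ℤ, FlatMod.IsFinLocFree (E.X i))
    (hac : E.Acyclic) : Nonempty (Homotopy (𝟙 E) 0) := by
  let G := moduleSpecΓFunctor (R := R)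
  let T := tilde.functor R
  let K := (G.mapHomologicalComplex (ComplexShape.up ℤ)).obj E
  obtain ⟨θ⟩ := Groth.Agent.H80.NH_S2.S2 R E (fun i => Groth.Agent.H8.isQuasicoherent_of_isFinLocFree _ (hE i))
  haveI : PreservesFiniteLimits T := (Groth.Agent.S9498.key R).1
  haveI : PreservesFiniteColimits T := (Groth.Agent.S9498.key R).2
  have hTK : ((T.mapHomologicalComplex (ComplexShape.up ℤ)).obj K).Acyclic :=
    fun i => (hac i).of_iso θ.symm
  have hK : K.Acyclic := Groth.Agent.H5.NH.G3b T K hTK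
  have hKb : ∀ i : ℤ, b < i → IsZero (K.X i) := fun i hi => G.map_isZero (hEb i hi)
  have hKp : ∀ i : ℤ, Projective (K.X i) := fun i => Groth.Agent.H42.NH.S1 R (E.X i) (hE i)
  obtain ⟨h⟩ := Groth.Agent.H37.NH_G12.G2 K b hKb hKp hK
  have h' : Homotopy (𝟙 ((T.mapHomologicalComplex (ComplexShape.up ℤ)).obj K)) 0 :=
    (Homotopy.ofEq (by simp)).trans ((T.mapHomotopy h).trans (Homotopy.ofEq (by simp)))
  have h'' : Homotopy (θ.inv ≫ 𝟙 _ ≫ θ.hom) (θ.inv ≫ 0 ≫ θ.hom) :=
    (h'.compRight θ.hom).compLeft θ.inv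
  exact ⟨(Homotopy.ofEq (by simp)).trans (h''.trans (Homotopy.ofEq (by simp)))⟩

/-- Let X be an affine scheme and E a bounded above cochain complex of finite locally free O_X-modules
(a strictly pseudo-coherent complex). Then E is acyclic if and only if the identity of E is null
homotopic. -/
theorem result {X : Scheme.{u}} [IsAffine X]
    (E : CochainComplex X.Modules ℤ) (b : ℤ) (hEb : ∀ i : ℤ, b < i → IsZero (E.X i))
    (hE : ∀ i : ℤ, FlatMod.IsFinLocFree (E.X i)) :
    E.Acyclic ↔ Nonempty (Homotopy (𝟙 E) 0) := by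
  refine ⟨fun hac => ?_, fun ⟨h⟩ => Groth.Agent.H37.NH_G12.G1 E h⟩
  let e := X.isoSpec
  let Φ := Groth.Agent.H39.OmegaA.pushforwardEquiv e
  let F : X.Modules ⥤ (Spec Γ(X, ⊤)).Modules := Scheme.Modules.pushforward e.hom
  haveI : F.IsEquivalence := (inferInstance : Φ.functor.IsEquivalence)
  let E' := (F.mapHomologicalComplex (ComplexShape.up ℤ)).obj E
  have hE'b : ∀ i : ℤ, b < i → IsZero (E'.X i) := fun i hi => F.map_isZero (hEb i hi)
  have hE' : ∀ i : ℤ, FlatMod.IsFinLocFree (E'.X i) :=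
    fun i => Groth.Agent.H42.NH.T1 e (E.X i) (hE i)
  have hE'ac : E'.Acyclic := Groth.Agent.H5.NH.G3a F E hac
  obtain ⟨h⟩ := specCase Γ(X, ⊤) E' b hE'b hE' hE'ac
  exact Groth.Agent.H5.NH.G0 F E h

end Groth.Agent.S14113
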