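import Groth.Statements.S14118
import Mathlib

set_option autoImplicit false
set_option linter.unusedSectionVars false
universe u v w
open SuperComm

namespace Groth.Agent.S14118

section
variable {R : Type u} [CommRing R]

theorem sgn_eq (n : ℤ) : (-1 : R) ^ n.natAbs = if Even n then 1 else -1 := by
  split_ifs with h
  · exact (Int.natAbs_even.mpr h).neg_one_pow
  · exact (Int.natAbs_odd.mpr (Int.not_even_iff_odd.mp h)).neg_one_pow

variable {ι : Type v} [Fintype ι] [DecidableEq ι]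
    (M : ι → Type w) [∀ i, AddCommGroup (M i)] [∀ i, Module R (M i)]
    [∀ i, Module.Free R (M i)] [∀ i, Module.Finite R (M i)]

theorem sum_single_proj :
    (∑ k : ι, (LinearMap.single R M k) ∘ₗ (LinearMap.proj k : (Π k, M k) →ₗ[R] M k)) =
      LinearMap.id := by
  ext x j
  simp [Finset.sum_apply]

theorem trace_E_comp (s : ι → R) (f g : (Π k, M k) →ₗ[R] (Π k, M k)) :
    LinearMap.trace R (Π k, M k)
      ((∑ i : ι, (LinearMap.single R M i) ∘ₗ (s i • (LinearMap.proj i : (Π k, M k) →ₗ[R] M i)))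
        ∘ₗ (f ∘ₗ g)) =
    ∑ i : ι, ∑ k : ι, s i * LinearMap.trace R (M i)
      ((LinearMap.proj i ∘ₗ f ∘ₗ LinearMap.single R M k) ∘ₗ
        (LinearMap.proj k ∘ₗ g ∘ₗ LinearMap.single R M i)) := by
  have hsum : ∀ (F : ι → ((Π k, M k) →ₗ[R] (Π k, M k))) (h : (Π k, M k) →ₗ[R] (Π k, M k)),
      (∑ i, F i) ∘ₗ h = ∑ i, (F i ∘ₗ h) := by
    intro F h
    ext x j
    simp
  rw [hsum, map_sum]
  refine Finset.sum_congr rfl fun i _ => ?_
  rw [LinearMap.comp_assoc, LinearMap.trace_comp_comm', LinearMap.smul_comp, LinearMap.smul_comp,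
    map_smul, smul_eq_mul, ← Finset.mul_sum, ← map_sum]
  congr 2
  have : f ∘ₗ g = f ∘ₗ (∑ k : ι, (LinearMap.single R M k) ∘ₗ
      (LinearMap.proj k : (Π k, M k) →ₗ[R] M k)) ∘ₗ g := by
    rw [sum_single_proj]; rfl
  rw [this]
  ext x
  simp [LinearMap.sum_apply]

end

theorem result {R : Type u} [CommRing R] {ι : Type v} [Fintype ι] [DecidableEq ι]
    (deg : ι → ℤ) (M : ι → Type w) [∀ i, AddCommGroup (M i)] [∀ i, Module R (M i)]
    [∀ i, Module.Free R (M i)] [∀ i, Module.Finite R (M i)]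
    (a b : ℤ) (φ ψ : (Π k, M k) →ₗ[R] (Π k, M k))
    (hφ : ∀ i j : ι, deg j ≠ deg i + a → (LinearMap.proj j) ∘ₗ φ ∘ₗ (LinearMap.single R M i) = 0)
    (hψ : ∀ i j : ι, deg j ≠ deg i + b → (LinearMap.proj j) ∘ₗ ψ ∘ₗ (LinearMap.single R M i) = 0) :
    LinearMap.trace R (Π k, M k)
      ((∑ i : ι, (LinearMap.single R M i) ∘ₗ (((-1 : R) ^ (deg i).natAbs) • (LinearMap.proj i : (Π k, M k) →ₗ[R] M i))) ∘ₗ (φ ∘ₗ ψ - ((-1 : R) ^ (a * b).natAbs) • (ψ ∘ₗ φ))) = 0 := by
  rw [LinearMap.comp_sub, LinearMap.comp_smul, map_sub, map_smul, trace_E_comp, trace_E_comp,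
    sub_eq_zero, smul_eq_mul, Finset.mul_sum]
  rw [Finset.sum_comm]
  refine Finset.sum_congr rfl fun k _ => ?_
  rw [Finset.mul_sum]
  refine Finset.sum_congr rfl fun i _ => ?_
  -- term: s i * tr (Φ i k ∘ Ψ k i) = c * (s k * tr (Ψ k i ∘ Φ i k))
  rw [LinearMap.trace_comp_comm' (LinearMap.proj i ∘ₗ φ ∘ₗ LinearMap.single R M k)]
  by_cases h1 : deg i = deg k + a
  · by_cases h2 : deg k = deg i + b
    · rw [← mul_assoc]
      congr 1
      have hab : b = -a := by linarith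
      subst hab
      rw [h1, sgn_eq, sgn_eq, sgn_eq]
      rcases Int.even_or_odd a with ha | ha <;> rcases Int.even_or_odd (deg k) with hk | hk <;>
        simp [Int.even_add, ha, hk, Int.not_even_iff_odd.mpr]
    · rw [hψ i k h2]; simp
  · rw [hφ k i h1]; simp

end Groth.Agent.S14118
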