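import Groth.Statements.S17393
import Groth.Agent.H9.EffCartier
import Groth.Agent.H9.ComapIdeal

set_option autoImplicit false
universe u
open BlowUp

namespace Groth.Agent.S17393


section Helpers
open AlgebraicGeometry CategoryTheory CategoryTheory.Limits TopologicalSpace

/-- The strict transform of `V(𝓙)` misses every affine open on which the inverse image of the
centre `𝓚` is generated by the pullback of a section of `𝓙`. Only uses that the inverse image
of `𝓚` on `Yt` is effective Cartier. -/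
theorem key {X X' Yt : Scheme.{u}} (𝓙 𝓚 : X.IdealSheafData) (b : X' ⟶ X)
    (b' : Yt ⟶ 𝓙.subscheme)
    (hb' : BlowUp.IsEffCartierIdeal ((𝓚.comap 𝓙.subschemeι).comap b'))
    (k : Yt ⟶ X') (hk : k ≫ b = b' ≫ 𝓙.subschemeι)
    (V : X.affineOpens) (s : Γ(X, V.1)) (hs : s ∈ 𝓙.ideal V)
    (V' : X'.affineOpens) (hV' : V'.1 ≤ b ⁻¹ᵁ V.1)
    (hmeet : (Set.range (fun y => k y) ∩ (V'.1 : Set X')).Nonempty) :
    (𝓚.comap b).ideal V' ≠ Ideal.span {(b.appLE V.1 V'.1 hV').hom s} := by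
  intro hE
  obtain ⟨_, ⟨y, rfl⟩, hyV'⟩ := hmeet
  have hF : (𝓚.comap 𝓙.subschemeι).comap b' = (𝓚.comap b).comap k := by
    rw [← Scheme.IdealSheafData.comap_comp, ← Scheme.IdealSheafData.comap_comp, hk]
  rw [hF] at hb'
  obtain ⟨D, hyD, hDle, f, hf, hfD⟩ :=
    Groth.Agent.H9.exists_affine_isPrincipalNZD hb' (k ⁻¹ᵁ V'.1) y hyV'
  have h1 := Groth.Agent.H9.comap_ideal k (𝓚.comap b) V' D hDle
  rw [hfD, hE, Ideal.map_span, Set.image_singleton] at h1
  have e₁ : D.1 ≤ (k ≫ b) ⁻¹ᵁ V.1 := fun z hz => hV' (hDle hz)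
  have e₂ : D.1 ≤ (b' ≫ 𝓙.subschemeι) ⁻¹ᵁ V.1 := hk ▸ e₁
  have e3 : b.appLE V.1 V'.1 hV' ≫ k.appLE V'.1 D.1 hDle =
      𝓙.subschemeι.app V.1 ≫ b'.appLE _ D.1 e₂ := by
    rw [Scheme.Hom.appLE_comp_appLE, Groth.Agent.H9.appLE_congr_hom hk V.1 D.1 _ e₂,
      Scheme.Hom.comp_appLE]
  have hs0 : (𝓙.subschemeι.app V.1).hom s = 0 := by
    have := 𝓙.ker_subschemeι_app V
    rw [← RingHom.mem_ker, this]; exact hs
  have h2 : (k.appLE V'.1 D.1 hDle).hom ((b.appLE V.1 V'.1 hV').hom s) = 0 := by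
    have h3 : (b.appLE V.1 V'.1 hV' ≫ k.appLE V'.1 D.1 hDle).hom s = 0 := by
      rw [e3, CommRingCat.hom_comp, RingHom.comp_apply, hs0, map_zero]
    exact h3
  rw [h2, show (Ideal.span {(0 : Γ(Yt, D.1))}) = ⊥ from Ideal.span_singleton_eq_bot.2 rfl,
    Ideal.span_singleton_eq_bot] at h1
  haveI : Nonempty D.1 := ⟨⟨y, hyD⟩⟩
  exact nonZeroDivisors.ne_zero hf h1

end Helpers


open AlgebraicGeometry CategoryTheory Limits in
/-- Let X be any scheme, I and I' quasi-coherent ideals on X (of closed subschemes Y and Y'), b : X' → X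
a blowing up of X in I + I' (the ideal of Y ∩ Y'), b' : Ỹ → Y a blowing up of Y = V(I) in the
inverse image of I + I' and k : Ỹ → X' the morphism with k ≫ b = b' ≫ (Y → X), whose image is the
strict transform of Y. For an affine open V of X, a section s of I over V, and an affine open V' ⊆
b⁻¹(V) of X' which meets the image of k, the ideal of the inverse image ideal sheaf (I + I')·O_X' on
V' is not the principal ideal generated by the pullback of s. Equivalently the strict transform of Y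
does not meet the open locus U(s) where s generates the (invertible) inverse image ideal; since the
U(s) for s ranging over local sections of I and of I' cover X', the strict transform of Y lies in
the union of the U(s) with s a local section of I'. -/
theorem result
    {X X' Yt : Scheme.{u}} (𝓘 𝓘' : X.IdealSheafData) (b : X' ⟶ X) (hb : BlowUp.IsBlowUp b (𝓘 ⊔ 𝓘'))
    (b' : Yt ⟶ 𝓘.subscheme) (hb' : BlowUp.IsBlowUp b' ((𝓘 ⊔ 𝓘').comap 𝓘.subschemeι))
    (k : Yt ⟶ X') (hk : k ≫ b = b' ≫ 𝓘.subschemeι)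
    (V : X.affineOpens) (s : Γ(X, V.1)) (hs : s ∈ 𝓘.ideal V)
    (V' : X'.affineOpens) (hV' : V'.1 ≤ b ⁻¹ᵁ V.1)
    (hmeet : (Set.range (fun y => k y) ∩ (V'.1 : Set X')).Nonempty) :
    ((𝓘 ⊔ 𝓘').comap b).ideal V' ≠ Ideal.span {(b.appLE V.1 V'.1 hV').hom s} := by
  exact key 𝓘 (𝓘 ⊔ 𝓘') b b' hb'.1 k hk V s hs V' hV' hmeet

end Groth.Agent.S17393
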