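import Groth.Statements.S17386
import Groth.Agent.S17393

set_option autoImplicit false
universe u
open BlowUp

namespace Groth.Agent.S17386


section Helpers
open AlgebraicGeometry CategoryTheory CategoryTheory.Limits TopologicalSpace

theorem exists_unit_mul {R : Type*} [CommRing R] (T : Set R) (f : R)
    (hf : f ∈ nonZeroDivisors R) (hT : Ideal.span T = Ideal.span {f}) (p : Ideal R)
    [hp : p.IsPrime] : ∃ t ∈ T, ∃ u, u ∉ p ∧ t = u * f := by
  by_contra hcon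
  push Not at hcon
  have h1 : Ideal.span T ≤ p * Ideal.span {f} := by
    rw [Ideal.span_le]
    intro t ht
    have htf : t ∈ Ideal.span {f} := by rw [← hT]; exact Ideal.subset_span ht
    obtain ⟨a, ha⟩ := Ideal.mem_span_singleton'.1 htf
    have hap : a ∈ p := by
      by_contra hap
      exact hcon t ht a hap ha.symm
    exact Ideal.mem_mul_span_singleton.2 ⟨a, hap, ha⟩
  have h2 : f ∈ p * Ideal.span {f} :=
    h1 (by rw [hT]; exact Ideal.subset_span (Set.mem_singleton f))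
  obtain ⟨z, hz, hzf⟩ := Ideal.mem_mul_span_singleton.1 h2
  have h3 : (z - 1) * f = 0 := by rw [sub_mul, hzf, one_mul, sub_self]
  have h4 : z - 1 = 0 := (mul_right_mem_nonZeroDivisors_eq_zero_iff hf).1 h3
  have h5 : z = 1 := sub_eq_zero.1 h4
  exact hp.ne_top (p.eq_top_iff_one.2 (h5 ▸ hz))

end Helpers


open AlgebraicGeometry CategoryTheory Limits in
/-- Let X be any scheme, J_1, …, J_n quasi-coherent ideals on X with closed subschemes Y_i, and b : X' →
X a blowing up of X in the ideal J_1 + ⋯ + J_n of the intersection of the Y_i. For each i let b_i' :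
Y_i' → Y_i be a blowing up of Y_i in the inverse image of J_1 + ⋯ + J_n and k_i : Y_i' → X' the
morphism with k_i ≫ b = b_i' ≫ (Y_i → X), so that the image of k_i is the strict transform of Y_i.
Then the strict transforms have empty common intersection: no point of X' lies in the image of every
k_i. -/
theorem result
    {X X' : Scheme.{u}} {n : ℕ} (𝓙 : Fin n → X.IdealSheafData) (b : X' ⟶ X)
    (hb : BlowUp.IsBlowUp b (⨆ i, 𝓙 i))
    (Y' : Fin n → Scheme.{u}) (b' : ∀ i, Y' i ⟶ (𝓙 i).subscheme)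
    (hb' : ∀ i, BlowUp.IsBlowUp (b' i) ((⨆ j, 𝓙 j).comap (𝓙 i).subschemeι))
    (k : ∀ i, Y' i ⟶ X') (hk : ∀ i, k i ≫ b = b' i ≫ (𝓙 i).subschemeι) :
    (⋂ i, Set.range (fun y => k i y)) = (∅ : Set X') := by
  rw [Set.eq_empty_iff_forall_notMem]
  intro x' hx'
  rw [Set.mem_iInter] at hx'
  obtain ⟨V₀, hV₀, hxV₀, -⟩ := exists_isAffineOpen_mem_and_subset (x := b x') (U := ⊤) trivial
  obtain ⟨VV, hxV⟩ : ∃ VV : X.affineOpens, b x' ∈ VV.1 := ⟨⟨V₀, hV₀⟩, hxV₀⟩
  clear hxV₀ hV₀ V₀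
  obtain ⟨V', hxV', hV'le, f, hf, hfV'⟩ :=
    Groth.Agent.H9.exists_affine_isPrincipalNZD hb.1 (b ⁻¹ᵁ VV.1) x' hxV
  have h1 : ((⨆ i, 𝓙 i).comap b).ideal V' =
      ((⨆ i, 𝓙 i).ideal VV).map (b.appLE VV.1 V'.1 hV'le).hom :=
    Groth.Agent.H9.comap_ideal b _ VV V' hV'le
  have h2 : Ideal.span (⋃ i, (b.appLE VV.1 V'.1 hV'le).hom ''
      ((𝓙 i).ideal VV : Set Γ(X, VV.1))) = Ideal.span {f} := by
    rw [← hfV', h1, Scheme.IdealSheafData.ideal_iSup, iSup_apply, Ideal.map_iSup,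
      Ideal.span_iUnion]
    rfl
  haveI hp : ((IsLocalRing.maximalIdeal (X'.presheaf.stalk x')).comap
      (X'.presheaf.germ V'.1 x' hxV').hom).IsPrime := Ideal.comap_isPrime _ _
  obtain ⟨t, ht, w, hw, htw⟩ := exists_unit_mul _ f hf h2
    ((IsLocalRing.maximalIdeal (X'.presheaf.stalk x')).comap (X'.presheaf.germ V'.1 x' hxV').hom)
  obtain ⟨i, hti⟩ := Set.mem_iUnion.1 ht
  obtain ⟨s, hs, rfl⟩ := hti
  have hxw : x' ∈ X'.basicOpen w := by
    rw [Scheme.mem_basicOpen X' w x' hxV']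
    by_contra hnu
    exact hw (Ideal.mem_comap.2 ((IsLocalRing.mem_maximalIdeal _).2 hnu))
  have hV''le : (X'.affineBasicOpen w).1 ≤ b ⁻¹ᵁ VV.1 := (X'.basicOpen_le w).trans hV'le
  have hmeet : (Set.range (fun y => k i y) ∩ ((X'.affineBasicOpen w).1 : Set X')).Nonempty :=
    ⟨x', hx' i, hxw⟩
  refine Groth.Agent.S17393.key (𝓙 i) (⨆ j, 𝓙 j) b (b' i) (hb' i).1 (k i) (hk i) VV s hs
    (X'.affineBasicOpen w) hV''le hmeet ?_
  have hcomp : (b.appLE VV.1 (X'.affineBasicOpen w).1 hV''le).hom =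
      (X'.presheaf.map (homOfLE (X'.basicOpen_le w)).op).hom.comp (b.appLE VV.1 V'.1 hV'le).hom := by
    rw [← CommRingCat.hom_comp, Scheme.Hom.appLE_map]
    rfl
  have hunit : IsUnit ((X'.presheaf.map (homOfLE (X'.basicOpen_le w)).op).hom w) :=
    X'.toRingedSpace.isUnit_res_basicOpen w
  have h5 := Groth.Agent.H9.comap_ideal b (⨆ j, 𝓙 j) VV (X'.affineBasicOpen w) hV''le
  rw [h5, hcomp]
  obtain ⟨ρ, hρ⟩ : ∃ ρ, ρ = (X'.presheaf.map (homOfLE (X'.basicOpen_le w)).op).hom := ⟨_, rfl⟩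
  rw [← hρ] at hunit ⊢
  obtain ⟨φ, hφ⟩ : ∃ φ, φ = (b.appLE VV.1 V'.1 hV'le).hom := ⟨_, rfl⟩
  rw [← hφ] at h1 htw ⊢
  have hA : Ideal.map ρ (Ideal.map φ ((⨆ j, 𝓙 j).ideal VV)) = Ideal.span {ρ f} := by
    rw [← h1, hfV', Ideal.map_span, Set.image_singleton]
  have hB : Ideal.span {ρ (φ s)} = Ideal.span {ρ f} := by
    rw [htw, map_mul, Ideal.span_singleton_mul_left_unit hunit]
  exact ((Ideal.map_map φ ρ).symm.trans hA).trans hB.symm

end Groth.Agent.S17386
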