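import Groth.Statements.S17889
import Groth.Agent.S17386

set_option autoImplicit false
universe u
open CategoryTheory AlgebraicGeometry TopologicalSpace
open BlowUp

namespace Groth.Agent.S17889


section Helpers
open AlgebraicGeometry CategoryTheory CategoryTheory.Limits TopologicalSpace

theorem mem_basicOpen_appLE {A B : Scheme.{u}} (g : A ⟶ B) (U : B.Opens) (U' : A.Opens)
    (e : U' ≤ g ⁻¹ᵁ U) (r : Γ(B, U)) (a : A) (ha : a ∈ U') :
    a ∈ A.basicOpen ((g.appLE U U' e).hom r) ↔ g.base a ∈ B.basicOpen r := by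
  have h : A.basicOpen ((g.appLE U U' e).hom r) = U' ⊓ g ⁻¹ᵁ B.basicOpen r :=
    Scheme.basicOpen_appLE g U' U e r
  rw [h]
  exact ⟨fun h => h.2, fun h => ⟨ha, h⟩⟩

/-- The prime ideal of a point in the sections over an open containing it. -/
noncomputable def ptIdeal (A : Scheme.{u}) (U : A.Opens) (a : A) (ha : a ∈ U) : Ideal Γ(A, U) :=
  (IsLocalRing.maximalIdeal (A.presheaf.stalk a)).comap (A.presheaf.germ U a ha).hom

instance ptIdeal_isPrime (A : Scheme.{u}) (U : A.Opens) (a : A) (ha : a ∈ U) :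
    (ptIdeal A U a ha).IsPrime :=
  Ideal.comap_isPrime _ _

theorem mem_ptIdeal_iff (A : Scheme.{u}) (U : A.Opens) (a : A) (ha : a ∈ U) (r : Γ(A, U)) :
    r ∈ ptIdeal A U a ha ↔ a ∉ A.basicOpen r := by
  unfold ptIdeal
  rw [Ideal.mem_comap, IsLocalRing.mem_maximalIdeal, mem_nonunits_iff,
    Scheme.mem_basicOpen A r a ha]
  try exact Iff.rfl

theorem notMem_basicOpen_of_mem_vanishingIdeal {A : Scheme.{u}} (C : Closeds A)
    (U : A.affineOpens) (g : Γ(A, U.1))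
    (hg : g ∈ (Scheme.IdealSheafData.vanishingIdeal C).ideal U) (a : A)
    (haC : a ∈ (C : Set A)) (haU : a ∈ U.1) : a ∉ A.basicOpen g := by
  have h1 : a ∈ (Scheme.IdealSheafData.vanishingIdeal C).support := by
    show a ∈ ((Scheme.IdealSheafData.vanishingIdeal C).support : Set A)
    rw [Scheme.IdealSheafData.coe_support_vanishingIdeal]; exact haC
  rw [Scheme.IdealSheafData.mem_support_iff_of_mem haU, Scheme.mem_zeroLocus_iff] at h1
  exact h1 g hg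

theorem mem_basicOpen_of_notMem_support {A : Scheme.{u}} (I : A.IdealSheafData)
    (U : A.affineOpens) (f : Γ(A, U.1)) (hI : I.ideal U = Ideal.span {f}) (a : A)
    (haU : a ∈ U.1) (ha : a ∉ I.support) : a ∈ A.basicOpen f := by
  by_contra hcon
  apply ha
  rw [Scheme.IdealSheafData.mem_support_iff_of_mem haU, Scheme.mem_zeroLocus_iff]
  intro r hr
  rw [SetLike.mem_coe, hI] at hr
  obtain ⟨c, rfl⟩ := Ideal.mem_span_singleton'.1 hr
  rw [Scheme.basicOpen_mul]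
  exact fun h => hcon h.2

theorem key {X Z X' Z' : Scheme.{u}} (p : Z ⟶ X) (π : X' ⟶ X) (p' : Z' ⟶ X') (π' : Z' ⟶ Z)
    (hsq : π' ≫ p = p' ≫ π) (X₀ : X.Opens) (F : Closeds X) (G : Closeds Z)
    (𝔞 : X.IdealSheafData) (h₁ : Disjoint (𝔞.support : Set X) (X₀ : Set X))
    (h₂ : Scheme.IdealSheafData.vanishingIdeal F ≤ 𝔞)
    (h₃ : 𝔞.comap p ≤ (Scheme.IdealSheafData.vanishingIdeal F).comap p ⊔
      Scheme.IdealSheafData.vanishingIdeal G)
    (hπ : BlowUp.IsEffCartierIdeal (𝔞.comap π)) (z' : Z')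
    (hz1 : p'.base z' ∈ closure (π.base ⁻¹' ((F : Set X) ∩ (X₀ : Set X))))
    (hz2 : z' ∈ closure (π'.base ⁻¹' ((G : Set Z) ∩ (p ⁻¹ᵁ X₀ : Set Z)))) : False := by
  have hpt : ∀ t : Z', π.base (p'.base t) = p.base (π'.base t) := by
    intro t
    have := congrArg (fun φ : Z' ⟶ X => φ.base t) hsq
    exact this.symm
  obtain ⟨V₀, hV₀, hxV₀, -⟩ :=
    exists_isAffineOpen_mem_and_subset (x := π.base (p'.base z')) (U := ⊤) trivial
  obtain ⟨V, hxV⟩ : ∃ V : X.affineOpens, π.base (p'.base z') ∈ V.1 := ⟨⟨V₀, hV₀⟩, hxV₀⟩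
  clear hxV₀ hV₀ V₀
  obtain ⟨V', hxV', hV'le, f, hf, hfV'⟩ :=
    Groth.Agent.H9.exists_affine_isPrincipalNZD hπ (π ⁻¹ᵁ V.1) (p'.base z') hxV
  have hzW0 : π'.base z' ∈ p ⁻¹ᵁ V.1 := by
    show p.base (π'.base z') ∈ V.1
    rw [← hpt]; exact hxV
  obtain ⟨W₀, hW₀, hzW₀, hW₀le⟩ :=
    exists_isAffineOpen_mem_and_subset (x := π'.base z') (U := p ⁻¹ᵁ V.1) hzW0
  obtain ⟨W, hzW, hWle⟩ : ∃ W : Z.affineOpens, π'.base z' ∈ W.1 ∧ W.1 ≤ p ⁻¹ᵁ V.1 :=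
    ⟨⟨W₀, hW₀⟩, hzW₀, hW₀le⟩
  clear hzW₀ hW₀le hW₀ W₀
  obtain ⟨W₀', hW₀', hzW₀', hW₀'le⟩ :=
    exists_isAffineOpen_mem_and_subset (x := z') (U := π' ⁻¹ᵁ W.1 ⊓ p' ⁻¹ᵁ V'.1) ⟨hzW, hxV'⟩
  obtain ⟨W', hzW', hW'le⟩ : ∃ W' : Z'.affineOpens, z' ∈ W'.1 ∧
      W'.1 ≤ π' ⁻¹ᵁ W.1 ⊓ p' ⁻¹ᵁ V'.1 := ⟨⟨W₀', hW₀'⟩, hzW₀', hW₀'le⟩
  clear hzW₀' hW₀'le hW₀' W₀'
  have hW'W : W'.1 ≤ π' ⁻¹ᵁ W.1 := hW'le.trans inf_le_left
  have hW'V' : W'.1 ≤ p' ⁻¹ᵁ V'.1 := hW'le.trans inf_le_right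
  obtain ⟨φ, hφ⟩ : ∃ φ : Γ(X, V.1) →+* Γ(X', V'.1), φ = (π.appLE V.1 V'.1 hV'le).hom :=
    ⟨_, rfl⟩
  obtain ⟨ψ, hψ⟩ : ∃ ψ : Γ(X', V'.1) →+* Γ(Z', W'.1), ψ = (p'.appLE V'.1 W'.1 hW'V').hom :=
    ⟨_, rfl⟩
  obtain ⟨χ, hχ⟩ : ∃ χ : Γ(X, V.1) →+* Γ(Z, W.1), χ = (p.appLE V.1 W.1 hWle).hom := ⟨_, rfl⟩
  obtain ⟨ω, hω⟩ : ∃ ω : Γ(Z, W.1) →+* Γ(Z', W'.1), ω = (π'.appLE W.1 W'.1 hW'W).hom :=
    ⟨_, rfl⟩
  have hcomm : ψ.comp φ = ω.comp χ := by
    rw [hφ, hψ, hχ, hω, ← CommRingCat.hom_comp, ← CommRingCat.hom_comp,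
      Scheme.Hom.appLE_comp_appLE, Scheme.Hom.appLE_comp_appLE]
    exact congrArg CommRingCat.Hom.hom
      (Groth.Agent.H9.appLE_congr_hom hsq.symm V.1 W'.1 _ _)
  have hmap : (𝔞.ideal V).map φ = Ideal.span {f} := by
    rw [hφ, ← Groth.Agent.H9.comap_ideal π 𝔞 V V' hV'le, hfV']
  have hB : ∀ y' : X', y' ∈ V'.1 → π.base y' ∈ (X₀ : Set X) → y' ∈ X'.basicOpen f := by
    intro y' hy' hy0
    apply mem_basicOpen_of_notMem_support (𝔞.comap π) V' f hfV' y' hy'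
    rw [Scheme.IdealSheafData.support_comap]
    intro hcon
    have hcon' : π.base y' ∈ (𝔞.support : Set X) := hcon
    exact Set.disjoint_left.1 h₁ hcon' hy0
  have hC : ((Scheme.IdealSheafData.vanishingIdeal F).ideal V).map φ ≤
      ptIdeal X' V'.1 (p'.base z') hxV' * Ideal.span {f} := by
    rw [Ideal.map_le_iff_le_comap]
    intro g hg
    rw [Ideal.mem_comap]
    have hg𝔞 : g ∈ 𝔞.ideal V := Scheme.IdealSheafData.le_def.1 h₂ V hg
    have h1 : φ g ∈ Ideal.span {f} := by rw [← hmap]; exact Ideal.mem_map_of_mem φ hg𝔞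
    obtain ⟨c, hc⟩ := Ideal.mem_span_singleton'.1 h1
    refine Ideal.mem_mul_span_singleton.2 ⟨c, ?_, hc⟩
    rw [mem_ptIdeal_iff]
    intro hxc
    obtain ⟨y', hy'c, hy'F⟩ :=
      mem_closure_iff.1 hz1 (X'.basicOpen c) (X'.basicOpen c).isOpen hxc
    have hy'V' : y' ∈ V'.1 := X'.basicOpen_le c hy'c
    have hy'f : y' ∈ X'.basicOpen f := hB y' hy'V' hy'F.2
    have hy'cf : y' ∈ X'.basicOpen (φ g) := by
      rw [← hc, Scheme.basicOpen_mul]; exact ⟨hy'c, hy'f⟩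
    rw [hφ, mem_basicOpen_appLE π V.1 V'.1 hV'le g y' hy'V'] at hy'cf
    exact notMem_basicOpen_of_mem_vanishingIdeal F V g hg (π.base y') hy'F.1
      (hV'le hy'V') hy'cf
  have hT : Ideal.span (φ '' (𝔞.ideal V : Set Γ(X, V.1))) = Ideal.span {f} := hmap
  obtain ⟨t, ht, w, hw, htw⟩ := Groth.Agent.S17386.exists_unit_mul _ f hf hT
    (ptIdeal X' V'.1 (p'.base z') hxV')
  obtain ⟨s, hs, rfl⟩ := ht
  have hE : χ s ∈ ((Scheme.IdealSheafData.vanishingIdeal F).ideal V).map χ ⊔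
      (Scheme.IdealSheafData.vanishingIdeal G).ideal W := by
    have h1 : χ s ∈ (𝔞.comap p).ideal W := by
      rw [Groth.Agent.H9.comap_ideal p 𝔞 V W hWle, ← hχ]; exact Ideal.mem_map_of_mem χ hs
    have h2 := Scheme.IdealSheafData.le_def.1 h₃ W h1
    rw [Scheme.IdealSheafData.ideal_sup, Pi.sup_apply,
      Groth.Agent.H9.comap_ideal p _ V W hWle, ← hχ] at h2
    exact h2
  obtain ⟨α, hα, h, hh, hαh⟩ := Submodule.mem_sup.1 hE
  have hF : ω α ∈ ptIdeal Z' W'.1 z' hzW' * Ideal.span {ψ f} := by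
    have h1 : ω α ∈ (((Scheme.IdealSheafData.vanishingIdeal F).ideal V).map χ).map ω :=
      Ideal.mem_map_of_mem ω hα
    rw [Ideal.map_map, ← hcomm, ← Ideal.map_map] at h1
    have h2 : (((Scheme.IdealSheafData.vanishingIdeal F).ideal V).map φ).map ψ ≤
        (ptIdeal X' V'.1 (p'.base z') hxV' * Ideal.span {f}).map ψ := Ideal.map_mono hC
    have h3 := h2 h1
    rw [Ideal.map_mul, Ideal.map_span, Set.image_singleton] at h3
    refine Ideal.mul_mono_left ?_ h3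
    rw [Ideal.map_le_iff_le_comap]
    intro c hc
    rw [Ideal.mem_comap, mem_ptIdeal_iff]
    rw [mem_ptIdeal_iff] at hc
    intro hcon
    rw [hψ, mem_basicOpen_appLE p' V'.1 W'.1 hW'V' c z' hzW'] at hcon
    exact hc hcon
  obtain ⟨β, hβ, hβf⟩ := Ideal.mem_mul_span_singleton.1 hF
  have hG : ω h = (ψ w - β) * ψ f := by
    have e1 : ω (χ s) = ψ (φ s) := by
      have := congrArg (fun θ : Γ(X, V.1) →+* Γ(Z', W'.1) => θ s) hcomm
      exact this.symm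
    rw [← hαh, map_add, htw, map_mul, ← hβf] at e1
    rw [sub_mul, ← e1]; ring
  have hv : z' ∈ Z'.basicOpen (ψ w - β) := by
    by_contra hcon
    rw [← mem_ptIdeal_iff Z' W'.1 z' hzW'] at hcon
    have hψw : ψ w ∈ ptIdeal Z' W'.1 z' hzW' := by
      have := Ideal.add_mem _ hcon hβ
      rwa [sub_add_cancel] at this
    rw [mem_ptIdeal_iff, hψ, mem_basicOpen_appLE p' V'.1 W'.1 hW'V' w z' hzW'] at hψw
    rw [mem_ptIdeal_iff] at hw
    exact hψw (not_not.1 hw)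
  obtain ⟨w₁, hw₁v, hw₁G⟩ :=
    mem_closure_iff.1 hz2 (Z'.basicOpen (ψ w - β)) (Z'.basicOpen _).isOpen hv
  have hw₁W' : w₁ ∈ W'.1 := Z'.basicOpen_le _ hw₁v
  have h_i : w₁ ∉ Z'.basicOpen (ω h) := by
    rw [hω, mem_basicOpen_appLE π' W.1 W'.1 hW'W h w₁ hw₁W']
    exact notMem_basicOpen_of_mem_vanishingIdeal G W h hh (π'.base w₁) hw₁G.1 (hW'W hw₁W')
  have h_ii : w₁ ∈ Z'.basicOpen (ψ f) := by
    rw [hψ, mem_basicOpen_appLE p' V'.1 W'.1 hW'V' f w₁ hw₁W']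
    apply hB _ (hW'V' hw₁W')
    rw [hpt]; exact hw₁G.2
  apply h_i
  rw [hG, Scheme.basicOpen_mul]
  exact ⟨hw₁v, h_ii⟩

end Helpers


/-- Let X be a Noetherian scheme, X₀ ⊆ X an open subscheme, p : Z → X a morphism of finite type with Z
Noetherian, and F ⊆ X, G ⊆ Z closed subsets with p⁻¹(F ∩ X₀) ∩ G = ∅. Let a be a quasi-coherent
ideal sheaf on X whose support does not meet X₀, which contains the vanishing ideal I_F of F, and
which is contained in the kernel ideal of V(I_F·O_Z + I_G) → Z → X (the ideal of the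
scheme-theoretic image under p of p⁻¹(F) ∩ G). Let π : X' → X be a blowing-up along a, Z' = Z ×_X X'
with projections π' : Z' → Z and p' : Z' → X'. Then p'⁻¹ of the closure in X' of π⁻¹(F ∩ X₀) is
disjoint from the closure in Z' of π'⁻¹(G ∩ p⁻¹(X₀)). Taking a to be that kernel ideal shows such an
a exists. -/
theorem result
    {X Z : Scheme.{u}} [IsNoetherian X] [IsNoetherian Z] (p : Z ⟶ X) [LocallyOfFiniteType p]
    (X₀ : X.Opens) (F : Closeds X) (G : Closeds Z)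
    (hFG : p.base ⁻¹' ((F : Set X) ∩ (X₀ : Set X)) ∩ (G : Set Z) = ∅)
    (𝔞 : X.IdealSheafData) (h₁ : Disjoint (𝔞.support : Set X) (X₀ : Set X))
    (h₂ : Scheme.IdealSheafData.vanishingIdeal F ≤ 𝔞)
    (h₃ : 𝔞 ≤ (((Scheme.IdealSheafData.vanishingIdeal F).comap p ⊔
      Scheme.IdealSheafData.vanishingIdeal G).subschemeι ≫ p).ker)
    {X' : Scheme.{u}} (π : X' ⟶ X) (hπ : BlowUp.IsBlowUp π 𝔞) :
    (Limits.pullback.snd p π).base ⁻¹' closure (π.base ⁻¹' ((F : Set X) ∩ (X₀ : Set X))) ∩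
      closure ((Limits.pullback.fst p π).base ⁻¹' ((G : Set Z) ∩ (p ⁻¹ᵁ X₀ : Set Z))) = ∅ := by
  rw [Set.eq_empty_iff_forall_notMem]
  rintro z' ⟨hz1, hz2⟩
  have h₃' : 𝔞.comap p ≤ (Scheme.IdealSheafData.vanishingIdeal F).comap p ⊔
      Scheme.IdealSheafData.vanishingIdeal G := by
    rw [← Scheme.IdealSheafData.le_map_iff_comap_le]
    have h := h₃
    rwa [Scheme.Hom.ker_comp, Scheme.IdealSheafData.ker_subschemeι] at h
  exact key p π (Limits.pullback.snd p π) (Limits.pullback.fst p π) Limits.pullback.condition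
    X₀ F G 𝔞 h₁ h₂ h₃' hπ.1 z' hz1 hz2

end Groth.Agent.S17889
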