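import Groth.Statements.S17391
import Groth.Agent.S17889

set_option autoImplicit false
universe u
open BlowUp

namespace Groth.Agent.S17391


section Helpers
open AlgebraicGeometry CategoryTheory CategoryTheory.Limits TopologicalSpace
open Groth.Agent.S17889

theorem notMem_basicOpen_of_mem_ker {Y Z : Scheme.{u}} (f : Y ⟶ Z) [QuasiCompact f]
    (W : Z.affineOpens) (k : Γ(Z, W.1)) (hk : k ∈ f.ker.ideal W) (y : Y) :
    f.base y ∉ Z.basicOpen k := by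
  intro hcon
  rw [Scheme.Hom.ker_apply, RingHom.mem_ker] at hk
  have h1 : y ∈ f ⁻¹ᵁ Z.basicOpen k := hcon
  rw [Scheme.preimage_basicOpen] at h1
  have h2 : (f.app W.1) k = 0 := hk
  rw [h2, Scheme.basicOpen_zero] at h1
  simp at h1

theorem notMem_basicOpen_of_mem_support {A : Scheme.{u}} (I : A.IdealSheafData)
    (U : A.affineOpens) (g : Γ(A, U.1)) (hg : g ∈ I.ideal U) (a : A) (ha : a ∈ I.support)
    (haU : a ∈ U.1) : a ∉ A.basicOpen g := by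
  rw [Scheme.IdealSheafData.mem_support_iff_of_mem haU, Scheme.mem_zeroLocus_iff] at ha
  exact ha g hg

theorem key2 {X Z X' Z' Y Y' : Scheme.{u}} (p : Z ⟶ X) (q : X' ⟶ X) (p' : Z' ⟶ X')
    (q' : Z' ⟶ Z) (hsq : q' ≫ p = p' ≫ q) (f : Y ⟶ Z) [QuasiCompact f] (j : Y' ⟶ Z')
    (fy : Y' ⟶ Y) (hsq2 : fy ≫ f = j ≫ q') (U V : X.Opens)
    (hY : ∀ y : Y, p.base (f.base y) ∈ U)
    (𝓘₁ 𝓘₂ : X.IdealSheafData)
    (h₁ : (V : Set X) \ (U : Set X) ⊆ (𝓘₁.support : Set X))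
    (h₁' : Disjoint (𝓘₁.support : Set X) (U : Set X))
    (h₂ : ∀ x : X, x ∈ 𝓘₂.support → x ∉ V)
    (hincl : 𝓘₂.comap p ≤ 𝓘₁.comap p ⊔ f.ker)
    (hq : BlowUp.IsEffCartierIdeal ((𝓘₁ ⊔ 𝓘₂).comap q)) (z' : Z')
    (hz1 : z' ∈ closure (Set.range j.base))
    (hz2 : p'.base z' ∈ closure (q.base ⁻¹' ((V : Set X) \ (U : Set X)))) : False := by
  have hpt : ∀ t : Z', q.base (p'.base t) = p.base (q'.base t) := by
    intro t
    have := congrArg (fun φ : Z' ⟶ X => φ.base t) hsq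
    exact this.symm
  have hpt2 : ∀ t : Y', q'.base (j.base t) = f.base (fy.base t) := by
    intro t
    have := congrArg (fun φ : Y' ⟶ Z => φ.base t) hsq2
    exact this.symm
  obtain ⟨V₁, hV₁, hxV₁, -⟩ :=
    exists_isAffineOpen_mem_and_subset (x := q.base (p'.base z')) (U := ⊤) trivial
  obtain ⟨V₀, hxV⟩ : ∃ V₀ : X.affineOpens, q.base (p'.base z') ∈ V₀.1 := ⟨⟨V₁, hV₁⟩, hxV₁⟩
  clear hxV₁ hV₁ V₁
  obtain ⟨V', hxV', hV'le, e, hf, hfV'⟩ :=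
    Groth.Agent.H9.exists_affine_isPrincipalNZD hq (q ⁻¹ᵁ V₀.1) (p'.base z') hxV
  have hzW0 : q'.base z' ∈ p ⁻¹ᵁ V₀.1 := by
    show p.base (q'.base z') ∈ V₀.1
    rw [← hpt]; exact hxV
  obtain ⟨W₀, hW₀, hzW₀, hW₀le⟩ :=
    exists_isAffineOpen_mem_and_subset (x := q'.base z') (U := p ⁻¹ᵁ V₀.1) hzW0
  obtain ⟨W, hzW, hWle⟩ : ∃ W : Z.affineOpens, q'.base z' ∈ W.1 ∧ W.1 ≤ p ⁻¹ᵁ V₀.1 :=
    ⟨⟨W₀, hW₀⟩, hzW₀, hW₀le⟩
  clear hzW₀ hW₀le hW₀ W₀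
  obtain ⟨W₀', hW₀', hzW₀', hW₀'le⟩ :=
    exists_isAffineOpen_mem_and_subset (x := z') (U := q' ⁻¹ᵁ W.1 ⊓ p' ⁻¹ᵁ V'.1) ⟨hzW, hxV'⟩
  obtain ⟨W', hzW', hW'le⟩ : ∃ W' : Z'.affineOpens, z' ∈ W'.1 ∧
      W'.1 ≤ q' ⁻¹ᵁ W.1 ⊓ p' ⁻¹ᵁ V'.1 := ⟨⟨W₀', hW₀'⟩, hzW₀', hW₀'le⟩
  clear hzW₀' hW₀'le hW₀' W₀'
  have hW'W : W'.1 ≤ q' ⁻¹ᵁ W.1 := hW'le.trans inf_le_left
  have hW'V' : W'.1 ≤ p' ⁻¹ᵁ V'.1 := hW'le.trans inf_le_right
  obtain ⟨φ, hφ⟩ : ∃ φ : Γ(X, V₀.1) →+* Γ(X', V'.1), φ = (q.appLE V₀.1 V'.1 hV'le).hom :=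
    ⟨_, rfl⟩
  obtain ⟨ψ, hψ⟩ : ∃ ψ : Γ(X', V'.1) →+* Γ(Z', W'.1), ψ = (p'.appLE V'.1 W'.1 hW'V').hom :=
    ⟨_, rfl⟩
  obtain ⟨χ, hχ⟩ : ∃ χ : Γ(X, V₀.1) →+* Γ(Z, W.1), χ = (p.appLE V₀.1 W.1 hWle).hom :=
    ⟨_, rfl⟩
  obtain ⟨ω, hω⟩ : ∃ ω : Γ(Z, W.1) →+* Γ(Z', W'.1), ω = (q'.appLE W.1 W'.1 hW'W).hom :=
    ⟨_, rfl⟩
  have hcomm : ψ.comp φ = ω.comp χ := by
    rw [hφ, hψ, hχ, hω, ← CommRingCat.hom_comp, ← CommRingCat.hom_comp,
      Scheme.Hom.appLE_comp_appLE, Scheme.Hom.appLE_comp_appLE]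
    exact congrArg CommRingCat.Hom.hom
      (Groth.Agent.H9.appLE_congr_hom hsq.symm V₀.1 W'.1 _ _)
  have hmap : (𝓘₁.ideal V₀).map φ ⊔ (𝓘₂.ideal V₀).map φ = Ideal.span {e} := by
    rw [← Ideal.map_sup, hφ]
    have := Groth.Agent.H9.comap_ideal q (𝓘₁ ⊔ 𝓘₂) V₀ V' hV'le
    rw [Scheme.IdealSheafData.ideal_sup, Pi.sup_apply] at this
    rw [← this, hfV']
  have hB : ∀ y' : X', y' ∈ V'.1 →
      (q.base y' ∈ 𝓘₁.support → q.base y' ∈ 𝓘₂.support → False) → y' ∈ X'.basicOpen e := by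
    intro y' hy' hy0
    apply mem_basicOpen_of_notMem_support ((𝓘₁ ⊔ 𝓘₂).comap q) V' e hfV' y' hy'
    rw [Scheme.IdealSheafData.support_comap, Scheme.IdealSheafData.support_sup]
    intro hcon
    have hcon' : q.base y' ∈ (𝓘₁.support : Set X) ∧ q.base y' ∈ (𝓘₂.support : Set X) := hcon
    exact hy0 hcon'.1 hcon'.2
  have hC : (𝓘₁.ideal V₀).map φ ≤ ptIdeal X' V'.1 (p'.base z') hxV' * Ideal.span {e} := by
    rw [Ideal.map_le_iff_le_comap]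
    intro g hg
    rw [Ideal.mem_comap]
    have h1 : φ g ∈ Ideal.span {e} := by
      rw [← hmap]; exact Ideal.mem_sup_left (Ideal.mem_map_of_mem φ hg)
    obtain ⟨c, hc⟩ := Ideal.mem_span_singleton'.1 h1
    refine Ideal.mem_mul_span_singleton.2 ⟨c, ?_, hc⟩
    rw [mem_ptIdeal_iff]
    intro hxc
    obtain ⟨y', hy'c, hy'F⟩ :=
      mem_closure_iff.1 hz2 (X'.basicOpen c) (X'.basicOpen c).isOpen hxc
    have hy'V' : y' ∈ V'.1 := X'.basicOpen_le c hy'c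
    have hy'e : y' ∈ X'.basicOpen e := hB y' hy'V' (fun _ h2' => h₂ _ h2' hy'F.1)
    have hy'ce : y' ∈ X'.basicOpen (φ g) := by
      rw [← hc, Scheme.basicOpen_mul]; exact ⟨hy'c, hy'e⟩
    rw [hφ, mem_basicOpen_appLE q V₀.1 V'.1 hV'le g y' hy'V'] at hy'ce
    exact notMem_basicOpen_of_mem_support 𝓘₁ V₀ g hg (q.base y') (h₁ hy'F) (hV'le hy'V') hy'ce
  have hT : Ideal.span (φ '' (𝓘₁.ideal V₀ : Set Γ(X, V₀.1)) ∪
      φ '' (𝓘₂.ideal V₀ : Set Γ(X, V₀.1))) = Ideal.span {e} := by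
    rw [Ideal.span_union]; exact hmap
  obtain ⟨t, ht, w, hw, htw⟩ := Groth.Agent.S17386.exists_unit_mul _ e hf hT
    (ptIdeal X' V'.1 (p'.base z') hxV')
  have ht2 : t ∈ φ '' (𝓘₂.ideal V₀ : Set Γ(X, V₀.1)) := by
    rcases ht with ht | ht
    · exfalso
      obtain ⟨g, hg, rfl⟩ := ht
      have h1 : φ g ∈ ptIdeal X' V'.1 (p'.base z') hxV' * Ideal.span {e} :=
        hC (Ideal.mem_map_of_mem φ hg)
      obtain ⟨c, hc, hce⟩ := Ideal.mem_mul_span_singleton.1 h1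
      have h2 : (c - w) * e = 0 := by rw [sub_mul, hce, htw, sub_self]
      have h3 : c - w = 0 := (mul_right_mem_nonZeroDivisors_eq_zero_iff hf).1 h2
      have h4 : c = w := sub_eq_zero.1 h3
      exact hw (h4 ▸ hc)
    · exact ht
  obtain ⟨s, hs, rfl⟩ := ht2
  have hE : χ s ∈ (𝓘₁.ideal V₀).map χ ⊔ f.ker.ideal W := by
    have h1 : χ s ∈ (𝓘₂.comap p).ideal W := by
      rw [Groth.Agent.H9.comap_ideal p 𝓘₂ V₀ W hWle, ← hχ]; exact Ideal.mem_map_of_mem χ hs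
    have h2 := Scheme.IdealSheafData.le_def.1 hincl W h1
    rw [Scheme.IdealSheafData.ideal_sup, Pi.sup_apply,
      Groth.Agent.H9.comap_ideal p 𝓘₁ V₀ W hWle, ← hχ] at h2
    exact h2
  obtain ⟨α, hα, k, hk, hαk⟩ := Submodule.mem_sup.1 hE
  have hF : ω α ∈ ptIdeal Z' W'.1 z' hzW' * Ideal.span {ψ e} := by
    have h1 : ω α ∈ ((𝓘₁.ideal V₀).map χ).map ω := Ideal.mem_map_of_mem ω hα
    rw [Ideal.map_map, ← hcomm, ← Ideal.map_map] at h1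
    have h2 : ((𝓘₁.ideal V₀).map φ).map ψ ≤
        (ptIdeal X' V'.1 (p'.base z') hxV' * Ideal.span {e}).map ψ := Ideal.map_mono hC
    have h3 := h2 h1
    rw [Ideal.map_mul, Ideal.map_span, Set.image_singleton] at h3
    refine Ideal.mul_mono_left ?_ h3
    rw [Ideal.map_le_iff_le_comap]
    intro c hc
    rw [Ideal.mem_comap, mem_ptIdeal_iff]
    rw [mem_ptIdeal_iff] at hc
    intro hcon
    rw [hψ, mem_basicOpen_appLE p' V'.1 W'.1 hW'V' c z' hzW'] at hcon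
    exact hc hcon
  obtain ⟨β, hβ, hβf⟩ := Ideal.mem_mul_span_singleton.1 hF
  have hG : ω k = (ψ w - β) * ψ e := by
    have e1 : ω (χ s) = ψ (φ s) := by
      have := congrArg (fun θ : Γ(X, V₀.1) →+* Γ(Z', W'.1) => θ s) hcomm
      exact this.symm
    rw [← hαk, map_add, htw, map_mul, ← hβf] at e1
    rw [sub_mul, ← e1]; ring
  have hv : z' ∈ Z'.basicOpen (ψ w - β) := by
    by_contra hcon
    rw [← mem_ptIdeal_iff Z' W'.1 z' hzW'] at hcon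
    have hψw : ψ w ∈ ptIdeal Z' W'.1 z' hzW' := by
      have := Ideal.add_mem _ hcon hβ
      rwa [sub_add_cancel] at this
    rw [mem_ptIdeal_iff, hψ, mem_basicOpen_appLE p' V'.1 W'.1 hW'V' w z' hzW'] at hψw
    rw [mem_ptIdeal_iff] at hw
    exact hψw (not_not.1 hw)
  obtain ⟨y₁, hy₁v, hy₁R⟩ :=
    mem_closure_iff.1 hz1 (Z'.basicOpen (ψ w - β)) (Z'.basicOpen _).isOpen hv
  obtain ⟨t, rfl⟩ := hy₁R
  have hy₁W' : j.base t ∈ W'.1 := Z'.basicOpen_le _ hy₁v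
  have h_i : j.base t ∉ Z'.basicOpen (ω k) := by
    rw [hω, mem_basicOpen_appLE q' W.1 W'.1 hW'W k (j.base t) hy₁W', hpt2]
    exact notMem_basicOpen_of_mem_ker f W k hk (fy.base t)
  have h_ii : j.base t ∈ Z'.basicOpen (ψ e) := by
    rw [hψ, mem_basicOpen_appLE p' V'.1 W'.1 hW'V' e (j.base t) hy₁W']
    apply hB _ (hW'V' hy₁W')
    intro h1 _
    rw [hpt, hpt2] at h1
    exact Set.disjoint_left.1 h₁' h1 (hY _)
  apply h_i
  rw [hG, Scheme.basicOpen_mul]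
  exact ⟨hy₁v, h_ii⟩

end Helpers


open AlgebraicGeometry CategoryTheory Limits in
/-- Let X and Z be schemes, p : Z → X a morphism, U ⊆ V ⊆ X open subschemes, and f : Y → Z a
quasi-compact immersion whose composite with p lands in U. Let I₁ be a quasi-coherent ideal on X
whose support contains V ∖ U and is disjoint from U, and I₂ a quasi-coherent ideal whose support
lies in supp(I₁) ∖ V. Assume that the closed subscheme p⁻¹(V(I₁²)) ∩ Ȳ of Z, where Ȳ is the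
scheme-theoretic image of f, is contained in p⁻¹(V(I₂)) as a closed subscheme: the inverse image
ideal of I₂ on Z lies in the sum of the inverse image ideal of I₁² and the kernel ideal of f. Then
for every blowing up q : X' → X of X in I₁ + I₂, writing Z' = Z ×_X X' → X' and Y' = Y ×_Z Z' → Z'
for the base changes, the closure in Z' of the image of Y' is disjoint from the preimage in Z' of
the closure in X' of q⁻¹(V ∖ U). (The blowing up is an isomorphism over V, since the support of I₁ +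
I₂ is that of I₂ and lies in X ∖ V; the point is that the closure of q⁻¹(V ∖ U) in X', which may
reach over X ∖ V, still misses the closure of Y'.) -/
theorem result
    {X Y Z X' : Scheme.{u}} (p : Z ⟶ X) (U V : X.Opens) (hUV : U ≤ V)
    (f : Y ⟶ Z) [IsImmersion f] [QuasiCompact f] (hY : Set.range (fun y => p (f y)) ⊆ (U : Set X))
    (𝓘₁ 𝓘₂ : X.IdealSheafData)
    (h₁ : (V : Set X) \ (U : Set X) ⊆ (𝓘₁.support : Set X)) (h₁' : Disjoint (𝓘₁.support : Set X) (U : Set X))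
    (h₂ : (𝓘₂.support : Set X) ⊆ (𝓘₁.support : Set X) \ (V : Set X))
    (hincl : 𝓘₂.comap p ≤ (𝓘₁ * 𝓘₁).comap p ⊔ f.ker)
    (q : X' ⟶ X) (hq : BlowUp.IsBlowUp q (𝓘₁ ⊔ 𝓘₂)) :
    Disjoint (closure (Set.range (fun y => (pullback.snd f (pullback.fst p q)) y)))
      ((fun z => (pullback.snd p q) z) ⁻¹'
        closure ((fun x' => q x') ⁻¹' ((V : Set X) \ (U : Set X)))) := by
  rw [Set.disjoint_left]
  intro z' hz1 hz2
  have hsqle : 𝓘₁ * 𝓘₁ ≤ 𝓘₁ := by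
    rw [Scheme.IdealSheafData.le_def]
    intro W
    rw [Scheme.IdealSheafData.ideal_mul, Pi.mul_apply]
    exact Ideal.mul_le_right
  have hincl' : 𝓘₂.comap p ≤ 𝓘₁.comap p ⊔ f.ker :=
    hincl.trans (sup_le_sup_right (Scheme.IdealSheafData.comap_mono p hsqle) _)
  exact key2 p q (pullback.snd p q) (pullback.fst p q) pullback.condition f
    (pullback.snd f (pullback.fst p q)) (pullback.fst f (pullback.fst p q)) pullback.condition
    U V (fun y => hY ⟨y, rfl⟩) 𝓘₁ 𝓘₂ h₁ h₁' (fun x hx => (h₂ hx).2) hincl' hq.1 z' hz1 hz2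

end Groth.Agent.S17391
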