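import Groth.Statements.S19618
import Groth.Agent.H9.EffCartier

set_option autoImplicit false
universe u
open CategoryTheory CategoryTheory.Limits AlgebraicGeometry Opposite TopologicalSpace
open BlowUp

namespace Groth.Agent.S19618


theorem one_le_ringKrullDim_of_nzd {R : Type*} [CommRing R] [IsLocalRing R] (a : R)
    (ha : a ∈ nonZeroDivisors R) (ham : a ∈ IsLocalRing.maximalIdeal R) :
    1 ≤ ringKrullDim R := by
  obtain ⟨p, hp, hple⟩ := Ideal.exists_minimalPrimes_le
    (bot_le : (⊥ : Ideal R) ≤ IsLocalRing.maximalIdeal R)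
  have hap : a ∉ p := fun h =>
    Set.disjoint_left.mp (Ideal.disjoint_nonZeroDivisors_of_mem_minimalPrimes hp) h ha
  haveI : p.IsPrime := hp.1.1
  refine Order.one_le_krullDim_iff.mpr
    ⟨⟨p, inferInstance⟩, ⟨IsLocalRing.maximalIdeal R, inferInstance⟩, ?_⟩
  refine lt_of_le_not_ge (show p ≤ IsLocalRing.maximalIdeal R from hple) ?_
  intro hge
  exact hap ((show IsLocalRing.maximalIdeal R ≤ p from hge) ham)

theorem one_le_dim {X : Scheme.{u}} (𝓘 : X.IdealSheafData) (hY : BlowUp.IsEffCartierIdeal 𝓘)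
    (y : X) (hy : y ∈ 𝓘.support) : 1 ≤ ringKrullDim (X.presheaf.stalk y) := by
  obtain ⟨U, hyU, f, hf, hI⟩ := hY y
  have hfm : X.presheaf.germ U.1 y hyU f ∈ IsLocalRing.maximalIdeal (X.presheaf.stalk y) := by
    rw [Scheme.IdealSheafData.mem_support_iff_of_mem (U := U) hyU, Scheme.mem_zeroLocus_iff] at hy
    have h1 := hy f (by
      show f ∈ 𝓘.ideal U
      rw [hI]; exact Ideal.mem_span_singleton_self f)
    rw [Scheme.mem_basicOpen X f y hyU] at h1
    exact (IsLocalRing.mem_maximalIdeal _).mpr h1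
  letI := (X.presheaf.germ U.1 y hyU).hom.toAlgebra
  haveI := U.2.isLocalization_stalk ⟨y, hyU⟩
  have hnzd : X.presheaf.germ U.1 y hyU f ∈ nonZeroDivisors (X.presheaf.stalk y) :=
    IsLocalization.map_nonZeroDivisors_le (U.2.primeIdealOf ⟨y, hyU⟩).asIdeal.primeCompl _
      (Submonoid.mem_map_of_mem _ hf)
  exact one_le_ringKrullDim_of_nzd _ hnzd hfm


/-- Let X be a locally Noetherian scheme, Y an effective Cartier divisor on X (a quasi-coherent ideal
sheaf which, near every point, is generated on some affine open by one nonzerodivisor; Y is its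
support) and Z a closed integral subscheme (a closed immersion i from an integral scheme with
generic point ξ). If Y and Z intersect properly — every point ζ of Y ∩ Z which is maximal under
generization inside Y ∩ Z satisfies dim O_{X,ζ} = codim(Y,X) + codim(Z,X), where codim(Y,X) is the
infimum over y ∈ Y of dim O_{X,y} and codim(Z,X) = dim O_{X,i(ξ)} — then Z is not contained in Y. -/
theorem result {X Z : Scheme.{u}}
    [IsLocallyNoetherian X] (𝓘 : X.IdealSheafData) (hY : BlowUp.IsEffCartierIdeal 𝓘)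
    (i : Z ⟶ X) [IsClosedImmersion i] [IsIntegral Z]
    (hprop : ∀ ζ : ↥X, ζ ∈ (𝓘.support : Set ↥X) ∩ Set.range i.base →
        (∀ ζ' : ↥X, ζ' ∈ (𝓘.support : Set ↥X) ∩ Set.range i.base → ζ' ⤳ ζ → ζ' = ζ) →
        ringKrullDim ↑(X.presheaf.stalk ζ) =
          (⨅ y : (𝓘.support : Set ↥X), ringKrullDim ↑(X.presheaf.stalk y.1)) +
            ringKrullDim ↑(X.presheaf.stalk (i (genericPoint ↥Z)))) :
    ¬ Set.range i.base ⊆ (𝓘.support : Set ↥X) := by
  intro hsub
  have hζmem : i (genericPoint Z) ∈ (𝓘.support : Set X) ∩ Set.range i.base :=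
    ⟨hsub ⟨_, rfl⟩, ⟨_, rfl⟩⟩
  have hmax : ∀ ζ' : X, ζ' ∈ (𝓘.support : Set X) ∩ Set.range i.base →
      ζ' ⤳ i (genericPoint Z) → ζ' = i (genericPoint Z) := by
    rintro ζ' ⟨-, z', rfl⟩ hsp
    have h1 : i (genericPoint Z) ⤳ i z' := (genericPoint_specializes z').map i.continuous
    exact (hsp.antisymm h1).eq
  have h := hprop _ hζmem hmax
  have hD : ringKrullDim (X.presheaf.stalk (i (genericPoint Z))) < ⊤ := ringKrullDim_lt_top
  have hD0 : 0 ≤ ringKrullDim (X.presheaf.stalk (i (genericPoint Z))) :=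
    ringKrullDim_nonneg_of_nontrivial
  have hI : (1 : WithBot ℕ∞) ≤
      ⨅ y : (𝓘.support : Set X), ringKrullDim (X.presheaf.stalk y.1) :=
    le_iInf fun y => one_le_dim 𝓘 hY y.1 y.2
  obtain ⟨n, hn⟩ : ∃ n : ℕ,
      ringKrullDim (X.presheaf.stalk (i (genericPoint Z))) = (n : WithBot ℕ∞) := by
    have h1 : ringKrullDim (X.presheaf.stalk (i (genericPoint Z))) ≠ ⊥ := fun hb => by
      rw [hb] at hD0; exact absurd hD0 (by simp)
    obtain ⟨d, hd⟩ := WithBot.ne_bot_iff_exists.mp h1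
    have hd2 : d ≠ ⊤ := fun ht => hD.ne (by rw [← hd, ht]; rfl)
    exact ⟨d.toNat, by rw [← hd]; exact_mod_cast (ENat.coe_toNat hd2).symm⟩
  rw [hn] at h
  have h2 : (1 : WithBot ℕ∞) + (n : WithBot ℕ∞) ≤ (n : WithBot ℕ∞) :=
    calc (1 : WithBot ℕ∞) + (n : WithBot ℕ∞)
        ≤ (⨅ y : (𝓘.support : Set X), ringKrullDim (X.presheaf.stalk y.1)) + (n : WithBot ℕ∞) :=
          add_le_add hI le_rfl
      _ = (n : WithBot ℕ∞) := h.symm
  have h3 : 1 + n ≤ n := by exact_mod_cast h2
  omega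
end Groth.Agent.S19618
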