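import Groth.Statements.S14119
import Groth.Agent.H95.StalkPrimes
import Groth.Agent.H71.Catenary
import Groth.Agent.H71.DimFun
import Groth.Agent.S17391
import Groth.Agent.S19618
import Groth.Agent.H9.BlowUpPullback

set_option autoImplicit false
universe u
open CategoryTheory CategoryTheory.Limits AlgebraicGeometry Opposite TopologicalSpace
open BlowUp

namespace Groth.Agent.S14119


section RingPart

variable {A : Type u} [CommRing A] [IsNoetherianRing A] [IsLocalRing A]

theorem coheight_le_add_height (hc : CAlg.IsCatenary A) (p₀ : PrimeSpectrum A)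
    (hp₀ : ∀ q, p₀ ≤ q) :
    ∀ (n : ℕ) (P : PrimeSpectrum A), Order.height P = n →
      Order.coheight p₀ ≤ Order.coheight P + n := by
  intro n
  induction n using Nat.strong_induction_on with
  | _ n ih =>
    intro P hP
    by_cases hPp : P = p₀
    · rw [hPp]; exact le_self_add
    · have hlt : p₀ < P := lt_of_le_of_ne (hp₀ P) (Ne.symm hPp)
      obtain ⟨Q, ⟨hQ0, hQP⟩, hQmax⟩ :=
        (wellFounded_gt (α := PrimeSpectrum A)).has_min {Q | p₀ ≤ Q ∧ Q < P} ⟨p₀, le_rfl, hlt⟩
      have hcov : Q ⋖ P := ⟨hQP, fun R hQR hRP => hQmax R ⟨hQ0.trans hQR.le, hRP⟩ hQR⟩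
      have h1 : Order.height Q + 1 ≤ Order.height P := Order.height_add_one_le hQP
      rw [hP] at h1
      have hQfin : Order.height Q ≠ ⊤ := (Groth.Agent.H71.CAT.height_lt_top Q).ne
      obtain ⟨m, hm⟩ := ENat.ne_top_iff_exists.mp hQfin
      rw [← hm] at h1
      have hmn : m + 1 ≤ n := by exact_mod_cast h1
      have h2 := ih m (by omega) Q hm.symm
      rw [Groth.Agent.H71.CAT.coheight_eq_of_covBy hc hcov] at h2
      calc Order.coheight p₀ ≤ Order.coheight P + 1 + (m : ℕ∞) := h2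
        _ = Order.coheight P + ((m + 1 : ℕ) : ℕ∞) := by push_cast; ring
        _ ≤ Order.coheight P + (n : ℕ∞) := by gcongr

theorem ringKrullDim_eq_of_coheight_eq_one (hc : CAlg.IsCatenary A) (p₀ : PrimeSpectrum A)
    (hp₀ : ∀ q, p₀ ≤ q) (P : PrimeSpectrum A) (hP : Order.coheight P = 1) :
    ringKrullDim A = (((1 : ℕ∞) + P.asIdeal.height : ℕ∞) : WithBot ℕ∞) := by
  have hfin := Groth.Agent.H71.CAT.height_lt_top P
  obtain ⟨n, hn⟩ := ENat.ne_top_iff_exists.mp hfin.ne
  have h1 := coheight_le_add_height hc p₀ hp₀ n P hn.symm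
  rw [hP] at h1
  have h2 : ringKrullDim A ≤ ((Order.coheight p₀ : ℕ∞) : WithBot ℕ∞) := by
    rw [ringKrullDim, Order.krullDim_eq_iSup_coheight]
    apply iSup_le
    intro x
    exact WithBot.coe_le_coe.mpr (Order.coheight_anti (hp₀ x))
  have h3 : ((Order.height P + Order.coheight P : ℕ∞) : WithBot ℕ∞) ≤ ringKrullDim A := by
    haveI : Nonempty (PrimeSpectrum A) := ⟨P⟩
    rw [ringKrullDim, Order.krullDim_eq_iSup_height_add_coheight_of_nonempty]
    exact WithBot.coe_le_coe.mpr
      (le_iSup (fun a : PrimeSpectrum A => Order.height a + Order.coheight a) P)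
  apply le_antisymm
  · refine h2.trans (WithBot.coe_le_coe.mpr ?_)
    rw [PrimeSpectrum.height_eq_orderHeight, ← hn]; exact h1
  · refine le_trans (WithBot.coe_le_coe.mpr ?_) h3
    rw [PrimeSpectrum.height_eq_orderHeight, hP]
    exact le_of_eq (add_comm _ _)

theorem coheight_eq_one_of_minimal (hc : CAlg.IsCatenary A) (P : PrimeSpectrum A) (f : A)
    (hfP : f ∉ P.asIdeal) (hfm : f ∈ IsLocalRing.maximalIdeal A)
    (hmin : ∀ Q : Ideal A, Q.IsPrime → P.asIdeal ≤ Q → f ∈ Q →
      Q = IsLocalRing.maximalIdeal A) :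
    Order.coheight P = 1 := by
  apply le_antisymm
  · have hmem : IsLocalRing.maximalIdeal A ∈ (P.asIdeal ⊔ Ideal.span {f}).minimalPrimes := by
      refine ⟨⟨inferInstance, sup_le (IsLocalRing.le_maximalIdeal P.2.ne_top)
        ((Ideal.span_singleton_le_iff_mem _).2 hfm)⟩, ?_⟩
      rintro Q ⟨hQ, hQle⟩ -
      exact (hmin Q hQ (le_sup_left.trans hQle)
        (hQle (Ideal.mem_sup_right (Ideal.mem_span_singleton_self f)))).ge
    have h1 := Ideal.map_height_le_one_of_mem_minimalPrimes hmem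
    have h2 : ringKrullDim (A ⧸ P.asIdeal) ≤ 1 := by
      rw [ringKrullDim_le_iff_isMaximal_height_le]
      intro M hM
      have hcm : M.comap (Ideal.Quotient.mk P.asIdeal) = IsLocalRing.maximalIdeal A := by
        haveI := Ideal.comap_isMaximal_of_surjective (Ideal.Quotient.mk P.asIdeal)
          Ideal.Quotient.mk_surjective (K := M)
        exact IsLocalRing.eq_maximalIdeal this
      rw [← Ideal.map_comap_of_surjective _ Ideal.Quotient.mk_surjective M, hcm]
      exact_mod_cast h1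
    rw [Groth.Agent.H71.CAT.ringKrullDim_quotient_eq_coheight] at h2
    exact_mod_cast h2
  · have hlt : P < IsLocalRing.closedPoint A := by
      refine lt_of_le_of_ne (Groth.Agent.H71.CAT.le_closedPoint P) ?_
      intro h
      apply hfP
      rw [h]
      exact hfm
    have := Order.coheight_add_one_le hlt
    exact le_trans le_add_self this

end RingPart

section SchemePart

open IsLocalRing

variable {X : Scheme.{u}}

theorem germ_mem_iff (𝓘 : X.IdealSheafData) (U : X.affineOpens) (t : Γ(X, U.1))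
    (hI : 𝓘.ideal U = Ideal.span {t}) {y x : X} (h : y ⤳ x) (hxU : x ∈ U.1) :
    X.presheaf.germ U.1 x hxU t ∈ (maximalIdeal (X.presheaf.stalk y)).comap
      (X.presheaf.stalkSpecializes h).hom ↔ y ∈ 𝓘.support := by
  have hyU : y ∈ U.1 := h.mem_open U.1.2 hxU
  rw [Ideal.mem_comap]
  have e : (X.presheaf.stalkSpecializes h).hom (X.presheaf.germ U.1 x hxU t) =
      X.presheaf.germ U.1 y hyU t :=
    TopCat.Presheaf.germ_stalkSpecializes_apply X.presheaf hxU h t
  rw [e]
  have key : X.presheaf.germ U.1 y hyU t ∈ maximalIdeal (X.presheaf.stalk y) ↔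
      y ∉ X.basicOpen t := Groth.Agent.S17889.mem_ptIdeal_iff X U.1 y hyU t
  rw [key]
  constructor
  · intro h1
    by_contra h2
    exact h1 (Groth.Agent.S17889.mem_basicOpen_of_notMem_support 𝓘 U t hI y hyU h2)
  · intro h1
    exact Groth.Agent.S17391.notMem_basicOpen_of_mem_support 𝓘 U t
      (by rw [hI]; exact Ideal.mem_span_singleton_self t) y h1 hyU

theorem specializes_of_comap_le {y₁ y₂ x : X} (h₁ : y₁ ⤳ x) (h₂ : y₂ ⤳ x)
    (hle : (maximalIdeal (X.presheaf.stalk y₁)).comap (X.presheaf.stalkSpecializes h₁).hom ≤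
      (maximalIdeal (X.presheaf.stalk y₂)).comap (X.presheaf.stalkSpecializes h₂).hom) :
    y₁ ⤳ y₂ := by
  obtain ⟨W, hW0, hxW, -⟩ := Opens.isBasis_iff_nbhd.mp X.isBasis_affineOpens
    (show x ∈ (⊤ : X.Opens) from trivial)
  have hW : IsAffineOpen W := hW0
  have hy₁W : y₁ ∈ W := h₁.mem_open W.2 hxW
  have hy₂W : y₂ ∈ W := h₂.mem_open W.2 hxW
  have c₁ := Groth.Agent.H95.StalkPrimes.comap_comap_eq hW h₁ hxW hy₁W
  have c₂ := Groth.Agent.H95.StalkPrimes.comap_comap_eq hW h₂ hxW hy₂W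
  have hle' : (hW.primeIdealOf ⟨y₁, hy₁W⟩).asIdeal ≤ (hW.primeIdealOf ⟨y₂, hy₂W⟩).asIdeal := by
    rw [← c₁, ← c₂]; exact Ideal.comap_mono hle
  have hs : hW.primeIdealOf ⟨y₁, hy₁W⟩ ⤳ hW.primeIdealOf ⟨y₂, hy₂W⟩ :=
    (PrimeSpectrum.le_iff_specializes _ _).1 hle'
  have := hs.map hW.fromSpec.continuous
  rw [hW.fromSpec_primeIdealOf, hW.fromSpec_primeIdealOf] at this
  exact this

theorem comap_eq_maximalIdeal_of_eq {y x : X} (h : y ⤳ x) (e : y = x) :
    (maximalIdeal (X.presheaf.stalk y)).comap (X.presheaf.stalkSpecializes h).hom =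
      maximalIdeal (X.presheaf.stalk x) := by
  subst e
  obtain rfl : h = specializes_refl y := rfl
  rw [TopCat.Presheaf.stalkSpecializes_refl, CommRingCat.hom_id, Ideal.comap_id]

theorem exists_least_prime [IrreducibleSpace X] (x : X) :
    ∃ p₀ : PrimeSpectrum (X.presheaf.stalk x), ∀ q, p₀ ≤ q := by
  have hmin : ∀ q : PrimeSpectrum (X.presheaf.stalk x), IsMin q →
      X.fromSpecStalk x q = genericPoint X := by
    intro q hq
    exact (Groth.Agent.H71.DimFun.generic_of_isMin X x q hq (genericPoint X)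
      (genericPoint_specializes _)).symm
  obtain ⟨p, hp, -⟩ := Ideal.exists_minimalPrimes_le (I := (⊥ : Ideal (X.presheaf.stalk x)))
    (J := maximalIdeal _) bot_le
  have hq₀ : IsMin (⟨p, hp.1.1⟩ : PrimeSpectrum (X.presheaf.stalk x)) := by
    intro r hrq
    exact hp.2 ⟨r.2, bot_le⟩ hrq
  refine ⟨⟨p, hp.1.1⟩, fun q => ?_⟩
  obtain ⟨p', hp', hp'le⟩ := Ideal.exists_minimalPrimes_le
    (I := (⊥ : Ideal (X.presheaf.stalk x))) (J := q.asIdeal) bot_le
  have hq' : IsMin (⟨p', hp'.1.1⟩ : PrimeSpectrum (X.presheaf.stalk x)) := by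
    intro r hrq
    exact hp'.2 ⟨r.2, bot_le⟩ hrq
  have heq : (⟨p, hp.1.1⟩ : PrimeSpectrum (X.presheaf.stalk x)) = ⟨p', hp'.1.1⟩ :=
    Groth.Agent.H71.DimFun.fromSpecStalk_injective X x
      ((hmin _ hq₀).trans (hmin _ hq').symm)
  rw [heq]
  exact hp'le

end SchemePart


/-- Let X be a locally Noetherian scheme, Y an effective Cartier divisor on X (a quasi-coherent ideal
sheaf which, near every point, is generated on some affine open by one nonzerodivisor; Y is its
support) and Z a closed integral subscheme (a closed immersion i from an integral scheme with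
generic point ξ). Assume X irreducible with all local rings catenary (the first of the two printed
sufficient conditions), and assume that the inverse image ideal sheaf of Y on Z is the ideal of an
effective Cartier divisor on Z. Then Y and Z intersect properly: every point ζ of Y ∩ Z that is
maximal under generization inside Y ∩ Z satisfies dim O_{X,ζ} = codim(Y,X) + codim(Z,X), where
codim(Y,X) is the infimum over y ∈ Y of dim O_{X,y} and codim(Z,X) = dim O_{X,i(ξ)}. (The published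
statement also has a second sufficient condition, X biequidimensional, and a fourth equivalent
condition, vanishing of the higher Tor sheaves of O_Y against O_Z; neither is included in this row.) -/
theorem result {X Z : Scheme.{u}}
    [IsLocallyNoetherian X] [IrreducibleSpace ↥X] (hcat : ∀ x : ↥X, CAlg.IsCatenary ↑(X.presheaf.stalk x))
    (𝓘 : X.IdealSheafData) (hY : BlowUp.IsEffCartierIdeal 𝓘)
    (i : Z ⟶ X) [IsClosedImmersion i] [IsIntegral Z] (hc : BlowUp.IsEffCartierIdeal (𝓘.comap i)) :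
    (∀ ζ : ↥X, ζ ∈ (𝓘.support : Set ↥X) ∩ Set.range i.base →
        (∀ ζ' : ↥X, ζ' ∈ (𝓘.support : Set ↥X) ∩ Set.range i.base → ζ' ⤳ ζ → ζ' = ζ) →
        ringKrullDim ↑(X.presheaf.stalk ζ) =
          (⨅ y : (𝓘.support : Set ↥X), ringKrullDim ↑(X.presheaf.stalk y.1)) +
            ringKrullDim ↑(X.presheaf.stalk (i (genericPoint ↥Z)))) := by
  intro ζ hζ hmax
  obtain ⟨hζY, z, hz⟩ := hζ
  obtain ⟨η, hηdef⟩ : ∃ η : X, η = i.base (genericPoint Z) := ⟨_, rfl⟩
  have hη : η ⤳ ζ := by
    rw [← hz, hηdef]; exact (genericPoint_specializes z).map i.continuous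
  obtain ⟨U, hζU, t, ht, hI⟩ := hY ζ
  have hηY : η ∉ 𝓘.support := by
    intro hcon
    have h1 : genericPoint Z ∈ (𝓘.comap i).support := by
      rw [Scheme.IdealSheafData.support_comap]
      rw [hηdef] at hcon
      exact hcon
    have h2 := Groth.Agent.S19618.one_le_dim (𝓘.comap i) hc (genericPoint Z) h1
    have h3 : ringKrullDim (Z.presheaf.stalk (genericPoint Z)) = 0 :=
      ringKrullDim_eq_zero_of_field Z.functionField
    rw [h3] at h2
    exact absurd h2 (by simp)
  obtain ⟨PZ, hPZ⟩ : ∃ PZ : Ideal (X.presheaf.stalk ζ), PZ =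
      (IsLocalRing.maximalIdeal (X.presheaf.stalk η)).comap
        (X.presheaf.stalkSpecializes hη).hom := ⟨_, rfl⟩
  haveI hPZprime : PZ.IsPrime := hPZ ▸ Ideal.comap_isPrime _ _
  obtain ⟨f, hf⟩ : ∃ f : X.presheaf.stalk ζ, f = X.presheaf.germ U.1 ζ hζU t := ⟨_, rfl⟩
  have hfPZ : f ∉ PZ := by
    rw [hf, hPZ]
    exact fun hcon => hηY ((germ_mem_iff 𝓘 U t hI hη hζU).1 hcon)
  have hfm : f ∈ IsLocalRing.maximalIdeal (X.presheaf.stalk ζ) := by
    rw [hf]
    exact (Groth.Agent.S17889.mem_ptIdeal_iff X U.1 ζ hζU t).2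
      (Groth.Agent.S17391.notMem_basicOpen_of_mem_support 𝓘 U t
        (by rw [hI]; exact Ideal.mem_span_singleton_self t) ζ hζY hζU)
  have hmin : ∀ Q : Ideal (X.presheaf.stalk ζ), Q.IsPrime → PZ ≤ Q → f ∈ Q →
      Q = IsLocalRing.maximalIdeal (X.presheaf.stalk ζ) := by
    intro Q hQ hPQ hfQ
    obtain ⟨ζ', h', hQ'⟩ := Groth.Agent.H95.StalkPrimes.exists_generization ζ Q
    have hηζ' : η ⤳ ζ' := specializes_of_comap_le hη h' (by rw [hQ', ← hPZ]; exact hPQ)
    have hζ'R : ζ' ∈ Set.range i.base :=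
      hηζ'.mem_closed i.isClosedEmbedding.isClosed_range ⟨_, hηdef.symm⟩
    have hζ'Y : ζ' ∈ 𝓘.support :=
      (germ_mem_iff 𝓘 U t hI h' hζU).1 (by rw [hQ', ← hf]; exact hfQ)
    have hζ'ζ : ζ' = ζ := hmax ζ' ⟨hζ'Y, hζ'R⟩ h'
    rw [← hQ']
    exact comap_eq_maximalIdeal_of_eq h' hζ'ζ
  obtain ⟨p₀, hp₀⟩ := exists_least_prime ζ
  have hco := coheight_eq_one_of_minimal (hcat ζ) ⟨PZ, hPZprime⟩ f hfPZ hfm hmin
  have hdim := ringKrullDim_eq_of_coheight_eq_one (hcat ζ) p₀ hp₀ ⟨PZ, hPZprime⟩ hco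
  have hht : ((PZ.height : ℕ∞) : WithBot ℕ∞) = ringKrullDim (X.presheaf.stalk η) := by
    rw [hPZ]; exact Groth.Agent.H95.StalkPrimes.height_comap_eq hη
  have hinf : (⨅ y : (𝓘.support : Set X), ringKrullDim (X.presheaf.stalk y.1)) = 1 := by
    apply le_antisymm
    · have hfnzd : f ∈ nonZeroDivisors (X.presheaf.stalk ζ) := by
        rw [hf]; exact Groth.Agent.H9.germ_mem_nonZeroDivisors U.2 ht ζ hζU
      obtain ⟨P1, hP1, -⟩ := Ideal.exists_minimalPrimes_le
        (show Ideal.span {f} ≤ IsLocalRing.maximalIdeal (X.presheaf.stalk ζ) from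
          (Ideal.span_singleton_le_iff_mem _).2 hfm)
      haveI : P1.IsPrime := hP1.1.1
      have hle1 : P1.height ≤ 1 :=
        Ideal.height_le_one_of_isPrincipal_of_mem_minimalPrimes (Ideal.span {f}) P1 hP1
      have hge1 : 1 ≤ P1.height :=
        (Ideal.one_le_height_span_singleton_of_mem_nonZeroDivisors hfnzd).trans
          (Ideal.height_mono hP1.1.2)
      obtain ⟨y, hy, hydim, hyP⟩ :=
        Groth.Agent.H95.StalkPrimes.exists_generization_of_height_one ζ P1
          (le_antisymm hle1 hge1)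
      have hyY : y ∈ 𝓘.support :=
        (germ_mem_iff 𝓘 U t hI hy hζU).1
          (by rw [hyP, ← hf]; exact hP1.1.2 (Ideal.mem_span_singleton_self f))
      exact (iInf_le _ (⟨y, hyY⟩ : (𝓘.support : Set X))).trans (le_of_eq hydim)
    · exact le_iInf fun y => Groth.Agent.S19618.one_le_dim 𝓘 hY y.1 y.2
  rw [hinf, ← hηdef, hdim, ← hht, WithBot.coe_add, WithBot.coe_one]

end Groth.Agent.S14119
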