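import Groth.Statements.S1412
import Groth.Agent.H8.WeaklyEtaleLoc
import Groth.Agent.S7178
import Groth.Agent.S7127

set_option autoImplicit false
universe u
open FlatMor

namespace Groth.Agent.S1412

open AlgebraicGeometry CategoryTheory Limits in
/-- A morphism of schemes f : X → Y is weakly étale (flat with flat diagonal) if and only if for every
point x of X the local ring map O_{Y, f(x)} → O_{X, x} is weakly étale, that is, flat and with flat
multiplication map O_{X,x} ⊗_{O_{Y, f(x)}} O_{X,x} → O_{X,x}. -/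
theorem result {X Y : Scheme.{u}} (f : X ⟶ Y) :
    WeaklyEtale f ↔ ∀ x : X, (f.stalkMap x).hom.Flat ∧
      (letI := (f.stalkMap x).hom.toAlgebra
       (Algebra.TensorProduct.lmul' (S := ↑(X.presheaf.stalk x)) (↑(Y.presheaf.stalk (f x)))).toRingHom.Flat) := by
  constructor
  · intro hf x
    obtain ⟨_, ⟨V, hV : IsAffineOpen V, rfl⟩, hxV, -⟩ :=
      (Y.isBasis_affineOpens).exists_subset_of_mem_open (Set.mem_univ (f x)) isOpen_univ
    obtain ⟨_, ⟨U, hU : IsAffineOpen U, rfl⟩, hxU, hUV⟩ :=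
      (X.isBasis_affineOpens).exists_subset_of_mem_open (show x ∈ (f ⁻¹ᵁ V : Set X) from hxV)
        (f ⁻¹ᵁ V).isOpen
    have hAB := (Groth.Agent.S7178.result f).mp hf U V hU hV hUV
    letI aAB : Algebra Γ(Y, V) Γ(X, U) := (f.appLE V U hUV).hom.toAlgebra
    letI aAA' : Algebra Γ(Y, V) (Y.presheaf.stalk (f x)) :=
      Y.presheaf.algebra_section_stalk ⟨f x, hxV⟩
    letI aBB' : Algebra Γ(X, U) (X.presheaf.stalk x) := X.presheaf.algebra_section_stalk ⟨x, hxU⟩
    letI aA'B' : Algebra (Y.presheaf.stalk (f x)) (X.presheaf.stalk x) :=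
      (f.stalkMap x).hom.toAlgebra
    letI aAB' : Algebra Γ(Y, V) (X.presheaf.stalk x) :=
      ((X.presheaf.germ U x hxU).hom.comp (f.appLE V U hUV).hom).toAlgebra
    haveI t1 : IsScalarTower Γ(Y, V) Γ(X, U) (X.presheaf.stalk x) :=
      IsScalarTower.of_algebraMap_eq' rfl
    haveI t2 : IsScalarTower Γ(Y, V) (Y.presheaf.stalk (f x)) (X.presheaf.stalk x) := by
      refine IsScalarTower.of_algebraMap_eq fun r => ?_
      have h1 := congrArg CommRingCat.Hom.hom (Groth.Agent.H8.germ_stalkMap_eq f hUV x hxU)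
      exact (congrFun (congrArg DFunLike.coe h1) r).symm
    haveI l1 := hV.isLocalization_stalk ⟨f x, hxV⟩
    haveI l2 := hU.isLocalization_stalk ⟨x, hxU⟩
    haveI w0 : Algebra.WeaklyEtale Γ(Y, V) Γ(X, U) := hAB
    haveI w1 : Algebra.WeaklyEtale Γ(Y, V) (Y.presheaf.stalk (f x)) :=
      Groth.Agent.H8.weaklyEtale_of_isLocalization
        (hV.primeIdealOf ⟨f x, hxV⟩).asIdeal.primeCompl _
    haveI w2 : Algebra.WeaklyEtale Γ(X, U) (X.presheaf.stalk x) :=
      Groth.Agent.H8.weaklyEtale_of_isLocalization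
        (hU.primeIdealOf ⟨x, hxU⟩).asIdeal.primeCompl _
    haveI w3 : Algebra.WeaklyEtale Γ(Y, V) (X.presheaf.stalk x) :=
      Algebra.WeaklyEtale.trans Γ(Y, V) Γ(X, U) (X.presheaf.stalk x)
    have w4 : Algebra.WeaklyEtale (Y.presheaf.stalk (f x)) (X.presheaf.stalk x) :=
      Groth.Agent.S7127.result Γ(Y, V) (Y.presheaf.stalk (f x)) (X.presheaf.stalk x)
    exact ⟨w4.flat, Algebra.WeaklyEtale.flat_lmul' _ _⟩
  · intro h
    haveI hfl : Flat f := AlgebraicGeometry.Flat.of_stalkMap f (fun x => (h x).1)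
    rw [Groth.Agent.S7178.result f]
    intro U V hU hV hUV
    letI aAB : Algebra Γ(Y, V) Γ(X, U) := (f.appLE V U hUV).hom.toAlgebra
    haveI : Module.Flat Γ(Y, V) Γ(X, U) := f.flat_appLE hV hU hUV
    refine ⟨inferInstance, ?_⟩
    apply Groth.Agent.H8.flat_lmul'_of_forall_maximal
    intro q hq
    obtain ⟨y, hy⟩ : ∃ y : PrimeSpectrum Γ(X, U), y.asIdeal = q := ⟨⟨q, hq.isPrime⟩, rfl⟩
    subst hy
    have hxU : hU.fromSpec y ∈ U := by
      rw [← SetLike.mem_coe, ← hU.range_fromSpec]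
      exact ⟨y, rfl⟩
    have hprime : hU.primeIdealOf ⟨hU.fromSpec y, hxU⟩ = y := by
      apply hU.fromSpec.isOpenEmbedding.injective
      rw [hU.fromSpec_primeIdealOf]
    have hxV : f (hU.fromSpec y) ∈ V := hUV hxU
    letI aAA' : Algebra Γ(Y, V) (Y.presheaf.stalk (f (hU.fromSpec y))) :=
      Y.presheaf.algebra_section_stalk ⟨f (hU.fromSpec y), hxV⟩
    letI aBB' : Algebra Γ(X, U) (X.presheaf.stalk (hU.fromSpec y)) :=
      X.presheaf.algebra_section_stalk ⟨hU.fromSpec y, hxU⟩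
    letI aA'B' : Algebra (Y.presheaf.stalk (f (hU.fromSpec y))) (X.presheaf.stalk (hU.fromSpec y)) :=
      (f.stalkMap (hU.fromSpec y)).hom.toAlgebra
    letI aAB' : Algebra Γ(Y, V) (X.presheaf.stalk (hU.fromSpec y)) :=
      ((X.presheaf.germ U (hU.fromSpec y) hxU).hom.comp (f.appLE V U hUV).hom).toAlgebra
    haveI t1 : IsScalarTower Γ(Y, V) Γ(X, U) (X.presheaf.stalk (hU.fromSpec y)) :=
      IsScalarTower.of_algebraMap_eq' rfl
    haveI t2 : IsScalarTower Γ(Y, V) (Y.presheaf.stalk (f (hU.fromSpec y)))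
        (X.presheaf.stalk (hU.fromSpec y)) := by
      refine IsScalarTower.of_algebraMap_eq fun r => ?_
      have h1 := congrArg CommRingCat.Hom.hom
        (Groth.Agent.H8.germ_stalkMap_eq f hUV (hU.fromSpec y) hxU)
      exact (congrFun (congrArg DFunLike.coe h1) r).symm
    haveI l1 := hV.isLocalization_stalk ⟨f (hU.fromSpec y), hxV⟩
    have l2 := hU.isLocalization_stalk ⟨hU.fromSpec y, hxU⟩
    rw [hprime] at l2
    haveI w1 : Algebra.WeaklyEtale Γ(Y, V) (Y.presheaf.stalk (f (hU.fromSpec y))) :=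
      Groth.Agent.H8.weaklyEtale_of_isLocalization
        (hV.primeIdealOf ⟨f (hU.fromSpec y), hxV⟩).asIdeal.primeCompl _
    haveI w4 : Algebra.WeaklyEtale (Y.presheaf.stalk (f (hU.fromSpec y)))
        (X.presheaf.stalk (hU.fromSpec y)) := ⟨(h _).1, (h _).2⟩
    haveI w3 : Algebra.WeaklyEtale Γ(Y, V) (X.presheaf.stalk (hU.fromSpec y)) :=
      Algebra.WeaklyEtale.trans Γ(Y, V) (Y.presheaf.stalk (f (hU.fromSpec y)))
        (X.presheaf.stalk (hU.fromSpec y))
    exact ⟨X.presheaf.stalk (hU.fromSpec y), inferInstance, aBB', aAB', t1, l2,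
      Algebra.WeaklyEtale.flat_lmul' _ _⟩

end Groth.Agent.S1412
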