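import Groth.Statements.S14128
import Mathlib
import Groth.Agent.H23.RegularSeq
import Groth.Agent.S5789

set_option autoImplicit false
universe u
open CategoryTheory CategoryTheory.Limits
open LocAlg

namespace Groth.Agent.S14128

open Abelian IsLocalRing RingTheory.Sequence TensorProduct
open Groth.Agent.S5789 (ext_eq_zero_of_isZero ext_eq_zero_of_iso)

/-- A module of finite length over a local ring is supported at the closed point. -/
theorem support_subset_of_isFiniteLength {R : Type u} [CommRing R] [IsLocalRing R]
    {N : Type*} [AddCommGroup N] [Module R N] (h : IsFiniteLength R N) :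
    Module.support R N ⊆ PrimeSpectrum.zeroLocus (maximalIdeal R : Set R) := by
  induction h with
  | of_subsingleton => rw [Module.support_eq_empty]; exact Set.empty_subset _
  | @of_simple_quotient M _ _ S _ _ ih =>
    rw [Module.support_of_exact (LinearMap.exact_subtype_mkQ S) (Submodule.injective_subtype S)
      (Submodule.mkQ_surjective S)]
    refine Set.union_subset ih ?_
    intro p hp
    have h1 := Module.annihilator_le_of_mem_support hp
    have h2 : Module.annihilator R (M ⧸ S) = maximalIdeal R :=
      IsLocalRing.eq_maximalIdeal IsSimpleModule.annihilator_isMaximal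
    rw [h2] at h1
    exact (PrimeSpectrum.mem_zeroLocus _ _).mpr (fun x hx => h1 hx)

/-- Over a regular local ring of dimension `g`, `Ext^j(H, F) = 0` for `j < g`, `H` of finite length
and `F` finitely generated free (Rees). -/
theorem ext_free_vanish (R : Type u) [CommRing R] [IsRegularLocalRing R] (g : ℕ)
    (hg : ringKrullDim R = g) (H F : ModuleCat.{u} R) (hH : IsFiniteLength R H)
    [Module.Free R F] [Module.Finite R F] (j : ℕ) (hj : j < g) (z : Ext H F j) : z = 0 := by
  classical
  by_cases hF : Subsingleton F
  · exact ext_eq_zero_of_isZero (ModuleCat.isZero_of_subsingleton F) z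
  · haveI : Nontrivial F := not_subsingleton_iff_nontrivial.mp hF
    have hfg : (maximalIdeal R).FG := (isNoetherianRing_iff_ideal_fg R).mp inferInstance _
    obtain ⟨s, hcard, hspan⟩ := Submodule.FG.exists_span_finset_card_eq_spanFinrank hfg
    have hsd : s.card = g := by
      have h1 : ((maximalIdeal R).spanFinrank : WithBot ℕ∞) = (g : WithBot ℕ∞) := by
        rw [← hg]; exact IsRegularLocalRing.spanFinrank_maximalIdeal
      have h2 : (maximalIdeal R).spanFinrank = g := by exact_mod_cast h1
      rw [hcard, h2]
    let e : Fin g ≃ s := (finCongr hsd.symm).trans s.equivFin.symm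
    let x : Fin g → R := fun i => (e i : R)
    have hrange : Set.range x = (s : Set R) := by
      ext r
      constructor
      · rintro ⟨i, rfl⟩; exact (e i).2
      · intro hr
        exact ⟨e.symm ⟨r, hr⟩, by simp [x]⟩
    have hx : Ideal.span (Set.range x) = maximalIdeal R := by
      rw [hrange]; exact hspan
    have hW := Groth.Agent.H23.weaklyRegular_generators g R hg x hx
    have hW2 : IsWeaklyRegular (F ⊗[R] R) (List.ofFn x) := hW.isWeaklyRegular_lTensor (M₂ := F)
    have hW3 : IsWeaklyRegular F (List.ofFn x) :=
      ((TensorProduct.rid R F).isWeaklyRegular_congr _).mp hW2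
    have hmem : ∀ r ∈ List.ofFn x, r ∈ maximalIdeal R := by
      rw [List.forall_mem_ofFn_iff]
      intro i
      rw [← hx]
      exact Ideal.subset_span ⟨i, rfl⟩
    have hreg : IsRegular F (List.ofFn x) :=
      (IsLocalRing.isRegular_iff_isWeaklyRegular_of_subset_maximalIdeal hmem).mpr hW3
    have hI : Ideal.ofList (List.ofFn x) = maximalIdeal R := by
      have h0 : {r | r ∈ List.ofFn x} = Set.range x := by
        ext z; exact List.mem_ofFn
      show Ideal.span {r | r ∈ List.ofFn x} = _
      rw [h0, hx]
    have hlt : maximalIdeal R • (⊤ : Submodule R F) < ⊤ :=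
      lt_of_le_of_ne le_top (by rw [← hI]; exact hreg.top_ne_smul.symm)
    haveI : IsNoetherian R H := (isFiniteLength_iff_isNoetherian_isArtinian.mp hH).1
    haveI : Module.Finite R H := inferInstance
    have hsub := ModuleCat.subsingleton_ext_of_exists_isRegular (maximalIdeal R) H
      (support_subset_of_isFiniteLength hH) F hlt (List.ofFn x) hmem hreg j
      (by rw [List.length_ofFn]; exact hj)
    exact Subsingleton.elim _ _

variable {R : Type u} [CommRing R]

/-- Dimension shifting along `0 → ker f → X₁ → im f → 0`. -/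
theorem image_step (S : ShortComplex (ModuleCat.{u} R)) (H : ModuleCat.{u} R) (j : ℕ)
    (hX : ∀ z : Ext H S.X₁ j, z = 0)
    (hK : ∀ z : Ext H (ModuleCat.of R (LinearMap.ker S.f.hom)) (j + 1), z = 0) :
    ∀ z : Ext H (ModuleCat.of R (LinearMap.range S.moduleCatToCycles)) j, z = 0 := by
  intro z
  have hk : LinearMap.ker S.moduleCatToCycles.rangeRestrict = LinearMap.ker S.f.hom := by
    rw [LinearMap.ker_rangeRestrict]; exact LinearMap.ker_codRestrict _ _ _
  have hC := LinearMap.shortExact_shortComplexKer
    (LinearMap.surjective_rangeRestrict S.moduleCatToCycles)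
  have hK' : ∀ z : Ext H (S.moduleCatToCycles.rangeRestrict.shortComplexKer).X₁ (j + 1),
      z = 0 := by
    have e : LinearMap.ker S.f.hom ≃ₗ[R] LinearMap.ker S.moduleCatToCycles.rangeRestrict :=
      LinearEquiv.ofEq _ _ hk.symm
    exact ext_eq_zero_of_iso e.toModuleIso hK
  obtain ⟨x₂, hx₂⟩ := Ext.covariant_sequence_exact₃ H hC z (n₁ := j + 1) rfl (hK' _)
  rw [← hx₂, hX x₂, Ext.zero_comp]

/-- The final step: if `Hom(H, X₂) = 0` and `Ext¹(H, B) = 0` then `H = Z/B` vanishes. -/
theorem final_step (S : ShortComplex (ModuleCat.{u} R))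
    (h0 : ∀ φ : (LinearMap.ker S.g.hom ⧸ LinearMap.range S.moduleCatToCycles) →ₗ[R] S.X₂, φ = 0)
    (h1 : ∀ z : Ext (ModuleCat.of R (LinearMap.ker S.g.hom ⧸ LinearMap.range S.moduleCatToCycles))
       (ModuleCat.of R (LinearMap.range S.moduleCatToCycles)) 1, z = 0) :
    Subsingleton (LinearMap.ker S.g.hom ⧸ LinearMap.range S.moduleCatToCycles) := by
  have hC := LinearMap.shortExact_shortComplexKer
    (Submodule.mkQ_surjective (LinearMap.range S.moduleCatToCycles))
  have h1' : ∀ z : Ext (ModuleCat.of R (LinearMap.ker S.g.hom ⧸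
      LinearMap.range S.moduleCatToCycles))
      ((LinearMap.range S.moduleCatToCycles).mkQ.shortComplexKer).X₁ 1, z = 0 := by
    have e : LinearMap.range S.moduleCatToCycles ≃ₗ[R]
        LinearMap.ker (LinearMap.range S.moduleCatToCycles).mkQ :=
      LinearEquiv.ofEq _ _ (Submodule.ker_mkQ _).symm
    exact ext_eq_zero_of_iso e.toModuleIso h1
  obtain ⟨x₂, hx₂⟩ := Ext.covariant_sequence_exact₃
    (ModuleCat.of R (LinearMap.ker S.g.hom ⧸ LinearMap.range S.moduleCatToCycles)) hC
    (Ext.mk₀ (𝟙 _)) (n₁ := 1) rfl (h1' _)
  obtain ⟨φ, rfl⟩ := (Ext.mk₀_bijective _ _).2 x₂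
  rw [Ext.mk₀_comp_mk₀] at hx₂
  have hφ := (Ext.mk₀_bijective _ _).1 hx₂
  have hz : (LinearMap.ker S.g.hom).subtype ∘ₗ φ.hom = 0 := h0 _
  have hφ0 : φ = 0 := by
    apply ModuleCat.hom_ext
    apply LinearMap.ext
    intro x
    apply Subtype.ext
    have := LinearMap.congr_fun hz x
    simpa using this
  rw [hφ0, zero_comp] at hφ
  have hZ : IsZero (ModuleCat.of R (LinearMap.ker S.g.hom ⧸
      LinearMap.range S.moduleCatToCycles)) := (IsZero.iff_id_eq_zero _).mpr hφ.symm
  exact ModuleCat.subsingleton_of_isZero hZ

/-- The short complex of `M` at `l` with explicit neighbours. -/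
noncomputable abbrev Sc (M : CochainComplex (ModuleCat.{u} R) ℕ) (l : ℕ) :
    ShortComplex (ModuleCat.{u} R) :=
  M.sc' (l - 1) l (l + 1)

theorem prev_eq (l : ℕ) : (ComplexShape.up ℕ).prev l = l - 1 := by
  cases l with
  | zero => exact CochainComplex.prev_nat_zero
  | succ l => exact CochainComplex.prev_nat_succ l

/-- The concrete model of the homology. -/
noncomputable abbrev Hm (M : CochainComplex (ModuleCat.{u} R) ℕ) (l : ℕ) : ModuleCat.{u} R :=
  ModuleCat.of R (LinearMap.ker (Sc M l).g.hom ⧸ LinearMap.range (Sc M l).moduleCatToCycles)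

noncomputable def homIso (M : CochainComplex (ModuleCat.{u} R) ℕ) (l : ℕ) :
    M.homology l ≅ Hm M l :=
  M.homologyIsoSc' (l - 1) l (l + 1) (prev_eq l) (CochainComplex.next ℕ l) ≪≫
    (Sc M l).moduleCatHomologyIso

theorem range_eq_top_of_isZero (M : CochainComplex (ModuleCat.{u} R) ℕ) (l : ℕ)
    (h : IsZero (M.homology l)) :
    LinearMap.range (Sc M l).moduleCatToCycles = ⊤ := by
  have h2 : IsZero (Hm M l) := h.of_iso (homIso M l).symm
  have h3 : Subsingleton (Hm M l) := ModuleCat.subsingleton_of_isZero h2
  exact Submodule.Quotient.subsingleton_iff.mp h3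

theorem main (R : Type u) [CommRing R] [IsRegularLocalRing R] (g : ℕ) (hg : ringKrullDim R = g)
    (M : CochainComplex (ModuleCat.{u} R) ℕ)
    (hfree : ∀ i, Module.Free R (M.X i) ∧ Module.Finite R (M.X i))
    (hfl : ∀ i, IsFiniteLength R (M.homology i)) :
    ∀ i, i < g → IsZero (M.homology i) := by
  intro i
  induction i using Nat.strong_induction_on with
  | _ i ih =>
    intro hi
    have hH : IsFiniteLength R (Hm M i) := (homIso M i).toLinearEquiv.isFiniteLength (hfl i)
    have hvan : ∀ (l j : ℕ), j < g → ∀ z : Ext (Hm M i) (M.X l) j, z = 0 := fun l j hj z => by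
      haveI := (hfree l).1
      haveI := (hfree l).2
      exact ext_free_vanish R g hg (Hm M i) (M.X l) hH j hj z
    have hQ : ∀ l, l ≤ i → ∀ j, j + l ≤ g → ∀ z : Ext (Hm M i)
        (ModuleCat.of R (LinearMap.range (Sc M l).moduleCatToCycles)) j, z = 0 := by
      intro l
      induction l with
      | zero =>
        intro _ j _ z
        have hf0 : (Sc M 0).f = 0 := M.shape _ _ (by simp)
        have hT0 : (Sc M 0).moduleCatToCycles = 0 := by
          apply LinearMap.ext
          intro y
          apply Subtype.ext
          show (Sc M 0).f.hom y = 0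
          rw [hf0]; rfl
        haveI : Subsingleton (LinearMap.range (Sc M 0).moduleCatToCycles) := by
          rw [Submodule.subsingleton_iff_eq_bot, LinearMap.range_eq_bot]
          exact hT0
        exact ext_eq_zero_of_isZero (ModuleCat.isZero_of_subsingleton _) z
      | succ l ihl =>
        intro hl j hj z
        have hex : LinearMap.range (Sc M l).moduleCatToCycles = ⊤ :=
          range_eq_top_of_isZero M l (ih l (by omega) (by omega))
        refine image_step (Sc M (l + 1)) (Hm M i) j ?_ ?_ z
        · exact hvan l j (by omega)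
        · have e : LinearMap.range (Sc M l).moduleCatToCycles ≃ₗ[R]
              LinearMap.ker (Sc M l).g.hom := LinearEquiv.ofTop _ hex
          exact ext_eq_zero_of_iso e.toModuleIso (ihl (by omega) (j + 1) (by omega))
    have hsub : Subsingleton (LinearMap.ker (Sc M i).g.hom ⧸
        LinearMap.range (Sc M i).moduleCatToCycles) := by
      apply final_step (Sc M i)
      · intro φ
        have h1 := hvan i 0 (by omega) (Ext.mk₀ (ModuleCat.ofHom φ))
        have h2 : ModuleCat.ofHom φ = 0 :=
          (Ext.mk₀_bijective _ _).1 (h1.trans (Ext.mk₀_zero _ _).symm)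
        have h3 := congrArg ModuleCat.Hom.hom h2
        simpa using h3
      · exact hQ i le_rfl 1 (by omega)
    have : Subsingleton (Hm M i) := hsub
    exact (ModuleCat.isZero_of_subsingleton (Hm M i)).of_iso (homIso M i)

/-- Let R be a regular local ring of Krull dimension g and M = (M^0 → M^1 → ⋯ → M^g) a perfect complex
over R, here a cochain complex of finitely generated free R-modules indexed by ℕ with M^i = 0 for i
> g, such that every cohomology module H^i(M) has finite length. Then H^i(M) = 0 for all i < g, so
that M has cohomology at most in degree g. -/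
theorem result (R : Type u) [CommRing R]
    [IsRegularLocalRing R] (g : ℕ) (hg : ringKrullDim R = g) (M : CochainComplex (ModuleCat.{u} R) ℕ)
    (hbd : ∀ i, g < i → IsZero (M.X i)) (hfree : ∀ i, Module.Free R (M.X i) ∧ Module.Finite R (M.X i))
    (hfl : ∀ i, IsFiniteLength R (M.homology i)) (i : ℕ) (hi : i < g) :
    IsZero (M.homology i) := by
  exact main R g hg M hfree hfl i hi

end Groth.Agent.S14128
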