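import Groth.Statements.S1413
import Mathlib.RingTheory.Flat.FaithfullyFlat.Algebra
import Mathlib.AlgebraicGeometry.Morphisms.Flat

set_option autoImplicit false
universe u
open FlatMor

namespace Groth.Agent.S1413

/-- Flatness descends along a faithfully flat extension of the target ring. -/
theorem flat_of_faithfullyFlat_of_flat (A B C : Type u) [CommRing A] [CommRing B] [CommRing C]
    [Algebra A B] [Algebra B C] [Algebra A C] [IsScalarTower A B C]
    [Module.FaithfullyFlat B C] [Module.Flat A C] : Module.Flat A B := by
  rw [Module.Flat.iff_lTensor_preserves_injective_linearMap]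
  intro N N' _ _ _ _ f hf
  have h1 : Function.Injective (f.baseChange C) :=
    Module.Flat.lTensor_preserves_injective_linearMap f hf
  have h2 : Function.Injective ((f.baseChange B).baseChange C) := by
    rw [LinearMap.baseChange_baseChange]
    simp only [LinearMap.coe_comp, LinearEquiv.coe_coe, EquivLike.injective_comp,
      EquivLike.comp_injective]
    exact h1
  exact (Module.FaithfullyFlat.lTensor_injective_iff_injective B C (f.baseChange B)).mp h2

open AlgebraicGeometry CategoryTheory Limits in
theorem ringHom_flat_of_comp {A B C : Type u} [CommRing A] [CommRing B] [CommRing C]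
    [IsLocalRing B] [IsLocalRing C]
    (φ : A →+* B) (ψ : B →+* C) [IsLocalHom ψ] (hψ : ψ.Flat) (hc : (ψ.comp φ).Flat) : φ.Flat := by
  algebraize [φ, ψ, ψ.comp φ]
  have : IsLocalHom (algebraMap B C) := ‹IsLocalHom ψ›
  have : Module.FaithfullyFlat B C := Module.FaithfullyFlat.of_flat_of_isLocalHom
  exact flat_of_faithfullyFlat_of_flat A B C

open AlgebraicGeometry CategoryTheory Limits in
/-- If `f` is flat and surjective and `f ≫ h` is flat, then `h` is flat. -/
theorem flat_of_flat_comp_of_surjective {X Y W : Scheme.{u}} (f : X ⟶ Y) (h : Y ⟶ W)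
    [Flat f] [Surjective f] [Flat (f ≫ h)] : Flat h := by
  rw [Flat.iff_flat_stalkMap]
  intro y
  obtain ⟨x, rfl⟩ := f.surjective y
  have h1 : (f.stalkMap x).hom.Flat := Flat.stalkMap f x
  have h2 : ((f ≫ h).stalkMap x).hom.Flat := Flat.stalkMap (f ≫ h) x
  rw [Scheme.Hom.stalkMap_comp] at h2
  exact ringHom_flat_of_comp (h.stalkMap (f x)).hom (f.stalkMap x).hom h1 h2

open AlgebraicGeometry CategoryTheory Limits in
/-- Let X → Y → Z be morphisms with X → Y flat and surjective and with the diagonal of X over Z flat.
Then the diagonal of Y over Z is flat. -/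
theorem result {X Y Z : Scheme.{u}} (f : X ⟶ Y) (g : Y ⟶ Z) [Flat f] [Surjective f] [Flat (pullback.diagonal (f ≫ g))] :
    Flat (pullback.diagonal g) := by
  have hmap : Flat (pullback.map (f ≫ g) (f ≫ g) g g f f (𝟙 Z) (by simp) (by simp)) :=
    MorphismProperty.pullbackMap (P := @Flat) ‹Flat f› ‹Flat f› rfl rfl
  have : Flat (f ≫ pullback.diagonal g) := by
    rw [pullback.comp_diagonal]
    infer_instance
  exact flat_of_flat_comp_of_surjective f (pullback.diagonal g)

end Groth.Agent.S1413
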