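import Groth.Statements.S1414

set_option autoImplicit false
universe u
open FlatMor

namespace Groth.Agent.S1414

open AlgebraicGeometry CategoryTheory Limits in
/-- Let f : X → Y and g : Y → Z with f ≫ g smooth and g étale. Then f is smooth. -/
theorem result {X Y Z : Scheme.{u}} (f : X ⟶ Y) (g : Y ⟶ Z) [Smooth (f ≫ g)] [Etale g] : Smooth f := by
  have hm : MorphismProperty.IsMultiplicative @Smooth :=
    { id_mem := fun _ => inferInstance }
  have h : MorphismProperty.HasOfPostcompProperty @Smooth @Etale := by
    rw [MorphismProperty.hasOfPostcompProperty_iff_le_diagonal]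
    intro X Y f hf
    have : Etale (pullback.diagonal f) := inferInstance
    exact inferInstanceAs <| Smooth (pullback.diagonal f)
  exact MorphismProperty.of_postcomp _ (W' := @Etale) f g ‹_› ‹_›

end Groth.Agent.S1414
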