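import Groth.Statements.S14175
import Mathlib

set_option autoImplicit false
universe u v w
open GalCoh

namespace Groth.Agent.S14175

theorem result
    {k : Type u} {G : Type v} {V : Type w} [CommRing k] [Group G] [Finite G]
    [AddCommGroup V] [Module k V] (ρ : Representation k G V)
    (t : G) (ht : ∀ g : G, g ∈ Subgroup.zpowers t)
    (m : ℕ) (hm : m ∣ Nat.card G) (htors : ∀ v : V, m • v = 0)
    (htriv : ∀ g : G, g ^ m = 1 → ∀ v : V, ρ g v = v) :
    (∀ f : G → V, (∀ g h : G, f (g * h) = ρ g (f h) + f g) →
        (Representation.Coinvariants.mk ρ (f t) = 0 ↔ ∃ x : V, ∀ g : G, f g = ρ g x - x)) ∧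
    (∀ v : V, ∃ f : G → V, (∀ g h : G, f (g * h) = ρ g (f h) + f g) ∧
        Representation.Coinvariants.mk ρ (f t) = Representation.Coinvariants.mk ρ v) := by
  have hpow : ∀ g : G, ∃ n : ℕ, t ^ n = g := by
    intro g
    have := ht g
    rw [← mem_powers_iff_mem_zpowers] at this
    exact this
  set T : Module.End k V := ρ t with hT
  let S : ℕ → Module.End k V := fun n => ∑ i ∈ Finset.range n, T ^ i
  have hS_succ : ∀ a, S (a + 1) = S a + T ^ a := fun a => Finset.sum_range_succ _ a
  have hS_add : ∀ a b, S (a + b) = S a + T ^ a * S b := by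
    intro a b
    induction b with
    | zero => simp [S]
    | succ b ih => rw [← add_assoc, hS_succ, ih, hS_succ, pow_add, mul_add, add_assoc]
  have hρ : ∀ n : ℕ, ρ (t ^ n) = T ^ n := fun n => map_pow ρ t n
  have hgeom : ∀ n, T ^ n - 1 = (T - 1) * S n := fun n => (mul_geom_sum T n).symm
  have hn : orderOf t = Nat.card G := orderOf_eq_card_of_forall_mem_zpowers ht
  obtain ⟨d, hd⟩ := hm
  have hTd : T ^ d = 1 := by
    ext v
    rw [← hρ]
    exact htriv (t ^ d) (by rw [← pow_mul, mul_comm, ← hd, ← hn, pow_orderOf_eq_one]) v
  have hSmd : ∀ j : ℕ, S (j * d) = j • S d := by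
    intro j
    induction j with
    | zero => simp [S]
    | succ j ih => rw [add_mul, one_mul, hS_add, ih, pow_mul', hTd, one_pow, one_mul, add_smul, one_smul]
  have hN : ∀ v, S (Nat.card G) v = 0 := by
    intro v
    rw [hd, hSmd]
    simp [htors]
  have hSn : ∀ q : ℕ, ∀ v, S (Nat.card G * q) v = 0 := by
    intro q
    induction q with
    | zero => intro v; simp [S]
    | succ q ih =>
      intro v
      rw [mul_add, mul_one, hS_add, LinearMap.add_apply, ih, zero_add, Module.End.mul_apply, hN, map_zero]
  -- well-definedness
  have hwd : ∀ a b : ℕ, t ^ a = t ^ b → ∀ v, S a v = S b v := by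
    have aux : ∀ a b : ℕ, a ≤ b → t ^ a = t ^ b → ∀ v, S a v = S b v := by
      intro a b hab h v
      obtain ⟨c, rfl⟩ := Nat.exists_eq_add_of_le hab
      have hc : t ^ c = 1 := by
        rw [pow_add] at h
        exact (mul_eq_left).mp h.symm
      rw [← orderOf_dvd_iff_pow_eq_one, hn] at hc
      obtain ⟨q, rfl⟩ := hc
      rw [hS_add, LinearMap.add_apply, Module.End.mul_apply, hSn, map_zero, add_zero]
    intro a b h v
    rcases le_total a b with hab | hab
    · exact aux a b hab h v
    · exact (aux b a hab h.symm v).symm
  -- crossed homs are determined by the value at t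
  have hdet : ∀ f : G → V, (∀ g h : G, f (g * h) = ρ g (f h) + f g) →
      ∀ n : ℕ, f (t ^ n) = S n (f t) := by
    intro f hf n
    induction n with
    | zero =>
      have := hf 1 1
      simp only [mul_one, map_one, Module.End.one_apply] at this
      simp [S]
      have h2 : f 1 + 0 = f 1 + f 1 := by rw [add_zero]; exact this
      exact (add_left_cancel h2).symm
    | succ n ih =>
      rw [pow_succ', hf, ih]
      have : S (n + 1) = 1 + T * S n := by
        have := hS_add 1 n
        rw [add_comm 1 n] at this
        simpa [S] using this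
      rw [this, LinearMap.add_apply, Module.End.one_apply, Module.End.mul_apply, add_comm]
  constructor
  · intro f hf
    rw [Representation.Coinvariants.mk_eq_zero]
    constructor
    · intro hmem
      -- ker ρ ≤ range (T - 1)
      have hker : Representation.Coinvariants.ker ρ ≤ LinearMap.range (T - 1) := by
        unfold Representation.Coinvariants.ker
        rw [Submodule.span_le]
        rintro _ ⟨⟨g, v⟩, rfl⟩
        obtain ⟨n, rfl⟩ := hpow g
        refine ⟨S n v, ?_⟩
        have := congrArg (fun φ : Module.End k V => φ v) (hgeom n)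
        simp only [LinearMap.sub_apply, Module.End.one_apply, Module.End.mul_apply] at this
        simp only [hρ]
        exact this.symm
      obtain ⟨x, hx⟩ := hker hmem
      refine ⟨x, fun g => ?_⟩
      obtain ⟨n, rfl⟩ := hpow g
      rw [hdet f hf n, ← hx, hρ]
      have := congrArg (fun φ : Module.End k V => φ x) (hgeom n)
      simp only [LinearMap.sub_apply, Module.End.one_apply, Module.End.mul_apply] at this
      rw [this]
      have hcomm : S n * (T - 1) = (T - 1) * S n := by
        rw [geom_sum_mul, mul_geom_sum]
      have := congrArg (fun φ : Module.End k V => φ x) hcomm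
      simp only [Module.End.mul_apply] at this
      exact this
    · rintro ⟨x, hx⟩
      rw [hx t]
      exact Representation.Coinvariants.sub_mem_ker t x
  · intro v
    let kk : G → ℕ := fun g => Classical.choose (hpow g)
    have hkk : ∀ g, t ^ kk g = g := fun g => Classical.choose_spec (hpow g)
    refine ⟨fun g => S (kk g) v, ?_, ?_⟩
    · intro g h
      have h1 : t ^ kk (g * h) = t ^ (kk g + kk h) := by rw [hkk, pow_add, hkk, hkk]
      show S (kk (g * h)) v = ρ g (S (kk h) v) + S (kk g) v
      rw [hwd _ _ h1 v, hS_add, LinearMap.add_apply, Module.End.mul_apply, ← hρ, hkk, add_comm]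
    · have h1 : t ^ kk t = t ^ 1 := by rw [hkk, pow_one]
      show Representation.Coinvariants.mk ρ (S (kk t) v) = _
      rw [hwd _ _ h1 v]
      simp [S]

end Groth.Agent.S14175
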