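import Groth.Statements.S14176
import Mathlib.GroupTheory.FiniteAbelian.Duality
import Mathlib.GroupTheory.FiniteAbelian.Basic
import Mathlib.Topology.Algebra.Group.ClosedSubgroup
import Mathlib.Topology.Algebra.OpenSubgroup
import Mathlib.GroupTheory.Abelianization.Defs
import Mathlib.GroupTheory.Index
import Mathlib.GroupTheory.Torsion
import Mathlib.GroupTheory.SpecificGroups.Cyclic

set_option autoImplicit false
universe u
open Pi1

namespace Groth.Agent.S14176

open W4c1etcurveeff2
open scoped commutatorElement

theorem zpow_n_eq_one (n : ℕ) [NeZero n] (z : Multiplicative (ZMod n)) : z ^ n = 1 := by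
  have h := pow_card_eq_one (x := z)
  rwa [Fintype.card_multiplicative, ZMod.card] at h

theorem hasEnough (n : ℕ) [NeZero n] : HasEnoughRootsOfUnity (Multiplicative (ZMod n)) n where
  prim := ⟨Multiplicative.ofAdd (1 : ZMod n), by
    have h := IsPrimitiveRoot.orderOf (Multiplicative.ofAdd (1 : ZMod n))
    rwa [orderOf_ofAdd_eq_addOrderOf, ZMod.addOrderOf_one] at h⟩
  cyc := by
    have : IsCyclic (Multiplicative (ZMod n))ˣ :=
      isCyclic_of_surjective (toUnits (G := Multiplicative (ZMod n))) toUnits.surjective
    infer_instance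

section Dual

variable (n : ℕ) [NeZero n] (Q : Type*) [CommGroup Q] [Finite Q] (hexp : ∀ q : Q, q ^ n = 1)

include hexp

theorem hasEnoughQ : HasEnoughRootsOfUnity (Multiplicative (ZMod n)) (Monoid.exponent Q) := by
  have := hasEnough n
  exact HasEnoughRootsOfUnity.of_dvd _ (Monoid.exponent_dvd_of_forall_pow_eq_one hexp)

theorem exists_char_ne_one {q : Q} (hq : q ≠ 1) : ∃ ψ : Q →* Multiplicative (ZMod n), ψ q ≠ 1 := by
  have := hasEnoughQ n Q hexp
  obtain ⟨φ, hφ⟩ := CommGroup.exists_apply_ne_one_of_hasEnoughRootsOfUnity Q
    (Multiplicative (ZMod n)) hq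
  refine ⟨(toUnits (G := Multiplicative (ZMod n))).symm.toMonoidHom.comp φ, fun h => hφ ?_⟩
  have h1 : (toUnits (G := Multiplicative (ZMod n))).symm (φ q) = 1 := h
  exact (MulEquiv.map_eq_one_iff _).1 h1

theorem card_dual : Nat.card (Q →* Multiplicative (ZMod n)) = Nat.card Q := by
  have := hasEnoughQ n Q hexp
  rw [← CommGroup.card_monoidHom_of_hasEnoughRootsOfUnity Q (Multiplicative (ZMod n))]
  exact Nat.card_congr
    ((toUnits (G := Multiplicative (ZMod n))).symm.monoidHomCongrRightEquiv (M := Q)).symm

omit hexp in
theorem finite_hom (n : ℕ) [NeZero n] (Q : Type*) [CommGroup Q] [Finite Q] :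
    Finite (Q →* Multiplicative (ZMod n)) :=
  Finite.of_injective (fun f => (f : Q → Multiplicative (ZMod n))) DFunLike.coe_injective

theorem dual_pow (ψ : Q →* Multiplicative (ZMod n)) : ψ ^ n = 1 := by
  ext q
  rw [MonoidHom.pow_apply, MonoidHom.one_apply, zpow_n_eq_one]

theorem card_ddual :
    Nat.card ((Q →* Multiplicative (ZMod n)) →* Multiplicative (ZMod n)) = Nat.card Q := by
  have := finite_hom n Q
  rw [card_dual n (Q →* Multiplicative (ZMod n)) (dual_pow n Q hexp), card_dual n Q hexp]

theorem ddual_surj (F : (Q →* Multiplicative (ZMod n)) →* Multiplicative (ZMod n)) :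
    ∃ q : Q, ∀ ψ : Q →* Multiplicative (ZMod n), F ψ = ψ q := by
  let ev : Q →* ((Q →* Multiplicative (ZMod n)) →* Multiplicative (ZMod n)) :=
    { toFun := fun q => { toFun := fun ψ => ψ q, map_one' := rfl, map_mul' := fun _ _ => rfl }
      map_one' := by ext ψ; exact map_one ψ
      map_mul' := fun a b => by ext ψ; exact map_mul ψ a b }
  have hinj : Function.Injective ev := by
    rw [injective_iff_map_eq_one]
    intro q hq
    by_contra hne
    obtain ⟨ψ, hψ⟩ := exists_char_ne_one n Q hexp hne
    exact hψ (congrArg (fun G => G ψ) hq)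
  have := finite_hom n Q
  have := finite_hom n (Q →* Multiplicative (ZMod n))
  have hbij : Function.Bijective ev :=
    hinj.bijective_of_nat_card_le (le_of_eq (card_ddual n Q hexp))
  obtain ⟨q, hq⟩ := hbij.2 F
  exact ⟨q, fun ψ => by rw [← hq]; rfl⟩

end Dual


open W4c1etcurveeff2 in
/-- Let G be a topological group in which some finite subset generates a dense subgroup, let n ≥ 1, and
let S be the closure of the subgroup generated by all n-th powers and all commutators. Write D for
the group of continuous homomorphisms from G to the discrete cyclic group ℤ/n, that is,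
homomorphisms with open kernel (the first cohomology of G with coefficients in the trivial module
ℤ/n), and D^∨ for its ℤ/n-dual, the group of homomorphisms D → ℤ/n. Then: S is carried onto itself
by every group automorphism of G that is a homeomorphism; an element g of G lies in S exactly when
every element of D kills g, and every element of D^∨ is evaluation at some element of G, so that
evaluation identifies G/S with D^∨; and S is the only closed normal subgroup H of G with G/H
isomorphic to D^∨. (The published statement is for a topologically finitely generated group, calls S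
characteristic and does not restrict the competing subgroups H; this row asks the automorphisms to
be homeomorphisms and H to be closed, which is what the argument uses: for the integers with the
p-adic topology times a cyclic group of prime order q ≠ p, the subgroup qℤ × ℤ/q is normal, not
closed, and has quotient isomorphic to D^∨ ≅ ℤ/q, while S = ℤ × 0.) -/
theorem result
    {G : Type u} [Group G] [TopologicalSpace G] [IsTopologicalGroup G]
    (s : Finset G) (hs : Dense ((Subgroup.closure (s : Set G) : Subgroup G) : Set G))
    (n : ℕ) [NeZero n] (S : Subgroup G) (hS : S = powCommClosure G n) :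
    (∀ φ : G ≃* G, Continuous φ → Continuous φ.symm → S.map φ.toMonoidHom = S) ∧
    (∀ g : G, g ∈ S ↔
        ∀ χ : G →* Multiplicative (ZMod n), IsOpen ((χ.ker : Subgroup G) : Set G) → χ g = 1) ∧
    (∀ F : ContChar G n →* Multiplicative (ZMod n), ∃ g : G,
        ∀ χ : ContChar G n, F χ = (χ.1 : G →* Multiplicative (ZMod n)) g) ∧
    (∀ (H : Subgroup G) [H.Normal], IsClosed (H : Set G) →
        Nonempty (G ⧸ H ≃* (ContChar G n →* Multiplicative (ZMod n))) → H = S) := by
  subst hS
  classical
  set T : Subgroup G := Subgroup.closure (Set.range fun g : G => g ^ n) ⊔ commutator G with hT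
  -- algebraic invariance of T
  have hA : ∀ φ : G ≃* G, T.map φ.toMonoidHom ≤ T := by
    intro φ
    rw [hT, Subgroup.map_sup]
    apply sup_le_sup
    · rw [MonoidHom.map_closure]
      apply Subgroup.closure_mono
      rintro _ ⟨_, ⟨g, rfl⟩, rfl⟩
      exact ⟨φ g, (map_pow φ g n).symm⟩
    · rw [commutator_def, Subgroup.map_commutator]
      exact Subgroup.commutator_mono le_top le_top
  have hTn : T.Normal := ⟨fun x hx g => hA (MulAut.conj g) ⟨x, hx, rfl⟩⟩
  have hSn : (powCommClosure G n).Normal := Subgroup.is_normal_topologicalClosure T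
  have hSc : IsClosed ((powCommClosure G n : Subgroup G) : Set G) :=
    Subgroup.isClosed_topologicalClosure T
  have hTS : T ≤ powCommClosure G n := Subgroup.le_topologicalClosure T
  -- part 1
  have hB : ∀ φ : G ≃* G, Continuous φ →
      (powCommClosure G n).map φ.toMonoidHom ≤ powCommClosure G n := by
    rintro φ hφ _ ⟨x, hx, rfl⟩
    have hx' : x ∈ closure (T : Set G) := hx
    have h1 : φ x ∈ closure (φ '' (T : Set G)) :=
      image_closure_subset_closure_image hφ ⟨x, hx', rfl⟩
    have hsub : φ '' (T : Set G) ⊆ T := by
      rintro _ ⟨t, ht, rfl⟩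
      exact hA φ ⟨t, ht, rfl⟩
    exact closure_mono hsub h1
  have part1 : ∀ φ : G ≃* G, Continuous φ → Continuous φ.symm →
      (powCommClosure G n).map φ.toMonoidHom = powCommClosure G n := by
    intro φ h1 h2
    apply le_antisymm (hB φ h1)
    intro x hx
    have h3 := hB φ.symm h2 ⟨x, hx, rfl⟩
    exact ⟨φ.symm x, h3, φ.apply_symm_apply x⟩
  -- the quotient is a commutative group of exponent n
  let instQ : CommGroup (G ⧸ powCommClosure G n) :=
    { (inferInstance : Group (G ⧸ powCommClosure G n)) with
      mul_comm := fun a b => by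
        induction a using QuotientGroup.induction_on with
        | H a =>
          induction b using QuotientGroup.induction_on with
          | H b =>
            rw [← QuotientGroup.mk_mul, ← QuotientGroup.mk_mul, QuotientGroup.eq]
            apply hTS
            apply Subgroup.mem_sup_right
            have h1 : (a * b)⁻¹ * (b * a) = ⁅b⁻¹, a⁻¹⁆ := by
              rw [commutatorElement_def]
              group
            rw [h1]
            exact Subgroup.commutator_mem_commutator (Subgroup.mem_top _) (Subgroup.mem_top _) }
  have hexp : ∀ q : G ⧸ powCommClosure G n, q ^ n = 1 := by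
    intro q
    induction q using QuotientGroup.induction_on with
    | H g =>
      rw [← QuotientGroup.mk_pow, QuotientGroup.eq_one_iff]
      exact hTS (Subgroup.mem_sup_left (Subgroup.subset_closure ⟨g, rfl⟩))
  -- finiteness of the quotient
  have hQfin : Finite (G ⧸ powCommClosure G n) := by
    let B : Subgroup (G ⧸ powCommClosure G n) :=
      (Subgroup.closure (s : Set G)).map (QuotientGroup.mk' (powCommClosure G n))
    have hBfg : Group.FG B := by
      rw [Group.fg_iff_subgroup_fg, Subgroup.fg_iff]
      exact ⟨(QuotientGroup.mk' (powCommClosure G n)) '' (s : Set G),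
        (MonoidHom.map_closure _ _).symm, (s.finite_toSet).image _⟩
    have hBtors : IsMulTorsion B := by
      intro b
      rw [isOfFinOrder_iff_pow_eq_one]
      refine ⟨n, Nat.pos_of_ne_zero (NeZero.ne n), ?_⟩
      apply Subtype.ext
      rw [Subgroup.coe_pow]
      exact hexp _
    have hBfin : Finite B := CommGroup.finite_of_fg_isMulTorsion B hBtors
    have hpre : ∀ q : G ⧸ powCommClosure G n,
        IsClosed ((fun g : G => (g : G ⧸ powCommClosure G n)) ⁻¹' {q}) := by
      intro q
      induction q using QuotientGroup.induction_on with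
      | H g₀ =>
        have h1 : (fun g : G => (g : G ⧸ powCommClosure G n)) ⁻¹' {(g₀ : G ⧸ powCommClosure G n)} =
            (fun g : G => g₀⁻¹ * g) ⁻¹' ((powCommClosure G n : Subgroup G) : Set G) := by
          ext g
          simp only [Set.mem_preimage, Set.mem_singleton_iff, SetLike.mem_coe]
          rw [eq_comm, QuotientGroup.eq]
        rw [h1]
        exact hSc.preimage (continuous_const.mul continuous_id)
    have hWc : IsClosed ((fun g : G => (g : G ⧸ powCommClosure G n)) ⁻¹' (B : Set _)) := by
      have h1 : (fun g : G => (g : G ⧸ powCommClosure G n)) ⁻¹' (B : Set _) =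
          ⋃ b : B, (fun g : G => (g : G ⧸ powCommClosure G n)) ⁻¹' {(b : G ⧸ powCommClosure G n)} := by
        ext g
        simp only [Set.mem_preimage, Set.mem_iUnion, Set.mem_singleton_iff, SetLike.mem_coe]
        constructor
        · intro h
          exact ⟨⟨_, h⟩, rfl⟩
        · rintro ⟨b, hb⟩
          rw [hb]
          exact b.2
      rw [h1]
      exact isClosed_iUnion_of_finite fun b => hpre b
    have hWd : Dense ((fun g : G => (g : G ⧸ powCommClosure G n)) ⁻¹' (B : Set _)) := by
      apply hs.mono
      intro g hg
      exact ⟨g, hg, rfl⟩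
    have hWu : (fun g : G => (g : G ⧸ powCommClosure G n)) ⁻¹' (B : Set _) = Set.univ := by
      rw [← hWc.closure_eq]
      exact hWd.closure_eq
    have hBtop : ∀ q : G ⧸ powCommClosure G n, q ∈ B := by
      intro q
      induction q using QuotientGroup.induction_on with
      | H g =>
        have : g ∈ (fun g : G => (g : G ⧸ powCommClosure G n)) ⁻¹' (B : Set _) := by
          rw [hWu]
          exact Set.mem_univ g
        exact this
    exact Finite.of_surjective (fun b : B => (b : G ⧸ powCommClosure G n))
      (fun q => ⟨⟨q, hBtop q⟩, rfl⟩)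
  have hSfi : (powCommClosure G n).FiniteIndex := Subgroup.finiteIndex_of_finite_quotient
  have hSo : IsOpen ((powCommClosure G n : Subgroup G) : Set G) :=
    Subgroup.isOpen_of_isClosed_of_finiteIndex _ hSc
  -- S ≤ ker χ for continuous χ
  have hle : ∀ χ : G →* Multiplicative (ZMod n), IsOpen ((χ.ker : Subgroup G) : Set G) →
      powCommClosure G n ≤ χ.ker := by
    intro χ hχ
    apply Subgroup.topologicalClosure_minimal _ _ (Subgroup.isClosed_of_isOpen _ hχ)
    apply sup_le
    · rw [Subgroup.closure_le]
      rintro _ ⟨g, rfl⟩
      rw [SetLike.mem_coe, MonoidHom.mem_ker, map_pow, zpow_n_eq_one]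
    · exact Abelianization.commutator_subset_ker χ
  -- characters of the quotient give continuous characters
  have hopen : ∀ ψ : (G ⧸ powCommClosure G n) →* Multiplicative (ZMod n),
      IsOpen (((ψ.comp (QuotientGroup.mk' (powCommClosure G n))).ker : Subgroup G) : Set G) := by
    intro ψ
    refine Subgroup.isOpen_mono (H₁ := powCommClosure G n) ?_ hSo
    intro g hg
    rw [MonoidHom.mem_ker, MonoidHom.comp_apply]
    have h1 : (QuotientGroup.mk' (powCommClosure G n)) g = 1 :=
      (QuotientGroup.eq_one_iff g).2 hg
    rw [h1, map_one]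
  -- part 2
  have part2 : ∀ g : G, g ∈ powCommClosure G n ↔
      ∀ χ : G →* Multiplicative (ZMod n), IsOpen ((χ.ker : Subgroup G) : Set G) → χ g = 1 := by
    intro g
    constructor
    · intro hg χ hχ
      exact MonoidHom.mem_ker.1 (hle χ hχ hg)
    · intro h
      by_contra hg
      have hq : (g : G ⧸ powCommClosure G n) ≠ 1 := fun h1 => hg ((QuotientGroup.eq_one_iff g).1 h1)
      obtain ⟨ψ, hψ⟩ := exists_char_ne_one n (G ⧸ powCommClosure G n) hexp hq
      exact hψ (h (ψ.comp (QuotientGroup.mk' (powCommClosure G n))) (hopen ψ))
  -- the comparison ι : Q^ → ContChar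
  let ι : ((G ⧸ powCommClosure G n) →* Multiplicative (ZMod n)) →* ContChar G n :=
    { toFun := fun ψ => ⟨ψ.comp (QuotientGroup.mk' (powCommClosure G n)), hopen ψ⟩
      map_one' := rfl
      map_mul' := fun _ _ => rfl }
  have hιsurj : Function.Surjective ι := by
    rintro ⟨χ, hχ⟩
    refine ⟨QuotientGroup.lift (powCommClosure G n) χ (hle χ hχ), ?_⟩
    apply Subtype.ext
    ext g
    rfl
  have hιinj : Function.Injective ι := by
    intro ψ ψ' h
    ext g
    have h1 := congrArg (fun χ : ContChar G n => (χ.1 : G →* Multiplicative (ZMod n)) g) h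
    exact h1
  -- part 3
  have part3 : ∀ F : ContChar G n →* Multiplicative (ZMod n), ∃ g : G,
      ∀ χ : ContChar G n, F χ = (χ.1 : G →* Multiplicative (ZMod n)) g := by
    intro F
    obtain ⟨q, hq⟩ := ddual_surj n (G ⧸ powCommClosure G n) hexp (F.comp ι)
    induction q using QuotientGroup.induction_on with
    | H g =>
      refine ⟨g, fun χ => ?_⟩
      obtain ⟨ψ, rfl⟩ := hιsurj χ
      exact hq ψ
  refine ⟨part1, part2, part3, ?_⟩
  -- part 4
  intro H hHn hHc ⟨e⟩
  have hHcomm : ∀ a b : G ⧸ H, a * b = b * a := by
    intro a b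
    apply e.injective
    rw [map_mul, map_mul, mul_comm]
  have hHexp : ∀ a : G ⧸ H, a ^ n = 1 := by
    intro a
    apply e.injective
    rw [map_pow, map_one]
    ext χ
    rw [MonoidHom.pow_apply, MonoidHom.one_apply, zpow_n_eq_one]
  have hSH : powCommClosure G n ≤ H := by
    apply Subgroup.topologicalClosure_minimal _ _ hHc
    apply sup_le
    · rw [Subgroup.closure_le]
      rintro _ ⟨g, rfl⟩
      rw [SetLike.mem_coe, ← QuotientGroup.eq_one_iff, QuotientGroup.mk_pow]
      exact hHexp _
    · rw [commutator_def, Subgroup.commutator_le]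
      intro a _ b _
      rw [← QuotientGroup.eq_one_iff, commutatorElement_def]
      simp only [QuotientGroup.mk_mul, QuotientGroup.mk_inv]
      rw [hHcomm (a : G ⧸ H) (b : G ⧸ H), mul_assoc (b : G ⧸ H), mul_inv_cancel, mul_one,
        mul_inv_cancel]
  have := finite_hom n (G ⧸ powCommClosure G n)
  have hcard : Nat.card (G ⧸ H) = Nat.card (G ⧸ powCommClosure G n) := by
    rw [Nat.card_congr e.toEquiv, ← card_ddual n (G ⧸ powCommClosure G n) hexp]
    exact Nat.card_congr
      ((MulEquiv.ofBijective ι ⟨hιinj, hιsurj⟩).monoidHomCongrLeftEquiv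
        (N := Multiplicative (ZMod n))).symm
  have hidx : H.index = (powCommClosure G n).index := by
    rw [Subgroup.index_eq_card, Subgroup.index_eq_card, hcard]
  have hrel := Subgroup.relIndex_mul_index hSH
  rw [hidx] at hrel
  have hne : (powCommClosure G n).index ≠ 0 := hSfi.index_ne_zero
  have hone : (powCommClosure G n).relIndex H = 1 := by
    have h2 : (powCommClosure G n).relIndex H * (powCommClosure G n).index =
        1 * (powCommClosure G n).index := by rw [hrel, one_mul]
    exact Nat.eq_of_mul_eq_mul_right (Nat.pos_of_ne_zero hne) h2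
  exact le_antisymm (Subgroup.relIndex_eq_one.1 hone) hSH

end Groth.Agent.S14176
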