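import Groth.Statements.S14178
import Groth.Agent.H71.Kummer
import Groth.Agent.H71.FracIdealTorsion
-- import your own Groth.Agent.* helpers here

set_option autoImplicit false
universe u v w
open scoped nonZeroDivisors
open EtAlg

namespace Groth.Agent.S14178

/-- Let A be a Dedekind domain with fraction field K, let n be a natural number invertible in A such
that K contains a primitive n-th root of unity, let f be a nonzero element of K and I an invertible
fractional ideal of A with (f) = I^n whose class in the ideal class group of A has order exactly n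
(the divisor of f is n times a divisor whose class has order n), and let L = K(α) be a field
extension of K generated by a single element α with α^n = f. Then L is Galois over K of degree n
with cyclic Galois group. (The published statement is for an integral smooth curve over a perfect
field containing a primitive n-th root of unity, with the Picard group of the curve in place of the
class group; this row states it for any Dedekind domain.) -/
theorem result
    {A : Type u} {K : Type v} {L : Type w} [CommRing A] [IsDedekindDomain A]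
    [Field K] [Algebra A K] [IsFractionRing A K]
    [Field L] [Algebra K L]
    (n : ℕ) (hn : IsUnit (n : A)) (ζ : K) (hζ : IsPrimitiveRoot ζ n) (f : K) (hf : f ≠ 0)
    (I : (FractionalIdeal A⁰ K)ˣ) (hI : FractionalIdeal.spanSingleton A⁰ f = (I : FractionalIdeal A⁰ K) ^ n)
    (hord : orderOf (ClassGroup.mk K I) = n)
    (α : L) (hα : α ^ n = algebraMap K L f) (hgen : IntermediateField.adjoin K {α} = ⊤) :
    IsGalois K L ∧ IsCyclic (L ≃ₐ[K] L) ∧ Module.finrank K L = n := by
  classical
  open Polynomial in
  have hn0 : n ≠ 0 := by
    rintro rfl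
    simp at hn
  have hnpos : 0 < n := Nat.pos_of_ne_zero hn0
  have : NeZero n := ⟨hn0⟩
  -- `f` is not a `p`-th power for any prime `p ∣ n`
  have hnot : ∀ p : ℕ, p.Prime → p ∣ n → ∀ b : K, b ^ p ≠ f := by
    intro p hp hpn b hb
    obtain ⟨m, rfl⟩ := hpn
    have hm0 : m ≠ 0 := fun h => hn0 (by rw [h, mul_zero])
    have hb0 : b ≠ 0 := by
      rintro rfl
      rw [zero_pow hp.ne_zero] at hb
      exact hf hb.symm
    have hS : FractionalIdeal.spanSingleton A⁰ b ≠ 0 :=
      FractionalIdeal.spanSingleton_ne_zero_iff.2 hb0
    have hSf : FractionalIdeal.spanSingleton A⁰ f ≠ 0 :=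
      FractionalIdeal.spanSingleton_ne_zero_iff.2 hf
    have hJ : ((I : FractionalIdeal A⁰ K) ^ m * (FractionalIdeal.spanSingleton A⁰ b)⁻¹) ^ p = 1 := by
      rw [mul_pow, ← pow_mul, mul_comm m p, ← hI, inv_pow, FractionalIdeal.spanSingleton_pow, hb,
        mul_inv_cancel₀ hSf]
    have hJ1 := Groth.Agent.H71.fractionalIdeal_eq_one_of_pow_eq_one _ p hp.pos hJ
    have hIm : (I : FractionalIdeal A⁰ K) ^ m = FractionalIdeal.spanSingleton A⁰ b :=
      (mul_inv_eq_one₀ hS).1 hJ1
    have hcl : (ClassGroup.mk K I) ^ m = 1 := by
      rw [← map_pow, ClassGroup.mk_eq_one_iff]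
      refine ⟨⟨b, ?_⟩⟩
      rw [Units.val_pow_eq_pow_val, hIm, FractionalIdeal.coe_spanSingleton]
    have hdvd := orderOf_dvd_of_pow_eq_one hcl
    rw [hord] at hdvd
    have hle := Nat.le_of_dvd (Nat.pos_of_ne_zero hm0) hdvd
    have h2 := hp.two_le
    nlinarith [Nat.pos_of_ne_zero hm0]
  have hirr : Irreducible (X ^ n - C f) :=
    Groth.Agent.H71.X_pow_sub_C_irreducible_of_primitiveRoot hnpos hζ hnot
  have hprim : (primitiveRoots n K).Nonempty := ⟨ζ, (mem_primitiveRoots hnpos).2 hζ⟩
  have halg : IsAlgebraic K α := by
    refine ⟨X ^ n - C f, X_pow_sub_C_ne_zero hnpos f, ?_⟩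
    simp [hα]
  have hsplit : IsSplittingField K L (X ^ n - C f) := by
    constructor
    · rw [Polynomial.map_sub, Polynomial.map_pow, Polynomial.map_C, Polynomial.map_X]
      exact X_pow_sub_C_splits_of_isPrimitiveRoot
        (hζ.map_of_injective (algebraMap K L).injective) hα
    · rw [eq_top_iff, ← IntermediateField.top_toSubalgebra, ← hgen,
        IntermediateField.adjoin_simple_toSubalgebra_of_isAlgebraic halg]
      apply Algebra.adjoin_mono
      rw [Set.singleton_subset_iff, mem_rootSet_of_ne (X_pow_sub_C_ne_zero hnpos f),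
        aeval_def, eval₂_sub, eval₂_X_pow, eval₂_C, hα, sub_self]
  exact ⟨isGalois_of_isSplittingField_X_pow_sub_C hprim hirr L,
    isCyclic_of_isSplittingField_X_pow_sub_C hprim hirr L,
    finrank_of_isSplittingField_X_pow_sub_C hprim hirr L⟩

end Groth.Agent.S14178
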