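import Groth.Statements.S14181
import Mathlib.Tactic.Abel
import Mathlib.Tactic.Module
import Mathlib.Tactic.LinearCombination

set_option autoImplicit false
universe u
open CategoryTheory
open GalCoh

namespace Groth.Agent.S14181

/-- Let G be a group with a finite normal subgroup P, k a commutative ring and A a k-linear
representation of G such that multiplication by the order of P is a bijection of A. Then the
inflation map on 1-cocycles (crossed homomorphisms) Z¹(G/P, A^P) → Z¹(G, A) has a k-linear left
inverse. (The published statement is for the inertia group of a Galois cover of smooth curves at a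
point, its normal Sylow p-subgroup P and a module of n-torsion with n prime to p; the argument uses
only that the order of P acts invertibly, which is the hypothesis taken here.) -/
theorem result
    {k G : Type u} [CommRing k] [Group G] (A : Rep.{u} k G) (P : Subgroup G) [P.Normal] [Finite P]
    (hP : Function.Bijective fun a : A => (Nat.card P : k) • a) :
    ∃ r : ModuleCat.of k (groupCohomology.cocycles₁ A) ⟶
        ModuleCat.of k (groupCohomology.cocycles₁ (A.quotientToInvariants P)),
      (groupCohomology.mapCocycles₁ (QuotientGroup.mk' P) (Rep.ofHom (A.ρ.quotientToInvariants_lift P)) :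
          ModuleCat.of k (groupCohomology.cocycles₁ (A.quotientToInvariants P)) ⟶
            ModuleCat.of k (groupCohomology.cocycles₁ A)) ≫ r = 𝟙 _ := by
  classical
  have : Fintype P := Fintype.ofFinite P
  -- the linear equivalence `N • ·`
  let e : A ≃ₗ[k] A := LinearEquiv.ofBijective ((Nat.card P : k) • LinearMap.id) hP
  have he : ∀ a : A, e a = (Nat.card P : k) • a := fun a => rfl
  -- the averaging element
  let y : groupCohomology.cocycles₁ A →ₗ[k] A :=
    { toFun := fun z => - e.symm (∑ t : P, z (t : G))
      map_add' := by
        intro z₁ z₂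
        have : ∀ g : G, (z₁ + z₂) g = z₁ g + z₂ g := fun g => rfl
        simp only [this, Finset.sum_add_distrib, map_add, neg_add]
      map_smul' := by
        intro c z
        have : ∀ g : G, (c • z) g = c • z g := fun g => rfl
        simp only [this, ← Finset.smul_sum, map_smul, smul_neg, RingHom.id_apply] }
  have hy : ∀ z, y z = - e.symm (∑ t : P, z (t : G)) := fun z => rfl
  have h1 : ∀ (z : groupCohomology.cocycles₁ A) (g h : G), z (g * h) = A.ρ g (z h) + z g :=
    fun z => (groupCohomology.mem_cocycles₁_iff z).1 z.2
  have h2 : ∀ (z : groupCohomology.cocycles₁ A) (s : G), s ∈ P → z s = A.ρ s (y z) - y z := by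
    intro z s hs
    apply e.injective
    set c : A := ∑ t : P, z (t : G) with hc
    have hsum : c = A.ρ s c + (Nat.card P : k) • z s := by
      calc c = ∑ t : P, z ((⟨s, hs⟩ * t : P) : G) :=
            (Equiv.sum_comp (Equiv.mulLeft (⟨s, hs⟩ : P)) (fun t : P => z (t : G))).symm
        _ = ∑ t : P, (A.ρ s (z (t : G)) + z s) := by
            refine Finset.sum_congr rfl fun t _ => ?_
            rw [Subgroup.coe_mul, h1]
        _ = A.ρ s c + (Nat.card P : k) • z s := by
            rw [Finset.sum_add_distrib, ← map_sum, Finset.sum_const, Finset.card_univ,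
              Nat.card_eq_fintype_card, Nat.cast_smul_eq_nsmul]
    have hec : e (e.symm c) = c := e.apply_symm_apply c
    rw [he] at hec
    have hy' : y z = - e.symm c := rfl
    have hρ : (Nat.card P : k) • A.ρ s (e.symm c) = A.ρ s c := by
      rw [← (A.ρ s).map_smul, hec]
    rw [he, he, hy', map_neg, sub_neg_eq_add, smul_add, smul_neg, hρ, hec]
    linear_combination (norm := abel) hsum.symm
  -- the modified cocycle on `G`
  let F₀ : groupCohomology.cocycles₁ A → G → A := fun z g => z g - A.ρ g (y z) + y z
  have hF₀ : ∀ z g, F₀ z g = z g - A.ρ g (y z) + y z := fun z g => rfl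
  have hFmul : ∀ z g s, s ∈ P → F₀ z (g * s) = F₀ z g := by
    intro z g s hs
    rw [hF₀, hF₀, h1, h2 z s hs, map_mul, Module.End.mul_apply, map_sub]
    abel
  have hFinv : ∀ z g, F₀ z g ∈ Representation.invariants (A.ρ.comp P.subtype) := by
    intro z g s
    have hconj : g⁻¹ * (s : G) * g ∈ P := Subgroup.Normal.conj_mem' ‹_› _ s.2 _
    have e1 : A.ρ (s : G) (F₀ z g) = F₀ z ((s : G) * g) := by
      rw [hF₀, hF₀, h1, map_add, map_sub, map_mul, Module.End.mul_apply]
      have := h2 z s s.2
      linear_combination (norm := abel) this.symm
    have e2 : (s : G) * g = g * (g⁻¹ * (s : G) * g) := by group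
    change A.ρ (s : G) (F₀ z g) = F₀ z g
    rw [e1, e2, hFmul z g _ hconj]
  have hFwd : ∀ z (g h : G), QuotientGroup.leftRel P g h →
      (⟨F₀ z g, hFinv z g⟩ : Representation.invariants (A.ρ.comp P.subtype)) =
        ⟨F₀ z h, hFinv z h⟩ := by
    intro z g h hgh
    rw [QuotientGroup.leftRel_apply] at hgh
    apply Subtype.ext
    change F₀ z g = F₀ z h
    have : h = g * (g⁻¹ * h) := by group
    rw [this, hFmul z g _ hgh]
  let F : groupCohomology.cocycles₁ A → (G ⧸ P) → (A.quotientToInvariants P) := fun z q =>
    Quotient.liftOn' q (fun g => ⟨F₀ z g, hFinv z g⟩) (hFwd z)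
  have hFmk : ∀ z (g : G), ((F z (QuotientGroup.mk g) : A.quotientToInvariants P) : A) = F₀ z g :=
    fun z g => rfl
  have hFcoc : ∀ z, F z ∈ groupCohomology.cocycles₁ (A.quotientToInvariants P) := by
    intro z
    rw [groupCohomology.mem_cocycles₁_iff]
    intro g h
    induction g using QuotientGroup.induction_on with | @H g =>
    induction h using QuotientGroup.induction_on with | @H h =>
    apply Subtype.ext
    rw [← QuotientGroup.mk_mul]
    change F₀ z (g * h) = A.ρ g (F₀ z h) + F₀ z g
    rw [hF₀, hF₀, hF₀, h1, map_add, map_sub, map_mul, Module.End.mul_apply]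
    abel
  let r : groupCohomology.cocycles₁ A →ₗ[k] groupCohomology.cocycles₁ (A.quotientToInvariants P) :=
    { toFun := fun z => ⟨F z, hFcoc z⟩
      map_add' := by
        intro z₁ z₂
        apply groupCohomology.cocycles₁_ext
        intro q
        induction q using QuotientGroup.induction_on with | @H g =>
        apply Subtype.ext
        change F₀ (z₁ + z₂) g = F₀ z₁ g + F₀ z₂ g
        have : (z₁ + z₂) g = z₁ g + z₂ g := rfl
        rw [hF₀, hF₀, hF₀, this, map_add, map_add]
        abel
      map_smul' := by
        intro c z
        apply groupCohomology.cocycles₁_ext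
        intro q
        induction q using QuotientGroup.induction_on with | @H g =>
        apply Subtype.ext
        change F₀ (c • z) g = c • F₀ z g
        have : (c • z) g = c • z g := rfl
        rw [hF₀, hF₀, this, map_smul, map_smul, smul_add, smul_sub] }
  refine ⟨ModuleCat.ofHom r, ?_⟩
  ext w q
  induction q using QuotientGroup.induction_on with | @H g =>
  set z : groupCohomology.cocycles₁ A := (groupCohomology.mapCocycles₁ (QuotientGroup.mk' P)
    (Rep.ofHom (A.ρ.quotientToInvariants_lift P))).hom w with hz
  have hzg : ∀ g : G, z g = ((w (QuotientGroup.mk g) : A.quotientToInvariants P) : A) :=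
    fun g => rfl
  change F₀ z g = ((w (QuotientGroup.mk g) : A.quotientToInvariants P) : A)
  have hz0 : ∀ t : P, z (t : G) = 0 := by
    intro t
    rw [hzg, (QuotientGroup.eq_one_iff (t : G)).2 t.2, groupCohomology.cocycles₁_map_one]
    rfl
  have hyz : y z = 0 := by
    rw [hy]
    simp only [hz0, Finset.sum_const_zero, map_zero, neg_zero]
  rw [hF₀, hyz, map_zero, sub_zero, add_zero, hzg]

end Groth.Agent.S14181
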