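import Groth.Statements.S14188
import Groth.Agent.H49.SchDominant
import Mathlib.AlgebraicGeometry.Morphisms.Flat
import Mathlib.AlgebraicGeometry.IdealSheaf.Functorial

set_option autoImplicit false
universe u
open CategoryTheory CategoryTheory.Limits AlgebraicGeometry
open FlatMor

namespace Groth.Agent.S14188


/-- Let T be an integral scheme with generic point η, let Y and Z be schemes flat over T with Z
separated over T, and let ψ : Y_η → Z be a T-morphism from the generic fibre Y_η = Y ×_T Spec
O_{T,η} (equivalently, an η-morphism Y_η → Z_η). Let gr : Y_η → Y ×_T Z be the graph of ψ, the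
morphism whose components are the projection Y_η → Y and ψ, and let Γ ⊆ Y ×_T Z be the
scheme-theoretic image of gr (the schematic closure of the graph). Then ψ extends to a T-morphism φ
: Y → Z, meaning that the composite Y_η → Y → Z is ψ, if and only if the composite of the inclusion
Γ → Y ×_T Z with the first projection is an isomorphism Γ ≅ Y. -/
theorem result (T Y Z : Scheme.{u}) [IsIntegral T]
    (pY : Y ⟶ T) (pZ : Z ⟶ T) [Flat pY] [Flat pZ] [IsSeparated pZ]
    (ψ : pullback pY (T.fromSpecStalk (genericPoint T)) ⟶ Z)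
    (hψ : ψ ≫ pZ = pullback.fst pY (T.fromSpecStalk (genericPoint T)) ≫ pY)
    (gr : pullback pY (T.fromSpecStalk (genericPoint T)) ⟶ pullback pY pZ)
    (hgr₁ : gr ≫ pullback.fst pY pZ = pullback.fst pY (T.fromSpecStalk (genericPoint T)))
    (hgr₂ : gr ≫ pullback.snd pY pZ = ψ) :
    (∃ φ : Y ⟶ Z, φ ≫ pZ = pY ∧ pullback.fst pY (T.fromSpecStalk (genericPoint T)) ≫ φ = ψ) ↔
      IsIso (gr.imageι ≫ pullback.fst pY pZ) := by
  let j := T.fromSpecStalk (genericPoint T)
  let a := pullback.fst pY j
  have hda : IsSchemeTheoreticallyDominant a :=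
    inferInstanceAs (IsSchemeTheoreticallyDominant (pullback.fst pY j))
  constructor
  · rintro ⟨φ, hφ1, hφ2⟩
    subst hφ1
    let Γ : Y ⟶ pullback (φ ≫ pZ) pZ := pullback.lift (𝟙 Y) φ (by simp)
    have hΓ1 : Γ ≫ pullback.fst (φ ≫ pZ) pZ = 𝟙 Y := pullback.lift_fst _ _ _
    have hΓ2 : Γ ≫ pullback.snd (φ ≫ pZ) pZ = φ := pullback.lift_snd _ _ _
    have hgr : gr = a ≫ Γ := by
      apply pullback.hom_ext
      · rw [hgr₁, Category.assoc, hΓ1, Category.comp_id]
      · rw [hgr₂, Category.assoc, hΓ2, hφ2]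
    have hci : IsClosedImmersion Γ :=
      MorphismProperty.of_isPullback (P := @IsClosedImmersion)
        (pullback_lift_diagonal_isPullback φ pZ) inferInstance
    have hker : gr.ker = Γ.ker := by
      rw [hgr, Scheme.Hom.ker_comp, a.ker_eq_bot, Scheme.IdealSheafData.map_bot]
    change IsIso (gr.ker.subschemeι ≫ pullback.fst (φ ≫ pZ) pZ)
    rw [hker]
    have h1 : Γ.toImage ≫ (Γ.ker.subschemeι ≫ pullback.fst (φ ≫ pZ) pZ) = 𝟙 Y := by
      rw [← Category.assoc, Γ.toImage_imageι, hΓ1]
    have : IsIso Γ.toImage := inferInstance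
    have h2 : Γ.ker.subschemeι ≫ pullback.fst (φ ≫ pZ) pZ = inv Γ.toImage := by
      rw [← cancel_epi Γ.toImage, h1, IsIso.hom_inv_id]
    rw [h2]
    infer_instance
  · intro hiso
    let π := gr.imageι ≫ pullback.fst pY pZ
    have : IsIso π := hiso
    refine ⟨inv π ≫ gr.imageι ≫ pullback.snd pY pZ, ?_, ?_⟩
    · rw [Category.assoc, Category.assoc, ← pullback.condition, ← Category.assoc gr.imageι,
        IsIso.inv_hom_id_assoc]
    · have h1 : pullback.fst pY j = gr.toImage ≫ π := by
        change _ = gr.toImage ≫ gr.imageι ≫ pullback.fst pY pZ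
        rw [← Category.assoc, gr.toImage_imageι, hgr₁]
      rw [h1, Category.assoc, IsIso.hom_inv_id_assoc, ← Category.assoc, gr.toImage_imageι, hgr₂]

end Groth.Agent.S14188
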