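import Groth.Statements.S14189
import Groth.Agent.H49.SchDominant
import Mathlib.AlgebraicGeometry.Morphisms.Flat
import Mathlib.AlgebraicGeometry.Sites.Fpqc

set_option autoImplicit false
universe u
open CategoryTheory CategoryTheory.Limits AlgebraicGeometry
open FlatMor

namespace Groth.Agent.S14189


/-- Let T be an integral scheme with generic point η, let Y and Z be schemes flat over T with Z
separated over T, and let ψ : Y_η → Z be a T-morphism from the generic fibre Y_η = Y ×_T Spec
O_{T,η}. Let g : T' → T be flat, surjective and quasi-compact, and let φ' : Y_{T'} → Z_{T'} be a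
T'-morphism which agrees with ψ over T' ×_T η, in the sense that on Y_{T'} ×_Y Y_η = Y ×_T T' ×_T
Spec O_{T,η} the composite of the first projection with φ' and with Z_{T'} → Z equals the composite
of the second projection with ψ. Then ψ extends to a T-morphism φ : Y → Z, one whose composite with
Y_η → Y is ψ. (The published statement is an equivalence and also records that an extension, when it
exists, is unique; the converse direction, that an extension over T base-changes to such a φ' over
any such T', is immediate, and this row states the existence direction only.) -/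
theorem result (T Y Z T' : Scheme.{u}) [IsIntegral T]
    (pY : Y ⟶ T) (pZ : Z ⟶ T) [Flat pY] [Flat pZ] [IsSeparated pZ]
    (ψ : pullback pY (T.fromSpecStalk (genericPoint T)) ⟶ Z)
    (hψ : ψ ≫ pZ = pullback.fst pY (T.fromSpecStalk (genericPoint T)) ≫ pY)
    (g : T' ⟶ T) [Flat g] [Surjective g] [QuasiCompact g]
    (φ' : pullback pY g ⟶ pullback pZ g) (hφ' : φ' ≫ pullback.snd pZ g = pullback.snd pY g)
    (hagree : pullback.fst (pullback.fst pY g) (pullback.fst pY (T.fromSpecStalk (genericPoint T))) ≫ φ' ≫ pullback.fst pZ g =
      pullback.snd (pullback.fst pY g) (pullback.fst pY (T.fromSpecStalk (genericPoint T))) ≫ ψ) :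
    ∃ φ : Y ⟶ Z, φ ≫ pZ = pY ∧ pullback.fst pY (T.fromSpecStalk (genericPoint T)) ≫ φ = ψ := by
  let j := T.fromSpecStalk (genericPoint T)
  let a := pullback.fst pY j
  let c := pullback.fst pY g
  obtain ⟨θ, hθ⟩ : ∃ θ, θ = φ' ≫ pullback.fst pZ g := ⟨_, rfl⟩
  rw [← hθ] at hagree
  have hθZ : θ ≫ pZ = c ≫ pY := by
    change θ ≫ pZ = pullback.fst pY g ≫ pY
    rw [hθ, Category.assoc, pullback.condition, ← Category.assoc, hφ', ← pullback.condition]
  have hflc : Flat c := inferInstanceAs (Flat (pullback.fst pY g))
  have hsc : Surjective c := inferInstanceAs (Surjective (pullback.fst pY g))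
  have hqc : QuasiCompact c := inferInstanceAs (QuasiCompact (pullback.fst pY g))
  have hda : IsSchemeTheoreticallyDominant a :=
    inferInstanceAs (IsSchemeTheoreticallyDominant (pullback.fst pY j))
  have hqa : QuasiCompact a := inferInstanceAs (QuasiCompact (pullback.fst pY j))
  have key : pullback.fst c c ≫ θ = pullback.snd c c ≫ θ := by
    let d := pullback.fst (pullback.fst c c ≫ c) a
    let e := pullback.snd (pullback.fst c c ≫ c) a
    have hde : d ≫ pullback.fst c c ≫ c = e ≫ a := pullback.condition
    have hde2 : d ≫ pullback.snd c c ≫ c = e ≫ a := by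
      rw [← pullback.condition (f := c) (g := c)]
      exact hde
    have hdd : IsSchemeTheoreticallyDominant d :=
      inferInstanceAs (IsSchemeTheoreticallyDominant (pullback.fst (pullback.fst c c ≫ c) a))
    apply Groth.Agent.H49.ext_of_isSchemeTheoreticallyDominant pZ ?_ d ?_
    · rw [Category.assoc, Category.assoc, hθZ, ← Category.assoc, ← Category.assoc,
        pullback.condition]
    · have h1 : d ≫ pullback.fst c c ≫ θ = e ≫ ψ := by
        have := congrArg (fun m => pullback.lift (d ≫ pullback.fst c c) e
          (by rw [Category.assoc]; exact hde) ≫ m) hagree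
        simp only [pullback.lift_fst_assoc, pullback.lift_snd_assoc] at this
        rw [Category.assoc] at this
        exact this
      have h2 : d ≫ pullback.snd c c ≫ θ = e ≫ ψ := by
        have := congrArg (fun m => pullback.lift (d ≫ pullback.snd c c) e
          (by rw [Category.assoc]; exact hde2) ≫ m) hagree
        simp only [pullback.lift_fst_assoc, pullback.lift_snd_assoc] at this
        rw [Category.assoc] at this
        exact this
      rw [h1, h2]
  have hee : EffectiveEpi c := inferInstance
  let φ : Y ⟶ Z := EffectiveEpi.desc c θ (by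
    intro W g₁ g₂ h
    have e1 : g₁ = pullback.lift g₁ g₂ h ≫ pullback.fst c c := (pullback.lift_fst _ _ _).symm
    have e2 : g₂ = pullback.lift g₁ g₂ h ≫ pullback.snd c c := (pullback.lift_snd _ _ _).symm
    rw [e1, Category.assoc, key, ← Category.assoc, ← e2])
  have hφ : c ≫ φ = θ := EffectiveEpi.fac c θ _
  have hepic : Epi c := Flat.epi_of_flat_of_surjective c
  refine ⟨φ, ?_, ?_⟩
  · rw [← cancel_epi c, ← Category.assoc, hφ, hθZ]
  · have hfl' : Flat (pullback.snd c a) := inferInstance
    have hs' : Surjective (pullback.snd c a) := inferInstance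
    have : Epi (pullback.snd c a) := Flat.epi_of_flat_of_surjective _
    rw [← cancel_epi (pullback.snd c a), ← Category.assoc, ← pullback.condition, Category.assoc,
      hφ]
    exact hagree

end Groth.Agent.S14189
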