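import Groth.Statements.S14192
import Groth.Agent.H71.ExpLogDeriv
import Mathlib.Tactic.Module
import Mathlib.Tactic.FieldSimp
import Mathlib.Algebra.BigOperators.Field

set_option autoImplicit false
open PowerSeries
open StackCount

namespace Groth.Agent.S14192

open Groth.Agent.H71 in
/-- Let R = Σ_n r_n X^n be a Laurent polynomial with integer coefficients and q > 1 an integer. In the
ring of formal power series in t over ℚ, the exponential of Σ_{v ≥ 1} R(q^v) t^v / v equals the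
finite product Π_n (1 - q^n t)^(-r_n). Stated here with denominators cleared: the exponential series
multiplied by Π_{n : r_n > 0} (1 - q^n t)^(r_n) equals Π_{n : r_n < 0} (1 - q^n t)^(-r_n) (each
factor 1 - q^n t is a unit, so this is equivalent). -/
theorem result (R : LaurentPolynomial ℤ) (q : ℤ) (hq : 1 < q) :
    (PowerSeries.exp ℚ).subst
        (PowerSeries.mk fun v : ℕ => if v = 0 then (0 : ℚ)
          else (R.coeff.sum fun (n : ℤ) (r : ℤ) => (r : ℚ) * (q : ℚ) ^ (n * (v : ℤ))) / (v : ℚ))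
      * ∏ n ∈ R.coeff.support, (1 - PowerSeries.C ((q : ℚ) ^ n) * PowerSeries.X) ^ (R.coeff n).toNat
    = ∏ n ∈ R.coeff.support, (1 - PowerSeries.C ((q : ℚ) ^ n) * PowerSeries.X) ^ (-(R.coeff n)).toNat := by
  set S := R.coeff.support with hS
  set L : ℚ⟦X⟧ := PowerSeries.mk fun v : ℕ => if v = 0 then (0 : ℚ)
          else (R.coeff.sum fun (n : ℤ) (r : ℤ) => (r : ℚ) * (q : ℚ) ^ (n * (v : ℤ))) / (v : ℚ) with hL
  have hL0 : constantCoeff L = 0 := by simp [hL]
  -- the derivative of `L`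
  have hL' : PowerSeries.derivative ℚ L =
      ∑ n ∈ S, ((R.coeff n : ℤ) : ℚ) • (C ((q : ℚ) ^ n) * geom ((q : ℚ) ^ n)) := by
    ext v
    rw [coeff_derivative, hL, coeff_mk, if_neg (Nat.succ_ne_zero v), map_sum, Finsupp.sum,
      Finset.sum_div, Finset.sum_mul]
    refine Finset.sum_congr rfl fun n _ => ?_
    rw [coeff_smul, coeff_C_mul, geom, coeff_mk, zpow_mul, zpow_natCast, smul_eq_mul]
    have : ((v + 1 : ℕ) : ℚ) ≠ 0 := Nat.cast_ne_zero.mpr (Nat.succ_ne_zero v)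
    push_cast at this ⊢
    field_simp
    ring
  have hE := hasLogDeriv_exp_subst hL0
  have hP : HasLogDeriv (∏ n ∈ S, (1 - C ((q : ℚ) ^ n) * X) ^ (R.coeff n).toNat)
      (∑ n ∈ S, (R.coeff n).toNat • (-(C ((q : ℚ) ^ n) * geom ((q : ℚ) ^ n)))) :=
    HasLogDeriv.prod S _ _ (fun n _ => (hasLogDeriv_one_sub ((q : ℚ) ^ n)).pow _)
  have hQ : HasLogDeriv (∏ n ∈ S, (geom ((q : ℚ) ^ n)) ^ (-(R.coeff n)).toNat)
      (∑ n ∈ S, (-(R.coeff n)).toNat • (C ((q : ℚ) ^ n) * geom ((q : ℚ) ^ n))) :=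
    HasLogDeriv.prod S _ _ (fun n _ => (hasLogDeriv_geom ((q : ℚ) ^ n)).pow _)
  have hF := (hE.mul hP).mul hQ
  have hzero : PowerSeries.derivative ℚ L +
      ∑ n ∈ S, (R.coeff n).toNat • (-(C ((q : ℚ) ^ n) * geom ((q : ℚ) ^ n))) +
      ∑ n ∈ S, (-(R.coeff n)).toNat • (C ((q : ℚ) ^ n) * geom ((q : ℚ) ^ n)) = 0 := by
    rw [hL', ← Finset.sum_add_distrib, ← Finset.sum_add_distrib]
    refine Finset.sum_eq_zero fun n _ => ?_
    have hr : ((R.coeff n : ℤ) : ℚ) = ((R.coeff n).toNat : ℚ) - ((-(R.coeff n)).toNat : ℚ) := by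
      have := Int.toNat_sub_toNat_neg (R.coeff n)
      exact_mod_cast this.symm
    rw [hr]
    module
  rw [hzero] at hF
  have hF1 := hF.eq_one (by
    rw [map_mul, map_mul, map_prod, map_prod, constantCoeff_exp_subst hL0]
    simp only [map_pow, constantCoeff_one_sub, constantCoeff_geom, one_pow, Finset.prod_const_one,
      mul_one])
  have hPQ : (∏ n ∈ S, (1 - C ((q : ℚ) ^ n) * X) ^ (-(R.coeff n)).toNat) *
      (∏ n ∈ S, (geom ((q : ℚ) ^ n)) ^ (-(R.coeff n)).toNat) = 1 := by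
    rw [← Finset.prod_mul_distrib]
    refine Finset.prod_eq_one fun n _ => ?_
    rw [← mul_pow, one_sub_mul_geom, one_pow]
  linear_combination (∏ n ∈ S, (1 - C ((q : ℚ) ^ n) * X) ^ (-(R.coeff n)).toNat) * hF1 -
    ((PowerSeries.exp ℚ).subst L *
      ∏ n ∈ S, (1 - C ((q : ℚ) ^ n) * X) ^ (R.coeff n).toNat) * hPQ

end Groth.Agent.S14192
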