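import Groth.Statements.S14193
import Mathlib

set_option autoImplicit false
open PowerSeries
open StackCount

namespace Groth.Agent.S14193

open Filter Topology in
/-- evaluation of an integer polynomial at a rational number -/
noncomputable def ev (p : Polynomial ℤ) (x : ℚ) : ℚ := (p.map (Int.castRingHom ℚ)).eval x

theorem ev_mul (p r : Polynomial ℤ) (x : ℚ) : ev (p * r) x = ev p x * ev r x := by simp [ev]
theorem ev_sub (p r : Polynomial ℤ) (x : ℚ) : ev (p - r) x = ev p x - ev r x := by simp [ev]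
theorem ev_pow (p : Polynomial ℤ) (n : ℕ) (x : ℚ) : ev (p ^ n) x = ev p x ^ n := by simp [ev]
theorem ev_X (x : ℚ) : ev Polynomial.X x = x := by simp [ev]
theorem ev_C (c : ℤ) (x : ℚ) : ev (Polynomial.C c) x = (c : ℚ) := by simp [ev]

/-- integer polynomials inside `RatFunc ℚ` -/
noncomputable def ι : Polynomial ℤ →+* RatFunc ℚ :=
  (algebraMap (Polynomial ℚ) (RatFunc ℚ)).comp (Polynomial.mapRingHom (Int.castRingHom ℚ))

theorem ι_apply (p : Polynomial ℤ) :
    ι p = algebraMap (Polynomial ℚ) (RatFunc ℚ) (p.map (Int.castRingHom ℚ)) := rfl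

theorem ι_injective : Function.Injective ι := by
  intro a b h
  rw [ι_apply, ι_apply] at h
  exact Polynomial.map_injective _ Int.cast_injective
    (IsFractionRing.injective (Polynomial ℚ) (RatFunc ℚ) h)

theorem ι_X : ι Polynomial.X = RatFunc.X := by
  rw [ι_apply, Polynomial.map_X, RatFunc.algebraMap_X]

/-- representability by an integral fraction with monic denominator without roots `> 1`. -/
def Good (F : RatFunc ℚ) : Prop :=
  ∃ N D : Polynomial ℤ, D.Monic ∧ (∀ x : ℚ, 1 < x → ev D x ≠ 0) ∧ F * ι D = ι N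

theorem good_of_mem {F : RatFunc ℚ}
    (hF : F ∈ Subring.closure
      (({RatFunc.X, (RatFunc.X : RatFunc ℚ)⁻¹} : Set (RatFunc ℚ)) ∪
        Set.range fun n : ℕ => ((RatFunc.X : RatFunc ℚ) ^ (n + 1) - 1)⁻¹)) : Good F := by
  refine Subring.closure_induction (p := fun x _ => Good x) ?_ ?_ ?_ ?_ ?_ ?_ hF
  · intro x hx
    simp only [Set.mem_union, Set.mem_insert_iff, Set.mem_singleton_iff, Set.mem_range] at hx
    rcases hx with (rfl | rfl) | ⟨n, rfl⟩
    · exact ⟨Polynomial.X, 1, Polynomial.monic_one, fun x _ => by simp [ev],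
        by rw [map_one, mul_one, ι_X]⟩
    · exact ⟨1, Polynomial.X, Polynomial.monic_X,
        fun x hx => by rw [ev_X]; exact (zero_lt_one.trans hx).ne',
        by rw [ι_X, map_one, inv_mul_cancel₀ RatFunc.X_ne_zero]⟩
    · have hm : (Polynomial.X ^ (n + 1) - 1 : Polynomial ℤ).Monic := by
        simpa using Polynomial.monic_X_pow_sub_C (1 : ℤ) (Nat.succ_ne_zero n)
      have hι : ι (Polynomial.X ^ (n + 1) - 1) = RatFunc.X ^ (n + 1) - 1 := by
        rw [map_sub, map_pow, ι_X, map_one]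
      have hne : (RatFunc.X ^ (n + 1) - 1 : RatFunc ℚ) ≠ 0 := by
        rw [← hι]; exact (map_ne_zero_iff ι ι_injective).2 hm.ne_zero
      refine ⟨1, Polynomial.X ^ (n + 1) - 1, hm, fun x hx => ?_,
        by rw [hι, map_one, inv_mul_cancel₀ hne]⟩
      have h1 : ev (Polynomial.X ^ (n + 1) - 1) x = x ^ (n + 1) - 1 := by simp [ev]
      rw [h1]; exact (sub_pos.2 (one_lt_pow₀ hx (Nat.succ_ne_zero n))).ne'
  · exact ⟨0, 1, Polynomial.monic_one, fun x _ => by simp [ev], by simp⟩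
  · exact ⟨1, 1, Polynomial.monic_one, fun x _ => by simp [ev], by simp⟩
  · rintro x y - - ⟨N₁, D₁, hm₁, hr₁, h₁⟩ ⟨N₂, D₂, hm₂, hr₂, h₂⟩
    refine ⟨N₁ * D₂ + N₂ * D₁, D₁ * D₂, hm₁.mul hm₂,
      fun z hz => by rw [ev_mul]; exact mul_ne_zero (hr₁ z hz) (hr₂ z hz), ?_⟩
    rw [map_mul, map_add, map_mul, map_mul, ← h₁, ← h₂]; ring
  · rintro x - ⟨N, D, hm, hr, h⟩
    exact ⟨-N, D, hm, hr, by rw [map_neg, ← h]; ring⟩
  · rintro x y - - ⟨N₁, D₁, hm₁, hr₁, h₁⟩ ⟨N₂, D₂, hm₂, hr₂, h₂⟩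
    refine ⟨N₁ * N₂, D₁ * D₂, hm₁.mul hm₂,
      fun z hz => by rw [ev_mul]; exact mul_ne_zero (hr₁ z hz) (hr₂ z hz), ?_⟩
    rw [map_mul, map_mul, ← h₁, ← h₂]; ring

theorem eval_eq (F : RatFunc ℚ) (N D : Polynomial ℤ) (hD : D.Monic) (h : F * ι D = ι N)
    (x : ℚ) (hx : ev D x ≠ 0) :
    RatFunc.eval (RingHom.id ℚ) x F = ev N x / ev D x := by
  obtain ⟨Dq, hDq⟩ : ∃ Dq, Dq = D.map (Int.castRingHom ℚ) := ⟨_, rfl⟩
  obtain ⟨Nq, hNq⟩ : ∃ Nq, Nq = N.map (Int.castRingHom ℚ) := ⟨_, rfl⟩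
  have h' : F * algebraMap (Polynomial ℚ) (RatFunc ℚ) Dq
      = algebraMap (Polynomial ℚ) (RatFunc ℚ) Nq := by rw [hDq, hNq]; exact h
  have hden0 : algebraMap (Polynomial ℚ) (RatFunc ℚ) F.denom ≠ 0 :=
    RatFunc.algebraMap_ne_zero (RatFunc.denom_ne_zero F)
  have h2 : algebraMap (Polynomial ℚ) (RatFunc ℚ) F.num
      = F * algebraMap (Polynomial ℚ) (RatFunc ℚ) F.denom :=
    (div_eq_iff hden0).1 (RatFunc.num_div_denom F)
  have key : F.num * Dq = Nq * F.denom := by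
    apply IsFractionRing.injective (Polynomial ℚ) (RatFunc ℚ)
    rw [map_mul, map_mul, h2, ← h']; ring
  have hxD : Dq.eval x ≠ 0 := by rw [hDq]; exact hx
  have keyx : F.num.eval x * Dq.eval x = Nq.eval x * F.denom.eval x := by
    rw [← Polynomial.eval_mul, ← Polynomial.eval_mul, key]
  have hdenx : F.denom.eval x ≠ 0 := by
    intro h0
    rw [h0, mul_zero] at keyx
    have hnum0 : F.num.eval x = 0 := (mul_eq_zero.1 keyx).resolve_right hxD
    obtain ⟨a, b, hab⟩ := RatFunc.isCoprime_num_denom F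
    have := congrArg (Polynomial.eval x) hab
    rw [Polynomial.eval_add, Polynomial.eval_mul, Polynomial.eval_mul, hnum0, h0] at this
    simp at this
  have hev : RatFunc.eval (RingHom.id ℚ) x F = F.num.eval x / F.denom.eval x := rfl
  rw [hev]
  show F.num.eval x / F.denom.eval x
    = (N.map (Int.castRingHom ℚ)).eval x / (D.map (Int.castRingHom ℚ)).eval x
  rw [← hDq, ← hNq, div_eq_div_iff hdenx hxD]
  exact keyx

open Filter Topology in
theorem lemA (q : ℚ) (hq : 1 < q) (ρ : Polynomial ℚ) (r : ℕ) (hr : ρ.natDegree ≤ r) (v₀ : ℕ)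
    (N D : Polynomial ℤ) (hD : D.Monic) (hD0 : ∀ x : ℚ, 1 < x → ev D x ≠ 0) (hN : N ≠ 0)
    (hrec : ∀ v, v₀ ≤ v → ∑ k ∈ Finset.range (r + 1),
      ρ.coeff k * (ev N (q ^ (v + k + 1)) / ev D (q ^ (v + k + 1))) = 0) :
    ρ.eval (q ^ ((N.natDegree : ℤ) - D.natDegree)) = 0 := by
  have hq0 : 0 < q := zero_lt_one.trans hq
  obtain ⟨δ, hδ⟩ : ∃ δ : ℤ, δ = (N.natDegree : ℤ) - D.natDegree := ⟨_, rfl⟩
  rw [← hδ]
  obtain ⟨s, hs⟩ : ∃ s : ℕ, s = (-δ).toNat := ⟨_, rfl⟩
  obtain ⟨t, ht⟩ : ∃ t : ℕ, t = δ.toNat := ⟨_, rfl⟩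
  have hst : (t : ℤ) - s = δ := by rw [hs, ht]; exact Int.toNat_sub_toNat_neg δ
  obtain ⟨γ, hγ⟩ : ∃ γ : ℚ, γ = q ^ δ := ⟨_, rfl⟩
  rw [← hγ]
  have hγ0 : γ ≠ 0 := by rw [hγ]; exact (zpow_pos hq0 δ).ne'
  obtain ⟨Nq, hNq⟩ : ∃ Nq, Nq = N.map (Int.castRingHom ℚ) := ⟨_, rfl⟩
  obtain ⟨Dq, hDq⟩ : ∃ Dq, Dq = D.map (Int.castRingHom ℚ) := ⟨_, rfl⟩
  have hinj : Function.Injective (Int.castRingHom ℚ) := Int.cast_injective
  have hNq0 : Nq ≠ 0 := by rw [hNq]; exact (Polynomial.map_ne_zero_iff hinj).2 hN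
  have hDqm : Dq.Monic := by rw [hDq]; exact hD.map _
  have hXs : (Polynomial.X ^ s : Polynomial ℚ) ≠ 0 := pow_ne_zero _ Polynomial.X_ne_zero
  have hXt : (Polynomial.X ^ t : Polynomial ℚ) ≠ 0 := pow_ne_zero _ Polynomial.X_ne_zero
  obtain ⟨P₁, hP₁⟩ : ∃ P₁, P₁ = Nq * Polynomial.X ^ s := ⟨_, rfl⟩
  obtain ⟨Q₁, hQ₁⟩ : ∃ Q₁, Q₁ = Polynomial.X ^ t * Dq := ⟨_, rfl⟩
  have hP₁0 : P₁ ≠ 0 := by rw [hP₁]; exact mul_ne_zero hNq0 hXs
  have hQ₁0 : Q₁ ≠ 0 := by rw [hQ₁]; exact mul_ne_zero hXt hDqm.ne_zero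
  have hnat : P₁.natDegree = Q₁.natDegree := by
    rw [hP₁, hQ₁, Polynomial.natDegree_mul hNq0 hXs, Polynomial.natDegree_mul hXt hDqm.ne_zero,
      Polynomial.natDegree_X_pow, Polynomial.natDegree_X_pow, hNq, hDq,
      Polynomial.natDegree_map_eq_of_injective hinj, Polynomial.natDegree_map_eq_of_injective hinj]
    omega
  have hdeg : P₁.degree = Q₁.degree := by
    rw [Polynomial.degree_eq_natDegree hP₁0, Polynomial.degree_eq_natDegree hQ₁0, hnat]
  have hlcP : P₁.leadingCoeff = (N.leadingCoeff : ℚ) := by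
    rw [hP₁, Polynomial.leadingCoeff_mul_X_pow, hNq, Polynomial.leadingCoeff_map_of_injective hinj]
    rfl
  have hlcQ : Q₁.leadingCoeff = 1 := by
    rw [hQ₁, Polynomial.leadingCoeff_mul, Polynomial.leadingCoeff_X_pow, one_mul, hDqm.leadingCoeff]
  have hφ : Tendsto (fun x : ℚ => Polynomial.eval x P₁ / Polynomial.eval x Q₁) atTop
      (𝓝 (N.leadingCoeff : ℚ)) := by
    have := Polynomial.div_tendsto_atTop_leadingCoeff_div_of_degree_eq P₁ Q₁ hdeg
    rwa [hlcP, hlcQ, div_one] at this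
  have hxk : ∀ k : ℕ, Tendsto (fun v : ℕ => q ^ (v + k + 1)) atTop atTop := fun k =>
    (tendsto_pow_atTop_atTop_of_one_lt hq).comp
      (tendsto_atTop_mono (fun v => by show id v ≤ v + k + 1; simp only [id]; omega) tendsto_id)
  have hsum0 : ∀ v, v₀ ≤ v → ∑ k ∈ Finset.range (r + 1), ρ.coeff k * γ ^ k *
      (Polynomial.eval (q ^ (v + k + 1)) P₁ / Polynomial.eval (q ^ (v + k + 1)) Q₁) = 0 := by
    intro v hv
    have h1 := hrec v hv
    have h2 : ∀ k, ev N (q ^ (v + k + 1)) / ev D (q ^ (v + k + 1)) = γ ^ (v + 1) * (γ ^ k *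
        (Polynomial.eval (q ^ (v + k + 1)) P₁ / Polynomial.eval (q ^ (v + k + 1)) Q₁)) := by
      intro k
      have hx0 : q ^ (v + k + 1) ≠ 0 := pow_ne_zero _ hq0.ne'
      have hx1 : 1 < q ^ (v + k + 1) := one_lt_pow₀ hq (by omega)
      have hDx : Polynomial.eval (q ^ (v + k + 1)) Dq ≠ 0 := by rw [hDq]; exact hD0 _ hx1
      have hpow : (q ^ (v + k + 1)) ^ t / (q ^ (v + k + 1)) ^ s = γ ^ (v + 1) * γ ^ k := by
        rw [← pow_add, ← zpow_natCast (q ^ (v + k + 1)) t, ← zpow_natCast (q ^ (v + k + 1)) s,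
          ← zpow_sub₀ hx0, hst, ← zpow_natCast q (v + k + 1), ← zpow_mul, zpow_mul', zpow_natCast,
          ← hγ, show v + 1 + k = v + k + 1 by omega]
      have e1 : ev N (q ^ (v + k + 1)) = Polynomial.eval (q ^ (v + k + 1)) Nq := by rw [hNq]; rfl
      have e2 : ev D (q ^ (v + k + 1)) = Polynomial.eval (q ^ (v + k + 1)) Dq := by rw [hDq]; rfl
      have e3 : Polynomial.eval (q ^ (v + k + 1)) P₁
          = Polynomial.eval (q ^ (v + k + 1)) Nq * (q ^ (v + k + 1)) ^ s := by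
        rw [hP₁, Polynomial.eval_mul, Polynomial.eval_pow, Polynomial.eval_X]
      have e4 : Polynomial.eval (q ^ (v + k + 1)) Q₁
          = (q ^ (v + k + 1)) ^ t * Polynomial.eval (q ^ (v + k + 1)) Dq := by
        rw [hQ₁, Polynomial.eval_mul, Polynomial.eval_pow, Polynomial.eval_X]
      rw [← mul_assoc, ← hpow, e3, e4, e1, e2]
      have hxs : (q ^ (v + k + 1)) ^ s ≠ 0 := pow_ne_zero _ hx0
      have hxt : (q ^ (v + k + 1)) ^ t ≠ 0 := pow_ne_zero _ hx0
      field_simp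
    have h3 : γ ^ (v + 1) * ∑ k ∈ Finset.range (r + 1), ρ.coeff k * γ ^ k *
        (Polynomial.eval (q ^ (v + k + 1)) P₁ / Polynomial.eval (q ^ (v + k + 1)) Q₁) = 0 := by
      rw [Finset.mul_sum, ← h1]
      refine Finset.sum_congr rfl fun k _ => ?_
      rw [h2 k]; ring
    exact (mul_eq_zero.1 h3).resolve_left (pow_ne_zero _ hγ0)
  have hlim : Tendsto (fun v : ℕ => ∑ k ∈ Finset.range (r + 1), ρ.coeff k * γ ^ k *
      (Polynomial.eval (q ^ (v + k + 1)) P₁ / Polynomial.eval (q ^ (v + k + 1)) Q₁)) atTop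
      (𝓝 (∑ k ∈ Finset.range (r + 1), ρ.coeff k * γ ^ k * (N.leadingCoeff : ℚ))) := by
    refine tendsto_finsetSum _ fun k _ => ?_
    exact (hφ.comp (hxk k)).const_mul _
  have hzero : Tendsto (fun v : ℕ => ∑ k ∈ Finset.range (r + 1), ρ.coeff k * γ ^ k *
      (Polynomial.eval (q ^ (v + k + 1)) P₁ / Polynomial.eval (q ^ (v + k + 1)) Q₁)) atTop
      (𝓝 0) := by
    refine (tendsto_const_nhds (x := (0 : ℚ))).congr' ?_
    filter_upwards [eventually_ge_atTop v₀] with v hv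
    exact (hsum0 v hv).symm
  have heq := tendsto_nhds_unique hlim hzero
  rw [← Finset.sum_mul] at heq
  have hc0 : (N.leadingCoeff : ℚ) ≠ 0 := by
    exact_mod_cast (Polynomial.leadingCoeff_ne_zero.2 hN)
  have h4 := (mul_eq_zero.1 heq).resolve_right hc0
  rw [Polynomial.eval_eq_sum_range' (lt_of_le_of_lt hr (Nat.lt_succ_self r))]
  exact h4

theorem peel (q : ℚ) (hq : 1 < q) (ρ : Polynomial ℚ) (r : ℕ) (hr : ρ.natDegree ≤ r) (m : ℤ)
    (hm : ∀ j : ℤ, ρ.eval (q ^ j) = 0 → m ≤ j) (v₀ : ℕ) :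
    ∀ (n : ℕ) (N D : Polynomial ℤ), D.Monic → (∀ x : ℚ, 1 < x → ev D x ≠ 0) →
      (N = 0 ∨ (N.natDegree : ℤ) - D.natDegree < m + n) →
      (∀ v, v₀ ≤ v → ∑ k ∈ Finset.range (r + 1),
        ρ.coeff k * (ev N (q ^ (v + k + 1)) / ev D (q ^ (v + k + 1))) = 0) →
      ∃ (L : Polynomial ℤ) (a : ℕ), N * Polynomial.X ^ a = D * L := by
  have hq0 : 0 < q := zero_lt_one.trans hq
  intro n
  induction n with
  | zero =>
    intro N D hD hD0 hdeg hrec
    by_cases hN : N = 0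
    · exact ⟨0, 0, by simp [hN]⟩
    · exfalso
      have h1 := hm _ (lemA q hq ρ r hr v₀ N D hD hD0 hN hrec)
      rcases hdeg with h | h
      · exact hN h
      · simp only [Nat.cast_zero, add_zero] at h
        omega
  | succ n ih =>
    intro N D hD hD0 hdeg hrec
    by_cases hN : N = 0
    · exact ⟨0, 0, by simp [hN]⟩
    have hroot := lemA q hq ρ r hr v₀ N D hD hD0 hN hrec
    have hdeg' : (N.natDegree : ℤ) - D.natDegree < m + (n + 1 : ℕ) := by
      rcases hdeg with h | h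
      · exact absurd h hN
      · exact h
    obtain ⟨δ, hδ⟩ : ∃ δ : ℤ, δ = (N.natDegree : ℤ) - D.natDegree := ⟨_, rfl⟩
    rw [← hδ] at hroot hdeg'
    obtain ⟨s, hs⟩ : ∃ s : ℕ, s = (-δ).toNat := ⟨_, rfl⟩
    obtain ⟨t, ht⟩ : ∃ t : ℕ, t = δ.toNat := ⟨_, rfl⟩
    have hst : (t : ℤ) - s = δ := by rw [hs, ht]; exact Int.toNat_sub_toNat_neg δ
    obtain ⟨γ, hγ⟩ : ∃ γ : ℚ, γ = q ^ δ := ⟨_, rfl⟩
    rw [← hγ] at hroot
    obtain ⟨c, hc⟩ : ∃ c : ℤ, c = N.leadingCoeff := ⟨_, rfl⟩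
    have hc0 : c ≠ 0 := by rw [hc]; exact Polynomial.leadingCoeff_ne_zero.2 hN
    obtain ⟨A, hA⟩ : ∃ A : Polynomial ℤ, A = N * Polynomial.X ^ s := ⟨_, rfl⟩
    obtain ⟨B, hB⟩ : ∃ B : Polynomial ℤ, B = Polynomial.C c * Polynomial.X ^ t * D := ⟨_, rfl⟩
    have hXs : (Polynomial.X ^ s : Polynomial ℤ) ≠ 0 := pow_ne_zero _ Polynomial.X_ne_zero
    have hCX : (Polynomial.C c * Polynomial.X ^ t : Polynomial ℤ) ≠ 0 :=
      mul_ne_zero (Polynomial.C_ne_zero.2 hc0) (pow_ne_zero _ Polynomial.X_ne_zero)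
    have hA0 : A ≠ 0 := by rw [hA]; exact mul_ne_zero hN hXs
    have hB0 : B ≠ 0 := by rw [hB]; exact mul_ne_zero hCX hD.ne_zero
    have hAnat : A.natDegree = N.natDegree + s := by
      rw [hA, Polynomial.natDegree_mul hN hXs, Polynomial.natDegree_X_pow]
    have hBnat : B.natDegree = t + D.natDegree := by
      rw [hB, Polynomial.natDegree_mul hCX hD.ne_zero, Polynomial.natDegree_C_mul_X_pow t c hc0]
    have hABnat : A.natDegree = B.natDegree := by rw [hAnat, hBnat]; omega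
    have hABdeg : A.degree = B.degree := by
      rw [Polynomial.degree_eq_natDegree hA0, Polynomial.degree_eq_natDegree hB0, hABnat]
    have hAlc : A.leadingCoeff = c := by rw [hA, Polynomial.leadingCoeff_mul_X_pow, hc]
    have hBlc : B.leadingCoeff = c := by
      rw [hB, Polynomial.leadingCoeff_mul, Polynomial.leadingCoeff_mul, Polynomial.leadingCoeff_C,
        Polynomial.leadingCoeff_X_pow, hD.leadingCoeff, mul_one, mul_one]
    have hlt : (A - B).degree < A.degree :=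
      Polynomial.degree_sub_lt_left hABdeg hA0 (by rw [hAlc, hBlc])
    obtain ⟨D₁, hD₁⟩ : ∃ D₁ : Polynomial ℤ, D₁ = D * Polynomial.X ^ s := ⟨_, rfl⟩
    have hD₁m : D₁.Monic := by rw [hD₁]; exact hD.mul (Polynomial.monic_X_pow s)
    have hD₁0 : ∀ x : ℚ, 1 < x → ev D₁ x ≠ 0 := by
      intro x hx
      rw [hD₁, ev_mul, ev_pow, ev_X]
      exact mul_ne_zero (hD0 x hx) (pow_ne_zero _ (zero_lt_one.trans hx).ne')
    have hD₁nat : D₁.natDegree = D.natDegree + s := by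
      rw [hD₁, Polynomial.natDegree_mul hD.ne_zero hXs, Polynomial.natDegree_X_pow]
    have hdeg₁ : (A - B) = 0 ∨ ((A - B).natDegree : ℤ) - D₁.natDegree < m + n := by
      by_cases h0 : A - B = 0
      · exact Or.inl h0
      · right
        have h5 : (A - B).natDegree < A.natDegree := Polynomial.natDegree_lt_natDegree h0 hlt
        rw [hD₁nat]
        rw [hAnat] at h5
        push_cast at hdeg' ⊢
        omega
    have hrec₁ : ∀ v, v₀ ≤ v → ∑ k ∈ Finset.range (r + 1),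
        ρ.coeff k * (ev (A - B) (q ^ (v + k + 1)) / ev D₁ (q ^ (v + k + 1))) = 0 := by
      intro v hv
      have h1 := hrec v hv
      have h2 : ∀ k, ev (A - B) (q ^ (v + k + 1)) / ev D₁ (q ^ (v + k + 1))
          = ev N (q ^ (v + k + 1)) / ev D (q ^ (v + k + 1)) - (c : ℚ) * (γ ^ (v + 1) * γ ^ k) := by
        intro k
        have hx0 : q ^ (v + k + 1) ≠ 0 := pow_ne_zero _ hq0.ne'
        have hx1 : 1 < q ^ (v + k + 1) := one_lt_pow₀ hq (by omega)
        have hDx : ev D (q ^ (v + k + 1)) ≠ 0 := hD0 _ hx1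
        have hpow : (q ^ (v + k + 1)) ^ t / (q ^ (v + k + 1)) ^ s = γ ^ (v + 1) * γ ^ k := by
          rw [← pow_add, ← zpow_natCast (q ^ (v + k + 1)) t, ← zpow_natCast (q ^ (v + k + 1)) s,
            ← zpow_sub₀ hx0, hst, ← zpow_natCast q (v + k + 1), ← zpow_mul, zpow_mul',
            zpow_natCast, ← hγ, show v + 1 + k = v + k + 1 by omega]
        have hxs : (q ^ (v + k + 1)) ^ s ≠ 0 := pow_ne_zero _ hx0
        rw [← hpow, hA, hB, hD₁, ev_sub, ev_mul, ev_mul, ev_mul, ev_mul, ev_pow, ev_pow, ev_X, ev_C]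
        field_simp
      calc ∑ k ∈ Finset.range (r + 1),
            ρ.coeff k * (ev (A - B) (q ^ (v + k + 1)) / ev D₁ (q ^ (v + k + 1)))
          = ∑ k ∈ Finset.range (r + 1),
              ρ.coeff k * (ev N (q ^ (v + k + 1)) / ev D (q ^ (v + k + 1)))
            - (c : ℚ) * γ ^ (v + 1) * ∑ k ∈ Finset.range (r + 1), ρ.coeff k * γ ^ k := by
            rw [Finset.mul_sum, ← Finset.sum_sub_distrib]
            refine Finset.sum_congr rfl fun k _ => ?_
            rw [h2 k]; ring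
        _ = 0 := by
            rw [h1, ← Polynomial.eval_eq_sum_range' (lt_of_le_of_lt hr (Nat.lt_succ_self r)),
              hroot]
            ring
    obtain ⟨L₁, a₁, hL₁⟩ := ih (A - B) D₁ hD₁m hD₁0 hdeg₁ hrec₁
    refine ⟨Polynomial.X ^ s * L₁ + Polynomial.C c * Polynomial.X ^ (t + a₁), s + a₁, ?_⟩
    have h6 : N * Polynomial.X ^ (s + a₁)
        = (A - B) * Polynomial.X ^ a₁ + Polynomial.C c * Polynomial.X ^ t * D * Polynomial.X ^ a₁ := by
      rw [hA, hB]; ring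
    rw [h6, hL₁, hD₁]; ring

theorem recurrence_of_rational (a : ℕ → ℚ) (P Q : Polynomial ℚ) (hQ : Q ≠ 0)
    (h : (PowerSeries.exp ℚ).subst
        (PowerSeries.mk fun v : ℕ => if v = 0 then (0 : ℚ) else a v / (v : ℚ))
      * (Q : PowerSeries ℚ) = (P : PowerSeries ℚ)) :
    ∃ (R : Polynomial ℚ) (v₀ : ℕ), R ≠ 0 ∧ ∀ v, v₀ ≤ v →
      ∑ k ∈ Finset.range (R.natDegree + 1), R.coeff (R.natDegree - k) * a (v + k + 1) = 0 := by
  obtain ⟨g, hg⟩ : ∃ g : PowerSeries ℚ,
      g = PowerSeries.mk fun v : ℕ => if v = 0 then (0 : ℚ) else a v / (v : ℚ) := ⟨_, rfl⟩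
  rw [← hg] at h
  have hg0 : PowerSeries.constantCoeff g = 0 := by
    rw [← PowerSeries.coeff_zero_eq_constantCoeff_apply, hg, PowerSeries.coeff_mk]; simp
  have hsub : PowerSeries.HasSubst g := PowerSeries.HasSubst.of_constantCoeff_zero' hg0
  obtain ⟨Z, hZ⟩ : ∃ Z : PowerSeries ℚ, Z = (PowerSeries.exp ℚ).subst g := ⟨_, rfl⟩
  rw [← hZ] at h
  have hZ' : PowerSeries.derivative ℚ Z = Z * PowerSeries.derivative ℚ g := by
    rw [hZ, PowerSeries.derivative_subst hsub, PowerSeries.derivative_exp]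
  have hZW : Z * (PowerSeries.evalNegHom (PowerSeries.exp ℚ)).subst g = 1 := by
    rw [hZ, ← PowerSeries.subst_mul hsub, PowerSeries.exp_mul_exp_neg_eq_one]
    have h1 := map_one (PowerSeries.substAlgHom (R := ℚ) hsub)
    rwa [PowerSeries.coe_substAlgHom] at h1
  have hP : P ≠ 0 := by
    intro hP0
    rw [hP0, Polynomial.coe_zero] at h
    have h1 : (PowerSeries.evalNegHom (PowerSeries.exp ℚ)).subst g * (Z * (Q : PowerSeries ℚ)) = 0 := by
      rw [h, mul_zero]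
    rw [← mul_assoc, mul_comm _ Z, hZW, one_mul] at h1
    exact hQ (Polynomial.coe_eq_zero_iff.1 h1)
  have hd := congrArg (PowerSeries.derivative ℚ) h
  rw [Derivation.leibniz, PowerSeries.derivative_coe, PowerSeries.derivative_coe, hZ',
    smul_eq_mul, smul_eq_mul] at hd
  have key : PowerSeries.derivative ℚ g * ((P * Q : Polynomial ℚ) : PowerSeries ℚ)
      = ((Polynomial.derivative P * Q - P * Polynomial.derivative Q : Polynomial ℚ) :
          PowerSeries ℚ) := by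
    rw [Polynomial.coe_mul, Polynomial.coe_sub, Polynomial.coe_mul, Polynomial.coe_mul, ← hd, ← h]
    ring
  have hcoef : ∀ j, PowerSeries.coeff j (PowerSeries.derivative ℚ g) = a (j + 1) := by
    intro j
    rw [PowerSeries.coeff_derivative, hg, PowerSeries.coeff_mk, if_neg (Nat.succ_ne_zero j)]
    have : ((j : ℚ) + 1) ≠ 0 := Nat.cast_add_one_ne_zero j
    push_cast
    field_simp
  obtain ⟨R, hR⟩ : ∃ R : Polynomial ℚ, R = P * Q := ⟨_, rfl⟩
  obtain ⟨S, hS⟩ : ∃ S : Polynomial ℚ,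
      S = Polynomial.derivative P * Q - P * Polynomial.derivative Q := ⟨_, rfl⟩
  rw [← hR, ← hS] at key
  refine ⟨R, S.natDegree + 1, by rw [hR]; exact mul_ne_zero hP hQ, fun v hv => ?_⟩
  have h1 := congrArg (PowerSeries.coeff (v + R.natDegree)) key
  rw [Polynomial.coeff_coe, Polynomial.coeff_eq_zero_of_natDegree_lt (by omega), mul_comm,
    PowerSeries.coeff_mul, Finset.Nat.sum_antidiagonal_eq_sum_range_succ_mk] at h1
  have h2 : ∑ k ∈ Finset.range (R.natDegree + 1),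
      R.coeff k * a (v + R.natDegree - k + 1) = 0 := by
    rw [← h1]
    refine Finset.sum_subset (fun k hk => ?_) (fun k _ hk => ?_) |>.trans
      (Finset.sum_congr rfl fun k _ => ?_)
    · rw [Finset.mem_range] at hk ⊢; omega
    · rw [Finset.mem_range] at hk
      rw [Polynomial.coeff_eq_zero_of_natDegree_lt (by omega), zero_mul]
    · rw [Polynomial.coeff_coe, hcoef]
  rw [← Finset.sum_range_reflect] at h2
  rw [← h2]
  refine Finset.sum_congr rfl fun k hk => ?_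
  rw [Finset.mem_range] at hk
  have e1 : R.natDegree + 1 - 1 - k = R.natDegree - k := by omega
  have e2 : v + R.natDegree - (R.natDegree - k) + 1 = v + k + 1 := by omega
  rw [e1, e2]

/-- Let q > 1 be an integer and let F be an element of the subring of the rational function field ℚ(X)
generated by X, X^(-1) and the fractions 1/(X^n - 1) for n ≥ 1 (so F(q^v) is defined for every v ≥
1). If the formal power series exp(Σ_{v ≥ 1} F(q^v) t^v / v) in ℚ⟦t⟧ is the expansion of a rational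
function, i.e. its product with some non-zero polynomial in t is a polynomial, then F is a Laurent
polynomial with integer coefficients: F · X^a is the image of a polynomial with integer coefficients
for some a. (The published statement also assumes that the series defines a meromorphic function on
the complex plane; that is implied by rationality and is omitted here.) -/
theorem result (q : ℤ) (hq : 1 < q) (F : RatFunc ℚ)
    (hF : F ∈ Subring.closure
      (({RatFunc.X, (RatFunc.X : RatFunc ℚ)⁻¹} : Set (RatFunc ℚ)) ∪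
        Set.range fun n : ℕ => ((RatFunc.X : RatFunc ℚ) ^ (n + 1) - 1)⁻¹))
    (hrat : ∃ P Q : Polynomial ℚ, Q ≠ 0 ∧
      (PowerSeries.exp ℚ).subst
          (PowerSeries.mk fun v : ℕ => if v = 0 then (0 : ℚ)
            else F.eval (RingHom.id ℚ) ((q : ℚ) ^ v) / (v : ℚ))
        * (Q : PowerSeries ℚ) = (P : PowerSeries ℚ)) :
    ∃ (P : Polynomial ℤ) (a : ℕ),
      F * RatFunc.X ^ a = algebraMap (Polynomial ℚ) (RatFunc ℚ) (P.map (Int.castRingHom ℚ)) := by
  obtain ⟨N, D, hDm, hDr, hFD⟩ := good_of_mem hF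
  obtain ⟨P, Q, hQ, hPQ⟩ := hrat
  have hq' : (1 : ℚ) < (q : ℚ) := by exact_mod_cast hq
  have hq0 : (0 : ℚ) < (q : ℚ) := zero_lt_one.trans hq'
  obtain ⟨R, v₀, hR, hrec⟩ := recurrence_of_rational
    (fun v => RatFunc.eval (RingHom.id ℚ) ((q : ℚ) ^ v) F) P Q hQ hPQ
  have haeq : ∀ v, 1 ≤ v → RatFunc.eval (RingHom.id ℚ) ((q : ℚ) ^ v) F
      = ev N ((q : ℚ) ^ v) / ev D ((q : ℚ) ^ v) := fun v hv =>
    eval_eq F N D hDm hFD _ (hDr _ (one_lt_pow₀ hq' (by omega)))
  obtain ⟨ρ, hρ⟩ : ∃ ρ : Polynomial ℚ, ρ = R.reverse := ⟨_, rfl⟩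
  have hρ0 : ρ ≠ 0 := by rw [hρ, Ne, Polynomial.reverse_eq_zero]; exact hR
  have hρdeg : ρ.natDegree ≤ R.natDegree := by rw [hρ]; exact Polynomial.reverse_natDegree_le R
  have hρc : ∀ k, k ≤ R.natDegree → ρ.coeff k = R.coeff (R.natDegree - k) := fun k hk => by
    rw [hρ, Polynomial.coeff_reverse, Polynomial.revAt_le hk]
  have hrec' : ∀ v, v₀ ≤ v → ∑ k ∈ Finset.range (R.natDegree + 1),
      ρ.coeff k * (ev N ((q : ℚ) ^ (v + k + 1)) / ev D ((q : ℚ) ^ (v + k + 1))) = 0 := by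
    intro v hv
    rw [← hrec v hv]
    refine Finset.sum_congr rfl fun k hk => ?_
    have hk' := Finset.mem_range.1 hk
    rw [hρc k (by omega), haeq (v + k + 1) (by omega)]
  have hfin : Set.Finite {j : ℤ | ρ.eval ((q : ℚ) ^ j) = 0} := by
    have hinj : Function.Injective (fun j : ℤ => (q : ℚ) ^ j) :=
      zpow_right_injective₀ hq0 hq'.ne'
    refine Set.Finite.of_finite_image ?_ hinj.injOn
    refine (ρ.roots.toFinset.finite_toSet).subset ?_
    rintro _ ⟨j, hj, rfl⟩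
    simp only [Finset.mem_coe, Multiset.mem_toFinset, Polynomial.mem_roots hρ0, Polynomial.IsRoot]
    exact hj
  obtain ⟨m, hm⟩ := hfin.bddBelow
  obtain ⟨L, e, hL⟩ := peel (q : ℚ) hq' ρ R.natDegree hρdeg m (fun j hj => hm hj) v₀
    ((N.natDegree : ℤ) - D.natDegree - m + 1).toNat N D hDm hDr
    (Or.inr (by
      have := Int.self_le_toNat ((N.natDegree : ℤ) - D.natDegree - m + 1)
      omega)) hrec'
  refine ⟨L, e, ?_⟩
  show F * RatFunc.X ^ e = ι L
  have hιD : ι D ≠ 0 := (map_ne_zero_iff ι ι_injective).2 hDm.ne_zero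
  have hX : ι (Polynomial.X ^ e) = RatFunc.X ^ e := by rw [map_pow, ι_X]
  have h1 : F * RatFunc.X ^ e * ι D = ι L * ι D := by
    calc F * RatFunc.X ^ e * ι D = (F * ι D) * ι (Polynomial.X ^ e) := by rw [hX]; ring
      _ = ι (N * Polynomial.X ^ e) := by rw [hFD, map_mul]
      _ = ι (D * L) := by rw [hL]
      _ = ι L * ι D := by rw [map_mul]; ring
  exact mul_right_cancel₀ hιD h1

end Groth.Agent.S14193
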