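import Groth.Statements.S14196
import Groth.Agent.H65.QuotEt

set_option autoImplicit false
universe u
open CategoryTheory MonoidalCategory CartesianMonoidalCategory AlgebraicGeometry
open StackCount

namespace Groth.Agent.S14196


/-- Let k be a finite field with algebraic closure k̄, G a smooth affine algebraic group over k acting
on a variety X over k (reduced, of finite type), and [X/G] the quotient stack whose objects over a
k-scheme T are G-torsors P → T, locally trivial for the étale topology and taken to be schemes, with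
a G-equivariant morphism P → X. Write T̄ = Spec k̄ over Spec k. Then: every object of the fibre
category of [X/G] over T̄ admits a section T̄ → P of its torsor; for objects A, B over T̄ with
chosen sections t_A, t_B, A and B are isomorphic in the fibre over T̄ if and only if the k̄-points
t_B φ_B and t_A φ_A of X lie in one G(k̄)-orbit (there is g ∈ G(T̄) with g · (t_A φ_A) = t_B φ_B);
and every k̄-point of X is of the form t φ_A. Hence the isomorphism classes of [X/G](k̄) correspond
bijectively to the G(k̄)-orbits in X(k̄). (The published statement allows any smooth algebraic group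
G; this row takes G affine, so that every torsor is a scheme.) -/
theorem result (k : Type u) [Field k] [Finite k]
    (G : Over (Spec (CommRingCat.of k))) [GrpObj G] [Smooth G.hom] [IsAffineHom G.hom]
    (X : Over (Spec (CommRingCat.of k))) [LocallyOfFiniteType X.hom] [QuasiCompact X.hom]
    [IsReduced X.left] (aX : AlgGrp.Action G X) :
    (∀ A : (AlgSt.QuotObj.forget Scheme.etalePrecoverage G aX).Fiber (Over.mk (Spec.map (CommRingCat.ofHom (algebraMap k (AlgebraicClosure k)))) : Over (Spec (CommRingCat.of k))),
        ∃ t : (Over.mk (Spec.map (CommRingCat.ofHom (algebraMap k (AlgebraicClosure k)))) : Over (Spec (CommRingCat.of k))) ⟶ A.1.P, t ≫ A.1.π = eqToHom A.2.symm) ∧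
    (∀ (A B : (AlgSt.QuotObj.forget Scheme.etalePrecoverage G aX).Fiber (Over.mk (Spec.map (CommRingCat.ofHom (algebraMap k (AlgebraicClosure k)))) : Over (Spec (CommRingCat.of k))))
        (tA : (Over.mk (Spec.map (CommRingCat.ofHom (algebraMap k (AlgebraicClosure k)))) : Over (Spec (CommRingCat.of k))) ⟶ A.1.P) (tB : (Over.mk (Spec.map (CommRingCat.ofHom (algebraMap k (AlgebraicClosure k)))) : Over (Spec (CommRingCat.of k))) ⟶ B.1.P),
        tA ≫ A.1.π = eqToHom A.2.symm → tB ≫ B.1.π = eqToHom B.2.symm →
        (Nonempty (A ≅ B) ↔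
          ∃ g : (Over.mk (Spec.map (CommRingCat.ofHom (algebraMap k (AlgebraicClosure k)))) : Over (Spec (CommRingCat.of k))) ⟶ G,
            CartesianMonoidalCategory.lift g (tA ≫ A.1.φ) ≫ aX.act = tB ≫ B.1.φ)) ∧
    (∀ x : (Over.mk (Spec.map (CommRingCat.ofHom (algebraMap k (AlgebraicClosure k)))) : Over (Spec (CommRingCat.of k))) ⟶ X,
        ∃ (A : (AlgSt.QuotObj.forget Scheme.etalePrecoverage G aX).Fiber (Over.mk (Spec.map (CommRingCat.ofHom (algebraMap k (AlgebraicClosure k)))) : Over (Spec (CommRingCat.of k)))) (t : (Over.mk (Spec.map (CommRingCat.ofHom (algebraMap k (AlgebraicClosure k)))) : Over (Spec (CommRingCat.of k))) ⟶ A.1.P),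
          t ≫ A.1.π = eqToHom A.2.symm ∧ t ≫ A.1.φ = x) := by
  classical
  refine ⟨?_, ?_, ?_⟩
  · intro A
    exact Groth.Agent.H65.QuotEt.exists_section_of_fiber_et aX
      (Spec.map (CommRingCat.ofHom (algebraMap k (AlgebraicClosure k)))) A.1 A.2
  · intro A B tA tB hA hB
    constructor
    · rintro ⟨α⟩
      haveI hlift : (AlgSt.QuotObj.forget Scheme.etalePrecoverage G aX).IsHomLift
          (𝟙 (Over.mk (Spec.map (CommRingCat.ofHom (algebraMap k (AlgebraicClosure k)))) :
            Over (Spec (CommRingCat.of k)))) α.hom.1 := α.hom.2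
      have hfac := IsHomLift.fac' (AlgSt.QuotObj.forget Scheme.etalePrecoverage G aX)
        (𝟙 (Over.mk (Spec.map (CommRingCat.ofHom (algebraMap k (AlgebraicClosure k)))) :
            Over (Spec (CommRingCat.of k)))) α.hom.1
      have hbase : α.hom.1.base = eqToHom A.2 ≫ eqToHom B.2.symm := by
        have h1 : (AlgSt.QuotObj.forget Scheme.etalePrecoverage G aX).map α.hom.1 = α.hom.1.base := rfl
        rw [← h1, hfac, Category.id_comp]
      refine Groth.Agent.H65.QuotEt.exists_g_of_hom Scheme.etalePrecoverage aX α.hom.1 tA tB ?_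
      rw [Category.assoc, α.hom.1.cart.w, reassoc_of% hA, hB, hbase]
      rw [eqToHom_trans]
      exact (eqToHom_trans _ _).symm
    · rintro ⟨g, hg⟩
      obtain ⟨i⟩ := Groth.Agent.H65.QuotEt.exists_fiber_iso Scheme.etalePrecoverage aX B.1 A.1 _
        B.2 A.2 tB hB tA hA g hg
      exact ⟨i.symm⟩
  · intro x
    refine ⟨⟨(AlgSt.quotMap Scheme.etalePrecoverage G aX).obj
      (⟨_, ⟨x⟩⟩ : (AlgSt.ofSch X).obj), rfl⟩,
      lift (toUnit _ ≫ MonObj.one) (𝟙 _), ?_, ?_⟩
    · exact (lift_snd _ _).trans rfl
    · show lift _ _ ≫ (G ◁ x) ≫ aX.act = x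
      rw [lift_whiskerLeft_assoc, Category.id_comp]
      exact Groth.Agent.S12838.act_one aX x

end Groth.Agent.S14196
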