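import Groth.Statements.S14205
import Groth.Agent.H1.CSA.TPow

set_option autoImplicit false
universe u v
open scoped TensorProduct
open Brauer

namespace Groth.Agent.S14205

/-- Let A be a finite-dimensional central simple algebra over a field k with period p: p is the least
positive integer for which the p-fold tensor power of A over k is a full matrix algebra over k. Then
for every r ≥ 1 the r-fold tensor power of A has period p / gcd(p, r) (the order of the r-th
multiple of an element of order p). -/
theorem result (k : Type u) [Field k] (A : Type v) [Ring A] [Algebra k A]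
    [Algebra.IsCentral k A] [IsSimpleRing A] [FiniteDimensional k A] (p : ℕ)
    (hp : CSAGal.IsPeriod k A p) (r : ℕ) (hr : 0 < r) :
    CSAGal.IsPeriod k (CSAGal.tpow k A r) (p / Nat.gcd p r) := by
  open Groth.Agent.H1.CSA in
  have hp0 : 0 < p := hp.1
  have hg : 0 < Nat.gcd p r := Nat.gcd_pos_of_pos_left r hp0
  have nat_key : ∀ e : ℕ, p ∣ r * e ↔ p / Nat.gcd p r ∣ e := by
    intro e
    obtain ⟨p', hp'⟩ := Nat.gcd_dvd_left p r
    obtain ⟨r', hr'⟩ := Nat.gcd_dvd_right p r
    have hpd : p / Nat.gcd p r = p' := Nat.div_eq_of_eq_mul_right hg hp'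
    have hrd : r / Nat.gcd p r = r' := Nat.div_eq_of_eq_mul_right hg hr'
    have hcop : Nat.Coprime p' r' := by
      have := Nat.coprime_div_gcd_div_gcd hg
      rwa [hpd, hrd] at this
    rw [hpd]
    clear hpd hrd hp hp0 hr
    generalize Nat.gcd p r = g at *
    subst hp' hr'
    rw [mul_assoc, Nat.mul_dvd_mul_iff_left hg]
    exact ⟨fun h => Nat.Coprime.dvd_of_dvd_mul_left hcop h, fun h => h.mul_left r'⟩
  have key : ∀ e : ℕ, Curves.Splits k (CSAGal.tpow k (CSAGal.tpow k A r) e) k ↔
      (p / Nat.gcd p r) ∣ e := by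
    intro e
    rw [(brEq_tpow_tpow (k := k) (A := A) r e).splits_iff, splits_tpow_iff_dvd hp]
    exact nat_key e
  have hq : 0 < p / Nat.gcd p r :=
    Nat.div_pos (Nat.le_of_dvd hp0 (Nat.gcd_dvd_left p r)) hg
  refine ⟨hq, (key _).mpr dvd_rfl, fun e' he' hlt hs => ?_⟩
  have := Nat.le_of_dvd he' ((key e').mp hs)
  omega

end Groth.Agent.S14205
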