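import Groth.Statements.S14211
import Groth.Agent.H86.Quat

set_option autoImplicit false
universe u v
open scoped TensorProduct
open Brauer

namespace Groth.Agent.S14211

/-- Let k be a field in which 2 ≠ 0 and A a finite-dimensional central simple k-algebra. Then A has
period 2 and index 2 (its Severi–Brauer variety has type (2, 2, 2m)) if and only if A is isomorphic
over k to a matrix algebra M_m(Q), m ≥ 1, over a quaternion algebra Q = (a, b)_k (the k-algebra with
basis 1, i, j, ij, i² = a, j² = b, ij = −ji) which is a division ring; moreover such a quaternion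
algebra is unique up to k-isomorphism. -/
theorem result (k : Type u) [Field k] (h2 : (2 : k) ≠ 0)
    (A : Type v) [Ring A] [Algebra k A] [Algebra.IsCentral k A] [IsSimpleRing A]
    [FiniteDimensional k A] :
    ((CSAGal.IsPeriod k A 2 ∧ CSAGal.IsIndex k A 2) ↔
      ∃ (a b : k) (m : ℕ), 0 < m ∧ (∀ x : QuaternionAlgebra k a 0 b, x ≠ 0 → IsUnit x) ∧
        Nonempty (A ≃ₐ[k] Matrix (Fin m) (Fin m) (QuaternionAlgebra k a 0 b))) ∧
    (∀ (a b a' b' : k) (m m' : ℕ),
      (∀ x : QuaternionAlgebra k a 0 b, x ≠ 0 → IsUnit x) →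
      (∀ x : QuaternionAlgebra k a' 0 b', x ≠ 0 → IsUnit x) →
      Nonempty (A ≃ₐ[k] Matrix (Fin m) (Fin m) (QuaternionAlgebra k a 0 b)) →
      Nonempty (A ≃ₐ[k] Matrix (Fin m') (Fin m') (QuaternionAlgebra k a' 0 b')) →
      Nonempty (QuaternionAlgebra k a 0 b ≃ₐ[k] QuaternionAlgebra k a' 0 b')) := by
  classical
  have hdivInst : ∀ (a b : k), (∀ x : QuaternionAlgebra k a 0 b, x ≠ 0 → IsUnit x) →
      ∀ x : QuaternionAlgebra k a 0 b, IsUnit x ∨ x = 0 := by
    intro a b hdiv x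
    by_cases hx : x = 0
    · exact Or.inr hx
    · exact Or.inl (hdiv x hx)
  have hmne : ∀ (a b : k) (m : ℕ),
      Nonempty (A ≃ₐ[k] Matrix (Fin m) (Fin m) (QuaternionAlgebra k a 0 b)) → m ≠ 0 := by
    rintro a b m ⟨e⟩ rfl
    obtain ⟨x, y, hxy⟩ := exists_pair_ne A
    exact hxy (e.injective (Subsingleton.elim _ _))
  refine ⟨⟨?_, ?_⟩, ?_⟩
  · rintro ⟨_, hI⟩
    obtain ⟨_, m, D, iD, aD, hm, hd, ⟨f⟩⟩ := hI
    haveI : FiniteDimensional k D := Module.finite_of_finrank_pos (by rw [hd]; norm_num)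
    haveI : NeZero m := ⟨hm.ne'⟩
    haveI : Algebra.IsCentral k (Matrix (Fin m) (Fin m) D) :=
      Groth.Agent.H1.CSA.isCentral_of_algEquiv f
    haveI : Algebra.IsCentral k D := Groth.Agent.H1.CSA.isCentral_of_matrix k D m
    obtain ⟨a, b, ⟨g⟩⟩ := Groth.Agent.H86.Quat.quat_of_division (k := k) (D := D) h2
      (by rw [hd]; norm_num)
    refine ⟨a, b, m, hm, ?_, ⟨f.trans g.symm.mapMatrix⟩⟩
    intro x hx
    have hgx : g x ≠ 0 := fun h => hx (g.injective (h.trans (map_zero g).symm))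
    have hu : IsUnit (g x) := IsUnit.mk0 _ hgx
    have h3 := IsUnit.map g.symm hu
    rwa [AlgEquiv.symm_apply_apply] at h3
  · rintro ⟨a, b, m, hm, hdiv, ⟨e⟩⟩
    letI : DivisionRing (QuaternionAlgebra k a 0 b) :=
      DivisionRing.ofIsUnitOrEqZero (hdivInst a b hdiv)
    exact Groth.Agent.H86.Quat.period_index_of_matrix (k := k) (A := A)
      (QuaternionAlgebra k a 0 b) (QuaternionAlgebra.finrank_eq_four a 0 b) QuaternionAlgebra.starAe
      m hm.ne' e
  · intro a b a' b' m m' hdiv hdiv' he he'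
    have hm := hmne a b m he
    have hm' := hmne a' b' m' he'
    obtain ⟨e⟩ := he
    obtain ⟨e'⟩ := he'
    letI i1 : DivisionRing (QuaternionAlgebra k a 0 b) :=
      DivisionRing.ofIsUnitOrEqZero (hdivInst a b hdiv)
    letI i2 : DivisionRing (QuaternionAlgebra k a' 0 b') :=
      DivisionRing.ofIsUnitOrEqZero (hdivInst a' b' hdiv')
    exact Groth.Agent.H1.CSA.nonempty_algEquiv_of_matrix_algEquiv k
      (QuaternionAlgebra k a 0 b) (QuaternionAlgebra k a' 0 b') m m' hm hm' (e.symm.trans e')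

end Groth.Agent.S14211
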