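import Groth.Statements.S14253
import Groth.Agent.H69.UHSch

set_option autoImplicit false
universe u
open CategoryTheory AlgebraicGeometry
open PerfSch

namespace Groth.Agent.S14253

/-- A universal homeomorphism f : X ⟶ Y between perfect schemes of prime characteristic p (on every open
of X and of Y, p = 0 in the ring of sections and the p-th power map is bijective) is an isomorphism. -/
theorem result (p : ℕ) [Fact p.Prime] {X Y : Scheme.{u}} (f : X ⟶ Y)
    (hX : PerfSch.IsPerfect p X) (hY : PerfSch.IsPerfect p Y) (hf : FlatMor.IsUnivHomeo f) : IsIso f := by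
  apply Groth.Agent.H69.isIso_of_forall_affine
  intro U
  have hX' : IsAffineOpen (f ⁻¹ᵁ U.1) :=
    Groth.Agent.H69.isAffine_preimage_of_isUnivHomeo f hf U.1 U.2
  haveI : IsAffine ↑(f ⁻¹ᵁ U.1) := hX'
  haveI : IsAffine ↑U.1 := U.2
  refine ⟨hX', ?_⟩
  have hR := Groth.Agent.H69.ringUH_appTop_of_isAffine (f ∣_ U.1)
    (Groth.Agent.H69.isUnivHomeo_morphismRestrict f hf U.1)
  have hA := hY (U.1.ι ''ᵁ ⊤)
  have hB := hX ((f ⁻¹ᵁ U.1).ι ''ᵁ ⊤)
  exact Groth.Agent.H69.bijective_of_ringUH_of_perfect _ p (Fact.out) hA.1 hA.2 hB.2 hR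

end Groth.Agent.S14253
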