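import Groth.Statements.S14254
import Groth.Agent.H69.UHCancel

set_option autoImplicit false
universe u
open CategoryTheory AlgebraicGeometry
open FrobAlg

namespace Groth.Agent.S14254

/-- Let p be a prime, φ : A → B a map of commutative rings of characteristic p, i : A → A' and j : B →
B' perfect closures (A' and B' are perfect rings of characteristic p, every element of A' resp. B'
has a p^n-th power in the image of i resp. j, and the kernels of i and j consist of nilpotent
elements), and φ' : A' → B' the induced map, φ' ∘ i = j ∘ φ. Then Spec φ : Spec B ⟶ Spec A is a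
universal homeomorphism if and only if φ' is bijective. (The published statement is for an arbitrary
morphism of schemes over the prime field and its perfection; this row is the case of affine schemes,
the perfection of Spec A being Spec of the perfect closure of A.) -/
theorem result (p : ℕ) [Fact p.Prime]
    {A B A' B' : Type u} [CommRing A] [CommRing B] [CommRing A'] [CommRing B']
    [CharP A p] [CharP B p] [CharP A' p] [CharP B' p] [PerfectRing A' p] [PerfectRing B' p]
    (φ : A →+* B) (i : A →+* A') (j : B →+* B') [IsPerfectClosure i p] [IsPerfectClosure j p]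
    (φ' : A' →+* B') (hφ : φ'.comp i = j.comp φ) :
    FlatMor.IsUnivHomeo (Spec.map (CommRingCat.ofHom φ)) ↔ Function.Bijective φ' := by
  have hp : p.Prime := Fact.out
  have hi := Groth.Agent.H69.ringUH_of_isPRadical p hp (CharP.cast_eq_zero A' p) i
  have hj := Groth.Agent.H69.ringUH_of_isPRadical p hp (CharP.cast_eq_zero B' p) j
  constructor
  · intro h
    have hφuh := Groth.Agent.H69.ringUH_of_isUnivHomeo φ h
    have h1 : Groth.Agent.H69.RingUH (φ'.comp i) := by
      rw [hφ]; exact Groth.Agent.H69.RingUH.comp φ j hφuh hj
    have hφ' := Groth.Agent.H69.RingUH.of_comp_left i φ' hi h1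
    letI : Algebra (ZMod p) A' := ZMod.algebra _ p
    letI : Algebra (ZMod p) B' := ZMod.algebra _ p
    exact Groth.Agent.H69.bijective_of_ringUH_of_isAWNRing φ' hφ'
      ((Groth.Agent.S8992.result p A').mpr inferInstance)
      ((Groth.Agent.S8992.result p B').mpr inferInstance)
  · intro h
    have hφ' := Groth.Agent.H69.ringUH_of_bijective φ' h
    have h1 : Groth.Agent.H69.RingUH (j.comp φ) := by
      rw [← hφ]; exact Groth.Agent.H69.RingUH.comp i φ' hi hφ'
    exact Groth.Agent.H69.isUnivHomeo_of_ringUH φ
      (Groth.Agent.H69.RingUH.of_comp_right φ j hj h1)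

end Groth.Agent.S14254
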