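import Groth.Statements.S14257
import Groth.Agent.S3176

set_option autoImplicit false
universe u
open TensorProduct
open FrobAlg

namespace Groth.Agent.S14257
open TensorProduct

open TensorProduct in
/-- An etale algebra over a perfect ring of characteristic `p` is perfect. -/
theorem perfectRing_of_etale (p : ℕ) [Fact p.Prime] (A C : Type u) [CommRing A] [CommRing C]
    [CharP A p] [CharP C p] [PerfectRing A p] [Algebra A C] [Algebra.Etale A C] :
    PerfectRing C p := by
  have hbij : Function.Bijective (FrobAlg.relFrob p A C) :=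
    (Groth.Agent.S3176.result p A C).mp inferInstance
  have hrel : ∀ (c : C) (t : FrobAlg.Twist p A),
      FrobAlg.relFrob p A C (c ⊗ₜ[A] t) = c ^ p * algebraMap A C ((FrobAlg.toTwist p A).symm t) := by
    intro c t
    show ((FrobAlg.toTarget p A C).symm) ((Algebra.TensorProduct.lift (FrobAlg.frobHom p A C)
      (FrobAlg.inclHom p A C) (fun _ _ => Commute.all _ _)) (c ⊗ₜ[A] t)) = _
    rw [Algebra.TensorProduct.lift_tmul]
    rfl
  have hAperf : Function.Bijective (frobenius A p) := PerfectRing.bijective_frobenius
  refine ⟨⟨?_, ?_⟩⟩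
  · -- injective
    intro c₁ c₂ h
    have h' : c₁ ^ p = c₂ ^ p := h
    have h1 : FrobAlg.relFrob p A C (c₁ ⊗ₜ[A] (1 : FrobAlg.Twist p A)) =
        FrobAlg.relFrob p A C (c₂ ⊗ₜ[A] (1 : FrobAlg.Twist p A)) := by
      rw [hrel, hrel, h']
    have h2 := hbij.1 h1
    -- `Twist p A ≃ A` as `A`-modules
    have hbijT : Function.Bijective (Algebra.linearMap A (FrobAlg.Twist p A)) := by
      have : ⇑(Algebra.linearMap A (FrobAlg.Twist p A)) =
          (FrobAlg.toTwist p A) ∘ (frobenius A p) := by
        ext a; rfl
      rw [this]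
      exact (FrobAlg.toTwist p A).bijective.comp hAperf
    let e : A ≃ₗ[A] FrobAlg.Twist p A := LinearEquiv.ofBijective _ hbijT
    have he1 : e.symm (1 : FrobAlg.Twist p A) = 1 := by
      rw [LinearEquiv.symm_apply_eq]
      show (1 : FrobAlg.Twist p A) = algebraMap A (FrobAlg.Twist p A) 1
      rw [map_one]
    let E : C ⊗[A] FrobAlg.Twist p A ≃ₗ[A] C :=
      (TensorProduct.congr (LinearEquiv.refl A C) e.symm) ≪≫ₗ (TensorProduct.rid A C)
    have hE : ∀ c : C, E (c ⊗ₜ[A] (1 : FrobAlg.Twist p A)) = c := by
      intro c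
      show (TensorProduct.rid A C) ((TensorProduct.congr (LinearEquiv.refl A C) e.symm)
        (c ⊗ₜ[A] (1 : FrobAlg.Twist p A))) = c
      rw [TensorProduct.congr_tmul, he1, LinearEquiv.refl_apply, TensorProduct.rid_tmul, one_smul]
    have := congrArg E h2
    rwa [hE, hE] at this
  · -- surjective
    intro c
    obtain ⟨w, rfl⟩ := hbij.2 c
    induction w using TensorProduct.induction_on with
    | zero => exact ⟨0, by simp [zero_pow (Fact.out : p.Prime).ne_zero]⟩
    | tmul c t =>
      obtain ⟨a, ha⟩ := hAperf.2 ((FrobAlg.toTwist p A).symm t)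
      refine ⟨c * algebraMap A C a, ?_⟩
      show (c * algebraMap A C a) ^ p = _
      rw [hrel, ← ha, frobenius_def, mul_pow, map_pow]
    | add x y hx hy =>
      obtain ⟨x', hx'⟩ := hx
      obtain ⟨y', hy'⟩ := hy
      refine ⟨x' + y', ?_⟩
      show (x' + y') ^ p = _
      have hx'' : x' ^ p = _ := hx'
      have hy'' : y' ^ p = _ := hy'
      rw [add_pow_char, map_add, hx'', hy'']

/-- Let p be a prime, A a commutative ring of characteristic p, B an etale A-algebra of characteristic
p, A → A' and B → B' perfect closures (A', B' perfect rings of characteristic p, every element of A'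
resp. B' has a p^n-th power in the image of A resp. B, and the structure maps have kernels
consisting of nilpotent elements), B' viewed as an A-algebra through B, and φ' : A' → B' a map of
A-algebras. Then the natural map A' ⊗_A B → B', a ⊗ b ↦ φ'(a) b, is bijective. (The published
statement is for an etale morphism X → Y of schemes over the prime field, where X_perf → X ×_Y
Y_perf is an isomorphism; this row is the affine case.) -/
theorem result (p : ℕ) [Fact p.Prime]
    (A B A' B' : Type u) [CommRing A] [CommRing B] [CommRing A'] [CommRing B']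
    [CharP A p] [CharP B p] [CharP A' p] [CharP B' p] [PerfectRing A' p] [PerfectRing B' p]
    [Algebra A B] [Algebra.Etale A B] [Algebra A A'] [Algebra B B'] [Algebra A B'] [IsScalarTower A B B']
    [IsPerfectClosure (algebraMap A A') p] [IsPerfectClosure (algebraMap B B') p]
    (φ' : A' →ₐ[A] B') :
    Function.Bijective (Algebra.TensorProduct.lift φ' (IsScalarTower.toAlgHom A B B')
      (fun a b => Commute.all (φ' a) (IsScalarTower.toAlgHom A B B' b))) := by
  classical
  have hp : p.Prime := Fact.out
  have hp1 : 1 < p := hp.one_lt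
  -- notation
  let θ : A' ⊗[A] B →ₐ[A] B' := Algebra.TensorProduct.lift φ' (IsScalarTower.toAlgHom A B B')
      (fun a b => Commute.all (φ' a) (IsScalarTower.toAlgHom A B B' b))
  have hθ : ∀ (a : A') (b : B), θ (a ⊗ₜ[A] b) = φ' a * algebraMap B B' b := by
    intro a b
    show Algebra.TensorProduct.lift φ' (IsScalarTower.toAlgHom A B B') _ (a ⊗ₜ[A] b) = _
    rw [Algebra.TensorProduct.lift_tmul]
    rfl
  show Function.Bijective θ
  -- `C` is nontrivial of characteristic `p`
  have hB'nt : Nontrivial B' := CharP.nontrivial_of_char_ne_one (R := B') (v := p) hp.ne_one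
  have hCnt : Nontrivial (A' ⊗[A] B) := θ.toRingHom.domain_nontrivial
  have hpC : ((p : ℕ) : A' ⊗[A] B) = 0 := by
    have : ((p : ℕ) : A' ⊗[A] B) = algebraMap A' (A' ⊗[A] B) ((p : ℕ) : A') := by
      rw [map_natCast]
    rw [this, CharP.cast_eq_zero, map_zero]
  have hCchar : CharP (A' ⊗[A] B) p := (CharP.charP_iff_prime_eq_zero hp).mpr hpC
  have hCperf : PerfectRing (A' ⊗[A] B) p := perfectRing_of_etale p A' (A' ⊗[A] B)
  -- `B → C` is `p`-radical
  let i : B →+* A' ⊗[A] B := (Algebra.TensorProduct.includeRight : B →ₐ[A] A' ⊗[A] B).toRingHom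
  have hi : ∀ b : B, i b = (1 : A') ⊗ₜ[A] b := fun b => rfl
  have hθi : θ.toRingHom.comp i = algebraMap B B' := by
    ext b
    show θ ((1 : A') ⊗ₜ[A] b) = _
    rw [hθ, map_one, one_mul]
  have hradA : IsPRadical (algebraMap A A') p := inferInstance
  have hradB : IsPRadical (algebraMap B B') p := inferInstance
  have hrad : IsPRadical i p := by
    refine ⟨?_, ?_⟩
    · intro c
      induction c using TensorProduct.induction_on with
      | zero => exact ⟨0, 0, by simp⟩
      | tmul a b =>
        obtain ⟨n, y, hy⟩ := hradA.pow_mem' a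
        refine ⟨n, y • b ^ p ^ n, ?_⟩
        rw [hi, Algebra.TensorProduct.tmul_pow, ← hy, Algebra.algebraMap_eq_smul_one,
          TensorProduct.smul_tmul]
      | add x y hx hy =>
        obtain ⟨n, x', hx'⟩ := hx
        obtain ⟨m, y', hy'⟩ := hy
        refine ⟨n + m, x' ^ p ^ m + y' ^ p ^ n, ?_⟩
        rw [add_pow_char_pow, map_add, map_pow, map_pow, hx', hy', ← pow_mul, ← pow_mul,
          ← pow_add, ← pow_add, add_comm m n]
    · intro x hx
      have h1 : algebraMap B B' x = 0 := by
        rw [← hθi, RingHom.comp_apply, (RingHom.mem_ker).mp hx, map_zero]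
      exact hradB.ker_le' ((RingHom.mem_ker).mpr h1)
  -- conclude by uniqueness of perfect closures
  have hlift : PerfectRing.lift i (algebraMap B B') p = θ.toRingHom := by
    rw [← hθi]
    exact PerfectRing.comp_lift i θ.toRingHom p
  have hbij : Function.Bijective (IsPerfectClosure.equiv i (algebraMap B B') p) :=
    (IsPerfectClosure.equiv i (algebraMap B B') p).bijective
  have heq : ⇑(IsPerfectClosure.equiv i (algebraMap B B') p) = ⇑θ := by
    ext c
    have := congrArg (fun f : A' ⊗[A] B →+* B' => f c) hlift
    exact this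
  rw [← heq]
  exact hbij

end Groth.Agent.S14257
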