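import Groth.Statements.S1426
import Groth.Agent.H7.Weighting
import Groth.Agent.H7.EtaleLoc4

set_option autoImplicit false
universe u
open FlatMor

namespace Groth.Agent.S1426

open AlgebraicGeometry CategoryTheory Limits in
/-- Let f : X → Y be a morphism of schemes which is separated, locally of finite type and locally
quasi-finite with finite fibres (finite fibres are assumed so that the fibre integral is a finite
sum), and let w be a weighting of f with w(x) > 0 for all x. Then the fibre integral of w along f is
a lower semicontinuous function on Y. -/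
theorem result {X Y : Scheme.{u}} (f : X ⟶ Y) [LocallyQuasiFinite f] [LocallyOfFiniteType f] [IsSeparated f] (hfin : ∀ y : Y, (f ⁻¹' {y}).Finite)
    (w : ↑X → ℤ) (hw : MoreMor.IsWeighting f w) (hpos : ∀ x, 0 < w x) :
    LowerSemicontinuous (MoreMor.fibreIntegral f w) := by
  intro y c hc
  obtain ⟨U, g, u, hg, hgu, -, V, W, -, hVfin, hV⟩ :=
    Groth.Agent.H7.exists_etale_nbhd_clopen_finite_part f y (hfin y)
  have hlc := hw U g V hVfin
  have hbc := fun u' : U => Groth.Agent.H7.fibreIntegral_baseChange f (pullback.snd f g)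
    (pullback.fst f g) g (IsPullback.of_hasPullback f g) w u' (hfin (g u'))
  have hle : ∀ u' : U, MoreMor.fibreIntegral (V.ι ≫ pullback.snd f g)
      (fun p => w (pullback.fst f g (V.ι p))) u' ≤ MoreMor.fibreIntegral f w (g u') := by
    intro u'
    rw [← (hbc u').2]
    exact Groth.Agent.H7.fibreIntegral_opens_ι_le (pullback.snd f g) V (w ∘ ⇑(pullback.fst f g))
      (fun x => (hpos _).le) u' (hbc u').1
  have heq : MoreMor.fibreIntegral (V.ι ≫ pullback.snd f g)
      (fun p => w (pullback.fst f g (V.ι p))) u = MoreMor.fibreIntegral f w (g u) := by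
    rw [← (hbc u).2]
    exact Groth.Agent.H7.fibreIntegral_opens_ι_eq (pullback.snd f g) V (w ∘ ⇑(pullback.fst f g))
      u hV
  have hopen : IsOpen (g '' {u' | MoreMor.fibreIntegral (V.ι ≫ pullback.snd f g)
      (fun p => w (pullback.fst f g (V.ι p))) u' = MoreMor.fibreIntegral (V.ι ≫ pullback.snd f g)
      (fun p => w (pullback.fst f g (V.ι p))) u}) :=
    g.isOpenMap _ (hlc.isOpen_fiber _)
  refine Filter.eventually_of_mem (hopen.mem_nhds ⟨u, rfl, hgu⟩) ?_
  rintro _ ⟨u', hu', rfl⟩
  have h1 := hle u'
  rw [Set.mem_ofPred_eq] at hu'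
  rw [hu', heq, hgu] at h1
  exact lt_of_lt_of_le hc h1

end Groth.Agent.S1426
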