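import Groth.Statements.S14262
import Mathlib.RingTheory.Flat.EquationalCriterion
import Mathlib.FieldTheory.Perfect
import Mathlib.Tactic.Ring

set_option autoImplicit false
universe u
open FrobAlg

namespace Groth.Agent.S14262

/-- Let p be a prime, A a perfect ring of characteristic p and f ∈ A. The radical of the principal ideal
(f) — equivalently the ideal generated by all p^n-th roots of f, n ≥ 0 — is a flat A-module. -/
theorem result (p : ℕ) [Fact p.Prime] (A : Type u) [CommRing A]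
    [CharP A p] [PerfectRing A p] (f : A) :
    Module.Flat A ((Ideal.span {f}).radical) := by
  have hp := (Fact.out : p.Prime)
  have hroot : ∀ (n : ℕ) (c : A), ((iterateFrobeniusEquiv A p n).symm c) ^ p ^ n = c := fun n c => by
    have h := (iterateFrobeniusEquiv A p n).apply_symm_apply c
    rw [iterateFrobeniusEquiv_def] at h
    exact h
  have hinj : ∀ (n : ℕ) {x y : A}, x ^ p ^ n = y ^ p ^ n → x = y :=
    fun n x y h => (iterateFrobeniusEquiv A p n).injective h
  obtain ⟨g, hgdef⟩ : ∃ g : ℕ → A, ∀ n, g n = (iterateFrobeniusEquiv A p n).symm f :=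
    ⟨fun n => (iterateFrobeniusEquiv A p n).symm f, fun _ => rfl⟩
  have hgpow : ∀ n, g n ^ p ^ n = f := fun n => by rw [hgdef, hroot]
  have hgsucc : ∀ n, g (n + 1) ^ p = g n := fun n => by
    apply hinj n
    rw [← pow_mul, ← pow_succ', hgpow, hgpow]
  have hmem : ∀ x ∈ (Ideal.span {f}).radical, ∃ N₀ : ℕ, ∀ N, N₀ ≤ N → ∃ b, x = b * g N := by
    intro x hx
    obtain ⟨m, hm⟩ := hx
    refine ⟨m, fun N hN => ?_⟩
    have hlt : m ≤ p ^ N :=
      (Nat.lt_pow_self hp.one_lt).le.trans (Nat.pow_le_pow_right hp.pos hN)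
    have h1 : x ^ p ^ N ∈ Ideal.span {f} := by
      rw [← Nat.sub_add_cancel hlt, pow_add]
      exact Ideal.mul_mem_left _ _ hm
    rw [Ideal.mem_span_singleton] at h1
    obtain ⟨c, hc⟩ := h1
    refine ⟨(iterateFrobeniusEquiv A p N).symm c, hinj N ?_⟩
    rw [mul_pow, hgpow, hroot, hc, mul_comm]
  rw [Module.Flat.iff_forall_isTrivialRelation]
  intro l a x hrel
  choose N₀ hN₀ using fun i => hmem (x i : A) (x i).2
  have hle : ∀ i, N₀ i ≤ ∑ i, N₀ i := fun i =>
    Finset.single_le_sum (fun _ _ => Nat.zero_le _) (Finset.mem_univ i)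
  obtain ⟨N, hN⟩ : ∃ N, N = ∑ i, N₀ i := ⟨_, rfl⟩
  rw [← hN] at hle
  choose b hb using fun i => hN₀ i N (hle i)
  have hymem : g (N + 1) ∈ (Ideal.span {f}).radical :=
    ⟨p ^ (N + 1), by rw [hgpow]; exact Ideal.mem_span_singleton_self f⟩
  have h1 : ((∑ i, a i • x i : ↥((Ideal.span {f}).radical)) : A) = 0 := by rw [hrel]; rfl
  have h2 : ∑ i, a i * (x i : A) = 0 := by
    rw [← h1, Submodule.coe_sum]
    rfl
  have hs : (∑ i, a i * b i) * g N = 0 := by
    rw [Finset.sum_mul, ← h2]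
    refine Finset.sum_congr rfl fun i _ => ?_
    rw [hb i, mul_assoc]
  have hy : ∀ i, (x i : A) = (b i * g (N + 1) ^ (p - 1)) * g (N + 1) := fun i => by
    rw [hb i, mul_assoc, ← pow_succ, Nat.sub_add_cancel hp.one_lt.le, hgsucc]
  have hzero : (∑ i, a i * b i) * g (N + 1) ^ (p - 1) = 0 := by
    apply hinj 1
    rw [zero_pow (pow_ne_zero 1 hp.ne_zero), pow_one, mul_pow, ← pow_mul, mul_comm (p - 1) p,
      pow_mul, hgsucc]
    have e : (∑ i, a i * b i) ^ p * g N ^ (p - 1) =
        ((∑ i, a i * b i) * g N) ^ (p - 1) * (∑ i, a i * b i) := by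
      have hp1 : (∑ i, a i * b i) ^ p = (∑ i, a i * b i) ^ (p - 1) * (∑ i, a i * b i) := by
        rw [← pow_succ, Nat.sub_add_cancel hp.one_lt.le]
      rw [hp1, mul_pow]; ring
    rw [e, hs, zero_pow (Nat.sub_ne_zero_of_lt hp.one_lt), zero_mul]
  refine ⟨1, fun i _ => b i * g (N + 1) ^ (p - 1), fun _ => ⟨g (N + 1), hymem⟩, fun i => ?_,
    fun _ => ?_⟩
  · rw [Fin.sum_univ_one]
    apply Subtype.ext
    exact hy i
  · beta_reduce
    rw [← hzero, Finset.sum_mul]
    refine Finset.sum_congr rfl fun i _ => ?_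
    rw [mul_assoc]

end Groth.Agent.S14262
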