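import Groth.Statements.S14268
import Groth.Agent.H53.Mix3Comp

set_option autoImplicit false
universe u
open CategoryTheory CategoryTheory.Limits MonoidalCategory
attribute [local instance] HasDerivedCategory.standard
open DTen

namespace Groth.Agent.S14268

open Groth.Agent.H31 Groth.Agent.H53 in
/-- Every object of `D(R)` is represented by a K-flat complex. -/
lemma exists_kflat_model {R : Type u} [CommRing R] (a : Dual.D R) :
    ∃ (P : DRing.Cx R), DRing.IsKFlat R P ∧ Nonempty (DerivedCategory.Q.obj P ≅ a) := by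
  obtain ⟨P, f, hP, -, hf, -⟩ :=
    KFlatRing.exists_isKFlat_resolution (DerivedCategory.Q.objPreimage a)
  exact ⟨P, hP, ⟨asIso (DerivedCategory.Q.map f) ≪≫ DerivedCategory.Q.objObjPreimageIso a⟩⟩

section

variable {A B C : Type u} [CommRing A] [CommRing B] [CommRing C]
  (φ : A →+* B) (ψ : B →+* C)

/-- A derived mixed tensor product maps a pair of isomorphisms to an isomorphism. -/
lemma isIso_LTenMix_map {R S : Type u} [CommRing R] [CommRing S] (χ : R →+* S) [DTen.HasLTenMix χ]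
    {X X' : Dual.D R} {Y Y' : Dual.D S} (f : X ⟶ X') (g : Y ⟶ Y') [IsIso f] [IsIso g] :
    IsIso ((LTenMix χ).map (Prod.mkHom f g)) := by
  have : IsIso (Prod.mkHom f g : (X, Y) ⟶ (X', Y')) :=
    (isIso_prod_iff _ _).2 ⟨inferInstanceAs (IsIso f), inferInstanceAs (IsIso g)⟩
  infer_instance

variable [DTen.HasLTenMix φ] [DTen.HasLTenMix ψ] [DTen.HasLTenMix (ψ.comp φ)]
  [DTen.HasLTenMix₃ φ ψ]

open Groth.Agent.H53 in
lemma isIso_leg₃L_Q (M : DRing.Cx A) (N : DRing.Cx B) (K : DRing.Cx C)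
    (hM : DRing.IsKFlat A M) (hN : DRing.IsKFlat B N) (hK : DRing.IsKFlat C K) :
    IsIso ((leg₃L φ ψ).app ((QMix₃ A B C).obj (M, (N, K)))) := by
  have hfac := leg₃L_fac φ ψ (M, (N, K))
  have h1 : IsIso ((εMix₃ φ ψ).app (M, (N, K))) := Mix3Comp.isIso_εMix₃ φ ψ M N K hM hN hK
  have h2 : IsIso ((β₃L φ ψ).app (M, (N, K))) := by
    have ha : IsIso ((εMix φ).app (M, N)) := MixComp.isIso_εMix φ M N hM hN
    have hb : IsIso ((εMix ψ).app ((mixT φ).obj (M, N), K)) :=
      MixComp.isIso_εMix ψ _ K (Mix3Comp.isKFlat_mixT φ hM hN) hK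
    have hc := isIso_LTenMix_map ψ ((εMix φ).app (M, N)) (𝟙 (DerivedCategory.Q.obj K))
    change IsIso ((LTenMix ψ).map (Prod.mkHom ((εMix φ).app (M, N)) (𝟙 (DerivedCategory.Q.obj K))) ≫
      (εMix ψ).app ((mixT φ).obj (M, N), K))
    infer_instance
  rw [← hfac] at h2
  exact IsIso.of_isIso_comp_right _ ((εMix₃ φ ψ).app (M, (N, K)))

open Groth.Agent.H53 in
lemma isIso_leg₃R_Q (M : DRing.Cx A) (N : DRing.Cx B) (K : DRing.Cx C)
    (hM : DRing.IsKFlat A M) (hN : DRing.IsKFlat B N) (hK : DRing.IsKFlat C K) :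
    IsIso ((leg₃R φ ψ).app ((QMix₃ A B C).obj (M, (N, K)))) := by
  have hfac := leg₃R_fac φ ψ (M, (N, K))
  have h1 : IsIso ((εMix₃ φ ψ).app (M, (N, K))) := Mix3Comp.isIso_εMix₃ φ ψ M N K hM hN hK
  have h2 : IsIso ((β₃R φ ψ).app (M, (N, K))) := by
    have ha : IsIso ((εMix ψ).app (N, K)) := MixComp.isIso_εMix ψ N K hN hK
    have hb : IsIso ((εMix (ψ.comp φ)).app (M, (mixT ψ).obj (N, K))) :=
      MixComp.isIso_εMix (ψ.comp φ) M _ hM (Mix3Comp.isKFlat_mixT ψ hN hK)
    have hc := isIso_LTenMix_map (ψ.comp φ) (𝟙 (DerivedCategory.Q.obj M)) ((εMix ψ).app (N, K))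
    have hd : IsIso (DerivedCategory.Q.map ((θ₃ φ ψ).inv.app (M, (N, K)))) := inferInstance
    change IsIso ((LTenMix (ψ.comp φ)).map
        (Prod.mkHom (𝟙 (DerivedCategory.Q.obj M)) ((εMix ψ).app (N, K))) ≫
      (εMix (ψ.comp φ)).app (M, (mixT ψ).obj (N, K)) ≫
      DerivedCategory.Q.map ((θ₃ φ ψ).inv.app (M, (N, K))))
    infer_instance
  rw [← hfac] at h2
  exact IsIso.of_isIso_comp_right _ ((εMix₃ φ ψ).app (M, (N, K)))

end

/-- For maps of commutative rings `φ : A → B`, `ψ : B → C` and objects `E` of `D(A)`, `F` of `D(B)`, `G`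
of `D(C)`, the two iterated mixed derived tensor products `(E ⊗^L_A F) ⊗^L_B G` and `E ⊗^L_A (F
⊗^L_B G)` (the latter along the composite `A → C`) agree: both canonical comparison morphisms from
them into the value at `(E, F, G)` of the functor `(M, N, K) ↦ ((M ⊗_A B) ⊗_B N ⊗_B C) ⊗_C K` on
triples of complexes derived jointly in the three variables (the unique morphisms of functors
compatible with the counits) are isomorphisms. This renders the published identification of the
composite functor `(- ⊗^L_A N) ⊗^L_B K` with `- ⊗^L_A (N ⊗^L_B K)`, and the first equality of its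
module case, as the invertibility of two legs into a common target; the remaining identifications of
the module case are not part of this row. (The existence of the mixed derived tensor products along
`φ`, `ψ`, `ψ ∘ φ` and of the jointly derived triple functor are assumed as hypotheses; they hold for
all ring maps.) -/
theorem result (A B C : Type u) [CommRing A] [CommRing B] [CommRing C]
    (φ : A →+* B) (ψ : B →+* C) [DTen.HasLTenMix φ] [DTen.HasLTenMix ψ] [DTen.HasLTenMix (ψ.comp φ)]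
    [DTen.HasLTenMix₃ φ ψ] (E : Dual.D A) (F : Dual.D B) (G : Dual.D C) :
    IsIso ((DTen.leg₃L φ ψ).app (E, (F, G))) ∧ IsIso ((DTen.leg₃R φ ψ).app (E, (F, G))) := by
  obtain ⟨M, hM, ⟨eM⟩⟩ := exists_kflat_model E
  obtain ⟨N, hN, ⟨eN⟩⟩ := exists_kflat_model F
  obtain ⟨K, hK, ⟨eK⟩⟩ := exists_kflat_model G
  let e : (QMix₃ A B C).obj (M, (N, K)) ≅ (E, (F, G)) := Iso.prod eM (Iso.prod eN eK)
  exact ⟨(NatTrans.isIso_app_iff_of_iso (leg₃L φ ψ) e).1 (isIso_leg₃L_Q φ ψ M N K hM hN hK),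
    (NatTrans.isIso_app_iff_of_iso (leg₃R φ ψ) e).1 (isIso_leg₃R_Q φ ψ M N K hM hN hK)⟩

end Groth.Agent.S14268
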