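import Groth.Statements.S14271
import Groth.Agent.H71.OpenSchDominant
import Groth.Agent.H71.SchDominantExt

set_option autoImplicit false
universe u
open FlatPur

namespace Groth.Agent.S14271

open AlgebraicGeometry CategoryTheory CategoryTheory.Limits in
/-- Let X be a scheme and U an open subscheme whose inclusion is quasi-compact, such that for every
point z of X outside U the maximal ideal of O_{X,z} contains an element that is regular (a
nonzerodivisor) on that local ring. Then for every separated X-scheme Y the restriction map from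
X-sections of Y to U-sections of Y is injective: two sections of Y -> X that agree on U are equal. -/
theorem result (X : Scheme.{u}) (U : X.Opens) [QuasiCompact U.ι]
    (hZ : ∀ z : X, z ∉ U → ∃ a ∈ IsLocalRing.maximalIdeal (X.presheaf.stalk z), IsSMulRegular (X.presheaf.stalk z) a)
    (Y : Scheme.{u}) (f : Y ⟶ X) [IsSeparated f] (s₁ s₂ : X ⟶ Y) (h₁ : s₁ ≫ f = 𝟙 X) (h₂ : s₂ ≫ f = 𝟙 X)
    (hU : U.ι ≫ s₁ = U.ι ≫ s₂) : s₁ = s₂ := by
  have : IsSchemeTheoreticallyDominant U.ι :=
    Groth.Agent.H71.isSchemeTheoreticallyDominant_opens_ι X U hZ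
  exact Groth.Agent.H71.ext_of_isSchemeTheoreticallyDominant_of_isSeparated f (h₁.trans h₂.symm)
    U.ι hU

end Groth.Agent.S14271
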