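import Groth.Statements.S14272
import Groth.Agent.H71.Hartogs
import Groth.Agent.H71.SchDominantExt
import Mathlib.AlgebraicGeometry.Morphisms.Affine
import Mathlib.AlgebraicGeometry.Cover.Directed

set_option autoImplicit false
universe u
open FlatPur

namespace Groth.Agent.S14272

open AlgebraicGeometry CategoryTheory CategoryTheory.Limits in
/-- Over an affine open `V` on which restriction to `U` is an isomorphism on sections, a `U`-section
of an affine `X`-scheme extends to a `V`-section. -/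
lemma exists_local_section {X Y : Scheme.{u}} (U : X.Opens) (f : Y ⟶ X) [IsAffineHom f]
    (t : (U : Scheme.{u}) ⟶ Y) (ht : t ≫ f = U.ι) (V : X.Opens) (hV : IsAffineOpen V)
    (hiso : IsIso (U.ι.app V)) :
    ∃ sV : (V : Scheme.{u}) ⟶ Y, sV ≫ f = V.ι ∧
      ∀ (Q : Scheme.{u}) (a : Q ⟶ U) (b : Q ⟶ V), a ≫ U.ι = b ≫ V.ι → b ≫ sV = a ≫ t := by
  have := hiso
  have hA : IsAffineOpen (f ⁻¹ᵁ V) := hV.preimage f
  have e : U.ι ⁻¹ᵁ V ≤ t ⁻¹ᵁ (f ⁻¹ᵁ V) := by
    rw [← Scheme.Hom.comp_preimage, ht]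
  have appLE_congr : ∀ (g₁ g₂ : (U : Scheme.{u}) ⟶ X) (_ : g₁ = g₂) (W : U.toScheme.Opens)
      (h₁ : W ≤ g₁ ⁻¹ᵁ V) (h₂ : W ≤ g₂ ⁻¹ᵁ V), g₁.appLE V W h₁ = g₂.appLE V W h₂ := by
    intro g₁ g₂ h W h₁ h₂; subst h; rfl
  have key : f.app V ≫ t.appLE (f ⁻¹ᵁ V) (U.ι ⁻¹ᵁ V) e = U.ι.app V := by
    rw [Scheme.Hom.app_eq_appLE, Scheme.Hom.appLE_comp_appLE]
    exact (appLE_congr _ _ ht _ _ le_rfl).trans (Scheme.Hom.appLE_eq_app _)
  obtain ⟨φ, hφ1, hφ2⟩ : ∃ φ : Γ(Y, f ⁻¹ᵁ V) ⟶ Γ(X, V), f.app V ≫ φ = 𝟙 _ ∧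
      φ ≫ U.ι.app V = t.appLE (f ⁻¹ᵁ V) (U.ι ⁻¹ᵁ V) e :=
    ⟨t.appLE (f ⁻¹ᵁ V) (U.ι ⁻¹ᵁ V) e ≫ inv (U.ι.app V),
      by rw [← Category.assoc, key, IsIso.hom_inv_id],
      by rw [Category.assoc, IsIso.inv_hom_id, Category.comp_id]⟩
  have star : (U.ι ∣_ V) ≫ V.toSpecΓ ≫ Spec.map φ ≫ hA.fromSpec = (U.ι ⁻¹ᵁ V).ι ≫ t := by
    rw [← Scheme.Opens.toSpecΓ_naturality_assoc, ← Spec.map_comp_assoc, hφ2,
      Scheme.Opens.toSpecΓ_SpecMap_appLE_assoc, hA.toSpecΓ_fromSpec, Scheme.Hom.resLE_comp_ι]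
  refine ⟨V.toSpecΓ ≫ Spec.map φ ≫ hA.fromSpec, ?_, ?_⟩
  · have h1 : f.appLE V (f ⁻¹ᵁ V) le_rfl ≫ φ = 𝟙 _ := by
      rw [Scheme.Hom.appLE_eq_app, hφ1]
    rw [Category.assoc, Category.assoc, ← IsAffineOpen.SpecMap_appLE_fromSpec f hV hA le_rfl,
      ← Spec.map_comp_assoc, h1, Spec.map_id, Category.id_comp, hV.toSpecΓ_fromSpec]
  · intro Q a b h
    have hP := isPullback_morphismRestrict U.ι V
    have e1 : hP.lift b a h.symm ≫ (U.ι ∣_ V) = b := hP.lift_fst _ _ _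
    have e2 : hP.lift b a h.symm ≫ (U.ι ⁻¹ᵁ V).ι = a := hP.lift_snd _ _ _
    calc b ≫ V.toSpecΓ ≫ Spec.map φ ≫ hA.fromSpec
        = (hP.lift b a h.symm ≫ (U.ι ∣_ V)) ≫ V.toSpecΓ ≫ Spec.map φ ≫ hA.fromSpec := by rw [e1]
      _ = hP.lift b a h.symm ≫ ((U.ι ⁻¹ᵁ V).ι ≫ t) := by rw [Category.assoc, star]
      _ = a ≫ t := by rw [← Category.assoc, e2]

open AlgebraicGeometry CategoryTheory CategoryTheory.Limits in
/-- Let X be a scheme and U an open subscheme whose inclusion is quasi-compact, such that for every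
point z of X outside U the maximal ideal of O_{X,z} contains two elements forming a weakly regular
sequence on that local ring. Then for every X-scheme Y that is affine and of finite presentation
over X, the restriction map from X-sections of Y to U-sections of Y is bijective: every morphism U
-> Y over X extends uniquely to a section X -> Y. -/
theorem result (X : Scheme.{u}) (U : X.Opens) [QuasiCompact U.ι]
    (hZ : ∀ z : X, z ∉ U → ∃ a b : X.presheaf.stalk z, a ∈ IsLocalRing.maximalIdeal (X.presheaf.stalk z) ∧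
      b ∈ IsLocalRing.maximalIdeal (X.presheaf.stalk z) ∧ RingTheory.Sequence.IsWeaklyRegular (X.presheaf.stalk z) [a, b])
    (Y : Scheme.{u}) (f : Y ⟶ X) [IsAffineHom f] [LocallyOfFinitePresentation f]
    (t : (U : Scheme.{u}) ⟶ Y) (ht : t ≫ f = U.ι) :
    ∃! s : X ⟶ Y, s ≫ f = 𝟙 X ∧ U.ι ≫ s = t := by
  have hZ1 : ∀ z : X, z ∉ U → ∃ a ∈ IsLocalRing.maximalIdeal (X.presheaf.stalk z),
      IsSMulRegular (X.presheaf.stalk z) a := by
    intro z hz
    obtain ⟨a, b, ha, -, hab⟩ := hZ z hz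
    exact ⟨a, ha, ((RingTheory.Sequence.isWeaklyRegular_cons_iff _ a [b]).mp hab).1⟩
  have hdom : IsSchemeTheoreticallyDominant U.ι :=
    Groth.Agent.H71.isSchemeTheoreticallyDominant_opens_ι X U hZ1
  have hiso : ∀ V : X.affineOpens, IsIso (U.ι.app V.1) := fun V =>
    (ConcreteCategory.isIso_iff_bijective _).mpr
      (Groth.Agent.H71.opens_ι_app_bijective_of_regularSeq_two X U hZ V.1 V.2)
  choose sV hsV hK using fun V : X.affineOpens =>
    exists_local_section U f t ht V.1 V.2 (hiso V)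
  have compat : ∀ V V' : X.affineOpens,
      pullback.fst V.1.ι V'.1.ι ≫ sV V = pullback.snd V.1.ι V'.1.ι ≫ sV V' := by
    intro V V'
    refine Groth.Agent.H71.ext_of_isSchemeTheoreticallyDominant_of_isSeparated f ?_
      (pullback.snd U.ι (pullback.fst V.1.ι V'.1.ι ≫ V.1.ι)) ?_
    · rw [Category.assoc, Category.assoc, hsV, hsV, pullback.condition]
    · have h1 := hK V _ (pullback.fst U.ι (pullback.fst V.1.ι V'.1.ι ≫ V.1.ι))
        (pullback.snd U.ι (pullback.fst V.1.ι V'.1.ι ≫ V.1.ι) ≫ pullback.fst V.1.ι V'.1.ι)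
        (by rw [Category.assoc]; exact pullback.condition)
      have h2 := hK V' _ (pullback.fst U.ι (pullback.fst V.1.ι V'.1.ι ≫ V.1.ι))
        (pullback.snd U.ι (pullback.fst V.1.ι V'.1.ι ≫ V.1.ι) ≫ pullback.snd V.1.ι V'.1.ι)
        (by rw [Category.assoc, ← pullback.condition]; exact pullback.condition)
      rw [← Category.assoc, ← Category.assoc, h1, h2]
  let s : X ⟶ Y := X.directedAffineCover.glueMorphisms sV compat
  have hglue : ∀ V : X.affineOpens, V.1.ι ≫ s = sV V := fun V =>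
    X.directedAffineCover.ι_glueMorphisms sV compat V
  have hs1 : s ≫ f = 𝟙 X := by
    refine X.directedAffineCover.hom_ext _ _ fun (V : X.affineOpens) => ?_
    change V.1.ι ≫ s ≫ f = V.1.ι ≫ 𝟙 X
    rw [← Category.assoc, hglue, hsV, Category.comp_id]
  have hs2 : U.ι ≫ s = t := by
    refine Scheme.Cover.hom_ext (X.directedAffineCover.pullback₁ U.ι) _ _
      fun (V : X.affineOpens) => ?_
    change pullback.fst U.ι V.1.ι ≫ U.ι ≫ s = pullback.fst U.ι V.1.ι ≫ t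
    rw [pullback.condition_assoc, hglue]
    exact hK V _ _ _ pullback.condition
  refine ⟨s, ⟨hs1, hs2⟩, ?_⟩
  rintro s' ⟨h1, h2⟩
  exact Groth.Agent.H71.ext_of_isSchemeTheoreticallyDominant_of_isSeparated f
    (h1.trans hs1.symm) U.ι (h2.trans hs2.symm)

end Groth.Agent.S14272
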