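import Groth.Statements.S14275
import Mathlib
-- import your own Groth.Agent.* helpers here

set_option autoImplicit false
universe u
open CAlg

namespace Groth.Agent.S14275

section General

variable {R : Type u} [CommRing R] (I : Ideal R)
variable {M' M M'' : Type u} [AddCommGroup M'] [Module R M'] [AddCommGroup M] [Module R M]
  [AddCommGroup M''] [Module R M'']

/-- An Artin–Rees type condition with uniform shift `N`. -/
def AR (f : M' →ₗ[R] M) (N : ℕ) : Prop :=
  ∀ n (y : M'), f y ∈ (I ^ (n + N) • ⊤ : Submodule R M) → y ∈ (I ^ n • ⊤ : Submodule R M')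

lemma map_injective_of_AR (f : M' →ₗ[R] M) (N : ℕ) (h : AR I f N) :
    Function.Injective (AdicCompletion.map I f) := by
  rw [← LinearMap.ker_eq_bot, LinearMap.ker_eq_bot']
  intro x
  apply AdicCompletion.induction_on I M' x (fun a ↦ ?_)
  intro hx
  refine AdicCompletion.mk_zero_of _ _ _ ⟨0, fun n _ ↦ ⟨n + N, by omega, n, le_rfl, ?_⟩⟩
  apply h n
  have := congrArg (fun x ↦ x.val (n + N)) hx
  simpa using this

lemma map_exact_of_AR (f : M' →ₗ[R] M) (g : M →ₗ[R] M'') (N : ℕ) (h : AR I f N)
    (hfg : Function.Exact f g) (hg : Function.Surjective g) :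
    Function.Exact (AdicCompletion.map I f) (AdicCompletion.map I g) := by
  refine LinearMap.exact_of_comp_eq_zero_of_ker_le_range ?_ (fun y ↦ ?_)
  · rw [AdicCompletion.map_comp, hfg.linearMap_comp_eq_zero, AdicCompletion.map_zero]
  · apply AdicCompletion.induction_on I M y (fun b ↦ ?_)
    intro hz
    have hb (n : ℕ) : g (b n) ∈ (I ^ n • ⊤ : Submodule R M'') := by
      simpa using congrArg (fun x ↦ x.val n) hz
    have h1 (n : ℕ) : ∃ (d : M) (x : M'), d ∈ (I ^ n • ⊤ : Submodule R M) ∧ f x = b n - d := by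
      have : g (b n) ∈ Submodule.map g (I ^ n • ⊤ : Submodule R M) := by
        rw [Submodule.map_smul'', Submodule.map_top, LinearMap.range_eq_top.mpr hg]
        exact hb n
      obtain ⟨d, hdmem, hd⟩ := this
      obtain ⟨x, hx⟩ := (hfg (b n - d)).mp (by simp [hd])
      exact ⟨d, x, hdmem, hx⟩
    choose d x hd hx using h1
    have hbc : ∀ m n, m ≤ n → b n - b m ∈ (I ^ m • ⊤ : Submodule R M) := by
      intro m n hmn
      rw [← SModEq.sub_mem]
      exact (b.property hmn).symm
    have hcauchy : ∀ n, x (n + N) ≡ x (n + 1 + N) [SMOD (I ^ n • ⊤ : Submodule R M')] := by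
      intro n
      rw [SModEq.sub_mem]
      apply h n
      rw [map_sub, hx, hx]
      have e : b (n + N) - d (n + N) - (b (n + 1 + N) - d (n + 1 + N)) =
          -(b (n + 1 + N) - b (n + N)) - d (n + N) + d (n + 1 + N) := by abel
      rw [e]
      refine Submodule.add_mem _ (Submodule.sub_mem _ (Submodule.neg_mem _ ?_) (hd _)) ?_
      · exact hbc _ _ (by omega)
      · exact Submodule.smul_mono_left (Ideal.pow_le_pow_right (by omega)) (hd _)
    refine ⟨AdicCompletion.mk I M'
      (AdicCompletion.AdicCauchySequence.mk I M' (fun n ↦ x (n + N)) hcauchy), ?_⟩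
    ext n
    rw [AdicCompletion.map_mk]
    simp only [AdicCompletion.mk_apply_coe, Submodule.mkQ_apply]
    rw [Submodule.Quotient.eq]
    change f (x (n + N)) - b n ∈ _
    rw [hx]
    have e : b (n + N) - d (n + N) - b n = (b (n + N) - b n) - d (n + N) := by abel
    rw [e]
    refine Submodule.sub_mem _ (hbc _ _ (by omega)) ?_
    exact Submodule.smul_mono_left (Ideal.pow_le_pow_right (by omega)) (hd _)

lemma mem_span_pow_smul_top_iff (a : R) (n : ℕ) (x : M) :
    x ∈ ((Ideal.span {a}) ^ n • ⊤ : Submodule R M) ↔ ∃ m : M, a ^ n • m = x := by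
  rw [Ideal.span_singleton_pow, Submodule.ideal_span_singleton_smul,
    Submodule.mem_smul_pointwise_iff_exists]
  simp

lemma AR_of_bounded (a : R) (f : M' →ₗ[R] M) (g : M →ₗ[R] M'') (hf : Function.Injective f)
    (hfg : Function.Exact f g) (N : ℕ)
    (hN : ∀ x : M'', (∃ m : ℕ, a ^ m • x = 0) → a ^ N • x = 0) :
    AR (Ideal.span {a}) f N := by
  intro n y hy
  rw [mem_span_pow_smul_top_iff] at hy ⊢
  obtain ⟨m, hm⟩ := hy
  have h1 : a ^ (n + N) • g m = 0 := by
    rw [← map_smul, hm]
    exact hfg.apply_apply_eq_zero y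
  have h2 : a ^ N • g m = 0 := hN _ ⟨_, h1⟩
  obtain ⟨y', hy'⟩ := (hfg (a ^ N • m)).mp (by rw [map_smul, h2])
  refine ⟨y', hf ?_⟩
  rw [map_smul, hy', ← hm, smul_smul, ← pow_add]

lemma map_lsmul (r : R) (x : AdicCompletion I M) :
    AdicCompletion.map I (LinearMap.lsmul R M r) x = r • x := by
  apply AdicCompletion.induction_on I M x (fun b ↦ ?_)
  rw [AdicCompletion.map_mk, ← map_smul]
  congr 1

end General


section Ring

open RingTheory.Sequence

variable {A : Type u} [CommRing A] (a : A)

/-- The projection from the completion of `A` to the completion of `A ⧸ J`. -/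
noncomputable abbrev proj (J : Ideal A) :
    AdicCompletion (Ideal.span ({a} : Set A)) A →ₗ[AdicCompletion (Ideal.span ({a} : Set A)) A]
      AdicCompletion (Ideal.span ({a} : Set A)) (A ⧸ J) :=
  AdicCompletion.map (Ideal.span ({a} : Set A)) J.mkQ

/-- The kernel property. -/
def P (J : Ideal A) : Prop :=
  LinearMap.ker (proj a J) = J.map (algebraMap A (AdicCompletion (Ideal.span ({a} : Set A)) A))

lemma proj_surjective (J : Ideal A) : Function.Surjective (proj a J) :=
  AdicCompletion.map_surjective _ (Submodule.mkQ_surjective _)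

lemma algebraMap_smul' {M : Type u} [AddCommGroup M] [Module A M] (r : A)
    (x : AdicCompletion (Ideal.span ({a} : Set A)) M) :
    (algebraMap A (AdicCompletion (Ideal.span ({a} : Set A)) A) r) • x = r • x := by
  rw [Algebra.algebraMap_eq_smul_one, smul_assoc, one_smul]

lemma P_bot : P a (⊥ : Ideal A) := by
  unfold P
  rw [Ideal.map_bot]
  rw [LinearMap.ker_eq_bot]
  let e : A ≃ₗ[A] A ⧸ (⊥ : Ideal A) := (Submodule.quotEquivOfEqBot (⊥ : Submodule A A) rfl).symm
  have h1 : e.symm.toLinearMap ∘ₗ (⊥ : Ideal A).mkQ = LinearMap.id := by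
    ext
    exact Submodule.quotEquivOfEqBot_apply_mk (⊥ : Submodule A A) rfl (1 : A)
  have h2 : (AdicCompletion.map (Ideal.span ({a} : Set A)) e.symm.toLinearMap) ∘ₗ
      (AdicCompletion.map (Ideal.span ({a} : Set A)) (⊥ : Ideal A).mkQ) = LinearMap.id := by
    rw [AdicCompletion.map_comp, h1, AdicCompletion.map_id]
  intro x y hxy
  have := congrArg (AdicCompletion.map (Ideal.span ({a} : Set A)) e.symm.toLinearMap) hxy
  have hx := LinearMap.congr_fun h2 x
  have hy := LinearMap.congr_fun h2 y
  simp only [LinearMap.comp_apply, LinearMap.id_apply] at hx hy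
  rw [← hx, ← hy]
  exact this

lemma step (J : Ideal A) (r : A) (hP : P a J) (hr : IsSMulRegular (A ⧸ J) r) (N : ℕ)
    (hN : ∀ x : A ⧸ (J ⊔ Ideal.span {r}), (∃ m : ℕ, a ^ m • x = 0) → a ^ N • x = 0) :
    P a (J ⊔ Ideal.span {r}) ∧
      IsSMulRegular (AdicCompletion (Ideal.span ({a} : Set A)) (A ⧸ J)) r := by
  set J' := J ⊔ Ideal.span {r} with hJ'
  have hle : J ≤ J' := le_sup_left
  let f : (A ⧸ J) →ₗ[A] (A ⧸ J) := LinearMap.lsmul A (A ⧸ J) r
  let g : (A ⧸ J) →ₗ[A] (A ⧸ J') := Submodule.mapQ J J' LinearMap.id (by simpa using hle)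
  have hf : Function.Injective f := hr
  have hg : Function.Surjective g := by
    intro y
    obtain ⟨t, rfl⟩ := Submodule.Quotient.mk_surjective _ y
    exact ⟨Submodule.Quotient.mk t, rfl⟩
  have hfg : Function.Exact f g := by
    intro y
    obtain ⟨t, rfl⟩ := Submodule.Quotient.mk_surjective _ y
    constructor
    · intro h
      have ht : t ∈ J' := by
        have : (Submodule.Quotient.mk t : A ⧸ J') = 0 := h
        rwa [Submodule.Quotient.mk_eq_zero] at this
      obtain ⟨j, hj, s, hs, rfl⟩ := Submodule.mem_sup.mp ht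
      obtain ⟨c, rfl⟩ := Ideal.mem_span_singleton'.mp hs
      refine ⟨Submodule.Quotient.mk c, ?_⟩
      change r • (Submodule.Quotient.mk c : A ⧸ J) = _
      rw [← Submodule.Quotient.mk_smul, Submodule.Quotient.eq]
      have : r • c - (j + c * r) = -j := by simp [mul_comm]
      rw [this]
      exact J.neg_mem hj
    · rintro ⟨z, hz⟩
      obtain ⟨c, rfl⟩ := Submodule.Quotient.mk_surjective _ z
      rw [← hz]
      change g (r • (Submodule.Quotient.mk c : A ⧸ J)) = 0
      rw [map_smul]
      change r • (Submodule.Quotient.mk c : A ⧸ J') = 0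
      rw [← Submodule.Quotient.mk_smul, Submodule.Quotient.mk_eq_zero]
      exact Ideal.mul_mem_right _ _ (Ideal.mem_sup_right (Ideal.mem_span_singleton_self r))
  have hAR : AR (Ideal.span ({a} : Set A)) f N := AR_of_bounded a f g hf hfg N hN
  have hinj := map_injective_of_AR (Ideal.span ({a} : Set A)) f N hAR
  have hex := map_exact_of_AR (Ideal.span ({a} : Set A)) f g N hAR hfg hg
  have hreg : IsSMulRegular (AdicCompletion (Ideal.span ({a} : Set A)) (A ⧸ J)) r := by
    intro x y hxy
    apply hinj
    rw [map_lsmul, map_lsmul]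
    exact hxy
  refine ⟨?_, hreg⟩
  have hcomp : J'.mkQ = g ∘ₗ J.mkQ := by
    ext
    rfl
  have hproj : ∀ x, proj a J' x =
      AdicCompletion.map (Ideal.span ({a} : Set A)) g (proj a J x) := by
    intro x
    change AdicCompletion.map (Ideal.span ({a} : Set A)) J'.mkQ x = _
    rw [hcomp, ← AdicCompletion.map_comp_apply]
    rfl
  unfold P
  rw [Ideal.map_sup, Ideal.map_span, Set.image_singleton]
  apply le_antisymm
  · intro x hx
    rw [LinearMap.mem_ker, hproj] at hx
    obtain ⟨z, hz⟩ := (hex _).mp hx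
    obtain ⟨w, rfl⟩ := proj_surjective a J z
    rw [map_lsmul, ← algebraMap_smul' a r, ← map_smul] at hz
    have h3 : x - (algebraMap A (AdicCompletion (Ideal.span ({a} : Set A)) A) r) • w ∈
        LinearMap.ker (proj a J) := by
      rw [LinearMap.mem_ker, map_sub, hz, sub_self]
    rw [hP] at h3
    have h4 : x = (x - (algebraMap A (AdicCompletion (Ideal.span ({a} : Set A)) A) r) • w) +
        (algebraMap A (AdicCompletion (Ideal.span ({a} : Set A)) A) r) • w := by abel
    rw [h4]
    refine Submodule.add_mem_sup h3 ?_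
    rw [smul_eq_mul]
    exact Ideal.mul_mem_right _ _ (Ideal.mem_span_singleton_self _)
  · refine sup_le ?_ ?_
    · rw [← hP]
      intro x hx
      rw [LinearMap.mem_ker] at hx ⊢
      rw [hproj, hx, map_zero]
    · rw [Ideal.span_le, Set.singleton_subset_iff, SetLike.mem_coe, LinearMap.mem_ker, hproj]
      have h5 : (algebraMap A (AdicCompletion (Ideal.span ({a} : Set A)) A) r) =
          (algebraMap A (AdicCompletion (Ideal.span ({a} : Set A)) A) r) • (1 : AdicCompletion (Ideal.span ({a} : Set A)) A) := by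
        rw [smul_eq_mul, mul_one]
      rw [h5, map_smul, algebraMap_smul', ← map_lsmul]
      exact hex.apply_apply_eq_zero _


lemma both (rs : List A) (hreg : IsWeaklyRegular A rs)
    (hbd : ∀ i ≤ rs.length, ∃ N : ℕ, ∀ x : A ⧸ Ideal.ofList (rs.take i),
      (∃ m : ℕ, a ^ m • x = 0) → a ^ N • x = 0) :
    ∀ i, (hi : i ≤ rs.length) → P a (Ideal.ofList (rs.take i)) ∧
      ∀ hi' : i < rs.length,
        IsSMulRegular (AdicCompletion (Ideal.span ({a} : Set A)) (A ⧸ Ideal.ofList (rs.take i))) rs[i] := by
  intro i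
  have key : ∀ i, (hi' : i < rs.length) → P a (Ideal.ofList (rs.take i)) →
      P a (Ideal.ofList (rs.take (i + 1))) ∧
      IsSMulRegular (AdicCompletion (Ideal.span ({a} : Set A)) (A ⧸ Ideal.ofList (rs.take i))) rs[i] := by
    intro i hi' hP
    have hJ : Ideal.ofList (rs.take (i + 1)) = Ideal.ofList (rs.take i) ⊔ Ideal.span {rs[i]} := by
      rw [List.take_succ_eq_append_getElem hi', Ideal.ofList_append, Ideal.ofList_singleton]
    obtain ⟨N, hN⟩ := hbd (i + 1) hi'
    rw [hJ] at hN ⊢
    have e : (Ideal.ofList (rs.take i) • ⊤ : Submodule A A) = Ideal.ofList (rs.take i) := by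
      rw [smul_eq_mul, Ideal.mul_top]
    have hr : IsSMulRegular (A ⧸ Ideal.ofList (rs.take i)) rs[i] :=
      ((Submodule.quotEquivOfEq _ _ e).isSMulRegular_congr rs[i]).mp
        (hreg.regular_mod_prev i hi')
    exact step a _ rs[i] hP hr N hN
  induction i with
  | zero =>
    intro _
    have h0 : P a (Ideal.ofList (rs.take 0)) := by
      rw [List.take_zero, Ideal.ofList_nil]
      exact P_bot a
    exact ⟨h0, fun hi' => (key 0 hi' h0).2⟩
  | succ i ih =>
    intro hi
    have hi' : i < rs.length := hi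
    have hP := (ih hi'.le).1
    have h1 := (key i hi' hP).1
    exact ⟨h1, fun hi'' => (key (i + 1) hi'' h1).2⟩

end Ring

open RingTheory.Sequence in
/-- Let A be a commutative ring, a an element of A with a-adic completion A^, and a_1, ..., a_n a weakly
regular sequence on A such that for each i = 0, ..., n the quotient A/(a_1, ..., a_i) has bounded
a-power torsion (some fixed power of a kills every element killed by a power of a). Then the images
of a_1, ..., a_n form a weakly regular sequence on A^, and the canonical map from A^ to the a-adic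
completion of A/(a_1, ..., a_n) is surjective with kernel the ideal generated by the images of a_1,
..., a_n. -/
theorem result (A : Type u) [CommRing A] (a : A) (rs : List A)
    (hreg : IsWeaklyRegular A rs)
    (hbd : ∀ i ≤ rs.length, ∃ N : ℕ, ∀ x : A ⧸ Ideal.ofList (rs.take i), (∃ m : ℕ, a ^ m • x = 0) → a ^ N • x = 0) :
    IsWeaklyRegular (AdicCompletion (Ideal.span {a}) A)
        (rs.map (algebraMap A (AdicCompletion (Ideal.span {a}) A))) ∧
      Function.Surjective (AdicCompletion.map (Ideal.span {a}) (Ideal.ofList rs).mkQ) ∧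
      LinearMap.ker (AdicCompletion.map (Ideal.span {a}) (Ideal.ofList rs).mkQ) =
        (Ideal.ofList rs).map (algebraMap A (AdicCompletion (Ideal.span {a}) A)) := by
  have hboth := both a rs hreg hbd
  refine ⟨⟨fun i hi => ?_⟩, proj_surjective a _, ?_⟩
  · have hi' : i < rs.length := by simpa using hi
    obtain ⟨hP, hr⟩ := hboth i hi'.le
    have hr := hr hi'
    set φ := algebraMap A (AdicCompletion (Ideal.span {a}) A) with hφ
    set K : Submodule (AdicCompletion (Ideal.span {a}) A) (AdicCompletion (Ideal.span {a}) A) :=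
      (Ideal.ofList ((rs.map φ).take i) • (⊤ : Submodule (AdicCompletion (Ideal.span {a}) A) (AdicCompletion (Ideal.span {a}) A))) with hKdef
    have hK : K = LinearMap.ker (proj a (Ideal.ofList (rs.take i))) := by
      rw [hP, hKdef, smul_eq_mul, Ideal.mul_top, ← List.map_take, Ideal.map_ofList]
    let ι := K.liftQ (proj a (Ideal.ofList (rs.take i))) (le_of_eq hK)
    have hι : Function.Injective ι := by
      rw [← LinearMap.ker_eq_bot]
      exact Submodule.ker_liftQ_eq_bot _ _ _ (le_of_eq hK.symm)
    rw [List.getElem_map]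
    intro x y hxy
    apply hι
    apply hr
    have hx : ι (φ rs[i] • x) = rs[i] • ι x := by rw [map_smul, algebraMap_smul']
    have hy : ι (φ rs[i] • y) = rs[i] • ι y := by rw [map_smul, algebraMap_smul']
    change rs[i] • ι x = rs[i] • ι y
    rw [← hx, ← hy]
    exact congrArg ι hxy
  · have := (hboth rs.length le_rfl).1
    rw [List.take_length] at this
    exact this

end Groth.Agent.S14275
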