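import Groth.Statements.S14276
import Groth.Agent.H40.FpqcFam
import Groth.Agent.S0412
import Mathlib.AlgebraicGeometry.Morphisms.LocalFlatDescent

set_option autoImplicit false
universe u
open CategoryTheory AlgebraicGeometry
open NonAbH1

namespace Groth.Agent.S14276

set_option backward.isDefEq.respectTransparency.types false in
/-- Let X be a scheme and G a group scheme over X which is smooth over X. Then every G-torsor for the
fppf topology is locally trivial for the étale topology on X. Here a torsor is an X-scheme with an
action of G which is a pseudo-torsor and acquires sections on the members of some fppf covering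
family of X, and the conclusion says that it acquires sections on the members of some étale covering
family of X. (The published statement is about torsors in the sense of fppf sheaves; this row states
it for torsors that are schemes.) -/
theorem result {X : Scheme.{u}}
    (G : Over X) [GrpObj G] [Smooth G.hom] (P : Over X) (a : AlgGrp.Action G P)
    (h : NonAbH1.IsTorsorFor Scheme.fppfPrecoverage a) :
    NonAbH1.IsLocallyTrivialFor Scheme.etalePrecoverage P := by
  open Groth.Agent.H40.FpqcFam in
  have hq : NonAbH1.IsTorsorFor Scheme.fpqcPrecoverage a := by
    obtain ⟨hps, R, hR, hsec⟩ := h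
    exact ⟨hps, R, Scheme.fppfPrecoverage_le_fpqcPrecoverage X hR, hsec⟩
  have hsurj : Surjective G.hom := by
    constructor
    intro x
    refine ⟨(MonObj.one : MonoidalCategoryStruct.tensorUnit (Over X) ⟶ G).left x, ?_⟩
    rw [← Scheme.Hom.comp_apply,
      Over.w (MonObj.one : MonoidalCategoryStruct.tensorUnit (Over X) ⟶ G)]
    rfl
  have h1 : Surjective P.hom :=
    transfer (@Surjective : MorphismProperty Scheme.{u}) inferInstance hq hsurj
  have h2 : Smooth P.hom :=
    transfer (@Smooth : MorphismProperty Scheme.{u}) inferInstance hq inferInstance
  have key := fun s : X => Groth.Agent.S0412.result P.hom s (h1.surj s)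
  choose S' g s' hg hs hsec using key
  refine ⟨Presieve.ofArrows S' g, ?_, ?_⟩
  · unfold Scheme.etalePrecoverage
    rw [Scheme.ofArrows_mem_precoverage_iff]
    exact ⟨fun x => ⟨x, s' x, hs x⟩, hg⟩
  · rintro T f ⟨i⟩
    exact hsec i

end Groth.Agent.S14276
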