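import Groth.Statements.S14292
import Mathlib
-- import your own Groth.Agent.* helpers here

set_option autoImplicit false
universe u
open EllLift

namespace Groth.Agent.S14292


open Polynomial WeierstrassCurve

/-! ### Étale neighbourhoods -/

/-- The conclusion of the theorem, as a predicate. -/
def Good (A : Type u) [CommRing A] (p : PrimeSpectrum A) (W₁ W₂ : WeierstrassCurve A) : Prop :=
  ∃ (B : Type u) (_ : CommRing B) (_ : Algebra A B), Algebra.Etale A B ∧
    p ∈ Set.range (PrimeSpectrum.comap (algebraMap A B)) ∧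
    ∃ C : WeierstrassCurve.VariableChange B,
      C • (W₁.map (algebraMap A B)) = W₂.map (algebraMap A B)

/-- Étale-local normalisation to the form `y² + xy = x³ + a₂x² + a₆`. -/
def Nrm (A : Type u) [CommRing A] (p : PrimeSpectrum A) (W : WeierstrassCurve A) : Prop :=
  ∃ (B : Type u) (_ : CommRing B) (_ : Algebra A B), Algebra.Etale A B ∧
    p ∈ Set.range (PrimeSpectrum.comap (algebraMap A B)) ∧
    ∃ C : WeierstrassCurve.VariableChange B,
      (C • (W.map (algebraMap A B))).a₁ = 1 ∧ (C • (W.map (algebraMap A B))).a₃ = 0 ∧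
        (C • (W.map (algebraMap A B))).a₄ = 0

theorem good_base {A : Type u} [CommRing A] {p : PrimeSpectrum A} {W₁ W₂ : WeierstrassCurve A}
    (A' : Type u) [CommRing A'] [Algebra A A'] [Algebra.Etale A A'] (p' : PrimeSpectrum A')
    (hp' : PrimeSpectrum.comap (algebraMap A A') p' = p)
    (h : Good A' p' (W₁.map (algebraMap A A')) (W₂.map (algebraMap A A'))) : Good A p W₁ W₂ := by
  obtain ⟨B, iB, aB, hE, ⟨q, hq⟩, C, hC⟩ := h
  letI : Algebra A B := ((algebraMap A' B).comp (algebraMap A A')).toAlgebra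
  haveI : IsScalarTower A A' B := IsScalarTower.of_algebraMap_eq (fun _ => rfl)
  refine ⟨B, iB, inferInstance, Algebra.Etale.comp A A' B, ⟨q, ?_⟩, C, ?_⟩
  · show PrimeSpectrum.comap ((algebraMap A' B).comp (algebraMap A A')) q = p
    rw [PrimeSpectrum.comap_comp_apply, hq, hp']
  · rw [WeierstrassCurve.map_map, WeierstrassCurve.map_map] at hC
    exact hC

theorem nrm_base {A : Type u} [CommRing A] {p : PrimeSpectrum A} {W : WeierstrassCurve A}
    (A' : Type u) [CommRing A'] [Algebra A A'] [Algebra.Etale A A'] (p' : PrimeSpectrum A')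
    (hp' : PrimeSpectrum.comap (algebraMap A A') p' = p)
    (h : Nrm A' p' (W.map (algebraMap A A'))) : Nrm A p W := by
  obtain ⟨B, iB, aB, hE, ⟨q, hq⟩, C, hC⟩ := h
  letI : Algebra A B := ((algebraMap A' B).comp (algebraMap A A')).toAlgebra
  haveI : IsScalarTower A A' B := IsScalarTower.of_algebraMap_eq (fun _ => rfl)
  refine ⟨B, iB, inferInstance, Algebra.Etale.comp A A' B, ⟨q, ?_⟩, C, ?_⟩
  · show PrimeSpectrum.comap ((algebraMap A' B).comp (algebraMap A A')) q = p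
    rw [PrimeSpectrum.comap_comp_apply, hq, hp']
  · rw [WeierstrassCurve.map_map] at hC
    exact hC

theorem good_smul_left {A : Type u} [CommRing A] {p : PrimeSpectrum A}
    {W₁ W₂ : WeierstrassCurve A} (C₁ : VariableChange A) (h : Good A p (C₁ • W₁) W₂) :
    Good A p W₁ W₂ := by
  obtain ⟨B, iB, aB, hE, hq, C, hC⟩ := h
  refine ⟨B, iB, aB, hE, hq, C * C₁.map (algebraMap A B), ?_⟩
  rw [mul_smul, map_variableChange]
  exact hC

theorem nrm_smul {A : Type u} [CommRing A] {p : PrimeSpectrum A} {W : WeierstrassCurve A}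
    (C₁ : VariableChange A) (h : Nrm A p (C₁ • W)) : Nrm A p W := by
  obtain ⟨B, iB, aB, hE, hq, C, hC⟩ := h
  refine ⟨B, iB, aB, hE, hq, C * C₁.map (algebraMap A B), ?_⟩
  rw [mul_smul, map_variableChange]
  exact hC

theorem good_symm {A : Type u} [CommRing A] {p : PrimeSpectrum A} {W₁ W₂ : WeierstrassCurve A}
    (h : Good A p W₁ W₂) : Good A p W₂ W₁ := by
  obtain ⟨B, iB, aB, hE, hq, C, hC⟩ := h
  refine ⟨B, iB, aB, hE, hq, C⁻¹, ?_⟩
  rw [← hC, inv_smul_smul]

theorem good_smul_right {A : Type u} [CommRing A] {p : PrimeSpectrum A}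
    {W₁ W₂ : WeierstrassCurve A} (C₂ : VariableChange A) (h : Good A p W₁ (C₂ • W₂)) :
    Good A p W₁ W₂ :=
  good_symm (good_smul_left C₂ (good_symm h))

theorem good_localize {A : Type u} [CommRing A] {p : PrimeSpectrum A}
    {W₁ W₂ : WeierstrassCurve A} (g : A) (hg : g ∉ p.asIdeal)
    (h : ∀ p' : PrimeSpectrum (Localization.Away g),
      Good (Localization.Away g) p' (W₁.map (algebraMap A (Localization.Away g)))
        (W₂.map (algebraMap A (Localization.Away g)))) : Good A p W₁ W₂ := by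
  have hmem : p ∈ Set.range (PrimeSpectrum.comap (algebraMap A (Localization.Away g))) := by
    rw [PrimeSpectrum.localization_away_comap_range (Localization.Away g) g]
    exact (PrimeSpectrum.mem_basicOpen g p).mpr hg
  obtain ⟨p', hp'⟩ := hmem
  haveI : Algebra.Etale A (Localization.Away g) := Algebra.Etale.of_isLocalizationAway g
  exact good_base (Localization.Away g) p' hp' (h p')

theorem nrm_localize {A : Type u} [CommRing A] {p : PrimeSpectrum A} {W : WeierstrassCurve A}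
    (g : A) (hg : g ∉ p.asIdeal)
    (h : ∀ p' : PrimeSpectrum (Localization.Away g),
      Nrm (Localization.Away g) p' (W.map (algebraMap A (Localization.Away g)))) : Nrm A p W := by
  have hmem : p ∈ Set.range (PrimeSpectrum.comap (algebraMap A (Localization.Away g))) := by
    rw [PrimeSpectrum.localization_away_comap_range (Localization.Away g) g]
    exact (PrimeSpectrum.mem_basicOpen g p).mpr hg
  obtain ⟨p', hp'⟩ := hmem
  haveI : Algebra.Etale A (Localization.Away g) := Algebra.Etale.of_isLocalizationAway g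
  exact nrm_base (Localization.Away g) p' hp' (h p')

/-! ### Quadratic standard étale algebras -/

/-- The standard étale pair `(X² + bX + c, X)` when the discriminant `b² - 4c` is a unit. -/
noncomputable def quadPair {A : Type u} [CommRing A] (b c e : A)
    (he : e * (b ^ 2 - 4 * c) = 1) : StandardEtalePair A where
  f := X ^ 2 + (C b * X + C c)
  monic_f := monic_X_pow_add (lt_of_le_of_lt degree_linear_le
    (by exact_mod_cast (one_lt_two : (1 : ℕ) < 2)))
  g := X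
  cond := ⟨C e * (2 * X + C b), -(4 * C e), 0, by
    have hC : (C e * (C b ^ 2 - 4 * C c) : A[X]) = 1 := by
      have := congrArg (C : A →+* A[X]) he
      simpa only [map_mul, map_sub, map_pow, map_ofNat, map_one] using this
    rw [derivative_add, derivative_X_sq, derivative_add, derivative_C_mul, derivative_X,
      derivative_C, mul_one, add_zero, pow_zero, C_ofNat]
    linear_combination hC⟩

theorem quadPair_aeval_f {A : Type u} [CommRing A] (b c e : A) (he : e * (b ^ 2 - 4 * c) = 1)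
    {S : Type*} [CommRing S] [Algebra A S] (x : S) :
    aeval x (quadPair b c e he).f = x ^ 2 + (algebraMap A S b * x + algebraMap A S c) := by
  show aeval x (X ^ 2 + (C b * X + C c) : A[X]) = _
  simp only [map_add, map_pow, map_mul, aeval_X, aeval_C]

theorem quadPair_aeval_g {A : Type u} [CommRing A] (b c e : A) (he : e * (b ^ 2 - 4 * c) = 1)
    {S : Type*} [CommRing S] [Algebra A S] (x : S) :
    aeval x (quadPair b c e he).g = x :=
  aeval_X x

theorem quad_root_ne {K : Type*} [Field K] [IsAlgClosed K] (b c e : K)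
    (he : e * (b ^ 2 - 4 * c) = 1) : ∃ τ : K, τ ^ 2 + (b * τ + c) = 0 ∧ τ ≠ 0 := by
  have hdeg : (C (1 : K) * X ^ 2 + C b * X + C c : K[X]).degree ≠ 0 := by
    intro h
    have h0 := natDegree_eq_zero_iff_degree_le_zero.mpr (le_of_eq h)
    rw [natDegree_quadratic one_ne_zero] at h0
    exact two_ne_zero h0
  obtain ⟨τ₁, hτ₁⟩ := IsAlgClosed.exists_root _ hdeg
  have h1 : τ₁ ^ 2 + (b * τ₁ + c) = 0 := by
    have h := hτ₁
    simp only [IsRoot.def, eval_add, eval_mul, eval_pow, eval_C, eval_X, one_mul] at h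
    linear_combination h
  by_cases h0 : τ₁ = 0
  · have hc : c = 0 := by
      rw [h0] at h1
      linear_combination h1
    refine ⟨-b, by rw [hc]; ring, ?_⟩
    intro hb
    have hb' : b = 0 := by linear_combination (-1 : K) * hb
    rw [hb', hc] at he
    simp at he
  · exact ⟨τ₁, h1, h0⟩

theorem hK_closure {A : Type u} [CommRing A] (p : PrimeSpectrum A) (a : A) :
    algebraMap A (AlgebraicClosure p.asIdeal.ResidueField) a = 0 ↔ a ∈ p.asIdeal := by
  rw [IsScalarTower.algebraMap_apply A p.asIdeal.ResidueField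
    (AlgebraicClosure p.asIdeal.ResidueField), map_eq_zero, Ideal.algebraMap_residueField_eq_zero]

theorem exists_prime_pair {A : Type u} [CommRing A] (P : StandardEtalePair A)
    (p : PrimeSpectrum A) {K : Type*} [Field K] [Algebra A K]
    (hK : ∀ a : A, algebraMap A K a = 0 ↔ a ∈ p.asIdeal) (τ : K) (hτ : P.HasMap τ) :
    p ∈ Set.range (PrimeSpectrum.comap (algebraMap A P.Ring)) := by
  refine ⟨⟨RingHom.ker (P.lift τ hτ).toRingHom, RingHom.ker_isPrime _⟩, ?_⟩
  apply PrimeSpectrum.ext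
  ext a
  rw [PrimeSpectrum.comap_asIdeal, Ideal.mem_comap, RingHom.mem_ker]
  show (P.lift τ hτ) (algebraMap A P.Ring a) = 0 ↔ a ∈ p.asIdeal
  rw [AlgHom.commutes]
  exact hK a

/-- An étale neighbourhood containing a unit root of `X² + bX + c`. -/
theorem quad_nbhd (B : Type u) [CommRing B] (q : PrimeSpectrum B) (b c e : B)
    (he : e * (b ^ 2 - 4 * c) = 1) :
    ∃ (B₁ : Type u) (_ : CommRing B₁) (_ : Algebra B B₁), Algebra.Etale B B₁ ∧
      q ∈ Set.range (PrimeSpectrum.comap (algebraMap B B₁)) ∧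
      ∃ z : B₁, z ^ 2 + (algebraMap B B₁ b * z + algebraMap B B₁ c) = 0 ∧ IsUnit z := by
  have hX := (quadPair b c e he).hasMap_X
  refine ⟨(quadPair b c e he).Ring, inferInstance, inferInstance, inferInstance, ?_,
    (quadPair b c e he).X, ?_, ?_⟩
  · obtain ⟨τ, hτ, hτ0⟩ := quad_root_ne
      (algebraMap B (AlgebraicClosure q.asIdeal.ResidueField) b)
      (algebraMap B (AlgebraicClosure q.asIdeal.ResidueField) c)
      (algebraMap B (AlgebraicClosure q.asIdeal.ResidueField) e) (by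
        have := congrArg (algebraMap B (AlgebraicClosure q.asIdeal.ResidueField)) he
        simpa only [map_mul, map_sub, map_pow, map_ofNat, map_one] using this)
    have hmap : (quadPair b c e he).HasMap τ :=
      ⟨by rw [quadPair_aeval_f]; exact hτ, by rw [quadPair_aeval_g]; exact IsUnit.mk0 τ hτ0⟩
    exact exists_prime_pair _ q (hK_closure q) τ hmap
  · have := hX.1
    rwa [quadPair_aeval_f] at this
  · have := hX.2
    rwa [quadPair_aeval_g] at this

/-! ### Weierstrass algebra -/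

theorem delta_mul_j {B : Type*} [CommRing B] (W : WeierstrassCurve B) [W.IsElliptic] :
    W.Δ * W.j = W.c₄ ^ 3 := by
  show (W.Δ' : B) * (↑W.Δ'⁻¹ * W.c₄ ^ 3) = W.c₄ ^ 3
  rw [← mul_assoc, Units.mul_inv, one_mul]

theorem isUnit_c₄ {B : Type*} [CommRing B] (W : WeierstrassCurve B) [W.IsElliptic]
    (h : IsUnit W.j) : IsUnit W.c₄ := by
  have : IsUnit (W.c₄ ^ 3) := by
    rw [← delta_mul_j]
    exact W.isUnit_Δ.mul h
  exact (isUnit_pow_iff (by norm_num)).mp this

theorem isUnit_c₆ {B : Type*} [CommRing B] (W : WeierstrassCurve B) [W.IsElliptic]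
    (h : IsUnit (W.j - 1728)) : IsUnit W.c₆ := by
  have e : W.c₆ ^ 2 = W.Δ * (W.j - 1728) := by
    linear_combination W.c_relation - delta_mul_j W
  have : IsUnit (W.c₆ ^ 2) := by
    rw [e]
    exact W.isUnit_Δ.mul h
  exact (isUnit_pow_iff (by norm_num)).mp this

/-- The normal form `y² + xy = x³ + a x² + b`. -/
def nf {S : Type*} [CommRing S] (a b : S) : WeierstrassCurve S := ⟨1, a, 0, 0, b⟩

theorem eq_nf {S : Type*} [CommRing S] (V : WeierstrassCurve S)
    (h : V.a₁ = 1 ∧ V.a₃ = 0 ∧ V.a₄ = 0) : V = nf V.a₂ V.a₆ := by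
  obtain ⟨h1, h3, h4⟩ := h
  ext
  · exact h1
  · rfl
  · exact h3
  · exact h4
  · rfl

theorem nf_map {S T : Type*} [CommRing S] [CommRing T] (f : S →+* T) (a b : S) :
    (nf a b).map f = nf (f a) (f b) := by
  ext <;> simp [nf]

theorem nf_c₄ {S : Type*} [CommRing S] (a b : S) : (nf a b).c₄ = (1 + 4 * a) ^ 2 := by
  simp only [c₄, b₂, b₄, nf]; ring

theorem nf_c₆ {S : Type*} [CommRing S] (a b : S) :
    (nf a b).c₆ = -((1 + 4 * a) ^ 3 + 864 * b) := by
  simp only [c₆, b₂, b₄, b₆, nf]; ring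

theorem nf_Δ {S : Type*} [CommRing S] (a b : S) :
    (nf a b).Δ = -(b * ((1 + 4 * a) ^ 3 + 432 * b)) := by
  simp only [Δ, b₂, b₄, b₆, b₈, nf]; ring

theorem smul_nf {S : Type*} [CommRing S] (t a b : S) (h12 : 12 * t = 1 + 4 * a) :
    (⟨1, -2 * t, 0, t⟩ : VariableChange S) • nf a b =
      nf (a - 6 * t) (b + (1 + 4 * a) * t ^ 2 - 8 * t ^ 3) := by
  ext
  · show (↑((1 : Sˣ)⁻¹) : S) * (1 + 2 * 0) = 1
    rw [inv_one, Units.val_one]; ring
  · show (↑((1 : Sˣ)⁻¹) : S) ^ 2 * (a - 0 * 1 + 3 * (-2 * t) - 0 ^ 2) = a - 6 * t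
    rw [inv_one, Units.val_one]; ring
  · show (↑((1 : Sˣ)⁻¹) : S) ^ 3 * (0 + (-2 * t) * 1 + 2 * t) = 0
    rw [inv_one, Units.val_one]; ring
  · show (↑((1 : Sˣ)⁻¹) : S) ^ 4 * (0 - 0 * 0 + 2 * (-2 * t) * a - (t + (-2 * t) * 0) * 1
      + 3 * (-2 * t) ^ 2 - 2 * 0 * t) = 0
    rw [inv_one, Units.val_one]; linear_combination t * h12
  · show (↑((1 : Sˣ)⁻¹) : S) ^ 6 * (b + (-2 * t) * 0 + (-2 * t) ^ 2 * a + (-2 * t) ^ 3 - t * 0
      - t ^ 2 - (-2 * t) * t * 1) = b + (1 + 4 * a) * t ^ 2 - 8 * t ^ 3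
    rw [inv_one, Units.val_one]; ring

/-- `D = x³b' - x'³b`. -/
def DD {S : Type*} [CommRing S] (a b a' b' : S) : S :=
  (1 + 4 * a) ^ 3 * b' - (1 + 4 * a') ^ 3 * b

/-- `Θ = x³x'³ + 432(x³b' + x'³b)`. -/
def TT {S : Type*} [CommRing S] (a b a' b' : S) : S :=
  (1 + 4 * a) ^ 3 * (1 + 4 * a') ^ 3 + 432 * ((1 + 4 * a) ^ 3 * b' + (1 + 4 * a') ^ 3 * b)

theorem map_DD {S T : Type*} [CommRing S] [CommRing T] (f : S →+* T) (a b a' b' : S) :
    f (DD a b a' b') = DD (f a) (f b) (f a') (f b') := by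
  simp only [DD, map_sub, map_mul, map_pow, map_add, map_one, map_ofNat]

theorem map_TT {S T : Type*} [CommRing S] [CommRing T] (f : S →+* T) (a b a' b' : S) :
    f (TT a b a' b') = TT (f a) (f b) (f a') (f b') := by
  simp only [TT, map_mul, map_pow, map_add, map_one, map_ofNat]

/-! ### Normalisation -/

theorem exists_s0 {A : Type u} [CommRing A] (W : WeierstrassCurve A) (hc₄ : IsUnit W.c₄)
    (p : PrimeSpectrum A) : ∃ s₀ : A, W.a₁ + 2 * s₀ ∉ p.asIdeal := by
  by_cases h : W.a₁ ∈ p.asIdeal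
  · refine ⟨1, fun h2 => ?_⟩
    have h2' : (2 : A) ∈ p.asIdeal := by
      have := p.asIdeal.sub_mem h2 h
      rwa [mul_one, add_sub_cancel_left] at this
    have hmem : W.c₄ ∈ p.asIdeal := by
      have e : W.c₄ = W.a₁ * (W.a₁ ^ 3 + 8 * W.a₁ * W.a₂) + 2 * (8 * W.a₂ ^ 2 - 12 * W.b₄) := by
        simp only [c₄, b₂]; ring
      rw [e]
      exact p.asIdeal.add_mem (p.asIdeal.mul_mem_right _ h) (p.asIdeal.mul_mem_right _ h2')
    exact p.isPrime.ne_top (Ideal.eq_top_of_isUnit_mem _ hmem hc₄)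
  · exact ⟨0, by rwa [mul_zero, add_zero]⟩

theorem nf13 {S : Type*} [CommRing S] (W : WeierstrassCurve S) (s₀ : S) (u : Sˣ)
    (hu : (u : S) = W.a₁ + 2 * s₀) :
    ∃ C : VariableChange S, (C • W).a₁ = 1 ∧ (C • W).a₃ = 0 := by
  have h : (↑u⁻¹ : S) * (W.a₁ + 2 * s₀) = 1 := by rw [← hu, Units.inv_mul]
  refine ⟨⟨u, -W.a₃ * ↑u⁻¹, s₀, s₀ * (-W.a₃ * ↑u⁻¹)⟩, ?_, ?_⟩
  · show (↑u⁻¹ : S) * (W.a₁ + 2 * s₀) = 1
    exact h
  · show (↑u⁻¹ : S) ^ 3 * (W.a₃ + (-W.a₃ * ↑u⁻¹) * W.a₁ + 2 * (s₀ * (-W.a₃ * ↑u⁻¹))) = 0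
    linear_combination (-(↑u⁻¹ : S) ^ 3 * W.a₃) * h

theorem nf4 (B : Type u) [CommRing B] (q : PrimeSpectrum B) (V : WeierstrassCurve B)
    (h1 : V.a₁ = 1) (h3 : V.a₃ = 0) (hc₄ : IsUnit V.c₄) : Nrm B q V := by
  have hc : V.c₄ = (-V.b₂) ^ 2 - 4 * (12 * V.a₄) := by
    simp only [c₄, b₄, h1, h3]; ring
  have he : (↑hc₄.unit⁻¹ : B) * ((-V.b₂) ^ 2 - 4 * (12 * V.a₄)) = 1 := by
    rw [← hc]; exact hc₄.val_inv_mul
  obtain ⟨B₁, i₁, al₁, hE, hq, z, hz, hzu⟩ := quad_nbhd B q (-V.b₂) (12 * V.a₄) _ he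
  refine ⟨B₁, i₁, al₁, hE, hq, ?_⟩
  obtain ⟨zi, hzi⟩ : ∃ zi : B₁, z * zi = 1 := ⟨↑hzu.unit⁻¹, hzu.mul_val_inv⟩
  have hb : algebraMap B B₁ (-V.b₂) = -(1 + 4 * algebraMap B B₁ V.a₂) := by
    simp only [b₂, h1, map_neg, map_add, map_pow, map_one, map_mul, map_ofNat, one_pow]
  have hc' : algebraMap B B₁ (12 * V.a₄) = 12 * algebraMap B B₁ V.a₄ := by
    rw [map_mul, map_ofNat]
  rw [hb, hc'] at hz
  refine ⟨⟨1, -2 * (algebraMap B B₁ V.a₄ * zi), 0, algebraMap B B₁ V.a₄ * zi⟩, ?_, ?_, ?_⟩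
  · show (↑((1 : B₁ˣ)⁻¹) : B₁) * (algebraMap B B₁ V.a₁ + 2 * 0) = 1
    rw [h1, map_one, inv_one, Units.val_one]; ring
  · show (↑((1 : B₁ˣ)⁻¹) : B₁) ^ 3 * (algebraMap B B₁ V.a₃ +
      (-2 * (algebraMap B B₁ V.a₄ * zi)) * algebraMap B B₁ V.a₁ +
      2 * (algebraMap B B₁ V.a₄ * zi)) = 0
    rw [h1, h3, map_one, map_zero, inv_one, Units.val_one]; ring
  · show (↑((1 : B₁ˣ)⁻¹) : B₁) ^ 4 * (algebraMap B B₁ V.a₄ - 0 * algebraMap B B₁ V.a₃ +
      2 * (-2 * (algebraMap B B₁ V.a₄ * zi)) * algebraMap B B₁ V.a₂ -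
      (algebraMap B B₁ V.a₄ * zi + (-2 * (algebraMap B B₁ V.a₄ * zi)) * 0) *
        algebraMap B B₁ V.a₁ +
      3 * (-2 * (algebraMap B B₁ V.a₄ * zi)) ^ 2 - 2 * 0 * (algebraMap B B₁ V.a₄ * zi)) = 0
    rw [h1, h3, map_one, map_zero, inv_one, Units.val_one]
    linear_combination (algebraMap B B₁ V.a₄ * zi ^ 2) * hz +
      (-(algebraMap B B₁ V.a₄) * (1 + zi * z - zi * (1 + 4 * algebraMap B B₁ V.a₂))) * hzi

theorem nrm_exists (A : Type u) [CommRing A] (p : PrimeSpectrum A) (W : WeierstrassCurve A)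
    (hc₄ : IsUnit W.c₄) : Nrm A p W := by
  obtain ⟨s₀, hs₀⟩ := exists_s0 W hc₄ p
  refine nrm_localize (W.a₁ + 2 * s₀) hs₀ (fun p' => ?_)
  have hu : IsUnit (algebraMap A (Localization.Away (W.a₁ + 2 * s₀)) (W.a₁ + 2 * s₀)) :=
    IsLocalization.Away.algebraMap_isUnit _
  obtain ⟨C₀, h1, h3⟩ := nf13 (W.map (algebraMap A (Localization.Away (W.a₁ + 2 * s₀))))
    (algebraMap A _ s₀) hu.unit (by
      rw [IsUnit.unit_spec, map_a₁, map_add, map_mul, map_ofNat])
  refine nrm_smul C₀ ?_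
  refine nf4 _ p' _ h1 h3 ?_
  rw [variableChange_c₄, map_c₄]
  exact ((Units.isUnit _).pow 4).mul (hc₄.map _)

/-! ### The torsor step -/

theorem core_alg {S : Type*} [CommRing S] (α α' β β' s κ ι : S)
    (hκ : κ * (1 + 4 * α') = 1) (hι : ι * (1 + 4 * α) = 1)
    (hs : s ^ 2 + (1 * s + (α' - α) * κ) = 0)
    (hD : (1 + 4 * α) ^ 3 * β' = (1 + 4 * α') ^ 3 * β) :
    ∃ w : S, w * (1 + 2 * s) = 1 ∧ w ^ 2 * (α - s - s ^ 2) = α' ∧ w ^ 6 * β = β' := by
  have h_u2 : (1 + 2 * s) ^ 2 = κ * (1 + 4 * α) := by linear_combination 4 * hs - hκ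
  obtain ⟨w, hwdef⟩ : ∃ w, w = (1 + 2 * s) * ((1 + 4 * α') * ι) := ⟨_, rfl⟩
  have hu : w * (1 + 2 * s) = 1 := by
    have e : w * (1 + 2 * s) = (1 + 2 * s) ^ 2 * ((1 + 4 * α') * ι) := by rw [hwdef]; ring
    rw [e, h_u2]
    linear_combination (ι * (1 + 4 * α)) * hκ + hι
  have E1 : α - s - s ^ 2 = (1 + 2 * s) ^ 2 * α' := by
    rw [h_u2]
    linear_combination (-1 : S) * hs - α * hκ
  have h6 : (1 + 2 * s) ^ 6 = κ ^ 3 * (1 + 4 * α) ^ 3 := by
    have e : (1 + 2 * s) ^ 6 = ((1 + 2 * s) ^ 2) ^ 3 := by ring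
    rw [e, h_u2, mul_pow]
  have hβ : β = (1 + 2 * s) ^ 6 * β' := by
    rw [h6]
    linear_combination (-(κ ^ 3)) * hD +
      (-β * ((κ * (1 + 4 * α')) ^ 2 + κ * (1 + 4 * α') + 1)) * hκ
  refine ⟨w, hu, ?_, ?_⟩
  · linear_combination (w ^ 2) * E1 + (α' * (w * (1 + 2 * s) + 1)) * hu
  · linear_combination (w ^ 6) * hβ +
      (β' * ((w * (1 + 2 * s)) ^ 5 + (w * (1 + 2 * s)) ^ 4 + (w * (1 + 2 * s)) ^ 3 +
        (w * (1 + 2 * s)) ^ 2 + w * (1 + 2 * s) + 1)) * hu

theorem torsor_core (B : Type u) [CommRing B] (q : PrimeSpectrum B) (a b a' b' : B)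
    (hx' : IsUnit (1 + 4 * a')) (hx : IsUnit (1 + 4 * a))
    (hD : (1 + 4 * a) ^ 3 * b' = (1 + 4 * a') ^ 3 * b) : Good B q (nf a b) (nf a' b') := by
  obtain ⟨κ, hκ⟩ : ∃ κ : B, κ * (1 + 4 * a') = 1 := ⟨↑hx'.unit⁻¹, hx'.val_inv_mul⟩
  obtain ⟨ι, hι⟩ : ∃ ι : B, ι * (1 + 4 * a) = 1 := ⟨↑hx.unit⁻¹, hx.val_inv_mul⟩
  have he : ((1 + 4 * a') * ι) * ((1 : B) ^ 2 - 4 * ((a' - a) * κ)) = 1 := by
    linear_combination (ι * (1 + 4 * a) - (1 + 4 * a') * ι) * hκ + hι
  obtain ⟨B₁, i₁, al₁, hE, hq, s, hs, -⟩ :=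
    quad_nbhd B q 1 ((a' - a) * κ) ((1 + 4 * a') * ι) he
  refine ⟨B₁, i₁, al₁, hE, hq, ?_⟩
  rw [nf_map, nf_map]
  obtain ⟨φ, hφ⟩ : ∃ φ : B →+* B₁, φ = algebraMap B B₁ := ⟨_, rfl⟩
  rw [← hφ] at hs ⊢
  rw [map_one, map_mul, map_sub] at hs
  have hκ' : φ κ * (1 + 4 * φ a') = 1 := by
    have := congrArg φ hκ
    simpa only [map_mul, map_add, map_one, map_ofNat] using this
  have hι' : φ ι * (1 + 4 * φ a) = 1 := by
    have := congrArg φ hι
    simpa only [map_mul, map_add, map_one, map_ofNat] using this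
  have hD' : (1 + 4 * φ a) ^ 3 * φ b' = (1 + 4 * φ a') ^ 3 * φ b := by
    have := congrArg φ hD
    simpa only [map_mul, map_pow, map_add, map_one, map_ofNat] using this
  obtain ⟨w, hw, h2, h6⟩ := core_alg (φ a) (φ a') (φ b) (φ b') s (φ κ) (φ ι) hκ' hι' hs hD'
  refine ⟨⟨⟨1 + 2 * s, w, by rw [mul_comm]; exact hw, hw⟩, 0, s, 0⟩, ?_⟩
  ext
  · show w * (1 + 2 * s) = 1
    exact hw
  · show w ^ 2 * (φ a - s * 1 + 3 * 0 - s ^ 2) = φ a'
    linear_combination h2
  · show w ^ 3 * (0 + 0 * 1 + 2 * 0) = 0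
    ring
  · show w ^ 4 * (0 - s * 0 + 2 * 0 * φ a - (0 + 0 * s) * 1 + 3 * 0 ^ 2 - 2 * s * 0) = 0
    ring
  · show w ^ 6 * (φ b + 0 * 0 + 0 ^ 2 * φ a + 0 ^ 3 - 0 * 0 - 0 ^ 2 - 0 * 0 * 1) = φ b'
    linear_combination h6

theorem torsor (B : Type u) [CommRing B] (q : PrimeSpectrum B) (V V' : WeierstrassCurve B)
    [V.IsElliptic] [V'.IsElliptic] (hj : V.j = V'.j) (h0 : IsUnit V.j)
    (h1728 : IsUnit (V.j - 1728))
    (hN : V.a₁ = 1 ∧ V.a₃ = 0 ∧ V.a₄ = 0) (hN' : V'.a₁ = 1 ∧ V'.a₃ = 0 ∧ V'.a₄ = 0) :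
    Good B q V V' := by
  have hc₄ : IsUnit V.c₄ := isUnit_c₄ V h0
  have hc₄' : IsUnit V'.c₄ := isUnit_c₄ V' (by rw [← hj]; exact h0)
  have hc₆ : IsUnit V.c₆ := isUnit_c₆ V h1728
  have hjj : V.c₄ ^ 3 * V'.Δ = V'.c₄ ^ 3 * V.Δ := by
    linear_combination (-V'.Δ) * delta_mul_j V + V.Δ * delta_mul_j V' + (V.Δ * V'.Δ) * hj
  obtain ⟨a, b, rfl⟩ : ∃ a b, V = nf a b := ⟨_, _, eq_nf V hN⟩
  obtain ⟨a', b', rfl⟩ : ∃ a b, V' = nf a b := ⟨_, _, eq_nf V' hN'⟩
  rw [nf_c₄] at hc₄ hc₄'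
  rw [nf_c₆] at hc₆
  rw [nf_c₄, nf_c₄, nf_Δ, nf_Δ] at hjj
  have hx : IsUnit (1 + 4 * a) := (isUnit_pow_iff two_ne_zero).mp hc₄
  have hx' : IsUnit (1 + 4 * a') := (isUnit_pow_iff two_ne_zero).mp hc₄'
  have hc₆' : IsUnit ((1 + 4 * a) ^ 3 + 864 * b) := by rwa [IsUnit.neg_iff] at hc₆
  have hDΘ : DD a b a' b' * TT a b a' b' = 0 := by
    unfold DD TT
    linear_combination (-1 : B) * hjj
  have hU : IsUnit (TT a b a' b' - 432 * DD a b a' b') := by
    have e : TT a b a' b' - 432 * DD a b a' b' =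
        (1 + 4 * a') ^ 3 * ((1 + 4 * a) ^ 3 + 864 * b) := by
      unfold DD TT; ring
    rw [e]
    exact (hx'.pow 3).mul hc₆'
  by_cases hΘ : TT a b a' b' ∈ q.asIdeal
  · have hg : 432 * DD a b a' b' ∉ q.asIdeal := by
      intro hg
      exact q.isPrime.ne_top (Ideal.eq_top_of_isUnit_mem _ (q.asIdeal.sub_mem hΘ hg) hU)
    refine good_localize (432 * DD a b a' b') hg (fun p' => ?_)
    rw [nf_map, nf_map]
    obtain ⟨ψ, hψ⟩ : ∃ ψ : B →+* Localization.Away (432 * DD a b a' b'),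
      ψ = algebraMap B _ := ⟨_, rfl⟩
    rw [← hψ]
    have hgU : IsUnit (ψ (432 * DD a b a' b')) := by
      rw [hψ]; exact IsLocalization.Away.algebraMap_isUnit _
    rw [map_mul, map_ofNat, map_DD] at hgU
    have h432 : IsUnit (432 : Localization.Away (432 * DD a b a' b')) :=
      isUnit_of_mul_isUnit_left hgU
    have hDU : IsUnit (DD (ψ a) (ψ b) (ψ a') (ψ b')) := isUnit_of_mul_isUnit_right hgU
    have hΘ0 : TT (ψ a) (ψ b) (ψ a') (ψ b') = 0 := by
      have := congrArg ψ hDΘ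
      rw [map_mul, map_DD, map_TT, map_zero] at this
      exact (hDU.mul_right_eq_zero).mp this
    obtain ⟨i12, hi12⟩ : ∃ i : Localization.Away (432 * DD a b a' b'), 12 * i = 1 := by
      obtain ⟨j, hj'⟩ := h432.exists_right_inv
      exact ⟨36 * j, by linear_combination hj'⟩
    obtain ⟨t, h12⟩ : ∃ t, 12 * t = 1 + 4 * ψ a' :=
      ⟨(1 + 4 * ψ a') * i12, by linear_combination (1 + 4 * ψ a') * hi12⟩
    refine good_smul_right (⟨1, -2 * t, 0, t⟩ : VariableChange _) ?_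
    rw [smul_nf t (ψ a') (ψ b') h12]
    have hxψ : IsUnit (1 + 4 * ψ a) := by
      have := hx.map ψ
      simpa only [map_add, map_one, map_mul, map_ofNat] using this
    have hx'ψ : IsUnit (1 + 4 * ψ a') := by
      have := hx'.map ψ
      simpa only [map_add, map_one, map_mul, map_ofNat] using this
    refine torsor_core _ p' _ _ _ _ ?_ hxψ ?_
    · have e : 1 + 4 * (ψ a' - 6 * t) = -(1 + 4 * ψ a') := by
        linear_combination (-2 : Localization.Away (432 * DD a b a' b')) * h12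
      rw [e]
      exact hx'ψ.neg
    · have e1 : 1 + 4 * (ψ a' - 6 * t) = -(12 * t) := by
        linear_combination (-1 : Localization.Away (432 * DD a b a' b')) * h12
      rw [e1]
      have hΘ0' := hΘ0
      unfold TT at hΘ0'
      rw [← h12] at hΘ0' ⊢
      apply (h432.mul_right_inj).mp
      linear_combination hΘ0'
  · refine good_localize (TT a b a' b') hΘ (fun p' => ?_)
    rw [nf_map, nf_map]
    obtain ⟨ψ, hψ⟩ : ∃ ψ : B →+* Localization.Away (TT a b a' b'),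
      ψ = algebraMap B _ := ⟨_, rfl⟩
    rw [← hψ]
    have hΘU : IsUnit (ψ (TT a b a' b')) := by
      rw [hψ]; exact IsLocalization.Away.algebraMap_isUnit _
    rw [map_TT] at hΘU
    have hD0 : DD (ψ a) (ψ b) (ψ a') (ψ b') = 0 := by
      have := congrArg ψ hDΘ
      rw [map_mul, map_DD, map_TT, map_zero] at this
      exact (hΘU.mul_left_eq_zero).mp this
    have hxψ : IsUnit (1 + 4 * ψ a) := by
      have := hx.map ψ
      simpa only [map_add, map_one, map_mul, map_ofNat] using this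
    have hx'ψ : IsUnit (1 + 4 * ψ a') := by
      have := hx'.map ψ
      simpa only [map_add, map_one, map_mul, map_ofNat] using this
    unfold DD at hD0
    exact torsor_core _ p' _ _ _ _ hx'ψ hxψ (sub_eq_zero.mp hD0)



/-- Let A be a commutative ring and W₁, W₂ Weierstrass cubics over A with unit discriminants and the
same j-invariant j, such that j and j - 1728 are both units of A (the modular invariant avoids the
special values 0 and 1728 at every point). Then for every prime ideal p of A there exist an étale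
A-algebra B with a prime lying over p and a change of variables over B carrying the base change of
W₁ to that of W₂; that is, the two elliptic curves become isomorphic on an étale neighbourhood of
every point of Spec A. (The published statement is about Weierstrass curves with possibly nodal,
geometrically irreducible fibres over an arbitrary base scheme whose modular invariant avoids 0,
1728 and ∞; this row is the case of unit discriminant over an affine base.) -/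
theorem result (A : Type u) [CommRing A]
    (W₁ W₂ : WeierstrassCurve A) [W₁.IsElliptic] [W₂.IsElliptic] (hj : W₁.j = W₂.j)
    (h0 : IsUnit W₁.j) (h1728 : IsUnit (W₁.j - 1728)) (p : PrimeSpectrum A) :
    ∃ (B : Type u) (_ : CommRing B) (_ : Algebra A B), Algebra.Etale A B ∧
      p ∈ Set.range (PrimeSpectrum.comap (algebraMap A B)) ∧
      ∃ C : WeierstrassCurve.VariableChange B, C • (W₁.map (algebraMap A B)) = W₂.map (algebraMap A B) := by
  show Good A p W₁ W₂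
  have hc₄₁ : IsUnit W₁.c₄ := isUnit_c₄ W₁ h0
  have hc₄₂ : IsUnit W₂.c₄ := isUnit_c₄ W₂ (by rw [← hj]; exact h0)
  obtain ⟨B₁, i₁, al₁, hE₁, ⟨q₁, hq₁⟩, C₁, hN₁⟩ := nrm_exists A p W₁ hc₄₁
  refine good_base B₁ q₁ hq₁ (good_smul_left C₁ ?_)
  obtain ⟨B₂, i₂, al₂, hE₂, ⟨q₂, hq₂⟩, C₂, hN₂⟩ :=
    nrm_exists B₁ q₁ (W₂.map (algebraMap A B₁)) (by rw [map_c₄]; exact hc₄₂.map _)
  refine good_base B₂ q₂ hq₂ (good_smul_right C₂ ?_)
  refine torsor B₂ q₂ _ _ ?_ ?_ ?_ ?_ hN₂
  · simp only [map_j, variableChange_j, hj]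
  · simp only [map_j, variableChange_j]
    exact (h0.map _).map _
  · simp only [map_j, variableChange_j]
    have := (h1728.map (algebraMap A B₁)).map (algebraMap B₁ B₂)
    simpa only [map_sub, map_ofNat] using this
  · exact ⟨by rw [map_a₁, hN₁.1, map_one], by rw [map_a₃, hN₁.2.1, map_zero],
      by rw [map_a₄, hN₁.2.2, map_zero]⟩

end Groth.Agent.S14292
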