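import Groth.Statements.S14295
import Mathlib.Tactic.Ring
import Mathlib.Tactic.Abel
import Mathlib.Tactic.Module
import Mathlib.Tactic.NormNum
import Mathlib.Tactic.Linarith
-- import your own Groth.Agent.* helpers here

set_option autoImplicit false
universe u v
open PtDeg

namespace Groth.Agent.S14295

theorem T_succ (n : ℤ) : (n + 1) * ((n + 1) + 1) / 2 = n * (n + 1) / 2 + n + 1 := by
  have h1 : (n + 1) * ((n + 1) + 1) = n * n + 3 * n + 2 := by ring
  have h2 : n * (n + 1) = n * n + n := by ring
  rw [h1, h2]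
  generalize n * n = m
  omega

theorem S_succ (n : ℤ) : (n + 1) * ((n + 1) - 1) / 2 = n * (n + 1) / 2 := by
  congr 1; ring

theorem S_eq (n : ℤ) : n * (n - 1) / 2 = n * (n + 1) / 2 - n := by
  have h1 : n * (n - 1) = n * n - n := by ring
  have h2 : n * (n + 1) = n * n + n := by ring
  rw [h1, h2]
  generalize n * n = m
  omega

theorem T_pred (n : ℤ) : (n - 1) * ((n - 1) + 1) / 2 = n * (n + 1) / 2 - n := by
  have h1 : (n - 1) * ((n - 1) + 1) = n * n - n := by ring
  have h2 : n * (n + 1) = n * n + n := by ring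
  rw [h1, h2]
  generalize n * n = m
  omega

theorem S_pred (n : ℤ) : (n - 1) * ((n - 1) - 1) / 2 = n * (n + 1) / 2 - 2 * n + 1 := by
  have h1 : (n - 1) * ((n - 1) - 1) = n * n - 3 * n + 2 := by ring
  have h2 : n * (n + 1) = n * n + n := by ring
  rw [h1, h2]
  generalize n * n = m
  omega

theorem f_zero {A : Type u} {G : Type v} [AddCommGroup A] [AddCommGroup G]
    (f : A → G) (hf : ∀ x y z : A, f (x + y + z) + f x + f y + f z = f (x + y) + f (x + z) + f (y + z)) :
    f 0 = 0 := by
  have h := hf 0 0 0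
  simp only [add_zero] at h
  have h' : (f 0 + f 0 + f 0) + f 0 = (f 0 + f 0 + f 0) + 0 := by
    rw [add_zero]; exact h
  exact add_left_cancel h'

theorem g_rec {A : Type u} {G : Type v} [AddCommGroup A] [AddCommGroup G]
    (f : A → G) (hf : ∀ x y z : A, f (x + y + z) + f x + f y + f z = f (x + y) + f (x + z) + f (y + z))
    (x : A) (m : ℤ) :
    f ((m + 1) • x) + f ((m - 1) • x) = f (m • x) + f (m • x) + f x + f (-x) := by
  have h := hf (m • x) x (-x)
  have e1 : m • x + x + -x = m • x := by abel
  have e2 : m • x + x = (m + 1) • x := by rw [add_smul, one_smul]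
  have e3 : m • x + -x = (m - 1) • x := by rw [sub_smul, one_smul]; abel
  have e4 : x + -x = 0 := by abel
  rw [e1, e2, e3, e4, f_zero f hf, add_zero] at h
  exact h.symm

/-- the closed form -/
def H {G : Type v} [AddCommGroup G] (u w : G) (n : ℤ) : G :=
  (n * (n + 1) / 2) • u + (n * (n - 1) / 2) • w

theorem h_rec {G : Type v} [AddCommGroup G] (u w : G) (m : ℤ) :
    H u w (m + 1) + H u w (m - 1) = H u w m + H u w m + u + w := by
  unfold H
  rw [T_succ, S_succ, T_pred, S_pred, S_eq]
  generalize m * (m + 1) / 2 = t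
  module

/-- Let A and G be abelian groups, written additively, and f : A → G a map which is pointed of degree 2,
that is f(x+y+z) + f(x) + f(y) + f(z) = f(x+y) + f(x+z) + f(y+z) for all x, y, z in A. Then for
every integer n and every x in A one has f(n·x) = (n(n+1)/2)·f(x) + (n(n−1)/2)·f(−x) (the two
coefficients are the integers n(n+1)/2 and n(n−1)/2). -/
theorem result {A : Type u} {G : Type v} [AddCommGroup A] [AddCommGroup G]
    (f : A → G) (hf : ∀ x y z : A, f (x + y + z) + f x + f y + f z = f (x + y) + f (x + z) + f (y + z))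
    (n : ℤ) (x : A) :
    f (n • x) = (n * (n + 1) / 2) • f x + (n * (n - 1) / 2) • f (-x) := by
  suffices key : ∀ n : ℤ, f (n • x) = H (f x) (f (-x)) n ∧
      f ((n + 1) • x) = H (f x) (f (-x)) (n + 1) from (key n).1
  intro n
  induction n using Int.induction_on with
  | zero =>
    refine ⟨?_, ?_⟩
    · simp [H, f_zero f hf]
    · norm_num [H]
  | succ k ih =>
    refine ⟨ih.2, ?_⟩
    have hg := g_rec f hf x ((k : ℤ) + 1)
    have hh := h_rec (f x) (f (-x)) ((k : ℤ) + 1)
    have e : ((k : ℤ) + 1 - 1) = k := by ring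
    rw [e] at hg hh
    rw [ih.1, ih.2] at hg
    rw [← hg] at hh
    exact (add_right_cancel hh).symm
  | pred k ih =>
    have e : (-(k : ℤ) - 1 + 1) = -(k : ℤ) := by ring
    rw [e]
    refine ⟨?_, ih.1⟩
    have hg := g_rec f hf x (-(k : ℤ))
    have hh := h_rec (f x) (f (-x)) (-(k : ℤ))
    rw [ih.1, ih.2] at hg
    rw [← hg] at hh
    exact (add_left_cancel hh).symm

end Groth.Agent.S14295
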