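import Groth.Statements.S14294
import Groth.Agent.S14295
import Mathlib.Tactic.LinearCombination
-- import your own Groth.Agent.* helpers here

set_option autoImplicit false
universe u v
open PtDeg

namespace Groth.Agent.S14294

/-- Let A and G be abelian groups, written additively, and f : A → G a map which is pointed of degree 2,
that is f(x+y+z) + f(x) + f(y) + f(z) = f(x+y) + f(x+z) + f(y+z) for all x, y, z in A. If an integer
n satisfies n·x = 0 for every x in A, then 2n·f(x) = 0 for every x in A, and if moreover n is odd
then n·f(x) = 0 for every x in A. -/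
theorem result {A : Type u} {G : Type v} [AddCommGroup A] [AddCommGroup G]
    (f : A → G) (hf : ∀ x y z : A, f (x + y + z) + f x + f y + f z = f (x + y) + f (x + z) + f (y + z))
    (n : ℤ) (hn : ∀ x : A, n • x = 0) :
    (∀ x : A, (2 * n) • f x = 0) ∧ (Odd n → ∀ x : A, n • f x = 0) := by
  have f0 : f 0 = 0 := Groth.Agent.S14295.f_zero f hf
  -- T • f x + (T - n) • f (-x) = 0
  have eq1 : ∀ x : A, (n * (n + 1) / 2) • f x + (n * (n + 1) / 2 - n) • f (-x) = 0 := by
    intro x
    have h := Groth.Agent.S14295.result f hf n x
    rw [hn x, f0, Groth.Agent.S14295.S_eq] at h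
    exact h.symm
  have eq2 : ∀ x : A, f x = (n * (n + 1) / 2 + n + 1) • f x + (n * (n + 1) / 2) • f (-x) := by
    intro x
    have h := Groth.Agent.S14295.result f hf (n + 1) x
    have e : (n + 1) • x = x := by rw [add_smul, hn x, one_smul, zero_add]
    rw [e, Groth.Agent.S14295.T_succ, Groth.Agent.S14295.S_succ] at h
    exact h
  have hA : ∀ x : A, n • f x + n • f (-x) = 0 := by
    intro x
    have h1 := eq1 x
    have h2 := eq2 x
    generalize n * (n + 1) / 2 = t at h1 h2
    linear_combination (norm := module) - h1 - h2
  refine ⟨?_, ?_⟩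
  · intro x
    have h1 := eq1 x
    have hA' := hA x
    -- 2 * t = n * (n + 1)
    have ht : 2 * (n * (n + 1) / 2) = n * (n + 1) :=
      Int.mul_ediv_cancel' (Int.even_mul_succ_self n).two_dvd
    have h2 : (2 * (n * (n + 1) / 2)) • f x + (2 * (n * (n + 1) / 2) - 2 * n) • f (-x) = 0 := by
      linear_combination (norm := module) (2 : ℤ) • h1
    rw [ht] at h2
    linear_combination (norm := module) h2 - (n - 1) • hA'
  · rintro ⟨k, hk⟩ x
    have h1 := eq1 x
    have hA' := hA x
    have ht : n * (n + 1) / 2 = n * (k + 1) := by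
      have : n * (n + 1) = 2 * (n * (k + 1)) := by rw [hk]; ring
      rw [this, Int.mul_ediv_cancel_left _ (by norm_num)]
    rw [ht] at h1
    linear_combination (norm := module) h1 - k • hA'

end Groth.Agent.S14294
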