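import Groth.Statements.S14296
import Groth.Agent.S14295
import Mathlib.Tactic.LinearCombination
-- import your own Groth.Agent.* helpers here

set_option autoImplicit false
universe u v
open PtDeg

namespace Groth.Agent.S14296

/-- Let G and H be abelian groups, written additively, n an integer such that 2n²·x = 0 for every x in
G, and d : G → H a quadratic map, meaning that d is pointed of degree 2 (d(x+y+z) + d(x) + d(y) +
d(z) = d(x+y) + d(x+z) + d(y+z) for all x, y, z) and even (d(−x) = d(x) for all x). Then d(2n·x) = 0
for every x in G. -/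
theorem result {G : Type u} {H : Type v} [AddCommGroup G] [AddCommGroup H]
    (n : ℤ) (hn : ∀ x : G, (2 * n ^ 2) • x = 0)
    (d : G → H) (hd : ∀ x y z : G, d (x + y + z) + d x + d y + d z = d (x + y) + d (x + z) + d (y + z))
    (heven : ∀ x : G, d (-x) = d x) (x : G) :
    d ((2 * n) • x) = 0 := by
  have d0 : d 0 = 0 := Groth.Agent.S14295.f_zero d hd
  have sq : ∀ (k : ℤ) (y : G), d (k • y) = (k * k) • d y := by
    intro k y
    have h := Groth.Agent.S14295.result d hd k y
    rw [heven y, Groth.Agent.S14295.S_eq] at h
    have ht : 2 * (k * (k + 1) / 2) = k * (k + 1) :=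
      Int.mul_ediv_cancel' (Int.even_mul_succ_self k).two_dvd
    rw [h, ← add_smul]
    congr 1
    linarith
  have ha : ((2 * n ^ 2) * (2 * n ^ 2)) • d x = 0 := by
    rw [← sq, hn x, d0]
  have hb : d x = ((2 * n ^ 2 + 1) * (2 * n ^ 2 + 1)) • d x := by
    rw [← sq, add_smul, hn x, one_smul, zero_add]
  rw [sq]
  linear_combination (norm := module) - ha - hb

end Groth.Agent.S14296
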