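import Groth.Statements.S14309
import Mathlib.Tactic.Ring

set_option autoImplicit false
universe u v w x y
open CAlg

namespace Groth.Agent.S14309

/-- Let R be a commutative ring; A, B, C commutative R-algebras; i : A → B and j : A → C jointly
injective R-algebra maps; c a non-zero-divisor of B; u : C → B/(c) a ring map with u ∘ j equal to i
followed by reduction modulo c; ζ in A with i ζ = c and j ζ = 0; η : R[X_σ, Z] → A an R-algebra map
with η(Z) = ζ; a : R[Y_τ] → B a surjective R-algebra map; η_Z : R[X_σ, Z] → R[Y_τ] a surjective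
R-algebra map with a ∘ η_Z = i ∘ η. Fix c̃ in R[Y_τ] with a(c̃) = c, a family (p_h) generating the
kernel of the composite R[X_σ] → R[X_σ, Z] → A → C, a family (q'_h) generating the kernel of a
together with lifts q_h along η_Z, a family (v_h) generating the kernel of η_Z, and elements g'_h of
R[Y_τ] with η_Z(p_h) + g'_h c̃ in the ideal (q'_h), together with lifts g_h along η_Z. Then the
kernel of η is the ideal generated by the elements Z q_h, Z v_h and p_h + Z g_h. (The published
statement is for the rings of cycle classes, with coefficients ℤ[1/6], of a smooth quotient stack, a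
smooth closed substack whose normal bundle has top Chern class c a non-zero-divisor, and the open
complement; this row states the ring-theoretic content for any such square of commutative rings in
which A embeds in B × C.) -/
theorem result
    {R : Type u} [CommRing R] {A : Type v} {B : Type w} {C : Type x}
    [CommRing A] [CommRing B] [CommRing C] [Algebra R A] [Algebra R B] [Algebra R C]
    (i : A →ₐ[R] B) (j : A →ₐ[R] C)
    (hinj : ∀ t : A, i t = 0 → j t = 0 → t = 0)
    (c : B) (hc : c ∈ nonZeroDivisors B) (u : C →+* B ⧸ Ideal.span ({c} : Set B))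
    (hu : ∀ t : A, u (j t) = Ideal.Quotient.mk (Ideal.span ({c} : Set B)) (i t))
    (ζ : A) (hiζ : i ζ = c) (hjζ : j ζ = 0)
    {σ τ ιp ιq ιv : Type y}
    (η : MvPolynomial (Option σ) R →ₐ[R] A) (hη : η (MvPolynomial.X none) = ζ)
    (a : MvPolynomial τ R →ₐ[R] B) (ha : Function.Surjective a)
    (ηZ : MvPolynomial (Option σ) R →ₐ[R] MvPolynomial τ R)
    (hcomm : ∀ t, a (ηZ t) = i (η t)) (hηZ : Function.Surjective ηZ)
    (cZ : MvPolynomial τ R) (hcZ : a cZ = c)
    (p : ιp → MvPolynomial σ R)
    (hp : Ideal.span (Set.range p) =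
      RingHom.ker ((j.comp η).comp (MvPolynomial.rename (Option.some : σ → Option σ))))
    (q' : ιq → MvPolynomial τ R) (hq' : Ideal.span (Set.range q') = RingHom.ker a)
    (q : ιq → MvPolynomial (Option σ) R) (hq : ∀ h, ηZ (q h) = q' h)
    (v : ιv → MvPolynomial (Option σ) R) (hv : Ideal.span (Set.range v) = RingHom.ker ηZ)
    (g' : ιp → MvPolynomial τ R)
    (hg' : ∀ h, ηZ (MvPolynomial.rename (Option.some : σ → Option σ) (p h)) + g' h * cZ ∈
      Ideal.span (Set.range q'))
    (g : ιp → MvPolynomial (Option σ) R) (hg : ∀ h, ηZ (g h) = g' h) :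
    RingHom.ker η = Ideal.span
      (Set.range (fun h : ιq => MvPolynomial.X none * q h) ∪
        Set.range (fun h : ιv => MvPolynomial.X none * v h) ∪
        Set.range (fun h : ιp =>
          MvPolynomial.rename (Option.some : σ → Option σ) (p h) + MvPolynomial.X none * g h)) := by
  let Z : MvPolynomial (Option σ) R := MvPolynomial.X none
  let r : MvPolynomial σ R →ₐ[R] MvPolynomial (Option σ) R :=
    MvPolynomial.rename (Option.some : σ → Option σ)
  let J : Ideal (MvPolynomial (Option σ) R) := Ideal.span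
      (Set.range (fun h : ιq => MvPolynomial.X none * q h) ∪
        Set.range (fun h : ιv => MvPolynomial.X none * v h) ∪
        Set.range (fun h : ιp =>
          MvPolynomial.rename (Option.some : σ → Option σ) (p h) + MvPolynomial.X none * g h))
  change RingHom.ker η = J
  have hZη : η Z = ζ := hη
  have hJq : ∀ h, Z * q h ∈ J := fun h => Ideal.subset_span (Or.inl (Or.inl ⟨h, rfl⟩))
  have hJv : ∀ h, Z * v h ∈ J := fun h => Ideal.subset_span (Or.inl (Or.inr ⟨h, rfl⟩))
  have hJp : ∀ h, r (p h) + Z * g h ∈ J := fun h => Ideal.subset_span (Or.inr ⟨h, rfl⟩)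
  have hker_a : ∀ W, W ∈ Ideal.span (Set.range q') ↔ a W = 0 := fun W => by
    rw [hq', RingHom.mem_ker]
  have haq' : ∀ h, a (q' h) = 0 := fun h => (hker_a _).mp (Ideal.subset_span ⟨h, rfl⟩)
  have hηv : ∀ h, ηZ (v h) = 0 := fun h => by
    have : v h ∈ Ideal.span (Set.range v) := Ideal.subset_span ⟨h, rfl⟩
    rw [hv, RingHom.mem_ker] at this
    exact this
  have hjp : ∀ h, j (η (r (p h))) = 0 := fun h => by
    have : p h ∈ Ideal.span (Set.range p) := Ideal.subset_span ⟨h, rfl⟩
    rw [hp, RingHom.mem_ker] at this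
    exact this
  -- generators lie in the kernel
  have hηq : ∀ h, η (Z * q h) = 0 := by
    intro h
    apply hinj
    · rw [map_mul, map_mul, hZη, hiζ, ← hcomm, hq, haq' h, mul_zero]
    · rw [map_mul, map_mul, hZη, hjζ, zero_mul]
  have hηv' : ∀ h, η (Z * v h) = 0 := by
    intro h
    apply hinj
    · rw [map_mul, map_mul, hZη, hiζ, ← hcomm, hηv h, map_zero, mul_zero]
    · rw [map_mul, map_mul, hZη, hjζ, zero_mul]
  have hηp : ∀ h, η (r (p h) + Z * g h) = 0 := by
    intro h
    apply hinj
    · have h1 := (hker_a _).mp (hg' h)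
      change a (ηZ (r (p h)) + g' h * cZ) = 0 at h1
      rw [map_add, map_mul, hcZ] at h1
      rw [map_add, map_add, map_mul, map_mul, hZη, hiζ, ← hcomm, ← hcomm, hg, mul_comm]
      exact h1
    · rw [map_add, map_add, map_mul, map_mul, hZη, hjζ, zero_mul, add_zero]
      exact hjp h
  have hJle : J ≤ RingHom.ker η := by
    refine Ideal.span_le.mpr ?_
    rintro x ((⟨h, rfl⟩ | ⟨h, rfl⟩) | ⟨h, rfl⟩)
    · exact RingHom.mem_ker.mpr (hηq h)
    · exact RingHom.mem_ker.mpr (hηv' h)
    · exact RingHom.mem_ker.mpr (hηp h)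
  -- decomposition of a polynomial into its `Z`-free part and a multiple of `Z`
  have hdecomp : ∀ F : MvPolynomial (Option σ) R, ∃ F₀ F₁, F = r F₀ + Z * F₁ := by
    intro F
    refine MvPolynomial.induction_on (motive := fun F => ∃ F₀ F₁, F = r F₀ + Z * F₁) F ?_ ?_ ?_
    · intro l
      refine ⟨MvPolynomial.C l, 0, ?_⟩
      change MvPolynomial.C l = MvPolynomial.rename (Option.some : σ → Option σ) (MvPolynomial.C l)
        + MvPolynomial.X none * 0
      rw [MvPolynomial.rename_C, mul_zero, add_zero]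
    · rintro F G ⟨a0, a1, h1⟩ ⟨b0, b1, h2⟩
      refine ⟨a0 + b0, a1 + b1, ?_⟩
      rw [h1, h2, map_add]
      ring
    · rintro F n ⟨a0, a1, h1⟩
      cases n with
      | none =>
        refine ⟨0, F, ?_⟩
        rw [map_zero, zero_add, mul_comm]
      | some s =>
        refine ⟨a0 * MvPolynomial.X s, a1 * MvPolynomial.X (some s), ?_⟩
        have : r (MvPolynomial.X s) = MvPolynomial.X (some s) := MvPolynomial.rename_X _ _
        rw [h1, map_mul, this]
        ring
  have claim1 : ∀ F₀ ∈ Ideal.span (Set.range p), ∃ G, r F₀ + Z * G ∈ J := by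
    intro F₀ hF₀
    refine Submodule.span_induction (p := fun x _ => ∃ G, r x + Z * G ∈ J) ?_ ?_ ?_ ?_ hF₀
    · rintro x ⟨h, rfl⟩
      exact ⟨g h, hJp h⟩
    · refine ⟨0, ?_⟩
      rw [map_zero, mul_zero, add_zero]
      exact J.zero_mem
    · rintro x y _ _ ⟨G1, h1⟩ ⟨G2, h2⟩
      refine ⟨G1 + G2, ?_⟩
      have h3 := J.add_mem h1 h2
      have e : r (x + y) + Z * (G1 + G2) = r x + Z * G1 + (r y + Z * G2) := by
        rw [map_add]; ring
      rw [e]
      exact h3
    · rintro l x _ ⟨G1, h1⟩
      refine ⟨r l * G1, ?_⟩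
      have h3 := J.mul_mem_left (r l) h1
      have e : r (l • x) + Z * (r l * G1) = r l * (r x + Z * G1) := by
        rw [smul_eq_mul, map_mul]; ring
      rw [e]
      exact h3
  have claim2 : ∀ T ∈ RingHom.ker ηZ, Z * T ∈ J := by
    intro T hT
    rw [← hv] at hT
    refine Submodule.span_induction (p := fun x _ => Z * x ∈ J) ?_ ?_ ?_ ?_ hT
    · rintro x ⟨h, rfl⟩
      exact hJv h
    · change Z * 0 ∈ J
      rw [mul_zero]
      exact J.zero_mem
    · intro x y _ _ hx hy
      change Z * (x + y) ∈ J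
      rw [mul_add]
      exact J.add_mem hx hy
    · intro l x _ hx
      change Z * (l • x) ∈ J
      rw [smul_eq_mul, mul_left_comm]
      exact J.mul_mem_left l hx
  have claim3 : ∀ W ∈ Ideal.span (Set.range q'), ∃ T, ηZ T = W ∧ Z * T ∈ J := by
    intro W hW
    refine Submodule.span_induction (p := fun x _ => ∃ T, ηZ T = x ∧ Z * T ∈ J) ?_ ?_ ?_ ?_ hW
    · rintro x ⟨h, rfl⟩
      exact ⟨q h, hq h, hJq h⟩
    · refine ⟨0, map_zero _, ?_⟩
      rw [mul_zero]
      exact J.zero_mem
    · rintro x y _ _ ⟨T1, h1, h1'⟩ ⟨T2, h2, h2'⟩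
      refine ⟨T1 + T2, ?_, ?_⟩
      · rw [map_add, h1, h2]
      · rw [mul_add]
        exact J.add_mem h1' h2'
    · rintro l x _ ⟨T1, h1, h1'⟩
      obtain ⟨l', hl'⟩ := hηZ l
      refine ⟨l' * T1, ?_, ?_⟩
      · rw [map_mul, hl', h1, smul_eq_mul]
      · rw [mul_left_comm]
        exact J.mul_mem_left l' h1'
  apply le_antisymm
  · intro F hF
    rw [RingHom.mem_ker] at hF
    obtain ⟨F₀, F₁, rfl⟩ := hdecomp F
    have hjF : j (η (r F₀ + Z * F₁)) = 0 := by rw [hF, map_zero]
    rw [map_add, map_add, map_mul, map_mul, hZη, hjζ, zero_mul, add_zero] at hjF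
    have hF₀ : F₀ ∈ Ideal.span (Set.range p) := by
      rw [hp, RingHom.mem_ker]
      exact hjF
    obtain ⟨G, hG⟩ := claim1 F₀ hF₀
    have hηG : η (r F₀ + Z * G) = 0 := RingHom.mem_ker.mp (hJle hG)
    have hF₂ : η (Z * (F₁ - G)) = 0 := by
      have e : Z * (F₁ - G) = (r F₀ + Z * F₁) - (r F₀ + Z * G) := by ring
      rw [e, map_sub, hF, hηG, sub_zero]
    have hi : c * a (ηZ (F₁ - G)) = 0 := by
      have h1 := congrArg i hF₂
      rw [map_mul, map_mul, hZη, hiζ, ← hcomm, map_zero] at h1
      exact h1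
    have ha0 : a (ηZ (F₁ - G)) = 0 := (mul_left_mem_nonZeroDivisors_eq_zero_iff hc).mp hi
    obtain ⟨T, hT, hTJ⟩ := claim3 _ ((hker_a _).mpr ha0)
    have hdiff : (F₁ - G) - T ∈ RingHom.ker ηZ := by
      rw [RingHom.mem_ker, map_sub, hT, sub_self]
    have h2 := claim2 _ hdiff
    have e : r F₀ + Z * F₁ = (r F₀ + Z * G) + (Z * T + Z * ((F₁ - G) - T)) := by ring
    rw [e]
    exact J.add_mem hG (J.add_mem hTJ h2)
  · exact hJle

end Groth.Agent.S14309
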