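import Groth.Statements.S14315
import Groth.Agent.H49.SmoothFibre
import Groth.Agent.H38.CurveFlat
import Groth.Agent.H1.SurfBC_NORM
import Groth.Agent.H73.SurfBC_NC1
import Groth.Agent.H80.SurfBC_NC2

set_option autoImplicit false
universe u
open CategoryTheory CategoryTheory.Limits AlgebraicGeometry TopologicalSpace
open Surf

namespace Groth.Agent.S14315

open Groth.Agent.H49.SmoothFibre

section aux

variable {X Y Z : Scheme.{u}}

theorem mem_smoothLocus_of_flat_of_smooth_fibre (f : X ⟶ Y) [Flat f]
    [LocallyOfFinitePresentation f] (x : X) (h : Smooth (f.fiberToSpecResidueField (f x))) :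
    x ∈ f.smoothLocus := by
  haveI : LocallyOfFinitePresentation (f.fiberToSpecResidueField (f x)) := inferInstance
  refine (mem_smoothLocus_iff_flat_and_fiber f x (f x) rfl (f.asFiber x)
    (f.fiberι_asFiber x)).mpr ⟨Flat.stalkMap f x, ?_⟩
  rw [(f.fiberToSpecResidueField (f x)).smoothLocus_eq_top]
  trivial

theorem le_smoothLocus_of_smooth_restrict (g : X ⟶ Y) [LocallyOfFinitePresentation g]
    (U : X.Opens) [Smooth (U.ι ≫ g)] : U ≤ g.smoothLocus := by
  intro x hx
  have h1 : (⟨x, hx⟩ : U) ∈ U.ι ⁻¹ᵁ g.smoothLocus := by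
    rw [Scheme.Hom.preimage_smoothLocus_eq, (U.ι ≫ g).smoothLocus_eq_top]
    trivial
  exact h1

theorem mem_smoothLocus_comp (g : X ⟶ Y) (h : Y ⟶ Z) [LocallyOfFinitePresentation g] [Smooth h]
    (x : X) (hx : x ∈ g.smoothLocus) : x ∈ (g ≫ h).smoothLocus := by
  haveI : Smooth (g.smoothLocus.ι ≫ g) :=
    smooth_comp_of_le_smoothLocus g.smoothLocus.ι g (fun z => z.2)
  haveI : Smooth (g.smoothLocus.ι ≫ g ≫ h) := by
    rw [← Category.assoc]; infer_instance
  exact le_smoothLocus_of_smooth_restrict (g ≫ h) g.smoothLocus hx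

end aux

/-- Let k be an algebraically closed field, S a smooth projective surface over k (integral, proper and
smooth over k, of dimension 2), f : S → C a surjective k-morphism onto a smooth projective curve C
(integral, proper and smooth over k, of dimension 1), and ψ : C' → C a finite k-morphism from
another smooth projective curve C' which is unramified at every point of C' lying over a point of C
whose fibre of f is not smooth. Then S ×_C C' is smooth over k. (The published statement takes ψ
separable and f the chapter's generically smooth semi-stable fibration with connected fibres over an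
algebraically closed field of positive characteristic; this row assumes only f surjective and ψ
finite, over any algebraically closed field.) -/
theorem result (k : Type u) [Field k] [IsAlgClosed k]
    (S : Scheme.{u}) [S.Over (Spec (CommRingCat.of k))] [IsProper (S ↘ (Spec (CommRingCat.of k)))]
    [Smooth (S ↘ (Spec (CommRingCat.of k)))] [IsIntegral S] (hdim : topologicalKrullDim S = 2)
    (C : Scheme.{u}) [C.Over (Spec (CommRingCat.of k))] [IsProper (C ↘ (Spec (CommRingCat.of k)))]
    [Smooth (C ↘ (Spec (CommRingCat.of k)))] [IsIntegral C] (hdimC : topologicalKrullDim C = 1)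
    (f : S ⟶ C) [f.IsOver (Spec (CommRingCat.of k))] [Surjective f]
    (C' : Scheme.{u}) [C'.Over (Spec (CommRingCat.of k))] [IsProper (C' ↘ (Spec (CommRingCat.of k)))]
    [Smooth (C' ↘ (Spec (CommRingCat.of k)))] [IsIntegral C'] (hdimC' : topologicalKrullDim C' = 1)
    (ψ : C' ⟶ C) [ψ.IsOver (Spec (CommRingCat.of k))] [IsFinite ψ]
    (hψ : ∀ c : C', ¬ Smooth (f.fiberToSpecResidueField (ψ.base c)) →
      ∃ U : C'.Opens, c ∈ U ∧ FormallyUnramified (U.ι ≫ ψ)) :
    Smooth (pullback.snd f ψ ≫ (C' ↘ (Spec (CommRingCat.of k)))) := by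
  classical
  haveI : IsLocallyNoetherian C :=
    LocallyOfFiniteType.isLocallyNoetherian (C ↘ (Spec (CommRingCat.of k)))
  have hN : ∀ y : C, IsDomain (C.presheaf.stalk y) ∧ IsIntegrallyClosed (C.presheaf.stalk y) :=
    fun y => Groth.Agent.H1.SurfBC_NORM.normal_stalk_of_smooth_field k
      (C ↘ (Spec (CommRingCat.of k))) y
  have hfk : f ≫ (C ↘ (Spec (CommRingCat.of k))) = S ↘ (Spec (CommRingCat.of k)) :=
    comp_over f _
  have hψk : ψ ≫ (C ↘ (Spec (CommRingCat.of k))) = C' ↘ (Spec (CommRingCat.of k)) :=
    comp_over ψ _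
  haveI : Flat f := Groth.Agent.H38.CurveFlat.flat_of_nonconstant hdimC.le hN f
    (Groth.Agent.H73.SurfBC_NC1.range_nontrivial_of_surjective hdimC f)
  haveI : Flat ψ := Groth.Agent.H38.CurveFlat.flat_of_nonconstant hdimC.le hN ψ
    (Groth.Agent.H80.SurfBC_NC2.range_nontrivial_of_isFinite hdimC' ψ)
  haveI : LocallyOfFiniteType f := by
    haveI : LocallyOfFiniteType (f ≫ (C ↘ (Spec (CommRingCat.of k)))) := by
      rw [hfk]; infer_instance
    exact locallyOfFiniteType_of_comp f (C ↘ (Spec (CommRingCat.of k)))
  haveI : LocallyOfFinitePresentation f := inferInstance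
  haveI : LocallyOfFinitePresentation ψ := inferInstance
  haveI : LocallyOfFinitePresentation (pullback.snd f ψ) := inferInstance
  haveI : LocallyOfFinitePresentation (pullback.fst f ψ) := inferInstance
  have hcomp : pullback.snd f ψ ≫ (C' ↘ (Spec (CommRingCat.of k))) =
      pullback.fst f ψ ≫ (S ↘ (Spec (CommRingCat.of k))) := by
    rw [← hψk, ← hfk, ← Category.assoc, ← Category.assoc, pullback.condition]
  haveI : LocallyOfFinitePresentation (pullback.snd f ψ ≫ (C' ↘ (Spec (CommRingCat.of k)))) :=
    inferInstance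
  rw [← Scheme.Hom.smoothLocus_eq_top_iff, ← top_le_iff]
  rintro z -
  by_cases hsm : Smooth (f.fiberToSpecResidueField (ψ.base (pullback.snd f ψ z)))
  · -- the fibre is smooth: `f` is smooth at `fst z`
    have h1 : f (pullback.fst f ψ z) = ψ (pullback.snd f ψ z) := by
      rw [← Scheme.Hom.comp_apply, ← Scheme.Hom.comp_apply, pullback.condition]
    have h2 : pullback.fst f ψ z ∈ f.smoothLocus := by
      refine mem_smoothLocus_of_flat_of_smooth_fibre f _ ?_
      rw [h1]; exact hsm
    have h3 : z ∈ (pullback.snd f ψ).smoothLocus :=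
      mem_smoothLocus_of_isPullback (IsPullback.of_hasPullback f ψ) z h2
    exact mem_smoothLocus_comp _ _ z h3
  · obtain ⟨U, hcU, hU⟩ := hψ (pullback.snd f ψ z) hsm
    haveI := hU
    haveI : Flat (U.ι ≫ ψ) := inferInstance
    haveI : LocallyOfFinitePresentation (U.ι ≫ ψ) := inferInstance
    haveI : Etale (U.ι ≫ ψ) := Etale.of_formallyUnramified_of_flat (U.ι ≫ ψ)
    haveI : Smooth (U.ι ≫ ψ) := inferInstance
    have h2 : pullback.snd f ψ z ∈ ψ.smoothLocus := le_smoothLocus_of_smooth_restrict ψ U hcU
    have h3 : z ∈ (pullback.fst f ψ).smoothLocus :=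
      mem_smoothLocus_of_isPullback (IsPullback.of_hasPullback f ψ).flip z h2
    have h4 : z ∈ (pullback.fst f ψ ≫ (S ↘ (Spec (CommRingCat.of k)))).smoothLocus :=
      mem_smoothLocus_comp _ _ z h3
    have hcongr : ∀ (a b : pullback f ψ ⟶ Spec (CommRingCat.of k))
        [LocallyOfFinitePresentation a] [LocallyOfFinitePresentation b], a = b →
        z ∈ b.smoothLocus → z ∈ a.smoothLocus := by
      intro a b _ _ hab hz
      subst hab
      exact hz
    haveI : LocallyOfFinitePresentation
        (pullback.fst f ψ ≫ (S ↘ (Spec (CommRingCat.of k)))) := inferInstance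
    exact hcongr _ _ hcomp h4

end Groth.Agent.S14315
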