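import Groth.Statements.S1432
import Mathlib.AlgebraicGeometry.Morphisms.ClosedImmersion
import Mathlib.AlgebraicGeometry.Morphisms.QuasiCompact
import Mathlib.AlgebraicGeometry.Limits

set_option autoImplicit false
universe u
open FlatMor

namespace Groth.Agent.S1432

section
open AlgebraicGeometry CategoryTheory Limits

/-- the lifting property against injective ring maps -/
def Lift {X Y : Scheme.{u}} (f : X ⟶ Y) : Prop :=
  ∀ (A B : Type u) [CommRing A] [CommRing B] (φ : A →+* B), Function.Injective φ →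
    ∀ (a : Spec (CommRingCat.of B) ⟶ X) (b : Spec (CommRingCat.of A) ⟶ Y),
      Spec.map (CommRingCat.ofHom φ) ≫ b = a ≫ f →
      ∃ l : Spec (CommRingCat.of A) ⟶ X, Spec.map (CommRingCat.ofHom φ) ≫ l = a ∧ l ≫ f = b

lemma injective_appTop_SpecMap {R S : CommRingCat.{u}} (ψ : R ⟶ S) (h : Function.Injective ψ.hom) :
    Function.Injective (Spec.map ψ).appTop.hom := by
  have h1 : (Spec.map ψ).appTop = (Scheme.ΓSpecIso R).hom ≫ ψ ≫ (Scheme.ΓSpecIso S).inv := by
    rw [← Category.assoc, ← Scheme.ΓSpecIso_naturality, Category.assoc, Iso.hom_inv_id,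
      Category.comp_id]
  rw [h1]
  simp only [CommRingCat.hom_comp, RingHom.coe_comp]
  exact ((ConcreteCategory.bijective_of_isIso (Scheme.ΓSpecIso S).inv).1.comp h).comp
    (ConcreteCategory.bijective_of_isIso (Scheme.ΓSpecIso R).hom).1

lemma lift_of_isClosedImmersion {X Y : Scheme.{u}} (f : X ⟶ Y) [IsClosedImmersion f] : Lift f := by
  intro A B _ _ φ hφ a b w
  let c : Spec (CommRingCat.of B) ⟶ pullback f b :=
    pullback.lift a (Spec.map (CommRingCat.ofHom φ)) w.symm
  have hc : c ≫ pullback.snd f b = Spec.map (CommRingCat.ofHom φ) := pullback.lift_snd _ _ _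
  have hinj : Function.Injective (pullback.snd f b).appTop.hom := by
    have h1 : (pullback.snd f b).appTop ≫ c.appTop = (Spec.map (CommRingCat.ofHom φ)).appTop := by
      rw [← Scheme.Hom.comp_appTop, hc]
    have h2 := injective_appTop_SpecMap (CommRingCat.ofHom φ) hφ
    rw [← h1] at h2
    simp only [CommRingCat.hom_comp, RingHom.coe_comp] at h2
    exact h2.of_comp
  haveI := IsClosedImmersion.isIso_of_injective_of_isAffine hinj
  refine ⟨inv (pullback.snd f b) ≫ pullback.fst f b, ?_, ?_⟩
  · rw [← hc, Category.assoc, IsIso.hom_inv_id_assoc]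
    exact pullback.lift_fst _ _ _
  · rw [Category.assoc, pullback.condition, IsIso.inv_hom_id_assoc]

lemma lift_baseChange {X Y Y' : Scheme.{u}} (f : X ⟶ Y) (h : Lift f) (g : Y' ⟶ Y) :
    Lift (pullback.snd f g) := by
  intro A B _ _ φ hφ a' b' w
  obtain ⟨l, hl1, hl2⟩ := h A B φ hφ (a' ≫ pullback.fst f g) (b' ≫ g) (by
    rw [← Category.assoc, w, Category.assoc, Category.assoc, pullback.condition])
  refine ⟨pullback.lift l b' hl2, ?_, ?_⟩
  · apply pullback.hom_ext
    · rw [Category.assoc, pullback.lift_fst, hl1]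
    · rw [Category.assoc, pullback.lift_snd, w]
  · exact pullback.lift_snd _ _ _

lemma isClosedImmersion_of_lift_of_isAffine {X Y : Scheme.{u}} (f : X ⟶ Y) [QuasiCompact f]
    [IsAffine Y] (h : Lift f) : IsClosedImmersion f := by
  haveI : CompactSpace X := QuasiCompact.compactSpace_of_compactSpace f
  let 𝒰 := X.affineCover.finiteSubcover
  haveI : ∀ i, IsAffine (𝒰.X i) := fun i => by
    dsimp [𝒰]; infer_instance
  let W : Scheme.{u} := ∐ 𝒰.X
  let p : W ⟶ X := Sigma.desc 𝒰.f
  haveI : IsAffine W := inferInstance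
  let ψ : Γ(Y, ⊤) ⟶ Γ(W, ⊤) := (p ≫ f).appTop
  let I := RingHom.ker ψ.hom
  let φ : (Γ(Y, ⊤) ⧸ I) →+* Γ(W, ⊤) := RingHom.kerLift ψ.hom
  have hφ : Function.Injective φ := RingHom.kerLift_injective _
  have hφψ : CommRingCat.ofHom (Ideal.Quotient.mk I) ≫ CommRingCat.ofHom φ = ψ := by
    ext x
    rfl
  let a : Spec (CommRingCat.of Γ(W, ⊤)) ⟶ X := W.isoSpec.inv ≫ p
  let b : Spec (CommRingCat.of (Γ(Y, ⊤) ⧸ I)) ⟶ Y :=
    Spec.map (CommRingCat.ofHom (Ideal.Quotient.mk I)) ≫ Y.isoSpec.inv
  have w : Spec.map (CommRingCat.ofHom φ) ≫ b = a ≫ f := by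
    have := Scheme.isoSpec_inv_naturality (p ≫ f)
    simp only [a, b, Category.assoc]
    rw [← this, ← Category.assoc, ← Spec.map_comp, hφψ]
  obtain ⟨l, hl1, hl2⟩ := h _ _ φ hφ a b w
  haveI : IsClosedImmersion b := by
    haveI : IsClosedImmersion (Spec.map (CommRingCat.ofHom (Ideal.Quotient.mk I))) :=
      IsClosedImmersion.spec_of_surjective _ Ideal.Quotient.mk_surjective
    infer_instance
  haveI : Mono l := mono_of_mono_fac hl2
  haveI : IsIso l := by
    apply (IsZariskiLocalAtTarget.iff_of_openCover (P := MorphismProperty.isomorphisms Scheme) 𝒰).mpr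
    intro i
    let t : 𝒰.X i ⟶ Spec (CommRingCat.of (Γ(Y, ⊤) ⧸ I)) :=
      Sigma.ι 𝒰.X i ≫ W.isoSpec.hom ≫ Spec.map (CommRingCat.ofHom φ)
    have ht : t ≫ l = 𝒰.f i := by
      simp only [t, Category.assoc, hl1, a]
      rw [Iso.hom_inv_id_assoc]
      exact Sigma.ι_desc _ _
    let s : 𝒰.X i ⟶ pullback l (𝒰.f i) := pullback.lift t (𝟙 _) (by rw [ht, Category.id_comp])
    have hs : s ≫ pullback.snd l (𝒰.f i) = 𝟙 _ := pullback.lift_snd _ _ _
    haveI : IsSplitEpi (pullback.snd l (𝒰.f i)) := ⟨⟨s, hs⟩⟩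
    change IsIso (pullback.snd l (𝒰.f i))
    exact isIso_of_mono_of_isSplitEpi _
  have hf : f = inv l ≫ b := by rw [IsIso.eq_inv_comp, hl2]
  rw [hf]
  infer_instance

end

open AlgebraicGeometry CategoryTheory Limits in
/-- For a quasi-compact morphism f : X → Y, being a closed immersion is equivalent to the following
lifting property: for each injective ring map A → B and each commutative square with Spec B → X on
top and Spec A → Y at the bottom there is a lift Spec A → X making both triangles commute. -/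
theorem result {X Y : Scheme.{u}} (f : X ⟶ Y) [QuasiCompact f] :
    IsClosedImmersion f ↔ ∀ (A B : Type u) [CommRing A] [CommRing B] (φ : A →+* B), Function.Injective φ →
      ∀ (a : Spec (CommRingCat.of B) ⟶ X) (b : Spec (CommRingCat.of A) ⟶ Y), Spec.map (CommRingCat.ofHom φ) ≫ b = a ≫ f →
        ∃ l : Spec (CommRingCat.of A) ⟶ X, Spec.map (CommRingCat.ofHom φ) ≫ l = a ∧ l ≫ f = b := by
  constructor
  · intro hf
    exact lift_of_isClosedImmersion f
  · intro h
    apply IsZariskiLocalAtTarget.of_openCover (P := @IsClosedImmersion) Y.affineCover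
    intro i
    change IsClosedImmersion (pullback.snd f (Y.affineCover.f i))
    haveI : IsAffine (Y.affineCover.X i) := by infer_instance
    exact isClosedImmersion_of_lift_of_isAffine _ (lift_baseChange f h (Y.affineCover.f i))

end Groth.Agent.S1432
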