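import Groth.Statements.S1433

set_option autoImplicit false
universe u
open FlatMor

namespace Groth.Agent.S1433

open AlgebraicGeometry CategoryTheory Limits in
/-- If the canonical morphism X → Spec Γ(X, O_X) has a retraction, then X is affine. -/
theorem result (X : Scheme.{u}) (r : Spec Γ(X, ⊤) ⟶ X) (h : X.toSpecΓ ≫ r = 𝟙 X) : IsAffine X := by
  -- Γ(toSpecΓ) is iso, so Γ(r) is iso
  have h1 : r.appTop ≫ X.toSpecΓ.appTop = 𝟙 _ := by
    rw [← Scheme.Hom.comp_appTop, h]; rfl
  have hiso : IsIso X.toSpecΓ.appTop := by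
    rw [Scheme.toSpecΓ_appTop]; infer_instance
  have h2 : IsIso r.appTop := by
    have : r.appTop = inv X.toSpecΓ.appTop := by
      rw [← cancel_mono X.toSpecΓ.appTop, h1, IsIso.inv_hom_id]
    rw [this]; infer_instance
  have h3 : r ≫ X.toSpecΓ = (Spec Γ(X, ⊤)).toSpecΓ ≫ Spec.map r.appTop :=
    Scheme.toSpecΓ_naturality r
  have h4 : IsIso (r ≫ X.toSpecΓ) := by
    rw [h3]; infer_instance
  constructor
  -- toSpecΓ is split mono (by h) and split epi (by h4)
  have : IsIso X.toSpecΓ := by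
    refine ⟨r, h, ?_⟩
    -- r ≫ toSpecΓ =: e is iso and e ≫ e = e
    have hidem : (r ≫ X.toSpecΓ) ≫ (r ≫ X.toSpecΓ) = r ≫ X.toSpecΓ := by
      rw [Category.assoc, ← Category.assoc X.toSpecΓ, h, Category.id_comp]
    have := (cancel_epi (r ≫ X.toSpecΓ)).mp (hidem.trans (Category.comp_id _).symm)
    exact this
  exact this

end Groth.Agent.S1433
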