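import Groth.Statements.S14330
import Groth.Agent.H21.InvRes

set_option autoImplicit false
universe u
open CategoryTheory CategoryTheory.Limits AlgebraicGeometry Opposite
open GrpSch

namespace Groth.Agent.S14330

/-- Let S be a locally Noetherian scheme, f : A → S a smooth morphism, L an invertible O_A-module and V
an open subscheme of S; for an open W of S consider the restriction of sections of L from f⁻¹(W) to
f⁻¹(W) ∩ f⁻¹(V), that is the component over W of the natural map f_*L → j_*j^*(f_*L), j : V → S the
inclusion. If V is schematically dense in S, all these restrictions are injective. If V is a big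
open of S, meaning that the local ring of S at every point outside V has depth at least 2, all these
restrictions are bijective. (The published statement is for a semi-stable group scheme A; its proof
uses only the smoothness of A over S and the local freeness of L, which are the hypotheses kept
here.) -/
theorem result {S A : Scheme.{u}} [IsLocallyNoetherian S]
    (f : A ⟶ S) [Smooth f] (L : A.Modules) (hL : PicF.IsInvertible L) (V : S.Opens) :
    (CInt.IsSchematicallyDense V →
      ∀ W : S.Opens, Function.Injective (L.val.map (homOfLE (inf_le_left : f ⁻¹ᵁ W ⊓ f ⁻¹ᵁ V ≤ f ⁻¹ᵁ W)).op)) ∧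
    ((∀ x : S, x ∉ V → 2 ≤ LocCoh.depth (S.presheaf.stalk x) (S.presheaf.stalk x)) →
      ∀ W : S.Opens, Function.Bijective (L.val.map (homOfLE (inf_le_left : f ⁻¹ᵁ W ⊓ f ⁻¹ᵁ V ≤ f ⁻¹ᵁ W)).op)) := by
  haveI : IsLocallyNoetherian A := LocallyOfFiniteType.isLocallyNoetherian f
  constructor
  · intro hV W
    have hU' : CInt.IsSchematicallyDense (f ⁻¹ᵁ V) := Groth.Agent.S3844.result f V hV
    exact Groth.Agent.H21.InvRes.injective_res_of_invertible L hL (f ⁻¹ᵁ V) hU' (f ⁻¹ᵁ W)
  · intro hdepth W
    have hLf : FlatMod.IsFinLocFree L := Groth.Agent.H8.isFinLocFree_of_isInvertible hL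
    have hLc : Coh.IsCoh L := Groth.Agent.H90.QH.isCoh_of_isFinLocFree hLf
    apply Groth.Agent.H17.Hartogs.map_bijective_of_depth L hLc inf_le_left
    intro x hxW hx
    have hxV : f x ∉ V := fun h => hx ⟨hxW, h⟩
    have h1 := hdepth (f x) hxV
    have h2 : LocCoh.depth (S.presheaf.stalk (f x)) (S.presheaf.stalk (f x)) ≤
        LocCoh.depth (A.presheaf.stalk x) (A.presheaf.stalk x) := by
      letI := (f.stalkMap x).hom.toAlgebra
      haveI : IsLocalHom (algebraMap (S.presheaf.stalk (f x)) (A.presheaf.stalk x)) :=
        (inferInstance : IsLocalHom (f.stalkMap x).hom)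
      haveI : Module.Flat (S.presheaf.stalk (f x)) (A.presheaf.stalk x) :=
        (AlgebraicGeometry.Flat.stalkMap f x)
      rw [Groth.Agent.H29.FlatCM.depth_eq_add_fibre (A := S.presheaf.stalk (f x))
        (B := A.presheaf.stalk x)]
      exact le_self_add
    haveI := Groth.Agent.H17.KerLocFree.free_stalk_of_isFinLocFree hLf x
    haveI : Module.Finite (A.presheaf.stalk x) (L.presheaf.stalk x) :=
      Groth.Agent.H8.finite_stalk_of_isCoh L hLc x
    exact (h1.trans h2).trans (Groth.Agent.H17.ReflDepth.depth_le_depth_free' _ _)

end Groth.Agent.S14330
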