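import Groth.Statements.S14336
import Groth.Agent.H76.FiberRank
import Mathlib.Tactic.TFAE
import Mathlib.RingTheory.Flat.EquationalCriterion
import Mathlib.RingTheory.Flat.Localization
-- import your own Groth.Agent.* helpers here

set_option autoImplicit false
universe u
open CAlg

namespace Groth.Agent.S14336

/-- Let B be a Noetherian ring, K and K' finitely generated flat B-modules and φ : K → K' a B-linear
map; for a prime y of B write κ(y) for its residue field and φ_y for the base change κ(y) ⊗ K → κ(y)
⊗ K'. Then the function y ↦ dim_{κ(y)} Im(φ_y) on Spec B is lower semicontinuous. -/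
theorem result (B : Type u) [CommRing B] [IsNoetherianRing B] (K K' : Type u) [AddCommGroup K] [Module B K] [Module.Finite B K] [Module.Flat B K] [AddCommGroup K'] [Module B K'] [Module.Finite B K'] [Module.Flat B K'] (φ : K →ₗ[B] K') : LowerSemicontinuous (fun y : PrimeSpectrum B => Module.finrank y.asIdeal.ResidueField ↥(LinearMap.range (φ.baseChange y.asIdeal.ResidueField))) := by
  apply Groth.Agent.H76.lowerSemicontinuous_of_local_ge
  intro p
  haveI : Module.FinitePresentation B K' := Module.finitePresentation_of_finite B K'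
  have hlc : IsLocallyConstant (Groth.Agent.H76.fdim B K') :=
    Groth.Agent.H76.isLocallyConstant_fdim_of_flat
  obtain ⟨U₂, hU₂, hp₂, h₂⟩ :=
    Groth.Agent.H76.exists_isOpen_fdim_le (M := K' ⧸ LinearMap.range φ) p
  refine ⟨{x | Groth.Agent.H76.fdim B K' x = Groth.Agent.H76.fdim B K' p} ∩ U₂,
    (hlc.isOpen_fiber _).inter hU₂, ⟨rfl, hp₂⟩, ?_⟩
  intro q hq
  have e1 := Groth.Agent.H76.finrank_range_add_fdim_coker φ p
  have e2 := Groth.Agent.H76.finrank_range_add_fdim_coker φ q
  have h3 : Groth.Agent.H76.fdim B K' q = Groth.Agent.H76.fdim B K' p := hq.1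
  have h4 := h₂ q hq.2
  beta_reduce
  omega

end Groth.Agent.S14336
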