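import Groth.Statements.S14337
import Mathlib.RingTheory.Flat.EquationalCriterion
import Mathlib.Algebra.Module.FinitePresentation
import Mathlib.LinearAlgebra.TensorProduct.Tower
import Mathlib.LinearAlgebra.TensorProduct.RightExactness
-- import your own Groth.Agent.* helpers here

set_option autoImplicit false
universe u
open scoped TensorProduct
open CAlg

namespace Groth.Agent.S14337

/-- Let B be a Noetherian ring, K and K' finitely generated flat B-modules and φ : K → K' a B-linear
map; for a prime y of B write κ(y) for its residue field and φ_y for the base change κ(y) ⊗ K → κ(y)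
⊗ K'. If the cokernel K'/Im φ is a projective (locally free) B-module, then Im φ is projective, and
the formation of Im φ commutes with every base change: for every commutative B-algebra B' the map B'
⊗ Im φ → B' ⊗ K' induced by the inclusion is injective and its range is the range of the base change
B' ⊗ K → B' ⊗ K' of φ. -/
theorem result (B : Type u) [CommRing B] [IsNoetherianRing B] (K K' : Type u) [AddCommGroup K] [Module B K] [Module.Finite B K] [Module.Flat B K] [AddCommGroup K'] [Module B K'] [Module.Finite B K'] [Module.Flat B K'] (φ : K →ₗ[B] K') (hc : Module.Projective B (K' ⧸ LinearMap.range φ)) : Module.Projective B ↥(LinearMap.range φ) ∧ ∀ (B' : Type u) [CommRing B'] [Algebra B B'], Function.Injective ((LinearMap.range φ).subtype.baseChange B') ∧ LinearMap.range ((LinearMap.range φ).subtype.baseChange B') = LinearMap.range (φ.baseChange B') := by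
  classical
  have : Module.FinitePresentation B K' := Module.finitePresentation_of_finite B K'
  have : Module.Projective B K' := Module.Flat.projective_of_finitePresentation
  -- a section of the quotient map
  obtain ⟨sec, hsec⟩ := Module.projective_lifting_property (LinearMap.range φ).mkQ LinearMap.id
    (Submodule.mkQ_surjective _)
  -- the retraction onto the range
  let r : K' →ₗ[B] ↥(LinearMap.range φ) :=
    LinearMap.codRestrict (LinearMap.range φ) (LinearMap.id - sec ∘ₗ (LinearMap.range φ).mkQ) (by
      intro k
      rw [← Submodule.Quotient.mk_eq_zero]
      have := LinearMap.congr_fun hsec ((LinearMap.range φ).mkQ k)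
      simp only [LinearMap.coe_comp, Function.comp_apply, LinearMap.id_coe, id_eq] at this
      simp only [LinearMap.sub_apply, LinearMap.id_coe, id_eq, LinearMap.coe_comp,
        Function.comp_apply, Submodule.Quotient.mk_sub]
      rw [sub_eq_zero]
      exact this.symm)
  have hr : r ∘ₗ (LinearMap.range φ).subtype = LinearMap.id := by
    ext ⟨k, hk⟩
    simp only [r, LinearMap.coe_comp, Function.comp_apply, Submodule.subtype_apply,
      LinearMap.codRestrict_apply, LinearMap.sub_apply, LinearMap.id_coe, id_eq,
      Submodule.mkQ_apply]
    rw [(Submodule.Quotient.mk_eq_zero _).2 hk, map_zero, sub_zero]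
  refine ⟨Module.Projective.of_split (LinearMap.range φ).subtype r hr, ?_⟩
  intro B' _ _
  refine ⟨?_, ?_⟩
  · have h2 : r.baseChange B' ∘ₗ (LinearMap.range φ).subtype.baseChange B' = LinearMap.id := by
      rw [← LinearMap.baseChange_comp, hr, LinearMap.baseChange_id]
    intro a b hab
    have := congrArg (r.baseChange B') hab
    have ha := LinearMap.congr_fun h2 a
    have hb := LinearMap.congr_fun h2 b
    simp only [LinearMap.coe_comp, Function.comp_apply, LinearMap.id_coe, id_eq] at ha hb
    rw [ha, hb] at this
    exact this
  · have hφ : φ = (LinearMap.range φ).subtype ∘ₗ φ.rangeRestrict := by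
      ext k; rfl
    have hsurj : Function.Surjective (φ.rangeRestrict.baseChange B') :=
      LinearMap.lTensor_surjective _ φ.surjective_rangeRestrict
    conv_rhs => rw [hφ, LinearMap.baseChange_comp]
    rw [LinearMap.range_comp_of_range_eq_top _ (LinearMap.range_eq_top.2 hsurj)]

end Groth.Agent.S14337
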