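import Groth.Statements.S1434
import Mathlib.AlgebraicGeometry.Morphisms.ClosedImmersion
import Mathlib.AlgebraicGeometry.IdealSheaf.Subscheme

set_option autoImplicit false
universe u
open FlatMor

namespace Groth.Agent.S1434

section
open AlgebraicGeometry CategoryTheory Limits

/-- If `t.ker * t.ker = ⊥` for a quasi-compact `t`, then two sections over any open
killed by `t` have product zero. -/
lemma mul_eq_zero_of_ker_sq {T T' : Scheme.{u}} (t : T ⟶ T') [QuasiCompact t]
    (hsq : t.ker * t.ker = ⊥) (V : T'.Opens) (α β : Γ(T', V))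
    (hα : (t.app V).hom α = 0) (hβ : (t.app V).hom β = 0) : α * β = 0 := by
  refine T'.IsSheaf.section_ext fun x hx => ?_
  obtain ⟨_, ⟨W, hW, rfl⟩, hxW, hWV : W ≤ V⟩ :=
    T'.isBasis_affineOpens.exists_subset_of_mem_open hx V.isOpen
  refine ⟨W, hWV, hxW, ?_⟩
  rw [map_zero, map_mul]
  have h1 : ∀ γ : Γ(T', V), (t.app V).hom γ = 0 →
      (T'.presheaf.map (homOfLE hWV).op).hom γ ∈ t.ker.ideal ⟨W, hW⟩ := by
    intro γ hγ
    rw [Scheme.Hom.ker_apply, RingHom.mem_ker]
    have := congr($(t.naturality (homOfLE hWV).op).hom γ)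
    simp only [CommRingCat.hom_comp, RingHom.coe_comp, Function.comp_apply] at this
    rw [this, hγ, map_zero]
  have h2 : (T'.presheaf.map (homOfLE hWV).op).hom α * (T'.presheaf.map (homOfLE hWV).op).hom β ∈
      (t.ker * t.ker).ideal ⟨W, hW⟩ := by
    rw [Scheme.IdealSheafData.ideal_mul]
    exact Ideal.mul_mem_mul (h1 α hα) (h1 β hβ)
  rw [hsq] at h2
  simpa using h2

end

open AlgebraicGeometry CategoryTheory Limits in
/-- Part (1), for a closed subscheme: let Z ⊂ X be the closed subscheme cut out by an ideal sheaf I and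
Z' the one cut out by I², its first order infinitesimal neighbourhood. Given a first order
thickening T → T', a morphism a : T → Z and a morphism b : T' → X compatible with them, there is a
unique morphism T' → Z' through which b factors (compatibility with a is then automatic). -/
theorem result {X T T' : Scheme.{u}} (I : X.IdealSheafData) (t : T ⟶ T') (ht : MoreMor.IsFirstOrderThickening t)
    (a : T ⟶ I.subscheme) (b : T' ⟶ X) (w : a ≫ I.subschemeι = t ≫ b) :
    ∃! a' : T' ⟶ (I ^ 2).subscheme, a' ≫ (I ^ 2).subschemeι = b := by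
  obtain ⟨⟨hci, hsurj⟩, hsq⟩ := ht
  haveI := hci
  have hker : (I ^ 2).subschemeι.ker ≤ b.ker := by
    rw [Scheme.IdealSheafData.ker_subschemeι]
    refine Scheme.IdealSheafData.le_ofIdeals_iff.mpr fun U => ?_
    rw [Scheme.IdealSheafData.ideal_pow, Pi.pow_apply, pow_two, Ideal.mul_le]
    intro x hx y hy
    rw [RingHom.mem_ker, map_mul]
    have key : ∀ z ∈ I.ideal U, (t.app (b ⁻¹ᵁ U)).hom ((b.app U).hom z) = 0 := by
      intro z hz
      have h1 : (t.app (b ⁻¹ᵁ U)).hom ((b.app U).hom z) = ((t ≫ b).app U).hom z := rfl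
      rw [h1]
      have h2 : ((a ≫ I.subschemeι).app U).hom z = 0 := by
        have hz' : (I.subschemeι.app U).hom z = 0 := by
          rw [← RingHom.mem_ker, Scheme.IdealSheafData.ker_subschemeι_app]; exact hz
        change (a.app (I.subschemeι ⁻¹ᵁ U)).hom ((I.subschemeι.app U).hom z) = 0
        rw [hz', map_zero]
      have h3 : ∀ (g₁ g₂ : T ⟶ X) (e : g₁ = g₂), (g₁.app U).hom z = 0 → (g₂.app U).hom z = 0 := by
        intro g₁ g₂ e h; subst e; exact h
      exact h3 _ _ w h2
    exact mul_eq_zero_of_ker_sq t hsq _ _ _ (key x hx) (key y hy)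
  refine ⟨IsClosedImmersion.lift (I ^ 2).subschemeι b hker, IsClosedImmersion.lift_fac _ _ _, ?_⟩
  intro a'' h
  rw [← cancel_mono (I ^ 2).subschemeι, h, IsClosedImmersion.lift_fac]

end Groth.Agent.S1434
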