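import Groth.Statements.S14345
import Groth.Agent.H71.DetProjective
import Mathlib.LinearAlgebra.TensorProduct.Tower

set_option autoImplicit false
universe u v
open TensorProduct
open QuotLF

namespace Groth.Agent.S14345

/-- Let R be a commutative ring, M a finitely generated R-module and k ≥ 0. If for an R-algebra A the
module A ⊗_R M admits a quotient that is finite projective of constant rank k (an A-valued point of
the Quot scheme of rank-k locally free quotients of M), then every Fitting ideal Fit_j(M) with j < k
extends to the zero ideal of A; that is, the structure map of the Quot scheme of rank-k locally free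
quotients factors through the closed subscheme cut out by Fit_{k-1}(M). -/
theorem result (R : Type u) [CommRing R]
    (M : Type v) [AddCommGroup M] [Module R M] [Module.Finite R M] (k : ℕ)
    (A : Type u) [CommRing A] [Algebra R A] (N : Module.Grassmannian A (A ⊗[R] M) k)
    (j : ℕ) (hj : j < k) :
    (Fitt.ideal R M j).map (algebraMap R A) = ⊥ := by
  rw [eq_bot_iff, Ideal.map_le_iff_le_comap]
  unfold Fitt.ideal
  rw [Ideal.span_le]
  rintro d ⟨n, x, a, hx, hrel, rfl⟩
  rw [SetLike.mem_coe, Ideal.mem_comap, Ideal.mem_bot]
  -- generators of the quotient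
  let w : Fin n → A ⊗[R] M := fun l => (1 : A) ⊗ₜ[R] x l
  let y : Fin n → (A ⊗[R] M) ⧸ N.toSubmodule := fun l => N.toSubmodule.mkQ (w l)
  have hw : Submodule.span A (Set.range w) = ⊤ := by
    have h1 := Submodule.baseChange_span (R := R) (M := M) A (Set.range x)
    rw [hx, Submodule.baseChange_top] at h1
    rw [h1, ← Set.range_comp]
    rfl
  have hy : Submodule.span A (Set.range y) = ⊤ := by
    have : Set.range y = N.toSubmodule.mkQ '' Set.range w := by rw [← Set.range_comp]; rfl
    rw [this, ← Submodule.map_span, hw, Submodule.map_top, Submodule.range_mkQ]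
  have hrel' : ∀ i : Fin n, (i : ℕ) < n - j →
      ∑ l, (a.map (algebraMap R A)) i l • y l = 0 := by
    intro i hi
    have h0 : ∑ l, (a.map (algebraMap R A)) i l • y l =
        N.toSubmodule.mkQ ((1 : A) ⊗ₜ[R] (∑ l, a i l • x l)) := by
      rw [TensorProduct.tmul_sum, map_sum]
      refine Finset.sum_congr rfl fun l _ => ?_
      change algebraMap R A (a i l) • N.toSubmodule.mkQ ((1 : A) ⊗ₜ[R] x l) = _
      rw [← map_smul, TensorProduct.smul_tmul', smul_eq_mul, mul_one,
        Algebra.algebraMap_eq_smul_one, TensorProduct.smul_tmul]
    rw [h0, hrel i hi, TensorProduct.tmul_zero, map_zero]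
  have hdet := Groth.Agent.H71.det_eq_zero_of_relations_of_projective (A := A)
    (Q := (A ⊗[R] M) ⧸ N.toSubmodule) k N.rankAtStalk_eq y hy (a.map (algebraMap R A)) (n - j)
    (Nat.sub_le n j) (by omega) hrel'
  rw [RingHom.map_det, RingHom.mapMatrix_apply]
  exact hdet

end Groth.Agent.S14345
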