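import Groth.Statements.S14351
import Mathlib.LinearAlgebra.TensorProduct.Tower
-- import your own Groth.Agent.* helpers here

set_option autoImplicit false
universe u
open CAlg

namespace Groth.Agent.S14351

/-- For ring maps A → B → C with C faithfully flat over B and C faithfully flat over A, the ring B is
faithfully flat over A. -/
theorem result (A B C : Type u) [CommRing A] [CommRing B]
    [CommRing C] [Algebra A B] [Algebra B C] [Algebra A C] [IsScalarTower A B C]
    [Module.FaithfullyFlat B C] [Module.FaithfullyFlat A C] : Module.FaithfullyFlat A B := by
  open TensorProduct TensorProduct.AlgebraTensorModule in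
  rw [Module.FaithfullyFlat.iff_flat_and_lTensor_reflects_triviality]
  refine ⟨?_, ?_⟩
  · rw [Module.Flat.iff_lTensor_preserves_injective_linearMap]
    intro N N' _ _ _ _ f hf
    have h1 : Function.Injective (lTensor C C f) :=
      Module.Flat.lTensor_preserves_injective_linearMap (M := C) f hf
    have h2 := lTensor_comp_cancelBaseChange (R := A) (A := B) (B := C) (M := C) f
    have h3 : Function.Injective (lTensor C C (lTensor B B f)) := by
      have h4 : Function.Injective
          ((cancelBaseChange A B C C N').toLinearMap ∘ₗ lTensor C C (lTensor B B f)) := by
        rw [← h2]
        exact h1.comp (cancelBaseChange A B C C N).injective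
      rw [LinearMap.coe_comp] at h4
      exact Function.Injective.of_comp h4
    have h5 : Function.Injective ((lTensor B B f).lTensor C) := h3
    exact (Module.FaithfullyFlat.lTensor_injective_iff_injective B C (lTensor B B f)).1 h5
  · intro N _ _ hN
    have : Subsingleton (C ⊗[B] (B ⊗[A] N)) := inferInstance
    have : Subsingleton (C ⊗[A] N) :=
      (cancelBaseChange A B C C N).symm.toEquiv.injective.subsingleton
    exact Module.FaithfullyFlat.lTensor_reflects_triviality A C N

end Groth.Agent.S14351
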