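import Groth.Statements.S14352
import Mathlib
import Groth.Agent.H49.UnramFibre

set_option autoImplicit false
set_option maxHeartbeats 400000
universe u
open Mor

namespace Groth.Agent.S14352

open CategoryTheory CategoryTheory.Limits AlgebraicGeometry

theorem fu_ring {K A : Type u} [Field K] [IsAlgClosed K] [CommRing A] [Algebra K A]
    [Algebra.FiniteType K A] [IsReduced A] [DiscreteTopology (PrimeSpectrum A)] :
    Algebra.FormallyUnramified K A := by
  haveI : IsNoetherianRing A := Algebra.FiniteType.isNoetherianRing K A
  haveI : Ring.KrullDimLE 0 A :=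
    (PrimeSpectrum.discreteTopology_iff_finite_and_krullDimLE_zero.mp inferInstance).2
  haveI : IsArtinianRing A := isArtinianRing_iff_krullDimLE_zero.mpr inferInstance
  have hfac : ∀ m : MaximalSpectrum A, Algebra.FormallyUnramified K (A ⧸ m.asIdeal) := by
    intro m
    haveI : m.asIdeal.IsMaximal := m.isMaximal
    haveI : Algebra.FiniteType K (A ⧸ m.asIdeal) :=
      Algebra.FiniteType.of_surjective (Ideal.Quotient.mkₐ K m.asIdeal)
        (Ideal.Quotient.mkₐ_surjective K _)
    haveI : Module.Finite K (A ⧸ m.asIdeal) := by
      letI : Field (A ⧸ m.asIdeal) := Ideal.Quotient.field m.asIdeal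
      exact finite_of_finite_type_of_isJacobsonRing K _
    haveI : Algebra.IsIntegral K (A ⧸ m.asIdeal) := inferInstance
    have hbij : Function.Bijective (algebraMap K (A ⧸ m.asIdeal)) :=
      IsAlgClosed.algebraMap_bijective_of_isIntegral
    exact Algebra.FormallyUnramified.of_surjective (Algebra.ofId K (A ⧸ m.asIdeal)) hbij.2
  haveI := hfac
  have e : A ≃ₐ[K] (∀ m : MaximalSpectrum A, A ⧸ m.asIdeal) :=
    (IsArtinianRing.equivPi A).restrictScalars K
  exact Algebra.FormallyUnramified.of_equiv e.symm

set_option backward.isDefEq.respectTransparency.types false in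
theorem fu_of_reduced_discrete {Y : Scheme.{u}} {K : Type u} [Field K] [IsAlgClosed K]
    (g : Y ⟶ Spec (CommRingCat.of K)) [LocallyOfFiniteType g] [IsReduced Y]
    [DiscreteTopology Y] : FormallyUnramified g := by
  wlog hY : ∃ A, Y = Spec A generalizing Y with Hw
  · rw [IsZariskiLocalAtSource.iff_of_openCover (P := @FormallyUnramified) Y.affineCover]
    intro i
    haveI hd : DiscreteTopology (Y.affineCover.X i) :=
      (Y.affineCover.f i).isOpenEmbedding.isEmbedding.discreteTopology
    exact Hw (Y.affineCover.f i ≫ g) ⟨_, rfl⟩
  obtain ⟨A, rfl⟩ := hY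
  obtain ⟨φ, rfl⟩ := Spec.map_surjective g
  rw [HasRingHomProperty.Spec_iff (P := @FormallyUnramified)]
  have hft : φ.hom.FiniteType := (HasRingHomProperty.Spec_iff (P := @LocallyOfFiniteType)).mp ‹_›
  algebraize [φ.hom]
  haveI : _root_.IsReduced A := (affine_isReduced_iff A).mp ‹_›
  haveI : DiscreteTopology (PrimeSpectrum A) := ‹DiscreteTopology (Spec A)›
  have := fu_ring (K := K) (A := A)
  exact RingHom.formallyUnramified_algebraMap.mpr this

set_option backward.isDefEq.respectTransparency.types false in
theorem reduced_discrete_affine {K : Type u} [Field K] (A : CommRingCat.{u})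
    (g : Spec A ⟶ Spec (CommRingCat.of K)) (h1 : LocallyOfFiniteType g)
    (h2 : FormallyUnramified g) :
    IsReduced (Spec A) ∧ DiscreteTopology (Spec A) := by
  obtain ⟨φ, rfl⟩ := Spec.map_surjective g
  have hfu : φ.hom.FormallyUnramified :=
    (HasRingHomProperty.Spec_iff (P := @FormallyUnramified)).mp h2
  have hft : φ.hom.FiniteType := (HasRingHomProperty.Spec_iff (P := @LocallyOfFiniteType)).mp h1
  algebraize [φ.hom]
  haveI : Algebra.FormallyUnramified K A := hfu
  haveI : Module.Finite K A := Algebra.FormallyUnramified.finite_of_free K A
  haveI : _root_.IsReduced A := Algebra.FormallyUnramified.isReduced_of_field K A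
  haveI : IsArtinianRing A := isArtinian_of_tower K inferInstance
  exact ⟨inferInstance, (inferInstance : DiscreteTopology (PrimeSpectrum A))⟩

set_option backward.isDefEq.respectTransparency.types false in
theorem reduced_discrete_of_fu {Y : Scheme.{u}} {K : Type u} [Field K]
    (g : Y ⟶ Spec (CommRingCat.of K)) [LocallyOfFiniteType g] [FormallyUnramified g] :
    IsReduced Y ∧ DiscreteTopology Y := by
  have key : ∀ i : Y.affineCover.I₀,
      IsReduced (Y.affineCover.X i) ∧ DiscreteTopology (Y.affineCover.X i) := by
    intro i
    have hj : IsOpenImmersion (Y.affineCover.f i) := inferInstance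
    have hl : LocallyOfFiniteType (Y.affineCover.f i ≫ g) := inferInstance
    have hu : FormallyUnramified (Y.affineCover.f i ≫ g) :=
      MorphismProperty.comp_mem @FormallyUnramified _ _
        (Groth.Agent.H49.UnramFibre.formallyUnramified_of_isOpenImmersion _) inferInstance
    exact reduced_discrete_affine _ (Y.affineCover.f i ≫ g) hl hu
  constructor
  · haveI := fun i => (key i).1
    exact IsReduced.of_openCover _ Y.affineCover
  · rw [discreteTopology_iff_isOpen_singleton]
    intro x
    obtain ⟨i, y, rfl⟩ := Y.affineCover.exists_eq x
    haveI := (key i).2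
    have h3 : IsOpen ((Y.affineCover.f i) '' {y}) :=
      (Y.affineCover.f i).isOpenEmbedding.isOpenMap _ (isOpen_discrete _)
    simpa using h3

set_option backward.isDefEq.respectTransparency.types false in

open CategoryTheory CategoryTheory.Limits AlgebraicGeometry in
/-- A morphism of schemes f : X → S which is locally of finite presentation is unramified (formally
unramified) if and only if all its geometric fibres are reduced with discrete underlying space: for
every algebraically closed field K and every S-point Spec K → S, the fibre product X ×_S Spec K is a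
reduced scheme whose topological space is discrete. -/
theorem result {X S : Scheme.{u}} (f : X ⟶ S)
    [LocallyOfFinitePresentation f] :
    FormallyUnramified f ↔
      ∀ (K : Type u) [Field K] [IsAlgClosed K] (s : Spec (CommRingCat.of K) ⟶ S),
        IsReduced (pullback f s) ∧ DiscreteTopology ↥(pullback f s) := by
  constructor
  · intro hf K _ _ s
    haveI := hf
    haveI : FormallyUnramified (pullback.snd f s) := MorphismProperty.pullback_snd _ _ hf
    haveI : LocallyOfFiniteType (pullback.snd f s) :=
      MorphismProperty.pullback_snd _ _ inferInstance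
    exact reduced_discrete_of_fu (pullback.snd f s)
  · intro H
    apply Groth.Agent.H49.UnramFibre.formallyUnramified_of_fiberToSpecResidueField
    intro s
    let K := AlgebraicClosure (S.residueField s)
    let a : Spec (CommRingCat.of K) ⟶ Spec (S.residueField s) :=
      Spec.map (CommRingCat.ofHom (algebraMap (S.residueField s) K))
    let b := S.fromSpecResidueField s
    obtain ⟨hred, hdisc⟩ := H K (a ≫ b)
    haveI : LocallyOfFiniteType (pullback.snd f (a ≫ b)) :=
      MorphismProperty.pullback_snd _ _ inferInstance
    have h1 : FormallyUnramified (pullback.snd f (a ≫ b)) := fu_of_reduced_discrete _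
    have t : IsPullback (pullback.fst f b) (pullback.snd f b) f b := IsPullback.of_hasPullback f b
    have sq : IsPullback (pullback.lift (pullback.fst f (a ≫ b)) (pullback.snd f (a ≫ b) ≫ a)
        (by rw [Category.assoc, pullback.condition]) ≫ pullback.fst f b)
        (pullback.snd f (a ≫ b)) f (a ≫ b) := by
      rw [pullback.lift_fst]
      exact IsPullback.of_hasPullback f (a ≫ b)
    have key := IsPullback.of_right sq (pullback.lift_snd _ _ _) t
    have hQ : (@Surjective ⊓ @Flat ⊓ @QuasiCompact : MorphismProperty Scheme) a := by
      refine ⟨⟨?_, ?_⟩, ?_⟩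
      · exact ⟨fun y => ⟨(⟨⊥, Ideal.isPrime_bot⟩ : PrimeSpectrum K),
          Subsingleton.elim (α := PrimeSpectrum (S.residueField s)) _ _⟩⟩
      · rw [HasRingHomProperty.Spec_iff (P := @Flat)]
        exact RingHom.flat_algebraMap_iff.mpr inferInstance
      · infer_instance
    show FormallyUnramified (pullback.snd f b)
    exact MorphismProperty.of_isPullback_of_descendsAlong (P := @FormallyUnramified)
      key.flip hQ h1

end Groth.Agent.S14352
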