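import Groth.Statements.S14353
import Mathlib
import Groth.Agent.S6786

set_option autoImplicit false
universe u
open CategoryTheory CategoryTheory.Limits CategoryTheory.MonoidalCategory
open CAlg

namespace Groth.Agent.S14353

open Opposite TensorProduct

section helpers
variable {R : Type u} [CommRing R]

lemma thin {X Y : ℕᵒᵖ} (p q : X ⟶ Y) : p = q := Quiver.Hom.unop_inj (Subsingleton.elim _ _)

theorem exists_lim (F : ℕᵒᵖ ⥤ ModuleCat.{u} R) (x : ∀ n, F.obj n)
    (hx : ∀ {i j : ℕᵒᵖ} (f : i ⟶ j), (F.map f).hom (x i) = x j) :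
    ∃ l : (limit F : ModuleCat.{u} R), ∀ n, (limit.π F n).hom l = x n := by
  let hlim : IsLimit ((forget (ModuleCat.{u} R)).mapCone (limit.cone F)) :=
    isLimitOfPreserves (forget (ModuleCat.{u} R)) (limit.isLimit F)
  let sec : (F ⋙ forget (ModuleCat.{u} R)).sections := ⟨x, fun {i j} f => hx f⟩
  refine ⟨(Types.isLimitEquivSections hlim).symm sec, fun n => ?_⟩
  exact Types.isLimitEquivSections_symm_apply hlim sec n

theorem lim_ext (F : ℕᵒᵖ ⥤ ModuleCat.{u} R) (a b : (limit F : ModuleCat.{u} R))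
    (h : ∀ n, (limit.π F n).hom a = (limit.π F n).hom b) : a = b := by
  apply Concrete.limit_ext F
  intro n
  exact h n

theorem lim_compat (F : ℕᵒᵖ ⥤ ModuleCat.{u} R) (a : (limit F : ModuleCat.{u} R)) {i j : ℕᵒᵖ}
    (f : i ⟶ j) : (F.map f).hom ((limit.π F i).hom a) = (limit.π F j).hom a :=
  ConcreteCategory.congr_hom (limit.w F f) a

theorem limLift (P Q : ℕᵒᵖ ⥤ ModuleCat.{u} R) (g : ∀ n, P.obj n →ₗ[R] Q.obj n)
    (hnat : ∀ {i j : ℕᵒᵖ} (f : i ⟶ j) (x : P.obj i),
      g j ((P.map f).hom x) = (Q.map f).hom (g i x))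
    (hArt : ∀ n, IsArtinian R (P.obj n)) (z : (limit Q : ModuleCat.{u} R))
    (hz : ∀ n, (limit.π Q n).hom z ∈ LinearMap.range (g n)) :
    ∃ y : (limit P : ModuleCat.{u} R), ∀ n, g n ((limit.π P n).hom y) = (limit.π Q n).hom z := by
  classical
  set cz : ∀ i : ℕᵒᵖ, Q.obj i := fun i => (limit.π Q i).hom z with hcz
  have hcc : ∀ {i j : ℕᵒᵖ} (f : i ⟶ j), (Q.map f).hom (cz i) = cz j := fun f => lim_compat Q z f
  have hPcomp : ∀ {i j k : ℕᵒᵖ} (f : i ⟶ j) (h : j ⟶ k) (x : P.obj i),
      (P.map (f ≫ h)).hom x = (P.map h).hom ((P.map f).hom x) := by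
    intro i j k f h x
    rw [P.map_comp]
    rfl
  have hPid : ∀ (i : ℕᵒᵖ) (x : P.obj i), (P.map (𝟙 i)).hom x = x := by
    intro i x
    rw [P.map_id]
    rfl
  let E : ℕᵒᵖ ⥤ Type u :=
    { obj := fun i => {x : P.obj i // g i x = cz i}
      map := fun {i j} f => ↾(fun x => ⟨(P.map f).hom x.1, by rw [hnat, x.2, hcc]⟩)
      map_id := fun i => by
        ext x
        exact hPid i x.1
      map_comp := fun f h => by
        ext x
        exact hPcomp f h x.1 }
  have hEne : ∀ i, Nonempty (E.obj i) := fun i => by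
    obtain ⟨x, hx⟩ := hz i
    exact ⟨⟨x, hx⟩⟩
  have hEML : E.IsMittagLeffler := by
    intro j
    have := hArt j
    let S : Set (Submodule R (P.obj j)) :=
      {W | ∃ (i : ℕᵒᵖ) (f : i ⟶ j), W = Submodule.map (P.map f).hom (LinearMap.ker (g i))}
    have hSne : S.Nonempty := ⟨_, j, 𝟙 j, rfl⟩
    obtain ⟨W₀, ⟨i₀, f₀, hW₀⟩, hmin⟩ := IsArtinian.set_has_minimal S hSne
    refine ⟨i₀, f₀, ?_⟩
    intro k0 h0
    rintro _ ⟨⟨x, hx⟩, rfl⟩
    obtain ⟨w, hw1, hw2⟩ := directed_of (· ≤ ·) k0.unop i₀.unop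
    let k : ℕᵒᵖ := Opposite.op w
    let pk : k ⟶ k0 := (homOfLE hw1).op
    let h : k ⟶ i₀ := (homOfLE hw2).op
    have hpg : pk ≫ h0 = h ≫ f₀ := thin _ _
    obtain ⟨⟨x', hx'⟩⟩ := hEne k
    have hd : x - (P.map h).hom x' ∈ LinearMap.ker (g i₀) := by
      rw [LinearMap.mem_ker, map_sub, hx, hnat, hx', hcc, sub_self]
    have hle : Submodule.map (P.map (h ≫ f₀)).hom (LinearMap.ker (g k)) ≤ W₀ := by
      rw [hW₀]
      rintro _ ⟨a, ha, rfl⟩
      have hk : g i₀ ((P.map h).hom a) = 0 := by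
        rw [hnat, (show g k a = 0 from ha), map_zero]
      exact ⟨(P.map h).hom a, hk, (hPcomp h f₀ a).symm⟩
    have heq : Submodule.map (P.map (h ≫ f₀)).hom (LinearMap.ker (g k)) = W₀ :=
      eq_of_le_of_not_lt hle (hmin _ ⟨k, h ≫ f₀, rfl⟩)
    have hmem : (P.map f₀).hom (x - (P.map h).hom x') ∈
        Submodule.map (P.map (h ≫ f₀)).hom (LinearMap.ker (g k)) := by
      rw [heq, hW₀]
      exact ⟨_, hd, rfl⟩
    obtain ⟨a', ha', ha''⟩ := hmem
    have hb3 : g k (x' + a') = cz k := by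
      rw [map_add, hx', (show g k a' = 0 from ha'), add_zero]
    refine ⟨E.map pk ⟨x' + a', hb3⟩, ?_⟩
    rw [← Functor.map_comp_apply, hpg]
    apply Subtype.ext
    change (P.map (h ≫ f₀)).hom (x' + a') = (P.map f₀).hom x
    rw [map_add, ha'', hPcomp, ← map_add, add_sub_cancel]
  have : ∀ j, Nonempty (E.obj j) := hEne
  have hG := Groth.Agent.S6786.nonempty_sections_nat E.toEventualRanges
    (fun i => E.toEventualRanges_nonempty hEML i) (E.surjective_toEventualRanges hEML)
  obtain ⟨σ'⟩ := hG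
  let σ : E.sections := E.toEventualRangesSectionsEquiv σ'
  obtain ⟨y, hy⟩ := exists_lim P (fun i => (σ.1 i).1)
    (fun {i j} f => congrArg Subtype.val (σ.2 f))
  exact ⟨y, fun n => by rw [hy n]; exact (σ.1 n).2⟩

theorem piNat {X Y : Type u} [AddCommGroup X] [Module R X] [AddCommGroup Y] [Module R Y] (b : ℕ)
    (φ : X →ₗ[R] Y) (ξ : X ⊗[R] (Fin b → R)) (i : Fin b) :
    TensorProduct.piScalarRight R R Y (Fin b) (φ.rTensor (Fin b → R) ξ) i =
      φ (TensorProduct.piScalarRight R R X (Fin b) ξ i) := by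
  induction ξ using TensorProduct.induction_on with
  | zero => simp
  | tmul x f =>
    rw [LinearMap.rTensor_tmul, TensorProduct.piScalarRight_apply,
      TensorProduct.piScalarRight_apply, TensorProduct.piScalarRightHom_tmul,
      TensorProduct.piScalarRightHom_tmul, map_smul]
  | add a c ha hc =>
    rw [map_add, map_add, Pi.add_apply, ha, hc, map_add, Pi.add_apply, map_add]

theorem lT_rT {A B X Y : Type u} [AddCommGroup A] [Module R A] [AddCommGroup B] [Module R B]
    [AddCommGroup X] [Module R X] [AddCommGroup Y] [Module R Y]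
    (ψ : A →ₗ[R] B) (φ : X →ₗ[R] Y) (x : A ⊗[R] X) :
    φ.lTensor B (ψ.rTensor X x) = ψ.rTensor Y (φ.lTensor A x) := by
  rw [← LinearMap.comp_apply, ← LinearMap.comp_apply, LinearMap.lTensor_comp_rTensor,
    LinearMap.rTensor_comp_lTensor]

variable (M : ℕᵒᵖ ⥤ ModuleCat.{u} R)

/-- the tower `M_n ⊗ X` -/
noncomputable abbrev tw (X : Type u) [AddCommGroup X] [Module R X] : ℕᵒᵖ ⥤ ModuleCat.{u} R :=
  M ⋙ tensorRight (ModuleCat.of R X)

theorem post_apply (X : Type u) [AddCommGroup X] [Module R X] (n : ℕᵒᵖ)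
    (ξ : (limit M : ModuleCat.{u} R) ⊗[R] X) :
    (limit.π (tw M X) n).hom ((limit.post M (tensorRight (ModuleCat.of R X))).hom ξ) =
      (limit.π M n).hom.rTensor X ξ :=
  ConcreteCategory.congr_hom (limit.post_π M (tensorRight (ModuleCat.of R X)) n) ξ

theorem tw_compat (X : Type u) [AddCommGroup X] [Module R X]
    (y : (limit (tw M X) : ModuleCat.{u} R)) {i j : ℕᵒᵖ} (f : i ⟶ j) :
    (M.map f).hom.rTensor X ((limit.π (tw M X) i).hom y) = (limit.π (tw M X) j).hom y :=
  lim_compat (tw M X) y f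

theorem free_inj (b : ℕ) (ξ : (limit M : ModuleCat.{u} R) ⊗[R] (Fin b → R))
    (h : ∀ n, (limit.π M n).hom.rTensor (Fin b → R) ξ = 0) : ξ = 0 := by
  classical
  apply (TensorProduct.piScalarRight R R _ (Fin b)).injective
  rw [map_zero]
  ext i
  apply lim_ext M
  intro n
  rw [Pi.zero_apply, map_zero, ← piNat b (limit.π M n).hom ξ i, h n, map_zero, Pi.zero_apply]

theorem free_surj (b : ℕ) (y : (limit (tw M (Fin b → R)) : ModuleCat.{u} R)) :
    ∃ ξ : (limit M : ModuleCat.{u} R) ⊗[R] (Fin b → R),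
      ∀ n, (limit.π M n).hom.rTensor (Fin b → R) ξ = (limit.π (tw M (Fin b → R)) n).hom y := by
  classical
  have hl : ∀ i : Fin b, ∃ l : (limit M : ModuleCat.{u} R), ∀ n, (limit.π M n).hom l =
      TensorProduct.piScalarRight R R (M.obj n) (Fin b)
        ((limit.π (tw M (Fin b → R)) n).hom y) i := by
    intro i
    apply exists_lim M
    intro n m f
    rw [← piNat b (M.map f).hom _ i, tw_compat]
  choose l hl using hl
  refine ⟨(TensorProduct.piScalarRight R R _ (Fin b)).symm l, fun n => ?_⟩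
  apply (TensorProduct.piScalarRight R R _ (Fin b)).injective
  ext i
  rw [piNat, LinearEquiv.apply_symm_apply, hl]

theorem main (N : Type u) [AddCommGroup N] [Module R N] [Module.FinitePresentation R N]
    (hM : ∀ n : ℕᵒᵖ, IsFiniteLength R (M.obj n)) :
    Function.Bijective (limit.post M (tensorRight (ModuleCat.of R N))).hom := by
  classical
  obtain ⟨b, q, hq⟩ := Module.Finite.exists_fin' R N
  have hK : (LinearMap.ker q).FG := Module.FinitePresentation.fg_ker q hq
  obtain ⟨a, s, hs⟩ := Submodule.fg_iff_exists_fin_generating_family.mp hK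
  let p : (Fin a → R) →ₗ[R] (Fin b → R) := Fintype.linearCombination R s
  have hp : LinearMap.range p = LinearMap.ker q := by
    rw [Fintype.range_linearCombination, hs]
  have hex : Function.Exact p q := LinearMap.exact_iff.mpr hp.symm
  have hArt : ∀ (c : ℕ) (n : ℕᵒᵖ), IsArtinian R ((tw M (Fin c → R)).obj n) := by
    intro c n
    haveI : IsArtinian R (M.obj n) := (isFiniteLength_iff_isNoetherian_isArtinian.mp (hM n)).2
    exact isArtinian_of_linearEquiv (TensorProduct.piScalarRight R R (M.obj n) (Fin c)).symm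
  constructor
  · rw [injective_iff_map_eq_zero]
    intro ξ hξ0
    have hξn : ∀ n, (limit.π M n).hom.rTensor N ξ = 0 := fun n => by
      rw [← post_apply, hξ0, map_zero]
    obtain ⟨ξb, hξb⟩ := LinearMap.lTensor_surjective (limit M : ModuleCat.{u} R) hq ξ
    have h2 : ∀ n, (limit.π (tw M (Fin b → R)) n).hom
        ((limit.post M (tensorRight (ModuleCat.of R (Fin b → R)))).hom ξb) ∈
        LinearMap.range (p.lTensor (M.obj n)) := by
      intro n
      rw [post_apply]
      apply (lTensor_exact (M.obj n) hex hq _).mp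
      rw [lT_rT, hξb, hξn]
    obtain ⟨ya, hya⟩ := limLift (tw M (Fin a → R)) (tw M (Fin b → R))
      (fun n => p.lTensor (M.obj n)) (fun f x => lT_rT (M.map f).hom p x) (hArt a) _ h2
    obtain ⟨ξa, hξa⟩ := free_surj M a ya
    have h3 : p.lTensor (limit M : ModuleCat.{u} R) ξa = ξb := by
      apply sub_eq_zero.mp
      apply free_inj M b
      intro n
      rw [map_sub, ← lT_rT, hξa, hya, post_apply, sub_self]
    rw [← hξb, ← h3, ← LinearMap.comp_apply, ← LinearMap.lTensor_comp,
      hex.linearMap_comp_eq_zero, LinearMap.lTensor_zero, LinearMap.zero_apply]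
  · intro t
    have h1 : ∀ n, (limit.π (tw M N) n).hom t ∈ LinearMap.range (q.lTensor (M.obj n)) := by
      intro n
      obtain ⟨x, hx⟩ := LinearMap.lTensor_surjective (M.obj n) hq ((limit.π (tw M N) n).hom t)
      exact ⟨x, hx⟩
    obtain ⟨y, hy⟩ := limLift (tw M (Fin b → R)) (tw M N)
      (fun n => q.lTensor (M.obj n)) (fun f x => lT_rT (M.map f).hom q x) (hArt b) t h1
    obtain ⟨ξ, hξ⟩ := free_surj M b y
    refine ⟨q.lTensor _ ξ, ?_⟩
    apply lim_ext (tw M N)
    intro n
    rw [post_apply, ← lT_rT, hξ, hy]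

end helpers


/-- For a commutative ring R, an inverse system (M_n)_{n ∈ ℕ} of R-modules of finite length and a
finitely presented R-module N, the canonical comparison map (lim_n M_n) ⊗_R N ⟶ lim_n (M_n ⊗_R N) is
an isomorphism. (The published statement takes N = R/I for a finitely generated ideal I; the
argument covers every finitely presented N, which is the form stated here.) -/
theorem result (R : Type u) [CommRing R]
    (M : ℕᵒᵖ ⥤ ModuleCat.{u} R) (hM : ∀ n : ℕᵒᵖ, IsFiniteLength R (M.obj n))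
    (N : Type u) [AddCommGroup N] [Module R N] [Module.FinitePresentation R N] :
    IsIso (limit.post M (tensorRight (ModuleCat.of R N))) := by
  exact (ConcreteCategory.isIso_iff_bijective _).mpr (main M N hM)

end Groth.Agent.S14353
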