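import Groth.Statements.S14354
import Groth.Agent.H8.SectionsExact
import Groth.Agent.H8.SuppClosed
import Groth.Agent.H8.CohKerCoker
import Groth.Agent.H21.EpiPush
-- import your own Groth.Agent.* helpers here

set_option autoImplicit false
universe u
open CategoryTheory CategoryTheory.Limits AlgebraicGeometry Opposite
open Coh

namespace Groth.Agent.S14354

set_option linter.style.haveILetI false

variable {X : Scheme.{u}}

/-- Abstract Mittag-Leffler lifting: in a tower of sets with subsets `J n` such that `J (n+1)` maps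
onto `J n`, every element of `J e` extends to a compatible family. -/
theorem exists_compatible_family : ∀ (e : ℕ) (S : ℕ → Type u) (p : ∀ n, S (n + 1) → S n)
    (J : ∀ n, Set (S n)) (_ : ∀ n, ∀ y ∈ J n, ∃ z ∈ J (n + 1), p n z = y) (y₀ : S e), y₀ ∈ J e →
    ∃ u : ∀ n, S n, (∀ n, p n (u (n + 1)) = u n) ∧ u e = y₀ := by
  intro e
  induction e with
  | zero =>
    intro S p J hJ y₀ h₀
    choose g hg using hJ
    let w : ∀ n, {z : S n // z ∈ J n} := fun n =>
      Nat.rec (motive := fun n => {z : S n // z ∈ J n}) ⟨y₀, h₀⟩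
        (fun n prev => ⟨g n prev.1 prev.2, (hg n prev.1 prev.2).1⟩) n
    refine ⟨fun n => (w n).1, fun n => ?_, rfl⟩
    exact (hg n (w n).1 (w n).2).2
  | succ e ih =>
    intro S p J hJ y₀ h₀
    obtain ⟨u', hu', hue⟩ := ih (fun n => S (n + 1)) (fun n => p (n + 1)) (fun n => J (n + 1))
      (fun n => hJ (n + 1)) y₀ h₀
    refine ⟨fun n => Nat.rec (motive := S) (p 0 (u' 0)) (fun n _ => u' n) n, fun n => ?_, hue⟩
    cases n with
    | zero => rfl
    | succ n => exact hu' n

lemma map_trans_app (G : ℕᵒᵖ ⥤ X.Modules) {a b c : ℕ} (hab : a ≤ b) (hbc : b ≤ c) (W : X.Opens)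
    (z : Γ(G.obj (op c), W)) :
    Scheme.Modules.Hom.app (G.map (homOfLE hab).op) W
        (Scheme.Modules.Hom.app (G.map (homOfLE hbc).op) W z) =
      Scheme.Modules.Hom.app (G.map (homOfLE (hab.trans hbc)).op) W z := by
  have e : (homOfLE (hab.trans hbc)).op = (homOfLE hbc).op ≫ (homOfLE hab).op := rfl
  rw [e, G.map_comp]
  rfl

/-- A compatible family of sections over `W` of a tower of modules comes from a section of the
limit. -/
lemma exists_section_of_compatible (G : ℕᵒᵖ ⥤ X.Modules) (W : X.Opens)
    (u : ∀ n : ℕ, Γ(G.obj (op n), W))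
    (hu : ∀ n, Scheme.Modules.Hom.app (G.map (homOfLE (Nat.le_succ n)).op) W (u (n + 1)) = u n) :
    ∃ t : Γ(limit G, W), ∀ n, Scheme.Modules.Hom.app (limit.π G (op n)) W t = u n := by
  haveI : PreservesLimitsOfSize.{0, 0} (Scheme.Modules.toPresheaf X) :=
    preservesSmallestLimits_of_preservesLimits _
  let F : X.Modules ⥤ Type u := Groth.Agent.H8.sectionsFunctor W ⋙ forget Ab
  haveI : PreservesLimitsOfSize.{0, 0} (forget Ab.{u}) :=
    preservesSmallestLimits_of_preservesLimits _
  haveI : PreservesLimitsOfSize.{0, 0}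
      ((evaluation (TopologicalSpace.Opens X)ᵒᵖ Ab.{u}).obj (op W)) :=
    preservesSmallestLimits_of_preservesLimits _
  haveI : PreservesLimitsOfShape ℕᵒᵖ F := by
    dsimp only [F, Groth.Agent.H8.sectionsFunctor]
    infer_instance
  have hl : IsLimit (F.mapCone (limit.cone G)) := isLimitOfPreserves F (limit.isLimit G)
  have hcompat : ∀ (a b : ℕ) (h : a ≤ b),
      Scheme.Modules.Hom.app (G.map (homOfLE h).op) W (u b) = u a := by
    intro a b h
    induction b, h using Nat.le_induction with
    | base =>
      have e : (homOfLE (le_refl a)).op = 𝟙 (op a) := rfl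
      rw [e, G.map_id]
      rfl
    | succ b hab ih =>
      rw [← map_trans_app G hab (Nat.le_succ b) W (u (b + 1)), hu b, ih]
  let s : (G ⋙ F).sections := ⟨fun j => u j.unop, by
    intro j j' φ
    have h : j'.unop ≤ j.unop := leOfHom φ.unop
    have e : φ = (homOfLE h).op := rfl
    rw [e]
    exact hcompat _ _ h⟩
  refine ⟨(Types.isLimitEquivSections hl).symm s, fun n => ?_⟩
  exact Types.isLimitEquivSections_symm_apply hl s (op n)

lemma isQuasicoherent_image {M N : X.Modules} [M.IsQuasicoherent] [N.IsQuasicoherent]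
    (φ : M ⟶ N) : (image φ).IsQuasicoherent := by
  haveI : (cokernel φ).IsQuasicoherent := Groth.Agent.H8.isQuasicoherent_cokernel φ
  haveI : (Abelian.image φ).IsQuasicoherent :=
    Groth.Agent.H22.QCohLimits.isQuasicoherent_kernel (cokernel.π φ)
  exact Groth.Agent.H22.QCohLimits.isQuasicoherent_of_iso (Abelian.imageIsoImage φ)

/-- If two morphisms of quasi-coherent modules have the same image subobject, they have the same
image on sections over affine opens. -/
lemma exists_app_eq_of_imageSubobject_eq {M₁ M₂ N : X.Modules} [M₁.IsQuasicoherent]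
    [M₂.IsQuasicoherent] [N.IsQuasicoherent] (φ₁ : M₁ ⟶ N) (φ₂ : M₂ ⟶ N)
    (h : imageSubobject φ₁ = imageSubobject φ₂) {W : X.Opens} (hW : IsAffineOpen W)
    (t : Γ(M₁, W)) :
    ∃ t' : Γ(M₂, W), Scheme.Modules.Hom.app φ₂ W t' = Scheme.Modules.Hom.app φ₁ W t := by
  haveI : (image φ₂).IsQuasicoherent := isQuasicoherent_image φ₂
  have hle : Subobject.mk (image.ι φ₁) ≤ Subobject.mk (image.ι φ₂) := le_of_eq h
  let i : image φ₁ ⟶ image φ₂ := Subobject.ofMkLEMk _ _ hle
  have hi : i ≫ image.ι φ₂ = image.ι φ₁ := Subobject.ofMkLEMk_comp hle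
  obtain ⟨t', ht'⟩ := Groth.Agent.H21.EpiPush.app_surjective_of_epi (factorThruImage φ₂) hW
    (Scheme.Modules.Hom.app i W (Scheme.Modules.Hom.app (factorThruImage φ₁) W t))
  refine ⟨t', ?_⟩
  calc Scheme.Modules.Hom.app φ₂ W t'
      = Scheme.Modules.Hom.app (factorThruImage φ₂ ≫ image.ι φ₂) W t' := by rw [image.fac]
    _ = Scheme.Modules.Hom.app (image.ι φ₂) W
          (Scheme.Modules.Hom.app (factorThruImage φ₂) W t') := rfl
    _ = Scheme.Modules.Hom.app (image.ι φ₂) W (Scheme.Modules.Hom.app i W
          (Scheme.Modules.Hom.app (factorThruImage φ₁) W t)) := by rw [ht']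
    _ = Scheme.Modules.Hom.app (factorThruImage φ₁ ≫ i ≫ image.ι φ₂) W t := rfl
    _ = Scheme.Modules.Hom.app φ₁ W t := by rw [hi, image.fac]

lemma support_eq_of_iso {M N : X.Modules} (i : M ≅ N) :
    CohB1.support M = CohB1.support N := by
  ext x
  let e : M.presheaf.stalk x ≅ N.presheaf.stalk x :=
    (TopCat.Presheaf.stalkFunctor Ab x).mapIso ((Scheme.Modules.toPresheaf X).mapIso i)
  have heq : Subsingleton (M.presheaf.stalk x) ↔ Subsingleton (N.presheaf.stalk x) :=
    Equiv.subsingleton_congr (e.addCommGroupIsoToAddEquiv.toEquiv)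
  exact not_congr heq

/-- Let X be a locally Noetherian scheme and (G_e)_{e ∈ ℕ} an inverse system of coherent O_X-modules
satisfying the Mittag-Leffler condition, in the sense that for every e the image subobject of G_d ⟶
G_e is the same for all sufficiently large d. Then for every e the support of the image of the
canonical map lim_d G_d ⟶ G_e is closed in X. (The published statement is the case where G_e is the
i-th cohomology sheaf of the Fourier–Mukai transform of the e-th member of a Mittag-Leffler inverse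
system of coherent modules on an abelian variety; the argument uses only the coherence of the G_e
and their Mittag-Leffler condition, which is the form stated here.) -/
theorem result (X : Scheme.{u}) [IsLocallyNoetherian X]
    (G : ℕᵒᵖ ⥤ X.Modules) (hG : ∀ n : ℕᵒᵖ, Coh.IsCoh (G.obj n))
    (hML : ∀ e : ℕ, ∃ (d : ℕ) (hd : e ≤ d), ∀ (d' : ℕ) (hd' : d ≤ d'),
      imageSubobject (G.map (homOfLE (hd.trans hd')).op) = imageSubobject (G.map (homOfLE hd).op))
    (e : ℕ) : IsClosed (CohB1.support (image (limit.π G (op e)))) := by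
  haveI hq : ∀ n : ℕ, (G.obj (op n)).IsQuasicoherent := fun n => (hG (op n)).1
  haveI hft : ∀ n : ℕ, SheafOfModules.IsFiniteType (R := X.ringCatSheaf) (G.obj (op n)) :=
    fun n => (hG (op n)).2
  choose d hd hstab using hML
  let f : G.obj (op (d e)) ⟶ G.obj (op e) := G.map (homOfLE (hd e)).op
  haveI hCq : (image f).IsQuasicoherent := isQuasicoherent_image f
  haveI hCft : SheafOfModules.IsFiniteType (R := X.ringCatSheaf) (image f : X.Modules) :=
    Groth.Agent.H8.isFiniteType_of_epi (factorThruImage f)
  have hCclosed : IsClosed (CohB1.support (image f)) :=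
    Groth.Agent.H8.isClosed_support_of_isFiniteType (image f)
  have hπ : limit.π G (op (d e)) ≫ f = limit.π G (op e) := limit.w G (homOfLE (hd e)).op
  let MF : MonoFactorisation (limit.π G (op e)) :=
    { I := image f
      m := image.ι f
      e := limit.π G (op (d e)) ≫ factorThruImage f
      fac := by rw [Category.assoc, image.fac, hπ] }
  let m : image (limit.π G (op e)) ⟶ image f := image.lift MF
  have hm : m ≫ image.ι f = image.ι (limit.π G (op e)) := image.lift_fac MF
  haveI : Mono m := mono_of_mono_fac hm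
  haveI : Epi m := by
    refine Groth.Agent.H18.Serre.epi_of_surjective_affine_cover m (fun V : X.affineOpens => V.1)
      (iSup_affineOpens_eq_top X) (fun V => V.2) ?_
    intro V s
    obtain ⟨W, hW⟩ := V
    obtain ⟨td, htd⟩ := Groth.Agent.H21.EpiPush.app_surjective_of_epi (factorThruImage f) hW s
    let S : ℕ → Type u := fun n => Γ(G.obj (op n), W)
    let p : ∀ n, S (n + 1) → S n := fun n z =>
      Scheme.Modules.Hom.app (G.map (homOfLE (Nat.le_succ n)).op) W z
    let J : ∀ n, Set (S n) := fun n => Set.range (fun z : Γ(G.obj (op (d n)), W) =>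
      Scheme.Modules.Hom.app (G.map (homOfLE (hd n)).op) W z)
    have hJ : ∀ n, ∀ y ∈ J n, ∃ z ∈ J (n + 1), p n z = y := by
      rintro n y ⟨t₀, rfl⟩
      have h1 : d n ≤ max (d n) (d (n + 1)) := le_max_left _ _
      have h2 : d (n + 1) ≤ max (d n) (d (n + 1)) := le_max_right _ _
      obtain ⟨t₁, ht₁⟩ := exists_app_eq_of_imageSubobject_eq (G.map (homOfLE (hd n)).op)
        (G.map (homOfLE ((hd n).trans h1)).op) (hstab n _ h1).symm hW t₀
      obtain ⟨t₂, ht₂⟩ := exists_app_eq_of_imageSubobject_eq
        (G.map (homOfLE ((hd (n + 1)).trans h2)).op) (G.map (homOfLE (hd (n + 1))).op)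
        (hstab (n + 1) _ h2) hW t₁
      refine ⟨Scheme.Modules.Hom.app (G.map (homOfLE ((hd (n + 1)).trans h2)).op) W t₁,
        ⟨t₂, ht₂⟩, ?_⟩
      show Scheme.Modules.Hom.app (G.map (homOfLE (Nat.le_succ n)).op) W
        (Scheme.Modules.Hom.app (G.map (homOfLE ((hd (n + 1)).trans h2)).op) W t₁) = _
      rw [map_trans_app G (Nat.le_succ n) ((hd (n + 1)).trans h2) W t₁]
      exact ht₁
    obtain ⟨u, hu, hue⟩ := exists_compatible_family e S p J hJ
      (Scheme.Modules.Hom.app f W td) ⟨td, rfl⟩
    obtain ⟨t, ht⟩ := exists_section_of_compatible G W u hu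
    refine ⟨Scheme.Modules.Hom.app (factorThruImage (limit.π G (op e))) W t, ?_⟩
    apply Groth.Agent.H8.app_injective_of_mono (image.ι f) W
    calc Scheme.Modules.Hom.app (image.ι f) W (Scheme.Modules.Hom.app m W
          (Scheme.Modules.Hom.app (factorThruImage (limit.π G (op e))) W t))
        = Scheme.Modules.Hom.app (factorThruImage (limit.π G (op e)) ≫ m ≫ image.ι f) W t := rfl
      _ = Scheme.Modules.Hom.app (limit.π G (op e)) W t := by rw [hm, image.fac]
      _ = u e := ht e
      _ = Scheme.Modules.Hom.app f W td := hue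
      _ = Scheme.Modules.Hom.app (factorThruImage f ≫ image.ι f) W td := by rw [image.fac]
      _ = Scheme.Modules.Hom.app (image.ι f) W
            (Scheme.Modules.Hom.app (factorThruImage f) W td) := rfl
      _ = Scheme.Modules.Hom.app (image.ι f) W s := by rw [htd]
  haveI : IsIso m := isIso_of_mono_of_epi m
  rw [support_eq_of_iso (asIso m)]
  exact hCclosed

end Groth.Agent.S14354
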