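import Groth.Statements.S14355
import Mathlib

set_option autoImplicit false
universe v u
open CategoryTheory CategoryTheory.Limits
open SpSeqMor

namespace Groth.Agent.S14355

set_option linter.unusedVariables false
set_option linter.unusedSectionVars false

section Gen

variable {C : Type u} [Category.{v} C] [Abelian C]

lemma isZero_page_of_le {κ : Type*} {c : ℤ → ComplexShape κ} {r₀ : ℤ} (E : SpectralSequence C c r₀)
    (pq : κ) (r : ℤ) (hr : r₀ ≤ r) (h : IsZero ((E.page r hr).X pq)) :
    ∀ (r' : ℤ) (hrr' : r ≤ r'), IsZero ((E.page r' (hr.trans hrr')).X pq) := by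
  intro r' hrr'
  induction r', hrr' using Int.leInduction with
  | base => exact h
  | succ n hn ih =>
    exact IsZero.of_iso (ShortComplex.isZero_homology_of_isZero_X₂ _ ih)
      (E.iso n (n + 1) pq rfl (hr.trans hn)).symm

lemma homologyMap_eq_zero_of_f_eq_zero {ι : Type*} {c : ComplexShape ι}
    {K L : HomologicalComplex C c} (ψ : K ⟶ L) (i : ι) (h : ψ.f i = 0) :
    HomologicalComplex.homologyMap ψ i = 0 := by
  have h1 : HomologicalComplex.cyclesMap ψ i = 0 := by
    rw [← cancel_mono (L.iCycles i), HomologicalComplex.cyclesMap_i, h, comp_zero, zero_comp]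
  rw [← cancel_epi (K.homologyπ i), HomologicalComplex.homologyπ_naturality, h1, zero_comp,
    comp_zero]

lemma hom_f_eq_zero_of_le {κ : Type*} {c : ℤ → ComplexShape κ} {r₀ : ℤ}
    {E E' : SpectralSequence C c r₀} (φ : E ⟶ E')
    (pq : κ) (r : ℤ) (hr : r₀ ≤ r) (h : (φ.hom r hr).f pq = 0) :
    ∀ (r' : ℤ) (hrr' : r ≤ r'), (φ.hom r' (hr.trans hrr')).f pq = 0 := by
  intro r' hrr'
  induction r', hrr' using Int.leInduction with
  | base => exact h
  | succ n hn ih =>
    have e := φ.comm n (n + 1) pq rfl (hr.trans hn)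
    rw [homologyMap_eq_zero_of_f_eq_zero _ _ ih, zero_comp] at e
    rw [← cancel_epi (E.iso n (n + 1) pq rfl (hr.trans hn)).hom, ← e, comp_zero]

/-- if the graded piece is zero, the two steps agree -/
lemma fil_eq_of_isZero_gr (K : SpSeq.FilObj C) (p : ℤ) (h : IsZero (K.gr p)) :
    K.fil p = K.fil (p + 1) := by
  apply le_antisymm _ (K.anti (Int.le_add_one le_rfl))
  have hepi : Epi (K.stepLE (Int.le_add_one (le_refl p))) := by
    apply Preadditive.epi_of_cokernel_zero
    exact h.eq_of_tgt _ _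
  have : IsIso (K.stepLE (Int.le_add_one (le_refl p))) := isIso_of_mono_of_epi _
  exact Subobject.le_of_comm (inv (K.stepLE (Int.le_add_one (le_refl p)))) (by
    rw [IsIso.inv_comp_eq, Subobject.ofLE_arrow])

lemma filLift_hom_eq_zero {K L : SpSeq.FilObj C} (g : FilLift K L) (p₀ : ℤ) (hK : K.fil p₀ = ⊤)
    (hL : L.fil (p₀ + 1) = ⊥) (hg : g.gr p₀ = 0) : g.hom = 0 := by
  have h1 : g.lift p₀ ≫ cokernel.π (L.stepLE (Int.le_add_one (le_refl p₀))) = 0 := by
    have : cokernel.π (K.stepLE (Int.le_add_one (le_refl p₀))) ≫ g.gr p₀ =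
        g.lift p₀ ≫ cokernel.π (L.stepLE (Int.le_add_one (le_refl p₀))) := by
      unfold FilLift.gr
      exact cokernel.π_desc _ _ _
    rw [← this, hg]
    exact comp_zero
  have h2 : L.stepLE (Int.le_add_one (le_refl p₀)) = 0 := by
    rw [← cancel_mono (L.fil p₀).arrow, zero_comp, Subobject.ofLE_arrow]
    exact Subobject.mk_eq_bot_iff_zero.mp (by rw [Subobject.mk_arrow]; exact hL)
  have h3 : IsIso (cokernel.π (L.stepLE (Int.le_add_one (le_refl p₀)))) := by
    rw [h2]; infer_instance
  have h4 : g.lift p₀ = 0 := by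
    rw [← cancel_mono (cokernel.π (L.stepLE (Int.le_add_one (le_refl p₀)))), h1, zero_comp]
  have h5 : IsIso (K.fil p₀).arrow := (Subobject.isIso_arrow_iff_eq_top _).mpr hK
  rw [← cancel_epi (K.fil p₀).arrow, ← g.lift_arrow, h4, zero_comp, comp_zero]

end Gen

/-- Let φ : E ⟶ E' be a morphism of E_2-cohomological spectral sequences in an abelian category, with
abutments H and H' whose filtrations are finite in each degree, and f a morphism of abutment data
over φ. Fix integers l and a₀. If E_2^{i, l-i} = 0 for i < a₀, E'_2^{i, l-i} = 0 for i > a₀ and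
φ_2^{a₀, l-a₀} = 0, then f^l : H^l ⟶ H'^l is zero. (The published statement prints the two vanishing
hypotheses at positions (i, l); the argument works on the line of total degree l, at positions (i, l
- i), which is the form stated here.) -/
theorem result (C : Type u) [Category.{v} C] [Abelian C]
    (E E' : E₂CohomologicalSpectralSequence C) (φ : E ⟶ E') (H H' : ℤ → C)
    (a : SpSeq.Abutment E H) (a' : SpSeq.Abutment E' H')
    (ha : ∀ n : ℤ, a.IsFinite n) (ha' : ∀ n : ℤ, a'.IsFinite n)
    (f : SpSeqMor.AbutHom φ a a') (l a₀ : ℤ)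
    (hE : ∀ i : ℤ, i < a₀ → IsZero ((E.page 2 le_rfl).X (i, l - i)))
    (hE' : ∀ i : ℤ, a₀ < i → IsZero ((E'.page 2 le_rfl).X (i, l - i)))
    (hφ : (φ.hom 2 le_rfl).f (a₀, l - a₀) = 0) :
    f.hom l = 0 := by
  have hgr : ∀ i, i < a₀ → IsZero ((a.filObj l).gr i) := by
    intro i hi
    have h1 := isZero_page_of_le E (i, l - i) 2 le_rfl (hE i hi) (a.rk (i, l - i))
      (a.stat (i, l - i)).1
    have h2 := IsZero.of_iso h1 (a.β (i, l - i)).symm
    have key : ∀ m, m = l → IsZero (SpSeq.grPiece (a.fil m) (a.anti m) i) →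
        IsZero (SpSeq.grPiece (a.fil l) (a.anti l) i) := by
      rintro m rfl h; exact h
    exact key (i + (l - i)) (by ring) h2
  have hgr' : ∀ i, a₀ < i → IsZero ((a'.filObj l).gr i) := by
    intro i hi
    have h1 := isZero_page_of_le E' (i, l - i) 2 le_rfl (hE' i hi) (a'.rk (i, l - i))
      (a'.stat (i, l - i)).1
    have h2 := IsZero.of_iso h1 (a'.β (i, l - i)).symm
    have key : ∀ m, m = l → IsZero (SpSeq.grPiece (a'.fil m) (a'.anti m) i) →
        IsZero (SpSeq.grPiece (a'.fil l) (a'.anti l) i) := by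
      rintro m rfl h; exact h
    exact key (i + (l - i)) (by ring) h2
  have hK : (a.filObj l).fil a₀ = ⊤ := by
    obtain ⟨⟨p, hp⟩, _⟩ := ha l
    rcases le_or_gt a₀ p with h | h
    · exact top_le_iff.mp (by rw [← hp]; exact (a.filObj l).anti h)
    · have : ∀ (m : ℤ) (hm : p ≤ m), m ≤ a₀ → (a.filObj l).fil m = ⊤ := by
        intro m hm
        induction m, hm using Int.leInduction with
        | base => intro _; exact hp
        | succ n hn ih =>
          intro hle
          rw [← fil_eq_of_isZero_gr _ n (hgr n (by omega))]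
          exact ih (by omega)
      exact this a₀ h.le le_rfl
  have hL : (a'.filObj l).fil (a₀ + 1) = ⊥ := by
    obtain ⟨_, ⟨q, hq⟩⟩ := ha' l
    rcases le_or_gt q (a₀ + 1) with h | h
    · exact le_bot_iff.mp (by rw [← hq]; exact (a'.filObj l).anti h)
    · have : ∀ (m : ℤ) (hm : a₀ + 1 ≤ m), (a'.filObj l).fil (a₀ + 1) = (a'.filObj l).fil m := by
        intro m hm
        induction m, hm using Int.leInduction with
        | base => rfl
        | succ n hn ih =>
          rw [ih]
          exact fil_eq_of_isZero_gr _ n (hgr' n (by omega))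
      rw [this q h.le]
      exact hq
  have hgr0 : (f.fil l).gr a₀ = 0 := by
    obtain ⟨m, hm1, hm2⟩ : ∃ m, a.rk (a₀, l - a₀) ≤ m ∧ a'.rk (a₀, l - a₀) ≤ m :=
      ⟨max _ _, le_max_left _ _, le_max_right _ _⟩
    have hkk : a.rk (a₀, l - a₀) + ((m - a.rk (a₀, l - a₀)).toNat : ℤ) =
        a'.rk (a₀, l - a₀) + ((m - a'.rk (a₀, l - a₀)).toNat : ℤ) := by omega
    have hc := f.comm (a₀, l - a₀) (m - a.rk (a₀, l - a₀)).toNat (m - a'.rk (a₀, l - a₀)).toNat hkk
    have hz := hom_f_eq_zero_of_le φ (a₀, l - a₀) 2 le_rfl hφ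
      (a'.rk (a₀, l - a₀) + ((m - a'.rk (a₀, l - a₀)).toNat : ℤ))
      (page_le (a'.stat (a₀, l - a₀)).1 _)
    rw [hz, zero_comp, comp_zero, comp_zero] at hc
    have h3 : (f.fil (a₀ + (l - a₀))).gr a₀ = 0 :=
      (cancel_epi (a.β (a₀, l - a₀)).hom).1 (hc.trans comp_zero.symm)
    have key : ∀ m, m = l → (f.fil m).gr a₀ = 0 → (f.fil l).gr a₀ = 0 := by
      rintro m rfl h; exact h
    exact key (a₀ + (l - a₀)) (by ring) h3
  exact filLift_hom_eq_zero (f.fil l) a₀ hK hL hgr0

end Groth.Agent.S14355
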