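import Groth.Statements.S14357
import Mathlib.AlgebraicGeometry.Morphisms.Proper
import Mathlib.Algebra.MvPolynomial.Division
import Mathlib.RingTheory.Ideal.GoingUp

set_option autoImplicit false
universe u
open AlgebraicGeometry
open Proj

namespace Groth.Agent.S14357

/-- For a field k the projective line over k is not an affine scheme. (The projective line is taken here
as Proj of the polynomial ring in two variables over k with its standard grading; the book builds it
by gluing two affine lines and identifies the two constructions later.) -/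
theorem result (k : Type u) [Field k] :
    ¬ IsAffine (CohB1.ProjSpace 1 k) := by
  intro haff
  have hst : IsScalarTower k (CohB1.polyGrading 1 k 0) (MvPolynomial (Fin (1 + 1)) k) :=
    IsScalarTower.of_algebraMap_eq (R := k) (S := CohB1.polyGrading 1 k 0)
      (A := MvPolynomial (Fin (1 + 1)) k) (fun x => by rfl)
  have hft : Algebra.FiniteType (CohB1.polyGrading 1 k 0) (MvPolynomial (Fin (1 + 1)) k) :=
    Algebra.FiniteType.of_restrictScalars_finiteType k _ _
  have hsurj : Function.Surjective (algebraMap k (CohB1.polyGrading 1 k 0)) := by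
    rintro ⟨p, hp⟩
    have h1 : p ∈ (1 : Submodule k (MvPolynomial (Fin (1 + 1)) k)) := by
      rw [← MvPolynomial.homogeneousSubmodule_zero]; exact hp
    rw [Submodule.mem_one] at h1
    obtain ⟨c, rfl⟩ := h1
    exact ⟨c, rfl⟩
  have hci : IsClosedImmersion
      (Spec.map (CommRingCat.ofHom (algebraMap k (CohB1.polyGrading 1 k 0)))) :=
    IsClosedImmersion.spec_of_surjective _ hsurj
  have huc : UniversallyClosed (CohB1.ProjSpace.toSpec 1 k) := by
    unfold CohB1.ProjSpace.toSpec
    have h1 : UniversallyClosed (Proj.toSpecZero (CohB1.polyGrading 1 k)) := inferInstance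
    have h2 : UniversallyClosed
        (Spec.map (CommRingCat.ofHom (algebraMap k (CohB1.polyGrading 1 k 0)))) := inferInstance
    exact @universallyClosedTypeComp _ _ _ _ _ h1 h2
  have hint := isIntegral_appTop_of_universallyClosed (CohB1.ProjSpace.toSpec 1 k)
  let F := CategoryTheory.CategoryStruct.comp (Scheme.ΓSpecIso (CommRingCat.of k)).inv
    (CohB1.ProjSpace.toSpec 1 k).appTop
  have hF : F.hom.IsIntegral := by
    apply RingHom.isIntegral_respectsIso.2
      (e := (Scheme.ΓSpecIso (CommRingCat.of k)).symm.commRingCatIsoToRingEquiv)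
    exact hint
  let φ : k →+* Γ(CohB1.ProjSpace 1 k, ⊤) := F.hom
  have hφ : φ.IsIntegral := hF
  have hmax : ∀ P : Ideal Γ(CohB1.ProjSpace 1 k, ⊤), P.IsPrime → P.IsMaximal := by
    intro P hP
    refine Ideal.isMaximal_of_isIntegral_of_isMaximal_comap' φ hφ P ?_
    have hPc : (P.comap φ).IsPrime := Ideal.comap_isPrime φ P
    rw [Ideal.eq_bot_of_prime (P.comap φ)]
    exact Ideal.bot_isMaximal
  -- two points of the projective line, one specialising to the other
  have hX0 : (MvPolynomial.X 0 : MvPolynomial (Fin (1 + 1)) k) ∈ CohB1.polyGrading 1 k 1 := by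
    rw [MvPolynomial.mem_homogeneousSubmodule]; exact MvPolynomial.isHomogeneous_X k 0
  have hX1 : (MvPolynomial.X 1 : MvPolynomial (Fin (1 + 1)) k) ∈ CohB1.polyGrading 1 k 1 := by
    rw [MvPolynomial.mem_homogeneousSubmodule]; exact MvPolynomial.isHomogeneous_X k 1
  have hirr0 : (MvPolynomial.X 0 : MvPolynomial (Fin (1 + 1)) k) ∈
      HomogeneousIdeal.irrelevant (CohB1.polyGrading 1 k) :=
    HomogeneousIdeal.mem_irrelevant_of_mem _ one_pos hX0
  have hirr1 : (MvPolynomial.X 1 : MvPolynomial (Fin (1 + 1)) k) ∈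
      HomogeneousIdeal.irrelevant (CohB1.polyGrading 1 k) :=
    HomogeneousIdeal.mem_irrelevant_of_mem _ one_pos hX1
  have hXne : (MvPolynomial.X 0 : MvPolynomial (Fin (1 + 1)) k) ≠ 0 := MvPolynomial.X_ne_zero 0
  let x₀ : ProjectiveSpectrum (CohB1.polyGrading 1 k) :=
    ⟨⊥, by rw [HomogeneousIdeal.toIdeal_bot]; exact Ideal.isPrime_bot, fun h => by
      have h1 : (MvPolynomial.X 0 : MvPolynomial (Fin (1 + 1)) k) ∈
          (⊥ : Ideal (MvPolynomial (Fin (1 + 1)) k)) := h hirr0
      exact hXne (Ideal.mem_bot.mp h1)⟩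
  let I₀ : HomogeneousIdeal (CohB1.polyGrading 1 k) :=
    ⟨Ideal.span {(MvPolynomial.X 0 : MvPolynomial (Fin (1 + 1)) k)},
      Ideal.homogeneous_span (CohB1.polyGrading 1 k) _ (by
        intro x hx
        rw [Set.mem_singleton_iff] at hx
        rw [hx]
        exact ⟨1, hX0⟩)⟩
  let y₀ : ProjectiveSpectrum (CohB1.polyGrading 1 k) :=
    ⟨I₀, (Ideal.span_singleton_prime hXne).mpr MvPolynomial.X_prime, fun h => by
      have h1 : (MvPolynomial.X 1 : MvPolynomial (Fin (1 + 1)) k) ∈
          Ideal.span {(MvPolynomial.X 0 : MvPolynomial (Fin (1 + 1)) k)} := h hirr1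
      rw [Ideal.mem_span_singleton, MvPolynomial.X_dvd_X] at h1
      exact absurd h1 (by decide)⟩
  have hle : x₀ ≤ y₀ := by
    change (⊥ : HomogeneousIdeal (CohB1.polyGrading 1 k)) ≤ I₀
    exact bot_le
  have hne : x₀ ≠ y₀ := by
    intro h
    have h1 : (MvPolynomial.X 0 : MvPolynomial (Fin (1 + 1)) k) ∈ y₀.asHomogeneousIdeal.toIdeal :=
      Ideal.subset_span (Set.mem_singleton _)
    rw [← h] at h1
    have h2 : (MvPolynomial.X 0 : MvPolynomial (Fin (1 + 1)) k) ∈
          (⊥ : Ideal (MvPolynomial (Fin (1 + 1)) k)) := h1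
    exact hXne (Ideal.mem_bot.mp h2)
  have hmem : y₀ ∈ closure ({x₀} : Set (ProjectiveSpectrum (CohB1.polyGrading 1 k))) :=
    (ProjectiveSpectrum.le_iff_mem_closure _ x₀ y₀).mp hle
  let e : ↥(CohB1.ProjSpace 1 k) ≃ₜ ↥(Spec Γ(CohB1.ProjSpace 1 k, ⊤)) :=
    (Scheme.isoSpec (CohB1.ProjSpace 1 k)).hom.homeomorph
  let x₀' : ↥(CohB1.ProjSpace 1 k) := x₀
  have hcl : IsClosed ({e x₀'} : Set ↥(Spec Γ(CohB1.ProjSpace 1 k, ⊤))) :=
    (PrimeSpectrum.isClosed_singleton_iff_isMaximal _).mpr
      (hmax _ (PrimeSpectrum.isPrime (e x₀')))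
  have hcl' : IsClosed ({x₀'} : Set ↥(CohB1.ProjSpace 1 k)) := by
    have h3 := hcl.preimage e.continuous
    have h4 : e ⁻¹' {e x₀'} = {x₀'} := by
      ext z
      simp only [Set.mem_preimage, Set.mem_singleton_iff]
      exact e.injective.eq_iff
    rwa [h4] at h3
  have h5 : closure ({x₀} : Set (ProjectiveSpectrum (CohB1.polyGrading 1 k))) = {x₀} :=
    hcl'.closure_eq
  rw [h5] at hmem
  exact hne (Set.mem_singleton_iff.mp hmem).symm

end Groth.Agent.S14357
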