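import Groth.Statements.S14358
import Mathlib.RingTheory.Ideal.Colon
import Mathlib.Tactic.Ring
import Mathlib.Tactic.FieldSimp
-- import your own Groth.Agent.* helpers here

set_option autoImplicit false
universe u
open CAlg

namespace Groth.Agent.S14358

/-- Let A be a Noetherian integral domain with fraction field K and let r ∈ K. Then r belongs to A if
and only if, for every nonzero g ∈ A and every associated prime p of the A-module A/(g), the element
r belongs to the local ring A_p inside K, i.e. s r = a in K for some a ∈ A and some s ∈ A outside p. -/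
theorem result (A K : Type u)
    [CommRing A] [IsDomain A] [IsNoetherianRing A] [Field K] [Algebra A K] [IsFractionRing A K]
    (r : K) :
    r ∈ Set.range (algebraMap A K) ↔
      ∀ g : A, g ≠ 0 → ∀ p ∈ associatedPrimes A (A ⧸ Ideal.span {g}),
        ∃ a s : A, s ∉ p ∧ algebraMap A K s * r = algebraMap A K a := by
  constructor
  · rintro ⟨a₀, rfl⟩ g hg p hp
    refine ⟨a₀, 1, ?_, by simp⟩
    have hpp : p.IsPrime := hp.isPrime
    exact fun h => hpp.ne_top ((Ideal.eq_top_iff_one p).2 h)
  · intro h
    obtain ⟨a, g, hg0, rfl⟩ := IsFractionRing.div_surjective (A := A) r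
    have hg : g ≠ 0 := nonZeroDivisors.ne_zero hg0
    have hgK : algebraMap A K g ≠ 0 := by
      rw [Ne, map_eq_zero_iff _ (IsFractionRing.injective A K)]; exact hg
    by_cases hx : (Ideal.Quotient.mk (Ideal.span {g}) a) = 0
    · rw [Ideal.Quotient.eq_zero_iff_mem, Ideal.mem_span_singleton'] at hx
      obtain ⟨c, rfl⟩ := hx
      refine ⟨c, ?_⟩
      rw [map_mul]
      field_simp
    · exfalso
      obtain ⟨P, hP, hle⟩ := exists_le_isAssociatedPrime_of_isNoetherianRing A _ hx
      obtain ⟨a', s, hs, hsr⟩ := h g hg P hP
      apply hs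
      apply hle
      rw [Submodule.mem_colon_singleton, Submodule.mem_bot]
      have h1 : algebraMap A K (s * a) = algebraMap A K (a' * g) := by
        rw [map_mul, map_mul, ← hsr]
        field_simp
      have h2 : s * a = a' * g := IsFractionRing.injective A K h1
      have h3 : s • (Ideal.Quotient.mk (Ideal.span {g}) a) =
          Ideal.Quotient.mk (Ideal.span {g}) (s * a) := rfl
      rw [h3, h2, Ideal.Quotient.eq_zero_iff_mem, Ideal.mem_span_singleton']
      exact ⟨a', rfl⟩

end Groth.Agent.S14358
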