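import Mathlib
import Groth.Statements.S14360

set_option autoImplicit false
universe u
open AlgebraicGeometry
open Variety

namespace Groth.Agent.S14360

section
open CategoryTheory
variable {X Y : Scheme.{u}}

/-- Extracting a scheme-level identity from `(F.comp G) = id` as rational maps. -/
theorem extract [IrreducibleSpace X] [Nonempty Y]
    (F : X.PartialMap Y) [IsDominant F.hom] (G : Y.PartialMap X)
    (h : (F.comp G).toRationalMap = Scheme.RationalMap.id X) :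
    ∃ (W : X.Opens) (_ : Dense (W : Set X)) (hWU : W ≤ F.domain)
      (a : W.toScheme ⟶ G.domain.toScheme),
      a ≫ G.domain.ι = X.homOfLE hWU ≫ F.hom ∧ a ≫ G.hom = W.ι := by
  obtain ⟨W, hW, hl, hr, e⟩ := Scheme.PartialMap.toRationalMap_eq_iff.1 h
  have hl' : W ≤ F.domain.ι ''ᵁ F.hom ⁻¹ᵁ G.domain := hl
  refine ⟨W, hW, hl'.trans (F.domain.ι_image_le _),
    X.homOfLE hl' ≫ (F.domain.ι.isoImage (F.hom ⁻¹ᵁ G.domain)).inv ≫ F.hom ∣_ G.domain, ?_, ?_⟩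
  · rw [Category.assoc, Category.assoc, morphismRestrict_ι,
      Scheme.Opens.isoImage_ι_inv_ι_assoc, Scheme.homOfLE_homOfLE_assoc]
  · have e' : X.homOfLE hl' ≫ ((F.domain.ι.isoImage (F.hom ⁻¹ᵁ G.domain)).inv ≫
        F.hom ∣_ G.domain ≫ G.hom) =
        X.homOfLE (le_top : W ≤ (⊤ : X.Opens)) ≫ ((⊤ : X.Opens).ι ≫ 𝟙 X) := e
    rw [Category.comp_id, Scheme.homOfLE_ι] at e'
    rw [Category.assoc, Category.assoc]
    exact e'

theorem birational_of_data [IrreducibleSpace X] [IrreducibleSpace Y]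
    (U : X.Opens) (V : Y.Opens) (F : U.toScheme ⟶ Y) (G : V.toScheme ⟶ X)
    [IsDominant F] [IsDominant G]
    (W : X.Opens) (hW : Dense (W : Set X)) (hWU : W ≤ U) (a : W.toScheme ⟶ V.toScheme)
    (ha1 : a ≫ V.ι = X.homOfLE hWU ≫ F) (ha2 : a ≫ G = W.ι)
    (W' : Y.Opens) (hW' : Dense (W' : Set Y)) (hWV : W' ≤ V) (b : W'.toScheme ⟶ U.toScheme)
    (hb1 : b ≫ U.ι = Y.homOfLE hWV ≫ G) (hb2 : b ≫ F = W'.ι) :
    Scheme.Birational X Y := by
  obtain ⟨p, hp⟩ : ∃ p : W.toScheme ⟶ Y, p = X.homOfLE hWU ≫ F := ⟨_, rfl⟩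
  obtain ⟨q, hq⟩ : ∃ q : W'.toScheme ⟶ X, q = Y.homOfLE hWV ≫ G := ⟨_, rfl⟩
  have hpdom : IsDominant p := by
    haveI := Opens.isDominant_homOfLE hW hWU
    rw [hp]; infer_instance
  have hqdom : IsDominant q := by
    haveI := Opens.isDominant_homOfLE hW' hWV
    rw [hq]; infer_instance
  have h1 : (p ∣_ W') ≫ q = (p ⁻¹ᵁ W').ι ≫ W.ι := by
    have : (p ∣_ W') ≫ Y.homOfLE hWV = (p ⁻¹ᵁ W').ι ≫ a := by
      rw [← cancel_mono V.ι, Category.assoc, Category.assoc, Scheme.homOfLE_ι,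
        morphismRestrict_ι, ha1, hp]
    rw [hq, ← Category.assoc, this, Category.assoc, ha2]
  have h2 : (q ∣_ W) ≫ p = (q ⁻¹ᵁ W).ι ≫ W'.ι := by
    have : (q ∣_ W) ≫ X.homOfLE hWU = (q ⁻¹ᵁ W).ι ≫ b := by
      rw [← cancel_mono U.ι, Category.assoc, Category.assoc, Scheme.homOfLE_ι,
        morphismRestrict_ι, hb1, hq]
    rw [hp, ← Category.assoc, this, Category.assoc, hb2]
  have hα : Set.range (p ∣_ W') ⊆ Set.range (q ⁻¹ᵁ W).ι := by
    rintro _ ⟨x, rfl⟩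
    rw [Scheme.Opens.range_ι]
    show q ((p ∣_ W') x) ∈ W
    rw [← Scheme.Hom.comp_apply, h1, Scheme.Hom.comp_apply, Scheme.Opens.ι_apply]
    exact Subtype.property _
  have hβ : Set.range (q ∣_ W) ⊆ Set.range (p ⁻¹ᵁ W').ι := by
    rintro _ ⟨x, rfl⟩
    rw [Scheme.Opens.range_ι]
    show p ((q ∣_ W) x) ∈ W'
    rw [← Scheme.Hom.comp_apply, h2, Scheme.Hom.comp_apply, Scheme.Opens.ι_apply]
    exact Subtype.property _
  obtain ⟨α, hαf⟩ : ∃ α : (p ⁻¹ᵁ W').toScheme ⟶ (q ⁻¹ᵁ W).toScheme,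
      α ≫ (q ⁻¹ᵁ W).ι = p ∣_ W' :=
    ⟨IsOpenImmersion.lift (q ⁻¹ᵁ W).ι (p ∣_ W') hα, IsOpenImmersion.lift_fac _ _ _⟩
  obtain ⟨β, hβf⟩ : ∃ β : (q ⁻¹ᵁ W).toScheme ⟶ (p ⁻¹ᵁ W').toScheme,
      β ≫ (p ⁻¹ᵁ W').ι = q ∣_ W :=
    ⟨IsOpenImmersion.lift (p ⁻¹ᵁ W').ι (q ∣_ W) hβ, IsOpenImmersion.lift_fac _ _ _⟩
  have hαβ : α ≫ β = 𝟙 _ := by
    rw [← cancel_mono ((p ⁻¹ᵁ W').ι ≫ W.ι), Category.id_comp]
    calc (α ≫ β) ≫ (p ⁻¹ᵁ W').ι ≫ W.ι = α ≫ (β ≫ (p ⁻¹ᵁ W').ι) ≫ W.ι := by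
          simp only [Category.assoc]
      _ = α ≫ (q ⁻¹ᵁ W).ι ≫ q := by rw [hβf, morphismRestrict_ι]
      _ = (α ≫ (q ⁻¹ᵁ W).ι) ≫ q := (Category.assoc _ _ _).symm
      _ = (p ⁻¹ᵁ W').ι ≫ W.ι := by rw [hαf, h1]
  have hβα : β ≫ α = 𝟙 _ := by
    rw [← cancel_mono ((q ⁻¹ᵁ W).ι ≫ W'.ι), Category.id_comp]
    calc (β ≫ α) ≫ (q ⁻¹ᵁ W).ι ≫ W'.ι = β ≫ (α ≫ (q ⁻¹ᵁ W).ι) ≫ W'.ι := by
          simp only [Category.assoc]
      _ = β ≫ (p ⁻¹ᵁ W').ι ≫ p := by rw [hαf, morphismRestrict_ι]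
      _ = (β ≫ (p ⁻¹ᵁ W').ι) ≫ p := (Category.assoc _ _ _).symm
      _ = (q ⁻¹ᵁ W).ι ≫ W'.ι := by rw [hβf, h2]
  haveI : IsIso α := ⟨β, hαβ, hβα⟩
  haveI hPne : Nonempty (p ⁻¹ᵁ W').toScheme := by
    obtain ⟨x, hx⟩ := p.denseRange.exists_mem_open W'.2 hW'.nonempty
    exact ⟨⟨x, hx⟩⟩
  haveI hjX : IsDominant ((p ⁻¹ᵁ W').ι ≫ W.ι) :=
    ⟨(((p ⁻¹ᵁ W').ι ≫ W.ι).isOpenEmbedding.isOpen_range.dense (Set.range_nonempty _))⟩
  haveI hjY : IsDominant (α ≫ (q ⁻¹ᵁ W).ι ≫ W'.ι) :=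
    ⟨((α ≫ (q ⁻¹ᵁ W).ι ≫ W'.ι).isOpenEmbedding.isOpen_range.dense (Set.range_nonempty _))⟩
  exact (Scheme.Hom.birational ((p ⁻¹ᵁ W').ι ≫ W.ι)).symm.trans
    (Scheme.Hom.birational (α ≫ (q ⁻¹ᵁ W).ι ≫ W'.ι))

theorem half [IrreducibleSpace X] [IrreducibleSpace Y] (φ : X.PartialIso Y)
    [IsDominant φ.toPartialMap.hom] :
    φ.toPartialMap.toRationalMap.comp φ.symm.toPartialMap.toRationalMap
      = Scheme.RationalMap.id X := by
  rw [Scheme.RationalMap.toRationalMap_comp, Scheme.PartialMap.toRationalMap_eq_iff]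
  refine ⟨(φ.toPartialMap.comp φ.symm.toPartialMap).domain,
    (φ.toPartialMap.comp φ.symm.toPartialMap).dense_domain, le_rfl, le_top, ?_⟩
  have key : (φ.iso.hom ≫ φ.target.ι) ∣_ φ.target
      = ((φ.iso.hom ≫ φ.target.ι) ⁻¹ᵁ φ.target).ι ≫ φ.iso.hom := by
    rw [← cancel_mono φ.target.ι, morphismRestrict_ι, Category.assoc]
  show X.homOfLE _ ≫ (φ.source.ι.isoImage ((φ.iso.hom ≫ φ.target.ι) ⁻¹ᵁ φ.target)).inv ≫
    (φ.iso.hom ≫ φ.target.ι) ∣_ φ.target ≫ φ.iso.inv ≫ φ.source.ι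
      = X.homOfLE _ ≫ (⊤ : X.Opens).ι ≫ 𝟙 X
  rw [key, Category.assoc, Iso.hom_inv_id_assoc, Scheme.Hom.isoImage_inv_ι,
    Category.comp_id, Scheme.homOfLE_ι, Scheme.homOfLE_ι]

theorem dom1 (φ : X.PartialIso Y) : IsDominant φ.toPartialMap.hom := by
  haveI := Opens.isDominant_ι φ.dense_target
  show IsDominant (φ.iso.hom ≫ φ.target.ι)
  infer_instance

end

/-- Let X and Y be integral schemes. Then X and Y have isomorphic dense open subschemes if and only if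
they are birational in the sense of rational maps, i.e. there exist dominant rational maps f : X ⤏ Y
and g : Y ⤏ X such that the composites g ∘ f and f ∘ g are the identity rational maps of X and of Y. -/
theorem result (X Y : Scheme.{u})
    [IsIntegral X] [IsIntegral Y] :
    Scheme.Birational X Y ↔
      ∃ (f : X ⤏ Y) (g : Y ⤏ X) (_ : f.IsDominant) (_ : g.IsDominant),
        f.comp g = Scheme.RationalMap.id X ∧ g.comp f = Scheme.RationalMap.id Y := by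
  constructor
  · rintro ⟨φ⟩
    haveI h1 : IsDominant φ.toPartialMap.hom := dom1 φ
    haveI h2 : IsDominant φ.symm.toPartialMap.hom := dom1 φ.symm
    exact ⟨φ.toPartialMap.toRationalMap, φ.symm.toPartialMap.toRationalMap, inferInstance,
      inferInstance, half φ, half φ.symm⟩
  · rintro ⟨f, g, hf, hg, h1, h2⟩
    have e1 : (f.representative.comp g.representative).toRationalMap
        = Scheme.RationalMap.id X := by
      rw [← Scheme.RationalMap.comp_def, g.toRationalMap_representative]; exact h1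
    have e2 : (g.representative.comp f.representative).toRationalMap
        = Scheme.RationalMap.id Y := by
      rw [← Scheme.RationalMap.comp_def, f.toRationalMap_representative]; exact h2
    obtain ⟨W, hW, hWU, a, ha1, ha2⟩ := extract f.representative g.representative e1
    obtain ⟨W', hW', hWV, b, hb1, hb2⟩ := extract g.representative f.representative e2
    exact birational_of_data f.representative.domain g.representative.domain
      f.representative.hom g.representative.hom W hW hWU a ha1 ha2 W' hW' hWV b hb1 hb2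

end Groth.Agent.S14360
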