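import Groth.Statements.S14363
import Mathlib.RingTheory.Ideal.Colon
import Mathlib.RingTheory.Ideal.Operations
-- import your own Groth.Agent.* helpers here

set_option autoImplicit false
universe u
open CAlg

namespace Groth.Agent.S14363

/-- Let A be a Noetherian ring and 0 → M' → M → M'' → 0 a short exact sequence of A-modules. If a prime
p of A is an associated prime of M'' and is not in the support of M', then p is an associated prime
of M. -/
theorem result (A : Type u) [CommRing A] [IsNoetherianRing A]
    (M' M M'' : Type u) [AddCommGroup M'] [Module A M'] [AddCommGroup M] [Module A M]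
    [AddCommGroup M''] [Module A M'']
    (f : M' →ₗ[A] M) (g : M →ₗ[A] M'') (hf : Function.Injective f) (hg : Function.Surjective g)
    (hfg : Function.Exact f g)
    (p : PrimeSpectrum A) (hp : p.asIdeal ∈ associatedPrimes A M'') (hsupp : p ∉ Module.support A M') :
    p.asIdeal ∈ associatedPrimes A M := by
  classical
  rw [AssociatedPrimes.mem_iff, isAssociatedPrime_iff] at hp ⊢
  obtain ⟨hprime, x'', hx''⟩ := hp
  obtain ⟨x, rfl⟩ := hg x''
  rw [Module.notMem_support_iff'] at hsupp
  obtain ⟨S, hS⟩ := (isNoetherianRing_iff_ideal_fg A).1 inferInstance p.asIdeal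
  -- for each generator choose r
  have hgen : ∀ a ∈ S, ∃ r : A, r ∉ p.asIdeal ∧ r • a • x = 0 := by
    intro a ha
    have hap : a ∈ p.asIdeal := by rw [← hS]; exact Ideal.subset_span ha
    have h0 : g (a • x) = 0 := by
      rw [hx'', Submodule.mem_colon_singleton, Submodule.mem_bot] at hap
      rw [map_smul]; exact hap
    obtain ⟨m, hm⟩ := (hfg (a • x)).1 h0
    obtain ⟨r, hr, hrm⟩ := hsupp m
    refine ⟨r, hr, ?_⟩
    rw [← hm, ← map_smul, hrm, map_zero]
  choose! r hr hrx using hgen
  set s : A := ∏ a ∈ S, r a with hs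
  have hsp : s ∉ p.asIdeal := by
    rw [hs, Ideal.IsPrime.prod_mem_iff]
    rintro ⟨a, ha, hra⟩
    exact hr a ha hra
  refine ⟨hprime, s • x, ?_⟩
  apply le_antisymm
  · rw [← hS, Ideal.span_le]
    intro a ha
    simp only [SetLike.mem_coe, Submodule.mem_colon_singleton, Submodule.mem_bot]
    have : s = (∏ b ∈ S.erase a, r b) * r a := by
      rw [hs, Finset.prod_erase_mul _ _ ha]
    rw [this, smul_comm, mul_smul, hrx a ha, smul_zero]
  · intro t ht
    rw [Submodule.mem_colon_singleton, Submodule.mem_bot] at ht
    have h1 : (t * s) • g x = 0 := by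
      rw [mul_smul, ← map_smul, ← map_smul, ht, map_zero]
    have h2 : t * s ∈ p.asIdeal := by
      rw [hx'', Submodule.mem_colon_singleton, Submodule.mem_bot]; exact h1
    exact (hprime.mem_or_mem h2).resolve_right hsp

end Groth.Agent.S14363
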