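import Groth.Statements.S14369
import Groth.Agent.H54.IrredFibres

set_option autoImplicit false
universe u
open CategoryTheory CategoryTheory.Limits AlgebraicGeometry
open Variety

namespace Groth.Agent.S14369

/-- Let k be an algebraically closed field, X and Y schemes of finite type over k with Y irreducible,
and f : X → Y a k-morphism whose underlying continuous map is closed. Suppose that for some natural
number d the fibre of f over every closed point y of Y (the subspace of points mapping to y) is
irreducible of dimension d. Then X is irreducible and dim X = d + dim Y. (The published statement is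
for varieties, i.e. reduced separated schemes; this row assumes neither.) -/
theorem result (k : Type u) [Field k] [IsAlgClosed k]
    {X Y : Scheme.{u}} (qX : X ⟶ Spec (CommRingCat.of k)) (qY : Y ⟶ Spec (CommRingCat.of k))
    [LocallyOfFiniteType qX] [QuasiCompact qX] [LocallyOfFiniteType qY] [QuasiCompact qY]
    (f : X ⟶ Y) (hf : f ≫ qY = qX) [IrreducibleSpace ↥Y] (hcl : IsClosedMap f.base) (d : ℕ)
    (hirr : ∀ y : ↥Y, IsClosed ({y} : Set ↥Y) → IsIrreducible (f.base ⁻¹' {y}))
    (hdim : ∀ y : ↥Y, IsClosed ({y} : Set ↥Y) → topologicalKrullDim ↥(f.base ⁻¹' {y}) = d) :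
    IrreducibleSpace ↥X ∧ topologicalKrullDim ↥X = d + topologicalKrullDim ↥Y := by
  classical
  have hη : ∀ y : ↥Y, genericPoint ↥Y ⤳ y := fun y => (genericPoint_spec ↥Y).specializes trivial
  obtain ⟨ξ₀, hξ₀, hfξ₀⟩ := H54.exists_dominant_generic qX qY f hirr (genericPoint ↥Y) hη
  have hdenseη : Dense ({genericPoint ↥Y} : Set ↥Y) := by
    rw [dense_iff_closure_eq]
    exact Set.eq_univ_of_forall fun y => specializes_iff_mem_closure.mp (hη y)
  haveI : JacobsonSpace ↥X := LocallyOfFiniteType.jacobsonSpace qX
  have himg : f.base '' closure ({ξ₀} : Set ↥X) = Set.univ := by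
    have hclosed : IsClosed (f.base '' closure ({ξ₀} : Set ↥X)) := hcl _ isClosed_closure
    have hdense : Dense (f.base '' closure ({ξ₀} : Set ↥X)) :=
      hdenseη.mono (Set.singleton_subset_iff.mpr ⟨ξ₀, subset_closure rfl, hfξ₀⟩)
    rw [← hclosed.closure_eq]; exact hdense.closure_eq
  have hall : ∀ x : ↥X, ξ₀ ⤳ x := by
    have hsub : closedPoints ↥X ⊆ closure ({ξ₀} : Set ↥X) := by
      intro x hx
      have hxcl : IsClosed ({x} : Set ↥X) := hx
      have hy := H54.isClosed_image_of_isClosed qX qY f hf x hxcl
      obtain ⟨x', hx'Z, hfx'⟩ : f.base x ∈ f.base '' closure ({ξ₀} : Set ↥X) := by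
        rw [himg]; trivial
      exact H54.fibre_subset_of_meets qX qY f hf d hirr hdim ξ₀ hξ₀ (f.base x) hy x' hfx'
        (specializes_iff_mem_closure.mpr hx'Z) rfl
    intro x
    have h1 : closure (closedPoints ↥X) ⊆ closure ({ξ₀} : Set ↥X) :=
      closure_minimal hsub isClosed_closure
    rw [closure_closedPoints] at h1
    exact specializes_iff_mem_closure.mpr (h1 (Set.mem_univ x))
  refine ⟨?_, ?_⟩
  · have huniv : closure ({ξ₀} : Set ↥X) = Set.univ :=
      Set.eq_univ_of_forall fun x => specializes_iff_mem_closure.mp (hall x)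
    have hI : IsIrreducible (Set.univ : Set ↥X) := huniv ▸ isIrreducible_singleton.closure
    exact { isPreirreducible_univ := hI.2, toNonempty := ⟨ξ₀⟩ }
  · rw [H54.topologicalKrullDim_eq_tdeg_of_generic qX ξ₀ hall,
      H54.topologicalKrullDim_eq_tdeg_of_generic qY (genericPoint ↥Y) hη,
      H54.tdeg_generic_eq qX qY f hf d hirr hdim ξ₀ hξ₀, hfξ₀, Nat.cast_add, add_comm]
end Groth.Agent.S14369
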