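import Groth.Statements.S14370
import Groth.Agent.H54.IrredFibres

set_option autoImplicit false
universe u
open CategoryTheory CategoryTheory.Limits AlgebraicGeometry
open Variety

namespace Groth.Agent.S14370

/-- Let k be an algebraically closed field, X and Y schemes of finite type over k with Y irreducible,
and f : X → Y a k-morphism. Suppose that X is pure-dimensional (every irreducible component of X has
dimension dim X) and that for some natural number d the fibre of f over every closed point y of Y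
(the subspace of points mapping to y) is irreducible of dimension d. Then X is irreducible and dim X
= d + dim Y. (The published statement is for varieties, i.e. reduced separated schemes; this row
assumes neither.) -/
theorem result (k : Type u) [Field k] [IsAlgClosed k]
    {X Y : Scheme.{u}} (qX : X ⟶ Spec (CommRingCat.of k)) (qY : Y ⟶ Spec (CommRingCat.of k))
    [LocallyOfFiniteType qX] [QuasiCompact qX] [LocallyOfFiniteType qY] [QuasiCompact qY]
    (f : X ⟶ Y) (hf : f ≫ qY = qX) [IrreducibleSpace ↥Y]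
    (hpure : ∀ Z ∈ irreducibleComponents (↥X), topologicalKrullDim ↥Z = topologicalKrullDim ↥X) (d : ℕ)
    (hirr : ∀ y : ↥Y, IsClosed ({y} : Set ↥Y) → IsIrreducible (f.base ⁻¹' {y}))
    (hdim : ∀ y : ↥Y, IsClosed ({y} : Set ↥Y) → topologicalKrullDim ↥(f.base ⁻¹' {y}) = d) :
    IrreducibleSpace ↥X ∧ topologicalKrullDim ↥X = d + topologicalKrullDim ↥Y := by
  classical
  have hη : ∀ y : ↥Y, genericPoint ↥Y ⤳ y := fun y => (genericPoint_spec ↥Y).specializes trivial
  obtain ⟨ξ₀, hξ₀, hfξ₀⟩ := H54.exists_dominant_generic qX qY f hirr (genericPoint ↥Y) hη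
  have hdenseη : Dense ({genericPoint ↥Y} : Set ↥Y) := by
    rw [dense_iff_closure_eq]
    exact Set.eq_univ_of_forall fun y => specializes_iff_mem_closure.mp (hη y)
  have hdimX : topologicalKrullDim ↥X = (H54.tdeg qX ξ₀ : WithBot ℕ∞) := by
    rw [← hpure _ hξ₀, H54.topologicalKrullDim_closure_singleton qX ξ₀]
  have huniq : ∀ ξ : ↥X, closure ({ξ} : Set ↥X) ∈ irreducibleComponents ↥X → ξ = ξ₀ := by
    intro ξ hξ
    have h1 : (H54.tdeg qX ξ : WithBot ℕ∞) = (H54.tdeg qX ξ₀ : WithBot ℕ∞) := by
      rw [← hdimX, ← hpure _ hξ, H54.topologicalKrullDim_closure_singleton qX ξ]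
    have h1' : H54.tdeg qX ξ = H54.tdeg qX ξ₀ := by exact_mod_cast h1
    have e1 := H54.tdeg_generic_eq qX qY f hf d hirr hdim ξ hξ
    have e2 := H54.tdeg_generic_eq qX qY f hf d hirr hdim ξ₀ hξ₀
    rw [hfξ₀] at e2
    have hfξ : f.base ξ = genericPoint ↥Y := by
      by_contra hne
      have := H54.tdeg_lt_of_specializes qY (hη (f.base ξ)) (fun h => hne h.symm)
      omega
    exact H54.generic_unique qX qY f hf d hirr hdim ξ ξ₀ hξ hξ₀ (genericPoint ↥Y) hη hfξ hfξ₀
  have hall : ∀ x : ↥X, ξ₀ ⤳ x := by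
    intro x
    obtain ⟨ξ, hξx, hξ⟩ := H54.exists_generic_specializes x
    rw [← huniq ξ hξ]; exact hξx
  refine ⟨?_, ?_⟩
  · have huniv : closure ({ξ₀} : Set ↥X) = Set.univ :=
      Set.eq_univ_of_forall fun x => specializes_iff_mem_closure.mp (hall x)
    have hI : IsIrreducible (Set.univ : Set ↥X) := huniv ▸ isIrreducible_singleton.closure
    exact { isPreirreducible_univ := hI.2, toNonempty := ⟨ξ₀⟩ }
  · rw [H54.topologicalKrullDim_eq_tdeg_of_generic qX ξ₀ hall,
      H54.topologicalKrullDim_eq_tdeg_of_generic qY (genericPoint ↥Y) hη,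
      H54.tdeg_generic_eq qX qY f hf d hirr hdim ξ₀ hξ₀, hfξ₀, Nat.cast_add, add_comm]
end Groth.Agent.S14370
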