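import Groth.Statements.S14371
import Groth.Agent.H9.RegLocalSeq

set_option autoImplicit false
universe u
open CAlg

namespace Groth.Agent.S14371

open IsLocalRing RingTheory.Sequence in
/-- In a regular local ring, an ideal with regular quotient is generated by a regular sequence whose
length is the drop in dimension. -/
theorem exists_list {R : Type u} [CommRing R] [IsRegularLocalRing R] (I : Ideal R)
    [IsRegularLocalRing (R ⧸ I)] :
    ∃ rs : List R, I = Ideal.ofList rs ∧ ringKrullDim (R ⧸ I) + rs.length = ringKrullDim R := by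
  have hI : I ≠ ⊤ := by
    intro h
    have h1 : Nontrivial (R ⧸ I) := inferInstance
    exact (Ideal.Quotient.nontrivial_iff.mp h1) h
  obtain ⟨rs, hwr, hI'⟩ :=
    Groth.Agent.H9.exists_isWeaklyRegular_of_regular_quotient _ R rfl I hI inferInstance
  have hreg : IsRegular R rs := (Groth.Agent.H9.isRegular_ring_iff rs).2 ⟨hwr, hI' ▸ hI⟩
  refine ⟨rs, hI', ?_⟩
  subst hI'
  exact ringKrullDim_add_length_eq_ringKrullDim_of_isRegular rs hreg

theorem spanFinrank_ofList_le {R : Type u} [CommRing R] (rs : List R) :
    (Ideal.ofList rs).spanFinrank ≤ rs.length := by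
  classical
  have h1 : {x | x ∈ rs} = ((rs.toFinset : Finset R) : Set R) := by
    ext x; simp
  unfold Ideal.ofList
  rw [h1]
  refine (Submodule.spanFinrank_span_le_ncard_of_finite (Finset.finite_toSet _)).trans ?_
  rw [Set.ncard_coe_finset]
  exact List.toFinset_card_le rs

/-- Let R be a regular local ring of dimension n with maximal ideal m and residue field κ, and I, J
ideals of R such that R/I and R/J are regular local rings of dimensions a and b (two subvarieties
smooth at the point). Suppose the quotient R/(I + J) is local with cotangent space m/(m² + I + J) of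
dimension a + b − n over κ (the tangent spaces of the two subvarieties meet in the expected
dimension, i.e. they intersect transversally at the point). Then R/(I + J) is a regular local ring
of dimension a + b − n; in particular I + J is a prime ideal. (The published statement is about the
local rings of a smooth variety over an algebraically closed field at a point where two smooth
closed subvarieties meet transversally, and also states the resulting equalities of tangent spaces
and of ideals; this row is the local-ring form, for an arbitrary regular local ring.) -/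
theorem result {R : Type u} [CommRing R] [IsRegularLocalRing R]
    (I J : Ideal R) [IsRegularLocalRing (R ⧸ I)] [IsRegularLocalRing (R ⧸ J)] [IsLocalRing (R ⧸ (I ⊔ J))]
    (n a b : ℕ) (hn : ringKrullDim R = n) (ha : ringKrullDim (R ⧸ I) = a) (hb : ringKrullDim (R ⧸ J) = b)
    (ht : Module.finrank (IsLocalRing.ResidueField (R ⧸ (I ⊔ J))) (IsLocalRing.CotangentSpace (R ⧸ (I ⊔ J))) + n = a + b) :
    IsRegularLocalRing (R ⧸ (I ⊔ J)) ∧ ringKrullDim (R ⧸ (I ⊔ J)) = ((a + b - n : ℕ) : WithBot ℕ∞) := by
  classical
  obtain ⟨rsI, hI, hdI⟩ := exists_list I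
  obtain ⟨rsJ, hJ, hdJ⟩ := exists_list J
  rw [ha, hn] at hdI
  rw [hb, hn] at hdJ
  have hI' : a + rsI.length = n := by exact_mod_cast hdI
  have hJ' : b + rsJ.length = n := by exact_mod_cast hdJ
  have hsup : I ⊔ J = Ideal.ofList (rsI ++ rsJ) := by rw [Ideal.ofList_append, ← hI, ← hJ]
  have htop : I ⊔ J ≠ ⊤ := by
    intro h
    have h1 : Nontrivial (R ⧸ (I ⊔ J)) := inferInstance
    exact (Ideal.Quotient.nontrivial_iff.mp h1) h
  have hspan : (I ⊔ J).spanFinrank ≤ rsI.length + rsJ.length := by
    rw [hsup]
    exact (spanFinrank_ofList_le _).trans (by simp)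
  have h1 : ringKrullDim R ≤ ringKrullDim (R ⧸ (I ⊔ J)) + (I ⊔ J).spanFinrank :=
    ringKrullDim_le_ringKrullDim_quotient_add_spanFinrank (I ⊔ J) (by
      rw [IsLocalRing.ringJacobson_eq_maximalIdeal]; exact IsLocalRing.le_maximalIdeal htop)
  have h2 : ringKrullDim (R ⧸ (I ⊔ J)) ≤
      (IsLocalRing.maximalIdeal (R ⧸ (I ⊔ J))).spanFinrank :=
    ringKrullDim_le_spanFinrank_maximalIdeal _
  have h3 : (IsLocalRing.maximalIdeal (R ⧸ (I ⊔ J))).spanFinrank =
      Module.finrank (IsLocalRing.ResidueField (R ⧸ (I ⊔ J)))
        (IsLocalRing.CotangentSpace (R ⧸ (I ⊔ J))) :=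
    IsLocalRing.spanFinrank_maximalIdeal_eq_finrank_cotangentSpace _
  set c := Module.finrank (IsLocalRing.ResidueField (R ⧸ (I ⊔ J)))
    (IsLocalRing.CotangentSpace (R ⧸ (I ⊔ J))) with hc
  have hcn : c + (rsI.length + rsJ.length) = n := by omega
  have h4 : ((c + (rsI.length + rsJ.length) : ℕ) : WithBot ℕ∞) ≤
      ringKrullDim (R ⧸ (I ⊔ J)) + ((rsI.length + rsJ.length : ℕ) : WithBot ℕ∞) := by
    rw [hcn, ← hn]
    refine h1.trans ?_
    gcongr
  have h5 : (c : WithBot ℕ∞) ≤ ringKrullDim (R ⧸ (I ⊔ J)) := by
    rw [Nat.cast_add] at h4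
    exact ENat.WithBot.add_le_add_natCast_right_iff.mp h4
  have h6 : ringKrullDim (R ⧸ (I ⊔ J)) = c := le_antisymm (h3 ▸ h2) h5
  have hc' : a + b - n = c := by omega
  refine ⟨IsRegularLocalRing.of_spanFinrank_maximalIdeal_le _ (by rw [h3]; exact h5), ?_⟩
  rw [hc', h6]

end Groth.Agent.S14371
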