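import Groth.Statements.S14375
import Mathlib
import Groth.Agent.S2500

set_option autoImplicit false
set_option maxHeartbeats 400000
universe u
open CategoryTheory CategoryTheory.Limits AlgebraicGeometry
open Variety

namespace Groth.Agent.S14375

open CategoryTheory CategoryTheory.Limits AlgebraicGeometry

theorem irr_of_cover {X : Type*} [TopologicalSpace X] [Nonempty X] (O : X → Set X)
    (hO : ∀ x, IsOpen (O x)) (hx : ∀ x, x ∈ O x) (hirr : ∀ x, IsPreirreducible (O x))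
    (hint : ∀ x x', (O x ∩ O x').Nonempty) : IrreducibleSpace X := by
  haveI : PreirreducibleSpace X := by
    refine PreirreducibleSpace.of_forall_nonempty_inter ?_
    rintro U V hU hV ⟨x₁, h₁⟩ ⟨x₂, h₂⟩
    obtain ⟨z, hz1, hzU, hz2⟩ := hirr x₁ U (O x₂) hU (hO x₂) ⟨x₁, hx x₁, h₁⟩ (hint x₁ x₂)
    obtain ⟨w, hw2, ⟨hwU, hw1⟩, hwV⟩ := hirr x₂ (U ∩ O x₁) V (hU.inter (hO x₁)) hV
      ⟨z, hz2, hzU, hz1⟩ ⟨x₂, hx x₂, h₂⟩
    exact ⟨w, hwU, hwV⟩
  exact ⟨‹Nonempty X›⟩

set_option backward.isDefEq.respectTransparency.types false in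

/-- Let k be an algebraically closed field, F an irreducible scheme of finite type over k, and f : X → Y
a k-morphism of schemes of finite type over k with Y irreducible which is locally trivial with fibre
F: every point of Y has an open neighbourhood V such that f⁻¹(V) is isomorphic over V to V ×_k F.
Then X is irreducible. (The published statement is for varieties, i.e. reduced separated schemes;
this row assumes neither.) -/
theorem result (k : Type u) [Field k] [IsAlgClosed k]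
    {X Y F : Scheme.{u}} (qX : X ⟶ Spec (CommRingCat.of k)) (qY : Y ⟶ Spec (CommRingCat.of k))
    (qF : F ⟶ Spec (CommRingCat.of k))
    [LocallyOfFiniteType qX] [QuasiCompact qX] [LocallyOfFiniteType qY] [QuasiCompact qY]
    [LocallyOfFiniteType qF] [QuasiCompact qF] [IrreducibleSpace ↥F] [IrreducibleSpace ↥Y]
    (f : X ⟶ Y) (hf : f ≫ qY = qX)
    (htriv : ∀ y : ↥Y, ∃ V : Y.Opens, y ∈ V ∧
      ∃ e : (↑(f ⁻¹ᵁ V) : Scheme.{u}) ≅ pullback (V.ι ≫ qY) qF, e.hom ≫ pullback.fst (V.ι ≫ qY) qF = f ∣_ V) :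
    IrreducibleSpace ↥X := by
  classical
  choose V hyV hV using htriv
  haveI : GeometricallyIrreducible qF := Groth.Agent.S2500.result qF
  haveI : UniversallyOpen qF := inferInstance
  haveI : Surjective qF := inferInstance
  have hpiece : ∀ y, IrreducibleSpace ↥(f ⁻¹ᵁ V y).toScheme := by
    intro y
    obtain ⟨e, he⟩ := hV y
    haveI : Nonempty ↥(V y).toScheme := ⟨⟨y, hyV y⟩⟩
    haveI : IrreducibleSpace ↥(V y).toScheme := (V y).ι.isOpenEmbedding.irreducibleSpace
    haveI : IrreducibleSpace ↥(pullback ((V y).ι ≫ qY) qF) := inferInstance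
    exact e.hom.homeomorph.irreducibleSpace_iff.mpr inferInstance
  have hsurj : ∀ y' : Y, ∃ x : X, f x = y' := by
    intro y'
    obtain ⟨e, he⟩ := hV y'
    haveI : Surjective (pullback.fst ((V y').ι ≫ qY) qF) := inferInstance
    obtain ⟨p, hp⟩ := (pullback.fst ((V y').ι ≫ qY) qF).surjective ⟨y', hyV y'⟩
    refine ⟨(f ⁻¹ᵁ V y').ι (e.inv p), ?_⟩
    have h1 : (f ⁻¹ᵁ V y').ι ≫ f = (f ∣_ V y') ≫ (V y').ι := (morphismRestrict_ι f (V y')).symm
    have h2 : e.inv ≫ (f ∣_ V y') = pullback.fst _ _ := by rw [← he, Iso.inv_hom_id_assoc]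
    calc f ((f ⁻¹ᵁ V y').ι (e.inv p)) = ((f ⁻¹ᵁ V y').ι ≫ f) (e.inv p) := rfl
      _ = ((f ∣_ V y') ≫ (V y').ι) (e.inv p) := by rw [h1]
      _ = (V y').ι ((e.inv ≫ (f ∣_ V y')) p) := rfl
      _ = (V y').ι ((pullback.fst ((V y').ι ≫ qY) qF) p) := by rw [h2]
      _ = y' := by rw [hp]; rfl
  haveI : Nonempty X := by
    obtain ⟨y⟩ := (inferInstance : Nonempty Y)
    obtain ⟨x, _⟩ := hsurj y
    exact ⟨x⟩
  refine irr_of_cover (fun x => ((f ⁻¹ᵁ V (f x) : X.Opens) : Set X))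
    (fun x => (f ⁻¹ᵁ V (f x)).isOpen) (fun x => hyV (f x)) ?_ ?_
  · intro x
    exact @IsPreirreducible.of_subtype _ _ _ (hpiece (f x)).toPreirreducibleSpace
  · intro x x'
    obtain ⟨y', hy1, hy2⟩ := nonempty_preirreducible_inter (V (f x)).isOpen (V (f x')).isOpen
      ⟨f x, hyV _⟩ ⟨f x', hyV _⟩
    obtain ⟨z, hz⟩ := hsurj y'
    refine ⟨z, ?_, ?_⟩
    · show f z ∈ V (f x)
      rw [hz]; exact hy1
    · show f z ∈ V (f x')
      rw [hz]; exact hy2

end Groth.Agent.S14375
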