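import Groth.Statements.S14378
import Groth.Agent.H54.IrredFibres

set_option autoImplicit false
universe u
open CategoryTheory CategoryTheory.Limits AlgebraicGeometry
open Variety

namespace Groth.Agent.S14378

/-- Let k be an algebraically closed field, X and Y schemes of finite type over k with Y irreducible,
and f : X → Y a k-morphism such that for some natural number d the fibre of f over every closed
point of Y (the subspace of points mapping to it) is irreducible of dimension d. Then (i) exactly
one irreducible component of X has dense image in Y, and (ii) each irreducible component Z of X is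
made up of whole fibres — if Z meets the fibre over a closed point then it contains it — and dim Z =
d + dim f(Z)‾, the dimension of the closure of its image. (The published assertions are for
varieties, i.e. reduced separated schemes; this row assumes neither.) -/
theorem result (k : Type u) [Field k] [IsAlgClosed k]
    {X Y : Scheme.{u}} (qX : X ⟶ Spec (CommRingCat.of k)) (qY : Y ⟶ Spec (CommRingCat.of k))
    [LocallyOfFiniteType qX] [QuasiCompact qX] [LocallyOfFiniteType qY] [QuasiCompact qY]
    (f : X ⟶ Y) (hf : f ≫ qY = qX) [IrreducibleSpace ↥Y] (d : ℕ)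
    (hirr : ∀ y : ↥Y, IsClosed ({y} : Set ↥Y) → IsIrreducible (f.base ⁻¹' {y}))
    (hdim : ∀ y : ↥Y, IsClosed ({y} : Set ↥Y) → topologicalKrullDim ↥(f.base ⁻¹' {y}) = d) :
    (∃! Z : Set ↥X, Z ∈ irreducibleComponents ↥X ∧ Dense (f.base '' Z)) ∧
      ∀ Z ∈ irreducibleComponents ↥X,
        (∀ y : ↥Y, IsClosed ({y} : Set ↥Y) → (f.base ⁻¹' {y} ∩ Z).Nonempty → f.base ⁻¹' {y} ⊆ Z) ∧
        topologicalKrullDim ↥Z = d + topologicalKrullDim ↥(closure (f.base '' Z)) := by
  classical
  have hη : ∀ y : ↥Y, genericPoint ↥Y ⤳ y := fun y => (genericPoint_spec ↥Y).specializes trivial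
  obtain ⟨ξ₀, hξ₀, hfξ₀⟩ := H54.exists_dominant_generic qX qY f hirr (genericPoint ↥Y) hη
  have hdenseη : Dense ({genericPoint ↥Y} : Set ↥Y) := by
    rw [dense_iff_closure_eq]
    exact Set.eq_univ_of_forall fun y => specializes_iff_mem_closure.mp (hη y)
  have hgenZ : ∀ Z ∈ irreducibleComponents ↥X, ∃ ξ : ↥X, closure ({ξ} : Set ↥X) = Z := by
    intro Z hZ
    exact ⟨_, hZ.1.closure_genericPoint (isClosed_of_mem_irreducibleComponents Z hZ)⟩
  have himg : ∀ ξ : ↥X, closure (f.base '' closure ({ξ} : Set ↥X)) =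
      closure ({f.base ξ} : Set ↥Y) := by
    intro ξ
    apply subset_antisymm
    · refine closure_minimal ?_ isClosed_closure
      have := image_closure_subset_closure_image (s := ({ξ} : Set ↥X)) f.continuous
      rwa [Set.image_singleton] at this
    · exact closure_mono (Set.singleton_subset_iff.mpr ⟨ξ, subset_closure rfl, rfl⟩)
  refine ⟨⟨closure {ξ₀}, ⟨hξ₀, ?_⟩, ?_⟩, ?_⟩
  · exact hdenseη.mono (Set.singleton_subset_iff.mpr ⟨ξ₀, subset_closure rfl, hfξ₀⟩)
  · rintro Z ⟨hZ, hZd⟩
    obtain ⟨ξ, rfl⟩ := hgenZ Z hZ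
    have hfξ : f.base ξ = genericPoint ↥Y := by
      have h1 : genericPoint ↥Y ∈ closure (f.base '' closure ({ξ} : Set ↥X)) := by
        rw [hZd.closure_eq]; trivial
      rw [himg ξ] at h1
      exact ((specializes_iff_mem_closure.mpr h1).antisymm (hη _)).eq
    have := H54.generic_unique qX qY f hf d hirr hdim ξ ξ₀ hZ hξ₀ (genericPoint ↥Y) hη hfξ hfξ₀
    rw [this]
  · intro Z hZ
    obtain ⟨ξ, rfl⟩ := hgenZ Z hZ
    refine ⟨?_, ?_⟩
    · rintro y hy ⟨x₀, hx₀y, hx₀Z⟩
      exact H54.fibre_subset_of_meets qX qY f hf d hirr hdim ξ hZ y hy x₀ hx₀y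
        (specializes_iff_mem_closure.mpr hx₀Z)
    · rw [himg ξ, H54.topologicalKrullDim_closure_singleton qX ξ,
        H54.topologicalKrullDim_closure_singleton qY (f.base ξ),
        H54.tdeg_generic_eq qX qY f hf d hirr hdim ξ hZ, Nat.cast_add, add_comm]
end Groth.Agent.S14378
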