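import Groth.Statements.S1438
import Mathlib.AlgebraicGeometry.Morphisms.Separated
import Mathlib.AlgebraicGeometry.Morphisms.Immersion
import Mathlib.AlgebraicGeometry.IdealSheaf.Subscheme

set_option autoImplicit false
universe u
open FlatMor

namespace Groth.Agent.S1438

section
open AlgebraicGeometry CategoryTheory Limits

lemma isAffineHom_ι_of_isSeparated (X : Scheme.{u}) [X.IsSeparated] (U : X.Opens)
    (hU : IsAffineOpen U) : IsAffineHom U.ι := by
  haveI : IsAffine U.toScheme := hU
  haveI : IsAffineHom (U.ι ≫ terminal.from X) := inferInstance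
  exact IsAffineHom.of_comp (f := U.ι) (g := terminal.from X)

/-- a locally closed piece `C ∩ U` with `C` closed and `U` affine open in a separated scheme is
the range of an affine immersion from an affine scheme -/
lemma exists_affine_immersion (X : Scheme.{u}) [X.IsSeparated] (U : X.Opens)
    (hU : IsAffineOpen U) (C : TopologicalSpace.Closeds X) :
    ∃ (Z : Scheme.{u}) (ι : Z ⟶ X),
      IsImmersion ι ∧ IsAffine Z ∧ IsAffineHom ι ∧ Set.range ι = (C : Set X) ∩ (U : Set X) := by
  let I := Scheme.IdealSheafData.vanishingIdeal C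
  let j := I.subschemeι
  haveI := isAffineHom_ι_of_isSeparated X U hU
  refine ⟨(j ⁻¹ᵁ U).toScheme, (j ⁻¹ᵁ U).ι ≫ j, inferInstance, ?_, ?_, ?_⟩
  · exact hU.preimage j
  · rw [← morphismRestrict_ι]
    infer_instance
  · rw [Scheme.Hom.comp_base, TopCat.coe_comp, Set.range_comp, Scheme.Opens.range_ι]
    ext x
    simp only [Set.mem_image, Set.mem_inter_iff]
    constructor
    · rintro ⟨y, hy, rfl⟩
      refine ⟨?_, hy⟩
      have : j y ∈ Set.range j := ⟨y, rfl⟩
      rw [Scheme.IdealSheafData.range_subschemeι,
        Scheme.IdealSheafData.coe_support_vanishingIdeal] at this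
      exact this
    · rintro ⟨hxC, hxU⟩
      have : x ∈ Set.range j := by
        rw [Scheme.IdealSheafData.range_subschemeι,
          Scheme.IdealSheafData.coe_support_vanishingIdeal]
        exact hxC
      obtain ⟨y, rfl⟩ := this
      exact ⟨y, hxU, rfl⟩

end

open AlgebraicGeometry CategoryTheory Limits in
/-- A separated scheme with an open covering by n + 1 affine opens has affine stratification number at
most n: it admits an affine stratification with index set {0, …, n}. -/
theorem result (X : Scheme.{u}) [X.IsSeparated] (n : ℕ) (U : Fin (n + 1) → X.Opens)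
    (hU : ∀ i, IsAffineOpen (U i)) (hcov : ⨆ i, U i = ⊤) :
    MoreMor.HasAffineStratification X n := by
  classical
  have hne : ∀ x : X, (Finset.univ.filter (fun j : Fin (n + 1) => x ∈ U j)).Nonempty := by
    intro x
    have : x ∈ (⨆ i, U i : X.Opens) := by rw [hcov]; trivial
    obtain ⟨i, hi⟩ := TopologicalSpace.Opens.mem_iSup.mp this
    exact ⟨i, by simp [hi]⟩
  let s : X → Fin (n + 1) := fun x => (Finset.univ.filter (fun j : Fin (n + 1) => x ∈ U j)).max' (hne x)
  have hs_mem : ∀ x, x ∈ U (s x) := by
    intro x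
    have := Finset.max'_mem _ (hne x)
    simpa using this
  have hs_le : ∀ x j, x ∈ U j → j ≤ s x := by
    intro x j hj
    exact Finset.le_max' _ j (by simp [hj])
  -- the closed sets
  have hset : ∀ i : Fin (n + 1), {x : X | s x ≤ i} = (⋃ j ∈ {j : Fin (n + 1) | i < j}, (U j : Set X))ᶜ := by
    intro i
    ext x
    simp only [Set.mem_setOf_eq, Set.mem_compl_iff, Set.mem_iUnion, not_exists]
    constructor
    · intro hx j hj hxj
      exact absurd (lt_of_lt_of_le hj (hs_le x j hxj)) (not_lt.mpr hx)
    · intro hx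
      by_contra hlt
      exact hx (s x) (not_le.mp hlt) (hs_mem x)
  have hclosed : ∀ i : Fin (n + 1), IsClosed {x : X | s x ≤ i} := by
    intro i
    rw [hset i]
    refine IsOpen.isClosed_compl ?_
    exact isOpen_biUnion fun j _ => (U j).isOpen
  refine ⟨s, hclosed, fun i => ?_⟩
  obtain ⟨Z, ι, h1, h2, h3, h4⟩ := exists_affine_immersion X (U i) (hU i) ⟨_, hclosed i⟩
  refine ⟨Z, ι, h1, h2, h3, ?_⟩
  rw [h4]
  ext x
  simp only [TopologicalSpace.Closeds.coe_mk, Set.mem_inter_iff, Set.mem_setOf_eq, SetLike.mem_coe]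
  constructor
  · rintro ⟨hle, hxU⟩
    exact le_antisymm hle (hs_le x i hxU)
  · intro h
    exact ⟨h.le, h ▸ hs_mem x⟩

end Groth.Agent.S1438
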