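import Groth.Statements.S14386
import Groth.Agent.H76.PolyNode
-- import your own Groth.Agent.* helpers here

set_option autoImplicit false
universe u
open CAlg

namespace Groth.Agent.S14386


open MvPolynomial Groth.Agent.H76.PolyNode

section Helpers

variable {V : Type u} [CommRing V] (ϖ : V)
  (B : Type u) [CommRing B] [Algebra (Q ϖ) B] [Algebra V B] [IsScalarTower V (Q ϖ) B]
  (h : Q ϖ) [IsLocalization.Away h B]

include h in
theorem D_mem_span' (I : Ideal B) (y : B)
    (hgen : ∀ l : Fin 2, algebraMap (Q ϖ) B (gen ϖ l) ∈ I ∨ algebraMap (Q ϖ) B (gen ϖ l) = y)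
    (b : B) :
    KaehlerDifferential.D V (B ⧸ I) (Ideal.Quotient.mk I b) ∈
      Submodule.span (B ⧸ I) {KaehlerDifferential.D V (B ⧸ I) (Ideal.Quotient.mk I y)} := by
  refine B_induction ϖ B h (Pred := fun b =>
    KaehlerDifferential.D V (B ⧸ I) (Ideal.Quotient.mk I b) ∈
      Submodule.span (B ⧸ I) {KaehlerDifferential.D V (B ⧸ I) (Ideal.Quotient.mk I y)})
    ?_ ?_ ?_ ?_ ?_ b
  · intro v
    show KaehlerDifferential.D V (B ⧸ I) (Ideal.Quotient.mk I (algebraMap V B v)) ∈ _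
    have h1 : Ideal.Quotient.mk I (algebraMap V B v) = algebraMap V (B ⧸ I) v := rfl
    rw [h1, Derivation.map_algebraMap]
    exact Submodule.zero_mem _
  · intro l
    show KaehlerDifferential.D V (B ⧸ I) (Ideal.Quotient.mk I (algebraMap (Q ϖ) B (gen ϖ l))) ∈ _
    rcases hgen l with hl | hl
    · have h1 : Ideal.Quotient.mk I (algebraMap (Q ϖ) B (gen ϖ l)) = 0 :=
        Ideal.Quotient.eq_zero_iff_mem.mpr hl
      rw [h1, map_zero]
      exact Submodule.zero_mem _
    · rw [hl]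
      exact Submodule.subset_span rfl
  · intro a b ha hb
    show KaehlerDifferential.D V (B ⧸ I) (Ideal.Quotient.mk I (a + b)) ∈ _
    rw [map_add, map_add]
    exact Submodule.add_mem _ ha hb
  · intro a b ha hb
    show KaehlerDifferential.D V (B ⧸ I) (Ideal.Quotient.mk I (a * b)) ∈ _
    rw [map_mul, Derivation.leibniz]
    exact Submodule.add_mem _ (Submodule.smul_mem _ _ hb) (Submodule.smul_mem _ _ ha)
  · intro b s hbs hs hu
    show KaehlerDifferential.D V (B ⧸ I) (Ideal.Quotient.mk I b) ∈ _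
    replace hbs : KaehlerDifferential.D V (B ⧸ I) (Ideal.Quotient.mk I (b * s)) ∈
      Submodule.span (B ⧸ I) {KaehlerDifferential.D V (B ⧸ I) (Ideal.Quotient.mk I y)} := hbs
    replace hs : KaehlerDifferential.D V (B ⧸ I) (Ideal.Quotient.mk I s) ∈
      Submodule.span (B ⧸ I) {KaehlerDifferential.D V (B ⧸ I) (Ideal.Quotient.mk I y)} := hs
    rw [map_mul, Derivation.leibniz] at hbs
    have h1 : Ideal.Quotient.mk I s • KaehlerDifferential.D V (B ⧸ I) (Ideal.Quotient.mk I b) ∈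
        Submodule.span (B ⧸ I) {KaehlerDifferential.D V (B ⧸ I) (Ideal.Quotient.mk I y)} := by
      have h2 := Submodule.sub_mem _ hbs (Submodule.smul_mem _ (Ideal.Quotient.mk I b) hs)
      rwa [add_sub_cancel_left] at h2
    obtain ⟨t, ht⟩ := hu.exists_left_inv
    have h3 : KaehlerDifferential.D V (B ⧸ I) (Ideal.Quotient.mk I b)
        = Ideal.Quotient.mk I t •
          (Ideal.Quotient.mk I s • KaehlerDifferential.D V (B ⧸ I) (Ideal.Quotient.mk I b)) := by
      rw [smul_smul, ← map_mul, ht, map_one, one_smul]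
    rw [h3]
    exact Submodule.smul_mem _ _ h1

variable [IsLocalRing V] (hϖ : ϖ ∈ IsLocalRing.maximalIdeal V)
  (hm : IsLocalRing.maximalIdeal V = Ideal.span {ϖ})
  {i j : Fin 2} (hij : i ≠ j)
  (Ψ : B →+* PowerSeries (IsLocalRing.ResidueField V))
  (hΨ : ∀ a, Ψ (algebraMap (Q ϖ) B a) = psi ϖ hϖ j a)
  (δ : Derivation V B B)
  (hδ : ∀ a, δ (algebraMap (Q ϖ) B a) = algebraMap (Q ϖ) B (deltaQ ϖ a))

include h hm hij hΨ hδ in
theorem D_eq_zero_of_dvd (f : B) (hg : algebraMap (Q ϖ) B (gen ϖ i) ∣ δ f) :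
    KaehlerDifferential.D V (B ⧸ Ideal.span {algebraMap (Q ϖ) B (gen ϖ i)})
      (Ideal.Quotient.mk _ f) = 0 := by
  have hd : ∀ b : B, Ideal.Quotient.mkₐ V (Ideal.span {algebraMap (Q ϖ) B (gen ϖ i)}) b = 0 →
      Ideal.Quotient.mkₐ V (Ideal.span {algebraMap (Q ϖ) B (gen ϖ i)}) (δ b) = 0 := by
    intro b hb
    rw [Ideal.Quotient.mkₐ_eq_mk, Ideal.Quotient.eq_zero_iff_mem, Ideal.mem_span_singleton] at hb ⊢
    obtain ⟨c, rfl⟩ := hb
    rw [Derivation.leibniz, delta_genB ϖ B δ hδ]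
    simp only [smul_eq_mul]
    exact ⟨δ c + c * sg B i, by ring⟩
  let δbar : Derivation V (B ⧸ Ideal.span {algebraMap (Q ϖ) B (gen ϖ i)})
      (B ⧸ Ideal.span {algebraMap (Q ϖ) B (gen ϖ i)}) :=
    Derivation.liftOfSurjective
      (f := Ideal.Quotient.mkₐ V (Ideal.span {algebraMap (Q ϖ) B (gen ϖ i)}))
      (Ideal.Quotient.mkₐ_surjective V _) (d := δ) hd
  have hδbar : ∀ b, δbar (Ideal.Quotient.mk _ b) = Ideal.Quotient.mk _ (δ b) := fun b =>
    Derivation.liftOfSurjective_apply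
      (f := Ideal.Quotient.mkₐ V (Ideal.span {algebraMap (Q ϖ) B (gen ϖ i)}))
      (Ideal.Quotient.mkₐ_surjective V _) hd b
  have hspan := D_mem_span' ϖ B h (Ideal.span {algebraMap (Q ϖ) B (gen ϖ i)})
    (algebraMap (Q ϖ) B (gen ϖ j))
    (fun l => (fin2_cases hij l).elim
      (fun hl => Or.inl (by rw [hl]; exact Ideal.subset_span rfl))
      (fun hl => Or.inr (by rw [hl]))) f
  obtain ⟨c, hc⟩ := Submodule.mem_span_singleton.mp hspan
  obtain ⟨c₀, rfl⟩ := Ideal.Quotient.mk_surjective c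
  have h1 := congrArg δbar.liftKaehlerDifferential hc
  rw [map_smul, Derivation.liftKaehlerDifferential_comp_D,
    Derivation.liftKaehlerDifferential_comp_D, hδbar, hδbar, delta_genB ϖ B δ hδ] at h1
  have h2 : Ideal.Quotient.mk (Ideal.span {algebraMap (Q ϖ) B (gen ϖ i)}) (δ f) = 0 :=
    Ideal.Quotient.eq_zero_iff_mem.mpr (Ideal.mem_span_singleton.mpr hg)
  rw [h2, smul_eq_mul, ← map_mul, Ideal.Quotient.eq_zero_iff_mem, Ideal.mem_span_singleton] at h1
  have h3 := Psi_eq_zero_of_genB_dvd ϖ hϖ B j Ψ hΨ hij _ h1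
  rw [map_mul, map_mul, map_sg, Psi_genB_same ϖ hϖ B j Ψ hΨ] at h3
  have h4 : Ψ c₀ = 0 := by
    rcases mul_eq_zero.mp h3 with h' | h'
    · exact h'
    · exfalso
      rcases mul_eq_zero.mp h' with h'' | h''
      · exact sg_ne_zero _ j h''
      · exact PowerSeries.X_ne_zero h''
  have h5 := genB_dvd_of_Psi_eq_zero ϖ hϖ B h j Ψ hΨ hm hij c₀ h4
  have h6 : Ideal.Quotient.mk (Ideal.span {algebraMap (Q ϖ) B (gen ϖ i)}) c₀ = 0 :=
    Ideal.Quotient.eq_zero_iff_mem.mpr (Ideal.mem_span_singleton.mpr h5)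
  rw [← hc, h6, zero_smul]

include h hm hij hΨ hδ in
theorem not_quasiFinite_of_dvd [CharZero (IsLocalRing.ResidueField V)] (f : B)
    (hg : algebraMap (Q ϖ) B (gen ϖ i) ∣ δ f) :
    ¬ (Polynomial.aeval f : Polynomial V →ₐ[V] B).toRingHom.QuasiFinite := by
  intro hqf
  have h1 : Ψ (δ f) = 0 := Psi_eq_zero_of_genB_dvd ϖ hϖ B j Ψ hΨ hij _ hg
  rw [Psi_delta ϖ hϖ B h j Ψ hΨ δ hδ f] at h1
  have h2 : PowerSeries.derivative (IsLocalRing.ResidueField V) (Ψ f) = 0 := by
    rcases mul_eq_zero.mp h1 with h' | h'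
    · exact absurd h' (sg_ne_zero _ j)
    · rcases mul_eq_zero.mp h' with h'' | h''
      · exact absurd h'' PowerSeries.X_ne_zero
      · exact h''
  have h3 : Ψ f = PowerSeries.C (PowerSeries.constantCoeff (Ψ f)) := by
    ext n
    rcases n with _ | n
    · rw [PowerSeries.coeff_zero_C, PowerSeries.coeff_zero_eq_constantCoeff_apply]
    · have h4 := congrArg (PowerSeries.coeff n) h2
      rw [PowerSeries.coeff_derivative, map_zero] at h4
      rcases mul_eq_zero.mp h4 with h5 | h5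
      · rw [h5, PowerSeries.coeff_C, if_neg (Nat.succ_ne_zero n)]
      · exfalso
        exact Nat.cast_add_one_ne_zero n h5
  obtain ⟨v, hv⟩ := IsLocalRing.residue_surjective (PowerSeries.constantCoeff (Ψ f))
  have h6 : Ψ (f - algebraMap V B v) = 0 := by
    rw [map_sub, Psi_algebraMap ϖ hϖ B j Ψ hΨ, hv, ← h3, sub_self]
  have h7 : algebraMap (Q ϖ) B (gen ϖ i) ∣ f - algebraMap V B v :=
    genB_dvd_of_Psi_eq_zero ϖ hϖ B h j Ψ hΨ hm hij _ h6
  haveI h𝔭 : (RingHom.ker Ψ).IsPrime := RingHom.ker_isPrime Ψ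
  obtain ⟨𝔮, h𝔮max, h𝔮le⟩ := Ideal.exists_le_maximal _ (span_genB_ne_top ϖ hϖ B j Ψ hΨ)
  haveI h𝔮 : 𝔮.IsPrime := h𝔮max.isPrime
  have hle : RingHom.ker Ψ ≤ 𝔮 := by
    intro b hb
    obtain ⟨c, rfl⟩ := genB_dvd_of_Psi_eq_zero ϖ hϖ B h j Ψ hΨ hm hij b (RingHom.mem_ker.mp hb)
    exact Ideal.mul_mem_right _ _ (h𝔮le (genB_mem ϖ B i))
  have hne : RingHom.ker Ψ ≠ 𝔮 := by
    intro heq
    have h8 : algebraMap (Q ϖ) B (gen ϖ j) ∈ RingHom.ker Ψ := by
      rw [heq]
      exact h𝔮le (genB_mem ϖ B j)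
    have h9 := RingHom.mem_ker.mp h8
    rw [Psi_genB_same ϖ hϖ B j Ψ hΨ] at h9
    exact PowerSeries.X_ne_zero h9
  letI algAB : Algebra (Polynomial V) B :=
    (Polynomial.aeval f : Polynomial V →ₐ[V] B).toRingHom.toAlgebra
  haveI : Algebra.QuasiFinite (Polynomial V) B := hqf
  apply hne
  apply Algebra.QuasiFinite.eq_of_le_of_under_eq (R := Polynomial V) (RingHom.ker Ψ) 𝔮 hle
  apply le_antisymm
  · exact Ideal.comap_mono hle
  · intro p hp
    have hp' : Polynomial.aeval f p ∈ 𝔮 := hp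
    show Polynomial.aeval f p ∈ RingHom.ker Ψ
    have hd : f - algebraMap V B v ∣ Polynomial.aeval f p - algebraMap V B (p.eval v) := by
      have h10 := Polynomial.sub_dvd_eval_sub f (algebraMap V B v) (p.map (algebraMap V B))
      rwa [← Polynomial.eval₂_eq_eval_map, ← Polynomial.eval₂_eq_eval_map, ← Polynomial.aeval_def,
        ← Polynomial.aeval_def, Polynomial.aeval_algebraMap_apply_eq_algebraMap_eval] at h10
    have hd𝔭 : Polynomial.aeval f p - algebraMap V B (p.eval v) ∈ RingHom.ker Ψ :=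
      RingHom.mem_ker.mpr (Psi_eq_zero_of_genB_dvd ϖ hϖ B j Ψ hΨ hij _ (dvd_trans h7 hd))
    have hev : algebraMap V B (p.eval v) ∈ 𝔮 := by
      have h11 := Ideal.sub_mem _ hp' (hle hd𝔭)
      rwa [sub_sub_cancel] at h11
    have hnu : ¬ IsUnit (p.eval v) := fun hu =>
      h𝔮max.ne_top (Ideal.eq_top_of_isUnit_mem _ hev (hu.map _))
    have hmem : p.eval v ∈ IsLocalRing.maximalIdeal V := (IsLocalRing.mem_maximalIdeal _).mpr hnu
    rw [hm, Ideal.mem_span_singleton] at hmem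
    obtain ⟨w, hw⟩ := hmem
    have hev𝔭 : algebraMap V B (p.eval v) ∈ RingHom.ker Ψ := by
      apply RingHom.mem_ker.mpr
      rw [hw, map_mul, ← genB_mul ϖ B hij, mul_assoc]
      exact Psi_eq_zero_of_genB_dvd ϖ hϖ B j Ψ hΨ hij _ (dvd_mul_right _ _)
    have h12 : Polynomial.aeval f p
        = (Polynomial.aeval f p - algebraMap V B (p.eval v)) + algebraMap V B (p.eval v) := by
      ring
    rw [h12]
    exact Ideal.add_mem _ hd𝔭 hev𝔭

end Helpers

set_option maxHeartbeats 1600000 in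


/-- Let V be a discrete valuation ring of characteristic zero with uniformizer ϖ and perfect residue
field k, let Q = V[x, y]/(xy − ϖ) be the coordinate ring of the standard semistable node over V and
P its closed point x = y = 0 of the closed fibre, let h ∈ Q with h ∉ (x, y), so that B = Q[1/h] is
the ring of an open neighbourhood of P, and let f ∈ B define a morphism to the affine line over V
which is étale on the generic fibre: B[1/ϖ] is étale over V[T] via T ↦ f. Then df vanishes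
identically on one of the two components x = 0, y = 0 of the closed fibre of Spec B: the
differential of the image of f in Ω_{(B/xB)/V} is zero or the differential of the image of f in
Ω_{(B/yB)/V} is zero. If moreover k has characteristic zero, then f contracts that component and the
morphism is not quasi-finite: V[T] → B, T ↦ f, is not a quasi-finite ring map. -/
theorem result (V : Type u) [CommRing V] [IsDomain V] [IsDiscreteValuationRing V] [CharZero V]
    [PerfectField (IsLocalRing.ResidueField V)] (ϖ : V) (hϖ : Irreducible ϖ)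
    (h : (MvPolynomial (Fin 2) V ⧸ Ideal.span {(MvPolynomial.X 0 * MvPolynomial.X 1 - MvPolynomial.C ϖ : MvPolynomial (Fin 2) V)}))
    (hh : h ∉ Ideal.span ({(Ideal.Quotient.mk (Ideal.span {(MvPolynomial.X 0 * MvPolynomial.X 1 - MvPolynomial.C ϖ : MvPolynomial (Fin 2) V)}) (MvPolynomial.X 0 : MvPolynomial (Fin 2) V)), (Ideal.Quotient.mk (Ideal.span {(MvPolynomial.X 0 * MvPolynomial.X 1 - MvPolynomial.C ϖ : MvPolynomial (Fin 2) V)}) (MvPolynomial.X 1 : MvPolynomial (Fin 2) V))} : Set (MvPolynomial (Fin 2) V ⧸ Ideal.span {(MvPolynomial.X 0 * MvPolynomial.X 1 - MvPolynomial.C ϖ : MvPolynomial (Fin 2) V)})))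
    (f : Localization.Away h)
    (hf : ((algebraMap (Localization.Away h)
        (Localization.Away (algebraMap V (Localization.Away h) ϖ))).comp
          (Polynomial.aeval f : Polynomial V →ₐ[V] Localization.Away h).toRingHom).Etale) :
    (KaehlerDifferential.D V (Localization.Away h ⧸ Ideal.span
        ({algebraMap (MvPolynomial (Fin 2) V ⧸ Ideal.span {(MvPolynomial.X 0 * MvPolynomial.X 1 - MvPolynomial.C ϖ : MvPolynomial (Fin 2) V)}) (Localization.Away h) (Ideal.Quotient.mk (Ideal.span {(MvPolynomial.X 0 * MvPolynomial.X 1 - MvPolynomial.C ϖ : MvPolynomial (Fin 2) V)}) (MvPolynomial.X 0 : MvPolynomial (Fin 2) V))} : Set (Localization.Away h)))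
        (Ideal.Quotient.mk _ f) = 0 ∨
     KaehlerDifferential.D V (Localization.Away h ⧸ Ideal.span
        ({algebraMap (MvPolynomial (Fin 2) V ⧸ Ideal.span {(MvPolynomial.X 0 * MvPolynomial.X 1 - MvPolynomial.C ϖ : MvPolynomial (Fin 2) V)}) (Localization.Away h) (Ideal.Quotient.mk (Ideal.span {(MvPolynomial.X 0 * MvPolynomial.X 1 - MvPolynomial.C ϖ : MvPolynomial (Fin 2) V)}) (MvPolynomial.X 1 : MvPolynomial (Fin 2) V))} : Set (Localization.Away h)))
        (Ideal.Quotient.mk _ f) = 0) ∧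
    (CharZero (IsLocalRing.ResidueField V) →
      ¬ (Polynomial.aeval f : Polynomial V →ₐ[V] Localization.Away h).toRingHom.QuasiFinite) := by
  classical
  have hm : IsLocalRing.maximalIdeal V = Ideal.span {ϖ} := hϖ.maximalIdeal_eq
  have hϖmem : ϖ ∈ IsLocalRing.maximalIdeal V := by
    rw [hm]
    exact Ideal.mem_span_singleton_self ϖ
  have hϖ0 : ϖ ≠ 0 := hϖ.ne_zero
  have hh' : h ∉ Ideal.span ({gen ϖ 0, gen ϖ 1} : Set (Q ϖ)) := hh
  have hu : ∀ j, IsUnit (psi ϖ hϖmem j h) := fun j =>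
    PowerSeries.isUnit_iff_constantCoeff.mpr
      (IsUnit.mk0 _ (constantCoeff_psi_ne_zero ϖ hϖmem hm j h hh'))
  let Ψ0 : Localization.Away h →+* PowerSeries (IsLocalRing.ResidueField V) :=
    IsLocalization.Away.lift h (hu 0)
  have hΨ0 : ∀ a, Ψ0 (algebraMap (Q ϖ) (Localization.Away h) a) = psi ϖ hϖmem 0 a :=
    IsLocalization.Away.lift_eq h (hu 0)
  clear_value Ψ0
  let Ψ1 : Localization.Away h →+* PowerSeries (IsLocalRing.ResidueField V) :=
    IsLocalization.Away.lift h (hu 1)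
  have hΨ1 : ∀ a, Ψ1 (algebraMap (Q ϖ) (Localization.Away h) a) = psi ϖ hϖmem 1 a :=
    IsLocalization.Away.lift_eq h (hu 1)
  clear_value Ψ1
  obtain ⟨δ, hδ⟩ := exists_deltaB ϖ (Localization.Away h) h
  have hunr := ((RingHom.etale_iff_formallyUnramified_and_smooth _).mp hf).1
  obtain ⟨N, hN⟩ := dvd_of_unramified f δ
    (algebraMap (Q ϖ) (Localization.Away h) (gen ϖ 0))
    (algebraMap V (Localization.Away h) ϖ)
    (Localization.Away (algebraMap V (Localization.Away h) ϖ)) hunr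
  rw [delta_genB ϖ _ δ hδ, sg_zero, one_mul,
    ← genB_mul ϖ (Localization.Away h) (show (0 : Fin 2) ≠ 1 by decide)] at hN
  obtain ⟨g', hg'⟩ := hN
  have hkey : algebraMap (Q ϖ) (Localization.Away h) (gen ϖ 0) ∣ δ f ∨
      algebraMap (Q ϖ) (Localization.Away h) (gen ϖ 1) ∣ δ f := by
    by_contra hcon
    rw [not_or] at hcon
    have hunit : IsUnit (δ f) := isUnit_of_mul_eq
      (algebraMap (Q ϖ) (Localization.Away h) (gen ϖ 0))
      (algebraMap (Q ϖ) (Localization.Away h) (gen ϖ 1))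
      (fun a b => genB_dvd_mul ϖ hϖmem _ h 1 Ψ1 hΨ1 hm (i := 0) (by decide) a b)
      (fun a b => genB_dvd_mul ϖ hϖmem _ h 0 Ψ0 hΨ0 hm (i := 1) (by decide) a b)
      (genB_cancel ϖ _ h hϖ0 0) (genB_cancel ϖ _ h hϖ0 1)
      (δ f) hcon.1 hcon.2 (N + 1 + N) (N + 1) N g' rfl (by rw [← hg']; ring)
    exact span_genB_ne_top ϖ hϖmem _ 0 Ψ0 hΨ0
      (Ideal.eq_top_of_isUnit_mem _ (delta_mem ϖ _ h δ hδ f) hunit)
  refine ⟨?_, ?_⟩
  · rcases hkey with hk | hk
    · left
      exact D_eq_zero_of_dvd ϖ _ h hϖmem hm (show (0 : Fin 2) ≠ 1 by decide) Ψ1 hΨ1 δ hδ f hk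
    · right
      exact D_eq_zero_of_dvd ϖ _ h hϖmem hm (show (1 : Fin 2) ≠ 0 by decide) Ψ0 hΨ0 δ hδ f hk
  · intro hchar
    rcases hkey with hk | hk
    · exact not_quasiFinite_of_dvd ϖ _ h hϖmem hm (show (0 : Fin 2) ≠ 1 by decide)
        Ψ1 hΨ1 δ hδ f hk
    · exact not_quasiFinite_of_dvd ϖ _ h hϖmem hm (show (1 : Fin 2) ≠ 0 by decide)
        Ψ0 hΨ0 δ hδ f hk

end Groth.Agent.S14386
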