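import Groth.Statements.S14397
-- import your own Groth.Agent.* helpers here
import Mathlib

set_option autoImplicit false
universe u
open DualGr

namespace Groth.Agent.S14397

section aux
variable {V E : Type u} [Fintype V] [Fintype E] [DecidableEq V] [DecidableEq E]

lemma genMap_apply (ends : E → V × V) (D : Finset E) (γ : cycleLattice ends) (e : CtrEdge D) :
    (genMap ends D γ).1 e = γ.1 e.1 := rfl

lemma key (ends : E → V × V) {n : ℕ} (D : Fin n → Finset E) (hcover : ∀ e : E, ∃ i : Fin n, e ∉ D i)
    (w : (i : Fin n) → ↥(cycleLattice (ctrEnds ends (D i)))) (m : ℕ) (hm : m ≠ 0)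
    (hw : m • w ∈ LinearMap.range (LinearMap.pi fun i : Fin n => genMap ends (D i))) :
    w ∈ LinearMap.range (LinearMap.pi fun i : Fin n => genMap ends (D i)) := by
  obtain ⟨γ, hγ⟩ := hw
  have hmZ : (m : ℤ) ≠ 0 := by exact_mod_cast hm
  have hval : ∀ (i : Fin n) (e : CtrEdge (D i)), γ.1 e.1 = (m : ℤ) * (w i).1 e := by
    intro i e
    have h1 := congrFun hγ i
    have h2 : (genMap ends (D i) γ).1 e = ((m • w) i).1 e := by
      rw [← h1]; rfl
    rw [genMap_apply] at h2
    rw [h2]
    simp
  have hdiv : ∀ e : E, γ.1 e = (m : ℤ) * (γ.1 e / (m : ℤ)) := by
    intro e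
    obtain ⟨i, hi⟩ := hcover e
    have := hval i ⟨e, hi⟩
    simp only at this
    rw [this, Int.mul_ediv_cancel_left _ hmZ]
  have hcyc : (fun e => γ.1 e / (m : ℤ)) ∈ cycleLattice ends := by
    show boundaryHom ends (fun e => γ.1 e / (m : ℤ)) = 0
    have h1 : (m : ℤ) • boundaryHom ends (fun e => γ.1 e / (m : ℤ)) = 0 := by
      rw [← map_smul]
      have h2 : ((m : ℤ) • fun e => γ.1 e / (m : ℤ)) = γ.1 := by
        funext e
        simp only [Pi.smul_apply, smul_eq_mul]
        exact (hdiv e).symm
      rw [h2]
      exact γ.2
    exact (smul_eq_zero.mp h1).resolve_left hmZ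
  refine ⟨⟨fun e => γ.1 e / (m : ℤ), hcyc⟩, ?_⟩
  funext i
  apply Subtype.ext
  funext e
  show (genMap ends (D i) ⟨fun e => γ.1 e / (m : ℤ), hcyc⟩).1 e = (w i).1 e
  rw [genMap_apply]
  simp only
  rw [hval i e, Int.mul_ediv_cancel_left _ hmZ]

end aux


/-- Let (V, E) with endpoint map E → V × V be a finite multigraph (loops and parallel edges allowed; the
order of the two endpoints is an auxiliary orientation), and let D_1, …, D_n be finite sets of edges
such that every edge lies outside at least one D_i. For each i let Γ_i be the multigraph obtained by
contracting the edges of D_i, and let H₁(Γ, ℤ) → H₁(Γ_i, ℤ) be the map of cycle lattices (integer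
edge vectors with zero boundary) given by restriction to the surviving edges. Then the map H₁(Γ, ℤ)
→ ⊕_i H₁(Γ_i, ℤ) has torsion-free cokernel. (The published statement is about the connected labelled
dual graph of the closed fibre of a nodal curve, smooth outside a normal crossing divisor with
components D_1, …, D_n, over a Noetherian regular strictly local base; Γ_i is the dual graph of the
fibre over the generic point of D_i, the lattices are identified with the character groups of the
toric parts of the Picard schemes of these fibres, and the map is the generization map of character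
groups; this row states the assertion about cycle lattices, for any finite multigraph, which is what
the argument establishes.) -/
theorem result
    {V E : Type u} [Fintype V] [Fintype E] [DecidableEq V] [DecidableEq E]
    (ends : E → V × V) {n : ℕ} (D : Fin n → Finset E) (hcover : ∀ e : E, ∃ i : Fin n, e ∉ D i) :
    IsAddTorsionFree (((i : Fin n) → ↥(DualGr.cycleLattice (DualGr.ctrEnds ends (D i)))) ⧸
      LinearMap.range (LinearMap.pi fun i : Fin n => DualGr.genMap ends (D i))) := by
  constructor
  intro m hm a b hab
  induction a using Submodule.Quotient.induction_on with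
  | H z =>
    induction b using Submodule.Quotient.induction_on with
    | H z' =>
      simp only at hab
      rw [← Submodule.Quotient.mk_smul, ← Submodule.Quotient.mk_smul,
        Submodule.Quotient.eq] at hab
      rw [Submodule.Quotient.eq]
      apply key ends D hcover (z - z') m hm
      rw [smul_sub]
      exact hab

end Groth.Agent.S14397
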