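import Groth.Statements.S14400
import Groth.Agent.H37.GalDescent

set_option autoImplicit false
universe u
open CategoryTheory CategoryTheory.Limits AlgebraicGeometry
open Desc

namespace Groth.Agent.S14400

/-- Let K/k be a finite Galois extension of fields, X and Y schemes over k with base changes X_K and
Y_K, and g : X_K ⟶ Y_K a morphism over Spec K. Then g is the base change of a k-morphism f : X ⟶ Y
(that is, g followed by the projection Y_K ⟶ Y is the projection X_K ⟶ X followed by f) if and only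
if g commutes with the action of every k-automorphism σ of K on X_K and on Y_K (the identity on X,
resp. Y, and Spec σ on the factor Spec K). In other words the image of the k-morphisms X ⟶ Y among
the K-morphisms X_K ⟶ Y_K is exactly the set of Galois-invariant ones. -/
theorem result (k : Type u) [Field k] (K : Type u) [Field K]
    [Algebra k K] [FiniteDimensional k K] [IsGalois k K]
    (X Y : Scheme.{u}) [X.Over (Spec (CommRingCat.of k))] [Y.Over (Spec (CommRingCat.of k))]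
    (g : Curv2.bc k X K ⟶ Curv2.bc k Y K) (hg : g ≫ Curv2.bcSnd k Y K = Curv2.bcSnd k X K) :
    (∃ f : X ⟶ Y, f ≫ (Y ↘ Spec (CommRingCat.of k)) = X ↘ Spec (CommRingCat.of k) ∧
        g ≫ Curv2.bcFst k Y K = Curv2.bcFst k X K ≫ f) ↔
      ∀ σ : K ≃ₐ[k] K, Curv2.galAct k X K σ ≫ g = g ≫ Curv2.galAct k Y K σ := by
  constructor
  · rintro ⟨f, -, hf⟩ σ
    apply pullback.hom_ext
    · calc (Curv2.galAct k X K σ ≫ g) ≫ Curv2.bcFst k Y K
          = Curv2.galAct k X K σ ≫ (g ≫ Curv2.bcFst k Y K) := Category.assoc _ _ _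
        _ = Curv2.galAct k X K σ ≫ (Curv2.bcFst k X K ≫ f) := by rw [hf]
        _ = (Curv2.galAct k X K σ ≫ Curv2.bcFst k X K) ≫ f := (Category.assoc _ _ _).symm
        _ = Curv2.bcFst k X K ≫ f := congrArg (fun m => m ≫ f) (H37.galAct_fst k X K σ)
        _ = g ≫ Curv2.bcFst k Y K := hf.symm
        _ = g ≫ (Curv2.galAct k Y K σ ≫ Curv2.bcFst k Y K) :=
            (congrArg (fun m => g ≫ m) (H37.galAct_fst k Y K σ)).symm
        _ = (g ≫ Curv2.galAct k Y K σ) ≫ Curv2.bcFst k Y K := (Category.assoc _ _ _).symm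
    · calc (Curv2.galAct k X K σ ≫ g) ≫ Curv2.bcSnd k Y K
          = Curv2.galAct k X K σ ≫ (g ≫ Curv2.bcSnd k Y K) := Category.assoc _ _ _
        _ = Curv2.galAct k X K σ ≫ Curv2.bcSnd k X K := by rw [hg]
        _ = Curv2.bcSnd k X K ≫
            Spec.map (CommRingCat.ofHom (σ : K →ₐ[k] K).toRingHom) := H37.galAct_snd k X K σ
        _ = (g ≫ Curv2.bcSnd k Y K) ≫
            Spec.map (CommRingCat.ofHom (σ : K →ₐ[k] K).toRingHom) := by rw [hg]
        _ = g ≫ (Curv2.bcSnd k Y K ≫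
            Spec.map (CommRingCat.ofHom (σ : K →ₐ[k] K).toRingHom)) := Category.assoc _ _ _
        _ = g ≫ (Curv2.galAct k Y K σ ≫ Curv2.bcSnd k Y K) :=
            (congrArg (fun m => g ≫ m) (H37.galAct_snd k Y K σ)).symm
        _ = (g ≫ Curv2.galAct k Y K σ) ≫ Curv2.bcSnd k Y K := (Category.assoc _ _ _).symm
  · intro hequiv
    have hinv : ∀ σ : K ≃ₐ[k] K,
        Curv2.galAct k X K σ ≫ (g ≫ Curv2.bcFst k Y K) = g ≫ Curv2.bcFst k Y K := by
      intro σ
      calc Curv2.galAct k X K σ ≫ (g ≫ Curv2.bcFst k Y K)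
          = (Curv2.galAct k X K σ ≫ g) ≫ Curv2.bcFst k Y K := (Category.assoc _ _ _).symm
        _ = (g ≫ Curv2.galAct k Y K σ) ≫ Curv2.bcFst k Y K := by rw [hequiv σ]
        _ = g ≫ (Curv2.galAct k Y K σ ≫ Curv2.bcFst k Y K) := Category.assoc _ _ _
        _ = g ≫ Curv2.bcFst k Y K := congrArg (fun m => g ≫ m) (H37.galAct_fst k Y K σ)
    obtain ⟨f, hf⟩ := H37.exists_desc_of_galois_invariant k X K (g ≫ Curv2.bcFst k Y K) hinv
    refine ⟨f, ?_, hf.symm⟩
    haveI := H37.epi_bcFst k X K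
    rw [← cancel_epi (Curv2.bcFst k X K)]
    have hcY : Curv2.bcFst k Y K ≫ (Y ↘ Spec (CommRingCat.of k)) =
        Curv2.bcSnd k Y K ≫ Spec.map (CommRingCat.ofHom (algebraMap k K)) := pullback.condition
    have hcX : Curv2.bcFst k X K ≫ (X ↘ Spec (CommRingCat.of k)) =
        Curv2.bcSnd k X K ≫ Spec.map (CommRingCat.ofHom (algebraMap k K)) := pullback.condition
    calc Curv2.bcFst k X K ≫ (f ≫ (Y ↘ Spec (CommRingCat.of k)))
        = (Curv2.bcFst k X K ≫ f) ≫ (Y ↘ Spec (CommRingCat.of k)) := (Category.assoc _ _ _).symm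
      _ = (g ≫ Curv2.bcFst k Y K) ≫ (Y ↘ Spec (CommRingCat.of k)) := by rw [hf]
      _ = g ≫ (Curv2.bcFst k Y K ≫ (Y ↘ Spec (CommRingCat.of k))) := Category.assoc _ _ _
      _ = g ≫ (Curv2.bcSnd k Y K ≫ Spec.map (CommRingCat.ofHom (algebraMap k K))) := by rw [hcY]
      _ = (g ≫ Curv2.bcSnd k Y K) ≫ Spec.map (CommRingCat.ofHom (algebraMap k K)) :=
          (Category.assoc _ _ _).symm
      _ = Curv2.bcSnd k X K ≫ Spec.map (CommRingCat.ofHom (algebraMap k K)) := by rw [hg]
      _ = Curv2.bcFst k X K ≫ (X ↘ Spec (CommRingCat.of k)) := hcX.symm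

end Groth.Agent.S14400
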