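import Groth.Statements.S14401
import Mathlib.AlgebraicGeometry.Stalk
import Mathlib.Topology.NoetherianSpace

set_option autoImplicit false
universe u
open CategoryTheory AlgebraicGeometry
open Props

namespace Groth.Agent.S14401

/-- Let X be a Noetherian scheme all of whose local rings are integral domains. Then each irreducible
component of X is an open subset of X, and each point of X lies on exactly one irreducible component
(so the irreducible components of X are pairwise disjoint, open and closed, and coincide with the
connected components). (The published statement assumes X regular and Noetherian; its argument uses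
only that the local rings of X are domains, which is the hypothesis taken here.) -/
theorem result (X : Scheme.{u}) [AlgebraicGeometry.IsNoetherian X]
    (hX : ∀ x : X, IsDomain (X.presheaf.stalk x)) :
    (∀ Z ∈ irreducibleComponents (X : Type u), IsOpen Z) ∧
      ∀ x : X, ∃! Z, Z ∈ irreducibleComponents (X : Type u) ∧ x ∈ Z := by
  -- uniqueness of the component through a point
  have huniq : ∀ (x : X) (Z₁ Z₂ : Set X), Z₁ ∈ irreducibleComponents (X : Type u) →
      Z₂ ∈ irreducibleComponents (X : Type u) → x ∈ Z₁ → x ∈ Z₂ → Z₁ = Z₂ := by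
    intro x Z₁ Z₂ h₁ h₂ hx₁ hx₂
    have := hX x
    -- the generic point of Spec of the stalk
    let p₀ : PrimeSpectrum (X.presheaf.stalk x) := ⟨⊥, Ideal.isPrime_bot⟩
    set ξ : X := (X.fromSpecStalk x).base p₀ with hξ
    have key : ∀ Z : Set X, Z ∈ irreducibleComponents (X : Type u) → x ∈ Z →
        Z = closure {ξ} := by
      intro Z hZ hxZ
      obtain ⟨η, hη⟩ := QuasiSober.sober hZ.1 (isClosed_of_mem_irreducibleComponents Z hZ)
      have hηx : η ⤳ x := by
        rw [specializes_iff_mem_closure, hη.def]
        exact hxZ
      have hmem : η ∈ Set.range (X.fromSpecStalk x).base := by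
        rw [Scheme.range_fromSpecStalk]
        exact hηx
      obtain ⟨q, hq⟩ := hmem
      have hpq : p₀ ⤳ q := by
        rw [← PrimeSpectrum.le_iff_specializes]
        change (⊥ : Ideal _) ≤ q.asIdeal
        exact bot_le
      have hξη : ξ ⤳ η := by
        rw [← hq]
        exact hpq.map (X.fromSpecStalk x).base.hom.continuous
      have hsub : Z ⊆ closure {ξ} := by
        rw [← hη.def]
        exact closure_minimal (Set.singleton_subset_iff.mpr (specializes_iff_mem_closure.mp hξη))
          isClosed_closure
      exact le_antisymm hsub (hZ.2 isIrreducible_singleton.closure hsub)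
    rw [key Z₁ h₁ hx₁, key Z₂ h₂ hx₂]
  have hex : ∀ x : X, ∃ Z, Z ∈ irreducibleComponents (X : Type u) ∧ x ∈ Z := fun x =>
    ⟨irreducibleComponent x, irreducibleComponent_mem_irreducibleComponents x,
      mem_irreducibleComponent⟩
  refine ⟨?_, ?_⟩
  · intro Z hZ
    have hfin : (irreducibleComponents (X : Type u)).Finite :=
      TopologicalSpace.NoetherianSpace.finite_irreducibleComponents
    have hfin' : ((irreducibleComponents (X : Type u)) \ {Z}).Finite := hfin.subset Set.sdiff_subset
    have hcl : IsClosed (⋃₀ ((irreducibleComponents (X : Type u)) \ {Z})) := by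
      rw [Set.sUnion_eq_biUnion]
      refine hfin'.isClosed_biUnion ?_
      intro W hW
      exact isClosed_of_mem_irreducibleComponents W hW.1
    have : Z = (⋃₀ ((irreducibleComponents (X : Type u)) \ {Z}))ᶜ := by
      ext x
      constructor
      · intro hxZ hx
        obtain ⟨W, ⟨hW, hWZ⟩, hxW⟩ := hx
        exact hWZ (huniq x W Z hW hZ hxW hxZ)
      · intro hx
        obtain ⟨W, hW, hxW⟩ := hex x
        by_cases hWZ : W = Z
        · rw [← hWZ]; exact hxW
        · exact absurd ⟨W, ⟨hW, hWZ⟩, hxW⟩ hx
    rw [this]
    exact hcl.isOpen_compl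
  · intro x
    obtain ⟨Z, hZ, hxZ⟩ := hex x
    refine ⟨Z, ⟨hZ, hxZ⟩, ?_⟩
    rintro W ⟨hW, hxW⟩
    exact huniq x W Z hW hZ hxW hxZ

end Groth.Agent.S14401
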