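import Groth.Statements.S14402
import Groth.Agent.H42.CohTopPush
import Groth.Agent.H42.RDBridge
import Groth.Agent.S6625

set_option autoImplicit false
universe u
open CategoryTheory CategoryTheory.Limits
open CohTop

namespace Groth.Agent.S14402

/-- If a continuous map f : X → Y is a closed embedding (a homeomorphism onto a closed subset), then for
every abelian sheaf F on X and every q ≥ 0 the higher direct image R^{q+1} f_* F is zero. (The
published statement is for modules over a sheaf of rings on X along a morphism of ringed spaces;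
this row is the case of abelian sheaves, the sheaf of rings being the constant sheaf ℤ.) -/
theorem result {X Y : TopCat.{u}} (f : X ⟶ Y)
    (hf : Topology.IsClosedEmbedding f) (F : CohTop.Ab X) (q : ℕ) :
    IsZero ((CohTop.Rpush f (q + 1)).obj F) := by
  let _ := HasDerivedCategory.standard (CohTop.Ab X)
  let _ := HasDerivedCategory.standard (CohTop.Ab Y)
  have h1 : ∀ G : CohTop.Ab X, ∃ (G' : CohTop.Ab X) (ι : G ⟶ G'),
      (fun _ : CohTop.Ab X => True) G' ∧ Mono ι := fun G => ⟨G, 𝟙 G, trivial, inferInstance⟩
  have h2 : ∀ S : ShortComplex (CohTop.Ab X), S.ShortExact →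
      (fun _ : CohTop.Ab X => True) S.X₁ → (fun _ : CohTop.Ab X => True) S.X₂ →
      (fun _ : CohTop.Ab X => True) S.X₃ ∧ (S.map (CohTop.push f)).ShortExact :=
    fun S hS _ _ => ⟨trivial,
      Groth.Agent.H42.CohTopLib.shortExact_map_push_of_isClosedEmbedding f hf hS⟩
  have hu := Groth.Agent.S6625.result (CohTop.push f) (fun _ : CohTop.Ab X => True) h1 h2 F trivial
  exact ((Groth.Agent.H42.RDBridge.isIso_unit_single_iff (CohTop.push f) F).1 hu).2 (q + 1)
    (Nat.succ_pos q)

end Groth.Agent.S14402
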