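import Groth.Statements.S14405
import Mathlib.NumberTheory.BernoulliPolynomials

set_option autoImplicit false
open Polynomial
open HilbNum

namespace Groth.Agent.S14405


theorem degree_sub_comp_lt (S : ℚ[X]) (hS : S ≠ 0) :
    (S - S.comp (X - C 1)).degree < S.degree := by
  have hq : (X - C (1 : ℚ)).natDegree = 1 := natDegree_X_sub_C 1
  have hnd : (S.comp (X - C 1)).natDegree = S.natDegree := by
    rw [natDegree_comp, hq, mul_one]
  have hlc : (S.comp (X - C 1)).leadingCoeff = S.leadingCoeff := by
    rw [leadingCoeff_comp (by rw [hq]; exact one_ne_zero), (monic_X_sub_C (1 : ℚ)).leadingCoeff,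
      one_pow, mul_one]
  have hne : S.comp (X - C 1) ≠ 0 := by
    intro h0
    rw [h0, leadingCoeff_zero] at hlc
    exact hS (leadingCoeff_eq_zero.mp hlc.symm)
  have hdeg : S.degree = (S.comp (X - C 1)).degree := by
    rw [degree_eq_natDegree hS, degree_eq_natDegree hne, hnd]
  exact degree_sub_lt_left hdeg hS hlc.symm

theorem natDegree_bernoulli_le (n : ℕ) : (Polynomial.bernoulli n).natDegree ≤ n := by
  rw [natDegree_le_iff_coeff_eq_zero]
  intro N hN
  rw [Polynomial.coeff_bernoulli, if_neg (by omega)]

/-- Let φ be a function from the integers to the rationals and Q a nonzero polynomial with rational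
coefficients of degree d such that φ(m) - φ(m-1) = Q(m) for every integer m. Then there is a
polynomial P with rational coefficients, of degree d + 1, such that φ(m) = P(m) for every integer m.
(The explicit form of P in the binomial basis is not part of this statement.) -/
theorem result (φ : ℤ → ℚ) (d : ℕ) (Q : ℚ[X]) (hQ : Q ≠ 0)
    (hd : Q.natDegree = d) (h : ∀ m : ℤ, φ m - φ (m - 1) = Q.eval (m : ℚ)) :
    ∃ P : ℚ[X], P.natDegree = d + 1 ∧ ∀ m : ℤ, φ m = P.eval (m : ℚ) := by
  set S₀ : ℚ[X] :=
    ∑ n ∈ Q.support, C (Q.coeff n / ((n : ℚ) + 1)) * Polynomial.bernoulli (n + 1) with hS₀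
  have hS₀eval : ∀ x : ℚ, S₀.eval (1 + x) - S₀.eval x = Q.eval x := by
    intro x
    rw [hS₀, eval_finsetSum, eval_finsetSum, ← Finset.sum_sub_distrib]
    conv_rhs => rw [eval_eq_sum, Polynomial.sum]
    refine Finset.sum_congr rfl fun n _ => ?_
    rw [eval_mul, eval_mul, eval_C, eval_C, ← mul_sub, Polynomial.bernoulli_eval_one_add]
    have : ((n : ℚ) + 1) ≠ 0 := by positivity
    simp only [add_sub_cancel_left, Nat.add_sub_cancel, Nat.cast_add, Nat.cast_one]
    field_simp
  -- the difference ψ m = φ m - S₀ (m+1) is constant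
  have hψ : ∀ m : ℤ, φ m - S₀.eval ((m : ℚ) + 1) = φ 0 - S₀.eval 1 := by
    have hstep : ∀ m : ℤ, φ m - S₀.eval ((m : ℚ) + 1) =
        φ (m - 1) - S₀.eval (((m - 1 : ℤ) : ℚ) + 1) := by
      intro m
      have h1 := h m
      have h2 := hS₀eval (m : ℚ)
      have e : (((m - 1 : ℤ) : ℚ) + 1) = (m : ℚ) := by push_cast; ring
      rw [e]
      rw [add_comm (1 : ℚ)] at h2
      linarith
    intro m
    induction m using Int.induction_on with
    | zero => simp
    | succ i ih =>
      rw [hstep]
      simpa using ih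
    | pred i ih =>
      rw [← ih, hstep (-(i : ℤ))]
  set c : ℚ := φ 0 - S₀.eval 1 with hc
  set P : ℚ[X] := S₀.comp (X + C 1) + C c with hP
  have hPeval : ∀ x : ℚ, P.eval x = S₀.eval (x + 1) + c := by
    intro x
    simp [hP]
  have hPφ : ∀ m : ℤ, φ m = P.eval (m : ℚ) := by
    intro m
    rw [hPeval]
    have := hψ m
    linarith
  refine ⟨P, ?_, hPφ⟩
  -- the polynomial identity P - P.comp (X - 1) = Q
  have hΔ : P - P.comp (X - C 1) = Q := by
    apply Polynomial.funext
    intro x
    rw [eval_sub, eval_comp, hPeval, hPeval]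
    simp only [eval_sub, eval_X, eval_C]
    have := hS₀eval x
    rw [add_comm (1 : ℚ)] at this
    rw [sub_add_cancel]
    linarith
  have hP0 : P ≠ 0 := by
    rintro h0
    rw [h0] at hΔ
    simp at hΔ
    exact hQ hΔ.symm
  apply le_antisymm
  · -- upper bound
    rw [hP]
    refine (natDegree_add_le _ _).trans (max_le ?_ (by simp))
    refine natDegree_comp_le.trans ?_
    rw [natDegree_X_add_C, mul_one, hS₀]
    refine natDegree_sum_le_of_forall_le _ _ fun n hn => ?_
    refine (natDegree_C_mul_le _ _).trans ((natDegree_bernoulli_le _).trans ?_)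
    have : n ≤ Q.natDegree := le_natDegree_of_mem_supp n hn
    omega
  · -- lower bound
    have hlt := degree_sub_comp_lt P hP0
    rw [hΔ, degree_eq_natDegree hQ, degree_eq_natDegree hP0, hd] at hlt
    have : (d : ℕ) < P.natDegree := by exact_mod_cast hlt
    omega

end Groth.Agent.S14405
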