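import Groth.Statements.S14415
import Groth.Agent.S10935
import Groth.Agent.H8.QCohPush
import Groth.Agent.H8.LocFree

set_option autoImplicit false
universe u
open CategoryTheory AlgebraicGeometry
open FlatMor

namespace Groth.Agent.S14415

open TopologicalSpace Topology

/-- A point whose local ring is zero-dimensional has no proper generization. -/
theorem eq_of_specializes_of_dim_zero {Y : Scheme.{u}} (y' : Y)
    (h0 : ringKrullDim (Y.presheaf.stalk y') = 0) {y'' : Y} (h : y'' ⤳ y') : y'' = y' := by
  haveI : Ring.KrullDimLE 0 (Y.presheaf.stalk y') :=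
    ringKrullDimZero_iff_ringKrullDim_eq_zero.mpr h0
  obtain ⟨p, hp⟩ : y'' ∈ Set.range (Y.fromSpecStalk y') := by
    rw [Scheme.range_fromSpecStalk]
    exact h
  have hmax : p.asIdeal.IsMaximal := Ideal.IsPrime.isMaximal' p.isPrime
  have hpc : p = IsLocalRing.closedPoint _ :=
    PrimeSpectrum.ext (IsLocalRing.eq_maximalIdeal hmax)
  rw [← hp, hpc, Scheme.fromSpecStalk_closedPoint]

/-- A morphism from a locally Noetherian scheme to a scheme with regular local rings of dimension
at most one is flat as soon as every associated point of the source maps to a point with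
zero-dimensional local ring. -/
theorem flat_of_assPoints {C C' : Scheme.{u}} (f : C ⟶ C') [IsLocallyNoetherian C]
    (hreg : ∀ y : C', IsRegularLocalRing (C'.presheaf.stalk y))
    (hdim : ∀ y : C', ringKrullDim (C'.presheaf.stalk y) ≤ 1)
    (hass : ∀ x : C, Curv2.IsAssPoint (Coh.structureModule C) x →
      ringKrullDim (C'.presheaf.stalk (f.base x)) = 0) : Flat f := by
  rw [Flat.iff_flat_stalkMap]
  intro x
  haveI := hreg (f x)
  obtain ⟨hdomA, hpid⟩ :=
    Groth.Agent.H7.isDomain_isPrincipalIdealRing_of_regular_dim_le_one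
      (C'.presheaf.stalk (f x)) (hdim (f x))
  letI : Algebra (C'.presheaf.stalk (f x)) (C.presheaf.stalk x) := (f.stalkMap x).hom.toAlgebra
  show Module.Flat (C'.presheaf.stalk (f x)) (C.presheaf.stalk x)
  haveI : IsDomain (C'.presheaf.stalk (f x)) := hdomA
  haveI : IsPrincipalIdealRing (C'.presheaf.stalk (f x)) := hpid
  haveI : Module.IsTorsionFree (C'.presheaf.stalk (f x)) (C.presheaf.stalk x) := by
    refine ⟨fun a ha b b' hbb' => ?_⟩
    have ha0 : a ≠ 0 := ha.ne_zero
    have h1 : (f.stalkMap x).hom a * (b - b') = 0 := by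
      have : a • b = a • b' := hbb'
      rw [Algebra.smul_def, Algebra.smul_def, RingHom.algebraMap_toAlgebra] at this
      rw [mul_sub, this, sub_self]
    by_contra hne
    have hc : b - b' ≠ 0 := fun h => hne (sub_eq_zero.mp h)
    obtain ⟨P, hP, hle⟩ :=
      exists_le_isAssociatedPrime_of_isNoetherianRing (C.presheaf.stalk x) (b - b') hc
    haveI hPprime : P.IsPrime := hP.isPrime
    have haP : (f.stalkMap x).hom a ∈ P := by
      apply hle
      rw [Submodule.mem_colon_singleton, Submodule.mem_bot]
      exact h1
    have hx' : Curv2.IsAssPoint (Coh.structureModule C)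
        (C.fromSpecStalk x (⟨P, hPprime⟩ : PrimeSpectrum (C.presheaf.stalk x))) :=
      (Groth.Agent.S10935.isAssPoint_fromSpecStalk_iff x ⟨P, hPprime⟩).mpr hP
    have h0 : ringKrullDim (C'.presheaf.stalk
        (f (C.fromSpecStalk x (⟨P, hPprime⟩ : PrimeSpectrum (C.presheaf.stalk x))))) = 0 :=
      hass _ hx'
    have hcomm := congrArg (fun ψ : Spec (C.presheaf.stalk x) ⟶ C' =>
      ψ (⟨P, hPprime⟩ : PrimeSpectrum (C.presheaf.stalk x)))
      (Scheme.SpecMap_stalkMap_fromSpecStalk (f := f) (x := x))
    simp only [Scheme.Hom.comp_apply] at hcomm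
    have hspec : (⟨⊥, Ideal.isPrime_bot⟩ : PrimeSpectrum (C'.presheaf.stalk (f x))) ⤳
        Spec.map (f.stalkMap x) (⟨P, hPprime⟩ : PrimeSpectrum (C.presheaf.stalk x)) :=
      (PrimeSpectrum.le_iff_specializes _ _).mp bot_le
    have hspec' := hspec.map (C'.fromSpecStalk (f x)).continuous
    have hspec'' := hspec'.trans (specializes_of_eq hcomm)
    have heq := eq_of_specializes_of_dim_zero _ h0 hspec''
    have h3 := (C'.fromSpecStalk (f x)).isEmbedding.injective (heq.trans hcomm.symm)
    have h4 : Ideal.comap (f.stalkMap x).hom P = ⊥ := (congrArg PrimeSpectrum.asIdeal h3).symm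
    have h5 : a ∈ Ideal.comap (f.stalkMap x).hom P := haP
    rw [h4] at h5
    exact ha0 (Ideal.mem_bot.mp h5)
  infer_instance

/-- Let f : C → C' be a finite morphism of schemes, with C' locally Noetherian and all local rings of C'
regular of dimension at most one, such that every associated point x of C (a point whose maximal
ideal is an associated prime of O_{C,x}) maps to a point of C' whose local ring is zero-dimensional,
that is, to a generic point of an irreducible component of C'. Then f_* O_C is finite locally free.
(The published statement takes C' regular Noetherian of pure dimension one and C Noetherian of pure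
dimension one without embedded points; these hypotheses imply that every associated point of C maps
to a generic point of C'. This row assumes only that condition, allows C' locally Noetherian with
regular local rings of dimension at most one, and puts no condition on the dimension of C; the
argument is local on C'.) -/
theorem result
    (C C' : Scheme.{u}) (f : C ⟶ C') [IsFinite f] [IsLocallyNoetherian C']
    (hreg : ∀ y : C', IsRegularLocalRing (C'.presheaf.stalk y))
    (hdim : ∀ y : C', ringKrullDim (C'.presheaf.stalk y) ≤ 1)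
    (hass : ∀ x : C, Curv2.IsAssPoint (Coh.structureModule C) x →
      ringKrullDim (C'.presheaf.stalk (f.base x)) = 0) :
    FlatMod.IsFinLocFree ((Coh.push f).obj (Coh.structureModule C)) := by
  haveI : IsLocallyNoetherian C := LocallyOfFiniteType.isLocallyNoetherian f
  have hflat : Flat f := flat_of_assPoints f hreg hdim hass
  haveI := Groth.Agent.S2510.isQuasicoherent_structureModule C
  haveI hq : ((Scheme.Modules.pushforward f).obj (Coh.structureModule C)).IsQuasicoherent :=
    Groth.Agent.H8.isQuasicoherent_pushforward f (Coh.structureModule C)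
  refine Groth.Agent.H8.isFinLocFree_of_projective_sections
    ((Coh.push f).obj (Coh.structureModule C)) ?_
  intro y
  obtain ⟨V, hV, hyV, -⟩ := exists_isAffineOpen_mem_and_subset (U := ⊤) (x := y) (by simp)
  have hW : IsAffineOpen (f ⁻¹ᵁ V) := hV.preimage f
  haveI : IsNoetherianRing Γ(C', V) := IsLocallyNoetherian.component_noetherian ⟨V, hV⟩
  have h2 : (f.app V).hom.Finite := IsFinite.finite_app f V hV
  have h3 : (f.app V).hom.Flat := by
    rw [Scheme.Hom.app_eq_appLE]
    exact HasRingHomProperty.appLE (P := @Flat) f hflat ⟨V, hV⟩ ⟨f ⁻¹ᵁ V, hW⟩ le_rfl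
  letI : Algebra Γ(C', V) Γ(C, f ⁻¹ᵁ V) := (f.app V).hom.toAlgebra
  haveI : Module.Finite Γ(C', V) Γ(C, f ⁻¹ᵁ V) := h2
  haveI : Module.Flat Γ(C', V) Γ(C, f ⁻¹ᵁ V) := h3
  haveI : Module.FinitePresentation Γ(C', V) Γ(C, f ⁻¹ᵁ V) :=
    Module.finitePresentation_of_finite _ _
  haveI : Module.Projective Γ(C', V) Γ(C, f ⁻¹ᵁ V) :=
    Module.Flat.projective_of_finitePresentation
  let e : Γ(C, f ⁻¹ᵁ V) ≃ₗ[Γ(C', V)] Γ((Coh.push f).obj (Coh.structureModule C), V) :=
    { toFun := fun b => b
      invFun := fun b => b
      map_add' := fun _ _ => rfl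
      map_smul' := fun _ _ => rfl
      left_inv := fun _ => rfl
      right_inv := fun _ => rfl }
  exact ⟨V, hV, hyV, Module.Finite.equiv e, Module.Projective.of_equiv' e⟩

end Groth.Agent.S14415
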