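import Groth.Statements.S14416
import Mathlib.RingTheory.LocalRing.Module
import Mathlib.RingTheory.Support
import Mathlib.LinearAlgebra.Dimension.FreeAndStrongRankCondition

set_option autoImplicit false
universe u
open scoped TensorProduct
open CAlg

namespace Groth.Agent.S14416

/-- Let B → A be a ring map with A a finitely generated B-module such that for every prime ideal p of B
the fibre κ(p) ⊗_B A has dimension at most one over the residue field κ(p). Then B → A is
surjective. In scheme language: a finite morphism whose degree at every point of the target is 0 or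
1 is a closed immersion. (The published statement assumes the two schemes Noetherian; that
hypothesis plays no role and is dropped here.) -/
theorem result
    (B A : Type u) [CommRing B] [CommRing A] [Algebra B A] [Module.Finite B A]
    (h : ∀ p : PrimeSpectrum B,
      Module.finrank p.asIdeal.ResidueField (p.asIdeal.ResidueField ⊗[B] A) ≤ 1) :
    Function.Surjective (algebraMap B A) := by
  set Rg : Submodule B A := LinearMap.range (Algebra.linearMap B A) with hRg
  suffices hC : Subsingleton (A ⧸ Rg) by
    rw [Submodule.Quotient.subsingleton_iff] at hC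
    intro a
    have : a ∈ Rg := hC ▸ Submodule.mem_top
    obtain ⟨b, hb⟩ := this
    exact ⟨b, hb⟩
  rw [← Module.support_eq_empty_iff (R := B), Set.eq_empty_iff_forall_notMem]
  intro p hp
  rw [Module.mem_support_iff_nontrivial_residueField_tensorProduct] at hp
  rw [← not_subsingleton_iff_nontrivial] at hp
  apply hp
  have hsurj : Function.Surjective (LinearMap.lTensor p.asIdeal.ResidueField Rg.mkQ) :=
    LinearMap.lTensor_surjective _ (Submodule.mkQ_surjective Rg)
  have hq1 : Rg.mkQ (1 : A) = 0 := by
    rw [Submodule.mkQ_apply, Submodule.Quotient.mk_eq_zero]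
    exact ⟨1, by simp⟩
  have hzero : ∀ t : p.asIdeal.ResidueField ⊗[B] A,
      LinearMap.lTensor p.asIdeal.ResidueField Rg.mkQ t = 0 := by
    intro t
    by_cases h1 : (1 : p.asIdeal.ResidueField ⊗[B] A) = 0
    · have : t = 0 := by
        rw [← mul_one t, h1, mul_zero]
      rw [this, map_zero]
    · obtain ⟨v, hv⟩ := (finrank_le_one_iff (K := p.asIdeal.ResidueField)
        (V := p.asIdeal.ResidueField ⊗[B] A)).mp (h p)
      obtain ⟨c₀, hc₀⟩ := hv 1
      obtain ⟨c, hc⟩ := hv t
      have hc₀ne : c₀ ≠ 0 := by
        rintro rfl
        rw [zero_smul] at hc₀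
        exact h1 hc₀.symm
      have hv' : v = c₀⁻¹ • (1 : p.asIdeal.ResidueField ⊗[B] A) := by
        rw [← hc₀, smul_smul, inv_mul_cancel₀ hc₀ne, one_smul]
      have ht : t = (c * c₀⁻¹) ⊗ₜ[B] (1 : A) := by
        rw [← hc, hv', smul_smul, Algebra.TensorProduct.one_def, TensorProduct.smul_tmul',
          smul_eq_mul, mul_one]
      rw [ht, LinearMap.lTensor_tmul, hq1, TensorProduct.tmul_zero]
  refine ⟨fun a b => ?_⟩
  obtain ⟨a', rfl⟩ := hsurj a
  obtain ⟨b', rfl⟩ := hsurj b
  rw [hzero, hzero]

end Groth.Agent.S14416
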