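import Groth.Statements.S14418
import Mathlib.RingTheory.Nakayama
import Mathlib.Algebra.Homology.ShortComplex.ModuleCat
import Mathlib.RingTheory.Ideal.AssociatedPrime.Finiteness

set_option autoImplicit false
universe u
open CategoryTheory
open CAlg

namespace Groth.Agent.S14418

theorem subsingleton_of_smul_surjective {A : Type u} [CommRing A] [IsLocalRing A]
    {M : Type u} [AddCommGroup M] [Module A M] [Module.Finite A M] (a : A)
    (ha : a ∈ IsLocalRing.maximalIdeal A) (hs : ∀ m : M, ∃ m' : M, a • m' = m) :
    Subsingleton M := by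
  have htop : (⊤ : Submodule A M) = ⊥ := by
    refine Submodule.eq_bot_of_le_smul_of_le_jacobson_bot (IsLocalRing.maximalIdeal A) ⊤
      Module.Finite.fg_top ?_ (IsLocalRing.maximalIdeal_le_jacobson _)
    intro m _
    obtain ⟨m', rfl⟩ := hs m
    exact Submodule.smul_mem_smul ha Submodule.mem_top
  refine ⟨fun x y => ?_⟩
  have hx : x ∈ (⊤ : Submodule A M) := Submodule.mem_top
  have hy : y ∈ (⊤ : Submodule A M) := Submodule.mem_top
  rw [htop] at hx hy
  rw [(Submodule.mem_bot A).mp hx, (Submodule.mem_bot A).mp hy]

/-- Let B → A be a local homomorphism of Noetherian local rings, n the maximal ideal of B, and T an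
additive functor from B-modules to A-modules which is B-linear (T applied to multiplication by b ∈ B
is multiplication by the image of b in A), carries finitely generated B-modules to finitely
generated A-modules, and is half-exact on finitely generated modules (every short exact sequence of
finitely generated B-modules goes to a sequence exact at its middle term). If T(B/n) = 0 then T(N) =
0 for every finitely generated B-module N. (The published statement takes T defined on finitely
generated modules only; here T is defined on all B-modules while every hypothesis and the conclusion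
concern finitely generated modules.) -/
theorem result {B A : Type u} [CommRing B] [CommRing A]
    [IsNoetherianRing B] [IsLocalRing B] [IsNoetherianRing A] [IsLocalRing A] [Algebra B A]
    [IsLocalHom (algebraMap B A)] (T : ModuleCat.{u} B ⥤ ModuleCat.{u} A) [T.Additive]
    (hlin : ∀ (N : ModuleCat.{u} B) (b : B),
      T.map (ModuleCat.ofHom (b • (LinearMap.id : N →ₗ[B] N))) =
        ModuleCat.ofHom (algebraMap B A b • (LinearMap.id : T.obj N →ₗ[A] T.obj N)))
    (hfin : ∀ N : ModuleCat.{u} B, Module.Finite B N → Module.Finite A (T.obj N))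
    (hex : ∀ S : ShortComplex (ModuleCat.{u} B), S.ShortExact → Module.Finite B S.X₁ →
      Module.Finite B S.X₂ → Module.Finite B S.X₃ → (S.map T).Exact)
    (h0 : Limits.IsZero (T.obj (ModuleCat.of B (B ⧸ IsLocalRing.maximalIdeal B))))
    (N : ModuleCat.{u} B) [Module.Finite B N] : Limits.IsZero (T.obj N) := by
  have key : ∀ I : Ideal B, ∀ (N : Type u) [AddCommGroup N] [Module B N] [Module.Finite B N],
      (∀ x ∈ I, ∀ n : N, x • n = 0) → Limits.IsZero (T.obj (ModuleCat.of B N)) := by
    intro I
    refine WellFoundedGT.induction (motive := fun I : Ideal B =>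
      ∀ (N : Type u) [AddCommGroup N] [Module B N] [Module.Finite B N],
        (∀ x ∈ I, ∀ n : N, x • n = 0) → Limits.IsZero (T.obj (ModuleCat.of B N))) I ?_
    intro I IH N _ _ hfinN
    refine IsNoetherianRing.induction_on_isQuotientEquivQuotientPrime B hfinN
      (motive := fun (N : Type u) [AddCommGroup N] [Module B N] [Module.Finite B N] =>
        (∀ x ∈ I, ∀ n : N, x • n = 0) → Limits.IsZero (T.obj (ModuleCat.of B N))) ?_ ?_ ?_
    · -- subsingleton
      intro N _ _ _ _ _
      exact T.map_isZero (ModuleCat.isZero_of_subsingleton _)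
    · -- quotient by a prime
      intro N _ _ _ p e hN
      have hIp : I ≤ p.asIdeal := by
        intro x hx
        have h1 : x • e.symm 1 = 0 := hN x hx _
        have h2 : x • (1 : B ⧸ p.asIdeal) = 0 := by
          have := congrArg e h1
          rwa [map_smul, LinearEquiv.apply_symm_apply, map_zero] at this
        rw [Algebra.smul_def, mul_one, Ideal.Quotient.algebraMap_eq] at h2
        exact Ideal.Quotient.eq_zero_iff_mem.mp h2
      refine Limits.IsZero.of_iso ?_ (T.mapIso e.toModuleIso)
      by_cases hp : p.asIdeal = IsLocalRing.maximalIdeal B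
      · rw [hp]; exact h0
      · have hple : p.asIdeal ≤ IsLocalRing.maximalIdeal B :=
          IsLocalRing.le_maximalIdeal p.isPrime.ne_top
        obtain ⟨b, hb, hbp⟩ := SetLike.exists_of_lt (lt_of_le_of_ne hple hp)
        obtain ⟨J, hJ⟩ : ∃ J : Ideal B, J = p.asIdeal ⊔ Ideal.span {b} := ⟨_, rfl⟩
        have hbJ : b ∈ J := by
          rw [hJ]
          exact (le_sup_right : Ideal.span {b} ≤ _) (Ideal.mem_span_singleton_self b)
        have hpJ : p.asIdeal ≤ J := by rw [hJ]; exact le_sup_left
        have hIJ : I < J :=
          lt_of_le_of_lt hIp (lt_of_le_of_ne hpJ (fun h => hbp (by rw [h]; exact hbJ)))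
        have hkill : ∀ x ∈ J, ∀ n : B ⧸ J, x • n = 0 := by
          intro x hx n
          rw [Algebra.smul_def, Ideal.Quotient.algebraMap_eq,
            Ideal.Quotient.eq_zero_iff_mem.mpr hx, zero_mul]
        have hTJ : Limits.IsZero (T.obj (ModuleCat.of B (B ⧸ J))) := IH J hIJ (B ⧸ J) hkill
        obtain ⟨π, hπ⟩ : ∃ π : (B ⧸ p.asIdeal) →ₗ[B] (B ⧸ J),
            ∀ z : B, π (Submodule.Quotient.mk z) = Submodule.Quotient.mk z :=
          ⟨Submodule.mapQ p.asIdeal J LinearMap.id (fun x hx => hpJ hx), fun z => rfl⟩
        have hl := hlin (ModuleCat.of B (B ⧸ p.asIdeal)) b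
        have hbsmul : ∀ y : B ⧸ p.asIdeal,
            (b • (LinearMap.id : (B ⧸ p.asIdeal) →ₗ[B] (B ⧸ p.asIdeal))) y = b • y :=
          fun y => rfl
        have hzero : (ModuleCat.ofHom (b • (LinearMap.id :
              (B ⧸ p.asIdeal) →ₗ[B] (B ⧸ p.asIdeal)))) ≫ ModuleCat.ofHom π = 0 := by
          apply ModuleCat.hom_ext
          apply LinearMap.ext
          intro y
          show π (b • y) = 0
          rw [map_smul]
          exact hkill b hbJ _
        have hexact : Function.Exact (b • (LinearMap.id :
              (B ⧸ p.asIdeal) →ₗ[B] (B ⧸ p.asIdeal))) π := by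
          intro y
          constructor
          · intro hy
            obtain ⟨z, rfl⟩ := Submodule.Quotient.mk_surjective _ y
            have hz : z ∈ J := by
              rw [hπ] at hy
              exact (Submodule.Quotient.mk_eq_zero J).mp hy
            rw [hJ] at hz
            obtain ⟨u, hu, v, hv, rfl⟩ := Submodule.mem_sup.mp hz
            obtain ⟨c, rfl⟩ := Ideal.mem_span_singleton'.mp hv
            refine ⟨Submodule.Quotient.mk c, ?_⟩
            rw [hbsmul, ← Submodule.Quotient.mk_smul, smul_eq_mul, eq_comm, ← sub_eq_zero,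
              ← Submodule.Quotient.mk_sub, Submodule.Quotient.mk_eq_zero]
            have : u + c * b - b * c = u := by ring
            rw [this]; exact hu
          · rintro ⟨x, rfl⟩
            rw [hbsmul, map_smul]
            exact hkill b hbJ _
        have hinj : Function.Injective (b • (LinearMap.id :
              (B ⧸ p.asIdeal) →ₗ[B] (B ⧸ p.asIdeal))) := by
          rw [injective_iff_map_eq_zero]
          intro y hy
          obtain ⟨z, rfl⟩ := Submodule.Quotient.mk_surjective _ y
          rw [hbsmul, ← Submodule.Quotient.mk_smul, smul_eq_mul,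
            Submodule.Quotient.mk_eq_zero] at hy
          rw [Submodule.Quotient.mk_eq_zero]
          exact (p.isPrime.mem_or_mem hy).resolve_left hbp
        have hsurj : Function.Surjective π := by
          intro w
          obtain ⟨z, rfl⟩ := Submodule.Quotient.mk_surjective _ w
          exact ⟨Submodule.Quotient.mk z, hπ z⟩
        have hS : (ShortComplex.mk (ModuleCat.ofHom (b • (LinearMap.id :
              (B ⧸ p.asIdeal) →ₗ[B] (B ⧸ p.asIdeal)))) (ModuleCat.ofHom π) hzero).ShortExact :=
          ModuleCat.shortComplex_shortExact _ hexact hinj hsurj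
        have hE := hex _ hS (inferInstanceAs (Module.Finite B (B ⧸ p.asIdeal)))
          (inferInstanceAs (Module.Finite B (B ⧸ p.asIdeal)))
          (inferInstanceAs (Module.Finite B (B ⧸ J)))
        have hfinT : Module.Finite A (T.obj (ModuleCat.of B (B ⧸ p.asIdeal))) :=
          hfin _ (inferInstanceAs (Module.Finite B (B ⧸ p.asIdeal)))
        have hb' : algebraMap B A b ∈ IsLocalRing.maximalIdeal A := by
          rw [IsLocalRing.mem_maximalIdeal, mem_nonunits_iff]
          intro hu
          exact (mem_nonunits_iff.mp ((IsLocalRing.mem_maximalIdeal b).mp hb))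
            (isUnit_of_map_unit (algebraMap B A) b hu)
        have hsub3 : Subsingleton (T.obj (ModuleCat.of B (B ⧸ J))) :=
          ModuleCat.subsingleton_of_isZero hTJ
        have hsurjT : ∀ m : T.obj (ModuleCat.of B (B ⧸ p.asIdeal)),
            ∃ m' : T.obj (ModuleCat.of B (B ⧸ p.asIdeal)), algebraMap B A b • m' = m := by
          intro m
          obtain ⟨m', hm'⟩ := (ShortComplex.moduleCat_exact_iff _).mp hE m
            (Subsingleton.elim (h := hsub3) _ _)
          refine ⟨m', ?_⟩
          have h4 : (T.map (ModuleCat.ofHom (b • (LinearMap.id :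
              (ModuleCat.of B (B ⧸ p.asIdeal)) →ₗ[B] (ModuleCat.of B (B ⧸ p.asIdeal)))))) m'
              = m := hm'
          rw [hl] at h4
          exact h4
        have := subsingleton_of_smul_surjective (algebraMap B A b) hb' hsurjT
        exact ModuleCat.isZero_of_subsingleton _
    · -- short exact sequences
      intro N₁ _ _ _ N₂ _ _ _ N₃ _ _ _ f g hf hg hfg h₁ h₃ hN
      have hN₁ : ∀ x ∈ I, ∀ n : N₁, x • n = 0 := by
        intro x hx n
        apply hf
        rw [map_smul, hN x hx, map_zero]
      have hN₃ : ∀ x ∈ I, ∀ n : N₃, x • n = 0 := by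
        intro x hx n
        obtain ⟨n₂, rfl⟩ := hg n
        rw [← map_smul, hN x hx, map_zero]
      have hS : (ModuleCat.shortComplexOfCompEqZero f g hfg.linearMap_comp_eq_zero).ShortExact :=
        ModuleCat.shortComplex_shortExact _ hfg hf hg
      have hE := hex _ hS (inferInstanceAs (Module.Finite B N₁))
        (inferInstanceAs (Module.Finite B N₂)) (inferInstanceAs (Module.Finite B N₃))
      exact hE.isZero_of_both_isZero (h₁ hN₁) (h₃ hN₃)
  exact key ⊥ N (fun x hx n => by rw [Ideal.mem_bot.mp hx, zero_smul])

end Groth.Agent.S14418
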