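import Groth.Statements.S1442
import Groth.Agent.H69.AvoidFibre
import Groth.Agent.H68.Quot

set_option autoImplicit false
set_option linter.style.haveILetI false
universe u
open FlatMor

namespace Groth.Agent.S1442

open Groth.Agent.H68.Quot

open AlgebraicGeometry CategoryTheory Limits in
/-- Let i : Z → X be a closed immersion and j : Z → Y an integral morphism such that for each point y of
Y the fibre of j over y is contained in the preimage of some affine open of X. Then for each y there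
are affine opens U of X and V of Y with y ∈ V and with the same preimage in Z. -/
theorem result {X Y Z : Scheme.{u}} (i : Z ⟶ X) [IsClosedImmersion i] (j : Z ⟶ Y) [IsIntegralHom j]
    (h : ∀ y : Y, ∃ U : X.Opens, IsAffineOpen U ∧ j ⁻¹' {y} ⊆ (i ⁻¹ᵁ U : Set ↑Z)) (y : Y) :
    ∃ (U : X.Opens) (V : Y.Opens), IsAffineOpen U ∧ IsAffineOpen V ∧ y ∈ V ∧ i ⁻¹ᵁ U = j ⁻¹ᵁ V := by
  classical
  obtain ⟨U₀, hU₀, hF⟩ := h y
  -- Step 1: shrink `Y` around `y`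
  have hTc : IsClosed ((i ⁻¹ᵁ U₀ : Set Z)ᶜ) := (i ⁻¹ᵁ U₀).isOpen.isClosed_compl
  have hjT : IsClosed (j '' ((i ⁻¹ᵁ U₀ : Set Z)ᶜ)) := j.isClosedMap _ hTc
  have hy1 : y ∈ (j '' ((i ⁻¹ᵁ U₀ : Set Z)ᶜ))ᶜ := by
    rintro ⟨z, hz, hzy⟩
    exact hz (hF hzy)
  obtain ⟨V₀, hV₀, hyV₀, hV₀sub⟩ := exists_isAffineOpen_mem_and_subset
    (x := y) (U := ⟨_, hjT.isOpen_compl⟩) hy1
  have hWZ₀ : j ⁻¹ᵁ V₀ ≤ i ⁻¹ᵁ U₀ := by
    intro z hz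
    by_contra hzn
    exact hV₀sub hz ⟨z, hzn, rfl⟩
  have hZ₀ : IsAffineOpen (i ⁻¹ᵁ U₀) := hU₀.preimage i
  have hW : IsAffineOpen (j ⁻¹ᵁ V₀) := hV₀.preimage j
  -- Step 2: a finite cover of `W` by basic opens of `Z₀`
  have hcov : (j ⁻¹ᵁ V₀ : Set Z) ⊆
      ⋃ a : {a : Γ(Z, i ⁻¹ᵁ U₀) // Z.basicOpen a ≤ j ⁻¹ᵁ V₀}, (Z.basicOpen a.1 : Set Z) := by
    intro z hz
    obtain ⟨a, ha1, ha2⟩ := hZ₀.exists_basicOpen_le (V := j ⁻¹ᵁ V₀) ⟨z, hz⟩ (hWZ₀ hz)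
    exact Set.mem_iUnion.2 ⟨⟨a, ha1⟩, ha2⟩
  obtain ⟨t₀, ht₀⟩ := hW.isCompact.elim_finite_subcover
    (fun a : {a : Γ(Z, i ⁻¹ᵁ U₀) // Z.basicOpen a ≤ j ⁻¹ᵁ V₀} => (Z.basicOpen a.1 : Set Z))
    (fun a => (Z.basicOpen a.1).isOpen) hcov
  let t : Finset Γ(Z, i ⁻¹ᵁ U₀) := t₀.image Subtype.val
  have ht_le : ∀ a ∈ t, Z.basicOpen a ≤ j ⁻¹ᵁ V₀ := by
    intro a ha
    obtain ⟨a', -, rfl⟩ := Finset.mem_image.1 ha
    exact a'.2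
  have ht_cov : ∀ z ∈ j ⁻¹ᵁ V₀, ∃ a ∈ t, z ∈ Z.basicOpen a := by
    intro z hz
    obtain ⟨a, ha, hza⟩ := Set.mem_iUnion₂.1 (ht₀ hz)
    exact ⟨a.1, Finset.mem_image_of_mem _ ha, hza⟩
  -- Step 3: the algebraic avoidance lemma
  let res : Γ(Z, i ⁻¹ᵁ U₀) →+* Γ(Z, j ⁻¹ᵁ V₀) := (Z.presheaf.map (homOfLE hWZ₀).op).hom
  let Q : Set (Ideal Γ(Z, j ⁻¹ᵁ V₀)) :=
    {𝔮 | ∃ (z : Z) (hz : z ∈ j ⁻¹ᵁ V₀), j z = y ∧ 𝔮 = primeAt (j ⁻¹ᵁ V₀) z hz}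
  have hres_basic : ∀ a : Γ(Z, i ⁻¹ᵁ U₀), Z.basicOpen (res a) = j ⁻¹ᵁ V₀ ⊓ Z.basicOpen a :=
    fun a => Z.basicOpen_res a (homOfLE hWZ₀).op
  obtain ⟨h₀, hh₀t, hh₀Q⟩ := Groth.Agent.H69.AvoidFibre.exists_mem_span_forall_notMem
    (j.app V₀).hom (IsIntegralHom.isIntegral_app j V₀ hV₀) res (primeAt V₀ y hyV₀) t Q (by
      rintro 𝔮 ⟨z, hz, hzy, rfl⟩
      refine ⟨inferInstance, ?_, ?_⟩
      · have := comap_primeAt j V₀ (j ⁻¹ᵁ V₀) le_rfl z hz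
        rw [← Scheme.Hom.app_eq_appLE] at this
        rw [this]
        exact primeAt_congr hzy _ _
      · obtain ⟨a, hat, hza⟩ := ht_cov z hz
        refine ⟨a, hat, ?_⟩
        rw [mem_primeAt_iff, not_not, hres_basic]
        exact ⟨hz, hza⟩)
  -- `D(h₀) ⊆ W` and the fibre lies in `D(h₀)`
  have hh₀W : Z.basicOpen h₀ ≤ j ⁻¹ᵁ V₀ := by
    intro z hz
    have hzZ₀ : z ∈ i ⁻¹ᵁ U₀ := Z.basicOpen_le h₀ hz
    by_contra hzW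
    have hall : (Ideal.span (t : Set Γ(Z, i ⁻¹ᵁ U₀))) ≤ primeAt (i ⁻¹ᵁ U₀) z hzZ₀ := by
      rw [Ideal.span_le]
      intro a hat
      show a ∈ primeAt (i ⁻¹ᵁ U₀) z hzZ₀
      rw [mem_primeAt_iff]
      intro hza
      exact hzW (ht_le a hat hza)
    have := hall hh₀t
    rw [mem_primeAt_iff] at this
    exact this hz
  have hFh₀ : ∀ z : Z, j z = y → z ∈ Z.basicOpen h₀ := by
    intro z hzy
    have hz : z ∈ j ⁻¹ᵁ V₀ := by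
      show j z ∈ V₀
      rw [hzy]; exact hyV₀
    have := hh₀Q _ ⟨z, hz, hzy, rfl⟩
    rw [mem_primeAt_iff, not_not, hres_basic] at this
    exact this.2
  -- Step 4: shrink `V₀` to a basic open
  have hT'c : IsClosed ((Z.basicOpen h₀ : Set Z)ᶜ) := (Z.basicOpen h₀).isOpen.isClosed_compl
  have hjT' : IsClosed (j '' ((Z.basicOpen h₀ : Set Z)ᶜ)) := j.isClosedMap _ hT'c
  have hy2 : y ∈ (j '' ((Z.basicOpen h₀ : Set Z)ᶜ))ᶜ := by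
    rintro ⟨z, hz, hzy⟩
    exact hz (hFh₀ z hzy)
  obtain ⟨f, hf1, hf2⟩ := hV₀.exists_basicOpen_le (V := ⟨_, hjT'.isOpen_compl⟩) ⟨y, hy2⟩ hyV₀
  have hφ : j ⁻¹ᵁ Y.basicOpen f = Z.basicOpen ((j.app V₀).hom f) := Scheme.preimage_basicOpen j f
  have hφh₀ : Z.basicOpen ((j.app V₀).hom f) ≤ Z.basicOpen h₀ := by
    rw [← hφ]
    intro z hz
    by_contra hzn
    exact hf1 hz ⟨z, hzn, rfl⟩
  -- Step 5: realise `D(φ)` as a basic open of `Z₀`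
  haveI hloc := hZ₀.isLocalization_basicOpen h₀
  obtain ⟨⟨d, s⟩, hds⟩ := IsLocalization.surj (Submonoid.powers h₀)
    ((Z.presheaf.map (homOfLE hh₀W).op).hom ((j.app V₀).hom f))
  have hsunit : IsUnit (algebraMap Γ(Z, i ⁻¹ᵁ U₀) Γ(Z, Z.basicOpen h₀) s) :=
    IsLocalization.map_units _ s
  have hg : Z.basicOpen (d * h₀) = Z.basicOpen ((j.app V₀).hom f) := by
    have e1 : Z.basicOpen (algebraMap Γ(Z, i ⁻¹ᵁ U₀) Γ(Z, Z.basicOpen h₀) d) =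
        Z.basicOpen h₀ ⊓ Z.basicOpen d :=
      Z.basicOpen_res d (homOfLE (Z.basicOpen_le h₀)).op
    have e2 : Z.basicOpen ((Z.presheaf.map (homOfLE hh₀W).op).hom ((j.app V₀).hom f)) =
        Z.basicOpen h₀ ⊓ Z.basicOpen ((j.app V₀).hom f) :=
      Z.basicOpen_res _ (homOfLE hh₀W).op
    have e3 := congrArg Z.basicOpen hds
    rw [Scheme.basicOpen_mul, Scheme.basicOpen_of_isUnit _ hsunit, e1, e2] at e3
    rw [Scheme.basicOpen_mul, inf_comm, ← e3]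
    rw [inf_eq_right.2 hφh₀, inf_eq_left.2 hφh₀]
  -- Step 6: lift to `X`
  obtain ⟨e, he⟩ := i.app_surjective U₀ hU₀ (d * h₀)
  refine ⟨X.basicOpen e, Y.basicOpen f, hU₀.basicOpen e, hV₀.basicOpen f, hf2, ?_⟩
  rw [hφ, Scheme.preimage_basicOpen i e, ← hg]
  exact congrArg Z.basicOpen he

end Groth.Agent.S1442
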