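import Groth.Statements.S14421
import Mathlib.Algebra.Homology.ShortComplex.ModuleCat

set_option autoImplicit false
universe u v
open CategoryTheory
open HomAlg

namespace Groth.Agent.S14421

/-- Let φ : K → J be a morphism of cochain complexes of modules over a ring which is surjective in
degree p − 1. Then the map induced on cohomology in degree p is surjective if and only if the map
induced on cocycles in degree p is surjective. (Stated for cochain complexes indexed by the
integers; the published statement is for three-term complexes in degrees p − 1, p, p + 1, which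
embed as such complexes.) -/
theorem result {R : Type u} [Ring R]
    (K J : CochainComplex (ModuleCat.{v} R) ℤ) (φ : K ⟶ J) (p : ℤ) [Epi (φ.f (p - 1))] :
    Epi (HomologicalComplex.homologyMap φ p) ↔ Epi (HomologicalComplex.cyclesMap φ p) := by
  have hnat : K.toCycles (p - 1) p ≫ HomologicalComplex.cyclesMap φ p =
      φ.f (p - 1) ≫ J.toCycles (p - 1) p := by
    rw [← cancel_mono (J.iCycles p)]
    simp
  have hπ : HomologicalComplex.cyclesMap φ p ≫ J.homologyπ p =
      K.homologyπ p ≫ HomologicalComplex.homologyMap φ p :=
    (HomologicalComplex.homologyπ_naturality φ p).symm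
  constructor
  · intro h
    have hprev : (ComplexShape.up ℤ).prev p = p - 1 := by simp
    have hex : (ShortComplex.mk (J.toCycles (p - 1) p) (J.homologyπ p)
        (J.toCycles_comp_homologyπ (p - 1) p)).Exact :=
      ShortComplex.exact_of_g_is_cokernel _ (J.homologyIsCokernel (p - 1) p hprev)
    rw [ShortComplex.moduleCat_exact_iff] at hex
    have hs1 : Function.Surjective (HomologicalComplex.homologyMap φ p) :=
      (ModuleCat.epi_iff_surjective _).mp h
    have hs2 : Function.Surjective (K.homologyπ p) :=
      (ModuleCat.epi_iff_surjective _).mp inferInstance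
    have hs3 : Function.Surjective (φ.f (p - 1)) :=
      (ModuleCat.epi_iff_surjective _).mp inferInstance
    rw [ModuleCat.epi_iff_surjective]
    intro z
    obtain ⟨c, hc⟩ := hs1 (J.homologyπ p z)
    obtain ⟨z', rfl⟩ := hs2 c
    have h1 : J.homologyπ p (z - HomologicalComplex.cyclesMap φ p z') = 0 := by
      rw [map_sub, ← hc]
      have := congrArg (fun f => f.hom z') hπ
      simp only [ModuleCat.hom_comp, LinearMap.comp_apply] at this
      rw [this, sub_self]
    obtain ⟨y, hy⟩ := hex _ h1
    obtain ⟨x, rfl⟩ := hs3 y
    refine ⟨z' + K.toCycles (p - 1) p x, ?_⟩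
    have h2 := congrArg (fun f => f.hom x) hnat
    simp only [ModuleCat.hom_comp, LinearMap.comp_apply] at h2
    rw [map_add, h2]
    dsimp at hy
    rw [hy]
    abel
  · intro h
    exact epi_of_epi_fac hπ.symm

end Groth.Agent.S14421
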