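import Groth.Statements.S14425
import Groth.Agent.H26.DepthQuot
import Groth.Agent.H78.PrimeAvoid
import Mathlib.RingTheory.Ideal.AssociatedPrime.Finiteness
import Mathlib.RingTheory.Regular.IsSMulRegular
import Mathlib.RingTheory.Nakayama
import Mathlib.RingTheory.Regular.RegularSequence

set_option autoImplicit false
universe u
open LocCoh

namespace Groth.Agent.S14425

open RingTheory.Sequence
open scoped Pointwise
open Groth.Agent.H26.DepthLib Groth.Agent.H26.DepthExt Groth.Agent.H26.DepthQuot

section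
variable {R : Type u} [CommRing R]

/-- Nakayama. -/
theorem smul_top_ne_top [IsLocalRing R] {I : Ideal R} (hI : I ≤ IsLocalRing.maximalIdeal R)
    (M : Type u) [AddCommGroup M] [Module R M] [Module.Finite R M] [Nontrivial M] :
    I • (⊤ : Submodule R M) ≠ ⊤ :=
  (Submodule.top_ne_ideal_smul_of_le_jacobson_annihilator
    (hI.trans (IsLocalRing.maximalIdeal_le_jacobson _))).symm

theorem nontrivial_quot [IsLocalRing R] {x : R} (hx : x ∈ IsLocalRing.maximalIdeal R)
    (M : Type u) [AddCommGroup M] [Module R M] [Module.Finite R M] [Nontrivial M] :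
    Nontrivial (QuotSMulTop x M) :=
  nontrivial_quotSMulTop_of_mem_maximalIdeal M hx

theorem exists_regular_of_one_le (I : Ideal R) (M : Type u) [AddCommGroup M] [Module R M]
    (h : (1 : ℕ∞) ≤ LocCoh.idealDepth I M) (hIM : I • (⊤ : Submodule R M) ≠ ⊤) :
    ∃ a ∈ I, IsSMulRegular M a := by
  obtain ⟨rs, hlen, hreg, hmem⟩ := exists_of_le_idealDepth I 1 (by exact_mod_cast h) hIM
  obtain ⟨a, rfl⟩ := List.length_eq_one_iff.1 hlen
  exact ⟨a, hmem a (by simp), ((isWeaklyRegular_cons_iff M a []).1 hreg).1⟩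

open CategoryTheory Abelian in
/-- If no nonzero element of `P` is killed by `J` then `depth_J P ≥ 1`. -/
theorem one_le_of_socle_zero [IsNoetherianRing R] (J : Ideal R)
    (P : Type u) [AddCommGroup P] [Module R P] [Module.Finite R P]
    (h : ∀ y : P, (∀ z ∈ J, z • y = 0) → y = 0) :
    (1 : ℕ∞) ≤ LocCoh.idealDepth J P := by
  have hsub : Subsingleton ((R ⧸ J) →ₗ[R] P) := by
    have hz : ∀ f : (R ⧸ J) →ₗ[R] P, f = 0 := by
      intro f
      have h1 : f 1 = 0 := by
        apply h
        intro a ha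
        rw [← map_smul]
        have h2 : a • (1 : R ⧸ J) = 0 := by
          rw [Algebra.smul_def, mul_one]
          exact Ideal.Quotient.eq_zero_iff_mem.2 ha
        rw [h2, map_zero]
      apply LinearMap.ext
      intro x
      obtain ⟨r, rfl⟩ := Ideal.Quotient.mk_surjective x
      have h3 : Ideal.Quotient.mk J r = r • (1 : R ⧸ J) := by
        rw [Algebra.smul_def, mul_one]
        rfl
      rw [h3, map_smul, h1, smul_zero]
      rfl
    exact ⟨fun f g => (hz f).trans (hz g).symm⟩
  have h1 : ((1 : ℕ) : ℕ∞) ≤ LocCoh.idealDepth J P := by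
    rw [le_idealDepth_iff_ext]
    intro i hi
    have hi0 : i = 0 := by omega
    subst hi0
    exact (Ext.addEquiv₀.trans (ModuleCat.homAddEquiv
      (M := ModuleCat.of R (R ⧸ J)) (N := ModuleCat.of R P))).subsingleton
  exact_mod_cast h1

theorem ann_smul_top (M : Type u) [AddCommGroup M] [Module R M] :
    Module.annihilator R M • (⊤ : Submodule R M) = ⊥ := by
  rw [eq_bot_iff, Submodule.smul_le]
  intro r hr m _
  rw [Module.mem_annihilator.1 hr m]
  exact Submodule.zero_mem _

theorem ann_le_ann_quot {M : Type u} [AddCommGroup M] [Module R M] (N : Submodule R M) :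
    Module.annihilator R M ≤ Module.annihilator R (M ⧸ N) := by
  intro z hz
  rw [Module.mem_annihilator] at hz ⊢
  intro m
  obtain ⟨m, rfl⟩ := Submodule.Quotient.mk_surjective N m
  rw [← Submodule.Quotient.mk_smul, hz m, Submodule.Quotient.mk_zero]

theorem mem_ann_quotSMulTop (x : R) (M : Type u) [AddCommGroup M] [Module R M] :
    x ∈ Module.annihilator R (QuotSMulTop x M) := by
  rw [Module.mem_annihilator]
  intro m
  obtain ⟨m, rfl⟩ := Submodule.Quotient.mk_surjective _ m
  rw [← Submodule.Quotient.mk_smul, Submodule.Quotient.mk_eq_zero]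
  exact Submodule.smul_mem_pointwise_smul m x ⊤ Submodule.mem_top

/-- The depth only depends on the action of the ideal on the module. -/
theorem depth_le_of_le_sup_ann [IsNoetherianRing R] (I I' : Ideal R) :
    ∀ (n : ℕ) (M : Type u) [AddCommGroup M] [Module R M] [Module.Finite R M],
      I ≤ I' ⊔ Module.annihilator R M → (n : ℕ∞) ≤ LocCoh.idealDepth I M →
      (n : ℕ∞) ≤ LocCoh.idealDepth I' M := by
  intro n
  induction n with
  | zero => intro M _ _ _ _ _; simp
  | succ n ih =>
    intro M _ _ _ hle h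
    by_cases hI'M : I' • (⊤ : Submodule R M) = ⊤
    · rw [idealDepth_eq_top_of_smul_top I' hI'M]; exact le_top
    have hIM : I • (⊤ : Submodule R M) ≠ ⊤ := by
      intro heq
      apply hI'M
      have h1 : I • (⊤ : Submodule R M) ≤ (I' ⊔ Module.annihilator R M) • ⊤ :=
        Submodule.smul_mono_left hle
      rw [Submodule.sup_smul, ann_smul_top, sup_bot_eq, heq] at h1
      exact top_le_iff.1 h1
    have h1 : (1 : ℕ∞) ≤ LocCoh.idealDepth I M := by
      refine le_trans ?_ h
      exact_mod_cast Nat.le_add_left 1 n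
    obtain ⟨a, haI, hareg⟩ := exists_regular_of_one_le I M h1 hIM
    obtain ⟨a', ha'I', z, hz, hsum⟩ := Submodule.mem_sup.1 (hle haI)
    have hact : ∀ m : M, a • m = a' • m := by
      intro m
      rw [← hsum, add_smul, Module.mem_annihilator.1 hz m, add_zero]
    have ha'reg : IsSMulRegular M a' := by
      intro m1 m2 h12
      apply hareg
      show a • m1 = a • m2
      rw [hact, hact]
      exact h12
    have hsub : a • (⊤ : Submodule R M) = a' • (⊤ : Submodule R M) := by
      ext m
      rw [Submodule.mem_smul_pointwise_iff_exists, Submodule.mem_smul_pointwise_iff_exists]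
      constructor
      · rintro ⟨y, hy, rfl⟩; exact ⟨y, hy, (hact y).symm⟩
      · rintro ⟨y, hy, rfl⟩; exact ⟨y, hy, hact y⟩
    have e : QuotSMulTop a M ≃ₗ[R] QuotSMulTop a' M := Submodule.quotEquivOfEq _ _ hsub
    have h2 : (n : ℕ∞) ≤ LocCoh.idealDepth I (QuotSMulTop a M) := depth_quot I M a hareg n h
    have h3 : (n : ℕ∞) ≤ LocCoh.idealDepth I' (QuotSMulTop a M) :=
      ih (QuotSMulTop a M) (hle.trans (sup_le_sup_left (ann_le_ann_quot _) _)) h2
    rw [idealDepth_congr I' e] at h3
    exact depth_cons I' M a' ha'I' ha'reg n h3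

theorem span_cons (x : R) (xs : List R) :
    Ideal.span {y | y ∈ x :: xs} = Ideal.span {x} ⊔ Ideal.span {y | y ∈ xs} := by
  have : ({y | y ∈ x :: xs} : Set R) = insert x {y | y ∈ xs} := by
    ext y; simp
  rw [this, Ideal.span_insert]

theorem span_nil : Ideal.span ({y | y ∈ ([] : List R)} : Set R) = ⊥ := by
  have : ({y | y ∈ ([] : List R)} : Set R) = ∅ := by ext y; simp
  rw [this, Ideal.span_empty]

theorem span_cons_le (x : R) (xs : List R) (M : Type u) [AddCommGroup M] [Module R M] :
    Ideal.span {y | y ∈ x :: xs} ≤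
      Ideal.span {y | y ∈ xs} ⊔ Module.annihilator R (QuotSMulTop x M) := by
  rw [span_cons, sup_comm]
  exact sup_le_sup_left
    (Ideal.span_le.2 (Set.singleton_subset_iff.2 (mem_ann_quotSMulTop x M))) _

/-- A regular sequence generating `I` bounds the `I`-depth from above. -/
theorem not_succ_le_of_regular [IsNoetherianRing R] [IsLocalRing R] :
    ∀ (xs : List R) (M : Type u) [AddCommGroup M] [Module R M] [Module.Finite R M] [Nontrivial M],
      (∀ x ∈ xs, x ∈ IsLocalRing.maximalIdeal R) → IsWeaklyRegular M xs →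
      ¬ (((xs.length + 1 : ℕ) : ℕ∞) ≤ LocCoh.idealDepth (Ideal.span {y | y ∈ xs}) M) := by
  intro xs
  induction xs with
  | nil =>
    intro M _ _ _ _ _ _ h
    rw [span_nil] at h
    have hIM : (⊥ : Ideal R) • (⊤ : Submodule R M) ≠ ⊤ := smul_top_ne_top bot_le M
    have h' : (1 : ℕ∞) ≤ LocCoh.idealDepth (⊥ : Ideal R) M := by simpa using h
    obtain ⟨a, ha, hreg⟩ := exists_regular_of_one_le ⊥ M h' hIM
    rw [Ideal.mem_bot] at ha
    subst ha
    obtain ⟨m1, m2, hne⟩ := exists_pair_ne M
    exact hne (hreg (by simp))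
  | cons x xs ih =>
    intro M _ _ _ _ hm hreg h
    rw [isWeaklyRegular_cons_iff] at hreg
    obtain ⟨hx, hrest⟩ := hreg
    have hxm : x ∈ IsLocalRing.maximalIdeal R := hm x (by simp)
    haveI : Nontrivial (QuotSMulTop x M) := nontrivial_quot hxm M
    rw [List.length_cons] at h
    have h1 : ((xs.length + 1 : ℕ) : ℕ∞) ≤
        LocCoh.idealDepth (Ideal.span {y | y ∈ x :: xs}) (QuotSMulTop x M) :=
      depth_quot _ M x hx (xs.length + 1) h
    have h2 := depth_le_of_le_sup_ann _ _ (xs.length + 1) (QuotSMulTop x M)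
      (span_cons_le x xs M) h1
    exact ih (QuotSMulTop x M) (fun y hy => hm y (List.mem_cons_of_mem _ hy)) hrest h2

/-- Core step: if `J` consists of zero-divisors then `(J, x)` has depth at most one. -/
theorem core [IsNoetherianRing R] [IsLocalRing R] (J : Ideal R) (x : R)
    (hx : x ∈ IsLocalRing.maximalIdeal R) (hJ : J ≤ IsLocalRing.maximalIdeal R)
    (M : Type u) [AddCommGroup M] [Module R M] [Module.Finite R M] [Nontrivial M]
    (h2 : ((1 + 1 : ℕ) : ℕ∞) ≤ LocCoh.idealDepth (J ⊔ Ideal.span {x}) M) :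
    (1 : ℕ∞) ≤ LocCoh.idealDepth J M := by
  classical
  set I : Ideal R := J ⊔ Ideal.span {x} with hIdef
  have hJI : J ≤ I := le_sup_left
  have hxI : x ∈ I := Ideal.mem_sup_right (Ideal.mem_span_singleton_self x)
  have hIm : I ≤ IsLocalRing.maximalIdeal R :=
    sup_le hJ (Ideal.span_le.2 (Set.singleton_subset_iff.2 hx))
  have hIM : I • (⊤ : Submodule R M) ≠ ⊤ := smul_top_ne_top hIm M
  have h1 : (1 : ℕ∞) ≤ LocCoh.idealDepth I M := by
    refine le_trans ?_ h2
    exact_mod_cast (by omega : 1 ≤ 1 + 1)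
  obtain ⟨b0, hb0I, hb0reg⟩ := exists_regular_of_one_le I M h1 hIM
  have hfin : (associatedPrimes R M).Finite := associatedPrimes.finite R M
  obtain ⟨j, hjJ, hj⟩ := Groth.Agent.H78.exists_add_notMem_of_primes J x hfin.toFinset
    (fun p hp => ((hfin.mem_toFinset).1 hp).isPrime)
    (by
      rintro p hp ⟨hxp, hJp⟩
      have hpass : p ∈ associatedPrimes R M := (hfin.mem_toFinset).1 hp
      have hb0p : b0 ∈ p :=
        (sup_le hJp (Ideal.span_le.2 (Set.singleton_subset_iff.2 hxp))) hb0I
      have hmem : b0 ∈ ⋃ p ∈ associatedPrimes R M, (p : Set R) := Set.mem_biUnion hpass hb0p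
      rw [biUnion_associatedPrimes_eq_compl_regular R M] at hmem
      exact hmem hb0reg)
  have hareg : IsSMulRegular M (x + j) := by
    by_contra hnot
    have hmem : (x + j) ∈ ({ r : R | IsSMulRegular M r }ᶜ : Set R) := hnot
    rw [← biUnion_associatedPrimes_eq_compl_regular R M] at hmem
    obtain ⟨p, hp, hap⟩ := Set.mem_iUnion₂.1 hmem
    exact hj p ((hfin.mem_toFinset).2 hp) hap
  set a := x + j with hadef
  have haI : a ∈ I := I.add_mem hxI (hJI hjJ)
  haveI : Nontrivial (QuotSMulTop a M) := nontrivial_quot (hIm haI) M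
  have h3 : ((1 : ℕ) : ℕ∞) ≤ LocCoh.idealDepth I (QuotSMulTop a M) :=
    depth_quot I M a hareg 1 h2
  have hIN : I • (⊤ : Submodule R (QuotSMulTop a M)) ≠ ⊤ := smul_top_ne_top hIm _
  obtain ⟨b, hbI, hbreg⟩ :=
    exists_regular_of_one_le I (QuotSMulTop a M) (by exact_mod_cast h3) hIN
  let H : Submodule R M :=
    { carrier := {u | ∀ z ∈ J, z • u = 0}
      add_mem' := by
        intro u v hu hv
        show ∀ z ∈ J, z • (u + v) = 0
        intro z hz
        rw [smul_add, hu z hz, hv z hz, add_zero]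
      zero_mem' := by
        show ∀ z ∈ J, z • (0 : M) = 0
        intro z _
        exact smul_zero z
      smul_mem' := by
        intro c u hu
        show ∀ z ∈ J, z • (c • u) = 0
        intro z hz
        rw [smul_comm, hu z hz, smul_zero] }
  have hHmem : ∀ u : M, u ∈ H ↔ ∀ z ∈ J, z • u = 0 := fun u => Iff.rfl
  have hHa : ∀ u ∈ H, u ∈ a • (⊤ : Submodule R M) := by
    intro u hu
    have hu' : ∀ z ∈ J, z • u = 0 := (hHmem u).1 hu
    obtain ⟨j', hj', y, hy, hsum⟩ := Submodule.mem_sup.1 hbI
    obtain ⟨r, hr⟩ := Ideal.mem_span_singleton'.1 hy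
    have hxu : x • u = a • u := by
      rw [hadef, add_smul, hu' j hjJ, add_zero]
    have hbu : b • u = a • (r • u) := by
      rw [← hsum, add_smul, hu' j' hj', zero_add, ← hr, mul_smul, hxu, smul_comm]
    have hzero : b • (Submodule.Quotient.mk u : QuotSMulTop a M) = 0 := by
      rw [← Submodule.Quotient.mk_smul, hbu, Submodule.Quotient.mk_eq_zero]
      exact Submodule.smul_mem_pointwise_smul _ a ⊤ Submodule.mem_top
    have hmk : (Submodule.Quotient.mk u : QuotSMulTop a M) = 0 := by
      apply hbreg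
      show b • (Submodule.Quotient.mk u : QuotSMulTop a M) = b • (0 : QuotSMulTop a M)
      rw [hzero, smul_zero]
    exact (Submodule.Quotient.mk_eq_zero _).1 hmk
  have hle : H ≤ Ideal.span {a} • H := by
    intro u hu
    obtain ⟨v, -, hv⟩ := (Submodule.mem_smul_pointwise_iff_exists _ _ _).1 (hHa u hu)
    have hvH : v ∈ H := by
      rw [hHmem]
      intro z hz
      apply hareg
      show a • (z • v) = a • (0 : M)
      rw [smul_comm, hv, (hHmem u).1 hu z hz, smul_zero]
    rw [← hv]
    exact Submodule.smul_mem_smul (Ideal.mem_span_singleton_self a) hvH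
  have hHbot : H = ⊥ :=
    Submodule.eq_bot_of_le_smul_of_le_jacobson_bot (Ideal.span {a}) H
      (IsNoetherian.noetherian H) hle
      ((Ideal.span_le.2 (Set.singleton_subset_iff.2 (hIm haI))).trans
        (IsLocalRing.maximalIdeal_le_jacobson ⊥))
  apply one_le_of_socle_zero J M
  intro u hu
  have huH : u ∈ H := (hHmem u).2 hu
  rw [hHbot] at huH
  exact (Submodule.mem_bot R).1 huH

theorem KL [IsNoetherianRing R] [IsLocalRing R] (J : Ideal R) (x : R)
    (hx : x ∈ IsLocalRing.maximalIdeal R) (hJ : J ≤ IsLocalRing.maximalIdeal R) :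
    ∀ (k : ℕ) (M : Type u) [AddCommGroup M] [Module R M] [Module.Finite R M] [Nontrivial M],
      ((k + 1 : ℕ) : ℕ∞) ≤ LocCoh.idealDepth (J ⊔ Ideal.span {x}) M →
      (k : ℕ∞) ≤ LocCoh.idealDepth J M := by
  intro k
  induction k with
  | zero => intro M _ _ _ _ _; simp
  | succ k ih =>
    intro M _ _ _ _ h
    have h1 : (1 : ℕ∞) ≤ LocCoh.idealDepth J M := by
      apply core J x hx hJ M
      refine le_trans ?_ h
      exact_mod_cast (by omega : 1 + 1 ≤ k + 1 + 1)
    obtain ⟨a, haJ, hareg⟩ := exists_regular_of_one_le J M h1 (smul_top_ne_top hJ M)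
    haveI : Nontrivial (QuotSMulTop a M) := nontrivial_quot (hJ haJ) M
    have h2 : ((k + 1 : ℕ) : ℕ∞) ≤
        LocCoh.idealDepth (J ⊔ Ideal.span {x}) (QuotSMulTop a M) :=
      depth_quot _ M a hareg (k + 1) h
    have h3 := ih (QuotSMulTop a M) h2
    exact depth_cons J M a haJ hareg k h3

theorem KL' [IsNoetherianRing R] [IsLocalRing R] :
    ∀ (xs : List R) (J : Ideal R), (∀ x ∈ xs, x ∈ IsLocalRing.maximalIdeal R) →
      J ≤ IsLocalRing.maximalIdeal R →
      ∀ (k : ℕ) (M : Type u) [AddCommGroup M] [Module R M] [Module.Finite R M] [Nontrivial M],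
      ((k + xs.length : ℕ) : ℕ∞) ≤ LocCoh.idealDepth (J ⊔ Ideal.span {y | y ∈ xs}) M →
      (k : ℕ∞) ≤ LocCoh.idealDepth J M := by
  intro xs
  induction xs with
  | nil =>
    intro J _ _ k M _ _ _ _ h
    rw [span_nil, sup_bot_eq] at h
    simpa using h
  | cons x xs ih =>
    intro J hm hJ k M _ _ _ _ h
    have hxm : x ∈ IsLocalRing.maximalIdeal R := hm x (by simp)
    rw [span_cons, ← sup_assoc] at h
    have e : k + (x :: xs).length = k + 1 + xs.length := by rw [List.length_cons]; omega
    rw [e] at h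
    have h1 := ih (J ⊔ Ideal.span {x}) (fun y hy => hm y (List.mem_cons_of_mem _ hy))
      (sup_le hJ (Ideal.span_le.2 (Set.singleton_subset_iff.2 hxm))) (k + 1) M h
    exact KL J x hxm hJ k M h1

theorem regular_of_depth [IsNoetherianRing R] [IsLocalRing R] :
    ∀ (xs : List R) (M : Type u) [AddCommGroup M] [Module R M] [Module.Finite R M] [Nontrivial M],
      (∀ x ∈ xs, x ∈ IsLocalRing.maximalIdeal R) →
      ((xs.length : ℕ) : ℕ∞) ≤ LocCoh.idealDepth (Ideal.span {y | y ∈ xs}) M →
      IsWeaklyRegular M xs := by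
  intro xs
  induction xs with
  | nil => intro M _ _ _ _ _ _; exact IsWeaklyRegular.nil R M
  | cons x xs ih =>
    intro M _ _ _ _ hm h
    have hxm : x ∈ IsLocalRing.maximalIdeal R := hm x (by simp)
    have hxs : ∀ y ∈ xs, y ∈ IsLocalRing.maximalIdeal R :=
      fun y hy => hm y (List.mem_cons_of_mem _ hy)
    have hsx : Ideal.span {x} ≤ IsLocalRing.maximalIdeal R :=
      Ideal.span_le.2 (Set.singleton_subset_iff.2 hxm)
    have h1 : ((1 : ℕ) : ℕ∞) ≤ LocCoh.idealDepth (Ideal.span {x}) M := by
      apply KL' xs (Ideal.span {x}) hxs hsx 1 M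
      rw [← span_cons]
      have e : 1 + xs.length = (x :: xs).length := by rw [List.length_cons]; omega
      rw [e]
      exact h
    obtain ⟨b, hb, hbreg⟩ := exists_regular_of_one_le (Ideal.span {x}) M
      (by exact_mod_cast h1) (smul_top_ne_top hsx M)
    obtain ⟨r, rfl⟩ := Ideal.mem_span_singleton'.1 hb
    have hxreg : IsSMulRegular M x := hbreg.of_mul
    haveI : Nontrivial (QuotSMulTop x M) := nontrivial_quot hxm M
    rw [List.length_cons] at h
    have h2 : ((xs.length : ℕ) : ℕ∞) ≤
        LocCoh.idealDepth (Ideal.span {y | y ∈ x :: xs}) (QuotSMulTop x M) :=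
      depth_quot _ M x hxreg xs.length h
    have h3 := depth_le_of_le_sup_ann _ _ xs.length (QuotSMulTop x M) (span_cons_le x xs M) h2
    exact (isWeaklyRegular_cons_iff M x xs).2 ⟨hxreg, ih (QuotSMulTop x M) hxs h3⟩

end

/-- Let (R, m) be a Noetherian local ring, M a nonzero finitely generated R-module and x_1, …, x_n
elements of m generating the ideal a. Then depth(a, M) = n if and only if x_1, …, x_n is an
M-regular sequence (each x_i a non-zero-divisor on M/(x_1, …, x_{i-1})M; the condition (x)M ≠ M is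
automatic here). -/
theorem result {R : Type u} [CommRing R] [IsNoetherianRing R] [IsLocalRing R]
    {M : Type u} [AddCommGroup M] [Module R M] [Module.Finite R M] [Nontrivial M]
    (xs : List R) (hxs : ∀ x ∈ xs, x ∈ IsLocalRing.maximalIdeal R) :
    LocCoh.idealDepth (Ideal.span {x | x ∈ xs}) M = xs.length ↔ RingTheory.Sequence.IsWeaklyRegular M xs := by
  constructor
  · intro h
    exact regular_of_depth xs M hxs (le_of_eq h.symm)
  · intro hreg
    apply le_antisymm
    · by_contra hnot
      rw [not_le] at hnot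
      have h1 : ((xs.length + 1 : ℕ) : ℕ∞) ≤ LocCoh.idealDepth (Ideal.span {x | x ∈ xs}) M := by
        have := Order.add_one_le_of_lt hnot
        exact_mod_cast this
      exact not_succ_le_of_regular xs M hxs hreg h1
    · exact length_le_idealDepth _ hreg (fun r hr => Ideal.subset_span hr)

end Groth.Agent.S14425
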