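import Groth.Statements.S14426
import Groth.Agent.H59.KoszDepth
import Groth.Agent.H59.KoszBridge

set_option autoImplicit false
universe u
open Koszul3

namespace Groth.Agent.S14426


open CategoryTheory CategoryTheory.Limits in
/-- Let (R, m) be a Noetherian local ring, M a nonzero finitely generated R-module and x_1, …, x_n
elements of m generating the ideal a. Then depth(a, M) ≤ n; the Koszul cohomology H^p(x; M) vanishes
for every p < depth(a, M); and H^r(x; M) is nonzero for r = depth(a, M). (Cohomological indexing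
with H^n(x; M) = M/(x)M; in homological indexing this reads H_i = 0 for i > n − r and H_{n−r} ≠ 0.
Koszul complex realised by iterated mapping cones, as in the prelude.) -/
theorem result {R : Type u} [CommRing R] [IsNoetherianRing R] [IsLocalRing R]
    (M : Type u) [AddCommGroup M] [Module R M] [Module.Finite R M] [Nontrivial M]
    (xs : List R) (hxs : ∀ x ∈ xs, x ∈ IsLocalRing.maximalIdeal R) :
    LocCoh.idealDepth (Ideal.span {x | x ∈ xs}) M ≤ xs.length ∧
      (∀ p : ℕ, (p : ℕ∞) < LocCoh.idealDepth (Ideal.span {x | x ∈ xs}) M → IsZero (CohIII.koszulH xs (ModuleCat.of R M) p)) ∧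
      (∀ r : ℕ, LocCoh.idealDepth (Ideal.span {x | x ∈ xs}) M = r → ¬ IsZero (CohIII.koszulH xs (ModuleCat.of R M) r)) := by
  classical
  set a := Ideal.span {x | x ∈ xs} with ha
  have ha_le : a ≤ IsLocalRing.maximalIdeal R := Ideal.span_le.2 (fun x hx => hxs x hx)
  have haM : a • (⊤ : Submodule R M) ≠ ⊤ := by
    intro h
    have := Submodule.eq_bot_of_le_smul_of_le_jacobson_bot a ⊤ (Module.Finite.fg_top) (h.ge)
      (ha_le.trans (IsLocalRing.maximalIdeal_le_jacobson _))
    exact top_ne_bot this
  have hno : ¬ Groth.Agent.H15.Depth.HasSeq a M (xs.length + 1) := by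
    intro h
    have hz := Groth.Agent.H59.Kosz.isZero_homology_of_hasSeq xs (xs.length+1) M h 0
      (by push_cast; omega)
    obtain ⟨iso⟩ := Groth.Agent.H59.Kosz.nonempty_top_iso M xs
    have h1 : IsZero (ModuleCat.of R (M ⧸ (Ideal.ofList xs • (⊤ : Submodule R M)))) :=
      hz.of_iso iso.symm
    have h2 := ModuleCat.subsingleton_of_isZero h1
    have h3 : Nontrivial (M ⧸ (Ideal.ofList xs • (⊤ : Submodule R M))) :=
      Submodule.Quotient.nontrivial_iff.2 haM
    exact not_subsingleton _ h2
  refine ⟨?_, ?_, ?_⟩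
  · by_contra hlt
    rw [not_le] at hlt
    have : ((xs.length + 1 : ℕ) : ℕ∞) ≤ LocCoh.idealDepth a M := by
      have := Order.add_one_le_of_lt hlt
      exact_mod_cast this
    exact hno ((Groth.Agent.H15.Depth.le_idealDepth_iff haM _).1 this)
  · intro p hp
    have : ((p + 1 : ℕ) : ℕ∞) ≤ LocCoh.idealDepth a M := by
      have := Order.add_one_le_of_lt hp
      exact_mod_cast this
    have hseq := (Groth.Agent.H15.Depth.le_idealDepth_iff haM _).1 this
    show IsZero ((CohIII.koszulCx (ModuleCat.of R M) xs).homology ((p : ℤ) - xs.length))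
    rw [Groth.Agent.H59.Kosz.koszulCx_eq]
    exact Groth.Agent.H59.Kosz.isZero_homology_of_hasSeq xs (p+1) M hseq _ (by push_cast; omega)
  · intro r hr
    have h1 : Groth.Agent.H15.Depth.HasSeq a M r :=
      (Groth.Agent.H15.Depth.le_idealDepth_iff haM r).1 (by rw [hr])
    have h2 : ¬ Groth.Agent.H15.Depth.HasSeq a M (r+1) := fun h => by
      have := (Groth.Agent.H15.Depth.le_idealDepth_iff haM (r+1)).2 h
      rw [hr] at this
      have : r + 1 ≤ r := by exact_mod_cast this
      omega
    show ¬ IsZero ((CohIII.koszulCx (ModuleCat.of R M) xs).homology ((r : ℤ) - xs.length))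
    rw [Groth.Agent.H59.Kosz.koszulCx_eq]
    exact Groth.Agent.H59.Kosz.not_isZero_homology_of_hasSeq xs r M h1 h2

end Groth.Agent.S14426
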