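import Groth.Statements.S14427
import Mathlib

set_option autoImplicit false
universe u
open CAlgX

namespace Groth.Agent.S14427

theorem finrank_homog (k : Type u) [Field k] (d : ℕ) :
    Module.finrank k (MvPolynomial.homogeneousSubmodule (Fin 3) k d) = Nat.choose (d + 2) 2 := by
  classical
  have b := MvPolynomial.basisRestrictSupport k {d' : Fin 3 →₀ ℕ | d'.degree = d}
  have h1 : Module.finrank k (MvPolynomial.homogeneousSubmodule (Fin 3) k d)
      = Module.finrank k (MvPolynomial.restrictSupport k {d' : Fin 3 →₀ ℕ | d'.degree = d}) := by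
    rw [MvPolynomial.homogeneousSubmodule_eq_finsupp_supported]
    rfl
  rw [h1, Module.finrank_eq_nat_card_basis b]
  have e : ↥{d' : Fin 3 →₀ ℕ | d'.degree = d} ≃ Sym (Fin 3) d :=
    (Equiv.subtypeEquivRight (fun d' => by
      show d'.degree = d ↔ d'.sum (fun _ => id) = d
      rfl)).trans (Sym.equivNatSum (Fin 3) d).symm
  rw [Nat.card_congr e, Nat.card_eq_fintype_card, Sym.card_sym_eq_multichoose, Nat.multichoose_eq,
    Fintype.card_fin]
  have h2 : 3 + d - 1 = d + 2 := by omega
  rw [h2]
  exact Nat.choose_symm_add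


/-- Let k be a field and Λ a set of n ≥ 3 nonzero vectors of k^3 which are pairwise linearly
independent, i.e. n distinct k-rational points of the projective plane. Then the space of
homogeneous forms of degree n − 1 in k[x_0, x_1, x_2] vanishing at every point of Λ — the global
sections of I_Λ(n − 1) — has dimension C(n+1, 2) − n over k, the same for all such Λ. (The published
statement is over an algebraically closed field; this row allows any field and k-rational points,
which is all its argument uses.) -/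
theorem result (k : Type u) [Field k] (n : ℕ) (hn : 3 ≤ n)
    (Λ : Finset (Fin 3 → k)) (hcard : Λ.card = n) (h0 : ∀ v ∈ Λ, v ≠ 0)
    (hdist : ∀ v ∈ Λ, ∀ w ∈ Λ, v ≠ w → LinearIndependent k ![v, w]) :
    Module.finrank k ↥(MvPolynomial.homogeneousSubmodule (Fin 3) k (n - 1) ⊓ ⨅ v ∈ Λ, LinearMap.ker (MvPolynomial.aeval v).toLinearMap) = Nat.choose (n + 1) 2 - n := by
  classical
  obtain ⟨d, hd⟩ : ∃ d, d = n - 1 := ⟨_, rfl⟩
  rw [← hd]
  have H : ∀ v ∈ Λ, ∀ w ∈ Λ, v ≠ w →
      ∃ φ : Module.Dual k (Fin 3 → k), φ v ≠ 0 ∧ φ w = 0 := by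
    intro v hv w hw hvw
    have hli := hdist v hv w hw hvw
    have hx : v ∉ Submodule.span k {w} := by
      intro hmem
      obtain ⟨c, hc⟩ := Submodule.mem_span_singleton.mp hmem
      have h1 := (LinearIndependent.pair_iff.mp hli) 1 (-c)
        (by rw [one_smul, neg_smul, hc, add_neg_cancel])
      exact one_ne_zero h1.1
    obtain ⟨f, hf1, hf2⟩ := Submodule.exists_dual_map_eq_bot_of_notMem hx inferInstance
    refine ⟨f, hf1, ?_⟩
    have h2 : f w ∈ (Submodule.span k {w}).map f :=
      Submodule.mem_map_of_mem (Submodule.mem_span_singleton_self w)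
    rw [hf2] at h2
    exact (Submodule.mem_bot k).mp h2
  choose! φ hφ using H
  let L : Module.Dual k (Fin 3 → k) → MvPolynomial (Fin 3) k := fun f =>
    ∑ i : Fin 3, MvPolynomial.C (f (fun j => if i = j then 1 else 0)) * MvPolynomial.X i
  have hLhom : ∀ f, (L f).IsHomogeneous 1 := by
    intro f
    apply MvPolynomial.IsHomogeneous.sum
    intro i _
    have h1 := (MvPolynomial.isHomogeneous_C (Fin 3) (f (fun j => if i = j then 1 else 0))).mul
      (MvPolynomial.isHomogeneous_X k i)
    rwa [zero_add] at h1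
  have hLev : ∀ f (u : Fin 3 → k), MvPolynomial.aeval u (L f) = f u := by
    intro f u
    simp only [L, map_sum, map_mul, MvPolynomial.aeval_C, MvPolynomial.aeval_X]
    rw [LinearMap.pi_apply_eq_sum_univ f u]
    apply Finset.sum_congr rfl
    intro i _
    rw [smul_eq_mul, mul_comm]
    rfl
  let G : (Fin 3 → k) → MvPolynomial (Fin 3) k := fun v => ∏ w ∈ Λ.erase v, L (φ v w)
  have hGhom : ∀ v ∈ Λ, (G v).IsHomogeneous d := by
    intro v hv
    have h1 := MvPolynomial.IsHomogeneous.prod (Λ.erase v) (fun w => L (φ v w)) (fun _ => 1)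
      (fun w _ => hLhom _)
    have h2 : ∑ w ∈ Λ.erase v, 1 = d := by
      rw [Finset.sum_const, smul_eq_mul, mul_one, Finset.card_erase_of_mem hv, hcard, hd]
    rw [h2] at h1
    exact h1
  have hGev : ∀ v (u : Fin 3 → k), MvPolynomial.aeval u (G v) = ∏ w ∈ Λ.erase v, φ v w u := by
    intro v u
    simp only [G, map_prod, hLev]
  have hGself : ∀ v ∈ Λ, MvPolynomial.aeval v (G v) ≠ 0 := by
    intro v hv
    rw [hGev, Finset.prod_ne_zero_iff]
    intro w hw
    obtain ⟨hwv, hwΛ⟩ := Finset.mem_erase.mp hw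
    exact (hφ v hv w hwΛ (Ne.symm hwv)).1
  have hGother : ∀ v ∈ Λ, ∀ u ∈ Λ, u ≠ v → MvPolynomial.aeval u (G v) = 0 := by
    intro v hv u hu huv
    rw [hGev]
    exact Finset.prod_eq_zero (Finset.mem_erase.mpr ⟨huv, hu⟩) (hφ v hv u hu (Ne.symm huv)).2
  let evfull : MvPolynomial (Fin 3) k →ₗ[k] (Λ → k) :=
    LinearMap.pi (fun v : Λ => (MvPolynomial.aeval (v : Fin 3 → k)).toLinearMap)
  have hK : (⨅ v ∈ Λ, LinearMap.ker (MvPolynomial.aeval v).toLinearMap) = LinearMap.ker evfull := by
    ext F
    simp only [Submodule.mem_iInf, LinearMap.mem_ker, AlgHom.toLinearMap_apply]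
    constructor
    · intro h
      funext v
      exact h v.1 v.2
    · intro h v hv
      exact congrFun h ⟨v, hv⟩
  obtain ⟨S, hS⟩ : ∃ S, S = MvPolynomial.homogeneousSubmodule (Fin 3) k d := ⟨_, rfl⟩
  rw [← hS]
  have hSmem : ∀ F : MvPolynomial (Fin 3) k, F.IsHomogeneous d → F ∈ S := by
    intro F hF
    rw [hS]
    exact hF
  let ev : S →ₗ[k] (Λ → k) := evfull.comp S.subtype
  have hsurj : Function.Surjective ev := by
    intro g
    have hFmem : (∑ v : Λ, (g v / MvPolynomial.aeval (v : Fin 3 → k) (G v)) • G v) ∈ S := by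
      apply Submodule.sum_mem
      intro v _
      exact Submodule.smul_mem _ _ (hSmem _ (hGhom v.1 v.2))
    refine ⟨⟨_, hFmem⟩, ?_⟩
    funext u
    show MvPolynomial.aeval (u : Fin 3 → k)
      (∑ v : Λ, (g v / MvPolynomial.aeval (v : Fin 3 → k) (G v)) • G v) = g u
    rw [map_sum, Finset.sum_eq_single u]
    · rw [map_smul, smul_eq_mul, div_mul_cancel₀ _ (hGself u.1 u.2)]
    · intro v _ hvu
      rw [map_smul, hGother v.1 v.2 u.1 u.2 (fun h => hvu (Subtype.ext h.symm)), smul_zero]
    · intro h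
      exact absurd (Finset.mem_univ u) h
  haveI : Module.Finite k S := by
    rw [hS]
    exact Module.Finite.iff_fg.mpr (MvPolynomial.homogeneousSubmodule_fg (Fin 3) k d)
  have hrn := LinearMap.finrank_range_add_finrank_ker ev
  have hfS : Module.finrank k S = Nat.choose (d + 2) 2 := by
    rw [hS]
    exact finrank_homog k d
  rw [LinearMap.range_eq_top.mpr hsurj, finrank_top, Module.finrank_fintype_fun_eq_card,
    Fintype.card_coe, hcard, hfS] at hrn
  have hker : Module.finrank k ↥(S ⊓ ⨅ v ∈ Λ, LinearMap.ker (MvPolynomial.aeval v).toLinearMap)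
      = Module.finrank k ↥(LinearMap.ker ev) := by
    have e := Submodule.comapSubtypeEquivOfLe
      (inf_le_left : S ⊓ (⨅ v ∈ Λ, LinearMap.ker (MvPolynomial.aeval v).toLinearMap) ≤ S)
    have h3 : Submodule.comap S.subtype
        (S ⊓ ⨅ v ∈ Λ, LinearMap.ker (MvPolynomial.aeval v).toLinearMap) = LinearMap.ker ev := by
      show _ = LinearMap.ker (evfull.comp S.subtype)
      rw [Submodule.comap_inf, Submodule.comap_subtype_self, top_inf_eq, hK, LinearMap.ker_comp]
    rw [← e.finrank_eq, h3]
  rw [hker]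
  have hd2 : d + 2 = n + 1 := by omega
  rw [hd2] at hrn
  omega

end Groth.Agent.S14427
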