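import Groth.Statements.S14428
import Mathlib

set_option autoImplicit false
universe u
open CAlgX

namespace Groth.Agent.S14428

/-- the linear form attached to a functional -/
noncomputable def L (k : Type u) [Field k] (f : Module.Dual k (Fin 3 → k)) : MvPolynomial (Fin 3) k :=
  ∑ i : Fin 3, MvPolynomial.C (f (fun j => if i = j then 1 else 0)) * MvPolynomial.X i

theorem L_hom (k : Type u) [Field k] (f : Module.Dual k (Fin 3 → k)) : (L k f).IsHomogeneous 1 := by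
  unfold L
  apply MvPolynomial.IsHomogeneous.sum
  intro i _
  have h1 := (MvPolynomial.isHomogeneous_C (Fin 3) (f (fun j => if i = j then 1 else 0))).mul
    (MvPolynomial.isHomogeneous_X k i)
  rwa [zero_add] at h1

theorem L_ev (k : Type u) [Field k] (f : Module.Dual k (Fin 3 → k)) (u : Fin 3 → k) :
    MvPolynomial.aeval u (L k f) = f u := by
  unfold L
  simp only [map_sum, map_mul, MvPolynomial.aeval_C, MvPolynomial.aeval_X]
  rw [LinearMap.pi_apply_eq_sum_univ f u]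
  apply Finset.sum_congr rfl
  intro i _
  rw [smul_eq_mul, mul_comm]
  rfl

theorem aux (k : Type u) [Field k] (n : ℕ) (hn : 3 ≤ n) (Λ Λ' : Finset (Fin 3 → k))
    (hcard' : Λ'.card = n)
    (hline' : ¬ ∃ ℓ : (Fin 3 → k) →ₗ[k] k, ℓ ≠ 0 ∧ ∀ v ∈ Λ', ℓ v = 0)
    (hsub : ∀ F : MvPolynomial (Fin 3) k, F.IsHomogeneous (n - 1) →
      (∀ w ∈ Λ', MvPolynomial.aeval w F = 0) → ∀ v ∈ Λ, MvPolynomial.aeval v F = 0) :
    ∀ v ∈ Λ, ∃ w ∈ Λ', ∃ c : k, v = c • w := by
  classical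
  intro v hv
  by_contra hcon
  have hcon' : ∀ w ∈ Λ', ∀ c : k, v ≠ c • w := by
    intro w hw c hc
    exact hcon ⟨w, hw, c, hc⟩
  have Ha : ∀ w ∈ Λ', ∃ φ : Module.Dual k (Fin 3 → k), φ v ≠ 0 ∧ φ w = 0 := by
    intro w hw
    have hx : v ∉ Submodule.span k {w} := by
      intro hmem
      obtain ⟨c, hc⟩ := Submodule.mem_span_singleton.mp hmem
      exact hcon' w hw c hc.symm
    obtain ⟨f, hf1, hf2⟩ := Submodule.exists_dual_map_eq_bot_of_notMem hx inferInstance
    refine ⟨f, hf1, ?_⟩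
    have h2 : f w ∈ (Submodule.span k {w}).map f :=
      Submodule.mem_map_of_mem (Submodule.mem_span_singleton_self w)
    rw [hf2] at h2
    exact (Submodule.mem_bot k).mp h2
  choose! φ hφ using Ha
  have hne : Λ'.Nonempty := by
    rw [← Finset.card_pos, hcard']; omega
  obtain ⟨w₁, hw₁⟩ := hne
  have hlt : Submodule.span k ({v, w₁} : Set (Fin 3 → k)) < ⊤ := by
    rw [lt_top_iff_ne_top]
    intro htop
    have h1 : Module.finrank k
        ↥(Submodule.span k (({v, w₁} : Finset (Fin 3 → k)) : Set (Fin 3 → k)))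
        ≤ ({v, w₁} : Finset (Fin 3 → k)).card := finrank_span_finset_le_card _
    have h2 : (({v, w₁} : Finset (Fin 3 → k)) : Set (Fin 3 → k)) = {v, w₁} := by simp
    rw [h2, htop, finrank_top, Module.finrank_fin_fun] at h1
    have h3 : ({v, w₁} : Finset (Fin 3 → k)).card ≤ 2 := Finset.card_le_two
    omega
  obtain ⟨ℓ, hℓ0, hℓ⟩ := Submodule.exists_dual_map_eq_bot_of_lt_top hlt inferInstance
  have hℓv : ℓ v = 0 := by
    have h2 : ℓ v ∈ (Submodule.span k ({v, w₁} : Set (Fin 3 → k))).map ℓ :=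
      Submodule.mem_map_of_mem (Submodule.subset_span (by simp))
    rw [hℓ] at h2
    exact (Submodule.mem_bot k).mp h2
  have hℓw₁ : ℓ w₁ = 0 := by
    have h2 : ℓ w₁ ∈ (Submodule.span k ({v, w₁} : Set (Fin 3 → k))).map ℓ :=
      Submodule.mem_map_of_mem (Submodule.subset_span (by simp))
    rw [hℓ] at h2
    exact (Submodule.mem_bot k).mp h2
  have hw₂ : ∃ w₂ ∈ Λ', ℓ w₂ ≠ 0 := by
    by_contra h
    apply hline'
    refine ⟨ℓ, hℓ0, ?_⟩
    intro w hw
    by_contra h'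
    exact h ⟨w, hw, h'⟩
  obtain ⟨w₂, hw₂, hℓw₂⟩ := hw₂
  have hw12 : w₂ ≠ w₁ := by
    rintro rfl
    exact hℓw₂ hℓw₁
  have hx2 : v ∉ Submodule.span k ({w₁, w₂} : Set (Fin 3 → k)) := by
    intro hmem
    obtain ⟨a, b, hab⟩ := Submodule.mem_span_pair.mp hmem
    have h1 : ℓ v = a * ℓ w₁ + b * ℓ w₂ := by
      rw [← hab, map_add, map_smul, map_smul, smul_eq_mul, smul_eq_mul]
    rw [hℓv, hℓw₁, mul_zero, zero_add] at h1
    have hb : b = 0 := by
      rcases mul_eq_zero.mp h1.symm with h | h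
      · exact h
      · exact absurd h hℓw₂
    rw [hb, zero_smul, add_zero] at hab
    exact hcon' w₁ hw₁ a hab.symm
  obtain ⟨ψ, hψv, hψ⟩ := Submodule.exists_dual_map_eq_bot_of_notMem hx2 inferInstance
  have hψ1 : ψ w₁ = 0 := by
    have h2 : ψ w₁ ∈ (Submodule.span k ({w₁, w₂} : Set (Fin 3 → k))).map ψ :=
      Submodule.mem_map_of_mem (Submodule.subset_span (by simp))
    rw [hψ] at h2
    exact (Submodule.mem_bot k).mp h2
  have hψ2 : ψ w₂ = 0 := by
    have h2 : ψ w₂ ∈ (Submodule.span k ({w₁, w₂} : Set (Fin 3 → k))).map ψ :=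
      Submodule.mem_map_of_mem (Submodule.subset_span (by simp))
    rw [hψ] at h2
    exact (Submodule.mem_bot k).mp h2
  obtain ⟨T, hT⟩ : ∃ T, T = (Λ'.erase w₁).erase w₂ := ⟨_, rfl⟩
  have hTcard : T.card = n - 2 := by
    rw [hT, Finset.card_erase_of_mem (Finset.mem_erase.mpr ⟨hw12, hw₂⟩),
      Finset.card_erase_of_mem hw₁, hcard']
    omega
  have hFhom : (L k ψ * ∏ w ∈ T, L k (φ w)).IsHomogeneous (n - 1) := by
    have h1 := MvPolynomial.IsHomogeneous.prod T (fun w => L k (φ w)) (fun _ => 1)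
      (fun w _ => L_hom k _)
    have h2 := (L_hom k ψ).mul h1
    have h3 : 1 + ∑ w ∈ T, 1 = n - 1 := by
      rw [Finset.sum_const, smul_eq_mul, mul_one, hTcard]; omega
    rw [h3] at h2
    exact h2
  have hFev : ∀ u : Fin 3 → k, MvPolynomial.aeval u (L k ψ * ∏ w ∈ T, L k (φ w))
      = ψ u * ∏ w ∈ T, φ w u := by
    intro u
    simp only [map_mul, map_prod, L_ev]
  have hFΛ' : ∀ w ∈ Λ', MvPolynomial.aeval w (L k ψ * ∏ w ∈ T, L k (φ w)) = 0 := by
    intro w hw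
    rw [hFev]
    by_cases h1 : w = w₁
    · rw [h1, hψ1, zero_mul]
    · by_cases h2 : w = w₂
      · rw [h2, hψ2, zero_mul]
      · have hwT : w ∈ T := by
          rw [hT]
          exact Finset.mem_erase.mpr ⟨h2, Finset.mem_erase.mpr ⟨h1, hw⟩⟩
        rw [Finset.prod_eq_zero (f := fun w' => φ w' w) hwT (hφ w hw).2, mul_zero]
  have hFv : MvPolynomial.aeval v (L k ψ * ∏ w ∈ T, L k (φ w)) ≠ 0 := by
    rw [hFev]
    apply mul_ne_zero hψv
    rw [Finset.prod_ne_zero_iff]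
    intro w hw
    rw [hT] at hw
    have hwΛ : w ∈ Λ' := Finset.mem_of_mem_erase (Finset.mem_of_mem_erase hw)
    exact (hφ w hwΛ).1
  exact hFv (hsub _ hFhom hFΛ' v hv)


/-- Let k be a field, n ≥ 3, and let Λ and Λ' be two sets of n nonzero, pairwise linearly independent
vectors of k^3 (n distinct k-rational points of the projective plane each), neither lying on a line
(no nonzero linear form vanishes on all of Λ, resp. Λ'). If the spaces of homogeneous forms of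
degree n − 1 vanishing on Λ and on Λ' coincide, then Λ and Λ' define the same set of points of the
plane: the assignment Λ ↦ H^0(P^2, I_Λ(n − 1)), with values in a Grassmannian, is injective on
non-collinear sets. (The published statement is over an algebraically closed field; this row allows
any field and k-rational points, which is all its argument uses.) -/
theorem result (k : Type u) [Field k] (n : ℕ) (hn : 3 ≤ n)
    (Λ Λ' : Finset (Fin 3 → k)) (hcard : Λ.card = n) (hcard' : Λ'.card = n)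
    (h0 : ∀ v ∈ Λ, v ≠ 0) (h0' : ∀ v ∈ Λ', v ≠ 0)
    (hdist : ∀ v ∈ Λ, ∀ w ∈ Λ, v ≠ w → LinearIndependent k ![v, w])
    (hdist' : ∀ v ∈ Λ', ∀ w ∈ Λ', v ≠ w → LinearIndependent k ![v, w])
    (hline : ¬ ∃ ℓ : (Fin 3 → k) →ₗ[k] k, ℓ ≠ 0 ∧ ∀ v ∈ Λ, ℓ v = 0)
    (hline' : ¬ ∃ ℓ : (Fin 3 → k) →ₗ[k] k, ℓ ≠ 0 ∧ ∀ v ∈ Λ', ℓ v = 0)
    (heq : (MvPolynomial.homogeneousSubmodule (Fin 3) k (n - 1) ⊓ ⨅ v ∈ Λ, LinearMap.ker (MvPolynomial.aeval v).toLinearMap) = (MvPolynomial.homogeneousSubmodule (Fin 3) k (n - 1) ⊓ ⨅ v ∈ Λ', LinearMap.ker (MvPolynomial.aeval v).toLinearMap)) :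
    (∀ v ∈ Λ, ∃ w ∈ Λ', ∃ c : k, v = c • w) ∧ (∀ w ∈ Λ', ∃ v ∈ Λ, ∃ c : k, w = c • v) := by
  have hmem : ∀ (Λ₀ : Finset (Fin 3 → k)) (F : MvPolynomial (Fin 3) k),
      F ∈ (MvPolynomial.homogeneousSubmodule (Fin 3) k (n - 1) ⊓
        ⨅ v ∈ Λ₀, LinearMap.ker (MvPolynomial.aeval v).toLinearMap) ↔
      (F.IsHomogeneous (n - 1) ∧ ∀ v ∈ Λ₀, MvPolynomial.aeval v F = 0) := by
    intro Λ₀ F
    simp only [Submodule.mem_inf, MvPolynomial.mem_homogeneousSubmodule, Submodule.mem_iInf,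
      LinearMap.mem_ker, AlgHom.toLinearMap_apply]
  constructor
  · apply aux k n hn Λ Λ' hcard' hline'
    intro F hF hΛ'
    have h1 := (hmem Λ' F).mpr ⟨hF, hΛ'⟩
    rw [← heq] at h1
    exact ((hmem Λ F).mp h1).2
  · apply aux k n hn Λ' Λ hcard hline
    intro F hF hΛ
    have h1 := (hmem Λ F).mpr ⟨hF, hΛ⟩
    rw [heq] at h1
    exact ((hmem Λ' F).mp h1).2

end Groth.Agent.S14428
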