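import Groth.Statements.S14434
import Groth.Agent.H72.Splice
import Mathlib.CategoryTheory.Abelian.LeftDerived
import Mathlib.Algebra.Homology.ShortComplex.ModuleCat

set_option autoImplicit false
universe u
open CAlg

namespace Groth.Agent.S14434

open CategoryTheory CategoryTheory.Limits

section
variable {R : Type u} [CommRing R]

/-- The short complex `0 → R → R → R/(x) → 0`. -/
noncomputable def koszulSC (x : R) : ShortComplex (ModuleCat.{u} R) :=
  ShortComplex.mk (ModuleCat.ofHom (x • (LinearMap.id : R →ₗ[R] R)))
    (ModuleCat.ofHom (Submodule.mkQ (Ideal.span {x})))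
    (by
      apply ModuleCat.hom_ext
      apply LinearMap.ext
      intro r
      show Submodule.mkQ (Ideal.span {x}) (x • r) = 0
      rw [Submodule.mkQ_apply, Submodule.Quotient.mk_eq_zero, smul_eq_mul]
      exact Ideal.mul_mem_right _ _ (Ideal.mem_span_singleton_self x))

lemma koszulSC_shortExact (x : R) (hx : IsSMulRegular R x) : (koszulSC x).ShortExact := by
  refine ModuleCat.shortComplex_shortExact _ ?_ ?_ ?_
  · intro y
    show Submodule.mkQ (Ideal.span {x}) y = 0 ↔
      y ∈ Set.range (x • (LinearMap.id : R →ₗ[R] R))
    rw [Submodule.mkQ_apply, Submodule.Quotient.mk_eq_zero, Ideal.mem_span_singleton']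
    constructor
    · rintro ⟨a, rfl⟩; exact ⟨a, mul_comm x a⟩
    · rintro ⟨a, rfl⟩; exact ⟨a, mul_comm a x⟩
  · exact hx
  · exact Submodule.mkQ_surjective _

lemma isIso_aug_self (Z : ModuleCat.{u} R) [Projective Z] :
    IsIso (Groth.Agent.H72.aug (ProjectiveResolution.self Z)) := by
  show IsIso (𝟙 Z)
  infer_instance

end

/-- Let R be a commutative ring, M an R-module and x ∈ R a non-zero-divisor on R and on M. Then
Tor_i^R(M, R/(x)) = 0 for all i ≥ 1 (Tor computed as the left derived functors of the tensor product
on R-modules). -/
theorem result {R : Type u} [CommRing R] (M : Type u) [AddCommGroup M] [Module R M]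
    (x : R) (hxR : IsSMulRegular R x) (hxM : IsSMulRegular M x) (i : ℕ) (hi : 1 ≤ i) :
    Subsingleton (DRing.Tor R i M (R ⧸ Ideal.span {x})) := by
  let F : ModuleCat.{u} R ⥤ ModuleCat.{u} R :=
    (MonoidalCategory.tensoringLeft (ModuleCat.{u} R)).obj (ModuleCat.of R M)
  have hS := koszulSC_shortExact x hxR
  have : Projective (koszulSC x).X₂ := (inferInstance : Projective (ModuleCat.of R R))
  have : Projective (koszulSC x).X₁ := (inferInstance : Projective (ModuleCat.of R R))
  let P := Groth.Agent.H72.splice (koszulSC x) hS (ProjectiveResolution.self _)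
  have hz : IsZero ((F.leftDerived i).obj (ModuleCat.of R (R ⧸ Ideal.span {x}))) := by
    refine IsZero.of_iso ?_ (P.isoLeftDerivedObj F i)
    erw [← HomologicalComplex.exactAt_iff_isZero_homology]
    obtain ⟨n, rfl⟩ : ∃ n, i = n + 1 := ⟨i - 1, by omega⟩
    have hX : ∀ k : ℕ, IsZero (P.complex.X (k + 2)) := by
      intro k
      show IsZero ((ProjectiveResolution.self (koszulSC x).X₁).complex.X (k + 1))
      apply HomologicalComplex.isZero_single_obj_X
      simp
    cases n with
    | zero =>
      rw [HomologicalComplex.exactAt_iff' _ 2 1 0 (by simp) (by simp)]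
      rw [ShortComplex.exact_iff_mono _ (IsZero.eq_of_src (F.map_isZero (hX 0)) _ _)]
      show Mono (F.map (P.complex.d 1 0))
      have hd : F.map (P.complex.d 1 0) =
          F.map (Groth.Agent.H72.aug (ProjectiveResolution.self (koszulSC x).X₁)) ≫
            F.map (koszulSC x).f :=
        F.map_comp (Groth.Agent.H72.aug (ProjectiveResolution.self (koszulSC x).X₁))
          (koszulSC x).f
      have := isIso_aug_self (koszulSC x).X₁
      have : Mono (F.map (koszulSC x).f) := by
        rw [ModuleCat.mono_iff_injective]
        show Function.Injective ((LinearMap.lTensor M (x • (LinearMap.id : R →ₗ[R] R))))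
        rw [LinearMap.lTensor_smul, LinearMap.lTensor_id]
        intro s t hst
        have h1 : x • TensorProduct.rid R M s = x • TensorProduct.rid R M t := by
          rw [← map_smul, ← map_smul]; exact congrArg _ hst
        have h2 := hxM h1
        exact (TensorProduct.rid R M).injective h2
      have hm : Mono (F.map (Groth.Agent.H72.aug (ProjectiveResolution.self (koszulSC x).X₁)) ≫
            F.map (koszulSC x).f) := inferInstance
      rw [hd]; exact hm
    | succ n =>
      exact ShortComplex.exact_of_isZero_X₂ _ (F.map_isZero (hX n))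
  exact ModuleCat.subsingleton_of_isZero hz

end Groth.Agent.S14434
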