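import Groth.Statements.S14436
import Mathlib.RingTheory.Etale.Kaehler
import Mathlib.RingTheory.Etale.Field
import Mathlib.RingTheory.Kaehler.Polynomial
import Mathlib.RingTheory.AlgebraicIndependent.Adjoin
import Mathlib.FieldTheory.IntermediateField.Adjoin.Algebra
import Mathlib.LinearAlgebra.Dimension.Constructions

set_option autoImplicit false
universe u
open CAlg

namespace Groth.Agent.S14436

section
open IntermediateField.algebraAdjoinAdjoin

lemma finrank_kaehler_of_algebraicIndependent {K L : Type u} [Field K] [Field L] [Algebra K L]
    {ι : Type} [Fintype ι] (a : ι → L) (hai : AlgebraicIndependent K a)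
    [Algebra.IsSeparable ↥(IntermediateField.adjoin K (Set.range a)) L] :
    Module.finrank L (Ω[L⁄K]) = Fintype.card ι := by
  classical
  let algPE : Algebra (MvPolynomial ι K) (Algebra.adjoin K (Set.range a)) :=
    (hai.aevalEquiv : MvPolynomial ι K →+* Algebra.adjoin K (Set.range a)).toAlgebra
  let algPL : Algebra (MvPolynomial ι K) L :=
    (MvPolynomial.aeval a : MvPolynomial ι K →ₐ[K] L).toRingHom.toAlgebra
  have : IsScalarTower K (MvPolynomial ι K) L :=
    IsScalarTower.of_algebraMap_eq' ((MvPolynomial.aeval a).comp_algebraMap).symm
  have : IsScalarTower (MvPolynomial ι K) (Algebra.adjoin K (Set.range a)) L :=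
    IsScalarTower.of_algebraMap_eq' rfl
  have : Algebra.FormallyEtale (MvPolynomial ι K) (Algebra.adjoin K (Set.range a)) :=
    Algebra.FormallyEtale.of_equiv
      (AlgEquiv.ofRingEquiv (f := hai.aevalEquiv.toRingEquiv) (fun x => rfl) :
        MvPolynomial ι K ≃ₐ[MvPolynomial ι K] Algebra.adjoin K (Set.range a))
  have : Algebra.FormallyEtale (Algebra.adjoin K (Set.range a))
      (IntermediateField.adjoin K (Set.range a)) :=
    Algebra.FormallyEtale.of_isLocalization (nonZeroDivisors (Algebra.adjoin K (Set.range a)))
  have : Algebra.FormallyEtale (IntermediateField.adjoin K (Set.range a)) L :=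
    Algebra.FormallyEtale.of_isSeparable _ L
  have : Algebra.FormallyEtale (Algebra.adjoin K (Set.range a)) L :=
    Algebra.FormallyEtale.comp (Algebra.adjoin K (Set.range a))
      (IntermediateField.adjoin K (Set.range a)) L
  have : Algebra.FormallyEtale (MvPolynomial ι K) L :=
    Algebra.FormallyEtale.comp (MvPolynomial ι K) (Algebra.adjoin K (Set.range a)) L
  have : Module.Free (MvPolynomial ι K) (Ω[MvPolynomial ι K⁄K]) :=
    Module.Free.of_basis (KaehlerDifferential.mvPolynomialBasis K ι)
  have e := KaehlerDifferential.tensorKaehlerEquivOfFormallyEtale K (MvPolynomial ι K) L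
  rw [← e.finrank_eq, Module.finrank_baseChange,
    Module.finrank_eq_card_basis (KaehlerDifferential.mvPolynomialBasis K ι)]

end

/-- Let L/K be a finitely generated field extension which is separable in the sense that it has a
transcendence basis a_1, …, a_n over which L is a (finite) separable extension of K(a_1, …, a_n).
Then dim_L Ω_{L/K} = n, the transcendence degree of L over K. -/
theorem result (K L : Type u) [Field K] [Field L] [Algebra K L]
    (hfg : ∃ s : Finset L, IntermediateField.adjoin K (s : Set L) = ⊤)
    (n : ℕ) (a : Fin n → L) (ha : IsTranscendenceBasis K a)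
    (hsep : Algebra.IsSeparable ↥(IntermediateField.adjoin K (Set.range a)) L) :
    Module.finrank L (Ω[L⁄K]) = n := by
  have := hsep
  rw [finrank_kaehler_of_algebraicIndependent a ha.1, Fintype.card_fin]

end Groth.Agent.S14436
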