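import Groth.Statements.S14437
-- import your own Groth.Agent.* helpers here
import Mathlib

set_option autoImplicit false
universe u
open CAlg

namespace Groth.Agent.S14437

open TensorProduct in
/-- Auxiliary: the key statement with all the structure made explicit. -/
theorem aux (k : Type u) [Field k]
    (A B : Type u) [CommRing A] [CommRing B] [IsLocalRing A] [IsLocalRing B] [IsNoetherianRing B]
    [Algebra k A] [Algebra k B] [Algebra A B] [IsScalarTower k A B]
    (hle : IsLocalRing.maximalIdeal A ≤ Ideal.comap (IsScalarTower.toAlgHom k A B) (IsLocalRing.maximalIdeal B))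
    (hB : Function.Bijective (algebraMap k (IsLocalRing.ResidueField B))) :
    Module.finrank (IsLocalRing.ResidueField B) (TensorProduct B (IsLocalRing.ResidueField B) (Ω[B⁄A])) +
      Module.finrank k ↥(LinearMap.range (Ideal.mapCotangent (IsLocalRing.maximalIdeal A) (IsLocalRing.maximalIdeal B)
        (IsScalarTower.toAlgHom k A B) hle)) =
      Module.finrank k (IsLocalRing.CotangentSpace B) := by
  classical
  -- the residue map `c : B → k`
  let e : k ≃+* IsLocalRing.ResidueField B := RingEquiv.ofBijective (algebraMap k _) hB
  let c : B →+* k := (e.symm : IsLocalRing.ResidueField B →+* k).comp (IsLocalRing.residue B)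
  have hc1 : ∀ b : B, algebraMap k (IsLocalRing.ResidueField B) (c b) = IsLocalRing.residue B b := by
    intro b
    exact e.apply_symm_apply _
  have hres : ∀ x : k, IsLocalRing.residue B (algebraMap k B x) =
      algebraMap k (IsLocalRing.ResidueField B) x := by
    intro x
    rw [IsScalarTower.algebraMap_apply k B (IsLocalRing.ResidueField B)]
    rfl
  have hc2 : ∀ b : B, b - algebraMap k B (c b) ∈ IsLocalRing.maximalIdeal B := by
    intro b
    rw [← IsLocalRing.residue_eq_zero_iff, map_sub, hres, hc1, sub_self]
  have hc0 : ∀ b ∈ IsLocalRing.maximalIdeal B, c b = 0 := by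
    intro b hb
    have h0 : IsLocalRing.residue B b = 0 := (IsLocalRing.residue_eq_zero_iff b).2 hb
    simp [c, h0]
  -- `B` acts on the cotangent space through `c`
  have hVk : ∀ (b : B) (v : IsLocalRing.CotangentSpace B), b • v = c b • v := by
    intro b v
    have h1 : (b - algebraMap k B (c b)) • v = 0 := Ideal.Cotangent.smul_eq_zero_of_mem (hc2 b) v
    rw [sub_smul, sub_eq_zero, algebraMap_smul] at h1
    exact h1
  -- the universal derivation `δ : B → m_B/m_B²`
  let δ : B → IsLocalRing.CotangentSpace B := fun b =>
    (IsLocalRing.maximalIdeal B).toCotangent ⟨b - algebraMap k B (c b), hc2 b⟩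
  have hδadd : ∀ b b', δ (b + b') = δ b + δ b' := by
    intro b b'
    simp only [δ]
    rw [← map_add]
    congr 1
    ext
    simp only [map_add, Submodule.coe_add]
    ring
  have hδmul : ∀ b b', δ (b * b') = b • δ b' + b' • δ b := by
    intro b b'
    simp only [δ]
    rw [← map_smul, ← map_smul, ← map_add, Ideal.toCotangent_eq]
    have h3 : ((b * b' - algebraMap k B (c (b * b'))) - (b * (b' - algebraMap k B (c b')) +
        b' * (b - algebraMap k B (c b)))) =
        -((b - algebraMap k B (c b)) * (b' - algebraMap k B (c b'))) := by
      rw [map_mul, map_mul]; ring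
    simp only [Submodule.coe_add, Submodule.coe_smul, smul_eq_mul]
    rw [h3, pow_two]
    exact neg_mem (Ideal.mul_mem_mul (hc2 b) (hc2 b'))
  have hδm : ∀ (x : B) (hx : x ∈ IsLocalRing.maximalIdeal B),
      δ x = (IsLocalRing.maximalIdeal B).toCotangent ⟨x, hx⟩ := by
    intro x hx
    simp only [δ]
    congr 1
    ext
    simp [hc0 x hx]
  have hδA : ∀ a : A, δ (algebraMap A B a) ∈ LinearMap.range
      (Ideal.mapCotangent (IsLocalRing.maximalIdeal A) (IsLocalRing.maximalIdeal B)
        (IsScalarTower.toAlgHom k A B) hle) := by
    intro a
    have ha : a - algebraMap k A (c (algebraMap A B a)) ∈ IsLocalRing.maximalIdeal A := by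
      rw [IsLocalRing.mem_maximalIdeal, mem_nonunits_iff]
      intro hu
      have hu' := hu.map (algebraMap A B)
      have hm := hc2 (algebraMap A B a)
      rw [map_sub, ← IsScalarTower.algebraMap_apply k A B] at hu'
      exact (mem_nonunits_iff.1 ((IsLocalRing.mem_maximalIdeal _).1 hm)) hu'
    refine ⟨(IsLocalRing.maximalIdeal A).toCotangent ⟨_, ha⟩, ?_⟩
    rw [Ideal.mapCotangent_toCotangent]
    simp only [δ]
    congr 1
    ext
    simp [← IsScalarTower.algebraMap_apply k A B]
  -- the map `F : m_B/m_B² → κ ⊗ Ω`
  have halg : algebraMap B (IsLocalRing.ResidueField B) = IsLocalRing.residue B :=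
    IsLocalRing.ResidueField.algebraMap_eq B
  have hsurjB : Function.Surjective (algebraMap B (IsLocalRing.ResidueField B)) := by
    rw [halg]; exact IsLocalRing.residue_surjective
  have hsurjA : Function.Surjective (algebraMap A (IsLocalRing.ResidueField B)) := by
    intro r
    obtain ⟨x, rfl⟩ := hB.surjective r
    refine ⟨algebraMap k A x, ?_⟩
    rw [IsScalarTower.algebraMap_apply A B (IsLocalRing.ResidueField B),
      ← IsScalarTower.algebraMap_apply k A B,
      ← IsScalarTower.algebraMap_apply k B (IsLocalRing.ResidueField B)]
  have hker : RingHom.ker (algebraMap B (IsLocalRing.ResidueField B)) = IsLocalRing.maximalIdeal B := by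
    rw [halg]; exact IsLocalRing.ker_residue
  obtain ⟨F, hFsurj, hF⟩ : ∃ F : IsLocalRing.CotangentSpace B →ₗ[B]
      (IsLocalRing.ResidueField B ⊗[B] Ω[B⁄A]),
      Function.Surjective F ∧ ∀ x : IsLocalRing.maximalIdeal B,
        F ((IsLocalRing.maximalIdeal B).toCotangent x) =
          (1 : IsLocalRing.ResidueField B) ⊗ₜ[B] KaehlerDifferential.D A B (x : B) := by
    have key : ∀ (I : Ideal B) (hI : RingHom.ker (algebraMap B (IsLocalRing.ResidueField B)) = I),
        ∃ F : I.Cotangent →ₗ[B] (IsLocalRing.ResidueField B ⊗[B] Ω[B⁄A]),
        Function.Surjective F ∧ ∀ x : I, F (I.toCotangent x) =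
          (1 : IsLocalRing.ResidueField B) ⊗ₜ[B] KaehlerDifferential.D A B (x : B) := by
      intro I hI
      subst hI
      refine ⟨KaehlerDifferential.kerCotangentToTensor A B (IsLocalRing.ResidueField B), ?_,
        fun x => rfl⟩
      have hex := KaehlerDifferential.exact_kerCotangentToTensor_mapBaseChange A B
        (IsLocalRing.ResidueField B) hsurjB
      have : Subsingleton (Ω[IsLocalRing.ResidueField B⁄A]) :=
        KaehlerDifferential.subsingleton_of_surjective A _ hsurjA
      intro y
      exact (hex y).1 (Subsingleton.elim _ _)
    exact key _ hker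
  -- the kernel of `F`
  have hkerF : LinearMap.ker (F.restrictScalars k) = LinearMap.range
      (Ideal.mapCotangent (IsLocalRing.maximalIdeal A) (IsLocalRing.maximalIdeal B)
        (IsScalarTower.toAlgHom k A B) hle) := by
    apply le_antisymm
    · intro v hv
      rw [LinearMap.mem_ker, LinearMap.restrictScalars_apply] at hv
      rw [← Subspace.forall_mem_dualAnnihilator_apply_eq_zero_iff]
      intro ℓ hℓ
      rw [Submodule.mem_dualAnnihilator] at hℓ
      let L' : IsLocalRing.CotangentSpace B →ₗ[B] IsLocalRing.ResidueField B :=
        { toFun := fun v => algebraMap k (IsLocalRing.ResidueField B) (ℓ v)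
          map_add' := by intro v w; rw [map_add, map_add]
          map_smul' := by
            intro b v
            simp only [RingHom.id_apply]
            rw [hVk, map_smul, smul_eq_mul, map_mul, hc1, Algebra.smul_def, halg] }
      have hzero : ∀ a : A, L' (δ (algebraMap A B a)) = 0 := by
        intro a
        show algebraMap k (IsLocalRing.ResidueField B) (ℓ (δ (algebraMap A B a))) = 0
        rw [hℓ _ (hδA a), map_zero]
      let lin : B →ₗ[A] IsLocalRing.ResidueField B :=
        { toFun := fun b => L' (δ b)
          map_add' := by intro b b'; rw [hδadd, map_add]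
          map_smul' := by
            intro a b
            simp only [RingHom.id_apply]
            rw [Algebra.smul_def, hδmul, map_add, map_smul, map_smul, algebraMap_smul, hzero,
              smul_zero, add_zero] }
      let Dℓ : Derivation A B (IsLocalRing.ResidueField B) := Derivation.mk' lin (by
        intro b b'
        show L' (δ (b * b')) = b • L' (δ b') + b' • L' (δ b)
        rw [hδmul, map_add, map_smul, map_smul])
      let G : IsLocalRing.ResidueField B ⊗[B] Ω[B⁄A] →ₗ[IsLocalRing.ResidueField B]
          IsLocalRing.ResidueField B := Dℓ.liftKaehlerDifferential.liftBaseChange _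
      obtain ⟨x, rfl⟩ := Ideal.toCotangent_surjective _ v
      have h5 := congrArg G hv
      rw [hF, LinearMap.liftBaseChange_tmul, one_smul, Derivation.liftKaehlerDifferential_comp_D,
        map_zero] at h5
      have h6 : algebraMap k (IsLocalRing.ResidueField B) (ℓ (δ (x : B))) = 0 := h5
      rw [hδm _ x.2] at h6
      exact (map_eq_zero_iff _ hB.injective).1 h6
    · rintro _ ⟨z, rfl⟩
      obtain ⟨y, rfl⟩ := Ideal.toCotangent_surjective _ z
      rw [LinearMap.mem_ker, LinearMap.restrictScalars_apply, Ideal.mapCotangent_toCotangent, hF]
      simp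
  -- dimension count
  have hfrκ : Module.finrank k (IsLocalRing.ResidueField B) = 1 := by
    rw [← (LinearEquiv.ofBijective (Algebra.linearMap k (IsLocalRing.ResidueField B)) hB).finrank_eq,
      Module.finrank_self]
  have hT : Module.finrank k (IsLocalRing.ResidueField B ⊗[B] Ω[B⁄A]) =
      Module.finrank (IsLocalRing.ResidueField B) (IsLocalRing.ResidueField B ⊗[B] Ω[B⁄A]) := by
    rw [← Module.finrank_mul_finrank k (IsLocalRing.ResidueField B), hfrκ, one_mul]
  have : IsScalarTower k (IsLocalRing.ResidueField B) (IsLocalRing.CotangentSpace B) :=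
    IsScalarTower.of_algebraMap_smul (fun x v => by
      rw [← hres, ← halg, algebraMap_smul, algebraMap_smul])
  have : Module.Finite k (IsLocalRing.ResidueField B) :=
    Module.Finite.of_surjective (Algebra.linearMap k (IsLocalRing.ResidueField B)) hB.surjective
  have : Module.Finite k (IsLocalRing.CotangentSpace B) :=
    Module.Finite.trans (IsLocalRing.ResidueField B) _
  have hrn := LinearMap.finrank_range_add_finrank_ker (F.restrictScalars k)
  have hrange : LinearMap.range (F.restrictScalars k) = ⊤ := LinearMap.range_eq_top.2 hFsurj
  rw [hrange, finrank_top, hkerF, hT] at hrn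
  exact hrn

/-- Let k be a field and A → B a local homomorphism of Noetherian local k-algebras with residue fields k
(k → A/m_A and k → B/m_B bijective) — for instance the local rings at a closed point x and at its
image y under a morphism of schemes of finite type over an algebraically closed k. Then dim_k
(Ω_{B/A} ⊗_B B/m_B) + rank(m_A/m_A² → m_B/m_B²) = dim_k (m_B/m_B²): the fibre at x of the sheaf of
relative differentials is dual to the kernel of the tangent map T_x X → T_y Y. (The published
statement is the canonical isomorphism (Ω_{X/Y})_(x)^∨ ≅ ker(df_x); stated here as the resulting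
equality of dimensions. Its second assertion, dim (Ω_{X/Y})_(x) ≥ r when the fibre has an
r-dimensional component through x, is not included.) -/
theorem result (k : Type u) [Field k]
    (A B : Type u) [CommRing A] [CommRing B] [IsLocalRing A] [IsLocalRing B] [IsNoetherianRing A] [IsNoetherianRing B]
    [Algebra k A] [Algebra k B] [Algebra A B] [IsScalarTower k A B]
    (hle : IsLocalRing.maximalIdeal A ≤ Ideal.comap (IsScalarTower.toAlgHom k A B) (IsLocalRing.maximalIdeal B))
    (hA : Function.Bijective (algebraMap k (IsLocalRing.ResidueField A)))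
    (hB : Function.Bijective (algebraMap k (IsLocalRing.ResidueField B))) :
    Module.finrank (IsLocalRing.ResidueField B) (TensorProduct B (IsLocalRing.ResidueField B) (Ω[B⁄A])) +
      Module.finrank k ↥(LinearMap.range (Ideal.mapCotangent (IsLocalRing.maximalIdeal A) (IsLocalRing.maximalIdeal B)
        (IsScalarTower.toAlgHom k A B) hle)) =
      Module.finrank k (IsLocalRing.CotangentSpace B) := by
  exact aux k A B hle hB

end Groth.Agent.S14437
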