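import Groth.Statements.S14438
import Groth.Agent.S6320
import Mathlib

set_option autoImplicit false
universe u
open CAlg

namespace Groth.Agent.S14438

open TensorProduct in
theorem length_quot (A B : Type u) [CommRing A] [IsLocalRing A] [CommRing B] [Algebra A B]
    [Module.Free A B] [Module.Finite A B] :
    Module.length A (B ⧸ Ideal.map (algebraMap A B) (IsLocalRing.maximalIdeal A)) =
      (Module.finrank A B : ℕ∞) := by
  have e1 : (B ⧸ Ideal.map (algebraMap A B) (IsLocalRing.maximalIdeal A)) ≃ₗ[A]
      ((A ⧸ IsLocalRing.maximalIdeal A) ⊗[A] B) :=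
    ((Submodule.Quotient.restrictScalarsEquiv A
      (Ideal.map (algebraMap A B) (IsLocalRing.maximalIdeal A))).symm.trans
      (Submodule.quotEquivOfEq _ _ (Ideal.smul_top_eq_map (IsLocalRing.maximalIdeal A)).symm)).trans
      (TensorProduct.quotTensorEquivQuotSMul B (IsLocalRing.maximalIdeal A)).symm
  rw [e1.length_eq, Module.length_eq_of_surjective (S := A) (R := A ⧸ IsLocalRing.maximalIdeal A)
    (M := (A ⧸ IsLocalRing.maximalIdeal A) ⊗[A] B) Ideal.Quotient.mk_surjective]
  letI : Field (A ⧸ IsLocalRing.maximalIdeal A) := Ideal.Quotient.field _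
  rw [Module.length_eq_finrank, Module.finrank_baseChange]

/-- Let (A, m) be a local ring, B a commutative A-algebra which is free of finite rank d as an A-module,
and assume that for every maximal ideal n of B containing mB the induced map of residue fields A/m →
B/n is bijective (as for the points of a fibre of a finite flat morphism of varieties over an
algebraically closed field). Then the multiplicities of the points of the fibre add up to the
degree: the sum over all such n of the length of the B_n-module (B/mB)_n equals d. -/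
theorem result (A B : Type u) [CommRing A] [IsLocalRing A] [CommRing B] [Algebra A B]
    [Module.Free A B] [Module.Finite A B] (d : ℕ) (hd : Module.finrank A B = d)
    (hres : ∀ (n : Ideal B) [n.IsMaximal] (h : Ideal.map (algebraMap A B) (IsLocalRing.maximalIdeal A) ≤ n),
      Function.Bijective (Ideal.quotientMap n (algebraMap A B) (Ideal.map_le_iff_le_comap.mp h))) :
    finsum (fun n : {n : MaximalSpectrum B // Ideal.map (algebraMap A B) (IsLocalRing.maximalIdeal A) ≤ n.asIdeal} =>
      Module.length (Localization.AtPrime n.1.asIdeal)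
        (LocalizedModule n.1.asIdeal.primeCompl (B ⧸ Ideal.map (algebraMap A B) (IsLocalRing.maximalIdeal A)))) = (d : ℕ∞) := by
  classical
  have hlen : Module.length A (B ⧸ Ideal.map (algebraMap A B) (IsLocalRing.maximalIdeal A)) =
      (d : ℕ∞) := by rw [length_quot, hd]
  have hFLA : IsFiniteLength A
      (B ⧸ Ideal.map (algebraMap A B) (IsLocalRing.maximalIdeal A)) := by
    rw [← Module.length_ne_top_iff, hlen]; exact ENat.coe_ne_top _
  have hNA := isFiniteLength_iff_isNoetherian_isArtinian.1 hFLA
  have hFLB : IsFiniteLength B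
      (B ⧸ Ideal.map (algebraMap A B) (IsLocalRing.maximalIdeal A)) :=
    isFiniteLength_iff_isNoetherian_isArtinian.2
      ⟨isNoetherian_of_tower A hNA.1, isArtinian_of_tower A hNA.2⟩
  haveI : IsArtinianRing (B ⧸ Ideal.map (algebraMap A B) (IsLocalRing.maximalIdeal A)) :=
    isArtinian_of_tower A hNA.2
  have hover : ∀ n : MaximalSpectrum B,
      n.asIdeal.comap (algebraMap A B) = IsLocalRing.maximalIdeal A := fun n => by
    haveI := n.isMaximal
    exact IsLocalRing.eq_maximalIdeal
      (Ideal.isMaximal_comap_of_isIntegral_of_isMaximal n.asIdeal)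
  have hle : ∀ n : MaximalSpectrum B,
      Ideal.map (algebraMap A B) (IsLocalRing.maximalIdeal A) ≤ n.asIdeal := fun n =>
    Ideal.map_le_iff_le_comap.2 (hover n).ge
  haveI : Finite (MaximalSpectrum B) := by
    let f : MaximalSpectrum B →
        PrimeSpectrum (B ⧸ Ideal.map (algebraMap A B) (IsLocalRing.maximalIdeal A)) := fun n =>
      ⟨n.asIdeal.map (Ideal.Quotient.mk _), by
        haveI := n.isMaximal
        exact Ideal.map_isPrime_of_surjective Ideal.Quotient.mk_surjective
          (by rw [Ideal.mk_ker]; exact hle n)⟩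
    refine Finite.of_injective f (fun n n' h => ?_)
    have h2 := congrArg (fun p : PrimeSpectrum
      (B ⧸ Ideal.map (algebraMap A B) (IsLocalRing.maximalIdeal A)) =>
        p.asIdeal.comap (Ideal.Quotient.mk _)) h
    simp only [f] at h2
    rw [Ideal.comap_map_of_surjective _ Ideal.Quotient.mk_surjective,
      Ideal.comap_map_of_surjective _ Ideal.Quotient.mk_surjective,
      ← RingHom.ker_eq_comap_bot, Ideal.mk_ker, sup_eq_left.2 (hle n),
      sup_eq_left.2 (hle n')] at h2
    exact MaximalSpectrum.ext h2
  have hfin : ∀ n : MaximalSpectrum B,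
      Module.Finite (A ⧸ n.asIdeal.comap (algebraMap A B)) (B ⧸ n.asIdeal) := fun n => by
    haveI : Module.Finite A (B ⧸ n.asIdeal) :=
      Module.Finite.of_surjective (Ideal.Quotient.mkₐ A n.asIdeal).toLinearMap
        (Ideal.Quotient.mkₐ_surjective A _)
    exact Module.Finite.of_restrictScalars_finite A _ _
  have hrank : ∀ n : MaximalSpectrum B,
      Module.finrank (A ⧸ n.asIdeal.comap (algebraMap A B)) (B ⧸ n.asIdeal) = 1 := by
    intro n
    haveI := n.isMaximal
    have hb := hres n.asIdeal (hle n)
    haveI hmax : (n.asIdeal.comap (algebraMap A B)).IsMaximal := by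
      rw [hover n]; infer_instance
    letI := Ideal.Quotient.field (n.asIdeal.comap (algebraMap A B))
    have hsurj : Function.Surjective
        (algebraMap (A ⧸ n.asIdeal.comap (algebraMap A B)) (B ⧸ n.asIdeal)) := by
      intro y
      obtain ⟨x, rfl⟩ := hb.2 y
      obtain ⟨a, rfl⟩ := Ideal.Quotient.mk_surjective x
      exact ⟨Ideal.Quotient.mk _ a, rfl⟩
    have hinj : Function.Injective
        (algebraMap (A ⧸ n.asIdeal.comap (algebraMap A B)) (B ⧸ n.asIdeal)) :=
      Ideal.quotientMap_injective
    rw [← (LinearEquiv.ofBijective (Algebra.linearMap _ _) ⟨hinj, hsurj⟩).finrank_eq,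
      Module.finrank_self]
  have key := Groth.Agent.S6320.result (A := A) (B := B) hover hfin
    (B ⧸ Ideal.map (algebraMap A B) (IsLocalRing.maximalIdeal A)) hFLB
  rw [hlen] at key
  rw [key, ← finsum_comp_equiv (Equiv.subtypeUnivEquiv hle)]
  refine finsum_congr fun n => ?_
  rw [Equiv.subtypeUnivEquiv_apply, hrank, Nat.cast_one, one_mul]

end Groth.Agent.S14438
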