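import Groth.Statements.S14440
import Groth.Agent.H21.HilbertCI

set_option autoImplicit false
universe u
open ProjDeg

namespace Groth.Agent.S14440

/-- Let k be an algebraically closed field and H_1, …, H_n hypersurfaces in P^n given by homogeneous
polynomials f_1, …, f_n of degrees d_1, …, d_n ≥ 1 in S = k[x_0, …, x_n], meeting in finitely many
points, i.e. S/(f_1, …, f_n) has Krull dimension one. Then the intersection multiplicities of the
H_i at the points of H_1 ∩ ⋯ ∩ H_n add up to d_1 ⋯ d_n; stated here in the form established in the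
proof: the Hilbert function of S/(f_1, …, f_n) is eventually the constant Π d_i, i.e. for all large
m, dim_k S_m − dim_k ((f_1, …, f_n) ∩ S_m) = Π d_i (this constant is the degree of O_{H_1} ⊗ ⋯ ⊗
O_{H_n}, the sum of the lengths of its stalks). -/
theorem result (k : Type u) [Field k] [IsAlgClosed k] (n : ℕ)
    (f : Fin n → MvPolynomial (Fin (n + 1)) k) (d : Fin n → ℕ) (hd : ∀ i, 1 ≤ d i)
    (hf : ∀ i, (f i).IsHomogeneous (d i))
    (hdim : ringKrullDim (MvPolynomial (Fin (n + 1)) k ⧸ Ideal.span (Set.range f)) = 1) :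
    ∃ m₀ : ℕ, ∀ m : ℕ, m₀ ≤ m →
      Module.finrank k ↥(MvPolynomial.homogeneousSubmodule (Fin (n + 1)) k m) -
        Module.finrank k ↥((Ideal.span (Set.range f)).restrictScalars k ⊓ MvPolynomial.homogeneousSubmodule (Fin (n + 1)) k m) =
      ∏ i : Fin n, d i := by
  classical
  obtain ⟨p, M, hp, hdeg, hlead⟩ :=
    Groth.Agent.H21.HilbertCI.stage k n f d hd hf hdim n le_rfl
  have hdeg0 : p.natDegree = 0 := by omega
  have htake : (List.ofFn f).take n = List.ofFn f :=
    List.take_of_length_le (by rw [List.length_ofFn])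
  have htaked : (List.ofFn d).take n = List.ofFn d :=
    List.take_of_length_le (by rw [List.length_ofFn])
  have hpc : p = Polynomial.C (((∏ i, d i : ℕ)) : ℚ) := by
    rw [Polynomial.eq_C_of_natDegree_eq_zero hdeg0]
    congr 1
    have hl : p.leadingCoeff = p.coeff 0 := by rw [Polynomial.leadingCoeff, hdeg0]
    rw [hdeg0, Nat.factorial_zero, Nat.cast_one, one_mul, hl, htaked, List.prod_ofFn] at hlead
    exact hlead
  refine ⟨M, fun m hm => ?_⟩
  have h1 := hp m hm
  rw [htake, Groth.Agent.H21.HilbertCI.ofList_ofFn, hpc, Polynomial.eval_C] at h1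
  have hle : Module.finrank k ↥((Ideal.span (Set.range f)).restrictScalars k ⊓
      MvPolynomial.homogeneousSubmodule (Fin (n + 1)) k m) ≤
      Module.finrank k ↥(MvPolynomial.homogeneousSubmodule (Fin (n + 1)) k m) :=
    Submodule.finrank_mono inf_le_right
  have h2 : ((Module.finrank k ↥(MvPolynomial.homogeneousSubmodule (Fin (n + 1)) k m) -
      Module.finrank k ↥((Ideal.span (Set.range f)).restrictScalars k ⊓
        MvPolynomial.homogeneousSubmodule (Fin (n + 1)) k m) : ℕ) : ℚ) =
      ((∏ i, d i : ℕ) : ℚ) := by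
    rw [Nat.cast_sub hle, h1]
  exact_mod_cast h2

end Groth.Agent.S14440
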