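import Groth.Statements.S14441
import Mathlib
-- import your own Groth.Agent.* helpers here

set_option autoImplicit false
universe u
open Variety

set_option linter.style.haveILetI false
set_option linter.unusedSectionVars false
set_option linter.unusedVariables false

namespace Groth.Agent.S14441


/-- Let k be an algebraically closed field and f : X → Y a dominant morphism of irreducible varieties
over k such that the extension of function fields k(X)/k(Y) is separable (has a separating
transcendence basis); then f is smooth on some nonempty open subset of X. Affine form: A → B an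
injective k-algebra homomorphism of integral domains of finite type over k, K = Frac A ⊆ L = Frac B,
a_1, …, a_n a transcendence basis of L over K with L separable over K(a_1, …, a_n); then there is g
≠ 0 in B such that every localization B[1/g] is a smooth A-algebra. -/
theorem result (k : Type u) [Field k] [IsAlgClosed k]
    (A B : Type u) [CommRing A] [CommRing B] [IsDomain A] [IsDomain B] [Algebra k A] [Algebra k B] [Algebra A B] [IsScalarTower k A B]
    [Algebra.FiniteType k A] [Algebra.FiniteType k B] (hinj : Function.Injective (algebraMap A B))
    (K L : Type u) [Field K] [Field L] [Algebra A K] [IsFractionRing A K] [Algebra B L] [IsFractionRing B L]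
    [Algebra K L] [Algebra A L] [IsScalarTower A B L] [IsScalarTower A K L]
    (n : ℕ) (a : Fin n → L) (ha : IsTranscendenceBasis K a)
    (hsep : Algebra.IsSeparable ↥(IntermediateField.adjoin K (Set.range a)) L) :
    ∃ g : B, g ≠ 0 ∧ ∀ (C : Type u) [CommRing C] [Algebra B C] [IsLocalization.Away g C] [Algebra A C] [IsScalarTower A B C],
      Algebra.Smooth A C := by
  classical
  haveI := hsep
  haveI h1 : Algebra.FormallySmooth K L :=
    Algebra.FormallySmooth.of_algebraicIndependent_of_isSeparable ha.1
  haveI h2 : Algebra.FormallySmooth A K := Algebra.FormallySmooth.of_isLocalization (nonZeroDivisors A)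
  haveI h3 : Algebra.FormallySmooth A L := Algebra.FormallySmooth.comp A K L
  haveI hloc : IsLocalization (⊥ : Ideal B).primeCompl L := by
    rw [Ideal.primeCompl_bot]; infer_instance
  let e1 : Localization.AtPrime (⊥ : Ideal B) ≃ₐ[A] L :=
    (IsLocalization.algEquiv (⊥ : Ideal B).primeCompl (Localization.AtPrime (⊥ : Ideal B)) L).restrictScalars A
  haveI h4 : Algebra.IsSmoothAt A (⊥ : Ideal B) := Algebra.FormallySmooth.of_equiv e1.symm
  haveI : IsNoetherianRing A := Algebra.FiniteType.isNoetherianRing k A
  haveI : Algebra.FiniteType A B := Algebra.FiniteType.of_restrictScalars_finiteType k A B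
  haveI : Algebra.FinitePresentation A B := Algebra.FinitePresentation.of_finiteType.mp inferInstance
  obtain ⟨g, hg, hsm⟩ := Algebra.IsSmoothAt.exists_notMem_smooth A (⊥ : Ideal B)
  refine ⟨g, fun h => hg (by rw [h]; exact Ideal.zero_mem _), ?_⟩
  intro C _ _ _ _ _
  let e2 : Localization.Away g ≃ₐ[A] C :=
    (IsLocalization.algEquiv (Submonoid.powers g) (Localization.Away g) C).restrictScalars A
  exact Algebra.Smooth.of_equiv e2

end Groth.Agent.S14441
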