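import Groth.Statements.S14442
-- import your own Groth.Agent.* helpers here

set_option autoImplicit false
universe u
open GrNak

namespace Groth.Agent.S14442

/-- Let R be a commutative ℕ-graded ring with irrelevant ideal R_+ = ⊕_{i>0} R_i, M an ℕ-graded R-module
and N a graded submodule of M (closed under taking homogeneous components). If M = R_+ M + N then N
= M. (The published statement is for finitely generated ℤ-graded modules over a graded quotient of a
polynomial ring, whose degrees are then bounded below; stated here for non-negatively graded modules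
over any ℕ-graded commutative ring, where the same lowest-degree argument applies without finite
generation.) -/
theorem result {R : Type u} [CommRing R] {σ : Type u} [SetLike σ R] [AddSubmonoidClass σ R]
    (𝒜 : ℕ → σ) [GradedRing 𝒜]
    {M : Type u} [AddCommGroup M] [Module R M] {τ : Type u} [SetLike τ M] [AddSubmonoidClass τ M]
    (ℳ : ℕ → τ) [DirectSum.Decomposition ℳ] [SetLike.GradedSMul 𝒜 ℳ]
    (N : Submodule R M) (hN : ∀ x ∈ N, ∀ i : ℕ, (DirectSum.decompose ℳ x i : M) ∈ N)
    (h : (HomogeneousIdeal.irrelevant 𝒜).toIdeal • (⊤ : Submodule R M) ⊔ N = ⊤) :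
    N = ⊤ := by
  classical
  -- the additive projection onto the n-th component
  let π : ℕ → M →+ M := fun n =>
    { toFun := fun x => (DirectSum.decompose ℳ x n : M)
      map_zero' := by simp
      map_add' := fun x y => by simp }
  have hπ : ∀ n x, π n x = (DirectSum.decompose ℳ x n : M) := fun _ _ => rfl
  have key : ∀ n : ℕ, ∀ x : M, x ∈ ℳ n → x ∈ N := by
    intro n
    induction n using Nat.strong_induction_on with
    | _ n ih =>
    intro x hx
    have hx_top : x ∈ (HomogeneousIdeal.irrelevant 𝒜).toIdeal • (⊤ : Submodule R M) ⊔ N := by
      rw [h]; trivial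
    obtain ⟨y, hy, z, hz, hyz⟩ := Submodule.mem_sup.mp hx_top
    have hcomp : π n x = x := DirectSum.decompose_of_mem_same ℳ hx
    rw [← hcomp, ← hyz, map_add]
    refine N.add_mem ?_ (hN z hz n)
    -- claim for y in the irrelevant part
    refine Submodule.smul_induction_on hy ?_ ?_
    · intro r hr m _
      have hr0 : (DirectSum.decompose 𝒜 r 0 : R) = 0 := hr
      rw [← DirectSum.sum_support_decompose 𝒜 r, ← DirectSum.sum_support_decompose ℳ m,
        Finset.sum_smul, map_sum]
      refine N.sum_mem fun a _ => ?_
      rw [Finset.smul_sum, map_sum]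
      refine N.sum_mem fun b _ => ?_
      have hab : (DirectSum.decompose 𝒜 r a : R) • (DirectSum.decompose ℳ m b : M) ∈ ℳ (a + b) :=
        SetLike.GradedSMul.smul_mem (A := 𝒜) (B := ℳ) (i := a) (j := b)
          (SetLike.coe_mem _) (SetLike.coe_mem _)
      by_cases hn : a + b = n
      · have : π n ((DirectSum.decompose 𝒜 r a : R) • (DirectSum.decompose ℳ m b : M)) =
            (DirectSum.decompose 𝒜 r a : R) • (DirectSum.decompose ℳ m b : M) :=
          DirectSum.decompose_of_mem_same ℳ (hn ▸ hab)
        rw [this]
        by_cases ha : a = 0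
        · subst ha
          rw [hr0, zero_smul]
          exact N.zero_mem
        · refine N.smul_mem _ (ih b (by omega) _ (SetLike.coe_mem _))
      · have : π n ((DirectSum.decompose 𝒜 r a : R) • (DirectSum.decompose ℳ m b : M)) = 0 :=
          DirectSum.decompose_of_mem_ne ℳ hab hn
        rw [this]
        exact N.zero_mem
    · intro a b ha hb
      rw [map_add]
      exact N.add_mem ha hb
  rw [eq_top_iff]
  intro x _
  rw [← DirectSum.sum_support_decompose ℳ x]
  exact N.sum_mem fun i _ => key i _ (SetLike.coe_mem _)

end Groth.Agent.S14442
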