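import Groth.Statements.S14443
import Mathlib
import Groth.Agent.H17.FittSheaf
import Groth.Agent.H8.QCohStalk
import Groth.Agent.H70.FibreOmegaDim
import Groth.Agent.H70.FittSupport
import Groth.Agent.H38.PrimaryConn
import Groth.Agent.H54.DimClosure
import Groth.Agent.H54.SchemeDim

set_option autoImplicit false
universe u
open CategoryTheory CategoryTheory.Limits AlgebraicGeometry
attribute [local instance] FixPt.fiberModule
open Variety

namespace Groth.Agent.S14443

open Groth.Agent.H8 Groth.Agent.H34.Fit Groth.Agent.H17.FittSheaf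

set_option linter.style.haveILetI false

/-- If the stalk of the quasi-coherent finite type module `F` at `s` is generated by `r` elements,
then `s` is not in the support of `Fitt_r(F)`. -/
theorem not_mem_support_of_stalk_span (S : Scheme.{u}) (F : S.Modules) [F.IsQuasicoherent]
    [SheafOfModules.IsFiniteType (R := S.ringCatSheaf) F]
    (s : ↥S) (r : ℕ) (x : Fin r → F.presheaf.stalk s)
    (hx : Submodule.span (S.presheaf.stalk s) (Set.range x) = ⊤) :
    s ∉ (Fitt.sheafIdeal F r).support := by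
  classical
  obtain ⟨_, ⟨V, hV, rfl⟩, hsV, -⟩ := S.isBasis_affineOpens.exists_subset_of_mem_open
    (Set.mem_univ s) isOpen_univ
  replace hV : IsAffineOpen V := hV
  haveI := finite_sections_of_isAffineOpen F hV
  have hsupp : s ∈ (Fitt.sheafIdeal F r).support ↔
      Fitt.ideal Γ(S, V) Γ(F, V) r ≤ (hV.primeIdealOf ⟨s, hsV⟩).asIdeal := by
    rw [Scheme.IdealSheafData.mem_support_iff_of_mem (U := ⟨V, hV⟩) hsV, sheafIdeal_ideal,
      Scheme.mem_zeroLocus_iff]
    constructor
    · intro h f hf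
      by_contra hfp
      exact h f hf ((mem_basicOpen_iff_notMem_primeIdealOf hV s hsV f).mpr hfp)
    · intro h f hf hxf
      exact (mem_basicOpen_iff_notMem_primeIdealOf hV s hsV f).mp hxf (h hf)
  rw [hsupp]
  intro hle
  letI := S.presheaf.algebra_section_stalk ⟨s, hsV⟩
  haveI := hV.isLocalization_stalk ⟨s, hsV⟩
  letI := moduleSectionStalk F s hsV
  haveI := isScalarTower_sectionStalk F s hsV
  haveI := isLocalizedModule_germₗ F hV s hsV
  have h1 := fittIdeal_of_isLocalizedModule (hV.primeIdealOf ⟨s, hsV⟩).asIdeal.primeCompl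
    (S.presheaf.stalk s) (germₗ F s hsV) r
  rw [fittIdeal_eq_top_of_span x hx] at h1
  have h2 : (Fitt.ideal Γ(S, V) Γ(F, V) r).map (algebraMap Γ(S, V) (S.presheaf.stalk s)) ≤
      IsLocalRing.maximalIdeal (S.presheaf.stalk s) := by
    refine (Ideal.map_mono hle).trans ?_
    rw [IsLocalization.AtPrime.map_eq_maximalIdeal]
  rw [← h1] at h2
  exact (IsLocalRing.maximalIdeal.isMaximal _).ne_top (top_le_iff.mp h2)

/-- The stalk of a quasi-coherent finite type module is a finite module. -/
theorem finite_stalk (S : Scheme.{u}) (F : S.Modules) [F.IsQuasicoherent]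
    [SheafOfModules.IsFiniteType (R := S.ringCatSheaf) F] (s : ↥S) :
    Module.Finite (S.presheaf.stalk s) (F.presheaf.stalk s) := by
  classical
  obtain ⟨_, ⟨V, hV, rfl⟩, hsV, -⟩ := S.isBasis_affineOpens.exists_subset_of_mem_open
    (Set.mem_univ s) isOpen_univ
  replace hV : IsAffineOpen V := hV
  haveI := finite_sections_of_isAffineOpen F hV
  letI := S.presheaf.algebra_section_stalk ⟨s, hsV⟩
  haveI := hV.isLocalization_stalk ⟨s, hsV⟩
  letI := moduleSectionStalk F s hsV
  haveI := isScalarTower_sectionStalk F s hsV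
  haveI := isLocalizedModule_germₗ F hV s hsV
  exact Module.Finite.of_isLocalizedModule (hV.primeIdealOf ⟨s, hsV⟩).asIdeal.primeCompl
    (germₗ F s hsV)

/-- At a closed point of a scheme locally of finite type over an algebraically closed field the
residue field is the base field. -/
theorem resMap_bijective (k : Type u) [Field k] [IsAlgClosed k] (X : Scheme.{u})
    [X.Over (Spec (CommRingCat.of k))]
    [LocallyOfFiniteType (X ↘ Spec (CommRingCat.of k))] (x : X) (hx : IsClosed ({x} : Set X)) :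
    Function.Bijective (Curv2.resMap k X x) := by
  have h1 := Groth.Agent.H38.PrimaryConn.specMap_resMap (X ↘ Spec (CommRingCat.of k)) x
  have h2 := AlgebraicGeometry.SpecMap_residueFieldIsoBase_inv (X ↘ Spec (CommRingCat.of k)) x hx
  have h3 := Spec.map_injective (h1.trans h2.symm)
  have h4 : Function.Bijective
      ((residueFieldIsoBase (X ↘ Spec (CommRingCat.of k)) x hx).inv).hom :=
    ConcreteCategory.bijective_of_isIso _
  rw [← h3] at h4
  exact h4

/-- In a chart, surjectivity of `k → κ(x)` passes to the residue field of the prime. -/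
theorem surjective_algebraMap_residueField_chart {k : Type u} [Field k] {X : Scheme.{u}}
    (s : X ⟶ Spec (CommRingCat.of k)) {A : CommRingCat.{u}} (j : Spec A ⟶ X) [IsOpenImmersion j]
    (ψ : CommRingCat.of k ⟶ A) (hψ : Spec.map ψ = j ≫ s) (P : Spec A)
    (hsurj : Function.Surjective (Groth.Agent.H54.resMapOf s (j P))) :
    letI := ψ.hom.toAlgebra
    Function.Surjective (algebraMap k (P : PrimeSpectrum A).asIdeal.ResidueField) := by
  letI := ψ.hom.toAlgebra
  let e₀ : X.residueField (j P) ≃+* (P : PrimeSpectrum A).asIdeal.ResidueField :=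
    (asIso (j.residueFieldMap P) ≪≫ Scheme.Spec.residueFieldIso A P).commRingCatIsoToRingEquiv
  have hcomm : ∀ c : k, e₀ (Groth.Agent.H54.resMapOf s (j P) c) =
      algebraMap k (P : PrimeSpectrum A).asIdeal.ResidueField c := by
    intro c
    have h := congrArg (fun φ => φ.hom c) (Groth.Agent.H54.resMapOf_comp_chart s j ψ hψ P)
    rw [IsScalarTower.algebraMap_apply k A (P : PrimeSpectrum A).asIdeal.ResidueField]
    exact h
  intro z
  obtain ⟨c, hc⟩ := hsurj (e₀.symm z)
  exact ⟨c, by rw [← hcomm, hc, RingEquiv.apply_symm_apply]⟩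

theorem main (k : Type u) [Field k] [IsAlgClosed k]
    {X Y : Scheme.{u}} [X.Over (Spec (CommRingCat.of k))] [Y.Over (Spec (CommRingCat.of k))]
    [LocallyOfFiniteType (X ↘ Spec (CommRingCat.of k))]
    [LocallyOfFiniteType (Y ↘ Spec (CommRingCat.of k))]
    (f : X ⟶ Y) (hf : f ≫ (Y ↘ Spec (CommRingCat.of k)) = X ↘ Spec (CommRingCat.of k))
    (x : X) (hx : IsClosed ({x} : Set X)) (ζ : X) (hζx : ζ ⤳ x) (hfζ : f.base ζ = f.base x)
    (r : ℕ) (hr : topologicalKrullDim ↥(closure ({ζ} : Set X)) = (r : WithBot ℕ∞)) :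
    r ≤ Module.finrank k (FixPt.fiber (Omega.sheaf f) x) := by
  classical
  haveI : IsLocallyNoetherian Y :=
    LocallyOfFiniteType.isLocallyNoetherian (Y ↘ Spec (CommRingCat.of k))
  haveI : IsLocallyNoetherian X :=
    LocallyOfFiniteType.isLocallyNoetherian (X ↘ Spec (CommRingCat.of k))
  haveI : LocallyOfFiniteType f := by
    haveI : LocallyOfFiniteType (f ≫ (Y ↘ Spec (CommRingCat.of k))) := by rw [hf]; infer_instance
    exact locallyOfFiniteType_of_comp f (Y ↘ Spec (CommRingCat.of k))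
  haveI : LocallyOfFinitePresentation f :=
    LocallyOfFinitePresentation.iff_locallyOfFiniteType.mpr inferInstance
  haveI : QuasiSeparated f := inferInstance
  have hu := Groth.Agent.H8.OmegaUniv.isUniversal_dOmega f
  haveI hq : (Omega.sheaf f).IsQuasicoherent :=
    Groth.Agent.H39.DerFin.isQuasicoherent_of_isUniversal f hu
  haveI hft : SheafOfModules.IsFiniteType (R := X.ringCatSheaf) (Omega.sheaf f) :=
    Groth.Agent.H39.DerFin.isFiniteType_of_isUniversal f hu
  haveI := finite_stalk X (Omega.sheaf f) x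
  have hbij := resMap_bijective k X x hx
  obtain ⟨g, hg⟩ := Groth.Agent.H70.FibreOmegaDim.exists_span_of_fiber
    (R := X.presheaf.stalk x) (M := (Omega.sheaf f).presheaf.stalk x)
    (Curv2.stalkMap k X x) hbij.2 (fun c v => rfl)
  have hns := not_mem_support_of_stalk_span X (Omega.sheaf f) x _ g hg
  -- charts
  obtain ⟨_, ⟨T, hT, rfl⟩, hyT, -⟩ := Y.isBasis_affineOpens.exists_subset_of_mem_open
    (Set.mem_univ (f.base x)) isOpen_univ
  replace hT : IsAffineOpen T := hT
  obtain ⟨_, ⟨W, hW, rfl⟩, hxW, hWT⟩ := X.isBasis_affineOpens.exists_subset_of_mem_open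
    (show x ∈ ((f ⁻¹ᵁ T : X.Opens) : Set X) from hyT) (f ⁻¹ᵁ T).2
  replace hW : IsAffineOpen W := hW
  replace hWT : W ≤ f ⁻¹ᵁ T := hWT
  have hζW : ζ ∈ W := hζx.mem_open W.2 hxW
  rw [Groth.Agent.H70.FittSupport.mem_support_fitt_iff f _ x T hT W hW hWT hxW] at hns
  -- algebra structures
  let ψY : CommRingCat.of k ⟶ Γ(Y, T) := Spec.preimage (hT.fromSpec ≫ (Y ↘ Spec (CommRingCat.of k)))
  let ψX : CommRingCat.of k ⟶ Γ(X, W) := Spec.preimage (hW.fromSpec ≫ (X ↘ Spec (CommRingCat.of k)))
  have hψY : Spec.map ψY = hT.fromSpec ≫ (Y ↘ Spec (CommRingCat.of k)) := Spec.map_preimage _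
  have hψX : Spec.map ψX = hW.fromSpec ≫ (X ↘ Spec (CommRingCat.of k)) := Spec.map_preimage _
  have hcomp : ψY ≫ f.appLE T W hWT = ψX := by
    apply Spec.map_injective
    rw [Spec.map_comp, hψY, hψX, IsAffineOpen.SpecMap_appLE_fromSpec_assoc f hT hW hWT, hf]
  letI : Algebra Γ(Y, T) Γ(X, W) := (f.appLE T W hWT).hom.toAlgebra
  letI : Algebra k Γ(Y, T) := ψY.hom.toAlgebra
  letI : Algebra k Γ(X, W) := ψX.hom.toAlgebra
  haveI : IsScalarTower k Γ(Y, T) Γ(X, W) := IsScalarTower.of_algebraMap_eq' (by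
    show ψX.hom = (f.appLE T W hWT).hom.comp ψY.hom
    rw [← hcomp]; rfl)
  haveI : Algebra.FiniteType k Γ(X, W) := by
    have h : LocallyOfFiniteType (Spec.map ψX) := by
      rw [hψX]; infer_instance
    exact (HasRingHomProperty.Spec_iff (P := @LocallyOfFiniteType)).mp h
  haveI : Algebra.FiniteType Γ(Y, T) Γ(X, W) :=
    Algebra.FiniteType.of_restrictScalars_finiteType k Γ(Y, T) Γ(X, W)
  -- primes
  set Pζ := hW.primeIdealOf ⟨ζ, hζW⟩ with hPζ
  set Px := hW.primeIdealOf ⟨x, hxW⟩ with hPx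
  have hjζ : hW.fromSpec Pζ = ζ := hW.fromSpec_primeIdealOf ⟨ζ, hζW⟩
  have hjx : hW.fromSpec Px = x := hW.fromSpec_primeIdealOf ⟨x, hxW⟩
  have hle : Pζ.asIdeal ≤ Px.asIdeal := by
    apply (PrimeSpectrum.le_iff_specializes Pζ Px).mpr
    apply hW.fromSpec.isOpenEmbedding.isInducing.specializes_iff.mp
    rw [hjζ, hjx]
    exact hζx
  have h1 : Pζ.asIdeal.comap (algebraMap Γ(Y, T) Γ(X, W)) =
      Px.asIdeal.comap (algebraMap Γ(Y, T) Γ(X, W)) := by
    have e1 := IsAffineOpen.comap_primeIdealOf_appLE (f := f) T hT W hW hWT hζW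
    have e2 := IsAffineOpen.comap_primeIdealOf_appLE (f := f) T hT W hW hWT hxW
    have e3 : hT.primeIdealOf ⟨f ζ, hWT hζW⟩ = hT.primeIdealOf ⟨f x, hWT hxW⟩ := by
      congr 1
      exact Subtype.ext hfζ
    have e4 := congrArg PrimeSpectrum.asIdeal (e1.trans (e3.trans e2.symm))
    exact e4
  have h2 : Function.Surjective (algebraMap k Px.asIdeal.ResidueField) := by
    apply surjective_algebraMap_residueField_chart (X ↘ Spec (CommRingCat.of k)) hW.fromSpec ψX hψX Px
    rw [hjx]
    exact hbij.2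
  have hdim : ringKrullDim (Γ(X, W) ⧸ Pζ.asIdeal) = (r : WithBot ℕ∞) := by
    have hft : ψX.hom.FiniteType := ‹Algebra.FiniteType k Γ(X, W)›
    rw [Groth.Agent.H54.ringKrullDim_quotient_chart (X ↘ Spec (CommRingCat.of k)) hW.fromSpec ψX hψX
      hft Pζ, hjζ, ← Groth.Agent.H54.topologicalKrullDim_closure_singleton, hr]
  have hmain := Groth.Agent.H70.FibreOmegaDim.ringKrullDim_quotient_le_finrank k Γ(Y, T) Γ(X, W)
    Pζ.asIdeal Px.asIdeal hle h1 h2
  rw [hdim] at hmain
  have hfin := (Groth.Agent.H34.Fit.not_fittIdeal_le_iff_finrank_le Ω[Γ(X, W)⁄Γ(Y, T)] _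
    Px.asIdeal).mp hns
  have hmain' : r ≤ Module.finrank Px.asIdeal.ResidueField
      (TensorProduct Γ(X, W) Px.asIdeal.ResidueField Ω[Γ(X, W)⁄Γ(Y, T)]) := by
    exact_mod_cast hmain
  exact hmain'.trans hfin


/-- Let k be an algebraically closed field, f : X → Y a morphism of k-schemes of finite type, x a closed
point of X and Z an irreducible closed subset of the fibre f⁻¹(f(x)) passing through x, of dimension
r. Then dim_k (Ω_{X/Y})_(x) ≥ r, where (Ω_{X/Y})_(x) = Ω_{X/Y,x} ⊗ k(x) is the fibre of the sheaf of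
relative differentials at x, a vector space over k(x) = k (x is closed and k algebraically closed),
regarded as a k-module through k → O_{X,x}. (The published statement is for varieties, i.e. X and Y
reduced and separated; this row assumes neither. Since X is locally of finite type over a field it
is locally Noetherian, so f is quasi-separated; the argument, T_x Z ⊆ ker(df_x) and dim T_x Z ≥ dim
Z, uses neither reducedness nor separatedness.) -/
theorem result (k : Type u) [Field k] [IsAlgClosed k]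
    {X Y : Scheme.{u}} [X.Over (Spec (CommRingCat.of k))] [Y.Over (Spec (CommRingCat.of k))]
    [LocallyOfFiniteType (X ↘ Spec (CommRingCat.of k))] [QuasiCompact (X ↘ Spec (CommRingCat.of k))]
    [LocallyOfFiniteType (Y ↘ Spec (CommRingCat.of k))] [QuasiCompact (Y ↘ Spec (CommRingCat.of k))]
    (f : X ⟶ Y) (hf : f ≫ (Y ↘ Spec (CommRingCat.of k)) = X ↘ Spec (CommRingCat.of k))
    (x : X) (hx : IsClosed ({x} : Set X)) (Z : Set X) (hZ : IsIrreducible Z) (hZc : IsClosed Z) (hxZ : x ∈ Z)
    (hZf : Z ⊆ f.base ⁻¹' {f.base x}) (r : ℕ) (hr : topologicalKrullDim ↥Z = (r : WithBot ℕ∞)) :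
    r ≤ Module.finrank k (FixPt.fiber (Omega.sheaf f) x) := by
  obtain ⟨ζ, hζ⟩ : ∃ ζ : X, closure ({ζ} : Set X) = Z :=
    ⟨hZ.genericPoint, hZ.closure_genericPoint hZc⟩
  subst hζ
  have hζx : ζ ⤳ x := specializes_iff_mem_closure.mpr hxZ
  have hfζ : f.base ζ = f.base x := hZf (subset_closure rfl)
  exact main k f hf x hx ζ hζx hfζ r hr

end Groth.Agent.S14443
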