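import Groth.Statements.S14446
import Groth.Agent.H84.StackEquiv

set_option autoImplicit false
open CategoryTheory
universe v₂ u₂ v₃ u₃ v u
open Stk

namespace Groth.Agent.S14446

section helpers

variable {C : Type u} [Category.{v} C]
  {𝒳 : BasedCategory.{v₂, u₂} C} {𝒴 : BasedCategory.{v₃, u₃} C}

theorem isPrestackFor_of_isEquivOver (F : 𝒳 ⥤ᵇ 𝒴) (hF : FibCat.IsEquivOver F) {U : C}
    (R : Sieve U) (h : Stk.IsPrestackFor R 𝒳) : Stk.IsPrestackFor R 𝒴 := by
  obtain ⟨F', ⟨η⟩, ⟨ε⟩⟩ := hF
  haveI hF'eq : F'.toFunctor.IsEquivalence :=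
    Groth.Agent.H84.isEquivalence_of_isEquivOver F' ⟨F, ⟨ε⟩, ⟨η⟩⟩
  obtain ⟨hfull, hfaith⟩ := h
  constructor
  · constructor
    intro G H γ
    let γ' : (Stk.resSieve R 𝒳).obj (BasedFunctor.comp G F') ⟶ (Stk.resSieve R 𝒳).obj (BasedFunctor.comp H F') :=
      BasedCategory.whiskerRight γ F'
    obtain ⟨δ, hδ⟩ := hfull.map_surjective γ'
    let α : G ⟶ H :=
      { app := fun x => F'.toFunctor.preimage (δ.toNatTrans.app x)
        naturality := fun x y f => by
          apply F'.toFunctor.map_injective
          simp only [Functor.map_comp, Functor.map_preimage]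
          exact δ.toNatTrans.naturality f
        isHomLift' := fun x => by
          refine (BasedFunctor.isHomLift_iff F' _ _).mp ?_
          rw [Functor.map_preimage]
          exact δ.isHomLift' x }
    refine ⟨α, ?_⟩
    apply BasedNatTrans.homCategory.ext
    apply NatTrans.ext
    funext a
    have h1 : δ.toNatTrans.app ((Stk.sieveIncl R).obj a) = F'.map (γ.toNatTrans.app a) :=
      congrArg (fun t => t.toNatTrans.app a) hδ
    show F'.toFunctor.preimage (δ.toNatTrans.app ((Stk.sieveIncl R).obj a)) = γ.toNatTrans.app a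
    rw [h1]
    exact F'.toFunctor.preimage_map _
  · constructor
    intro G H α β hαβ
    have h1 : (Stk.resSieve R 𝒳).map (BasedCategory.whiskerRight α F') =
        (Stk.resSieve R 𝒳).map (BasedCategory.whiskerRight β F') := by
      apply BasedNatTrans.homCategory.ext
      apply NatTrans.ext
      funext a
      have h2 : α.toNatTrans.app ((Stk.sieveIncl R).obj a) =
          β.toNatTrans.app ((Stk.sieveIncl R).obj a) :=
        congrArg (fun t => t.toNatTrans.app a) hαβ
      show F'.map (α.toNatTrans.app ((Stk.sieveIncl R).obj a)) =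
        F'.map (β.toNatTrans.app ((Stk.sieveIncl R).obj a))
      rw [h2]
    have h3 := hfaith.map_injective h1
    apply BasedNatTrans.homCategory.ext
    apply NatTrans.ext
    funext x
    have h4 : F'.map (α.toNatTrans.app x) = F'.map (β.toNatTrans.app x) :=
      congrArg (fun t => t.toNatTrans.app x) h3
    exact F'.toFunctor.map_injective h4

end helpers

/-- Let C be a category with a Grothendieck topology J and 𝒳, 𝒴 categories over C which are equivalent
in the 2-category of categories over C. Then 𝒳 is a prestack in groupoids for J — fibred in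
groupoids, with restriction from functors C/U → 𝒳 over C to functors R → 𝒳 over C fully faithful for
every covering sieve R on every object U — if and only if 𝒴 is. (The published statement concerns
fibred categories in general; this row is its case for categories fibred in groupoids, with the
prestack condition in sieve form.) -/
theorem result {C : Type u} [Category.{v} C] (J : GrothendieckTopology C)
    {𝒳 : BasedCategory.{v₂, u₂} C} {𝒴 : BasedCategory.{v₃, u₃} C} (F : 𝒳 ⥤ᵇ 𝒴) (hF : FibCat.IsEquivOver F) :
    Stk.IsPrestack J 𝒳 ↔ Stk.IsPrestack J 𝒴 := by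
  obtain ⟨F', hF'⟩ := Groth.Agent.H84.isEquivOver_symm hF
  constructor
  · rintro ⟨hfib, hpre⟩
    have := hfib
    exact ⟨Groth.Agent.H84.isFibGrpd_of_isEquivOver F hF,
      fun U R hR => isPrestackFor_of_isEquivOver F hF R (hpre R hR)⟩
  · rintro ⟨hfib, hpre⟩
    have := hfib
    exact ⟨Groth.Agent.H84.isFibGrpd_of_isEquivOver F' hF',
      fun U R hR => isPrestackFor_of_isEquivOver F' hF' R (hpre R hR)⟩

end Groth.Agent.S14446
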