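import Groth.Statements.S14447
import Mathlib.CategoryTheory.Limits.Types.Products
import Mathlib.CategoryTheory.Limits.Constructions.FiniteProductsOfBinaryProducts
import Mathlib.CategoryTheory.Limits.Preserves.Shapes.BinaryProducts
import Mathlib.CategoryTheory.Limits.Preserves.Shapes.Terminal

set_option autoImplicit false
universe w v u
open AlgGrp

namespace Groth.Agent.S14447

section
open CategoryTheory CategoryTheory.Limits

variable (C : Type u) [Category.{v} C] [HasFiniteProducts C] [HasCoproducts.{w} C]

/-- The discrete object on `I`. -/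
noncomputable abbrev FO (I : Type w) : C := ∐ fun _ : I => ⊤_ C

/-- The action of the discrete-object functor on maps, typed with explicit coproducts. -/
noncomputable def Fmap {I J : Type w} (f : I → J) : FO C I ⟶ FO C J :=
  (sigmaConst.{w}.obj (⊤_ C)).map (↾f)

@[reassoc]
lemma ι_Fmap {I J : Type w} (f : I → J) (i : I) :
    Sigma.ι (fun _ : I => ⊤_ C) i ≫ Fmap C f = Sigma.ι (fun _ : J => ⊤_ C) (f i) := by
  have := Sigma.ι_comp_map' (f := fun _ : I => ⊤_ C) (g := fun _ : J => ⊤_ C) f
    (fun _ => 𝟙 (⊤_ C)) i
  rw [Category.id_comp] at this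
  exact this

/-- `∐_{i ∈ I} (∐_{j ∈ J} pt) ≅ ∐_{(i,j) ∈ I × J} pt`. -/
@[simps]
noncomputable def θ (I J : Type w) : (∐ fun _ : I => FO C J) ≅ FO C (I × J) where
  hom := Sigma.desc fun i => Fmap C (fun j : J => ((i, j) : I × J))
  inv := Sigma.desc fun p : I × J => Sigma.ι (fun _ : J => ⊤_ C) p.2 ≫
      Sigma.ι (fun _ : I => FO C J) p.1
  hom_inv_id := by
    apply Sigma.hom_ext; intro i
    apply Sigma.hom_ext; intro j
    simp only [Sigma.ι_desc_assoc, ι_Fmap_assoc, Sigma.ι_desc, Category.comp_id]
  inv_hom_id := by
    apply Sigma.hom_ext; intro p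
    simp only [Sigma.ι_desc_assoc, Category.assoc, Sigma.ι_desc, ι_Fmap, Category.comp_id]

variable {C}

lemma key (h : ∀ (I : Type w) (U : C), IsIso (Sigma.desc fun i : I =>
      prod.lift (terminal.from U ≫ Sigma.ι (fun _ : I => ⊤_ C) i) (𝟙 U))) (I J : Type w) :
    IsIso (prod.lift (Fmap C (Prod.fst : I × J → I)) (Fmap C (Prod.snd : I × J → J))) := by
  have hψ := h I (FO C J)
  have e : (θ C I J).hom ≫ prod.lift (Fmap C (Prod.fst : I × J → I))
      (Fmap C (Prod.snd : I × J → J)) =
      Sigma.desc fun i : I => prod.lift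
        (terminal.from (FO C J) ≫ Sigma.ι (fun _ : I => ⊤_ C) i) (𝟙 (FO C J)) := by
    apply Sigma.hom_ext; intro i
    rw [Sigma.ι_desc]
    apply prod.hom_ext
    · apply Sigma.hom_ext; intro j
      simp only [θ_hom, Category.assoc, prod.lift_fst, Sigma.ι_desc_assoc, ι_Fmap_assoc, ι_Fmap]
      rw [← Category.assoc,
        Subsingleton.elim (Sigma.ι (fun _ : J => ⊤_ C) j ≫ terminal.from _) (𝟙 (⊤_ C)),
        Category.id_comp]
    · apply Sigma.hom_ext; intro j
      simp only [θ_hom, Category.assoc, prod.lift_snd, Sigma.ι_desc_assoc, ι_Fmap_assoc, ι_Fmap,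
        Category.comp_id]
  have : IsIso ((θ C I J).hom ≫ prod.lift (Fmap C (Prod.fst : I × J → I))
      (Fmap C (Prod.snd : I × J → J))) := by
    rw [e]; exact hψ
  exact IsIso.of_isIso_comp_left (θ C I J).hom _

end

open CategoryTheory CategoryTheory.Limits in
/-- Let C be a category with finite products and with all coproducts indexed by sets, and assume that
for every set I and every object U the canonical arrow ∐_{i∈I} U → (∐_{i∈I} pt) × U, whose i-th
component pairs U → pt → ∐_{i∈I} pt (i-th coprojection) with the identity of U, is an isomorphism.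
Then the discrete-object functor from sets to C, I ↦ ∐_{i∈I} pt, preserves finite products. (Sets
are the types of one fixed universe, the one indexing the coproducts. The published statement asks
only for the coproducts of copies of one object; this row assumes that C has all coproducts indexed
by sets, which Mathlib's discrete-object functor sigmaConst requires.) -/
theorem result {C : Type u} [Category.{v} C]
    [HasFiniteProducts C] [HasCoproducts.{w} C]
    (h : ∀ (I : Type w) (U : C), IsIso (Sigma.desc fun i : I =>
      prod.lift (terminal.from U ≫ Sigma.ι (fun _ : I => ⊤_ C) i) (𝟙 U))) :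
    PreservesFiniteProducts (sigmaConst.{w}.obj (⊤_ C)) := by
  have hbin : PreservesLimitsOfShape (Discrete WalkingPair) (sigmaConst.{w}.obj (⊤_ C)) := by
    refine ⟨fun {K} => ?_⟩
    have : PreservesLimit (pair (K.obj ⟨WalkingPair.left⟩) (K.obj ⟨WalkingPair.right⟩))
        (sigmaConst.{w}.obj (⊤_ C)) := by
      apply preservesLimit_of_preserves_limit_cone (Types.binaryProductLimit _ _)
      apply (isLimitMapConeBinaryFanEquiv _ _ _).symm _
      refine @IsLimit.ofPointIso _ _ _ _ _ _ _ (limit.isLimit (pair _ _)) ?_
      exact key h _ _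
    exact preservesLimit_of_iso_diagram _ (diagramIsoPair K).symm
  have hterm : PreservesLimit (Functor.empty.{0} (Type w)) (sigmaConst.{w}.obj (⊤_ C)) :=
    preservesTerminal_of_iso _ (coproductUniqueIso (fun _ : (⊤_ (Type w)) => ⊤_ C))
  have hterm' : PreservesLimitsOfShape (Discrete.{0} PEmpty) (sigmaConst.{w}.obj (⊤_ C)) :=
    preservesLimitsOfShape_pempty_of_preservesTerminal _
  exact PreservesFiniteProducts.of_preserves_binary_and_terminal _

end Groth.Agent.S14447
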