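import Groth.Statements.S14448

set_option autoImplicit false
universe u
open Coherent

namespace Groth.Agent.S14448

section
open AlgebraicGeometry CategoryTheory Scheme.Modules Opposite

variable {X Y Z : Scheme.{u}}

lemma app_naturality' {M N : X.Modules} (φ : M ⟶ N) {U V : X.Opens} (i : op V ⟶ op U) :
    M.presheaf.map i ≫ φ.app U = φ.app V ≫ N.presheaf.map i :=
  φ.mapPresheaf.naturality i

lemma unit_comp_eq (f : X ⟶ Y) (g : Y ⟶ Z) (L : Z.Modules) :
    (pullbackPushforwardAdjunction (f ≫ g)).unit.app L =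
      (pullbackPushforwardAdjunction g).unit.app L ≫
        (pushforward g).map ((pullbackPushforwardAdjunction f).unit.app ((pullback g).obj L)) ≫
        (pushforwardComp f g).hom.app ((pullback f).obj ((pullback g).obj L)) ≫
        (pushforward (f ≫ g)).map ((pullbackComp f g).hom.app L) := by
  have h := unit_conjugateEquiv
    ((pullbackPushforwardAdjunction g).comp (pullbackPushforwardAdjunction f))
    (pullbackPushforwardAdjunction (f ≫ g)) (pullbackComp f g).inv L
  rw [conjugateEquiv_pullbackComp_inv] at h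
  have h' := congrArg (· ≫ (pushforward (f ≫ g)).map ((pullbackComp f g).hom.app L)) h
  simp only [Category.assoc, ← Functor.map_comp, Iso.inv_hom_id_app] at h'
  simp only [CategoryTheory.Functor.map_id, Functor.comp_obj, Functor.id_obj, Category.comp_id] at h'
  rw [← h']
  simp only [Adjunction.comp_unit_app, Category.assoc, Functor.comp_obj]

lemma homEquiv_homEquiv_pullbackComp (φ : X ⟶ Y) (ψ : Y ⟶ Z) (N : Z.Modules) (P : X.Modules)
    (t : (pullback (φ ≫ ψ)).obj N ⟶ P) :
    (pullbackPushforwardAdjunction ψ).homEquiv N ((pushforward φ).obj P)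
      ((pullbackPushforwardAdjunction φ).homEquiv ((pullback ψ).obj N) P
        ((pullbackComp φ ψ).hom.app N ≫ t)) =
    (pullbackPushforwardAdjunction (φ ≫ ψ)).homEquiv N P t ≫
      (pushforwardComp φ ψ).inv.app P := by
  rw [Adjunction.homEquiv_unit, Adjunction.homEquiv_unit, Adjunction.homEquiv_unit,
    unit_comp_eq φ ψ N]
  simp only [Category.assoc, Functor.map_comp]
  have n1 := (pushforwardComp φ ψ).inv.naturality t
  have n2 := (pushforwardComp φ ψ).inv.naturality ((pullbackComp φ ψ).hom.app N)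
  simp only [Functor.comp_map] at n1 n2
  rw [n1, reassoc_of% n2, Iso.hom_inv_id_app_assoc]

lemma final_aux (f : X ⟶ Y) {G : Y.Modules} {F' T : X.Modules}
    (β : G ⟶ (pushforward f).obj F') (α : F' ⟶ T)
    (A B : Y.Opens) (D : X.Opens) (e : B = A) (e' : D = f ⁻¹ᵁ B) (e'' : D = f ⁻¹ᵁ A) :
    β.app A ≫ α.app (f ⁻¹ᵁ A) ≫ T.presheaf.map (eqToHom e'').op =
      G.presheaf.map (eqToHom e).op ≫ β.app B ≫ F'.presheaf.map (eqToHom e').op ≫ α.app D := by
  subst e
  subst e'
  simp

end

open AlgebraicGeometry CategoryTheory Scheme.Modules in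
/-- Take two commutative squares of schemes side by side, f : X → Y over φ : U → V (vertical maps ξ : X
→ U and η : Y → V, f ≫ η = ξ ≫ φ) and g : Y → Z over ψ : V → W (vertical map ζ : Z → W, g ≫ ζ = η ≫
ψ), and an O_Z-module L. For a commutative square the base change map β_{f,φ}(M) : φ^* η_* M → ξ_*
f^* M is the adjoint of η_*(unit) : η_* M → η_* f_* f^* M = φ_* ξ_* f^* M, and α denotes the
composition isomorphisms of module pullbacks. Then the composite of α_{φ,ψ}(ζ_* L) : φ^* ψ^* ζ_* L →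
(φ ≫ ψ)^* ζ_* L with β_{f ≫ g, φ ≫ ψ}(L) equals the composite of φ^* β_{g,ψ}(L), β_{f,φ}(g^* L) and
ξ_* α_{f,g}(L), as maps φ^* ψ^* ζ_* L → ξ_* (f ≫ g)^* L. No cartesian or finiteness hypothesis is
made; the outer square is used through any proof hw of its commutativity. -/
theorem result {X Y Z U V W : Scheme.{u}} (f : X ⟶ Y) (g : Y ⟶ Z)
    (ξ : X ⟶ U) (η : Y ⟶ V) (ζ : Z ⟶ W) (φ : U ⟶ V) (ψ : V ⟶ W)
    (h₁ : f ≫ η = ξ ≫ φ) (h₂ : g ≫ ζ = η ≫ ψ) (hw : (f ≫ g) ≫ ζ = ξ ≫ (φ ≫ ψ)) (L : Z.Modules) :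
    (pullbackComp φ ψ).hom.app ((pushforward ζ).obj L) ≫
        (((pullbackPushforwardAdjunction (φ ≫ ψ)).homEquiv ((pushforward ζ).obj L)
            ((pushforward ξ).obj ((pullback (f ≫ g)).obj L))).symm
          ((pushforward ζ).map ((pullbackPushforwardAdjunction (f ≫ g)).unit.app L) ≫
            (pushforwardComp (f ≫ g) ζ).hom.app ((pullback (f ≫ g)).obj L) ≫
            (pushforwardCongr hw).hom.app ((pullback (f ≫ g)).obj L) ≫
            (pushforwardComp ξ (φ ≫ ψ)).inv.app ((pullback (f ≫ g)).obj L))) =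
      (pullback φ).map (((pullbackPushforwardAdjunction ψ).homEquiv ((pushforward ζ).obj L)
            ((pushforward η).obj ((pullback g).obj L))).symm
          ((pushforward ζ).map ((pullbackPushforwardAdjunction g).unit.app L) ≫
            (pushforwardComp g ζ).hom.app ((pullback g).obj L) ≫
            (pushforwardCongr h₂).hom.app ((pullback g).obj L) ≫
            (pushforwardComp η ψ).inv.app ((pullback g).obj L))) ≫
        (((pullbackPushforwardAdjunction φ).homEquiv ((pushforward η).obj ((pullback g).obj L))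
            ((pushforward ξ).obj ((pullback f).obj ((pullback g).obj L)))).symm
          ((pushforward η).map ((pullbackPushforwardAdjunction f).unit.app ((pullback g).obj L)) ≫
            (pushforwardComp f η).hom.app ((pullback f).obj ((pullback g).obj L)) ≫
            (pushforwardCongr h₁).hom.app ((pullback f).obj ((pullback g).obj L)) ≫
            (pushforwardComp ξ φ).inv.app ((pullback f).obj ((pullback g).obj L)))) ≫
        (pushforward ξ).map ((pullbackComp f g).hom.app L) := by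
  apply ((pullbackPushforwardAdjunction φ).homEquiv ((pullback ψ).obj ((pushforward ζ).obj L))
    ((pushforward ξ).obj ((pullback (f ≫ g)).obj L))).injective
  apply ((pullbackPushforwardAdjunction ψ).homEquiv ((pushforward ζ).obj L)
    ((pushforward φ).obj ((pushforward ξ).obj ((pullback (f ≫ g)).obj L)))).injective
  rw [homEquiv_homEquiv_pullbackComp, Equiv.apply_symm_apply]
  rw [Adjunction.homEquiv_naturality_left]
  simp only [Adjunction.homEquiv_naturality_right, Equiv.apply_symm_apply]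
  rw [unit_comp_eq f g L]
  apply Scheme.Modules.hom_ext
  intro O
  simp only [Hom.comp_app, pushforward_map_app, pushforwardComp_hom_app_app,
    pushforwardComp_inv_app_app, pushforwardCongr_hom_app_app, Functor.map_comp, Category.assoc]
  dsimp only [Functor.comp_obj, pushforward_obj_obj, Scheme.Hom.comp_preimage]
  simp only [Category.id_comp, Category.comp_id]
  have e : η ⁻¹ᵁ ψ ⁻¹ᵁ O = g ⁻¹ᵁ ζ ⁻¹ᵁ O := by
    rw [← Scheme.Hom.comp_preimage, ← Scheme.Hom.comp_preimage, h₂]
  have e' : ξ ⁻¹ᵁ φ ⁻¹ᵁ ψ ⁻¹ᵁ O = f ⁻¹ᵁ η ⁻¹ᵁ ψ ⁻¹ᵁ O := by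
    rw [← Scheme.Hom.comp_preimage, ← Scheme.Hom.comp_preimage f η, h₁]
  have e'' : ξ ⁻¹ᵁ φ ⁻¹ᵁ ψ ⁻¹ᵁ O = f ⁻¹ᵁ g ⁻¹ᵁ ζ ⁻¹ᵁ O := by rw [e', e]
  exact whisker_eq _ (final_aux f
    ((pullbackPushforwardAdjunction f).unit.app ((pullback g).obj L))
    ((pullbackComp f g).hom.app L) (g ⁻¹ᵁ ζ ⁻¹ᵁ O) (η ⁻¹ᵁ ψ ⁻¹ᵁ O) (ξ ⁻¹ᵁ φ ⁻¹ᵁ ψ ⁻¹ᵁ O) e e' e'')

end Groth.Agent.S14448
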