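import Groth.Statements.S14449
import Mathlib
import Groth.Agent.H4.Recollement
import Groth.Agent.H4.SuppClosed2
import Groth.Agent.S0067

set_option autoImplicit false
universe u
open CategoryTheory CategoryTheory.Limits AlgebraicGeometry
open EtCore

namespace Groth.Agent.S14449

open Groth.Agent.H4

theorem isIso_of_pulls {X Z U : Scheme.{u}} (i : Z ⟶ X) [IsClosedImmersion i] (j : U ⟶ X)
    [IsOpenImmersion j] (hZU : Set.range j.base = (Set.range i.base)ᶜ)
    {F F' : EtCoh.Ab X} (φ : F ⟶ F') (hi : IsIso ((EtCoh.pull i).map φ))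
    (hj : IsIso ((EtCoh.pull j).map φ)) : IsIso φ := by
  haveI := Groth.Agent.H45.preservesFiniteLimits_pullAb i
  haveI := Groth.Agent.H45.preservesFiniteLimits_pullAb j
  haveI : PreservesFiniteColimits (EtCoh.pull i) := inferInstance
  haveI : PreservesFiniteColimits (EtCoh.pull j) := inferInstance
  haveI : Mono φ := by
    rw [Preadditive.mono_iff_isZero_kernel]
    apply isZero_of_pull_closed_open i j hZU
    · refine IsZero.of_iso ?_ (PreservesKernel.iso (EtCoh.pull i) φ)
      exact isZero_kernel_of_mono _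
    · refine IsZero.of_iso ?_ (PreservesKernel.iso (EtCoh.pull j) φ)
      exact isZero_kernel_of_mono _
  haveI : Epi φ := by
    rw [Preadditive.epi_iff_isZero_cokernel]
    apply isZero_of_pull_closed_open i j hZU
    · refine IsZero.of_iso ?_ (PreservesCokernel.iso (EtCoh.pull i) φ)
      exact isZero_cokernel_of_epi _
    · refine IsZero.of_iso ?_ (PreservesCokernel.iso (EtCoh.pull j) φ)
      exact isZero_cokernel_of_epi _
  exact isIso_of_mono_of_epi φ

/-- Let X be a scheme, i : Z ⟶ X a closed immersion and j : U ⟶ X an open immersion whose image is the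
complement of the image of i. Then the functor from abelian sheaves on the small étale site of X to
the category of triples (G on Z, H on U, φ : G ⟶ i⁻¹ j_* H), sending F to (i⁻¹ F, j⁻¹ F, i⁻¹ of the
unit F ⟶ j_* j⁻¹ F), is an equivalence of categories. The category of triples is the comma category
of the identity functor of Ab(Z) over j_* ⋙ i⁻¹. -/
theorem result {X Z U : Scheme.{u}}
    (i : Z ⟶ X) [IsClosedImmersion i] (j : U ⟶ X) [IsOpenImmersion j]
    (hZU : Set.range j.base = (Set.range i.base)ᶜ) :
    (EtCore.recollTriple i j).IsEquivalence := by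
  have hLi := Groth.Agent.H45.preservesFiniteLimits_pullAb i
  have hLj := Groth.Agent.H45.preservesFiniteLimits_pullAb j
  haveI : PreservesLimitsOfShape WalkingCospan (EtCoh.pull i) :=
    hLi.preservesFiniteLimits WalkingCospan
  haveI : PreservesLimitsOfShape WalkingCospan (EtCoh.pull j) :=
    hLj.preservesFiniteLimits WalkingCospan
  haveI : (EtCoh.push i).Full := (Groth.Agent.S0067.result i).1
  haveI : (EtCoh.push i).Faithful := (Groth.Agent.S0067.result i).2
  have h1 : ∀ G : EtCoh.Ab Z, IsIso ((EtCoh.pullPushAdj i).counit.app G) := fun G =>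
    inferInstance
  have h2 : ∀ H : EtCoh.Ab U, IsIso ((EtCoh.pullPushAdj j).counit.app H) := fun H =>
    (Groth.Agent.S0651.result j H).1
  have h4 : ∀ {G G' : EtCoh.Ab Z} (θ : G ⟶ G'),
      IsIso ((EtCoh.pull j).map ((EtCoh.push i).map θ)) := by
    intro G G' θ
    have hz := isZero_pull_push_of_compl i j hZU G
    have hz' := isZero_pull_push_of_compl i j hZU G'
    exact ⟨⟨0, hz.eq_of_src _ _, hz'.eq_of_src _ _⟩⟩
  have h5 : ∀ {F F' : EtCoh.Ab X} (φ : F ⟶ F'), IsIso ((EtCoh.pull i).map φ) →
      IsIso ((EtCoh.pull j).map φ) → IsIso φ := fun φ hi hj => isIso_of_pulls i j hZU φ hi hj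
  exact (Recoll.isEquivalence_T (EtCoh.pullPushAdj i) (EtCoh.pullPushAdj j) h1 h2 h4 h5 :
    (Recoll.T (EtCoh.pull i) (EtCoh.pullPushAdj j)).IsEquivalence)

end Groth.Agent.S14449
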