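import Groth.Statements.S14451
import Groth.Agent.H30.ExtEdge

set_option autoImplicit false
universe u
open CategoryTheory CategoryTheory.Limits AlgebraicGeometry
open EtCore

namespace Groth.Agent.S14451

/-- Let f : X ⟶ Y be a morphism of schemes and F an abelian sheaf on the small étale site of X whose
higher direct images R^q f_* F vanish for all q > 0. Then for every p the canonical map H^p(Y, f_*
F) → H^p(X, F) (pull back along f, then apply the counit f⁻¹ f_* F ⟶ F) is bijective. (Exactness of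
f⁻¹, which always holds, is carried as an instance hypothesis.) -/
theorem result {X Y : Scheme.{u}} (f : X ⟶ Y)
    [PreservesFiniteLimits (EtCoh.pull f)] (F : EtCoh.Ab X)
    (hR : ∀ q : ℕ, 0 < q → IsZero ((EtCoh.Rpush f q).obj F)) (p : ℕ) :
    Function.Bijective (EtLim.HofPush f F p) := by
  haveI : PreservesFiniteLimits (EtCoh.push f) :=
    have : PreservesLimitsOfSize.{0, 0} (EtCoh.push f) :=
      (EtCoh.pullPushAdj f).rightAdjoint_preservesLimits
    PreservesLimitsOfSize.preservesFiniteLimits _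
  have hφ := Groth.Agent.H30.ExtEdge.φ_bijective (EtCoh.pull f) (EtCoh.push f)
    (EtCoh.pullPushAdj f) (EtCoh.const Y ℤ) p F (fun q => hR (q + 1) (Nat.succ_pos q))
  have hform : ∀ e, EtLim.HofPush f F p e =
      (Abelian.Ext.mk₀ (EtCore.pullConst f ℤ).inv).comp
        (Groth.Agent.H30.ExtEdge.φ (EtCoh.pull f) (EtCoh.push f) (EtCoh.pullPushAdj f)
          (EtCoh.const Y ℤ) F p e) (zero_add p) := by
    intro e
    exact Abelian.Ext.comp_assoc (Abelian.Ext.mk₀ (EtCore.pullConst f ℤ).inv)
      (e.mapExactFunctor (EtCoh.pull f)) (Abelian.Ext.mk₀ ((EtCoh.pullPushAdj f).counit.app F))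
      (zero_add p) (add_zero p) (by omega)
  have hpre : Function.Bijective (fun x : Abelian.Ext ((EtCoh.pull f).obj (EtCoh.const Y ℤ)) F p =>
      (Abelian.Ext.mk₀ (EtCore.pullConst f ℤ).inv).comp x (zero_add p)) := by
    refine Function.bijective_iff_has_inverse.2
      ⟨fun y => (Abelian.Ext.mk₀ (EtCore.pullConst f ℤ).hom).comp y (zero_add p), ?_, ?_⟩
    · intro x
      simp only []
      rw [← Abelian.Ext.comp_assoc (Abelian.Ext.mk₀ (EtCore.pullConst f ℤ).hom)
        (Abelian.Ext.mk₀ (EtCore.pullConst f ℤ).inv) x (zero_add 0) (zero_add p) (by omega),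
        Abelian.Ext.mk₀_comp_mk₀, Iso.hom_inv_id, Abelian.Ext.mk₀_id_comp]
    · intro y
      simp only []
      rw [← Abelian.Ext.comp_assoc (Abelian.Ext.mk₀ (EtCore.pullConst f ℤ).inv)
        (Abelian.Ext.mk₀ (EtCore.pullConst f ℤ).hom) y (zero_add 0) (zero_add p) (by omega),
        Abelian.Ext.mk₀_comp_mk₀, Iso.inv_hom_id, Abelian.Ext.mk₀_id_comp]
  have : (EtLim.HofPush f F p : _ → _) = (fun x => (Abelian.Ext.mk₀ (EtCore.pullConst f ℤ).inv).comp x
      (zero_add p)) ∘ Groth.Agent.H30.ExtEdge.φ (EtCoh.pull f) (EtCoh.push f)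
        (EtCoh.pullPushAdj f) (EtCoh.const Y ℤ) F p := funext hform
  rw [this]
  exact hpre.comp hφ

end Groth.Agent.S14451
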