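import Groth.Statements.S14452
import Mathlib
import Groth.Agent.H4.GluePush

set_option autoImplicit false
universe u
open CategoryTheory CategoryTheory.Limits AlgebraicGeometry Opposite
open EtCore

namespace Groth.Agent.S14452

open Groth.Agent.H4 Groth.Agent.H4.GluePush CategoryTheory.Abelian

attribute [local instance] MV.pullExact

theorem subsingleton_H_of_iso {Y : Scheme.{u}} {G G' : EtCoh.Ab Y} (e : G ≅ G') (n : ℕ)
    (h : Subsingleton (EtCoh.H Y G n)) : Subsingleton (EtCoh.H Y G' n) := by
  constructor
  intro y y'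
  have key : ∀ z : EtCoh.H Y G' n,
      z = Ext.comp (Ext.comp z (Ext.mk₀ e.inv) (add_zero n)) (Ext.mk₀ e.hom) (add_zero n) := by
    intro z
    rw [Ext.comp_assoc_of_third_deg_zero, Ext.mk₀_comp_mk₀, e.inv_hom_id, Ext.comp_mk₀_id]
  have e1 : Ext.comp y (Ext.mk₀ e.inv) (add_zero n) = Ext.comp y' (Ext.mk₀ e.inv) (add_zero n) :=
    h.elim _ _
  calc y = _ := key y
    _ = _ := by rw [e1]
    _ = y' := (key y').symm

/-- Let X be a scheme and F an abelian sheaf on the small étale site of X such that H^q(W, F|_W) = 0 for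
every étale X-scheme W and every q > 0 (F|_W the pullback of F along the structure morphism of W).
Then for every morphism g : V ⟶ U of étale X-schemes which is an open immersion, the restriction map
F(U) → F(V) is surjective. -/
theorem result {X : Scheme.{u}}
    (F : EtCoh.Ab X)
    (hF : ∀ (W : X.Etale) (q : ℕ), 0 < q → Subsingleton (EtCoh.H W.left ((EtCoh.pull W.hom).obj F) q))
    {U V : X.Etale} (g : V ⟶ U) [IsOpenImmersion g.left] :
    Function.Surjective (F.obj.map g.op).hom := by
  haveI : Etale U.hom := U.prop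
  let F' : EtCoh.Ab U.left := (EtShriek.restrAlong U.hom).obj F
  have hsub : Subsingleton (EtCoh.H (TT g.left) ((EtCoh.pull (tt g.left)).obj F') 1) := by
    let W : X.Etale := Scheme.Etale.mk (tt g.left ≫ U.hom)
    have h1 := hF W 1 Nat.one_pos
    let e : (EtCoh.pull (tt g.left ≫ U.hom)).obj F ≅ (EtCoh.pull (tt g.left)).obj F' :=
      (EtCore.pullComp (tt g.left) U.hom).app F ≪≫
        (EtCoh.pull (tt g.left)).mapIso ((pullIsoRestr U.hom).app F)
    exact subsingleton_H_of_iso e 1 h1
  have hsurj := surjective_of_subsingleton g.left F' hsub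
  -- comparison maps in the small étale site of `X`
  let a : U ⟶ (EtShriek.compEtale U.hom).obj (EtCoh.top U.left) :=
    MorphismProperty.Over.homMk (𝟙 U.left)
      ((Category.id_comp _).trans (Category.id_comp _)) trivial
  have hV : (Vt g.left).hom ≫ U.hom = V.hom :=
    (congrArg (fun z => z ≫ U.hom) (Vt_hom g.left)).trans (MorphismProperty.Over.w g)
  let b : V ⟶ (EtShriek.compEtale U.hom).obj (Vt g.left) :=
    MorphismProperty.Over.homMk (𝟙 V.left) ((Category.id_comp _).trans hV) trivial
  let b' : (EtShriek.compEtale U.hom).obj (Vt g.left) ⟶ V :=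
    MorphismProperty.Over.homMk (𝟙 V.left) ((Category.id_comp _).trans hV.symm) trivial
  let c : (EtShriek.compEtale U.hom).obj (Vt g.left) ⟶
      (EtShriek.compEtale U.hom).obj (EtCoh.top U.left) :=
    (EtShriek.compEtale U.hom).map (kk g.left)
  have hga : g ≫ a = b ≫ c := by
    apply MorphismProperty.Over.Hom.ext
    exact (Category.comp_id _).trans (Category.id_comp _).symm
  have hbb : b ≫ b' = 𝟙 V := by
    apply MorphismProperty.Over.Hom.ext
    exact Category.id_comp _
  have h1 : F.obj.map a.op ≫ F.obj.map g.op = F.obj.map c.op ≫ F.obj.map b.op := by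
    rw [← Functor.map_comp, ← Functor.map_comp, ← op_comp, ← op_comp, hga]
  have h2 : F.obj.map b'.op ≫ F.obj.map b.op = 𝟙 _ := by
    rw [← Functor.map_comp, ← op_comp, hbb, op_id, CategoryTheory.Functor.map_id]
  intro s
  obtain ⟨u', hu'⟩ := hsurj ((F.obj.map b'.op).hom s)
  have hu'' : (F.obj.map c.op).hom u' = (F.obj.map b'.op).hom s := hu'
  refine ⟨(F.obj.map a.op).hom u', ?_⟩
  have e1 := congrArg (fun q => q.hom u') h1
  have e2 := congrArg (fun q => q.hom s) h2
  exact e1.trans ((congrArg (F.obj.map b.op).hom hu'').trans e2)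

end Groth.Agent.S14452
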