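import Groth.Statements.S14453
import Mathlib

set_option autoImplicit false
universe w u
open CategoryTheory AlgebraicGeometry
open EtCore

namespace Groth.Agent.S14453

open Opposite Limits

set_option backward.isDefEq.respectTransparency false

section
variable {X : Scheme.{u}}

/-- The Zariski topology on the small etale category. -/
abbrev zarTop (X : Scheme.{u}) : GrothendieckTopology X.Etale :=
  X.smallGrothendieckTopology (P := @IsOpenImmersion)

theorem mem_et_iff (U : X.Etale) (R : Sieve U) :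
    R ∈ X.smallEtaleTopology U ↔
      ∀ x : U.left, ∃ (V : X.Etale) (g : V ⟶ U) (v : V.left), R g ∧ g.left v = x := by
  have eX : X.smallEtaleTopology =
      (X.smallPretopology (P := @Etale) (Q := @Etale)).toGrothendieck :=
    Scheme.smallGrothendieckTopology_eq_toGrothendieck_smallPretopology X le_rfl
  rw [eX]
  refine (Scheme.mem_toGrothendieck_smallPretopology U R).trans ?_
  constructor
  · intro h x
    obtain ⟨V, g, v, hg, -, hv⟩ := h x
    exact ⟨V, g, v, hg, hv⟩
  · intro h x
    obtain ⟨V, g, v, hg, hv⟩ := h x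
    exact ⟨V, g, v, hg, inferInstance, hv⟩

theorem isOpenImmersion_le_etale :
    (@IsOpenImmersion : MorphismProperty Scheme.{u}) ≤ @Etale := by
  intro A B f hf
  haveI : IsOpenImmersion f := hf
  show Etale f
  infer_instance

theorem mem_zar_iff (U : X.Etale) (R : Sieve U) :
    R ∈ zarTop X U ↔
      ∀ x : U.left, ∃ (V : X.Etale) (g : V ⟶ U) (v : V.left),
        R g ∧ IsOpenImmersion g.left ∧ g.left v = x := by
  have eX : zarTop X =
      (X.smallPretopology (P := @IsOpenImmersion) (Q := @Etale)).toGrothendieck :=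
    Scheme.smallGrothendieckTopology_eq_toGrothendieck_smallPretopology X
      isOpenImmersion_le_etale
  rw [eX]
  exact Scheme.mem_toGrothendieck_smallPretopology U R

theorem zar_le_et : zarTop X ≤ X.smallEtaleTopology := by
  intro U R hR
  refine (mem_et_iff U R).2 (fun x => ?_)
  obtain ⟨V, g, v, hg, -, hv⟩ := (mem_zar_iff U R).1 hR x
  exact ⟨V, g, v, hg, hv⟩

/-- Restriction of an etale `X`-scheme to an open subscheme. -/
noncomputable def res (U : X.Etale) (O : U.left.Opens) : X.Etale :=
  Scheme.Etale.mk (O.ι ≫ U.hom)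

/-- The inclusion of the restriction. -/
noncomputable def resι (U : X.Etale) (O : U.left.Opens) : res U O ⟶ U :=
  MorphismProperty.Over.homMk O.ι rfl trivial

theorem affine_cover_mem_zar (U : X.Etale) :
    Sieve.ofArrows (fun O : U.left.affineOpens => res U O.1) (fun O => resι U O.1) ∈
      zarTop X U := by
  rw [mem_zar_iff]
  intro x
  obtain ⟨O, hO, hx, -⟩ :=
    exists_isAffineOpen_mem_and_subset (x := x) (U := (⊤ : U.left.Opens)) trivial
  refine ⟨res U O, resι U O, ⟨x, hx⟩,
    Sieve.ofArrows_mk _ _ (⟨O, hO⟩ : U.left.affineOpens), ?_, rfl⟩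
  show IsOpenImmersion O.ι
  infer_instance

section Sigma

variable {ι : Type u} (V : ι → X.Etale)

/-- The coproduct of a family of etale `X`-schemes. -/
noncomputable def sig : X.Etale :=
  haveI : Etale (Sigma.desc (fun i => (V i).hom)) :=
    IsZariskiLocalAtSource.sigmaDesc (fun i => (V i).prop)
  Scheme.Etale.mk (Sigma.desc (fun i => (V i).hom))

noncomputable def sigι (i : ι) : V i ⟶ sig V :=
  MorphismProperty.Over.homMk (Sigma.ι (fun i => (V i).left) i)
    (Sigma.ι_desc (fun i => (V i).hom) i) trivial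

noncomputable def sigDesc {W : X.Etale} (f : ∀ i, V i ⟶ W) : sig V ⟶ W :=
  MorphismProperty.Over.homMk (Sigma.desc (fun i => (f i).left)) (by
    apply Sigma.hom_ext
    intro i
    rw [Sigma.ι_desc_assoc]
    show (f i).left ≫ W.hom = Sigma.ι _ i ≫ Sigma.desc (fun i => (V i).hom)
    rw [Sigma.ι_desc]
    exact MorphismProperty.Over.w (f i)) trivial

theorem sigι_desc {W : X.Etale} (f : ∀ i, V i ⟶ W) (i : ι) :
    sigι V i ≫ sigDesc V f = f i :=
  MorphismProperty.Over.Hom.ext (Sigma.ι_desc (fun i => (f i).left) i)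

theorem sigι_mem_zar : Sieve.ofArrows V (sigι V) ∈ zarTop X (sig V) := by
  rw [mem_zar_iff]
  intro x
  obtain ⟨i, y, hy⟩ := (sigmaOpenCover (fun i => (V i).left)).exists_eq x
  refine ⟨V i, sigι V i, y, Sieve.ofArrows_mk _ _ i, ?_, hy⟩
  show IsOpenImmersion (Sigma.ι (fun i => (V i).left) i)
  infer_instance

end Sigma

theorem isSeparatedFor_of_le' {C : Type*} [Category C] {P : Cᵒᵖ ⥤ Type w} {B : C}
    {R R' : Presieve B} (h : R ≤ R') (hR : Presieve.IsSeparatedFor P R) :
    Presieve.IsSeparatedFor P R' := by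
  intro x t₁ t₂ h₁ h₂
  exact hR (x.restrict h) t₁ t₂ (Presieve.isAmalgamation_restrict h x t₁ h₁)
    (Presieve.isAmalgamation_restrict h x t₂ h₂)

variable (F : X.Etaleᵒᵖ ⥤ Type w)
  (hz : Presieve.IsSheaf (zarTop X) F)
  (ha : ∀ (U V : X.Etale) [IsAffine U.left] [IsAffine V.left] (f : V ⟶ U)
    [Surjective f.left], Presieve.IsSheafFor F (Presieve.singleton f))

include hz ha in
theorem step1 (W : X.Etale) [IsAffine W.left] {ι : Type u} [Finite ι] (V : ι → X.Etale)
    [∀ i, IsAffine (V i).left] (f : ∀ i, V i ⟶ W)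
    (hsurj : ∀ w : W.left, ∃ i v, (f i).left v = w) :
    Presieve.IsSheafFor F (Sieve.ofArrows V f).arrows := by
  haveI : IsAffine (sig V).left := by
    show IsAffine (∐ fun i => (V i).left)
    infer_instance
  haveI : Surjective (sigDesc V f).left := by
    show Surjective (Sigma.desc fun i => (f i).left)
    refine ⟨fun w => ?_⟩
    obtain ⟨i, v, hv⟩ := hsurj w
    refine ⟨Sigma.ι (fun i => (V i).left) i v, ?_⟩
    rw [← Scheme.Hom.comp_apply, Sigma.ι_desc]
    exact hv
  have h1 : Presieve.IsSheafFor F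
      (Sieve.generate (Presieve.singleton (sigDesc V f))).arrows :=
    (Presieve.isSheafFor_iff_generate _).1 (ha W (sig V) (sigDesc V f))
  refine Presieve.isSheafFor_trans F (Sieve.generate (Presieve.singleton (sigDesc V f)))
    (Sieve.ofArrows V f) h1 ?_ ?_
  · intro Y g hg
    have hmem : (Sieve.generate (Presieve.singleton (sigDesc V f))) g := by
      obtain ⟨Z, k, _, ⟨i⟩, rfl⟩ := hg
      exact ⟨sig V, k ≫ sigι V i, sigDesc V f, Presieve.singleton.mk,
        by rw [Category.assoc, sigι_desc]⟩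
    rw [Sieve.pullback_eq_top_of_mem _ hmem]
    exact Presieve.isSeparatedFor_top F
  · intro Y g hg
    obtain ⟨Z, k, _, ⟨⟩, rfl⟩ := hg
    apply hz
    refine (zarTop X).superset_covering ?_
      ((zarTop X).pullback_stable k (sigι_mem_zar V))
    intro T m hm
    obtain ⟨Z', k', _, ⟨i⟩, hk'⟩ := hm
    show (Sieve.ofArrows V f) (m ≫ k ≫ sigDesc V f)
    refine ⟨V i, k', f i, ⟨i⟩, ?_⟩
    rw [← sigι_desc V f i, ← Category.assoc, hk', Category.assoc]

theorem exists_finite_affine_refinement (W : X.Etale) [IsAffine W.left] (S : Sieve W)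
    (hS : S ∈ X.smallEtaleTopology W) :
    ∃ (ι : Type u) (_ : Finite ι) (V : ι → X.Etale) (_ : ∀ i, IsAffine (V i).left)
      (f : ∀ i, V i ⟶ W), (∀ i, S (f i)) ∧ ∀ w : W.left, ∃ i v, (f i).left v = w := by
  have h := (mem_et_iff W S).1 hS
  choose Y g y hg hy using h
  have h2 : ∀ x : W.left, ∃ O : (Y x).left.Opens, IsAffineOpen O ∧ y x ∈ O := fun x => by
    obtain ⟨O, hO, hx, -⟩ :=
      exists_isAffineOpen_mem_and_subset (x := y x) (U := (⊤ : (Y x).left.Opens)) trivial
    exact ⟨O, hO, hx⟩
  choose O hO hyO using h2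
  have hAo : ∀ x, IsOpen (Set.range (resι (Y x) (O x) ≫ g x).left) := fun x =>
    (Scheme.Hom.isOpenMap ((resι (Y x) (O x) ≫ g x).left)).isOpen_range
  have hAx : ∀ x, x ∈ Set.range (resι (Y x) (O x) ≫ g x).left := fun x =>
    ⟨⟨y x, hyO x⟩, hy x⟩
  obtain ⟨t, ht⟩ := isCompact_univ.elim_finite_subcover
    (fun x => Set.range (resι (Y x) (O x) ≫ g x).left) hAo
    (fun x _ => Set.mem_iUnion.2 ⟨x, hAx x⟩)
  refine ⟨t, inferInstance, fun i => res (Y i.1) (O i.1), fun i => hO i.1,
    fun i => resι (Y i.1) (O i.1) ≫ g i.1, fun i => S.downward_closed (hg i.1) _,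
    fun w => ?_⟩
  obtain ⟨x, hx, hw⟩ := Set.mem_iUnion₂.1 (ht (Set.mem_univ w))
  obtain ⟨v, hv⟩ := hw
  exact ⟨⟨x, hx⟩, v, hv⟩

include hz ha in
theorem isSeparatedFor_of_mem_et (Y : X.Etale) (S : Sieve Y)
    (hS : S ∈ X.smallEtaleTopology Y) : Presieve.IsSeparatedFor F S.arrows := by
  intro x t₁ t₂ h₁ h₂
  have hsepZ := (hz _ (affine_cover_mem_zar Y)).isSeparatedFor
  refine hsepZ.ext ?_
  intro T m hm
  obtain ⟨O, k, rfl⟩ := (Sieve.mem_ofArrows_iff _ _ m).1 hm
  rw [op_comp, FunctorToTypes.map_comp_apply, FunctorToTypes.map_comp_apply]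
  refine congrArg _ ?_
  haveI : IsAffine (res Y O.1).left := O.2
  obtain ⟨ι, _, V, _, f, hf, hsurj⟩ := exists_finite_affine_refinement (res Y O.1)
    (S.pullback (resι Y O.1)) (X.smallEtaleTopology.pullback_stable _ hS)
  have h3 := (step1 F hz ha (res Y O.1) V f hsurj).isSeparatedFor
  refine h3.ext ?_
  intro T' m' hm'
  obtain ⟨i, k', rfl⟩ := (Sieve.mem_ofArrows_iff _ _ m').1 hm'
  have key : ∀ t, x.IsAmalgamation t →
      F.map (f i).op (F.map (resι Y O.1).op t) = x (f i ≫ resι Y O.1) (hf i) := by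
    intro t ht
    rw [← ht (f i ≫ resι Y O.1) (hf i), op_comp, FunctorToTypes.map_comp_apply]
  rw [op_comp, FunctorToTypes.map_comp_apply, FunctorToTypes.map_comp_apply,
    key t₁ h₁, key t₂ h₂]

include hz ha in
theorem isSheafFor_of_affine (W : X.Etale) [IsAffine W.left] (S : Sieve W)
    (hS : S ∈ X.smallEtaleTopology W) : Presieve.IsSheafFor F S.arrows := by
  obtain ⟨ι, _, V, _, f, hf, hsurj⟩ := exists_finite_affine_refinement W S hS
  refine Presieve.isSheafFor_subsieve_aux F (S := Sieve.ofArrows V f) ?_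
    (step1 F hz ha W V f hsurj) ?_
  · intro T m hm
    obtain ⟨Z, k, _, ⟨i⟩, rfl⟩ := hm
    exact S.downward_closed (hf i) k
  · intro T m _
    apply isSeparatedFor_of_mem_et F hz ha
    apply X.smallEtaleTopology.pullback_stable
    rw [mem_et_iff]
    intro w
    obtain ⟨i, v, hv⟩ := hsurj w
    exact ⟨V i, f i, v, Sieve.ofArrows_mk _ _ i, hv⟩

/-- The pre-0-hypercover of an etale scheme by its affine opens. -/
noncomputable def affE₀ (W : X.Etale) : PreZeroHypercover.{u} W where
  I₀ := W.left.affineOpens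
  X O := res W O.1
  f O := resι W O.1

/-- The Zariski 1-hypercover of an etale scheme by its affine opens. -/
noncomputable def affE (W : X.Etale) : (zarTop X).OneHypercover W :=
  GrothendieckTopology.OneHypercover.mk' (affE₀ W).toPreOneHypercover
    (affine_cover_mem_zar W)
    (fun i j => by
      rw [sieve₁'_toPreOneHypercover_eq_top]
      exact (zarTop X).top_mem _)

include hz ha in
theorem isSheafFor_of_mem_et (W : X.Etale) (S : Sieve W)
    (hS : S ∈ X.smallEtaleTopology W) : Presieve.IsSheafFor F S.arrows := by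
  refine (affE W).isSheafFor_sieve_of_pullback hz ?_ ?_
  · intro O
    haveI : IsAffine (res W O.1).left := O.2
    exact isSheafFor_of_affine F hz ha (res W O.1) _
      (X.smallEtaleTopology.pullback_stable _ hS)
  · intro i j k
    exact isSeparatedFor_of_mem_et F hz ha _ _
      (X.smallEtaleTopology.pullback_stable _ hS)

end

/-- Let X be a scheme and F a presheaf of sets on the small étale site of X. Then F is an étale sheaf if
and only if F is a sheaf for the Zariski topology on the same category (coverings are jointly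
surjective families of open immersions between étale X-schemes) and, for every morphism f : V ⟶ U of
étale X-schemes with U and V affine and f surjective, F satisfies the sheaf condition for the single
arrow f. -/
theorem result (X : Scheme.{u})
    (F : X.Etaleᵒᵖ ⥤ Type w) :
    Presieve.IsSheaf X.smallEtaleTopology F ↔
      Presieve.IsSheaf (X.smallGrothendieckTopology (P := @IsOpenImmersion)) F ∧
        ∀ (U V : X.Etale) [IsAffine U.left] [IsAffine V.left] (f : V ⟶ U) [Surjective f.left],
          Presieve.IsSheafFor F (Presieve.singleton f) := by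
  constructor
  · intro hF
    refine ⟨Presieve.isSheaf_of_le F zar_le_et hF, ?_⟩
    intro U V _ _ f _
    apply hF.isSheafFor
    rw [mem_et_iff]
    intro x
    obtain ⟨v, hv⟩ := f.left.surjective x
    exact ⟨V, f, v, ⟨V, 𝟙 V, f, Presieve.singleton.mk, Category.id_comp f⟩, hv⟩
  · rintro ⟨hz, ha⟩ W S hS
    exact isSheafFor_of_mem_et F hz ha W S hS

end Groth.Agent.S14453
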