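import Groth.Statements.S1446
import Groth.Agent.H57.RelAssGen.RowGeneric

set_option linter.style.haveILetI false

set_option autoImplicit false
universe u
open FlatMor

namespace Groth.Agent.S1446

open AlgebraicGeometry CategoryTheory Limits in
/-- Let f : X → S be locally of finite type, F a quasi-coherent O_X-module of finite type, and ξ a point
of the relative assassin of F with closure Z. Then there is a nonempty subset V of Z, open in Z,
such that for every point x of V, if x is a generic point of an irreducible component of the fibre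
of V through x then x lies in the relative assassin of F. -/
theorem result {X S : Scheme.{u}} (f : X ⟶ S) [LocallyOfFiniteType f]
    (F : X.Modules) (hF : Coh.IsCoh F) (ξ : X) (hξ : ξ ∈ MoreMor.relAss f F) :
    ∃ V : Set ↑X, V ⊆ closure {ξ} ∧ IsOpen (Subtype.val ⁻¹' V : Set ↑(closure ({ξ} : Set ↑X))) ∧ V.Nonempty ∧
      ∀ (x : X) (hx : x ∈ V), (∃ C ∈ irreducibleComponents ↑(V ∩ f ⁻¹' {f x}), IsGenericPoint (⟨x, hx, rfl⟩ : ↑(V ∩ f ⁻¹' {f x})) C) →
        x ∈ MoreMor.relAss f F := by
  classical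
  obtain ⟨_, ⟨V₀, hV₀, rfl⟩, hηV₀, -⟩ := S.isBasis_affineOpens.exists_subset_of_mem_open
    (Set.mem_univ (f ξ)) isOpen_univ
  replace hV₀ : IsAffineOpen V₀ := hV₀
  have hξV : ξ ∈ f ⁻¹ᵁ V₀ := hηV₀
  obtain ⟨_, ⟨W, hW, rfl⟩, hξW, hWle⟩ := X.isBasis_affineOpens.exists_subset_of_mem_open
    hξV (f ⁻¹ᵁ V₀).2
  replace hW : IsAffineOpen W := hW
  have e : W ≤ f ⁻¹ᵁ V₀ := hWle
  obtain ⟨a, ha, h1, -⟩ := Groth.Agent.H57.RelAssGen.chart_generic f F hF hV₀ hW e ξ hξW hξ
  -- the open set cutting out `V`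
  let O : X.Opens := W ⊓ f ⁻¹ᵁ (S.basicOpen a)
  refine ⟨closure {ξ} ∩ (O : Set X), Set.inter_subset_left, ?_,
    ⟨ξ, subset_closure (Set.mem_singleton ξ), hξW, ha⟩, ?_⟩
  · have : (Subtype.val ⁻¹' (closure {ξ} ∩ (O : Set X)) : Set ↑(closure ({ξ} : Set ↑X))) =
        Subtype.val ⁻¹' (O : Set X) := by
      ext z
      simp only [Set.mem_preimage, Set.mem_inter_iff, and_iff_right_iff_imp]
      exact fun _ => z.2
    rw [this]
    exact O.2.preimage continuous_subtype_val
  · intro x hx hgen
    obtain ⟨C, hC, hgenC⟩ := hgen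
    obtain ⟨hxcl, hxW, hxa⟩ := hx
    have hξx : ξ ⤳ x := specializes_iff_mem_closure.mpr hxcl
    refine h1 x hxW hξx hxa ?_
    intro x' hx'W hξx' hx'x hfx'
    -- `x'` is a point of the fibre of `V` through `x`
    have hx'V : x' ∈ closure {ξ} ∩ (O : Set X) :=
      ⟨specializes_iff_mem_closure.mp hξx', hx'W, by
        show f x' ∈ S.basicOpen a
        rw [hfx']; exact hxa⟩
    let T : Set X := (closure {ξ} ∩ (O : Set X)) ∩ f ⁻¹' {f x}
    let xT : T := ⟨x, ⟨hxcl, hxW, hxa⟩, rfl⟩
    let x'T : T := ⟨x', hx'V, hfx'⟩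
    have hsp : x'T ⤳ xT := (Topology.IsInducing.subtypeVal.specializes_iff).mp hx'x
    have hCirr : IsIrreducible C := hC.prop
    have hcl : closure {xT} = C := hgenC
    have hle : C ≤ closure {x'T} := by
      rw [← hcl]
      exact closure_minimal (Set.singleton_subset_iff.mpr (specializes_iff_mem_closure.mp hsp))
        isClosed_closure
    have hge : closure {x'T} ≤ C :=
      hC.le_of_ge (isIrreducible_singleton.closure) hle
    have hsp' : xT ⤳ x'T := by
      rw [specializes_iff_mem_closure, hcl]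
      exact hge (subset_closure (Set.mem_singleton x'T))
    have heq : x'T = xT := (hsp.antisymm hsp').eq
    exact congrArg Subtype.val heq

end Groth.Agent.S1446
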