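import Groth.Statements.S14461
import Mathlib
import Groth.Agent.H68.FEtFF

set_option autoImplicit false
universe u
open CategoryTheory CategoryTheory.Limits AlgebraicGeometry
open Pi1

namespace Groth.Agent.S14461

open AlgebraicGeometry CategoryTheory CategoryTheory.Limits

/-- in a Noetherian space, connected components are open -/
theorem isOpen_connectedComponent {α : Type*} [TopologicalSpace α]
    [TopologicalSpace.NoetherianSpace α] (x : α) : IsOpen (connectedComponent x) := by
  rw [← isClosed_compl_iff]
  have hfin := TopologicalSpace.NoetherianSpace.finite_irreducibleComponents (α := α)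
  have h : (connectedComponent x)ᶜ =
      ⋃ Z ∈ {Z ∈ irreducibleComponents α | Disjoint Z (connectedComponent x)}, Z := by
    ext y
    simp only [Set.mem_compl_iff, Set.mem_iUnion, Set.mem_ofPred_eq, exists_prop]
    constructor
    · intro hy
      refine ⟨irreducibleComponent y, ⟨irreducibleComponent_mem_irreducibleComponents y, ?_⟩,
        mem_irreducibleComponent⟩
      rw [Set.disjoint_iff]
      rintro z ⟨hz1, hz2⟩
      apply hy
      have h1 : irreducibleComponent y ⊆ connectedComponent z :=
        isIrreducible_irreducibleComponent.isConnected.isPreconnected.subset_connectedComponent hz1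
      rw [← connectedComponent_eq hz2] at h1
      exact h1 mem_irreducibleComponent
    · rintro ⟨Z, ⟨-, hZ⟩, hyZ⟩ hy
      exact Set.disjoint_iff.mp hZ ⟨hyZ, hy⟩
  rw [h]
  exact (hfin.subset (Set.sep_subset _ _)).isClosed_biUnion
    (fun Z hZ => isClosed_of_mem_irreducibleComponents Z hZ.1)


/-- Let X be a Noetherian scheme and X₀ → X a closed immersion such that, for every finite étale Y → X,
the projection Y ×_X X₀ → Y induces a bijection on connected components. Then restriction of finite
étale covers from X to X₀ is full and faithful. -/
theorem result {X X₀ : Scheme.{u}} [IsNoetherian X]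
    (i : X₀ ⟶ X) [IsClosedImmersion i]
    (h : ∀ Y : FEt.Cat X, Function.Bijective (pullback.fst Y.hom i).continuous.connectedComponentsMap) :
    (FEt.restrict i).Full ∧ (FEt.restrict i).Faithful := by
  refine H68.FEtFF.full_faithful i ⟨?_, ?_⟩
  · intro W T hT hpre
    rw [Set.eq_univ_iff_forall]
    intro y
    obtain ⟨c', hc'⟩ := (h W).2 (ConnectedComponents.mk y)
    obtain ⟨y', rfl⟩ := ConnectedComponents.surjective_coe c'
    rw [Continuous.connectedComponentsMap_mk, ConnectedComponents.coe_eq_coe] at hc'
    have hy'T : pullback.fst W.hom i y' ∈ T := by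
      have : y' ∈ (pullback.fst W.hom i) ⁻¹' T := by rw [hpre]; trivial
      exact this
    have := hT.connectedComponent_subset hy'T
    rw [hc'] at this
    exact this mem_connectedComponent
  · intro W T' hT'
    haveI : IsNoetherian W.left := by
      obtain ⟨g, hg⟩ : ∃ g : W.left ⟶ X, g = W.hom := ⟨_, rfl⟩
      haveI : IsFinite g := by rw [hg]; exact W.prop.1
      haveI : LocallyOfFiniteType g := inferInstance
      haveI : IsLocallyNoetherian W.left := LocallyOfFiniteType.isLocallyNoetherian g
      haveI : CompactSpace W.left := QuasiCompact.compactSpace_of_compactSpace g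
      exact {}
    have hcomp : ∀ S : Set W.left, (∀ y ∈ S, connectedComponent y ⊆ S) → IsOpen S := by
      intro S hS
      have : S = ⋃ y ∈ S, connectedComponent y := by
        ext z
        simp only [Set.mem_iUnion, exists_prop]
        exact ⟨fun hz => ⟨z, hz, mem_connectedComponent⟩, fun ⟨y, hy, hz⟩ => hS y hy hz⟩
      rw [this]
      exact isOpen_biUnion fun y _ => isOpen_connectedComponent y
    let T : Set W.left := ⋃ y' ∈ T', connectedComponent (pullback.fst W.hom i y')
    have hTsat : ∀ y ∈ T, connectedComponent y ⊆ T := by
      intro y hy
      simp only [T, Set.mem_iUnion, exists_prop] at hy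
      obtain ⟨y', hy', hyy'⟩ := hy
      rw [← connectedComponent_eq hyy']
      exact Set.subset_biUnion_of_mem (u := fun y' => connectedComponent (pullback.fst W.hom i y')) hy'
    have hTcsat : ∀ y ∈ Tᶜ, connectedComponent y ⊆ Tᶜ := by
      intro y hy z hz hzT
      apply hy
      have := hTsat z hzT
      rw [← connectedComponent_eq hz] at this
      exact this mem_connectedComponent
    refine ⟨T, ⟨isOpen_compl_iff.mp (hcomp _ hTcsat), hcomp _ hTsat⟩, ?_⟩
    ext y''
    simp only [Set.mem_preimage, T, Set.mem_iUnion, exists_prop]
    constructor
    · rintro ⟨y', hy', hyy'⟩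
      have h1 : (pullback.fst W.hom i).continuous.connectedComponentsMap (ConnectedComponents.mk y'') =
          (pullback.fst W.hom i).continuous.connectedComponentsMap (ConnectedComponents.mk y') := by
        rw [Continuous.connectedComponentsMap_mk, Continuous.connectedComponentsMap_mk,
          ConnectedComponents.coe_eq_coe]
        exact connectedComponent_eq hyy' |>.symm
      have h2 := (h W).1 h1
      rw [ConnectedComponents.coe_eq_coe] at h2
      have := hT'.connectedComponent_subset hy'
      rw [← h2] at this
      exact this mem_connectedComponent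
    · intro hy''
      exact ⟨y'', hy'', mem_connectedComponent⟩

end Groth.Agent.S14461
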