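import Groth.Statements.S14462
import Mathlib
import Groth.Agent.H68.CodimOne

set_option autoImplicit false
universe u
open CategoryTheory AlgebraicGeometry
open Unram

namespace Groth.Agent.S14462


/-- Let f : X → Y be finite and flat with Y locally Noetherian, and let U ⊆ Y be open with every point
of the complement having a local ring of Krull dimension at least 2. If f is étale over U, then f is
étale. -/
theorem result {X Y : Scheme.{u}} [IsLocallyNoetherian Y]
    (f : X ⟶ Y) [IsFinite f] [Flat f] (U : Y.Opens)
    (hU : ∀ y : Y, y ∉ U → (2 : WithBot ℕ∞) ≤ ringKrullDim (Y.presheaf.stalk y))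
    [Etale (f ∣_ U)] : Etale f := by
  haveI : Etale (Limits.pullback.snd f U.ι) := by
    rw [← pullbackRestrictIsoRestrict_hom_morphismRestrict]; infer_instance
  exact Groth.Agent.H68.CodimOne.etale_of_etale_over_open f U hU

end Groth.Agent.S14462
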