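import Groth.Statements.S14463
import Mathlib

set_option autoImplicit false
universe u
open CategoryTheory CategoryTheory.Limits AlgebraicGeometry
open BigSite

namespace Groth.Agent.S14463

open Opposite TopologicalSpace

set_option backward.isDefEq.respectTransparency false

section
variable {S : Scheme.{u}}

/-- Finite affine covering data over one open. -/
def LocData (C : MorphismProperty Scheme.{u}) (X : Over S) (R : Sieve X) (O : X.left.Opens) :
    Prop :=
  ∃ (κ : Type u) (_ : Finite κ) (V : κ → Over S) (φ : ∀ j, V j ⟶ X)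
    (ψ : ∀ j, (V j).left ⟶ (O : Scheme.{u})),
    (∀ j, IsAffine (V j).left) ∧ (∀ j, R.arrows (φ j)) ∧ (∀ j, ψ j ≫ O.ι = (φ j).left) ∧
      C (Limits.Sigma.desc ψ)

/-- The covering condition. -/
def KCov (C : MorphismProperty Scheme.{u}) (X : Over S) (R : Sieve X) : Prop :=
  ∃ (ι : Type u) (U : ι → X.left.Opens), (∀ i, IsAffineOpen (U i)) ∧ ⨆ i, U i = ⊤ ∧
    ∀ i, LocData C X R (U i)

variable {C : MorphismProperty Scheme.{u}} [C.IsStableUnderComposition]
  [C.IsStableUnderBaseChange]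

theorem kcov_top
    (haff : ∀ (U : Scheme.{u}) [IsAffine U] (κ : Type u) [Finite κ] (V : κ → U.Opens),
      (∀ j, IsAffineOpen (V j)) → ⨆ j, V j = ⊤ → C (Limits.Sigma.desc fun j => (V j).ι))
    (X : Over S) : KCov C X ⊤ := by
  refine ⟨X.left.affineOpens, fun O => O.1, fun O => O.2, iSup_affineOpens_eq_top X.left,
    fun O => ?_⟩
  haveI : IsAffine (O.1 : Scheme.{u}) := O.2
  exact ⟨PUnit.{u + 1}, inferInstance,
    fun _ => Over.mk (((⊤ : (O.1 : Scheme.{u}).Opens).ι ≫ O.1.ι) ≫ X.hom),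
    fun _ => Over.homMk ((⊤ : (O.1 : Scheme.{u}).Opens).ι ≫ O.1.ι) rfl,
    fun _ => (⊤ : (O.1 : Scheme.{u}).Opens).ι,
    fun _ => isAffineOpen_top _, fun _ => trivial, fun _ => rfl,
    haff (O.1 : Scheme.{u}) PUnit.{u + 1} (fun _ => ⊤) (fun _ => isAffineOpen_top _) iSup_const⟩

omit [C.IsStableUnderBaseChange] in
theorem C_sigma_two_level [C.RespectsIso]
    (hcoprod : ∀ (κ : Type u) [Finite κ] (A B : κ → Scheme.{u}) (f : ∀ j, A j ⟶ B j),
      (∀ j, C (f j)) → C (Limits.Sigma.map f))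
    {κ : Type u} [Finite κ] (lam : κ → Type u)
    (W : ∀ j, lam j → Scheme.{u}) (V : κ → Scheme.{u}) {T : Scheme.{u}}
    (ψ : ∀ j b, W j b ⟶ V j) (χ : ∀ j, V j ⟶ T)
    (h1 : ∀ j, C (Limits.Sigma.desc (ψ j))) (h2 : C (Limits.Sigma.desc χ)) :
    C (Limits.Sigma.desc (fun p : Σ j, lam j => ψ p.1 p.2 ≫ χ p.1)) := by
  have e : Limits.Sigma.desc (fun p : Σ j, lam j => ψ p.1 p.2 ≫ χ p.1) =
      (Limits.sigmaSigmaIso lam W).inv ≫ Limits.Sigma.map (fun j => Limits.Sigma.desc (ψ j)) ≫
        Limits.Sigma.desc χ := by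
    apply Limits.Sigma.hom_ext
    rintro ⟨j, b⟩
    simp [Limits.sigmaSigmaIso]
  rw [e]
  exact (C.cancel_left_of_respectsIso _ _).2 (C.comp_mem _ _ (hcoprod κ _ _ _ h1) h2)

theorem C_sigma_pullback {κ : Type u} [Finite κ] (V : κ → Scheme.{u}) {T T' : Scheme.{u}}
    (ψ : ∀ j, V j ⟶ T) (o : T' ⟶ T) (h : C (Limits.Sigma.desc ψ)) :
    C (Limits.Sigma.desc (fun j => Limits.pullback.fst o (ψ j))) := by
  classical
  have hVK := (FinitaryExtensive.isVanKampen_finiteCoproducts
    (Limits.coproductIsCoproduct V)).isUniversal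
  let ι' : ∀ j, Limits.pullback o (ψ j) ⟶ Limits.pullback o (Limits.Sigma.desc ψ) := fun j =>
    Limits.pullback.map o (ψ j) o (Limits.Sigma.desc ψ) (𝟙 T') (Limits.Sigma.ι V j) (𝟙 T)
      ((Category.comp_id _).trans (Category.id_comp _).symm)
      ((Category.comp_id _).trans (Limits.Sigma.ι_desc ψ j).symm)
  have hfst : ∀ j, ι' j ≫ Limits.pullback.fst o (Limits.Sigma.desc ψ) =
      Limits.pullback.fst o (ψ j) := by
    intro j
    simp only [ι']
    rw [Limits.pullback.lift_fst, Category.comp_id]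
  have hsnd : ∀ j, ι' j ≫ Limits.pullback.snd o (Limits.Sigma.desc ψ) =
      Limits.pullback.snd o (ψ j) ≫ Limits.Sigma.ι V j := by
    intro j
    simp only [ι']
    rw [Limits.pullback.lift_snd]
  let c' : Limits.Cofan (fun j => Limits.pullback o (ψ j)) :=
    Limits.Cofan.mk (Limits.pullback o (Limits.Sigma.desc ψ)) ι'
  have hc' : Limits.IsColimit c' := by
    refine (hVK c' (Discrete.natTrans fun j => Limits.pullback.snd o (ψ j.as))
      (Limits.pullback.snd o (Limits.Sigma.desc ψ)) ?_ (.of_discrete _) ?_).some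
    · ext ⟨j⟩
      simp only [NatTrans.comp_app, Discrete.natTrans_app, Functor.const_map_app]
      exact (hsnd j).symm
    · rintro ⟨j⟩
      refine IsPullback.of_right (h₁₂ := Limits.pullback.fst o (Limits.Sigma.desc ψ))
        (v₁₃ := o) (h₂₂ := Limits.Sigma.desc ψ) ?_ (hsnd j) (IsPullback.of_hasPullback _ _)
      have h1 : c'.ι.app ⟨j⟩ ≫ Limits.pullback.fst o (Limits.Sigma.desc ψ) =
          Limits.pullback.fst o (ψ j) := hfst j
      have h2 : (Limits.Cofan.mk (∐ V) (Limits.Sigma.ι V)).ι.app ⟨j⟩ ≫ Limits.Sigma.desc ψ =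
          ψ j := Limits.Sigma.ι_desc ψ j
      rw [h1, h2]
      exact IsPullback.of_hasPullback _ _
  let iso := (Limits.coproductIsCoproduct
    (fun j => Limits.pullback o (ψ j))).coconePointUniqueUpToIso hc'
  have e : Limits.Sigma.desc (fun j => Limits.pullback.fst o (ψ j)) =
      iso.hom ≫ Limits.pullback.fst o (Limits.Sigma.desc ψ) := by
    apply Limits.Sigma.hom_ext
    intro j
    rw [Limits.Sigma.ι_desc, ← Category.assoc]
    have h3 : Limits.Sigma.ι (fun j => Limits.pullback o (ψ j)) j ≫ iso.hom = ι' j :=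
      Limits.IsColimit.comp_coconePointUniqueUpToIso_hom
        (Limits.coproductIsCoproduct _) hc' ⟨j⟩
    rw [h3, hfst]
  rw [e]
  exact (C.cancel_left_of_respectsIso _ _).2
    (C.of_isPullback (IsPullback.of_hasPullback o (Limits.Sigma.desc ψ)).flip h)

theorem kcov_pullback (X Y : Over S) (h : Y ⟶ X) (R : Sieve X) (hR : KCov C X R) :
    KCov C Y (R.pullback h) := by
  obtain ⟨ι, U, hUa, hU, hd⟩ := hR
  refine ⟨{p : Y.left.affineOpens × ι // (p.1.1 : Y.left.Opens) ≤ h.left ⁻¹ᵁ U p.2},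
    fun p => p.1.1.1, fun p => p.1.1.2, ?_, ?_⟩
  · rw [eq_top_iff]
    intro y _
    have hx : h.left y ∈ (⨆ i, U i : X.left.Opens) := by rw [hU]; trivial
    obtain ⟨i, hi⟩ := Opens.mem_iSup.1 hx
    obtain ⟨W, hW, hyW, hsub⟩ := exists_isAffineOpen_mem_and_subset (x := y)
      (U := h.left ⁻¹ᵁ U i) hi
    exact Opens.mem_iSup.2 ⟨⟨(⟨W, hW⟩, i), hsub⟩, hyW⟩
  · rintro ⟨⟨⟨O, hOa⟩, i⟩, hle⟩
    haveI : IsAffine (O : Scheme.{u}) := hOa
    haveI : IsAffine (U i : Scheme.{u}) := hUa i
    obtain ⟨κ, hκ, V, φ, ψ, hV, hRφ, hψ, hC⟩ := hd i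
    have hrange : Set.range (O.ι ≫ h.left) ⊆ Set.range (U i).ι := by
      rw [Scheme.Opens.range_ι]
      rintro _ ⟨p, rfl⟩
      rw [Scheme.Hom.comp_apply]
      apply hle
      have := Set.mem_range_self (f := O.ι) p
      rwa [Scheme.Opens.range_ι] at this
    obtain ⟨o, ho⟩ : ∃ o : (O : Scheme.{u}) ⟶ (U i : Scheme.{u}),
        o ≫ (U i).ι = O.ι ≫ h.left :=
      ⟨IsOpenImmersion.lift (U i).ι (O.ι ≫ h.left) hrange, IsOpenImmersion.lift_fac _ _ _⟩
    have hVX : ∀ j, (V j).hom = ψ j ≫ (U i).ι ≫ X.hom := fun j => by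
      rw [← Category.assoc, hψ j]
      exact (Over.w (φ j)).symm
    have hYX : Y.hom = h.left ≫ X.hom := (Over.w h).symm
    refine ⟨κ, hκ, fun j => Over.mk ((Limits.pullback.fst o (ψ j) ≫ O.ι) ≫ Y.hom),
      fun j => (Over.homMk (Limits.pullback.fst o (ψ j) ≫ O.ι) rfl :
        Over.mk ((Limits.pullback.fst o (ψ j) ≫ O.ι) ≫ Y.hom) ⟶ Y),
      fun j => Limits.pullback.fst o (ψ j), fun j => ?_, fun j => ?_, fun j => rfl,
      C_sigma_pullback (fun j => (V j).left) ψ o hC⟩
    · haveI := hV j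
      show IsAffine (Limits.pullback o (ψ j))
      infer_instance
    · show R ((Over.homMk (Limits.pullback.fst o (ψ j) ≫ O.ι) rfl :
        Over.mk ((Limits.pullback.fst o (ψ j) ≫ O.ι) ≫ Y.hom) ⟶ Y) ≫ h)
      have e : ((Over.homMk (Limits.pullback.fst o (ψ j) ≫ O.ι) rfl :
          Over.mk ((Limits.pullback.fst o (ψ j) ≫ O.ι) ≫ Y.hom) ⟶ Y) ≫ h :
          Over.mk ((Limits.pullback.fst o (ψ j) ≫ O.ι) ≫ Y.hom) ⟶ X) =
          (Over.homMk (Limits.pullback.snd o (ψ j)) (by
            show Limits.pullback.snd o (ψ j) ≫ (V j).hom =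
              (Limits.pullback.fst o (ψ j) ≫ O.ι) ≫ Y.hom
            rw [hVX j, hYX, Category.assoc, ← Category.assoc O.ι, ← ho, Category.assoc,
              ← Category.assoc (Limits.pullback.fst o (ψ j)), Limits.pullback.condition,
              Category.assoc]) :
            Over.mk ((Limits.pullback.fst o (ψ j) ≫ O.ι) ≫ Y.hom) ⟶ V j) ≫ φ j := by
        apply Over.OverMorphism.ext
        show (Limits.pullback.fst o (ψ j) ≫ O.ι) ≫ h.left =
          Limits.pullback.snd o (ψ j) ≫ (φ j).left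
        rw [Category.assoc, ← ho, ← hψ j, ← Category.assoc, ← Category.assoc,
          Limits.pullback.condition]
      rw [e]
      exact R.downward_closed (hRφ j) _

theorem kcov_transitive
    (hcoprod : ∀ (κ : Type u) [Finite κ] (A B : κ → Scheme.{u}) (f : ∀ j, A j ⟶ B j),
      (∀ j, C (f j)) → C (Limits.Sigma.map f))
    (haff : ∀ (U : Scheme.{u}) [IsAffine U] (κ : Type u) [Finite κ] (V : κ → U.Opens),
      (∀ j, IsAffineOpen (V j)) → ⨆ j, V j = ⊤ → C (Limits.Sigma.desc fun j => (V j).ι))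
    (X : Over S) (Sv R : Sieve X) (hS : KCov C X Sv)
    (hR : ∀ ⦃Y : Over S⦄ ⦃f : Y ⟶ X⦄, Sv f → KCov C Y (R.pullback f)) : KCov C X R := by
  obtain ⟨ι, U, hUa, hU, hd⟩ := hS
  refine ⟨ι, U, hUa, hU, fun i => ?_⟩
  obtain ⟨κ, hκ, V, φ, ψ, hV, hSφ, hψ, hC⟩ := hd i
  have key : ∀ j : κ, ∃ (lam : Type u) (_ : Finite lam) (W : lam → Over S)
      (φ' : ∀ b, W b ⟶ V j), (∀ b, IsAffine (W b).left) ∧ (∀ b, R (φ' b ≫ φ j)) ∧
        C (Limits.Sigma.desc fun b => (φ' b).left) := by
    intro j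
    haveI := hV j
    obtain ⟨ι', U', hU'a, hU', hd'⟩ := hR (hSφ j)
    obtain ⟨t, ht⟩ := isCompact_univ.elim_finite_subcover
      (fun a => (U' a : Set (V j).left)) (fun a => (U' a).isOpen)
      (fun y _ => by
        have hy : y ∈ (⨆ a, U' a : (V j).left.Opens) := by rw [hU']; trivial
        obtain ⟨a, ha⟩ := Opens.mem_iSup.1 hy
        exact Set.mem_iUnion.2 ⟨a, ha⟩)
    have hcov : ⨆ a : t, U' a.1 = ⊤ := by
      rw [eq_top_iff]
      intro y _
      obtain ⟨a, ha, hy⟩ := Set.mem_iUnion₂.1 (ht (Set.mem_univ y))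
      exact Opens.mem_iSup.2 ⟨⟨a, ha⟩, hy⟩
    choose lam' hlam' W' φ'' ψ' hW' hR' hψ' hC' using hd'
    haveI := fun a : t => hlam' a.1
    refine ⟨Σ a : t, lam' a.1, inferInstance, fun p : Σ a : t, lam' a.1 => W' p.1.1 p.2,
      fun p : Σ a : t, lam' a.1 => φ'' p.1.1 p.2,
      fun p => hW' _ _, fun p => hR' _ _, ?_⟩
    have e : (fun p : Σ a : t, lam' a.1 => (φ'' p.1.1 p.2).left) =
        fun p : Σ a : t, lam' a.1 => ψ' p.1.1 p.2 ≫ (U' p.1.1).ι := by
      funext p
      exact (hψ' _ _).symm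
    rw [e]
    exact C_sigma_two_level hcoprod (fun a : t => lam' a.1) (fun a b => (W' a.1 b).left)
      (fun a : t => (U' a.1 : Scheme.{u})) (fun a b => ψ' a.1 b) (fun a => (U' a.1).ι)
      (fun a => hC' a.1) (haff (V j).left t (fun a => U' a.1) (fun a => hU'a a.1) hcov)
  choose lam hlam W φ' hW hRW hCW using key
  haveI := hlam
  refine ⟨Σ j : κ, lam j, inferInstance, fun p : Σ j : κ, lam j => W p.1 p.2,
    fun p : Σ j : κ, lam j => φ' p.1 p.2 ≫ φ p.1,
    fun p : Σ j : κ, lam j => (φ' p.1 p.2).left ≫ ψ p.1, fun p => hW _ _, fun p => hRW _ _,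
    fun p => ?_, ?_⟩
  · show ((φ' p.1 p.2).left ≫ ψ p.1) ≫ (U i).ι = (φ' p.1 p.2).left ≫ (φ p.1).left
    rw [Category.assoc, hψ]
  · exact C_sigma_two_level hcoprod lam (fun j b => (W j b).left) (fun j => (V j).left)
      (fun j b => (φ' j b).left) ψ hCW hC

end

/-- Fix a scheme S and a class C of quasi-compact morphisms of schemes which is stable under composition
and base change, closed under finite coproducts, and contains ∐_j V_j → U for every finite affine
open cover (V_j) of an affine scheme U. Declare a sieve R on an S-scheme X to be covering when X has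
an affine open cover (U_i) such that for every i there are finitely many affine S-schemes V_j and
S-morphisms V_j → X in R factoring through U_i with the induced morphism ∐_j V_j → U_i in C. Then
there is a Grothendieck topology on S-schemes whose covering sieves are exactly these. (The
published statement also allows a local property of S-schemes preserved by the class and works on
the S-schemes having it, takes a class of morphisms of S-schemes, and says that covering may
equivalently be tested with arbitrary rather than affine opens and schemes; this row takes no such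
property and a class of morphisms of schemes, and defines covering sieves through affine opens and
affine schemes only.) -/
theorem result (S : Scheme.{u})
    (C : MorphismProperty Scheme.{u}) [C.IsStableUnderComposition] [C.IsStableUnderBaseChange]
    (hqc : ∀ {A B : Scheme.{u}} (f : A ⟶ B), C f → QuasiCompact f)
    (hcoprod : ∀ (κ : Type u) [Finite κ] (A B : κ → Scheme.{u}) (f : ∀ j, A j ⟶ B j),
      (∀ j, C (f j)) → C (Limits.Sigma.map f))
    (haff : ∀ (U : Scheme.{u}) [IsAffine U] (κ : Type u) [Finite κ] (V : κ → U.Opens),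
      (∀ j, IsAffineOpen (V j)) → ⨆ j, V j = ⊤ → C (Limits.Sigma.desc fun j => (V j).ι)) :
    ∃ J : GrothendieckTopology (Over S), ∀ (X : Over S) (R : Sieve X), R ∈ J X ↔
      ∃ (ι : Type u) (U : ι → X.left.Opens), (∀ i, IsAffineOpen (U i)) ∧ ⨆ i, U i = ⊤ ∧
        ∀ i, ∃ (κ : Type u) (_ : Finite κ) (V : κ → Over S) (φ : ∀ j, V j ⟶ X)
          (ψ : ∀ j, (V j).left ⟶ (U i : Scheme.{u})),
          (∀ j, IsAffine (V j).left) ∧ (∀ j, R.arrows (φ j)) ∧ (∀ j, ψ j ≫ (U i).ι = (φ j).left) ∧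
            C (Limits.Sigma.desc ψ) := by
  refine ⟨{ sieves := fun X => {R | KCov C X R}
            top_mem' := fun X => kcov_top haff X
            pullback_stable' := fun X Y R f hR => kcov_pullback X Y f R hR
            transitive' := fun X Sv hS R hR => kcov_transitive hcoprod haff X Sv R hS hR },
    fun X R => Iff.rfl⟩

end Groth.Agent.S14463
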