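import Groth.Statements.S14465
import Mathlib

set_option autoImplicit false
universe v u
open CategoryTheory CategoryTheory.Limits AlgebraicGeometry
open BigSite

namespace Groth.Agent.S14465

open Opposite TopologicalSpace

set_option backward.isDefEq.respectTransparency false

section
variable {S : Scheme.{u}}

/-- The big Zariski topology on schemes over `S`. -/
abbrev zarO (S : Scheme.{u}) : GrothendieckTopology (Over S) := Scheme.zariskiTopology.over S

theorem zarO_mem_iff (X : Over S) (R : Sieve X) :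
    R ∈ zarO S X ↔ ∀ x : X.left, ∃ (Y : Over S) (g : Y ⟶ X) (y : Y.left),
      R g ∧ IsOpenImmersion g.left ∧ g.left y = x := by
  constructor
  · intro hR x
    obtain ⟨𝒰, h𝒰, hle⟩ := (Scheme.mem_overGrothendieckTopology _ X R).1 hR
    obtain ⟨a, y, hy⟩ := 𝒰.exists_eq x
    exact ⟨(𝒰.X a).asOver S, (𝒰.f a).asOver S, y, hle _ _ ⟨a⟩, 𝒰.map_prop a, hy⟩
  · intro h
    rw [GrothendieckTopology.mem_over_iff, Scheme.mem_grothendieckTopology_iff]
    choose Yf g y hR hO hy using h
    refine ⟨{ I₀ := X.left, X := fun x => (Yf x).left, f := fun x => (g x).left, mem₀ := ?_ }, ?_⟩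
    · rw [Scheme.ofArrows_mem_precoverage_iff]
      exact ⟨fun x => ⟨x, y x, hy x⟩, hO⟩
    · rintro _ _ ⟨x⟩
      refine (Sieve.overEquiv_iff _ _).2 ?_
      have e : (Over.homMk (g x).left : Over.mk ((g x).left ≫ X.hom) ⟶ X) =
          (Over.homMk (𝟙 _) (by simp) : Over.mk ((g x).left ≫ X.hom) ⟶ Yf x) ≫ g x := by
        ext; simp
      rw [e]
      exact R.downward_closed (hR x) _

/-- Restriction to an open, as an object over `S`. -/
noncomputable def resO (X : Over S) (O : X.left.Opens) : Over S := Over.mk (O.ι ≫ X.hom)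

noncomputable def resOι (X : Over S) (O : X.left.Opens) : resO X O ⟶ X := Over.homMk O.ι rfl

theorem opens_cover_mem_zarO (X : Over S) {ι : Type u} (U : ι → X.left.Opens)
    (hU : ⨆ i, U i = ⊤) :
    Sieve.ofArrows (fun i => resO X (U i)) (fun i => resOι X (U i)) ∈ zarO S X := by
  rw [zarO_mem_iff]
  intro x
  have hx : x ∈ (⨆ i, U i : X.left.Opens) := by rw [hU]; trivial
  obtain ⟨i, hi⟩ := TopologicalSpace.Opens.mem_iSup.1 hx
  refine ⟨resO X (U i), resOι X (U i), ⟨x, hi⟩, Sieve.ofArrows_mk _ _ i, ?_, rfl⟩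
  show IsOpenImmersion (U i).ι
  infer_instance

noncomputable def liftO {X : Over S} {O : X.left.Opens} {V : Over S} (φ : V ⟶ X)
    (ψ : V.left ⟶ (O : Scheme.{u})) (h : ψ ≫ O.ι = φ.left) : V ⟶ resO X O :=
  Over.homMk ψ (by
    show ψ ≫ O.ι ≫ X.hom = V.hom
    rw [← Category.assoc, h]
    exact Over.w φ)

theorem liftO_ι {X : Over S} {O : X.left.Opens} {V : Over S} (φ : V ⟶ X)
    (ψ : V.left ⟶ (O : Scheme.{u})) (h : ψ ≫ O.ι = φ.left) :
    liftO φ ψ h ≫ resOι X O = φ :=
  Over.OverMorphism.ext h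

section Sigma

variable {κ : Type u} (V : κ → Over S)

noncomputable def sigO : Over S := Over.mk (Sigma.desc (fun j => (V j).hom))

noncomputable def sigOι (j : κ) : V j ⟶ sigO V :=
  Over.homMk (Sigma.ι (fun j => (V j).left) j) (Sigma.ι_desc (fun j => (V j).hom) j)

noncomputable def sigODesc {W : Over S} (f : ∀ j, V j ⟶ W) : sigO V ⟶ W :=
  Over.homMk (Sigma.desc (fun j => (f j).left)) (by
    apply Sigma.hom_ext
    intro j
    rw [Sigma.ι_desc_assoc]
    show (f j).left ≫ W.hom = Sigma.ι _ j ≫ Sigma.desc (fun j => (V j).hom)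
    rw [Sigma.ι_desc]
    exact Over.w (f j))

theorem sigOι_desc {W : Over S} (f : ∀ j, V j ⟶ W) (j : κ) :
    sigOι V j ≫ sigODesc V f = f j :=
  Over.OverMorphism.ext (Sigma.ι_desc (fun j => (f j).left) j)

theorem sigOι_mem_zarO : Sieve.ofArrows V (sigOι V) ∈ zarO S (sigO V) := by
  rw [zarO_mem_iff]
  intro x
  obtain ⟨j, y, hy⟩ := (sigmaOpenCover (fun j => (V j).left)).exists_eq x
  refine ⟨V j, sigOι V j, y, Sieve.ofArrows_mk _ _ j, ?_, hy⟩
  show IsOpenImmersion (Sigma.ι (fun j => (V j).left) j)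
  infer_instance

end Sigma

/-- Finite affine covering data over one open. -/
def LocData (C : MorphismProperty Scheme.{u}) (X : Over S) (R : Sieve X) (O : X.left.Opens) :
    Prop :=
  ∃ (κ : Type u) (_ : Finite κ) (V : κ → Over S) (φ : ∀ j, V j ⟶ X)
    (ψ : ∀ j, (V j).left ⟶ (O : Scheme.{u})),
    (∀ j, IsAffine (V j).left) ∧ (∀ j, R.arrows (φ j)) ∧ (∀ j, ψ j ≫ O.ι = (φ j).left) ∧
      C (Limits.Sigma.desc ψ)

variable {C : MorphismProperty Scheme.{u}} [C.IsStableUnderComposition]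
  [C.IsStableUnderBaseChange] {J : GrothendieckTopology (Over S)}
  (F : (Over S)ᵒᵖ ⥤ Type v)
  (hz : Presieve.IsSheaf (zarO S) F)
  (hc : ∀ (X X' : Over S) (f : X' ⟶ X), C f.left →
    Presieve.IsSheafFor F (Presieve.singleton f))
  (hJ : ∀ (X : Over S) (R : Sieve X), R ∈ J X ↔
      ∃ (ι : Type u) (U : ι → X.left.Opens), (∀ i, IsAffineOpen (U i)) ∧ ⨆ i, U i = ⊤ ∧
        ∀ i, LocData C X R (U i))

include hz hc in
theorem stepA (W : Over S) {κ : Type u} (V : κ → Over S) (f : ∀ j, V j ⟶ W)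
    (hC : C (Limits.Sigma.desc fun j => (f j).left)) :
    Presieve.IsSheafFor F (Sieve.ofArrows V f).arrows := by
  have h1 : Presieve.IsSheafFor F
      (Sieve.generate (Presieve.singleton (sigODesc V f))).arrows :=
    (Presieve.isSheafFor_iff_generate _).1 (hc W (sigO V) (sigODesc V f) hC)
  refine Presieve.isSheafFor_trans F (Sieve.generate (Presieve.singleton (sigODesc V f)))
    (Sieve.ofArrows V f) h1 ?_ ?_
  · intro Y g hg
    have hmem : (Sieve.generate (Presieve.singleton (sigODesc V f))) g := by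
      obtain ⟨j, k, rfl⟩ := (Sieve.mem_ofArrows_iff _ _ g).1 hg
      exact ⟨sigO V, k ≫ sigOι V j, sigODesc V f, Presieve.singleton.mk,
        by rw [Category.assoc, sigOι_desc]⟩
    rw [Sieve.pullback_eq_top_of_mem _ hmem]
    exact Presieve.isSeparatedFor_top F
  · intro Y g hg
    obtain ⟨Z, k, _, ⟨⟩, rfl⟩ := hg
    apply hz
    refine (zarO S).superset_covering ?_
      ((zarO S).pullback_stable k (sigOι_mem_zarO V))
    intro T m hm
    obtain ⟨j, k', hk'⟩ := (Sieve.mem_ofArrows_iff _ _ (m ≫ k)).1 hm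
    show (Sieve.ofArrows V f) (m ≫ k ≫ sigODesc V f)
    refine (Sieve.mem_ofArrows_iff _ _ _).2 ⟨j, k', ?_⟩
    rw [← sigOι_desc V f j, ← Category.assoc k', ← hk', Category.assoc]

include hz hc in
theorem sep_of_locData (X : Over S) (R : Sieve X) {ι : Type u} (U : ι → X.left.Opens)
    (hU : ⨆ i, U i = ⊤) (hd : ∀ i, LocData C X R (U i)) :
    Presieve.IsSeparatedFor F R.arrows := by
  intro x t₁ t₂ h₁ h₂
  have hsepZ := (hz _ (opens_cover_mem_zarO X U hU)).isSeparatedFor
  refine hsepZ.ext ?_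
  intro T m hm
  obtain ⟨i, k, rfl⟩ := (Sieve.mem_ofArrows_iff _ _ m).1 hm
  rw [op_comp, FunctorToTypes.map_comp_apply, FunctorToTypes.map_comp_apply]
  refine congrArg _ ?_
  obtain ⟨κ, _, V, φ, ψ, _, hR, hψ, hC⟩ := hd i
  have h3 := (stepA F hz hc (resO X (U i)) V
    (fun j => liftO (φ j) (ψ j) (hψ j)) hC).isSeparatedFor
  refine h3.ext ?_
  intro T' m' hm'
  obtain ⟨j, k', rfl⟩ := (Sieve.mem_ofArrows_iff _ _ m').1 hm'
  have key : ∀ t, x.IsAmalgamation t →
      F.map (liftO (φ j) (ψ j) (hψ j)).op (F.map (resOι X (U i)).op t) =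
        x (φ j) (hR j) := by
    intro t ht
    rw [← ht (φ j) (hR j), ← FunctorToTypes.map_comp_apply, ← op_comp, liftO_ι]
  rw [op_comp, FunctorToTypes.map_comp_apply, FunctorToTypes.map_comp_apply,
    key t₁ h₁, key t₂ h₂]

include hz hc hJ in
theorem sheaf_of_locData_pullback (X : Over S) (R : Sieve X) (O : X.left.Opens)
    (hO : IsAffineOpen O) (hd : LocData C X R O) :
    Presieve.IsSheafFor F (R.pullback (resOι X O)).arrows := by
  obtain ⟨κ, hκ, V, φ, ψ, hV, hR, hψ, hC⟩ := hd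
  refine Presieve.isSheafFor_subsieve_aux F
    (S := Sieve.ofArrows V (fun j => liftO (φ j) (ψ j) (hψ j))) ?_
    (stepA F hz hc (resO X O) V _ hC) ?_
  · intro T m hm
    obtain ⟨j, k, rfl⟩ := (Sieve.mem_ofArrows_iff _ _ m).1 hm
    show R ((k ≫ liftO (φ j) (ψ j) (hψ j)) ≫ resOι X O)
    rw [Category.assoc, liftO_ι]
    exact R.downward_closed (hR j) k
  · intro T m _
    have hmem : Sieve.ofArrows V (fun j => liftO (φ j) (ψ j) (hψ j)) ∈ J (resO X O) := by
      rw [hJ]
      haveI : IsAffine (resO X O).left := hO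
      refine ⟨PUnit.{u + 1}, fun _ => ⊤, fun _ => isAffineOpen_top _, iSup_const, fun _ => ?_⟩
      refine ⟨κ, hκ, V, fun j => liftO (φ j) (ψ j) (hψ j),
        fun j => ψ j ≫ (Scheme.topIso (O : Scheme.{u})).inv, hV,
        fun j => Sieve.ofArrows_mk _ _ j, fun j => ?_, ?_⟩
      · show (ψ j ≫ (Scheme.topIso (O : Scheme.{u})).inv) ≫
          (⊤ : (O : Scheme.{u}).Opens).ι = ψ j
        rw [Category.assoc, Scheme.toIso_inv_ι, Category.comp_id]
      · have e : Limits.Sigma.desc (fun j => ψ j ≫ (Scheme.topIso (O : Scheme.{u})).inv) =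
            Limits.Sigma.desc ψ ≫ (Scheme.topIso (O : Scheme.{u})).inv := by
          apply Limits.Sigma.hom_ext
          intro j
          rw [Limits.Sigma.ι_desc, Limits.Sigma.ι_desc_assoc]
        rw [e]
        exact (C.cancel_right_of_respectsIso _ _).2 hC
    obtain ⟨ι', U', _, hU', hd'⟩ := (hJ _ _).1 (J.pullback_stable m hmem)
    exact sep_of_locData F hz hc _ _ U' hU' hd'

/-- The pre-0-hypercover given by a family of opens. -/
noncomputable def openE₀ (X : Over S) {ι : Type u} (U : ι → X.left.Opens) :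
    PreZeroHypercover.{u} X where
  I₀ := ι
  X i := resO X (U i)
  f i := resOι X (U i)

/-- The Zariski 1-hypercover given by an open cover. -/
noncomputable def openE (X : Over S) {ι : Type u} (U : ι → X.left.Opens)
    (hU : ⨆ i, U i = ⊤) : (zarO S).OneHypercover X :=
  GrothendieckTopology.OneHypercover.mk' (openE₀ X U).toPreOneHypercover
    (opens_cover_mem_zarO X U hU)
    (fun i j => by
      rw [sieve₁'_toPreOneHypercover_eq_top]
      exact (zarO S).top_mem _)

include hz hc hJ in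
theorem sheaf_of_mem_J (X : Over S) (R : Sieve X) (hR : R ∈ J X) :
    Presieve.IsSheafFor F R.arrows := by
  obtain ⟨ι, U, hUa, hU, hd⟩ := (hJ X R).1 hR
  refine (openE X U hU).isSheafFor_sieve_of_pullback hz ?_ ?_
  · intro i
    exact sheaf_of_locData_pullback F hz hc hJ X R (U i) (hUa i) (hd i)
  · intro i j k
    obtain ⟨ι', U', _, hU', hd'⟩ := (hJ _ _).1
      (J.pullback_stable ((openE X U hU).p₁ k ≫ (openE X U hU).f i) hR)
    exact sep_of_locData F hz hc _ _ U' hU' hd'

include hJ in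
theorem zarO_le_J
    (haff : ∀ (U : Scheme.{u}) [IsAffine U] (κ : Type u) [Finite κ] (V : κ → U.Opens),
      (∀ j, IsAffineOpen (V j)) → ⨆ j, V j = ⊤ → C (Limits.Sigma.desc fun j => (V j).ι)) :
    zarO S ≤ J := by
  intro X R hR
  rw [hJ]
  have h := (zarO_mem_iff X R).1 hR
  choose Y g y hRg hO hy using h
  refine ⟨{O : X.left.affineOpens // ∃ x, (O.1 : Set X.left) ⊆ Set.range (g x).left},
    fun O => O.1.1, fun O => O.1.2, ?_, ?_⟩
  · rw [eq_top_iff]
    intro x _
    haveI := hO x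
    obtain ⟨W, hW, hxW, hsub⟩ := exists_isAffineOpen_mem_and_subset (x := x)
      (U := (g x).left.opensRange) ⟨y x, hy x⟩
    exact TopologicalSpace.Opens.mem_iSup.2 ⟨⟨⟨W, hW⟩, x, hsub⟩, hxW⟩
  · rintro ⟨⟨O, hOa⟩, x, hsub⟩
    haveI : IsAffine (O : Scheme.{u}) := hOa
    haveI := hO x
    have hrange : Set.range ((⊤ : (O : Scheme.{u}).Opens).ι ≫ O.ι) ⊆ Set.range (g x).left := by
      rintro _ ⟨p, rfl⟩
      rw [Scheme.Hom.comp_apply]
      apply hsub
      have := Set.mem_range_self (f := O.ι) ((⊤ : (O : Scheme.{u}).Opens).ι p)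
      rwa [Scheme.Opens.range_ι] at this
    have hfac : IsOpenImmersion.lift (g x).left ((⊤ : (O : Scheme.{u}).Opens).ι ≫ O.ι) hrange ≫
        (g x).left = (⊤ : (O : Scheme.{u}).Opens).ι ≫ O.ι := IsOpenImmersion.lift_fac _ _ _
    refine ⟨PUnit.{u + 1}, inferInstance,
      fun _ => Over.mk (((⊤ : (O : Scheme.{u}).Opens).ι ≫ O.ι) ≫ X.hom),
      fun _ => Over.homMk ((⊤ : (O : Scheme.{u}).Opens).ι ≫ O.ι) rfl,
      fun _ => (⊤ : (O : Scheme.{u}).Opens).ι,
      fun _ => isAffineOpen_top _, fun _ => ?_, fun _ => rfl,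
      haff (O : Scheme.{u}) PUnit.{u + 1} (fun _ => ⊤) (fun _ => isAffineOpen_top _) iSup_const⟩
    have e : (Over.homMk ((⊤ : (O : Scheme.{u}).Opens).ι ≫ O.ι) rfl :
        Over.mk (((⊤ : (O : Scheme.{u}).Opens).ι ≫ O.ι) ≫ X.hom) ⟶ X) =
        (Over.homMk (IsOpenImmersion.lift (g x).left
          ((⊤ : (O : Scheme.{u}).Opens).ι ≫ O.ι) hrange) (by
            show _ ≫ (Y x).hom = ((⊤ : (O : Scheme.{u}).Opens).ι ≫ O.ι) ≫ X.hom
            rw [← Over.w (g x), ← Category.assoc, hfac]) :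
          Over.mk (((⊤ : (O : Scheme.{u}).Opens).ι ≫ O.ι) ≫ X.hom) ⟶ Y x) ≫ g x := by
      apply Over.OverMorphism.ext
      exact hfac.symm
    beta_reduce
    rw [e]
    exact R.downward_closed (hRg x) _

include hJ in
theorem singleton_mem_J
    (hqc : ∀ {A B : Scheme.{u}} (f : A ⟶ B), C f → QuasiCompact f)
    (hres : ∀ (W X' : Scheme.{u}) [IsAffine W] (f : X' ⟶ W), C f →
      ∀ (κ : Type u) [Finite κ] (A : κ → X'.Opens), (∀ l, IsAffineOpen (A l)) → ⨆ l, A l = ⊤ →
        C (Limits.Sigma.desc fun l => (A l).ι ≫ f))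
    (X X' : Over S) (f : X' ⟶ X) (hf : C f.left) :
    Sieve.generate (Presieve.singleton f) ∈ J X := by
  rw [hJ]
  refine ⟨X.left.affineOpens, fun O => O.1, fun O => O.2, iSup_affineOpens_eq_top X.left,
    fun O => ?_⟩
  haveI : IsAffine (O.1 : Scheme.{u}) := O.2
  have hfO : C (f.left ∣_ O.1) :=
    C.of_isPullback (isPullback_morphismRestrict f.left O.1).flip hf
  haveI : QuasiCompact (f.left ∣_ O.1) := hqc _ hfO
  haveI : CompactSpace (f.left ⁻¹ᵁ O.1 : Scheme.{u}) :=
    QuasiCompact.compactSpace_of_compactSpace (f.left ∣_ O.1)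
  have h2 : ∀ p : (f.left ⁻¹ᵁ O.1 : Scheme.{u}), ∃ A : (f.left ⁻¹ᵁ O.1 : Scheme.{u}).Opens,
      IsAffineOpen A ∧ p ∈ A := fun p => by
    obtain ⟨A, hA, hp, -⟩ := exists_isAffineOpen_mem_and_subset (x := p)
      (U := (⊤ : (f.left ⁻¹ᵁ O.1 : Scheme.{u}).Opens)) trivial
    exact ⟨A, hA, hp⟩
  choose A hA hpA using h2
  obtain ⟨t, ht⟩ := isCompact_univ.elim_finite_subcover
    (fun p => (A p : Set (f.left ⁻¹ᵁ O.1 : Scheme.{u})))
    (fun p => (A p).isOpen) (fun p _ => Set.mem_iUnion.2 ⟨p, hpA p⟩)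
  have hcov : ⨆ l : t, A l.1 = ⊤ := by
    rw [eq_top_iff]
    intro p _
    obtain ⟨q, hq, hp⟩ := Set.mem_iUnion₂.1 (ht (Set.mem_univ p))
    exact TopologicalSpace.Opens.mem_iSup.2 ⟨⟨q, hq⟩, hp⟩
  have hC := hres (O.1 : Scheme.{u}) (f.left ⁻¹ᵁ O.1 : Scheme.{u}) (f.left ∣_ O.1) hfO t
    (fun l => A l.1) (fun l => hA l.1) hcov
  refine ⟨t, inferInstance,
    fun l => Over.mk (((A l.1).ι ≫ (f.left ⁻¹ᵁ O.1).ι) ≫ X'.hom),
    fun l => Over.homMk ((A l.1).ι ≫ (f.left ⁻¹ᵁ O.1).ι) rfl ≫ f,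
    fun l => (A l.1).ι ≫ (f.left ∣_ O.1), fun l => hA l.1, fun l => ?_, fun l => ?_, hC⟩
  · exact ⟨_, _, f, Presieve.singleton.mk, rfl⟩
  · show ((A l.1).ι ≫ (f.left ∣_ O.1)) ≫ O.1.ι = ((A l.1).ι ≫ (f.left ⁻¹ᵁ O.1).ι) ≫ f.left
    rw [Category.assoc, morphismRestrict_ι, Category.assoc]

end

/-- Fix a scheme S and a class C of quasi-compact morphisms of schemes, stable under composition and
base change, closed under finite coproducts, and containing ∐_j V_j → U for every finite affine open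
cover (V_j) of an affine scheme U. Assume moreover that for every morphism f : X' → W in C with W
affine and every finite affine open cover (A_l) of X', the induced morphism ∐_l A_l → W lies in C.
Let J be the Grothendieck topology on S-schemes whose covering sieves are those admitting
affine-local finite C-covering data (an affine open cover (U_i) of X and, for each i, finitely many
affine S-schemes V_j → X in the sieve factoring through U_i with ∐_j V_j → U_i in C). Then a
presheaf of types on S-schemes is a J-sheaf if and only if it is a sheaf for the big Zariski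
topology on S-schemes and satisfies the sheaf condition for every single S-morphism X' → X whose
underlying morphism of schemes lies in C. (The published statement does not assume the hypothesis on
finite affine open covers of the source of a C-morphism with affine target; its proof uses that
hypothesis, through an unproved equivalence between arbitrary and affine covering data, to see that
the sieve generated by a C-morphism is covering. The hypothesis holds for the classes of fpqc
morphisms, of fppf morphisms and of surjective étale quasi-compact morphisms. The published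
statement also allows a local property of S-schemes preserved by the class; this row takes no such
property and a class of morphisms of schemes.) -/
theorem result (S : Scheme.{u})
    (C : MorphismProperty Scheme.{u}) [C.IsStableUnderComposition] [C.IsStableUnderBaseChange]
    (hqc : ∀ {A B : Scheme.{u}} (f : A ⟶ B), C f → QuasiCompact f)
    (hcoprod : ∀ (κ : Type u) [Finite κ] (A B : κ → Scheme.{u}) (f : ∀ j, A j ⟶ B j),
      (∀ j, C (f j)) → C (Limits.Sigma.map f))
    (haff : ∀ (U : Scheme.{u}) [IsAffine U] (κ : Type u) [Finite κ] (V : κ → U.Opens),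
      (∀ j, IsAffineOpen (V j)) → ⨆ j, V j = ⊤ → C (Limits.Sigma.desc fun j => (V j).ι))
    (hres : ∀ (W X' : Scheme.{u}) [IsAffine W] (f : X' ⟶ W), C f →
      ∀ (κ : Type u) [Finite κ] (A : κ → X'.Opens), (∀ l, IsAffineOpen (A l)) → ⨆ l, A l = ⊤ →
        C (Limits.Sigma.desc fun l => (A l).ι ≫ f))
    (J : GrothendieckTopology (Over S))
    (hJ : ∀ (X : Over S) (R : Sieve X), R ∈ J X ↔
      ∃ (ι : Type u) (U : ι → X.left.Opens), (∀ i, IsAffineOpen (U i)) ∧ ⨆ i, U i = ⊤ ∧
        ∀ i, ∃ (κ : Type u) (_ : Finite κ) (V : κ → Over S) (φ : ∀ j, V j ⟶ X)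
          (ψ : ∀ j, (V j).left ⟶ (U i : Scheme.{u})),
          (∀ j, IsAffine (V j).left) ∧ (∀ j, R.arrows (φ j)) ∧ (∀ j, ψ j ≫ (U i).ι = (φ j).left) ∧
            C (Limits.Sigma.desc ψ))
    (F : (Over S)ᵒᵖ ⥤ Type v) :
    Presieve.IsSheaf J F ↔
      (Presieve.IsSheaf (Scheme.zariskiTopology.over S) F ∧
        ∀ (X X' : Over S) (f : X' ⟶ X), C f.left → Presieve.IsSheafFor F (Presieve.singleton f)) := by
  constructor
  · intro hF
    refine ⟨Presieve.isSheaf_of_le F (zarO_le_J hJ haff) hF, ?_⟩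
    intro X X' f hf
    exact hF.isSheafFor _ (singleton_mem_J hJ @hqc hres X X' f hf)
  · rintro ⟨hz, hc⟩ X R hR
    exact sheaf_of_mem_J F hz hc hJ X R hR

end Groth.Agent.S14465
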