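import Groth.Statements.S14471
import Groth.Agent.H17.InvSection
import Groth.Agent.H8.QCohStalk
import Groth.Agent.H1.LSO_LEAD
import Groth.Agent.H73.LSO_LEN
import Groth.Agent.H10.LSO_CNT
import Groth.Agent.H80.LSO_RES
import Groth.Agent.H44.LSO_DVR
import Groth.Agent.H25.LSO_INJ

set_option autoImplicit false
universe u
open CategoryTheory CategoryTheory.Limits AlgebraicGeometry
open Curves

namespace Groth.Agent.S14471

/-- Let k be an algebraically closed field, C a smooth proper curve over k (proper and smooth over k,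
integral, of dimension one), (L, s_0, …, s_r) a linear series g^r_d on C (L an invertible module of
degree d with k-linearly independent global sections s_0, …, s_r spanning a subspace V of Γ(C, L))
and p a closed point of C. For a nonzero σ ∈ V write ord_p σ for the length of the O_{C,p}-module
L_p/(σ_p), the order of vanishing of σ at p. Then σ ↦ ord_p σ takes exactly r + 1 distinct values on
V minus 0. (The published statement is for a smooth projective curve over the complex numbers and a
complex point p; this row states it over any algebraically closed field.) -/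
theorem result (k : Type u) [Field k] [IsAlgClosed k]
    (C : Scheme.{u}) [C.Over (Spec (CommRingCat.of k))] (hC : Curve.IsSmoothProperCurve k C (C ↘ (Spec (CommRingCat.of k))))
    (L : C.Modules) (d r : ℕ) (s : Fin (r + 1) → LinSer.Sect C L) (hL : LinSer.IsLinSer k C L d r s)
    (p : C) (hp : IsClosed ({p} : Set C)) :
    Set.ncard ((fun c : Fin (r + 1) → k =>
        Module.length (C.presheaf.stalk p)
          (↥(L.presheaf.stalk p) ⧸ Submodule.span (C.presheaf.stalk p)
            {(L.presheaf.germ ⊤ p trivial) (∑ i, (Coh.toGlobal (C ↘ Spec (CommRingCat.of k)) (c i)) • s i)})) ''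
        {c : Fin (r + 1) → k | c ≠ 0}) = r + 1 := by
  classical
  obtain ⟨hproper, hsmooth, hint, hdim⟩ := hC
  haveI := hint
  obtain ⟨hdom, hdvr⟩ := Groth.Agent.H44.LSO_DVR.isDVR_stalk k C ⟨hproper, hsmooth, hint, hdim⟩ p hp
  have hι := Groth.Agent.H80.LSO_RES.bijective_residue_toGlobal k C
    ⟨hproper, hsmooth, hint, hdim⟩ p hp
  obtain ⟨b⟩ := Groth.Agent.H17.InvSection.nonempty_basis_stalk_of_isInvertible hL.1 p
  let e : ↥(L.presheaf.stalk p) ≃ₗ[↑(C.presheaf.stalk p)] ↑(C.presheaf.stalk p) :=
    b.equivFun.trans (LinearEquiv.funUnique (Fin 1) ↑(C.presheaf.stalk p) ↑(C.presheaf.stalk p))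
  let ι : k →+* ↑(C.presheaf.stalk p) :=
    (C.presheaf.germ ⊤ p trivial).hom.comp (Coh.toGlobal (C ↘ Spec (CommRingCat.of k)))
  let φ : (Fin (r + 1) → k) → ↥(L.presheaf.stalk p) := fun c =>
    (L.presheaf.germ ⊤ p trivial) (∑ i, (Coh.toGlobal (C ↘ Spec (CommRingCat.of k)) (c i)) • s i)
  have hφadd : ∀ c c', φ (c + c') = φ c + φ c' := by
    intro c c'
    have hsum : (∑ i, (Coh.toGlobal (C ↘ Spec (CommRingCat.of k)) ((c + c') i)) • s i) =
        (∑ i, (Coh.toGlobal (C ↘ Spec (CommRingCat.of k)) (c i)) • s i) +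
          ∑ i, (Coh.toGlobal (C ↘ Spec (CommRingCat.of k)) (c' i)) • s i := by
      rw [← Finset.sum_add_distrib]
      refine Finset.sum_congr rfl fun i _ => ?_
      rw [Pi.add_apply, map_add, add_smul]
    refine (congrArg (fun x => (ConcreteCategory.hom (L.presheaf.germ ⊤ p trivial)) x) hsum).trans ?_
    exact map_add _ _ _
  have hφsmul : ∀ (a : k) c, φ (a • c) = ι a • φ c := by
    intro a c
    show (L.presheaf.germ ⊤ p trivial) _ = ι a • (L.presheaf.germ ⊤ p trivial) _
    have h1 : (∑ i, (Coh.toGlobal (C ↘ Spec (CommRingCat.of k)) ((a • c) i)) • s i) =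
        (Coh.toGlobal (C ↘ Spec (CommRingCat.of k)) a) •
          ∑ i, (Coh.toGlobal (C ↘ Spec (CommRingCat.of k)) (c i)) • s i := by
      rw [Finset.smul_sum]
      refine Finset.sum_congr rfl fun i _ => ?_
      rw [Pi.smul_apply, smul_eq_mul, map_mul, mul_smul]
    refine (congrArg (fun x => (ConcreteCategory.hom (L.presheaf.germ ⊤ p trivial)) x) h1).trans ?_
    exact Groth.Agent.H8.germ_smul L (U := ⊤) p (show p ∈ (⊤ : C.Opens) from trivial) _ _
  have hφinj : ∀ c, φ c = 0 → c = 0 := by
    intro c hc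
    exact hL.2.2 c (Groth.Agent.H25.LSO_INJ.eq_zero_of_germ_eq_zero C L hL.1 p _ hc)
  have hφ0 : φ 0 = 0 := by
    have := hφadd 0 0
    rw [add_zero] at this
    exact left_eq_add.mp this |>.symm ▸ rfl
  have hlen : (fun c : Fin (r + 1) → k =>
        Module.length (C.presheaf.stalk p)
          (↥(L.presheaf.stalk p) ⧸ Submodule.span (C.presheaf.stalk p)
            {(L.presheaf.germ ⊤ p trivial) (∑ i, (Coh.toGlobal (C ↘ Spec (CommRingCat.of k)) (c i)) • s i)})) =
      fun c => IsDiscreteValuationRing.addVal ↑(C.presheaf.stalk p) (e (φ c)) := by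
    funext c
    exact Groth.Agent.H73.LSO_LEN.length_quotient_span_eq_addVal e (φ c)
  rw [hlen]
  have key := Groth.Agent.H10.LSO_CNT.ncard_image_of_valuationLike (k := k)
    (V := Fin (r + 1) → k)
    (fun c => IsDiscreteValuationRing.addVal ↑(C.presheaf.stalk p) (e (φ c))) ?_ ?_ ?_ ?_
  · rw [key, Module.finrank_fin_fun]
  · intro c
    show IsDiscreteValuationRing.addVal ↑(C.presheaf.stalk p) (e (φ c)) = ⊤ ↔ c = 0
    rw [IsDiscreteValuationRing.addVal_eq_top_iff, LinearEquiv.map_eq_zero_iff]
    exact ⟨hφinj c, fun h => h ▸ hφ0⟩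
  · intro c c'
    show min _ _ ≤ IsDiscreteValuationRing.addVal ↑(C.presheaf.stalk p) (e (φ (c + c')))
    rw [hφadd, map_add]
    exact IsDiscreteValuationRing.addVal_add
  · intro a c ha
    show IsDiscreteValuationRing.addVal ↑(C.presheaf.stalk p) (e (φ (a • c))) =
      IsDiscreteValuationRing.addVal ↑(C.presheaf.stalk p) (e (φ c))
    rw [hφsmul, map_smul, smul_eq_mul, IsDiscreteValuationRing.addVal_mul]
    have hu : IsUnit (ι a) := (IsUnit.mk0 a ha).map ι
    have h0 : IsDiscreteValuationRing.addVal ↑(C.presheaf.stalk p) (ι a) = 0 := by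
      have := IsDiscreteValuationRing.addVal_eq_zero_of_unit hu.unit
      rwa [IsUnit.unit_spec] at this
    rw [h0, zero_add]
  · intro c c' hcc' hne
    have hx : e (φ c) ≠ 0 := by
      intro h0
      exact hne (by
        show IsDiscreteValuationRing.addVal ↑(C.presheaf.stalk p) (e (φ c)) = ⊤
        rw [h0]; exact IsDiscreteValuationRing.addVal_zero)
    obtain ⟨a, ha, hlt⟩ := Groth.Agent.H1.LSO_LEAD.exists_lead ι hι (e (φ c)) (e (φ c')) hx hcc'
    refine ⟨a, ha, ?_⟩
    show IsDiscreteValuationRing.addVal ↑(C.presheaf.stalk p) (e (φ c)) <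
      IsDiscreteValuationRing.addVal ↑(C.presheaf.stalk p) (e (φ (c - a • c')))
    have h2 : φ (c - a • c') = φ c - ι a • φ c' := by
      have h3 : φ (c - a • c') + φ (a • c') = φ c := by
        rw [← hφadd, sub_add_cancel]
      rw [← hφsmul]
      exact eq_sub_of_add_eq h3
    rw [h2, map_sub, map_smul, smul_eq_mul]
    exact hlt

end Groth.Agent.S14471
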