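import Groth.Statements.S14477
import Groth.Agent.H76.ExtPowKer
import Groth.Agent.H76.ExtPowBaseChange
-- import your own Groth.Agent.* helpers here

set_option autoImplicit false
universe u
open KaehlerDifferential
open LocInt

namespace Groth.Agent.S14477

open TensorProduct exteriorPower

section general
variable {R : Type u} [CommRing R] {P : Type u} [AddCommGroup P] [Module R P]

/-- For a finite projective module of constant rank `n`, the `(n+1)`-st exterior power vanishes. -/
lemma subsingleton_extPow_succ [Module.Finite R P] [Module.Projective R P] (n : ℕ)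
    (h : ∀ p : PrimeSpectrum R, Module.rankAtStalk P p = n) :
    Subsingleton ↥(⋀[R]^(n + 1) P) := by
  refine Module.subsingleton_of_localization_maximal
    (Mₚ := fun Q _ => Localization.AtPrime Q ⊗[R] ↥(⋀[R]^(n + 1) P))
    (f := fun Q _ => TensorProduct.mk R (Localization.AtPrime Q) ↥(⋀[R]^(n + 1) P) 1)
    (fun Q hQ => ?_)
  have hb := Groth.Agent.H76.extPowBC_bijective R (Localization.AtPrime Q) P (n + 1)
  haveI : Module.Free (Localization.AtPrime Q) (Localization.AtPrime Q ⊗[R] P) :=
    Module.free_of_flat_of_isLocalRing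
  have hr : Module.finrank (Localization.AtPrime Q) (Localization.AtPrime Q ⊗[R] P) = n := by
    have := Module.rankAtStalk_eq_finrank_tensorProduct (M := P) ⟨Q, inferInstance⟩
    rw [h] at this
    exact this.symm
  haveI : Subsingleton ↥(⋀[Localization.AtPrime Q]^(n + 1) (Localization.AtPrime Q ⊗[R] P)) := by
    apply Module.subsingleton_of_rank_zero (R := Localization.AtPrime Q)
    rw [← Module.finrank_eq_rank, exteriorPower.finrank_eq, hr, Nat.choose_succ_self, Nat.cast_zero]
  exact hb.1.subsingleton

/-- Contraction identity: if `⋀ⁿ⁺¹ P = 0`, `ψ : P → R` is a linear form and `π : P → N` kills `v`,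
then `ψ v` kills the wedges `π p₁ ∧ … ∧ π pₙ`. -/
lemma smul_ιMulti_eq_zero {N : Type u} [AddCommGroup N] [Module R N] (n : ℕ)
    (hS : Subsingleton ↥(⋀[R]^(n + 1) P)) (π : P →ₗ[R] N) (v : P) (hv : π v = 0)
    (ψ : P →ₗ[R] R) (p : Fin n → P) :
    ψ v • exteriorPower.ιMulti R n (fun i => π (p i)) = 0 := by
  have h0 : ExteriorAlgebra.ι R v * ExteriorAlgebra.ιMulti R n p = 0 := by
    rw [← Groth.Agent.H76.coe_ιMulti_cons n v p,
      Subsingleton.elim (exteriorPower.ιMulti R (n + 1) (Fin.cons v p : Fin (n + 1) → P)) 0]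
    rfl
  have h1 := CliffordAlgebra.contractLeft_ι_mul (Q := (0 : QuadraticForm R P)) ψ v
    (ExteriorAlgebra.ιMulti R n p)
  have h0' : CliffordAlgebra.ι (0 : QuadraticForm R P) v * ExteriorAlgebra.ιMulti R n p = 0 := h0
  rw [h0', map_zero] at h1
  have h2 : ψ v • ExteriorAlgebra.ιMulti R n p =
      ExteriorAlgebra.ι R v * (CliffordAlgebra.contractLeft ψ (ExteriorAlgebra.ιMulti R n p)) :=
    sub_eq_zero.mp h1.symm
  have h3 := congrArg (ExteriorAlgebra.map π) h2
  rw [map_smul, ExteriorAlgebra.map_apply_ιMulti, map_mul, ExteriorAlgebra.map_apply_ι, hv,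
    map_zero, zero_mul] at h3
  apply Subtype.ext
  rw [Submodule.coe_smul, exteriorPower.ιMulti_apply_coe, Submodule.coe_zero]
  exact h3

/-- The local computation: if `r` times every wedge lies in the span of the wedges `v ∧ b`, then
locally `r` lies in the ideal of values of linear forms at `v`. -/
lemma local_mem [Module.Finite R P] [Module.Projective R P]
    (k : ℕ) (hrank : ∀ p : PrimeSpectrum R, Module.rankAtStalk P p = k + 1)
    (v : P) (J : Ideal R) (hJ : ∀ h : P →ₗ[R] R, h v ∈ J)
    (Q : Ideal R) [Q.IsMaximal] (r : R)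
    (hr : ∀ p : Fin (k + 1) → P, r • exteriorPower.ιMulti R (k + 1) p ∈
        Submodule.span R {x | ∃ ω ∈ ({v} : Set P), ∃ b : Fin k → P, Set.range b ⊆ Set.univ ∧
          x = exteriorPower.ιMulti R (k + 1) (Fin.cons ω b : Fin (k + 1) → P)}) :
    algebraMap R (Localization.AtPrime Q) r ∈
      Ideal.map (algebraMap R (Localization.AtPrime Q)) J := by
  classical
  haveI : Module.Free (Localization.AtPrime Q) (Localization.AtPrime Q ⊗[R] P) :=
    Module.free_of_flat_of_isLocalRing
  have hfr : Module.finrank (Localization.AtPrime Q) (Localization.AtPrime Q ⊗[R] P) = k + 1 := by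
    have := Module.rankAtStalk_eq_finrank_tensorProduct (M := P) ⟨Q, inferInstance⟩
    rw [hrank] at this
    exact this.symm
  let e : Module.Basis (Fin (k + 1)) (Localization.AtPrime Q) (Localization.AtPrime Q ⊗[R] P) :=
    Module.finBasisOfFinrankEq _ _ hfr
  let j : P →ₗ[R] Localization.AtPrime Q ⊗[R] P := TensorProduct.mk R (Localization.AtPrime Q) P 1
  let δ : P [⋀^Fin (k + 1)]→ₗ[R] Localization.AtPrime Q :=
    { (e.det.toMultilinearMap.restrictScalars R).compLinearMap (fun _ => j) with
      map_eq_zero_of_eq' := by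
        intro w i i' hij hne
        exact e.det.map_eq_zero_of_eq (fun i => j (w i)) (by simp [hij]) hne }
  have hδ : ∀ w : Fin (k + 1) → P, δ w = e.det (fun i => j (w i)) := fun w => rfl
  let Δ : ↥(⋀[R]^(k + 1) P) →ₗ[R] Localization.AtPrime Q :=
    exteriorPower.alternatingMapLinearEquiv δ
  have hΔ : ∀ w, Δ (exteriorPower.ιMulti R (k + 1) w) = e.det (fun i => j (w i)) := fun w => by
    rw [exteriorPower.alternatingMapLinearEquiv_apply_ιMulti, hδ]
  obtain ⟨Iq, hIq⟩ : ∃ I, I = Ideal.map (algebraMap R (Localization.AtPrime Q)) J := ⟨_, rfl⟩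
  rw [← hIq]
  -- Claim A
  have hA : ∀ b : Fin k → P, e.det (fun i => j ((Fin.cons v b : Fin (k + 1) → P) i)) ∈ Iq := by
    intro b
    let w : Fin k → Localization.AtPrime Q ⊗[R] P := fun i => j (b i)
    let L : Localization.AtPrime Q ⊗[R] P →ₗ[Localization.AtPrime Q] Localization.AtPrime Q :=
      e.det.toMultilinearMap.toLinearMap
        (Fin.cons 0 w : Fin (k + 1) → Localization.AtPrime Q ⊗[R] P) 0
    have hL : ∀ x, L x =
        e.det (Fin.cons x w : Fin (k + 1) → Localization.AtPrime Q ⊗[R] P) := by
      intro x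
      show e.det (Function.update
        (Fin.cons 0 w : Fin (k + 1) → Localization.AtPrime Q ⊗[R] P) 0 x) = _
      rw [Fin.update_cons_zero]
    have hcons : (fun i => j ((Fin.cons v b : Fin (k + 1) → P) i)) =
        (Fin.cons (j v) w : Fin (k + 1) → Localization.AtPrime Q ⊗[R] P) := by
      funext i
      refine Fin.cases ?_ (fun i' => ?_) i
      · simp
      · simp [w]
    rw [hcons, ← hL]
    haveI : Module.FinitePresentation R P := Module.finitePresentation_of_projective R P
    obtain ⟨h, s, hs⟩ := Module.FinitePresentation.exists_lift_of_isLocalizedModule Q.primeCompl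
      (Algebra.linearMap R (Localization.AtPrime Q)) ((L.restrictScalars R) ∘ₗ j)
    have h1 : algebraMap R (Localization.AtPrime Q) (h v) = s • L (j v) :=
      LinearMap.congr_fun hs v
    have h2 : algebraMap R (Localization.AtPrime Q) (s : R) * L (j v) ∈ Iq := by
      have : algebraMap R (Localization.AtPrime Q) (h v) ∈ Iq := by
        rw [hIq]; exact Ideal.mem_map_of_mem _ (hJ h)
      rw [h1] at this
      rwa [Submonoid.smul_def, Algebra.smul_def] at this
    exact (Ideal.unit_mul_mem_iff_mem Iq (IsLocalization.map_units _ s)).mp h2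
  -- Claim C
  have hsurj : ∀ i, ∃ x : P × Q.primeCompl, x.2 • e i = j x.1 :=
    fun i => IsLocalizedModule.surj Q.primeCompl j (e i)
  choose x hx using hsurj
  have hC : e.det (fun i => j ((x i).1)) =
      ∏ i, algebraMap R (Localization.AtPrime Q) ((x i).2 : R) := by
    have : (fun i => j ((x i).1)) =
        fun i => algebraMap R (Localization.AtPrime Q) ((x i).2 : R) • e i := by
      funext i
      rw [← hx i, Submonoid.smul_def, algebraMap_smul]
    rw [this, AlternatingMap.map_smul_univ, Module.Basis.det_self, smul_eq_mul, mul_one]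
  have hu : IsUnit (∏ i, algebraMap R (Localization.AtPrime Q) ((x i).2 : R)) := by
    refine Finset.prod_induction _ IsUnit (fun _ _ => IsUnit.mul) isUnit_one (fun i _ => ?_)
    exact IsLocalization.map_units _ (x i).2
  have hmem := hr (fun i => (x i).1)
  have hle : Submodule.span R {x | ∃ ω ∈ ({v} : Set P), ∃ b : Fin k → P,
      Set.range b ⊆ Set.univ ∧
        x = exteriorPower.ιMulti R (k + 1) (Fin.cons ω b : Fin (k + 1) → P)} ≤
      (Iq.restrictScalars R).comap Δ := by
    refine Submodule.span_le.2 ?_
    rintro _ ⟨ω, hω, b, -, rfl⟩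
    rw [Set.mem_singleton_iff] at hω
    subst hω
    show Δ _ ∈ Iq
    rw [hΔ]
    exact hA b
  have h3 : Δ (r • exteriorPower.ιMulti R (k + 1) (fun i => (x i).1)) ∈ Iq := hle hmem
  rw [map_smul, hΔ, hC, Algebra.smul_def] at h3
  exact (Ideal.mul_unit_mem_iff_mem Iq hu).mp h3

end general


/-- Let A → B be a smooth ring map with Ω_{B/A} of rank n at every prime of B, g ∈ B a nonzerodivisor
and R = B/gB, a hypersurface of virtual relative dimension n - 1 over A; let J ⊆ R be the
annihilator of the n-th exterior power of Ω_{R/A} and Z = Spec R/J. Then J is the ideal of R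
generated by the classes of the elements φ(dg), φ ranging over the B-linear forms on Ω_{B/A}; where
Ω_{B/A} is free on dt_1, …, dt_n this says that Z is cut out by the partial derivatives ∂g/∂t_1, …,
∂g/∂t_n. In particular every φ(dg) vanishes in R/J; since Ω_{B/A} is finite projective this says
that dg ⊗ 1 = 0 in Ω_{B/A} ⊗_B R/J, i.e. the map from the conormal module gB/g²B ⊗ R/J to Ω_{B/A}
⊗_B R/J induced by d vanishes, and with the cotangent complex of R over A represented by the
two-term complex (gB/g²B → Ω_{B/A} ⊗_B R) this is the statement that the canonical map from L_Z =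
L_1 i^* L_{R/A} to the conormal module restricted to Z is an isomorphism. (The published statement
also asserts that, for a regular immersion of any codimension into a smooth scheme, this map from
L_Z is a locally split injection; that part is not stated here. The published statement is the
isomorphism alone, which amounts to the inclusion of the ideal generated by the φ(dg) in J; this row
states the equality, whose other inclusion is the local description of Z by the partial derivatives
given with the definition of Z.) -/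
theorem result (A B R : Type u) [CommRing A] [CommRing B] [CommRing R]
    [Algebra A B] [Algebra B R] [Algebra A R] [IsScalarTower A B R] [Algebra.Smooth A B] (n : ℕ)
    (hn : ∀ p : PrimeSpectrum B, Module.rankAtStalk (Ω[B⁄A]) p = n)
    (g : B) (hg : IsSMulRegular B g) (hsurj : Function.Surjective (algebraMap B R))
    (hker : RingHom.ker (algebraMap B R) = Ideal.span {g}) :
    (⋀[R]^n (Ω[R⁄A])).annihilator =
      Ideal.span (Set.range fun φ : Ω[B⁄A] →ₗ[B] B => algebraMap B R (φ (KaehlerDifferential.D A B g))) := by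
  classical
  haveI : Module.Finite B (Ω[B⁄A]) := inferInstance
  haveI : Module.Projective B (Ω[B⁄A]) := inferInstance
  obtain ⟨J2, hJ2⟩ : ∃ J, J = Ideal.span (Set.range fun φ : Ω[B⁄A] →ₗ[B] B =>
    algebraMap B R (φ (KaehlerDifferential.D A B g))) := ⟨_, rfl⟩
  rw [← hJ2]
  let π : R ⊗[B] Ω[B⁄A] →ₗ[R] Ω[R⁄A] := KaehlerDifferential.mapBaseChange A B R
  have hπ : Function.Surjective π := KaehlerDifferential.mapBaseChange_surjective A B R hsurj
  let v : R ⊗[B] Ω[B⁄A] := (1 : R) ⊗ₜ[B] KaehlerDifferential.D A B g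
  have hg0 : algebraMap B R g = 0 := by
    have : g ∈ RingHom.ker (algebraMap B R) := by
      rw [hker]; exact Ideal.mem_span_singleton_self g
    exact this
  have hπv : π v = 0 := by
    show KaehlerDifferential.mapBaseChange A B R ((1 : R) ⊗ₜ[B] KaehlerDifferential.D A B g) = 0
    rw [KaehlerDifferential.mapBaseChange_tmul, KaehlerDifferential.map_D, hg0, map_zero,
      smul_zero]
  have htm : ∀ (b : B) (ω : Ω[B⁄A]),
      (1 : R) ⊗ₜ[B] (b • ω) = algebraMap B R b • ((1 : R) ⊗ₜ[B] ω) := by
    intro b ω
    rw [TensorProduct.tmul_smul, TensorProduct.smul_tmul', TensorProduct.smul_tmul',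
      Algebra.smul_def, mul_one, smul_eq_mul, mul_one]
  have hkerπ : LinearMap.ker π ≤ Submodule.span R {v} := by
    intro x hx
    obtain ⟨c, rfl⟩ :=
      (KaehlerDifferential.exact_kerCotangentToTensor_mapBaseChange A B R hsurj x).mp hx
    obtain ⟨⟨y, hy⟩, rfl⟩ := Ideal.toCotangent_surjective _ c
    rw [KaehlerDifferential.kerCotangentToTensor_toCotangent]
    have hy' := hy
    rw [hker, Ideal.mem_span_singleton'] at hy'
    obtain ⟨b, rfl⟩ := hy'
    show (1 : R) ⊗ₜ[B] KaehlerDifferential.D A B (b * g) ∈ _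
    rw [Derivation.leibniz, TensorProduct.tmul_add, htm, htm, hg0, zero_smul, add_zero]
    exact Submodule.smul_mem _ _ (Submodule.mem_span_singleton_self v)
  have hrank : ∀ p : PrimeSpectrum R, Module.rankAtStalk (R ⊗[B] Ω[B⁄A]) p = n := by
    intro p
    rw [Module.rankAtStalk_baseChange]
    exact hn _
  have hB : ∀ h : R ⊗[B] Ω[B⁄A] →ₗ[R] R, h v ∈ J2 := by
    intro h
    obtain ⟨s, hs⟩ := Module.projective_def'.mp (inferInstance : Module.Projective B (Ω[B⁄A]))
    obtain ⟨t, ht⟩ : ∃ t, t = s (KaehlerDifferential.D A B g) := ⟨_, rfl⟩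
    have hdg : KaehlerDifferential.D A B g = ∑ ω ∈ t.support, t ω • ω := by
      have h1 := LinearMap.congr_fun hs (KaehlerDifferential.D A B g)
      rw [LinearMap.comp_apply, ← ht, Finsupp.linearCombination_apply, LinearMap.id_apply] at h1
      rw [← h1]
      rfl
    have hv : v = ∑ ω ∈ t.support, algebraMap B R (t ω) • ((1 : R) ⊗ₜ[B] ω) := by
      show (1 : R) ⊗ₜ[B] KaehlerDifferential.D A B g = _
      conv_lhs => rw [hdg]
      rw [TensorProduct.tmul_sum]
      exact Finset.sum_congr rfl (fun ω _ => htm _ _)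
    rw [hv, map_sum]
    refine Ideal.sum_mem _ (fun ω _ => ?_)
    rw [map_smul, smul_eq_mul, hJ2]
    refine Ideal.mul_mem_right _ _ (Ideal.subset_span ⟨(Finsupp.lapply ω) ∘ₗ s, ?_⟩)
    show algebraMap B R ((Finsupp.lapply ω ∘ₗ s) (KaehlerDifferential.D A B g)) = _
    rw [LinearMap.comp_apply, ← ht, Finsupp.lapply_apply]
  have key : ∀ c : R, c ∈ (⋀[R]^n (Ω[R⁄A])).annihilator ↔
      ∀ x : ↥(⋀[R]^n (Ω[R⁄A])), c • x = 0 := by
    intro c
    rw [Submodule.mem_annihilator]
    constructor
    · intro h x; exact Subtype.ext (h x.1 x.2)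
    · intro h x hx; exact congrArg Subtype.val (h ⟨x, hx⟩)
  have h1 : J2 ≤ (⋀[R]^n (Ω[R⁄A])).annihilator := by
    rw [hJ2, Ideal.span_le]
    rintro _ ⟨φ, rfl⟩
    let ψ : R ⊗[B] Ω[B⁄A] →ₗ[R] R :=
      (TensorProduct.AlgebraTensorModule.rid B R R).toLinearMap ∘ₗ (LinearMap.baseChange R φ)
    have hψ : ψ v = algebraMap B R (φ (KaehlerDifferential.D A B g)) := by
      show (TensorProduct.AlgebraTensorModule.rid B R R)
        ((LinearMap.baseChange R φ) ((1 : R) ⊗ₜ[B] KaehlerDifferential.D A B g)) = _
      rw [LinearMap.baseChange_tmul, TensorProduct.AlgebraTensorModule.rid_tmul, Algebra.smul_def,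
        mul_one]
    rw [SetLike.mem_coe, key]
    intro ω
    have hS := subsingleton_extPow_succ (R := R) (P := R ⊗[B] Ω[B⁄A]) n hrank
    have hω : ω ∈ Submodule.span R (Set.range (exteriorPower.ιMulti R n (M := Ω[R⁄A]))) := by
      rw [exteriorPower.ιMulti_span]; trivial
    induction hω using Submodule.span_induction with
    | mem x hx =>
      obtain ⟨m, rfl⟩ := hx
      obtain ⟨p, rfl⟩ : ∃ p : Fin n → R ⊗[B] Ω[B⁄A], m = fun i => π (p i) :=
        ⟨fun i => Function.surjInv hπ (m i),
          funext fun i => (Function.surjInv_eq hπ (m i)).symm⟩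
      show algebraMap B R (φ (KaehlerDifferential.D A B g)) • _ = 0
      rw [← hψ]
      exact smul_ιMulti_eq_zero n hS π v hπv ψ p
    | zero => exact smul_zero _
    | add x y _ _ hx hy => rw [smul_add, hx, hy, add_zero]
    | smul a x _ hx => rw [smul_comm, hx, smul_zero]
  have h2 : (⋀[R]^n (Ω[R⁄A])).annihilator ≤ J2 := by
    intro r hr
    rw [key] at hr
    rcases n with _ | k
    · have h0 := hr ((exteriorPower.zeroEquiv R (Ω[R⁄A])).symm 1)
      have h0' := congrArg (exteriorPower.zeroEquiv R (Ω[R⁄A])) h0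
      rw [map_smul, LinearEquiv.apply_symm_apply, map_zero, smul_eq_mul, mul_one] at h0'
      rw [h0']; exact Ideal.zero_mem _
    · refine Ideal.mem_of_localization_maximal (fun Q hQ => ?_)
      haveI := hQ
      refine local_mem k hrank v J2 hB Q r (fun p => ?_)
      have hin : r • exteriorPower.ιMulti R (k + 1) p ∈
          LinearMap.ker (exteriorPower.map (k + 1) π) := by
        rw [LinearMap.mem_ker, map_smul, exteriorPower.map_apply_ιMulti]; exact hr _
      exact Groth.Agent.H76.ker_map_le_span k π hπ {v} hkerπ Set.univ Submodule.span_univ hin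
  exact le_antisymm h2 h1

end Groth.Agent.S14477
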