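import Groth.Statements.S14478
import Mathlib.LinearAlgebra.Dual.Lemmas
import Mathlib.LinearAlgebra.Projection
import Mathlib.LinearAlgebra.FiniteDimensional.Lemmas

set_option autoImplicit false
universe u
open CharCyc

namespace Groth.Agent.S14478

section

variable {k V : Type u} [Field k] [AddCommGroup V] [Module k V]

lemma exists_not_mem_of_ne_top (P₁ P₂ : Submodule k V) (h₁ : P₁ ≠ ⊤) (h₂ : P₂ ≠ ⊤) :
    ∃ v, v ∉ P₁ ∧ v ∉ P₂ := by
  obtain ⟨x, hx⟩ : ∃ x, x ∉ P₁ := by
    by_contra hne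
    push Not at hne
    exact h₁ (eq_top_iff.mpr fun x _ => hne x)
  obtain ⟨y, hy⟩ : ∃ y, y ∉ P₂ := by
    by_contra hne
    push Not at hne
    exact h₂ (eq_top_iff.mpr fun x _ => hne x)
  by_cases hx2 : x ∈ P₂
  · by_cases hy1 : y ∈ P₁
    · refine ⟨x + y, fun h => hx ?_, fun h => hy ?_⟩
      · have := P₁.sub_mem h hy1
        rwa [add_sub_cancel_right] at this
      · have := P₂.sub_mem h hx2
        rwa [add_sub_cancel_left] at this
    · exact ⟨y, hy1, hy⟩
  · exact ⟨x, hx, hx2⟩

lemma disjoint_sup_span (U C : Submodule k V) (hUC : Disjoint U C) (v : V) (hv : v ∉ U ⊔ C) :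
    Disjoint U (C ⊔ Submodule.span k {v}) := by
  rw [Submodule.disjoint_def]
  intro x hx1 hx2
  obtain ⟨c, hc, w, hw, rfl⟩ := Submodule.mem_sup.mp hx2
  obtain ⟨a, rfl⟩ := Submodule.mem_span_singleton.mp hw
  by_cases ha : a = 0
  · subst ha
    rw [zero_smul, add_zero] at hx1 ⊢
    exact (Submodule.disjoint_def.mp hUC) c hx1 hc
  · exfalso
    apply hv
    have hv' : v = a⁻¹ • (c + a • v) - a⁻¹ • c := by
      rw [smul_add, smul_smul, inv_mul_cancel₀ ha, one_smul, add_sub_cancel_left]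
    rw [hv']
    exact Submodule.sub_mem _ (Submodule.smul_mem _ _ (Submodule.mem_sup_left hx1))
      (Submodule.smul_mem _ _ (Submodule.mem_sup_right hc))

lemma exists_common_isCompl [FiniteDimensional k V]
    (U₁ U₂ : Submodule k V) (hd : Module.finrank k U₁ = Module.finrank k U₂) :
    ∃ C : Submodule k V, IsCompl U₁ C ∧ IsCompl U₂ C := by
  have hS : ({C : Submodule k V | Disjoint U₁ C ∧ Disjoint U₂ C}).Nonempty :=
    ⟨⊥, disjoint_bot_right, disjoint_bot_right⟩
  obtain ⟨C, ⟨hC1, hC2⟩, hmax⟩ := (wellFounded_gt (α := Submodule k V)).has_min _ hS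
  have hf1 : Module.finrank k ↥(U₁ ⊔ C) = Module.finrank k U₁ + Module.finrank k C := by
    have := Submodule.finrank_sup_add_finrank_inf_eq U₁ C
    rw [hC1.eq_bot] at this
    simpa using this
  have hf2 : Module.finrank k ↥(U₂ ⊔ C) = Module.finrank k U₂ + Module.finrank k C := by
    have := Submodule.finrank_sup_add_finrank_inf_eq U₂ C
    rw [hC2.eq_bot] at this
    simpa using this
  have key : U₁ ⊔ C = ⊤ ∧ U₂ ⊔ C = ⊤ := by
    by_contra hne
    have heq : Module.finrank k ↥(U₁ ⊔ C) = Module.finrank k ↥(U₂ ⊔ C) := by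
      rw [hf1, hf2, hd]
    have hb1 : U₁ ⊔ C ≠ ⊤ := by
      intro h1
      apply hne
      refine ⟨h1, Submodule.eq_top_of_finrank_eq ?_⟩
      rw [← heq, h1, finrank_top]
    have hb2 : U₂ ⊔ C ≠ ⊤ := by
      intro h2
      apply hne
      refine ⟨Submodule.eq_top_of_finrank_eq ?_, h2⟩
      rw [heq, h2, finrank_top]
    obtain ⟨v, hv1, hv2⟩ := exists_not_mem_of_ne_top _ _ hb1 hb2
    have hvC : v ∉ C := fun h => hv1 (Submodule.mem_sup_right h)
    refine hmax (C ⊔ Submodule.span k {v})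
      ⟨disjoint_sup_span U₁ C hC1 v hv1, disjoint_sup_span U₂ C hC2 v hv2⟩ ?_
    refine lt_of_le_of_ne le_sup_left (fun h => hvC ?_)
    rw [h]
    exact Submodule.mem_sup_right (Submodule.mem_span_singleton_self v)
  exact ⟨C, ⟨hC1, codisjoint_iff.mpr key.1⟩, ⟨hC2, codisjoint_iff.mpr key.2⟩⟩

lemma finrank_comap_inl_eq [FiniteDimensional k V]
    (T : Submodule k (V × Module.Dual k V)) (hT : Module.finrank k T = Module.finrank k V) :
    Module.finrank k (T.comap (LinearMap.inl k V (Module.Dual k V))) =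
      Module.finrank k (T.map (LinearMap.snd k V (Module.Dual k V))).dualCoannihilator := by
  have h1 := Subspace.finrank_add_finrank_dualCoannihilator_eq
    (T.map (LinearMap.snd k V (Module.Dual k V)))
  have h2 := LinearMap.finrank_range_add_finrank_ker (K := k) (V := ↥T)
    ((LinearMap.snd k V (Module.Dual k V)) ∘ₗ T.subtype)
  have h3 : LinearMap.range ((LinearMap.snd k V (Module.Dual k V)) ∘ₗ T.subtype) =
      T.map (LinearMap.snd k V (Module.Dual k V)) := by
    rw [LinearMap.range_comp, Submodule.range_subtype]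
  have h4 : Module.finrank k (LinearMap.ker ((LinearMap.snd k V (Module.Dual k V)) ∘ₗ T.subtype)) =
      Module.finrank k (T.comap (LinearMap.inl k V (Module.Dual k V))) := by
    have e1 := (Submodule.equivMapOfInjective T.subtype T.injective_subtype
      (LinearMap.ker ((LinearMap.snd k V (Module.Dual k V)) ∘ₗ T.subtype))).finrank_eq
    have e2 := (Submodule.equivMapOfInjective (LinearMap.inl k V (Module.Dual k V))
      LinearMap.inl_injective (T.comap (LinearMap.inl k V (Module.Dual k V)))).finrank_eq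
    have e3 : (LinearMap.ker ((LinearMap.snd k V (Module.Dual k V)) ∘ₗ T.subtype)).map T.subtype =
        (T.comap (LinearMap.inl k V (Module.Dual k V))).map
          (LinearMap.inl k V (Module.Dual k V)) := by
      rw [LinearMap.ker_comp, Submodule.map_comap_subtype, Submodule.map_comap_eq,
        LinearMap.range_inl, inf_comm]
    rw [e1, e3, ← e2]
  rw [h3] at h2
  omega

lemma core (T : Submodule k (V × Module.Dual k V)) (V₁ V₂ : Submodule k V) (h : IsCompl V₁ V₂)
    (hV₁ : ∀ v ∈ V₁, ((v, 0) : V × Module.Dual k V) ∈ T)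
    (hV₂ : ∀ v ∈ V₂, ((v, 0) : V × Module.Dual k V) ∈ T → v = 0)
    (hR : ∀ ξ : Module.Dual k V, (∃ v, ((v, ξ) : V × Module.Dual k V) ∈ T) →
      (∀ w ∈ V₂, ξ w = 0) → ξ = 0)
    (A₁ : V₁ →ₗ[k] Module.Dual k V₁) (hA₁ : Function.Injective A₁) :
    LinearMap.graph ((Submodule.projectionOnto V₁ V₂ h).dualMap ∘ₗ A₁ ∘ₗ
      Submodule.projectionOnto V₁ V₂ h) ⊓ T = ⊥ := by
  rw [eq_bot_iff]
  intro x hx
  obtain ⟨hg, hT⟩ := Submodule.mem_inf.mp hx
  obtain ⟨v, ζ⟩ := x
  rw [LinearMap.mem_graph_iff] at hg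
  have hg' : ∀ w : V, ζ w = (A₁ (Submodule.projectionOnto V₁ V₂ h v))
      (Submodule.projectionOnto V₁ V₂ h w) := by
    intro w
    have : ζ = ((Submodule.projectionOnto V₁ V₂ h).dualMap ∘ₗ A₁ ∘ₗ
      Submodule.projectionOnto V₁ V₂ h) v := hg
    rw [this]
    rfl
  have hv₂ : v - (Submodule.projectionOnto V₁ V₂ h v : V) ∈ V₂ := by
    rw [← Submodule.projectionOnto_apply_eq_zero_iff h, map_sub,
      Submodule.projectionOnto_apply_left, sub_self]
  have hT₂ : ((v - (Submodule.projectionOnto V₁ V₂ h v : V), ζ) : V × Module.Dual k V) ∈ T := by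
    have := T.sub_mem hT (hV₁ _ (Submodule.projectionOnto V₁ V₂ h v).2)
    simpa using this
  have hζV₂ : ∀ w ∈ V₂, ζ w = 0 := by
    intro w hw
    rw [hg', (Submodule.projectionOnto_apply_eq_zero_iff h).mpr hw, map_zero]
  have hζ : ζ = 0 := hR ζ ⟨_, hT₂⟩ hζV₂
  have hv₂0 : v - (Submodule.projectionOnto V₁ V₂ h v : V) = 0 := by
    apply hV₂ _ hv₂
    rw [← hζ]
    exact hT₂
  have hpv : Submodule.projectionOnto V₁ V₂ h v = 0 := by
    apply hA₁
    rw [map_zero]
    apply LinearMap.ext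
    intro w
    have := hg' (w : V)
    rw [Submodule.projectionOnto_apply_left, hζ] at this
    rw [LinearMap.zero_apply, ← this, LinearMap.zero_apply]
  have hv : v = 0 := by
    rw [hpv] at hv₂0
    simpa using hv₂0
  rw [Submodule.mem_bot, hv, hζ]
  rfl

end

/-- Let V be a finite-dimensional vector space over a field k, let W = V × V^∨ with V^∨ the dual space,
and let T ⊆ W be a subspace with dim T = dim V; put V₁ = V ∩ T, where V sits in W as V × 0. Then
there is a complement V₂ of V₁ in V with the following property: for every injective linear map A₁ :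
V₁ → V₁^∨, the map A : V → V^∨ extending A₁ by zero along the decompositions V = V₁ ⊕ V₂ and V^∨ =
V₁^∨ ⊕ V₂^∨ (so A v = A₁(p v) ∘ p, with p : V → V₁ the projection along V₂) has graph Γ ⊆ W with Γ ∩
T = 0. -/
theorem result (k V : Type u) [Field k] [AddCommGroup V] [Module k V]
    [FiniteDimensional k V] (T : Submodule k (V × Module.Dual k V))
    (hT : Module.finrank k T = Module.finrank k V) :
    ∃ (V₂ : Submodule k V) (h : IsCompl (T.comap (LinearMap.inl k V (Module.Dual k V))) V₂),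
      ∀ A₁ : T.comap (LinearMap.inl k V (Module.Dual k V)) →ₗ[k]
          Module.Dual k (T.comap (LinearMap.inl k V (Module.Dual k V))),
        Function.Injective A₁ →
          LinearMap.graph ((Submodule.projectionOnto _ V₂ h).dualMap ∘ₗ A₁ ∘ₗ
              Submodule.projectionOnto _ V₂ h) ⊓ T = ⊥ := by
  obtain ⟨V₂, h1, h2⟩ := exists_common_isCompl
    (T.comap (LinearMap.inl k V (Module.Dual k V)))
    (T.map (LinearMap.snd k V (Module.Dual k V))).dualCoannihilator (finrank_comap_inl_eq T hT)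
  refine ⟨V₂, h1, fun A₁ hA₁ => core T _ V₂ h1 ?_ ?_ ?_ A₁ hA₁⟩
  · intro v hv
    exact hv
  · intro v hv hvT
    have : v ∈ (T.comap (LinearMap.inl k V (Module.Dual k V))) ⊓ V₂ := ⟨hvT, hv⟩
    rw [h1.inf_eq_bot] at this
    exact (Submodule.mem_bot k).mp this
  · rintro ξ ⟨v, hvξ⟩ hξ
    apply LinearMap.ext
    intro w
    have hw : w ∈ (T.map (LinearMap.snd k V (Module.Dual k V))).dualCoannihilator ⊔ V₂ := by
      rw [h2.sup_eq_top]
      trivial
    obtain ⟨a, ha, b, hb, rfl⟩ := Submodule.mem_sup.mp hw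
    rw [map_add, hξ b hb, add_zero, LinearMap.zero_apply]
    exact (Submodule.mem_dualCoannihilator _).mp ha ξ ⟨(v, ξ), hvξ, rfl⟩

end Groth.Agent.S14478
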