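import Groth.Statements.S14479
import Mathlib.LinearAlgebra.Matrix.BilinearForm
import Mathlib.LinearAlgebra.Matrix.NonsingularInverse
import Mathlib.Data.Matrix.Block
import Mathlib.Algebra.CharP.Two

set_option autoImplicit false
universe u
open CharCyc

namespace Groth.Agent.S14479


theorem exists_of_matrix {k V : Type u} [Field k] [AddCommGroup V] [Module k V]
    {ι : Type} [Fintype ι] [DecidableEq ι] (b : Module.Basis ι k V) (M : Matrix ι ι k)
    (hM : (M + M.transpose).det ≠ 0) :
    ∃ B : LinearMap.BilinForm k V, (B + B.flip).Nondegenerate := by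
  refine ⟨Matrix.toBilin b M, ?_⟩
  refine (LinearMap.BilinForm.nondegenerate_iff_det_ne_zero b).mpr ?_
  have hent : ∀ i j, Matrix.toBilin b M (b i) (b j) = M i j := by
    intro i j
    have := congrFun (congrFun (LinearMap.BilinForm.toMatrix_toBilin b M) i) j
    rwa [LinearMap.BilinForm.toMatrix_apply] at this
  have : LinearMap.BilinForm.toMatrix b (Matrix.toBilin b M + (Matrix.toBilin b M).flip) =
      M + M.transpose := by
    ext i j
    rw [LinearMap.BilinForm.toMatrix_apply, LinearMap.add_apply, LinearMap.add_apply,
      LinearMap.BilinForm.flip_apply, hent, hent, Matrix.add_apply, Matrix.transpose_apply]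
  rw [this]
  exact hM

/-- Let V be a finite-dimensional vector space over a field k. If dim V is even or the characteristic of
k is different from 2, there is a bilinear form B on V such that the bilinear form (v, w) ↦ B(v, w)
+ B(w, v) (B plus its transpose, as a map V → V^∨) is nondegenerate. -/
theorem result (k V : Type u) [Field k] [AddCommGroup V] [Module k V]
    [FiniteDimensional k V] (h : Even (Module.finrank k V) ∨ ringChar k ≠ 2) :
    ∃ B : LinearMap.BilinForm k V, (B + B.flip).Nondegenerate := by
  rcases h with h | h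
  · obtain ⟨m, hm⟩ := h
    let e : Fin (Module.finrank k V) ≃ Fin m ⊕ Fin m := (finCongr hm).trans finSumFinEquiv.symm
    let b : Module.Basis (Fin m ⊕ Fin m) k V := (Module.finBasis k V).reindex e
    refine exists_of_matrix b (Matrix.fromBlocks (0 : Matrix (Fin m) (Fin m) k) (1 : Matrix (Fin m) (Fin m) k) 0 0) ?_
    have hN : (Matrix.fromBlocks (0 : Matrix (Fin m) (Fin m) k) (1 : Matrix (Fin m) (Fin m) k) 0 0 +
        (Matrix.fromBlocks (0 : Matrix (Fin m) (Fin m) k) (1 : Matrix (Fin m) (Fin m) k) 0 0).transpose) =
        Matrix.fromBlocks (0 : Matrix (Fin m) (Fin m) k) (1 : Matrix (Fin m) (Fin m) k) 1 0 := by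
      rw [Matrix.fromBlocks_transpose, Matrix.fromBlocks_add]
      simp
    rw [hN]
    apply Matrix.det_ne_zero_of_right_inverse (B := Matrix.fromBlocks (0 : Matrix (Fin m) (Fin m) k) (1 : Matrix (Fin m) (Fin m) k) 1 0)
    rw [Matrix.fromBlocks_multiply]
    simp [Matrix.fromBlocks_one]
  · refine exists_of_matrix (Module.finBasis k V) 1 ?_
    have h2 : (2 : k) ≠ 0 := Ring.two_ne_zero h
    have : (1 + (1 : Matrix (Fin (Module.finrank k V)) (Fin (Module.finrank k V)) k).transpose) =
        (2 : k) • 1 := by
      rw [Matrix.transpose_one, two_smul]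
    rw [this, Matrix.det_smul, Matrix.det_one, mul_one]
    exact pow_ne_zero _ h2

end Groth.Agent.S14479
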