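import Groth.Statements.S14481
import Mathlib
import Groth.Agent.H54.RegInter

set_option autoImplicit false
universe u
open CategoryTheory AlgebraicGeometry
open CharCyc

namespace Groth.Agent.S14481


section Helpers
open AlgebraicGeometry CategoryTheory CategoryTheory.Limits TopologicalSpace Topology Groth.Agent.H54

theorem main {k : Type u} [Field k] {C X W : Scheme.{u}}
    (s : C ⟶ Spec (CommRingCat.of k)) [LocallyOfFiniteType s] (π : C ⟶ X) (ι : W ⟶ X)
    [QuasiCompact ι] [IsImmersion ι] (n c : ℕ)
    (hloc : ∀ z : W, ∃ U : X.affineOpens, ι z ∈ U.1 ∧ IsClosedImmersion (ι ∣_ U.1) ∧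
      ∃ rs : List Γ(X, U.1), rs.length = c ∧ RingHom.ker (ι.app U.1).hom = Ideal.ofList rs)
    (hC : ∀ P ∈ irreducibleComponents (C : Type u), topologicalKrullDim P = n) :
    (∀ P ∈ irreducibleComponents (C : Type u),
        ∀ Q ∈ irreducibleComponents (P ∩ π ⁻¹' Set.range ι : Set C),
        topologicalKrullDim Q + (c : WithBot ℕ∞) = n) ↔
      topologicalKrullDim (π ⁻¹' Set.range ι : Set C) + (c : WithBot ℕ∞) ≤ n := by
  classical
  have hTlc : IsLocallyClosed (π ⁻¹' Set.range ι) :=
    ι.isLocallyClosed_range.preimage π.continuous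
  obtain ⟨U₀, Z₀, hU₀, hZ₀, hT⟩ := id hTlc
  constructor
  · intro ha
    have hpt : ∀ t : ↥(π ⁻¹' Set.range ι), tdeg s (t : C) + c ≤ n := by
      intro t
      have hPmem : irreducibleComponent (t : C) ∈ irreducibleComponents C :=
        irreducibleComponent_mem_irreducibleComponents _
      have hPcl : IsClosed (irreducibleComponent (t : C)) := isClosed_irreducibleComponent
      let t' : ↥(irreducibleComponent (t : C) ∩ π ⁻¹' Set.range ι) :=
        ⟨t.1, mem_irreducibleComponent, t.2⟩
      have hQmem : irreducibleComponent t' ∈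
          irreducibleComponents ↥(irreducibleComponent (t : C) ∩ π ⁻¹' Set.range ι) :=
        irreducibleComponent_mem_irreducibleComponents _
      have hQcl : IsClosed (irreducibleComponent t') := isClosed_irreducibleComponent
      have h1 := ha _ hPmem _ hQmem
      have h2 := tdeg_le_dim_of_mem_closed s (irreducibleComponent (t : C)) _ U₀ Z₀ hPcl hU₀ hZ₀ hT
        (irreducibleComponent t') hQcl t' mem_irreducibleComponent
      have h3 : ((tdeg s (t : C) + c : ℕ) : WithBot ℕ∞) ≤ (n : WithBot ℕ∞) := by
        rw [Nat.cast_add, ← h1]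
        exact add_le_add h2 le_rfl
      exact_mod_cast h3
    haveI : QuasiSober ↥(π ⁻¹' Set.range ι) := quasiSober_of_isLocallyClosed hTlc
    exact dim_add_le_of_embedding s (fun t : ↥(π ⁻¹' Set.range ι) => (t : C))
      IsEmbedding.subtypeVal n c hpt
  · intro hb P hPmem Q hQmem
    have hPcl : IsClosed P := isClosed_of_mem_irreducibleComponents P hPmem
    have hQcl : IsClosed Q := isClosed_of_mem_irreducibleComponents Q hQmem
    apply le_antisymm
    · have hind : IsInducing (fun b : ↥Q =>
          (⟨((b : ↥(P ∩ π ⁻¹' Set.range ι)) : C), b.1.2.2⟩ : ↥(π ⁻¹' Set.range ι))) := by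
        rw [← IsInducing.subtypeVal.of_comp_iff]
        have h0 : IsInducing (fun b : ↥Q => ((b : ↥(P ∩ π ⁻¹' Set.range ι)) : C)) :=
          IsInducing.subtypeVal.comp IsInducing.subtypeVal
        exact h0
      exact (add_le_add hind.topologicalKrullDim_le le_rfl).trans hb
    · haveI : QuasiSober ↥(P ∩ π ⁻¹' Set.range ι) :=
        quasiSober_of_isLocallyClosed (hPcl.isLocallyClosed.inter hTlc)
      have hQirr : IsIrreducible Q := hQmem.1
      obtain ⟨a, haQ⟩ := QuasiSober.sober hQirr hQcl
      have haQ' : closure ({a} : Set ↥(P ∩ π ⁻¹' Set.range ι)) = Q := haQ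
      have ha_mem : a ∈ Q := haQ' ▸ subset_closure rfl
      have hPirr : IsIrreducible P := hPmem.1
      obtain ⟨ξ, hξ⟩ := QuasiSober.sober hPirr hPcl
      have hξ' : closure ({ξ} : Set C) = P := hξ
      have hξx : ξ ⤳ (a : C) := specializes_iff_mem_closure.mpr (hξ' ▸ a.2.1)
      have hn : (tdeg s ξ : WithBot ℕ∞) = n := by
        rw [← topologicalKrullDim_closure_singleton s ξ, hξ']
        exact hC P hPmem
      obtain ⟨w, hw⟩ := a.2.2
      obtain ⟨U, hwU, hcl, rs, hlen, hker⟩ := hloc w
      haveI := hcl
      have hKR : tdeg s ξ ≤ tdeg s (a : C) + c :=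
        tdeg_le_tdeg_add_of_minimal s π ι U rs c hlen hker ξ a hξx (hw ▸ hwU) ⟨w, hw⟩ (by
          intro y h1 h2 h3
          have hyP : y ∈ P := hξ' ▸ specializes_iff_mem_closure.mp h1
          let y' : ↥(P ∩ π ⁻¹' Set.range ι) := ⟨y, hyP, h3⟩
          have hsp : y' ⤳ a := (IsInducing.subtypeVal.specializes_iff (x := y') (y := a)).mp h2
          have hirr : IsIrreducible (closure ({y'} : Set ↥(P ∩ π ⁻¹' Set.range ι))) :=
            isIrreducible_singleton.closure
          have hsub : Q ⊆ closure ({y'} : Set ↥(P ∩ π ⁻¹' Set.range ι)) := by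
            rw [← haQ']
            exact closure_minimal
              (Set.singleton_subset_iff.mpr (specializes_iff_mem_closure.mp hsp)) isClosed_closure
          have hle : closure ({y'} : Set ↥(P ∩ π ⁻¹' Set.range ι)) ⊆ Q := hQmem.2 hirr hsub
          have hy'Q : y' ∈ Q := hle (subset_closure rfl)
          have hsp2 : a ⤳ y' := specializes_iff_mem_closure.mpr (haQ' ▸ hy'Q)
          exact (h2.antisymm (hsp2.map continuous_subtype_val)).eq)
      have hLC := tdeg_le_dim_of_mem_closed s P _ U₀ Z₀ hPcl hU₀ hZ₀ hT Q hQcl a ha_mem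
      calc (n : WithBot ℕ∞) = (tdeg s ξ : WithBot ℕ∞) := hn.symm
        _ ≤ ((tdeg s (a : C) + c : ℕ) : WithBot ℕ∞) := by exact_mod_cast hKR
        _ = (tdeg s (a : C) : WithBot ℕ∞) + (c : WithBot ℕ∞) := Nat.cast_add _ _
        _ ≤ topologicalKrullDim ↥Q + (c : WithBot ℕ∞) := add_le_add hLC le_rfl

end Helpers


/-- First equivalence: let k be a field, let π : C → X be a morphism between k-schemes of finite type
such that every irreducible component of C has dimension n, and let ι : W → X be a regular immersion
of codimension c. The following are equivalent: (a) ι meets C properly, that is, whenever P is an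
irreducible component of C and Q is an irreducible component of P ×_X W (the subspace P ∩ π⁻¹(ι(W))
of C), one has dim Q = dim P − c; (b) dim C ×_X W ≤ n − c (the subspace π⁻¹(ι(W)) of C). Dimensions
are written additively: dim Q + c = n and dim π⁻¹(ι(W)) + c ≤ n, the empty space having dimension ⊥.
(Stated for each of the four kinds of regular immersion of codimension c — regular, Koszul-regular,
H₁-regular, quasi-regular; the published statement does not distinguish kinds.) -/
theorem result (k : Type u) [Field k] (C X W : Scheme.{u})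
    (q : X ⟶ Spec (CommRingCat.of k)) (π : C ⟶ X) (ι : W ⟶ X)
    [LocallyOfFiniteType q] [CompactSpace X] [LocallyOfFiniteType π] [CompactSpace C]
    (κ : RegImm.Kind) (n c : ℕ) (hι : RegImm.IsRegularImmersionOfCodim κ c ι)
    (hC : ∀ P ∈ irreducibleComponents (C : Type u), topologicalKrullDim P = n) :
    (∀ P ∈ irreducibleComponents (C : Type u), ∀ Q ∈ irreducibleComponents (P ∩ π ⁻¹' Set.range ι : Set C),
        topologicalKrullDim Q + (c : WithBot ℕ∞) = n) ↔
      topologicalKrullDim (π ⁻¹' Set.range ι : Set C) + (c : WithBot ℕ∞) ≤ n := by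
  obtain ⟨hιimm, hιloc⟩ := hι
  haveI := hιimm
  haveI : IsLocallyNoetherian X := LocallyOfFiniteType.isLocallyNoetherian q
  haveI : IsNoetherian X := {}
  haveI : QuasiCompact ι := by
    haveI : TopologicalSpace.NoetherianSpace W := ι.isEmbedding.isInducing.noetherianSpace
    exact ⟨fun U _ _ => TopologicalSpace.NoetherianSpace.isCompact _⟩
  refine main (π ≫ q) π ι n c (fun z => ?_) hC
  obtain ⟨U, hzU, hcl, rs, hlen, -, hker⟩ := hιloc z
  exact ⟨U, hzU, hcl, rs, hlen, hker⟩

end Groth.Agent.S14481
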