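import Groth.Statements.S14482
import Mathlib
import Groth.Agent.H54.RegInter
import Groth.Agent.H54.FibreDimTdeg
import Groth.Agent.H9.TrdegSq

set_option autoImplicit false
universe u
open CategoryTheory AlgebraicGeometry
open CharCyc

namespace Groth.Agent.S14482


section Helpers
open AlgebraicGeometry CategoryTheory CategoryTheory.Limits TopologicalSpace Topology Groth.Agent.H54

theorem tdeg_comp_immersion {k : Type u} [Field k] {F Z : Scheme.{u}}
    (s : F ⟶ Spec (CommRingCat.of k)) [LocallyOfFiniteType s] (j : Z ⟶ F) [IsImmersion j]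
    (z : Z) : tdeg (j ≫ s) z = tdeg s (j.base z) := by
  refine tdeg_eq_of_trdeg_zero (j ≫ s) s j rfl z ?_
  have hsurj : Function.Surjective (j.residueFieldMap z).hom := by
    have h1 : Function.Surjective ((F.residue (j.base z)) ≫ j.residueFieldMap z).hom := by
      rw [Scheme.residue_residueFieldMap]
      exact (Z.residue_surjective z).comp (j.stalkMap_surjective z)
    exact Function.Surjective.of_comp (g := (F.residue (j.base z)).hom) h1
  letI : Algebra (F.residueField (j.base z)) (Z.residueField z) := (j.residueFieldMap z).hom.toAlgebra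
  haveI : Algebra.IsAlgebraic (F.residueField (j.base z)) (Z.residueField z) :=
    Groth.Agent.H9.TrdegSq.isAlgebraic_of_surjective _ hsurj
  exact trdeg_eq_zero

theorem tdeg_le_dim {k : Type u} [Field k] {F : Scheme.{u}}
    (s : F ⟶ Spec (CommRingCat.of k)) [LocallyOfFiniteType s] (z : F) :
    (tdeg s z : WithBot ℕ∞) ≤ topologicalKrullDim F :=
  (tdeg_le_topologicalKrullDim s z ⊤ trivial).trans IsInducing.subtypeVal.topologicalKrullDim_le

theorem exists_point_tdeg_ge {k : Type u} [Field k] {C X : Scheme.{u}}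
    (p : C ⟶ Spec (CommRingCat.of k)) (q : X ⟶ Spec (CommRingCat.of k))
    [LocallyOfFiniteType p] [LocallyOfFiniteType q] (π : C ⟶ X) [LocallyOfFiniteType π]
    (hπ : π ≫ q = p) (x : X) (j : ℕ)
    (hj : (j : WithBot ℕ∞) ≤ topologicalKrullDim (π.fiber x)) :
    ∃ y : C, π.base y = x ∧ tdeg q x + j ≤ tdeg p y := by
  have hex : ∃ z' : π.fiber x, j ≤ tdeg (fiberQ π x) z' := by
    by_contra hcon
    push_neg at hcon
    rcases Nat.eq_zero_or_pos j with rfl | hpos
    · haveI hE : IsEmpty (π.fiber x) := ⟨fun z' => absurd (hcon z') (Nat.not_lt_zero _)⟩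
      have hbot : topologicalKrullDim (π.fiber x) = ⊥ := by
        unfold topologicalKrullDim
        haveI : IsEmpty (IrreducibleCloseds (π.fiber x)) :=
          ⟨fun Z => hE.elim Z.isIrreducible.nonempty.some⟩
        exact Order.krullDim_eq_bot
      rw [hbot] at hj
      have hlt : (⊥ : WithBot ℕ∞) < ((0 : ℕ) : WithBot ℕ∞) := by
        first
          | exact WithBot.bot_lt_coe _
          | simp
      exact absurd hj (not_le.mpr hlt)
    · have h1 := topologicalKrullDim_le_of_forall_tdeg_le (fiberQ π x) (j - 1)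
        (fun z' => by have := hcon z'; omega)
      have h2 : (j : WithBot ℕ∞) ≤ ((j - 1 : ℕ) : WithBot ℕ∞) := hj.trans h1
      have h3 : j ≤ j - 1 := by exact_mod_cast h2
      omega
  obtain ⟨z', hz'⟩ := hex
  refine ⟨π.fiberι x z', fiberι_mem π x z', ?_⟩
  have h := tdeg_fibre_add p q π hπ x z'
  rw [fiberι_mem π x z'] at h
  omega

theorem le_dim_fiber_of_point {k : Type u} [Field k] {C X : Scheme.{u}}
    (p : C ⟶ Spec (CommRingCat.of k)) (q : X ⟶ Spec (CommRingCat.of k))
    [LocallyOfFiniteType p] [LocallyOfFiniteType q] (π : C ⟶ X) [LocallyOfFiniteType π]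
    (hπ : π ≫ q = p) (t : C) :
    ∃ j : ℕ, tdeg p t = tdeg q (π.base t) + j ∧
      (j : WithBot ℕ∞) ≤ topologicalKrullDim (π.fiber (π.base t)) := by
  refine ⟨tdeg (fiberQ π (π.base t)) (π.asFiber t), ?_, tdeg_le_dim _ _⟩
  have h := tdeg_fibre_add p q π hπ (π.base t) (π.asFiber t)
  rw [Scheme.Hom.fiberι_asFiber] at h
  exact h

theorem main {k : Type u} [Field k] {C X W : Scheme.{u}}
    (q : X ⟶ Spec (CommRingCat.of k)) [LocallyOfFiniteType q] (π : C ⟶ X)
    [LocallyOfFiniteType π] (ι : W ⟶ X) [IsImmersion ι] (n c : ℕ)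
    (hC : ∀ P ∈ irreducibleComponents (C : Type u), topologicalKrullDim P = n)
    (hB : ∀ j : ℕ, IsClosed {x : X | (j : WithBot ℕ∞) ≤ topologicalKrullDim (π.fiber x)}) :
    (∀ j : ℕ, topologicalKrullDim {x : X | (j : WithBot ℕ∞) ≤ topologicalKrullDim (π.fiber x)} + (j : WithBot ℕ∞) ≤ n) ∧
      (topologicalKrullDim (π ⁻¹' Set.range ι : Set C) + (c : WithBot ℕ∞) ≤ n ↔
        ∀ j : ℕ, topologicalKrullDim (ι ⁻¹' {x : X | (j : WithBot ℕ∞) ≤ topologicalKrullDim (π.fiber x)} : Set W) + (c : WithBot ℕ∞) + (j : WithBot ℕ∞) ≤ n) := by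
  classical
  have htn : ∀ y : C, tdeg (π ≫ q) y ≤ n := by
    intro y
    have hPmem : irreducibleComponent y ∈ irreducibleComponents C :=
      irreducibleComponent_mem_irreducibleComponents y
    have hPcl : IsClosed (irreducibleComponent y) := isClosed_irreducibleComponent
    have h1 := tdeg_le_dim_of_embedding (π ≫ q) (Subtype.val : ↥(irreducibleComponent y) → C)
      IsInducing.subtypeVal ⟨y, mem_irreducibleComponent⟩ ⊤ trivial (by
        rintro z ⟨hz, -⟩
        have hsp : y ⤳ z := specializes_iff_mem_closure.mpr hz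
        exact ⟨⟨z, hsp.mem_closed hPcl mem_irreducibleComponent⟩, rfl⟩)
    rw [hC _ hPmem] at h1
    exact_mod_cast h1
  have hTlc : IsLocallyClosed (π ⁻¹' Set.range ι) :=
    ι.isLocallyClosed_range.preimage π.continuous
  obtain ⟨U₀, Z₀, hU₀, hZ₀, hT⟩ := id hTlc
  refine ⟨?_, ?_, ?_⟩
  · intro j
    haveI : QuasiSober ↥{x : X | (j : WithBot ℕ∞) ≤ topologicalKrullDim (π.fiber x)} := (hB j).isClosedEmbedding_subtypeVal.quasiSober
    refine dim_add_le_of_embedding q (fun b : ↥{x : X | (j : WithBot ℕ∞) ≤ topologicalKrullDim (π.fiber x)} => (b : X)) IsEmbedding.subtypeVal n j ?_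
    intro b
    show tdeg q b.1 + j ≤ n
    obtain ⟨y, hy, hyt⟩ := exists_point_tdeg_ge (π ≫ q) q π rfl b.1 j b.2
    exact hyt.trans (htn y)
  · intro hb j
    haveI : QuasiSober ↥(ι ⁻¹' {x : X | (j : WithBot ℕ∞) ≤ topologicalKrullDim (π.fiber x)}) :=
      ((hB j).preimage ι.continuous).isClosedEmbedding_subtypeVal.quasiSober
    have h1 := dim_add_le_of_embedding (ι ≫ q) (fun b : ↥(ι ⁻¹' {x : X | (j : WithBot ℕ∞) ≤ topologicalKrullDim (π.fiber x)}) => (b : W))
      IsEmbedding.subtypeVal n (c + j) ?_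
    · rw [Nat.cast_add, ← add_assoc] at h1
      exact h1
    · intro b
      show tdeg (ι ≫ q) b.1 + (c + j) ≤ n
      obtain ⟨t, ht, htt⟩ := exists_point_tdeg_ge (π ≫ q) q π rfl (ι.base b.1) j b.2
      have htT : t ∈ π ⁻¹' Set.range ι := ⟨b.1, ht.symm⟩
      have htT' : t ∈ U₀ ∩ Z₀ := by rw [← hT]; exact htT
      have h2 : (tdeg (π ≫ q) t : WithBot ℕ∞) ≤ topologicalKrullDim ↥(π ⁻¹' Set.range ι) :=
        tdeg_le_dim_of_embedding (π ≫ q) (Subtype.val : ↥(π ⁻¹' Set.range ι) → C)
          IsInducing.subtypeVal ⟨t, htT⟩ ⟨U₀, hU₀⟩ htT'.1 (by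
            rintro z ⟨hz, hzU⟩
            have hsp : t ⤳ z := specializes_iff_mem_closure.mpr hz
            have hzZ : z ∈ Z₀ := hsp.mem_closed hZ₀ htT'.2
            have hzT : z ∈ π ⁻¹' Set.range ι := by rw [hT]; exact ⟨hzU, hzZ⟩
            exact ⟨⟨z, hzT⟩, rfl⟩)
      have h3 : ((tdeg (π ≫ q) t + c : ℕ) : WithBot ℕ∞) ≤ (n : WithBot ℕ∞) := by
        rw [Nat.cast_add]
        exact (add_le_add h2 le_rfl).trans hb
      have h4 : tdeg (π ≫ q) t + c ≤ n := by exact_mod_cast h3
      have h5 : tdeg (ι ≫ q) b.1 = tdeg q (ι.base b.1) := tdeg_comp_immersion q ι b.1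
      omega
  · intro hj
    haveI : QuasiSober ↥(π ⁻¹' Set.range ι) := quasiSober_of_isLocallyClosed hTlc
    refine dim_add_le_of_embedding (π ≫ q) (fun t : ↥(π ⁻¹' Set.range ι) => (t : C))
      IsEmbedding.subtypeVal n c ?_
    intro t
    show tdeg (π ≫ q) t.1 + c ≤ n
    obtain ⟨w, hw⟩ := t.2
    obtain ⟨j, hjt, hjdim⟩ := le_dim_fiber_of_point (π ≫ q) q π rfl t.1
    have hwB : w ∈ ι ⁻¹' {x : X | (j : WithBot ℕ∞) ≤ topologicalKrullDim (π.fiber x)} := by
      show (j : WithBot ℕ∞) ≤ topologicalKrullDim (π.fiber (ι.base w))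
      rw [hw]
      exact hjdim
    have hclB : IsClosed (ι ⁻¹' {x : X | (j : WithBot ℕ∞) ≤ topologicalKrullDim (π.fiber x)}) := (hB j).preimage ι.continuous
    have h1 : (tdeg (ι ≫ q) w : WithBot ℕ∞) ≤ topologicalKrullDim ↥(ι ⁻¹' {x : X | (j : WithBot ℕ∞) ≤ topologicalKrullDim (π.fiber x)}) :=
      tdeg_le_dim_of_embedding (ι ≫ q) (Subtype.val : ↥(ι ⁻¹' {x : X | (j : WithBot ℕ∞) ≤ topologicalKrullDim (π.fiber x)}) → W)
        IsInducing.subtypeVal ⟨w, hwB⟩ ⊤ trivial (by
          rintro z ⟨hz, -⟩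
          have hsp : w ⤳ z := specializes_iff_mem_closure.mpr hz
          exact ⟨⟨z, hsp.mem_closed hclB hwB⟩, rfl⟩)
    have h2 := hj j
    have h3 : ((tdeg (ι ≫ q) w + c + j : ℕ) : WithBot ℕ∞) ≤ (n : WithBot ℕ∞) := by
      rw [Nat.cast_add, Nat.cast_add]
      exact (add_le_add (add_le_add h1 le_rfl) le_rfl).trans h2
    have h4 : tdeg (ι ≫ q) w + c + j ≤ n := by exact_mod_cast h3
    have h5 : tdeg (ι ≫ q) w = tdeg q (ι.base w) := tdeg_comp_immersion q ι w
    rw [hw] at h5
    omega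

end Helpers


/-- Second assertion: let k be a field, let π : C → X be a morphism between k-schemes of finite type
such that every irreducible component of C has dimension n, let ι : W → X be a regular immersion of
codimension c, and for j ≥ 0 let B_j ⊆ X be the set of points whose fibre under π has dimension at
least j. Assume that every B_j is closed in X. Then dim B_j + j ≤ n for every j, and the condition
dim π⁻¹(ι(W)) + c ≤ n (that is, dim C ×_X W ≤ n − c) holds if and only if dim ι⁻¹(B_j) + c + j ≤ n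
for every j (that is, ι meets the sequence (B_j) n-semi-properly). Dimensions are topological Krull
dimensions of subspaces, the empty space having dimension ⊥. (Stated for each of the four kinds of
regular immersion of codimension c — regular, Koszul-regular, H₁-regular, quasi-regular; the
published statement does not distinguish kinds.) -/
theorem result (k : Type u) [Field k] (C X W : Scheme.{u})
    (q : X ⟶ Spec (CommRingCat.of k)) (π : C ⟶ X) (ι : W ⟶ X)
    [LocallyOfFiniteType q] [CompactSpace X] [LocallyOfFiniteType π] [CompactSpace C]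
    (κ : RegImm.Kind) (n c : ℕ) (hι : RegImm.IsRegularImmersionOfCodim κ c ι)
    (hC : ∀ P ∈ irreducibleComponents (C : Type u), topologicalKrullDim P = n)
    (hB : ∀ j : ℕ, IsClosed {x : X | (j : WithBot ℕ∞) ≤ topologicalKrullDim (π.fiber x)}) :
    (∀ j : ℕ, topologicalKrullDim {x : X | (j : WithBot ℕ∞) ≤ topologicalKrullDim (π.fiber x)} + (j : WithBot ℕ∞) ≤ n) ∧
      (topologicalKrullDim (π ⁻¹' Set.range ι : Set C) + (c : WithBot ℕ∞) ≤ n ↔
        ∀ j : ℕ, topologicalKrullDim (ι ⁻¹' {x : X | (j : WithBot ℕ∞) ≤ topologicalKrullDim (π.fiber x)} : Set W) + (c : WithBot ℕ∞) + (j : WithBot ℕ∞) ≤ n) := by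
  obtain ⟨hιimm, -⟩ := hι
  haveI := hιimm
  exact main q π ι n c hC hB

end Groth.Agent.S14482
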