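import Groth.Statements.S14497
import Mathlib.CategoryTheory.Abelian.Basic
import Mathlib.CategoryTheory.Subobject.Limits
import Mathlib.CategoryTheory.Preadditive.Basic

set_option autoImplicit false
universe v u
open IndCof

namespace Groth.Agent.S14497

open CategoryTheory CategoryTheory.Limits

section
variable {V : Type u} [Category.{v} V] [Abelian V]

theorem imageSubobject_epi_comp {X' X Y : V} (h : X' ⟶ X) [Epi h] (f : X ⟶ Y) :
    imageSubobject (h ≫ f) = imageSubobject f := by
  have hle := imageSubobject_comp_le h f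
  have : IsIso (Subobject.ofLE _ _ hle) := isIso_of_mono_of_epi _
  apply le_antisymm hle
  exact Subobject.le_of_comm (inv (Subobject.ofLE _ _ hle))
    (by rw [IsIso.inv_comp_eq, Subobject.ofLE_arrow])

theorem imageSubobject_arrow_self {B : V} (D : Subobject B) : imageSubobject D.arrow = D := by
  rw [imageSubobject_mono, Subobject.mk_arrow]

theorem nsmul_id_comp {X Y : V} (t : ℕ) (f : X ⟶ Y) : (t • 𝟙 X) ≫ f = t • f := by
  rw [Preadditive.nsmul_comp, Category.id_comp]

theorem comp_nsmul_id {X Y : V} (t : ℕ) (f : X ⟶ Y) : f ≫ (t • 𝟙 Y) = t • f := by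
  rw [Preadditive.comp_nsmul, Category.comp_id]

/-- if `M` kills `B / B'` then `im (t) ≤ B'` for every multiple `t` of `M`. -/
theorem image_le_of_kill {B : V} (B' : Subobject B) (M : ℕ)
    (hM : M • 𝟙 (cokernel B'.arrow) = 0) (s : ℕ) :
    imageSubobject ((M * s) • 𝟙 B) ≤ B' := by
  have h0 : ((M * s) • 𝟙 B) ≫ cokernel.π B'.arrow = 0 := by
    rw [nsmul_id_comp, ← comp_nsmul_id, mul_comm, mul_smul, hM, smul_zero, comp_zero]
  exact imageSubobject_le _ (Abelian.monoLift B'.arrow _ h0) (Abelian.monoLift_comp _ _ _)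

/-- a `t`-divisible subobject is contained in `im t`. -/
theorem le_image_of_epi {B : V} (D : Subobject B) (t : ℕ) (hD : Epi (t • 𝟙 (D : V))) :
    D ≤ imageSubobject (t • 𝟙 B) := by
  have h1 : (t • 𝟙 (D : V)) ≫ D.arrow = D.arrow ≫ (t • 𝟙 B) := by
    rw [nsmul_id_comp, comp_nsmul_id]
  calc D = imageSubobject D.arrow := (imageSubobject_arrow_self D).symm
    _ = imageSubobject ((t • 𝟙 (D : V)) ≫ D.arrow) := (imageSubobject_epi_comp _ _).symm
    _ = imageSubobject (D.arrow ≫ (t • 𝟙 B)) := by rw [h1]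
    _ ≤ imageSubobject (t • 𝟙 B) := imageSubobject_comp_le _ _

/-- if `im (g ≫ ι) = B'` for `ι = B'.arrow` then `g` is epi. -/
theorem epi_of_image_eq {B X : V} (B' : Subobject B) (g : X ⟶ (B' : V))
    (h : imageSubobject (g ≫ B'.arrow) = B') : Epi g := by
  have h1 : g = factorThruImageSubobject (g ≫ B'.arrow) ≫ (Subobject.isoOfEq _ _ h).hom := by
    rw [← cancel_mono B'.arrow, Category.assoc]
    have : (Subobject.isoOfEq _ _ h).hom ≫ B'.arrow = (imageSubobject (g ≫ B'.arrow)).arrow := by
      simp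
    rw [this, imageSubobject_arrow_comp]
  rw [h1]
  infer_instance

end

open CategoryTheory CategoryTheory.Limits in
/-- Let B be an object of an abelian category and consider the inverse system, indexed by the positive
integers ordered by divisibility, with every term equal to B and transition map from the m-th to the
n-th term (n ∣ m) given by multiplication by m/n. This system is Mittag-Leffler, i.e. for every n
the images in the n-th term of the transition maps are eventually constant, if and only if B has a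
divisible sub-object B' (multiplication by every positive integer is an epimorphism of B') with B/B'
killed by some positive integer. Moreover such a B' is the largest divisible sub-object of B. -/
theorem result
    {V : Type u} [Category.{v} V] [Abelian V] (B : V) :
    ((∀ n : ℕ, 0 < n → ∃ m : ℕ, 0 < m ∧ n ∣ m ∧ ∀ m' : ℕ, 0 < m' → m ∣ m' →
        imageSubobject ((m' / n) • 𝟙 B) = imageSubobject ((m / n) • 𝟙 B)) ↔
      ∃ B' : Subobject B, (∀ k : ℕ, 0 < k → Epi (k • 𝟙 (B' : V))) ∧
        ∃ M : ℕ, 0 < M ∧ M • 𝟙 (cokernel B'.arrow) = 0) ∧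
    (∀ B' : Subobject B, (∀ k : ℕ, 0 < k → Epi (k • 𝟙 (B' : V))) →
      (∃ M : ℕ, 0 < M ∧ M • 𝟙 (cokernel B'.arrow) = 0) →
      ∀ D : Subobject B, (∀ k : ℕ, 0 < k → Epi (k • 𝟙 (D : V))) → D ≤ B') := by
  have part2 : ∀ B' : Subobject B, (∀ k : ℕ, 0 < k → Epi (k • 𝟙 (B' : V))) →
      (∃ M : ℕ, 0 < M ∧ M • 𝟙 (cokernel B'.arrow) = 0) →
      ∀ D : Subobject B, (∀ k : ℕ, 0 < k → Epi (k • 𝟙 (D : V))) → D ≤ B' := by
    intro B' _ hM D hD
    obtain ⟨M, hM0, hM⟩ := hM
    have h1 := le_image_of_epi D M (hD M hM0)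
    have h2 := image_le_of_kill B' M hM 1
    rw [mul_one] at h2
    exact h1.trans h2
  refine ⟨⟨?_, ?_⟩, part2⟩
  · intro hML
    obtain ⟨m, hm0, -, hm⟩ := hML 1 Nat.one_pos
    simp only [Nat.div_one] at hm
    refine ⟨imageSubobject (m • 𝟙 B), ?_, m, hm0, ?_⟩
    · intro k hk
      apply epi_of_image_eq
      have e1 : factorThruImageSubobject (m • 𝟙 B) ≫ (k • 𝟙 _) ≫ (imageSubobject (m • 𝟙 B)).arrow =
          (m * k) • 𝟙 B := by
        rw [nsmul_id_comp, Preadditive.comp_nsmul, imageSubobject_arrow_comp, mul_comm, mul_smul]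
      rw [← imageSubobject_epi_comp (factorThruImageSubobject (m • 𝟙 B)), e1]
      exact hm (m * k) (Nat.mul_pos hm0 hk) (Dvd.intro k rfl)
    · have h1 : (m • 𝟙 B) ≫ cokernel.π (imageSubobject (m • 𝟙 B)).arrow = 0 := by
        have h2 : (m • 𝟙 B) ≫ cokernel.π (imageSubobject (m • 𝟙 B)).arrow =
            (factorThruImageSubobject (m • 𝟙 B) ≫ (imageSubobject (m • 𝟙 B)).arrow) ≫
              cokernel.π (imageSubobject (m • 𝟙 B)).arrow := by
          rw [imageSubobject_arrow_comp]
        rw [h2, Category.assoc, cokernel.condition, comp_zero]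
      rw [← cancel_epi (cokernel.π (imageSubobject (m • 𝟙 B)).arrow), comp_nsmul_id, comp_zero]
      exact (nsmul_id_comp m _).symm.trans h1
  · rintro ⟨B', hdiv, M, hM0, hM⟩ n hn
    refine ⟨n * M, Nat.mul_pos hn hM0, Dvd.intro M rfl, ?_⟩
    intro m' hm' hdvd
    obtain ⟨s, rfl⟩ := hdvd
    have hs : 0 < s := by
      rcases Nat.eq_zero_or_pos s with h | h
      · rw [h, mul_zero] at hm'; exact absurd hm' (lt_irrefl 0)
      · exact h
    have key : ∀ t : ℕ, 0 < t → imageSubobject ((M * t) • 𝟙 B) = B' := by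
      intro t ht
      exact le_antisymm (image_le_of_kill B' M hM t)
        (le_image_of_epi B' (M * t) (hdiv _ (Nat.mul_pos hM0 ht)))
    have e1 : n * M * s / n = M * s := by
      rw [mul_assoc, Nat.mul_div_cancel_left _ hn]
    have e2 : n * M / n = M * 1 := by
      rw [Nat.mul_div_cancel_left _ hn, mul_one]
    rw [e1, e2, key s hs, key 1 Nat.one_pos]

end Groth.Agent.S14497
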