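import Groth.Statements.S14496
import Groth.Agent.H16.IndCof3
import Groth.Agent.S14497

set_option autoImplicit false
universe v
open IndCof

namespace Groth.Agent.S14496

open CategoryTheory CategoryTheory.Limits Groth.Agent.H16.GenElem Groth.Agent.H16.IndCof

section
variable {V : Type*} [Category V] [Abelian V]

theorem epi_pow_nsmul {X : V} (p : ℕ) (h : Epi (p • 𝟙 X)) : ∀ k : ℕ, Epi ((p ^ k) • 𝟙 X) := by
  intro k
  induction k with
  | zero => rw [pow_zero, one_smul]; infer_instance
  | succ k ih =>
    rw [pow_succ, ← nsmul_id_comp_nsmul_id]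
    exact epi_comp _ _

end

open CategoryTheory CategoryTheory.Limits in
/-- Let C be a small abelian category all of whose objects are Artinian and killed by some power of a
prime p, and A an ind-object of C of cofinite type. Let N be such that p^n A = p^N A for all n ≥ N,
so that the divisible part A_div = ⋂ p^n A equals p^N A. Then A_div is of cofinite type and
divisible (multiplication by p on it is an epimorphism; integers prime to p act invertibly on every
ind-object here, so this is divisibility by all positive integers); it is the largest divisible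
sub-object of A; and A / A_div is the largest quotient of A lying in C: every epimorphism from A
onto an object isomorphic to an object of C vanishes on A_div. (The row takes the stabilization
index N as a hypothesis instead of forming the intersection; that A / A_div itself lies in C is the
statement about A / p^N A and is not repeated here.) -/
theorem result {C : Type v} [SmallCategory C] [Abelian C]
    (hart : ∀ X : C, IsArtinianObject X) (p : ℕ) (hp : p.Prime)
    (htor : ∀ X : C, ∃ n : ℕ, (p ^ n) • 𝟙 X = 0)
    (A : Ind C) (hA : ∀ n : ℕ, (Ind.yoneda (C := C)).essImage (kernel ((p ^ n) • 𝟙 A))) (N : ℕ)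
    (hN : ∀ n : ℕ, N ≤ n → imageSubobject ((p ^ n) • 𝟙 A) = imageSubobject ((p ^ N) • 𝟙 A)) :
    (∀ n : ℕ, (Ind.yoneda (C := C)).essImage
        (kernel ((p ^ n) • 𝟙 ((imageSubobject ((p ^ N) • 𝟙 A) : Subobject A) : Ind C)))) ∧
      Epi (p • 𝟙 ((imageSubobject ((p ^ N) • 𝟙 A) : Subobject A) : Ind C)) ∧
      (∀ D : Subobject A, Epi (p • 𝟙 (D : Ind C)) → D ≤ imageSubobject ((p ^ N) • 𝟙 A)) ∧
      (∀ (Q : Ind C) (q : A ⟶ Q), Epi q → (Ind.yoneda (C := C)).essImage Q →
        (imageSubobject ((p ^ N) • 𝟙 A)).arrow ≫ q = 0) := by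
  set D := imageSubobject ((p ^ N) • 𝟙 A) with hD
  -- divisibility
  have hdiv : Epi (p • 𝟙 (D : Ind C)) := by
    apply Groth.Agent.S14497.epi_of_image_eq
    have e1 : factorThruImageSubobject ((p ^ N) • 𝟙 A) ≫ (p • 𝟙 (D : Ind C)) ≫ D.arrow =
        (p ^ (N + 1)) • 𝟙 A := by
      rw [nsmul_id_comp, Preadditive.comp_nsmul, imageSubobject_arrow_comp, pow_succ, mul_comm,
        mul_smul]
    rw [← Groth.Agent.S14497.imageSubobject_epi_comp (factorThruImageSubobject ((p ^ N) • 𝟙 A)),
      e1]
    exact hN (N + 1) (Nat.le_succ N)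
  refine ⟨fun n => essImage_kernel_image p A hA N n, hdiv, ?_, ?_⟩
  · intro D' hD'
    exact Groth.Agent.S14497.le_image_of_epi D' (p ^ N) (epi_pow_nsmul p hD' N)
  · intro Q q _ hQ
    obtain ⟨X, ⟨e⟩⟩ := hQ
    obtain ⟨k, hk⟩ := htor X
    have hQ0 : (p ^ k) • 𝟙 Q = 0 := by
      have h1 : e.hom ≫ ((p ^ k) • 𝟙 Q) = 0 := by
        rw [← nsmul_id_comm, ← yoneda_map_nsmul_id, hk, Functor.map_zero, zero_comp]
      exact (cancel_epi e.hom).mp (h1.trans comp_zero.symm)
    haveI := epi_pow_nsmul p hdiv k
    rw [← cancel_epi ((p ^ k) • 𝟙 (D : Ind C)), comp_zero, nsmul_id_comm, hQ0, comp_zero]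

end Groth.Agent.S14496
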