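import Groth.Statements.S14498
import Mathlib

set_option autoImplicit false
universe v u
open AbDiag

namespace Groth.Agent.S14498


open CategoryTheory CategoryTheory.Limits in
/-- In an abelian category, let 0 → F → W → E' → 0 (maps a, b) and 0 → E → W → F' → G → G' → 0 (maps c,
d, e, g) be exact sequences such that the composite F → W → F' is a monomorphism. Then the composite
E → W → E' is a monomorphism, and there is a short exact sequence 0 → Coker(E → E') → Coker(F → F')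
→ Ker(G → G') → 0 whose first map is induced by d (through the quotient map b) and whose second map
is induced by e. -/
theorem result
    {V : Type u} [Category.{v} V] [Abelian V] {F W E' E F' G G' : V}
    (a : F ⟶ W) (b : W ⟶ E') (c : E ⟶ W) (d : W ⟶ F') (e : F' ⟶ G) (g : G ⟶ G')
    [Mono a] [Epi b] (wab : a ≫ b = 0) (hab : (ShortComplex.mk a b wab).Exact)
    [Mono c] (wcd : c ≫ d = 0) (hcd : (ShortComplex.mk c d wcd).Exact)
    (wde : d ≫ e = 0) (hde : (ShortComplex.mk d e wde).Exact)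
    (weg : e ≫ g = 0) (heg : (ShortComplex.mk e g weg).Exact) [Epi g]
    (hmono : Mono (a ≫ d)) :
    Mono (c ≫ b) ∧
      ∃ (φ : cokernel (c ≫ b) ⟶ cokernel (a ≫ d)) (ψ : cokernel (a ≫ d) ⟶ kernel g)
        (w : φ ≫ ψ = 0),
        b ≫ cokernel.π (c ≫ b) ≫ φ = d ≫ cokernel.π (a ≫ d) ∧
        cokernel.π (a ≫ d) ≫ ψ ≫ kernel.ι g = e ∧
        (ShortComplex.mk φ ψ w).ShortExact := by
  classical
  have ma : Mono (ShortComplex.mk a b wab).f := ‹Mono a›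
  have eb : Epi (ShortComplex.mk a b wab).g := ‹Epi b›
  have lift_a : ∀ {T : V} (k : T ⟶ W), k ≫ b = 0 → ∃ l : T ⟶ F, l ≫ a = k :=
    fun k hk => ⟨hab.lift k hk, hab.lift_f k hk⟩
  have desc_b : ∀ {T : V} (k : W ⟶ T), a ≫ k = 0 → ∃ l : E' ⟶ T, b ≫ l = k :=
    fun k hk => ⟨hab.desc k hk, hab.g_desc k hk⟩
  -- (1)
  have hmono1 : Mono (c ≫ b) := by
    apply Preadditive.mono_of_cancel_zero
    intro T x hx
    have h1 : (x ≫ c) ≫ b = 0 := by rw [Category.assoc]; exact hx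
    obtain ⟨y, hy⟩ := lift_a (x ≫ c) h1
    have h2 : y ≫ (a ≫ d) = 0 := by
      rw [← Category.assoc, hy, Category.assoc, wcd, Limits.comp_zero]
    have hy0 : y = 0 := (cancel_mono (a ≫ d)).mp (by rw [h2, Limits.zero_comp])
    have h3 : x ≫ c = 0 := by rw [← hy, hy0, Limits.zero_comp]
    exact (cancel_mono c).mp (by rw [h3, Limits.zero_comp])
  refine ⟨hmono1, ?_⟩
  -- β : E' ⟶ coker (a ≫ d)
  obtain ⟨β, hβ⟩ := desc_b (d ≫ cokernel.π (a ≫ d))
    (by rw [← Category.assoc, cokernel.condition])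
  have hcbβ : (c ≫ b) ≫ β = 0 := by
    rw [Category.assoc, hβ, ← Category.assoc, wcd, Limits.zero_comp]
  let φ : cokernel (c ≫ b) ⟶ cokernel (a ≫ d) := cokernel.desc (c ≫ b) β hcbβ
  have hφ : cokernel.π (c ≫ b) ≫ φ = β := cokernel.π_desc _ _ _
  let et : F' ⟶ kernel g := kernel.lift g e weg
  have het : et ≫ kernel.ι g = e := kernel.lift_ι _ _ _
  have hadet : (a ≫ d) ≫ et = 0 := by
    apply (cancel_mono (kernel.ι g)).mp
    rw [Category.assoc, het, Category.assoc, wde, Limits.comp_zero, Limits.zero_comp]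
  let ψ : cokernel (a ≫ d) ⟶ kernel g := cokernel.desc (a ≫ d) et hadet
  have hψ : cokernel.π (a ≫ d) ≫ ψ = et := cokernel.π_desc _ _ _
  have P1 : b ≫ cokernel.π (c ≫ b) ≫ φ = d ≫ cokernel.π (a ≫ d) := by rw [hφ, hβ]
  have P2 : cokernel.π (a ≫ d) ≫ ψ ≫ kernel.ι g = e := by
    rw [← Category.assoc, hψ, het]
  have epibπ : Epi (b ≫ cokernel.π (c ≫ b)) := epi_comp _ _
  have w : φ ≫ ψ = 0 := by
    apply (cancel_epi (b ≫ cokernel.π (c ≫ b))).mp
    apply (cancel_mono (kernel.ι g)).mp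
    calc ((b ≫ cokernel.π (c ≫ b)) ≫ φ ≫ ψ) ≫ kernel.ι g
        = (b ≫ cokernel.π (c ≫ b) ≫ φ) ≫ ψ ≫ kernel.ι g := by simp only [Category.assoc]
      _ = d ≫ e := by rw [P1, Category.assoc, P2]
      _ = ((b ≫ cokernel.π (c ≫ b)) ≫ 0) ≫ kernel.ι g := by rw [wde]; simp
  refine ⟨φ, ψ, w, P1, P2, ?_⟩
  have epiet : Epi et := by
    have := (ShortComplex.exact_iff_epi_kernel_lift (ShortComplex.mk e g weg)).mp heg
    exact this
  have epiψ : Epi ψ := epi_of_epi_fac hψ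
  have monoφ : Mono φ := by
    apply Preadditive.mono_of_cancel_zero
    intro T x hx
    obtain ⟨A₁, π₁, hπ₁, w₁, hw₁⟩ :=
      surjective_up_to_refinements_of_epi (b ≫ cokernel.π (c ≫ b)) x
    have h1 : (w₁ ≫ d) ≫ cokernel.π (a ≫ d) = 0 := by
      rw [Category.assoc, ← P1]
      have : w₁ ≫ b ≫ cokernel.π (c ≫ b) ≫ φ = (w₁ ≫ b ≫ cokernel.π (c ≫ b)) ≫ φ := by
        simp only [Category.assoc]
      rw [this, ← hw₁, Category.assoc, hx, Limits.comp_zero]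
    obtain ⟨A₂, π₂, hπ₂, y, hy⟩ :=
      (ShortComplex.exact_cokernel (a ≫ d)).exact_up_to_refinements (w₁ ≫ d) h1
    have hy' : π₂ ≫ w₁ ≫ d = y ≫ a ≫ d := hy
    have h2 : (π₂ ≫ w₁ - y ≫ a) ≫ d = 0 := by
      rw [Preadditive.sub_comp, Category.assoc, Category.assoc, hy', sub_self]
    obtain ⟨A₃, π₃, hπ₃, z, hz⟩ := hcd.exact_up_to_refinements (π₂ ≫ w₁ - y ≫ a) h2
    have hz' : π₃ ≫ (π₂ ≫ w₁ - y ≫ a) = z ≫ c := hz
    have h3 : π₃ ≫ π₂ ≫ w₁ = z ≫ c + π₃ ≫ y ≫ a := by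
      rw [← hz', Preadditive.comp_sub]
      simp
    have h4 : (π₃ ≫ π₂ ≫ π₁) ≫ x = 0 := by
      have e1 : (π₃ ≫ π₂ ≫ π₁) ≫ x = (π₃ ≫ π₂ ≫ w₁) ≫ b ≫ cokernel.π (c ≫ b) := by
        simp only [Category.assoc]
        rw [hw₁]
      rw [e1, h3, Preadditive.add_comp]
      have e2 : (z ≫ c) ≫ b ≫ cokernel.π (c ≫ b) = z ≫ (c ≫ b) ≫ cokernel.π (c ≫ b) := by
        simp only [Category.assoc]
      have e3 : (π₃ ≫ y ≫ a) ≫ b ≫ cokernel.π (c ≫ b)
          = π₃ ≫ y ≫ (a ≫ b) ≫ cokernel.π (c ≫ b) := by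
        simp only [Category.assoc]
      rw [e2, e3, cokernel.condition, wab]
      simp
    have epi3 : Epi (π₃ ≫ π₂ ≫ π₁) := by
      have : Epi (π₂ ≫ π₁) := epi_comp _ _
      exact epi_comp _ _
    exact (cancel_epi (π₃ ≫ π₂ ≫ π₁)).mp (by rw [h4, Limits.comp_zero])
  refine { exact := ?_, mono_f := monoφ, epi_g := epiψ }
  rw [ShortComplex.exact_iff_exact_up_to_refinements]
  intro T x hx
  have hx' : x ≫ ψ = 0 := hx
  obtain ⟨A₁, π₁, hπ₁, f, hf⟩ := surjective_up_to_refinements_of_epi (cokernel.π (a ≫ d)) x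
  have h1 : f ≫ e = 0 := by
    rw [← P2]
    have : f ≫ cokernel.π (a ≫ d) ≫ ψ ≫ kernel.ι g
        = (f ≫ cokernel.π (a ≫ d)) ≫ ψ ≫ kernel.ι g := by simp only [Category.assoc]
    rw [this, ← hf, Category.assoc, ← Category.assoc x, hx', Limits.zero_comp, Limits.comp_zero]
  obtain ⟨A₂, π₂, hπ₂, w₂, hw₂⟩ := hde.exact_up_to_refinements f h1
  have hw₂' : π₂ ≫ f = w₂ ≫ d := hw₂
  refine ⟨A₂, π₂ ≫ π₁, epi_comp _ _, w₂ ≫ b ≫ cokernel.π (c ≫ b), ?_⟩
  show (π₂ ≫ π₁) ≫ x = (w₂ ≫ b ≫ cokernel.π (c ≫ b)) ≫ φ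
  have : (w₂ ≫ b ≫ cokernel.π (c ≫ b)) ≫ φ = w₂ ≫ b ≫ cokernel.π (c ≫ b) ≫ φ := by
    simp only [Category.assoc]
  rw [this, P1, Category.assoc, hf, ← Category.assoc, hw₂', Category.assoc]

end Groth.Agent.S14498
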