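import Mathlib
import Groth.Statements.S14501
import Groth.Agent.H79.Lattice

set_option autoImplicit false
universe u
open IntTh

namespace Groth.Agent.S14501

/-- Take a one-dimensional Noetherian local domain A with fraction field K, V a finite-dimensional
K-vector space and M₁, M₂, M₃ lattices in V (finitely generated A-submodules spanning V over K).
Define the distance d(M, M') as length_A(M/(M ∩ M')) − length_A(M'/(M ∩ M')), with the (finite)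
lengths read as natural numbers. Then d(M₁, M₃) = d(M₁, M₂) + d(M₂, M₃). -/
theorem result (A : Type u) [CommRing A] [IsDomain A] [IsNoetherianRing A]
    [IsLocalRing A] (hA : ringKrullDim A = 1) (K : Type u) [Field K] [Algebra A K]
    [IsFractionRing A K] (V : Type u) [AddCommGroup V] [Module K V] [Module A V]
    [IsScalarTower A K V] [FiniteDimensional K V]
    (M₁ M₂ M₃ : Submodule A V) [Submodule.IsLattice K M₁] [Submodule.IsLattice K M₂]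
    [Submodule.IsLattice K M₃] :
    ((Module.length A (↥M₁ ⧸ (M₁ ⊓ M₃).submoduleOf M₁)).toNat : ℤ) -
        ((Module.length A (↥M₃ ⧸ (M₁ ⊓ M₃).submoduleOf M₃)).toNat : ℤ) =
      (((Module.length A (↥M₁ ⧸ (M₁ ⊓ M₂).submoduleOf M₁)).toNat : ℤ) -
        ((Module.length A (↥M₂ ⧸ (M₁ ⊓ M₂).submoduleOf M₂)).toNat : ℤ)) +
      (((Module.length A (↥M₂ ⧸ (M₂ ⊓ M₃).submoduleOf M₂)).toNat : ℤ) -
        ((Module.length A (↥M₃ ⧸ (M₂ ⊓ M₃).submoduleOf M₃)).toNat : ℤ)) := by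
  classical
  haveI : Ring.KrullDimLE 1 A := Ring.krullDimLE_iff.2 (by simp [hA])
  have hfg : ∀ (M : Submodule A V) [Submodule.IsLattice K M], M.FG := fun M _ =>
    Submodule.IsLattice.fg
  have hsp : ∀ (M : Submodule A V) [Submodule.IsLattice K M],
      Submodule.span K (M : Set V) = ⊤ := fun M _ => Submodule.IsLattice.span_eq_top
  have hfg1 := hfg M₁
  have hfg2 := hfg M₂
  have hfg3 := hfg M₃
  have hsp1 := hsp M₁
  have hsp2 := hsp M₂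
  have hsp3 := hsp M₃
  have hsp12 := Groth.Agent.H79.Lattice.span_inf M₁ M₂ hsp1 hsp2
  have hsp13 := Groth.Agent.H79.Lattice.span_inf M₁ M₃ hsp1 hsp3
  have hsp23 := Groth.Agent.H79.Lattice.span_inf M₂ M₃ hsp2 hsp3
  set N : Submodule A V := (M₁ ⊓ M₂) ⊓ M₃ with hN
  have hspN : Submodule.span K (N : Set V) = ⊤ :=
    Groth.Agent.H79.Lattice.span_inf (M₁ ⊓ M₂) M₃ hsp12 hsp3
  have hsubfg : ∀ (P M : Submodule A V), M.FG → P ≤ M → P.FG := by
    intro P M hM hPM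
    haveI : IsNoetherian A ↥M := isNoetherian_of_fg_of_noetherian M hM
    haveI : IsNoetherian A ↥P := isNoetherian_of_le hPM
    exact Module.Finite.iff_fg.1 inferInstance
  have hfin : ∀ (P M : Submodule A V), M.FG → Submodule.span K (P : Set V) = ⊤ →
      ∃ n : ℕ, Module.length A (↥M ⧸ P.submoduleOf M) = (n : ℕ∞) := by
    intro P M hM hP
    have h1 := Module.length_ne_top_iff.2
      (Groth.Agent.H79.Lattice.isFiniteLength_quot (K := K) M P hM hP)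
    obtain ⟨n, hn⟩ := ENat.ne_top_iff_exists.1 h1
    exact ⟨n, hn.symm⟩
  have hN12 : N ≤ M₁ ⊓ M₂ := inf_le_left
  have hN13 : N ≤ M₁ ⊓ M₃ := le_inf (inf_le_left.trans inf_le_left) inf_le_right
  have hN23 : N ≤ M₂ ⊓ M₃ := le_inf (inf_le_left.trans inf_le_right) inf_le_right
  have hfg12 := hsubfg (M₁ ⊓ M₂) M₁ hfg1 inf_le_left
  have hfg13 := hsubfg (M₁ ⊓ M₃) M₁ hfg1 inf_le_left
  have hfg23 := hsubfg (M₂ ⊓ M₃) M₂ hfg2 inf_le_left
  -- the nine finite lengths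
  obtain ⟨a1, ha1⟩ := hfin N M₁ hfg1 hspN
  obtain ⟨a2, ha2⟩ := hfin N M₂ hfg2 hspN
  obtain ⟨a3, ha3⟩ := hfin N M₃ hfg3 hspN
  obtain ⟨b12, hb12⟩ := hfin N (M₁ ⊓ M₂) hfg12 hspN
  obtain ⟨b13, hb13⟩ := hfin N (M₁ ⊓ M₃) hfg13 hspN
  obtain ⟨b23, hb23⟩ := hfin N (M₂ ⊓ M₃) hfg23 hspN
  obtain ⟨c12, hc12⟩ := hfin (M₁ ⊓ M₂) M₁ hfg1 hsp12
  obtain ⟨c21, hc21⟩ := hfin (M₁ ⊓ M₂) M₂ hfg2 hsp12
  obtain ⟨c13, hc13⟩ := hfin (M₁ ⊓ M₃) M₁ hfg1 hsp13
  obtain ⟨c31, hc31⟩ := hfin (M₁ ⊓ M₃) M₃ hfg3 hsp13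
  obtain ⟨c23, hc23⟩ := hfin (M₂ ⊓ M₃) M₂ hfg2 hsp23
  obtain ⟨c32, hc32⟩ := hfin (M₂ ⊓ M₃) M₃ hfg3 hsp23
  have e1 := Groth.Agent.H79.Lattice.length_add N (M₁ ⊓ M₂) M₁ hN12 inf_le_left
  have e2 := Groth.Agent.H79.Lattice.length_add N (M₁ ⊓ M₂) M₂ hN12 inf_le_right
  have e3 := Groth.Agent.H79.Lattice.length_add N (M₁ ⊓ M₃) M₁ hN13 inf_le_left
  have e4 := Groth.Agent.H79.Lattice.length_add N (M₁ ⊓ M₃) M₃ hN13 inf_le_right
  have e5 := Groth.Agent.H79.Lattice.length_add N (M₂ ⊓ M₃) M₂ hN23 inf_le_left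
  have e6 := Groth.Agent.H79.Lattice.length_add N (M₂ ⊓ M₃) M₃ hN23 inf_le_right
  rw [ha1, hb12, hc12] at e1
  rw [ha2, hb12, hc21] at e2
  rw [ha1, hb13, hc13] at e3
  rw [ha3, hb13, hc31] at e4
  rw [ha2, hb23, hc23] at e5
  rw [ha3, hb23, hc32] at e6
  norm_cast at e1 e2 e3 e4 e5 e6
  rw [hc13, hc31, hc12, hc21, hc23, hc32]
  simp only [ENat.toNat_natCast]
  omega

end Groth.Agent.S14501
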