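import Groth.Statements.S14504
import Mathlib

set_option autoImplicit false
universe u
open IntTh

namespace Groth.Agent.S14504


lemma schub_forward {K : Type*} [Field K] {n d : ℕ} (V : ℕ → Submodule K (Fin n → K))
    (hV : ∀ (j : ℕ) (v : Fin n → K), v ∈ V j ↔ ∀ l : Fin n, j ≤ (l : ℕ) → v l = 0)
    (A : Matrix (Fin d) (Fin n) K) (t : ℕ) (i : Fin d)
    (h : (i : ℕ) + 1 ≤
      Module.finrank K ↥(Submodule.span K (Set.range fun r : Fin d => A r) ⊓ V t))
    (J : Fin d → Fin n) (hJ : StrictMono J) (hti : t ≤ (J i : ℕ)) :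
    (A.submatrix id J).det = 0 := by
  classical
  obtain ⟨f, hf⟩ : ∃ f : ↥(Submodule.span K (Set.range fun r : Fin d => A r) ⊓ V t) →ₗ[K]
      (Fin (i : ℕ) → K), ∀ w j, f w j = (w : Fin n → K) (J ⟨j, lt_trans j.isLt i.isLt⟩) :=
    ⟨LinearMap.pi (fun j => (LinearMap.proj (J ⟨j, lt_trans j.isLt i.isLt⟩)) ∘ₗ
      (Submodule.subtype _)), fun w j => rfl⟩
  have hker : LinearMap.ker f ≠ ⊥ := by
    apply LinearMap.ker_ne_bot_of_finrank_lt
    rw [Module.finrank_fin_fun]
    omega
  obtain ⟨w, hw, hw0⟩ := (Submodule.ne_bot_iff _).mp hker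
  have hwW : (w : Fin n → K) ∈ Submodule.span K (Set.range fun r : Fin d => A r) := w.2.1
  have hwV : (w : Fin n → K) ∈ V t := w.2.2
  obtain ⟨c, hc⟩ := (Submodule.mem_span_range_iff_exists_fun K).mp hwW
  have hc0 : c ≠ 0 := by
    rintro rfl
    apply hw0
    apply Subtype.ext
    rw [← hc]; simp
  rw [← Matrix.exists_vecMul_eq_zero_iff]
  refine ⟨c, hc0, ?_⟩
  funext j
  have h1 : (Matrix.vecMul c (A.submatrix id J)) j = (w : Fin n → K) (J j) := by
    rw [← hc]
    simp [Matrix.vecMul, dotProduct, Finset.sum_apply]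
  rw [h1, Pi.zero_apply]
  by_cases hji : j < i
  · have h2 := congrFun (LinearMap.mem_ker.mp hw) ⟨j, hji⟩
    rw [hf] at h2
    exact h2
  · have hij : i ≤ j := not_lt.mp hji
    have h3 : J i ≤ J j := hJ.monotone hij
    exact (hV t _).mp hwV (J j) (le_trans hti (Fin.le_def.mp h3))

lemma schub_backward {K : Type*} [Field K] {n d : ℕ} (V : ℕ → Submodule K (Fin n → K))
    (hV : ∀ (j : ℕ) (v : Fin n → K), v ∈ V j ↔ ∀ l : Fin n, j ≤ (l : ℕ) → v l = 0)
    (A : Matrix (Fin d) (Fin n) K) (hA : LinearIndependent K (fun r : Fin d => A r))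
    (t : ℕ) (i : Fin d)
    (h : ∀ J : Fin d → Fin n, StrictMono J → t ≤ (J i : ℕ) → (A.submatrix id J).det = 0) :
    (i : ℕ) + 1 ≤
      Module.finrank K ↥(Submodule.span K (Set.range fun r : Fin d => A r) ⊓ V t) := by
  classical
  by_contra hlt
  push Not at hlt
  obtain ⟨col, hcol⟩ : ∃ col : Fin n → (Fin d → K), ∀ l r, col l r = A r l :=
    ⟨fun l r => A r l, fun _ _ => rfl⟩
  obtain ⟨S₁, hS₁T, -, hS₁span, hS₁li⟩ := exists_linearIndepOn_extension (K := K) (v := col)
    (s := ∅) (t := {l : Fin n | t ≤ (l : ℕ)}) (linearIndepOn_empty K col) (Set.empty_subset _)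
  obtain ⟨S, -, hS₁S, hSspan, hSli⟩ := exists_linearIndepOn_extension (K := K) (v := col)
    hS₁li (Set.subset_univ S₁)
  -- columns span everything
  have hcolspan : Submodule.span K (Set.range col) = ⊤ := by
    have h1 : A.rank = d := by
      have := LinearIndependent.rank_matrix (M := A) hA
      rwa [Fintype.card_fin] at this
    have h2 : Submodule.span K (Set.range col) = LinearMap.range A.mulVecLin := by
      have h3 : col = A.col := funext fun l => funext fun r => hcol l r
      rw [Matrix.range_mulVecLin, h3]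
    rw [h2]
    apply Submodule.eq_top_of_finrank_eq
    rw [Module.finrank_fin_fun]
    exact h1
  have hSspan' : ⊤ ≤ Submodule.span K (Set.range fun x : S => col x) := by
    rw [← hcolspan, Submodule.span_le]
    rintro _ ⟨l, rfl⟩
    have h1 := hSspan ⟨l, Set.mem_univ l, rfl⟩
    have h2 : (Set.range fun x : S => col x) = col '' S := by
      ext y; simp
    rw [h2]; exact h1
  have hScard : Fintype.card S = d := by
    have hb := Module.finrank_eq_card_basis (Module.Basis.mk hSli hSspan')
    rw [Module.finrank_fin_fun] at hb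
    exact hb.symm
  -- the map Q
  obtain ⟨R, hR⟩ : ∃ R : (Fin d → K) →ₗ[K] (Fin n → K), ∀ c, R c = Matrix.vecMul c A :=
    ⟨Matrix.vecMulLinear A, fun c => rfl⟩
  have hRinj : Function.Injective R := by
    have h1 : Function.Injective A.vecMul := Matrix.vecMul_injective_iff.mpr hA
    intro a b hab
    rw [hR, hR] at hab
    exact h1 hab
  obtain ⟨Q, hQ⟩ : ∃ Q : (Fin d → K) →ₗ[K] (S₁ → K), ∀ c l, Q c l = R c (l : Fin n) :=
    ⟨LinearMap.pi (fun l : S₁ => LinearMap.proj (l : Fin n) ∘ₗ R), fun c l => rfl⟩
  have hRl : ∀ c l, R c l = dotProduct c (col l) := by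
    intro c l
    rw [hR]
    simp [Matrix.vecMul, dotProduct, hcol]
  have hmem : ∀ c : LinearMap.ker Q, (R ∘ₗ (LinearMap.ker Q).subtype) c ∈
      Submodule.span K (Set.range fun r : Fin d => A r) ⊓ V t := by
    intro c
    constructor
    · show R (c : Fin d → K) ∈ _
      rw [hR, Matrix.vecMul_eq_sum]
      exact Submodule.sum_mem _ fun r _ => Submodule.smul_mem _ _ (Submodule.subset_span ⟨r, rfl⟩)
    · show R (c : Fin d → K) ∈ V t
      rw [hV]
      intro l hl
      rw [hRl]
      have hc : Q (c : Fin d → K) = 0 := LinearMap.mem_ker.mp c.2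
      have hle : ∀ u ∈ Submodule.span K (col '' S₁), dotProduct (c : Fin d → K) u = 0 := by
        intro u hu
        induction hu using Submodule.span_induction with
        | mem y hy =>
          obtain ⟨l', hl', rfl⟩ := hy
          rw [← hRl]
          have h5 := congrFun hc ⟨l', hl'⟩
          rw [hQ] at h5
          exact h5
        | zero => exact dotProduct_zero _
        | add y z _ _ hy hz => rw [dotProduct_add, hy, hz, add_zero]
        | smul a y _ hy => rw [dotProduct_smul, hy, smul_zero]
      exact hle _ (hS₁span ⟨l, hl, rfl⟩)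
  have hfk : Module.finrank K (LinearMap.ker Q) ≤ (i : ℕ) := by
    have hinj : Function.Injective (LinearMap.codRestrict _ (R ∘ₗ (LinearMap.ker Q).subtype) hmem) := by
      intro a b hab
      have := congrArg Subtype.val hab
      simp only [LinearMap.codRestrict_apply, LinearMap.comp_apply, Submodule.subtype_apply] at this
      exact Subtype.ext (hRinj this)
    have := LinearMap.finrank_le_finrank_of_injective hinj
    omega
  have hS₁card : d ≤ Fintype.card S₁ + (i : ℕ) := by
    have h1 := Q.finrank_range_add_finrank_ker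
    have h2 : Module.finrank K (LinearMap.range Q) ≤ Fintype.card S₁ := by
      have := (LinearMap.range Q).finrank_le
      rwa [Module.finrank_fintype_fun_eq_card] at this
    rw [Module.finrank_fin_fun] at h1
    omega
  have hScard' : S.toFinset.card = d := by rw [Set.toFinset_card]; exact hScard
  obtain ⟨J, hJ⟩ : ∃ J : Fin d ↪o Fin n, J = S.toFinset.orderEmbOfFin hScard' := ⟨_, rfl⟩
  have hJmem : ∀ j, J j ∈ S := fun j => by
    have h6 := Finset.orderEmbOfFin_mem S.toFinset hScard' j
    rw [← hJ] at h6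
    exact Set.mem_toFinset.mp h6
  have hdet : (A.submatrix id J).det ≠ 0 := by
    have hli : LinearIndependent K (fun j : Fin d => col (J j)) :=
      hSli.comp (fun j : Fin d => (⟨J j, hJmem j⟩ : S))
        (fun a b hab => J.injective (congrArg Subtype.val hab))
    have hli2 : LinearIndependent K (A.submatrix id J).col := by
      convert hli using 1
      funext j r
      exact (hcol (J j) r).symm
    have hu := Matrix.linearIndependent_cols_iff_isUnit.mp hli2
    exact ((Matrix.isUnit_iff_isUnit_det _).mp hu).ne_zero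
  apply hdet
  apply h J J.strictMono
  by_contra hnot
  push Not at hnot
  have hsub : (Finset.Iic i).image J ⊆ S.toFinset \ S₁.toFinset := by
    intro x hx
    obtain ⟨j, hj, rfl⟩ := Finset.mem_image.mp hx
    rw [Finset.mem_sdiff, Set.mem_toFinset, Set.mem_toFinset]
    refine ⟨hJmem j, fun hjS₁ => ?_⟩
    have h1 : t ≤ (J j : ℕ) := hS₁T hjS₁
    have h2 : J j ≤ J i := J.monotone (Finset.mem_Iic.mp hj)
    have h3 : (J j : ℕ) ≤ (J i : ℕ) := Fin.le_def.mp h2
    omega
  have hc1 := Finset.card_le_card hsub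
  rw [Finset.card_image_of_injective _ J.injective, Fin.card_Iic,
    Finset.card_sdiff_of_subset (Set.toFinset_mono hS₁S), Set.toFinset_card, Set.toFinset_card,
    hScard] at hc1
  omega

/-- Let K be a field, d ≤ n, λ = (λ₁ ≥ ⋯ ≥ λ_d) a non-increasing sequence of natural numbers, d_i = n −
d + i − λ_i, and V_j ⊆ K^n the span of the first j standard basis vectors. For a d × n matrix A over
K with linearly independent rows spanning the subspace W: one has dim(W ∩ V_{d_i}) ≥ i for every i =
1, …, d if and only if every d × d minor of A taken on strictly increasing columns j₁ < ⋯ < j_d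
(1-indexed) with j_i > d_i for some i vanishes. (Indices are 0-based in the formal statement: row i
: Fin d stands for i + 1 and column l : Fin n for l + 1.) -/
theorem result (K : Type u) [Field K] (n d : ℕ)
    (hdn : d ≤ n) (V : ℕ → Submodule K (Fin n → K))
    (hV : ∀ (j : ℕ) (v : Fin n → K), v ∈ V j ↔ ∀ l : Fin n, j ≤ (l : ℕ) → v l = 0)
    (lam : Fin d → ℕ) (hlam : Antitone lam) (A : Matrix (Fin d) (Fin n) K)
    (hA : LinearIndependent K (fun i : Fin d => A i)) :
    (∀ i : Fin d, (i : ℕ) + 1 ≤
        Module.finrank K ↥(Submodule.span K (Set.range fun i : Fin d => A i) ⊓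
          V (n - d + ((i : ℕ) + 1) - lam i))) ↔
      ∀ J : Fin d → Fin n, StrictMono J →
        (∃ i : Fin d, n - d + ((i : ℕ) + 1) - lam i < (J i : ℕ) + 1) →
          (A.submatrix id J).det = 0 := by
  constructor
  · rintro hL J hJ ⟨i, hi⟩
    exact schub_forward V hV A _ i (hL i) J hJ (by omega)
  · intro hR i
    apply schub_backward V hV A hA
    intro J hJ hti
    exact hR J hJ ⟨i, by omega⟩

end Groth.Agent.S14504
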