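import Groth.Statements.S14505
import Mathlib

set_option autoImplicit false
universe u
open IntTh

namespace Groth.Agent.S14505

section helpers
variable {R : Type u} [CommRing R]

private noncomputable def g (a : R) : PowerSeries R := PowerSeries.mk fun m => (-a) ^ m

private lemma coeff_lin (a : R) (P : PowerSeries R) (m : ℕ) :
    PowerSeries.coeff m ((1 + PowerSeries.C a * PowerSeries.X) * P) =
      PowerSeries.coeff m P + a * (if 1 ≤ m then PowerSeries.coeff (m - 1) P else 0) := by
  have h : (1 + PowerSeries.C a * PowerSeries.X) * P =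
      P + PowerSeries.C a * (PowerSeries.X * P) := by ring
  rw [h, map_add, PowerSeries.coeff_C_mul]
  cases m with
  | zero => simp
  | succ m => simp [PowerSeries.coeff_succ_X_mul]

private lemma g_mul (a : R) : (1 + PowerSeries.C a * PowerSeries.X) * g a = 1 := by
  ext m
  rw [coeff_lin]
  cases m with
  | zero => simp [g]
  | succ m =>
    have h1 : (1 : ℕ) ≤ m + 1 := Nat.le_add_left 1 m
    rw [if_pos h1, Nat.add_sub_cancel, PowerSeries.coeff_one, if_neg (Nat.succ_ne_zero m)]
    simp only [g, PowerSeries.coeff_mk]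
    ring

private lemma coeff_succ_mul_g (b : PowerSeries R) (e : ℕ)
    (hb : ∀ m, e < m → PowerSeries.coeff m b = 0) (a : R) (m : ℕ) (hm : e ≤ m) :
    PowerSeries.coeff (m + 1) (b * g a) = -a * PowerSeries.coeff m (b * g a) := by
  have h : (1 + PowerSeries.C a * PowerSeries.X) * (b * g a) = b := by
    rw [mul_left_comm, g_mul, mul_one]
  have h2 := coeff_lin a (b * g a) (m + 1)
  rw [h, hb (m + 1) (by omega), if_pos (Nat.le_add_left 1 m), Nat.add_sub_cancel] at h2
  linear_combination -h2

private noncomputable def cf (P : PowerSeries R) (n i : ℕ) : R :=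
  if i ≤ n then PowerSeries.coeff (n - i) P else 0

private lemma cf_lin (a : R) (P : PowerSeries R) (n i : ℕ) :
    cf ((1 + PowerSeries.C a * PowerSeries.X) * P) n i = cf P n i + a * cf P n (i + 1) := by
  unfold cf
  by_cases h1 : i + 1 ≤ n
  · have h0 : i ≤ n := by omega
    have h2 : 1 ≤ n - i := by omega
    have h3 : n - i - 1 = n - (i + 1) := by omega
    rw [if_pos h0, if_pos h0, if_pos h1, coeff_lin, if_pos h2, h3]
  · by_cases h0 : i ≤ n
    · have h2 : n - i = 0 := by omega
      rw [if_pos h0, if_pos h0, if_neg h1, coeff_lin, h2]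
      simp
    · rw [if_neg h0, if_neg h0, if_neg h1]
      simp

private lemma cf_succ_succ (P : PowerSeries R) (n i : ℕ) : cf P (n + 1) (i + 1) = cf P n i := by
  unfold cf
  by_cases h : i ≤ n
  · rw [if_pos h, if_pos (by omega : i + 1 ≤ n + 1), Nat.add_sub_add_right]
  · rw [if_neg h, if_neg (by omega : ¬ i + 1 ≤ n + 1)]

private lemma cf_zero (P : PowerSeries R) (n : ℕ) : cf P n 0 = PowerSeries.coeff n P := by
  unfold cf
  simp

private noncomputable def Q {d : ℕ} (α : Fin d → R) (i : Fin d) : PowerSeries R :=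
  ∏ l : Fin d, if l ≤ i then g (α l) else 1

private lemma Q_succ {d : ℕ} (α : Fin (d + 1) → R) (i : Fin d) :
    Q α i.succ = g (α 0) * Q (fun l => α l.succ) i := by
  unfold Q
  rw [Fin.prod_univ_succ]
  simp [Fin.succ_le_succ_iff]

private lemma Q_zero {d : ℕ} (α : Fin (d + 1) → R) : Q α 0 = g (α 0) := by
  unfold Q
  rw [Fin.prod_univ_succ]
  simp [Fin.succ_ne_zero]

private noncomputable def Mat (b : PowerSeries R) (e : ℕ) {d : ℕ} (α : Fin d → R) :
    Matrix (Fin d) (Fin d) R :=
  Matrix.of fun i j : Fin d => cf (b * Q α i) (e + (j : ℕ)) (i : ℕ)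

private lemma main (b : PowerSeries R) (e : ℕ) (hb : ∀ m, e < m → PowerSeries.coeff m b = 0) :
    ∀ (d : ℕ) (α : Fin d → R),
      (Mat b e α).det = ∏ i : Fin d, PowerSeries.coeff e (b * g (α i)) := by
  intro d
  induction d with
  | zero => intro α; simp
  | succ d ih =>
    intro α
    obtain ⟨M, hM⟩ : ∃ M, M = Mat b e α := ⟨_, rfl⟩
    obtain ⟨B, hB⟩ : ∃ B : Matrix (Fin (d + 1)) (Fin (d + 1)) R, B = Matrix.of fun i j =>
        Fin.cases (M i 0) (fun j' => M i j'.succ + α 0 * M i j'.castSucc) j := ⟨_, rfl⟩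
    have hB0 : ∀ i, B i 0 = M i 0 := by intro i; rw [hB]; rfl
    have hBs : ∀ i (j : Fin d), B i j.succ = M i j.succ + α 0 * M i j.castSucc := by
      intro i j; rw [hB]; simp
    have h1 : M.det = B.det := by
      refine Matrix.det_eq_of_forall_col_eq_smul_add_pred (fun _ => -α 0)
        (fun i => (hB0 i).symm) ?_
      intro i j
      rw [hBs]; ring
    have hrow : ∀ j : Fin d, B 0 j.succ = 0 := by
      intro j
      rw [hBs, hM]
      simp only [Mat, Matrix.of_apply, Fin.val_zero, Fin.val_succ, Fin.val_castSucc, cf_zero,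
        Q_zero]
      have e1 : e + ((j : ℕ) + 1) = e + (j : ℕ) + 1 := rfl
      rw [e1, coeff_succ_mul_g b e hb (α 0) (e + (j : ℕ)) (by omega)]
      ring
    have hsub : B.submatrix Fin.succ Fin.succ = Mat b e (fun l => α l.succ) := by
      ext i j
      rw [Matrix.submatrix_apply, hBs, hM]
      simp only [Mat, Matrix.of_apply, Fin.val_succ, Fin.val_castSucc, Q_succ]
      have e1 : e + ((j : ℕ) + 1) = e + (j : ℕ) + 1 := rfl
      rw [e1, cf_succ_succ, ← cf_lin]
      congr 1
      rw [mul_left_comm b, ← mul_assoc, g_mul, one_mul]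
    have h00 : B 0 0 = PowerSeries.coeff e (b * g (α 0)) := by
      rw [hB0, hM]
      simp only [Mat, Matrix.of_apply, Fin.val_zero, add_zero, Q_zero]
      exact cf_zero _ _
    rw [← hM, h1, Matrix.det_succ_row_zero, Fin.sum_univ_succ]
    simp only [hrow, mul_zero, zero_mul, Finset.sum_const_zero, add_zero]
    rw [Fin.succAbove_zero, hsub, ih, h00, Fin.prod_univ_succ]
    simp

private lemma bprod : ∀ (e : ℕ) (β : Fin e → R),
    (∀ m, e < m → PowerSeries.coeff m
      (∏ j : Fin e, (1 + PowerSeries.C (β j) * PowerSeries.X)) = 0) ∧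
    ∀ a : R, PowerSeries.coeff e
      ((∏ j : Fin e, (1 + PowerSeries.C (β j) * PowerSeries.X)) * g a) = ∏ j : Fin e, (β j - a) := by
  intro e
  induction e with
  | zero =>
    intro β
    refine ⟨fun m hm => ?_, fun a => ?_⟩
    · rw [Finset.univ_eq_empty, Finset.prod_empty, PowerSeries.coeff_one, if_neg (by omega)]
    · simp [g]
  | succ e ih =>
    intro β
    obtain ⟨h1, h2⟩ := ih (fun j => β j.castSucc)
    obtain ⟨b, hbdef⟩ : ∃ b, b = ∏ j : Fin e,
        (1 + PowerSeries.C (β j.castSucc) * PowerSeries.X) := ⟨_, rfl⟩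
    rw [← hbdef] at h1 h2
    have hprod : ∏ j : Fin (e + 1), (1 + PowerSeries.C (β j) * PowerSeries.X) =
        (1 + PowerSeries.C (β (Fin.last e)) * PowerSeries.X) * b := by
      rw [Fin.prod_univ_castSucc, hbdef, mul_comm]
    rw [hprod]
    refine ⟨fun m hm => ?_, fun a => ?_⟩
    · rw [coeff_lin, h1 m (by omega)]
      have h3 : 1 ≤ m := by omega
      rw [if_pos h3, h1 (m - 1) (by omega)]
      ring
    · rw [mul_assoc, coeff_lin, if_pos (Nat.le_add_left 1 e), Nat.add_sub_cancel,
        coeff_succ_mul_g b e h1 a e le_rfl, h2 a, Fin.prod_univ_castSucc]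
      ring

end helpers

/-- Let R be a commutative ring, α₁, …, α_d, β₁, …, β_e ∈ R, b(t) = ∏ (1 + β_j t), and for k = 1, …, d
let P_k(t) = b(t)/∏_{i ≤ k} (1 + α_i t) ∈ R⟦t⟧, each factor 1 + α_i t being inverted by its
geometric series; write (P_k)_m for the coefficient of t^m, with (P_k)_m = 0 for m < 0. Then ∏_{i,j}
(β_j − α_i) = det((P_i)_{e+j−i})_{1 ≤ i,j ≤ d}, the d × d determinant whose i-th row is built from
the coefficients of the i-th partial quotient. (Rows and columns are 0-based in the formal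
statement, which does not change j − i; the row of index i inverts the factors of index at most i.
The companion form with every row built from the full quotient b/a is stated separately.) -/
theorem result (R : Type u) [CommRing R] (d e : ℕ)
    (α : Fin d → R) (β : Fin e → R) :
    ∏ i : Fin d, ∏ j : Fin e, (β j - α i) =
      (Matrix.of fun i j : Fin d =>
        if (i : ℕ) ≤ e + (j : ℕ) then
          PowerSeries.coeff (e + (j : ℕ) - (i : ℕ))
            ((∏ j : Fin e, (1 + PowerSeries.C (β j) * PowerSeries.X)) *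
              ∏ l : Fin d, if l ≤ i then PowerSeries.mk (fun m => (-α l) ^ m) else 1)
        else 0).det := by
  obtain ⟨hb, hc⟩ := bprod e β
  have h := main (∏ j : Fin e, (1 + PowerSeries.C (β j) * PowerSeries.X)) e hb d α
  have h2 : (∏ i : Fin d, ∏ j : Fin e, (β j - α i)) = ∏ i : Fin d, PowerSeries.coeff e
      ((∏ j : Fin e, (1 + PowerSeries.C (β j) * PowerSeries.X)) * g (α i)) :=
    Finset.prod_congr rfl (fun i _ => (hc (α i)).symm)
  exact h2.trans h.symm

end Groth.Agent.S14505
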