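import Groth.Statements.S14509
import Mathlib

set_option autoImplicit false
open IntTh

namespace Groth.Agent.S14509

section aux
open PowerSeries

/-- `e^{mX}` -/
noncomputable def Em (m : ℤ) : PowerSeries ℚ := rescale (m : ℚ) (exp ℚ)

theorem Em_add (m m' : ℤ) : Em m * Em m' = Em (m + m') := by
  unfold Em
  rw [exp_mul_exp_eq_exp_add]
  push_cast
  rfl

theorem Em_one : Em 1 = exp ℚ := by
  unfold Em
  rw [Int.cast_one, rescale_one]
  rfl

theorem Em_zero : Em 0 = 1 := by
  unfold Em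
  rw [Int.cast_zero, rescale_zero_apply, constantCoeff_exp, map_one]

theorem exp_mul_Em_neg : exp ℚ * Em (-1) = 1 := by
  rw [← Em_one, Em_add]
  exact Em_zero

theorem constantCoeff_Em (m : ℤ) : constantCoeff (Em m) = 1 := by
  unfold Em
  rw [← coeff_zero_eq_constantCoeff_apply, coeff_rescale, pow_zero, one_mul,
    coeff_zero_eq_constantCoeff_apply, constantCoeff_exp]

variable (f : PowerSeries ℚ)

theorem f0 (hf : f * (exp ℚ - 1) = X * exp ℚ) : constantCoeff f = 1 := by
  have h := congrArg (coeff 1) hf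
  rw [show (1 : ℕ) = 0 + 1 from rfl, coeff_succ_X_mul, coeff_mul] at h
  simp [Finset.Nat.antidiagonal_succ, coeff_exp] at h
  simpa using h

theorem star (hf : f * (exp ℚ - 1) = X * exp ℚ) : f * (1 - Em (-1)) = X := by
  have hE := exp_mul_Em_neg
  linear_combination (Em (-1)) * hf - (f - X) * hE

theorem triple (hf : f * (exp ℚ - 1) = X * exp ℚ) :
    X * d⁄dX ℚ f + f ^ 2 = f + X * f := by
  have hder := congrArg (d⁄dX ℚ) hf
  simp only [Derivation.leibniz, map_sub, derivative_exp, derivative_one, derivative_X, sub_zero,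
    smul_eq_mul, mul_one] at hder
  have h2 : exp ℚ * (X * d⁄dX ℚ f + f ^ 2) = exp ℚ * (f + X * f) := by
    linear_combination f * hder - (d⁄dX ℚ f) * hf
  have h3 := congrArg (fun g => Em (-1) * g) h2
  simp only [← mul_assoc] at h3
  rw [mul_comm (Em (-1)) (exp ℚ), exp_mul_Em_neg, one_mul, one_mul] at h3
  exact h3

theorem identI (hf : f * (exp ℚ - 1) = X * exp ℚ) :
    Em (-1) * f ^ 2 = f - X * d⁄dX ℚ f := by
  linear_combination (-f) * star f hf + triple f hf

theorem rec1 (hf : f * (exp ℚ - 1) = X * exp ℚ) (m : ℤ) (n : ℕ) :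
    coeff (n + 1) (Em m * f ^ (n + 2)) =
      coeff (n + 1) (Em (m - 1) * f ^ (n + 2)) + coeff n (Em m * f ^ (n + 1)) := by
  have hEm : Em (m - 1) * exp ℚ = Em m := by
    rw [← Em_one, Em_add]
    congr 1
    ring
  have key : Em m * f ^ (n + 2) - Em (m - 1) * f ^ (n + 2) = X * (Em m * f ^ (n + 1)) := by
    linear_combination (Em (m - 1) * f ^ (n + 1)) * hf - (f ^ (n + 2) - X * f ^ (n + 1)) * hEm
  have h := congrArg (coeff (n + 1)) key
  rw [map_sub, coeff_succ_X_mul] at h
  linarith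

theorem base1 (hf : f * (exp ℚ - 1) = X * exp ℚ) (n : ℕ) :
    coeff (n + 1) (Em (-1) * f ^ (n + 2)) = 0 := by
  have h1 : Em (-1) * f ^ (n + 2) = f ^ (n + 1) - X * (d⁄dX ℚ f * f ^ n) := by
    have := identI f hf
    linear_combination (f ^ n) * this
  have h2 : d⁄dX ℚ (f ^ (n + 1)) = C ((n + 1 : ℕ) : ℚ) * (d⁄dX ℚ f * f ^ n) := by
    rw [derivative_pow, Nat.add_sub_cancel, map_natCast]
    ring
  have h3 := congrArg (coeff n) h2
  rw [coeff_derivative, coeff_C_mul] at h3
  have hn : ((n + 1 : ℕ) : ℚ) ≠ 0 := by positivity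
  have h4 : coeff n (d⁄dX ℚ f * f ^ n) = coeff (n + 1) (f ^ (n + 1)) := by
    have h5 : ((n + 1 : ℕ) : ℚ) * coeff n (d⁄dX ℚ f * f ^ n) =
        ((n + 1 : ℕ) : ℚ) * coeff (n + 1) (f ^ (n + 1)) := by
      rw [← h3]
      push_cast
      ring
    exact mul_left_cancel₀ hn h5
  rw [h1, map_sub, coeff_succ_X_mul, h4, sub_self]

theorem main (hf : f * (exp ℚ - 1) = X * exp ℚ) (n : ℕ) : ∀ m : ℤ,
    coeff n (Em m * f ^ (n + 1)) = ((Ring.choose (m + n : ℤ) n : ℤ) : ℚ) := by
  induction n with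
  | zero =>
    intro m
    rw [coeff_zero_eq_constantCoeff_apply, map_mul, constantCoeff_Em, zero_add, pow_one, f0 f hf,
      Ring.choose_zero_right]
    simp
  | succ n ih =>
    intro m
    induction m using Int.inductionOn' (b := -1) with
    | zero =>
      rw [base1 f hf n]
      have e : (-1 + ((n + 1 : ℕ) : ℤ)) = ((n : ℕ) : ℤ) := by push_cast; ring
      rw [e, Ring.choose_natCast, Nat.choose_succ_self]
      simp
    | succ k hk ihk =>
      have hr := rec1 f hf (k + 1) n
      rw [add_sub_cancel_right, ihk, ih (k + 1)] at hr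
      rw [hr]
      have P := Ring.choose_succ_succ (k + (n : ℤ) + 1) n
      have e1 : (k + 1 + ((n + 1 : ℕ) : ℤ)) = k + (n : ℤ) + 1 + 1 := by push_cast; ring
      have e2 : (k + ((n + 1 : ℕ) : ℤ)) = k + (n : ℤ) + 1 := by push_cast; ring
      have e3 : (k + 1 + (n : ℤ)) = k + (n : ℤ) + 1 := by ring
      rw [e1, e2, e3, P]
      push_cast
      ring
    | pred k hk ihk =>
      have hr := rec1 f hf k n
      rw [ihk, ih k] at hr
      have P := Ring.choose_succ_succ (k + (n : ℤ)) n
      have e1 : (k - 1 + ((n + 1 : ℕ) : ℤ)) = k + (n : ℤ) := by push_cast; ring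
      have e2 : (k + ((n + 1 : ℕ) : ℤ)) = k + (n : ℤ) + 1 := by push_cast; ring
      rw [e2, P] at hr
      rw [e1]
      push_cast at hr
      linarith

end aux

/-- Let f(t) ∈ ℚ⟦t⟧ be the Todd series, characterised by f(t)·(e^t − 1) = t·e^t, i.e. f(t) = t/(1 −
e^(−t)). Then for every m ∈ ℤ and n ∈ ℕ the coefficient of t^n in e^(mt)·f(t)^(n+1) is the binomial
coefficient C(m+n, n), understood as the polynomial (m+n)(m+n−1)⋯(m+1)/n! in m (so for all integers
m). (The published statement is the Hirzebruch–Riemann–Roch formula χ(E) = ∫ ch(E)·td for vector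
bundles on projective n-space; this row is the identity of formal power series to which its proof
reduces it for E = O(m): the degree-n part of ch(O(m))·td(P^n) = e^(mζ)(ζ/(1 − e^(−ζ)))^(n+1)
against χ(P^n, O(m)) = C(m+n, n).) -/
theorem result (f : PowerSeries ℚ)
    (hf : f * (PowerSeries.exp ℚ - 1) = PowerSeries.X * PowerSeries.exp ℚ) (m : ℤ) (n : ℕ) :
    PowerSeries.coeff n (PowerSeries.rescale (m : ℚ) (PowerSeries.exp ℚ) * f ^ (n + 1)) =
      ((Ring.choose (m + n : ℤ) n : ℤ) : ℚ) := by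
  exact main f hf n m

end Groth.Agent.S14509
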