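import Groth.Statements.S14506
import Mathlib
import Groth.Agent.S14509

set_option autoImplicit false
open IntTh

namespace Groth.Agent.S14506

section aux
open PowerSeries

/-- the series `(e^X - 1)/X` -/
noncomputable def Gs : PowerSeries ℚ := PowerSeries.mk fun n => 1 / ((n + 1).factorial : ℚ)

theorem X_mul_Gs : X * Gs = exp ℚ - 1 := by
  ext n
  cases n with
  | zero => simp [coeff_exp]
  | succ n =>
    rw [coeff_succ_X_mul, Gs, coeff_mk, map_sub, coeff_exp, coeff_one, if_neg (Nat.succ_ne_zero n),
      sub_zero]
    simp

theorem constantCoeff_Gs : constantCoeff Gs = 1 := by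
  rw [← coeff_zero_eq_constantCoeff_apply, Gs, coeff_mk]
  simp

/-- the Todd series -/
noncomputable def Td : PowerSeries ℚ := exp ℚ * Gs⁻¹

theorem Td_spec : Td * (exp ℚ - 1) = X * exp ℚ := by
  have h : Gs * Gs⁻¹ = 1 := PowerSeries.mul_inv_cancel _ (by rw [constantCoeff_Gs]; exact one_ne_zero)
  rw [← X_mul_Gs, Td]
  linear_combination (X * exp ℚ) * h

theorem coeff_pow_of_spec (f : PowerSeries ℚ) (hf : f * (exp ℚ - 1) = X * exp ℚ) (n : ℕ) :
    coeff n (f ^ (n + 1)) = 1 := by
  have h := Groth.Agent.S14509.main f hf n 0
  rw [Groth.Agent.S14509.Em_zero, one_mul, zero_add, Ring.choose_natCast, Nat.choose_self] at h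
  simpa using h

theorem unique_of_coeff (f g : PowerSeries ℚ) (hf : ∀ n, coeff n (f ^ (n + 1)) = 1)
    (hg : ∀ n, coeff n (g ^ (n + 1)) = 1) : f = g := by
  have hf0 : coeff 0 f = 1 := by simpa using hf 0
  have hg0 : coeff 0 g = 1 := by simpa using hg 0
  have key : ∀ n, ∀ m, m < n → coeff m f = coeff m g := by
    intro n
    induction n with
    | zero => intro m hm; exact absurd hm (Nat.not_lt_zero _)
    | succ n ih =>
      intro m hm
      rcases Nat.lt_succ_iff_lt_or_eq.mp hm with h | rfl
      · exact ih m h
      · rcases Nat.eq_zero_or_pos m with rfl | hpos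
        · rw [hf0, hg0]
        · -- f - g = X^m * h
          have hdvd : (X : PowerSeries ℚ) ^ m ∣ f - g := by
            rw [X_pow_dvd_iff]
            intro i hi
            rw [map_sub, ih i hi, sub_self]
          obtain ⟨h, hh⟩ := hdvd
          have hfg : f = g + X ^ m * h := by rw [← hh]; ring
          obtain ⟨k, hk⟩ := Polynomial.powAddExpansion g (X ^ m * h) (m + 1)
          have h1 := hf m
          rw [hfg, hk, Nat.add_sub_cancel] at h1
          have e1 : ((m + 1 : ℕ) : PowerSeries ℚ) * g ^ m * (X ^ m * h) =
              X ^ m * (C ((m + 1 : ℕ) : ℚ) * (g ^ m * h)) := by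
            rw [map_natCast]; ring
          have e2 : k * (X ^ m * h) ^ 2 = X ^ (2 * m) * (k * h ^ 2) := by ring
          rw [e1, e2, map_add, map_add, hg m, coeff_X_pow_mul', if_pos le_rfl, Nat.sub_self,
            coeff_X_pow_mul', if_neg (by omega), add_zero, coeff_C_mul,
            coeff_zero_eq_constantCoeff_apply, map_mul, map_pow,
            ← coeff_zero_eq_constantCoeff_apply, hg0, one_pow, one_mul] at h1
          rw [← coeff_zero_eq_constantCoeff_apply] at h1
          have h2 : ((m + 1 : ℕ) : ℚ) * coeff 0 h = 0 := by linarith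
          have hm1 : ((m + 1 : ℕ) : ℚ) ≠ 0 := by positivity
          have h3 : coeff 0 h = 0 := by
            rcases mul_eq_zero.mp h2 with h' | h'
            · exact absurd h' hm1
            · exact h'
          have h4 : coeff m (f - g) = 0 := by
            rw [hh, coeff_X_pow_mul', if_pos le_rfl, Nat.sub_self, h3]
          rw [map_sub, sub_eq_zero] at h4
          exact h4
  ext n
  exact key (n + 1) n (Nat.lt_succ_self n)

end aux

/-- A formal power series f(t) ∈ ℚ⟦t⟧ satisfies, for every n ≥ 0, that the coefficient of t^n in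
f(t)^(n+1) is 1, if and only if f(t)·(e^t − 1) = t·e^t, that is f(t) = t/(1 − e^(−t)) = 1 + t/2 +
t²/12 − ⋯. (The published statement is the existence and uniqueness of the Todd class of vector
bundles normalised by multiplicativity, td(O) = 1 and the Riemann–Roch identity for the structure
sheaf of every projective space; this row is the power-series fact its proof establishes: the
normalisation forces exactly these coefficient conditions on the one-variable series.) -/
theorem result (f : PowerSeries ℚ) :
    (∀ n : ℕ, PowerSeries.coeff n (f ^ (n + 1)) = 1) ↔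
      f * (PowerSeries.exp ℚ - 1) = PowerSeries.X * PowerSeries.exp ℚ := by
  constructor
  · intro h
    have hT : ∀ n, PowerSeries.coeff n (Td ^ (n + 1)) = 1 := coeff_pow_of_spec Td Td_spec
    rw [unique_of_coeff f Td h hT]
    exact Td_spec
  · intro h n
    exact coeff_pow_of_spec f h n

end Groth.Agent.S14506
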