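import Groth.Statements.S14510
import Groth.Agent.H21.KPoint
import Groth.Agent.H21.MonomialIndep
import Groth.Agent.H21.TrdegDim
import Groth.Agent.H54.AffineDim

set_option autoImplicit false
universe u v
open CAlgX

namespace Groth.Agent.S14510

section Cone

open MvPolynomial

variable (k : Type u) [Field k] (a b : ℕ)

/-- The Segre map `k[Z_ij] → k[x_i, y_j]`, `Z_ij ↦ x_i y_j`. -/
noncomputable def segreHom :
    MvPolynomial (Fin (a + 1) × Fin (b + 1)) k →ₐ[k]
      MvPolynomial (Fin (a + 1) ⊕ Fin (b + 1)) k :=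
  aeval (fun p => X (Sum.inl p.1) * X (Sum.inr p.2))

/-- The affine cone over the Segre variety `ℙ^a × ℙ^b`: the subalgebra `k[x_i y_j]`. -/
noncomputable abbrev Cone : Subalgebra k (MvPolynomial (Fin (a + 1) ⊕ Fin (b + 1)) k) :=
  (segreHom k a b).range

/-- The surjection `k[Z_ij] → k[x_i y_j]`. -/
noncomputable def toCone : MvPolynomial (Fin (a + 1) × Fin (b + 1)) k →ₐ[k] Cone k a b :=
  (segreHom k a b).rangeRestrict

theorem toCone_surjective : Function.Surjective (toCone k a b) :=
  (segreHom k a b).rangeRestrict_surjective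

/-- The generator `x_i y_j` of the Segre cone. -/
noncomputable def z (i : Fin (a + 1)) (j : Fin (b + 1)) : Cone k a b := toCone k a b (X (i, j))

theorem coe_z (i : Fin (a + 1)) (j : Fin (b + 1)) :
    ((z k a b i j : Cone k a b) : MvPolynomial (Fin (a + 1) ⊕ Fin (b + 1)) k) =
      X (Sum.inl i) * X (Sum.inr j) := by
  show segreHom k a b (X (i, j)) = _
  simp [segreHom]

instance : Algebra.FiniteType k (Cone k a b) :=
  Algebra.FiniteType.of_surjective (toCone k a b) (toCone_surjective k a b)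

theorem le_ringKrullDim_cone :
    ((a + b + 1 : ℕ) : WithBot ℕ∞) ≤ ringKrullDim (Cone k a b) := by
  have hind := Groth.Agent.H21.SegreDim.algebraicIndependent_segreMonomials k a b
  have hfT : AlgebraicIndependent k
      (Sum.elim (fun j : Fin (b + 1) => z k a b 0 j) (fun i : Fin a => z k a b i.succ 0)) := by
    apply AlgebraicIndependent.of_comp (Cone k a b).val
    convert hind using 1
    funext p
    rcases p with j | i
    · simp [coe_z]
    · simp [coe_z]
  have h := Groth.Agent.H21.SegreDim.natCast_le_ringKrullDim_of_algebraicIndependent hfT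
  have hcard : Fintype.card (Fin (b + 1) ⊕ Fin a) = a + b + 1 := by
    rw [Fintype.card_sum, Fintype.card_fin, Fintype.card_fin]; omega
  rw [hcard] at h
  exact h

/-- The augmentation `k[x_i y_j] → k` (evaluation at the origin). -/
noncomputable def aug : Cone k a b →ₐ[k] k :=
  (aeval (fun _ => (0 : k)) : MvPolynomial (Fin (a + 1) ⊕ Fin (b + 1)) k →ₐ[k] k).comp
    (Cone k a b).val

theorem aug_z (i : Fin (a + 1)) (j : Fin (b + 1)) : aug k a b (z k a b i j) = 0 := by
  show (aeval (fun _ => (0 : k)))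
    ((z k a b i j : Cone k a b) : MvPolynomial (Fin (a + 1) ⊕ Fin (b + 1)) k) = 0
  rw [coe_z]
  simp

theorem aug_surjective : Function.Surjective (aug k a b) := fun c =>
  ⟨algebraMap k _ c, by rw [AlgHom.commutes]; rfl⟩

/-- The vertex of the cone. -/
noncomputable def vertex : Ideal (Cone k a b) := RingHom.ker (aug k a b)

instance : (vertex k a b).IsMaximal :=
  RingHom.ker_isMaximal_of_surjective _ (aug_surjective k a b)

theorem eq_aug_of_forall_z_eq_zero (χ : Cone k a b →ₐ[k] k)
    (h : ∀ i j, χ (z k a b i j) = 0) : χ = aug k a b := by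
  have h1 : χ.comp (toCone k a b) = (aug k a b).comp (toCone k a b) := by
    apply MvPolynomial.algHom_ext
    rintro ⟨i, j⟩
    show χ (z k a b i j) = aug k a b (z k a b i j)
    rw [h, aug_z]
  refine AlgHom.ext fun t => ?_
  obtain ⟨P, rfl⟩ := toCone_surjective k a b t
  exact DFunLike.congr_fun h1 P

/-- The bilinear form with coefficients `coef · · l`, as an element of the cone. -/
noncomputable def gform (w : ℕ) (coef : Fin (a + 1) → Fin (b + 1) → Fin w → k) (l : Fin w) :
    Cone k a b :=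
  ∑ i, ∑ j, coef i j l • z k a b i j

theorem map_gform (χ : Cone k a b →ₐ[k] k) (w : ℕ)
    (coef : Fin (a + 1) → Fin (b + 1) → Fin w → k) (l : Fin w) :
    χ (gform k a b w coef l) = ∑ i, ∑ j, coef i j l * χ (z k a b i j) := by
  unfold gform
  simp only [map_sum, map_smul, smul_eq_mul]

theorem gform_mem_vertex (w : ℕ) (coef : Fin (a + 1) → Fin (b + 1) → Fin w → k) (l : Fin w) :
    gform k a b w coef l ∈ vertex k a b := by
  show gform k a b w coef l ∈ RingHom.ker (aug k a b)
  rw [RingHom.mem_ker, map_gform]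
  simp only [aug_z, mul_zero, Finset.sum_const_zero]

/-- Fewer than `a + b + 1` bilinear forms on `k^(a+1) × k^(b+1)` (`k` algebraically closed) have a
common zero `(x, y)` with `x ≠ 0` and `y ≠ 0`. -/
theorem exists_zero_pair [IsAlgClosed k] (w : ℕ) (hw : w ≤ a + b)
    (coef : Fin (a + 1) → Fin (b + 1) → Fin w → k) :
    ∃ (x : Fin (a + 1) → k) (y : Fin (b + 1) → k), x ≠ 0 ∧ y ≠ 0 ∧
      ∀ l, ∑ i, ∑ j, x i * y j * coef i j l = 0 := by
  classical
  haveI : IsNoetherianRing (Cone k a b) := Algebra.FiniteType.isNoetherianRing k _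
  haveI : IsJacobsonRing (Cone k a b) := isJacobsonRing_of_finiteType (A := k)
  have hht : ((vertex k a b).height : WithBot ℕ∞) = ringKrullDim (Cone k a b) :=
    Groth.Agent.H54.height_eq_ringKrullDim_of_isMaximal k (Cone k a b) (vertex k a b)
  have hdim := le_ringKrullDim_cone k a b
  obtain ⟨s, hsdef⟩ : ∃ s : Finset (Cone k a b), s = Finset.univ.image (gform k a b w coef) :=
    ⟨_, rfl⟩
  have hs𝔪 : (s : Set (Cone k a b)) ⊆ vertex k a b := by
    intro t ht
    rw [Finset.mem_coe, hsdef, Finset.mem_image] at ht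
    obtain ⟨l, -, rfl⟩ := ht
    exact gform_mem_vertex k a b w coef l
  have hcard : (s.card : ℕ∞) < (vertex k a b).height := by
    have h1 : s.card ≤ w := by
      calc s.card ≤ (Finset.univ : Finset (Fin w)).card := by
            rw [hsdef]; exact Finset.card_image_le
        _ = w := by rw [Finset.card_univ, Fintype.card_fin]
    have h2 : ((a + b + 1 : ℕ) : WithBot ℕ∞) ≤ ((vertex k a b).height : WithBot ℕ∞) := by
      rw [hht]; exact hdim
    have h3 : ((a + b + 1 : ℕ) : ℕ∞) ≤ (vertex k a b).height := by exact_mod_cast h2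
    have h4 : (s.card : ℕ∞) < ((a + b + 1 : ℕ) : ℕ∞) := by
      exact_mod_cast (by omega : s.card < a + b + 1)
    exact lt_of_lt_of_le h4 h3
  obtain ⟨𝔭, h𝔭, hs𝔭, h𝔭𝔪⟩ :=
    Groth.Agent.H21.KPoint.exists_prime_lt_of_card_lt_height (vertex k a b) s hs𝔪 hcard
  haveI := h𝔭
  obtain ⟨𝔫, h𝔫, h𝔭𝔫, h𝔫𝔪⟩ := Groth.Agent.H21.KPoint.exists_isMaximal_ne h𝔭𝔪
  haveI := h𝔫
  obtain ⟨χ, hχ⟩ := Groth.Agent.H21.KPoint.exists_algHom_ker_eq k 𝔫
  have hχg : ∀ l, χ (gform k a b w coef l) = 0 := by
    intro l
    have h1 : gform k a b w coef l ∈ 𝔫 := by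
      apply h𝔭𝔫
      apply hs𝔭
      rw [Finset.mem_coe, hsdef]
      exact Finset.mem_image.mpr ⟨l, Finset.mem_univ l, rfl⟩
    rw [← hχ] at h1
    exact h1
  obtain ⟨i0, j0, hij0⟩ : ∃ i0 j0, χ (z k a b i0 j0) ≠ 0 := by
    by_contra hcon
    push Not at hcon
    have h1 := eq_aug_of_forall_z_eq_zero k a b χ hcon
    apply h𝔫𝔪
    rw [← hχ, h1]
    rfl
  obtain ⟨c, hc⟩ : ∃ c : Fin (a + 1) → Fin (b + 1) → k, ∀ i j, c i j = χ (z k a b i j) :=
    ⟨fun i j => χ (z k a b i j), fun _ _ => rfl⟩
  have hc0 : c i0 j0 ≠ 0 := by rw [hc]; exact hij0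
  have hrel : ∀ i j i' j', c i j * c i' j' = c i j' * c i' j := by
    intro i j i' j'
    have h1 : z k a b i j * z k a b i' j' = z k a b i j' * z k a b i' j := by
      apply Subtype.ext
      rw [Subalgebra.coe_mul, Subalgebra.coe_mul, coe_z, coe_z, coe_z, coe_z]
      ring
    rw [hc, hc, hc, hc, ← map_mul, ← map_mul, h1]
  refine ⟨fun i => c i j0, fun j => c i0 j / c i0 j0, ?_, ?_, ?_⟩
  · intro h
    exact hc0 (congrFun h i0)
  · intro h
    have h1 : c i0 j0 / c i0 j0 = 0 := congrFun h j0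
    rw [div_self hc0] at h1
    exact one_ne_zero h1
  · intro l
    have hxy : ∀ i j, c i j0 * (c i0 j / c i0 j0) = c i j := by
      intro i j
      rw [← mul_div_assoc, hrel i j0 i0 j, mul_div_assoc, div_self hc0, mul_one]
    have h2 : χ (gform k a b w coef l) = ∑ i, ∑ j, c i j * coef i j l := by
      rw [map_gform]
      refine Finset.sum_congr rfl fun i _ => Finset.sum_congr rfl fun j _ => ?_
      rw [hc]
      exact mul_comm _ _
    show ∑ i, ∑ j, c i j0 * (c i0 j / c i0 j0) * coef i j l = 0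
    rw [← hχg l, h2]
    refine Finset.sum_congr rfl fun i _ => Finset.sum_congr rfl fun j _ => ?_
    rw [hxy]

end Cone

/-- Let k be an algebraically closed field, U, V, W finite-dimensional k-vector spaces with U and V
nonzero, and φ : U ⊗ V → W a linear map which is 1-generic, i.e. φ(u ⊗ v) ≠ 0 for all nonzero u and
v (φ is given here as a bilinear map). Then dim W ≥ dim U + dim V − 1. (Algebraic closedness
matters: complex multiplication ℂ ⊗ ℂ → ℂ over the reals is 1-generic with 2 + 2 − 1 > 2.) -/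
theorem result (k : Type u) [Field k] [IsAlgClosed k]
    (U V W : Type v) [AddCommGroup U] [Module k U] [AddCommGroup V] [Module k V] [AddCommGroup W] [Module k W]
    [Module.Finite k U] [Module.Finite k V] [Module.Finite k W] [Nontrivial U] [Nontrivial V]
    (φ : U →ₗ[k] V →ₗ[k] W) (hφ : ∀ (a : U) (b : V), a ≠ 0 → b ≠ 0 → φ a b ≠ 0) :
    Module.finrank k U + Module.finrank k V ≤ Module.finrank k W + 1 := by
  classical
  obtain ⟨a, ha⟩ : ∃ a, Module.finrank k U = a + 1 :=
    Nat.exists_eq_succ_of_ne_zero (Module.finrank_pos (R := k) (M := U)).ne'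
  obtain ⟨b, hb⟩ : ∃ b, Module.finrank k V = b + 1 :=
    Nat.exists_eq_succ_of_ne_zero (Module.finrank_pos (R := k) (M := V)).ne'
  by_contra hcon
  rw [ha, hb] at hcon
  have hw : Module.finrank k W ≤ a + b := by omega
  let bU : Module.Basis (Fin (a + 1)) k U := Module.finBasisOfFinrankEq k U ha
  let bV : Module.Basis (Fin (b + 1)) k V := Module.finBasisOfFinrankEq k V hb
  let bW : Module.Basis (Fin (Module.finrank k W)) k W := Module.finBasis k W
  obtain ⟨x, y, hx, hy, hxy⟩ := exists_zero_pair k a b (Module.finrank k W) hw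
    (fun i j l => bW.repr (φ (bU i) (bV j)) l)
  have hu : (∑ i, x i • bU i) ≠ 0 := by
    intro h
    apply hx
    have h2 := bU.repr_sum_self x
    rw [h, map_zero, Finsupp.coe_zero] at h2
    exact h2.symm
  have hv : (∑ j, y j • bV j) ≠ 0 := by
    intro h
    apply hy
    have h2 := bV.repr_sum_self y
    rw [h, map_zero, Finsupp.coe_zero] at h2
    exact h2.symm
  apply hφ _ _ hu hv
  have hexp : φ (∑ i, x i • bU i) (∑ j, y j • bV j) =
      ∑ i, ∑ j, (x i * y j) • φ (bU i) (bV j) := by
    rw [map_sum φ, LinearMap.sum_apply]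
    refine Finset.sum_congr rfl fun i _ => ?_
    rw [map_smul φ, LinearMap.smul_apply, map_sum, Finset.smul_sum]
    refine Finset.sum_congr rfl fun j _ => ?_
    rw [map_smul, smul_smul]
  apply bW.repr.injective
  rw [map_zero]
  ext l
  rw [Finsupp.zero_apply, hexp, map_sum, Finsupp.finsetSum_apply]
  refine Eq.trans ?_ (hxy l)
  refine Finset.sum_congr rfl fun i _ => ?_
  rw [map_sum, Finsupp.finsetSum_apply]
  refine Finset.sum_congr rfl fun j _ => ?_
  rw [map_smul, Finsupp.smul_apply, smul_eq_mul]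

end Groth.Agent.S14510
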