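import Groth.Statements.S14511
import Mathlib.Algebra.BigOperators.Ring.Finset
import Mathlib.Tactic

set_option autoImplicit false
universe u
open CAlgX

namespace Groth.Agent.S14511


theorem sum_signed_eval_monomial (R : Type u) [CommRing R] (r : ℕ) (a : Fin r →₀ ℕ) :
    ∑ J : Finset (Fin r), (-1 : R) ^ J.card *
        ∏ j, (if j ∈ J then (-1 : R) else 0) ^ a j =
      ∏ j : Fin r, ((-1 : R) ^ (a j + 1) + 0 ^ a j) := by
  classical
  rw [Finset.prod_add, Finset.powerset_univ]
  refine Finset.sum_congr rfl fun J _ => ?_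
  rw [← Finset.prod_sdiff (Finset.subset_univ J), mul_comm (∏ x ∈ Finset.univ \ J, _), ← mul_assoc]
  congr 1
  · rw [← Finset.prod_const, ← Finset.prod_mul_distrib]
    refine Finset.prod_congr rfl fun j hj => ?_
    rw [if_pos hj, pow_succ, mul_comm]
  · refine Finset.prod_congr rfl fun j hj => ?_
    rw [if_neg (Finset.mem_sdiff.mp hj).2]

theorem prod_factor_eq (R : Type u) [CommRing R] (r : ℕ) (a : Fin r →₀ ℕ)
    (ha : ∑ j, a j ≤ r) :
    ∏ j : Fin r, ((-1 : R) ^ (a j + 1) + 0 ^ a j) =
      if (∑ i : Fin r, Finsupp.single i 1) = a then 1 else 0 := by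
  classical
  have hone : ∀ j : Fin r, (∑ i : Fin r, Finsupp.single i 1 : Fin r →₀ ℕ) j = 1 := by
    intro j
    rw [Finsupp.finsetSum_apply]
    simp [Finsupp.single_apply]
  by_cases h0 : ∃ j, a j = 0
  · obtain ⟨j, hj⟩ := h0
    have hne : (∑ i : Fin r, Finsupp.single i 1 : Fin r →₀ ℕ) ≠ a := by
      intro h
      have := hone j
      rw [h, hj] at this
      exact zero_ne_one this
    rw [if_neg hne]
    apply Finset.prod_eq_zero (Finset.mem_univ j)
    rw [hj]
    simp
  · push Not at h0
    have hall : ∀ j, a j = 1 := by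
      by_contra hcon
      push Not at hcon
      obtain ⟨j₀, hj₀⟩ := hcon
      have hlt : ∑ j : Fin r, 1 < ∑ j : Fin r, a j := by
        apply Finset.sum_lt_sum
        · intro i _
          exact Nat.one_le_iff_ne_zero.mpr (h0 i)
        · refine ⟨j₀, Finset.mem_univ _, ?_⟩
          have := h0 j₀
          omega
      simp at hlt
      omega
    have heq : (∑ i : Fin r, Finsupp.single i 1 : Fin r →₀ ℕ) = a := by
      ext j
      rw [hone, hall]
    rw [if_pos heq]
    apply Finset.prod_eq_one
    intro j _
    rw [hall j]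
    norm_num

/-- Let R be a commutative ring and P ∈ R[x_1, …, x_r] a polynomial of total degree at most r. Then the
coefficient of the monomial x_1 ⋯ x_r in P equals Σ_J (−1)^{|J|} P(δ_J), the sum over all subsets J
⊆ {1, …, r} (the empty one included), where δ_J is the point with coordinate −1 at the indices in J
and 0 at the others. -/
theorem result (R : Type u) [CommRing R] (r : ℕ)
    (P : MvPolynomial (Fin r) R) (hP : P.totalDegree ≤ r) :
    MvPolynomial.coeff (∑ i : Fin r, Finsupp.single i 1) P =
      ∑ J : Finset (Fin r), (-1 : R) ^ J.card * MvPolynomial.eval (fun j => if j ∈ J then (-1 : R) else 0) P := by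
  classical
  have hdeg : ∀ a ∈ P.support, ∑ j, a j ≤ r := by
    intro a ha
    have := MvPolynomial.le_totalDegree ha
    rw [Finsupp.sum_fintype _ _ (fun _ => rfl)] at this
    exact this.trans hP
  simp_rw [MvPolynomial.eval_eq', Finset.mul_sum]
  rw [Finset.sum_comm]
  have : ∀ a ∈ P.support, (∑ J : Finset (Fin r), (-1 : R) ^ J.card *
      (MvPolynomial.coeff a P * ∏ j, (if j ∈ J then (-1 : R) else 0) ^ a j)) =
      MvPolynomial.coeff a P * (if (∑ i : Fin r, Finsupp.single i 1) = a then 1 else 0) := by
    intro a ha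
    rw [← prod_factor_eq R r a (hdeg a ha), ← sum_signed_eval_monomial, Finset.mul_sum]
    refine Finset.sum_congr rfl fun J _ => ?_
    ring
  rw [Finset.sum_congr rfl this]
  simp only [mul_ite, mul_one, mul_zero]
  rw [Finset.sum_ite_eq]
  split_ifs with h
  · rfl
  · exact MvPolynomial.notMem_support_iff.mp h

end Groth.Agent.S14511
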