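import Groth.Statements.S14515
import Mathlib
import Groth.Agent.H54.ExcPurity
import Groth.Agent.H54.ZMT2
import Groth.Agent.H54.Curve2
import Groth.Agent.H54.SchemeDim2
import Groth.Agent.H54.IrredFibres
import Groth.Agent.H54.DimClosure
import Groth.Agent.H63.SmoothRegular2
import Groth.Agent.H26.RegUFD
import Groth.Agent.H95.StalkPrimes
import Groth.Agent.S7899
import Groth.Agent.S7659

set_option autoImplicit false
universe u
open CategoryTheory CategoryTheory.Limits AlgebraicGeometry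
open Variety

namespace Groth.Agent.S14515


section Helpers
open AlgebraicGeometry CategoryTheory CategoryTheory.Limits TopologicalSpace Topology Groth.Agent.H54

lemma exists_frac {W : Scheme.{u}} [IsIntegral W] (y y₀ : W) (h₀ : y₀ = genericPoint W)
    (hs : y₀ ⤳ y) (s : W.presheaf.stalk y₀) :
    ∃ a b : W.presheaf.stalk y, b ≠ 0 ∧
      W.presheaf.stalkSpecializes hs b * s = W.presheaf.stalkSpecializes hs a := by
  subst h₀
  obtain ⟨⟨a, b⟩, h⟩ := IsLocalization.surj (nonZeroDivisors (W.presheaf.stalk y))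
    (s : W.functionField)
  refine ⟨a, b.1, nonZeroDivisors.ne_zero b.2, ?_⟩
  rw [mul_comm]
  exact h

theorem core (k : Type u) [Field k] (X Y : Scheme.{u})
    (sX : X ⟶ Spec (CommRingCat.of k)) (sY : Y ⟶ Spec (CommRingCat.of k))
    [IsIntegral X] [IsSeparated sX] [LocallyOfFiniteType sX] [QuasiCompact sX] [Smooth sX]
    [IsIntegral Y] [IsSeparated sY] [LocallyOfFiniteType sY] [QuasiCompact sY] [Smooth sY]
    (f : X ⟶ Y) (hf : f ≫ sY = sX) [IsProper f]
    (V₀ : Y.Opens) (hV₀ne : (V₀ : Set Y).Nonempty) [IsIso (f ∣_ V₀)]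
    (E : Set X) (hEcl : IsClosed E)
    (hE : ∀ x : X, x ∈ E ↔ ∀ V : Y.Opens, f x ∈ V → ¬ IsIso (f ∣_ V))
    (Z : Set ↥E) (hZ : Z ∈ irreducibleComponents ↥E) :
    topologicalKrullDim ↥Z + 1 = topologicalKrullDim X := by
  classical
  haveI : IsLocallyNoetherian X := LocallyOfFiniteType.isLocallyNoetherian sX
  haveI : IsLocallyNoetherian Y := LocallyOfFiniteType.isLocallyNoetherian sY
  have hsurj : Function.Surjective f.base := by
    have hcl : IsClosed (Set.range f.base) := f.isClosedMap.isClosed_range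
    have hUsub : (V₀ : Set Y) ⊆ Set.range f.base := by
      intro u hu
      obtain ⟨w, hw⟩ := (f ∣_ V₀).surjective ⟨u, hu⟩
      exact ⟨w.1, (morphismRestrict_base_coe f V₀ w).symm.trans (congrArg Subtype.val hw)⟩
    have hdense : Dense (V₀ : Set Y) := V₀.2.dense hV₀ne
    have hru : Set.range f.base = Set.univ := by
      apply Set.eq_univ_of_univ_subset
      rw [← hdense.closure_eq]
      exact hcl.closure_subset_iff.mpr hUsub
    exact Set.range_eq_univ.mp hru
  have hηV : genericPoint X ∈ f ⁻¹ᵁ V₀ := by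
    obtain ⟨u, hu⟩ := hV₀ne
    obtain ⟨w, hw⟩ := hsurj u
    have hwU : w ∈ f ⁻¹ᵁ V₀ := by
      show f.base w ∈ V₀
      rw [hw]; exact hu
    exact (genericPoint_specializes w).mem_open (f ⁻¹ᵁ V₀).2 hwU
  haveI hbirη : IsIso (f.stalkMap (genericPoint X)) :=
    Groth.Agent.S7899.isIso_stalkMap_of_isIso_restrict f V₀ _ hηV
  have hgen : f.base (genericPoint X) = genericPoint Y := by
    have h1 : ∀ y : Y, f.base (genericPoint X) ⤳ y := by
      intro y
      obtain ⟨w, rfl⟩ := hsurj y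
      exact (genericPoint_specializes w).map f.continuous
    have h2 : genericPoint Y ⤳ f.base (genericPoint X) := genericPoint_specializes _
    exact ((h1 _).antisymm h2).eq
  -- generic point of Z
  haveI : QuasiSober ↥E := hEcl.isClosedEmbedding_subtypeVal.quasiSober
  obtain ⟨ζ, hζ⟩ := QuasiSober.sober hZ.1 (isClosed_of_mem_irreducibleComponents Z hZ)
  have hζcl : closure ({ζ} : Set ↥E) = Z := hζ.def
  have hζZ : ζ ∈ Z := hζcl ▸ subset_closure rfl
  have hmaxZ : ∀ b : ↥E, b ⤳ ζ → b = ζ := by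
    intro b hb
    have hirr : IsIrreducible (closure ({b} : Set ↥E)) := isIrreducible_singleton.closure
    have hsub : Z ⊆ closure ({b} : Set ↥E) := by
      rw [← hζcl]
      exact closure_minimal
        (Set.singleton_subset_iff.mpr (specializes_iff_mem_closure.mp hb)) isClosed_closure
    have hle : closure ({b} : Set ↥E) ⊆ Z := hZ.2 hirr hsub
    have hbZ : b ∈ Z := hle (subset_closure rfl)
    have hab : ζ ⤳ b := specializes_iff_mem_closure.mpr (hζcl ▸ hbZ)
    exact (hb.antisymm hab).eq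
  have hmaxX : ∀ x' : X, x' ∈ E → x' ⤳ ζ.1 → x' = ζ.1 := by
    intro x' h1 h3
    have h4 : (⟨x', h1⟩ : ↥E) ⤳ ζ :=
      (IsInducing.subtypeVal.specializes_iff (x := (⟨x', h1⟩ : ↥E)) (y := ζ)).mp h3
    exact congrArg Subtype.val (hmaxZ _ h4)
  have hxE : ∀ V : Y.Opens, f ζ.1 ∈ V → ¬ IsIso (f ∣_ V) := (hE ζ.1).mp ζ.2
  -- the local rings
  haveI hregX : IsRegularLocalRing (X.presheaf.stalk ζ.1) :=
    Groth.Agent.H63.SmoothRegular.isRegularLocalRing_stalk_of_smooth sX ζ.1
  haveI hregY : IsRegularLocalRing (Y.presheaf.stalk (f.base ζ.1)) :=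
    Groth.Agent.H63.SmoothRegular.isRegularLocalRing_stalk_of_smooth sY (f.base ζ.1)
  haveI : UniqueFactorizationMonoid (Y.presheaf.stalk (f.base ζ.1)) :=
    Groth.Agent.H26.RegUFD.ufm_of_isRegularLocalRing _
  have hinj : Function.Injective (f.stalkMap ζ.1).hom :=
    stalkMap_injective_of_genericPoint f hgen ζ.1
  have hns : ¬ Function.Surjective (f.stalkMap ζ.1).hom := by
    intro hs
    have hbij : Function.Bijective (f.stalkMap ζ.1) := ⟨hinj, hs⟩
    have hiso : IsIso (f.stalkMap ζ.1) := (ConcreteCategory.isIso_iff_bijective _).mpr hbij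
    have hS : (irreducibleComponents (Y : Type u)).Finite := by
      rw [irreducibleComponents_eq_singleton]; exact Set.finite_singleton _
    obtain ⟨U, hxU, hU⟩ := Groth.Agent.S7659.result f hS ζ.1 hiso
    haveI := hU
    exact hxE (U.ι ≫ f).opensRange ⟨⟨ζ.1, hxU⟩, rfl⟩
      (isIso_morphismRestrict_opensRange f U ζ.1 hxU)
  have hloc : ∀ a : Y.presheaf.stalk (f.base ζ.1),
      IsUnit ((f.stalkMap ζ.1).hom a) → IsUnit a :=
    fun a h => (isUnit_map_iff (f.stalkMap ζ.1).hom a).mp h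
  have hsX : genericPoint X ⤳ ζ.1 := genericPoint_specializes _
  have hsY : f.base (genericPoint X) ⤳ f.base ζ.1 := f.base.hom.map_specializes hsX
  have hnat : ∀ a : Y.presheaf.stalk (f.base ζ.1),
      f.stalkMap (genericPoint X) (Y.presheaf.stalkSpecializes hsY a) =
        X.presheaf.stalkSpecializes hsX (f.stalkMap ζ.1 a) :=
    fun a => Scheme.Hom.stalkSpecializes_stalkMap_apply f (genericPoint X) ζ.1 hsX a
  have hspinj : Function.Injective (X.presheaf.stalkSpecializes hsX) :=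
    stalkSpecializes_injective_of_eq_genericPoint ζ.1 (genericPoint X) rfl hsX
  have hψ : Function.Bijective (f.stalkMap (genericPoint X)) :=
    (ConcreteCategory.isIso_iff_bijective _).mp hbirη
  have hfrac : ∀ t : X.presheaf.stalk ζ.1, ∃ a b : Y.presheaf.stalk (f.base ζ.1), b ≠ 0 ∧
      (f.stalkMap ζ.1).hom b * t = (f.stalkMap ζ.1).hom a := by
    intro t
    obtain ⟨s, hs⟩ := hψ.2 (X.presheaf.stalkSpecializes hsX t)
    obtain ⟨a, b, hb, hab⟩ := exists_frac (f.base ζ.1) (f.base (genericPoint X)) hgen hsY s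
    refine ⟨a, b, hb, ?_⟩
    apply hspinj
    have h1 : f.stalkMap (genericPoint X) (Y.presheaf.stalkSpecializes hsY b * s) =
        f.stalkMap (genericPoint X) (Y.presheaf.stalkSpecializes hsY a) := by rw [hab]
    rw [map_mul, hnat, hnat, hs, ← map_mul] at h1
    exact h1
  obtain ⟨P, hPprime, hPh, hph⟩ :=
    exists_height_one_prime_comap_two_le (f.stalkMap ζ.1).hom hinj hloc hfrac hns
  haveI := hPprime
  obtain ⟨x', hx'x, hx'P⟩ := Groth.Agent.H95.StalkPrimes.exists_generization ζ.1 P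
  have hdimx' : ringKrullDim (X.presheaf.stalk x') = 1 := by
    rw [← Groth.Agent.H95.StalkPrimes.height_comap_eq hx'x, hx'P, hPh]
    rfl
  have hsY' : f.base x' ⤳ f.base ζ.1 := f.base.hom.map_specializes hx'x
  have hnat' : ∀ a : Y.presheaf.stalk (f.base ζ.1),
      f.stalkMap x' (Y.presheaf.stalkSpecializes hsY' a) =
        X.presheaf.stalkSpecializes hx'x (f.stalkMap ζ.1 a) :=
    fun a => Scheme.Hom.stalkSpecializes_stalkMap_apply f x' ζ.1 hx'x a
  have hp_eq : (IsLocalRing.maximalIdeal (Y.presheaf.stalk (f.base x'))).comap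
      (Y.presheaf.stalkSpecializes hsY').hom = P.comap (f.stalkMap ζ.1).hom := by
    ext a
    rw [Ideal.mem_comap, Ideal.mem_comap, ← hx'P, Ideal.mem_comap, IsLocalRing.mem_maximalIdeal,
      IsLocalRing.mem_maximalIdeal, mem_nonunits_iff, mem_nonunits_iff, not_iff_not]
    have h2 : IsUnit ((f.stalkMap x').hom ((Y.presheaf.stalkSpecializes hsY').hom a)) ↔
        IsUnit ((Y.presheaf.stalkSpecializes hsY').hom a) := isUnit_map_iff (f.stalkMap x').hom _
    rw [← h2]
    exact iff_of_eq (congrArg IsUnit (hnat' a))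
  have hdimy' : 2 ≤ ringKrullDim (Y.presheaf.stalk (f.base x')) := by
    rw [← Groth.Agent.H95.StalkPrimes.height_comap_eq hsY', hp_eq]
    have h2 : ((2 : ℕ∞) : WithBot ℕ∞) ≤ ((P.comap (f.stalkMap ζ.1).hom).height : WithBot ℕ∞) :=
      WithBot.coe_le_coe.mpr hph
    have h3 : ((2 : ℕ∞) : WithBot ℕ∞) = (2 : WithBot ℕ∞) := by
      first | rfl | norm_cast | simp
    rw [← h3]
    exact h2
  have hx'E : x' ∈ E := by
    rw [hE]
    intro V hx'V hViso
    haveI := hViso
    haveI : IsIso (f.stalkMap x') :=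
      Groth.Agent.S7899.isIso_stalkMap_of_isIso_restrict f V x' hx'V
    have e : Y.presheaf.stalk (f.base x') ≃+* X.presheaf.stalk x' :=
      (asIso (f.stalkMap x')).commRingCatIsoToRingEquiv
    have hd := ringKrullDim_eq_of_ringEquiv e
    rw [hdimx'] at hd
    rw [hd] at hdimy'
    exact absurd hdimy' (by exact_mod_cast (by norm_num : ¬ (2 : ℕ) ≤ 1))
  have hx'eq : x' = ζ.1 := hmaxX x' hx'E hx'x
  rw [hx'eq] at hdimx'
  -- dimensions
  have hco : Order.coheight ζ.1 = 1 := by
    have h := ringKrullDim_stalk_eq_coheight ζ.1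
    rw [hdimx'] at h
    exact_mod_cast h.symm
  have hcoη : Order.coheight (genericPoint X) = 0 :=
    Order.coheight_eq_zero.mpr (fun b _ => genericPoint_specializes b)
  have h1 : tdeg sX (genericPoint X) ≤ tdeg sX ζ.1 + 1 := by
    have h := tdeg_add_coheight_le sX hsX
    rw [hcoη, hco, add_zero] at h
    exact_mod_cast h
  have hηE : genericPoint X ∉ E := fun h => (hE _).mp h V₀ hηV inferInstance
  have hne : genericPoint X ≠ ζ.1 := fun h => hηE (h ▸ ζ.2)
  have h2 : tdeg sX ζ.1 < tdeg sX (genericPoint X) := tdeg_lt_of_specializes sX hsX hne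
  have h3 : tdeg sX (genericPoint X) = tdeg sX ζ.1 + 1 := by omega
  have hdimX : topologicalKrullDim X = (tdeg sX (genericPoint X) : WithBot ℕ∞) :=
    topologicalKrullDim_eq_tdeg_of_generic sX (genericPoint X)
      (fun x => genericPoint_specializes x)
  have hrange : Set.range (fun t : ↥Z => (t.1 : ↥E).1) = closure ({ζ.1} : Set X) := by
    ext y
    constructor
    · rintro ⟨t, rfl⟩
      have ht : t.1 ∈ closure ({ζ} : Set ↥E) := hζcl ▸ t.2
      have hsp : ζ ⤳ t.1 := specializes_iff_mem_closure.mpr ht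
      exact specializes_iff_mem_closure.mp
        ((IsInducing.subtypeVal.specializes_iff (x := ζ) (y := t.1)).mpr hsp)
    · intro hy
      have hsp : ζ.1 ⤳ y := specializes_iff_mem_closure.mpr hy
      have hyE : y ∈ E := hsp.mem_closed hEcl ζ.2
      have hb : ζ ⤳ (⟨y, hyE⟩ : ↥E) :=
        (IsInducing.subtypeVal.specializes_iff (x := ζ) (y := (⟨y, hyE⟩ : ↥E))).mp hsp
      have hyZ : (⟨y, hyE⟩ : ↥E) ∈ Z := hζcl ▸ specializes_iff_mem_closure.mp hb
      exact ⟨⟨⟨y, hyE⟩, hyZ⟩, rfl⟩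
  have hdimZ : topologicalKrullDim ↥Z = (tdeg sX ζ.1 : WithBot ℕ∞) := by
    have hemb : IsEmbedding (fun t : ↥Z => (t.1 : ↥E).1) :=
      IsEmbedding.subtypeVal.comp IsEmbedding.subtypeVal
    rw [← topologicalKrullDim_closure_singleton sX ζ.1, ← hrange]
    exact hemb.toHomeomorph.isHomeomorph.topologicalKrullDim_eq
  rw [hdimZ, hdimX, h3]
  push_cast
  rfl

theorem main (k : Type u) [Field k] (X Y : Scheme.{u})
    (sX : X ⟶ Spec (CommRingCat.of k)) (sY : Y ⟶ Spec (CommRingCat.of k))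
    [IsIntegral X] [IsSeparated sX] [LocallyOfFiniteType sX] [QuasiCompact sX] [Smooth sX]
    [IsIntegral Y] [IsSeparated sY] [LocallyOfFiniteType sY] [QuasiCompact sY] [Smooth sY]
    (f : X ⟶ Y) (hf : f ≫ sY = sX) [IsProper f]
    (hbir : ∃ V : Y.Opens, (V : Set Y).Nonempty ∧ IsIso (f ∣_ V)) :
    ∀ Z ∈ irreducibleComponents ↥{x : X | ∀ V : Y.Opens, f x ∈ V → ¬ IsIso (f ∣_ V)},
      topologicalKrullDim ↥Z + 1 = topologicalKrullDim X := by
  intro Z hZ
  obtain ⟨V₀, hV₀ne, hV₀iso⟩ := hbir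
  haveI := hV₀iso
  have hEcl : IsClosed {x : X | ∀ V : Y.Opens, f x ∈ V → ¬ IsIso (f ∣_ V)} := by
    rw [← isOpen_compl_iff, isOpen_iff_forall_mem_open]
    intro x hx
    have hx' : ¬ ∀ V : Y.Opens, f x ∈ V → ¬ IsIso (f ∣_ V) := hx
    push Not at hx'
    obtain ⟨V, hxV, hViso⟩ := hx'
    refine ⟨(f ⁻¹ᵁ V : Set X), ?_, (f ⁻¹ᵁ V).2, hxV⟩
    intro x' hx'V hx'E
    exact hx'E V hx'V hViso
  exact core k X Y sX sY f hf V₀ hV₀ne _ hEcl (fun x => Iff.rfl) Z hZ

end Helpers


/-- Let k be an algebraically closed field and f : X → Y a proper, birational morphism over k between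
smooth, irreducible varieties (X, Y integral, separated, of finite type and smooth over k; f
restricts to an isomorphism over some nonempty open subset of Y). Let Exc(f) ⊆ X be the exceptional
locus: the points x such that f restricts to an isomorphism over no open neighbourhood of f(x). Then
Exc(f) has pure codimension one: every irreducible component of Exc(f) has dimension dim X − 1. -/
theorem result (k : Type u) [Field k] [IsAlgClosed k]
    (X Y : Scheme.{u}) [X.Over (Spec (CommRingCat.of k))] [Y.Over (Spec (CommRingCat.of k))]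
    [IsIntegral X] [IsSeparated (X ↘ (Spec (CommRingCat.of k)))] [LocallyOfFiniteType (X ↘ (Spec (CommRingCat.of k)))] [QuasiCompact (X ↘ (Spec (CommRingCat.of k)))] [Smooth (X ↘ (Spec (CommRingCat.of k)))]
    [IsIntegral Y] [IsSeparated (Y ↘ (Spec (CommRingCat.of k)))] [LocallyOfFiniteType (Y ↘ (Spec (CommRingCat.of k)))] [QuasiCompact (Y ↘ (Spec (CommRingCat.of k)))] [Smooth (Y ↘ (Spec (CommRingCat.of k)))]
    (f : X ⟶ Y) (hf : f ≫ (Y ↘ (Spec (CommRingCat.of k))) = (X ↘ (Spec (CommRingCat.of k)))) [IsProper f]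
    (hbir : ∃ V : Y.Opens, (V : Set Y).Nonempty ∧ IsIso (f ∣_ V)) :
    ∀ Z ∈ irreducibleComponents ↥{x : X | ∀ V : Y.Opens, f x ∈ V → ¬ IsIso (f ∣_ V)},
      topologicalKrullDim ↥Z + 1 = topologicalKrullDim X := by
  exact main k X Y (X ↘ Spec (CommRingCat.of k)) (Y ↘ Spec (CommRingCat.of k)) f hf hbir
end Groth.Agent.S14515
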