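import Groth.Statements.S1452
import Mathlib
import Groth.Agent.S1451
import Groth.Agent.H51.SrcEt

set_option autoImplicit false
universe u
open FlatMor

namespace Groth.Agent.S1452

open AlgebraicGeometry CategoryTheory Limits

set_option linter.style.haveILetI false

/-- Transport of an étale neighbourhood inside an open subscheme to the ambient scheme. -/
theorem exists_opens_of_opens_opens {X Y : Scheme.{u}} (f : X ⟶ Y) (U : X.Opens) (xU : ↥U)
    (h : ∃ U' : (U : Scheme.{u}).Opens, xU ∈ U' ∧ Etale (U'.ι ≫ U.ι ≫ f)) :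
    ∃ W : X.Opens, W ≤ U ∧ (xU : X) ∈ W ∧ Etale (W.ι ≫ f) := by
  obtain ⟨U', hx, het⟩ := h
  refine ⟨U.ι ''ᵁ U', ?_, ⟨xU, hx, rfl⟩, ?_⟩
  · rintro _ ⟨z, -, rfl⟩
    exact z.2
  · have e : (U.ι ''ᵁ U').ι ≫ f = (U.ι.isoImage U').inv ≫ (U'.ι ≫ U.ι ≫ f) := by
      rw [← Scheme.Hom.isoImage_inv_ι U.ι U', Category.assoc, Category.assoc]
    rw [e]
    infer_instance

theorem etale_nhd_target {X Y Z : Scheme.{u}} (f : X ⟶ Y) (g : Y ⟶ Z) (W : X.Opens) (x : X)
    (hxW : x ∈ W) [Etale (W.ι ≫ f)] [Etale (W.ι ≫ f ≫ g)] :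
    ∃ V : Y.Opens, f x ∈ V ∧ Etale (V.ι ≫ g) := by
  let f₁ : (W : Scheme.{u}) ⟶ Y := W.ι ≫ f
  have hopen : IsOpenMap f₁ := f₁.isOpenMap
  let V : Y.Opens := ⟨Set.range f₁, hopen.isOpen_range⟩
  have hrange : Set.range f₁ ⊆ Set.range V.ι := by
    rw [Scheme.Opens.range_ι]
    exact le_rfl
  let f₂ : (W : Scheme.{u}) ⟶ V := IsOpenImmersion.lift V.ι f₁ hrange
  have hfac : f₂ ≫ V.ι = f₁ := IsOpenImmersion.lift_fac V.ι f₁ hrange
  haveI : Etale (f₂ ≫ V.ι) := by rw [hfac]; infer_instance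
  haveI : Etale f₂ := MorphismProperty.of_postcomp (W := @Etale) (W' := @Etale) f₂ V.ι
    inferInstance inferInstance
  haveI : Surjective f₂ := by
    constructor
    intro v
    obtain ⟨w, hw⟩ : v.1 ∈ Set.range f₁ := v.2
    refine ⟨w, ?_⟩
    apply V.ι.isOpenEmbedding.injective
    rw [← Scheme.Hom.comp_apply, hfac, hw]
    rfl
  haveI : Etale (f₂ ≫ V.ι ≫ g) := by
    rw [← Category.assoc, hfac]
    show Etale ((W.ι ≫ f) ≫ g)
    rw [Category.assoc]
    infer_instance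
  refine ⟨V, ⟨⟨x, hxW⟩, rfl⟩, ?_⟩
  exact Groth.Agent.H51.etale_of_etale_surjective_comp f₂ (V.ι ≫ g)


open AlgebraicGeometry CategoryTheory Limits in
/-- Let f : X → Y and g : Y → Z with Y integral and the local ring of Y at y = f x geometrically
unibranch; assume g ∘ f is étale on an open neighbourhood of x and some generization of x maps to
the generic point of Y. Then f is étale on an open neighbourhood of x and g is étale on an open
neighbourhood of y. -/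
theorem result {X Y Z : Scheme.{u}} (f : X ⟶ Y) (g : Y ⟶ Z) [IsIntegral Y] (x : X)
    (hY : CAlg2.IsGeomUnibranch (Y.presheaf.stalk (f x))) (het : ∃ U : X.Opens, x ∈ U ∧ Etale (U.ι ≫ f ≫ g))
    (hsp : ∃ x' : X, x' ⤳ x ∧ f x' = genericPoint ↑Y) :
    (∃ U : X.Opens, x ∈ U ∧ Etale (U.ι ≫ f)) ∧ ∃ V : Y.Opens, f x ∈ V ∧ Etale (V.ι ≫ g) := by
  obtain ⟨U, hxU, hUet⟩ := het
  haveI := hUet
  let f' : (U : Scheme.{u}) ⟶ Y := U.ι ≫ f
  haveI hcomp : Etale (f' ≫ g) := by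
    show Etale ((U.ι ≫ f) ≫ g)
    rw [Category.assoc]
    exact hUet
  haveI : LocallyOfFiniteType f' := locallyOfFiniteType_of_comp f' g
  haveI : FormallyUnramified f' := FormallyUnramified.of_comp f' g
  let xU : ↥U := ⟨x, hxU⟩
  obtain ⟨x', hx'x, hx'η⟩ := hsp
  have hx'U : x' ∈ U := hx'x.mem_open U.isOpen hxU
  have hsp' : ∃ x'' : ↥U, x'' ⤳ xU ∧ f' x'' = genericPoint ↑Y :=
    ⟨⟨x', hx'U⟩, (subtype_specializes_iff _ _).mpr hx'x, hx'η⟩
  have hunr' : ∃ U' : (U : Scheme.{u}).Opens, xU ∈ U' ∧ FormallyUnramified (U'.ι ≫ f') :=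
    ⟨⊤, trivial, MorphismProperty.comp_mem (W := @FormallyUnramified) _ _ inferInstance inferInstance⟩
  have hY' : CAlg2.IsGeomUnibranch (Y.presheaf.stalk (f' xU)) := hY
  obtain ⟨W, hWU, hxW, hWet⟩ := exists_opens_of_opens_opens f U xU
    (Groth.Agent.S1451.result f' xU hY' hsp' hunr')
  haveI := hWet
  refine ⟨⟨W, hxW, hWet⟩, ?_⟩
  haveI : Etale (W.ι ≫ f ≫ g) := by
    have e : W.ι ≫ f ≫ g = X.homOfLE hWU ≫ U.ι ≫ f ≫ g := by
      rw [← Category.assoc (X.homOfLE hWU), Scheme.homOfLE_ι]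
    rw [e]
    infer_instance
  exact etale_nhd_target f g W x hxW

end Groth.Agent.S1452
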