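import Groth.Statements.S14523
import Groth.Agent.S9718
import Groth.Agent.H54.ValRing

set_option autoImplicit false
universe u
open CategoryTheory CategoryTheory.Limits AlgebraicGeometry
open Variety

namespace Groth.Agent.S14523




/-- Let k be an algebraically closed field and f : X → Y a proper, birational morphism over k of
irreducible varieties (X, Y integral, separated and of finite type over k; f restricts to an
isomorphism over some nonempty open subset of Y), with Y normal (all local rings integrally closed).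
Let U ⊆ Y be the largest open subset over which f is an isomorphism (the domain of f^{-1}). Then
codim_Y(Y ∖ U) ≥ 2: for every point y of Y whose local ring has Krull dimension at most one, f
restricts to an isomorphism over some open neighbourhood of y. -/
theorem result (k : Type u) [Field k] [IsAlgClosed k]
    (X Y : Scheme.{u}) [X.Over (Spec (CommRingCat.of k))] [Y.Over (Spec (CommRingCat.of k))]
    [IsIntegral X] [IsSeparated (X ↘ (Spec (CommRingCat.of k)))] [LocallyOfFiniteType (X ↘ (Spec (CommRingCat.of k)))] [QuasiCompact (X ↘ (Spec (CommRingCat.of k)))]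
    [IsIntegral Y] [IsSeparated (Y ↘ (Spec (CommRingCat.of k)))] [LocallyOfFiniteType (Y ↘ (Spec (CommRingCat.of k)))] [QuasiCompact (Y ↘ (Spec (CommRingCat.of k)))] (hY : ∀ y : Y, IsIntegrallyClosed (Y.presheaf.stalk y))
    (f : X ⟶ Y) (hf : f ≫ (Y ↘ (Spec (CommRingCat.of k))) = (X ↘ (Spec (CommRingCat.of k)))) [IsProper f]
    (hbir : ∃ V : Y.Opens, (V : Set Y).Nonempty ∧ IsIso (f ∣_ V))
    (y : Y) (hy : ringKrullDim (Y.presheaf.stalk y) ≤ 1) :
    ∃ V : Y.Opens, y ∈ V ∧ IsIso (f ∣_ V) := by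
  obtain ⟨V₀, hV₀ne, hV₀iso⟩ := hbir
  haveI := hV₀iso
  haveI : IsNoetherianRing (CommRingCat.of k) := inferInstanceAs (IsNoetherianRing k)
  haveI hYN : IsLocallyNoetherian Y :=
    LocallyOfFiniteType.isLocallyNoetherian (Y ↘ Spec (CommRingCat.of k))
  haveI : LocallyOfFinitePresentation f :=
    LocallyOfFinitePresentation.iff_locallyOfFiniteType.mpr inferInstance
  -- the local ring at `y` is a valuation ring
  haveI hval : ValuationRing (Y.presheaf.stalk y) :=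
    Groth.Agent.H54.valuationRing_of_ringKrullDim_le_one _ (hY y) hy
  -- the generic point lies in `V₀`
  have hη : genericPoint Y ∈ V₀ :=
    ((genericPoint_spec Y).mem_open_set_iff V₀.2).mpr
      ⟨hV₀ne.choose, trivial, hV₀ne.choose_spec⟩
  have hgen : Spec.map (CommRingCat.ofHom (algebraMap (Y.presheaf.stalk y) Y.functionField)) ≫
      Y.fromSpecStalk y = Y.fromSpecStalk (genericPoint Y) :=
    Scheme.SpecMap_stalkSpecializes_fromSpecStalk
      ((genericPoint_spec Y).specializes (Set.mem_univ y))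
  have hex : ValuativeCriterion.Existence f := Groth.Agent.H54.existence_of_universallyClosed f
  have w : (V₀.fromSpecStalkOfMem (genericPoint Y) hη ≫ inv (f ∣_ V₀) ≫ (f ⁻¹ᵁ V₀).ι) ≫ f =
      Spec.map (CommRingCat.ofHom (algebraMap (Y.presheaf.stalk y) Y.functionField)) ≫
        Y.fromSpecStalk y := by
    simp only [Category.assoc]
    rw [← morphismRestrict_ι, IsIso.inv_hom_id_assoc, Scheme.Opens.fromSpecStalkOfMem_ι]
    exact hgen.symm
  have hdom : IsDomain (Y.presheaf.stalk y) := inferInstance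
  have hfr : IsFractionRing (Y.presheaf.stalk y) Y.functionField := inferInstance
  obtain ⟨⟨⟨l, hl₁, hl₂⟩⟩⟩ := hex (@ValuativeCommSq.mk _ _ f (Y.presheaf.stalk y) _ hdom hval
    Y.functionField _ _ hfr
    (V₀.fromSpecStalkOfMem (genericPoint Y) hη ≫ inv (f ∣_ V₀) ≫ (f ⁻¹ᵁ V₀).ι)
    (Y.fromSpecStalk y) ⟨w⟩)
  obtain ⟨U, hyU, s, hs₁, hs₂⟩ := Groth.Agent.S9718.spread_out_lfp' (𝟙 Y) f (x := y) l
    (by rw [Category.comp_id]; exact hl₂)
  rw [Category.comp_id] at hs₂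
  refine ⟨U, hyU, ?_⟩
  have hrange : Set.range s ⊆ Set.range (f ⁻¹ᵁ U).ι := by
    rintro _ ⟨u, rfl⟩
    rw [Scheme.Opens.range_ι]
    show f (s u) ∈ U
    rw [← Scheme.Hom.comp_apply, hs₂]
    exact u.2
  obtain ⟨s', hs'ι⟩ : ∃ s' : (U : Scheme) ⟶ (f ⁻¹ᵁ U : Scheme), s' ≫ (f ⁻¹ᵁ U).ι = s :=
    ⟨_, IsOpenImmersion.lift_fac _ _ hrange⟩
  have hs'f : s' ≫ (f ∣_ U) = 𝟙 _ := by
    rw [← cancel_mono U.ι, Category.assoc, morphismRestrict_ι, ← Category.assoc, hs'ι, hs₂,
      Category.id_comp]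
  haveI : IsClosedImmersion (s' ≫ (f ∣_ U)) := by rw [hs'f]; infer_instance
  haveI : IsClosedImmersion s' := IsClosedImmersion.of_comp s' (f ∣_ U)
  haveI : Nonempty ↥(f ⁻¹ᵁ U : Scheme) := ⟨s' ⟨y, hyU⟩⟩
  haveI : IsIntegral (f ⁻¹ᵁ U : Scheme) := isIntegral_of_isOpenImmersion (f ⁻¹ᵁ U).ι
  -- injectivity of `f` over `V₀`
  have e1 : ∀ (T : Y.Opens) (a' : ↥(f ⁻¹ᵁ T : Scheme)),
      (T.ι ((f ∣_ T) a') : Y) = f ((f ⁻¹ᵁ T).ι a') := fun T a' => by
    rw [← Scheme.Hom.comp_apply, ← Scheme.Hom.comp_apply, morphismRestrict_ι]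
  have hinj : ∀ a b : X, f a ∈ V₀ → f a = f b → a = b := by
    intro a b ha hab
    have hb : f b ∈ V₀ := hab ▸ ha
    have h2 : (f ∣_ V₀) (⟨a, ha⟩ : ↥(f ⁻¹ᵁ V₀ : Scheme)) = (f ∣_ V₀) (⟨b, hb⟩ : ↥(f ⁻¹ᵁ V₀ : Scheme)) := by
      apply V₀.ι.isOpenEmbedding.injective
      rw [e1, e1]
      exact hab
    have h3 := (f ∣_ V₀).isOpenEmbedding.injective h2
    exact congrArg Subtype.val h3
  haveI : Surjective s' := by
    constructor
    have hclosed : IsClosed (Set.range s') := s'.isClosedEmbedding.isClosed_range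
    obtain ⟨z, hzU, hzV⟩ : ((U : Set Y) ∩ V₀).Nonempty :=
      nonempty_preirreducible_inter U.2 V₀.2 ⟨y, hyU⟩ hV₀ne
    have hWopen : IsOpen (((f ⁻¹ᵁ U).ι ≫ f) ⁻¹' (V₀ : Set Y)) :=
      V₀.2.preimage ((f ⁻¹ᵁ U).ι ≫ f).continuous
    have hWne : (((f ⁻¹ᵁ U).ι ≫ f) ⁻¹' (V₀ : Set Y)).Nonempty := by
      refine ⟨s' ⟨z, hzU⟩, ?_⟩
      show ((f ⁻¹ᵁ U).ι ≫ f) (s' ⟨z, hzU⟩) ∈ V₀
      rw [← Scheme.Hom.comp_apply, ← Category.assoc, hs'ι, hs₂]
      exact hzV
    have hWsub : (((f ⁻¹ᵁ U).ι ≫ f) ⁻¹' (V₀ : Set Y)) ⊆ Set.range s' := by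
      intro x hx
      refine ⟨(f ∣_ U) x, ?_⟩
      apply (f ⁻¹ᵁ U).ι.isOpenEmbedding.injective
      rw [← Scheme.Hom.comp_apply, hs'ι]
      have h4 : f (s ((f ∣_ U) x)) = f ((f ⁻¹ᵁ U).ι x) := by
        rw [← Scheme.Hom.comp_apply, hs₂, e1]
      refine hinj _ _ ?_ h4
      rw [h4]
      exact hx
    intro x
    exact hclosed.closure_subset_iff.mpr hWsub ((hWopen.dense hWne) x)
  haveI : IsIso s' := isIso_of_isClosedImmersion_of_surjective s'
  haveI : IsIso (s' ≫ (f ∣_ U)) := by rw [hs'f]; infer_instance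
  exact IsIso.of_isIso_comp_left s' (f ∣_ U)

end Groth.Agent.S14523
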