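import Groth.Statements.S14539
import Groth.Agent.H1.HopfSub.Points
import Groth.Agent.S7981

set_option autoImplicit false
universe u v w
open TensorProduct
open PrincBund

namespace Groth.Agent.S14539

/-- Let k be an algebraically closed field of characteristic 0, A a commutative Hopf algebra over k (the
coordinate ring of an affine group scheme G over k, not necessarily of finite type) and V a right
A-comodule, of any dimension. If a k-subspace W of V is mapped into itself by the action of every
k-rational point of G (every k-algebra homomorphism A → k, acting on V through the coaction), then W
is a subcomodule of V. -/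
theorem result (k : Type u) (A : Type v) [Field k] [IsAlgClosed k]
    [CharZero k] [CommRing A] [HopfAlgebra k A]
    (V : Type w) [AddCommGroup V] [Module k V] [HopfRep.Comod k A V] (W : Submodule k V)
    (hW : ∀ g : A →ₐ[k] k, W.map (HopfRep.Comod.act k A V g) ≤ W) :
    HopfRep.IsSubcomod (k := k) (A := A) W := by
  exact Groth.Agent.H1.HopfSub.isSubcomod_of_points
    (fun A' B' _ _ _ _ _ _ ψ hψ q => Groth.Agent.S7981.result k A' B' ψ hψ k q) W hW

end Groth.Agent.S14539
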