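import Groth.Statements.S14541
import Groth.Agent.H40.FpqcMap

set_option autoImplicit false
universe u
open CategoryTheory MonoidalCategory CartesianMonoidalCategory MonObj GrpObj AlgebraicGeometry
open PrincBund

namespace Groth.Agent.S14541

/-- Let X be a scheme, J, J' and J'' group schemes affine over X, with no flatness or finiteness
condition, u : J → J' and v : J' → J'' homomorphisms, P a J-torsor, P' a J'-torsor and P'' a
J''-torsor, all for the fpqc topology, q' : P → P' an X-morphism compatible with u and q'' : P → P''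
an X-morphism compatible with the composite homomorphism J → J' → J''. Then there is exactly one
X-morphism r : P' → P'' compatible with v whose composite with q' is q''. Taking v to be the
identity, the push forward of a torsor along u is unique up to unique isomorphism. -/
theorem result {X : Scheme.{u}}
    {J J' J'' : Over X} [GrpObj J] [GrpObj J'] [GrpObj J''] [IsAffineHom J.hom] [IsAffineHom J'.hom]
    [IsAffineHom J''.hom] (u : J ⟶ J') [IsMonHom u] (v : J' ⟶ J'') [IsMonHom v] {P P' P'' : Over X}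
    (a : AlgGrp.Action J P) (a' : AlgGrp.Action J' P') (a'' : AlgGrp.Action J'' P'')
    (hP : NonAbH1.IsTorsorFor Scheme.fpqcPrecoverage a)
    (hP' : NonAbH1.IsTorsorFor Scheme.fpqcPrecoverage a')
    (hP'' : NonAbH1.IsTorsorFor Scheme.fpqcPrecoverage a'')
    (q' : P ⟶ P') (hq' : a.act ≫ q' = lift (fst J P ≫ u) (snd J P ≫ q') ≫ a'.act)
    (q'' : P ⟶ P'') (hq'' : a.act ≫ q'' = lift (fst J P ≫ u ≫ v) (snd J P ≫ q'') ≫ a''.act) :
    ∃! r : P' ⟶ P'', a'.act ≫ r = lift (fst J' P' ≫ v) (snd J' P' ≫ r) ≫ a''.act ∧ q' ≫ r = q'' := by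
  open Groth.Agent.H40.FpqcFam Groth.Agent.H40.GrpFun in
  obtain ⟨hps, hloc⟩ := hP
  have hps' := hP'.1
  have eq' := fun (T : Over X) (g : T ⟶ J) (p : T ⟶ P) => equiv_pts hq' g p
  have eq'' : ∀ (T : Over X) (g : T ⟶ J) (p : T ⟶ P),
      (lift g p ≫ a.act) ≫ q'' = lift (g ≫ u ≫ v) (p ≫ q'') ≫ a''.act :=
    fun T g p => equiv_pts (φ := u ≫ v) hq'' g p
  have hv : ∀ {T : Over X} (A B : T ⟶ J'), (A * B⁻¹) ≫ v = (A ≫ v) * (B ≫ v)⁻¹ := by
    intro T A B
    have := (post v T).map_mul A B⁻¹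
    rw [(post v T).map_inv] at this
    simpa only [post_apply] using this
  have hv1 : ∀ {T : Over X}, (1 : T ⟶ J') ≫ v = 1 := fun {T} => (post v T).map_one
  let ψ : P ⊗ P' ⟶ P'' :=
    lift ((lift (snd P P') (fst P P' ≫ q') ≫ dv hps') ≫ v) (fst P P' ≫ q'') ≫ a''.act
  have hψpt : ∀ (T : Over X) (p : T ⟶ P) (x' : T ⟶ P'),
      lift p x' ≫ ψ = lift ((lift x' (p ≫ q') ≫ dv hps') ≫ v) (p ≫ q'') ≫ a''.act := by
    intro T p x'
    simp only [ψ, comp_lift_assoc, lift_fst_assoc, lift_snd, Category.assoc]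
  have hinv : ∀ (T : Over X) (g : T ⟶ J) (p : T ⟶ P) (x' : T ⟶ P'),
      lift (lift g p ≫ a.act) x' ≫ ψ = lift p x' ≫ ψ := by
    intro T g p x'
    rw [hψpt, hψpt, eq', eq'', dv_act_right hps', hv, ← AlgGrp.Action.lift_mul_act,
      Category.assoc g u v, inv_mul_cancel_right]
  obtain ⟨r, hr⟩ := exists_desc_snd ⟨hps, hloc⟩ ψ hinv
  have hrpt : ∀ (T : Over X) (p : T ⟶ P) (x' : T ⟶ P'), x' ≫ r = lift p x' ≫ ψ := by
    intro T p x'
    rw [← hr, ← Category.assoc, lift_snd]
  refine ⟨r, ⟨?_, ?_⟩, ?_⟩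
  · apply snd_cancel (X := P) hloc
    apply AlgGrp.Action.hom_ext_lift₂
    intro T p y
    rw [← Category.assoc, ← Category.assoc (lift p y), lift_snd]
    obtain ⟨g', x', rfl⟩ : ∃ (g' : T ⟶ J') (x' : T ⟶ P'), y = lift g' x' :=
      ⟨y ≫ fst _ _, y ≫ snd _ _, by apply CartesianMonoidalCategory.hom_ext <;> simp⟩
    rw [← Category.assoc, hrpt T p, hψpt, dv_act_left hps', MonObj.mul_comp,
      AlgGrp.Action.lift_mul_act, ← hψpt, ← hrpt, ← Category.assoc, comp_lift,
      ← Category.assoc, ← Category.assoc, lift_fst, lift_snd]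
  · have := hrpt P (𝟙 P) q'
    rw [this, hψpt, Category.id_comp, dv_self, hv1, AlgGrp.Action.lift_one_act, Category.id_comp]
  · rintro r' ⟨he, hc⟩
    apply snd_cancel (X := P) hloc
    rw [hr]
    apply AlgGrp.Action.hom_ext_lift₂
    intro T p x'
    rw [← Category.assoc, lift_snd, hψpt]
    have hx : x' = lift (lift x' (p ≫ q') ≫ dv hps') (p ≫ q') ≫ a'.act :=
      (dv_act hps' x' (p ≫ q')).symm
    conv_lhs => rw [hx]
    rw [equiv_pts he, Category.assoc p q' r', hc]

end Groth.Agent.S14541
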