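import Groth.Statements.S14547
import Groth.Agent.H40.FpqcFam

set_option autoImplicit false
universe u
open CategoryTheory MonoidalCategory CartesianMonoidalCategory MonObj GrpObj AlgebraicGeometry
open PrincBund

namespace Groth.Agent.S14547

/-- Let f : X' → X be a faithfully flat quasi-compact morphism of schemes, J a group scheme affine over
X with an action a on an X-scheme P, and a' the induced action of the base change J' = J ×_X X' on
P' = P ×_X X'. Then P with a is a J-torsor for the fpqc topology if and only if P' with a' is a
J'-torsor for the fpqc topology. (The published statement allows any morphism X' → X that is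
covering for the fpqc topology, and an action of a pregroupoid; this row is the case of a faithfully
flat quasi-compact X' → X and the trivial pregroupoid.) -/
theorem result {X X' : Scheme.{u}} (f : X' ⟶ X)
    [Flat f] [Surjective f] [QuasiCompact f]
    {J P : Over X} [GrpObj J] [IsAffineHom J.hom] (a : AlgGrp.Action J P)
    (a' : AlgGrp.Action (Red.bc f J) (Red.bc f P))
    (ha' : Functor.LaxMonoidal.μ (Over.pullback f) J P ≫ (Over.pullback f).map a.act = a'.act) :
    NonAbH1.IsTorsorFor Scheme.fpqcPrecoverage a ↔ NonAbH1.IsTorsorFor Scheme.fpqcPrecoverage a' := by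
  open Groth.Agent.H40.FpqcFam in
  have hbc : a' = a.bc f := AlgGrp.Action.ext' (by rw [AlgGrp.Action.bc_act]; exact ha'.symm)
  subst hbc
  constructor
  · exact NonAbH1.isTorsorFor_bc f _
  · rintro ⟨hps', R', hR', hsec'⟩
    constructor
    · have key : lift (a.bc f).act (snd _ _) ≫ Functor.LaxMonoidal.μ (Over.pullback f) P P =
          Functor.LaxMonoidal.μ (Over.pullback f) J P ≫
            (Over.pullback f).map (lift a.act (snd J P)) := by
        rw [← Functor.Monoidal.lift_μ, comp_lift_assoc, Functor.Monoidal.μ_snd,
          AlgGrp.Action.bc_act]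
      have h1 : IsIso (lift (a.bc f).act (snd (Red.bc f J) (Red.bc f P))) := hps'
      have h2 : (Over.pullback f).map (lift a.act (snd J P)) =
          inv (Functor.LaxMonoidal.μ (Over.pullback f) J P) ≫
            lift (a.bc f).act (snd _ _) ≫ Functor.LaxMonoidal.μ (Over.pullback f) P P := by
        rw [key, IsIso.inv_hom_id_assoc]
      have h3 : IsIso ((Over.pullback f).map (lift a.act (snd J P))) := by
        rw [h2]; infer_instance
      exact isIso_of_isIso_pullback_map f _
    · obtain ⟨𝒰, h𝒰⟩ := Precoverage.mem_iff_exists_zeroHypercover.mp hR'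
      refine ⟨_, Precoverage.comp_mem_coverings (J := Scheme.fpqcPrecoverage)
        (f := fun _ : PUnit.{1} => f) ?_ (g := fun _ j => 𝒰.f j) (fun _ => 𝒰.mem₀), ?_⟩
      · rw [Presieve.ofArrows_pUnit]
        exact Scheme.Hom.singleton_mem_fpqcPrecoverage f
      · rintro S' g ⟨p⟩
        obtain ⟨s, hs⟩ := hsec' (𝒰.f p.2) (by rw [h𝒰]; exact Presieve.ofArrows.mk p.2)
        refine ⟨s ≫ Limits.pullback.fst P.hom f, ?_⟩
        rw [Category.assoc, Limits.pullback.condition, ← Category.assoc]
        congr 1

end Groth.Agent.S14547
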