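import Groth.Statements.S1458
import Mathlib.LinearAlgebra.TensorProduct.Vanishing
import Mathlib.RingTheory.Finiteness.ModuleFinitePresentation
import Mathlib.Algebra.Module.FinitePresentation
import Mathlib.RingTheory.MvPolynomial.Basic

set_option autoImplicit false
universe u
open FlatMor

namespace Groth.Agent.S1458


open TensorProduct in
theorem exists_sum_tmul {A B : Type u} [CommRing A] [CommRing B] [Algebra A B]
    {n : ℕ} (b : Fin n → B) (hb : Submodule.span A (Set.range b) = ⊤)
    (R : Type u) [AddCommGroup R] [Module A R] (z : B ⊗[A] R) :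
    ∃ v : Fin n → R, z = ∑ i, b i ⊗ₜ[A] v i := by
  induction z using TensorProduct.induction_on with
  | zero => exact ⟨0, by simp⟩
  | tmul x r =>
    have hx : x ∈ Submodule.span A (Set.range b) := hb ▸ Submodule.mem_top
    obtain ⟨c, rfl⟩ := (Submodule.mem_span_range_iff_exists_fun A).mp hx
    refine ⟨fun i => c i • r, ?_⟩
    rw [TensorProduct.sum_tmul]
    exact Finset.sum_congr rfl fun i _ => (TensorProduct.smul_tmul _ _ _)
  | add x y hx hy =>
    obtain ⟨v, rfl⟩ := hx
    obtain ⟨w, rfl⟩ := hy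
    exact ⟨v + w, by simp [TensorProduct.tmul_add, Finset.sum_add_distrib]⟩

open TensorProduct in
theorem exists_of_sum_tmul_eq_zero {A B : Type u} [CommRing A] [CommRing B] [Algebra A B]
    {n m : ℕ} (b : Fin n → B) (hb : Submodule.span A (Set.range b) = ⊤)
    (κ : Fin m → (Fin n → A))
    (hκ : Submodule.span A (Set.range κ) = LinearMap.ker (Fintype.linearCombination A b))
    (R : Type u) [AddCommGroup R] [Module A R] (v : Fin n → R)
    (h : ∑ i, b i ⊗ₜ[A] v i = 0) :
    ∃ y : Fin m → R, ∀ i, v i = ∑ l, κ l i • y l := by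
  obtain ⟨k, a, y, h1, h2⟩ := (TensorProduct.vanishesTrivially_iff_sum_tmul_eq_zero A hb).mpr h
  have hmem : ∀ j : Fin k, (fun i => a i j) ∈ Submodule.span A (Set.range κ) := by
    intro j
    rw [hκ, LinearMap.mem_ker, Fintype.linearCombination_apply]
    exact h2 j
  have hc : ∀ j : Fin k, ∃ c : Fin m → A, ∑ l, c l • κ l = fun i => a i j := fun j =>
    (Submodule.mem_span_range_iff_exists_fun A).mp (hmem j)
  choose c hc using hc
  refine ⟨fun l => ∑ j, c j l • y j, fun i => ?_⟩
  rw [h1 i]
  have ha : ∀ j, a i j = ∑ l, c j l * κ l i := by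
    intro j
    have := congrFun (hc j) i
    simp only [Finset.sum_apply, Pi.smul_apply, smul_eq_mul] at this
    exact this.symm
  simp only [ha, Finset.sum_smul, Finset.smul_sum, smul_smul]
  rw [Finset.sum_comm]
  refine Finset.sum_congr rfl fun l _ => Finset.sum_congr rfl fun j _ => ?_
  rw [mul_comm]

open TensorProduct in
/-- Let A → B be a finite ring map of finite presentation. Then there are a finitely presented A-algebra
A_u and an idempotent e_u of B ⊗_A A_u such that for every A-algebra A' and every idempotent e of B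
⊗_A A' there is an A-algebra map A_u → A' whose induced map B ⊗ A_u → B ⊗ A' sends e_u to e. -/
theorem result {A B : Type u} [CommRing A] [CommRing B] [Algebra A B] [Module.Finite A B] [Algebra.FinitePresentation A B] :
    ∃ (Au : Type u) (_ : CommRing Au) (_ : Algebra A Au) (eu : B ⊗[A] Au), Algebra.FinitePresentation A Au ∧ IsIdempotentElem eu ∧
      ∀ (A' : Type u) [CommRing A'] [Algebra A A'] (e : B ⊗[A] A'), IsIdempotentElem e →
        ∃ φ : Au →ₐ[A] A', Algebra.TensorProduct.map (AlgHom.id A B) φ eu = e := by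
  classical
  have : Module.FinitePresentation A B := Module.FinitePresentation.of_finite_of_finitePresentation A B
  obtain ⟨n, b, hb⟩ := Module.Finite.exists_fin (R := A) (M := B)
  have hπ : Function.Surjective (Fintype.linearCombination A b) := by
    rw [← LinearMap.range_eq_top, Fintype.range_linearCombination, hb]
  have hker : (LinearMap.ker (Fintype.linearCombination A b)).FG :=
    Module.FinitePresentation.fg_ker _ hπ
  obtain ⟨m, κ, hκ⟩ := Submodule.fg_iff_exists_fin_generating_family.mp hker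
  have hκ0 : ∀ l, ∑ i, κ l i • b i = 0 := by
    intro l
    have : κ l ∈ LinearMap.ker (Fintype.linearCombination A b) :=
      hκ ▸ Submodule.subset_span ⟨l, rfl⟩
    rw [LinearMap.mem_ker, Fintype.linearCombination_apply] at this
    exact this
  obtain ⟨q, hq⟩ := exists_sum_tmul b hb (MvPolynomial (Fin n) A)
    ((∑ i, b i ⊗ₜ[A] (MvPolynomial.X i : MvPolynomial (Fin n) A)) *
      (∑ i, b i ⊗ₜ[A] (MvPolynomial.X i : MvPolynomial (Fin n) A)) -
      ∑ i, b i ⊗ₜ[A] (MvPolynomial.X i : MvPolynomial (Fin n) A))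
  have key : ∀ (R : Type u) [CommRing R] [Algebra A R] (a : Fin n → R),
      (∑ i, b i ⊗ₜ[A] a i) * (∑ i, b i ⊗ₜ[A] a i) - ∑ i, b i ⊗ₜ[A] a i =
        ∑ i, b i ⊗ₜ[A] (MvPolynomial.aeval a (q i)) := by
    intro R _ _ a
    have := congrArg (Algebra.TensorProduct.map (AlgHom.id A B)
      (MvPolynomial.aeval a : MvPolynomial (Fin n) A →ₐ[A] R)) hq
    simpa [map_sub, map_mul, map_sum] using this
  let r : Fin n → MvPolynomial (Fin n ⊕ Fin m) A := fun i =>
    MvPolynomial.rename Sum.inl (q i) - ∑ l, κ l i • MvPolynomial.X (Sum.inr l)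
  let I : Ideal (MvPolynomial (Fin n ⊕ Fin m) A) := Ideal.span (Set.range r)
  have hIfg : I.FG := Submodule.fg_span (Set.finite_range r)
  refine ⟨MvPolynomial (Fin n ⊕ Fin m) A ⧸ I, inferInstance, inferInstance,
    ∑ i, b i ⊗ₜ[A] (Ideal.Quotient.mk I (MvPolynomial.X (Sum.inl i))), ?_, ?_, ?_⟩
  · exact Algebra.FinitePresentation.quotient hIfg
  · -- idempotent
    have h1 := key (MvPolynomial (Fin n ⊕ Fin m) A ⧸ I)
      (fun i => Ideal.Quotient.mk I (MvPolynomial.X (Sum.inl i)))
    have h2 : ∀ i, MvPolynomial.aeval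
        (fun i => Ideal.Quotient.mk I (MvPolynomial.X (Sum.inl i) : MvPolynomial (Fin n ⊕ Fin m) A))
        (q i) = ∑ l, κ l i • Ideal.Quotient.mk I (MvPolynomial.X (Sum.inr l)) := by
      intro i
      let ψ : MvPolynomial (Fin n) A →ₐ[A] (MvPolynomial (Fin n ⊕ Fin m) A ⧸ I) :=
        (Ideal.Quotient.mkₐ A I).comp (MvPolynomial.rename Sum.inl)
      have hψ : (fun i => Ideal.Quotient.mk I
          (MvPolynomial.X (Sum.inl i) : MvPolynomial (Fin n ⊕ Fin m) A)) = ψ ∘ MvPolynomial.X := by
        funext i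
        simp [ψ]
      rw [hψ, ← MvPolynomial.aeval_unique ψ]
      change Ideal.Quotient.mk I (MvPolynomial.rename Sum.inl (q i)) = _
      have hr : r i ∈ I := Ideal.subset_span ⟨i, rfl⟩
      have := Ideal.Quotient.eq.mpr hr
      rw [this, map_sum]
      refine Finset.sum_congr rfl fun l _ => ?_
      exact map_smul (Ideal.Quotient.mkₐ A I) (κ l i) (MvPolynomial.X (Sum.inr l))
    simp only [h2] at h1
    have h3 : ∑ i, b i ⊗ₜ[A] (∑ l, κ l i • Ideal.Quotient.mk I
        (MvPolynomial.X (Sum.inr l) : MvPolynomial (Fin n ⊕ Fin m) A)) = 0 := by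
      simp only [TensorProduct.tmul_sum, TensorProduct.tmul_smul, ← TensorProduct.smul_tmul']
      rw [Finset.sum_comm]
      refine Finset.sum_eq_zero fun l _ => ?_
      simp only [TensorProduct.smul_tmul']
      rw [← TensorProduct.sum_tmul, hκ0 l, TensorProduct.zero_tmul]
    rw [h3] at h1
    exact sub_eq_zero.mp h1
  · intro A' _ _ e he
    obtain ⟨a, ha⟩ := exists_sum_tmul b hb A' e
    have h1 := key A' a
    rw [← ha, he.eq, sub_self] at h1
    obtain ⟨y, hy⟩ := exists_of_sum_tmul_eq_zero b hb κ hκ A'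
      (fun i => MvPolynomial.aeval a (q i)) h1.symm
    let φ₀ : MvPolynomial (Fin n ⊕ Fin m) A →ₐ[A] A' := MvPolynomial.aeval (Sum.elim a y)
    have hr : ∀ i, φ₀ (r i) = 0 := by
      intro i
      simp only [φ₀, r, map_sub, MvPolynomial.aeval_rename, Sum.elim_comp_inl, map_sum,
        map_smul, MvPolynomial.aeval_X, Sum.elim_inr]
      rw [sub_eq_zero]
      exact hy i
    have hI : ∀ x ∈ I, φ₀ x = 0 := by
      have : I ≤ RingHom.ker φ₀.toRingHom := by
        refine Ideal.span_le.mpr ?_
        rintro _ ⟨i, rfl⟩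
        exact hr i
      exact fun x hx => this hx
    refine ⟨Ideal.Quotient.liftₐ I φ₀ hI, ?_⟩
    rw [ha, map_sum]
    refine Finset.sum_congr rfl fun i _ => ?_
    simp [φ₀]

end Groth.Agent.S1458
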