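import Groth.Statements.S14580
import Groth.Agent.H24.ConnComp

set_option autoImplicit false
universe u
open CategoryTheory MonoidalCategory CartesianMonoidalCategory MonObj GrpObj AlgebraicGeometry CategoryTheory.Limits
open AlgGrp

namespace Groth.Agent.S14580

section aux

lemma alg_aux {k A : Type*} [Field k] [CommRing A] (φ : k →+* A) (a : A)
    (ha : φ.IsIntegralElem a) :
    ∃ (n : ℕ) (q : A) (c : k), 0 < n ∧ c ≠ 0 ∧ a ^ n * (φ c + a * q) = 0 := by
  obtain ⟨P, hm, hP⟩ := ha
  have hP0 : P ≠ 0 := hm.ne_zero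
  obtain ⟨Q, hQ, hnd⟩ := Polynomial.exists_eq_pow_rootMultiplicity_mul_and_not_dvd P hP0 0
  simp only [map_zero, sub_zero] at hQ hnd
  have hc : Q.coeff 0 ≠ 0 := fun h => hnd (Polynomial.X_dvd_iff.mpr h)
  refine ⟨P.rootMultiplicity 0 + 1, Polynomial.eval₂ φ a Q.divX, Q.coeff 0, Nat.succ_pos _, hc, ?_⟩
  have h1 : Polynomial.eval₂ φ a Q = φ (Q.coeff 0) + a * Polynomial.eval₂ φ a Q.divX := by
    conv_lhs => rw [← Polynomial.divX_mul_X_add Q]
    rw [Polynomial.eval₂_add, Polynomial.eval₂_mul, Polynomial.eval₂_X, Polynomial.eval₂_C]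
    ring
  rw [hQ, Polynomial.eval₂_mul, Polynomial.eval₂_pow, Polynomial.eval₂_X, h1] at hP
  calc a ^ (P.rootMultiplicity 0 + 1) * (φ (Q.coeff 0) + a * Polynomial.eval₂ φ a Q.divX)
      = a * (a ^ P.rootMultiplicity 0 * (φ (Q.coeff 0) + a * Polynomial.eval₂ φ a Q.divX)) := by
        ring
    _ = 0 := by rw [hP, mul_zero]

lemma isClopen_basicOpen_aux {A : Type*} [CommRing A] (f : A) (n : ℕ) (w : A)
    (hw : f ^ n * w = 0) (hu : ∀ p : PrimeSpectrum A, f ∈ p.asIdeal → w ∉ p.asIdeal) :
    IsClopen (PrimeSpectrum.basicOpen f : Set (PrimeSpectrum A)) := by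
  refine ⟨?_, (PrimeSpectrum.basicOpen f).isOpen⟩
  have : ((PrimeSpectrum.basicOpen f : Set (PrimeSpectrum A)))ᶜ =
      (PrimeSpectrum.basicOpen w : Set (PrimeSpectrum A)) := by
    ext p
    simp only [Set.mem_compl_iff, SetLike.mem_coe, PrimeSpectrum.mem_basicOpen, not_not]
    constructor
    · exact hu p
    · intro hwp
      by_contra hf
      have h0 : f ^ n * w ∈ p.asIdeal := by rw [hw]; exact zero_mem _
      rcases p.2.mem_or_mem h0 with h | h
      · exact hf (p.2.mem_of_pow_mem n h)
      · exact hwp h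
  rw [← isOpen_compl_iff, this]
  exact (PrimeSpectrum.basicOpen w).isOpen

lemma isClopen_basicOpen_of_isIntegral {k A : Type*} [Field k] [CommRing A] (φ : k →+* A)
    (hφ : φ.IsIntegral) (f : A) :
    IsClopen (PrimeSpectrum.basicOpen f : Set (PrimeSpectrum A)) := by
  obtain ⟨n, q, c, -, hc, h⟩ := alg_aux φ f (hφ f)
  refine isClopen_basicOpen_aux f n _ h ?_
  intro p hf hw
  have h1 : φ c ∈ p.asIdeal := by
    have h2 : φ c = (φ c + f * q) - f * q := by ring
    rw [h2]
    exact p.asIdeal.sub_mem hw (p.asIdeal.mul_mem_right _ hf)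
  have hunit : IsUnit (φ c) := (isUnit_iff_ne_zero.mpr hc).map φ
  exact p.2.ne_top (Ideal.eq_top_of_isUnit_mem _ h1 hunit)

open AlgebraicGeometry TopologicalSpace Opposite in
lemma exists_section_of_isClopen (X : Scheme.{u}) (C : Set X) (hC : IsClopen C) :
    ∃ e : Γ(X, ⊤), ∀ x : X, x ∈ X.basicOpen e ↔ x ∈ C := by
  let U₁ : X.Opens := ⟨C, hC.isOpen⟩
  let U₂ : X.Opens := ⟨Cᶜ, hC.compl.isOpen⟩
  let U : Bool → X.Opens := fun b => Bool.rec U₂ U₁ b
  let sf : ∀ b : Bool, ToType (X.sheaf.1.obj (op (U b))) := fun b =>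
    Bool.rec (motive := fun b => ToType (X.sheaf.1.obj (op (U b)))) (0 : Γ(X, U₂)) (1 : Γ(X, U₁)) b
  have hbot : U₁ ⊓ U₂ = ⊥ := by
    ext x
    simp [U₁, U₂]
  have hcompat : TopCat.Presheaf.IsCompatible X.sheaf.1 U sf := by
    intro b b'
    cases b <;> cases b'
    · rfl
    · have : Subsingleton (ToType (X.sheaf.1.obj (op (U false ⊓ U true)))) := by
        have h : U false ⊓ U true = ⊥ := by rw [inf_comm]; exact hbot
        rw [h]
        exact (inferInstance : Subsingleton Γ(X, ⊥))
      exact Subsingleton.elim _ _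
    · have : Subsingleton (ToType (X.sheaf.1.obj (op (U true ⊓ U false)))) := by
        have h : U true ⊓ U false = ⊥ := hbot
        rw [h]
        exact (inferInstance : Subsingleton Γ(X, ⊥))
      exact Subsingleton.elim _ _
    · rfl
  have hcov : (⊤ : X.Opens) ≤ iSup U := by
    intro x _
    by_cases h : x ∈ C
    · exact (le_iSup U true) (show x ∈ U₁ from h)
    · exact (le_iSup U false) (show x ∈ U₂ from h)
  obtain ⟨e, he, -⟩ := X.sheaf.existsUnique_gluing' U ⊤ (fun b => homOfLE le_top) hcov sf hcompat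
  refine ⟨e, fun x => ?_⟩
  have h1 := X.basicOpen_res e (homOfLE (le_top : U₁ ≤ ⊤)).op
  have h2 := X.basicOpen_res e (homOfLE (le_top : U₂ ≤ ⊤)).op
  have he1 : X.presheaf.map (homOfLE (le_top : U₁ ≤ ⊤)).op e = (1 : Γ(X, U₁)) := he true
  have he2 : X.presheaf.map (homOfLE (le_top : U₂ ≤ ⊤)).op e = (0 : Γ(X, U₂)) := he false
  rw [he1, Scheme.basicOpen_one] at h1
  rw [he2, Scheme.basicOpen_zero] at h2
  constructor
  · intro hx
    by_contra hxC
    have : x ∈ U₂ ⊓ X.basicOpen e := ⟨hxC, hx⟩
    rw [← h2] at this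
    exact this
  · intro hx
    have : x ∈ U₁ := hx
    rw [h1] at this
    exact this.2

end aux

/-- Let k be a field, G a proper k-group scheme of finite type and N ⊆ G the kernel of the affinization
morphism G → Spec O(G), i.e. the fibre over the image of the unit section (the largest anti-affine
subgroup scheme of G). Then the image of N in G is the connected component of the identity: as N is
smooth, N is the reduced neutral component G⁰_red, which is therefore a smooth connected algebraic
group. -/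
theorem result (k : Type u) [Field k]
    (G : Over (Spec (CommRingCat.of k))) [GrpObj G] [IsProper G.hom] (t : ↥((𝟙_ (Over (Spec (CommRingCat.of k)))).left)) :
    Set.range ⇑(pullback.fst G.left.toSpecΓ (η[G].left ≫ G.left.toSpecΓ)).base = connectedComponent ((η[G]).left.base t) := by
  have hCpt : CompactSpace G.left := (quasiCompact_iff_compactSpace G.hom).mp inferInstance
  have hLN : IsLocallyNoetherian G.left := LocallyOfFiniteType.isLocallyNoetherian G.hom
  have hN : IsNoetherian G.left := { toIsLocallyNoetherian := hLN, toCompactSpace := hCpt }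
  have hNS : TopologicalSpace.NoetherianSpace G.left := inferInstance
  have hC : IsClopen (connectedComponent ((η[G]).left.base t)) :=
    ⟨isClosed_connectedComponent, Groth.Agent.H24.isOpen_connectedComponent_of_noetherianSpace _⟩
  -- integrality of global sections over k
  let F : CommRingCat.of k ⟶ Γ(G.left, ⊤) := (Scheme.ΓSpecIso _).inv ≫ G.hom.appTop
  have hF : F.hom.IsIntegral := by
    apply RingHom.isIntegral_respectsIso.2 (e := (Scheme.ΓSpecIso _).symm.commRingCatIsoToRingEquiv)
    exact isIntegral_appTop_of_universallyClosed G.hom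
  have hclopen : ∀ f : Γ(G.left, ⊤),
      IsClopen (PrimeSpectrum.basicOpen f : Set (PrimeSpectrum Γ(G.left, ⊤))) :=
    fun f => isClopen_basicOpen_of_isIntegral (F.hom : k →+* Γ(G.left, ⊤)) hF f
  rw [Scheme.Pullback.range_fst]
  have hr : Set.range ⇑(η[G].left ≫ G.left.toSpecΓ).base =
      {G.left.toSpecΓ.base ((η[G]).left.base t)} := by
    ext p
    constructor
    · rintro ⟨s, rfl⟩
      have : s = t := Subsingleton.elim (α := ↥(Spec (CommRingCat.of k))) s t
      subst this
      rfl
    · rintro rfl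
      exact ⟨t, rfl⟩
  rw [hr]
  ext x
  simp only [Set.mem_preimage, Set.mem_singleton_iff]
  constructor
  · intro hx
    by_contra hxC
    obtain ⟨e, he⟩ := exists_section_of_isClopen G.left _ hC
    have h1 : (η[G]).left.base t ∈ G.left.basicOpen e := (he _).mpr mem_connectedComponent
    have h2 : x ∉ G.left.basicOpen e := fun h => hxC ((he x).mp h)
    rw [← Scheme.toSpecΓ_preimage_basicOpen] at h1 h2
    apply h2
    show G.left.toSpecΓ.base x ∈ PrimeSpectrum.basicOpen e
    rw [hx]
    exact h1
  · intro hx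
    have hpre : _root_.IsPreconnected
        (G.left.toSpecΓ.base '' connectedComponent ((η[G]).left.base t)) :=
      isPreconnected_connectedComponent.image _ G.left.toSpecΓ.continuous.continuousOn
    have key : ∀ p q : PrimeSpectrum Γ(G.left, ⊤),
        p ∈ (G.left.toSpecΓ.base '' connectedComponent ((η[G]).left.base t)) →
        q ∈ (G.left.toSpecΓ.base '' connectedComponent ((η[G]).left.base t)) →
        p.asIdeal ≤ q.asIdeal := by
      intro p q hp hq f hf
      by_contra hfq
      have := hpre.subset_isClopen (hclopen f) ⟨q, hq, hfq⟩ hp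
      exact this hf
    exact PrimeSpectrum.ext (le_antisymm
      (key _ _ ⟨x, hx, rfl⟩ ⟨_, mem_connectedComponent, rfl⟩)
      (key _ _ ⟨_, mem_connectedComponent, rfl⟩ ⟨x, hx, rfl⟩))

end Groth.Agent.S14580
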