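import Groth.Statements.S14587
import Groth.Prelude.Def_ChGrp
import Groth.Agent.H63.GrpExt2
import Groth.Agent.H63.GrpFlatPt

set_option autoImplicit false
universe u
open CategoryTheory MonoidalCategory CartesianMonoidalCategory MonObj GrpObj AlgebraicGeometry CategoryTheory.Limits
open AlgGrp

namespace Groth.Agent.S14587

/-- Let k be a perfect field and G a finite k-group scheme, r : G_red → G its reduced subgroup scheme (a
homomorphism and closed immersion from a reduced k-group scheme, surjective on underlying spaces)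
and i₀ : G⁰ → G its neutral component (a homomorphism and open immersion from a connected k-group
scheme). Then the multiplication morphism G_red × G⁰ → G is an isomorphism, exhibiting G as the
semi-direct product of G⁰ by G_red. -/
theorem result (k : Type u) [Field k] [PerfectField k]
    (G Gr G₀ : Over (Spec (CommRingCat.of k))) [GrpObj G] [GrpObj Gr] [GrpObj G₀] [IsFinite G.hom]
    (r : Gr ⟶ G) [IsMonHom r] [IsClosedImmersion r.left] [IsReduced Gr.left] [Surjective r.left]
    (i₀ : G₀ ⟶ G) [IsMonHom i₀] [IsOpenImmersion i₀.left] [ConnectedSpace ↥G₀.left] :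
    IsIso ((r ⊗ₘ i₀) ≫ μ[G]) := by
  haveI : Subsingleton ↥(Spec (CommRingCat.of k)) :=
    inferInstanceAs (Subsingleton (PrimeSpectrum k))
  let pt : ↥(𝟙_ (Over (Spec (CommRingCat.of k)))).left := IsLocalRing.closedPoint k
  -- topology of `G`
  haveI : IsLocallyArtinian (Spec (CommRingCat.of k)) := by
    rw [Scheme.isLocallyArtinianScheme_Spec]
    infer_instance
  haveI : IsLocallyArtinian G.left := IsLocallyArtinian.of_locallyQuasiFinite G.hom
  haveI : DiscreteTopology G.left := inferInstance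
  haveI : Finite G.left := by
    have h1 := G.hom.finite_preimage_singleton (IsLocalRing.closedPoint k)
    refine Set.finite_univ_iff.mp (h1.subset fun z _ => ?_)
    exact Set.mem_singleton_iff.mpr (Subsingleton.elim _ _)
  haveI : Finite Gr.left := Finite.of_injective r.left.base r.left.isClosedEmbedding.injective
  haveI : Finite G₀.left := Finite.of_injective i₀.left.base i₀.left.isOpenEmbedding.injective
  haveI : DiscreteTopology G₀.left := i₀.left.isOpenEmbedding.toIsEmbedding.discreteTopology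
  haveI : Subsingleton G₀.left := by
    have h1 : (Set.univ : Set G₀.left).Subsingleton := isPreconnected_univ.subsingleton
    exact ⟨fun x y => h1 (Set.mem_univ x) (Set.mem_univ y)⟩
  haveI : IsAffine G.left := isAffine_of_isAffineHom G.hom
  haveI : QuasiCompact Gr.hom := inferInstance
  haveI : QuasiCompact G₀.hom := inferInstance
  haveI : QuasiCompact (Gr ⊗ G₀).hom := by rw [Over.tensorObj_hom]; infer_instance
  haveI : CompactSpace (Gr ⊗ G₀).left := QuasiCompact.compactSpace_of_compactSpace (Gr ⊗ G₀).hom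
  -- the intersection of `Gr` and `G₀` is trivial
  have hsep : IsSeparated Gr.hom := by
    rw [← Over.w r]
    infer_instance
  have hcond0 : η[Gr].left ≫ r.left = η[G₀].left ≫ i₀.left := by
    rw [← Over.comp_left, ← Over.comp_left, IsMonHom.one_hom, IsMonHom.one_hom]
  let s₀ : Spec (CommRingCat.of k) ⟶ Limits.pullback r.left i₀.left :=
    Limits.pullback.lift η[Gr].left η[G₀].left hcond0
  haveI : IsReduced ↑(Limits.pullback r.left i₀.left) :=
    isReduced_of_isOpenImmersion (Limits.pullback.fst r.left i₀.left)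
  haveI : Subsingleton ↑(Limits.pullback r.left i₀.left) :=
    (Limits.pullback.snd r.left i₀.left).isClosedEmbedding.injective.subsingleton
  haveI : IsSeparated (Limits.pullback.fst r.left i₀.left ≫ Gr.hom) := inferInstance
  have hs₀ : s₀ ≫ Limits.pullback.fst r.left i₀.left ≫ Gr.hom = 𝟙 _ := by
    rw [Limits.pullback.lift_fst_assoc]
    exact Over.w η[Gr]
  haveI : IsClosedImmersion (s₀ ≫ Limits.pullback.fst r.left i₀.left ≫ Gr.hom) := by
    rw [hs₀]; infer_instance
  haveI : IsClosedImmersion s₀ :=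
    IsClosedImmersion.of_comp s₀ (Limits.pullback.fst r.left i₀.left ≫ Gr.hom)
  haveI : Surjective s₀ := ⟨fun z => ⟨IsLocalRing.closedPoint k, Subsingleton.elim _ _⟩⟩
  haveI : IsIso s₀ := isIso_of_isClosedImmersion_of_surjective s₀
  have htriv : ∀ (T : Over (Spec (CommRingCat.of k))) (g₁ : T ⟶ Gr) (g₂ : T ⟶ G₀),
      g₁ ≫ r = g₂ ≫ i₀ → g₁ = 1 ∧ g₂ = 1 := by
    intro T g₁ g₂ hg
    have hgl : g₁.left ≫ r.left = g₂.left ≫ i₀.left := by
      rw [← Over.comp_left, ← Over.comp_left, hg]
    let z₀ : T.left ⟶ Limits.pullback r.left i₀.left := Limits.pullback.lift g₁.left g₂.left hgl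
    have hz : z₀ = (z₀ ≫ inv s₀) ≫ s₀ := by
      rw [Category.assoc, IsIso.inv_hom_id, Category.comp_id]
    have hT : z₀ ≫ inv s₀ = T.hom := by
      have h1 : z₀ ≫ Limits.pullback.fst r.left i₀.left ≫ Gr.hom = T.hom := by
        rw [Limits.pullback.lift_fst_assoc]
        exact Over.w g₁
      rw [hz, Category.assoc, hs₀, Category.comp_id] at h1
      exact h1
    constructor
    · apply Over.OverMorphism.ext
      have h1 : g₁.left = z₀ ≫ Limits.pullback.fst r.left i₀.left :=
        (Limits.pullback.lift_fst _ _ _).symm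
      rw [h1, hz, hT, Category.assoc, Limits.pullback.lift_fst, Hom.one_def, Over.comp_left]
      rfl
    · apply Over.OverMorphism.ext
      have h1 : g₂.left = z₀ ≫ Limits.pullback.snd r.left i₀.left :=
        (Limits.pullback.lift_snd _ _ _).symm
      rw [h1, hz, hT, Category.assoc, Limits.pullback.lift_snd, Hom.one_def, Over.comp_left]
      rfl
  -- flatness
  let b : AlgGrp.Action Gr G := (Groth.Agent.H63.GrpExt.mulAction G).restrict r
  have hmb : (r ⊗ₘ i₀) ≫ μ[G] = (Gr ◁ i₀) ≫ b.act := by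
    rw [tensorHom_def', Category.assoc]
    rfl
  haveI : Flat Gr.hom := inferInstance
  haveI : Flat b.act.left := Groth.Agent.H63.GrpFlatPt.flat_act b
  haveI : Flat (Gr ◁ i₀).left := Groth.Agent.H63.GrpFlatPt.flat_whiskerLeft i₀ inferInstance
  haveI : Flat ((r ⊗ₘ i₀) ≫ μ[G]).left := by
    rw [hmb, Over.comp_left]
    infer_instance
  -- surjectivity
  haveI : Surjective ((r ⊗ₘ i₀) ≫ μ[G]).left := by
    constructor
    intro g
    obtain ⟨ρ, rfl⟩ := r.left.surjective g
    have e1 : lift (𝟙 Gr) (toUnit Gr ≫ η[G₀]) ≫ (r ⊗ₘ i₀) ≫ μ[G] = r := by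
      rw [← Category.assoc, lift_map, Category.id_comp, Category.assoc, IsMonHom.one_hom,
        ← Hom.mul_def, ← Hom.one_def, _root_.mul_one]
    refine ⟨(lift (𝟙 Gr) (toUnit Gr ≫ η[G₀])).left.base ρ, ?_⟩
    have := congrArg (fun t => t.left.base ρ) e1
    simpa only [Over.comp_left, Scheme.Hom.comp_base, TopCat.comp_app] using this
  -- monomorphism
  haveI : Mono ((r ⊗ₘ i₀) ≫ μ[G]) := by
    constructor
    intro T u v huv
    have hu : u = lift (u ≫ fst Gr G₀) (u ≫ snd Gr G₀) := by
      apply CartesianMonoidalCategory.hom_ext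
      · rw [lift_fst]
      · rw [lift_snd]
    have hv : v = lift (v ≫ fst Gr G₀) (v ≫ snd Gr G₀) := by
      apply CartesianMonoidalCategory.hom_ext
      · rw [lift_fst]
      · rw [lift_snd]
    have key : ∀ w : T ⟶ Gr ⊗ G₀, w ≫ (r ⊗ₘ i₀) ≫ μ[G] =
        ((w ≫ fst Gr G₀) ≫ r) * ((w ≫ snd Gr G₀) ≫ i₀) := by
      intro w
      have hw : w = lift (w ≫ fst Gr G₀) (w ≫ snd Gr G₀) := by
        apply CartesianMonoidalCategory.hom_ext
        · rw [lift_fst]
        · rw [lift_snd]
      conv_lhs => rw [hw]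
      rw [← Category.assoc, lift_map, ← Hom.mul_def]
    rw [key u, key v] at huv
    have h1 : ((v ≫ fst Gr G₀)⁻¹ * (u ≫ fst Gr G₀)) ≫ r =
        ((v ≫ snd Gr G₀) * (u ≫ snd Gr G₀)⁻¹) ≫ i₀ := by
      rw [MonObj.mul_comp, MonObj.mul_comp, GrpObj.inv_comp, GrpObj.inv_comp,
        eq_mul_inv_iff_mul_eq, _root_.mul_assoc, huv, _root_.inv_mul_cancel_left]
    obtain ⟨h2, h3⟩ := htriv T _ _ h1
    have h4 : v ≫ fst Gr G₀ = u ≫ fst Gr G₀ := inv_mul_eq_one.mp h2
    have h5 : v ≫ snd Gr G₀ = u ≫ snd Gr G₀ := mul_inv_eq_one.mp h3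
    rw [hu, hv, h4, h5]
  haveI : Mono ((r ⊗ₘ i₀) ≫ μ[G]).left := inferInstance
  haveI : QuasiCompact ((r ⊗ₘ i₀) ≫ μ[G]).left := inferInstance
  haveI : IsIso ((r ⊗ₘ i₀) ≫ μ[G]).left :=
    Flat.isIso_of_surjective_of_mono ((r ⊗ₘ i₀) ≫ μ[G]).left
  haveI : IsIso ((Over.forget _).map ((r ⊗ₘ i₀) ≫ μ[G])) := ‹IsIso ((r ⊗ₘ i₀) ≫ μ[G]).left›
  exact isIso_of_reflects_iso _ (Over.forget _)

end Groth.Agent.S14587
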