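import Groth.Statements.S14596
import Groth.Agent.H63.QuotFinite

set_option autoImplicit false
universe u
open CategoryTheory MonoidalCategory CartesianMonoidalCategory MonObj GrpObj AlgebraicGeometry CategoryTheory.Limits
open AlgGrp

namespace Groth.Agent.S14596

/-- Let k be a perfect field, G a k-group scheme of finite type and r₀ : G⁰_red → G the reduced neutral
component of G, i.e. a homomorphism and closed immersion from a reduced k-group scheme whose image
is the connected component of the identity. Then the homogeneous space G/G⁰_red is finite, and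
G⁰_red is the smallest closed subgroup scheme H of G such that G/H is finite: every such H contains
G⁰_red. -/
theorem result (k : Type u) [Field k] [PerfectField k]
    (G G₀ : Over (Spec (CommRingCat.of k))) [GrpObj G] [GrpObj G₀] [LocallyOfFiniteType G.hom] [QuasiCompact G.hom]
    [LocallyOfFiniteType G₀.hom] [QuasiCompact G₀.hom]
    (r₀ : G₀ ⟶ G) [IsMonHom r₀] [IsClosedImmersion r₀.left] [IsReduced G₀.left] (t : ↥((𝟙_ (Over (Spec (CommRingCat.of k)))).left))
    (hr₀ : Set.range ⇑r₀.left.base = connectedComponent ((η[G]).left.base t)) :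
    (∀ (X : Over (Spec (CommRingCat.of k))) (a : AlgGrp.Action G X) (o : 𝟙_ (Over (Spec (CommRingCat.of k))) ⟶ X), AGF.IsQuotient r₀ X a o → IsFinite X.hom) ∧
    ∀ (H : Over (Spec (CommRingCat.of k))) [GrpObj H] (h : H ⟶ G) [IsMonHom h] [IsClosedImmersion h.left]
      (X : Over (Spec (CommRingCat.of k))) (a : AlgGrp.Action G X) (o : 𝟙_ (Over (Spec (CommRingCat.of k))) ⟶ X),
      AGF.IsQuotient h X a o → IsFinite X.hom → ∃ g : G₀ ⟶ H, g ≫ h = r₀ := by
  haveI : IsLocallyNoetherian G.left := LocallyOfFiniteType.isLocallyNoetherian G.hom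
  haveI : CompactSpace G.left := QuasiCompact.compactSpace_of_compactSpace G.hom
  haveI : IsNoetherian G.left := {}
  haveI : TopologicalSpace.NoetherianSpace G.left := inferInstance
  haveI : Mono r₀.left := inferInstance
  haveI : Mono r₀ := (Over.forget _).mono_of_mono_map (inferInstanceAs (Mono r₀.left))
  constructor
  · intro X a o hX
    obtain ⟨hlft, hflat, hsurj, hpb⟩ := hX
    haveI := hlft
    haveI := hflat
    haveI := hsurj
    have hopen : IsOpen (Set.range r₀.left.base) := by
      rw [hr₀]
      exact Groth.Agent.H12.isOpen_connectedComponent_of_noetherianSpace _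
    haveI := Groth.Agent.H40.FpqcDesc.locallyOfFinitePresentation_left (a.orbitMap o)
    have hΔ := Groth.Agent.H63.QuotFinite.isOpen_range_diagonal r₀ hopen (a.orbitMap o) hpb
    haveI := Groth.Agent.H63.QuotFinite.discreteTopology_of_isOpen_range_diagonal hΔ
    haveI : CompactSpace X.left := by
      constructor
      rw [← (a.orbitMap o).left.surjective.range_eq]
      exact isCompact_range (a.orbitMap o).left.continuous
    exact Groth.Agent.H63.QuotFinite.isFinite_of_discreteTopology X
  · intro H _ h _ _ X a o hX hfin
    obtain ⟨hlft, hflat, hsurj, hpb⟩ := hX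
    haveI := hfin
    haveI : IsLocallyArtinian (Spec (CommRingCat.of k)) := by
      rw [Scheme.isLocallyArtinianScheme_Spec]
      infer_instance
    haveI : LocallyQuasiFinite X.hom := inferInstance
    haveI : IsLocallyArtinian X.left := IsLocallyArtinian.of_locallyQuasiFinite X.hom
    haveI : DiscreteTopology X.left := inferInstance
    have hηπ : η[G] ≫ a.orbitMap o = o := by
      rw [Groth.Agent.H63.ActionTranslate.point_comp_orbitMap]
      have h1 := Groth.Agent.H63.ActionTranslate.act_one a o
      rwa [toUnit_unit, Category.id_comp] at h1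
    have hclopen : IsClopen ((a.orbitMap o).left.base ⁻¹' {o.left.base t}) :=
      (isClopen_discrete {o.left.base t}).preimage (a.orbitMap o).left.continuous
    have he : (η[G]).left.base t ∈ (a.orbitMap o).left.base ⁻¹' {o.left.base t} := by
      have h1 := congrArg (fun s => s.left.base t) hηπ
      simp only [Over.comp_left, Scheme.Hom.comp_base, TopCat.comp_app] at h1
      exact h1
    have hsub := hclopen.connectedComponent_subset he
    have hrange : Set.range (r₀ ≫ a.orbitMap o).left.base ⊆ Set.range o.left.base := by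
      rintro _ ⟨g₀, rfl⟩
      have h1 : r₀.left.base g₀ ∈ connectedComponent ((η[G]).left.base t) := by
        rw [← hr₀]; exact ⟨g₀, rfl⟩
      have h2 := hsub h1
      refine ⟨t, ?_⟩
      rw [Over.comp_left, Scheme.Hom.comp_base, TopCat.comp_app]
      exact h2.symm
    haveI : IsSeparated X.hom := inferInstance
    haveI : IsClosedImmersion (o.left ≫ X.hom) := by
      rw [Over.w o]
      change IsClosedImmersion (𝟙 _)
      infer_instance
    haveI : IsClosedImmersion o.left := IsClosedImmersion.of_comp o.left X.hom
    haveI : IsReduced (𝟙_ (Over (Spec (CommRingCat.of k)))).left :=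
      inferInstanceAs (IsReduced (Spec (CommRingCat.of k)))
    obtain ⟨φ, hφ⟩ := Groth.Agent.H63.OrbitSmooth.exists_lift_closedImmersion o.left
      (r₀ ≫ a.orbitMap o).left hrange
    have hφ2 : φ ≫ (𝟙_ (Over (Spec (CommRingCat.of k)))).hom = G₀.hom := by
      rw [← Over.w o, ← Category.assoc, hφ, Over.comp_left, Category.assoc, Over.w, Over.w]
    have e : r₀ ≫ a.orbitMap o = Over.homMk φ hφ2 ≫ o := Over.OverMorphism.ext hφ.symm
    rw [toUnit_unique (Over.homMk φ hφ2) (toUnit G₀)] at e
    have h1 : (1 : G₀ ⟶ G) ≫ a.orbitMap o = r₀ ≫ a.orbitMap o := by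
      rw [Groth.Agent.H63.QuotTower.one_comp_orbitMap, e]
    obtain ⟨g, hg⟩ := Groth.Agent.H63.QuotTower.exists_mul_of_eq h (a.orbitMap o) hpb
      (1 : G₀ ⟶ G) r₀ h1
    exact ⟨g, by rw [hg, _root_.one_mul]⟩

end Groth.Agent.S14596
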