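import Groth.Statements.S14606
import Mathlib.RingTheory.FiniteStability
import Mathlib.RingTheory.Noetherian.Nilpotent
import Mathlib.FieldTheory.IsAlgClosed.AlgebraicClosure
import Mathlib.Algebra.CharP.Lemmas
import Mathlib.Algebra.CharP.Algebra
-- import your own Groth.Agent.* helpers here

set_option autoImplicit false
universe u
open FrobAlg

namespace Groth.Agent.S14606

open TensorProduct in
/-- Key lemma: in the base change to an algebraically closed field, every element coming from
`K ⊗ k[R^(p^n)]` is a `p^n`-th power. -/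
theorem image_is_pow (k : Type u) [Field k] (p : ℕ) [Fact p.Prime] [CharP k p]
    (R : Type u) [CommRing R] [Algebra k R] (K : Type u) [Field K] [Algebra k K] [IsAlgClosed K]
    [Nontrivial (K ⊗[k] R)] (n : ℕ)
    (y : K ⊗[k] ↥(Algebra.adjoin k (Set.range (fun x : R => x ^ (p ^ n))))) :
    ∃ w : K ⊗[k] R,
      Algebra.TensorProduct.map (AlgHom.id K K)
        (Algebra.adjoin k (Set.range (fun x : R => x ^ (p ^ n)))).val y = w ^ (p ^ n) := by
  classical
  have hpn : 0 < p ^ n := pos_of_ne_zero (pow_ne_zero _ (Fact.out : p.Prime).ne_zero)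
  have : CharP K p := charP_of_injective_algebraMap (algebraMap k K).injective p
  have : CharP (K ⊗[k] R) p :=
    charP_of_injective_algebraMap (algebraMap K (K ⊗[k] R)).injective p
  -- the set of p^n-th powers is closed under + and *
  have hadd : ∀ a b : K ⊗[k] R, (∃ w, a = w ^ (p ^ n)) → (∃ w, b = w ^ (p ^ n)) →
      ∃ w, a + b = w ^ (p ^ n) := by
    rintro a b ⟨w₁, rfl⟩ ⟨w₂, rfl⟩
    exact ⟨w₁ + w₂, (add_pow_char_pow w₁ w₂ p n).symm⟩
  have hmul : ∀ a b : K ⊗[k] R, (∃ w, a = w ^ (p ^ n)) → (∃ w, b = w ^ (p ^ n)) →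
      ∃ w, a * b = w ^ (p ^ n) := by
    rintro a b ⟨w₁, rfl⟩ ⟨w₂, rfl⟩
    exact ⟨w₁ * w₂, (mul_pow w₁ w₂ _).symm⟩
  have hK : ∀ c : K, ∃ w : K ⊗[k] R, c ⊗ₜ[k] (1 : R) = w ^ (p ^ n) := by
    intro c
    obtain ⟨d, hd⟩ := IsAlgClosed.exists_pow_nat_eq c hpn
    refine ⟨d ⊗ₜ 1, ?_⟩
    rw [Algebra.TensorProduct.tmul_pow, one_pow, hd]
  have hA : ∀ a : R, a ∈ Algebra.adjoin k (Set.range (fun x : R => x ^ (p ^ n))) →
      ∃ w : K ⊗[k] R, (1 : K) ⊗ₜ[k] a = w ^ (p ^ n) := by
    intro a ha
    induction ha using Algebra.adjoin_induction with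
    | mem x hx =>
      obtain ⟨r, rfl⟩ := hx
      refine ⟨1 ⊗ₜ r, ?_⟩
      simp only [Algebra.TensorProduct.tmul_pow, one_pow]
    | algebraMap c =>
      obtain ⟨w, hw⟩ := hK (algebraMap k K c)
      refine ⟨w, ?_⟩
      rw [← hw, Algebra.algebraMap_eq_smul_one, Algebra.algebraMap_eq_smul_one,
        TensorProduct.tmul_smul, TensorProduct.smul_tmul']
    | add x y _ _ hx hy =>
      rw [TensorProduct.tmul_add]
      exact hadd _ _ hx hy
    | mul x y _ _ hx hy =>
      have : (1 : K) ⊗ₜ[k] (x * y) = ((1 : K) ⊗ₜ[k] x) * ((1 : K) ⊗ₜ[k] y) := by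
        rw [Algebra.TensorProduct.tmul_mul_tmul, one_mul]
      rw [this]
      exact hmul _ _ hx hy
  induction y using TensorProduct.induction_on with
  | zero => exact ⟨0, by rw [map_zero, zero_pow hpn.ne']⟩
  | tmul c a =>
    have h1 : Algebra.TensorProduct.map (AlgHom.id K K)
        (Algebra.adjoin k (Set.range (fun x : R => x ^ (p ^ n)))).val (c ⊗ₜ[k] a)
        = (c ⊗ₜ[k] (1 : R)) * ((1 : K) ⊗ₜ[k] (a : R)) := by
      rw [Algebra.TensorProduct.map_tmul, Algebra.TensorProduct.tmul_mul_tmul, mul_one, one_mul]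
      rfl
    rw [h1]
    exact hmul _ _ (hK c) (hA a a.2)
  | add y₁ y₂ h₁ h₂ =>
    rw [map_add]
    exact hadd _ _ h₁ h₂

open TensorProduct in
/-- Let k be a field of characteristic p > 0 and R a finitely generated commutative k-algebra. The
scheme-theoretic image of the n-th relative Frobenius morphism of Spec R is the spectrum of the
k-subalgebra k[R^(p^n)] generated by all p^n-th powers; for n large enough this image is
geometrically reduced: there is an n such that k[R^(p^n)] is a geometrically reduced k-algebra.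
(Stated in affine, ring-theoretic form.) -/
theorem result (k : Type u) [Field k] (p : ℕ) [Fact p.Prime] [CharP k p]
    (R : Type u) [CommRing R] [Algebra k R] [Algebra.FiniteType k R] :
    ∃ n : ℕ, Algebra.IsGeometricallyReduced k ↥(Algebra.adjoin k (Set.range (fun x : R => x ^ (p ^ n)))) := by
  classical
  -- the base change to the algebraic closure is Noetherian, so its nilradical is nilpotent
  have : IsNoetherianRing (AlgebraicClosure k ⊗[k] R) :=
    Algebra.FiniteType.isNoetherianRing (AlgebraicClosure k) (AlgebraicClosure k ⊗[k] R)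
  obtain ⟨m, hm⟩ := IsNoetherianRing.isNilpotent_nilradical (AlgebraicClosure k ⊗[k] R)
  refine ⟨m, ?_⟩
  rw [Algebra.isGeometricallyReduced_field_iff]
  have hinj : Function.Injective (Algebra.TensorProduct.map (AlgHom.id (AlgebraicClosure k) (AlgebraicClosure k))
      (Algebra.adjoin k (Set.range (fun x : R => x ^ (p ^ m)))).val) :=
    Module.Flat.lTensor_preserves_injective_linearMap
      (M := AlgebraicClosure k)
      (Algebra.adjoin k (Set.range (fun x : R => x ^ (p ^ m)))).val.toLinearMap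
      Subtype.val_injective
  rcases subsingleton_or_nontrivial (AlgebraicClosure k ⊗[k] R) with hsub | hnt
  · refine ⟨fun y _ => hinj (Subsingleton.elim _ _)⟩
  · refine ⟨fun y hy => ?_⟩
    apply hinj
    rw [map_zero]
    obtain ⟨w, hw⟩ := image_is_pow k p R (AlgebraicClosure k) m y
    have hnil : IsNilpotent (w ^ (p ^ m)) := by
      rw [← hw]; exact hy.map _
    have hwnil : IsNilpotent w := hnil.of_pow
    have hwmem : w ∈ nilradical (AlgebraicClosure k ⊗[k] R) := (mem_nilradical).2 hwnil
    have hle : m ≤ p ^ m := (Nat.lt_pow_self (Fact.out : p.Prime).one_lt).le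
    have h0 : w ^ (p ^ m) ∈ (nilradical (AlgebraicClosure k ⊗[k] R)) ^ m :=
      Ideal.pow_le_pow_right hle (Ideal.pow_mem_pow hwmem _)
    rw [hm] at h0
    rw [hw]
    simpa using h0

end Groth.Agent.S14606
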