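import Groth.Statements.S14608
import Groth.Agent.H76.FiberRank
import Mathlib.Tactic.TFAE
import Mathlib.RingTheory.Flat.EquationalCriterion
import Mathlib.RingTheory.Flat.Localization
-- import your own Groth.Agent.* helpers here

set_option autoImplicit false
universe u v
open CAlg

namespace Groth.Agent.S14608

open TensorProduct in
/-- Let A be a Noetherian ring, M a finitely generated A-module, F a finitely generated free A-module, δ
: M → F an A-linear map and p a prime of A with residue field κ(p). The following are equivalent:
(a) the natural map (ker δ) ⊗ κ(p) → ker(δ ⊗ κ(p)) is surjective (its image is the whole kernel);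
(b) that map is bijective; (c) (F / im δ) localized at p is a free module over the local ring A_p.
Moreover, if these hold then (im δ) localized at p is free over A_p. (The published statement takes
M to be the cokernel of a map of finitely generated free modules; over a Noetherian ring this is
every finitely generated M, which is what this row takes.) -/
theorem result (A : Type u) [CommRing A] [IsNoetherianRing A]
    (M : Type v) (F : Type v) [AddCommGroup M] [Module A M] [Module.Finite A M]
    [AddCommGroup F] [Module A F] [Module.Finite A F] [Module.Free A F]
    (δ : M →ₗ[A] F) (p : Ideal A) [p.IsPrime] :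
    [ Function.Exact (LinearMap.lTensor p.ResidueField (LinearMap.ker δ).subtype)
        (LinearMap.lTensor p.ResidueField δ),
      Function.Exact (LinearMap.lTensor p.ResidueField (LinearMap.ker δ).subtype)
        (LinearMap.lTensor p.ResidueField δ) ∧
        Function.Injective (LinearMap.lTensor p.ResidueField (LinearMap.ker δ).subtype),
      Module.Free (Localization.AtPrime p)
        (LocalizedModule p.primeCompl (F ⧸ LinearMap.range δ)) ].TFAE ∧
    (Function.Exact (LinearMap.lTensor p.ResidueField (LinearMap.ker δ).subtype)
        (LinearMap.lTensor p.ResidueField δ) →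
      Module.Free (Localization.AtPrime p)
        (LocalizedModule p.primeCompl (LinearMap.range δ))) := by
  classical
  have hEiff : Function.Exact (LinearMap.lTensor p.ResidueField (LinearMap.ker δ).subtype)
      (LinearMap.lTensor p.ResidueField δ) ↔
      (⟨p, inferInstance⟩ : PrimeSpectrum A) ∈ Module.freeLocus A (F ⧸ LinearMap.range δ) := by
    rw [Groth.Agent.H76.mem_freeLocus_coker_iff A M F δ ⟨p, inferInstance⟩]
    constructor
    · intro hE y hy
      have h1 : LinearMap.lTensor p.ResidueField δ y = 0 := hy
      obtain ⟨z, hz⟩ := (hE y).1 h1
      exact ⟨z, hz⟩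
    · intro hle y
      constructor
      · intro hy
        obtain ⟨z, hz⟩ := hle (show y ∈ LinearMap.ker (δ.baseChange p.ResidueField) from hy)
        exact ⟨z, hz⟩
      · rintro ⟨z, rfl⟩
        rw [← LinearMap.lTensor_comp_apply, LinearMap.comp_ker_subtype, LinearMap.lTensor_zero,
          LinearMap.zero_apply]
  have hFr : (⟨p, inferInstance⟩ : PrimeSpectrum A) ∈
        Module.freeLocus A (F ⧸ LinearMap.range δ) →
      (Function.Injective (LinearMap.lTensor p.ResidueField (LinearMap.ker δ).subtype) ∧
        Module.Free (Localization.AtPrime p)
          (LocalizedModule p.primeCompl (LinearMap.range δ))) := by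
    intro hP
    haveI hflat : Module.Flat A (Localization.AtPrime p) := IsLocalization.flat _ p.primeCompl
    haveI hCfree : Module.Free (Localization.AtPrime p)
        (Localization.AtPrime p ⊗[A] (F ⧸ LinearMap.range δ)) :=
      (Module.mem_freeLocus_iff_tensor ⟨p, inferInstance⟩ (Localization.AtPrime p)).1 hP
    have hi₁ : Function.Injective
        ((LinearMap.range δ).subtype.baseChange (Localization.AtPrime p)) := by
      rw [LinearMap.baseChange_eq_ltensor]
      exact Module.Flat.lTensor_preserves_injective_linearMap _ Subtype.val_injective
    have hg₁ : Function.Surjective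
        ((LinearMap.range δ).mkQ.baseChange (Localization.AtPrime p)) := by
      rw [LinearMap.baseChange_eq_ltensor]
      exact LinearMap.lTensor_surjective _ (Submodule.mkQ_surjective _)
    have hex₁ : Function.Exact
        ((LinearMap.range δ).subtype.baseChange (Localization.AtPrime p))
        ((LinearMap.range δ).mkQ.baseChange (Localization.AtPrime p)) := by
      rw [LinearMap.baseChange_eq_ltensor, LinearMap.baseChange_eq_ltensor]
      exact lTensor_exact _ (LinearMap.exact_subtype_mkQ (LinearMap.range δ))
        (Submodule.mkQ_surjective _)
    obtain ⟨l₁, hl₁⟩ := Groth.Agent.H76.exists_retraction_of_projective _ _ hi₁ hg₁ hex₁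
    haveI : Module.Projective (Localization.AtPrime p)
        (Localization.AtPrime p ⊗[A] (LinearMap.range δ)) := Module.Projective.of_split _ _ hl₁
    haveI : Module.Finite A (LinearMap.range δ) := Module.Finite.range δ
    haveI : Module.Free (Localization.AtPrime p)
        (Localization.AtPrime p ⊗[A] (LinearMap.range δ)) := Module.free_of_flat_of_isLocalRing
    have hRfree : (⟨p, inferInstance⟩ : PrimeSpectrum A) ∈
        Module.freeLocus A (LinearMap.range δ) :=
      (Module.mem_freeLocus_iff_tensor ⟨p, inferInstance⟩ (Localization.AtPrime p)).2
        inferInstance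
    have hi₂ : Function.Injective
        ((LinearMap.ker δ).subtype.baseChange (Localization.AtPrime p)) := by
      rw [LinearMap.baseChange_eq_ltensor]
      exact Module.Flat.lTensor_preserves_injective_linearMap _ Subtype.val_injective
    have hg₂ : Function.Surjective
        (δ.rangeRestrict.baseChange (Localization.AtPrime p)) := by
      rw [LinearMap.baseChange_eq_ltensor]
      exact LinearMap.lTensor_surjective _ δ.surjective_rangeRestrict
    have hex₂ : Function.Exact
        ((LinearMap.ker δ).subtype.baseChange (Localization.AtPrime p))
        (δ.rangeRestrict.baseChange (Localization.AtPrime p)) := by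
      rw [LinearMap.baseChange_eq_ltensor, LinearMap.baseChange_eq_ltensor]
      exact lTensor_exact _ (Groth.Agent.H76.exact_ker_subtype_rangeRestrict δ)
        δ.surjective_rangeRestrict
    obtain ⟨l₂, hl₂⟩ := Groth.Agent.H76.exists_retraction_of_projective _ _ hi₂ hg₂ hex₂
    refine ⟨?_, hRfree⟩
    have h1 : Function.Injective
        (((LinearMap.ker δ).subtype.baseChange (Localization.AtPrime p)).baseChange
          p.ResidueField) := by
      have hcomp : l₂.baseChange p.ResidueField ∘ₗ
          ((LinearMap.ker δ).subtype.baseChange (Localization.AtPrime p)).baseChange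
            p.ResidueField = LinearMap.id := by
        rw [← LinearMap.baseChange_comp, hl₂, LinearMap.baseChange_id]
      exact Function.LeftInverse.injective (g := l₂.baseChange p.ResidueField)
        (fun x => LinearMap.congr_fun hcomp x)
    have h2 := (Groth.Agent.H76.injective_baseChange_baseChange_iff
      (Localization.AtPrime p) p.ResidueField (LinearMap.ker δ).subtype).1 h1
    intro x y hxy
    exact h2 hxy
  refine ⟨?_, fun hE => (hFr (hEiff.1 hE)).2⟩
  tfae_have 1 → 3 := fun hE => hEiff.1 hE
  tfae_have 3 → 2 := fun h => ⟨hEiff.2 h, (hFr h).1⟩
  tfae_have 2 → 1 := fun h => h.1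
  tfae_finish

end Groth.Agent.S14608
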