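import Groth.Statements.S14609
import Groth.Agent.H76.FiberRank
import Mathlib.Tactic.TFAE
import Mathlib.RingTheory.Flat.EquationalCriterion
import Mathlib.RingTheory.Flat.Localization
-- import your own Groth.Agent.* helpers here

set_option autoImplicit false
universe u v
open CAlg

namespace Groth.Agent.S14609

open TensorProduct in
/-- Let A be a Noetherian ring, M a finitely generated A-module, F a finitely generated free A-module
and δ : M → F an A-linear map. Then the function on Spec A sending a prime p with residue field κ(p)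
to the κ(p)-dimension of the kernel of δ ⊗ κ(p) : M ⊗ κ(p) → F ⊗ κ(p) is upper semicontinuous. -/
theorem result (A : Type u) [CommRing A]
    [IsNoetherianRing A] (M : Type v) (F : Type v) [AddCommGroup M] [Module A M] [Module.Finite A M]
    [AddCommGroup F] [Module A F] [Module.Finite A F] [Module.Free A F] (δ : M →ₗ[A] F) :
    UpperSemicontinuous (fun x : PrimeSpectrum A =>
      Module.finrank x.asIdeal.ResidueField
        (LinearMap.ker (δ.baseChange x.asIdeal.ResidueField))) := by
  apply Groth.Agent.H76.upperSemicontinuous_of_local_le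
  intro p
  obtain ⟨U₁, hU₁, hp₁, h₁⟩ := Groth.Agent.H76.exists_isOpen_fdim_le (M := M) p
  obtain ⟨U₂, hU₂, hp₂, h₂⟩ :=
    Groth.Agent.H76.exists_isOpen_fdim_le (M := F ⧸ LinearMap.range δ) p
  refine ⟨U₁ ∩ U₂, hU₁.inter hU₂, ⟨hp₁, hp₂⟩, ?_⟩
  intro q hq
  have e1p := Groth.Agent.H76.finrank_range_add_fdim_coker δ p
  have e2p := Groth.Agent.H76.finrank_range_add_finrank_ker_baseChange δ p
  have e1q := Groth.Agent.H76.finrank_range_add_fdim_coker δ q
  have e2q := Groth.Agent.H76.finrank_range_add_finrank_ker_baseChange δ q
  have hFp := Groth.Agent.H76.fdim_eq_finrank_of_free (F := F) p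
  have hFq := Groth.Agent.H76.fdim_eq_finrank_of_free (F := F) q
  have h3 := h₁ q hq.1
  have h4 := h₂ q hq.2
  beta_reduce
  omega

end Groth.Agent.S14609
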