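import Groth.Statements.S1461
import Groth.Agent.S1464
import Groth.Agent.H38.GeomRedCons

set_option autoImplicit false
universe u
open FlatMor

namespace Groth.Agent.S1461

set_option linter.style.haveILetI false

section helpers
open AlgebraicGeometry CategoryTheory Limits Topology Groth.Agent.H24

theorem result' {X S : Scheme.{u}} (f : X ⟶ S) [IsAffine X] [IsAffine S]
    [LocallyOfFinitePresentation f] [GeometricallyReduced f] :
    ∃ (X₀ S₀ : Scheme.{u}) (f₀ : X₀ ⟶ S₀) (g : S ⟶ S₀) (g' : X ⟶ X₀), IsAffine X₀ ∧ IsAffine S₀ ∧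
      IsPullback g' f f₀ g ∧ Algebra.FiniteType ℤ Γ(S₀, ⊤) ∧ LocallyOfFiniteType f₀ ∧
      GeometricallyReduced f₀ := by
  let D := nsD S
  let c := nsCone S
  have hc : IsLimit c := nsIsLimit S
  let f' : X ⟶ c.pt := f
  have a1 : LocallyOfFinitePresentation f' := ‹LocallyOfFinitePresentation f›
  have a2 : QuasiCompact f' := (inferInstance : QuasiCompact f)
  have a3 : QuasiSeparated f' := (inferInstance : QuasiSeparated f)
  have a4 : GeometricallyReduced f' := ‹GeometricallyReduced f›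
  obtain ⟨i₁, X₁, f₁, g₁, h1, h2, h3, sq₁⟩ := desc_of_finitePresentation hc f'
  haveI := h1
  haveI := h2
  haveI := h3
  -- a stage at which the total space is affine
  have hcpt : ∀ j : Over i₁, CompactSpace ((pbDiagram D (𝟙 i₁) f₁).obj j) := fun j => by
    show CompactSpace ↥(pullback f₁ (D.map (j.hom ≫ 𝟙 i₁)))
    have : QuasiCompact (pullback.snd f₁ (D.map (j.hom ≫ 𝟙 i₁))) := inferInstance
    exact QuasiCompact.compactSpace_of_compactSpace (pullback.snd f₁ (D.map (j.hom ≫ 𝟙 i₁)))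
  have hqs : ∀ j : Over i₁, QuasiSeparatedSpace ((pbDiagram D (𝟙 i₁) f₁).obj j) := fun j => by
    show QuasiSeparatedSpace ↥(pullback f₁ (D.map (j.hom ≫ 𝟙 i₁)))
    have : QuasiSeparated (pullback.snd f₁ (D.map (j.hom ≫ 𝟙 i₁))) := inferInstance
    exact quasiSeparatedSpace_of_quasiSeparated (pullback.snd f₁ (D.map (j.hom ≫ 𝟙 i₁)))
  have haffX : IsAffine (pbCone D (𝟙 i₁) f₁ c g₁ f' sq₁.w).pt := ‹IsAffine X›
  obtain ⟨j, hj⟩ := Scheme.exists_isAffine_of_isLimit (pbDiagram D (𝟙 i₁) f₁)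
    (pbCone D (𝟙 i₁) f₁ c g₁ f' sq₁.w) (isLimitPbCone D (𝟙 i₁) f₁ c hc g₁ f' sq₁)
  -- stage `i₂ = j.left`
  let i₂ : NsIdx S := j.left
  let X₂ : Scheme.{u} := pullback f₁ (D.map (j.hom ≫ 𝟙 i₁))
  let f₂ : X₂ ⟶ D.obj i₂ := pullback.snd f₁ (D.map (j.hom ≫ 𝟙 i₁))
  let g₂ : X ⟶ X₂ := pbLift D (𝟙 i₁) f₁ c g₁ f' sq₁.w j
  have sq₂ : IsPullback g₂ f' f₂ (c.π.app i₂) := isPullback_pbLift D (𝟙 i₁) f₁ c g₁ f' sq₁ j
  have hX₂ : IsAffine X₂ := hj
  have b1 : LocallyOfFinitePresentation f₂ := by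
    show LocallyOfFinitePresentation (pullback.snd f₁ (D.map (j.hom ≫ 𝟙 i₁))); infer_instance
  have b2 : QuasiCompact f₂ := by
    show QuasiCompact (pullback.snd f₁ (D.map (j.hom ≫ 𝟙 i₁))); infer_instance
  -- the bad locus at stage `i₂`
  let E₂ : Set (D.obj i₂) := {t | GeometricallyReduced (f₂.fiberToSpecResidueField t)}ᶜ
  have hE₂ : IsConstructible E₂ :=
    (Groth.Agent.H24.isLocallyConstructible_compl
      (Groth.Agent.H38.GeomRedCons.main f₂)).isConstructible
  have hpre : c.π.app i₂ ⁻¹' E₂ = ∅ := by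
    ext s
    simp only [Set.mem_preimage, Set.mem_empty_iff_false, iff_false]
    intro hs
    apply hs
    show GeometricallyReduced (f₂.fiberToSpecResidueField (c.π.app i₂ s))
    rw [← Groth.Agent.H38.GeomRedDescent.fiber_geometricallyReduced_iff sq₂ s]
    infer_instance
  obtain ⟨k, b, hb⟩ := exists_preimage_eq_empty_of_isConstructible D c hc E₂ hE₂ hpre
  obtain ⟨g', hg'1, hg'2, sq'⟩ := restage_data f₂ g₂ sq₂ b
  have hfst : IsAffineHom (pullback.fst f₂ (D.map b)) := inferInstance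
  refine ⟨pullback f₂ (D.map b), D.obj k, pullback.snd f₂ (D.map b), c.π.app k, g',
    isAffine_of_isAffineHom (pullback.fst f₂ (D.map b)), inferInstance, sq',
    Groth.Agent.S1464.finiteType_int_Γ S k, inferInstance, ?_⟩
  rw [geometricallyReduced_iff, geometrically_iff_forall_fiberToSpecResidueField]
  intro s₀
  rw [← geometricallyReduced_iff]
  rw [Groth.Agent.H38.GeomRedDescent.fiber_geometricallyReduced_iff
    (IsPullback.of_hasPullback f₂ (D.map b)) s₀]
  by_contra hne
  have : s₀ ∈ D.map b ⁻¹' E₂ := hne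
  rw [hb] at this
  exact this

end helpers


open AlgebraicGeometry CategoryTheory Limits in
/-- Let f : X → S be a morphism of finite presentation between affine schemes whose fibres are
geometrically reduced. Then f is the base change of a morphism of finite type f₀ : X₀ → S₀ between
affine schemes with S₀ of finite type over ℤ, where f₀ can be chosen with the same property. -/
theorem result {X S : Scheme.{u}} (f : X ⟶ S) [IsAffine X] [IsAffine S] [LocallyOfFinitePresentation f] [GeometricallyReduced f] :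
    ∃ (X₀ S₀ : Scheme.{u}) (f₀ : X₀ ⟶ S₀) (g : S ⟶ S₀) (g' : X ⟶ X₀), IsAffine X₀ ∧ IsAffine S₀ ∧ IsPullback g' f f₀ g ∧
      Algebra.FiniteType ℤ Γ(S₀, ⊤) ∧ LocallyOfFiniteType f₀ ∧ GeometricallyReduced f₀ := by
  exact result' f

end Groth.Agent.S1461
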