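import Groth.Statements.S14610
import Groth.Agent.H76.FiberRank
import Mathlib.Tactic.TFAE
import Mathlib.RingTheory.Flat.EquationalCriterion
import Mathlib.RingTheory.Flat.Localization
-- import your own Groth.Agent.* helpers here

set_option autoImplicit false
universe u v
open CAlg

namespace Groth.Agent.S14610

open TensorProduct in
/-- Let A be a reduced Noetherian ring, M a finitely generated A-module, F a finitely generated free
A-module and δ : M → F an A-linear map such that the function p ↦ dim_{κ(p)} ker(δ ⊗ κ(p)) is
locally constant on Spec A. Then M, ker δ and coker δ = F / im δ are projective A-modules, and for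
every A-module N the natural map (ker δ) ⊗ N → M ⊗ N is injective with image equal to the kernel of
δ ⊗ N. -/
theorem result (A : Type u) [CommRing A]
    [IsNoetherianRing A] [IsReduced A] (M : Type v) (F : Type v) [AddCommGroup M] [Module A M]
    [Module.Finite A M] [AddCommGroup F] [Module A F] [Module.Finite A F] [Module.Free A F]
    (δ : M →ₗ[A] F)
    (h : IsLocallyConstant (fun x : PrimeSpectrum A =>
      Module.finrank x.asIdeal.ResidueField
        (LinearMap.ker (δ.baseChange x.asIdeal.ResidueField)))) :
    Module.Projective A M ∧ Module.Projective A (LinearMap.ker δ) ∧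
      Module.Projective A (F ⧸ LinearMap.range δ) ∧
      ∀ (N : Type v) [AddCommGroup N] [Module A N],
        Function.Injective (LinearMap.rTensor N (LinearMap.ker δ).subtype) ∧
        Function.Exact (LinearMap.rTensor N (LinearMap.ker δ).subtype) (LinearMap.rTensor N δ) := by
  haveI : Module.FinitePresentation A M := Module.finitePresentation_of_finite A M
  haveI : Module.FinitePresentation A (F ⧸ LinearMap.range δ) :=
    Module.finitePresentation_of_finite A _
  have hboth : ∀ p : PrimeSpectrum A, ∃ U : Set (PrimeSpectrum A), IsOpen U ∧ p ∈ U ∧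
      ∀ q ∈ U, Groth.Agent.H76.fdim A M q = Groth.Agent.H76.fdim A M p ∧
        Groth.Agent.H76.fdim A (F ⧸ LinearMap.range δ) q =
          Groth.Agent.H76.fdim A (F ⧸ LinearMap.range δ) p := by
    intro p
    obtain ⟨U₁, hU₁, hp₁, h₁⟩ := Groth.Agent.H76.exists_isOpen_fdim_le (M := M) p
    obtain ⟨U₂, hU₂, hp₂, h₂⟩ :=
      Groth.Agent.H76.exists_isOpen_fdim_le (M := F ⧸ LinearMap.range δ) p
    refine ⟨(U₁ ∩ U₂) ∩ {x | Module.finrank x.asIdeal.ResidueField
        (LinearMap.ker (δ.baseChange x.asIdeal.ResidueField)) =
        Module.finrank p.asIdeal.ResidueField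
        (LinearMap.ker (δ.baseChange p.asIdeal.ResidueField))},
      (hU₁.inter hU₂).inter (h.isOpen_fiber _), ⟨⟨hp₁, hp₂⟩, rfl⟩, ?_⟩
    intro q hq
    have e1p := Groth.Agent.H76.finrank_range_add_fdim_coker δ p
    have e2p := Groth.Agent.H76.finrank_range_add_finrank_ker_baseChange δ p
    have e1q := Groth.Agent.H76.finrank_range_add_fdim_coker δ q
    have e2q := Groth.Agent.H76.finrank_range_add_finrank_ker_baseChange δ q
    have hFp := Groth.Agent.H76.fdim_eq_finrank_of_free (F := F) p
    have hFq := Groth.Agent.H76.fdim_eq_finrank_of_free (F := F) q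
    have h3 := h₁ q hq.1.1
    have h4 := h₂ q hq.1.2
    have h5 : Module.finrank q.asIdeal.ResidueField
        (LinearMap.ker (δ.baseChange q.asIdeal.ResidueField)) =
        Module.finrank p.asIdeal.ResidueField
        (LinearMap.ker (δ.baseChange p.asIdeal.ResidueField)) := hq.2
    constructor <;> omega
  have hlcM : IsLocallyConstant (Groth.Agent.H76.fdim A M) := by
    rw [IsLocallyConstant.iff_exists_open]
    intro p
    obtain ⟨U, hU, hp, hq⟩ := hboth p
    exact ⟨U, hU, hp, fun q hq' => (hq q hq').1⟩
  have hlcC : IsLocallyConstant (Groth.Agent.H76.fdim A (F ⧸ LinearMap.range δ)) := by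
    rw [IsLocallyConstant.iff_exists_open]
    intro p
    obtain ⟨U, hU, hp, hq⟩ := hboth p
    exact ⟨U, hU, hp, fun q hq' => (hq q hq').2⟩
  haveI hM : Module.Projective A M := Groth.Agent.H76.projective_of_isLocallyConstant_fdim hlcM
  haveI hC : Module.Projective A (F ⧸ LinearMap.range δ) :=
    Groth.Agent.H76.projective_of_isLocallyConstant_fdim hlcC
  obtain ⟨hR, r, hr⟩ := Groth.Agent.H76.projective_range_of_projective_coker δ
  haveI := hR
  obtain ⟨hK, ρ, hρ⟩ := Groth.Agent.H76.projective_ker_of_projective_range δ
  refine ⟨hM, hK, hC, ?_⟩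
  intro N _ _
  constructor
  · have hcomp : ρ.rTensor N ∘ₗ (LinearMap.ker δ).subtype.rTensor N = LinearMap.id := by
      rw [← LinearMap.rTensor_comp, hρ, LinearMap.rTensor_id]
    exact Function.LeftInverse.injective (g := ρ.rTensor N)
      (fun x => LinearMap.congr_fun hcomp x)
  · have hex1 : Function.Exact ((LinearMap.ker δ).subtype.rTensor N)
        (δ.rangeRestrict.rTensor N) :=
      rTensor_exact N (Groth.Agent.H76.exact_ker_subtype_rangeRestrict δ)
        δ.surjective_rangeRestrict
    have hinj2 : Function.Injective ((LinearMap.range δ).subtype.rTensor N) := by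
      have hcomp : r.rTensor N ∘ₗ (LinearMap.range δ).subtype.rTensor N = LinearMap.id := by
        rw [← LinearMap.rTensor_comp, hr, LinearMap.rTensor_id]
      exact Function.LeftInverse.injective (g := r.rTensor N)
        (fun x => LinearMap.congr_fun hcomp x)
    have hcomp : ∀ y, δ.rTensor N y =
        (LinearMap.range δ).subtype.rTensor N (δ.rangeRestrict.rTensor N y) := by
      intro y
      have h1 : (LinearMap.range δ).subtype ∘ₗ δ.rangeRestrict = δ := LinearMap.ext fun v => rfl
      have h2 : δ.rTensor N = (LinearMap.range δ).subtype.rTensor N ∘ₗ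
          δ.rangeRestrict.rTensor N := by
        rw [← LinearMap.rTensor_comp, h1]
      rw [h2]
      rfl
    intro y
    rw [hcomp]
    constructor
    · intro hy
      have h6 : δ.rangeRestrict.rTensor N y = 0 := hinj2 (by rw [hy, map_zero])
      exact (hex1 y).1 h6
    · intro hy
      rw [(hex1 y).2 hy, map_zero]

end Groth.Agent.S14610
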