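import Groth.Statements.S14611
import Groth.Agent.H12.FlatCxLocus
import Groth.Agent.H12.FlatCxRes
import Groth.Agent.H12.FlatCxLocal

set_option autoImplicit false
universe u
open FlatCx

namespace Groth.Agent.S14611

set_option linter.style.haveILetI false in
open Groth.Agent.H12.FlatCx in
open CategoryTheory CategoryTheory.Limits TensorProduct in
/-- At a maximal ideal `m` with `H^{d-1}(Q ⊗ A/m) = 0`, the cokernel `Q^d / im` is free at `m`. -/
theorem mem_freeLocus_of_maximal {A : Type u} [CommRing A] [IsNoetherianRing A]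
    (Q : CochainComplex (ModuleCat.{u} A) ℤ)
    (hQ : ∀ i, Module.Finite A (Q.X i) ∧ Module.Projective A (Q.X i)) (d : ℤ)
    (m : Ideal A) [hm : m.IsMaximal]
    (h2 : IsZero ((CohIII.tensorObj Q (ModuleCat.of A (A ⧸ m))).homology (d - 1))) :
    (⟨m, hm.isPrime⟩ : PrimeSpectrum A) ∈ Module.freeLocus A (Wq Q (d - 1) d) := by
  haveI := hm.isPrime
  rw [← flat_Wq_localization_iff Q (d - 1) d (hQ d).1 ⟨m, hm.isPrime⟩]
  have hfin' : ∀ n, Module.Finite (Localization.AtPrime m)
      ((CohIII.bcCx (algebraMap A (Localization.AtPrime m)) Q).X n) := fun n =>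
    haveI := (hQ n).1
    Module.Finite.equiv (extendScalarsEquiv (Localization.AtPrime m) (Q.X n)).symm
  have hflat' : ∀ n, Module.Flat (Localization.AtPrime m)
      ((CohIII.bcCx (algebraMap A (Localization.AtPrime m)) Q).X n) := fun n =>
    haveI := (hQ n).2
    flat_bcCx_X (Localization.AtPrime m) Q n inferInstance
  have hfree : Module.Free (Localization.AtPrime m)
      ((CohIII.bcCx (algebraMap A (Localization.AtPrime m)) Q).X d) :=
    haveI := hfin' d
    haveI := hflat' d
    Module.free_of_flat_of_isLocalRing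
  -- vanishing of `T_{d-1}(κ)` over the local ring
  have e5 : (A ⧸ m) ≃ₗ[A] m.ResidueField :=
    LinearEquiv.ofBijective ((Algebra.linearMap (A ⧸ m) m.ResidueField).restrictScalars A)
      m.bijective_algebraMap_quotient_residueField
  have h5 : Subsingleton ((CohIII.TFun Q (d - 1)).obj (ModuleCat.of A m.ResidueField)) :=
    haveI : Subsingleton ((CohIII.TFun Q (d - 1)).obj (ModuleCat.of A (A ⧸ m))) :=
      ModuleCat.subsingleton_of_isZero h2
    (((CohIII.TFun Q (d - 1)).mapIso e5.toModuleIso).toLinearEquiv).surjective.subsingleton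
  have h4 : Subsingleton ((CohIII.bcCx (algebraMap A m.ResidueField) Q).homology (d - 1)) :=
    haveI : Subsingleton (CohIII.T Q (d - 1) (ModuleCat.of A m.ResidueField)) := h5
    (resHomologyEquiv m.ResidueField Q (d - 1)).symm.surjective.subsingleton
  let e3 := bcCxComp (algebraMap A (Localization.AtPrime m))
      (algebraMap (Localization.AtPrime m) m.ResidueField) Q ≪≫
    bcCxCongr (IsScalarTower.algebraMap_eq A (Localization.AtPrime m) m.ResidueField).symm Q
  have h3 : Subsingleton ((CohIII.bcCx (algebraMap (Localization.AtPrime m) m.ResidueField)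
      (CohIII.bcCx (algebraMap A (Localization.AtPrime m)) Q)).homology (d - 1)) :=
    haveI h4' : Subsingleton ((HomologicalComplex.homologyFunctor (ModuleCat.{u} m.ResidueField)
        (ComplexShape.up ℤ) (d - 1)).obj (CohIII.bcCx (algebraMap A m.ResidueField) Q)) := h4
    ((HomologicalComplex.homologyFunctor _ _ (d - 1)).mapIso
      e3).toLinearEquiv.symm.surjective.subsingleton
  have h2' : Subsingleton (CohIII.T (CohIII.bcCx (algebraMap A (Localization.AtPrime m)) Q) (d - 1)
      (ModuleCat.of (Localization.AtPrime m) m.ResidueField)) :=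
    haveI h3' : Subsingleton ((ModuleCat.restrictScalars
        (algebraMap (Localization.AtPrime m) m.ResidueField)).obj
        ((CohIII.bcCx (algebraMap (Localization.AtPrime m) m.ResidueField)
          (CohIII.bcCx (algebraMap A (Localization.AtPrime m)) Q)).homology (d - 1))) := h3
    (resHomologyEquiv (A := Localization.AtPrime m) m.ResidueField
      (CohIII.bcCx (algebraMap A (Localization.AtPrime m)) Q) (d - 1)).surjective.subsingleton
  have hz : IsZero ((CohIII.TFun (CohIII.bcCx (algebraMap A (Localization.AtPrime m)) Q) (d - 1)).obj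
      (ModuleCat.of (Localization.AtPrime m) (IsLocalRing.ResidueField (Localization.AtPrime m)))) :=
    @ModuleCat.isZero_of_subsingleton _ _ _ h2'
  have hnext : (ComplexShape.up ℤ).next (d - 1) = d :=
    (ComplexShape.up ℤ).next_eq' (by simp)
  have hel := (isZero_T_iff (CohIII.bcCx (algebraMap A (Localization.AtPrime m)) Q)
    (d - 1 - 1) (d - 1) d (CochainComplex.prev ℤ (d - 1)) hnext _).mp hz
  have hs : SurjAt (CohIII.bcCx (algebraMap A (Localization.AtPrime m)) Q) (d - 1 - 1) (d - 1) d := by
    intro y hy
    obtain ⟨y₁, hy₁⟩ := hel y hy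
    exact ⟨0, map_zero _, y₁, by rw [map_zero, zero_add, hy₁]⟩
  haveI := free_Wq_of_surjAt (CohIII.bcCx (algebraMap A (Localization.AtPrime m)) Q)
    (d - 1 - 1) (d - 1) d (hfin' (d - 1)) (hfin' d) hfree hs
  infer_instance


open CategoryTheory CategoryTheory.Limits in
/-- Let A be a Noetherian ring, Q a cochain complex whose terms are finitely generated projective
A-modules, and d an integer such that H^p(Q) = 0 for every p < d and H^p(Q ⊗_A A/m) = 0 for every p
< d and every maximal ideal m of A. Then Q^d / im(Q^{d-1} → Q^d), the degree-d term of the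
truncation τ_{≥ d} Q, is a projective A-module, so that τ_{≥ d} Q is again a complex of projective
modules. (The published statement also asserts that Q → τ_{≥ d} Q is a quasi-isomorphism when H^p(Q)
= 0 for p < d; this row omits that clause.) -/
theorem result (A : Type u) [CommRing A] [IsNoetherianRing A]
    (Q : CochainComplex (ModuleCat.{u} A) ℤ)
    (hQ : ∀ i, Module.Finite A (Q.X i) ∧ Module.Projective A (Q.X i)) (d : ℤ)
    (h1 : ∀ p < d, IsZero (Q.homology p))
    (h2 : ∀ (m : Ideal A) [m.IsMaximal], ∀ p < d,
      IsZero ((CohIII.tensorObj Q (ModuleCat.of A (A ⧸ m))).homology p)) :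
    Module.Projective A (Q.opcycles d) := by
  have hi : (ComplexShape.up ℤ).prev d = d - 1 := CochainComplex.prev ℤ d
  haveI hfinW : Module.Finite A (Groth.Agent.H12.FlatCx.Wq Q (d - 1) d) :=
    haveI := (hQ d).1
    inferInstance
  haveI : Module.FinitePresentation A (Groth.Agent.H12.FlatCx.Wq Q (d - 1) d) :=
    Module.finitePresentation_of_finite A _
  suffices hproj : Module.Projective A (Groth.Agent.H12.FlatCx.Wq Q (d - 1) d) from
    Module.Projective.of_equiv (Groth.Agent.H12.FlatCx.opcyclesEquiv Q (d - 1) d hi).symm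
  rw [← Module.freeLocus_eq_univ_iff]
  apply Set.eq_univ_of_forall
  intro y
  obtain ⟨m, hm, hle⟩ := Ideal.exists_le_maximal y.asIdeal y.2.ne_top
  have hspec : y ⤳ (⟨m, hm.isPrime⟩ : PrimeSpectrum A) :=
    (PrimeSpectrum.le_iff_specializes y ⟨m, hm.isPrime⟩).mp hle
  exact hspec.mem_open Module.isOpen_freeLocus
    (mem_freeLocus_of_maximal Q hQ d m (h2 m (d - 1) (by omega)))

end Groth.Agent.S14611
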