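import Groth.Statements.S14612
import Groth.Agent.H12.FlatCxEW

set_option autoImplicit false
universe u
open FlatCx

namespace Groth.Agent.S14612

theorem cyclesEquiv {A : Type u} [CommRing A] {ι : Type} {c : ComplexShape ι}
    (P : HomologicalComplex (ModuleCat.{u} A) c) (j k : ι) (hk : c.next j = k) :
    Nonempty (P.cycles j ≃ₗ[A] LinearMap.ker (P.d j k).hom) := by
  subst hk
  exact ⟨(P.sc j).moduleCatCyclesIso.toLinearEquiv⟩

theorem exact_of_isZero {A : Type u} [CommRing A] {ι : Type} {c : ComplexShape ι}
    (P : HomologicalComplex (ModuleCat.{u} A) c) (i j k : ι) (hi : c.prev j = i) (hk : c.next j = k)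
    (h : CategoryTheory.Limits.IsZero (P.homology j)) :
    LinearMap.range (P.d i j).hom = LinearMap.ker (P.d j k).hom := by
  rw [← HomologicalComplex.exactAt_iff_isZero_homology,
    HomologicalComplex.exactAt_iff' _ i j k hi hk, CategoryTheory.ShortComplex.moduleCat_exact_iff] at h
  apply le_antisymm
  · rintro _ ⟨x, rfl⟩
    exact Groth.Agent.H12.FlatCx.d_d_apply P i j k x
  · intro x hx
    obtain ⟨y, hy⟩ := h x hx
    exact ⟨y, hy⟩


open CategoryTheory CategoryTheory.Limits in
/-- Let A be a commutative ring and F a cochain complex of flat A-modules which is bounded above (F^i =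
0 for all large i) and whose cohomology H^p(F) vanishes for every p > d. Then the module of
d-cocycles Z^d = ker(F^d → F^{d+1}) is flat over A; hence the truncation τ_{≤ d} F is again a
complex of flat modules (and τ_{≤ d} F → F is a quasi-isomorphism, which is not restated).
Boundedness cannot be dropped. -/
theorem result (A : Type u) [CommRing A]
    (F : CochainComplex (ModuleCat.{u} A) ℤ) (hF : ∀ i, Module.Flat A (F.X i))
    (hb : ∃ b : ℤ, ∀ i, b < i → IsZero (F.X i)) (d : ℤ) (hac : ∀ p, d < p → IsZero (F.homology p)) :
    Module.Flat A (F.cycles d) := by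
  obtain ⟨b, hb⟩ := hb
  have key : ∀ n : ℕ, ∀ p : ℤ, b < p + n → d ≤ p →
      Module.Flat A (LinearMap.ker (F.d p (p + 1)).hom) := by
    intro n
    induction n with
    | zero =>
      intro p hp _
      haveI : Subsingleton (F.X p) := ModuleCat.subsingleton_of_isZero (hb p (by simpa using hp))
      infer_instance
    | succ n ih =>
      intro p hp hdp
      have h1 : Module.Flat A (LinearMap.ker (F.d (p + 1) (p + 1 + 1)).hom) :=
        ih (p + 1) (by push_cast at hp; omega) (by omega)
      have h2 : LinearMap.range (F.d p (p + 1)).hom = LinearMap.ker (F.d (p + 1) (p + 1 + 1)).hom :=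
        exact_of_isZero F p (p + 1) (p + 1 + 1) (by rw [CochainComplex.prev]; ring)
          (CochainComplex.next ℤ (p + 1)) (hac (p + 1) (by omega))
      have h3 : Module.Flat A (LinearMap.range (F.d p (p + 1)).hom) := by
        rw [h2]
        exact h1
      exact Groth.Agent.H12.FlatCx.flat_ker_of_exact_of_flat _ _
        (LinearMap.ker (F.d p (p + 1)).hom).injective_subtype
        (F.d p (p + 1)).hom.surjective_rangeRestrict
        (Groth.Agent.H12.FlatCx.exact_ker_rangeRestrict _) (hF p) h3
  obtain ⟨e⟩ := cyclesEquiv F d (d + 1) (CochainComplex.next ℤ d)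
  haveI := key (b - d + 1).toNat d (by omega) le_rfl
  exact Module.Flat.of_linearEquiv e

end Groth.Agent.S14612
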