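import Groth.Statements.S14613
import Groth.Agent.H12.FlatCxCone

set_option autoImplicit false
universe u
open FlatCx

namespace Groth.Agent.S14613

open CategoryTheory CategoryTheory.Limits in
/-- Let A be a commutative ring (not necessarily Noetherian), C and D cochain complexes of flat
A-modules that are bounded above (zero in all large degrees), φ : C → D a quasi-isomorphism and M an
arbitrary A-module. Then φ ⊗ id_M : C ⊗_A M → D ⊗_A M, the tensor product taken degreewise, is a
quasi-isomorphism. Boundedness cannot be dropped. -/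
theorem result (A : Type u) [CommRing A]
    (C D : CochainComplex (ModuleCat.{u} A) ℤ)
    (hC : ∀ i, Module.Flat A (C.X i)) (hD : ∀ i, Module.Flat A (D.X i))
    (bC : ∃ b : ℤ, ∀ i, b < i → IsZero (C.X i)) (bD : ∃ b : ℤ, ∀ i, b < i → IsZero (D.X i))
    (φ : C ⟶ D) [QuasiIso φ] (M : ModuleCat.{u} A) :
    QuasiIso (((MonoidalCategory.tensorRight M).mapHomologicalComplex (ComplexShape.up ℤ)).map φ) := by
  obtain ⟨b₁, hb₁⟩ := bC
  obtain ⟨b₂, hb₂⟩ := bD
  have hcone : (CochainComplex.mappingCone φ).Acyclic :=
    (Groth.Agent.H12.FlatCx.quasiIso_iff_acyclic_mappingCone φ).mp inferInstance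
  have hflat : ∀ i, Module.Flat A ((CochainComplex.mappingCone φ).X i) :=
    fun i => Groth.Agent.H12.FlatCx.flat_mappingCone_X' φ hC hD i
  have hbd : ∀ i, max b₁ b₂ < i → IsZero ((CochainComplex.mappingCone φ).X i) := by
    intro i hi
    refine HomologicalComplex.homotopyCofiber.isZero_X φ i (hb₂ i (by omega)) (fun j hj => ?_)
    have hj' : i + 1 = j := hj
    exact hb₁ j (by omega)
  rw [Groth.Agent.H12.FlatCx.quasiIso_iff_acyclic_mappingCone]
  intro n
  have hex := Groth.Agent.H12.FlatCx.exactAt_tensor_of_acyclic (CochainComplex.mappingCone φ)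
    hflat (max b₁ b₂) hbd hcone M n
  exact hex.of_iso (CochainComplex.mappingCone.mapHomologicalComplexIso φ (MonoidalCategory.tensorRight M))

end Groth.Agent.S14613
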