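import Groth.Statements.S14614
import Mathlib

set_option autoImplicit false
universe u
open Mor

namespace Groth.Agent.S14614


open CategoryTheory AlgebraicGeometry IsLocalRing in
lemma germ_comp_sCPT_congr {S : Scheme.{u}} {C : CommRingCat.{u}} [IsLocalRing C] (U : S.Opens)
    (g₁ g₂ : Spec C ⟶ S) (h : g₁ = g₂) (hU₁ : g₁ (closedPoint C) ∈ U)
    (hU₂ : g₂ (closedPoint C) ∈ U) :
    S.presheaf.germ U _ hU₁ ≫ Scheme.stalkClosedPointTo g₁ =
      S.presheaf.germ U _ hU₂ ≫ Scheme.stalkClosedPointTo g₂ := by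
  subst h; rfl

open CategoryTheory AlgebraicGeometry IsLocalRing in
lemma germ_eq_zero_of_eq {Z : Scheme.{u}} (V : Z.Opens) (z₁ z₂ : Z) (e : z₁ = z₂) (h1 : z₁ ∈ V)
    (h2 : z₂ ∈ V) (b : Γ(Z, V))
    (hb : (Z.presheaf.germ V z₂ h2).hom b = 0) : (Z.presheaf.germ V z₁ h1).hom b = 0 := by
  subst e; exact hb

open CategoryTheory AlgebraicGeometry IsLocalRing in
lemma key {Z S : Scheme.{u}} (i : Z ⟶ S) {C : CommRingCat.{u}} [IsLocalRing C] (g' : Spec C ⟶ Z)
    (U : S.Opens) (a : Γ(S, U)) (hU' : i (g' (closedPoint C)) ∈ U)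
    (hz : (Z.presheaf.germ (i ⁻¹ᵁ U) (g' (closedPoint C)) hU').hom ((i.app U).hom a) = 0) :
    (S.presheaf.germ U (i (g' (closedPoint C))) hU' ≫
      Scheme.stalkClosedPointTo (g' ≫ i)).hom a = 0 := by
  have h1 : Scheme.stalkClosedPointTo (g' ≫ i) =
      i.stalkMap (g' (closedPoint C)) ≫ Scheme.stalkClosedPointTo g' :=
    Scheme.stalkClosedPointTo_comp g' i
  have h2 : S.presheaf.germ U (i (g' (closedPoint C))) hU' ≫ i.stalkMap (g' (closedPoint C)) =
      i.app U ≫ Z.presheaf.germ (i ⁻¹ᵁ U) (g' (closedPoint C)) hU' :=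
    Scheme.Hom.germ_stalkMap i U _ hU'
  have h5 : S.presheaf.germ U (i (g' (closedPoint C))) hU' ≫ Scheme.stalkClosedPointTo (g' ≫ i) =
      (i.app U ≫ Z.presheaf.germ (i ⁻¹ᵁ U) (g' (closedPoint C)) hU') ≫
        Scheme.stalkClosedPointTo g' := by
    rw [← h2, Category.assoc, ← h1]
  rw [h5]
  show (Scheme.stalkClosedPointTo g').hom
    ((Z.presheaf.germ (i ⁻¹ᵁ U) (g' (closedPoint C)) hU').hom ((i.app U).hom a)) = 0
  rw [hz, map_zero]

open CategoryTheory AlgebraicGeometry IsLocalRing in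
lemma main {S Z : Scheme.{u}} [IsLocallyNoetherian S] (i : Z ⟶ S) [IsClosedImmersion i]
    (h : ∀ (A : Type u) [CommRing A] [IsArtinianRing A] [IsLocalRing A]
      (g : Spec (CommRingCat.of A) ⟶ S),
      (∃ t : Spec (CommRingCat.of (IsLocalRing.ResidueField A)) ⟶ Z,
          t ≫ i = Spec.map (CommRingCat.ofHom (IsLocalRing.residue A)) ≫ g) →
        ∃ g' : Spec (CommRingCat.of A) ⟶ Z, g' ≫ i = g)
    (z : Z) (n : ℕ) (x : S.presheaf.stalk (i z)) (hx : (i.stalkMap z).hom x = 0) :
    x ∈ (maximalIdeal (S.presheaf.stalk (i z))) ^ (n + 1) := by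
  let R : CommRingCat.{u} := S.presheaf.stalk (i z)
  let m : Ideal R := maximalIdeal R
  let J : Ideal R := m ^ (n + 1)
  have hJm : J ≤ m := Ideal.pow_le_self (Nat.succ_ne_zero n)
  have hJtop : J ≠ ⊤ := fun hh =>
    (maximalIdeal.isMaximal R).ne_top (top_le_iff.mp (hh ▸ hJm))
  let A : Type u := R ⧸ J
  have hnt : Nontrivial A := Ideal.Quotient.nontrivial_iff.mpr hJtop
  have hloc : IsLocalRing A :=
    IsLocalRing.of_surjective' (Ideal.Quotient.mk J) Ideal.Quotient.mk_surjective
  have hlh : IsLocalHom (Ideal.Quotient.mk J) :=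
    IsLocalHom.of_surjective _ Ideal.Quotient.mk_surjective
  have hnoeth : IsNoetherianRing A := inferInstance
  have hart : IsArtinianRing A := by
    rw [isArtinianRing_iff_isNilpotent_maximalIdeal]
    have hle : maximalIdeal A ≤ m.map (Ideal.Quotient.mk J) := by
      intro y hy
      obtain ⟨r, rfl⟩ := Ideal.Quotient.mk_surjective y
      apply Ideal.mem_map_of_mem
      rw [IsLocalRing.mem_maximalIdeal, mem_nonunits_iff] at hy ⊢
      exact fun hr => hy (hr.map _)
    have hbot : (maximalIdeal A) ^ (n + 1) = ⊥ := by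
      apply le_bot_iff.mp
      calc (maximalIdeal A) ^ (n + 1) ≤ (m.map (Ideal.Quotient.mk J)) ^ (n + 1) :=
            Ideal.pow_right_mono hle _
        _ = (m ^ (n + 1)).map (Ideal.Quotient.mk J) := (Ideal.map_pow _ _ _).symm
        _ = ⊥ := Ideal.map_quotient_self J
    exact ⟨n + 1, by rw [Ideal.zero_eq_bot]; exact hbot⟩
  let q : R ⟶ CommRingCat.of A := CommRingCat.ofHom (Ideal.Quotient.mk J)
  have hq : IsLocalHom q.hom := hlh
  let g : Spec (CommRingCat.of A) ⟶ S := Spec.map q ≫ S.fromSpecStalk (i z)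
  let σ : R →+* Z.presheaf.stalk z := (i.stalkMap z).hom
  have hsurj : Function.Surjective σ := i.stalkMap_surjective z
  let ρ : R →+* IsLocalRing.ResidueField A := (IsLocalRing.residue A).comp (Ideal.Quotient.mk J)
  have hker : RingHom.ker σ ≤ RingHom.ker ρ := by
    intro y hy
    rw [RingHom.mem_ker] at hy ⊢
    show IsLocalRing.residue A (Ideal.Quotient.mk J y) = 0
    rw [IsLocalRing.residue_eq_zero_iff, IsLocalRing.mem_maximalIdeal, mem_nonunits_iff]
    intro hu
    have hy_unit : IsUnit y := isUnit_of_map_unit (Ideal.Quotient.mk J) y hu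
    have h0 := hy_unit.map σ
    rw [hy] at h0
    exact not_isUnit_zero h0
  let τ : Z.presheaf.stalk z →+* IsLocalRing.ResidueField A :=
    RingHom.liftOfSurjective σ hsurj ⟨ρ, hker⟩
  have hτ : τ.comp σ = ρ := RingHom.liftOfSurjective_comp σ hsurj ⟨ρ, hker⟩
  let t : Spec (CommRingCat.of (IsLocalRing.ResidueField A)) ⟶ Z :=
    Spec.map (CommRingCat.ofHom τ) ≫ Z.fromSpecStalk z
  have hcomp : i.stalkMap z ≫ CommRingCat.ofHom τ =
      q ≫ CommRingCat.ofHom (IsLocalRing.residue A) := by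
    ext y
    exact congr($hτ y)
  have ht : t ≫ i = Spec.map (CommRingCat.ofHom (IsLocalRing.residue A)) ≫ g := by
    show (Spec.map (CommRingCat.ofHom τ) ≫ Z.fromSpecStalk z) ≫ i =
      Spec.map (CommRingCat.ofHom (IsLocalRing.residue A)) ≫ Spec.map q ≫ S.fromSpecStalk (i z)
    rw [Category.assoc, ← Scheme.SpecMap_stalkMap_fromSpecStalk, ← Category.assoc,
      ← Category.assoc, ← Spec.map_comp, ← Spec.map_comp]
    exact congrArg (fun φ => Spec.map φ ≫ S.fromSpecStalk (i z)) hcomp
  obtain ⟨g', hg'⟩ := h A g ⟨t, ht⟩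
  let pt : ↥(Spec (CommRingCat.of A)) := closedPoint A
  have e0 : (g' ≫ i) pt = i z := by
    rw [hg']
    show (Spec.map q ≫ S.fromSpecStalk (i z)) pt = i z
    rw [Scheme.Hom.comp_apply]
    have e1 : (Spec.map q) pt = closedPoint R :=
      IsLocalRing.comap_closedPoint (Ideal.Quotient.mk J)
    rw [e1]
    exact Scheme.fromSpecStalk_closedPoint
  have hc : g' pt = z :=
    i.isClosedEmbedding.injective (by rw [← Scheme.Hom.comp_apply]; exact e0)
  obtain ⟨U, hU, a, rfl⟩ := S.presheaf.exists_germ_eq x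
  have hz0 : (Z.presheaf.germ (i ⁻¹ᵁ U) z hU).hom ((i.app U).hom a) = 0 := by
    have h3 := congr(($(Scheme.Hom.germ_stalkMap i U z hU)).hom a)
    exact h3.symm.trans hx
  have hU' : i (g' pt) ∈ U := by rw [hc]; exact hU
  have hz1 : (Z.presheaf.germ (i ⁻¹ᵁ U) (g' pt) hU').hom ((i.app U).hom a) = 0 :=
    germ_eq_zero_of_eq (i ⁻¹ᵁ U) (g' pt) z hc hU' hU _ hz0
  have k1 := key i g' U a hU' hz1
  have hUg : g pt ∈ U := by rw [← hg']; exact hU'
  have k2 : S.presheaf.germ U _ hU' ≫ Scheme.stalkClosedPointTo (g' ≫ i) =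
      S.presheaf.germ U _ hUg ≫ Scheme.stalkClosedPointTo g :=
    germ_comp_sCPT_congr U (g' ≫ i) g hg' hU' hUg
  have k3 : S.presheaf.germ U _ hUg ≫ Scheme.stalkClosedPointTo g =
      S.presheaf.germ U (i z) hU ≫ q :=
    Scheme.germ_stalkClosedPointTo_Spec_fromSpecStalk q U hUg
  have k4 : (Ideal.Quotient.mk J) ((S.presheaf.germ U (i z) hU).hom a) = 0 := by
    have h4 := congr(($k3).hom a)
    rw [← k2] at h4
    exact h4.symm.trans k1
  exact Ideal.Quotient.eq_zero_iff_mem.mp k4


open CategoryTheory AlgebraicGeometry in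
/-- Let S be a locally Noetherian scheme and i : Z → S a closed immersion with the following property:
for every Artinian local ring A with residue field k and every morphism g : Spec A → S, if the
restriction Spec k → Spec A → S of g factors through i then so does g. Then i is also an open
immersion, i.e. the closed subscheme Z is open in S as a subscheme. (The published hypothesis is an
equivalence; its other direction always holds, so this row assumes only the implication.) -/
theorem result (S : Scheme.{u}) [IsLocallyNoetherian S]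
    {Z : Scheme.{u}} (i : Z ⟶ S) [IsClosedImmersion i]
    (h : ∀ (A : Type u) [CommRing A] [IsArtinianRing A] [IsLocalRing A] (g : Spec (CommRingCat.of A) ⟶ S),
      (∃ t : Spec (CommRingCat.of (IsLocalRing.ResidueField A)) ⟶ Z,
          t ≫ i = Spec.map (CommRingCat.ofHom (IsLocalRing.residue A)) ≫ g) →
        ∃ g' : Spec (CommRingCat.of A) ⟶ Z, g' ≫ i = g) :
    IsOpenImmersion i := by
  have hlfp : LocallyOfFinitePresentation i :=
    LocallyOfFinitePresentation.iff_locallyOfFiniteType.mpr inferInstance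
  have hflat : Flat i := by
    rw [Flat.iff_flat_stalkMap]
    intro z
    apply RingHom.Flat.of_bijective
    refine ⟨?_, i.stalkMap_surjective z⟩
    rw [injective_iff_map_eq_zero]
    intro x hx
    have hmem : ∀ n : ℕ, x ∈ (IsLocalRing.maximalIdeal (S.presheaf.stalk (i z))) ^ (n + 1) :=
      fun n => main i h z n x hx
    have hkrull : (⨅ n : ℕ, (IsLocalRing.maximalIdeal (S.presheaf.stalk (i z))) ^ n) = ⊥ :=
      Ideal.iInf_pow_eq_bot_of_isLocalRing _ (IsLocalRing.maximalIdeal.isMaximal _).ne_top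
    have hx2 : x ∈ (⨅ n : ℕ, (IsLocalRing.maximalIdeal (S.presheaf.stalk (i z))) ^ n) := by
      rw [Ideal.mem_iInf]
      intro n
      cases n with
      | zero => simp
      | succ n => exact hmem n
    rw [hkrull] at hx2
    exact hx2
  exact IsOpenImmersion.of_flat_of_mono i

end Groth.Agent.S14614
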