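import Groth.Statements.S14615

set_option autoImplicit false
universe u
open Formal2

namespace Groth.Agent.S14615

/-- the shift operator `(x_n) ↦ (t_n x_{n+1})`. -/
def shift (G : ℕ → Type u) [∀ n, AddCommGroup (G n)] (t : ∀ n, G (n + 1) →+ G n) :
    (∀ n, G n) → (∀ n, G n) :=
  fun x n => t n (x (n + 1))

theorem towerDiff_apply (G : ℕ → Type u) [∀ n, AddCommGroup (G n)] (t : ∀ n, G (n + 1) →+ G n)
    (x : ∀ n, G n) (n : ℕ) : Formal2.towerDiff G t x n = x n - t n (x (n + 1)) := rfl

theorem shift_iterate_vanish (G : ℕ → Type u) [∀ n, AddCommGroup (G n)]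
    (t : ∀ n, G (n + 1) →+ G n) (i j : ℕ)
    (hj : ∀ x : ∀ n, G n, (∀ n, i ≤ n → n < j → x n = t n (x (n + 1))) → x i = 0)
    (k : ℕ) (hk : j ≤ i + k) (y : ∀ n, G n) : ((shift G t)^[k] y) i = 0 := by
  have := hj (fun n => ((shift G t)^[k + i - n] y) n) ?_
  · simpa using this
  · intro n hin hnj
    have e : k + i - n = (k + i - (n + 1)) + 1 := by omega
    simp only [e, Function.iterate_succ_apply']
    rfl

/-- Let … → G_2 → G_1 → G_0 be an inverse system of abelian groups with transition maps t_n : G_{n+1} →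
G_n, and suppose that for every i there is j ≥ i such that the composite transition map G_j → G_i is
zero; this is expressed by asking that every sequence (x_n) ∈ ∏ G_n satisfying x_n = t_n(x_{n+1})
for i ≤ n < j has x_i = 0. Then both lim G_n and lim¹ G_n vanish: the map (x_n) ↦ (x_n −
t_n(x_{n+1})) on ∏ G_n, whose kernel is lim and whose cokernel is lim¹, is injective and surjective. -/
theorem result (G : ℕ → Type u)
    [∀ n, AddCommGroup (G n)] (t : ∀ n, G (n + 1) →+ G n)
    (h : ∀ i : ℕ, ∃ j : ℕ, i ≤ j ∧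
      ∀ x : ∀ n, G n, (∀ n, i ≤ n → n < j → x n = t n (x (n + 1))) → x i = 0) :
    Formal2.limZero G t = ⊥ ∧ Function.Surjective (Formal2.towerDiff G t) := by
  constructor
  · rw [eq_bot_iff]
    intro x hx
    rw [AddMonoidHom.mem_ker] at hx
    have hx' : ∀ n, x n = t n (x (n + 1)) := fun n => by
      have := congrFun hx n
      simpa [towerDiff_apply, sub_eq_zero] using this
    rw [AddSubgroup.mem_bot]
    ext i
    obtain ⟨j, hij, hj⟩ := h i
    exact hj x (fun n _ _ => hx' n)
  · intro y
    choose j hij hj using h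
    have hvan : ∀ i k, j i ≤ i + k → ((shift G t)^[k] y) i = 0 := fun i k hk =>
      shift_iterate_vanish G t i (j i) (hj i) k hk y
    have hstab : ∀ n K, j n ≤ K → ∑ k ∈ Finset.range K, ((shift G t)^[k] y) n =
        ∑ k ∈ Finset.range (j n), ((shift G t)^[k] y) n := by
      intro n K hK
      symm
      apply Finset.sum_subset (Finset.range_mono hK)
      intro k _ hk
      apply hvan
      simp only [Finset.mem_range, not_lt] at hk
      omega
    refine ⟨fun n => ∑ k ∈ Finset.range (j n), ((shift G t)^[k] y) n, ?_⟩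
    ext n
    rw [towerDiff_apply]
    obtain ⟨K', hK'⟩ : ∃ K', max (j n) (j (n + 1) + 1) = K' + 1 :=
      ⟨max (j n) (j (n + 1) + 1) - 1, by omega⟩
    rw [← hstab n (K' + 1) (by omega), ← hstab (n + 1) K' (by omega)]
    rw [Finset.sum_range_succ', map_sum]
    simp only [Function.iterate_succ_apply', Function.iterate_zero, id_eq]
    have : ∀ k, (shift G t ((shift G t)^[k] y)) n = t n (((shift G t)^[k] y) (n + 1)) :=
      fun k => rfl
    simp only [this]
    abel

end Groth.Agent.S14615
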