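import Groth.Statements.S14616

set_option autoImplicit false
universe u
open Formal2
open CategoryTheory

namespace Groth.Agent.S14616

section
variable (G : ℕ → Type u) [∀ n, AddCommGroup (G n)] (t : ∀ n, G (n + 1) →+ G n)

/-- the tower as a functor -/
noncomputable abbrev towerF : ℕᵒᵖ ⥤ AddCommGrpCat.{u} :=
  Functor.ofOpSequence (X := fun n => AddCommGrpCat.of (G n)) (fun n => AddCommGrpCat.ofHom (t n))

/-- composite transition maps -/
noncomputable def T (i j : ℕ) (h : i ≤ j) : G j →+ G i := ((towerF G t).map (homOfLE h).op).hom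

theorem T_self (i : ℕ) : T G t i i le_rfl = AddMonoidHom.id _ := by
  unfold T
  have : (homOfLE (le_refl i)).op = 𝟙 (Opposite.op i) := rfl
  rw [this, CategoryTheory.Functor.map_id]; rfl

theorem T_succ (i j : ℕ) (h : i + 1 ≤ j) :
    T G t i j (by omega) = (t i).comp (T G t (i+1) j h) := by
  unfold T
  have : (homOfLE (show i ≤ j by omega)).op =
      (homOfLE h).op ≫ (homOfLE (Nat.le_add_right i 1)).op := rfl
  rw [this, CategoryTheory.Functor.map_comp, CategoryTheory.Functor.ofOpSequence_map_homOfLE_succ]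
  rfl

theorem T_trans (i j k : ℕ) (h : i ≤ j) (h' : j ≤ k) :
    T G t i k (h.trans h') = (T G t i j h).comp (T G t j k h') := by
  unfold T
  have : (homOfLE (h.trans h')).op = (homOfLE h').op ≫ (homOfLE h).op := rfl
  rw [this, CategoryTheory.Functor.map_comp]
  rfl

theorem ml_concrete
    (h : (towerF G t ⋙ forget AddCommGrpCat).IsMittagLeffler) (n : ℕ) :
    ∃ j, ∃ hj : n ≤ j, ∀ k (hk : n ≤ k),
      (T G t n j hj).range ≤ (T G t n k hk).range := by
  obtain ⟨i, f, hf⟩ := h (Opposite.op n)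
  refine ⟨i.unop, leOfHom f.unop, fun k hk => ?_⟩
  have := hf (homOfLE hk).op
  intro x hx
  obtain ⟨z, rfl⟩ := hx
  have hfe : f = (homOfLE (leOfHom f.unop)).op := Quiver.Hom.unop_inj (Subsingleton.elim _ _)
  have hz : (T G t n i.unop (leOfHom f.unop)) z ∈
      Set.range ((towerF G t ⋙ forget AddCommGrpCat).map f) := by
    refine ⟨z, ?_⟩
    conv_lhs => rw [hfe]
    rfl
  obtain ⟨w, hw⟩ := this hz
  exact ⟨w, hw⟩

/-- total version of `T` -/
noncomputable def T' (n m : ℕ) : G m →+ G n := if h : n ≤ m then T G t n m h else 0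

theorem T'_of_le (n m : ℕ) (h : n ≤ m) : T' G t n m = T G t n m h := dif_pos h

theorem T'_self (n : ℕ) : T' G t n n = AddMonoidHom.id _ := by
  rw [T'_of_le G t n n le_rfl, T_self]

theorem T'_succ (n m : ℕ) (h : n + 1 ≤ m) : T' G t n m = (t n).comp (T' G t (n+1) m) := by
  rw [T'_of_le G t n m (by omega), T'_of_le G t (n+1) m h, T_succ]

theorem surj_of_ml (h : (towerF G t ⋙ forget AddCommGrpCat).IsMittagLeffler) :
    Function.Surjective (Formal2.towerDiff G t) := by
  choose j hj hjr using ml_concrete G t h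
  -- G' n := (T n (j n)).range
  let G' : ∀ n, AddSubgroup (G n) := fun n => (T G t n (j n) (hj n)).range
  have hG'range : ∀ n m (hm : j n ≤ m), (T G t n m ((hj n).trans hm)).range ≤ G' n := by
    intro n m hm
    rw [T_trans G t n (j n) m (hj n) hm]
    rintro _ ⟨z, rfl⟩
    exact ⟨_, rfl⟩
  -- surjectivity of t on G'
  have hsurj : ∀ n (g : G n), g ∈ G' n → ∃ g' : G (n+1), g' ∈ G' (n+1) ∧ t n g' = g := by
    intro n g hg
    have hk : n ≤ j (n+1) := (Nat.le_succ n).trans (hj (n+1))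
    obtain ⟨z, hz⟩ := hjr n (j (n+1)) hk hg
    refine ⟨T G t (n+1) (j (n+1)) (hj (n+1)) z, ⟨z, rfl⟩, ?_⟩
    rw [← hz, T_succ G t n (j (n+1)) (hj (n+1))]
    rfl
  -- Part (a)
  have partA : ∀ y' : ∀ n, G n, (∀ n, y' n ∈ G' n) → ∃ x', Formal2.towerDiff G t x' = y' := by
    intro y' hy'
    choose! lift hl1 hl2 using hsurj
    let x' : ∀ n, {g : G n // g ∈ G' n} := fun n =>
      Nat.rec (motive := fun n => {g : G n // g ∈ G' n}) ⟨0, zero_mem _⟩
        (fun n prev => ⟨lift n (prev.1 - y' n), hl1 n _ (sub_mem prev.2 (hy' n))⟩) n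
    refine ⟨fun n => (x' n).1, ?_⟩
    ext n
    show (x' n).1 - t n (x' (n+1)).1 = y' n
    have : (x' (n+1)).1 = lift n ((x' n).1 - y' n) := rfl
    rw [this, hl2 n _ (sub_mem (x' n).2 (hy' n))]
    abel
  -- Part (b)
  intro y
  let J : ℕ → ℕ := fun n => (Finset.range (n+1)).sup j + 1
  have hJ : ∀ n, j n < J n := fun n =>
    Nat.lt_succ_of_le (Finset.le_sup (f := j) (Finset.self_mem_range_succ n))
  have hJmono : ∀ n, J n ≤ J (n+1) := fun n =>
    Nat.succ_le_succ (Finset.sup_mono (Finset.range_mono (Nat.le_succ _)))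
  let x : ∀ n, G n := fun n => ∑ m ∈ Finset.Ico n (J n), T' G t n m (y m)
  have key : ∀ n, y n - Formal2.towerDiff G t x n ∈ G' n := by
    intro n
    have h1 : t n (x (n+1)) = ∑ m ∈ Finset.Ico (n+1) (J (n+1)), T' G t n m (y m) := by
      show t n (∑ m ∈ Finset.Ico (n+1) (J (n+1)), T' G t (n+1) m (y m)) = _
      rw [map_sum]
      apply Finset.sum_congr rfl
      intro m hm
      rw [Finset.mem_Ico] at hm
      rw [T'_succ G t n m hm.1]; rfl
    have hnJ : n < J n := lt_of_le_of_lt (hj n) (hJ n)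
    have h2 : x n = y n + ∑ m ∈ Finset.Ico (n+1) (J n), T' G t n m (y m) := by
      show ∑ m ∈ Finset.Ico n (J n), T' G t n m (y m) = _
      rw [Finset.sum_eq_sum_Ico_succ_bot hnJ, T'_self]
      rfl
    have h3 : ∑ m ∈ Finset.Ico (n+1) (J (n+1)), T' G t n m (y m) =
        ∑ m ∈ Finset.Ico (n+1) (J n), T' G t n m (y m) +
          ∑ m ∈ Finset.Ico (J n) (J (n+1)), T' G t n m (y m) :=
      (Finset.sum_Ico_consecutive _ hnJ (hJmono n)).symm
    have h4 : y n - Formal2.towerDiff G t x n =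
        ∑ m ∈ Finset.Ico (J n) (J (n+1)), T' G t n m (y m) := by
      show y n - (x n - t n (x (n+1))) = _
      rw [h1, h2, h3]
      abel
    rw [h4]
    apply sum_mem
    intro m hm
    rw [Finset.mem_Ico] at hm
    have hjm : j n ≤ m := (hJ n).le.trans hm.1
    rw [T'_of_le G t n m ((hj n).trans hjm)]
    exact hG'range n m hjm ⟨_, rfl⟩
  obtain ⟨x', hx'⟩ := partA (fun n => y n - Formal2.towerDiff G t x n) key
  refine ⟨x + x', ?_⟩
  rw [map_add, hx']
  ext n
  simp

end

/-- Let … → G_2 → G_1 → G_0 be an inverse system of abelian groups with transition maps t_n : G_{n+1} →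
G_n which satisfies the Mittag-Leffler condition: for every i there is j ≥ i such that for all k ≥ j
the images of G_k → G_i and G_j → G_i coincide. Then lim¹ G_n = 0, i.e. the map (x_n) ↦ (x_n −
t_n(x_{n+1})) on ∏ G_n is surjective. -/
theorem result (G : ℕ → Type u) [∀ n, AddCommGroup (G n)]
    (t : ∀ n, G (n + 1) →+ G n)
    (h : (Functor.ofOpSequence (X := fun n => AddCommGrpCat.of (G n))
      (fun n => AddCommGrpCat.ofHom (t n)) ⋙ forget AddCommGrpCat).IsMittagLeffler) :
    Function.Surjective (Formal2.towerDiff G t) :=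
  surj_of_ml G t h

end Groth.Agent.S14616
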