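import Groth.Statements.S14617

set_option autoImplicit false
universe u
open Formal2

namespace Groth.Agent.S14617

section
variable {G' G G'' : ℕ → Type u}
    [∀ n, AddCommGroup (G' n)] [∀ n, AddCommGroup (G n)] [∀ n, AddCommGroup (G'' n)]

/-- product map -/
def piMap (u : ∀ n, G' n →+ G n) : (∀ n, G' n) →+ (∀ n, G n) where
  toFun x := fun n => u n (x n)
  map_zero' := by ext n; simp
  map_add' x y := by ext n; simp

theorem piMap_apply (u : ∀ n, G' n →+ G n) (x : ∀ n, G' n) (n : ℕ) : piMap u x n = u n (x n) := rfl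

theorem towerDiff_apply (t : ∀ n, G (n + 1) →+ G n)
    (x : ∀ n, G n) (n : ℕ) : Formal2.towerDiff G t x n = x n - t n (x (n + 1)) := rfl

theorem comm (t' : ∀ n, G' (n + 1) →+ G' n) (t : ∀ n, G (n + 1) →+ G n) (u : ∀ n, G' n →+ G n)
    (hu : ∀ n x, t n (u (n + 1) x) = u n (t' n x)) (x : ∀ n, G' n) :
    Formal2.towerDiff G t (piMap u x) = piMap u (Formal2.towerDiff G' t' x) := by
  ext n
  simp only [towerDiff_apply, piMap_apply, hu, map_sub]

theorem piMap_injective (u : ∀ n, G' n →+ G n) (hinj : ∀ n, Function.Injective (u n)) :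
    Function.Injective (piMap u) := by
  intro x y hxy
  ext n
  exact hinj n (congrFun hxy n)

theorem piMap_surjective (v : ∀ n, G n →+ G'' n) (hsurj : ∀ n, Function.Surjective (v n)) :
    Function.Surjective (piMap v) := by
  intro z
  choose y hy using fun n => hsurj n (z n)
  exact ⟨y, funext hy⟩

theorem piMap_exact (u : ∀ n, G' n →+ G n) (v : ∀ n, G n →+ G'' n)
    (hex : ∀ n, (v n).ker = (u n).range) (y : ∀ n, G n) :
    piMap v y = 0 ↔ ∃ w, piMap u w = y := by
  constructor
  · intro hy
    have : ∀ n, ∃ w : G' n, u n w = y n := by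
      intro n
      have : y n ∈ (v n).ker := congrFun hy n
      rw [hex n] at this
      exact this
    choose w hw using this
    exact ⟨w, funext hw⟩
  · rintro ⟨w, rfl⟩
    ext n
    have : u n (w n) ∈ (v n).ker := by
      rw [hex n]; exact ⟨_, rfl⟩
    exact this

end

/-- Let 0 → (G'_n) → (G_n) → (G''_n) → 0 be a short exact sequence of inverse systems of abelian groups
indexed by ℕ: maps u_n : G'_n → G_n and v_n : G_n → G''_n commuting with the transition maps, with
u_n injective, v_n surjective and ker v_n = im u_n for every n. Writing lim and lim¹ for the kernel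
and cokernel of (x_n) ↦ (x_n − t_n(x_{n+1})) on the product, there is an exact sequence 0 → lim G' →
lim G → lim G'' → lim¹ G' → lim¹ G → lim¹ G'' → 0 in which the four outer maps are the ones induced
by u and v on products and the connecting map δ sends a compatible sequence (z_n) to the class of
the unique (w_n) with u_n(w_n) = y_n − t_n(y_{n+1}), for any levelwise lift (y_n) of (z_n). -/
theorem result (G' G G'' : ℕ → Type u)
    [∀ n, AddCommGroup (G' n)] [∀ n, AddCommGroup (G n)] [∀ n, AddCommGroup (G'' n)]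
    (t' : ∀ n, G' (n + 1) →+ G' n) (t : ∀ n, G (n + 1) →+ G n) (t'' : ∀ n, G'' (n + 1) →+ G'' n)
    (u : ∀ n, G' n →+ G n) (v : ∀ n, G n →+ G'' n)
    (hu : ∀ n x, t n (u (n + 1) x) = u n (t' n x)) (hv : ∀ n x, t'' n (v (n + 1) x) = v n (t n x))
    (hinj : ∀ n, Function.Injective (u n)) (hsurj : ∀ n, Function.Surjective (v n))
    (hex : ∀ n, (v n).ker = (u n).range) :
    ∃ (α : Formal2.limZero G' t' →+ Formal2.limZero G t) (β : Formal2.limZero G t →+ Formal2.limZero G'' t'')
      (δ : Formal2.limZero G'' t'' →+ Formal2.limOne G' t')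
      (ε : Formal2.limOne G' t' →+ Formal2.limOne G t) (ζ : Formal2.limOne G t →+ Formal2.limOne G'' t''),
      (∀ (x : Formal2.limZero G' t') (n : ℕ), (α x : ∀ n, G n) n = u n ((x : ∀ n, G' n) n)) ∧
      (∀ (x : Formal2.limZero G t) (n : ℕ), (β x : ∀ n, G'' n) n = v n ((x : ∀ n, G n) n)) ∧
      (∀ (z : Formal2.limZero G'' t'') (y : ∀ n, G n) (w : ∀ n, G' n),
          (∀ n, v n (y n) = (z : ∀ n, G'' n) n) → (∀ n, u n (w n) = Formal2.towerDiff G t y n) →
            δ z = (QuotientAddGroup.mk w : Formal2.limOne G' t')) ∧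
      (∀ y : ∀ n, G' n, ε (QuotientAddGroup.mk y : Formal2.limOne G' t') =
          (QuotientAddGroup.mk (fun n => u n (y n)) : Formal2.limOne G t)) ∧
      (∀ y : ∀ n, G n, ζ (QuotientAddGroup.mk y : Formal2.limOne G t) =
          (QuotientAddGroup.mk (fun n => v n (y n)) : Formal2.limOne G'' t'')) ∧
      Function.Injective α ∧ α.range = β.ker ∧ β.range = δ.ker ∧ δ.range = ε.ker ∧ ε.range = ζ.ker ∧
      Function.Surjective ζ := by
  classical
  -- notation
  have cU := comm t' t u hu
  have cV := comm t t'' v hv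
  have iU := piMap_injective u hinj
  have sV := piMap_surjective v hsurj
  have eUV := piMap_exact u v hex
  have hVU : ∀ w, piMap v (piMap u w) = 0 := fun w => (eUV _).2 ⟨w, rfl⟩
  -- α and β
  let α : Formal2.limZero G' t' →+ Formal2.limZero G t :=
    ((piMap u).comp (Formal2.limZero G' t').subtype).codRestrict (Formal2.limZero G t) (by
      intro x
      have hx : Formal2.towerDiff G' t' x.1 = 0 := x.2
      show Formal2.towerDiff G t (piMap u x.1) = 0
      rw [cU, hx, map_zero])
  let β : Formal2.limZero G t →+ Formal2.limZero G'' t'' :=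
    ((piMap v).comp (Formal2.limZero G t).subtype).codRestrict (Formal2.limZero G'' t'') (by
      intro x
      have hx : Formal2.towerDiff G t x.1 = 0 := x.2
      show Formal2.towerDiff G'' t'' (piMap v x.1) = 0
      rw [cV, hx, map_zero])
  -- ε and ζ
  let ε : Formal2.limOne G' t' →+ Formal2.limOne G t :=
    QuotientAddGroup.map _ _ (piMap u) (by
      rintro _ ⟨a, rfl⟩
      exact ⟨piMap u a, cU a⟩)
  let ζ : Formal2.limOne G t →+ Formal2.limOne G'' t'' :=
    QuotientAddGroup.map _ _ (piMap v) (by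
      rintro _ ⟨a, rfl⟩
      exact ⟨piMap v a, cV a⟩)
  -- the connecting map
  have hlift : ∀ z : Formal2.limZero G'' t'', ∃ p : (∀ n, G n) × (∀ n, G' n),
      piMap v p.1 = z.1 ∧ piMap u p.2 = Formal2.towerDiff G t p.1 := by
    intro z
    obtain ⟨y, hy⟩ := sV z.1
    have hz : Formal2.towerDiff G'' t'' z.1 = 0 := z.2
    have : piMap v (Formal2.towerDiff G t y) = 0 := by rw [← cV, hy, hz]
    obtain ⟨w, hw⟩ := (eUV _).1 this
    exact ⟨(y, w), hy, hw⟩
  choose P hP1 hP2 using hlift
  have indep : ∀ (z : Formal2.limZero G'' t'') (y : ∀ n, G n) (w : ∀ n, G' n),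
      piMap v y = z.1 → piMap u w = Formal2.towerDiff G t y →
      (QuotientAddGroup.mk (P z).2 : Formal2.limOne G' t') = QuotientAddGroup.mk w := by
    intro z y w hy hw
    rw [QuotientAddGroup.eq]
    have h1 : piMap v (y - (P z).1) = 0 := by rw [map_sub, hy, hP1, sub_self]
    obtain ⟨a, ha⟩ := (eUV _).1 h1
    refine ⟨a, ?_⟩
    apply iU
    rw [← cU, ha, map_sub, map_add, map_neg, hw, hP2]
    abel
  let δ : Formal2.limZero G'' t'' →+ Formal2.limOne G' t' :=
    AddMonoidHom.mk' (fun z => (QuotientAddGroup.mk (P z).2 : Formal2.limOne G' t')) (by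
      intro z₁ z₂
      have := indep (z₁ + z₂) ((P z₁).1 + (P z₂).1) ((P z₁).2 + (P z₂).2)
        (by rw [map_add, hP1, hP1]; rfl) (by rw [map_add, map_add, hP2, hP2])
      rw [this]
      rfl)
  have hδ : ∀ (z : Formal2.limZero G'' t'') (y : ∀ n, G n) (w : ∀ n, G' n),
      piMap v y = z.1 → piMap u w = Formal2.towerDiff G t y →
      δ z = (QuotientAddGroup.mk w : Formal2.limOne G' t') := indep
  refine ⟨α, β, δ, ε, ζ, fun x n => rfl, fun x n => rfl, ?_, fun y => rfl, fun y => rfl,
    ?_, ?_, ?_, ?_, ?_, ?_⟩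
  · intro z y w hy hw
    exact hδ z y w (funext hy) (funext hw)
  · -- α injective
    intro x₁ x₂ h
    apply Subtype.ext
    apply iU
    exact congrArg Subtype.val h
  · -- α.range = β.ker
    ext x
    constructor
    · rintro ⟨a, rfl⟩
      rw [AddMonoidHom.mem_ker]
      apply Subtype.ext
      exact hVU a.1
    · intro hx
      rw [AddMonoidHom.mem_ker] at hx
      have hx' : piMap v x.1 = 0 := congrArg Subtype.val hx
      obtain ⟨w, hw⟩ := (eUV _).1 hx'
      have hx2 : Formal2.towerDiff G t x.1 = 0 := x.2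
      have hw' : Formal2.towerDiff G' t' w = 0 := by
        apply iU
        rw [← cU, hw, hx2, map_zero]
      exact ⟨⟨w, hw'⟩, Subtype.ext hw⟩
  · -- β.range = δ.ker
    ext z
    constructor
    · rintro ⟨x, rfl⟩
      rw [AddMonoidHom.mem_ker]
      have hx2 : Formal2.towerDiff G t x.1 = 0 := x.2
      rw [hδ (β x) x.1 0 rfl (by rw [map_zero, hx2])]
      rfl
    · intro hz
      rw [AddMonoidHom.mem_ker] at hz
      have : (QuotientAddGroup.mk (P z).2 : Formal2.limOne G' t') = 0 := hz
      rw [QuotientAddGroup.eq_zero_iff] at this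
      obtain ⟨a, ha⟩ := this
      have hk : Formal2.towerDiff G t ((P z).1 - piMap u a) = 0 := by
        rw [map_sub, cU, ha, hP2, sub_self]
      refine ⟨⟨(P z).1 - piMap u a, hk⟩, ?_⟩
      apply Subtype.ext
      show piMap v ((P z).1 - piMap u a) = z.1
      rw [map_sub, hVU, sub_zero, hP1]
  · -- δ.range = ε.ker
    ext c
    constructor
    · rintro ⟨z, rfl⟩
      rw [AddMonoidHom.mem_ker]
      show (QuotientAddGroup.mk (piMap u (P z).2) : Formal2.limOne G t) = 0
      rw [QuotientAddGroup.eq_zero_iff, hP2]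
      exact ⟨_, rfl⟩
    · intro hc
      rw [AddMonoidHom.mem_ker] at hc
      obtain ⟨w, rfl⟩ := QuotientAddGroup.mk_surjective c
      have : (QuotientAddGroup.mk (piMap u w) : Formal2.limOne G t) = 0 := hc
      rw [QuotientAddGroup.eq_zero_iff] at this
      obtain ⟨y, hy⟩ := this
      have hz : Formal2.towerDiff G'' t'' (piMap v y) = 0 := by
        rw [cV, hy, hVU]
      exact ⟨⟨piMap v y, hz⟩, hδ ⟨piMap v y, hz⟩ y w rfl hy.symm⟩
  · -- ε.range = ζ.ker
    ext c
    constructor
    · rintro ⟨b, rfl⟩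
      rw [AddMonoidHom.mem_ker]
      obtain ⟨w, rfl⟩ := QuotientAddGroup.mk_surjective b
      show (QuotientAddGroup.mk (piMap v (piMap u w)) : Formal2.limOne G'' t'') = 0
      rw [hVU]
      rfl
    · intro hc
      rw [AddMonoidHom.mem_ker] at hc
      obtain ⟨y, rfl⟩ := QuotientAddGroup.mk_surjective c
      have : (QuotientAddGroup.mk (piMap v y) : Formal2.limOne G'' t'') = 0 := hc
      rw [QuotientAddGroup.eq_zero_iff] at this
      obtain ⟨z, hz⟩ := this
      obtain ⟨y0, hy0⟩ := sV z
      have h1 : piMap v (y - Formal2.towerDiff G t y0) = 0 := by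
        rw [map_sub, ← cV, hy0, hz, sub_self]
      obtain ⟨w, hw⟩ := (eUV _).1 h1
      refine ⟨QuotientAddGroup.mk w, ?_⟩
      show (QuotientAddGroup.mk (piMap u w) : Formal2.limOne G t) = QuotientAddGroup.mk y
      rw [hw, QuotientAddGroup.eq]
      refine ⟨y0, ?_⟩
      abel
  · -- ζ surjective
    intro c
    obtain ⟨z, rfl⟩ := QuotientAddGroup.mk_surjective c
    obtain ⟨y, rfl⟩ := sV z
    exact ⟨QuotientAddGroup.mk y, rfl⟩

end Groth.Agent.S14617
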