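import Groth.Statements.S14622
import Mathlib
import Groth.Agent.H4.StalkPull
import Groth.Agent.H4.EtaleRes

set_option autoImplicit false
open CategoryTheory AlgebraicGeometry
universe u
open EtBase

namespace Groth.Agent.S14622

open Groth.Agent.H4 Groth.Agent.S0100 Groth.Agent.S19885

/-- Let g : Y' → Y be a morphism of schemes which is surjective on points. Then for every abelian sheaf
F on the small étale site of Y the unit F → g_* g⁻¹ F of the adjunction between inverse image and
direct image is a monomorphism. -/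
theorem result {Y Y' : Scheme.{u}} (g : Y' ⟶ Y) [Surjective g]
    (F : EtCoh.Ab Y) : Mono ((EtCoh.pullPushAdj g).unit.app F) := by
  apply Sheaf.mono_of_injective
  intro V s t hst
  apply eq_of_locally_eq F V.unop
  intro v
  obtain ⟨y', hy'⟩ := (inferInstance : Surjective g).surj (V.unop.hom.base v)
  obtain ⟨x', hx1, hx2⟩ := Scheme.Pullback.exists_preimage_pullback
    (f := V.unop.hom) (g := g) v y' hy'.symm
  obtain ⟨Ω, _, _, ξ, σ, hσ⟩ := exists_geometric_point ((EtCoh.bc g).obj V.unop) x'
  let Φ := Scheme.pointSmallEtale (ξ ≫ g)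
  let τ : Φ.fiber.obj V.unop := downPt g ξ V.unop σ
  have hτ : liftPt g ξ V.unop τ = σ := liftPt_downPt g ξ V.unop σ
  have SG := toPresheafFiber_stalkPullIso g ξ AddCommGrpCat.{u + 1} F V.unop τ
  have hinj : Function.Injective ((stalkPullIso g ξ AddCommGrpCat.{u + 1}).hom.app F) :=
    ((ConcreteCategory.isIso_iff_bijective _).1 inferInstance).1
  have e1 : (stalkPullIso g ξ AddCommGrpCat.{u + 1}).hom.app F
        (Φ.toPresheafFiber V.unop τ F.obj s) =
      (stalkPullIso g ξ AddCommGrpCat.{u + 1}).hom.app F
        (Φ.toPresheafFiber V.unop τ F.obj t) := by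
    have hs : (stalkPullIso g ξ AddCommGrpCat.{u + 1}).hom.app F
          (Φ.toPresheafFiber V.unop τ F.obj s) =
        (Scheme.pointSmallEtale ξ).toPresheafFiber ((EtCoh.bc g).obj V.unop)
          (liftPt g ξ V.unop τ) ((EtCoh.pull g).obj F).obj
          (((EtCoh.pullPushAdj g).unit.app F).hom.app V s) := ConcreteCategory.congr_hom SG s
    have ht : (stalkPullIso g ξ AddCommGrpCat.{u + 1}).hom.app F
          (Φ.toPresheafFiber V.unop τ F.obj t) =
        (Scheme.pointSmallEtale ξ).toPresheafFiber ((EtCoh.bc g).obj V.unop)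
          (liftPt g ξ V.unop τ) ((EtCoh.pull g).obj F).obj
          (((EtCoh.pullPushAdj g).unit.app F).hom.app V t) := ConcreteCategory.congr_hom SG t
    rw [hs, ht, hst]
  have e2 := hinj e1
  obtain ⟨W, k, w, hw, hk⟩ := (Φ.toPresheafFiber_eq_iff' V.unop τ s t).1 e2
  refine ⟨W, k, w.left.base (default : Spec (CommRingCat.of Ω)), ?_, hk⟩
  have h1 : w.left ≫ k.left = τ.left := congrArg (fun q => q.left) hw
  have h2 : τ.left = σ.left ≫ Limits.pullback.fst V.unop.hom g := downPt_left g ξ V.unop σ
  have h3 : k.left.base (w.left.base (default : Spec (CommRingCat.of Ω))) =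
      (Limits.pullback.fst V.unop.hom g).base (σ.left.base (default : Spec (CommRingCat.of Ω))) :=
    congrArg (fun q => q.base (default : Spec (CommRingCat.of Ω))) (h1.trans h2)
  rw [h3, hσ, hx1]

end Groth.Agent.S14622
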