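import Groth.Statements.S14624
import Groth.Agent.H74.ArtinFun
-- import your own Groth.Agent.* helpers here

set_option autoImplicit false
open CategoryTheory CategoryTheory.Limits
universe u
open Hensel

namespace Groth.Agent.S14624

/-- Let A be a commutative ring, m a proper ideal of A and Â the m-adic completion. Assume the
approximation property for polynomial systems: whenever finitely many polynomials over A in finitely
many variables have a common zero â in Â, then for every c there is a common zero a in A which
agrees with â in A/m^c. Let F be a functor from A-algebras (commutative rings under A) to sets which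
preserves filtered colimits, c a natural number and ξ ∈ F(Â). Then there is η ∈ F(A) whose image in
F(A/m^c) equals the image of ξ; here π is the A-algebra map Â → A/m^c (pinned by its underlying ring
map) and ρ the A-algebra map A → A/m^c. (The published statement takes for A the henselization at a
prime ideal of an algebra of finite type over a field or over an excellent discrete valuation ring,
for which the approximation property of polynomial systems is quoted; this row carries that property
as a hypothesis and draws the published conclusion for functors.) -/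
theorem result (A : Type u) [CommRing A]
    (m : Ideal A) (hm : m ≠ ⊤)
    (hAP : ∀ (k l c : ℕ) (f : Fin l → MvPolynomial (Fin k) A) (â : Fin k → AdicCompletion m A),
      (∀ i, MvPolynomial.aeval â (f i) = 0) →
      ∃ a : Fin k → A, (∀ i, MvPolynomial.eval a (f i) = 0) ∧
        ∀ j, Ideal.Quotient.mk (m ^ c) (a j) = AdicCompletion.evalₐ m c (â j))
    (F : Under (CommRingCat.of A) ⥤ Type u)
    (hF : ∀ (J : Type u) [SmallCategory J] [IsFiltered J], PreservesColimitsOfShape J F)
    (c : ℕ)
    (π : Under.mk (CommRingCat.ofHom (algebraMap A (AdicCompletion m A))) ⟶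
      Under.mk (CommRingCat.ofHom (algebraMap A (A ⧸ m ^ c))))
    (hπ : π.right = CommRingCat.ofHom
      (AdicCompletion.evalₐ m c : AdicCompletion m A →ₐ[A] A ⧸ m ^ c).toRingHom)
    (ρ : Under.mk (𝟙 (CommRingCat.of A)) ⟶ Under.mk (CommRingCat.ofHom (algebraMap A (A ⧸ m ^ c))))
    (ξ : F.obj (Under.mk (CommRingCat.ofHom (algebraMap A (AdicCompletion m A))))) :
    ∃ η : F.obj (Under.mk (𝟙 (CommRingCat.of A))), F.map ρ η = F.map π ξ := by
  classical
  obtain ⟨hc⟩ := Groth.Agent.H74.ArtinFun.theCocone_isColimit (A := A) (B := AdicCompletion m A)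
  have : IsFiltered (Groth.Agent.H74.ArtinFun.JJ A (AdicCompletion m A)) :=
    isFiltered_of_directed_le_nonempty _
  have := hF (Groth.Agent.H74.ArtinFun.JJ A (AdicCompletion m A))
  have hc' := isColimitOfPreserves F hc
  obtain ⟨j, ξj, hξj⟩ := Types.jointly_surjective_of_isColimit hc' ξ
  obtain ⟨a', ha'⟩ := Groth.Agent.H74.ArtinFun.exists_section (A := A) (B := AdicCompletion m A)
    (m ^ c) (AdicCompletion.evalₐ m c) (fun k l f â h => hAP k l c f â h) j
  let α : Under.mk (CommRingCat.ofHom (algebraMap A (Groth.Agent.H74.ArtinFun.CC j))) ⟶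
      Under.mk (𝟙 (CommRingCat.of A)) :=
    Under.homMk (CommRingCat.ofHom a'.toRingHom) (by
      apply CommRingCat.hom_ext
      apply RingHom.ext
      intro x
      exact a'.commutes x)
  refine ⟨F.map α ξj, ?_⟩
  have hρ : ρ.right = CommRingCat.ofHom (algebraMap A (A ⧸ m ^ c)) := by
    have := Under.w ρ
    simpa using this
  have hcomm : α ≫ ρ =
      (Groth.Agent.H74.ArtinFun.theCocone A (AdicCompletion m A)).ι.app j ≫ π := by
    apply Under.UnderMorphism.ext
    apply CommRingCat.hom_ext
    apply RingHom.ext
    intro x
    show ρ.right.hom (a' x) = π.right.hom (Groth.Agent.H74.ArtinFun.toBJ j x)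
    rw [hπ, hρ]
    exact ha' x
  rw [← hξj]
  show F.map ρ (F.map α ξj) = F.map π
    (F.map ((Groth.Agent.H74.ArtinFun.theCocone A (AdicCompletion m A)).ι.app j) ξj)
  have h2 : ∀ (X Y Z : Under (CommRingCat.of A)) (f : X ⟶ Y) (g : Y ⟶ Z) (x : F.obj X),
      F.map g (F.map f x) = F.map (f ≫ g) x := by
    intro X Y Z f g x
    rw [F.map_comp]; rfl
  exact (h2 _ _ _ α ρ ξj).trans ((congrArg (fun t => F.map t ξj) hcomm).trans
    (h2 _ _ _ ((Groth.Agent.H74.ArtinFun.theCocone A (AdicCompletion m A)).ι.app j) π ξj).symm)

end Groth.Agent.S14624
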