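import Groth.Statements.S14625
import Groth.Agent.S13507

set_option autoImplicit false
open CategoryTheory AlgebraicGeometry
universe u
open EtBase

namespace Groth.Agent.S14625

section helpers
open Polynomial

/-- A strictly henselian local ring in which `n` is invertible contains a root of the `n`-th
cyclotomic polynomial (Hensel's lemma). -/
theorem exists_cyclotomic_root (A : Type*) [CommRing A] [HenselianLocalRing A]
    [IsSepClosed (IsLocalRing.ResidueField A)] (n : ℕ) (hn : 1 ≤ n) (hu : IsUnit ((n : ℕ) : A)) :
    ∃ a : A, aeval a (cyclotomic n ℤ) = 0 := by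
  have hnk : ((n : ℕ) : IsLocalRing.ResidueField A) ≠ 0 := by
    have h1 := hu.map (IsLocalRing.residue A)
    rw [map_natCast] at h1
    exact h1.ne_zero
  haveI : NeZero ((n : ℕ) : IsLocalRing.ResidueField A) := ⟨hnk⟩
  have hsep : (cyclotomic n (IsLocalRing.ResidueField A)).Separable :=
    separable_cyclotomic n (IsLocalRing.ResidueField A)
  have hdeg : (cyclotomic n (IsLocalRing.ResidueField A)).degree ≠ 0 := by
    intro h0
    have h1 : (cyclotomic n (IsLocalRing.ResidueField A)).natDegree = 0 :=
      natDegree_eq_zero_iff_degree_le_zero.2 h0.le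
    rw [natDegree_cyclotomic] at h1
    exact (Nat.totient_pos.2 (by omega)).ne' h1
  obtain ⟨b, hb⟩ := IsSepClosed.exists_root (cyclotomic n (IsLocalRing.ResidueField A)) hdeg hsep
  obtain ⟨a₀, rfl⟩ := Ideal.Quotient.mk_surjective b
  have hmap : (cyclotomic n A).map (IsLocalRing.residue A) =
      cyclotomic n (IsLocalRing.ResidueField A) := map_cyclotomic n (IsLocalRing.residue A)
  have hb' : (cyclotomic n (IsLocalRing.ResidueField A)).eval (IsLocalRing.residue A a₀) = 0 := hb
  have h1 : (cyclotomic n A).eval a₀ ∈ IsLocalRing.maximalIdeal A := by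
    rw [← IsLocalRing.residue_eq_zero_iff]
    have h2 : IsLocalRing.residue A ((cyclotomic n A).eval a₀) =
        (cyclotomic n (IsLocalRing.ResidueField A)).eval (IsLocalRing.residue A a₀) := by
      rw [← hmap, Polynomial.eval_map, eval₂_at_apply]
    rw [h2]
    exact hb'
  have h2 : IsUnit ((cyclotomic n A).derivative.eval a₀) := by
    have h3 : IsLocalRing.residue A ((cyclotomic n A).derivative.eval a₀) =
        (cyclotomic n (IsLocalRing.ResidueField A)).derivative.eval (IsLocalRing.residue A a₀) := by
      rw [← hmap, derivative_map, Polynomial.eval_map, eval₂_at_apply]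
    have h4 : (cyclotomic n (IsLocalRing.ResidueField A)).derivative.eval
        (IsLocalRing.residue A a₀) ≠ 0 :=
      hsep.eval₂_derivative_ne_zero (RingHom.id _) hb'
    by_contra hnu
    have h5 : (cyclotomic n A).derivative.eval a₀ ∈ IsLocalRing.maximalIdeal A :=
      (IsLocalRing.mem_maximalIdeal _).2 hnu
    rw [← IsLocalRing.residue_eq_zero_iff] at h5
    exact h4 (h3 ▸ h5)
  obtain ⟨a, ha, -⟩ :=
    HenselianLocalRing.is_henselian (cyclotomic n A) (cyclotomic.monic n A) a₀ h1 h2
  refine ⟨a, ?_⟩
  rw [aeval_def, ← Polynomial.eval_map, algebraMap_int_eq, map_cyclotomic_int]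
  exact ha

end helpers

/-- Let A be a strictly henselian local ring, n ≥ 1 an integer invertible in A, and X a scheme over Spec
A. Then the étale sheaf μ_n of n-th roots of unity on X is isomorphic to the constant sheaf with
value ℤ/n. Only the existence of an isomorphism is asserted; it depends on the choice of a primitive
n-th root of unity in A. -/
theorem result (A : Type u) [CommRing A]
    (hA : EtCoh.IsStrictlyHenselianLocalRing A) (n : ℕ) (hn : 1 ≤ n) (hu : IsUnit (n : A))
    (X : Scheme.{u}) (f : X ⟶ Spec (CommRingCat.of A)) :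
    Nonempty (EtCoh.mu X n ≅ EtCoh.const X (ZMod n)) := by
  obtain ⟨hH, hS⟩ := hA
  haveI := hH
  haveI := hS
  obtain ⟨a, ha⟩ := exists_cyclotomic_root A n hn hu
  let ρ : A →+* Γ(X, ⊤) := ((Scheme.ΓSpecIso (CommRingCat.of A)).inv ≫ f.appTop).hom
  refine Groth.Agent.S13507.result X n hn ?_ (ρ a) ?_
  · have h1 := hu.map ρ
    rwa [map_natCast] at h1
  · rw [Groth.Agent.S13507.aeval_map_int, ha, map_zero]

end Groth.Agent.S14625
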