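import Groth.Statements.S14628
import Groth.Agent.H67.UCechD
import Groth.Agent.H4.SiteBasics

set_option autoImplicit false
open CategoryTheory CategoryTheory.Limits AlgebraicGeometry
universe u
open EtBase

namespace Groth.Agent.S14628

/-- On the small étale site of a scheme, let 0 → F' → F → F'' → 0 be a short exact sequence of abelian
étale sheaves on a scheme X. If F' and F are flasque in the Čech sense (for every étale U over X and
every jointly surjective family of étale U-schemes, Čech cohomology in positive degrees vanishes),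
then so is F''. The finite products of the over categories (the fibre products entering the Čech
complexes) are carried as instance hypotheses. -/
theorem result {X : Scheme.{u}}
    [∀ U : X.Etale, HasFiniteProducts (Over U)] (S : ShortComplex (EtCoh.Ab X)) (hS : S.ShortExact)
    (h1 : (∀ (U : X.Etale) (ι : Type (u + 1)) (Uf : ι → Over U),
      (∀ x : ↥(U.left), ∃ (i : ι) (y : ↥((Uf i).left.left)), (Uf i).hom.left.base y = x) →
      ∀ p : ℕ, 0 < p → IsZero (EtCech.cechH Uf S.X₁.obj p)))
    (h2 : (∀ (U : X.Etale) (ι : Type (u + 1)) (Uf : ι → Over U),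
      (∀ x : ↥(U.left), ∃ (i : ι) (y : ↥((Uf i).left.left)), (Uf i).hom.left.base y = x) →
      ∀ p : ℕ, 0 < p → IsZero (EtCech.cechH Uf S.X₂.obj p)))
    (U : X.Etale) (ι : Type (u + 1)) (Uf : ι → Over U)
    (hU : ∀ x : ↥(U.left), ∃ (i : ι) (y : ↥((Uf i).left.left)), (Uf i).hom.left.base y = x)
    (p : ℕ) (hp : 0 < p) :
    IsZero (EtCech.cechH Uf S.X₃.obj p) := by
  obtain ⟨q, rfl⟩ : ∃ q, p = q + 1 := ⟨p - 1, by omega⟩
  have hsurj : ∀ W : X.Etale, Function.Surjective (S.g.hom.app (Opposite.op W)) := by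
    intro W
    refine Groth.Agent.H67.UCech.surjective_of_cechH1 S hS W (fun T hT => ?_)
    refine ⟨(Σ V : X.Etale, {g : V ⟶ W // T g}), fun i => Over.mk i.2.1, fun i => i.2.2, ?_, ?_⟩
    · apply Groth.Agent.H4.mem_smallEtaleTopology_of_forall
      intro x
      obtain ⟨V, g, v, hg, hv⟩ := Groth.Agent.H4.exists_of_mem_smallEtaleTopology W T hT x
      exact ⟨V, g, v,
        Sieve.ofArrows_mk _ _ (⟨V, g, hg⟩ : Σ V : X.Etale, {g : V ⟶ W // T g}), hv⟩
    · exact h1 W _ _ (fun x => by
        obtain ⟨V, g, v, hg, hv⟩ := Groth.Agent.H4.exists_of_mem_smallEtaleTopology W T hT x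
        exact ⟨⟨V, g, hg⟩, v, hv⟩) 1 Nat.one_pos
  have hT := Groth.Agent.H67.UCech.cech_shortExact hS Uf (fun n a => hsurj _)
  exact Groth.Agent.H67.UCech.isZero_H_X₃ hT q (h2 U ι Uf hU (q + 1) (Nat.succ_pos _))
    (h1 U ι Uf hU (q + 2) (Nat.succ_pos _))

end Groth.Agent.S14628
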