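import Groth.Statements.S14631
import Mathlib

set_option autoImplicit false
open CategoryTheory AlgebraicGeometry
universe u
open EtBase

namespace Groth.Agent.S14631

section Aux

noncomputable def VV {X : Scheme.{u}} (U : X.Etale) (W : U.left.affineOpens) : Over U :=
  Over.mk (MorphismProperty.Over.homMk (A := Scheme.Etale.mk (W.1.ι ≫ U.hom)) (B := U)
    W.1.ι rfl trivial : Scheme.Etale.mk (W.1.ι ≫ U.hom) ⟶ U)

theorem aux (X : Scheme.{u}) [QuasiSeparatedSpace ↥X] (U : X.Etale) :
    ∃ (ι : Type u) (V : ι → Over U),
      (∀ i, QuasiCompact (V i).left.hom ∧ QuasiSeparated (V i).left.hom) ∧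
      ∀ x : ↥(U.left), ∃ (i : ι) (y : ↥((V i).left.left)), (V i).hom.left.base y = x := by
  refine ⟨U.left.affineOpens, VV U, fun W => ?_, fun x => ?_⟩
  · haveI : IsAffine W.1.toScheme := W.2
    constructor
    · show QuasiCompact (W.1.ι ≫ U.hom)
      exact @quasiCompact_of_compactSpace W.1.toScheme X (W.1.ι ≫ U.hom) inferInstance ‹_›
    · show QuasiSeparated (W.1.ι ≫ U.hom)
      infer_instance
  · obtain ⟨W, hW, hxW, -⟩ := exists_isAffineOpen_mem_and_subset (x := x) (U := ⊤) trivial
    exact ⟨⟨W, hW⟩, ⟨x, hxW⟩, rfl⟩

end Aux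

/-- Let X be a quasi-separated scheme and U an étale X-scheme. Then there is a jointly surjective family
of étale U-schemes each of which is quasi-compact and quasi-separated, hence of finite presentation,
over X. (Sheaves on the small étale site are therefore determined by their values on étale X-schemes
of finite presentation; that equivalence is not stated here.) -/
theorem result (X : Scheme.{u})
    [QuasiSeparatedSpace ↥X] (U : X.Etale) :
    ∃ (ι : Type u) (V : ι → Over U), (∀ i, QuasiCompact (V i).left.hom ∧ QuasiSeparated (V i).left.hom) ∧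
      ∀ x : ↥(U.left), ∃ (i : ι) (y : ↥((V i).left.left)), (V i).hom.left.base y = x := by
  exact aux X U

end Groth.Agent.S14631
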