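import Groth.Statements.S14633
import Mathlib
import Groth.Agent.H51.Reduced
import Groth.Agent.S5342

set_option autoImplicit false
set_option maxHeartbeats 400000
set_option backward.isDefEq.respectTransparency.types false
universe u
open CategoryTheory MonoidalCategory CartesianMonoidalCategory MonObj GrpObj AlgebraicGeometry CategoryTheory.Limits
open AlgGrp

namespace Groth.Agent.S14633

open CategoryTheory CategoryTheory.Limits MonoidalCategory CartesianMonoidalCategory MonObj GrpObj
  AlgebraicGeometry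

/-- The kernel of a morphism from a reduced scheme is the vanishing ideal of the closure of its
range (lemma of helper37, `H37/GrpSmoothImage.lean`, copied to keep imports light). -/
lemma ker_eq_vanishingIdeal {X Y : Scheme.{u}} [IsReduced X] (f : X ⟶ Y) :
    f.ker = Scheme.IdealSheafData.vanishingIdeal ⟨closure (Set.range f), isClosed_closure⟩ := by
  have h1 : f.ker = (𝟙 X ≫ f).ker := by rw [Category.id_comp]
  rw [h1, Scheme.Hom.ker_comp, Scheme.Hom.ker_eq_bot_of_isIso, ← Scheme.nilradical_eq_bot,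
    ← Scheme.IdealSheafData.vanishingIdeal_top, Scheme.IdealSheafData.map_vanishingIdeal]
  congr 1
  apply TopologicalSpace.Closeds.ext
  simp

/-- A morphism from a reduced scheme whose image lies in the image of a closed immersion from a
reduced scheme factors through it. -/
theorem exists_lift_of_range_subset {X Y Z : Scheme.{u}} [IsReduced X] [IsReduced Y] (f : X ⟶ Z)
    (g : Y ⟶ Z) [IsClosedImmersion f] (h : Set.range ⇑g ⊆ Set.range ⇑f) :
    ∃ l : Y ⟶ X, l ≫ f = g := by
  have hker : f.ker ≤ g.ker := by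
    rw [ker_eq_vanishingIdeal f, ker_eq_vanishingIdeal g]
    apply Scheme.IdealSheafData.vanishingIdeal_antimono
    exact closure_mono h
  exact ⟨IsClosedImmersion.lift f g hker, IsClosedImmersion.lift_fac f g hker⟩

set_option backward.isDefEq.respectTransparency.types false in
theorem range_id_eq_univ (T : Scheme.{u}) : Set.range (𝟙 T : T ⟶ T) = Set.univ :=
  Set.range_eq_univ.mpr (fun y => ⟨y, rfl⟩)

set_option backward.isDefEq.respectTransparency.types false in
theorem main (k : Type u) [Field k] {G Z : Scheme.{u}} (g : G ⟶ Spec (CommRingCat.of k))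
    (z : Z ⟶ Spec (CommRingCat.of k)) [Smooth g] [ConnectedSpace G] [LocallyOfFiniteType z]
    [QuasiCompact z] [IsReduced Z] (hdim : topologicalKrullDim Z ≤ 0)
    (e : Spec (CommRingCat.of k) ⟶ G) (he : e ≫ g = 𝟙 _)
    (α : pullback g z ⟶ Z) (hα : α ≫ z = pullback.fst g z ≫ g)
    (u : Z ⟶ pullback g z) (hu1 : u ≫ α = 𝟙 Z) (hu2 : u ≫ pullback.snd g z = 𝟙 Z) :
    α = pullback.snd g z := by
  haveI : IsLocallyNoetherian Z := LocallyOfFiniteType.isLocallyNoetherian z
  haveI hZart : IsLocallyArtinian Z := IsLocallyArtinian.of_topologicalKrullDim_le_zero hdim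
  haveI : DiscreteTopology Z := inferInstance
  haveI : LocallyQuasiFinite z :=
    locallyQuasiFinite_iff_isDiscrete_preimage_singleton.mpr (fun x => ⟨inferInstance⟩)
  haveI : IsLocallyArtinian (Spec (CommRingCat.of k)) :=
    Scheme.isLocallyArtinianScheme_Spec.mpr inferInstance
  haveI : IsFinite z := IsFinite.of_locallyQuasiFinite z
  haveI : IsSeparated z := inferInstance
  haveI : IsLocallyArtinian (pullback z z) :=
    IsLocallyArtinian.of_locallyQuasiFinite (pullback.fst z z)
  haveI : DiscreteTopology ↥(pullback z z) := inferInstance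
  haveI : IsReduced (pullback g z) := Groth.Agent.H51.isReduced_of_smooth (pullback.snd g z)
  obtain ⟨Φ, hΦ⟩ : ∃ Φ : pullback g z ⟶ pullback z z,
      Φ = pullback.lift α (pullback.snd g z) (by rw [hα, pullback.condition]) := ⟨_, rfl⟩
  have hΦ1 : Φ ≫ pullback.fst z z = α := by rw [hΦ]; exact pullback.lift_fst _ _ _
  have hΦ2 : Φ ≫ pullback.snd z z = pullback.snd g z := by
    rw [hΦ]; exact pullback.lift_snd _ _ _
  obtain ⟨Δ, hΔ⟩ : ∃ Δ : Z ⟶ pullback z z, Δ = pullback.diagonal z := ⟨_, rfl⟩
  haveI : IsClosedImmersion Δ := by rw [hΔ]; infer_instance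
  have hΔ1 : Δ ≫ pullback.fst z z = 𝟙 Z := by rw [hΔ]; exact pullback.diagonal_fst z
  have hΔ2 : Δ ≫ pullback.snd z z = 𝟙 Z := by rw [hΔ]; exact pullback.diagonal_snd z
  suffices hsub : Set.range ⇑Φ ⊆ Set.range ⇑Δ by
    obtain ⟨l, hl⟩ := exists_lift_of_range_subset Δ Φ hsub
    calc α = Φ ≫ pullback.fst z z := hΦ1.symm
      _ = l ≫ Δ ≫ pullback.fst z z := by rw [← hl, Category.assoc]
      _ = l ≫ Δ ≫ pullback.snd z z := by rw [hΔ1, hΔ2]
      _ = Φ ≫ pullback.snd z z := by rw [← Category.assoc, hl]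
      _ = pullback.snd g z := hΦ2
  rintro _ ⟨w, rfl⟩
  obtain ⟨z₀, hz₀⟩ : ∃ z₀ : Z, z₀ = (pullback.snd g z).base w := ⟨_, rfl⟩
  have huΦ : u ≫ Φ = Δ := by
    rw [hΦ, hΔ]
    apply pullback.hom_ext
    · rw [Category.assoc, pullback.lift_fst, hu1, pullback.diagonal_fst]
    · rw [Category.assoc, pullback.lift_snd, hu2, pullback.diagonal_snd]
  obtain ⟨b, hb⟩ : ∃ b : Spec (Z.residueField z₀) ⟶ Spec (CommRingCat.of k),
      b = Z.fromSpecResidueField z₀ ≫ z := ⟨_, rfl⟩
  haveI : ConnectedSpace ↥(pullback g b) := Groth.Agent.S5342.result k G _ g b e he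
  obtain ⟨q, hq⟩ : ∃ q : pullback g b ⟶ pullback g z,
      q = pullback.map g b g z (𝟙 G) (Z.fromSpecResidueField z₀) (𝟙 _)
        (by rw [Category.comp_id, Category.id_comp]) (by rw [Category.comp_id, hb]) := ⟨_, rfl⟩
  have hqr : Set.range ⇑q = ⇑(pullback.snd g z) ⁻¹' {z₀} := by
    rw [hq, Scheme.Pullback.range_map, Scheme.range_fromSpecResidueField, range_id_eq_univ,
      Set.preimage_univ, Set.univ_inter]
  have hwq : w ∈ Set.range ⇑q := by rw [hqr]; exact hz₀.symm
  have huq : u.base z₀ ∈ Set.range ⇑q := by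
    rw [hqr]
    show (pullback.snd g z).base (u.base z₀) = z₀
    exact congrArg (fun m : Z ⟶ Z => m.base z₀) hu2
  have hDclopen : IsClopen (⇑Φ ⁻¹' Set.range ⇑Δ) :=
    ⟨(isClosed_discrete _).preimage Φ.continuous, (isOpen_discrete _).preimage Φ.continuous⟩
  have hpre : _root_.IsPreconnected (Set.range ⇑q) := isPreconnected_range q.continuous
  have hne : (Set.range ⇑q ∩ ⇑Φ ⁻¹' Set.range ⇑Δ).Nonempty := by
    refine ⟨u.base z₀, huq, ?_⟩
    show Φ.base (u.base z₀) ∈ Set.range ⇑Δ
    exact ⟨z₀, (congrArg (fun m : Z ⟶ pullback z z => m.base z₀) huΦ).symm⟩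
  exact hpre.subset_isClopen hDclopen hne hwq


/-- Over a field k, let G be a smooth connected k-group scheme of finite type and let Z be a reduced
k-scheme of finite type of dimension at most 0 (for Z empty the conclusion is immediate). Then every
action of G on Z is trivial: the action morphism G × Z → Z is the second projection. -/
theorem result (k : Type u) [Field k]
    (G Z : Over (Spec (CommRingCat.of k))) [GrpObj G] [Smooth G.hom] [QuasiCompact G.hom] [ConnectedSpace ↥G.left]
    [LocallyOfFiniteType Z.hom] [QuasiCompact Z.hom] [IsReduced Z.left] (hdim : topologicalKrullDim ↥Z.left ≤ 0)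
    (a : AlgGrp.Action G Z) : a.act = CartesianMonoidalCategory.snd G Z := by
  have hu' : lift (toUnit Z ≫ η[G]) (𝟙 Z) ≫ a.act = 𝟙 Z := by
    have e : lift (toUnit Z ≫ η[G]) (𝟙 Z) = lift (toUnit Z) (𝟙 Z) ≫ (η[G] ▷ Z) := by
      rw [lift_whiskerRight]
    rw [e, Category.assoc, a.one_act, lift_leftUnitor_hom]
  have hmain := main k G.hom Z.hom hdim η[G].left (Over.w η[G]) a.act.left (Over.w a.act)
    (lift (toUnit Z ≫ η[G]) (𝟙 Z)).left (congrArg (fun m => m.left) hu')
    (congrArg (fun m => m.left) (lift_snd (toUnit Z ≫ η[G]) (𝟙 Z)))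
  apply Over.OverMorphism.ext
  exact hmain

end Groth.Agent.S14633
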