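import Groth.Statements.S14639
import Mathlib

set_option autoImplicit false
set_option linter.style.haveILetI false
set_option linter.unusedSectionVars false
universe u
open Polynomial
open AlgGrp

namespace Groth.Agent.S14639

section Helpers

open Polynomial

universe v

variable {k : Type u} [Field k] {R : Type v} [CommRing R] [Algebra k R]
  (N : ℕ) (u : R) (ε : R →ₐ[k] k)

/-- order predicate: `z = u^j * ρ` with `ρ` of nonzero constant term. -/
def Ord (u : R) (ε : R →ₐ[k] k) (j : ℕ) (z : R) : Prop := ∃ ρ : R, ε ρ ≠ 0 ∧ z = u ^ j * ρ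

theorem fact1 (hu : u ^ (N + 1) = 0)
    (hdec : ∀ x : R, ∃ y : R, x = algebraMap k R (ε x) + u * y) :
    ∀ (d t : ℕ), t + d = N + 1 → ∀ y : R,
      u ^ t * y = 0 ∨ ∃ j, t ≤ j ∧ j ≤ N ∧ Ord u ε j (u ^ t * y) := by
  intro d
  induction d with
  | zero =>
    intro t ht y
    left
    have : t = N + 1 := by omega
    rw [this, hu, zero_mul]
  | succ d ih =>
    intro t ht y
    by_cases hy : ε y = 0
    · obtain ⟨y', hy'⟩ := hdec y
      rw [hy, map_zero, zero_add] at hy'
      have h1 : u ^ t * y = u ^ (t + 1) * y' := by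
        rw [hy', pow_succ, mul_assoc]
      rcases ih (t + 1) (by omega) y' with h | ⟨j, hj1, hj2, hj3⟩
      · left; rw [h1, h]
      · right; exact ⟨j, by omega, hj2, by rw [h1]; exact hj3⟩
    · right
      exact ⟨t, le_refl t, by omega, y, hy, rfl⟩

theorem ord_raise [CharZero k] (hεu : ε u = 0) (σ : R →ₐ[k] R) (w : R) (hσ : σ u = u * w)
    (hw : w * (1 + u) = 1)
    (hdvd : ∀ x : R, (σ u - u) ∣ σ x - x) (j : ℕ) (hj : 1 ≤ j) (z : R) (hz : Ord u ε j z) :
    Ord u ε (j + 1) (σ z - z) := by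
  obtain ⟨ρ, hρ, rfl⟩ := hz
  obtain ⟨q, hq⟩ := hdvd ρ
  have hεw : ε w = 1 := by
    have := congrArg ε hw
    simpa [hεu] using this
  have hεS : ε (∑ i ∈ Finset.range j, w ^ i) = (j : k) := by simp [hεw]
  have hS := geom_sum_mul w j
  generalize (∑ i ∈ Finset.range j, w ^ i) = S at hεS hS
  refine ⟨-(S * w * ρ + w ^ j * u * w * q), ?_, ?_⟩
  · have h1 : ε (-(S * w * ρ + w ^ j * u * w * q)) = -((j : k) * ε ρ) := by
      simp [hεw, hεu, hεS]
    rw [h1]
    have hj' : (j : k) ≠ 0 := Nat.cast_ne_zero.mpr (by omega)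
    exact neg_ne_zero.mpr (mul_ne_zero hj' hρ)
  · rw [map_mul, map_pow, hσ]
    have hq' : σ ρ = ρ + (u * w - u) * q := by
      rw [← hσ, ← hq]; ring
    have hw' : w - 1 = -(u * w) := by linear_combination hw
    rw [hq']
    linear_combination (-(u ^ j * ρ)) * hS + (u ^ j * ρ * S + u ^ (j + 1) * w ^ j * q) * hw'

theorem abstract_main [CharZero k] (hu : u ^ (N + 1) = 0) (hεu : ε u = 0)
    (hdec : ∀ x : R, ∃ y : R, x = algebraMap k R (ε x) + u * y)
    (σ : R →ₐ[k] R) (w : R) (hσ : σ u = u * w) (hw : w * (1 + u) = 1)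
    (hdvd : ∀ x : R, (σ u - u) ∣ σ x - x)
    (A : Subalgebra k R) (hA : ∀ x ∈ A, σ x ∈ A) :
    ∃ n : ℕ, 1 ≤ n ∧ n ≤ N + 1 ∧
      Subalgebra.toSubmodule A =
        Submodule.span k {1} ⊔ (Ideal.span {u ^ n}).restrictScalars k := by
  classical
  have hP : ∃ j, 1 ≤ j ∧ (j = N + 1 ∨ ∃ z ∈ A, Ord u ε j z) := ⟨N + 1, by omega, Or.inl rfl⟩
  obtain ⟨n, hn, hmin⟩ : ∃ n, (1 ≤ n ∧ (n = N + 1 ∨ ∃ z ∈ A, Ord u ε n z)) ∧
      ∀ m < n, ¬ (1 ≤ m ∧ (m = N + 1 ∨ ∃ z ∈ A, Ord u ε m z)) :=
    ⟨Nat.find hP, Nat.find_spec hP, fun m hm => Nat.find_min hP hm⟩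
  have hn1 : 1 ≤ n := hn.1
  have hnN : n ≤ N + 1 := by
    by_contra h
    exact hmin (N + 1) (by omega) ⟨by omega, Or.inl rfl⟩
  have claim1 : ∀ j, n ≤ j → j ≤ N → ∃ z ∈ A, Ord u ε j z := by
    intro j hj
    induction j, hj using Nat.le_induction with
    | base =>
      intro hnN'
      rcases hn.2 with h | h
      · omega
      · exact h
    | succ j hj ih =>
      intro hjN
      obtain ⟨z, hzA, hz⟩ := ih (by omega)
      exact ⟨σ z - z, A.sub_mem (hA z hzA) hzA,
        ord_raise u ε hεu σ w hσ hw hdvd j (by omega) z hz⟩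
  have claim2 : ∀ d j, n ≤ j → j + d = N + 1 → ∀ y : R, u ^ j * y ∈ A := by
    intro d
    induction d with
    | zero =>
      intro j _ hj y
      have : j = N + 1 := by omega
      rw [this, hu, zero_mul]
      exact A.zero_mem
    | succ d ih =>
      intro j hnj hj y
      obtain ⟨z, hzA, ρ, hρ, hzρ⟩ := claim1 j hnj (by omega)
      obtain ⟨ρ', hρ'⟩ := hdec ρ
      obtain ⟨y', hy'⟩ := hdec y
      have hc : algebraMap k R (ε y / ε ρ) * algebraMap k R (ε ρ) = algebraMap k R (ε y) := by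
        rw [← map_mul, div_mul_cancel₀ _ hρ]
      have key : u ^ j * y = (ε y / ε ρ) • z
          + u ^ (j + 1) * (y' - algebraMap k R (ε y / ε ρ) * ρ') := by
        rw [Algebra.smul_def, hzρ]
        linear_combination (u ^ j) * hy' + (-(algebraMap k R (ε y / ε ρ)) * u ^ j) * hρ'
          + (-(u ^ j)) * hc
      rw [key]
      exact A.add_mem (A.smul_mem hzA _) (ih (j + 1) (by omega) (by omega) _)
  refine ⟨n, hn1, hnN, le_antisymm ?_ ?_⟩
  · intro x hx
    have hxA : x ∈ A := hx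
    obtain ⟨y, hy⟩ := hdec x
    have hcA : algebraMap k R (ε x) ∈ A := A.algebraMap_mem _
    have huyA : u ^ 1 * y ∈ A := by
      have : u ^ 1 * y = x - algebraMap k R (ε x) := by
        rw [pow_one]; linear_combination -hy
      rw [this]
      exact A.sub_mem hxA hcA
    have huyI : u ^ 1 * y ∈ (Ideal.span {u ^ n}).restrictScalars k := by
      rw [Submodule.restrictScalars_mem]
      rcases fact1 N u ε hu hdec N 1 (by omega) y with h | ⟨j, hj1, hj2, hj3⟩
      · rw [h]; exact Submodule.zero_mem _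
      · have hnj : n ≤ j := by
          by_contra h
          exact hmin j (by omega) ⟨hj1, Or.inr ⟨_, huyA, hj3⟩⟩
        obtain ⟨ρ, -, hρ⟩ := hj3
        rw [hρ]
        refine Ideal.mem_span_singleton'.mpr ⟨u ^ (j - n) * ρ, ?_⟩
        have : u ^ j = u ^ (j - n) * u ^ n := by
          rw [← pow_add]; congr 1; omega
        rw [this]; ring
    refine Submodule.mem_sup.mpr ⟨algebraMap k R (ε x), ?_, u ^ 1 * y, huyI, ?_⟩
    · rw [Algebra.algebraMap_eq_smul_one]
      exact Submodule.smul_mem _ _ (Submodule.subset_span rfl)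
    · rw [pow_one]; exact hy.symm
  · intro x hx
    obtain ⟨a, ha, b, hb, rfl⟩ := Submodule.mem_sup.mp hx
    obtain ⟨c, rfl⟩ := Submodule.mem_span_singleton.mp ha
    rw [Submodule.restrictScalars_mem] at hb
    obtain ⟨t, rfl⟩ := Ideal.mem_span_singleton'.mp hb
    have h1 : c • (1 : R) ∈ A := A.smul_mem A.one_mem c
    have h2 : t * u ^ n ∈ A := by
      rw [mul_comm]
      exact claim2 (N + 1 - n) n le_rfl (by omega) t
    exact A.add_mem h1 h2

theorem sigma_sub_dvd (f : k[X]) (σ : AdjoinRoot f →ₐ[k] AdjoinRoot f) (x : AdjoinRoot f) :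
    (σ (AdjoinRoot.root f) - AdjoinRoot.root f) ∣ σ x - x := by
  obtain ⟨p, rfl⟩ := AdjoinRoot.mk_surjective x
  rw [← AdjoinRoot.aeval_eq, ← Polynomial.aeval_algHom_apply]
  simp only [Polynomial.aeval_def, Polynomial.eval₂_eq_eval_map]
  exact Polynomial.sub_dvd_eval_sub _ _ _

end Helpers

/-- Classification of the subalgebras of a truncated polynomial ring that are stable under the unipotent
substitutions, which is the algebraic step behind the classification of curves almost homogeneous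
under the additive group in characteristic zero. Let k be a field of characteristic zero, N ≥ 0 and
R = k[u]/(u^(N+1)). The additive group acts on R through the substitutions u ↦ u/(1 + a u), a in k.
If A is a k-subalgebra of R stable under all these substitutions (stated for every k-algebra
endomorphism σ of R with σ(u)(1 + a u) = u for some a in k), then there is an integer n with 1 ≤ n ≤
N + 1 such that A = k ⊕ (u^n): as a k-subspace, A is the span of 1 plus the ideal generated by u^n.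
(In positive characteristic p and for N ≥ p + 1, the subalgebra generated by u^p is stable and not
of this form.) -/
theorem result (k : Type u) [Field k] [CharZero k]
    (N : ℕ) (A : Subalgebra k (AdjoinRoot ((Polynomial.X : Polynomial k) ^ (N + 1))))
    (hA : ∀ (a : k) (σ : AdjoinRoot ((Polynomial.X : Polynomial k) ^ (N + 1)) →ₐ[k] AdjoinRoot ((Polynomial.X : Polynomial k) ^ (N + 1))),
      σ (AdjoinRoot.root ((Polynomial.X : Polynomial k) ^ (N + 1))) * (1 + algebraMap k (AdjoinRoot ((Polynomial.X : Polynomial k) ^ (N + 1))) a * AdjoinRoot.root ((Polynomial.X : Polynomial k) ^ (N + 1))) = AdjoinRoot.root ((Polynomial.X : Polynomial k) ^ (N + 1)) →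
        A.map σ ≤ A) :
    ∃ n : ℕ, 1 ≤ n ∧ n ≤ N + 1 ∧
      Subalgebra.toSubmodule A =
        Submodule.span k {1} ⊔ (Ideal.span {AdjoinRoot.root ((Polynomial.X : Polynomial k) ^ (N + 1)) ^ n}).restrictScalars k := by
  have hu : (AdjoinRoot.root ((Polynomial.X : Polynomial k) ^ (N + 1))) ^ (N + 1) = 0 := by
    have := AdjoinRoot.mk_self (f := ((Polynomial.X : Polynomial k) ^ (N + 1)))
    rwa [map_pow, AdjoinRoot.mk_X] at this
  obtain ⟨ε, hεu⟩ : ∃ ε : AdjoinRoot ((Polynomial.X : Polynomial k) ^ (N + 1)) →ₐ[k] k,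
      ε (AdjoinRoot.root ((Polynomial.X : Polynomial k) ^ (N + 1))) = 0 :=
    ⟨AdjoinRoot.liftAlgHom ((Polynomial.X : Polynomial k) ^ (N + 1)) (AlgHom.id k k) 0
      (by simp), AdjoinRoot.liftAlgHom_root _ _ _ _⟩
  have hdec : ∀ x : AdjoinRoot ((Polynomial.X : Polynomial k) ^ (N + 1)), ∃ y,
      x = algebraMap k _ (ε x) + AdjoinRoot.root ((Polynomial.X : Polynomial k) ^ (N + 1)) * y := by
    intro x
    obtain ⟨p, rfl⟩ := AdjoinRoot.mk_surjective x
    have h1 : AdjoinRoot.mk ((Polynomial.X : Polynomial k) ^ (N + 1)) p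
        = AdjoinRoot.mk _ p.divX * AdjoinRoot.root _ + algebraMap k _ (p.coeff 0) := by
      conv_lhs => rw [← Polynomial.divX_mul_X_add p]
      rw [map_add, map_mul, AdjoinRoot.mk_X, AdjoinRoot.mk_C, AdjoinRoot.algebraMap_eq]
    have h2 : ε (AdjoinRoot.mk _ p) = p.coeff 0 := by
      rw [h1, map_add, map_mul, hεu, mul_zero, zero_add, AlgHom.commutes]
      rfl
    exact ⟨AdjoinRoot.mk _ p.divX, by rw [h2]; exact h1.trans (by ring)⟩
  have hnil : IsNilpotent (AdjoinRoot.root ((Polynomial.X : Polynomial k) ^ (N + 1))) :=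
    ⟨N + 1, hu⟩
  obtain ⟨w, hw⟩ := (hnil.isUnit_one_add).exists_left_inv
  obtain ⟨σ, hσ⟩ : ∃ σ : AdjoinRoot ((Polynomial.X : Polynomial k) ^ (N + 1)) →ₐ[k]
      AdjoinRoot ((Polynomial.X : Polynomial k) ^ (N + 1)),
      σ (AdjoinRoot.root ((Polynomial.X : Polynomial k) ^ (N + 1)))
        = AdjoinRoot.root ((Polynomial.X : Polynomial k) ^ (N + 1)) * w :=
    ⟨AdjoinRoot.liftAlgHom ((Polynomial.X : Polynomial k) ^ (N + 1)) (Algebra.ofId k _)
      (AdjoinRoot.root ((Polynomial.X : Polynomial k) ^ (N + 1)) * w)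
      (by simp [Polynomial.eval₂_pow, mul_pow, hu]), AdjoinRoot.liftAlgHom_root _ _ _ _⟩
  have hA' : ∀ x ∈ A, σ x ∈ A := by
    intro x hx
    have h := hA 1 σ (by
      rw [hσ, map_one, one_mul]
      linear_combination (AdjoinRoot.root ((Polynomial.X : Polynomial k) ^ (N + 1))) * hw)
    exact h (Subalgebra.mem_map.mpr ⟨x, hx, rfl⟩)
  exact abstract_main N _ ε hu hεu hdec σ w hσ hw (sigma_sub_dvd _ σ) A hA'

end Groth.Agent.S14639
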