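import Groth.Statements.S14641
import Groth.Agent.H40.FpqcDesc
import Groth.Agent.H37.GrpAct

set_option autoImplicit false
universe u
open CategoryTheory MonoidalCategory CartesianMonoidalCategory MonObj GrpObj AlgebraicGeometry CategoryTheory.Limits
open AlgGrp

namespace Groth.Agent.S14641

/-- Over a field k, let G be a k-group scheme of finite type, i : H → G a closed subgroup scheme, and
(Q, o) the quotient G/H: a k-scheme with a G-action and a rational point o exhibiting it as the
quotient (orbit map flat and surjective, G × H ≅ G ×_Q G). Let n : N → G be a closed subgroup scheme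
which is the kernel of the action of G on Q, i.e. for every k-scheme T, a T-point g of G factors
through N exactly when g acts as the identity on Q_T (on all points of Q over T-schemes). Then N is
normal in G and contained in H, and N is the largest such subgroup: every closed subgroup scheme N'
of G which is normal in G and factors through H factors through N. -/
theorem result (k : Type u) [Field k]
    (G H Q N : Over (Spec (CommRingCat.of k))) [GrpObj G] [LocallyOfFiniteType G.hom] [QuasiCompact G.hom]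
    [GrpObj H] (i : H ⟶ G) [IsMonHom i] [IsClosedImmersion i.left]
    (a : AlgGrp.Action G Q) (o : 𝟙_ (Over (Spec (CommRingCat.of k))) ⟶ Q) (hQ : AGF.IsQuotient i Q a o)
    [GrpObj N] (n : N ⟶ G) [IsMonHom n] [IsClosedImmersion n.left]
    (hN : ∀ (T : Over (Spec (CommRingCat.of k))) (g : T ⟶ G),
      (∃ m : T ⟶ N, m ≫ n = g) ↔
        ∀ (T' : Over (Spec (CommRingCat.of k))) (s : T' ⟶ T) (x : T' ⟶ Q),
          CartesianMonoidalCategory.lift (s ≫ g) x ≫ a.act = x) :
    AlgGrp.IsNormalHom n ∧ (∃ f : N ⟶ H, f ≫ i = n) ∧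
      ∀ (N' : Over (Spec (CommRingCat.of k))) [GrpObj N'] (n' : N' ⟶ G) [IsMonHom n'] [IsClosedImmersion n'.left],
        AlgGrp.IsNormalHom n' → (∃ f : N' ⟶ H, f ≫ i = n') → ∃ f' : N' ⟶ N, f' ≫ n = n' := by
  obtain ⟨hlft, hflat, hsurj, hpb⟩ := hQ
  have hcov : Groth.Agent.H40.GrpFun.IsCov (a.orbitMap o) := ⟨hflat, hsurj⟩
  have horb : ∀ {T : Over (Spec (CommRingCat.of k))} (g : T ⟶ G),
      g ≫ a.orbitMap o = lift g (toUnit T ≫ o) ≫ a.act := by
    intro T g
    unfold AlgGrp.Action.orbitMap
    rw [← Category.assoc, comp_lift, Category.comp_id, ← Category.assoc,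
      toUnit_unique (g ≫ toUnit G) (toUnit T)]
  have hmul : ∀ {T : Over (Spec (CommRingCat.of k))} (l : T ⟶ G ⊗ H),
      l ≫ (G ◁ i) ≫ μ[G] = (l ≫ fst G H) * (l ≫ snd G H ≫ i) := by
    intro T l
    rw [Hom.mul_def, ← Category.assoc]
    congr 1
    apply CartesianMonoidalCategory.hom_ext <;> simp
  -- points of `H` fix the base point
  have hfix : ∀ {T : Over (Spec (CommRingCat.of k))} (h : T ⟶ H),
      lift (h ≫ i) (toUnit T ≫ o) ≫ a.act = toUnit T ≫ o := by
    intro T h
    have e := congrArg (fun m => lift (1 : T ⟶ G) h ≫ m) hpb.w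
    simp only [← Category.assoc] at e
    rw [lift_fst, Category.assoc (lift 1 h), hmul, lift_fst, lift_snd_assoc, _root_.one_mul,
      horb, horb, Groth.Agent.H37.act_one a.act a.one_act] at e
    exact e.symm
  have hact : ∀ {T : Over (Spec (CommRingCat.of k))} (m : T ⟶ N) (x : T ⟶ Q),
      lift (m ≫ n) x ≫ a.act = x := by
    intro T m x
    have := (hN T (m ≫ n)).mp ⟨m, rfl⟩ T (𝟙 T) x
    rwa [Category.id_comp] at this
  refine ⟨?_, ?_, ?_⟩
  · intro T g m
    suffices hs : ∃ n', n' ≫ n = g * (m ≫ n) * g⁻¹ by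
      obtain ⟨n', hn'⟩ := hs
      exact ⟨n', hn'.symm⟩
    apply (hN T _).mpr
    intro T' s x
    rw [MonObj.comp_mul, MonObj.comp_mul, GrpObj.comp_inv,
      Groth.Agent.H37.act_mul a.act a.mul_act, Groth.Agent.H37.act_mul a.act a.mul_act,
      ← Category.assoc s m n, hact, ← Groth.Agent.H37.act_mul a.act a.mul_act, mul_inv_cancel,
      Groth.Agent.H37.act_one a.act a.one_act]
  · have e1 : (1 : N ⟶ G) ≫ a.orbitMap o = n ≫ a.orbitMap o := by
      rw [horb, horb, Groth.Agent.H37.act_one a.act a.one_act]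
      have := hact (𝟙 N) (toUnit N ≫ o)
      rw [Category.id_comp] at this
      exact this.symm
    have h1 : hpb.lift 1 n e1 ≫ fst G H = 1 := hpb.lift_fst _ _ _
    have h2 : hpb.lift 1 n e1 ≫ (G ◁ i) ≫ μ[G] = n := hpb.lift_snd _ _ _
    rw [hmul, h1, _root_.one_mul] at h2
    exact ⟨hpb.lift 1 n e1 ≫ snd G H, by rw [Category.assoc]; exact h2⟩
  · intro N' _ n' _ _ hN' ⟨f, hf⟩
    apply (hN N' n').mpr
    intro T' s x
    obtain ⟨T'', p, γ, hp, hγ⟩ := Groth.Agent.H40.GrpFun.exists_local_lift (a.orbitMap o) hcov x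
    haveI := hp.epi
    obtain ⟨m', hm'⟩ := hN' T'' γ⁻¹ (p ≫ s)
    rw [_root_.inv_inv] at hm'
    have e1 : (p ≫ s ≫ n') * γ = γ * (m' ≫ n') := by
      rw [← hm', ← Category.assoc]; group
    rw [← cancel_epi p, ← Category.assoc, comp_lift, ← hγ, horb,
      ← Groth.Agent.H37.act_mul a.act a.mul_act, e1, Groth.Agent.H37.act_mul a.act a.mul_act,
      ← hf, ← Category.assoc m' f i, hfix]

end Groth.Agent.S14641
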