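import Groth.Statements.S14645
import Groth.Agent.H63.SurjK2

set_option autoImplicit false
universe u
open CategoryTheory MonoidalCategory CartesianMonoidalCategory MonObj GrpObj AlgebraicGeometry CategoryTheory.Limits
open AlgGrp

namespace Groth.Agent.S14645

/-- Over a field k with algebraic closure K, let G be a smooth k-group scheme of finite type acting on a
variety X (a separated, geometrically integral k-scheme of finite type). Then X is homogeneous under
G, i.e. the graph morphism G × X → X × X, (g, x) ↦ (x, g·x), is surjective, if and only if the
abstract group G(K) of K-points over k acts transitively on the set X(K): for all K-points x, y of X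
there is a K-point g of G with g · x = y. -/
theorem result (k : Type u) [Field k]
    (G X : Over (Spec (CommRingCat.of k))) [GrpObj G] [Smooth G.hom] [QuasiCompact G.hom]
    [IsSeparated X.hom] [LocallyOfFiniteType X.hom] [QuasiCompact X.hom] [GeometricallyIntegral X.hom] (a : AlgGrp.Action G X)
    (K : Type u) [Field K] [Algebra k K] [IsAlgClosure k K] :
    Surjective (CartesianMonoidalCategory.lift (CartesianMonoidalCategory.snd G X) a.act).left ↔
      ∀ x y : Over.mk (Spec.map (CommRingCat.ofHom (algebraMap k K))) ⟶ X, ∃ g : Over.mk (Spec.map (CommRingCat.ofHom (algebraMap k K))) ⟶ G, CartesianMonoidalCategory.lift g x ≫ a.act = y := by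
  haveI : IsAlgClosed K := IsAlgClosure.isAlgClosed k
  haveI : LocallyOfFiniteType G.hom := inferInstance
  haveI : LocallyOfFiniteType (G ⊗ X).hom := by rw [Over.tensorObj_hom]; infer_instance
  haveI : QuasiCompact (G ⊗ X).hom := by rw [Over.tensorObj_hom]; infer_instance
  haveI : LocallyOfFiniteType (X ⊗ X).hom := by rw [Over.tensorObj_hom]; infer_instance
  haveI : QuasiCompact (X ⊗ X).hom := by rw [Over.tensorObj_hom]; infer_instance
  constructor
  · intro hs x y
    obtain ⟨z, hz⟩ := Groth.Agent.H63.SurjK.exists_Kpoint_lift K
      (CartesianMonoidalCategory.lift (CartesianMonoidalCategory.snd G X) a.act)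
      (CartesianMonoidalCategory.lift x y)
    refine ⟨z ≫ CartesianMonoidalCategory.fst G X, ?_⟩
    have h1 : z ≫ CartesianMonoidalCategory.snd G X = x := by
      have := congrArg (fun t => t ≫ CartesianMonoidalCategory.fst X X) hz
      simpa using this
    have h2 : z ≫ a.act = y := by
      have := congrArg (fun t => t ≫ CartesianMonoidalCategory.snd X X) hz
      simpa using this
    have h3 : CartesianMonoidalCategory.lift (z ≫ CartesianMonoidalCategory.fst G X) x = z := by
      rw [← h1]
      ext <;> simp
    rw [h3, h2]
  · intro h
    refine Groth.Agent.H63.SurjK.surjective_of_forall_Kpoint K _ (fun p => ?_)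
    obtain ⟨g, hg⟩ := h (p ≫ CartesianMonoidalCategory.fst X X) (p ≫ CartesianMonoidalCategory.snd X X)
    refine ⟨CartesianMonoidalCategory.lift g (p ≫ CartesianMonoidalCategory.fst X X), ?_⟩
    ext
    · simp
    · simp [hg]

end Groth.Agent.S14645
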