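import Groth.Statements.S14661
import Mathlib
import Groth.Agent.H20.GradedIC
import Groth.Agent.H58.LCDT
-- import your own Groth.Agent.* helpers here

set_option autoImplicit false
universe u
open FiltBl

set_option linter.style.haveILetI false
set_option linter.unusedSectionVars false
set_option linter.unusedVariables false

namespace Groth.Agent.S14661

open Groth.Agent.H20.GradedIC in
theorem finiteType_of_zero {k G : Type u} [Field k] [CommRing G] [Algebra k G] [IsNoetherianRing G]
    (𝒢 : ℕ → Submodule k G) [GradedAlgebra 𝒢]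
    (h0 : ∀ x ∈ 𝒢 0, x ∈ Set.range (algebraMap k G)) : Algebra.FiniteType k G := by
  have h1 : Algebra.FiniteType (𝒢 0) G :=
    Groth.Agent.H41.Natural.finiteType_of_isNoetherianRing 𝒢
  obtain ⟨s, hs⟩ := h1.out
  refine ⟨⟨s, ?_⟩⟩
  rw [eq_top_iff]
  intro x hxtop
  clear hxtop
  have hx : x ∈ Algebra.adjoin (𝒢 0) (s : Set G) := by rw [hs]; trivial
  induction hx using Algebra.adjoin_induction with
  | mem x hx => exact Algebra.subset_adjoin hx
  | algebraMap r =>
    obtain ⟨t, ht⟩ := h0 r.1 r.2
    have h2 : algebraMap (𝒢 0) G r = algebraMap k G t := ht.symm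
    rw [h2]
    exact Subalgebra.algebraMap_mem _ t
  | add x y _ _ hx hy => exact add_mem hx hy
  | mul x y _ _ hx hy => exact mul_mem hx hy

open Groth.Agent.H20.GradedIC in
theorem toDT_bijective {G : Type u} [CommRing G] [IsDomain G] (L : Type u) [Field L]
    [Algebra G L] [IsFractionRing G L] (I : Ideal G) (hI0 : I ≠ ⊥)
    (hKL : ∀ (x : L) (n : ℕ), (∀ a ∈ I ^ n, IsIntegral G (algebraMap G L a * x)) →
      IsIntegral G x) :
    Function.Bijective (LocCoh.toDT I ↥(integralClosure G L)) := by
  obtain ⟨u, huI, hu0⟩ := Submodule.exists_mem_ne_zero_of_ne_bot hI0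
  constructor
  · rw [← LinearMap.ker_eq_bot, Groth.Agent.H58.ker_toDT, eq_bot_iff]
    rintro m ⟨n, hn⟩
    rw [Submodule.mem_bot]
    have h1 := hn (u ^ n) (Ideal.pow_mem_pow huI n)
    have h2 : (u ^ n) • ((m : integralClosure G L) : L) = 0 :=
      congrArg (fun z : integralClosure G L => (z : L)) h1
    rw [Algebra.smul_def] at h2
    rcases mul_eq_zero.mp h2 with h | h
    · exfalso
      rw [map_eq_zero_iff _ (IsFractionRing.injective G L)] at h
      exact pow_ne_zero n hu0 h
    · exact Subtype.ext h
  · intro x
    obtain ⟨n, f, rfl⟩ := Groth.Agent.H58.exists_rep I _ x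
    have hunL : algebraMap G L (u ^ n) ≠ 0 := by
      rw [Ne, map_eq_zero_iff _ (IsFractionRing.injective G L)]; exact pow_ne_zero n hu0
    let a0 : ↥(I ^ n) := ⟨u ^ n, Ideal.pow_mem_pow huI n⟩
    let xx : L := ((f a0 : integralClosure G L) : L) / algebraMap G L (u ^ n)
    have key : ∀ a : ↥(I ^ n),
        ((f a : integralClosure G L) : L) = algebraMap G L (a : G) * xx := by
      intro a
      have h1 : (u ^ n) • f a = (a : G) • f a0 := by
        rw [← map_smul, ← map_smul]
        congr 1
        apply Subtype.ext
        show u ^ n * (a : G) = (a : G) * u ^ n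
        ring
      have h3 : (u ^ n) • ((f a : integralClosure G L) : L) =
          (a : G) • ((f a0 : integralClosure G L) : L) :=
        congrArg (fun z : integralClosure G L => (z : L)) h1
      rw [Algebra.smul_def, Algebra.smul_def] at h3
      show ((f a : integralClosure G L) : L) = algebraMap G L (a : G) *
        (((f a0 : integralClosure G L) : L) / algebraMap G L (u ^ n))
      rw [← mul_div_assoc, eq_div_iff hunL, mul_comm]
      exact h3
    have hxx : IsIntegral G xx := hKL xx n (fun a ha => by
      rw [← key ⟨a, ha⟩]; exact (f ⟨a, ha⟩).2)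
    refine ⟨⟨xx, hxx⟩, ?_⟩
    rw [Groth.Agent.H58.toDT_eq_mk I _ n]
    congr 1
    apply LinearMap.ext
    intro a
    apply Subtype.ext
    rw [Groth.Agent.H58.smulMap_apply]
    show (a : G) • xx = _
    rw [Algebra.smul_def, key a]


/-- Let k be a field and G a Noetherian ℕ-graded k-algebra which is an integral domain of Krull
dimension at least 2 with G_0 = k (the degree-0 part is the image of k); let L be the fraction field
of G and Ḡ the integral closure of G in L. If the G-module Ḡ/G has finite length, then Ḡ/G is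
isomorphic, as a G-module, to the local cohomology module H^1_{G_+}(G) with support in the
irrelevant ideal G_+ (existence of a G-linear isomorphism only; the comparison map itself is not
named here). -/
theorem result (k : Type u) [Field k]
    (G : Type u) [CommRing G] [IsDomain G] [Algebra k G] [IsNoetherianRing G]
    (𝒢 : ℕ → Submodule k G) [GradedAlgebra 𝒢]
    (h0 : ∀ x ∈ 𝒢 0, x ∈ Set.range (algebraMap k G)) (hdim : 2 ≤ ringKrullDim G)
    (L : Type u) [Field L] [Algebra G L] [IsFractionRing G L]
    (hfin : IsFiniteLength G (↥(integralClosure G L) ⧸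
      LinearMap.range (Algebra.linearMap G ↥(integralClosure G L)))) :
    Nonempty ((↥(integralClosure G L) ⧸
        LinearMap.range (Algebra.linearMap G ↥(integralClosure G L))) ≃ₗ[G]
      LocCoh.H (HomogeneousIdeal.irrelevant 𝒢).toIdeal 1 G) := by
  classical
  haveI hFT : Algebra.FiniteType k G := finiteType_of_zero 𝒢 h0
  haveI hImax : (HomogeneousIdeal.irrelevant 𝒢).toIdeal.IsMaximal :=
    Groth.Agent.H20.GradedIC.isMaximal_irrelevant 𝒢 h0
  have hinjN := Groth.Agent.H20.GradedIC.algebraMap_integralClosure_injective (G := G) L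
  -- finiteness of the normalization
  haveI hQn : IsNoetherian G (↥(integralClosure G L) ⧸
      LinearMap.range (Algebra.linearMap G ↥(integralClosure G L))) :=
    (isFiniteLength_iff_isNoetherian_isArtinian.mp hfin).1
  haveI hQa : IsArtinian G (↥(integralClosure G L) ⧸
      LinearMap.range (Algebra.linearMap G ↥(integralClosure G L))) :=
    (isFiniteLength_iff_isNoetherian_isArtinian.mp hfin).2
  haveI hRfin : Module.Finite G (LinearMap.range (Algebra.linearMap G ↥(integralClosure G L))) :=
    Module.Finite.range _
  haveI hNfin : Module.Finite G ↥(integralClosure G L) :=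
    Module.Finite.of_submodule_quotient
      (LinearMap.range (Algebra.linearMap G ↥(integralClosure G L)))
  -- the conductor quotients are Artinian
  have hart : ∀ c : L, IsIntegral G c →
      IsArtinian G (G ⧸ Groth.Agent.H20.GradedIC.condIdeal (G := G) L c) := by
    intro c hc
    let f : G →ₗ[G] (↥(integralClosure G L) ⧸
        LinearMap.range (Algebra.linearMap G ↥(integralClosure G L))) :=
      LinearMap.toSpanSingleton G _ (Submodule.Quotient.mk ⟨c, hc⟩)
    have hker : LinearMap.ker f = Groth.Agent.H20.GradedIC.condIdeal (G := G) L c := by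
      ext g
      rw [LinearMap.mem_ker, LinearMap.toSpanSingleton_apply, ← Submodule.Quotient.mk_smul,
        Submodule.Quotient.mk_eq_zero, LinearMap.mem_range,
        Groth.Agent.H20.GradedIC.mem_condIdeal]
      constructor
      · rintro ⟨h, hh⟩
        refine ⟨h, ?_⟩
        have h1 : algebraMap G L h = g • c :=
          congrArg (fun z : integralClosure G L => (z : L)) hh
        rw [h1, Algebra.smul_def]
      · rintro ⟨h, hh⟩
        refine ⟨h, Subtype.ext ?_⟩
        show algebraMap G L h = g • c
        rw [hh, Algebra.smul_def]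
    exact isArtinian_of_injective
      ((Groth.Agent.H20.GradedIC.condIdeal (G := G) L c).liftQ f hker.ge)
      (LinearMap.ker_eq_bot.mp (Submodule.ker_liftQ_eq_bot _ _ _ hker.le))
  -- the cokernel is power torsion
  have hcoker : LocCoh.IsPowerTorsion (HomogeneousIdeal.irrelevant 𝒢).toIdeal
      (↥(integralClosure G L) ⧸
        LinearMap.range (Algebra.linearMap G ↥(integralClosure G L))) := by
    intro m
    obtain ⟨⟨y, hy⟩, rfl⟩ := Submodule.Quotient.mk_surjective _ m
    obtain ⟨Nn, hN⟩ := Groth.Agent.H20.GradedIC.exists_pow_le_condIdeal 𝒢 L hart y hy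
    refine ⟨Nn, fun a ha => ?_⟩
    obtain ⟨h, hh⟩ := hN ha
    rw [← Submodule.Quotient.mk_smul, Submodule.Quotient.mk_eq_zero, LinearMap.mem_range]
    refine ⟨h, Subtype.ext ?_⟩
    show algebraMap G L h = a • y
    rw [hh, Algebra.smul_def]
  -- the irrelevant ideal is nonzero
  have hI0 : (HomogeneousIdeal.irrelevant 𝒢).toIdeal ≠ ⊥ := by
    intro hbot
    have h54 := Groth.Agent.H54.height_eq_ringKrullDim_of_isMaximal k G
      (HomogeneousIdeal.irrelevant 𝒢).toIdeal
    rw [hbot, Ideal.height_bot] at h54
    rw [← h54] at hdim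
    exact absurd hdim (by norm_num)
  have hη : Function.Bijective (LocCoh.toDT (HomogeneousIdeal.irrelevant 𝒢).toIdeal
      ↥(integralClosure G L)) :=
    toDT_bijective L _ hI0 (fun x n hx =>
      Groth.Agent.H20.GradedIC.isIntegral_of_pow_mul L k hdim _ x n hx)
  have hinje : Function.Injective (Algebra.linearMap G ↥(integralClosure G L)) :=
    fun a b hab => hinjN hab
  have hker : LinearMap.ker (Algebra.linearMap G ↥(integralClosure G L)) ≤
      DRing.torsionSub (HomogeneousIdeal.irrelevant 𝒢).toIdeal G := by
    rw [LinearMap.ker_eq_bot.mpr hinje]; exact bot_le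
  have hF : Function.Bijective (Groth.Agent.H58.factor (HomogeneousIdeal.irrelevant 𝒢).toIdeal
      (Algebra.linearMap G ↥(integralClosure G L)) hker hcoker (LinearMap.id : G →ₗ[G] G)) :=
    Groth.Agent.H58.factor_bijective _ _ hker hcoker LinearMap.id Function.bijective_id hη
  have hcomp := Groth.Agent.H58.factor_comp (HomogeneousIdeal.irrelevant 𝒢).toIdeal
      (Algebra.linearMap G ↥(integralClosure G L)) hker hcoker (LinearMap.id : G →ₗ[G] G)
  have hmap : (LinearMap.range (Algebra.linearMap G ↥(integralClosure G L))).map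
      ((LinearEquiv.ofBijective _ hF : ↥(integralClosure G L) ≃ₗ[G]
        LocCoh.DT (HomogeneousIdeal.irrelevant 𝒢).toIdeal G) :
        ↥(integralClosure G L) →ₗ[G] LocCoh.DT (HomogeneousIdeal.irrelevant 𝒢).toIdeal G) =
      LinearMap.range (LocCoh.toDT (HomogeneousIdeal.irrelevant 𝒢).toIdeal G) := by
    rw [← LinearMap.range_comp]
    show LinearMap.range (Groth.Agent.H58.factor (HomogeneousIdeal.irrelevant 𝒢).toIdeal
      (Algebra.linearMap G ↥(integralClosure G L)) hker hcoker (LinearMap.id : G →ₗ[G] G) ∘ₗ
        Algebra.linearMap G ↥(integralClosure G L)) = _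
    rw [hcomp, LinearMap.comp_id]
  exact ⟨(Submodule.Quotient.equiv _ _ (LinearEquiv.ofBijective _ hF) hmap).trans
    (Groth.Agent.H58.LC.cokerToDTEquiv (HomogeneousIdeal.irrelevant 𝒢).toIdeal G)⟩

end Groth.Agent.S14661
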