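import Groth.Statements.S14657
import Mathlib
import Groth.Agent.H20.GradedIC
import Groth.Agent.S14661
import Groth.Agent.H11.NagataFT
import Groth.Agent.H29.DimOneN2
import Groth.Agent.S6292
-- import your own Groth.Agent.* helpers here

set_option autoImplicit false
universe u
open FiltBl

set_option linter.style.haveILetI false
set_option linter.unusedSectionVars false
set_option linter.unusedVariables false

namespace Groth.Agent.S14657

open Groth.Agent.H20.GradedIC in
theorem isArtinian_quot_condIdeal {G : Type u} [CommRing G] (L : Type u) [Field L] [Algebra G L]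
    (hfin : IsFiniteLength G (↥(integralClosure G L) ⧸
      LinearMap.range (Algebra.linearMap G ↥(integralClosure G L))))
    (c : L) (hc : IsIntegral G c) : IsArtinian G (G ⧸ condIdeal (G := G) L c) := by
  haveI hQa : IsArtinian G (↥(integralClosure G L) ⧸
      LinearMap.range (Algebra.linearMap G ↥(integralClosure G L))) :=
    (isFiniteLength_iff_isNoetherian_isArtinian.mp hfin).2
  let f : G →ₗ[G] (↥(integralClosure G L) ⧸
      LinearMap.range (Algebra.linearMap G ↥(integralClosure G L))) :=
    LinearMap.toSpanSingleton G _ (Submodule.Quotient.mk ⟨c, hc⟩)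
  have hker : LinearMap.ker f = condIdeal (G := G) L c := by
    ext g
    rw [LinearMap.mem_ker, LinearMap.toSpanSingleton_apply, ← Submodule.Quotient.mk_smul,
      Submodule.Quotient.mk_eq_zero, LinearMap.mem_range, mem_condIdeal]
    constructor
    · rintro ⟨h, hh⟩
      refine ⟨h, ?_⟩
      have h1 : algebraMap G L h = g • c :=
        congrArg (fun z : integralClosure G L => (z : L)) hh
      rw [h1, Algebra.smul_def]
    · rintro ⟨h, hh⟩
      refine ⟨h, Subtype.ext ?_⟩
      show algebraMap G L h = g • c
      rw [hh, Algebra.smul_def]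
  exact isArtinian_of_injective
    ((condIdeal (G := G) L c).liftQ f hker.ge)
    (LinearMap.ker_eq_bot.mp (Submodule.ker_liftQ_eq_bot _ _ _ hker.le))

theorem isNagata_field' (k : Type u) [Field k] : CAlg.IsNagata k := by
  refine ⟨inferInstance, fun P hP => ?_⟩
  have hPbot : P = ⊥ := Ideal.eq_bot_of_prime P
  haveI hPmax : P.IsMaximal := hPbot ▸ Ideal.bot_isMaximal
  exact Groth.Agent.H29.DimOneN2.isN2_of_isField (k ⧸ P)
    ((Ideal.Quotient.maximal_ideal_iff_isField_quotient P).mp hPmax)


/-- (i) ⇔ (ii): let k be a field and G a Noetherian ℕ-graded k-algebra which is an integral domain of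
Krull dimension at least 2 with G_0 = k (the degree-0 part is the image of k); let L be the fraction
field of G and Ḡ the integral closure of G in L. Then the open subscheme Spec G − V(G_+) is normal,
i.e. G_p is integrally closed for every prime p not containing the irrelevant ideal G_+, if and only
if the G-module Ḡ/G has finite length. -/
theorem result (k : Type u) [Field k]
    (G : Type u) [CommRing G] [IsDomain G] [Algebra k G] [IsNoetherianRing G]
    (𝒢 : ℕ → Submodule k G) [GradedAlgebra 𝒢]
    (h0 : ∀ x ∈ 𝒢 0, x ∈ Set.range (algebraMap k G)) (hdim : 2 ≤ ringKrullDim G)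
    (L : Type u) [Field L] [Algebra G L] [IsFractionRing G L] :
    (∀ (p : Ideal G) [p.IsPrime], ¬ (HomogeneousIdeal.irrelevant 𝒢).toIdeal ≤ p →
        IsIntegrallyClosed (Localization.AtPrime p)) ↔
      IsFiniteLength G (↥(integralClosure G L) ⧸
        LinearMap.range (Algebra.linearMap G ↥(integralClosure G L))) := by
  classical
  haveI hFT : Algebra.FiniteType k G := Groth.Agent.S14661.finiteType_of_zero 𝒢 h0
  haveI hImax : (HomogeneousIdeal.irrelevant 𝒢).toIdeal.IsMaximal :=
    Groth.Agent.H20.GradedIC.isMaximal_irrelevant 𝒢 h0
  constructor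
  · -- normal on the punctured spectrum ⇒ finite length
    intro hnorm
    have hNag : CAlg.IsNagata G :=
      Groth.Agent.H11.NagataFT.isNagata_of_finiteType k (isNagata_field' k) G
    have hN2 : CAlg.IsN2 G := Groth.Agent.H11.NagataFT.isN2_of_isNagata_domain G hNag
    haveI hfs : FaithfulSMul G L :=
      (faithfulSMul_iff_algebraMap_injective G L).mpr (IsFractionRing.injective G L)
    letI : Algebra (FractionRing G) L := FractionRing.liftAlgebra G L
    haveI : IsScalarTower G (FractionRing G) L := FractionRing.isScalarTower_liftAlgebra G L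
    haveI hfd : FiniteDimensional (FractionRing G) L := by
      have hsurj : Function.Surjective (Algebra.linearMap (FractionRing G) L) := by
        intro z
        obtain ⟨a, b, hb, rfl⟩ := IsFractionRing.div_surjective G z
        refine ⟨algebraMap G (FractionRing G) a / algebraMap G (FractionRing G) b, ?_⟩
        rw [Algebra.linearMap_apply, map_div₀, ← IsScalarTower.algebraMap_apply,
          ← IsScalarTower.algebraMap_apply]
      exact Module.Finite.of_surjective _ hsurj
    haveI hNfin : Module.Finite G (integralClosure G L) := hN2 L hfd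
    have htors : ∀ y : L, IsIntegral G y → ∃ N : ℕ,
        (HomogeneousIdeal.irrelevant 𝒢).toIdeal ^ N ≤
          Groth.Agent.H20.GradedIC.condIdeal (G := G) L y := by
      intro y hy
      have hle : (HomogeneousIdeal.irrelevant 𝒢).toIdeal ≤
          (Groth.Agent.H20.GradedIC.condIdeal (G := G) L y).radical := by
        rw [Ideal.radical_eq_sInf, le_sInf_iff]
        rintro p ⟨hJp, hp⟩
        haveI := hp
        by_contra hIp
        haveI hic := hnorm p hIp
        letI : Algebra (Localization.AtPrime p) L :=
          IsLocalization.localizationAlgebraOfSubmonoidLe (Localization.AtPrime p) L p.primeCompl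
            (nonZeroDivisors G) p.primeCompl_le_nonZeroDivisors
        haveI : IsScalarTower G (Localization.AtPrime p) L :=
          IsLocalization.localization_isScalarTower_of_submonoid_le (Localization.AtPrime p) L
            p.primeCompl (nonZeroDivisors G) p.primeCompl_le_nonZeroDivisors
        haveI : IsFractionRing (Localization.AtPrime p) L :=
          IsFractionRing.isFractionRing_of_isDomain_of_isLocalization p.primeCompl
            (Localization.AtPrime p) L
        have hy' : IsIntegral (Localization.AtPrime p) y := hy.tower_top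
        obtain ⟨z, hz⟩ := (isIntegrallyClosed_iff L).mp hic hy'
        obtain ⟨⟨h, s⟩, hzs⟩ := IsLocalization.surj p.primeCompl z
        have hs : (s : G) ∈ Groth.Agent.H20.GradedIC.condIdeal (G := G) L y := by
          refine ⟨h, ?_⟩
          have h1 := congrArg (algebraMap (Localization.AtPrime p) L) hzs
          rw [map_mul, hz, ← IsScalarTower.algebraMap_apply, ← IsScalarTower.algebraMap_apply] at h1
          rw [← h1, mul_comm]
        exact s.2 (hJp hs)
      exact Ideal.exists_pow_le_of_le_radical_of_fg hle (IsNoetherian.noetherian _)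
    -- a uniform exponent
    obtain ⟨s, hs⟩ := (Module.finite_def.mp hNfin)
    have hN : ∀ y : integralClosure G L, ∃ N : ℕ, ∀ a ∈ (HomogeneousIdeal.irrelevant 𝒢).toIdeal ^ N,
        a • y ∈ LinearMap.range (Algebra.linearMap G ↥(integralClosure G L)) := by
      intro y
      obtain ⟨N, hN⟩ := htors y.1 y.2
      refine ⟨N, fun a ha => ?_⟩
      obtain ⟨h, hh⟩ := hN ha
      refine ⟨h, Subtype.ext ?_⟩
      show algebraMap G L h = a • (y : L)
      rw [hh, Algebra.smul_def]
    choose Nf hNf using hN
    have hunif : ∀ y : integralClosure G L,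
        ∀ a ∈ (HomogeneousIdeal.irrelevant 𝒢).toIdeal ^ (s.sup Nf),
        a • y ∈ LinearMap.range (Algebra.linearMap G ↥(integralClosure G L)) := by
      intro y
      have hy : y ∈ Submodule.span G (s : Set (integralClosure G L)) := by rw [hs]; trivial
      induction hy using Submodule.span_induction with
      | mem x hx =>
        intro a ha
        exact hNf x a (Ideal.pow_le_pow_right (Finset.le_sup (f := Nf) hx) ha)
      | zero => intro a _; rw [smul_zero]; exact zero_mem _
      | add x y _ _ hx hy => intro a ha; rw [smul_add]; exact add_mem (hx a ha) (hy a ha)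
      | smul r x _ hx => intro a ha; rw [smul_comm]; exact Submodule.smul_mem _ _ (hx a ha)
    have hn : (HomogeneousIdeal.irrelevant 𝒢).toIdeal ^ (s.sup Nf) •
        (⊤ : Submodule G (↥(integralClosure G L) ⧸
          LinearMap.range (Algebra.linearMap G ↥(integralClosure G L)))) = ⊥ := by
      rw [eq_bot_iff, Submodule.smul_le]
      intro a ha q _
      obtain ⟨y, rfl⟩ := Submodule.Quotient.mk_surjective _ q
      rw [Submodule.mem_bot, ← Submodule.Quotient.mk_smul, Submodule.Quotient.mk_eq_zero]
      exact hunif y a ha
    exact Groth.Agent.S6292.result (HomogeneousIdeal.irrelevant 𝒢).toIdeal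
      (IsNoetherian.noetherian _) _ (s.sup Nf) hn
  · -- finite length ⇒ normal on the punctured spectrum
    intro hfin p hp hIp
    have hart := fun c hc => isArtinian_quot_condIdeal (G := G) L hfin c hc
    letI : Algebra (Localization.AtPrime p) L :=
      IsLocalization.localizationAlgebraOfSubmonoidLe (Localization.AtPrime p) L p.primeCompl
        (nonZeroDivisors G) p.primeCompl_le_nonZeroDivisors
    haveI : IsScalarTower G (Localization.AtPrime p) L :=
      IsLocalization.localization_isScalarTower_of_submonoid_le (Localization.AtPrime p) L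
        p.primeCompl (nonZeroDivisors G) p.primeCompl_le_nonZeroDivisors
    haveI : IsFractionRing (Localization.AtPrime p) L :=
      IsFractionRing.isFractionRing_of_isDomain_of_isLocalization p.primeCompl
        (Localization.AtPrime p) L
    rw [isIntegrallyClosed_iff L]
    intro x hx
    obtain ⟨⟨s, hs⟩, hsx⟩ :=
      IsIntegral.exists_multiple_integral_of_isLocalization p.primeCompl x hx
    have hsx' : IsIntegral G (algebraMap G L s * x) := by
      have h1 : (⟨s, hs⟩ : p.primeCompl) • x = algebraMap G L s * x := by
        rw [Submonoid.smul_def, Algebra.smul_def]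
      rwa [h1] at hsx
    obtain ⟨N, hN⟩ := Groth.Agent.H20.GradedIC.exists_pow_le_condIdeal 𝒢 L hart _ hsx'
    have hnot : ¬ (HomogeneousIdeal.irrelevant 𝒢).toIdeal ^ N ≤ p :=
      fun h => hIp (Ideal.IsPrime.le_of_pow_le h)
    obtain ⟨g, hgI, hgp⟩ := SetLike.not_le_iff_exists.mp hnot
    obtain ⟨h, hh⟩ := hN hgI
    have hgsmem : g * s ∈ p.primeCompl := p.primeCompl.mul_mem hgp hs
    refine ⟨IsLocalization.mk' (Localization.AtPrime p) h ⟨g * s, hgsmem⟩, ?_⟩
    have hgs : algebraMap G L (g * s) ≠ 0 := by
      rw [Ne, map_eq_zero_iff _ (IsFractionRing.injective G L)]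
      exact nonZeroDivisors.ne_zero (p.primeCompl_le_nonZeroDivisors hgsmem)
    have h1 : algebraMap (Localization.AtPrime p) L
        (IsLocalization.mk' (Localization.AtPrime p) h ⟨g * s, hgsmem⟩) * algebraMap G L (g * s) =
        algebraMap G L h := by
      rw [IsScalarTower.algebraMap_apply G (Localization.AtPrime p) L (g * s), ← map_mul,
        IsLocalization.mk'_spec, ← IsScalarTower.algebraMap_apply]
    apply mul_right_cancel₀ hgs
    rw [h1, hh, map_mul]
    ring

end Groth.Agent.S14657
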