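import Groth.Statements.S1467
import Groth.Agent.H47.WEtStrict
import Groth.Agent.S1412

set_option autoImplicit false
universe u
open FlatMor

namespace Groth.Agent.S1467

open AlgebraicGeometry CategoryTheory Limits in
/-- A morphism f : X → Y is weakly étale if and only if, for every point x of X, strict henselizations
of the local rings at f x and at x coincide under the stalk map: every strict henselization of O_{X,
x} is, through the composite map O_{Y, f x} → O_{X, x} → (strict henselization), a strict
henselization of O_{Y, f x}. -/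
theorem result {X Y : Scheme.{u}} (f : X ⟶ Y) :
    WeaklyEtale f ↔ ∀ (x : X) (R : Type u) [CommRing R] [IsLocalRing R] [Algebra ↑(X.presheaf.stalk x) R]
      [IsLocalHom (algebraMap ↑(X.presheaf.stalk x) R)] [Hensel.IsStrictHenselization ↑(X.presheaf.stalk x) R],
      letI : Algebra ↑(Y.presheaf.stalk (f x)) R := ((algebraMap ↑(X.presheaf.stalk x) R).comp (f.stalkMap x).hom).toAlgebra
      ∃ _ : IsLocalHom (algebraMap ↑(Y.presheaf.stalk (f x)) R), Hensel.IsStrictHenselization ↑(Y.presheaf.stalk (f x)) R := by
  constructor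
  · intro hf x R _ _ _ _ _
    letI alg : Algebra (Y.presheaf.stalk (f x)) R :=
      ((algebraMap (X.presheaf.stalk x) R).comp (f.stalkMap x).hom).toAlgebra
    obtain ⟨hfl, hlm⟩ := (Groth.Agent.S1412.result f).mp hf x
    letI := (f.stalkMap x).hom.toAlgebra
    haveI : Algebra.WeaklyEtale (Y.presheaf.stalk (f x)) (X.presheaf.stalk x) := ⟨hfl, hlm⟩
    haveI : IsLocalHom (algebraMap (Y.presheaf.stalk (f x)) (X.presheaf.stalk x)) :=
      inferInstanceAs (IsLocalHom (f.stalkMap x).hom)
    haveI : IsScalarTower (Y.presheaf.stalk (f x)) (X.presheaf.stalk x) R :=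
      IsScalarTower.of_algebraMap_eq' rfl
    have hloc : IsLocalHom (algebraMap (Y.presheaf.stalk (f x)) R) :=
      Groth.Agent.H47.WEtStrict.isLocalHom_of_tower (Y.presheaf.stalk (f x))
        (X.presheaf.stalk x) R
    haveI := hloc
    exact ⟨hloc, Groth.Agent.H47.WEtStrict.isStrictHenselization_of_weaklyEtale
      (Y.presheaf.stalk (f x)) (X.presheaf.stalk x) R⟩
  · intro h
    rw [Groth.Agent.S1412.result f]
    intro x
    have hx := h x (Groth.Agent.H47.HensK.Hsh (X.presheaf.stalk x))
    letI alg : Algebra (Y.presheaf.stalk (f x)) (Groth.Agent.H47.HensK.Hsh (X.presheaf.stalk x)) :=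
      ((algebraMap (X.presheaf.stalk x) (Groth.Agent.H47.HensK.Hsh (X.presheaf.stalk x))).comp
        (f.stalkMap x).hom).toAlgebra
    obtain ⟨hloc, hstr⟩ := hx
    letI := (f.stalkMap x).hom.toAlgebra
    haveI : IsLocalHom (algebraMap (Y.presheaf.stalk (f x)) (X.presheaf.stalk x)) :=
      inferInstanceAs (IsLocalHom (f.stalkMap x).hom)
    haveI : IsScalarTower (Y.presheaf.stalk (f x)) (X.presheaf.stalk x)
        (Groth.Agent.H47.HensK.Hsh (X.presheaf.stalk x)) :=
      IsScalarTower.of_algebraMap_eq' rfl
    haveI := hloc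
    haveI := hstr
    have w : Algebra.WeaklyEtale (Y.presheaf.stalk (f x)) (X.presheaf.stalk x) :=
      Groth.Agent.H47.WEtStrict.weaklyEtale_of_isStrictHenselization_of_tower
        (Y.presheaf.stalk (f x)) (X.presheaf.stalk x)
        (Groth.Agent.H47.HensK.Hsh (X.presheaf.stalk x))
    exact ⟨w.flat, Algebra.WeaklyEtale.flat_lmul' _ _⟩

end Groth.Agent.S1467
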