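import Groth.Statements.S14675
import Groth.Agent.H79.SecSum

set_option autoImplicit false
universe u
open CategoryTheory CategoryTheory.Limits AlgebraicGeometry
open HilbD

namespace Groth.Agent.S14675

/-- Let S be a locally Noetherian scheme, f : C ⟶ S proper and smooth of relative dimension 1, d ≥ 0,
and D the closed subscheme of C defined by a quasi-coherent ideal sheaf I, with D ⟶ S finite locally
free of degree d (an effective relative Cartier divisor of constant degree d). Then D becomes a sum
of d sections after an fppf base change: there are b : S' ⟶ S flat, surjective and locally of finite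
presentation and sections σ_1, …, σ_d of the projection C ×_S S' ⟶ S' such that the ideal sheaf of D
×_S S' ⊆ C ×_S S' (the kernel ideal of the base change of D ⟶ C) is the product of the kernel ideal
sheaves of the σ_i. (The published statement is for a flat projective family whose geometric fibres
are connected regular curves; this row assumes properness and smoothness of relative dimension 1,
which is what the proof uses.) -/
theorem result {C S : Scheme.{u}} [IsLocallyNoetherian S]
    (f : C ⟶ S) [IsProper f] [SmoothOfRelativeDimension 1 f] (d : ℕ) (I : C.IdealSheafData)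
    (hD : Mor2.IsFinLocFreeOfDeg d (I.subschemeι ≫ f)) :
    ∃ (S' : Scheme.{u}) (b : S' ⟶ S), Flat b ∧ Surjective b ∧ LocallyOfFinitePresentation b ∧
      ∃ σ : Fin d → (S' ⟶ pullback f b), (∀ i, σ i ≫ pullback.snd f b = 𝟙 S') ∧
        (pullback.snd I.subschemeι (pullback.fst f b)).ker = ∏ i, (σ i).ker := by
  obtain ⟨S', b, hf, hs, hp, C', h, p', sq, σ, hσ, hprod⟩ :=
    Groth.Agent.H79.SecSum.exists_sections d f I hD
  refine ⟨S', b, hf, hs, hp, fun i => σ i ≫ sq.isoPullback.hom,
    fun i => by rw [Category.assoc, sq.isoPullback_hom_snd]; exact hσ i, ?_⟩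
  rw [Groth.Agent.H79.SecSum.ker_snd_eq_comap]
  have hh : h = sq.isoPullback.hom ≫ pullback.fst f b := sq.isoPullback_hom_fst.symm
  have h1 : (I.comap (pullback.fst f b)).comap sq.isoPullback.hom = ∏ i, (σ i).ker := by
    rw [← Scheme.IdealSheafData.comap_comp, ← hh]; exact hprod
  have h2 : I.comap (pullback.fst f b) =
      ((I.comap (pullback.fst f b)).comap sq.isoPullback.hom).comap sq.isoPullback.inv := by
    rw [← Scheme.IdealSheafData.comap_comp, Iso.inv_hom_id, Scheme.IdealSheafData.comap_id]
  rw [h2, h1, Groth.Agent.H79.SecSum.comap_prod]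
  refine Finset.prod_congr rfl fun i _ => ?_
  have hsep : IsSeparated p' := MorphismProperty.of_isPullback (P := @IsSeparated) sq inferInstance
  have hcl : IsClosedImmersion (σ i) :=
    (Groth.Agent.H79.SecSum.finLocFreeOfDeg_one_of_section p' (σ i) (hσ i)).1
  have sq' : IsPullback sq.isoPullback.inv (pullback.snd f b) p' (𝟙 S') :=
    IsPullback.of_horiz_isIso ⟨by rw [sq.isoPullback_inv_snd, Category.comp_id]⟩
  exact Groth.Agent.H79.SecSum.comap_ker_section sq' (σ i) (hσ i) (σ i ≫ sq.isoPullback.hom)
    (by rw [Category.assoc, sq.isoPullback_hom_snd]; exact hσ i)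
    (by rw [Category.assoc, Iso.hom_inv_id, Category.comp_id, Category.id_comp])


end Groth.Agent.S14675
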