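import Groth.Statements.S14678
import Mathlib

set_option autoImplicit false
set_option maxHeartbeats 400000
universe u
open CategoryTheory CategoryTheory.Limits AlgebraicGeometry
open EtBase

namespace Groth.Agent.S14678

/-- Let S be a scheme, s a point of S and ℓ a finite field extension of the residue field κ(s). Then,
fppf-locally around s, ℓ occurs as a residue field: there are an affine scheme U', a flat morphism b
: U' ⟶ S locally of finite presentation (so with open image containing s) and a morphism t : Spec ℓ
⟶ U' over the canonical morphism Spec ℓ ⟶ Spec κ(s) ⟶ S which is a preimmersion, i.e. the inclusion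
of a point s' of U' above s together with an identification of κ(s') with ℓ over κ(s); such a point
is closed in its fibre over s. (The published statement gives an affine open neighbourhood U of s
and an fppf morphism U' ⟶ U; this row asks only for a flat, locally finitely presented U' ⟶ S, whose
open image then contains s.) -/
theorem result (S : Scheme.{u}) (s : ↥S)
    (ℓ : Type u) [Field ℓ] [Algebra (S.residueField s) ℓ] [Module.Finite (S.residueField s) ℓ] :
    ∃ (U' : Scheme.{u}) (b : U' ⟶ S) (t : Spec (CommRingCat.of ℓ) ⟶ U'),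
      IsAffine U' ∧ Flat b ∧ LocallyOfFinitePresentation b ∧ IsPreimmersion t ∧
        t ≫ b = Spec.map (CommRingCat.ofHom (algebraMap (S.residueField s) ℓ)) ≫ S.fromSpecResidueField s := by
  classical
  obtain ⟨_, ⟨U, hU, rfl⟩, hsU, -⟩ := S.isBasis_affineOpens.exists_subset_of_mem_open
    (Set.mem_univ s) isOpen_univ
  obtain ⟨n, α, hα⟩ := Module.Finite.exists_fin (R := S.residueField s) (M := ℓ)
  let ev : Γ(S, U) →+* S.residueField s := (S.presheaf.germ U s hsU ≫ S.residue s).hom
  let Φ : MvPolynomial (Fin n) Γ(S, U) →+* ℓ :=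
    MvPolynomial.eval₂Hom ((algebraMap (S.residueField s) ℓ).comp ev) α
  have hΦC : ∀ a : Γ(S, U), Φ (MvPolynomial.C a) = algebraMap (S.residueField s) ℓ (ev a) := by
    intro a
    simp [Φ]
  have hΦX : ∀ i : Fin n, Φ (MvPolynomial.X i) = α i := by
    intro i
    simp [Φ]
  -- every element of the residue field is a quotient of evaluations
  have hfrac : ∀ c : S.residueField s, ∃ a b : Γ(S, U), ev b ≠ 0 ∧ c * ev b = ev a := by
    intro c
    obtain ⟨σ, rfl⟩ := S.residue_surjective s c
    let _ := S.presheaf.algebra_section_stalk ⟨s, hsU⟩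
    haveI := hU.isLocalization_stalk ⟨s, hsU⟩
    obtain ⟨⟨a, b⟩, hab⟩ := IsLocalization.surj
      (hU.primeIdealOf ⟨s, hsU⟩).asIdeal.primeCompl σ
    have hbu : IsUnit (algebraMap Γ(S, U) (S.presheaf.stalk s) b) :=
      IsLocalization.map_units _ b
    refine ⟨a, b, ?_, ?_⟩
    · exact (hbu.map (S.residue s).hom).ne_zero
    · have := congrArg (S.residue s).hom hab
      rw [map_mul] at this
      exact this
  -- the subfield generated by the image of Φ is everything
  have htop : ∀ x : ℓ, x ∈ Subfield.closure (Set.range Φ) := by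
    intro x
    have hx : x ∈ Submodule.span (S.residueField s) (Set.range α) := by
      rw [hα]; exact Submodule.mem_top
    induction hx using Submodule.span_induction with
    | mem y hy =>
      obtain ⟨i, rfl⟩ := hy
      exact Subfield.subset_closure ⟨MvPolynomial.X i, hΦX i⟩
    | zero => exact zero_mem _
    | add y z _ _ hy hz => exact add_mem hy hz
    | smul c y _ hy =>
      obtain ⟨a, b, hb, hab⟩ := hfrac c
      have h1 : algebraMap (S.residueField s) ℓ c * Φ (MvPolynomial.C b) =
          Φ (MvPolynomial.C a) := by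
        rw [hΦC, hΦC, ← map_mul, hab]
      have hb' : Φ (MvPolynomial.C b) ≠ 0 := by
        rw [hΦC]
        exact (map_ne_zero _).mpr hb
      have h2 : algebraMap (S.residueField s) ℓ c =
          Φ (MvPolynomial.C a) / Φ (MvPolynomial.C b) := eq_div_of_mul_eq hb' h1
      rw [Algebra.smul_def, h2]
      exact mul_mem (div_mem (Subfield.subset_closure ⟨_, rfl⟩)
        (Subfield.subset_closure ⟨_, rfl⟩)) hy
  have hsurj : Φ.SurjectiveOnStalks := by
    refine RingHom.surjectiveOnStalks_of_exists_div fun x => ?_
    obtain ⟨y, hy, z, hz, hyz⟩ := Subfield.mem_closure_iff.mp (htop x)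
    have hcl : Subring.closure (Set.range Φ) = Φ.range := by
      rw [← RingHom.coe_range, Subring.closure_eq]
    rw [hcl] at hy hz
    obtain ⟨r, rfl⟩ := hy
    obtain ⟨t, rfl⟩ := hz
    by_cases ht : Φ t = 0
    · refine ⟨0, 1, by simp, ?_⟩
      rw [← hyz, ht, div_zero, mul_zero, map_zero]
    · refine ⟨r, t, isUnit_iff_ne_zero.mpr ht, ?_⟩
      rw [← hyz, mul_div_cancel₀ _ ht]
  let φ : Γ(S, U) ⟶ CommRingCat.of (MvPolynomial (Fin n) Γ(S, U)) :=
    CommRingCat.ofHom (algebraMap Γ(S, U) (MvPolynomial (Fin n) Γ(S, U)))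
  have hflat : Flat (Spec.map φ) := by
    rw [HasRingHomProperty.Spec_iff (P := @Flat)]
    exact RingHom.flat_algebraMap_iff.mpr inferInstance
  have hlfp : LocallyOfFinitePresentation (Spec.map φ) := by
    rw [HasRingHomProperty.Spec_iff (P := @LocallyOfFinitePresentation)]
    exact RingHom.finitePresentation_algebraMap.mpr inferInstance
  have e1 : S.fromSpecStalk s = Spec.map (S.presheaf.germ U s hsU) ≫ hU.fromSpec :=
    (hU.fromSpecStalk_eq_fromSpecStalk hsU).symm
  haveI hoi : IsOpenImmersion hU.fromSpec := IsAffineOpen.isOpenImmersion_fromSpec hU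
  have hf1 : Flat hU.fromSpec := inferInstance
  have hf2 : LocallyOfFinitePresentation hU.fromSpec := inferInstance
  have hf3 : Flat (Spec.map φ ≫ hU.fromSpec) := inferInstance
  have hf4 : LocallyOfFinitePresentation (Spec.map φ ≫ hU.fromSpec) := inferInstance
  refine ⟨Spec (CommRingCat.of (MvPolynomial (Fin n) Γ(S, U))), Spec.map φ ≫ hU.fromSpec,
    Spec.map (CommRingCat.ofHom Φ), inferInstance, hf3, hf4, ?_, ?_⟩
  · exact IsPreimmersion.mk_SpecMap (Topology.IsEmbedding.of_subsingleton _) hsurj
  · rw [Scheme.fromSpecResidueField, e1, ← Spec.map_comp_assoc, ← Spec.map_comp_assoc,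
      ← Spec.map_comp_assoc]
    congr 2
    ext a
    simp [Φ, ev, φ, MvPolynomial.algebraMap_eq]

end Groth.Agent.S14678
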