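import Mathlib
import Groth.Statements.S14679

set_option autoImplicit false
universe u
open CategoryTheory CategoryTheory.Limits AlgebraicGeometry
open EtBase

namespace Groth.Agent.S14679

lemma subsingleton_primeSpectrum_of_isField {R : Type*} [CommRing R] (h : IsField R) :
    Subsingleton (PrimeSpectrum R) := by
  have key : ∀ p : PrimeSpectrum R, p.asIdeal = ⊥ := by
    intro p
    rw [eq_bot_iff]
    intro a ha
    by_contra ha0
    have ha0' : a ≠ 0 := fun h0 => ha0 (by rw [h0]; exact Ideal.zero_mem _)
    obtain ⟨b, hb⟩ := h.mul_inv_cancel ha0'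
    exact p.isPrime.ne_top ((Ideal.eq_top_iff_one _).mpr (hb ▸ p.asIdeal.mul_mem_right b ha))
  exact ⟨fun p q => PrimeSpectrum.ext ((key p).trans (key q).symm)⟩

lemma tensor_subsingleton {X Y S : Scheme.{u}} {f : X ⟶ S} {g : Y ⟶ S}
    (T : Scheme.Pullback.Triplet f g) (h : IsIso (f.residueFieldMap T.x)) :
    Subsingleton (Spec T.tensor) := by
  have h1 : IsIso ((S.residueFieldCongr T.hx).inv ≫ f.residueFieldMap T.x) := inferInstance
  have hinr : IsIso (pushout.inr ((S.residueFieldCongr T.hx).inv ≫ f.residueFieldMap T.x)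
    ((S.residueFieldCongr T.hy).inv ≫ g.residueFieldMap T.y)) := inferInstance
  have hb : Function.Bijective (pushout.inr ((S.residueFieldCongr T.hx).inv ≫ f.residueFieldMap T.x)
      ((S.residueFieldCongr T.hy).inv ≫ g.residueFieldMap T.y)).hom :=
    (ConcreteCategory.isIso_iff_bijective _).mp hinr
  have hF : IsField T.tensor :=
    MulEquiv.isField (Field.toIsField (Y.residueField T.y))
      (RingEquiv.ofBijective _ hb).symm.toMulEquiv
  exact subsingleton_primeSpectrum_of_isField hF

lemma key {X Y S : Scheme.{u}} (f : X ⟶ S) (g : Y ⟶ S) [Subsingleton Y] (x : X) (y : Y)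
    (hxy : f x = g y) (h : IsIso (f.residueFieldMap x)) :
    ∃! z : ↥(pullback f g), (pullback.fst f g).base z = x := by
  let T₀ : Scheme.Pullback.Triplet f g := ⟨x, y, f x, rfl, hxy.symm⟩
  haveI : Subsingleton (Spec T₀.tensor) := tensor_subsingleton T₀ h
  have key : ∀ z : ↥(pullback f g), (pullback.fst f g) z = x →
      ∃ p : Spec T₀.tensor, z = Scheme.Pullback.carrierEquiv.symm ⟨T₀, p⟩ := by
    intro z hz
    obtain ⟨⟨T, p⟩, rfl⟩ := Scheme.Pullback.carrierEquiv.symm.surjective z
    have hT : T = T₀ := by
      apply Scheme.Pullback.Triplet.ext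
      · exact ((Scheme.Pullback.carrierEquiv_symm_fst T p).symm.trans hz)
      · exact Subsingleton.elim _ _
    subst hT
    exact ⟨p, rfl⟩
  obtain ⟨z₀, hz₀, -⟩ := Scheme.Pullback.exists_preimage_pullback (f := f) (g := g) x y hxy
  refine ⟨z₀, hz₀, ?_⟩
  intro z hz
  obtain ⟨p, rfl⟩ := key z hz
  obtain ⟨p₀, rfl⟩ := key z₀ hz₀
  rw [Subsingleton.elim p p₀]

/-- Given a morphism of schemes f : X ⟶ Y and a point x ∈ X with image y = f(x), such that the residue
field map κ(y) → κ(x) is bijective; let ℓ be an algebraic extension field of κ(y) and form the base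
change X ×_Y Spec ℓ along Spec ℓ ⟶ Spec κ(y) ⟶ Y. Then there is exactly one point of X ×_Y Spec ℓ
mapping to x under the first projection. (The published statement takes ℓ to be an algebraic closure
of κ(y), noting that any algebraic extension works, and also identifies the local ring at the point
with O_{X,x} ⊗_{O_{Y,y}} ℓ; this row allows any algebraic extension ℓ and states only the first
assertion.) -/
theorem result {X Y : Scheme.{u}} (f : X ⟶ Y) (x : ↥X)
    (hx : Function.Bijective (f.residueFieldMap x).hom)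
    (ℓ : Type u) [Field ℓ] [Algebra (Y.residueField (f.base x)) ℓ] [Algebra.IsAlgebraic (Y.residueField (f.base x)) ℓ] :
    ∃! z : ↥(pullback f (Spec.map (CommRingCat.ofHom (algebraMap (Y.residueField (f.base x)) ℓ)) ≫ Y.fromSpecResidueField (f.base x))),
      (pullback.fst f (Spec.map (CommRingCat.ofHom (algebraMap (Y.residueField (f.base x)) ℓ)) ≫ Y.fromSpecResidueField (f.base x))).base z = x := by
  haveI : Subsingleton (Spec (CommRingCat.of ℓ)) :=
    subsingleton_primeSpectrum_of_isField (Field.toIsField ℓ)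
  haveI hiso : IsIso (f.residueFieldMap x) := (ConcreteCategory.isIso_iff_bijective _).mpr hx
  refine key f _ x (⊥ : PrimeSpectrum ℓ) ?_ hiso
  rw [Scheme.Hom.comp_apply, Scheme.fromSpecResidueField_apply]

end Groth.Agent.S14679
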