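import Groth.Statements.S14695
import Mathlib
import Groth.Agent.H40.FpqcMap
import Groth.Agent.S13152
import Groth.Agent.S0084

set_option autoImplicit false
universe u
open CategoryTheory AlgebraicGeometry
open NonAbH1

namespace Groth.Agent.S14695


section Helpers
open AlgebraicGeometry CategoryTheory CategoryTheory.Limits MonoidalCategory CartesianMonoidalCategory MonObj
open Groth.Agent.H40.FpqcFam

theorem pts_unique {X : Scheme.{u}} {G G' P P' : Over X} [GrpObj G] [GrpObj G'] (g : G ⟶ G')
    [IsMonHom g] {a : AlgGrp.Action G P} {a' : AlgGrp.Action G' P'}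
    (hps : NonAbH1.IsPseudoTorsorSch a) (hps' : NonAbH1.IsPseudoTorsorSch a')
    {f : P ⟶ P'} (hf : a.act ≫ f = lift (fst G P ≫ g) (snd G P ≫ f) ≫ a'.act)
    {T : Over X} (hinj : Function.Injective (fun c : T ⟶ G => c ≫ g))
    (p q : T ⟶ P) (hpq : p ≫ f = q ≫ f) : p = q := by
  have h1 : lift (lift q p ≫ dv hps) p ≫ a.act = q := dv_act hps q p
  have h2 := equiv_pts hf (lift q p ≫ dv hps) p
  rw [h1] at h2
  have h3 : lift ((lift q p ≫ dv hps) ≫ g) (p ≫ f) ≫ a'.act
      = lift (1 : T ⟶ G') (p ≫ f) ≫ a'.act := by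
    rw [← h2, AlgGrp.Action.lift_one_act, hpq]
  have h4 : (lift q p ≫ dv hps) ≫ g = 1 := act_free hps' _ _ _ h3
  have h5 : lift q p ≫ dv hps = 1 := by
    apply hinj
    show (lift q p ≫ dv hps) ≫ g = (1 : T ⟶ G) ≫ g
    rw [h4, MonObj.one_comp]
  rw [← h1, h5, AlgGrp.Action.lift_one_act]

theorem pts_exists {X : Scheme.{u}} {G G' P P' : Over X} [GrpObj G] [GrpObj G'] (g : G ⟶ G')
    {a : AlgGrp.Action G P} {a' : AlgGrp.Action G' P'}
    (hps' : NonAbH1.IsPseudoTorsorSch a')
    {f : P ⟶ P'} (hf : a.act ≫ f = lift (fst G P ≫ g) (snd G P ≫ f) ≫ a'.act)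
    {T : Over X} (hsurj : Function.Surjective (fun c : T ⟶ G => c ≫ g))
    (p : T ⟶ P) (s : T ⟶ P') : ∃ q : T ⟶ P, q ≫ f = s := by
  obtain ⟨c, hc⟩ := hsurj (lift s (p ≫ f) ≫ dv hps')
  have hc' : c ≫ g = lift s (p ≫ f) ≫ dv hps' := hc
  refine ⟨lift c p ≫ a.act, ?_⟩
  rw [equiv_pts hf c p, hc']
  exact dv_act hps' s (p ≫ f)

theorem comp_bijective_of_isIso_pullback {X Y : Scheme.{u}} (j : Y ⟶ X) {G G' : Over X}
    (g : G ⟶ G') (hg : IsIso ((Over.pullback j).map g)) (T' : Over Y) :
    Function.Bijective (fun c : (Over.map j).obj T' ⟶ G => c ≫ g) := by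
  have hnat : ∀ c : (Over.map j).obj T' ⟶ G,
      (Over.mapPullbackAdj j).homEquiv T' G' (c ≫ g)
        = (Over.mapPullbackAdj j).homEquiv T' G c ≫ (Over.pullback j).map g :=
    fun c => (Over.mapPullbackAdj j).homEquiv_naturality_right c g
  constructor
  · intro c₁ c₂ h
    have h' : c₁ ≫ g = c₂ ≫ g := h
    apply ((Over.mapPullbackAdj j).homEquiv T' G).injective
    have h2 := congrArg ((Over.mapPullbackAdj j).homEquiv T' G') h'
    rw [hnat, hnat] at h2
    exact (cancel_mono ((Over.pullback j).map g)).mp h2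
  · intro d
    refine ⟨((Over.mapPullbackAdj j).homEquiv T' G).symm
      ((Over.mapPullbackAdj j).homEquiv T' G' d ≫ inv ((Over.pullback j).map g)), ?_⟩
    apply ((Over.mapPullbackAdj j).homEquiv T' G').injective
    show (Over.mapPullbackAdj j).homEquiv T' G' (_ ≫ g) = _
    rw [hnat, Equiv.apply_symm_apply, Category.assoc, IsIso.inv_hom_id, Category.comp_id]

theorem surjective_of_locallyTrivial {X : Scheme.{u}} {P : Over X}
    (h : NonAbH1.IsLocallyTrivialFor Scheme.fppfPrecoverage P) : Surjective P.hom := by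
  obtain ⟨R, hR, hsec⟩ := h
  have h1 : R ∈ Scheme.jointlySurjectivePrecoverage _ := hR.1
  rw [Presieve.mem_comap_jointlySurjectivePrecoverage_iff] at h1
  refine ⟨fun x => ?_⟩
  obtain ⟨Y, e, he, y, hy⟩ := h1 x
  obtain ⟨s, hs⟩ := hsec e he
  refine ⟨s y, ?_⟩
  have h2 : P.hom (s y) = (s ≫ P.hom) y := rfl
  rw [h2, hs]
  exact hy

theorem exists_generic_lift {X Y : Scheme.{u}} [Nonempty Y] [Subsingleton Y] [IsReduced Y]
    (j : Y ⟶ X)
    {G G' P P' : Over X} [GrpObj G] [GrpObj G'] (g : G ⟶ G') [IsMonHom g]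
    (hg : IsIso ((Over.pullback j).map g))
    {a : AlgGrp.Action G P} {a' : AlgGrp.Action G' P'}
    (hps : NonAbH1.IsPseudoTorsorSch a) (hps' : NonAbH1.IsPseudoTorsorSch a')
    {f : P ⟶ P'} (hf : a.act ≫ f = lift (fst G P ≫ g) (snd G P ≫ f) ≫ a'.act)
    [Surjective P.hom]
    (sg : X ⟶ P'.left) (hsg : sg ≫ P'.hom = 𝟙 X)
    {F : Scheme.{u}} (i : F ⟶ P.left) (pr : F ⟶ X) [IsFinite pr]
    (hF : IsPullback i pr f.left sg) :
    ∃ s₀ : Y ⟶ F, s₀ ≫ pr = j := by
  have hc : i ≫ f.left = pr ≫ sg := hF.w
  have hi : i ≫ P.hom = pr := by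
    have h2 := congrArg (· ≫ P'.hom) hc
    simp only [Category.assoc, hsg, Category.comp_id, Over.w] at h2
    exact h2
  have hk : pullback.fst pr j ≫ pr = pullback.snd pr j ≫ j := pullback.condition
  haveI : Mono (pullback.snd pr j) := by
    constructor
    intro T u v huv
    have e1 : (u ≫ pullback.fst pr j ≫ i) ≫ P.hom = (u ≫ pullback.snd pr j) ≫ j := by
      simp only [Category.assoc, hi, hk]
    have e2 : (v ≫ pullback.fst pr j ≫ i) ≫ P.hom = (u ≫ pullback.snd pr j) ≫ j := by
      rw [huv]; simp only [Category.assoc, hi, hk]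
    have e3 : (u ≫ pullback.fst pr j ≫ i) ≫ f.left = (v ≫ pullback.fst pr j ≫ i) ≫ f.left := by
      calc (u ≫ pullback.fst pr j ≫ i) ≫ f.left
          = (u ≫ pullback.snd pr j) ≫ j ≫ sg := by
            simp only [Category.assoc, hc, reassoc_of% hk]
        _ = (v ≫ pullback.snd pr j) ≫ j ≫ sg := by rw [huv]
        _ = (v ≫ pullback.fst pr j ≫ i) ≫ f.left := by
            simp only [Category.assoc, hc, reassoc_of% hk]
    have key := pts_unique g hps hps' hf
      (comp_bijective_of_isIso_pullback j g hg (Over.mk (u ≫ pullback.snd pr j))).1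
      (Over.homMk (u ≫ pullback.fst pr j ≫ i) e1) (Over.homMk (v ≫ pullback.fst pr j ≫ i) e2)
      (by ext; exact e3)
    have hleft : u ≫ pullback.fst pr j ≫ i = v ≫ pullback.fst pr j ≫ i :=
      congrArg CommaMorphism.left key
    apply pullback.hom_ext
    · apply hF.hom_ext
      · simpa only [Category.assoc] using hleft
      · calc (u ≫ pullback.fst pr j) ≫ pr = (u ≫ pullback.snd pr j) ≫ j := by
              simp only [Category.assoc, hk]
          _ = (v ≫ pullback.snd pr j) ≫ j := by rw [huv]
          _ = (v ≫ pullback.fst pr j) ≫ pr := by simp only [Category.assoc, hk]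
    · exact huv
  haveI : Nonempty ↥(pullback pr j) := by
    haveI : Surjective (pullback.snd P.hom j) := inferInstance
    obtain ⟨y⟩ := ‹Nonempty ↥Y›
    obtain ⟨z, -⟩ := (pullback.snd P.hom j).surjective y
    have e1 : pullback.fst P.hom j ≫ P.hom = pullback.snd P.hom j ≫ j := pullback.condition
    have e2 : (pullback.snd P.hom j ≫ j ≫ sg) ≫ P'.hom = pullback.snd P.hom j ≫ j := by
      simp only [Category.assoc, hsg, Category.comp_id]
    obtain ⟨q, hq⟩ := pts_exists g hps' hf
      (comp_bijective_of_isIso_pullback j g hg (Over.mk (pullback.snd P.hom j))).2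
      (Over.homMk (pullback.fst P.hom j) e1)
      (Over.homMk (pullback.snd P.hom j ≫ j ≫ sg) e2)
    have hql : (q.left : pullback P.hom j ⟶ P.left) ≫ f.left = pullback.snd P.hom j ≫ j ≫ sg :=
      congrArg CommaMorphism.left hq
    have hw : (q.left : pullback P.hom j ⟶ P.left) ≫ f.left = (pullback.snd P.hom j ≫ j) ≫ sg := by
      rw [hql, Category.assoc]
    exact ⟨(pullback.lift (hF.lift (q.left : pullback P.hom j ⟶ P.left) (pullback.snd P.hom j ≫ j) hw)
      (pullback.snd P.hom j) (hF.lift_snd _ _ _)) z⟩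
  haveI : IsClosedImmersion (pullback.snd pr j) :=
    (IsClosedImmersion.iff_isFinite_and_mono _).mpr ⟨inferInstance, inferInstance⟩
  haveI : Surjective (pullback.snd pr j) := by
    refine ⟨fun z => ?_⟩
    obtain ⟨w⟩ := ‹Nonempty ↥(pullback pr j)›
    exact ⟨w, Subsingleton.elim _ _⟩
  haveI : IsIso (pullback.snd pr j) := isIso_of_isClosedImmersion_of_surjective _
  refine ⟨inv (pullback.snd pr j) ≫ pullback.fst pr j, ?_⟩
  rw [Category.assoc, hk, IsIso.inv_hom_id_assoc]

theorem main {X : Scheme.{u}} [IsIntegral X]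
    (hX : Pi1.IsNormalScheme X) (G G' : Over X) [GrpObj G] [GrpObj G']
    [IsFinite G.hom] [Flat G.hom] [IsFinite G'.hom] [Flat G'.hom]
    (g : G ⟶ G') [IsMonHom g]
    (hg : IsIso ((Over.pullback (X.fromSpecStalk (genericPoint X))).map g))
    (P : Over X) (a : AlgGrp.Action G P) (hP : NonAbH1.IsTorsorFor Scheme.fppfPrecoverage a)
    (P' : Over X) (a' : AlgGrp.Action G' P') (hP' : NonAbH1.IsTorsorFor Scheme.fppfPrecoverage a')
    (hpush : NonAbH1.IsPushforwardAlongSch g a a') (htriv : NonAbH1.HasSectionOver P' (𝟙 X)) :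
    NonAbH1.HasSectionOver P (𝟙 X) := by
  obtain ⟨hps, R, hR, hsec⟩ := hP
  obtain ⟨hps', R', hR', hsec'⟩ := hP'
  obtain ⟨f, hf⟩ := hpush
  obtain ⟨sg, hsg⟩ := htriv
  haveI : IsFinite P.hom := Groth.Agent.H40.FpqcFam.transfer (a := a) @IsFinite
    Groth.Agent.S0084.result
    ⟨hps, R, Scheme.fppfPrecoverage_le_fpqcPrecoverage _ hR, hsec⟩ inferInstance
  haveI : IsFinite P'.hom := Groth.Agent.H40.FpqcFam.transfer (a := a') @IsFinite
    Groth.Agent.S0084.result
    ⟨hps', R', Scheme.fppfPrecoverage_le_fpqcPrecoverage _ hR', hsec'⟩ inferInstance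
  haveI : Surjective P.hom := surjective_of_locallyTrivial ⟨R, hR, hsec⟩
  haveI : IsClosedImmersion (sg ≫ P'.hom) := by rw [hsg]; infer_instance
  haveI : IsClosedImmersion sg := IsClosedImmersion.of_comp sg P'.hom
  have hc : pullback.fst f.left sg ≫ f.left = pullback.snd f.left sg ≫ sg := pullback.condition
  have hi : pullback.fst f.left sg ≫ P.hom = pullback.snd f.left sg := by
    have h2 := congrArg (· ≫ P'.hom) hc
    simp only [Category.assoc, hsg, Category.comp_id, Over.w] at h2
    exact h2
  haveI : IsFinite (pullback.snd f.left sg) := by rw [← hi]; infer_instance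
  haveI : Subsingleton ↥(Spec (X.presheaf.stalk (genericPoint X))) :=
    show Subsingleton (PrimeSpectrum (X.presheaf.stalk (genericPoint X))) from inferInstance
  haveI : Nonempty ↥(Spec (X.presheaf.stalk (genericPoint X))) :=
    show Nonempty (PrimeSpectrum (X.presheaf.stalk (genericPoint X))) from inferInstance
  haveI : IsReduced (Spec (X.presheaf.stalk (genericPoint X))) := inferInstance
  obtain ⟨s₀, hs₀⟩ := exists_generic_lift (X.fromSpecStalk (genericPoint X)) g hg hps hps' hf
    sg hsg (pullback.fst f.left sg) (pullback.snd f.left sg) (IsPullback.of_hasPullback f.left sg)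
  obtain ⟨s, hs⟩ := Groth.Agent.S13152.main hX (pullback.snd f.left sg) s₀ hs₀
  exact ⟨s ≫ pullback.fst f.left sg, by rw [Category.assoc, hi, hs]⟩

end Helpers


/-- In the case where the morphism Y → X is the identity of X: let X be a normal integral scheme
(integral, with every local ring an integrally closed domain), G and G' X-group schemes which are
finite and flat over X, and g : G → G' a homomorphism which becomes an isomorphism after base change
to the spectrum of the function field of X. If an fppf G-torsor P over X becomes trivial after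
extension of the structure group along g — there is an fppf G'-torsor P' over X with a g-equivariant
X-morphism P → P', and P' has a section over X — then P has a section over X. (The published
statement takes G, G' commutative and all schemes Noetherian, allows also composition with the
pull-back along a morphism Y → X admitting a rational section, and is phrased as injectivity of
H¹(X, G) → H¹(Y, G'_Y); this row is the case where Y → X is the identity of X, as the trivial-kernel
assertion the argument establishes, for which commutativity and the Noetherian condition are not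
needed.) -/
theorem result {X : Scheme.{u}} [IsIntegral X]
    (hX : Pi1.IsNormalScheme X) (G G' : Over X) [GrpObj G] [GrpObj G']
    [IsFinite G.hom] [Flat G.hom] [IsFinite G'.hom] [Flat G'.hom]
    (g : G ⟶ G') [IsMonHom g]
    (hg : IsIso ((Over.pullback (X.fromSpecStalk (genericPoint X))).map g))
    (P : Over X) (a : AlgGrp.Action G P) (hP : NonAbH1.IsTorsorFor Scheme.fppfPrecoverage a)
    (P' : Over X) (a' : AlgGrp.Action G' P') (hP' : NonAbH1.IsTorsorFor Scheme.fppfPrecoverage a')
    (hpush : NonAbH1.IsPushforwardAlongSch g a a') (htriv : NonAbH1.HasSectionOver P' (𝟙 X)) :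
    NonAbH1.HasSectionOver P (𝟙 X) := by
  exact main hX G G' g hg P a hP P' a' hP' hpush htriv
end Groth.Agent.S14695
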