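import Groth.Statements.S14688
import Mathlib
import Groth.Agent.H54.AlphaNGeneric
import Groth.Agent.S14695

set_option autoImplicit false
universe u
open CategoryTheory AlgebraicGeometry
open SekSuwa

namespace Groth.Agent.S14688


section Helpers
open AlgebraicGeometry CategoryTheory CategoryTheory.Limits SekSuwa

theorem main (R : Type u) [CommRing R] [IsDomain R] [IsDiscreteValuationRing R] [CharZero R]
    (p : ℕ) [Fact p.Prime] [CharP (IsLocalRing.ResidueField R) p]
    (n : ℕ) (hn : 0 < n) (lam : R) (h : SekSuwa.DivCond lam (p ^ n))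
    (X : Scheme.{u}) [IsIntegral X] (hX : Pi1.IsNormalScheme X)
    (f : X ⟶ Spec (CommRingCat.of R)) [Flat f] [Surjective f]
    (P : Over X) (a : AlgGrp.Action (Red.bc f (SekSuwa.GK R lam (p ^ n) h)) P)
    (hP : NonAbH1.IsTorsorFor Scheme.fppfPrecoverage a)
    (P' : Over X) (a' : AlgGrp.Action (Red.bc f (Red.diag R (ZMod (p ^ n)))) P')
    (hP' : NonAbH1.IsTorsorFor Scheme.fppfPrecoverage a')
    (hpush : NonAbH1.IsPushforwardAlongSch
      ((Over.pullback f).map (SekSuwa.alphaN R lam (p ^ n) h)) a a')
    (htriv : NonAbH1.HasSectionOver P' (𝟙 X)) :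
    NonAbH1.HasSectionOver P (𝟙 X) := by
  have hN : 0 < p ^ n := pow_pos (Fact.out : p.Prime).pos n
  haveI : NeZero (p ^ n) := ⟨hN.ne'⟩
  have hGK := Groth.Agent.H43.SekSuwaAK.isFinLocFreeOfDeg_GK R lam (p ^ n) h hN
  haveI : IsFinite (SekSuwa.GK R lam (p ^ n) h).hom := hGK.1.1
  haveI : Flat (SekSuwa.GK R lam (p ^ n) h).hom := hGK.1.2.1
  haveI : IsFinite (Red.diag R (ZMod (p ^ n))).hom := by
    show IsFinite (Spec.map (CommRingCat.ofHom
      (algebraMap R (MonoidAlgebra R (Multiplicative (ZMod (p ^ n)))))))
    rw [IsFinite.SpecMap_iff, CommRingCat.hom_ofHom]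
    exact RingHom.finite_algebraMap.2
      (Module.Finite.equiv (MonoidAlgebra.coeffLinearEquiv R).symm)
  haveI : Flat (Red.diag R (ZMod (p ^ n))).hom := by
    show Flat (Spec.map (CommRingCat.ofHom
      (algebraMap R (MonoidAlgebra R (Multiplicative (ZMod (p ^ n)))))))
    rw [Flat.SpecMap_iff, CommRingCat.hom_ofHom]
    haveI : Module.Free R (MonoidAlgebra R (Multiplicative (ZMod (p ^ n)))) :=
      Module.Free.of_equiv (MonoidAlgebra.coeffLinearEquiv R).symm
    exact RingHom.flat_algebraMap_iff.2 inferInstance
  haveI : IsFinite (Red.bc f (SekSuwa.GK R lam (p ^ n) h)).hom :=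
    show IsFinite (pullback.snd (SekSuwa.GK R lam (p ^ n) h).hom f) from inferInstance
  haveI : Flat (Red.bc f (SekSuwa.GK R lam (p ^ n) h)).hom :=
    show Flat (pullback.snd (SekSuwa.GK R lam (p ^ n) h).hom f) from inferInstance
  haveI : IsFinite (Red.bc f (Red.diag R (ZMod (p ^ n)))).hom :=
    show IsFinite (pullback.snd (Red.diag R (ZMod (p ^ n))).hom f) from inferInstance
  haveI : Flat (Red.bc f (Red.diag R (ZMod (p ^ n)))).hom :=
    show Flat (pullback.snd (Red.diag R (ZMod (p ^ n))).hom f) from inferInstance
  haveI : IsMonHom ((Over.pullback f).map (SekSuwa.alphaN R lam (p ^ n) h)) := inferInstance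
  have hg : IsIso ((Over.pullback (X.fromSpecStalk (genericPoint X))).map
      ((Over.pullback f).map (SekSuwa.alphaN R lam (p ^ n) h))) := by
    obtain ⟨psi, hpsi⟩ : ∃ psi : CommRingCat.of R ⟶ X.presheaf.stalk (genericPoint X),
        Spec.map psi = X.fromSpecStalk (genericPoint X) ≫ f := ⟨_, Spec.map_preimage _⟩
    have hF : IsField (X.presheaf.stalk (genericPoint X)) :=
      isField_stalk_of_closure_mem_irreducibleComponents X _
        (by simp [irreducibleComponents_eq_singleton])
    haveI : Nontrivial (X.presheaf.stalk (genericPoint X)) := hF.nontrivial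
    have hne : psi.hom lam ≠ 0 := by
      intro h0
      have hgen : f.base (genericPoint X) = genericPoint (Spec (CommRingCat.of R)) := by
        obtain ⟨t, ht, hft⟩ := (Flat.generalizingMap (f := f))
          (genericPoint_specializes (f.base (genericPoint X)))
        have : t = genericPoint X := (ht.antisymm (genericPoint_specializes t)).eq
        rw [← hft, this]
      have hj : (X.fromSpecStalk (genericPoint X)).base
          (IsLocalRing.closedPoint (X.presheaf.stalk (genericPoint X))) = genericPoint X :=
        Scheme.fromSpecStalk_closedPoint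
      have h2 : (Spec.map psi).base (IsLocalRing.closedPoint (X.presheaf.stalk (genericPoint X)))
          = f.base (genericPoint X) := by
        rw [hpsi]
        show f.base ((X.fromSpecStalk (genericPoint X)).base
          (IsLocalRing.closedPoint (X.presheaf.stalk (genericPoint X)))) = _
        rw [hj]
      have h3 : lam ∈ ((Spec.map psi).base
          (IsLocalRing.closedPoint (X.presheaf.stalk (genericPoint X)))).asIdeal := by
        show lam ∈ Ideal.comap psi.hom
          (IsLocalRing.closedPoint (X.presheaf.stalk (genericPoint X))).asIdeal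
        rw [Ideal.mem_comap, h0]
        exact zero_mem _
      have h6 : (Spec.map psi).base (IsLocalRing.closedPoint (X.presheaf.stalk (genericPoint X)))
          = (⊥ : PrimeSpectrum R) := by
        rw [h2, hgen]
        exact genericPoint_eq_bot_of_affine (CommRingCat.of R)
      rw [h6] at h3
      have h4 : lam ∈ (⊥ : Ideal R) := h3
      exact nonZeroDivisors.ne_zero h.1 (Ideal.mem_bot.mp h4)
    have hu : IsUnit (psi.hom lam) := by
      obtain ⟨b, hb⟩ := hF.mul_inv_cancel hne
      exact IsUnit.of_mul_eq_one b hb
    have h1 := Groth.Agent.H54.AlphaNGeneric.isIso_pullback_alphaN h hN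
      (X.presheaf.stalk (genericPoint X)) psi hu
    rw [hpsi] at h1
    exact (NatIso.isIso_map_iff (Over.pullbackComp (X.fromSpecStalk (genericPoint X)) f)
      (SekSuwa.alphaN R lam (p ^ n) h)).mp h1
  exact Groth.Agent.S14695.result hX _ _ _ hg P a hP P' a' hP' hpush htriv

end Helpers


/-- Let R be a discrete valuation ring of characteristic zero and residue characteristic p, n ≥ 1, λ ∈ R
satisfying the divisibility condition under which the finite flat R-group scheme G_{λ,n} (the kernel
of ψ on the one-parameter group with law s + t + λst, of order p^n) and its homomorphism α^{λ,n} to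
μ_{p^n} are defined, and X a normal integral scheme which is faithfully flat over Spec R. If an fppf
torsor P over X under G_{λ,n} becomes trivial after extension of the structure group along α^{λ,n} —
there is an fppf μ_{p^n}-torsor P' over X with an α^{λ,n}-equivariant X-morphism P → P', and P' has
a section over X — then P has a section over X. So H¹(X, G_{λ,n}) → H¹(X, μ_{p^n}) has trivial
kernel, and the groups H¹(X, G_{π^i,n}) for decreasing i form an increasing filtration of H¹(X,
μ_{p^n}). (The published statement is the filtration itself, for the commutative groups in question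
injectivity of these homomorphisms; the trivial-kernel assertion stated here is what the argument
establishes.) -/
theorem result (R : Type u) [CommRing R] [IsDomain R] [IsDiscreteValuationRing R] [CharZero R]
    (p : ℕ) [Fact p.Prime] [CharP (IsLocalRing.ResidueField R) p]
    (n : ℕ) (hn : 0 < n) (lam : R) (h : SekSuwa.DivCond lam (p ^ n))
    (X : Scheme.{u}) [IsIntegral X] (hX : Pi1.IsNormalScheme X)
    (f : X ⟶ Spec (CommRingCat.of R)) [Flat f] [Surjective f]
    (P : Over X) (a : AlgGrp.Action (Red.bc f (SekSuwa.GK R lam (p ^ n) h)) P)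
    (hP : NonAbH1.IsTorsorFor Scheme.fppfPrecoverage a)
    (P' : Over X) (a' : AlgGrp.Action (Red.bc f (Red.diag R (ZMod (p ^ n)))) P')
    (hP' : NonAbH1.IsTorsorFor Scheme.fppfPrecoverage a')
    (hpush : NonAbH1.IsPushforwardAlongSch ((Over.pullback f).map (SekSuwa.alphaN R lam (p ^ n) h)) a a')
    (htriv : NonAbH1.HasSectionOver P' (𝟙 X)) :
    NonAbH1.HasSectionOver P (𝟙 X) := by
  exact main R p n hn lam h X hX f P a hP P' a' hP' hpush htriv
end Groth.Agent.S14688
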