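import Groth.Statements.S14692
import Mathlib
import Groth.Agent.S13158

set_option autoImplicit false
universe u
open CAlg

namespace Groth.Agent.S14692

section aux
open Polynomial

lemma coefG {R : Type*} [CommRing R] (lam : R) (N : ℕ) (G : R[X])
    (hG : (1 + C lam * X) ^ N = 1 + C (lam ^ N) * G) (k : ℕ) :
    ((N.choose k : ℕ) : R) * lam ^ k = (if k = 0 then 1 else 0) + lam ^ N * G.coeff k := by
  have h1 : ((1 + C lam * X : R[X]) ^ N).coeff k = ((N.choose k : ℕ) : R) * lam ^ k := by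
    have h2 : (1 + C lam * X : R[X]) ^ N = ((1 + X : R[X]) ^ N).comp (C lam * X) := by
      simp only [pow_comp, add_comp, one_comp, X_comp]
    rw [h2, comp_C_mul_X_coeff, coeff_one_add_X_pow]
  rw [← h1, hG, coeff_add, coeff_C_mul, coeff_one]

lemma polyFacts {R : Type*} [CommRing R] [IsDomain R] (p : ℕ) (hp : p.Prime) (m : ℕ) (ϖ : R)
    (hϖ0 : ϖ ≠ 0) (j : ℕ) (hj : ϖ ^ (p ^ m * (p - 1) * (j + 1)) ∣ (p : R)) :
    ∃ Gj H Gj1 : R[X],
      (1 + C (ϖ ^ j) * X) ^ p ^ (m + 1) = 1 + C ((ϖ ^ j) ^ p ^ (m + 1)) * Gj ∧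
      Gj = X ^ p ^ (m + 1) + C ϖ * H ∧ Gj.Monic ∧ Gj.natDegree = p ^ (m + 1) ∧
      (1 + C (ϖ ^ (j + 1)) * X) ^ p ^ (m + 1)
        = 1 + C ((ϖ ^ (j + 1)) ^ p ^ (m + 1)) * Gj1 := by
  have hdj : (ϖ ^ j) ^ (p ^ m * (p - 1)) ∣ (p : R) := by
    refine Dvd.dvd.trans ?_ hj
    rw [← pow_mul]
    apply pow_dvd_pow
    rw [mul_comm]
    exact Nat.mul_le_mul_left _ (Nat.le_succ j)
  have hdj1 : (ϖ ^ (j + 1)) ^ (p ^ m * (p - 1)) ∣ (p : R) := by
    rw [← pow_mul, mul_comm]; exact hj
  obtain ⟨Gj, hGj⟩ := Groth.Agent.S13158.Psi p hp m (ϖ ^ j) hdj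
  obtain ⟨Gj1, hGj1⟩ := Groth.Agent.S13158.Psi p hp m (ϖ ^ (j + 1)) hdj1
  obtain ⟨N, hN⟩ : ∃ N, N = p ^ (m + 1) := ⟨_, rfl⟩
  rw [← hN] at hGj hGj1 ⊢
  have hN1 : 1 ≤ N := by rw [hN]; exact Nat.one_le_pow _ _ hp.pos
  have hc := coefG (ϖ ^ j) N Gj hGj
  have hc1 := coefG (ϖ ^ (j + 1)) N Gj1 hGj1
  have hlamN : (ϖ ^ j) ^ N ≠ 0 := pow_ne_zero N (pow_ne_zero j hϖ0)
  have hGN : Gj.coeff N = 1 := by
    have h := hc N
    rw [Nat.choose_self, Nat.cast_one, one_mul, if_neg (by omega), zero_add] at h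
    exact (mul_left_cancel₀ hlamN (by rw [mul_one]; exact h)).symm
  have hGk : ∀ k, N < k → Gj.coeff k = 0 := by
    intro k hk
    have h := hc k
    rw [Nat.choose_eq_zero_of_lt hk, Nat.cast_zero, zero_mul, if_neg (by omega), zero_add] at h
    rcases mul_eq_zero.mp h.symm with h0 | h0
    · exact absurd h0 hlamN
    · exact h0
  have hG0 : Gj.coeff 0 = 0 := by
    have h := hc 0
    rw [Nat.choose_zero_right, Nat.cast_one, pow_zero, mul_one, if_pos rfl] at h
    have h' : (ϖ ^ j) ^ N * Gj.coeff 0 = 0 := by linear_combination -h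
    rcases mul_eq_zero.mp h' with h0 | h0
    · exact absurd h0 hlamN
    · exact h0
  have hmid : ∀ k, 1 ≤ k → k < N → ϖ ∣ Gj.coeff k := by
    intro k hk1 hkN
    have ha := hc k
    have hb := hc1 k
    rw [if_neg (by omega), zero_add] at ha hb
    have e1 : (ϖ ^ j) ^ N * (ϖ ^ N * Gj1.coeff k - Gj.coeff k * ϖ ^ k) = 0 := by
      have e2 : (ϖ ^ (j + 1)) ^ k = (ϖ ^ j) ^ k * ϖ ^ k := by rw [pow_succ, mul_pow]
      have e3 : (ϖ ^ (j + 1)) ^ N = (ϖ ^ j) ^ N * ϖ ^ N := by rw [pow_succ, mul_pow]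
      rw [e2, e3] at hb
      linear_combination (ϖ ^ k) * ha - hb
    have e4 : ϖ ^ N * Gj1.coeff k - Gj.coeff k * ϖ ^ k = 0 :=
      (mul_eq_zero.mp e1).resolve_left hlamN
    have e5 : ϖ ^ N = ϖ ^ k * (ϖ * ϖ ^ (N - k - 1)) := by
      rw [← pow_succ', ← pow_add]; congr 1; omega
    have e6 : ϖ ^ k * (ϖ * ϖ ^ (N - k - 1) * Gj1.coeff k - Gj.coeff k) = 0 := by
      rw [e5] at e4; linear_combination e4
    have e7 := (mul_eq_zero.mp e6).resolve_left (pow_ne_zero k hϖ0)
    exact ⟨ϖ ^ (N - k - 1) * Gj1.coeff k, by linear_combination -e7⟩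
  have hdvd : C ϖ ∣ Gj - X ^ N := by
    rw [C_dvd_iff_dvd_coeff]
    intro k
    rw [coeff_sub, coeff_X_pow]
    rcases Nat.lt_trichotomy k N with hk | hk | hk
    · rw [if_neg (by omega), sub_zero]
      rcases Nat.eq_zero_or_pos k with h0 | h0
      · rw [h0, hG0]; exact dvd_zero _
      · exact hmid k h0 hk
    · rw [if_pos hk, hk, hGN, sub_self]; exact dvd_zero _
    · rw [if_neg (by omega), hGk k hk, sub_zero]; exact dvd_zero _
  obtain ⟨H, hH⟩ := hdvd
  have hGle : Gj.natDegree ≤ N := natDegree_le_iff_coeff_eq_zero.mpr hGk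
  refine ⟨Gj, H, Gj1, hGj, by linear_combination hH,
    monic_of_natDegree_le_of_coeff_eq_one N hGle hGN,
    le_antisymm hGle (le_natDegree_of_ne_zero (by rw [hGN]; exact one_ne_zero)), hGj1⟩

lemma INT {A L : Type*} [CommRing A] [IsDomain A] [IsIntegrallyClosed A] [CommRing L]
    [Algebra A L] (hinj : Function.Injective (algebraMap A L)) (s a : A) (hs : s ≠ 0) (t : L)
    (ht : IsIntegral A t) (h : algebraMap A L a = algebraMap A L s * t) : s ∣ a := by
  obtain ⟨P, hPm, hP⟩ := ht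
  have e1 : (scaleRoots P s).eval a = 0 := by
    apply hinj
    rw [map_zero, ← eval₂_at_apply, h, scaleRoots_eval₂_mul, hP, mul_zero]
  have hsK : algebraMap A (FractionRing A) s ≠ 0 :=
    (map_ne_zero_iff _ (IsFractionRing.injective A (FractionRing A))).mpr hs
  obtain ⟨y, hy⟩ : ∃ y : FractionRing A,
      algebraMap A (FractionRing A) s * y = algebraMap A (FractionRing A) a :=
    ⟨algebraMap A (FractionRing A) a / algebraMap A (FractionRing A) s, mul_div_cancel₀ _ hsK⟩
  have e2 : P.eval₂ (algebraMap A (FractionRing A)) y = 0 := by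
    have e3 := scaleRoots_eval₂_mul (p := P) (algebraMap A (FractionRing A)) y s
    rw [hy, eval₂_at_apply, e1, map_zero] at e3
    exact (mul_eq_zero.mp e3.symm).resolve_left (pow_ne_zero _ hsK)
  have hint : IsIntegral A y := by
    show ∃ q : Polynomial A, q.Monic ∧ Polynomial.eval₂ (algebraMap A (FractionRing A)) y q = 0
    exact ⟨P, hPm, e2⟩
  obtain ⟨c, hc⟩ := IsIntegrallyClosed.algebraMap_eq_of_integral hint
  refine ⟨c, ?_⟩
  apply IsFractionRing.injective A (FractionRing A)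
  rw [map_mul, hc, hy]

lemma coreK {A L : Type*} [CommRing A] [IsDomain A] [IsIntegrallyClosed A] [CommRing L]
    [Algebra A L] (hιinj : Function.Injective (algebraMap A L)) (π : A) (hπ0 : π ≠ 0)
    (hπL : IsUnit (algebraMap A L π)) (N j : ℕ) (hN : 1 ≤ N) (Gj H Gj1 : A[X])
    (h1 : (1 + C (π ^ j) * X) ^ N = 1 + C ((π ^ j) ^ N) * Gj)
    (h2 : Gj = X ^ N + C π * H) (h3 : Gj.Monic) (h3' : Gj.natDegree = N)
    (h4 : (1 + C (π ^ (j + 1)) * X) ^ N = 1 + C ((π ^ (j + 1)) ^ N) * Gj1)
    (hlift : ∀ a : A, IsUnit (Ideal.Quotient.mk (Ideal.span {π}) a) → IsUnit a)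
    (f g : Aˣ) (f₀ : A) (hfg : (f : A) * (g : A) ^ N = 1 + π ^ (j * N) * f₀)
    (hmax : ∀ (g' : Aˣ) (c : A), (f : A) * (g' : A) ^ N ≠ 1 + π ^ ((j + 1) * N) * c)
    (Z : L) (hZ : Z ^ N = algebraMap A L (f : A))
    (hred : (Ideal.span {algebraMap A (integralClosure A L) π}).IsRadical) (g₀ : A) :
    f₀ - g₀ ^ N ∉ Ideal.span {π} := by
  intro hmem
  obtain ⟨c₀, hc₀⟩ := Ideal.mem_span_singleton.mp hmem
  have hu₀N : (1 + π ^ j * g₀) ^ N = 1 + π ^ (j * N) * (g₀ ^ N + π * H.eval g₀) := by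
    have e := congrArg (Polynomial.eval g₀) h1
    rw [h2] at e
    simp only [eval_pow, eval_add, eval_one, eval_mul, eval_C, eval_X] at e
    rw [e, ← pow_mul]
  have hdiff : (f : A) * (g : A) ^ N - (1 + π ^ j * g₀) ^ N
      = π * (π ^ (j * N) * (c₀ - H.eval g₀)) := by
    rw [hfg, hu₀N]
    linear_combination (π ^ (j * N)) * hc₀
  have hu₀unit : IsUnit (1 + π ^ j * g₀) := by
    apply hlift
    have hpow : (Ideal.Quotient.mk (Ideal.span {π}) (1 + π ^ j * g₀)) ^ N
        = Ideal.Quotient.mk (Ideal.span {π}) ((f : A) * (g : A) ^ N) := by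
      rw [← map_pow]
      symm
      rw [Ideal.Quotient.eq, hdiff]
      exact Ideal.mul_mem_right _ _ (Ideal.subset_span (Set.mem_singleton _))
    have hunit : IsUnit (Ideal.Quotient.mk (Ideal.span {π}) ((f : A) * (g : A) ^ N)) :=
      (f.isUnit.mul (g.isUnit.pow N)).map _
    rw [← hpow] at hunit
    exact (isUnit_pow_iff (by omega)).mp hunit
  obtain ⟨u, hu⟩ := hu₀unit
  obtain ⟨c₂, hc₂⟩ : ∃ c₂ : A, c₂ = (c₀ - H.eval g₀) * ((u⁻¹ : Aˣ) : A) ^ N := ⟨_, rfl⟩
  have hfg' : (f : A) * ((g * u⁻¹ : Aˣ) : A) ^ N = 1 + π ^ (j * N) * (π * c₂) := by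
    have e' : (1 + π ^ j * g₀) ^ N * ((u⁻¹ : Aˣ) : A) ^ N = 1 := by
      rw [← mul_pow, ← hu, Units.mul_inv, one_pow]
    rw [Units.val_mul, mul_pow, hc₂]
    linear_combination (((u⁻¹ : Aˣ) : A) ^ N) * hdiff + e'
  obtain ⟨w, hw⟩ := hπL.exists_right_inv
  obtain ⟨g', hg'⟩ : ∃ g' : Aˣ, g' = g * u⁻¹ := ⟨_, rfl⟩
  rw [← hg'] at hfg'
  obtain ⟨z, hz⟩ : ∃ z : L, z = (Z * algebraMap A L (g' : A) - 1) * w ^ j := ⟨_, rfl⟩
  have hw' : ∀ k : ℕ, algebraMap A L π ^ k * w ^ k = 1 := fun k => by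
    rw [← mul_pow, hw, one_pow]
  have hz1 : 1 + algebraMap A L π ^ j * z = Z * algebraMap A L (g' : A) := by
    rw [hz]; linear_combination (Z * algebraMap A L (g' : A) - 1) * hw' j
  have hZg : (Z * algebraMap A L (g' : A)) ^ N
      = 1 + algebraMap A L π ^ (j * N) * (algebraMap A L π * algebraMap A L c₂) := by
    rw [mul_pow, hZ, ← map_pow, ← map_mul, hfg']
    simp only [map_add, map_one, map_mul, map_pow]
  have hGz : Polynomial.aeval z Gj = algebraMap A L π * algebraMap A L c₂ := by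
    have e := congrArg (Polynomial.aeval z) h1
    simp only [map_pow, map_add, map_one, map_mul, aeval_C, aeval_X] at e
    rw [hz1, hZg] at e
    linear_combination (-(w ^ (j * N))) * e
      - (Polynomial.aeval z Gj - algebraMap A L π * algebraMap A L c₂) * hw' (j * N)
  have hzint : IsIntegral A z := by
    show ∃ q : Polynomial A, q.Monic ∧ Polynomial.eval₂ (algebraMap A L) z q = 0
    refine ⟨Gj - C (π * c₂), ?_, ?_⟩
    · apply h3.sub_of_left
      refine lt_of_le_of_lt degree_C_le ?_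
      exact natDegree_pos_iff_degree_pos.mp (by rw [h3']; exact hN)
    · rw [← aeval_def, map_sub, hGz, aeval_C, map_mul, sub_self]
  obtain ⟨zB, hzB⟩ : ∃ zB : integralClosure A L, (zB : L) = z := ⟨⟨z, hzint⟩, rfl⟩
  have hzBN : zB ^ N = algebraMap A (integralClosure A L) π *
      (algebraMap A (integralClosure A L) c₂ - Polynomial.aeval zB H) := by
    apply Subtype.ext
    have e : Polynomial.aeval z Gj = z ^ N + algebraMap A L π * Polynomial.aeval z H := by
      rw [h2]; simp only [map_add, map_pow, map_mul, aeval_X, aeval_C]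
    simp only [SubmonoidClass.coe_pow, MulMemClass.coe_mul, AddSubgroupClass.coe_sub,
      Subalgebra.coe_algebraMap, aeval_subalgebra_coe, hzB]
    linear_combination hGz - e
  have hzBmem : zB ∈ Ideal.span {algebraMap A (integralClosure A L) π} := by
    apply hred
    exact ⟨N, by
      rw [hzBN]; exact Ideal.mul_mem_right _ _ (Ideal.subset_span (Set.mem_singleton _))⟩
  obtain ⟨z₁, hz₁⟩ := Ideal.mem_span_singleton.mp hzBmem
  have hzz₁ : z = algebraMap A L π * (z₁ : L) := by
    have h := congrArg Subtype.val hz₁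
    simp only [MulMemClass.coe_mul, Subalgebra.coe_algebraMap] at h
    rw [← hzB]; exact h
  have hstep4 : algebraMap A L (π ^ (j * N) * (π * c₂))
      = algebraMap A L (π ^ ((j + 1) * N)) * Polynomial.aeval (z₁ : L) Gj1 := by
    have e := congrArg (Polynomial.aeval (z₁ : L)) h4
    simp only [map_pow, map_add, map_one, map_mul, aeval_C, aeval_X] at e
    have e2 : (1 : L) + algebraMap A L π ^ (j + 1) * (z₁ : L)
        = Z * algebraMap A L (g' : A) := by
      rw [← hz1, hzz₁]; ring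
    rw [e2, hZg] at e
    simp only [map_mul, map_pow]
    linear_combination e
  have htint : IsIntegral A (Polynomial.aeval (z₁ : L) Gj1) := by
    have h := (Polynomial.aeval z₁ Gj1).2
    rw [aeval_subalgebra_coe] at h
    exact h
  obtain ⟨c, hc⟩ := INT hιinj (π ^ ((j + 1) * N)) (π ^ (j * N) * (π * c₂))
    (pow_ne_zero _ hπ0) _ htint hstep4
  exact hmax g' c (by rw [hfg', hc])

lemma coreAdj {A : Type*} [CommRing A] [IsDomain A] [IsIntegrallyClosed A] (π : A) (hπ0 : π ≠ 0)
    (N j : ℕ) (hN : 1 ≤ N) (Gj H Gj1 : A[X])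
    (h1 : (1 + C (π ^ j) * X) ^ N = 1 + C ((π ^ j) ^ N) * Gj)
    (h2 : Gj = X ^ N + C π * H) (h3 : Gj.Monic) (h3' : Gj.natDegree = N)
    (h4 : (1 + C (π ^ (j + 1)) * X) ^ N = 1 + C ((π ^ (j + 1)) ^ N) * Gj1)
    (hlift : ∀ a : A, IsUnit (Ideal.Quotient.mk (Ideal.span {π}) a) → IsUnit a)
    (f g : Aˣ) (f₀ : A) (hfg : (f : A) * (g : A) ^ N = 1 + π ^ (j * N) * f₀)
    (hmax : ∀ (g' : Aˣ) (c : A), (f : A) * (g' : A) ^ N ≠ 1 + π ^ ((j + 1) * N) * c)
    (hred : (Ideal.span {algebraMap A (integralClosure A (AdjoinRoot (Polynomial.X ^ N -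
      Polynomial.C (algebraMap A (Localization.Away π) (f : A))))) π}).IsRadical) (g₀ : A) :
    f₀ - g₀ ^ N ∉ Ideal.span {π} := by
  have hle : Submonoid.powers π ≤ nonZeroDivisors A :=
    powers_le_nonZeroDivisors_of_noZeroDivisors hπ0
  haveI : IsDomain (Localization.Away π) := IsLocalization.isDomain_localization hle
  have hιinj : Function.Injective (algebraMap A (AdjoinRoot (Polynomial.X ^ N -
      Polynomial.C (algebraMap A (Localization.Away π) (f : A))))) := by
    rw [IsScalarTower.algebraMap_eq A (Localization.Away π) (AdjoinRoot _), RingHom.coe_comp]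
    refine Function.Injective.comp ?_ (IsLocalization.injective _ hle)
    rw [AdjoinRoot.algebraMap_eq]
    apply AdjoinRoot.of.injective_of_degree_ne_zero
    rw [degree_X_pow_sub_C (by omega)]
    exact_mod_cast (by omega : N ≠ 0)
  have hπL : IsUnit (algebraMap A (AdjoinRoot (Polynomial.X ^ N -
      Polynomial.C (algebraMap A (Localization.Away π) (f : A)))) π) := by
    rw [IsScalarTower.algebraMap_apply A (Localization.Away π) (AdjoinRoot _) π]
    exact (IsLocalization.Away.algebraMap_isUnit π).map _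
  have hZ : (AdjoinRoot.root (Polynomial.X ^ N -
      Polynomial.C (algebraMap A (Localization.Away π) (f : A)))) ^ N
      = algebraMap A (AdjoinRoot (Polynomial.X ^ N -
          Polynomial.C (algebraMap A (Localization.Away π) (f : A)))) (f : A) := by
    have h := AdjoinRoot.eval₂_root (Polynomial.X ^ N -
      Polynomial.C (algebraMap A (Localization.Away π) (f : A)))
    rw [Polynomial.eval₂_sub, Polynomial.eval₂_pow, Polynomial.eval₂_X, Polynomial.eval₂_C,
      sub_eq_zero] at h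
    rw [h, IsScalarTower.algebraMap_apply A (Localization.Away π) (AdjoinRoot _) (f : A),
      AdjoinRoot.algebraMap_eq]
  exact coreK hιinj π hπ0 hπL N j hN Gj H Gj1 h1 h2 h3 h3' h4 hlift f g f₀ hfg hmax _ hZ hred g₀

end aux


/-- Let R be a discrete valuation ring of characteristic zero and residue characteristic p, with
uniformizer π and a primitive p^n-th root of unity ζ (n ≥ 1), and A a Noetherian integrally closed
domain which is a faithfully flat R-algebra, in which πA is a prime ideal and every element that is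
a unit modulo π is a unit (as when A is π-adically complete, or local). Let f, g be units of A, j a
natural number with π^{p^{n−1}(p−1)(j+1)} dividing p (that is, j is less than the valuation of ζ −
1, so that the polynomials ((1 + π^{j}T)^{p^n} − 1)/π^{jp^n} and ((1 + π^{j+1}T)^{p^n} −
1)/π^{(j+1)p^n} have coefficients in R), and f₀ ∈ A with f·g^{p^n} = 1 + π^{j p^n}·f₀; suppose j is
maximal with this property: there is no unit g' of A with f·g'^{p^n} ≡ 1 modulo π^{(j+1)p^n}.
Suppose moreover that the algebra L = A[1/π][Z]/(Z^{p^n} − f) is an integral domain (the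
μ_{p^n}-torsor Z^{p^n} = f is connected on the generic fibre) and that, B denoting the integral
closure of A in L (the normalization of Spec A in that cover), the ideal πB is radical (the
normalization has reduced special fibre). Then f₀ is not congruent modulo πA to a p^n-th power. (The
published statement phrases the hypothesis on j as: the class of the torsor Z^{p^n} = f lies in
H¹(Spec A, G_{π^j,n}) and not in H¹(Spec A, G_{π^{j+1},n}); the conditions on g and g' are its
ring-theoretic form, which is the first assertion of the same lemma; A is there factorial and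
π-adically complete, or normal local, which this row keeps only through the consequences used:
integrally closed, and units lift modulo π.) -/
theorem result
    (R : Type u) [CommRing R] [IsDomain R] [IsDiscreteValuationRing R] [CharZero R]
    (p : ℕ) [Fact p.Prime] [CharP (IsLocalRing.ResidueField R) p] (ϖ : R) (hϖ : Irreducible ϖ)
    (n : ℕ) (hn : 0 < n) (ζ : R) (hζ : IsPrimitiveRoot ζ (p ^ n))
    (A : Type u) [CommRing A] [IsDomain A] [IsNoetherianRing A] [IsIntegrallyClosed A] [Algebra R A]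
    [Module.FaithfullyFlat R A]
    (hprime : (Ideal.span {algebraMap R A ϖ}).IsPrime)
    (hlift : ∀ a : A, IsUnit (Ideal.Quotient.mk (Ideal.span {algebraMap R A ϖ}) a) → IsUnit a)
    (f g : Aˣ) (j : ℕ) (hj : ϖ ^ (p ^ (n - 1) * (p - 1) * (j + 1)) ∣ (p : R)) (f₀ : A)
    (hfg : (f : A) * (g : A) ^ (p ^ n) = 1 + (algebraMap R A ϖ) ^ (j * p ^ n) * f₀)
    (hmax : ∀ (g' : Aˣ) (c : A), (f : A) * (g' : A) ^ (p ^ n) ≠ 1 + (algebraMap R A ϖ) ^ ((j + 1) * p ^ n) * c)
    [IsDomain (AdjoinRoot (Polynomial.X ^ (p ^ n) - Polynomial.C (algebraMap A (Localization.Away (algebraMap R A ϖ)) (f : A))))]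
    (hred : (Ideal.span {algebraMap A (integralClosure A (AdjoinRoot (Polynomial.X ^ (p ^ n) - Polynomial.C (algebraMap A (Localization.Away (algebraMap R A ϖ)) (f : A))))) (algebraMap R A ϖ)}).IsRadical)
    (g₀ : A) : f₀ - g₀ ^ (p ^ n) ∉ Ideal.span {(algebraMap R A ϖ)} := by
  have hpP : p.Prime := Fact.out
  obtain ⟨m, rfl⟩ : ∃ m, n = m + 1 := ⟨n - 1, by omega⟩
  rw [Nat.add_sub_cancel] at hj
  have hϖ0 : ϖ ≠ 0 := hϖ.ne_zero
  have hinjRA : Function.Injective (algebraMap R A) := FaithfulSMul.algebraMap_injective R A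
  have hπ0 : algebraMap R A ϖ ≠ 0 := (map_ne_zero_iff _ hinjRA).mpr hϖ0
  obtain ⟨Gj, H, Gj1, h1, h2, h3, h3', h4⟩ := polyFacts p hpP m ϖ hϖ0 j hj
  have h1A : (1 + Polynomial.C ((algebraMap R A ϖ) ^ j) * Polynomial.X : Polynomial A) ^ p ^ (m + 1)
      = 1 + Polynomial.C (((algebraMap R A ϖ) ^ j) ^ p ^ (m + 1)) * Gj.map (algebraMap R A) := by
    have h := congrArg (Polynomial.map (algebraMap R A)) h1
    simpa only [Polynomial.map_pow, Polynomial.map_add, Polynomial.map_one, Polynomial.map_mul,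
      Polynomial.map_C, Polynomial.map_X, map_pow] using h
  have h4A : (1 + Polynomial.C ((algebraMap R A ϖ) ^ (j + 1)) * Polynomial.X : Polynomial A)
        ^ p ^ (m + 1)
      = 1 + Polynomial.C (((algebraMap R A ϖ) ^ (j + 1)) ^ p ^ (m + 1))
          * Gj1.map (algebraMap R A) := by
    have h := congrArg (Polynomial.map (algebraMap R A)) h4
    simpa only [Polynomial.map_pow, Polynomial.map_add, Polynomial.map_one, Polynomial.map_mul,
      Polynomial.map_C, Polynomial.map_X, map_pow] using h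
  have h2A : Gj.map (algebraMap R A)
      = Polynomial.X ^ p ^ (m + 1) + Polynomial.C (algebraMap R A ϖ) * H.map (algebraMap R A) := by
    have h := congrArg (Polynomial.map (algebraMap R A)) h2
    simpa only [Polynomial.map_pow, Polynomial.map_add, Polynomial.map_mul,
      Polynomial.map_C, Polynomial.map_X] using h
  have h3A : (Gj.map (algebraMap R A)).Monic := h3.map _
  have h3'A : (Gj.map (algebraMap R A)).natDegree = p ^ (m + 1) := by
    rw [h3.natDegree_map, h3']
  exact coreAdj (algebraMap R A ϖ) hπ0 (p ^ (m + 1)) j (Nat.one_le_pow _ _ hpP.pos)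
    (Gj.map (algebraMap R A)) (H.map (algebraMap R A)) (Gj1.map (algebraMap R A))
    h1A h2A h3A h3'A h4A hlift f g f₀ hfg hmax hred g₀

end Groth.Agent.S14692
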