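import Groth.Statements.S14698
import Mathlib
import Groth.Agent.H54.ZMT2
import Groth.Agent.H54.SchemeDim
import Groth.Agent.H54.SchemeDim2
import Groth.Agent.H54.IrredFibres
import Groth.Agent.H54.DimClosure
import Groth.Agent.H38.NowhereDenseDim
import Groth.Agent.S7899
import Groth.Agent.S9705

set_option autoImplicit false
universe u
open CategoryTheory CategoryTheory.Limits AlgebraicGeometry
open Resolve

namespace Groth.Agent.S14698


section Helpers
open AlgebraicGeometry CategoryTheory CategoryTheory.Limits TopologicalSpace Topology Groth.Agent.H54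

lemma isClosed_singleton_of_mem_finite_closed {k : Type u} [Field k] {X : Scheme.{u}}
    (s : X ⟶ Spec (CommRingCat.of k)) [LocallyOfFiniteType s] (C : Set X) (hC : IsClosed C)
    (hfin : C.Finite) (c : X) (hc : c ∈ C) : IsClosed ({c} : Set X) := by
  haveI : JacobsonSpace X := LocallyOfFiniteType.jacobsonSpace s
  have h1 := JacobsonSpace.closure_inter_closedPoints (X := X)
    (isClosed_closure (s := ({c} : Set X)))
  have hsub : closure ({c} : Set X) ⊆ C :=
    hC.closure_subset_iff.mpr (Set.singleton_subset_iff.mpr hc)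
  have hfin' : (closure ({c} : Set X) ∩ closedPoints X).Finite :=
    hfin.subset (Set.inter_subset_left.trans hsub)
  have hcl : IsClosed (closure ({c} : Set X) ∩ closedPoints X) := by
    have h2 : closure ({c} : Set X) ∩ closedPoints X =
        ⋃ p ∈ closure ({c} : Set X) ∩ closedPoints X, {p} := (Set.biUnion_of_singleton _).symm
    rw [h2]
    exact hfin'.isClosed_biUnion (fun p hp => hp.2)
  rw [hcl.closure_eq] at h1
  have hcmem : c ∈ closure ({c} : Set X) ∩ closedPoints X := by
    rw [h1]; exact subset_closure rfl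
  exact hcmem.2

lemma regular_of_isIso_stalkMap {X Y : Scheme.{u}} (φ : Y ⟶ X) (y : Y) [IsIso (φ.stalkMap y)]
    (hreg : IsRegularLocalRing (Y.presheaf.stalk y)) (x : X) (hx : φ.base y = x) :
    IsRegularLocalRing (X.presheaf.stalk x) := by
  subst hx
  have e : X.presheaf.stalk (φ.base y) ≃+* Y.presheaf.stalk y :=
    (asIso (φ.stalkMap y)).commRingCatIsoToRingEquiv
  haveI := hreg
  exact IsRegularLocalRing.of_ringEquiv e.symm

theorem main (k : Type u) [Field k] (X : Scheme.{u}) (sX : X ⟶ Spec (CommRingCat.of k))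
    [IsIntegral X] (hdim : topologicalKrullDim X = 2)
    (hproj : ∃ (n : ℕ) (ι : X ⟶ CohB1.ProjSpace n k), IsClosedImmersion ι ∧
      ι ≫ CohB1.ProjSpace.toSpec n k = sX)
    (hnorm : Pi1.IsNormalScheme X) (U : X.Opens) (hU : ((U : Set X)ᶜ).Finite)
    (Y : Scheme.{u}) (φ : Y ⟶ X) [IsIntegral Y] (hdimY : topologicalKrullDim Y = 2)
    (hregY : ∀ y : Y, IsRegularLocalRing (Y.presheaf.stalk y))
    (hprojY : ∃ (n : ℕ) (ι : Y ⟶ CohB1.ProjSpace n k), IsClosedImmersion ι ∧
      ι ≫ CohB1.ProjSpace.toSpec n k = φ ≫ sX)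
    (hisoY : IsIso (φ ∣_ U))
    (x : X) (hx : ¬ IsRegularLocalRing (X.presheaf.stalk x)) :
    (φ.base ⁻¹' ({x} : Set X)).Nonempty ∧
      ∀ Z ∈ irreducibleComponents ↥(φ.base ⁻¹' ({x} : Set X)), topologicalKrullDim ↥Z = 1 := by
  classical
  obtain ⟨n, ι, hι, hιs⟩ := hproj
  obtain ⟨m, ιY, hιY, hιYs⟩ := hprojY
  haveI := hι
  haveI := hιY
  haveI := Groth.Agent.S9705.isProper_projSpace_toSpec n k
  haveI := Groth.Agent.S9705.isProper_projSpace_toSpec m k
  haveI : IsProper sX := by rw [← hιs]; infer_instance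
  haveI : IsProper (φ ≫ sX) := by rw [← hιYs]; infer_instance
  haveI : IsProper φ := IsProper.of_comp φ sX
  haveI : LocallyOfFiniteType sX := inferInstance
  haveI : LocallyOfFiniteType (φ ≫ sX) := inferInstance
  haveI : IsLocallyNoetherian X := LocallyOfFiniteType.isLocallyNoetherian sX
  haveI : IsLocallyNoetherian Y := LocallyOfFiniteType.isLocallyNoetherian (φ ≫ sX)
  haveI : CompactSpace Y := QuasiCompact.compactSpace_of_compactSpace (φ ≫ sX)
  haveI : IsNoetherian Y := {}
  haveI := hisoY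
  -- `x ∉ U`
  have hxU : x ∉ (U : Set X) := by
    intro hxU
    obtain ⟨w, hw⟩ := (φ ∣_ U).surjective ⟨x, hxU⟩
    have hwx : φ.base w.1 = x :=
      (morphismRestrict_base_coe φ U w).symm.trans (congrArg Subtype.val hw)
    haveI : IsIso (φ.stalkMap w.1) :=
      Groth.Agent.S7899.isIso_stalkMap_of_isIso_restrict φ U w.1 w.2
    exact hx (regular_of_isIso_stalkMap φ w.1 (hregY w.1) x hwx)
  have hxcl : IsClosed ({x} : Set X) :=
    isClosed_singleton_of_mem_finite_closed sX (U : Set X)ᶜ U.2.isClosed_compl hU x hxU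
  -- `U` is nonempty
  have hUne : (U : Set X).Nonempty := by
    by_contra hemp
    rw [Set.not_nonempty_iff_eq_empty] at hemp
    have hη : IsClosed ({genericPoint X} : Set X) :=
      isClosed_singleton_of_mem_finite_closed sX (U : Set X)ᶜ U.2.isClosed_compl hU _
        (by rw [hemp, Set.compl_empty]; exact Set.mem_univ _)
    have h0 := tdeg_eq_zero_of_isClosed sX (genericPoint X) hη
    have hd := topologicalKrullDim_eq_tdeg_of_generic sX (genericPoint X)
      (fun x => genericPoint_specializes x)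
    rw [hdim, h0] at hd
    exact absurd hd (by exact_mod_cast (by norm_num : ¬ (2 : ℕ) = 0))
  have hsurj : Function.Surjective φ.base := by
    have hcl : IsClosed (Set.range φ.base) := φ.isClosedMap.isClosed_range
    have hUsub : (U : Set X) ⊆ Set.range φ.base := by
      intro u hu
      obtain ⟨w, hw⟩ := (φ ∣_ U).surjective ⟨u, hu⟩
      exact ⟨w.1, (morphismRestrict_base_coe φ U w).symm.trans (congrArg Subtype.val hw)⟩
    have hdense : Dense (U : Set X) := U.2.dense hUne
    have hru : Set.range φ.base = Set.univ := by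
      apply Set.eq_univ_of_univ_subset
      rw [← hdense.closure_eq]
      exact hcl.closure_subset_iff.mpr hUsub
    exact Set.range_eq_univ.mp hru
  have hηV : genericPoint Y ∈ φ ⁻¹ᵁ U := by
    obtain ⟨u, hu⟩ := hUne
    obtain ⟨w, hw⟩ := hsurj u
    have hwU : w ∈ φ ⁻¹ᵁ U := by
      show φ.base w ∈ U
      rw [hw]; exact hu
    exact (genericPoint_specializes w).mem_open (φ ⁻¹ᵁ U).2 hwU
  haveI hbirη : IsIso (φ.stalkMap (genericPoint Y)) :=
    Groth.Agent.S7899.isIso_stalkMap_of_isIso_restrict φ U _ hηV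
  have hgen : φ.base (genericPoint Y) = genericPoint X := by
    have h1 : ∀ y : X, φ.base (genericPoint Y) ⤳ y := by
      intro y
      obtain ⟨w, rfl⟩ := hsurj y
      exact (genericPoint_specializes w).map φ.continuous
    have h2 : genericPoint X ⤳ φ.base (genericPoint Y) := genericPoint_specializes _
    exact ((h1 _).antisymm h2).eq
  refine ⟨?_, ?_⟩
  · obtain ⟨w, hw⟩ := hsurj x
    exact ⟨w, hw⟩
  intro Z hZ
  have hFcl : IsClosed (φ.base ⁻¹' ({x} : Set X)) := hxcl.preimage φ.continuous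
  haveI : QuasiSober ↥(φ.base ⁻¹' ({x} : Set X)) :=
    hFcl.isClosedEmbedding_subtypeVal.quasiSober
  obtain ⟨ζ, hζ⟩ := QuasiSober.sober hZ.1 (isClosed_of_mem_irreducibleComponents Z hZ)
  have hζcl : closure ({ζ} : Set ↥(φ.base ⁻¹' ({x} : Set X))) = Z := hζ.def
  have hζZ : ζ ∈ Z := hζcl ▸ subset_closure rfl
  have hζx : φ.base ζ.1 = x := ζ.2
  have hmaxZ : ∀ b : ↥(φ.base ⁻¹' ({x} : Set X)), b ⤳ ζ → b = ζ := by
    intro b hb
    have hirr : IsIrreducible (closure ({b} : Set ↥(φ.base ⁻¹' ({x} : Set X)))) :=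
      isIrreducible_singleton.closure
    have hsub : Z ⊆ closure ({b} : Set ↥(φ.base ⁻¹' ({x} : Set X))) := by
      rw [← hζcl]
      exact closure_minimal
        (Set.singleton_subset_iff.mpr (specializes_iff_mem_closure.mp hb)) isClosed_closure
    have hle : closure ({b} : Set ↥(φ.base ⁻¹' ({x} : Set X))) ⊆ Z := hZ.2 hirr hsub
    have hbZ : b ∈ Z := hle (subset_closure rfl)
    have hab : ζ ⤳ b := specializes_iff_mem_closure.mpr (hζcl ▸ hbZ)
    exact (hb.antisymm hab).eq
  -- dimension of Z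
  have hrange : Set.range (fun t : ↥Z => (t.1 : ↥(φ.base ⁻¹' ({x} : Set X))).1) =
      closure ({ζ.1} : Set Y) := by
    ext y
    constructor
    · rintro ⟨t, rfl⟩
      have ht : t.1 ∈ closure ({ζ} : Set ↥(φ.base ⁻¹' ({x} : Set X))) := hζcl ▸ t.2
      have hsp : ζ ⤳ t.1 := specializes_iff_mem_closure.mpr ht
      exact specializes_iff_mem_closure.mp
        ((IsInducing.subtypeVal.specializes_iff (x := ζ) (y := t.1)).mpr hsp)
    · intro hy
      have hsp : ζ.1 ⤳ y := specializes_iff_mem_closure.mpr hy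
      have hyE : y ∈ φ.base ⁻¹' ({x} : Set X) := hsp.mem_closed hFcl ζ.2
      have hb : ζ ⤳ (⟨y, hyE⟩ : ↥(φ.base ⁻¹' ({x} : Set X))) :=
        (IsInducing.subtypeVal.specializes_iff (x := ζ)
          (y := (⟨y, hyE⟩ : ↥(φ.base ⁻¹' ({x} : Set X))))).mp hsp
      have hyZ : (⟨y, hyE⟩ : ↥(φ.base ⁻¹' ({x} : Set X))) ∈ Z :=
        hζcl ▸ specializes_iff_mem_closure.mp hb
      exact ⟨⟨⟨y, hyE⟩, hyZ⟩, rfl⟩
  have hdimZ : topologicalKrullDim ↥Z = (tdeg (φ ≫ sX) ζ.1 : WithBot ℕ∞) := by
    have hemb : IsEmbedding (fun t : ↥Z => (t.1 : ↥(φ.base ⁻¹' ({x} : Set X))).1) :=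
      IsEmbedding.subtypeVal.comp IsEmbedding.subtypeVal
    rw [← topologicalKrullDim_closure_singleton (φ ≫ sX) ζ.1, ← hrange]
    exact hemb.toHomeomorph.isHomeomorph.topologicalKrullDim_eq
  -- upper bound
  have hsY : genericPoint Y ⤳ ζ.1 := genericPoint_specializes _
  have hne : genericPoint Y ≠ ζ.1 := by
    intro h
    apply hxU
    rw [← hζx, ← h]
    exact hηV
  have h2 : tdeg (φ ≫ sX) ζ.1 < tdeg (φ ≫ sX) (genericPoint Y) :=
    tdeg_lt_of_specializes (φ ≫ sX) hsY hne
  have hdimYη := topologicalKrullDim_eq_tdeg_of_generic (φ ≫ sX) (genericPoint Y)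
    (fun y => genericPoint_specializes y)
  have h2' : tdeg (φ ≫ sX) (genericPoint Y) = 2 := by
    rw [hdimY] at hdimYη
    exact_mod_cast hdimYη.symm
  -- lower bound
  have h3 : tdeg (φ ≫ sX) ζ.1 ≠ 0 := by
    intro h0
    have hzcl : IsClosed ({ζ.1} : Set Y) := by
      rw [← closure_eq_iff_isClosed]
      apply Set.Subset.antisymm _ subset_closure
      intro y hy
      have hsp : ζ.1 ⤳ y := specializes_iff_mem_closure.mpr hy
      by_contra hne'
      have hne'' : ζ.1 ≠ y := fun h => hne' (h ▸ rfl)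
      have := tdeg_lt_of_specializes (φ ≫ sX) hsp hne''
      omega
    have hζclosed : IsClosed ({ζ} : Set ↥(φ.base ⁻¹' ({x} : Set X))) := by
      have h4 : ({ζ} : Set ↥(φ.base ⁻¹' ({x} : Set X))) = Subtype.val ⁻¹' ({ζ.1} : Set Y) := by
        ext b
        simp only [Set.mem_singleton_iff, Set.mem_preimage]
        exact ⟨fun h => congrArg Subtype.val h, fun h => Subtype.ext h⟩
      rw [h4]
      exact hzcl.preimage continuous_subtype_val
    obtain ⟨O, hO, hζO, hOcl⟩ :=
      Groth.Agent.H38.NowhereDenseDim.exists_open_subset_closure_of_forall hmaxZ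
    rw [hζclosed.closure_eq] at hOcl
    have hOeq : O = {ζ} := Set.Subset.antisymm hOcl (Set.singleton_subset_iff.mpr hζO)
    have hopenF : IsOpen ({ζ} : Set ↥(φ.base ⁻¹' ({x} : Set X))) := hOeq ▸ hO
    have hζ'ι : φ.fiberι x ((φ.fiberHomeo x).symm ζ) = ζ.1 := φ.fiberι_fiberHomeo_symm x ζ
    have hopen' : IsOpen ({(φ.fiberHomeo x).symm ζ} : Set (φ.fiber x)) := by
      have h5 := (φ.fiberHomeo x).symm.isOpenMap _ hopenF
      rwa [Set.image_singleton] at h5
    have hqf : φ.QuasiFiniteAt ζ.1 :=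
      quasiFiniteAt_of_isOpen_singleton φ ζ.1 x hζx ((φ.fiberHomeo x).symm ζ) hζ'ι hopen'
    obtain ⟨V, hxV, hViso⟩ := exists_isIso_morphismRestrict_of_quasiFiniteAt φ hgen hbirη ζ.1 hqf
      (hnorm (φ.base ζ.1)).2
    haveI := hViso
    haveI : IsIso (φ.stalkMap ζ.1) :=
      Groth.Agent.S7899.isIso_stalkMap_of_isIso_restrict φ V ζ.1 hxV
    exact hx (regular_of_isIso_stalkMap φ ζ.1 (hregY ζ.1) x hζx)
  have h4 : tdeg (φ ≫ sX) ζ.1 = 1 := by omega
  rw [hdimZ, h4]
  rfl

end Helpers


/-- Let k be an algebraically closed field and X an integral normal scheme of dimension two admitting a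
closed immersion into some P^n_k over k. Let φ : Y → X be a k-morphism from an integral scheme Y of
dimension two with all local rings regular, itself admitting a closed immersion into some P^m_k over
k, which restricts to an isomorphism over an open subset U of X with finite complement. Then for
every point x of X at which the local ring is not regular, the fibre φ⁻¹(x) (with the topology
induced from Y) is nonempty and every irreducible component of it has dimension one: such a
desingularization is a monoidal model. (The published statement takes φ an isomorphism exactly over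
the complement of the singular points; this row allows any open U with finite complement over which
φ is an isomorphism.) -/
theorem result (k : Type u) [Field k] [IsAlgClosed k] (X : Scheme.{u}) [X.Over (Spec (CommRingCat.of k))]
    [IsIntegral X] (hdim : topologicalKrullDim X = 2)
    (hproj : ∃ (n : ℕ) (ι : X ⟶ CohB1.ProjSpace n k), IsClosedImmersion ι ∧ ι ≫ CohB1.ProjSpace.toSpec n k = (X ↘ (Spec (CommRingCat.of k))))
    (hnorm : Pi1.IsNormalScheme X) (U : X.Opens) (hU : ((U : Set X)ᶜ).Finite)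
    (Y : Scheme.{u}) (φ : Y ⟶ X) [IsIntegral Y] (hdimY : topologicalKrullDim Y = 2)
    (hregY : ∀ y : Y, IsRegularLocalRing (Y.presheaf.stalk y))
    (hprojY : ∃ (n : ℕ) (ι : Y ⟶ CohB1.ProjSpace n k), IsClosedImmersion ι ∧ ι ≫ CohB1.ProjSpace.toSpec n k = φ ≫ (X ↘ (Spec (CommRingCat.of k))))
    (hisoY : IsIso (φ ∣_ U))
    (x : X) (hx : ¬ IsRegularLocalRing (X.presheaf.stalk x)) :
    (φ.base ⁻¹' ({x} : Set X)).Nonempty ∧
      ∀ Z ∈ irreducibleComponents ↥(φ.base ⁻¹' ({x} : Set X)), topologicalKrullDim ↥Z = 1 := by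
  exact main k X (X ↘ Spec (CommRingCat.of k)) hdim hproj hnorm U hU Y φ hdimY hregY hprojY hisoY x hx
end Groth.Agent.S14698
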