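import Groth.Statements.S1471
import Mathlib.AlgebraicGeometry.Fiber
import Mathlib.AlgebraicGeometry.IdealSheaf.Subscheme
import Mathlib.AlgebraicGeometry.PullbackCarrier
import Mathlib.RingTheory.LocalProperties.Reduced
import Mathlib.RingTheory.Localization.BaseChange
import Mathlib.LinearAlgebra.TensorProduct.RightExactness
import Mathlib.RingTheory.Ideal.Quotient.Nilpotent

set_option autoImplicit false
universe u
open FlatMor

namespace Groth.Agent.S1471


open TensorProduct in
/-- Algebra: if `B ⊗ L` is reduced and `L → K` is surjective with nil kernel then `B ⊗ K` is reduced. -/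
theorem isReduced_tensor_of_nil_ker {A B L K : Type*} [CommRing A] [CommRing B] [CommRing L]
    [CommRing K] [Algebra A B] [Algebra A L] [Algebra A K] [Algebra L K] [IsScalarTower A L K]
    [_root_.IsReduced (B ⊗[A] L)] (hsurj : Function.Surjective (algebraMap L K))
    (hnil : ∀ x : L, algebraMap L K x = 0 → IsNilpotent x) : _root_.IsReduced (B ⊗[A] K) := by
  let f : L →ₐ[A] K := IsScalarTower.toAlgHom A L K
  have hf : Function.Surjective f := hsurj
  let F : B ⊗[A] L →ₐ[A] B ⊗[A] K := Algebra.TensorProduct.map (AlgHom.id A B) f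
  have hFsurj : Function.Surjective F := LinearMap.lTensor_surjective B hf
  have hker : RingHom.ker F = ⊥ := by
    rw [Algebra.TensorProduct.lTensor_ker f hf, eq_bot_iff, Ideal.map_le_iff_le_comap]
    intro x hx
    have h1 : IsNilpotent x := hnil x hx
    have h2 : IsNilpotent ((Algebra.TensorProduct.includeRight : L →ₐ[A] B ⊗[A] L) x) := h1.map _
    exact h2.eq_zero
  have hFinj : Function.Injective F := (RingHom.injective_iff_ker_eq_bot F.toRingHom).mpr hker
  let e : B ⊗[A] L ≃+* B ⊗[A] K := RingEquiv.ofBijective F.toRingHom ⟨hFinj, hFsurj⟩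
  exact isReduced_of_injective e.symm e.symm.injective

open AlgebraicGeometry CategoryTheory Limits TopologicalSpace in
/-- The closed subscheme defined by the nilradical is reduced. -/
theorem isReduced_nilradical_subscheme (X : Scheme.{u}) : IsReduced X.nilradical.subscheme := by
  rw [IsReduced.iff_of_openCover _ X.nilradical.subschemeCover.openCover]
  change ∀ U : X.affineOpens, IsReduced (Spec (.of <| Γ(X, U) ⧸ X.nilradical.ideal U))
  intro U
  rw [affine_isReduced_iff]
  refine (Ideal.isRadical_iff_quotient_reduced _).mp ?_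
  rw [Scheme.nilradical, Scheme.IdealSheafData.radical_ideal]
  exact Ideal.radical_isRadical _

open AlgebraicGeometry CategoryTheory Limits TopologicalSpace in
/-- The stalk at the generic point of an irreducible component has a unique prime. -/
theorem subsingleton_primeSpectrum_stalk (Y : Scheme.{u}) (η : Y)
    (hη : closure {η} ∈ irreducibleComponents Y) :
    Subsingleton (PrimeSpectrum (Y.presheaf.stalk η)) := by
  wlog hX : ∃ R, Y = Spec R
  · obtain ⟨i, x, rfl⟩ := Y.affineCover.exists_eq η
    have h1 := this (Y.affineCover.X i) x ?_ ⟨_, rfl⟩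
    · haveI := h1
      exact (PrimeSpectrum.comapEquiv
        (asIso <| (Y.affineCover.f i).stalkMap x).commRingCatIsoToRingEquiv).toEquiv.subsingleton
    · rw [(Y.affineCover.f i).isOpenEmbedding.closure_eq_preimage_closure_image, Set.image_singleton]
      exact preimage_mem_irreducibleComponents hη (Y.affineCover.f i).isOpenEmbedding
        ⟨Y.affineCover.f i x, subset_closure rfl, _, rfl⟩
  obtain ⟨R, rfl⟩ := hX
  replace hη : η.asIdeal ∈ minimalPrimes R := by
    rwa [← PrimeSpectrum.vanishingIdeal_singleton, PrimeSpectrum.vanishingIdeal_mem_minimalPrimes]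
  exact IsLocalization.subsingleton_primeSpectrum_of_mem_minimalPrimes _ hη
    ((Spec.structureSheaf R).presheaf.stalk η)

open CategoryTheory Limits in
theorem isPullback_comp_mono {C : Type*} [Category C] {P X Y W Z : C} {fst : P ⟶ X} {snd : P ⟶ Y}
    {f : X ⟶ W} {g : Y ⟶ W} (h : IsPullback fst snd f g) (i : W ⟶ Z) [Mono i] :
    IsPullback fst snd (f ≫ i) (g ≫ i) :=
  IsPullback.of_isLimit (PullbackCone.isLimitOfCompMono f g i _ h.isLimit)

open AlgebraicGeometry CategoryTheory Limits TopologicalSpace in
/-- Reduction of reducedness of a fibre product with an affine scheme over an affine open to rings. -/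
theorem isReduced_pullback_of_affine {Z Y : Scheme.{u}} (g : Z ⟶ Y) {U : Y.Opens}
    (hU : IsAffineOpen U) {K : CommRingCat.{u}} (φ : Γ(Y, U) ⟶ K)
    (H : ∀ (V : Z.Opens) (_ : IsAffineOpen V) (e : V ≤ g ⁻¹ᵁ U),
      ∃ (P : CommRingCat.{u}) (inl : Γ(Z, V) ⟶ P) (inr : K ⟶ P),
        IsPushout (g.appLE U V e) φ inl inr ∧ _root_.IsReduced P) :
    IsReduced (pullback g (Spec.map φ ≫ hU.fromSpec)) := by
  set k := Spec.map φ ≫ hU.fromSpec with hk
  refine @isReduced_of_isReduced_stalk _ (fun x => ?_)
  have hx : g (pullback.fst g k x) ∈ U := by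
    have h1 : g (pullback.fst g k x) = k (pullback.snd g k x) := by
      simp only [← Scheme.Hom.comp_apply, pullback.condition]
    rw [h1]
    have h2 : k (pullback.snd g k x) ∈ Set.range hU.fromSpec :=
      ⟨Spec.map φ (pullback.snd g k x), (Scheme.Hom.comp_apply _ _ _).symm⟩
    rw [hU.range_fromSpec] at h2
    exact h2
  obtain ⟨V, hV, hxV, e⟩ := Opens.isBasis_iff_nbhd.mp Z.isBasis_affineOpens
    (show pullback.fst g k x ∈ g ⁻¹ᵁ U from hx)
  obtain ⟨P, inl, inr, hpo, hP⟩ := H V hV e
  have hpb : IsPullback (Spec.map inl) (Spec.map inr) (Spec.map (g.appLE U V e)) (Spec.map φ) :=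
    isPullback_SpecMap_of_isPushout _ _ _ _ hpo
  have hbig : IsPullback (Spec.map inl) (Spec.map inr) (hV.fromSpec ≫ g) k := by
    have h3 : Spec.map (g.appLE U V e) ≫ hU.fromSpec = hV.fromSpec ≫ g :=
      IsAffineOpen.SpecMap_appLE_fromSpec g hU hV e
    have := isPullback_comp_mono hpb hU.fromSpec
    rw [h3] at this
    exact this
  have t := IsPullback.of_hasPullback g k
  have hsq := IsPullback.of_bot' hbig t
  set j := t.lift (Spec.map inl ≫ hV.fromSpec) (Spec.map inr) (by rw [Category.assoc, hbig.w])
    with hj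
  haveI : IsOpenImmersion j := MorphismProperty.of_isPullback (P := @IsOpenImmersion) hsq
    inferInstance
  -- x is in the range of j
  obtain ⟨v, hv⟩ : ∃ v, hV.fromSpec v = pullback.fst g k x := by
    have : pullback.fst g k x ∈ Set.range hV.fromSpec := by
      rw [hV.range_fromSpec]; exact hxV
    exact this
  obtain ⟨z, hz1, hz2⟩ := Scheme.Pullback.exists_preimage_pullback (f := hV.fromSpec)
    (g := pullback.fst g k) v x hv
  have hjt : j (hsq.isoPullback.inv z) = x := by
    rw [← Scheme.Hom.comp_apply, hsq.isoPullback_inv_snd, hz2]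
  rw [← hjt]
  haveI : _root_.IsReduced P := hP
  exact isReduced_of_injective (j.stalkMap (hsq.isoPullback.inv z)).hom
    (ConcreteCategory.bijective_of_isIso (j.stalkMap (hsq.isoPullback.inv z))).1

open AlgebraicGeometry CategoryTheory Limits in
/-- Let f : X → Y and η a generic point of an irreducible component of Y. Then the fibre over η of the
composite X_red → X → Y is reduced; since it is a closed subscheme of X_η with the same underlying
set, this says (X_η)_red = (X_red)_η. -/
theorem result {X Y : Scheme.{u}} (f : X ⟶ Y) (η : Y) (W : Set ↑Y) (hW : W ∈ irreducibleComponents ↑Y) (hη : IsGenericPoint η W) :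
    IsReduced ((X.nilradical.subschemeι ≫ f).fiber η) := by
  have hZ : IsReduced X.nilradical.subscheme := isReduced_nilradical_subscheme X
  obtain ⟨U, hU, hηU⟩ : ∃ U : Y.Opens, IsAffineOpen U ∧ η ∈ U := by
    obtain ⟨U, hU, hηU, -⟩ := TopologicalSpace.Opens.isBasis_iff_nbhd.mp Y.isBasis_affineOpens
      (show η ∈ (⊤ : Y.Opens) from trivial)
    exact ⟨U, hU, hηU⟩
  have key : Y.fromSpecResidueField η =
      Spec.map (Y.presheaf.germ U η hηU ≫ Y.residue η) ≫ hU.fromSpec := by
    rw [Scheme.fromSpecResidueField, ← hU.fromSpecStalk_eq_fromSpecStalk hηU,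
      IsAffineOpen.fromSpecStalk, Spec.map_comp, Category.assoc]
  unfold Scheme.Hom.fiber
  suffices hsuff : IsReduced (pullback (X.nilradical.subschemeι ≫ f)
      (Spec.map (Y.presheaf.germ U η hηU ≫ Y.residue η) ≫ hU.fromSpec)) from
    isReduced_of_isOpenImmersion (pullback.congrHom rfl key).hom
  refine isReduced_pullback_of_affine _ hU _ ?_
  intro V hV e
  letI algS : Algebra Γ(Y, U) Γ(X.nilradical.subscheme, V) :=
    ((X.nilradical.subschemeι ≫ f).appLE U V e).hom.toAlgebra
  letI algL : Algebra Γ(Y, U) (Y.presheaf.stalk η) := Y.presheaf.algebra_section_stalk ⟨η, hηU⟩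
  letI algK : Algebra Γ(Y, U) (Y.residueField η) :=
    (Y.presheaf.germ U η hηU ≫ Y.residue η).hom.toAlgebra
  letI algLK : Algebra (Y.presheaf.stalk η) (Y.residueField η) := (Y.residue η).hom.toAlgebra
  haveI : IsScalarTower Γ(Y, U) (Y.presheaf.stalk η) (Y.residueField η) :=
    IsScalarTower.of_algebraMap_eq' rfl
  haveI hloc := hU.isLocalization_stalk ⟨η, hηU⟩
  haveI hredBL : _root_.IsReduced (TensorProduct Γ(Y, U) Γ(X.nilradical.subscheme, V)
      (Y.presheaf.stalk η)) :=
    isReduced_localizationPreserves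
      (Algebra.algebraMapSubmonoid Γ(X.nilradical.subscheme, V)
        (hU.primeIdealOf ⟨η, hηU⟩).asIdeal.primeCompl) _ inferInstance
  have hsub : Subsingleton (PrimeSpectrum (Y.presheaf.stalk η)) :=
    subsingleton_primeSpectrum_stalk Y η (hη.def ▸ hW)
  have hnil : ∀ x : Y.presheaf.stalk η, algebraMap (Y.presheaf.stalk η) (Y.residueField η) x = 0 →
      IsNilpotent x := by
    intro x hx
    have hxm : x ∈ IsLocalRing.maximalIdeal (Y.presheaf.stalk η) :=
      (IsLocalRing.residue_eq_zero_iff x).mp hx
    rw [← mem_nilradical, nilradical_eq_sInf, Ideal.mem_sInf]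
    intro q hq
    have : (⟨q, hq⟩ : PrimeSpectrum (Y.presheaf.stalk η)) =
        ⟨IsLocalRing.maximalIdeal (Y.presheaf.stalk η), inferInstance⟩ := Subsingleton.elim _ _
    have hq' : q = IsLocalRing.maximalIdeal (Y.presheaf.stalk η) := congrArg PrimeSpectrum.asIdeal this
    rw [hq']
    exact hxm
  have hsurj : Function.Surjective (algebraMap (Y.presheaf.stalk η) (Y.residueField η)) :=
    IsLocalRing.residue_surjective
  have hred := isReduced_tensor_of_nil_ker (A := Γ(Y, U)) (B := Γ(X.nilradical.subscheme, V))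
    (L := Y.presheaf.stalk η) (K := Y.residueField η) hsurj hnil
  exact ⟨CommRingCat.of (TensorProduct Γ(Y, U) Γ(X.nilradical.subscheme, V) (Y.residueField η)),
    _, _, CommRingCat.isPushout_tensorProduct _ _ _, hred⟩

end Groth.Agent.S1471
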