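import Groth.Statements.S14727
import Mathlib.RingTheory.Localization.Ideal
import Mathlib.RingTheory.Ideal.Quotient.Operations
import Mathlib.RingTheory.Ideal.Maximal

set_option autoImplicit false
universe u
open ValPrufer

namespace Groth.Agent.S14727

section alg

variable {R : Type u} [CommRing R] (I : Ideal R)

/-- The contraction to `R` of `I R_m`. -/
noncomputable def q (m : MaximalSpectrum R) : Ideal R :=
  (I.map (algebraMap R (Localization.AtPrime m.asIdeal))).comap
    (algebraMap R (Localization.AtPrime m.asIdeal))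

theorem mem_q_iff (m : MaximalSpectrum R) (r : R) :
    r ∈ q I m ↔ algebraMap R (Localization.AtPrime m.asIdeal) r ∈
      I.map (algebraMap R (Localization.AtPrime m.asIdeal)) := Iff.rfl

theorem mem_q_of_mul_mem (m : MaximalSpectrum R) {s r : R} (hs : s ∉ m.asIdeal)
    (h : s * r ∈ I) : r ∈ q I m := by
  rw [mem_q_iff]
  have hu : IsUnit (algebraMap R (Localization.AtPrime m.asIdeal) s) :=
    IsLocalization.map_units (Localization.AtPrime m.asIdeal)
      (⟨s, hs⟩ : m.asIdeal.primeCompl)
  rw [← Ideal.unit_mul_mem_iff_mem _ hu, ← map_mul]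
  exact Ideal.mem_map_of_mem _ h

theorem q_ne_top (m : MaximalSpectrum R) (hm : I ≤ m.asIdeal) : q I m ≠ ⊤ := by
  intro h
  have h1 : (1 : R) ∈ q I m := by rw [h]; trivial
  rw [mem_q_iff, map_one] at h1
  have h2 : I.map (algebraMap R (Localization.AtPrime m.asIdeal)) ≤
      IsLocalRing.maximalIdeal (Localization.AtPrime m.asIdeal) := by
    rw [Ideal.map_le_iff_le_comap]
    have h3 := IsLocalization.AtPrime.under_maximalIdeal (Localization.AtPrime m.asIdeal) m.asIdeal
    rw [Ideal.under_def] at h3
    rw [h3]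
    exact hm
  exact (IsLocalRing.maximalIdeal.isMaximal _).ne_top
    ((Ideal.eq_top_iff_one _).2 (h2 h1))

variable (hI : ∀ (p : Ideal R), p.IsPrime → I ≤ p → p.IsMaximal)
include hI

/-- Elements of `m` are nilpotent modulo `q I m`. -/
theorem exists_pow_mem_q (m : MaximalSpectrum R) (_hm : I ≤ m.asIdeal) {t : R}
    (ht : t ∈ m.asIdeal) : ∃ k : ℕ, t ^ k ∈ q I m := by
  by_contra hcon
  push Not at hcon
  let T : Submonoid R := m.asIdeal.primeCompl ⊔ Submonoid.powers t
  have hdisj : Disjoint (I : Set R) (T : Set R) := by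
    rw [Set.disjoint_left]
    intro x hxI hxT
    obtain ⟨s, hs, y, ⟨k, rfl⟩, rfl⟩ := Submonoid.mem_sup.1 hxT
    exact hcon k (mem_q_of_mul_mem I m hs hxI)
  obtain ⟨p, hp, hIp, hpT⟩ := Ideal.exists_le_prime_disjoint I T hdisj
  have hpmax : p.IsMaximal := hI p hp hIp
  have hpm : p ≤ m.asIdeal := by
    intro x hx
    by_contra hxm
    exact Set.disjoint_left.1 hpT hx
      ((le_sup_left : m.asIdeal.primeCompl ≤ T) (show x ∈ m.asIdeal.primeCompl from hxm))
  have hpeq : p = m.asIdeal := hpmax.eq_of_le m.isMaximal.ne_top hpm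
  have htT : t ∈ T := (le_sup_right : Submonoid.powers t ≤ T) (Submonoid.mem_powers t)
  exact Set.disjoint_left.1 hpT (hpeq ▸ ht) htT

/-- The only maximal ideal containing `q I m` is `m`. -/
theorem eq_of_q_le (m : MaximalSpectrum R) (hm : I ≤ m.asIdeal) (M : Ideal R) (hM : M.IsMaximal)
    (h : q I m ≤ M) : M = m.asIdeal := by
  by_contra hne
  have h1 : ¬ m.asIdeal ≤ M := fun hle =>
    hne (m.isMaximal.eq_of_le hM.ne_top hle).symm
  obtain ⟨t, htm, htM⟩ := Set.not_subset.1 h1
  obtain ⟨k, hk⟩ := exists_pow_mem_q I hI m hm htm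
  exact htM (hM.isPrime.mem_of_pow_mem k (h hk))

theorem q_sup_span_eq_top (m : MaximalSpectrum R) (hm : I ≤ m.asIdeal) {s : R}
    (hs : s ∉ m.asIdeal) : q I m ⊔ Ideal.span {s} = ⊤ := by
  by_contra hne
  obtain ⟨M, hM, hle⟩ := Ideal.exists_le_maximal _ hne
  have h1 : M = m.asIdeal := eq_of_q_le I hI m hm M hM (le_sup_left.trans hle)
  apply hs
  rw [← h1]
  exact hle (Ideal.mem_sup_right (Ideal.subset_span rfl))

theorem isCoprime_q (m m' : MaximalSpectrum R) (hm : I ≤ m.asIdeal) (hm' : I ≤ m'.asIdeal)
    (hne : m ≠ m') : IsCoprime (q I m) (q I m') := by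
  rw [Ideal.isCoprime_iff_sup_eq]
  by_contra hcon
  obtain ⟨M, hM, hle⟩ := Ideal.exists_le_maximal _ hcon
  have h1 : M = m.asIdeal := eq_of_q_le I hI m hm M hM (le_sup_left.trans hle)
  have h2 : M = m'.asIdeal := eq_of_q_le I hI m' hm' M hM (le_sup_right.trans hle)
  exact hne (MaximalSpectrum.ext (h1.symm.trans h2))

/-- Every element of `R_m` is congruent modulo `I R_m` to an element of `R`. -/
theorem exists_sub_mem (m : MaximalSpectrum R) (hm : I ≤ m.asIdeal)
    (y : Localization.AtPrime m.asIdeal) :
    ∃ b : R, algebraMap R (Localization.AtPrime m.asIdeal) b - y ∈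
      I.map (algebraMap R (Localization.AtPrime m.asIdeal)) := by
  obtain ⟨a, s, rfl⟩ := IsLocalization.exists_mk'_eq m.asIdeal.primeCompl y
  have h1 := q_sup_span_eq_top I hI m hm s.2
  have h2 : (1 : R) ∈ q I m ⊔ Ideal.span {(s : R)} := by rw [h1]; trivial
  obtain ⟨c, hc, d, hd, hcd⟩ := Submodule.mem_sup.1 h2
  obtain ⟨s', rfl⟩ := Ideal.mem_span_singleton'.1 hd
  refine ⟨a * s', ?_⟩
  have hu : IsUnit (algebraMap R (Localization.AtPrime m.asIdeal) s) :=
    IsLocalization.map_units (Localization.AtPrime m.asIdeal) s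
  rw [← Ideal.mul_unit_mem_iff_mem _ hu, sub_mul, IsLocalization.mk'_spec, ← map_mul, ← map_sub]
  have h3 : a * s' * (s : R) - a = - (a * c) := by
    have : s' * (s : R) = 1 - c := by rw [← hcd]; ring
    rw [mul_assoc, this]; ring
  rw [h3, map_neg, map_mul]
  exact neg_mem (Ideal.mul_mem_left _ _ ((mem_q_iff I m c).1 hc))

/-- Chinese remainder theorem for the finitely many local rings `R_m`, `m ⊇ I`. -/
theorem exists_forall_sub_mem [Finite (MaximalSpectrum R)]
    (y : ∀ m : {m : MaximalSpectrum R // I ≤ m.asIdeal}, Localization.AtPrime m.1.asIdeal) :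
    ∃ r : R, ∀ m : {m : MaximalSpectrum R // I ≤ m.asIdeal},
      algebraMap R (Localization.AtPrime m.1.asIdeal) r - y m ∈
        I.map (algebraMap R (Localization.AtPrime m.1.asIdeal)) := by
  choose b hb using fun m : {m : MaximalSpectrum R // I ≤ m.asIdeal} =>
    exists_sub_mem I hI m.1 m.2 (y m)
  have hcop : Pairwise (Function.onFun IsCoprime
      fun m : {m : MaximalSpectrum R // I ≤ m.asIdeal} => q I m.1) := by
    intro m m' hne
    exact isCoprime_q I hI m.1 m'.1 m.2 m'.2 (fun h => hne (Subtype.ext h))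
  obtain ⟨r, hr⟩ := Ideal.exists_forall_sub_mem_ideal hcop b
  refine ⟨r, fun m => ?_⟩
  have h1 : algebraMap R (Localization.AtPrime m.1.asIdeal) r - y m =
      algebraMap R (Localization.AtPrime m.1.asIdeal) (r - b m) +
        (algebraMap R (Localization.AtPrime m.1.asIdeal) (b m) - y m) := by
    rw [map_sub]; ring
  rw [h1]
  exact Ideal.add_mem _ ((mem_q_iff I m.1 _).1 (hr m)) (hb m)

end alg

section ker

variable {R : Type u} [CommRing R] (I : Ideal R)

/-- An element of `R` lying in `J R_m` for all maximal `m ⊇ I`, where `I ^ n ≤ J`... we only need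
`J = I ^ n`. -/
theorem mem_pow_of_forall_mem (n : ℕ) (r : R)
    (h : ∀ m : {m : MaximalSpectrum R // I ≤ m.asIdeal},
      algebraMap R (Localization.AtPrime m.1.asIdeal) r ∈
        (I ^ n).map (algebraMap R (Localization.AtPrime m.1.asIdeal))) : r ∈ I ^ n := by
  by_contra hr
  let D : Ideal R :=
    { carrier := {t | t * r ∈ I ^ n}
      add_mem' := fun {a b} ha hb => by
        show (a + b) * r ∈ I ^ n
        rw [add_mul]; exact Ideal.add_mem _ ha hb
      zero_mem' := by
        show (0 : R) * r ∈ I ^ n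
        rw [zero_mul]; exact Ideal.zero_mem _
      smul_mem' := fun c a ha => by
        show (c • a) * r ∈ I ^ n
        rw [smul_eq_mul, mul_assoc]; exact Ideal.mul_mem_left _ _ ha }
  have hD : D ≠ ⊤ := by
    intro htop
    have h1 : (1 : R) ∈ D := by rw [htop]; trivial
    have h2 : (1 : R) * r ∈ I ^ n := h1
    rw [one_mul] at h2
    exact hr h2
  obtain ⟨M, hM, hDM⟩ := Ideal.exists_le_maximal D hD
  have hIn : I ^ n ≤ D := fun t ht => Ideal.mul_mem_right _ _ ht
  have hIM : I ≤ M := hM.isPrime.le_of_pow_le (hIn.trans hDM)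
  have h1 := h ⟨⟨M, hM⟩, hIM⟩
  rw [IsLocalization.mem_map_algebraMap_iff M.primeCompl] at h1
  obtain ⟨⟨i, s⟩, his⟩ := h1
  rw [← map_mul, IsLocalization.eq_iff_exists M.primeCompl] at his
  obtain ⟨c, hc⟩ := his
  have h2 : (c : R) * (s : R) ∈ D := by
    show (c : R) * (s : R) * r ∈ I ^ n
    have : (c : R) * (s : R) * r = (c : R) * (i : R) := by rw [← hc]; ring
    rw [this]
    exact Ideal.mul_mem_left _ _ i.2
  rcases hM.isPrime.mem_or_mem (hDM h2) with h3 | h3
  · exact c.2 h3
  · exact s.2 h3

end ker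

section compl

variable {R : Type u} [CommRing R]

theorem pi_mem_smul_top_iff {ι : Type*} [Finite ι] (M : ι → Type*) [∀ i, AddCommGroup (M i)]
    [∀ i, Module R (M i)] (J : Ideal R) (z : ∀ i, M i) :
    z ∈ (J • ⊤ : Submodule R (∀ i, M i)) ↔ ∀ i, z i ∈ (J • ⊤ : Submodule R (M i)) := by
  constructor
  · intro hz i
    refine Submodule.smul_induction_on hz (fun r hr w _ => ?_) (fun x y hx hy => ?_)
    · show r • w i ∈ (J • ⊤ : Submodule R (M i))
      exact Submodule.smul_mem_smul hr Submodule.mem_top
    · show x i + y i ∈ (J • ⊤ : Submodule R (M i))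
      exact Submodule.add_mem _ hx hy
  · intro hz
    classical
    cases nonempty_fintype ι
    rw [← Finset.univ_sum_single z]
    refine Submodule.sum_mem _ (fun i _ => ?_)
    refine Submodule.smul_induction_on (hz i) (fun r hr w _ => ?_) (fun x y hx hy => ?_)
    · rw [Pi.single_smul]
      exact Submodule.smul_mem_smul hr Submodule.mem_top
    · rw [Pi.single_add]
      exact Submodule.add_mem _ hx hy

end compl

/-- Let R be a semilocal ring (finitely many maximal ideals) and I an ideal of R of co-height zero, i.e.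
every prime ideal containing I is maximal. Then the canonical map from the I-adic completion of R to
the product, over the maximal ideals m ⊇ I, of the I-adic completions of the local rings R_m
(equivalently their IR_m-adic completions) is bijective; it is the continuous ring isomorphism of
the source, stated here as bijectivity of the canonical map of completed modules. -/
theorem result
    (R : Type u) [CommRing R] (hR : Finite (MaximalSpectrum R)) (I : Ideal R)
    (hI : ∀ (p : Ideal R), p.IsPrime → I ≤ p → p.IsMaximal) :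
    Function.Bijective (LinearMap.pi (fun m : {m : MaximalSpectrum R // I ≤ m.asIdeal} =>
      AdicCompletion.map I (Algebra.linearMap R (Localization.AtPrime m.1.asIdeal)))) := by
  classical
  have := hR
  have : Fintype {m : MaximalSpectrum R // I ≤ m.asIdeal} := Fintype.ofFinite _
  let M : {m : MaximalSpectrum R // I ≤ m.asIdeal} → Type u :=
    fun m => Localization.AtPrime m.1.asIdeal
  let g : R →ₗ[R] (∀ m, M m) := LinearMap.pi (fun m => Algebra.linearMap R (M m))
  have hΦ : (LinearMap.pi (fun m : {m : MaximalSpectrum R // I ≤ m.asIdeal} =>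
      AdicCompletion.map I (Algebra.linearMap R (Localization.AtPrime m.1.asIdeal)))) =
      (AdicCompletion.pi I M) ∘ₗ (AdicCompletion.map I g) := by
    refine LinearMap.ext (fun x => funext (fun m => ?_))
    show AdicCompletion.map I (Algebra.linearMap R (M m)) x =
      AdicCompletion.map I (LinearMap.proj m) (AdicCompletion.map I g x)
    rw [AdicCompletion.map_comp_apply]
    rfl
  rw [hΦ, LinearMap.coe_comp]
  refine Function.Bijective.comp ?_ ⟨?_, ?_⟩
  · have h1 := (AdicCompletion.piEquivOfFintype I M).bijective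
    have h2 : ⇑(AdicCompletion.piEquivOfFintype I M) = ⇑(AdicCompletion.pi I M) :=
      funext (fun x => AdicCompletion.piEquivOfFintype_apply I M x)
    rw [← h2]
    exact h1
  · rw [injective_iff_map_eq_zero]
    intro x hx
    apply AdicCompletion.ext
    intro n
    obtain ⟨r, hr⟩ := Submodule.Quotient.mk_surjective _ (x.val n)
    have h1 : (AdicCompletion.map I g x).val n = 0 := by rw [hx]; rfl
    rw [AdicCompletion.map_val_apply, ← hr, LinearMap.reduceModIdeal_apply,
      Submodule.Quotient.mk_eq_zero, pi_mem_smul_top_iff] at h1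
    have h2 : r ∈ I ^ n := mem_pow_of_forall_mem I n r (fun m => by
      have h3 := h1 m
      rw [Ideal.smul_top_eq_map] at h3
      exact h3)
    rw [← hr, AdicCompletion.val_zero_apply, Submodule.Quotient.mk_eq_zero]
    have h4 : (I ^ n • ⊤ : Submodule R R) = I ^ n := by
      rw [smul_eq_mul, Ideal.mul_top]
    rw [h4]
    exact h2
  · apply AdicCompletion.map_surjective_of_mkQ_comp_surjective
    intro y
    obtain ⟨y₀, rfl⟩ := Submodule.Quotient.mk_surjective _ y
    obtain ⟨r, hr⟩ := exists_forall_sub_mem I hI y₀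
    refine ⟨r, ?_⟩
    show Submodule.Quotient.mk (g r) = Submodule.Quotient.mk y₀
    rw [Submodule.Quotient.eq, pi_mem_smul_top_iff]
    intro m
    rw [Ideal.smul_top_eq_map]
    exact hr m

end Groth.Agent.S14727
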