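import Groth.Statements.S14728
import Mathlib.RingTheory.RingHom.Surjective
import Mathlib.RingTheory.Localization.LocalizationLocalization
import Mathlib.RingTheory.Valuation.ValuationRing

set_option autoImplicit false
universe u
open ValPrufer

namespace Groth.Agent.S14728

theorem loc_part (R : Type u) [CommRing R] [IsDomain R]
    (hR : ∀ (p : Ideal R) [p.IsPrime], ValuationRing (Localization.AtPrime p))
    (S : Submonoid R) (B : Type u) [CommRing B] [IsDomain B] [Algebra R B] [IsLocalization S B]
    (q : Ideal B) [q.IsPrime] : ValuationRing (Localization.AtPrime q) := by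
  have : IsLocalization.AtPrime (Localization.AtPrime q) (q.comap (algebraMap R B)) :=
    IsLocalization.isLocalization_isLocalization_atPrime_isLocalization S _ q
  have := hR (q.comap (algebraMap R B))
  let e : Localization.AtPrime (q.comap (algebraMap R B)) ≃ₐ[R] Localization.AtPrime q :=
    IsLocalization.algEquiv (q.comap (algebraMap R B)).primeCompl _ _
  exact Function.Surjective.valuationRing e.toRingEquiv.toRingHom e.surjective

theorem quot_part (R : Type u) [CommRing R] [IsDomain R]
    (hR : ∀ (p : Ideal R) [p.IsPrime], ValuationRing (Localization.AtPrime p))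
    (I : Ideal R) [I.IsPrime] (q : Ideal (R ⧸ I)) [q.IsPrime] :
    ValuationRing (Localization.AtPrime q) := by
  have := hR (q.comap (Ideal.Quotient.mk I))
  exact Function.Surjective.valuationRing _
    (RingHom.surjective_localRingHom_of_surjective (Ideal.Quotient.mk I)
      Ideal.Quotient.mk_surjective q)

/-- Let R be a Prüfer domain, i.e. a domain all of whose local rings at primes are valuation rings. (a)
For a multiplicative subset S, any localisation B = S⁻¹R that is a domain (S not containing 0) is a
Prüfer domain. (b) For a prime ideal I, the quotient R/I is a Prüfer domain. -/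
theorem result
    (R : Type u) [CommRing R] [IsDomain R]
    (hR : ∀ (p : Ideal R) [p.IsPrime], ValuationRing (Localization.AtPrime p))
    (S : Submonoid R) (B : Type u) [CommRing B] [IsDomain B] [Algebra R B] [IsLocalization S B]
    (I : Ideal R) [I.IsPrime] :
    (∀ (q : Ideal B) [q.IsPrime], ValuationRing (Localization.AtPrime q)) ∧
      (∀ (q : Ideal (R ⧸ I)) [q.IsPrime], ValuationRing (Localization.AtPrime q)) :=
  ⟨fun q _ => loc_part R hR S B q, fun q _ => quot_part R hR I q⟩

end Groth.Agent.S14728
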