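import Groth.Statements.S14729
import Groth.Agent.H73.ValInter
import Mathlib.RingTheory.Spectrum.Maximal.Localization

set_option autoImplicit false
universe u
open ValPrufer

namespace Groth.Agent.S14729

open Groth.Agent.H73.ValInter

/-- The localization of a Prüfer domain at a maximal ideal, as a valuation subring of the fraction
field. -/
noncomputable def Vm (R L : Type u) [CommRing R] [IsDomain R] [Field L] [Algebra R L]
    [IsFractionRing R L]
    (hR : ∀ (p : Ideal R) [p.IsPrime], ValuationRing (Localization.AtPrime p))
    (m : MaximalSpectrum R) : ValuationSubring L :=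
  ValuationSubring.ofSubring
    (Localization.subalgebra.ofField L m.asIdeal.primeCompl
      m.asIdeal.primeCompl_le_nonZeroDivisors).toSubring
    (by
      intro x
      have hloc : IsLocalization.AtPrime (Localization.subalgebra.ofField L m.asIdeal.primeCompl
          m.asIdeal.primeCompl_le_nonZeroDivisors) m.asIdeal :=
        Localization.subalgebra.isLocalization_ofField L _ _
      have hv : ValuationRing (Localization.subalgebra.ofField L m.asIdeal.primeCompl
          m.asIdeal.primeCompl_le_nonZeroDivisors) := by
        have := hR m.asIdeal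
        let e : Localization.AtPrime m.asIdeal ≃ₐ[R]
            (Localization.subalgebra.ofField L m.asIdeal.primeCompl
              m.asIdeal.primeCompl_le_nonZeroDivisors) :=
          IsLocalization.algEquiv m.asIdeal.primeCompl _ _
        exact Function.Surjective.valuationRing e.toRingEquiv.toRingHom e.surjective
      rcases ValuationRing.isInteger_or_isInteger (Localization.subalgebra.ofField L
          m.asIdeal.primeCompl m.asIdeal.primeCompl_le_nonZeroDivisors) x with ⟨y, hy⟩ | ⟨y, hy⟩
      · left
        rw [← hy]
        exact y.2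
      · right
        rw [← hy]
        exact y.2)

/-- Let R be a semilocal Prüfer domain (an integral domain with finitely many maximal ideals whose
localisations at primes are valuation rings) with fraction field L, and let K ⊆ L be a subfield.
Then R ∩ K is again a semilocal Prüfer domain and its fraction field is K, i.e. every element of K
is a quotient of two elements of R ∩ K. -/
theorem result
    (R L : Type u) [CommRing R] [IsDomain R] [Field L] [Algebra R L] [IsFractionRing R L]
    (hR : ∀ (p : Ideal R) [p.IsPrime], ValuationRing (Localization.AtPrime p))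
    (hfin : Finite (MaximalSpectrum R)) (K : Subfield L) :
    (∀ (p : Ideal ↥((algebraMap R L).range ⊓ K.toSubring)) [p.IsPrime],
        ValuationRing (Localization.AtPrime p)) ∧
      Finite (MaximalSpectrum ↥((algebraMap R L).range ⊓ K.toSubring)) ∧
      ∀ x : L, x ∈ K → ∃ a b : L, a ∈ (algebraMap R L).range ⊓ K.toSubring ∧
        b ∈ (algebraMap R L).range ⊓ K.toSubring ∧ b ≠ 0 ∧ x = a / b := by
  classical
  let j : ↥((algebraMap R L).range ⊓ K.toSubring) →+* ↥K :=
    (Subring.subtype ((algebraMap R L).range ⊓ K.toSubring)).codRestrict K (fun x => x.2.2)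
  letI : Algebra ↥((algebraMap R L).range ⊓ K.toSubring) ↥K := j.toAlgebra
  have hj : ∀ a : ↥((algebraMap R L).range ⊓ K.toSubring),
      ((algebraMap ↥((algebraMap R L).range ⊓ K.toSubring) ↥K a : ↥K) : L) = (a : L) :=
    fun a => rfl
  have hinj : Function.Injective (algebraMap ↥((algebraMap R L).range ⊓ K.toSubring) ↥K) := by
    intro a b hab
    apply Subtype.ext
    have := congrArg (Subtype.val : ↥K → L) hab
    exact this
  haveI : Finite (MaximalSpectrum R) := hfin
  haveI : Nonempty (MaximalSpectrum R) := by
    obtain ⟨m, hm⟩ := Ideal.exists_maximal R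
    exact ⟨⟨m, hm⟩⟩
  let W : MaximalSpectrum R → ValuationSubring ↥K := fun m => (Vm R L hR m).comap K.subtype
  have hmemV : ∀ (m : MaximalSpectrum R) (x : L), x ∈ Vm R L hR m ↔
      x ∈ Localization.subalgebra.ofField L m.asIdeal.primeCompl
        m.asIdeal.primeCompl_le_nonZeroDivisors := fun m x => Iff.rfl
  have hrange : ∀ x : ↥K,
      x ∈ (algebraMap ↥((algebraMap R L).range ⊓ K.toSubring) ↥K).range ↔ ∀ m, x ∈ W m := by
    intro x
    constructor
    · rintro ⟨a, rfl⟩ m
      show ((algebraMap ↥((algebraMap R L).range ⊓ K.toSubring) ↥K a : ↥K) : L) ∈ Vm R L hR m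
      rw [hj, hmemV]
      obtain ⟨r, hr⟩ := a.2.1
      rw [← hr]
      exact Subalgebra.algebraMap_mem _ r
    · intro h
      have h1 : (x : L) ∈ (⨅ v : MaximalSpectrum R, Localization.subalgebra.ofField L _
          v.asIdeal.primeCompl_le_nonZeroDivisors) := by
        rw [Algebra.mem_iInf]
        intro m
        exact (hmemV m _).1 (h m)
      rw [MaximalSpectrum.iInf_localization_eq_bot, Algebra.mem_bot] at h1
      obtain ⟨r, hr⟩ := h1
      refine ⟨⟨(x : L), ⟨⟨r, hr⟩, x.2⟩⟩, ?_⟩
      apply Subtype.ext
      rfl
  refine ⟨fun p _ => valuationRing_localization W hinj hrange p,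
    finite_maximalSpectrum W hinj hrange, ?_⟩
  intro x hx
  obtain ⟨u, hu0, hu1, hu2, -⟩ := exists_unit_denominator W (⟨x, hx⟩ : ↥K)
  obtain ⟨b, hb⟩ := (hrange _).2 hu1
  obtain ⟨a, ha⟩ := (hrange _).2 hu2
  have hu0' : (u : L) ≠ 0 := fun h0 => hu0 (Subtype.ext h0)
  have hb' : (b : L) = (u : L)⁻¹ := by
    have := congrArg (Subtype.val : ↥K → L) hb
    rw [hj] at this
    rw [this]
    rfl
  have ha' : (a : L) = x * (u : L)⁻¹ := by
    have := congrArg (Subtype.val : ↥K → L) ha
    rw [hj] at this
    rw [this]
    rfl
  refine ⟨(a : L), (b : L), a.2, b.2, ?_, ?_⟩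
  · rw [hb']
    exact inv_ne_zero hu0'
  · rw [ha', hb', mul_div_assoc, div_self (inv_ne_zero hu0'), mul_one]

end Groth.Agent.S14729
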