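import Groth.Statements.S14730
import Groth.Agent.S14729
import Groth.Agent.H73.PruferDim

set_option autoImplicit false
universe u
open ValPrufer

namespace Groth.Agent.S14730

/-- Let R be a semilocal Prüfer domain (an integral domain with finitely many maximal ideals whose
localisations at primes are valuation rings). Then R is the increasing union of subrings that are
semilocal Prüfer domains of finite Krull dimension; equivalently, every finite subset of R is
contained in such a subring. -/
theorem result
    (R : Type u) [CommRing R] [IsDomain R]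
    (hR : ∀ (p : Ideal R) [p.IsPrime], ValuationRing (Localization.AtPrime p))
    (hfin : Finite (MaximalSpectrum R)) (s : Finset R) :
    ∃ R' : Subring R, (↑s : Set R) ⊆ R' ∧
      (∀ (p : Ideal R') [p.IsPrime], ValuationRing (Localization.AtPrime p)) ∧
      Finite (MaximalSpectrum R') ∧ ringKrullDim R' < ⊤ := by
  classical
  obtain ⟨hP₀, hF₀, -⟩ := Groth.Agent.S14729.result R (FractionRing R) hR hfin
    (Subfield.closure ((algebraMap R (FractionRing R)) '' (s : Set R)))
  have hinj : Function.Injective (algebraMap R (FractionRing R)) :=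
    IsFractionRing.injective R (FractionRing R)
  let K₀ : Subfield (FractionRing R) :=
    Subfield.closure ((algebraMap R (FractionRing R)) '' (s : Set R))
  let R' : Subring R := K₀.toSubring.comap (algebraMap R (FractionRing R))
  let φ : R' →+* ↥((algebraMap R (FractionRing R)).range ⊓ K₀.toSubring) :=
    ((algebraMap R (FractionRing R)).comp R'.subtype).codRestrict _
      (fun x => ⟨⟨x.1, rfl⟩, x.2⟩)
  have hφbij : Function.Bijective φ := by
    constructor
    · intro x y hxy
      apply Subtype.ext
      apply hinj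
      exact congrArg Subtype.val hxy
    · rintro ⟨y, ⟨x, rfl⟩, hy⟩
      exact ⟨⟨x, hy⟩, rfl⟩
  let e : R' ≃+* ↥((algebraMap R (FractionRing R)).range ⊓ K₀.toSubring) :=
    RingEquiv.ofBijective φ hφbij
  have hsR' : (↑s : Set R) ⊆ R' := by
    intro x hx
    show algebraMap R (FractionRing R) x ∈ K₀
    exact Subfield.subset_closure ⟨x, hx, rfl⟩
  have hPr : ∀ (p : Ideal R') [p.IsPrime], ValuationRing (Localization.AtPrime p) :=
    Groth.Agent.H73.prufer_of_ringEquiv e hP₀
  refine ⟨R', hsR', hPr, Groth.Agent.H73.finite_maximalSpectrum_of_ringEquiv e hF₀, ?_⟩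
  -- finite Krull dimension
  let s' : Finset R' := s.subtype (· ∈ R')
  have himage : (R'.subtype) '' (s' : Set R') = (s : Set R) := by
    ext x
    constructor
    · rintro ⟨x', hx', rfl⟩
      exact Finset.mem_subtype.mp hx'
    · intro hx
      exact ⟨⟨x, hsR' hx⟩, Finset.mem_subtype.mpr hx, rfl⟩
  have hlift : ∀ x ∈ Subring.closure (s : Set R), ∃ x' : R',
      x' ∈ Subring.closure (s' : Set R') ∧ (x' : R) = x := by
    intro x hx
    rw [← himage, ← RingHom.map_closure] at hx
    obtain ⟨x', hx', rfl⟩ := hx
    exact ⟨x', hx', rfl⟩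
  have hs' : ∀ d : R', ∃ a b : R', a ∈ Subring.closure (s' : Set R') ∧
      b ∈ Subring.closure (s' : Set R') ∧ b ≠ 0 ∧ b * d = a := by
    intro d
    have hd : algebraMap R (FractionRing R) d.1 ∈ K₀ := d.2
    obtain ⟨y, hy, z, hz, hyz⟩ := Subfield.mem_closure_iff.mp hd
    by_cases hz0 : z = 0
    · refine ⟨0, 1, zero_mem _, one_mem _, one_ne_zero, ?_⟩
      rw [hz0, div_zero] at hyz
      have hd0 : d.1 = 0 := hinj (by rw [← hyz, map_zero])
      rw [one_mul]
      exact Subtype.ext hd0
    · rw [← RingHom.map_closure] at hy hz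
      obtain ⟨y₁, hy₁, rfl⟩ := hy
      obtain ⟨z₁, hz₁, rfl⟩ := hz
      obtain ⟨y', hy', hy'e⟩ := hlift y₁ hy₁
      obtain ⟨z', hz', hz'e⟩ := hlift z₁ hz₁
      refine ⟨y', z', hy', hz', ?_, ?_⟩
      · intro h
        apply hz0
        rw [← hz'e, h]
        simp
      · apply Subtype.ext
        apply hinj
        show algebraMap R (FractionRing R) ((z' : R) * (d : R)) =
          algebraMap R (FractionRing R) (y' : R)
        rw [map_mul, hz'e, hy'e, ← hyz]
        field_simp
  have hdim := Groth.Agent.H73.ringKrullDim_lt_of_prufer R' hPr s' hs'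
  exact lt_of_lt_of_le hdim le_top

end Groth.Agent.S14730
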