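import Groth.Statements.S14731
import Groth.Agent.H73.SmoothFrac

set_option autoImplicit false
universe u
open ValPrufer

namespace Groth.Agent.S14731

/-- In characteristic zero, every field K generated as a field by a finite set is the fraction field of
a subring A of K of finite type and smooth over the integers. -/
theorem result
    (K : Type u) [Field K] [CharZero K] (s : Finset K)
    (hs : Subfield.closure (↑s : Set K) = ⊤) :
    ∃ A : Subring K, Algebra.FiniteType ℤ A ∧ Algebra.Smooth ℤ A ∧ IsFractionRing A K := by
  have hadj : IntermediateField.adjoin ℚ (s : Set K) = ⊤ := by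
    refine eq_top_iff.mpr fun x _ => ?_
    have hx : x ∈ Subfield.closure (s : Set K) := hs ▸ Subfield.mem_top x
    exact (Subfield.closure_le (t := (IntermediateField.adjoin ℚ (s : Set K)).toSubfield)).mpr
      (IntermediateField.subset_adjoin ℚ _) hx
  have hess : Algebra.EssFiniteType ℚ K := IntermediateField.fg_top_iff.mp ⟨s, hadj⟩
  have h1 : Algebra.FormallySmooth ℚ K := inferInstance
  have h2 : Algebra.FormallySmooth ℤ ℚ :=
    Algebra.FormallySmooth.of_isLocalization (nonZeroDivisors ℤ)
  have h3 : Algebra.FormallySmooth ℤ K := Algebra.FormallySmooth.comp ℤ ℚ K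
  exact Groth.Agent.H73.exists_smooth_subring_fractionRing (Algebra.adjoin ℤ (s : Set K))
    ⟨s, rfl⟩ (Groth.Agent.H73.exists_div_of_closure_eq_top _ hs)

end Groth.Agent.S14731
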