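import Groth.Statements.S14732
import Groth.Agent.H73.SmoothFrac

set_option autoImplicit false
universe u
open ValPrufer

namespace Groth.Agent.S14732

/-- In characteristic p > 0, a field K that is finitely generated over its prime subfield F (a field
with p elements) is the fraction field of an integral scheme smooth over F; concretely, there is an
F-subalgebra A of K, of finite type and smooth over F, whose fraction field is K. -/
theorem result
    (K : Type u) [Field K] (p : ℕ) [Fact p.Prime] [CharP K p] (s : Finset K)
    (hs : Subfield.closure (↑s : Set K) = ⊤) :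
    ∃ A : Subalgebra (⊥ : Subfield K) K, Algebra.FiniteType (⊥ : Subfield K) A ∧
      Algebra.Smooth (⊥ : Subfield K) A ∧ IsFractionRing A K := by
  have hfin : Finite (⊥ : Subfield K) := by
    have := Subfield.fintypeBot K p
    infer_instance
  have hess : Algebra.EssFiniteType (⊥ : Subfield K) K :=
    Field.fg_iff_essFiniteType.mp ⟨⟨s, hs⟩⟩
  have h1 : Algebra.FormallySmooth (⊥ : Subfield K) K := inferInstance
  obtain ⟨A, -, hft, hsm, hfr⟩ := Groth.Agent.H73.exists_smooth_subalgebra_fractionRing
    (Algebra.adjoin (⊥ : Subfield K) (s : Set K)) ⟨s, rfl⟩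
    (Groth.Agent.H73.exists_div_of_closure_eq_top _ hs)
  exact ⟨A, hft, hsm, hfr⟩

end Groth.Agent.S14732
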