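import Groth.Statements.S14733
import Groth.Agent.H38.ValFibreDim3
import Groth.Agent.H52.FibreDimPB
import Groth.Agent.H9.FibDimGeneric

set_option linter.style.haveILetI false

set_option autoImplicit false
open CategoryTheory AlgebraicGeometry
universe u
open ValPrufer

namespace Groth.Agent.S14733


open CategoryTheory.Limits in
/-- The pullback of an irreducible scheme along a preimmersion hitting the image of its generic
point is irreducible, with an explicit generic point. -/
theorem exists_generic_pullback {X Y Y' : Scheme.{u}} [IrreducibleSpace X] (f : X ⟶ Y) (g : Y' ⟶ Y)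
    [IsPreimmersion g] (y' : Y') (hy' : g.base y' = f.base (genericPoint X)) :
    ∃ ξ' : ↥(pullback f g), (pullback.snd f g).base ξ' = y' ∧
      ∀ z' : ↥(pullback f g), ξ' ⤳ z' := by
  obtain ⟨ξ', h1, h2⟩ := Scheme.Pullback.exists_preimage_pullback (genericPoint X) y' hy'.symm
  refine ⟨ξ', h2, fun z' => ?_⟩
  rw [← (pullback.fst f g).isEmbedding.isInducing.specializes_iff, h1]
  exact (genericPoint_spec X).specializes (Set.mem_univ _)

set_option maxHeartbeats 800000 in
open CategoryTheory.Limits in
theorem result' (R : Type u) [CommRing R] [IsDomain R]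
    (hR : ∀ (p : Ideal R) [p.IsPrime], ValuationRing (Localization.AtPrime p))
    (X : Scheme.{u}) [IrreducibleSpace X] (f : X ⟶ Spec (CommRingCat.of R))
    [LocallyOfFiniteType f] [QuasiCompact f] [IsDominant f] (γ : Spec (CommRingCat.of R))
    (h0 : Nonempty ↥(f.fiber γ)) :
    topologicalKrullDim ↥(f.fiber γ) =
      topologicalKrullDim ↥(f.fiber (genericPoint (Spec (CommRingCat.of R)))) := by
  haveI : IrreducibleSpace (Spec (CommRingCat.of R)) :=
    inferInstanceAs (IrreducibleSpace (PrimeSpectrum R))
  have hgenR : genericPoint (Spec (CommRingCat.of R)) = (⊥ : PrimeSpectrum R) :=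
    genericPoint_eq_bot_of_affine (CommRingCat.of R)
  have hfgen : f.base (genericPoint X) = genericPoint (Spec (CommRingCat.of R)) := by
    have h1 : IsGenericPoint (f.base (genericPoint X)) (closure (f.base '' Set.univ)) :=
      (genericPoint_spec X).image f.continuous
    rw [Set.image_univ, f.denseRange.closure_range] at h1
    exact h1.eq (genericPoint_spec _)
  -- the valuation ring
  let γ' : PrimeSpectrum R := γ
  haveI : γ'.asIdeal.IsPrime := γ'.2
  let A := Localization.AtPrime γ'.asIdeal
  haveI : ValuationRing A := hR γ'.asIdeal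
  let g : Spec (CommRingCat.of A) ⟶ Spec (CommRingCat.of R) :=
    Spec.map (CommRingCat.ofHom (algebraMap R A))
  haveI : IsPreimmersion g := IsPreimmersion.of_isLocalization γ'.asIdeal.primeCompl
  haveI : IrreducibleSpace (Spec (CommRingCat.of A)) :=
    inferInstanceAs (IrreducibleSpace (PrimeSpectrum A))
  have hgenA : genericPoint (Spec (CommRingCat.of A)) = (⊥ : PrimeSpectrum A) :=
    genericPoint_eq_bot_of_affine (CommRingCat.of A)
  have hgbot : g.base (⊥ : PrimeSpectrum A) = genericPoint (Spec (CommRingCat.of R)) := by
    rw [hgenR]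
    apply PrimeSpectrum.ext
    show Ideal.comap (algebraMap R A) ⊥ = ⊥
    rw [← RingHom.ker_eq_comap_bot]
    exact (RingHom.injective_iff_ker_eq_bot _).mp (IsLocalization.injective A
      γ'.asIdeal.primeCompl_le_nonZeroDivisors)
  have hgclosed : g.base (IsLocalRing.closedPoint A) = γ := by
    apply PrimeSpectrum.ext
    show Ideal.comap (algebraMap R A) (IsLocalRing.maximalIdeal A) = γ'.asIdeal
    exact Localization.AtPrime.under_maximalIdeal
  -- irreducibility of the base change
  obtain ⟨ξ', hξ'1, hξ'2⟩ := exists_generic_pullback f g (⊥ : PrimeSpectrum A)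
    (by rw [hgbot, hfgen])
  haveI : IrreducibleSpace ↥(pullback f g) := by
    have huniv : (Set.univ : Set ↥(pullback f g)) = closure {ξ'} := by
      ext z'
      simp only [Set.mem_univ, true_iff]
      exact (hξ'2 z').mem_closure
    exact { toPreirreducibleSpace := ⟨by rw [huniv]; exact isIrreducible_singleton.closure.isPreirreducible⟩
            toNonempty := ⟨ξ'⟩ }
  have hdom : DenseRange (pullback.snd f g).base := by
    intro a
    have h1 : (⊥ : PrimeSpectrum A) ⤳ a := by
      rw [← hgenA]
      exact (genericPoint_spec _).specializes (Set.mem_univ _)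
    rw [← hξ'1] at h1
    have h2 : a ∈ closure {(pullback.snd f g).base ξ'} := h1.mem_closure
    exact closure_mono (by rintro _ rfl; exact ⟨ξ', rfl⟩) h2
  -- the key pointwise claim
  have key : ∀ x : X, f.base x = γ → FlatMor.fibreDimAt f x =
      topologicalKrullDim ↥(f.fiber (genericPoint (Spec (CommRingCat.of R)))) := by
    intro x hx
    apply le_antisymm
    · have hxc : f.base x = g.base (IsLocalRing.closedPoint A) := hx.trans hgclosed.symm
      obtain ⟨x', hx'1, hx'2⟩ := Scheme.Pullback.exists_preimage_pullback (f := f) (g := g) x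
        (IsLocalRing.closedPoint A) hxc
      have e1 := Groth.Agent.H52.fibreDimAt_eq_of_isPullback f g _ _
        (IsPullback.of_hasPullback f g) x'
      rw [hx'1] at e1
      rw [← e1]
      refine (Groth.Agent.H38.ValFibreDim.fibreDimAt_le_dim_generic_fiber (pullback.snd f g) hdom x'
        hx'2).trans ?_
      rw [Groth.Agent.H9.FibDim.dim_fiber_le_iff]
      intro z' hz'
      rw [Groth.Agent.H52.fibreDimAt_eq_of_isPullback f g _ _ (IsPullback.of_hasPullback f g) z']
      refine (Groth.Agent.H9.FibDim.dim_fiber_le_iff f _ _).mp le_rfl _ ?_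
      have hc := congrArg (fun k => k.base z') (pullback.condition (f := f) (g := g))
      simp only [Scheme.Hom.comp_base, TopCat.hom_comp, ContinuousMap.comp_apply] at hc
      rw [hc, hz', hgenA, hgbot]
    · exact Groth.Agent.H9.FibDim.dim_generic_fiber_le_fibreDimAt f x
  -- conclude
  apply le_antisymm
  · rw [Groth.Agent.H9.FibDim.dim_fiber_le_iff]
    intro x hx
    exact (key x hx).le
  · obtain ⟨x0⟩ := h0
    have hx0 : f.base ((f.fiberι γ).base x0) = γ := Groth.Agent.H54.fiberι_mem f γ x0
    rw [← key _ hx0]
    exact (Groth.Agent.H9.FibDim.dim_fiber_le_iff f γ _).mp le_rfl _ hx0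


/-- Let R be a Prüfer domain (an integral domain whose localisations at primes are valuation rings), X
an irreducible scheme and f : X ⟶ Spec R a dominant morphism of finite type. If the fibre of f over
a point γ of Spec R is nonempty, then it has the same dimension as the fibre over the generic point. -/
theorem result
    (R : Type u) [CommRing R] [IsDomain R]
    (hR : ∀ (p : Ideal R) [p.IsPrime], ValuationRing (Localization.AtPrime p))
    (X : Scheme.{u}) [IrreducibleSpace X] (f : X ⟶ Spec (CommRingCat.of R))
    [LocallyOfFiniteType f] [QuasiCompact f] [IsDominant f] (γ : Spec (CommRingCat.of R))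
    (h0 : Nonempty ↥(f.fiber γ)) :
    topologicalKrullDim ↥(f.fiber γ) =
      topologicalKrullDim ↥(f.fiber (genericPoint (Spec (CommRingCat.of R)))) := by
  exact result' R hR X f γ h0

end Groth.Agent.S14733
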