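import Groth.Statements.S14738
import Mathlib

set_option autoImplicit false
set_option linter.style.haveILetI false
set_option linter.unusedSectionVars false
set_option linter.unusedVariables false
universe u
open ValPrufer

namespace Groth.Agent.S14738

section Helpers

variable {R : Type u} [CommRing R] [IsDomain R]

theorem prime_total (n : Ideal R) [n.IsPrime] [ValuationRing (Localization.AtPrime n)]
    (p q : Ideal R) [hpp : p.IsPrime] [hqp : q.IsPrime] (hp : p ≤ n) (hq : q ≤ n) :
    p ≤ q ∨ q ≤ p := by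
  have dp : Disjoint (n.primeCompl : Set R) p := by
    rw [Set.disjoint_left]
    intro x hx hxp
    exact hx (hp hxp)
  have dq : Disjoint (n.primeCompl : Set R) q := by
    rw [Set.disjoint_left]
    intro x hx hxq
    exact hx (hq hxq)
  have ep : (p.map (algebraMap R (Localization.AtPrime n))).under R = p :=
    IsLocalization.under_map_of_isPrime_disjoint n.primeCompl (Localization.AtPrime n) hpp dp
  have eq' : (q.map (algebraMap R (Localization.AtPrime n))).under R = q :=
    IsLocalization.under_map_of_isPrime_disjoint n.primeCompl (Localization.AtPrime n) hqp dq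
  rcases (ValuationRing.le_total_ideal (A := Localization.AtPrime n)).total
      (p.map (algebraMap R (Localization.AtPrime n)))
      (q.map (algebraMap R (Localization.AtPrime n))) with h | h
  · left
    exact ep.symm.le.trans ((Ideal.comap_mono h).trans eq'.le)
  · right
    exact eq'.symm.le.trans ((Ideal.comap_mono h).trans ep.le)

theorem exists_nat_bound (hdim : ringKrullDim R < ⊤) :
    ∃ d : ℕ, ringKrullDim R ≤ (d : WithBot ℕ∞) := by
  by_cases hb : ringKrullDim R = ⊥
  · exact ⟨0, hb ▸ bot_le⟩
  · obtain ⟨x, hx⟩ := WithBot.ne_bot_iff_exists.mp hb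
    have hxt : x ≠ ⊤ := by
      rintro rfl
      rw [← hx] at hdim
      exact lt_irrefl _ hdim
    obtain ⟨d, hd⟩ := ENat.ne_top_iff_exists.mp hxt
    refine ⟨d, ?_⟩
    rw [← hx, ← hd]
    exact_mod_cast le_rfl

theorem finite_primes_under (n : Ideal R) [n.IsPrime] [ValuationRing (Localization.AtPrime n)]
    (hdim : ringKrullDim R < ⊤) : {p : PrimeSpectrum R | p.asIdeal ≤ n}.Finite := by
  obtain ⟨d, hd⟩ := exists_nat_bound hdim
  have hht : ∀ p : PrimeSpectrum R, Order.height p ≤ (d : ℕ∞) := by
    intro p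
    have h1 : (Order.height p : WithBot ℕ∞) ≤ ringKrullDim R := Order.height_le_krullDim p
    have h2 : (Order.height p : WithBot ℕ∞) ≤ (d : WithBot ℕ∞) := h1.trans hd
    exact_mod_cast h2
  have hfin : ∀ p : PrimeSpectrum R, Order.height p < ⊤ := fun p =>
    lt_of_le_of_lt (hht p) (ENat.natCast_lt_top d)
  have hfinset : (Set.Iic (d : ℕ∞)).Finite := by
    refine Set.Finite.subset ((Set.finite_Iic d).image (Nat.cast : ℕ → ℕ∞)) ?_
    intro x hx
    have hxt : x ≠ ⊤ := ne_top_of_le_ne_top (ENat.natCast_lt_top d).ne hx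
    obtain ⟨k, rfl⟩ := ENat.ne_top_iff_exists.mp hxt
    exact ⟨k, Set.mem_Iic.mpr (by exact_mod_cast (Set.mem_Iic.mp hx)), rfl⟩
  refine Set.Finite.of_injOn (f := fun p : PrimeSpectrum R => Order.height p)
    (t := Set.Iic (d : ℕ∞)) ?_ ?_ hfinset
  · intro p _
    exact hht p
  · intro p hp q hq hpq
    by_contra hne
    rcases prime_total n p.asIdeal q.asIdeal hp hq with h | h
    · have hlt : p < q := lt_of_le_of_ne h hne
      exact (Order.height_strictMono hlt (hfin p)).ne hpq
    · have hlt : q < p := lt_of_le_of_ne h (Ne.symm hne)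
      exact (Order.height_strictMono hlt (hfin q)).ne hpq.symm

theorem finite_spec (hR : ∀ (p : Ideal R) [p.IsPrime], ValuationRing (Localization.AtPrime p))
    (hfin : Finite (MaximalSpectrum R)) (hdim : ringKrullDim R < ⊤) :
    (Set.univ : Set (PrimeSpectrum R)).Finite := by
  haveI := hfin
  have hcov : (Set.univ : Set (PrimeSpectrum R)) ⊆
      ⋃ n : MaximalSpectrum R, {p : PrimeSpectrum R | p.asIdeal ≤ n.asIdeal} := by
    intro p _
    obtain ⟨M, hM, hpM⟩ := Ideal.exists_le_maximal p.asIdeal p.isPrime.ne_top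
    exact Set.mem_iUnion.mpr ⟨⟨M, hM⟩, hpM⟩
  refine Set.Finite.subset (Set.finite_iUnion fun n => ?_) hcov
  haveI : n.asIdeal.IsPrime := n.isMaximal.isPrime
  haveI := hR n.asIdeal
  exact finite_primes_under n.asIdeal hdim

theorem exists_b [Finite (PrimeSpectrum R)] (m : Ideal R) [hmp : m.IsPrime] :
    ∃ b : R, b ∉ m ∧ ∀ p : Ideal R, p.IsPrime → ¬ p ≤ m → b ∈ p := by
  classical
  haveI := Fintype.ofFinite (PrimeSpectrum R)
  have hex : ∀ p : PrimeSpectrum R, ∃ c : R, ¬ p.asIdeal ≤ m → (c ∈ p.asIdeal ∧ c ∉ m) := by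
    intro p
    by_cases h : p.asIdeal ≤ m
    · exact ⟨1, fun h' => absurd h h'⟩
    · obtain ⟨c, hc1, hc2⟩ := SetLike.not_le_iff_exists.mp h
      exact ⟨c, fun _ => ⟨hc1, hc2⟩⟩
  choose c hc using hex
  refine ⟨∏ p ∈ Finset.univ.filter (fun p : PrimeSpectrum R => ¬ p.asIdeal ≤ m), c p, ?_, ?_⟩
  · intro hmem
    obtain ⟨p, hpT, hcp⟩ := (Ideal.IsPrime.prod_mem_iff).mp hmem
    exact (hc p (Finset.mem_filter.mp hpT).2).2 hcp
  · intro p hp hpm
    have hpT : (⟨p, hp⟩ : PrimeSpectrum R) ∈
        Finset.univ.filter (fun p : PrimeSpectrum R => ¬ p.asIdeal ≤ m) :=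
      Finset.mem_filter.mpr ⟨Finset.mem_univ _, hpm⟩
    exact Ideal.mem_of_dvd p (Finset.dvd_prod_of_mem c hpT) (hc ⟨p, hp⟩ hpm).1

theorem isLoc_away (m : Ideal R) [hmp : m.IsPrime] (b : R) (hbm : b ∉ m)
    (hb : ∀ p : Ideal R, p.IsPrime → ¬ p ≤ m → b ∈ p) :
    IsLocalization.AtPrime (Localization.Away b) m := by
  show IsLocalization m.primeCompl (Localization.Away b)
  rw [isLocalization_iff]
  refine ⟨?_, ?_, ?_⟩
  · rintro ⟨s, hs⟩
    rw [IsLocalization.Away.algebraMap_isUnit_iff (x := b)]
    have hrad : b ∈ (Ideal.span {s}).radical := by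
      rw [Ideal.radical_eq_sInf, Ideal.mem_sInf]
      rintro J ⟨hsJ, hJ⟩
      apply hb J hJ
      intro hJm
      exact hs (hJm (hsJ (Ideal.subset_span rfl)))
    obtain ⟨k, hk⟩ := Ideal.mem_radical_iff.mp hrad
    exact ⟨k, Ideal.mem_span_singleton.mp hk⟩
  · intro z
    obtain ⟨⟨r, ⟨_, k, rfl⟩⟩, h⟩ := IsLocalization.surj (Submonoid.powers b) z
    exact ⟨⟨r, ⟨b ^ k, fun hmem => hbm (hmp.mem_of_pow_mem k hmem)⟩⟩, h⟩
  · intro x y hxy
    obtain ⟨⟨_, k, rfl⟩, hc⟩ :=
      (IsLocalization.eq_iff_exists (Submonoid.powers b) (Localization.Away b)).mp hxy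
    exact ⟨⟨b ^ k, fun hmem => hbm (hmp.mem_of_pow_mem k hmem)⟩, hc⟩

end Helpers


/-- Let R be a semilocal Prüfer domain (an integral domain with finitely many maximal ideals whose
localisations at primes are valuation rings) of finite Krull dimension, and m a maximal ideal of R.
Then there is a ∈ R with V(a) = {m}, i.e. m is the only prime ideal containing a, and there is b ∉ m
such that R[1/b] is the localisation R_m (every element outside m becomes invertible after inverting
b); consequently the spectra of the local rings R_m form a Zariski open covering of Spec R. (The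
published remark assumes positive Krull dimension to construct a; for R a field the assertions hold
with a = 0 and b = 1. It also takes b to be the product of the elements a_n chosen in the same way
for the other maximal ideals n; that choice fails as soon as a non-maximal prime lies in another
maximal ideal but not in m, e.g. for the intersection of two independent rank-two valuation rings of
a field, so this row asserts only that some such b exists.) -/
theorem result
    (R : Type u) [CommRing R] [IsDomain R]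
    (hR : ∀ (p : Ideal R) [p.IsPrime], ValuationRing (Localization.AtPrime p))
    (hfin : Finite (MaximalSpectrum R)) (hdim : ringKrullDim R < ⊤)
    (m : Ideal R) [m.IsMaximal] :
    (∃ a : R, ∀ (p : Ideal R), p.IsPrime → (a ∈ p ↔ p = m)) ∧
      ∃ b : R, b ∉ m ∧ IsLocalization.AtPrime (Localization.Away b) m := by
  classical
  haveI := hfin
  have hspec : (Set.univ : Set (PrimeSpectrum R)).Finite := finite_spec hR hfin hdim
  haveI : Finite (PrimeSpectrum R) := Set.finite_univ_iff.mp hspec
  haveI := Fintype.ofFinite (PrimeSpectrum R)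
  have hmax : m.IsMaximal := inferInstance
  have hmp : m.IsPrime := hmax.isPrime
  constructor
  · have hnot : ¬ ((m : Set R) ⊆ ⋃ i ∈ ((Finset.univ.filter
        (fun p : PrimeSpectrum R => p.asIdeal ≠ m) : Finset (PrimeSpectrum R)) :
        Set (PrimeSpectrum R)), (i.asIdeal : Set R)) := by
      intro hsub
      obtain ⟨i, hi, hle⟩ := (Ideal.subset_union_prime (f := PrimeSpectrum.asIdeal)
        (⟨m, hmp⟩ : PrimeSpectrum R) ⟨m, hmp⟩ (fun i _ _ _ => i.isPrime)).mp hsub
      have hne : i.asIdeal ≠ m := (Finset.mem_filter.mp hi).2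
      exact hne (Ideal.IsMaximal.eq_of_le hmax i.isPrime.ne_top hle).symm
    obtain ⟨a, ham, hau⟩ := Set.not_subset.mp hnot
    refine ⟨a, fun p hp => ⟨fun hap => ?_, fun h => h ▸ ham⟩⟩
    by_contra hne
    apply hau
    refine Set.mem_biUnion (x := (⟨p, hp⟩ : PrimeSpectrum R)) ?_ hap
    exact Finset.mem_coe.mpr (Finset.mem_filter.mpr ⟨Finset.mem_univ _, hne⟩)
  · obtain ⟨b, hbm, hb⟩ := exists_b m
    exact ⟨b, hbm, isLoc_away m b hbm hb⟩

end Groth.Agent.S14738
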