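import Groth.Statements.S14739
import Mathlib
import Groth.Agent.S14738

set_option autoImplicit false
set_option linter.style.haveILetI false
set_option linter.unusedSectionVars false
set_option linter.unusedVariables false
universe u
open ValPrufer

namespace Groth.Agent.S14739



/-- Let R be a semilocal Prüfer domain (an integral domain with finitely many maximal ideals whose
localisations at primes are valuation rings) of finite Krull dimension and S an R-algebra of finite
type. Then Spec S is a Noetherian topological space, and so is Spec T for every localisation T of S.
(The published remark is for a scheme of finite type over R and the spectrum of any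
semilocalisation; the affine case with arbitrary localisations is stated.) -/
theorem result
    (R : Type u) [CommRing R] [IsDomain R]
    (hR : ∀ (p : Ideal R) [p.IsPrime], ValuationRing (Localization.AtPrime p))
    (hfin : Finite (MaximalSpectrum R)) (hdim : ringKrullDim R < ⊤)
    (S : Type u) [CommRing S] [Algebra R S] [Algebra.FiniteType R S]
    (M : Submonoid S) (T : Type u) [CommRing T] [Algebra S T] [IsLocalization M T] :
    TopologicalSpace.NoetherianSpace (PrimeSpectrum S) ∧
      TopologicalSpace.NoetherianSpace (PrimeSpectrum T) := by
  haveI := hfin
  have hspec : (Set.univ : Set (PrimeSpectrum R)).Finite :=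
    Groth.Agent.S14738.finite_spec hR hfin hdim
  haveI : Finite (PrimeSpectrum R) := Set.finite_univ_iff.mp hspec
  have hS : TopologicalSpace.NoetherianSpace (PrimeSpectrum S) := by
    have hfib : ∀ p : PrimeSpectrum R, TopologicalSpace.NoetherianSpace
        (PrimeSpectrum.comap (algebraMap R S) ⁻¹' {p} : Set (PrimeSpectrum S)) := by
      intro p
      haveI : IsNoetherianRing (p.asIdeal.Fiber S) :=
        Algebra.FiniteType.isNoetherianRing p.asIdeal.ResidueField (p.asIdeal.Fiber S)
      exact (TopologicalSpace.noetherianSpace_iff_of_homeomorph
        (PrimeSpectrum.preimageHomeomorphFiber R S p)).mpr inferInstance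
    have hU := TopologicalSpace.NoetherianSpace.iUnion (hf := hfib)
      (fun p : PrimeSpectrum R =>
        (PrimeSpectrum.comap (algebraMap R S) ⁻¹' {p} : Set (PrimeSpectrum S)))
    have hcov : (⋃ p : PrimeSpectrum R,
        (PrimeSpectrum.comap (algebraMap R S) ⁻¹' {p} : Set (PrimeSpectrum S))) = Set.univ := by
      ext x
      simp
    rw [hcov] at hU
    exact TopologicalSpace.noetherian_univ_iff.mp hU
  refine ⟨hS, ?_⟩
  haveI := hS
  exact (PrimeSpectrum.localization_comap_isEmbedding T M).isInducing.noetherianSpace

end Groth.Agent.S14739
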