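import Groth.Statements.S14741
import Groth.Agent.S0010
import Groth.Agent.H18.ProjSpaceGlobal
import Mathlib.AlgebraicGeometry.ProjectiveSpectrum.Proper

set_option autoImplicit false
set_option linter.style.haveILetI false
universe u
open CategoryTheory AlgebraicGeometry
open ValPrufer

namespace Groth.Agent.S14741

/-- Let R be a semilocal Prüfer domain (an integral domain with finitely many maximal ideals whose
localisations at primes are valuation rings) of finite Krull dimension, m ≥ 1, X a closed subscheme
of projective (m-1)-space over R which is flat over R, and F a finitely presented (equivalently,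
coherent) O_X-module. Then H^q(X, F) = 0 for all q > m. -/
theorem result
    (R : Type u) [CommRing R] [IsDomain R]
    (hR : ∀ (p : Ideal R) [p.IsPrime], ValuationRing (Localization.AtPrime p))
    (hfin : Finite (MaximalSpectrum R)) (hdim : ringKrullDim R < ⊤)
    (m : ℕ) (hm : 1 ≤ m) (X : Scheme.{u}) (ι : X ⟶ CohB1.ProjSpace (m - 1) R) [IsClosedImmersion ι]
    [Flat (ι ≫ CohB1.ProjSpace.toSpec (m - 1) R)]
    (F : X.Modules) (hF : CohB1.IsFP F) (q : ℕ) (hq : m < q) :
    Subsingleton (Coh.HH X F q) := by
  haveI : Scheme.IsSeparated (CohB1.ProjSpace (m - 1) R) :=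
    inferInstanceAs (Scheme.IsSeparated (Proj (CohB1.polyGrading (m - 1) R)))
  haveI : Scheme.IsSeparated X := ⟨by
    rw [← CategoryTheory.Limits.terminal.comp_from ι]
    infer_instance⟩
  haveI : Coh.IsQCoh F := by
    obtain ⟨σ, _⟩ :=
      SheafOfModules.IsFinitePresentation.exists_quasicoherentData (R := X.ringCatSheaf) F
    exact σ.isQuasicoherent
  refine Groth.Agent.S0010.result X ((m - 1) + 1)
    (fun k => ι ⁻¹ᵁ Proj.basicOpen (CohB1.polyGrading (m - 1) R) (MvPolynomial.X k)) ?_ ?_ ?_ F q
    (by omega)
  · intro k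
    have hk : IsAffineOpen (X := CohB1.ProjSpace (m - 1) R)
        (Proj.basicOpen (CohB1.polyGrading (m - 1) R) (MvPolynomial.X k)) :=
      Proj.isAffineOpen_basicOpen (CohB1.polyGrading (m - 1) R) (MvPolynomial.X k)
        (Groth.Agent.H18.ProjSpaceGlobal.Xmem (m - 1) R k) Nat.one_pos
    exact hk.preimage ι
  · have h := Proj.iSup_basicOpen_eq_top (CohB1.polyGrading (m - 1) R) _
      (Groth.Agent.H18.ProjSpaceGlobal.irrelevant_le_span (m - 1) R)
    have h2 := Scheme.Hom.preimage_iSup ι (fun k : Fin (m - 1 + 1) =>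
      Proj.basicOpen (CohB1.polyGrading (m - 1) R) (MvPolynomial.X k))
    exact h2.symm.trans (congrArg (fun V => ι ⁻¹ᵁ V) h)
  · intro V W hV hW
    exact hV.inf hW

end Groth.Agent.S14741
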