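import Groth.Statements.S14743

set_option autoImplicit false
universe u
open AlgGrp

namespace Groth.Agent.S14743

theorem comm_group_identity {A : Type*} [CommGroup A] (a b c : A) :
    a * (a * (b * c)⁻¹) = b * (a * (b * c)⁻¹) * (c * (a * (b * c)⁻¹)) := by
  have h : b * c * (b * c)⁻¹ = 1 := mul_inv_cancel _
  generalize (b * c)⁻¹ = d at h ⊢
  calc a * (a * d) = (b * c * d) * (a * (a * d)) := by rw [h, one_mul]
    _ = b * (a * d) * (c * (a * d)) := by ac_rfl

theorem group_identity2 {A : Type*} [Group A] (a : A) : a * (a * a)⁻¹ = a⁻¹ := by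
  rw [mul_inv_rev, ← mul_assoc, mul_inv_cancel, one_mul]

open CategoryTheory MonoidalCategory CartesianMonoidalCategory MonObj GrpObj AlgebraicGeometry CategoryTheory.Limits

section general
variable {C : Type*} [Category C] [CartesianMonoidalCategory C] [BraidedCategory C]

/-- Abstract version in any cartesian monoidal category. -/
theorem split_of_const {L G B : C} [GrpObj L] [GrpObj G] [GrpObj B]
    [IsCommMonObj G]
    (i : L ⟶ G) (π : G ⟶ B) [IsMonHom π] (hker : IsPullback i (toUnit L) π η[B])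
    (hconst : ∀ f : B ⊗ B ⟶ L, ∃ l : 𝟙_ C ⟶ L, f = toUnit (B ⊗ B) ≫ l)
    (s : B ⟶ G) (hs : s ≫ π = 𝟙 B) :
    ∃ s' : B ⟶ G, IsMonHom s' ∧ s' ≫ π = 𝟙 B := by
  -- the obstruction cocycle
  let f : B ⊗ B ⟶ G := (μ[B] ≫ s) * ((fst B B ≫ s) * (snd B B ≫ s))⁻¹
  have hfπ : f ≫ π = toUnit (B ⊗ B) ≫ η[B] := by
    simp only [f, MonObj.mul_comp, GrpObj.inv_comp, Category.assoc, hs, Category.comp_id]
    rw [MonObj.mul_eq_mul, mul_inv_cancel]
    rfl
  obtain ⟨f', hf'⟩ : ∃ f' : B ⊗ B ⟶ L, f' ≫ i = f :=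
    ⟨hker.lift f (toUnit _) hfπ, hker.lift_fst _ _ _⟩
  obtain ⟨l, hl⟩ := hconst f'
  set g : 𝟙_ C ⟶ G := l ≫ i with hg
  have hfg : f = toUnit (B ⊗ B) ≫ g := by rw [← hf', hl, Category.assoc]
  have hgπ : g ≫ π = η[B] := by
    rw [hg, Category.assoc, hker.w, ← Category.assoc]
    have : l ≫ toUnit L = 𝟙 _ := toUnit_unique _ _
    rw [this, Category.id_comp]
  refine ⟨s * (toUnit B ≫ g), ?_, ?_⟩
  · have hmul : μ[B] ≫ (s * (toUnit B ≫ g)) =
        ((s * (toUnit B ≫ g)) ⊗ₘ (s * (toUnit B ≫ g))) ≫ μ[G] := by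
      have e1 : ((s * (toUnit B ≫ g)) ⊗ₘ (s * (toUnit B ≫ g))) ≫ μ[G] =
          (fst B B ≫ (s * (toUnit B ≫ g))) * (snd B B ≫ (s * (toUnit B ≫ g))) := by
        rw [Hom.mul_def (fst B B ≫ _), tensorHom_def']
        congr 1
        ext <;> simp
      rw [e1]
      simp only [MonObj.comp_mul]
      have e2 : μ[B] ≫ toUnit B ≫ g = f := by
        rw [hfg, ← Category.assoc]; congr 1; exact toUnit_unique _ _
      have e3 : fst B B ≫ toUnit B ≫ g = f := by
        rw [hfg, ← Category.assoc]; congr 1; exact toUnit_unique _ _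
      have e4 : snd B B ≫ toUnit B ≫ g = f := by
        rw [hfg, ← Category.assoc]; congr 1; exact toUnit_unique _ _
      rw [e2, e3, e4]
      show (μ[B] ≫ s) * ((μ[B] ≫ s) * ((fst B B ≫ s) * (snd B B ≫ s))⁻¹) = _
      simp only [f]
      generalize (μ[B] ≫ s) = a
      generalize (fst B B ≫ s) = b
      generalize (snd B B ≫ s) = c
      exact comm_group_identity a b c
    have hone : η[B] ≫ (s * (toUnit B ≫ g)) = η[G] := by
      -- evaluate the cocycle at (1,1)
      have h1 : lift η[B] η[B] ≫ f = g := by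
        rw [hfg, ← Category.assoc]
        have : lift η[B] η[B] ≫ toUnit (B ⊗ B) = 𝟙 _ := toUnit_unique _ _
        rw [this, Category.id_comp]
      have h2 : lift η[B] η[B] ≫ f = (η[B] ≫ s)⁻¹ := by
        simp only [f, MonObj.comp_mul, GrpObj.comp_inv]
        have : lift η[B] η[B] ≫ μ[B] = η[B] := by
          rw [← Hom.mul_def, MonObj.one_eq_one, _root_.mul_one]
        rw [← Category.assoc, this, ← Category.assoc, lift_fst, ← Category.assoc, lift_snd]
        generalize (η[B] ≫ s) = a
        exact group_identity2 a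
      rw [MonObj.comp_mul, ← Category.assoc]
      have h3 : η[B] ≫ toUnit B = 𝟙 _ := toUnit_unique _ _
      rw [h3, Category.id_comp, ← h1, h2, mul_inv_cancel, MonObj.one_eq_one]
    exact ⟨hone, hmul⟩
  · rw [MonObj.mul_comp, hs, Category.assoc, hgπ]
    rw [show toUnit B ≫ η[B] = (1 : B ⟶ B) from rfl, _root_.mul_one]

end general

/-- Over an algebraically closed field k let L, G, B be commutative k-group schemes, i : L → G and π : G
→ B homomorphisms with i the kernel of π, and suppose that every k-morphism B × B → L is constant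
(factors through a k-point of L). If π admits a section which is a morphism of k-schemes, then it
admits a section which is a homomorphism, so the extension splits. (The published statement is for
algebraic groups, that is, of finite type over k; finiteness plays no role and is not assumed here.) -/
theorem result (k : Type u) [Field k] [IsAlgClosed k]
    (L G B : Over (Spec (CommRingCat.of k))) [GrpObj L] [GrpObj G] [GrpObj B]
    [IsCommMonObj L] [IsCommMonObj G] [IsCommMonObj B]
    (i : L ⟶ G) [IsMonHom i] (π : G ⟶ B) [IsMonHom π] (hker : AlgGrp.IsKernel i π)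
    (hconst : ∀ f : B ⊗ B ⟶ L, ∃ l : 𝟙_ (Over (Spec (CommRingCat.of k))) ⟶ L, f = toUnit (B ⊗ B) ≫ l)
    (s : B ⟶ G) (hs : s ≫ π = 𝟙 B) :
    ∃ s' : B ⟶ G, IsMonHom s' ∧ s' ≫ π = 𝟙 B :=
  split_of_const i π hker hconst s hs

end Groth.Agent.S14743
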