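import Groth.Statements.S14766
import Groth.Agent.H73.Subtr
import Groth.Agent.H73.GenericFibre
import Mathlib.RingTheory.DedekindDomain.Basic

set_option autoImplicit false
universe u
open Subtr

namespace Groth.Agent.S14766

open CategoryTheory CategoryTheory.Limits AlgebraicGeometry IsLocalRing

/-- The two points of the spectrum of a discrete valuation ring. -/
theorem eq_bot_or_closedPoint (V : Type u) [CommRing V] [IsDomain V] [IsDiscreteValuationRing V]
    (p : PrimeSpectrum V) :
    p = (⟨⊥, Ideal.isPrime_bot⟩ : PrimeSpectrum V) ∨ p = closedPoint V := by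
  by_cases h : p.asIdeal = ⊥
  · left; exact PrimeSpectrum.ext h
  · right
    apply PrimeSpectrum.ext
    have : p.asIdeal.IsMaximal := p.isPrime.isMaximal h
    exact IsLocalRing.eq_maximalIdeal this

theorem forward (V : Type u) [CommRing V] [IsDomain V]
    [IsDiscreteValuationRing V] {X : Scheme.{u}} (f : X ⟶ Spec (CommRingCat.of V))
    (hq : Topology.IsQuotientMap f) : Subtr.IsSSubtrusive f := by
  let η : Spec (CommRingCat.of V) := (⟨⊥, Ideal.isPrime_bot⟩ : PrimeSpectrum V)
  let c : Spec (CommRingCat.of V) := closedPoint V
  have hηc : η ⤳ c := specializes_closedPoint (R := V) _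
  have hcl : IsClosed ({c} : Set (Spec (CommRingCat.of V))) :=
    isClosed_singleton_closedPoint (R := V)
  have hne : η ≠ c := by
    intro h
    have h1 : (⊥ : Ideal V) = maximalIdeal V := congrArg PrimeSpectrum.asIdeal h
    exact (IsDiscreteValuationRing.not_a_field V) h1.symm
  -- the key pair
  have key : ∃ x x' : X, x' ⤳ x ∧ f x = c ∧ f x' = η := by
    have hnotopen : ¬ IsOpen (f ⁻¹' {c}) := by
      intro ho
      have : IsOpen ({c} : Set (Spec (CommRingCat.of V))) := hq.isOpen_preimage.1 ho
      exact hne (hηc.mem_open this rfl)
    have : ∃ x ∈ f ⁻¹' {c}, x ∈ closure (f ⁻¹' {c})ᶜ := by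
      by_contra hno
      push Not at hno
      apply hnotopen
      rw [← isClosed_compl_iff]
      rw [← closure_subset_iff_isClosed]
      intro x hx
      by_contra hx'
      exact hno x (not_not.1 hx') hx
    obtain ⟨x, hxc, hx⟩ := this
    have hcompl : (f ⁻¹' {c})ᶜ = f ⁻¹' {η} := by
      ext y
      simp only [Set.mem_compl_iff, Set.mem_preimage, Set.mem_singleton_iff]
      rcases eq_bot_or_closedPoint V (f y) with h | h
      · exact ⟨fun _ => h, fun _ h' => hne (h.symm.trans h')⟩
      · exact ⟨fun h' => absurd h h', fun h' => absurd (h'.symm.trans h) hne⟩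
    rw [hcompl] at hx
    obtain ⟨x', hx'x, hx'⟩ := Groth.Agent.H73.exists_generization_in_generic_fibre f x hx
    exact ⟨x, x', hx'x, hxc, hx'⟩
  intro y y' hyy'
  by_cases hy : y' = y
  · subst hy
    obtain ⟨x, hx⟩ := hq.surjective y'
    exact ⟨x, x, specializes_rfl, hx, hx⟩
  · have hy'η : y' = η := by
      rcases eq_bot_or_closedPoint V y' with h | h
      · exact h
      · exfalso
        apply hy
        have : y ∈ ({c} : Set (Spec (CommRingCat.of V))) := by
          have h' : y' ∈ ({c} : Set (Spec (CommRingCat.of V))) := h
          exact hyy'.mem_closed hcl h'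
        exact h.trans this.symm
    have hyc : y = c := by
      rcases eq_bot_or_closedPoint V y with h | h
      · exact absurd (hy'η.trans h.symm) hy
      · exact h
    rw [hy'η, hyc]
    exact key

theorem backward (V : Type u) [CommRing V] [IsDomain V]
    [IsDiscreteValuationRing V] {X : Scheme.{u}} (f : X ⟶ Spec (CommRingCat.of V))
    (hs : Subtr.IsSSubtrusive f) : Topology.IsQuotientMap f := by
  let η : Spec (CommRingCat.of V) := (⟨⊥, Ideal.isPrime_bot⟩ : PrimeSpectrum V)
  let c : Spec (CommRingCat.of V) := closedPoint V
  have hηc : η ⤳ c := specializes_closedPoint (R := V) _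
  have hcl : IsClosed ({c} : Set (Spec (CommRingCat.of V))) :=
    isClosed_singleton_closedPoint (R := V)
  rw [Topology.isQuotientMap_iff]
  refine ⟨?_, Groth.Agent.H73.IsSSubtrusive.surjective hs⟩
  rw [Topology.isCoinducing_iff]
  intro s
  refine ⟨fun ho => ?_, fun ho => ho.preimage f.continuous⟩
  -- s is stable under generization
  have hgen : ∀ y y', y ∈ s → y' ⤳ y → y' ∈ s := by
    intro y y' hy hyy'
    obtain ⟨x, x', hxx', hx, hx'⟩ := hs hyy'
    have : x ∈ f ⁻¹' s := by rw [Set.mem_preimage, hx]; exact hy
    have : x' ∈ f ⁻¹' s := hxx'.mem_open ho this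
    rw [Set.mem_preimage, hx'] at this
    exact this
  by_cases hc : c ∈ s
  · have : s = Set.univ := by
      ext y
      simp only [Set.mem_univ, iff_true]
      exact hgen c y hc (specializes_closedPoint (R := V) y)
    rw [this]; exact isOpen_univ
  · by_cases hη : η ∈ s
    · have : s = ({c} : Set (Spec (CommRingCat.of V)))ᶜ := by
        ext y
        simp only [Set.mem_compl_iff, Set.mem_singleton_iff]
        rcases eq_bot_or_closedPoint V y with h | h
        · have hy : y = η := h
          rw [hy]
          refine ⟨fun _ h' => hc (h' ▸ hη), fun _ => hη⟩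
        · have hy : y = c := h
          rw [hy]
          exact ⟨fun h' => absurd h' hc, fun h' => absurd rfl h'⟩
      rw [this]; exact hcl.isOpen_compl
    · have : s = ∅ := by
        ext y
        simp only [Set.mem_empty_iff_false, iff_false]
        rcases eq_bot_or_closedPoint V y with h | h
        · have hy : y = η := h
          rw [hy]; exact hη
        · have hy : y = c := h
          rw [hy]; exact hc
      rw [this]; exact isOpen_empty

/-- Let V be a discrete valuation ring and f : X ⟶ Spec V any morphism of schemes. Then the underlying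
continuous map of f is a quotient map (f is submersive) if and only if every ordered pair of points
of Spec V lifts to an ordered pair of points of X. -/
theorem result (V : Type u) [CommRing V] [IsDomain V]
    [IsDiscreteValuationRing V] {X : Scheme.{u}} (f : X ⟶ Spec (CommRingCat.of V)) :
    Topology.IsQuotientMap f ↔ Subtr.IsSSubtrusive f :=
  ⟨forward V f, backward V f⟩

end Groth.Agent.S14766
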