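import Groth.Statements.S14767
import Groth.Agent.H73.ClosedImage
import Groth.Agent.H73.Subtr

set_option autoImplicit false
universe u
open CategoryTheory CategoryTheory.Limits AlgebraicGeometry
open Subtr

namespace Groth.Agent.S14767

/-- A quasi-compact morphism all of whose base changes to spectra of valuation rings are quotient
maps is itself a quotient map. -/
theorem isQuotientMap_of_valuative {X Y : Scheme.{u}} (f : X ⟶ Y) [QuasiCompact f]
    (H : ∀ (V : Type u) [CommRing V] [IsDomain V] [ValuationRing V]
      (g : Spec (CommRingCat.of V) ⟶ Y), Topology.IsQuotientMap (pullback.snd f g)) :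
    Topology.IsQuotientMap f := by
  have hsurj : Function.Surjective f := by
    intro y
    obtain ⟨V, _, _, _, g, η, c, -, -, hc⟩ :=
      Groth.Agent.H73.exists_valuationRing_of_specializes (specializes_rfl (x := y))
    obtain ⟨p, hp⟩ := (H V g).surjective c
    refine ⟨pullback.fst f g p, ?_⟩
    rw [← Scheme.Hom.comp_apply, pullback.condition, Scheme.Hom.comp_apply, hp, hc]
  rw [Topology.isQuotientMap_iff_isClosed]
  refine ⟨hsurj, fun s => ⟨fun hs => hs.preimage f.continuous, fun hs => ?_⟩⟩
  have himg : f '' (f ⁻¹' s) = s := Set.image_preimage_eq s hsurj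
  rw [← himg]
  apply Groth.Agent.H73.isClosed_image_of_stableUnderSpecialization f _ hs
  rw [himg]
  intro a b hab ha
  obtain ⟨V, _, _, _, g, η, c, hηc, hη, hc⟩ :=
    Groth.Agent.H73.exists_valuationRing_of_specializes hab
  have hq := H V g
  have hcl : IsClosed (g ⁻¹' s) := by
    rw [(Topology.isQuotientMap_iff_isClosed.1 hq).2]
    have h1 : (pullback.snd f g) ⁻¹' (g ⁻¹' s) = (pullback.fst f g) ⁻¹' (f ⁻¹' s) := by
      ext p
      simp only [Set.mem_preimage]
      rw [← Scheme.Hom.comp_apply, ← Scheme.Hom.comp_apply, pullback.condition]
    rw [h1]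
    exact hs.preimage (pullback.fst f g).continuous
  have hη' : η ∈ g ⁻¹' s := by
    show g η ∈ s
    rw [hη]; exact ha
  have hc' : c ∈ g ⁻¹' s := hηc.mem_closed hcl hη'
  rw [← hc]; exact hc'

/-- Let f : X ⟶ Y be a quasi-compact morphism of schemes. Then f is universally submersive if and only
if, for every valuation ring V and every morphism Spec V ⟶ Y, the base change X ×_Y Spec V ⟶ Spec V
is submersive (its underlying continuous map is a quotient map). (The published statement asks
instead that f be universally submersive for the constructible topologies, which holds for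
quasi-compact surjective morphisms; both sides here force f to be surjective.) -/
theorem result {X Y : Scheme.{u}} (f : X ⟶ Y) [QuasiCompact f] :
    SGA1.UnivSubmersive f ↔
      ∀ (V : Type u) [CommRing V] [IsDomain V] [ValuationRing V] (g : Spec (CommRingCat.of V) ⟶ Y),
        Topology.IsQuotientMap (pullback.snd f g) := by
  constructor
  · intro h V _ _ _ g
    exact h (pullback.fst f g) g (pullback.snd f g) (IsPullback.of_hasPullback f g).flip
  · intro H X' Y' i₁ i₂ f' hpb
    have : QuasiCompact f' :=
      MorphismProperty.of_isPullback (P := @QuasiCompact) hpb.flip inferInstance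
    show Topology.IsQuotientMap f'
    apply isQuotientMap_of_valuative
    intro V _ _ _ g
    have hbig : IsPullback (pullback.fst f' g ≫ i₁) (pullback.snd f' g) f (g ≫ i₂) :=
      (IsPullback.of_hasPullback f' g).paste_horiz hpb.flip
    have h1 : pullback.snd f' g = hbig.isoPullback.hom ≫ pullback.snd f (g ≫ i₂) :=
      (hbig.isoPullback_hom_snd).symm
    rw [h1, Scheme.Hom.comp_base, TopCat.coe_comp]
    exact (H V (g ≫ i₂)).comp hbig.isoPullback.hom.homeomorph.isQuotientMap

end Groth.Agent.S14767
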