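import Groth.Statements.S14769
import Groth.Agent.H73.ValRingSurj

set_option autoImplicit false
universe u
open Subtr

namespace Groth.Agent.S14769

open CategoryTheory CategoryTheory.Limits AlgebraicGeometry IsLocalRing

theorem forward {X Y : Scheme.{u}} (f : X ⟶ Y) (h : Subtr.UnivSSubtrusive f)
    (V : Type u) [CommRing V] [IsDomain V] [ValuationRing V] (g : Spec (CommRingCat.of V) ⟶ Y) :
    ∃ (V' : Type u) (_ : CommRing V') (_ : IsDomain V') (_ : ValuationRing V')
      (a : Spec (CommRingCat.of V') ⟶ X) (b : Spec (CommRingCat.of V') ⟶ Spec (CommRingCat.of V)),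
      Surjective b ∧ a ≫ f = b ≫ g := by
  have hsnd : Subtr.IsSSubtrusive (pullback.snd f g) :=
    h (pullback.fst f g) g (pullback.snd f g) (IsPullback.of_hasPullback f g).flip
  let η : Spec (CommRingCat.of V) := (⟨⊥, Ideal.isPrime_bot⟩ : PrimeSpectrum V)
  let c : Spec (CommRingCat.of V) := closedPoint V
  have hηc : η ⤳ c := specializes_closedPoint (R := V) _
  obtain ⟨x, x', hxx', hx, hx'⟩ := hsnd hηc
  obtain ⟨V', _, _, _, g', η', c', hηc', hη', hc'⟩ :=
    Groth.Agent.H73.exists_valuationRing_of_specializes hxx'
  refine ⟨V', inferInstance, inferInstance, inferInstance, g' ≫ pullback.fst f g,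
    g' ≫ pullback.snd f g, ?_, ?_⟩
  · -- surjectivity
    set b := g' ≫ pullback.snd f g with hb
    let φ : CommRingCat.of V ⟶ CommRingCat.of V' := Spec.preimage b
    have hφ : Spec.map φ = b := Spec.map_preimage b
    have hbη : b η' = η := by rw [hb, Scheme.Hom.comp_apply, hη', hx']
    have hbc : b c' = c := by rw [hb, Scheme.Hom.comp_apply, hc', hx]
    have hbcl : b (closedPoint V' : PrimeSpectrum V') = c := by
      have h1 : c' ⤳ (closedPoint V' : PrimeSpectrum V') := specializes_closedPoint (R := V') c'
      have h2 : b c' ⤳ b (closedPoint V' : PrimeSpectrum V') := h1.map b.continuous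
      rw [hbc] at h2
      have h3 : IsClosed ({c} : Set (Spec (CommRingCat.of V))) :=
        isClosed_singleton_closedPoint (R := V)
      exact h2.mem_closed h3 rfl
    have hcomap : ∀ z : PrimeSpectrum V', b z = PrimeSpectrum.comap φ.hom z := by
      intro z
      rw [← hφ]
      rfl
    have hinj : Function.Injective φ.hom := by
      rw [injective_iff_map_eq_zero]
      intro v hv
      have h1 : v ∈ (PrimeSpectrum.comap φ.hom η').asIdeal := by
        show φ.hom v ∈ η'.asIdeal
        rw [hv]; exact zero_mem _
      rw [← hcomap η', hbη] at h1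
      exact h1
    have hloc : IsLocalHom φ.hom := by
      rw [isLocalHom_iff_comap_closedPoint, ← hcomap]
      exact hbcl
    have hsurj := Groth.Agent.H73.comap_surjective_of_valuationRing φ.hom hinj hloc
    constructor
    intro y
    obtain ⟨z, hz⟩ := hsurj y
    exact ⟨z, (hcomap z).trans hz⟩
  · rw [Category.assoc, Category.assoc, pullback.condition]

theorem backward {X Y : Scheme.{u}} (f : X ⟶ Y)
    (H : ∀ (V : Type u) [CommRing V] [IsDomain V] [ValuationRing V] (g : Spec (CommRingCat.of V) ⟶ Y),
        ∃ (V' : Type u) (_ : CommRing V') (_ : IsDomain V') (_ : ValuationRing V')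
          (a : Spec (CommRingCat.of V') ⟶ X) (b : Spec (CommRingCat.of V') ⟶ Spec (CommRingCat.of V)),
          Surjective b ∧ a ≫ f = b ≫ g) :
    Subtr.UnivSSubtrusive f := by
  apply Groth.Agent.H73.univSSubtrusive_of_valuationRing
  intro V _ _ _ g y y' hyy'
  obtain ⟨V', _, _, _, a, b, hb, hab⟩ := H V g
  obtain ⟨z, hz⟩ := hb.surj y
  obtain ⟨z', hz'⟩ := hb.surj y'
  let l : Spec (CommRingCat.of V') ⟶ pullback f g := pullback.lift a b hab
  have hl : l ≫ pullback.snd f g = b := pullback.lift_snd _ _ _
  have hlz : ∀ w, (pullback.snd f g) (l w) = b w := by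
    intro w
    rw [← Scheme.Hom.comp_apply, hl]
  rcases Groth.Agent.H73.specializes_total_of_valuationRing (V := V') z' z with h1 | h1
  · exact ⟨l z, l z', h1.map l.continuous, (hlz z).trans hz, (hlz z').trans hz'⟩
  · have h2 : y ⤳ y' := by
      have := h1.map b.continuous
      rwa [hz, hz'] at this
    have heq : y = y' := (h2.antisymm hyy').eq
    exact ⟨l z, l z, specializes_rfl, (hlz z).trans hz, (hlz z).trans (hz.trans heq)⟩

/-- Let f : X ⟶ Y be any morphism of schemes. Then every base change of f has the lifting property for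
ordered pairs of points if and only if, for every valuation ring V and morphism g : Spec V ⟶ Y,
there are a valuation ring V', a morphism a : Spec V' ⟶ X and a surjective morphism b : Spec V' ⟶
Spec V with a ≫ f = b ≫ g. (The published statement assumes f universally submersive for the
constructible topologies and concludes universal subtrusiveness; for quasi-compact f the two agree.) -/
theorem result {X Y : Scheme.{u}} (f : X ⟶ Y) :
    Subtr.UnivSSubtrusive f ↔
      ∀ (V : Type u) [CommRing V] [IsDomain V] [ValuationRing V] (g : Spec (CommRingCat.of V) ⟶ Y),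
        ∃ (V' : Type u) (_ : CommRing V') (_ : IsDomain V') (_ : ValuationRing V')
          (a : Spec (CommRingCat.of V') ⟶ X) (b : Spec (CommRingCat.of V') ⟶ Spec (CommRingCat.of V)),
          Surjective b ∧ a ≫ f = b ≫ g :=
  ⟨fun h V _ _ _ g => forward f h V g, backward f⟩

end Groth.Agent.S14769
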