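import Groth.Statements.S14772
import Groth.Agent.S14768
import Groth.Agent.S14791
import Groth.Agent.H24.FGSubLimit

set_option autoImplicit false
universe u
open CategoryTheory CategoryTheory.Limits AlgebraicGeometry
open Subtr

namespace Groth.Agent.S14772

section Helpers

open Groth.Agent.H24

/-- S-subtrusiveness is invariant under precomposition with an isomorphism. -/
theorem isSS_of_iso {X X' Y : Scheme.{u}} (e : X' ≅ X) (f : X ⟶ Y) (f' : X' ⟶ Y)
    (h : e.hom ≫ f = f') (hf : IsSSubtrusive f) : IsSSubtrusive f' := by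
  intro y y' hy
  obtain ⟨x, x', hx, h1, h2⟩ := hf hy
  refine ⟨e.inv x, e.inv x', hx.map e.inv.continuous, ?_, ?_⟩
  · rw [← h, ← Scheme.Hom.comp_apply, Iso.inv_hom_id_assoc, h1]
  · rw [← h, ← Scheme.Hom.comp_apply, Iso.inv_hom_id_assoc, h2]

/-- S-subtrusiveness is stable under base change along an immersion. -/
theorem isSS_pullback_snd_of_isImmersion {X Y Z : Scheme.{u}} (f : X ⟶ Y) (j : Z ⟶ Y)
    [IsImmersion j] (hf : IsSSubtrusive f) : IsSSubtrusive (pullback.snd f j) := by
  intro z z' hz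
  obtain ⟨x, x', hx, h1, h2⟩ := hf (hz.map j.continuous)
  have hr : Set.range (pullback.fst f j) = f ⁻¹' Set.range j :=
    Scheme.Pullback.range_fst f j
  obtain ⟨p, hp⟩ : x ∈ Set.range (pullback.fst f j) := by
    rw [hr]; exact ⟨z, h1.symm⟩
  obtain ⟨p', hp'⟩ : x' ∈ Set.range (pullback.fst f j) := by
    rw [hr]; exact ⟨z', h2.symm⟩
  have hemb : Topology.IsEmbedding (pullback.fst f j) := (pullback.fst f j).isEmbedding
  have hinj : Function.Injective j := j.isEmbedding.injective
  refine ⟨p, p', ?_, ?_, ?_⟩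
  · rw [← hemb.isInducing.specializes_iff, hp, hp']; exact hx
  · apply hinj
    rw [← Scheme.Hom.comp_apply, ← pullback.condition, Scheme.Hom.comp_apply, hp, h1]
  · apply hinj
    rw [← Scheme.Hom.comp_apply, ← pullback.condition, Scheme.Hom.comp_apply, hp', h2]

/-- transitivity iso: base change in two steps. -/
theorem isSS_snd_snd_iff {X Y W Z : Scheme.{u}} (f : X ⟶ Y) (g : W ⟶ Y) (m : Z ⟶ W) :
    IsSSubtrusive (pullback.snd (pullback.snd f g) m) ↔ IsSSubtrusive (pullback.snd f (m ≫ g)) := by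
  constructor
  · intro h
    exact isSS_of_iso (pullbackLeftPullbackSndIso f g m).symm _ _
      (by rw [Iso.symm_hom]; exact pullbackLeftPullbackSndIso_inv_snd_snd f g m) h
  · intro h
    exact isSS_of_iso (pullbackLeftPullbackSndIso f g m) _ _
      (pullbackLeftPullbackSndIso_hom_snd f g m) h

/-- base change of a base change along an immersion -/
theorem isSS_snd_comp {X Y W Z : Scheme.{u}} (f : X ⟶ Y) (g : W ⟶ Y) (j : Z ⟶ W) [IsImmersion j]
    (h : IsSSubtrusive (pullback.snd f g)) : IsSSubtrusive (pullback.snd f (j ≫ g)) :=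
  (isSS_snd_snd_iff f g j).mp (isSS_pullback_snd_of_isImmersion (pullback.snd f g) j h)

/-- the `pullback.fst (𝟙 _) h` normalisation -/
theorem isSS_snd_fst_id_iff {X₀ Z W : Scheme.{u}} (f₀ : X₀ ⟶ Z) (h : W ⟶ Z) :
    IsSSubtrusive (pullback.snd f₀ (pullback.fst (𝟙 Z) h)) ↔ IsSSubtrusive (pullback.snd f₀ h) := by
  have e1 : pullback.fst (𝟙 Z) h = pullback.snd (𝟙 Z) h ≫ h := by
    have := pullback.condition (f := 𝟙 Z) (g := h)
    rw [Category.comp_id] at this
    exact this
  rw [e1]
  constructor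
  · intro H
    have H2 := isSS_snd_comp f₀ (pullback.snd (𝟙 Z) h ≫ h) (inv (pullback.snd (𝟙 Z) h)) H
    rw [IsIso.inv_hom_id_assoc] at H2
    exact H2
  · intro H
    exact isSS_snd_comp f₀ h (pullback.snd (𝟙 Z) h) H

/-- a morphism from the spectrum of a local ring factors through an affine open -/
theorem exists_factor_affine {Y : Scheme.{u}} (V : Type u) [CommRing V] [IsLocalRing V]
    (g : Spec (CommRingCat.of V) ⟶ Y) :
    ∃ (U : Y.Opens) (hU : IsAffineOpen U) (φ : Γ(Y, U) ⟶ CommRingCat.of V),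
      g = Spec.map φ ≫ hU.fromSpec := by
  obtain ⟨U, hU, hxU, -⟩ := TopologicalSpace.Opens.isBasis_iff_nbhd.mp Y.isBasis_affineOpens
    (U := ⊤) (x := g (IsLocalRing.closedPoint V)) trivial
  have hU : IsAffineOpen U := hU
  have htop : g ⁻¹ᵁ U = ⊤ := (IsLocalRing.closedPoint_mem_iff (g ⁻¹ᵁ U)).mp hxU
  have hrange : Set.range g ⊆ Set.range hU.fromSpec := by
    rw [hU.range_fromSpec]
    rintro _ ⟨p, rfl⟩
    have : p ∈ g ⁻¹ᵁ U := by rw [htop]; trivial
    exact this
  refine ⟨U, hU, Spec.preimage (IsOpenImmersion.lift hU.fromSpec g hrange), ?_⟩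
  rw [Spec.map_preimage, IsOpenImmersion.lift_fac]

/-- a surjection from a polynomial ring in `n + 1` variables -/
theorem exists_surj_mvPolynomial (A E : Type u) [CommRing A] [CommRing E] [Algebra A E]
    [Algebra.FiniteType A E] :
    ∃ (n : ℕ) (p : MvPolynomial (ULift.{u} (Fin (n + 1))) A →ₐ[A] E), Function.Surjective p := by
  obtain ⟨n, f, hf⟩ := Algebra.FiniteType.iff_quotient_mvPolynomial''.mp
    (inferInstance : Algebra.FiniteType A E)
  let q : MvPolynomial (ULift.{u} (Fin (n + 1))) A →ₐ[A] MvPolynomial (Fin n) A :=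
    MvPolynomial.aeval (fun i : ULift.{u} (Fin (n + 1)) =>
      if h : i.down.val < n then (MvPolynomial.X ⟨i.down.val, h⟩ : MvPolynomial (Fin n) A) else 0)
  have hq : ∀ x, q (MvPolynomial.rename (fun j : Fin n => ULift.up.{u} j.castSucc) x) = x := by
    intro x
    rw [MvPolynomial.aeval_rename]
    have : ((fun i : ULift.{u} (Fin (n + 1)) =>
        if h : i.down.val < n then (MvPolynomial.X ⟨i.down.val, h⟩ : MvPolynomial (Fin n) A)
        else 0) ∘ (fun j : Fin n => ULift.up.{u} j.castSucc)) = MvPolynomial.X := by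
      funext j
      simp
    rw [this, MvPolynomial.aeval_X_left_apply]
  refine ⟨n, f.comp q, fun v => ?_⟩
  obtain ⟨x, rfl⟩ := hf v
  exact ⟨MvPolynomial.rename (fun j : Fin n => ULift.up.{u} j.castSucc) x, by
    rw [AlgHom.comp_apply, hq]⟩

/-- an immersion of `Spec E` into affine space over `Y`, over a given affine open chart -/
theorem exists_immersion_affineSpace {Y : Scheme.{u}} {U : Y.Opens} (hU : IsAffineOpen U)
    (E : Type u) [CommRing E] [Algebra Γ(Y, U) E] [Algebra.FiniteType Γ(Y, U) E] :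
    ∃ (n : ℕ) (j : Spec (CommRingCat.of E) ⟶ AffineSpace (ULift.{u} (Fin (n + 1))) Y),
      IsImmersion j ∧ j ≫ (AffineSpace (ULift.{u} (Fin (n + 1))) Y ↘ Y) =
        Spec.map (CommRingCat.ofHom (algebraMap Γ(Y, U) E)) ≫ hU.fromSpec := by
  obtain ⟨n, p, hp⟩ := exists_surj_mvPolynomial Γ(Y, U) E
  haveI h1 : IsClosedImmersion (Spec.map (CommRingCat.ofHom p.toRingHom)) :=
    IsClosedImmersion.spec_of_surjective _ hp
  haveI h2 : IsOpenImmersion (AffineSpace.map (ULift.{u} (Fin (n + 1))) hU.fromSpec) :=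
    MorphismProperty.of_isPullback (P := @IsOpenImmersion)
      (AffineSpace.isPullback_map (n := ULift.{u} (Fin (n + 1))) hU.fromSpec).flip inferInstance
  refine ⟨n, Spec.map (CommRingCat.ofHom p.toRingHom) ≫
    (AffineSpace.SpecIso (ULift.{u} (Fin (n + 1))) Γ(Y, U)).inv ≫
      AffineSpace.map (ULift.{u} (Fin (n + 1))) hU.fromSpec, inferInstance, ?_⟩
  rw [Category.assoc, Category.assoc, AffineSpace.map_over, AffineSpace.SpecIso_inv_over_assoc,
    ← Spec.map_comp_assoc]
  congr 2
  ext x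
  exact p.commutes x

/-- limit step, in a form where the stage `D.obj i₀` is opaque -/
theorem isSS_of_limit {I : Type u} [SmallCategory I] [IsCofiltered I]
    (D : I ⥤ Scheme.{u}) (c : Limits.Cone D) (hc : Limits.IsLimit c)
    [∀ (i j : I) (a : i ⟶ j), IsAffineHom (D.map a)] (i₀ : I)
    {X Y : Scheme.{u}} (f : X ⟶ Y) [QuasiCompact f] (g₀ : D.obj i₀ ⟶ Y)
    (h : ∀ (i : I) (u : i ⟶ i₀), IsSSubtrusive (pullback.snd f (D.map u ≫ g₀))) :
    IsSSubtrusive (pullback.snd f (c.π.app i₀ ≫ g₀)) := by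
  have hlim := Groth.Agent.S14791.result D c hc i₀ (pullback.snd f g₀) (𝟙 (D.obj i₀))
    ⟨i₀, 𝟙 _, fun i u => by
      rw [isSS_snd_fst_id_iff, isSS_snd_snd_iff]
      exact h i (u ≫ 𝟙 i₀)⟩
  rw [isSS_snd_fst_id_iff, isSS_snd_snd_iff] at hlim
  exact hlim

end Helpers

/-- Let f : X ⟶ Y be a quasi-compact morphism of schemes. Then every base change of f has the lifting
property for ordered pairs of points if and only if, for every integer n ≥ 1, the base change X ×_Y
𝔸ⁿ_Y ⟶ 𝔸ⁿ_Y has it. (The published statement is about universally subtrusive morphisms f, with the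
condition that f be universally submersive for the constructible topologies added on both sides, and
does not assume f quasi-compact; this row states the quasi-compact case, where that condition is
automatic once f is surjective.) -/
theorem result {X Y : Scheme.{u}} (f : X ⟶ Y) [QuasiCompact f] :
    Subtr.UnivSSubtrusive f ↔
      ∀ n : ℕ, 0 < n →
        Subtr.IsSSubtrusive (pullback.snd f (AffineSpace (ULift.{u} (Fin n)) Y ↘ Y)) := by
  constructor
  · intro h n _
    exact h _ _ _ (IsPullback.of_hasPullback _ _).flip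
  · intro H
    rw [Groth.Agent.S14768.result]
    intro V _ _ _ g
    obtain ⟨U, hU, φ, rfl⟩ := exists_factor_affine V g
    letI : Algebra Γ(Y, U) V := φ.hom.toAlgebra
    -- the stages
    have key : ∀ E : Groth.Agent.H24.FGSub Γ(Y, U) V, IsSSubtrusive (pullback.snd f
        (Spec.map (CommRingCat.ofHom (algebraMap Γ(Y, U) E.1)) ≫ hU.fromSpec)) := by
      intro E
      haveI : Algebra.FiniteType Γ(Y, U) E.1 := (Subalgebra.fg_iff_finiteType _).mp E.2
      obtain ⟨n, j, hj, hjo⟩ := exists_immersion_affineSpace hU E.1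
      rw [← hjo]
      exact isSS_snd_comp f _ j (H (n + 1) (Nat.succ_pos n))
    let i₀ : (Groth.Agent.H24.FGSub Γ(Y, U) V)ᵒᵖ := Opposite.op ⟨⊥, Subalgebra.fg_bot⟩
    let g₀ : Spec (CommRingCat.of i₀.unop.1) ⟶ Y :=
      Spec.map (CommRingCat.ofHom (algebraMap Γ(Y, U) i₀.unop.1)) ≫ hU.fromSpec
    have hcomp : ∀ (i : (Groth.Agent.H24.FGSub Γ(Y, U) V)ᵒᵖ) (u : i ⟶ i₀),
        (Groth.Agent.H24.fgSpecDiagram Γ(Y, U) V).map u ≫ g₀ =
          Spec.map (CommRingCat.ofHom (algebraMap Γ(Y, U) i.unop.1)) ≫ hU.fromSpec := by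
      intro i u
      have := Groth.Agent.H24.fgSpecDiagramβ_map Γ(Y, U) V u
      exact (Category.assoc _ _ _).symm.trans (congrArg (· ≫ hU.fromSpec) this)
    have hcomp' : (Groth.Agent.H24.fgSpecCone Γ(Y, U) V).π.app i₀ ≫ g₀ =
        Spec.map φ ≫ hU.fromSpec := by
      have := Groth.Agent.H24.fgSpecCone_π_β Γ(Y, U) V i₀
      exact (Category.assoc _ _ _).symm.trans (congrArg (· ≫ hU.fromSpec) this)
    have hlim := isSS_of_limit (Groth.Agent.H24.fgSpecDiagram Γ(Y, U) V)
      (Groth.Agent.H24.fgSpecCone Γ(Y, U) V) (Groth.Agent.H24.fgSpecConeIsLimit Γ(Y, U) V) i₀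
      f g₀ (fun i u => by
        have h1 := key i.unop
        rw [← hcomp i u] at h1
        exact h1)
    rw [← hcomp']
    exact hlim

end Groth.Agent.S14772
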