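import Groth.Statements.S14783
import Groth.Agent.H69.RetroLC

set_option autoImplicit false
set_option linter.style.haveILetI false
universe u
open CategoryTheory CategoryTheory.Limits AlgebraicGeometry
open Subtr

namespace Groth.Agent.S14783

/-- Let f : S' ⟶ S be a quasi-compact morphism of schemes every base change of which has the lifting
property for ordered pairs of points, and E ⊆ S any subset. For E to be both locally closed and
retrocompact it is necessary and sufficient that f⁻¹(E) be both. -/
theorem result {S' S : Scheme.{u}} (f : S' ⟶ S)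
    [QuasiCompact f] (hf : Subtr.UnivSSubtrusive f) (E : Set S) :
    (IsLocallyClosed E ∧ IsRetrocompact E) ↔
      (IsLocallyClosed (f ⁻¹' E) ∧ IsRetrocompact (f ⁻¹' E)) := by
  have hfS : Subtr.IsSSubtrusive f := hf (𝟙 S') (𝟙 S) f IsPullback.of_id_snd
  have hsurj : Function.Surjective f.base := fun t => by
    obtain ⟨x, x', -, hx, -⟩ := hfS (specializes_rfl : t ⤳ t)
    exact ⟨x, hx⟩
  constructor
  · rintro ⟨hlc, hrc⟩
    refine ⟨hlc.preimage f.continuous, ?_⟩
    obtain ⟨O, Z, hO, hZ, rfl⟩ := hlc
    exact Groth.Agent.H69.RetroLC.isRetrocompact_preimage f hO hZ hrc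
  · rintro ⟨hlc, hrc⟩
    exact ⟨Groth.Agent.H69.RetroLC.isLocallyClosed_of_preimage f hf E hlc hrc,
      Groth.Agent.H69.RetroLC.isRetrocompact_of_preimage f hsurj E hrc⟩

end Groth.Agent.S14783
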