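import Groth.Statements.S14789
import Mathlib
-- import your own Groth.Agent.* helpers here

set_option autoImplicit false
universe u
open CategoryTheory CategoryTheory.Limits AlgebraicGeometry
open Subtr

namespace Groth.Agent.S14789

/-- Let f : X ⟶ Y be a morphism of schemes with the lifting property for ordered pairs of points, and U
⊆ Y a subset containing every maximal point of Y (every point all of whose generizations are equal
to it). Then the closure of f⁻¹(U) maps onto Y. -/
theorem result {X Y : Scheme.{u}} (f : X ⟶ Y)
    (hf : Subtr.IsSSubtrusive f) (U : Set Y) (hU : ∀ y : Y, (∀ y' : Y, y' ⤳ y → y' = y) → y ∈ U) :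
    f '' closure (f ⁻¹' U) = Set.univ := by
  rw [Set.eq_univ_iff_forall]
  intro y
  have hZ : IsIrreducible (irreducibleComponent y) := isIrreducible_irreducibleComponent
  have hZc : IsClosed (irreducibleComponent y) := isClosed_irreducibleComponent
  obtain ⟨y', hcl⟩ : ∃ y' : Y, closure ({y'} : Set Y) = irreducibleComponent y :=
    ⟨hZ.genericPoint, hZ.closure_genericPoint hZc⟩
  have hspec : y' ⤳ y := by
    rw [specializes_iff_mem_closure, hcl]
    exact mem_irreducibleComponent
  have hmax : ∀ y'' : Y, y'' ⤳ y' → y'' = y' := by
    intro y'' h
    have hsub : irreducibleComponent y ⊆ closure ({y''} : Set Y) := by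
      rw [← hcl]
      exact specializes_iff_closure_subset.mp h
    have heq : closure ({y''} : Set Y) = irreducibleComponent y :=
      eq_irreducibleComponent (isIrreducible_singleton.closure.isPreirreducible) hsub
    have h' : y' ⤳ y'' := by
      rw [specializes_iff_mem_closure, hcl, ← heq]
      exact subset_closure rfl
    exact (h.antisymm h').eq
  have hU' : y' ∈ U := hU y' hmax
  obtain ⟨x, x', hxx', hx, hx'⟩ := hf hspec
  refine ⟨x, ?_, hx⟩
  have hxc : x ∈ closure ({x'} : Set X) := specializes_iff_mem_closure.mp hxx'
  have hx'U : x' ∈ f ⁻¹' U := by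
    rw [Set.mem_preimage, hx']
    exact hU'
  exact closure_mono (Set.singleton_subset_iff.mpr hx'U) hxc

end Groth.Agent.S14789
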