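import Groth.Statements.S1479
import Mathlib
import Groth.Agent.S2818
import Groth.Agent.H26.MinGens
import Groth.Agent.H70.EtaleCoords
import Groth.Agent.H70.AffineSpaceEtale

set_option autoImplicit false
universe u
open FlatMor
set_option linter.style.haveILetI false
open scoped TensorProduct

namespace Groth.Agent.S1479

/-- Ring-level core: adapted étale coordinates. -/
theorem core {R A : Type u} [CommRing R] [CommRing A] [Algebra R A] [Algebra.Smooth R A]
    (J : Ideal A) [Algebra.Smooth R (A ⧸ J)] (P : Ideal A) [P.IsPrime] (hJP : J ≤ P) :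
    ∃ (a : A) (_ : a ∉ P) (n m : ℕ) (g : Fin n → A) (f : Fin m → Localization.Away a),
      (∀ i, g i ∈ J) ∧
      (MvPolynomial.eval₂Hom (algebraMap R (Localization.Away a))
        (Sum.elim (fun i => algebraMap A (Localization.Away a) (g i)) f)).Etale ∧
      J.map (algebraMap A (Localization.Away a)) =
        Ideal.span (Set.range fun i => algebraMap A (Localization.Away a) (g i)) := by
  have hJfg : J.FG := by
    have := Algebra.FinitePresentation.ker_fG_of_surjective (Ideal.Quotient.mkₐ R J)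
      (Ideal.Quotient.mkₐ_surjective R J)
    have h2 : RingHom.ker (Ideal.Quotient.mkₐ R J).toRingHom = J := Ideal.mk_ker
    rwa [h2] at this
  obtain ⟨n, g, hg, hgen, hmin⟩ := Groth.Agent.H26.MinGens.exists_minimal_generators A J hJfg P
  have hQP : (P.map (Ideal.Quotient.mk J)).comap (Ideal.Quotient.mk J) = P := by
    rw [Ideal.comap_map_of_surjective _ Ideal.Quotient.mk_surjective, ← RingHom.ker_eq_comap_bot,
      Ideal.mk_ker, sup_eq_left.mpr hJP]
  haveI : (P.map (Ideal.Quotient.mk J)).IsPrime :=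
    Ideal.map_isPrime_of_surjective Ideal.Quotient.mk_surjective (by rwa [Ideal.mk_ker])
  obtain ⟨a, ha, m, f, het, hspan⟩ := Groth.Agent.S2818.result R A J hJfg P hJP
    (P.map (Ideal.Quotient.mk J)) hQP n g hg hgen hmin
  exact ⟨a, ha, n, m, g, f, hg, het, hspan⟩

open AlgebraicGeometry CategoryTheory Limits TopologicalSpace in
theorem main {S X Y : Scheme.{u}} (pX : X ⟶ S) (pY : Y ⟶ S) [Smooth pX] [Smooth pY]
    (i : Y ⟶ X) [IsClosedImmersion i] (w : i ≫ pX = pY) (y : Y) :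
    ∃ (U : X.Opens) (m n : ℕ) (π : (U : Scheme.{u}) ⟶ 𝔸(ULift.{u} (Fin m ⊕ Fin n); S)) (ρ : (↑(i ⁻¹ᵁ U) : Scheme.{u}) ⟶ 𝔸(ULift.{u} (Fin m); S)),
      i y ∈ U ∧ Etale π ∧ π ≫ (𝔸(ULift.{u} (Fin m ⊕ Fin n); S) ↘ S) = U.ι ≫ pX ∧
      IsPullback ρ (i ∣_ U)
        (AffineSpace.homOfVector (𝔸(ULift.{u} (Fin m); S) ↘ S)
          (fun j : ULift.{u} (Fin m ⊕ Fin n) => Sum.elim (fun a => AffineSpace.coord S (ULift.up a)) (fun _ => 0) j.down))
        π := by
  classical
  -- affine charts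
  obtain ⟨S₀, hS₀, hsS₀⟩ : ∃ S₀ : S.Opens, IsAffineOpen S₀ ∧ pX (i y) ∈ S₀ := by
    obtain ⟨S₀, hS₀, hs, -⟩ := exists_isAffineOpen_mem_and_subset
      (TopologicalSpace.Opens.mem_top (pX (i y)))
    exact ⟨S₀, hS₀, hs⟩
  obtain ⟨U₁, hU₁, hxU₁, hU₁S₀⟩ : ∃ U₁ : X.Opens, IsAffineOpen U₁ ∧ i y ∈ U₁ ∧
      U₁ ≤ pX ⁻¹ᵁ S₀ := by
    obtain ⟨U₁, hU₁, hx, hle⟩ := exists_isAffineOpen_mem_and_subset
      (show i y ∈ (pX ⁻¹ᵁ S₀ : X.Opens) from hsS₀)
    exact ⟨U₁, hU₁, hx, hle⟩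
  have hV₁ : IsAffineOpen (i ⁻¹ᵁ U₁) := hU₁.preimage i
  -- ring data
  letI algRA : Algebra Γ(S, S₀) Γ(X, U₁) := (pX.appLE S₀ U₁ hU₁S₀).hom.toAlgebra
  haveI smA : Algebra.Smooth Γ(S, S₀) Γ(X, U₁) :=
    HasRingHomProperty.appLE (P := @Smooth) pX inferInstance ⟨S₀, hS₀⟩ ⟨U₁, hU₁⟩ hU₁S₀
  set ψ : Γ(X, U₁) →+* Γ(Y, i ⁻¹ᵁ U₁) := (i.app U₁).hom with hψdef
  have hψ : Function.Surjective ψ := i.app_surjective U₁ hU₁
  set J : Ideal Γ(X, U₁) := RingHom.ker ψ with hJdef
  haveI smB : Algebra.Smooth Γ(S, S₀) (Γ(X, U₁) ⧸ J) := by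
    have hle : i ⁻¹ᵁ U₁ ≤ pY ⁻¹ᵁ S₀ := by
      intro z hz
      have h1 : pX (i z) ∈ S₀ := hU₁S₀ hz
      have h2 : pY z = pX (i z) := by rw [← w]; rfl
      show pY z ∈ S₀
      rw [h2]; exact h1
    have h1 : (pY.appLE S₀ (i ⁻¹ᵁ U₁) hle).hom.Smooth :=
      HasRingHomProperty.appLE (P := @Smooth) pY inferInstance ⟨S₀, hS₀⟩ ⟨i ⁻¹ᵁ U₁, hV₁⟩ hle
    have h2 : pY.appLE S₀ (i ⁻¹ᵁ U₁) hle = pX.appLE S₀ U₁ hU₁S₀ ≫ i.app U₁ := by
      subst w
      rw [Scheme.Hom.comp_appLE, Scheme.Hom.appLE, Scheme.Hom.appLE, Category.assoc,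
        i.naturality]
      rfl
    let e : (Γ(X, U₁) ⧸ J) ≃+* Γ(Y, i ⁻¹ᵁ U₁) := RingHom.quotientKerEquivOfSurjective hψ
    have h3 : algebraMap Γ(S, S₀) (Γ(X, U₁) ⧸ J) =
        e.symm.toRingHom.comp (pY.appLE S₀ (i ⁻¹ᵁ U₁) hle).hom := by
      ext r
      rw [h2]
      show Ideal.Quotient.mk J ((pX.appLE S₀ U₁ hU₁S₀).hom r) = e.symm (ψ ((pX.appLE S₀ U₁ hU₁S₀).hom r))
      rw [RingEquiv.eq_symm_apply]
      rfl
    rw [← RingHom.smooth_algebraMap, h3]
    exact RingHom.Smooth.respectsIso.1 _ e.symm h1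
  -- the prime of the point
  let P : Ideal Γ(X, U₁) := (IsLocalRing.maximalIdeal (X.presheaf.stalk (i y))).comap
    (X.presheaf.germ U₁ (i y) hxU₁).hom
  haveI : P.IsPrime := Ideal.comap_isPrime _ _
  have hPmem : ∀ a : Γ(X, U₁), a ∉ P ↔ i y ∈ X.basicOpen a := by
    intro a
    rw [Scheme.mem_basicOpen _ _ _ hxU₁]
    show ¬ (X.presheaf.germ U₁ (i y) hxU₁).hom a ∈ IsLocalRing.maximalIdeal _ ↔ _
    rw [IsLocalRing.mem_maximalIdeal, mem_nonunits_iff, not_not]
  have hJP : J ≤ P := by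
    intro a ha
    by_contra hna
    rw [hPmem] at hna
    have h1 : y ∈ i ⁻¹ᵁ X.basicOpen a := hna
    rw [Scheme.preimage_basicOpen] at h1
    have h2 : (i.app U₁).hom a = 0 := ha
    rw [h2, Scheme.basicOpen_zero] at h1
    exact h1
  obtain ⟨a, ha, n, m, g, f, hg, het, hspan⟩ := core (R := Γ(S, S₀)) J P hJP
  set U : X.Opens := X.basicOpen a with hUdef
  have hU : IsAffineOpen U := hU₁.basicOpen a
  have hUU₁ : U ≤ U₁ := X.basicOpen_le a
  have hxU : i y ∈ U := (hPmem a).mp ha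
  have hUS₀ : U ≤ pX ⁻¹ᵁ S₀ := hUU₁.trans hU₁S₀
  haveI : IsAffine U.toScheme := hU
  haveI : IsAffine S₀.toScheme := hS₀
  haveI locU : IsLocalization.Away a Γ(X, U) := hU₁.isLocalization_basicOpen a
  let e : Localization.Away a ≃ₐ[Γ(X, U₁)] Γ(X, U) :=
    IsLocalization.algEquiv (Submonoid.powers a) _ _
  -- sections over `U`
  let v₀ : Fin n ⊕ Fin m → Γ(X, U) :=
    Sum.elim (fun j => algebraMap Γ(X, U₁) Γ(X, U) (g j)) (fun j => e (f j))
  have h1 : (MvPolynomial.eval₂Hom (pX.appLE S₀ U hUS₀).hom v₀).Etale := by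
    have hcomp : MvPolynomial.eval₂Hom (pX.appLE S₀ U hUS₀).hom v₀ =
        e.toRingEquiv.toRingHom.comp (MvPolynomial.eval₂Hom
          (algebraMap Γ(S, S₀) (Localization.Away a))
          (Sum.elim (fun i => algebraMap Γ(X, U₁) (Localization.Away a) (g i)) f)) := by
      apply MvPolynomial.ringHom_ext
      · intro r
        rw [RingHom.comp_apply, MvPolynomial.coe_eval₂Hom, MvPolynomial.eval₂_C,
          MvPolynomial.coe_eval₂Hom, MvPolynomial.eval₂_C,
          IsScalarTower.algebraMap_apply Γ(S, S₀) Γ(X, U₁) (Localization.Away a)]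
        show _ = e (algebraMap Γ(X, U₁) (Localization.Away a) _)
        rw [e.commutes]
        show _ = (X.presheaf.map (homOfLE hUU₁).op).hom ((pX.appLE S₀ U₁ hU₁S₀).hom r)
        rw [← CommRingCat.comp_apply, Scheme.Hom.appLE_map]
      · intro j
        rw [RingHom.comp_apply, MvPolynomial.coe_eval₂Hom, MvPolynomial.eval₂_X,
          MvPolynomial.coe_eval₂Hom, MvPolynomial.eval₂_X]
        show v₀ j = e _
        rcases j with j | j
        · show algebraMap Γ(X, U₁) Γ(X, U) (g j) = e (algebraMap Γ(X, U₁) (Localization.Away a) (g j))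
          rw [e.commutes]
        · rfl
    rw [hcomp]
    exact RingHom.Etale.respectsIso.1 _ e.toRingEquiv het
  -- transport to the open subschemes
  let eι : ULift.{u} (Fin m ⊕ Fin n) ≃ (Fin n ⊕ Fin m) :=
    Equiv.ulift.trans (Equiv.sumComm (Fin m) (Fin n))
  have h2 := Groth.Agent.H70.EtaleCoords.etale_eval₂_transport (pX.appLE S₀ U hUS₀).hom _ h1
    S₀.topIso.commRingCatIsoToRingEquiv U.topIso.symm.commRingCatIsoToRingEquiv eι
  have hφtop : ((U.topIso.symm.commRingCatIsoToRingEquiv.toRingHom.comp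
      (pX.appLE S₀ U hUS₀).hom).comp S₀.topIso.commRingCatIsoToRingEquiv.toRingHom) =
      (pX.resLE S₀ U hUS₀).appTop.hom := by
    rw [Scheme.Hom.appTop, Scheme.Hom.resLE_app_top]
    rfl
  rw [hφtop] at h2
  set v : ULift.{u} (Fin m ⊕ Fin n) → Γ(U.toScheme, ⊤) :=
    fun j => U.topIso.symm.commRingCatIsoToRingEquiv (v₀ (eι j)) with hvdef
  have hπ₀ : Etale (AffineSpace.homOfVector (pX.resLE S₀ U hUS₀) v) :=
    (Groth.Agent.H70.AffineSpaceEtale.etale_homOfVector_iff (pX.resLE S₀ U hUS₀) v).mpr h2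
  set π : U.toScheme ⟶ 𝔸(ULift.{u} (Fin m ⊕ Fin n); S) :=
    AffineSpace.homOfVector (U.ι ≫ pX) v with hπdef
  have hπeq : π = AffineSpace.homOfVector (pX.resLE S₀ U hUS₀) v ≫
      AffineSpace.map (ULift.{u} (Fin m ⊕ Fin n)) S₀.ι := by
    apply AffineSpace.hom_ext
    · rw [hπdef, AffineSpace.homOfVector_over, Category.assoc, AffineSpace.map_over,
        AffineSpace.homOfVector_over_assoc, Scheme.Hom.resLE_comp_ι]
    · intro j
      rw [hπdef, AffineSpace.homOfVector_appTop_coord, Scheme.Hom.comp_appTop,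
        CommRingCat.comp_apply, AffineSpace.map_appTop_coord,
        AffineSpace.homOfVector_appTop_coord]
  haveI : IsOpenImmersion (AffineSpace.map (ULift.{u} (Fin m ⊕ Fin n)) S₀.ι) :=
    MorphismProperty.of_isPullback (P := @IsOpenImmersion)
      (AffineSpace.isPullback_map (n := ULift.{u} (Fin m ⊕ Fin n)) S₀.ι).flip inferInstance
  have hπet : Etale π := by
    rw [hπeq]
    infer_instance
  -- the kernel of `i` over `U`
  have hker : RingHom.ker (i.app U).hom =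
      Ideal.span (Set.range fun b => algebraMap Γ(X, U₁) Γ(X, U) (g b)) := by
    have e1 : RingHom.ker (i.app U).hom = i.ker.ideal ⟨U, hU⟩ :=
      (Scheme.Hom.ker_apply i ⟨U, hU⟩).symm
    have e2 : i.ker.ideal ⟨U, hU⟩ =
        (i.ker.ideal ⟨U₁, hU₁⟩).map (X.presheaf.map (homOfLE hUU₁).op).hom :=
      (i.ker.map_ideal (U := ⟨U, hU⟩) (V := ⟨U₁, hU₁⟩) hUU₁).symm
    have e3 : i.ker.ideal ⟨U₁, hU₁⟩ = J := Scheme.Hom.ker_apply i ⟨U₁, hU₁⟩
    have e4 : (X.presheaf.map (homOfLE hUU₁).op).hom =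
        e.toRingEquiv.toRingHom.comp (algebraMap Γ(X, U₁) (Localization.Away a)) := by
      ext r
      show algebraMap Γ(X, U₁) Γ(X, U) r = e (algebraMap Γ(X, U₁) (Localization.Away a) r)
      rw [e.commutes]
    rw [e1, e2, e3, e4, ← Ideal.map_map, hspan, Ideal.map_span, ← Set.range_comp]
    congr 2
    funext b
    show e (algebraMap Γ(X, U₁) (Localization.Away a) (g b)) = _
    rw [e.commutes]
  -- restriction of `i` over `U` on global sections
  have hres : ∀ s : Γ(X, U), (i ∣_ U).appTop.hom (U.topIso.inv.hom s) =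
      (i ⁻¹ᵁ U).topIso.inv.hom ((i.app U).hom s) := by
    intro s
    have h := Scheme.Hom.resLE_app_top (f := i) (U := U) (V := i ⁻¹ᵁ U) (e := le_rfl)
    rw [Scheme.Hom.resLE_eq_morphismRestrict] at h
    have h' : (i ∣_ U).appTop.hom (U.topIso.inv.hom s) =
        (U.topIso.inv ≫ U.topIso.hom ≫ i.appLE U (i ⁻¹ᵁ U) le_rfl ≫
          (i ⁻¹ᵁ U).topIso.inv).hom s := by
      rw [Scheme.Hom.appTop, h]; rfl
    rw [h', Iso.inv_hom_id_assoc, Scheme.Hom.appLE_eq_app]
    rfl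
  have hvg : ∀ b : Fin n, (i ∣_ U).appTop.hom (v (ULift.up (Sum.inr b))) = 0 := by
    intro b
    show (i ∣_ U).appTop.hom (U.topIso.inv.hom (algebraMap Γ(X, U₁) Γ(X, U) (g b))) = 0
    rw [hres]
    have hm : algebraMap Γ(X, U₁) Γ(X, U) (g b) ∈ RingHom.ker (i.app U).hom := by
      rw [hker]
      exact Ideal.subset_span ⟨b, rfl⟩
    rw [RingHom.mem_ker] at hm
    rw [hm, map_zero]
  -- the kernel on global sections of `↑U`
  have hkertop : ∀ s : Γ(U.toScheme, ⊤), (i ∣_ U).appTop.hom s = 0 →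
      s ∈ Ideal.span (Set.range fun b : Fin n => v (ULift.up (Sum.inr b))) := by
    intro s hs
    obtain ⟨s', rfl⟩ : ∃ s' : Γ(X, U), U.topIso.inv.hom s' = s :=
      ⟨U.topIso.hom.hom s, by
        rw [← CommRingCat.comp_apply, Iso.hom_inv_id]; rfl⟩
    rw [hres] at hs
    have hs' : (i.app U).hom s' = 0 := by
      have := congrArg (i ⁻¹ᵁ U).topIso.hom.hom hs
      rw [← CommRingCat.comp_apply, Iso.inv_hom_id, map_zero] at this
      exact this
    have hm : s' ∈ Ideal.span (Set.range fun b => algebraMap Γ(X, U₁) Γ(X, U) (g b)) := by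
      rw [← hker]; exact hs'
    have := Ideal.mem_map_of_mem U.topIso.inv.hom hm
    rw [Ideal.map_span, ← Set.range_comp] at this
    exact this
  -- the chart on `Y`
  set vρ : ULift.{u} (Fin m) → Γ((i ⁻¹ᵁ U).toScheme, ⊤) :=
    fun j => (i ∣_ U).appTop.hom (v (ULift.up (Sum.inl j.down))) with hvρdef
  set ρ : (i ⁻¹ᵁ U).toScheme ⟶ 𝔸(ULift.{u} (Fin m); S) :=
    AffineSpace.homOfVector ((i ⁻¹ᵁ U).ι ≫ pY) vρ with hρdef
  set z : 𝔸(ULift.{u} (Fin m); S) ⟶ 𝔸(ULift.{u} (Fin m ⊕ Fin n); S) :=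
    AffineSpace.homOfVector (𝔸(ULift.{u} (Fin m); S) ↘ S)
      (fun j : ULift.{u} (Fin m ⊕ Fin n) =>
        Sum.elim (fun a => AffineSpace.coord S (ULift.up a)) (fun _ => 0) j.down) with hzdef
  have hzinl : ∀ a' : Fin m, z.appTop.hom (AffineSpace.coord S (ULift.up (Sum.inl a'))) =
      AffineSpace.coord S (ULift.up a') := by
    intro a'
    rw [hzdef]
    exact AffineSpace.homOfVector_appTop_coord _ _ _
  have hzinr : ∀ b' : Fin n, z.appTop.hom (AffineSpace.coord S (ULift.up (Sum.inr b'))) = 0 := by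
    intro b'
    rw [hzdef]
    exact AffineSpace.homOfVector_appTop_coord _ _ _
  have hzover : z ≫ (𝔸(ULift.{u} (Fin m ⊕ Fin n); S) ↘ S) = 𝔸(ULift.{u} (Fin m); S) ↘ S :=
    AffineSpace.homOfVector_over _ _
  have hπover : π ≫ (𝔸(ULift.{u} (Fin m ⊕ Fin n); S) ↘ S) = U.ι ≫ pX :=
    AffineSpace.homOfVector_over _ _
  have hπcoord : ∀ j, π.appTop.hom (AffineSpace.coord S j) = v j := fun j =>
    AffineSpace.homOfVector_appTop_coord _ _ _
  have hcomm : ρ ≫ z = (i ∣_ U) ≫ π := by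
    apply AffineSpace.hom_ext
    · rw [Category.assoc, Category.assoc, hπover, hzover, hρdef,
        AffineSpace.homOfVector_over, morphismRestrict_ι_assoc, w]
    · rintro ⟨j | j⟩
      · rw [Scheme.Hom.comp_appTop, Scheme.Hom.comp_appTop, CommRingCat.comp_apply,
          CommRingCat.comp_apply]
        erw [hzinl j, hπcoord]
        exact AffineSpace.homOfVector_appTop_coord _ _ _
      · rw [Scheme.Hom.comp_appTop, Scheme.Hom.comp_appTop, CommRingCat.comp_apply,
          CommRingCat.comp_apply]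
        erw [hzinr j, hπcoord, hvg j, map_zero]
  -- the universal property
  have hH : ∀ c : PullbackCone z π, (i ∣_ U).ker ≤ c.snd.ker := by
    intro c
    rw [Scheme.ker_of_isAffine, Scheme.ker_of_isAffine]
    apply Scheme.IdealSheafData.le_of_isAffine
    simp only [Scheme.IdealSheafData.ofIdealTop_ideal]
    apply Ideal.map_mono
    intro s hs
    have hs' := hkertop s hs
    have hle : Ideal.span (Set.range fun b : Fin n => v (ULift.up (Sum.inr b))) ≤
        RingHom.ker c.snd.appTop.hom := by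
      rw [Ideal.span_le]
      rintro _ ⟨b, rfl⟩
      show c.snd.appTop.hom (v (ULift.up (Sum.inr b))) = 0
      rw [← hπcoord, ← CommRingCat.comp_apply, ← Scheme.Hom.comp_appTop, ← c.condition,
        Scheme.Hom.comp_appTop, CommRingCat.comp_apply]
      erw [hzinr b, map_zero]
    exact hle hs'
  refine ⟨U, m, n, π, ρ, hxU, hπet, hπover, ⟨⟨hcomm⟩, ⟨PullbackCone.IsLimit.mk hcomm
    (fun c => IsClosedImmersion.lift (i ∣_ U) c.snd (hH c)) ?_ ?_ ?_⟩⟩⟩
  · intro c
    apply AffineSpace.hom_ext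
    · have h1 : c.fst ≫ (𝔸(ULift.{u} (Fin m); S) ↘ S) = c.snd ≫ U.ι ≫ pX := by
        have := congrArg (fun k => k ≫ (𝔸(ULift.{u} (Fin m ⊕ Fin n); S) ↘ S)) c.condition
        simp only [Category.assoc] at this
        rw [hπover, hzover] at this
        exact this
      rw [Category.assoc, hρdef, AffineSpace.homOfVector_over, h1, ← w,
        ← morphismRestrict_ι_assoc, IsClosedImmersion.lift_fac_assoc]
    · rintro ⟨j⟩
      rw [Scheme.Hom.comp_appTop, CommRingCat.comp_apply]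
      have h1 : ρ.appTop.hom (AffineSpace.coord S (ULift.up j)) =
          (i ∣_ U).appTop.hom (v (ULift.up (Sum.inl j))) :=
        AffineSpace.homOfVector_appTop_coord _ _ _
      erw [h1]
      rw [← CommRingCat.comp_apply, ← Scheme.Hom.comp_appTop, IsClosedImmersion.lift_fac,
        ← hπcoord, ← CommRingCat.comp_apply, ← Scheme.Hom.comp_appTop, ← c.condition,
        Scheme.Hom.comp_appTop, CommRingCat.comp_apply]
      erw [hzinl j]
  · intro c
    exact IsClosedImmersion.lift_fac _ _ _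
  · intro c l _ h2
    rw [← cancel_mono (i ∣_ U), IsClosedImmersion.lift_fac]
    exact h2


open AlgebraicGeometry CategoryTheory Limits in
/-- Let X and Y be smooth over S and i : Y → X a closed immersion over S. For every point y of Y there
are an open U of X containing i y, natural numbers m, n, and an étale S-morphism π from U to affine
(m+n)-space over S such that the closed subscheme Y ∩ U of U is the pullback along π of the
coordinate subspace given by the vanishing of the last n coordinates. -/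
theorem result {S X Y : Scheme.{u}} (pX : X ⟶ S) (pY : Y ⟶ S) [Smooth pX] [Smooth pY]
    (i : Y ⟶ X) [IsClosedImmersion i] (w : i ≫ pX = pY) (y : Y) :
    ∃ (U : X.Opens) (m n : ℕ) (π : (U : Scheme.{u}) ⟶ 𝔸(ULift.{u} (Fin m ⊕ Fin n); S)) (ρ : (↑(i ⁻¹ᵁ U) : Scheme.{u}) ⟶ 𝔸(ULift.{u} (Fin m); S)),
      i y ∈ U ∧ Etale π ∧ π ≫ (𝔸(ULift.{u} (Fin m ⊕ Fin n); S) ↘ S) = U.ι ≫ pX ∧
      IsPullback ρ (i ∣_ U)
        (AffineSpace.homOfVector (𝔸(ULift.{u} (Fin m); S) ↘ S)
          (fun j : ULift.{u} (Fin m ⊕ Fin n) => Sum.elim (fun a => AffineSpace.coord S (ULift.up a)) (fun _ => 0) j.down))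
        π := by
  exact main pX pY i w y

end Groth.Agent.S1479
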