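import Groth.Statements.S14790
import Groth.Agent.S0386
import Mathlib

set_option autoImplicit false
set_option maxHeartbeats 400000
universe u
open CategoryTheory CategoryTheory.Limits AlgebraicGeometry
open Subtr

namespace Groth.Agent.S14790

/-- In a quasi-sober T0 space every point has a maximal generization. -/
theorem exists_maximal_generization {T : Type*} [TopologicalSpace T] [QuasiSober T] [T0Space T]
    (y : T) : ∃ η : T, η ⤳ y ∧ ∀ y' : T, y' ⤳ η → y' = η := by
  have hirr : IsIrreducible (irreducibleComponent y) := isIrreducible_irreducibleComponent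
  have hcl : IsClosed (irreducibleComponent y) := isClosed_irreducibleComponent
  have hη : IsGenericPoint hirr.genericPoint (irreducibleComponent y) := by
    have := hirr.isGenericPoint_genericPoint_closure
    rwa [hcl.closure_eq] at this
  refine ⟨hirr.genericPoint, ?_, ?_⟩
  · rw [specializes_iff_mem_closure, hη.def]
    exact mem_irreducibleComponent
  · intro y' hy'
    have h1 : irreducibleComponent y ⊆ closure {y'} := by
      rw [← hη.def]
      exact specializes_iff_closure_subset.mp hy'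
    have h2 : closure {y'} = irreducibleComponent y :=
      eq_irreducibleComponent isIrreducible_singleton.closure.isPreirreducible h1
    exact IsGenericPoint.eq h2 hη

set_option backward.isDefEq.respectTransparency.types false in
/-- The stalk of a reduced scheme at a maximal point is a field. -/
theorem isField_stalk_of_maximal {Y : Scheme.{u}} [IsReduced Y] (η : Y)
    (hη : ∀ y' : Y, y' ⤳ η → y' = η) : IsField (Y.presheaf.stalk η) := by
  rw [← PrimeSpectrum.subsingleton_iff_isField_of_isReduced]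
  refine ⟨fun a b => ?_⟩
  have ha : Y.fromSpecStalk η a ∈ Set.range (Y.fromSpecStalk η) := ⟨a, rfl⟩
  have hb : Y.fromSpecStalk η b ∈ Set.range (Y.fromSpecStalk η) := ⟨b, rfl⟩
  rw [Scheme.range_fromSpecStalk] at ha hb
  exact (Y.fromSpecStalk η).isEmbedding.injective ((hη _ ha).trans (hη _ hb).symm)

set_option backward.isDefEq.respectTransparency.types false in
/-- For a quasi-compact morphism, a closed subset of the source whose image misses a maximal point
of the target has image missing a whole open neighbourhood of that point. -/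
theorem exists_open_nhd_disjoint {X Y : Scheme.{u}} (f : X ⟶ Y) [QuasiCompact f] (Z : Set X)
    (hZ : IsClosed Z) (η : Y) (hη : ∀ y' : Y, y' ⤳ η → y' = η) (hηZ : ∀ z ∈ Z, f z ≠ η) :
    ∃ V : Y.Opens, η ∈ V ∧ ∀ z ∈ Z, f z ∉ V := by
  obtain ⟨V₀, hV₀, hηV₀, -⟩ :=
    exists_isAffineOpen_mem_and_subset (x := η) (U := (⊤ : Y.Opens)) trivial
  have hc : IsCompact ((f ⁻¹ᵁ V₀ : X.Opens) : Set X) := f.isCompact_preimage hV₀.isCompact
  obtain ⟨R, g, hg⟩ := isCompact_iff_exists.mp hc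
  have hgmem : ∀ r, f (g r) ∈ V₀ := by
    intro r
    have : g r ∈ Set.range g := ⟨r, rfl⟩
    rw [hg] at this
    exact this
  have hrange : Set.range (g ≫ f) ⊆ Set.range hV₀.fromSpec := by
    rw [hV₀.range_fromSpec]
    rintro _ ⟨r, rfl⟩
    exact hgmem r
  obtain ⟨l, hl⟩ : ∃ l : Spec R ⟶ Spec Γ(Y, V₀), l ≫ hV₀.fromSpec = g ≫ f :=
    ⟨IsOpenImmersion.lift hV₀.fromSpec (g ≫ f) hrange, IsOpenImmersion.lift_fac _ _ _⟩
  obtain ⟨φ, rfl⟩ : ∃ φ : Γ(Y, V₀) ⟶ R, Spec.map φ = l :=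
    ⟨Spec.preimage l, Spec.map_preimage l⟩
  have hlpt : ∀ r, hV₀.fromSpec (Spec.map φ r) = f (g r) := fun r => by
    have := congrArg (fun h : Spec R ⟶ Y => h r) hl
    exact this
  obtain ⟨η₀, hη₀⟩ : ∃ η₀, hV₀.fromSpec η₀ = η := by
    have : η ∈ Set.range hV₀.fromSpec := by rw [hV₀.range_fromSpec]; exact hηV₀
    exact this
  have hinj : Function.Injective hV₀.fromSpec := hV₀.fromSpec.isOpenEmbedding.injective
  let J : Ideal R := PrimeSpectrum.vanishingIdeal (g ⁻¹' Z)
  have hJ : PrimeSpectrum.zeroLocus (J : Set R) = g ⁻¹' Z :=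
    (PrimeSpectrum.zeroLocus_vanishingIdeal_eq_closure _).trans
      (hZ.preimage g.continuous).closure_eq
  have key : η₀ ∉ PrimeSpectrum.zeroLocus (J.comap φ.hom : Set Γ(Y, V₀)) := by
    intro hmem
    have hle : J.comap φ.hom ≤ η₀.asIdeal :=
      SetLike.coe_subset_coe.mp ((PrimeSpectrum.mem_zeroLocus _ _).mp hmem)
    have hmin : η₀.asIdeal ∈ (J.comap φ.hom).minimalPrimes := by
      refine ⟨⟨η₀.2, hle⟩, ?_⟩
      rintro q ⟨hq, -⟩ hqη
      let q' : PrimeSpectrum Γ(Y, V₀) := ⟨q, hq⟩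
      have hspec : q' ⤳ η₀ := (PrimeSpectrum.le_iff_specializes _ _).mp hqη
      have h2 : hV₀.fromSpec q' ⤳ hV₀.fromSpec η₀ := hspec.map hV₀.fromSpec.continuous
      rw [hη₀] at h2
      have h3 := hη _ h2
      rw [← hη₀] at h3
      have h4 : q' = η₀ := hinj h3
      have h5 : η₀.asIdeal = q := by rw [← h4]
      exact h5.le
    obtain ⟨p', hp', hJp', hcomap⟩ := Ideal.exists_comap_eq_of_mem_minimalPrimes φ.hom _ hmin
    let r₀ : PrimeSpectrum R := ⟨p', hp'⟩
    have hr : r₀ ∈ g ⁻¹' Z := by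
      rw [← hJ]; exact hJp'
    have h6 : Spec.map φ r₀ = η₀ := PrimeSpectrum.ext hcomap
    refine hηZ (g r₀) hr ?_
    calc f (g r₀) = hV₀.fromSpec (Spec.map φ r₀) := (hlpt r₀).symm
      _ = hV₀.fromSpec η₀ := by rw [h6]
      _ = η := hη₀
  let O : (Spec Γ(Y, V₀)).Opens :=
    ⟨(PrimeSpectrum.zeroLocus (J.comap φ.hom : Set Γ(Y, V₀)))ᶜ,
      (PrimeSpectrum.isClosed_zeroLocus _).isOpen_compl⟩
  have hmem : ∀ y, y ∈ hV₀.fromSpec ''ᵁ O ↔ ∃ y₀, y₀ ∈ O ∧ hV₀.fromSpec y₀ = y := fun y => Iff.rfl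
  refine ⟨hV₀.fromSpec ''ᵁ O, (hmem η).mpr ⟨η₀, key, hη₀⟩, ?_⟩
  intro z hz hzV
  obtain ⟨y₀, hy₀O, hy₀⟩ := (hmem _).mp hzV
  have hzV₀ : f z ∈ V₀ := by
    have : hV₀.fromSpec y₀ ∈ Set.range hV₀.fromSpec := ⟨y₀, rfl⟩
    rw [hV₀.range_fromSpec, hy₀] at this
    exact this
  have hzr : z ∈ Set.range g := by rw [hg]; exact hzV₀
  obtain ⟨r, rfl⟩ := hzr
  have hr : r ∈ PrimeSpectrum.zeroLocus (J : Set R) := by rw [hJ]; exact hz
  have h7 : Spec.map φ r = y₀ := hinj ((hlpt r).trans hy₀.symm)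
  have h8 : Spec.map φ r ∈ PrimeSpectrum.zeroLocus (J.comap φ.hom : Set Γ(Y, V₀)) :=
    (PrimeSpectrum.mem_zeroLocus _ _).mpr (SetLike.coe_subset_coe.mpr
      (Ideal.comap_mono (SetLike.coe_subset_coe.mp ((PrimeSpectrum.mem_zeroLocus _ _).mp hr))))
  rw [h7] at h8
  exact hy₀O h8


/-- Take a scheme Y that is reduced, quasi-compact and quasi-separated, whose set of maximal points
(points with no proper generization) is quasi-compact, and f : X ⟶ Y a morphism of finite
presentation. Then there is a dense quasi-compact open subset U ⊆ Y over which f is flat. -/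
theorem result {X Y : Scheme.{u}} [IsReduced Y]
    [CompactSpace Y] [QuasiSeparatedSpace Y]
    (hgen : IsCompact {y : Y | ∀ y' : Y, y' ⤳ y → y' = y})
    (f : X ⟶ Y) [LocallyOfFinitePresentation f] [QuasiCompact f] [QuasiSeparated f] :
    ∃ U : Y.Opens, Dense (U : Set Y) ∧ IsCompact (U : Set Y) ∧ Flat (f ∣_ U) := by
  classical
  have hWopen : IsOpen {x : X | (f.stalkMap x).hom.Flat} := Groth.Agent.S0386.result f
  set Z : Set X := {x : X | (f.stalkMap x).hom.Flat}ᶜ with hZdef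
  have hZcl : IsClosed Z := hWopen.isClosed_compl
  have hM : ∀ η : Y, (∀ y' : Y, y' ⤳ η → y' = η) → ∀ z ∈ Z, f z ≠ η := by
    intro η hη z hz hfz
    apply hz
    show (f.stalkMap z).hom.Flat
    subst hfz
    exact RingHom.Flat.of_isField (isField_stalk_of_maximal (f z) hη) _
  let V : Y.Opens := sSup {V : Y.Opens | ∀ z ∈ Z, f z ∉ V}
  have hVZ : ∀ z ∈ Z, f z ∉ V := by
    intro z hz hfz
    obtain ⟨V', hV', hzV'⟩ := TopologicalSpace.Opens.mem_sSup.mp hfz
    exact hV' z hz hzV'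
  have hMV : {y : Y | ∀ y' : Y, y' ⤳ y → y' = y} ⊆ (V : Set Y) := by
    intro η hη
    obtain ⟨V', hηV', hV'⟩ := exists_open_nhd_disjoint f Z hZcl η hη (hM η hη)
    exact TopologicalSpace.Opens.mem_sSup.mpr ⟨V', hV', hηV'⟩
  obtain ⟨U₀, hU₀c, hU₀o, hMU₀, hU₀V⟩ :=
    PrespectralSpace.exists_isCompact_and_isOpen_between hgen V.isOpen hMV
  let U : Y.Opens := ⟨U₀, hU₀o⟩
  refine ⟨U, ?_, hU₀c, ?_⟩
  · rw [dense_iff_inter_open]
    rintro O hO ⟨y, hy⟩
    obtain ⟨η, hηy, hη⟩ := exists_maximal_generization y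
    exact ⟨η, hηy.mem_open hO hy, hMU₀ hη⟩
  · rw [AlgebraicGeometry.Flat.iff_flat_stalkMap]
    intro x
    rw [RingHom.Flat.respectsIso.arrow_mk_iso_iff (morphismRestrictStalkMap f U x)]
    by_contra hx
    exact hVZ x.1 hx (hU₀V x.2)

end Groth.Agent.S14790
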