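import Groth.Statements.S14795
import Groth.Agent.H69.PerfUH
import Groth.Agent.H69.UHomeo2

set_option autoImplicit false
universe u
open CategoryTheory CategoryTheory.Limits AlgebraicGeometry
open Subtr

namespace Groth.Agent.S14795

open Groth.Agent.H69 in
theorem exists_extension_of_isIntegral {D B : Type u} [CommRing D] [CommRing B] [Algebra D B]
    [Algebra.IsIntegral D B] (hinj : Function.Injective (algebraMap D B)) {Ω : Type u} [Field Ω]
    [IsAlgClosed Ω] (h : D →+* Ω) : ∃ h' : B →+* Ω, h'.comp (algebraMap D B) = h := by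
  haveI : (RingHom.ker h).IsPrime := RingHom.ker_isPrime h
  have hker' : (⊥ : Ideal B).comap (algebraMap D B) ≤ RingHom.ker h := by
    rw [← RingHom.ker_eq_comap_bot, (RingHom.injective_iff_ker_eq_bot _).mp hinj]
    exact bot_le
  obtain ⟨Q, -, hQ, hQP⟩ := Ideal.exists_ideal_over_prime_of_isIntegral (RingHom.ker h)
    (⊥ : Ideal B) hker'
  haveI := hQ
  haveI : Q.LiesOver (RingHom.ker h) := ⟨hQP.symm⟩
  letI : Algebra (D ⧸ RingHom.ker h) Ω := (RingHom.kerLift h).toAlgebra
  haveI : Module.IsTorsionFree (D ⧸ RingHom.ker h) Ω :=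
    Module.isTorsionFree_iff_algebraMap_injective.mpr (RingHom.kerLift_injective h)
  haveI : Algebra.IsAlgebraic (D ⧸ RingHom.ker h) (B ⧸ Q) := Algebra.IsIntegral.isAlgebraic
  let φ : (B ⧸ Q) →ₐ[D ⧸ RingHom.ker h] Ω := IsAlgClosed.lift
  refine ⟨φ.toRingHom.comp (Ideal.Quotient.mk Q), ?_⟩
  ext d
  show φ (Ideal.Quotient.mk Q (algebraMap D B d)) = h d
  have h1 : Ideal.Quotient.mk Q (algebraMap D B d) =
      algebraMap (D ⧸ RingHom.ker h) (B ⧸ Q) (Ideal.Quotient.mk (RingHom.ker h) d) :=
    (Ideal.Quotient.algebraMap_mk_of_liesOver Q (RingHom.ker h) d).symm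
  rw [h1, φ.commutes]
  rfl

/-- Let A ⊆ B be an integral ring extension and C ⊆ B the weak subintegral closure of A in B, that is
the largest A-subalgebra C of B such that Spec C ⟶ Spec A is a universal homeomorphism (C is
characterised here by that maximality). Then b ∈ B lies in C if and only if b ⊗ 1 − 1 ⊗ b is
nilpotent in B ⊗_A B (b ⊗ 1 = 1 ⊗ b in the reduction of B ⊗_A B). -/
theorem result {A B : Type u} [CommRing A] [CommRing B]
    [Algebra A B] (hinj : Function.Injective (algebraMap A B)) [Algebra.IsIntegral A B]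
    (C : Subalgebra A B) (hC : FlatMor.IsUnivHomeo (Spec.map (CommRingCat.ofHom (algebraMap A C))))
    (hmax : ∀ D : Subalgebra A B, FlatMor.IsUnivHomeo (Spec.map (CommRingCat.ofHom (algebraMap A D))) → D ≤ C) (b : B) :
    b ∈ C ↔ IsNilpotent (b ⊗ₜ[A] (1 : B) - (1 : B) ⊗ₜ[A] b) := by
  have hCUH : Groth.Agent.H69.RingUH (algebraMap A C) :=
    Groth.Agent.H69.ringUH_of_isUnivHomeo _ hC
  constructor
  · intro hb
    have hz : IsNilpotent ((⟨b, hb⟩ : C) ⊗ₜ[A] (1 : C) - (1 : C) ⊗ₜ[A] (⟨b, hb⟩ : C)) := by
      rw [nilpotent_iff_mem_prime]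
      intro Q hQ
      haveI := hQ
      have hfg : ((algebraMap (TensorProduct A C C) Q.ResidueField).comp
            (Algebra.TensorProduct.includeLeftRingHom : C →+* TensorProduct A C C)).comp
            (algebraMap A C) =
          ((algebraMap (TensorProduct A C C) Q.ResidueField).comp
            (Algebra.TensorProduct.includeRight : C →ₐ[A] TensorProduct A C C).toRingHom).comp
            (algebraMap A C) := by
        ext a
        show algebraMap (TensorProduct A C C) Q.ResidueField ((algebraMap A C a) ⊗ₜ[A] (1 : C)) =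
          algebraMap (TensorProduct A C C) Q.ResidueField ((1 : C) ⊗ₜ[A] (algebraMap A C a))
        congr 1
        rw [Algebra.algebraMap_eq_smul_one, TensorProduct.smul_tmul]
      have hfg' := hCUH.ext _ _ _ hfg
      rw [← Ideal.algebraMap_residueField_eq_zero, map_sub, sub_eq_zero]
      exact congrArg (fun k => k (⟨b, hb⟩ : C)) hfg'
    have h2 := hz.map (Algebra.TensorProduct.map C.val C.val)
    simpa using h2
  · intro hnil
    have hbD : b ∈ Algebra.adjoin A ({b} : Set B) := Algebra.subset_adjoin (Set.mem_singleton b)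
    suffices hD : FlatMor.IsUnivHomeo (Spec.map (CommRingCat.ofHom
        (algebraMap A (Algebra.adjoin A ({b} : Set B))))) from hmax _ hD hbD
    have hint : (algebraMap A (Algebra.adjoin A ({b} : Set B))).IsIntegral := by
      intro d
      have h1 : IsIntegral A (d : B) := Algebra.IsIntegral.isIntegral _
      exact (isIntegral_algHom_iff (Algebra.adjoin A ({b} : Set B)).val
        Subtype.val_injective).mp h1
    have hinjD : Function.Injective (algebraMap A (Algebra.adjoin A ({b} : Set B))) := by
      intro x y hxy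
      apply hinj
      exact congrArg Subtype.val hxy
    haveI : Algebra.IsIntegral (Algebra.adjoin A ({b} : Set B)) B :=
      ⟨fun x => (Algebra.IsIntegral.isIntegral (R := A) x).tower_top⟩
    have hinjDB : Function.Injective (algebraMap (Algebra.adjoin A ({b} : Set B)) B) :=
      Subtype.val_injective
    haveI : IsIntegralHom (Spec.map (CommRingCat.ofHom
        (algebraMap A (Algebra.adjoin A ({b} : Set B))))) := IsIntegralHom.SpecMap_iff.mpr hint
    haveI : UniversallyInjective (Spec.map (CommRingCat.ofHom
        (algebraMap A (Algebra.adjoin A ({b} : Set B))))) := by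
      apply Groth.Agent.H69.universallyInjective_Spec_of_ringHom_ext
      intro L _ f g hfg
      obtain ⟨f', hf'⟩ := exists_extension_of_isIntegral hinjDB
        ((algebraMap L (AlgebraicClosure L)).comp f)
      obtain ⟨g', hg'⟩ := exists_extension_of_isIntegral hinjDB
        ((algebraMap L (AlgebraicClosure L)).comp g)
      have hagree : f'.comp (algebraMap A B) = g'.comp (algebraMap A B) := by
        have e : algebraMap A B = (algebraMap (Algebra.adjoin A ({b} : Set B)) B).comp
            (algebraMap A (Algebra.adjoin A ({b} : Set B))) := rfl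
        rw [e, ← RingHom.comp_assoc, ← RingHom.comp_assoc, hf', hg', RingHom.comp_assoc,
          RingHom.comp_assoc, hfg]
      letI : Algebra A (AlgebraicClosure L) := (f'.comp (algebraMap A B)).toAlgebra
      let fa : B →ₐ[A] AlgebraicClosure L := ⟨f', fun a => rfl⟩
      let ga : B →ₐ[A] AlgebraicClosure L :=
        ⟨g', fun a => (congrArg (fun k => k a) hagree).symm⟩
      have h3 := hnil.map (Algebra.TensorProduct.productMap fa ga)
      rw [map_sub, Algebra.TensorProduct.productMap_apply_tmul,
        Algebra.TensorProduct.productMap_apply_tmul, map_one, map_one, mul_one, one_mul] at h3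
      have h4 : f' b = g' b := sub_eq_zero.mp h3.eq_zero
      have h5 : f ⟨b, hbD⟩ = g ⟨b, hbD⟩ := by
        apply (algebraMap L (AlgebraicClosure L)).injective
        have e1 := congrArg (fun k => k (⟨b, hbD⟩ : Algebra.adjoin A ({b} : Set B))) hf'
        have e2 := congrArg (fun k => k (⟨b, hbD⟩ : Algebra.adjoin A ({b} : Set B))) hg'
        simp only [RingHom.comp_apply] at e1 e2
        rw [← e1, ← e2]
        exact h4
      letI : Algebra A L := (f.comp (algebraMap A (Algebra.adjoin A ({b} : Set B)))).toAlgebra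
      let fL : (Algebra.adjoin A ({b} : Set B)) →ₐ[A] L := ⟨f, fun a => rfl⟩
      let gL : (Algebra.adjoin A ({b} : Set B)) →ₐ[A] L :=
        ⟨g, fun a => (congrArg (fun k => k a) hfg).symm⟩
      have hle : Algebra.adjoin A ({b} : Set B) ≤
          (AlgHom.equalizer fL gL).map (Algebra.adjoin A ({b} : Set B)).val := by
        apply Algebra.adjoin_le
        intro x hx
        rw [Set.mem_singleton_iff.mp hx]
        exact ⟨⟨b, hbD⟩, h5, rfl⟩
      ext d
      obtain ⟨d', hd', hdd'⟩ := hle d.2
      have : d' = d := Subtype.ext hdd'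
      rw [← this]
      exact hd'
    haveI : Surjective (Spec.map (CommRingCat.ofHom
        (algebraMap A (Algebra.adjoin A ({b} : Set B))))) := by
      refine ⟨fun P => ?_⟩
      obtain ⟨Q, hQ, hQP⟩ := Groth.Agent.H69.exists_prime_comap_eq_of_isIntegral'
        (algebraMap A (Algebra.adjoin A ({b} : Set B))) hint P.asIdeal (by
          rw [(RingHom.injective_iff_ker_eq_bot _).mp hinjD]
          exact bot_le)
      exact ⟨⟨Q, hQ⟩, PrimeSpectrum.ext hQP⟩
    exact Groth.Agent.H69.isUnivHomeo_of_integral _

end Groth.Agent.S14795
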