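import Groth.Statements.S14799
import Mathlib
import Groth.Agent.H74.HJ
-- import your own Groth.Agent.* helpers here

set_option autoImplicit false
open HJFrac

namespace Groth.Agent.S14799

/-- Let 0 < r < n be coprime integers and n/r = b₁ - 1/(b₂ - 1/(⋯ - 1/b_λ)) the Hirzebruch–Jung
expansion (λ ≥ 1, every b_i ≥ 2); let m₁, m₂ be positive integers prime to n with r m₂ + m₁ ≡ 0 mod
n, and let μ₁, …, μ_λ be positive integers with b_i μ_i = μ_{i-1} + μ_{i+1} for 1 ≤ i ≤ λ, where μ₀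
= m₂ and μ_{λ+1} = m₁. Then gcd(m₁, μ₁, …, μ_λ, m₂) = gcd(m₁, m₂); equivalently gcd(m₁, m₂) divides
every μ_i. -/
theorem result (l : ℕ) (hl : 1 ≤ l) (b : ℕ → ℤ)
    (hb : ∀ i, 1 ≤ i → i ≤ l → 2 ≤ b i)
    (n r : ℕ) (hr : 0 < r) (hrn : r < n) (hcop : Nat.Coprime r n)
    (hhj : (n : ℚ) / r = HJFrac.hjVal ((List.range l).map fun i => b (i + 1)))
    (m₁ m₂ : ℕ) (hm₁ : 0 < m₁) (hm₂ : 0 < m₂) (h₁ : Nat.Coprime m₁ n) (h₂ : Nat.Coprime m₂ n)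
    (hdvd : (n : ℤ) ∣ r * m₂ + m₁)
    (μ : ℕ → ℤ) (hμ0 : μ 0 = m₂) (hμl : μ (l + 1) = m₁) (hμpos : ∀ i, i ≤ l + 1 → 0 < μ i)
    (hsys : ∀ i, 1 ≤ i → i ≤ l → b i * μ i = μ (i - 1) + μ (i + 1)) :
    ∀ i, i ≤ l + 1 → ((Nat.gcd m₁ m₂ : ℕ) : ℤ) ∣ μ i := by
  obtain ⟨hrel, -⟩ := Groth.Agent.H74.HJ.hj_apply l hl b hb n r hr hrn hcop hhj μ hsys
  rw [hμ0, hμl] at hrel
  have hg1 : ((Nat.gcd m₁ m₂ : ℕ) : ℤ) ∣ (m₁ : ℤ) :=
    Int.natCast_dvd_natCast.mpr (Nat.gcd_dvd_left m₁ m₂)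
  have hg2 : ((Nat.gcd m₁ m₂ : ℕ) : ℤ) ∣ (m₂ : ℤ) :=
    Int.natCast_dvd_natCast.mpr (Nat.gcd_dvd_right m₁ m₂)
  have hgn : IsCoprime ((Nat.gcd m₁ m₂ : ℕ) : ℤ) (n : ℤ) :=
    Nat.isCoprime_iff_coprime.mpr (Nat.Coprime.coprime_dvd_left (Nat.gcd_dvd_left m₁ m₂) h₁)
  have hμ1 : ((Nat.gcd m₁ m₂ : ℕ) : ℤ) ∣ μ 1 := by
    apply hgn.dvd_of_dvd_mul_left
    rw [hrel]
    exact dvd_add (dvd_mul_of_dvd_right hg2 _) hg1
  have key : ∀ i, i ≤ l → ((Nat.gcd m₁ m₂ : ℕ) : ℤ) ∣ μ i ∧ ((Nat.gcd m₁ m₂ : ℕ) : ℤ) ∣ μ (i + 1) := by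
    intro i
    induction i with
    | zero =>
      intro _
      refine ⟨?_, hμ1⟩
      rw [hμ0]
      exact hg2
    | succ i ih =>
      intro hi
      obtain ⟨h1, h2⟩ := ih (by omega)
      refine ⟨h2, ?_⟩
      have h := hsys (i + 1) (by omega) hi
      have e : i + 1 - 1 = i := by omega
      rw [e] at h
      have h' : μ (i + 1 + 1) = b (i + 1) * μ (i + 1) - μ i := by linarith
      rw [h']
      exact dvd_sub (dvd_mul_of_dvd_right h2 _) h1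
  intro i hi
  rcases Nat.eq_zero_or_pos i with rfl | hpos
  · exact (key 0 (by omega)).1
  · have h := (key (i - 1) (by omega)).2
    rwa [Nat.sub_add_cancel hpos] at h

end Groth.Agent.S14799
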