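import Groth.Statements.S14801
import Mathlib
import Groth.Agent.H88.ChainCtr

set_option autoImplicit false
universe u
open Finset
open LabGraph

namespace Groth.Agent.S14801

/-- Let (G, β) be a finite multigraph with a multiplicity function and α its matrix (α_{vw} = #edges(v,
w) for v ≠ w, diagonal entries defined by Σ_w β(w) α_{vw} = 0); let L be a connecting chain of
length m (vertices v₀, …, v_m, edges e₁, …, e_m, each connecting) with β(v_i) = m and α_{v_i v_i} =
-2 for all i; let (G', β') be the contraction of L and f : ℤ^{V(G')} → ℤ^{V(G)} the map extending a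
vector by zero along the section of V(G) → V(G') that sends the contracted vertex to v₀. Then f
carries ker β' into ker β, and there is a map h : ℤ^{V(G')} → ℤ^{V(G)} with f ∘ α' = α ∘ h, so that
f induces a homomorphism of component groups ker β'/im α' → ker β/im α; this homomorphism is
surjective. -/
theorem result {V E : Type u} [Fintype V] [Fintype E] [DecidableEq V] [DecidableEq E]
    (ends : E → V × V) (β : V → ℤ) (hβ : LabGraph.IsMultFn ends β)
    (m : ℕ) (f : Fin (m + 1) → V) (e : Fin m → E) (hC : LabGraph.IsChain ends f e)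
    (hconn : ∀ i, LabGraph.IsConnecting ends (e i)) (hβm : ∀ i, β (f i) = m)
    (hα : ∀ i, LabGraph.mfMatrix ends β (f i) (f i) = -2) :
    ∃ φ : LabGraph.CompGrp (DualGr.ctrEnds ends (univ.image e)) (LabGraph.ctrFn ends (univ.image e) β) →+
        LabGraph.CompGrp ends β,
      Function.Surjective φ ∧
      ∀ (x : LinearMap.ker (LabGraph.betaHom (LabGraph.ctrFn ends (univ.image e) β)))
        (y : LinearMap.ker (LabGraph.betaHom β)),
        (y : V → ℤ) = LabGraph.liftAt ends (univ.image e) (f 0) (x : DualGr.CtrVert ends (univ.image e) → ℤ) →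
        φ (Submodule.Quotient.mk x) = Submodule.Quotient.mk y := by
  classical
  have hm : 0 < m := by
    have h1 := (hβ (f 0)).1
    rw [hβm 0] at h1
    exact_mod_cast h1
  have hcl : ∀ v w, DualGr.ctrMk ends (univ.image e) v = DualGr.ctrMk ends (univ.image e) w →
      β v = β w := by
    intro v w hvw
    rcases (Groth.Agent.H88.ChainCtr.ctrMk_eq_iff ends f e hC v w).mp hvw with h | ⟨⟨i, hi⟩, ⟨j, hj⟩⟩
    · rw [h]
    · rw [← hi, ← hj, hβm i, hβm j]
  have hβN : ∀ n, β (Groth.Agent.H88.ChainCtr.fN f n) = m := fun n => hβm _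
  have hαN : ∀ n, LabGraph.mfMatrix ends β (Groth.Agent.H88.ChainCtr.fN f n)
      (Groth.Agent.H88.ChainCtr.fN f n) = -2 := fun n => hα _
  obtain ⟨ζ, hζ1, hζ2⟩ := Groth.Agent.H88.ChainCtr.exists_zeta ends f e hC hconn β hβ hβN hαN hm
  have hker : ∀ x' : DualGr.CtrVert ends (univ.image e) → ℤ,
      LabGraph.betaHom β (LabGraph.liftAt ends (univ.image e) (f 0) x') =
        LabGraph.betaHom (LabGraph.ctrFn ends (univ.image e) β) x' := by
    intro x'
    rw [← Groth.Agent.H88.ChainCtr.betaHom_pushV ends (univ.image e) β hcl,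
      Groth.Agent.H88.ChainCtr.pushV_liftAt ends f e hC]
  obtain ⟨L, hL⟩ : ∃ L : LinearMap.ker (LabGraph.betaHom (LabGraph.ctrFn ends (univ.image e) β)) →ₗ[ℤ]
      LinearMap.ker (LabGraph.betaHom β), ∀ x, ((L x : LinearMap.ker (LabGraph.betaHom β)) : V → ℤ) =
        LabGraph.liftAt ends (univ.image e) (f 0) x.1 := by
    refine ⟨LinearMap.codRestrict _
      ((Groth.Agent.H88.ChainCtr.liftAtLin ends (univ.image e) (f 0)).comp (Submodule.subtype _))
      (fun x => ?_), fun x => rfl⟩
    rw [LinearMap.mem_ker]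
    show LabGraph.betaHom β (LabGraph.liftAt ends (univ.image e) (f 0) x.1) = 0
    rw [hker]; exact LinearMap.mem_ker.mp x.2
  have hle : (LinearMap.range (Matrix.mulVecLin (LabGraph.mfMatrix (DualGr.ctrEnds ends (univ.image e))
        (LabGraph.ctrFn ends (univ.image e) β)))).comap
        (LinearMap.ker (LabGraph.betaHom (LabGraph.ctrFn ends (univ.image e) β))).subtype ≤
      ((LinearMap.range (Matrix.mulVecLin (LabGraph.mfMatrix ends β))).comap
        (LinearMap.ker (LabGraph.betaHom β)).subtype).comap L := by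
    intro x hx
    have hx' : (x : DualGr.CtrVert ends (univ.image e) → ℤ) ∈
        LinearMap.range (Matrix.mulVecLin (LabGraph.mfMatrix (DualGr.ctrEnds ends (univ.image e))
          (LabGraph.ctrFn ends (univ.image e) β))) := hx
    obtain ⟨z', hz'⟩ := hx'
    rw [Matrix.mulVecLin_apply] at hz'
    show ((L x : LinearMap.ker (LabGraph.betaHom β)) : V → ℤ) ∈
      LinearMap.range (Matrix.mulVecLin (LabGraph.mfMatrix ends β))
    rw [hL, ← hz']
    obtain ⟨zz, hzz⟩ : ∃ zz : V → ℤ, zz = fun v => z' (DualGr.ctrMk ends (univ.image e) v) := ⟨_, rfl⟩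
    obtain ⟨uu, huu⟩ : ∃ uu : V → ℤ, uu = (LabGraph.mfMatrix ends β).mulVec zz := ⟨_, rfl⟩
    have hpush : (LabGraph.mfMatrix (DualGr.ctrEnds ends (univ.image e))
        (LabGraph.ctrFn ends (univ.image e) β)).mulVec z' = DualGr.pushV ends (univ.image e) uu := by
      funext c
      rw [Groth.Agent.H88.ChainCtr.mulVec_ctr ends (univ.image e) β hβ hcl z' c, ← hzz, ← huu]
      rfl
    have hzc : ∀ n, zz (Groth.Agent.H88.ChainCtr.fN f n) = z' (DualGr.ctrMk ends (univ.image e) (f 0)) := by
      intro n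
      rw [hzz]
      show z' (DualGr.ctrMk ends (univ.image e) (Groth.Agent.H88.ChainCtr.fN f n)) = _
      rw [Groth.Agent.H88.ChainCtr.ctrMk_fN ends f e hC n]
    have hint : ∀ i, i + 1 < m → uu (Groth.Agent.H88.ChainCtr.fN f (i + 1)) = 0 := by
      intro i hi
      rw [huu, Groth.Agent.H88.ChainCtr.mulVec_interior ends f e hC β hβ hβN hαN i hi zz,
        hzc i, hzc (i + 1), hzc (i + 2)]
      ring
    rw [hpush, Groth.Agent.H88.ChainCtr.liftAt_pushV ends f e hC hm uu hint]
    refine ⟨zz + uu (Groth.Agent.H88.ChainCtr.fN f m) • ζ, ?_⟩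
    rw [Matrix.mulVecLin_apply, Matrix.mulVec_add, Matrix.mulVec_smul, hζ2, ← huu]
  refine ⟨(Submodule.mapQ _ _ L hle).toAddMonoidHom, ?_, ?_⟩
  · intro q
    obtain ⟨y, rfl⟩ := Submodule.Quotient.mk_surjective _ q
    obtain ⟨z, hz⟩ := Groth.Agent.H88.ChainCtr.exists_reduce ends f e hC hconn β y.1 m 0 (by omega)
    obtain ⟨y₀, hy₀⟩ : ∃ y₀ : V → ℤ, y₀ = y.1 - (LabGraph.mfMatrix ends β).mulVec z := ⟨_, rfl⟩
    have hy₀z : ∀ n, 0 < n → n ≤ m → y₀ (Groth.Agent.H88.ChainCtr.fN f n) = 0 := by
      intro n h1 h2; rw [hy₀]; exact hz n h1 h2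
    have hlift : LabGraph.liftAt ends (univ.image e) (f 0) (DualGr.pushV ends (univ.image e) y₀) = y₀ := by
      rw [Groth.Agent.H88.ChainCtr.liftAt_pushV ends f e hC hm y₀
        (fun i hi => hy₀z (i + 1) (by omega) (by omega)), hy₀z m hm le_rfl]
      simp
    have hβy₀ : LabGraph.betaHom β y₀ = 0 := by
      rw [hy₀, map_sub, Groth.Agent.H88.ChainCtr.betaHom_mulVec ends β hβ, sub_zero]
      exact LinearMap.mem_ker.mp y.2
    have hx'ker : DualGr.pushV ends (univ.image e) y₀ ∈
        LinearMap.ker (LabGraph.betaHom (LabGraph.ctrFn ends (univ.image e) β)) := by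
      rw [LinearMap.mem_ker, Groth.Agent.H88.ChainCtr.betaHom_pushV ends (univ.image e) β hcl]
      exact hβy₀
    refine ⟨Submodule.Quotient.mk ⟨_, hx'ker⟩, ?_⟩
    show Submodule.mapQ _ _ L hle (Submodule.Quotient.mk _) = _
    rw [Submodule.mapQ_apply, Submodule.Quotient.eq, Submodule.mem_comap]
    refine ⟨-z, ?_⟩
    rw [Matrix.mulVecLin_apply, Matrix.mulVec_neg]
    show _ = ((L ⟨_, hx'ker⟩ : LinearMap.ker (LabGraph.betaHom β)) : V → ℤ) - y.1
    rw [hL]
    show _ = LabGraph.liftAt ends (univ.image e) (f 0) (DualGr.pushV ends (univ.image e) y₀) - y.1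
    rw [hlift, hy₀]; abel
  · intro x y hxy
    show Submodule.mapQ _ _ L hle (Submodule.Quotient.mk x) = Submodule.Quotient.mk y
    rw [Submodule.mapQ_apply]
    congr 1
    apply Subtype.ext
    rw [hL]; exact hxy.symm

end Groth.Agent.S14801
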