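import Groth.Statements.S14802
import Mathlib
import Groth.Agent.H88.ChainCtr

set_option autoImplicit false
universe u
open Finset
open LabGraph

namespace Groth.Agent.S14802

/-- Let (G, β) be a connected finite multigraph with a multiplicity function and α its matrix; let L be
a connecting chain of length m (vertices v₀, …, v_m, edges e₁, …, e_m, each connecting) with β(v_i)
= m and α_{v_i v_i} = -2 for all i; let (G', β') be the contraction of L and f : ℤ^{V(G')} →
ℤ^{V(G)} the extension by zero along the section sending the contracted vertex to v₀. Then the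
homomorphism ker β'/im α' → ker β/im α induced by f is injective: if x ∈ ker β' and f(x) ∈ im α then
x ∈ im α'. With the surjectivity this gives Φ(G') ≅ Φ(G): the component group depends on the length
of such a chain only modulo m. -/
theorem result {V E : Type u} [Fintype V] [Fintype E] [DecidableEq V] [DecidableEq E]
    (ends : E → V × V) (β : V → ℤ) (hβ : LabGraph.IsMultFn ends β) (hG : LabGraph.Connected ends)
    (m : ℕ) (f : Fin (m + 1) → V) (e : Fin m → E) (hC : LabGraph.IsChain ends f e)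
    (hconn : ∀ i, LabGraph.IsConnecting ends (e i)) (hβm : ∀ i, β (f i) = m)
    (hα : ∀ i, LabGraph.mfMatrix ends β (f i) (f i) = -2)
    (x : DualGr.CtrVert ends (univ.image e) → ℤ)
    (hx : x ∈ LinearMap.ker (LabGraph.betaHom (LabGraph.ctrFn ends (univ.image e) β)))
    (hfx : LabGraph.liftAt ends (univ.image e) (f 0) x ∈
      LinearMap.range (Matrix.mulVecLin (LabGraph.mfMatrix ends β))) :
    x ∈ LinearMap.range (Matrix.mulVecLin
      (LabGraph.mfMatrix (DualGr.ctrEnds ends (univ.image e)) (LabGraph.ctrFn ends (univ.image e) β))) := by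
  classical
  have hm : 0 < m := by
    have h1 := (hβ (f 0)).1
    rw [hβm 0] at h1
    exact_mod_cast h1
  have hcl : ∀ v w, DualGr.ctrMk ends (univ.image e) v = DualGr.ctrMk ends (univ.image e) w →
      β v = β w := by
    intro v w hvw
    rcases (Groth.Agent.H88.ChainCtr.ctrMk_eq_iff ends f e hC v w).mp hvw with h | ⟨⟨i, hi⟩, ⟨j, hj⟩⟩
    · rw [h]
    · rw [← hi, ← hj, hβm i, hβm j]
  have hβN : ∀ n, β (Groth.Agent.H88.ChainCtr.fN f n) = m := fun n => hβm _
  have hαN : ∀ n, LabGraph.mfMatrix ends β (Groth.Agent.H88.ChainCtr.fN f n)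
      (Groth.Agent.H88.ChainCtr.fN f n) = -2 := fun n => hα _
  obtain ⟨ζ, hζ1, hζ2⟩ := Groth.Agent.H88.ChainCtr.exists_zeta ends f e hC hconn β hβ hβN hαN hm
  obtain ⟨z, hz⟩ := hfx
  rw [Matrix.mulVecLin_apply] at hz
  obtain ⟨s, hs⟩ : ∃ s : ℤ, s = z (Groth.Agent.H88.ChainCtr.fN f (0 + 1)) -
      z (Groth.Agent.H88.ChainCtr.fN f 0) := ⟨_, rfl⟩
  have hf0 : Groth.Agent.H88.ChainCtr.fN f 0 = f 0 := Groth.Agent.H88.ChainCtr.fN_zero f
  have hint : ∀ i, i + 1 < m →
      (LabGraph.mfMatrix ends β).mulVec z (Groth.Agent.H88.ChainCtr.fN f (i + 1)) = 0 := by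
    intro i hi
    rw [hz]
    unfold LabGraph.liftAt
    have hne : Groth.Agent.H88.ChainCtr.fN f (i + 1) ≠ f 0 := by
      rw [← hf0]; intro h
      have := Groth.Agent.H88.ChainCtr.fN_inj ends f e hC (by omega) (by omega) h
      omega
    rw [if_pos ⟨Groth.Agent.H88.ChainCtr.ctrMk_fN ends f e hC (i + 1), hne⟩]
  have hstep : ∀ n, n + 1 ≤ m → z (Groth.Agent.H88.ChainCtr.fN f (n + 1)) -
      z (Groth.Agent.H88.ChainCtr.fN f n) = s := by
    intro n
    induction n with
    | zero => intro _; rw [hs]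
    | succ n ih =>
      intro hn
      have h1 := ih (by omega)
      have h2 := hint n (by omega)
      rw [Groth.Agent.H88.ChainCtr.mulVec_interior ends f e hC β hβ hβN hαN n (by omega) z] at h2
      have e1 : n + 1 + 1 = n + 2 := rfl
      rw [e1]
      linarith
  have hAP : ∀ n, n ≤ m → z (Groth.Agent.H88.ChainCtr.fN f n) =
      z (Groth.Agent.H88.ChainCtr.fN f 0) + n * s := by
    intro n
    induction n with
    | zero => intro _; simp
    | succ n ih =>
      intro hn
      have h1 := ih (by omega)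
      have h2 := hstep n hn
      push_cast; linarith
  obtain ⟨z₂, hz₂⟩ : ∃ z₂ : V → ℤ, z₂ = z - s • ζ := ⟨_, rfl⟩
  have hz₂c : ∀ n, n ≤ m → z₂ (Groth.Agent.H88.ChainCtr.fN f n) =
      z (Groth.Agent.H88.ChainCtr.fN f 0) := by
    intro n hn
    rw [hz₂]
    simp only [Pi.sub_apply, Pi.smul_apply, smul_eq_mul]
    rw [hAP n hn, hζ1 n hn]; ring
  have hcl2 : ∀ v w, DualGr.ctrMk ends (univ.image e) v = DualGr.ctrMk ends (univ.image e) w →
      z₂ v = z₂ w := by
    intro v w hvw
    rcases (Groth.Agent.H88.ChainCtr.ctrMk_eq_iff ends f e hC v w).mp hvw with h | ⟨hv, hw⟩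
    · rw [h]
    · obtain ⟨a, ha, rfl⟩ := (Groth.Agent.H88.ChainCtr.mem_range_iff f v).mp hv
      obtain ⟨b, hb, rfl⟩ := (Groth.Agent.H88.ChainCtr.mem_range_iff f w).mp hw
      rw [hz₂c a ha, hz₂c b hb]
  refine ⟨LabGraph.ctrFn ends (univ.image e) z₂, ?_⟩
  rw [Matrix.mulVecLin_apply]
  funext c
  rw [Groth.Agent.H88.ChainCtr.mulVec_ctr ends (univ.image e) β hβ hcl _ c]
  have hfun : (fun v => LabGraph.ctrFn ends (univ.image e) z₂ (DualGr.ctrMk ends (univ.image e) v)) = z₂ :=
    funext (Groth.Agent.H88.ChainCtr.ctrFn_mk ends (univ.image e) z₂ hcl2)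
  rw [hfun]
  have hαz₂ : (LabGraph.mfMatrix ends β).mulVec z₂ =
      LabGraph.liftAt ends (univ.image e) (f 0) x -
        s • (Pi.single (f 0) 1 - Pi.single (Groth.Agent.H88.ChainCtr.fN f m) 1) := by
    rw [hz₂, Matrix.mulVec_sub, Matrix.mulVec_smul, hz, hζ2]
  have hpush : DualGr.pushV ends (univ.image e) ((LabGraph.mfMatrix ends β).mulVec z₂) = x := by
    rw [hαz₂, map_sub, map_smul, Groth.Agent.H88.ChainCtr.pushV_liftAt ends f e hC,
      Groth.Agent.H88.ChainCtr.pushV_single_sub ends f e hC, smul_zero, sub_zero]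
  exact congrFun hpush c

end Groth.Agent.S14802
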