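import Groth.Statements.S14809
import Groth.Agent.H18.SectionIntegral

open Groth.Agent.H18 Groth.Agent.H18.SectionIntegral Groth.Agent.H18.TensorGen Groth.Agent.H18.TensorPowIso

set_option autoImplicit false
universe u
open CategoryTheory CategoryTheory.Limits AlgebraicGeometry
open PicF

namespace Groth.Agent.S14809

/-- Let X be an integral scheme such that Γ(X, O_X) is a field and L an invertible O_X-module with a
nonzero global section (a nonzero morphism O_X → L). If some tensor power L^{⊗d} with d ≥ 1 is
isomorphic to O_X, then L itself is isomorphic to O_X. -/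
theorem result (X : Scheme.{u}) [IsIntegral X]
    (hfield : IsField (Γ(X, ⊤) : Type u)) (L : X.Modules) (hL : PicF.IsInvertible L)
    (s : Coh.structureModule X ⟶ L) (hs : s ≠ 0) (d : ℕ) (hd : 0 < d)
    (htriv : Nonempty (CohB1.tensorPow L d ≅ Coh.structureModule X)) :
    Nonempty (L ≅ Coh.structureModule X) := by
  obtain ⟨e⟩ := htriv
  obtain ⟨k, rfl⟩ := Nat.exists_eq_succ_of_ne_zero hd.ne'
  have hp : SecTwist.powHom s (k + 1) ≠ 0 := powHom_ne_zero hL s hs (k + 1)
  have ht : SecTwist.powHom s (k + 1) ≫ e.hom ≠ 0 := by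
    intro h0
    apply hp
    rw [← cancel_mono e.hom, h0, Limits.zero_comp]
  have h1 := genLocus_eq_top_of_ne_zero hfield _ ht
  rw [TwistAmple.genLocus_comp_iso, genLocus_powHom_succ hL s k] at h1
  have h2 := isIso_of_genLocus_eq_top s h1
  exact ⟨(asIso s).symm⟩

end Groth.Agent.S14809
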