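import Groth.Statements.S1481
import Groth.Agent.H38.FibreDimDense
import Groth.Agent.H54.GenericComp

set_option autoImplicit false
universe u
open FlatMor

namespace Groth.Agent.S1481

/-- In a quasi-sober space every point has a generization which is the generic point of an
irreducible component. -/
theorem exists_generic_of_quasiSober {T : Type*} [TopologicalSpace T] [QuasiSober T] (p : T) :
    ∃ C ∈ irreducibleComponents T, ∃ p' : T, IsGenericPoint p' C ∧ p' ⤳ p := by
  obtain ⟨p', hp'⟩ := QuasiSober.sober (isIrreducible_irreducibleComponent (x := p))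
    isClosed_irreducibleComponent
  refine ⟨irreducibleComponent p, irreducibleComponent_mem_irreducibleComponents p, p', hp', ?_⟩
  rw [specializes_iff_mem_closure, hp'.def]
  exact mem_irreducibleComponent

/-- The trace of a closed set on the range of an embedding from a quasi-sober space is
quasi-sober. -/
theorem quasiSober_inter_range {Z W : Type*} [TopologicalSpace Z] [TopologicalSpace W]
    [QuasiSober Z] (ι : Z → W) (hι : Topology.IsEmbedding ι) (A B : Set W) (hA : IsClosed A)
    (hB : Set.range ι = B) : QuasiSober ↥(A ∩ B) := by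
  subst hB
  have hcl : IsClosed (ι ⁻¹' A) := hA.preimage hι.continuous
  have : QuasiSober ↥(ι ⁻¹' A) := hcl.isClosedEmbedding_subtypeVal.quasiSober
  let φ : ↥(ι ⁻¹' A) → ↥(A ∩ Set.range ι) := fun z => ⟨ι z.1, z.2, ⟨z.1, rfl⟩⟩
  have hφc : Continuous φ := (hι.continuous.comp continuous_subtype_val).subtype_mk _
  have hφe : Topology.IsEmbedding φ := by
    refine Topology.IsEmbedding.of_comp hφc continuous_subtype_val ?_
    exact hι.comp Topology.IsEmbedding.subtypeVal
  have hφs : Function.Surjective φ := by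
    rintro ⟨w, hwA, z, rfl⟩
    exact ⟨⟨z, hwA⟩, rfl⟩
  exact (hφe.toHomeomorphOfSurjective hφs).symm.isClosedEmbedding.quasiSober

open AlgebraicGeometry CategoryTheory Limits in
/-- Let f : X → S, y a point of X with image t, Y the closure of y, s a point of S and x a point of Y
over s which is generic in an irreducible component of the fibre of Y over s (fibres as subspaces).
Then there are a valuation ring R and a morphism g : Spec R → S sending the generic point to t and
the closed point to s, such that, writing X' for the base change with projections g' : X' → X and f'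
: X' → Spec R, there is a point y' of X' over the generic point with g' y' = y which is generic in
an irreducible component of the generic fibre of g'⁻¹(Y), and a point x' in the closure of y' over
the closed point with g' x' = x which is generic in an irreducible component of the special fibre of
the closure of y'. -/
theorem result {X S : Scheme.{u}} (f : X ⟶ S) (y : X) (s : S) (x : X)
    (hx : x ∈ closure ({y} : Set ↑X)) (hxs : f x = s)
    (hgen : ∃ C ∈ irreducibleComponents ↑(closure ({y} : Set ↑X) ∩ f ⁻¹' {s}), IsGenericPoint (⟨x, hx, hxs⟩ : ↑(closure ({y} : Set ↑X) ∩ f ⁻¹' {s})) C) :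
    ∃ (R : Type u) (_ : CommRing R) (_ : IsDomain R) (_ : ValuationRing R) (g : Spec (CommRingCat.of R) ⟶ S),
      g (⊥ : PrimeSpectrum R) = f y ∧ g (IsLocalRing.closedPoint R) = s ∧
      ∃ (y' : ↑(pullback f g)) (hy't : pullback.snd f g y' = (⊥ : PrimeSpectrum R)) (hy'Y : pullback.fst f g y' ∈ closure ({y} : Set ↑X)),
        pullback.fst f g y' = y ∧
        (∃ C ∈ irreducibleComponents ↑((pullback.fst f g) ⁻¹' closure ({y} : Set ↑X) ∩ (pullback.snd f g) ⁻¹' {(⊥ : PrimeSpectrum R)}),
          IsGenericPoint (⟨y', hy'Y, hy't⟩ : ↑((pullback.fst f g) ⁻¹' closure ({y} : Set ↑X) ∩ (pullback.snd f g) ⁻¹' {(⊥ : PrimeSpectrum R)})) C) ∧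
        ∃ (x' : ↑(pullback f g)) (hx' : x' ∈ closure ({y'} : Set ↑(pullback f g))) (hx's : pullback.snd f g x' = IsLocalRing.closedPoint R),
          pullback.fst f g x' = x ∧
          ∃ C ∈ irreducibleComponents ↑(closure ({y'} : Set ↑(pullback f g)) ∩ (pullback.snd f g) ⁻¹' {IsLocalRing.closedPoint R}),
            IsGenericPoint (⟨x', hx', hx's⟩ : ↑(closure ({y'} : Set ↑(pullback f g)) ∩ (pullback.snd f g) ⁻¹' {IsLocalRing.closedPoint R})) C := by
  classical
  have hyx : y ⤳ x := specializes_iff_mem_closure.mpr hx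
  obtain ⟨R, iR, iD, iV, h, c, hc, hhc, hhη⟩ :=
    Groth.Agent.H38.FibreDimDense.exists_valuationRing_through hyx
  subst hc
  rw [genericPoint_eq_bot_of_affine] at hhη
  refine ⟨R, iR, iD, iV, h ≫ f, ?_, ?_, ?_⟩
  · rw [Scheme.Hom.comp_apply]
    exact congrArg f hhη
  · rw [Scheme.Hom.comp_apply]
    exact (congrArg f hhc).trans hxs
  -- the base change and its canonical section
  obtain ⟨g, hg⟩ : ∃ g : Spec (CommRingCat.of R) ⟶ S, g = h ≫ f := ⟨_, rfl⟩
  rw [← hg]
  obtain ⟨σ, hσ1, hσ2⟩ : ∃ σ : Spec (CommRingCat.of R) ⟶ pullback f g,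
      σ ≫ pullback.fst f g = h ∧ σ ≫ pullback.snd f g = 𝟙 _ :=
    ⟨pullback.lift h (𝟙 _) (by rw [hg, Category.id_comp]), pullback.lift_fst _ _ _,
      pullback.lift_snd _ _ _⟩
  have hfstσ : ∀ r : Spec (CommRingCat.of R), pullback.fst f g (σ r) = h r := fun r => by
    rw [← Scheme.Hom.comp_apply, hσ1]
  have hsndσ : ∀ r : Spec (CommRingCat.of R), pullback.snd f g (σ r) = r := fun r => by
    rw [← Scheme.Hom.comp_apply, hσ2]; rfl
  have hcond : ∀ z : ↥(pullback f g), f (pullback.fst f g z) = g (pullback.snd f g z) := fun z => by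
    rw [← Scheme.Hom.comp_apply, ← Scheme.Hom.comp_apply, pullback.condition]
  have hbc : ((⊥ : PrimeSpectrum R) : ↥(Spec (CommRingCat.of R))) ⤳ IsLocalRing.closedPoint R :=
    (PrimeSpectrum.le_iff_specializes _ _).mp bot_le
  -- quasi-sobriety of the generic fibre of the preimage of `closure {y}`
  have hQS1 : QuasiSober ↥((pullback.fst f g) ⁻¹' closure ({y} : Set ↑X) ∩
      (pullback.snd f g) ⁻¹' {(⊥ : PrimeSpectrum R)}) :=
    quasiSober_inter_range ((pullback.snd f g).fiberι (⊥ : PrimeSpectrum R))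
      ((pullback.snd f g).fiberι (⊥ : PrimeSpectrum R)).isEmbedding _ _
      (isClosed_closure.preimage (pullback.fst f g).continuous)
      ((pullback.snd f g).range_fiberι _)
  -- the point `y''`
  have hy''Y : pullback.fst f g (σ (⊥ : PrimeSpectrum R)) ∈ closure ({y} : Set ↑X) := by
    rw [hfstσ, hhη]; exact subset_closure rfl
  obtain ⟨C₁, hC₁, ⟨y', hy'Y, hy't⟩, hgen₁, hspec₁⟩ := exists_generic_of_quasiSober
    (⟨σ (⊥ : PrimeSpectrum R), hy''Y, hsndσ _⟩ :
      ↥((pullback.fst f g) ⁻¹' closure ({y} : Set ↑X) ∩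
        (pullback.snd f g) ⁻¹' {(⊥ : PrimeSpectrum R)}))
  have hy'y'' : y' ⤳ σ (⊥ : PrimeSpectrum R) := (subtype_specializes_iff _ _).mp hspec₁
  have hfy' : pullback.fst f g y' = y := by
    have h1 : pullback.fst f g y' ⤳ y := by
      have := hy'y''.map (pullback.fst f g).continuous
      rwa [hfstσ, hhη] at this
    have h2 : y ⤳ pullback.fst f g y' := specializes_iff_mem_closure.mpr hy'Y
    exact (h1.antisymm h2).eq
  refine ⟨y', hy't, hy'Y, hfy', ⟨C₁, hC₁, hgen₁⟩, ?_⟩
  -- the special fibre
  have hclosed2 : IsClosed (closure ({y'} : Set ↑(pullback f g)) ∩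
      (pullback.snd f g) ⁻¹' {IsLocalRing.closedPoint R}) :=
    isClosed_closure.inter ((IsLocalRing.isClosed_singleton_closedPoint R).preimage
      (pullback.snd f g).continuous)
  have hQS2 : QuasiSober ↥(closure ({y'} : Set ↑(pullback f g)) ∩
      (pullback.snd f g) ⁻¹' {IsLocalRing.closedPoint R}) :=
    hclosed2.isClosedEmbedding_subtypeVal.quasiSober
  have hx''cl : σ (IsLocalRing.closedPoint R) ∈ closure ({y'} : Set ↑(pullback f g)) :=
    specializes_iff_mem_closure.mp (hy'y''.trans (hbc.map σ.continuous))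
  obtain ⟨C₂, hC₂, ⟨x', hx', hx's⟩, hgen₂, hspec₂⟩ := exists_generic_of_quasiSober
    (⟨σ (IsLocalRing.closedPoint R), hx''cl, hsndσ _⟩ :
      ↥(closure ({y'} : Set ↑(pullback f g)) ∩
        (pullback.snd f g) ⁻¹' {IsLocalRing.closedPoint R}))
  have hx'x'' : x' ⤳ σ (IsLocalRing.closedPoint R) := (subtype_specializes_iff _ _).mp hspec₂
  refine ⟨x', hx', hx's, ?_, ⟨C₂, hC₂, hgen₂⟩⟩
  -- `fst x'` is a generization of `x` inside `closure {y} ∩ f ⁻¹' {s}`
  have h1 : pullback.fst f g x' ⤳ x := by
    have := hx'x''.map (pullback.fst f g).continuous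
    rwa [hfstσ, hhc] at this
  have h2 : pullback.fst f g x' ∈ closure ({y} : Set ↑X) := by
    have : y' ⤳ x' := specializes_iff_mem_closure.mpr hx'
    have := this.map (pullback.fst f g).continuous
    rw [hfy'] at this
    exact specializes_iff_mem_closure.mp this
  have h3 : f (pullback.fst f g x') = s := by
    have hx's' : pullback.snd f g x' = IsLocalRing.closedPoint R := hx's
    rw [hcond, hx's', hg, Scheme.Hom.comp_apply, hhc, hxs]
  obtain ⟨C, hC, hxC⟩ := hgen
  have hcomp : closure ({(⟨x, hx, hxs⟩ : ↑(closure ({y} : Set ↑X) ∩ f ⁻¹' {s}))} : Set _) ∈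
      irreducibleComponents ↑(closure ({y} : Set ↑X) ∩ f ⁻¹' {s}) := by
    rw [hxC.def]; exact hC
  have h4 : (⟨pullback.fst f g x', h2, h3⟩ : ↑(closure ({y} : Set ↑X) ∩ f ⁻¹' {s})) ⤳
      ⟨x, hx, hxs⟩ := (subtype_specializes_iff _ _).mpr h1
  have h5 := Groth.Agent.H54.eq_of_specializes_of_closure_mem_irreducibleComponents hcomp h4
  exact congrArg Subtype.val h5

end Groth.Agent.S1481
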