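import Groth.Statements.S14821
import Groth.Agent.H73.PushforwardIso
import Groth.Agent.H73.GlueGerm

set_option autoImplicit false
universe u
open CategoryTheory CategoryTheory.Limits AlgebraicGeometry
open CohIII

namespace Groth.Agent.S14821

/-- Let k be a field and f : X → Y a surjective k-morphism between integral proper k-schemes which are
both normal (all local rings integrally closed domains). Then f is a fibration, i.e. O_Y → f_*O_X is
an isomorphism (Γ(U, O_Y) → Γ(f⁻¹U, O_X) is bijective for every open U ⊆ Y), exactly when K(Y) is
algebraically closed inside K(X): every element of the function field of X which is integral over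
the function field of Y, embedded through the stalk map of f at the generic points, lies in the
image of K(Y). (The published statement assumes only Y normal; without normality of X the forward
implication fails — for a quadratic field extension k ⊂ k', the projective line over k' with one
k'-rational point pinched to a k-rational point, mapped to Spec k, has ring of global functions k
although k is not algebraically closed in its function field k'(t) — and the published proof
resolves the indeterminacy of a rational map on the generic fibre by a graph whose projection is a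
fibration, which needs X normal; so this row assumes X normal as well. The reverse implication holds
without it.) -/
theorem result (k : Type u) [Field k]
    (X Y : Scheme.{u}) [X.Over (Spec (CommRingCat.of k))] [Y.Over (Spec (CommRingCat.of k))]
    [IsProper (X ↘ Spec (CommRingCat.of k))] [IsProper (Y ↘ Spec (CommRingCat.of k))] [IsIntegral X] [IsIntegral Y]
    (hX : Pi1.IsNormalScheme X) (hY : Pi1.IsNormalScheme Y) (f : X ⟶ Y) [Surjective f] (hf : f ≫ (Y ↘ Spec (CommRingCat.of k)) = X ↘ Spec (CommRingCat.of k))
    (h : f.base (genericPoint ↥X) ⤳ genericPoint ↥Y) :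
    (∀ U : Y.Opens, IsIso (f.app U)) ↔
      ∀ x : ↑X.functionField, (CohIII.stalkToFunctionField f (genericPoint ↥Y) h).IsIntegralElem x → x ∈ (CohIII.stalkToFunctionField f (genericPoint ↥Y) h).range := by
  classical
  have hfp : IsProper f := by
    haveI : IsProper (f ≫ (Y ↘ Spec (CommRingCat.of k))) := by rw [hf]; infer_instance
    exact IsProper.of_comp f (Y ↘ Spec (CommRingCat.of k))
  set φ := CohIII.stalkToFunctionField f (genericPoint ↥Y) h with hφ
  constructor
  · intro hiso x hx
    -- choose an affine open of `Y`
    obtain ⟨_, ⟨V, hV, rfl⟩, hξV, -⟩ := Y.isBasis_affineOpens.exists_subset_of_mem_open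
      (Set.mem_univ (genericPoint Y)) isOpen_univ
    have hξV' : genericPoint X ∈ f ⁻¹ᵁ V := by
      change f (genericPoint X) ∈ V
      rw [Groth.Agent.H73.PushforwardIso.map_genericPoint_eq f h]; exact hξV
    haveI : Nonempty V := ⟨⟨_, hξV⟩⟩
    haveI := functionField_isFractionRing_of_isAffineOpen Y V hV
    letI : Algebra Y.functionField X.functionField := φ.toAlgebra
    letI : Algebra Γ(Y, V) X.functionField :=
      (φ.comp (algebraMap Γ(Y, V) Y.functionField)).toAlgebra
    haveI : IsScalarTower Γ(Y, V) Y.functionField X.functionField :=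
      IsScalarTower.of_algebraMap_eq (fun _ => rfl)
    have hx' : IsIntegral Y.functionField x := hx
    have halg : IsAlgebraic Γ(Y, V) x :=
      (IsFractionRing.isAlgebraic_iff Γ(Y, V) Y.functionField X.functionField).mpr hx'.isAlgebraic
    obtain ⟨y, hy0, hyx⟩ := halg.exists_integral_multiple
    obtain ⟨q, hq, hqx⟩ := hyx
    have hgermV : ∀ a : Γ(Y, V), algebraMap Γ(Y, V) X.functionField a =
        X.presheaf.germ (f ⁻¹ᵁ V) (genericPoint X) hξV' (f.app V a) := fun a =>
      Groth.Agent.H73.PushforwardIso.stalkToFunctionField_germ f h V hξV hξV' a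
    -- `y • x` comes from a section over `f ⁻¹ V`
    obtain ⟨t, ht⟩ := Groth.Agent.H73.GlueGerm.exists_germ_eq_of_forall_affine (f ⁻¹ᵁ V) hξV'
      (y • x) (fun U hle hU => by
        let ψ : Γ(Y, V) →+* Γ(X, (U : X.Opens)) :=
          (X.presheaf.map (homOfLE hle).op).hom.comp (f.app V).hom
        refine Groth.Agent.H54.exists_germ_eq_of_monic (fun z => (hX z).2) U.2 _ rfl hU (y • x)
          (q.map ψ) (hq.map ψ) ?_
        rw [Polynomial.eval₂_map]
        have hcomp : (X.presheaf.germ (U : X.Opens) (genericPoint X) hU).hom.comp ψ =
            algebraMap Γ(Y, V) X.functionField := by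
          ext a
          rw [hgermV a]
          exact TopCat.Presheaf.germ_res_apply X.presheaf (homOfLE hle) (genericPoint X) hU
            (f.app V a)
        rw [hcomp]
        exact hqx)
    haveI := hiso V
    obtain ⟨a, rfl⟩ := (ConcreteCategory.bijective_of_isIso (f.app V)).2 t
    rw [← hgermV a] at ht
    have hy0' : algebraMap Γ(Y, V) Y.functionField y ≠ 0 := by
      intro h0
      exact hy0 (IsFractionRing.injective Γ(Y, V) Y.functionField (by rw [h0, map_zero]))
    refine ⟨algebraMap Γ(Y, V) Y.functionField a / algebraMap Γ(Y, V) Y.functionField y, ?_⟩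
    rw [map_div₀]
    have h1 : φ (algebraMap Γ(Y, V) Y.functionField y) * x =
        φ (algebraMap Γ(Y, V) Y.functionField a) := by
      have := ht
      rw [Algebra.smul_def] at this
      exact this.symm
    have h2 : φ (algebraMap Γ(Y, V) Y.functionField y) ≠ 0 := by
      rw [Ne, map_eq_zero]; exact hy0'
    rw [← h1, mul_div_cancel_left₀ _ h2]
  · intro halg
    have hN : ∀ y : Y, IsIntegrallyClosed (Y.presheaf.stalk y) := fun y => (hY y).2
    have halg' : ∀ x : X.functionField,
        (∃ p : Polynomial Y.functionField, p ≠ 0 ∧ Polynomial.eval₂ φ x p = 0) →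
        x ∈ Set.range φ := by
      rintro x ⟨p, hp0, hpx⟩
      have hlc : p.leadingCoeff ≠ 0 := mt Polynomial.leadingCoeff_eq_zero.mp hp0
      have := halg x ⟨p * Polynomial.C p.leadingCoeff⁻¹,
        Polynomial.monic_mul_leadingCoeff_inv hp0, by
          rw [Polynomial.eval₂_mul, hpx, zero_mul]⟩
      exact this
    refine Groth.Agent.H73.PushforwardIso.isIso_app_of_affine f fun V => ?_
    rw [ConcreteCategory.isIso_iff_bijective]
    by_cases hne : Nonempty (V : Y.Opens)
    · have hηV : genericPoint Y ∈ (V : Y.Opens) := by
        obtain ⟨⟨v, hv⟩⟩ := hne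
        exact ((genericPoint_spec Y).mem_open_set_iff V.1.2).mpr ⟨v, trivial, hv⟩
      exact Groth.Agent.H73.PushforwardIso.app_bijective_of_isAffineOpen hN f h halg' V.2 hηV
    · have hV : (V : Y.Opens) = ⊥ := by
        ext x
        simp only [TopologicalSpace.Opens.coe_bot, Set.mem_empty_iff_false, iff_false]
        exact fun hx => hne ⟨⟨x, hx⟩⟩
      haveI : Subsingleton Γ(X, f ⁻¹ᵁ (V : Y.Opens)) := by
        rw [hV]
        exact inferInstanceAs (Subsingleton Γ(X, ⊥))
      haveI : Subsingleton Γ(Y, (V : Y.Opens)) := by
        rw [hV]
        infer_instance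
      exact ⟨fun a b _ => Subsingleton.elim _ _, fun b => ⟨0, Subsingleton.elim _ _⟩⟩

end Groth.Agent.S14821
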