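import Groth.Statements.S9702
import Groth.Agent.H54.GenericFinite2

set_option autoImplicit false
universe u
open CategoryTheory CategoryTheory.Limits AlgebraicGeometry
open Mor

namespace Groth.Agent.S9702

/-- Let X, Y be integral and f : X ⟶ Y dominant and locally of finite type, with ξ the generic point of
X (so f ξ is the generic point of Y). Then the following are equivalent: the residue field of ξ is
finite over that of f ξ; some nonempty affine opens U ⊆ X and V ⊆ Y with f(U) ⊆ V have U ⟶ V finite;
every point of X that f sends to the generic point of Y equals ξ. Under the extra assumption that f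
is quasi-compact or separated, these are also equivalent to: f⁻¹(V) ⟶ V is finite for some nonempty
affine open V ⊆ Y. (The published statement also lists transcendence degree 0 of the function field
extension, which for this finitely generated extension is equivalent to finiteness; this row omits
it.) -/
theorem result {X Y : Scheme.{u}} [IsIntegral X] [IsIntegral Y] (f : X ⟶ Y)
    [IsDominant f] [LocallyOfFiniteType f] :
    let ξ := genericPoint ↥X
    let A := letI := (f.residueFieldMap ξ).hom.toAlgebra
      Module.Finite (Y.residueField (f.base ξ)) (X.residueField ξ)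
    let B := ∃ (U : X.Opens) (V : Y.Opens) (hUV : U ≤ f ⁻¹ᵁ V), IsAffineOpen U ∧ IsAffineOpen V ∧
      Nonempty ↥U ∧ IsFinite (f.resLE V U hUV)
    let C := ∀ x : X, f.base x = genericPoint ↥Y → x = ξ
    let D := ∃ V : Y.Opens, IsAffineOpen V ∧ Nonempty ↥V ∧ IsFinite (f ∣_ V)
    (A ↔ B) ∧ (A ↔ C) ∧ (IsSeparated f ∨ QuasiCompact f → (A ↔ D)) := by
  intro ξ A B C D
  have hfξ : f.base (genericPoint ↥X) = genericPoint ↥Y := H54.map_genericPoint f
  have hAA' := H54.finite_residueField_iff_isAlgebraic f (genericPoint ↥X)
  have hA'C := H54.isAlgebraic_iff_unique_preimage f (genericPoint ↥X)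
    (fun x => (genericPoint_spec X).specializes trivial)
  have hAB : A ↔ B :=
    ⟨fun a => H54.exists_finite_resLE_of_isAlgebraic f _ rfl hfξ (hAA'.mp a),
      fun ⟨U, V, e, hU, hV, hne, hfin⟩ =>
        hAA'.mpr (H54.isAlgebraic_of_finite_resLE f _ rfl U V e hU hV hne hfin)⟩
  have hAC : A ↔ C :=
    hAA'.trans (hA'C.trans
      ⟨fun h x hx => h x (hx.trans hfξ.symm), fun h x hx => h x (hx.trans hfξ)⟩)
  refine ⟨hAB, hAC, fun hs => ⟨fun a => ?_, fun ⟨V, hV, hne, hfin⟩ =>
    hAB.mpr (H54.exists_resLE_of_restrict f hfξ V hV hne hfin)⟩⟩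
  obtain ⟨U, V, e, hU, hV, hne, hfin⟩ := hAB.mp a
  have hC : ∀ x : X, f.base x = genericPoint ↥Y → x = genericPoint ↥X := hAC.mp a
  rcases hs with hs | hs
  · haveI := hs
    have hξU : genericPoint ↥X ∈ U :=
      ((genericPoint_spec X).mem_open_set_iff U.isOpen).mpr
        ⟨_, trivial, (Classical.arbitrary ↥U).2⟩
    have hηV : genericPoint ↥Y ∈ V := by rw [← hfξ]; exact e hξU
    exact ⟨V, hV, ⟨⟨_, hηV⟩⟩, H54.finite_restrict_of_isSeparated f U V e hne hfin⟩
  · haveI := hs
    exact H54.exists_finite_restrict_of_quasiCompact f hC hfξ U V e hU hV hne hfin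

end Groth.Agent.S9702
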