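import Groth.Statements.S14822
import Groth.Agent.H54.GenericFinite2
import Groth.Agent.H54.ZMT
import Groth.Agent.H54.FibreDimTdeg
import Groth.Agent.S9702

set_option autoImplicit false
universe u
open CategoryTheory CategoryTheory.Limits AlgebraicGeometry
open CohIII

namespace Groth.Agent.S14822


open CategoryTheory CategoryTheory.Limits AlgebraicGeometry TopologicalSpace

/-- The map `O_{Y,y} → K(X)` on germs. -/
theorem iota_germ {X Y : Scheme.{u}} [IsIntegral X] (f : X ⟶ Y) (y : Y)
    (h : f.base (genericPoint X) ⤳ y) (U : Y.Opens) (hyU : y ∈ U) (s : Γ(Y, U)) :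
    CohIII.stalkToFunctionField f y h (Y.presheaf.germ U y hyU s) =
      X.presheaf.germ (f ⁻¹ᵁ U) (genericPoint X) (h.mem_open U.isOpen hyU) (f.app U s) := by
  show (f.stalkMap (genericPoint X)).hom
    ((Y.presheaf.stalkSpecializes h).hom (Y.presheaf.germ U y hyU s)) = _
  have e1 : (Y.presheaf.stalkSpecializes h).hom (Y.presheaf.germ U y hyU s) =
      Y.presheaf.germ U (f.base (genericPoint X)) (h.mem_open U.isOpen hyU) s :=
    TopCat.Presheaf.germ_stalkSpecializes_apply Y.presheaf hyU h s
  rw [e1]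
  exact f.germ_stalkMap_apply U (genericPoint X) (h.mem_open U.isOpen hyU) s

/-- Sections over the preimage of an affine open are integral over the sections of the base, for a
universally closed morphism. -/
theorem isIntegral_app_of_universallyClosed {X Y : Scheme.{u}} (f : X ⟶ Y) [UniversallyClosed f]
    (V : Y.Opens) (hV : IsAffineOpen V) : (f.app V).hom.IsIntegral := by
  haveI : IsAffine V.toScheme := hV
  haveI : UniversallyClosed (f ∣_ V) :=
    IsZariskiLocalAtTarget.restrict (P := @UniversallyClosed) inferInstance V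
  have h1 : (f.resLE V (f ⁻¹ᵁ V) le_rfl).appTop.hom.IsIntegral := by
    rw [Scheme.Hom.resLE_eq_morphismRestrict]
    exact isIntegral_appTop_of_universallyClosed (f ∣_ V)
  have h2 := (RingHom.isIntegral_respectsIso.arrow_mk_iso_iff
    (arrowResLEAppIso f V (f ⁻¹ᵁ V) le_rfl)).mp h1
  rwa [Scheme.Hom.appLE_eq_app] at h2

/-- The transcendence degree of the function field is the dimension. -/
theorem tdeg_genericPoint_eq {k : Type u} [Field k] {X : Scheme.{u}} [IsIntegral X]
    (s : X ⟶ Spec (CommRingCat.of k)) [LocallyOfFiniteType s] :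
    (H54.tdeg s (genericPoint X) : WithBot ℕ∞) = topologicalKrullDim X := by
  apply le_antisymm
  · refine (H54.tdeg_le_topologicalKrullDim s (genericPoint X) ⊤ trivial).trans ?_
    exact Topology.IsInducing.subtypeVal.topologicalKrullDim_le
  · exact H54.topologicalKrullDim_le_of_forall_tdeg_le s _ fun x =>
      H54.tdeg_le_of_specializes s ((genericPoint_spec X).specializes trivial)

/-- Surjectivity of `f.app V` on an affine open. -/
theorem exists_app_eq_affine {X Y : Scheme.{u}} [IsIntegral X] [IsIntegral Y]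
    (hN : ∀ y : Y, IsIntegrallyClosed (Y.presheaf.stalk y)) (f : X ⟶ Y) [UniversallyClosed f]
    (h : f.base (genericPoint X) ⤳ genericPoint Y)
    (hι : Function.Bijective (CohIII.stalkToFunctionField f (genericPoint Y) h))
    (V : Y.Opens) (hV : IsAffineOpen V) (hηV : genericPoint Y ∈ V) (b : Γ(X, f ⁻¹ᵁ V)) :
    ∃ a : Γ(Y, V), f.app V a = b := by
  have hξV : genericPoint X ∈ f ⁻¹ᵁ V := h.mem_open V.isOpen hηV
  obtain ⟨p, hp, hpb⟩ := isIntegral_app_of_universallyClosed f V hV b
  obtain ⟨α, hα⟩ := hι.2 ((X.presheaf.germ (f ⁻¹ᵁ V) (genericPoint X) hξV).hom b)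
  have hcomp : ∀ a : Γ(Y, V), CohIII.stalkToFunctionField f (genericPoint Y) h
      (Y.presheaf.germ V (genericPoint Y) hηV a) =
      X.presheaf.germ (f ⁻¹ᵁ V) (genericPoint X) hξV (f.app V a) :=
    fun a => iota_germ f _ h V hηV a
  have hα' : Polynomial.eval₂ (Y.presheaf.germ V (genericPoint Y) hηV).hom α p = 0 := by
    apply hι.1
    rw [map_zero]
    have e1 := Polynomial.hom_eval₂ p (Y.presheaf.germ V (genericPoint Y) hηV).hom
      (CohIII.stalkToFunctionField f (genericPoint Y) h) α
    have e2 := Polynomial.hom_eval₂ p (f.app V).hom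
      (X.presheaf.germ (f ⁻¹ᵁ V) (genericPoint X) hξV).hom b
    have e3 : (CohIII.stalkToFunctionField f (genericPoint Y) h).comp
        (Y.presheaf.germ V (genericPoint Y) hηV).hom =
        (X.presheaf.germ (f ⁻¹ᵁ V) (genericPoint X) hξV).hom.comp (f.app V).hom :=
      RingHom.ext hcomp
    rw [e1, e3, hα, ← e2, hpb, map_zero]
  obtain ⟨a, ha⟩ := H54.exists_germ_eq_of_monic hN hV (genericPoint Y) rfl hηV α p hp hα'
  refine ⟨a, ?_⟩
  apply germ_injective_of_isIntegral X (genericPoint X) (U := f ⁻¹ᵁ V) hξV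
  rw [← hcomp, ha]
  exact hα

/-- Surjectivity of `f.app U` on any open containing the generic point. -/
theorem exists_app_eq {X Y : Scheme.{u}} [IsIntegral X] [IsIntegral Y]
    (hN : ∀ y : Y, IsIntegrallyClosed (Y.presheaf.stalk y)) (f : X ⟶ Y) [UniversallyClosed f]
    (h : f.base (genericPoint X) ⤳ genericPoint Y)
    (hι : Function.Bijective (CohIII.stalkToFunctionField f (genericPoint Y) h))
    (U : Y.Opens) (hηU : genericPoint Y ∈ U) (b : Γ(X, f ⁻¹ᵁ U)) :
    ∃ a : Γ(Y, U), f.app U a = b := by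
  classical
  have hξU : genericPoint X ∈ f ⁻¹ᵁ U := h.mem_open U.isOpen hηU
  have hcov : ∀ y : U, ∃ V : Y.Opens, IsAffineOpen V ∧ (y : Y) ∈ V ∧ V ≤ U := by
    intro y
    obtain ⟨V, hV, hyV, hVU⟩ :=
      exists_isAffineOpen_mem_and_subset (X := Y) (x := (y : Y)) (U := U) y.2
    exact ⟨V, hV, hyV, hVU⟩
  choose V hV hyV hVU using hcov
  have hηV : ∀ y : U, genericPoint Y ∈ V y := fun y =>
    ((genericPoint_spec Y).mem_open_set_iff (V y).isOpen).mpr ⟨y, trivial, hyV y⟩
  have hξV : ∀ y : U, genericPoint X ∈ f ⁻¹ᵁ (V y) := fun y =>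
    h.mem_open (V y).isOpen (hηV y)
  have hloc : ∀ y : U, ∃ a : Γ(Y, V y), f.app (V y) a =
      X.presheaf.map (homOfLE (f.preimage_mono (hVU y))).op b := fun y =>
    exists_app_eq_affine hN f h hι (V y) (hV y) (hηV y) _
  choose sf hsf using hloc
  have hgerm : ∀ y : U, CohIII.stalkToFunctionField f (genericPoint Y) h
      (Y.presheaf.germ (V y) (genericPoint Y) (hηV y) (sf y)) =
      X.presheaf.germ (f ⁻¹ᵁ U) (genericPoint X) hξU b := by
    intro y
    rw [iota_germ f _ h (V y) (hηV y) (sf y), hsf y]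
    exact TopCat.Presheaf.germ_res_apply X.presheaf (homOfLE (f.preimage_mono (hVU y)))
      (genericPoint X) (hξV y) b
  have hcompat : TopCat.Presheaf.IsCompatible Y.presheaf V sf := by
    intro y y'
    have hmem : genericPoint Y ∈ V y ⊓ V y' := ⟨hηV y, hηV y'⟩
    apply germ_injective_of_isIntegral Y (genericPoint Y) (U := V y ⊓ V y') hmem
    rw [TopCat.Presheaf.germ_res_apply, TopCat.Presheaf.germ_res_apply]
    apply hι.1
    rw [hgerm y, hgerm y']
  obtain ⟨s, hs, -⟩ := TopCat.Sheaf.existsUnique_gluing' Y.sheaf V U (fun y => homOfLE (hVU y))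
    (fun x hx => TopologicalSpace.Opens.mem_iSup.mpr ⟨⟨x, hx⟩, hyV ⟨x, hx⟩⟩) sf hcompat
  refine ⟨s, ?_⟩
  apply germ_injective_of_isIntegral X (genericPoint X) (U := f ⁻¹ᵁ U) hξU
  rw [← iota_germ f _ h U hηU s]
  have y₀ : U := ⟨genericPoint Y, hηU⟩
  rw [← hgerm y₀, ← hs y₀]
  congr 1
  exact (TopCat.Presheaf.germ_res_apply Y.presheaf (homOfLE (hVU y₀)) (genericPoint Y)
    (hηV y₀) s).symm


/-- Let k be a field and f : X → Y a surjective k-morphism between integral proper k-schemes of the same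
dimension, with Y normal (all local rings integrally closed domains). Then f is a fibration (Γ(U,
O_Y) → Γ(f⁻¹U, O_X) bijective for every open U ⊆ Y) if and only if f is birational: the embedding
K(Y) → K(X) of function fields given by the stalk map at the generic points is bijective. -/
theorem result (k : Type u) [Field k]
    (X Y : Scheme.{u}) [X.Over (Spec (CommRingCat.of k))] [Y.Over (Spec (CommRingCat.of k))]
    [IsProper (X ↘ Spec (CommRingCat.of k))] [IsProper (Y ↘ Spec (CommRingCat.of k))] [IsIntegral X] [IsIntegral Y]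
    (hY : Pi1.IsNormalScheme Y) (f : X ⟶ Y) [Surjective f] (hf : f ≫ (Y ↘ Spec (CommRingCat.of k)) = X ↘ Spec (CommRingCat.of k))
    (hdim : topologicalKrullDim ↥X = topologicalKrullDim ↥Y)
    (h : f.base (genericPoint ↥X) ⤳ genericPoint ↥Y) :
    (∀ U : Y.Opens, IsIso (f.app U)) ↔ Function.Bijective (CohIII.stalkToFunctionField f (genericPoint ↥Y) h) := by

  have hfprop : IsProper f := by
    haveI : IsProper (f ≫ (Y ↘ Spec (CommRingCat.of k))) := by rw [hf]; infer_instance
    exact IsProper.of_comp f (Y ↘ Spec (CommRingCat.of k))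
  haveI := hfprop
  have hgen : f.base (genericPoint X) = genericPoint Y := H54.map_genericPoint f
  constructor
  · intro hiso
    haveI : LocallyOfFiniteType f := inferInstance
    have ht : H54.tdeg (X ↘ Spec (CommRingCat.of k)) (genericPoint X) =
        H54.tdeg (Y ↘ Spec (CommRingCat.of k)) (genericPoint Y) := by
      have h1 := tdeg_genericPoint_eq (X ↘ Spec (CommRingCat.of k))
      have h2 := tdeg_genericPoint_eq (Y ↘ Spec (CommRingCat.of k))
      rw [hdim, ← h2] at h1
      exact le_antisymm (by exact_mod_cast h1.le) (by exact_mod_cast h1.ge)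
    have hadd := H54.tdeg_fibre_add (X ↘ Spec (CommRingCat.of k)) (Y ↘ Spec (CommRingCat.of k))
      f hf (f.base (genericPoint X)) (f.asFiber (genericPoint X))
    rw [f.fiberι_asFiber (genericPoint X)] at hadd
    have h3 : H54.tdeg (Y ↘ Spec (CommRingCat.of k)) (f.base (genericPoint X)) =
        H54.tdeg (Y ↘ Spec (CommRingCat.of k)) (genericPoint Y) := by rw [hgen]
    have hz : H54.tdeg (H54.fiberQ f (f.base (genericPoint X))) (f.asFiber (genericPoint X)) = 0 := by
      omega
    have halg := (H54.isAlgebraic_iff_tdeg_eq_zero f (f.base (genericPoint X))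
      (f.asFiber (genericPoint X)) (genericPoint X) (f.fiberι_asFiber (genericPoint X))).mpr hz
    have hfinres := (H54.finite_residueField_iff_isAlgebraic f (genericPoint X)).mpr halg
    obtain ⟨-, -, h4⟩ := S9702.result f
    obtain ⟨V, hV, hne, hfin⟩ := (h4 (Or.inr inferInstance)).mp hfinres
    haveI := hfin
    haveI : IsAffine V.toScheme := hV
    haveI : IsAffine (f ⁻¹ᵁ V).toScheme := isAffine_of_isAffineHom (f ∣_ V)
    have hU' : IsAffineOpen (f ⁻¹ᵁ V) := ‹IsAffine (f ⁻¹ᵁ V).toScheme›
    have hηV : genericPoint Y ∈ V := by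
      obtain ⟨⟨v, hv⟩⟩ := hne
      exact ((genericPoint_spec Y).mem_open_set_iff V.isOpen).mpr ⟨v, trivial, hv⟩
    have hξV : genericPoint X ∈ f ⁻¹ᵁ V := h.mem_open V.isOpen hηV
    have hbij : Function.Bijective (f.app V) :=
      (ConcreteCategory.isIso_iff_bijective _).mp (hiso V)
    haveI : Nonempty (f ⁻¹ᵁ V).toScheme := ⟨⟨_, hξV⟩⟩
    haveI : Nonempty ↥(f ⁻¹ᵁ V) := ⟨⟨_, hξV⟩⟩
    haveI hfr := functionField_isFractionRing_of_isAffineOpen X (f ⁻¹ᵁ V) hU'
    refine ⟨RingHom.injective _, fun β => ?_⟩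
    obtain ⟨x, y, -, rfl⟩ := IsFractionRing.div_surjective Γ(X, f ⁻¹ᵁ V) (K := X.functionField) β
    obtain ⟨a, rfl⟩ := hbij.2 x
    obtain ⟨c, rfl⟩ := hbij.2 y
    refine ⟨(Y.presheaf.germ V (genericPoint Y) hηV a : Y.functionField) /
      (Y.presheaf.germ V (genericPoint Y) hηV c : Y.functionField), ?_⟩
    rw [map_div₀]
    congr 1
    · exact iota_germ f _ h V hηV a
    · exact iota_germ f _ h V hηV c
  · intro hι U
    by_cases hηU : genericPoint Y ∈ U
    · have hξU : genericPoint X ∈ f ⁻¹ᵁ U := h.mem_open U.isOpen hηU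
      have hcomp : ∀ a : Γ(Y, U), CohIII.stalkToFunctionField f (genericPoint Y) h
          (Y.presheaf.germ U (genericPoint Y) hηU a) =
          X.presheaf.germ (f ⁻¹ᵁ U) (genericPoint X) hξU (f.app U a) :=
        fun a => iota_germ f _ h U hηU a
      rw [ConcreteCategory.isIso_iff_bijective]
      refine ⟨fun a a' haa' => ?_, fun b => ?_⟩
      · apply germ_injective_of_isIntegral Y (genericPoint Y) (U := U) hηU
        apply hι.1
        rw [hcomp, hcomp]
        exact congrArg _ haa'
      · exact exists_app_eq (fun y => (hY y).2) f h hι U hηU b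
    · have hU : U = ⊥ := by
        ext x
        simp only [TopologicalSpace.Opens.coe_bot, Set.mem_empty_iff_false, iff_false]
        intro hx
        exact hηU (((genericPoint_spec Y).mem_open_set_iff U.isOpen).mpr ⟨x, trivial, hx⟩)
      subst hU
      haveI : Subsingleton Γ(X, f ⁻¹ᵁ (⊥ : Y.Opens)) :=
        inferInstanceAs (Subsingleton Γ(X, ⊥))
      haveI : Subsingleton Γ(Y, (⊥ : Y.Opens)) := inferInstance
      rw [ConcreteCategory.isIso_iff_bijective]
      exact ⟨fun a b _ => Subsingleton.elim _ _, fun b => ⟨0, Subsingleton.elim _ _⟩⟩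

end Groth.Agent.S14822
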