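import Groth.Statements.S14825
import Groth.Agent.H74.H0Top
import Mathlib

set_option autoImplicit false
universe u
open CategoryTheory MonoidalCategory CartesianMonoidalCategory MonObj GrpObj AlgebraicGeometry
open AbVar

namespace Groth.Agent.S14825

lemma comp_toUnit {C : Type*} [Category C] [CartesianMonoidalCategory C] {Y Z : C} (f : Y ⟶ Z) :
    f ≫ toUnit Z = toUnit Y := toUnit_unique _ _

theorem result (k : Type u) [Field k] (X : Scheme.{u}) [X.Over (Spec (CommRingCat.of k))]
    [IsProper (X ↘ Spec (CommRingCat.of k))] (h0 : Module.finrank k (Coh.HH X (Coh.structureModule X) 0) = 1)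
    (x₀ : 𝟙_ (Over (Spec (CommRingCat.of k))) ⟶ Over.mk (X ↘ Spec (CommRingCat.of k)))
    (A : Over (Spec (CommRingCat.of k))) [GrpObj A] [IsProper A.hom] [GeometricallyIntegral A.hom]
    (alb : Over.mk (X ↘ Spec (CommRingCat.of k)) ⟶ A) (halb : x₀ ≫ alb = η[A])
    (huniv : ∀ (B : Over (Spec (CommRingCat.of k))) [GrpObj B] [IsProper B.hom] [GeometricallyReduced B.hom] [ConnectedSpace ↥B.left]
      (g : Over.mk (X ↘ Spec (CommRingCat.of k)) ⟶ B), x₀ ≫ g = η[B] → ∃! h : A ⟶ B, IsMonHom h ∧ alb ≫ h = g) :
    (Set.range alb.left.base).Subsingleton ↔ IsIso A.hom := by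
  have hsub : Subsingleton ↥(Spec (CommRingCat.of k)) :=
    inferInstanceAs (Subsingleton (PrimeSpectrum k))
  have hne : Nonempty ↥(Spec (CommRingCat.of k)) :=
    inferInstanceAs (Nonempty (PrimeSpectrum k))
  constructor
  · intro hs
    have hσ : x₀.left ≫ (X ↘ Spec (CommRingCat.of k)) = 𝟙 _ := by
      have := Over.w x₀
      simpa using this
    let pt : ↥(Spec (CommRingCat.of k)) := Classical.choice hne
    obtain ⟨U, hU, heU⟩ : ∃ U : A.left.Opens, IsAffineOpen U ∧
        alb.left.base (x₀.left.base pt) ∈ U := by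
      obtain ⟨_, ⟨V, hV, rfl⟩, hxV, -⟩ := A.left.isBasis_affineOpens.exists_subset_of_mem_open
        (Set.mem_univ (alb.left.base (x₀.left.base pt))) isOpen_univ
      exact ⟨V, hV, hxV⟩
    have hrange : Set.range alb.left.base ⊆ U := by
      rintro _ ⟨y, rfl⟩
      have : alb.left.base y = alb.left.base (x₀.left.base pt) := hs ⟨y, rfl⟩ ⟨_, rfl⟩
      rw [this]
      exact heU
    have key := Groth.Agent.H74.H0Top.eq_of_range_subset_affine (X ↘ Spec (CommRingCat.of k))
      x₀.left hσ (Groth.Agent.H74.H0Top.appTop_surjective X k h0) alb.left U hU hrange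
    have h3 : x₀.left ≫ alb.left = η[A].left := by rw [← Over.comp_left, halb]
    have halb' : alb = toUnit (Over.mk (X ↘ Spec (CommRingCat.of k))) ≫ η[A] := by
      apply Over.OverMorphism.ext
      calc alb.left = (X ↘ Spec (CommRingCat.of k)) ≫ x₀.left ≫ alb.left := key
        _ = (X ↘ Spec (CommRingCat.of k)) ≫ η[A].left := by rw [h3]
        _ = (toUnit (Over.mk (X ↘ Spec (CommRingCat.of k))) ≫ η[A]).left := by
          rw [Over.comp_left, Over.toUnit_left]; rfl
    have : IrreducibleSpace ↥A.left :=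
      GeometricallyIrreducible.irreducibleSpace_of_subsingleton (f := A.hom)
    obtain ⟨h, -, huniq⟩ := huniv A alb halb
    have h1 : 𝟙 A = h := huniq _ ⟨inferInstance, Category.comp_id _⟩
    have h2 : toUnit A ≫ η[A] = h := huniq _ ⟨inferInstance, by
      rw [← Category.assoc, comp_toUnit, ← halb']⟩
    have h4 : 𝟙 A = toUnit A ≫ η[A] := h1.trans h2.symm
    refine ⟨η[A].left, ?_, ?_⟩
    · have := congrArg (fun f => f.left) h4
      simp at this
      exact this.symm
    · exact Over.w η[A]
  · intro hiso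
    have hinj : Function.Injective A.hom.base := by
      have : IsIso A.hom.base := inferInstance
      exact ((TopCat.homeoOfIso (asIso A.hom.base)).injective)
    intro a _ b _
    exact hinj (Subsingleton.elim _ _)

end Groth.Agent.S14825
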