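import Groth.Statements.S14826
import Groth.Agent.H74.AbRig
import Mathlib

set_option autoImplicit false
universe u
open CategoryTheory MonoidalCategory CartesianMonoidalCategory MonObj GrpObj AlgebraicGeometry
open AbVar

namespace Groth.Agent.S14826

section general

variable {C : Type*} [Category C] [CartesianMonoidalCategory C]

lemma pt_toUnit {Y : C} (p : 𝟙_ C ⟶ Y) : p ≫ toUnit Y = 𝟙 (𝟙_ C) := toUnit_unique _ _

lemma comp_toUnit {Y Z : C} (f : Y ⟶ Z) : f ≫ toUnit Z = toUnit Y := toUnit_unique _ _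

lemma eta_eq_one' (B : C) [GrpObj B] : η[B] = (1 : 𝟙_ C ⟶ B) := by
  rw [Hom.one_def, toUnit_unique (toUnit (𝟙_ C)) (𝟙 _), Category.id_comp]

lemma general {Y A A' : C} [GrpObj A] [GrpObj A'] (x₀ : 𝟙_ C ⟶ Y) (alb : Y ⟶ A)
    (halb : x₀ ≫ alb = η[A]) (φ : Y ⟶ A')
    (rig : ∀ g' : A ⟶ A', η[A] ≫ g' = η[A'] → IsMonHom g')
    (hu : ∃! h : A ⟶ A', IsMonHom h ∧ alb ≫ h = φ * (toUnit Y ≫ x₀ ≫ φ)⁻¹) :
    ∃ h : A ⟶ A', IsMonHom h ∧ (alb ≫ h) * (toUnit Y ≫ x₀ ≫ φ) = φ ∧
      ∀ g : A ⟶ A', alb ≫ g = φ → g = h * (toUnit A ≫ x₀ ≫ φ) := by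
  obtain ⟨h, ⟨hh, hh2⟩, huniq⟩ := hu
  refine ⟨h, hh, ?_, ?_⟩
  · rw [hh2, inv_mul_cancel_right]
  · intro g hg
    have e1 : η[A] ≫ g = x₀ ≫ φ := by rw [← halb, Category.assoc, hg]
    have e2 : η[A] ≫ (g * (toUnit A ≫ x₀ ≫ φ)⁻¹) = η[A'] := by
      rw [MonObj.comp_mul, GrpObj.comp_inv, ← Category.assoc η[A], pt_toUnit, Category.id_comp,
        e1, mul_inv_cancel, eta_eq_one']
    have e3 : alb ≫ (g * (toUnit A ≫ x₀ ≫ φ)⁻¹) = φ * (toUnit Y ≫ x₀ ≫ φ)⁻¹ := by
      rw [MonObj.comp_mul, GrpObj.comp_inv, hg, ← Category.assoc alb, comp_toUnit]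
    have e4 := huniq _ ⟨rig _ e2, e3⟩
    rw [← e4, inv_mul_cancel_right]

end general

/-- Over a field k (the published statement is over a base scheme S), let X be a proper k-scheme with
H^0(X, O_X) one-dimensional and a k-rational point x₀, and alb : X → A the Albanese morphism (A an
abelian variety — proper, geometrically integral group scheme — with alb(x₀) = 0, universal among
pointed morphisms from X to geometrically reduced, connected, proper group schemes). Let φ : X → A'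
be an arbitrary k-morphism to such an abelian variety A', not necessarily pointed. Then φ factors
through alb by exactly one k-morphism A → A', and that morphism is a homomorphism h followed by the
translation of A' by the k-point φ(x₀): there is a homomorphism h : A → A' with φ = (alb ≫ h) ·
(constant map with value φ(x₀)) in the group of morphisms into A', and every k-morphism g : A → A'
with alb ≫ g = φ equals h · (constant map A → A' with value φ(x₀)). -/
theorem result (k : Type u) [Field k] (X : Scheme.{u}) [X.Over (Spec (CommRingCat.of k))]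
    [IsProper (X ↘ Spec (CommRingCat.of k))] (h0 : Module.finrank k (Coh.HH X (Coh.structureModule X) 0) = 1)
    (x₀ : 𝟙_ (Over (Spec (CommRingCat.of k))) ⟶ Over.mk (X ↘ Spec (CommRingCat.of k)))
    (A : Over (Spec (CommRingCat.of k))) [GrpObj A] [IsProper A.hom] [GeometricallyIntegral A.hom]
    (alb : Over.mk (X ↘ Spec (CommRingCat.of k)) ⟶ A) (halb : x₀ ≫ alb = η[A])
    (huniv : ∀ (B : Over (Spec (CommRingCat.of k))) [GrpObj B] [IsProper B.hom] [GeometricallyReduced B.hom] [ConnectedSpace ↥B.left]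
      (g : Over.mk (X ↘ Spec (CommRingCat.of k)) ⟶ B), x₀ ≫ g = η[B] → ∃! h : A ⟶ B, IsMonHom h ∧ alb ≫ h = g)
    (A' : Over (Spec (CommRingCat.of k))) [GrpObj A'] [IsProper A'.hom] [GeometricallyReduced A'.hom] [ConnectedSpace ↥A'.left]
    (φ : Over.mk (X ↘ Spec (CommRingCat.of k)) ⟶ A') :
    ∃ h : A ⟶ A', IsMonHom h ∧ (alb ≫ h) * (toUnit (Over.mk (X ↘ Spec (CommRingCat.of k))) ≫ x₀ ≫ φ) = φ ∧
      ∀ g : A ⟶ A', alb ≫ g = φ → g = h * (toUnit A ≫ x₀ ≫ φ) := by
  refine general x₀ alb halb φ (fun g' hg' => Groth.Agent.H74.AbRig.isMonHom_of_eta' k A A' g' hg')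
    (huniv A' _ ?_)
  rw [MonObj.comp_mul, GrpObj.comp_inv, ← Category.assoc x₀, pt_toUnit, Category.id_comp,
    mul_inv_cancel, eta_eq_one']

end Groth.Agent.S14826
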