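import Groth.Statements.S14827
import Mathlib

set_option autoImplicit false
universe u
open CategoryTheory MonoidalCategory CartesianMonoidalCategory MonObj GrpObj AlgebraicGeometry
open AbVar

namespace Groth.Agent.S14827

section general

variable {C : Type*} [Category C] [CartesianMonoidalCategory C]

lemma pt_toUnit {Y : C} (p : 𝟙_ C ⟶ Y) : p ≫ toUnit Y = 𝟙 (𝟙_ C) := toUnit_unique _ _

lemma pt_const {Y B : C} [GrpObj B] (p q : 𝟙_ C ⟶ Y) (g : Y ⟶ B) :
    p ≫ toUnit Y ≫ q ≫ g = q ≫ g := by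
  rw [← Category.assoc, pt_toUnit, Category.id_comp]

lemma eta_eq_one' (B : C) [GrpObj B] : η[B] = (1 : 𝟙_ C ⟶ B) := by
  rw [Hom.one_def, toUnit_unique (toUnit (𝟙_ C)) (𝟙 _), Category.id_comp]

lemma part1 {Y A : C} [GrpObj A] (x₁ : 𝟙_ C ⟶ Y) (alb : Y ⟶ A) :
    x₁ ≫ (alb * (toUnit Y ≫ x₁ ≫ alb)⁻¹) = η[A] := by
  rw [MonObj.comp_mul, GrpObj.comp_inv, pt_const, mul_inv_cancel, eta_eq_one']

lemma part2 {Y A B : C} [GrpObj A] [GrpObj B] (x₀ x₁ : 𝟙_ C ⟶ Y) (alb : Y ⟶ A)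
    (halb : x₀ ≫ alb = η[A]) (g : Y ⟶ B) (hg : x₁ ≫ g = η[B])
    (hu : ∃! h : A ⟶ B, IsMonHom h ∧ alb ≫ h = g * (toUnit Y ≫ x₀ ≫ g)⁻¹) :
    ∃! h : A ⟶ B, IsMonHom h ∧ (alb * (toUnit Y ≫ x₁ ≫ alb)⁻¹) ≫ h = g := by
  obtain ⟨h, ⟨hh, hh2⟩, huniq⟩ := hu
  refine ⟨h, ⟨hh, ?_⟩, ?_⟩
  · rw [MonObj.mul_comp, GrpObj.inv_comp, Category.assoc, Category.assoc, hh2]
    have : x₁ ≫ (g * (toUnit Y ≫ x₀ ≫ g)⁻¹) = (x₀ ≫ g)⁻¹ := by
      rw [MonObj.comp_mul, GrpObj.comp_inv, pt_const, hg, eta_eq_one', _root_.one_mul]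
    rw [this, GrpObj.comp_inv, _root_.inv_inv, inv_mul_cancel_right]
  · rintro h' ⟨hh', hh'2⟩
    apply huniq
    refine ⟨hh', ?_⟩
    have e1 : alb ≫ h' = g * (toUnit Y ≫ x₁ ≫ alb ≫ h') := by
      rw [← hh'2, MonObj.mul_comp, GrpObj.inv_comp, Category.assoc, Category.assoc,
        inv_mul_cancel_right]
    have e2 : x₁ ≫ alb ≫ h' = (x₀ ≫ g)⁻¹ := by
      have := congrArg (fun f => x₀ ≫ f) e1
      beta_reduce at this
      rw [← Category.assoc, halb, MonObj.comp_mul, pt_const, eta_eq_one', MonObj.one_comp] at this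
      exact (eq_inv_of_mul_eq_one_right this.symm)
    rw [e1, e2, GrpObj.comp_inv]

end general

/-- Over a field k (the published statement is over a base scheme S), let X be a proper k-scheme with
H^0(X, O_X) one-dimensional and a k-rational point x₀, and alb : X → A the Albanese morphism for the
base point x₀ (A an abelian variety — proper, geometrically integral group scheme — with alb(x₀) =
0, universal among pointed morphisms to geometrically reduced, connected, proper group schemes). For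
a second k-rational point x₁ let alb' = alb · (constant map with value alb(x₁))⁻¹, i.e. alb followed
by the translation of A by −alb(x₁). Then alb' is the Albanese morphism of X pointed by x₁: alb'(x₁)
= 0, and every k-morphism g : X → B to an abelian variety B with g(x₁) = 0 equals alb' ≫ h for a
unique homomorphism h : A → B. -/
theorem result (k : Type u) [Field k] (X : Scheme.{u}) [X.Over (Spec (CommRingCat.of k))]
    [IsProper (X ↘ Spec (CommRingCat.of k))] (h0 : Module.finrank k (Coh.HH X (Coh.structureModule X) 0) = 1)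
    (x₀ : 𝟙_ (Over (Spec (CommRingCat.of k))) ⟶ Over.mk (X ↘ Spec (CommRingCat.of k)))
    (A : Over (Spec (CommRingCat.of k))) [GrpObj A] [IsProper A.hom] [GeometricallyIntegral A.hom]
    (alb : Over.mk (X ↘ Spec (CommRingCat.of k)) ⟶ A) (halb : x₀ ≫ alb = η[A])
    (huniv : ∀ (B : Over (Spec (CommRingCat.of k))) [GrpObj B] [IsProper B.hom] [GeometricallyReduced B.hom] [ConnectedSpace ↥B.left]
      (g : Over.mk (X ↘ Spec (CommRingCat.of k)) ⟶ B), x₀ ≫ g = η[B] → ∃! h : A ⟶ B, IsMonHom h ∧ alb ≫ h = g)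
    (x₁ : 𝟙_ (Over (Spec (CommRingCat.of k))) ⟶ Over.mk (X ↘ Spec (CommRingCat.of k))) :
    x₁ ≫ (alb * (toUnit (Over.mk (X ↘ Spec (CommRingCat.of k))) ≫ x₁ ≫ alb)⁻¹) = η[A] ∧
    ∀ (B : Over (Spec (CommRingCat.of k))) [GrpObj B] [IsProper B.hom] [GeometricallyReduced B.hom] [ConnectedSpace ↥B.left]
      (g : Over.mk (X ↘ Spec (CommRingCat.of k)) ⟶ B), x₁ ≫ g = η[B] →
        ∃! h : A ⟶ B, IsMonHom h ∧ (alb * (toUnit (Over.mk (X ↘ Spec (CommRingCat.of k))) ≫ x₁ ≫ alb)⁻¹) ≫ h = g := by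
  refine ⟨part1 x₁ alb, ?_⟩
  intro B _ _ _ _ g hg
  refine part2 x₀ x₁ alb halb g hg (huniv B _ ?_)
  rw [MonObj.comp_mul, GrpObj.comp_inv, pt_const, mul_inv_cancel, eta_eq_one']

end Groth.Agent.S14827
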