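import Groth.Statements.S14830
import Groth.Agent.S8118
import Groth.Agent.H74.AbRig
import Mathlib

set_option autoImplicit false
universe u
open CategoryTheory MonoidalCategory CartesianMonoidalCategory MonObj GrpObj AlgebraicGeometry
open AbVar

namespace Groth.Agent.S14830

section general

variable {C : Type*} [Category C] [CartesianMonoidalCategory C] [BraidedCategory C]

lemma isMonHom_mul {M N : C} [MonObj M] [MonObj N] [IsCommMonObj N] (f g : M ⟶ N)
    [IsMonHom f] [IsMonHom g] : IsMonHom (f * g) := by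
  show IsMonHom (lift f g ≫ μ)
  infer_instance

lemma comp_toUnit {Y Z : C} (f : Y ⟶ Z) : f ≫ toUnit Z = toUnit Y := toUnit_unique _ _

lemma id_eq (A B : C) [MonObj A] [MonObj B] :
    (fst A B ≫ lift (𝟙 A) (toUnit A ≫ η[B])) * (snd A B ≫ lift (toUnit B ≫ η[A]) (𝟙 B))
      = 𝟙 (A ⊗ B) := by
  apply CartesianMonoidalCategory.hom_ext
  · rw [MonObj.mul_comp, Category.assoc, Category.assoc, lift_fst, lift_fst, Category.comp_id,
      Category.id_comp, ← Category.assoc, comp_toUnit, ← Hom.one_def, _root_.mul_one]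
  · rw [MonObj.mul_comp, Category.assoc, Category.assoc, lift_snd, lift_snd, Category.comp_id,
      Category.id_comp, ← Category.assoc, comp_toUnit, ← Hom.one_def, _root_.one_mul]

lemma general {X Y A B D : C} [GrpObj A] [GrpObj B] [GrpObj D] [IsCommMonObj D]
    (x₀ : 𝟙_ C ⟶ X) (y₀ : 𝟙_ C ⟶ Y) (albX : X ⟶ A) (albY : Y ⟶ B)
    (halbX : x₀ ≫ albX = η[A]) (halbY : y₀ ≫ albY = η[B])
    (g : X ⊗ Y ⟶ D)
    (hdec : g = (fst X Y ≫ lift (𝟙 X) (toUnit X ≫ y₀) ≫ g) *
      (snd X Y ≫ lift (toUnit Y ≫ x₀) (𝟙 Y) ≫ g))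
    (hu₁ : ∃! h : A ⟶ D, IsMonHom h ∧ albX ≫ h = lift (𝟙 X) (toUnit X ≫ y₀) ≫ g)
    (hu₂ : ∃! h : B ⟶ D, IsMonHom h ∧ albY ≫ h = lift (toUnit Y ≫ x₀) (𝟙 Y) ≫ g) :
    ∃! h : A ⊗ B ⟶ D, IsMonHom h ∧ (albX ⊗ₘ albY) ≫ h = g := by
  obtain ⟨h₁, ⟨hh₁, e₁⟩, u₁⟩ := hu₁
  obtain ⟨h₂, ⟨hh₂, e₂⟩, u₂⟩ := hu₂
  refine ⟨(fst A B ≫ h₁) * (snd A B ≫ h₂), ⟨isMonHom_mul _ _, ?_⟩, ?_⟩
  · rw [MonObj.comp_mul, tensorHom_fst_assoc, tensorHom_snd_assoc, e₁, e₂]
    exact hdec.symm
  · rintro h' ⟨hh', e'⟩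
    have k₁ : lift (𝟙 A) (toUnit A ≫ η[B]) ≫ h' = h₁ := by
      refine u₁ _ ⟨inferInstance, ?_⟩
      rw [← e', ← Category.assoc, ← Category.assoc, comp_lift, lift_map, Category.comp_id,
        Category.id_comp, Category.assoc, halbY, ← Category.assoc albX, comp_toUnit]
    have k₂ : lift (toUnit B ≫ η[A]) (𝟙 B) ≫ h' = h₂ := by
      refine u₂ _ ⟨inferInstance, ?_⟩
      rw [← e', ← Category.assoc, ← Category.assoc, comp_lift, lift_map, Category.comp_id,
        Category.id_comp, Category.assoc, halbX, ← Category.assoc albY, comp_toUnit]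
    have := congrArg (· ≫ h') (id_eq A B)
    beta_reduce at this
    rw [MonObj.mul_comp, Category.assoc, Category.assoc, k₁, k₂, Category.id_comp] at this
    exact this.symm

end general

theorem result (k : Type u) [Field k] (X Y : Scheme.{u}) [X.Over (Spec (CommRingCat.of k))] [Y.Over (Spec (CommRingCat.of k))]
    [IsProper (X ↘ Spec (CommRingCat.of k))] [IsProper (Y ↘ Spec (CommRingCat.of k))]
    [GeometricallyIntegral (X ↘ Spec (CommRingCat.of k))] [GeometricallyIntegral (Y ↘ Spec (CommRingCat.of k))]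
    (x₀ : 𝟙_ (Over (Spec (CommRingCat.of k))) ⟶ Over.mk (X ↘ Spec (CommRingCat.of k))) (y₀ : 𝟙_ (Over (Spec (CommRingCat.of k))) ⟶ Over.mk (Y ↘ Spec (CommRingCat.of k)))
    (A : Over (Spec (CommRingCat.of k))) [GrpObj A] [IsProper A.hom] [GeometricallyIntegral A.hom]
    (albX : Over.mk (X ↘ Spec (CommRingCat.of k)) ⟶ A) (halbX : x₀ ≫ albX = η[A])
    (hunivA : ∀ (C : Over (Spec (CommRingCat.of k))) [GrpObj C] [IsProper C.hom] [GeometricallyReduced C.hom] [ConnectedSpace ↥C.left]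
      (g : Over.mk (X ↘ Spec (CommRingCat.of k)) ⟶ C), x₀ ≫ g = η[C] → ∃! h : A ⟶ C, IsMonHom h ∧ albX ≫ h = g)
    (B : Over (Spec (CommRingCat.of k))) [GrpObj B] [IsProper B.hom] [GeometricallyIntegral B.hom]
    (albY : Over.mk (Y ↘ Spec (CommRingCat.of k)) ⟶ B) (halbY : y₀ ≫ albY = η[B])
    (hunivB : ∀ (C : Over (Spec (CommRingCat.of k))) [GrpObj C] [IsProper C.hom] [GeometricallyReduced C.hom] [ConnectedSpace ↥C.left]
      (g : Over.mk (Y ↘ Spec (CommRingCat.of k)) ⟶ C), y₀ ≫ g = η[C] → ∃! h : B ⟶ C, IsMonHom h ∧ albY ≫ h = g)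
    (C : Over (Spec (CommRingCat.of k))) [GrpObj C] [IsProper C.hom] [GeometricallyReduced C.hom] [ConnectedSpace ↥C.left]
    (g : Over.mk (X ↘ Spec (CommRingCat.of k)) ⊗ Over.mk (Y ↘ Spec (CommRingCat.of k)) ⟶ C) (hg : lift x₀ y₀ ≫ g = η[C]) :
    ∃! h : A ⊗ B ⟶ C, IsMonHom h ∧ (albX ⊗ₘ albY) ≫ h = g := by
  have hGI : GeometricallyIntegral C.hom :=
    Groth.Agent.H74.AbGI.geometricallyIntegral_of_connected k C
  have hcomm : IsCommMonObj C := isCommMonObj_of_isProper_of_geometricallyIntegral C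
  have hPX : IsProper (Over.mk (X ↘ Spec (CommRingCat.of k))).hom := by
    show IsProper (X ↘ Spec (CommRingCat.of k)); infer_instance
  have hPY : IsProper (Over.mk (Y ↘ Spec (CommRingCat.of k))).hom := by
    show IsProper (Y ↘ Spec (CommRingCat.of k)); infer_instance
  have hGX : GeometricallyIntegral (Over.mk (X ↘ Spec (CommRingCat.of k))).hom := by
    show GeometricallyIntegral (X ↘ Spec (CommRingCat.of k)); infer_instance
  have hGY : GeometricallyIntegral (Over.mk (Y ↘ Spec (CommRingCat.of k))).hom := by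
    show GeometricallyIntegral (Y ↘ Spec (CommRingCat.of k)); infer_instance
  have hdec := (Groth.Agent.S8118.result k (Over.mk (X ↘ Spec (CommRingCat.of k)))
    (Over.mk (Y ↘ Spec (CommRingCat.of k))) C x₀ y₀ g hg).1
  refine general x₀ y₀ albX albY halbX halbY g hdec (hunivA C _ ?_) (hunivB C _ ?_)
  · rw [← Category.assoc, comp_lift, Category.comp_id, ← Category.assoc x₀, comp_toUnit,
      toUnit_unique (toUnit (𝟙_ _)) (𝟙 _), Category.id_comp, hg]
  · rw [← Category.assoc, comp_lift, Category.comp_id, ← Category.assoc y₀, comp_toUnit,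
      toUnit_unique (toUnit (𝟙_ _)) (𝟙 _), Category.id_comp, hg]

end Groth.Agent.S14830
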