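import Groth.Statements.S14833
-- import your own Groth.Agent.* helpers here
import Groth.Agent.H39.GenericDiffSch
import Groth.Agent.H63.GenericSmooth
import Groth.Prelude.Def_CxOX

set_option autoImplicit false
set_option linter.style.haveILetI false
universe u
open CategoryTheory CategoryTheory.Limits AlgebraicGeometry
open OmegaSh

namespace Groth.Agent.S14833

open Groth.Agent.H39 Groth.Agent.H39.GenericDiffSch in
set_option maxHeartbeats 1000000 in
/-- Variant of `Groth.Agent.H39.GenericDiffSch.local_injective`: for a dominant morphism of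
integral schemes whose stalk map at the generic point is formally smooth (a separable, not
necessarily algebraic, function field extension), with smooth target, the canonical map
`φ^*Ω_Y → Ω_X` is injective on small affines. -/
theorem local_injective' {X Y S : Scheme.{u}} [IsIntegral X] [IsIntegral Y] (g : Y ⟶ S) [Smooth g]
    (φ : X ⟶ Y) (hdom : DenseRange φ.base)
    (hfs : (φ.stalkMap (genericPoint X)).hom.FormallySmooth)
    {ΩY : Y.Modules} {dY : OmegaSh.Der g ΩY} (hY : OmegaSh.IsUniversal dY)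
    {ΩX : X.Modules} {dX : OmegaSh.Der (φ ≫ g) ΩX} (hX : OmegaSh.IsUniversal dX)
    {c : (Scheme.Modules.pullback φ).obj ΩY ⟶ ΩX} (hc : OmegaSh.IsDiffCompat φ dY dX c)
    (k : IdxG φ g) : Function.Injective (c.app k.V₂) := by
  have hξ : genericPoint X ∈ k.V₂ :=
    ((genericPoint_spec X).mem_open_set_iff k.V₂.isOpen).mpr (by simpa using k.hne)
  have hη : φ.base (genericPoint X) ∈ k.V₁ := k.e hξ
  have hηg : φ.base (genericPoint X) = genericPoint Y := map_genericPoint φ hdom
  have e₂ : k.V₂ ≤ (φ ≫ g) ⁻¹ᵁ k.U := fun x hx => k.e₁ (k.e hx)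
  letI : Algebra Γ(S, k.U) Γ(Y, k.V₁) := (g.appLE k.U k.V₁ k.e₁).hom.toAlgebra
  letI : Algebra Γ(S, k.U) Γ(X, k.V₂) := ((φ ≫ g).appLE k.U k.V₂ e₂).hom.toAlgebra
  letI : Algebra Γ(Y, k.V₁) Γ(X, k.V₂) := (φ.appLE k.V₁ k.V₂ k.e).hom.toAlgebra
  haveI : IsScalarTower Γ(S, k.U) Γ(Y, k.V₁) Γ(X, k.V₂) := by
    refine IsScalarTower.of_algebraMap_eq' ?_
    show ((φ ≫ g).appLE k.U k.V₂ e₂).hom =
      (φ.appLE k.V₁ k.V₂ k.e).hom.comp (g.appLE k.U k.V₁ k.e₁).hom
    rw [← CommRingCat.hom_comp, Scheme.Hom.appLE_comp_appLE]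
  letI iBK : Algebra Γ(X, k.V₂) (X.presheaf.stalk (genericPoint X)) :=
    (X.presheaf.germ k.V₂ (genericPoint X) hξ).hom.toAlgebra
  letI iAK : Algebra Γ(Y, k.V₁) (X.presheaf.stalk (genericPoint X)) :=
    ((algebraMap Γ(X, k.V₂) (X.presheaf.stalk (genericPoint X))).comp
      (algebraMap Γ(Y, k.V₁) Γ(X, k.V₂))).toAlgebra
  letI iRK : Algebra Γ(S, k.U) (X.presheaf.stalk (genericPoint X)) :=
    ((algebraMap Γ(X, k.V₂) (X.presheaf.stalk (genericPoint X))).comp
      (algebraMap Γ(S, k.U) Γ(X, k.V₂))).toAlgebra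
  haveI : IsScalarTower Γ(Y, k.V₁) Γ(X, k.V₂) (X.presheaf.stalk (genericPoint X)) :=
    IsScalarTower.of_algebraMap_eq' rfl
  haveI : IsScalarTower Γ(S, k.U) Γ(X, k.V₂) (X.presheaf.stalk (genericPoint X)) :=
    IsScalarTower.of_algebraMap_eq' rfl
  haveI : IsScalarTower Γ(S, k.U) Γ(Y, k.V₁) (X.presheaf.stalk (genericPoint X)) := by
    refine IsScalarTower.of_algebraMap_eq' ?_
    show (algebraMap Γ(X, k.V₂) (X.presheaf.stalk (genericPoint X))).comp
        (algebraMap Γ(S, k.U) Γ(X, k.V₂)) =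
      ((algebraMap Γ(X, k.V₂) (X.presheaf.stalk (genericPoint X))).comp
        (algebraMap Γ(Y, k.V₁) Γ(X, k.V₂))).comp (algebraMap Γ(S, k.U) Γ(Y, k.V₁))
    rw [RingHom.comp_assoc, ← IsScalarTower.algebraMap_eq Γ(S, k.U) Γ(Y, k.V₁) Γ(X, k.V₂)]
  haveI : Algebra.FormallySmooth Γ(S, k.U) Γ(Y, k.V₁) :=
    (g.smooth_appLE k.hU k.hV₁ k.e₁).formallySmooth
  haveI : Module.Flat Γ(Y, k.V₁) Ω[Γ(Y, k.V₁)⁄Γ(S, k.U)] := inferInstance
  letI iASt : Algebra Γ(Y, k.V₁) (Y.presheaf.stalk (φ.base (genericPoint X))) :=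
    (Y.presheaf.germ k.V₁ (φ.base (genericPoint X)) hη).hom.toAlgebra
  letI iStSt : Algebra (Y.presheaf.stalk (φ.base (genericPoint X)))
      (X.presheaf.stalk (genericPoint X)) := (φ.stalkMap (genericPoint X)).hom.toAlgebra
  haveI : IsScalarTower Γ(Y, k.V₁) (Y.presheaf.stalk (φ.base (genericPoint X)))
      (X.presheaf.stalk (genericPoint X)) := by
    refine IsScalarTower.of_algebraMap_eq' ?_
    show (X.presheaf.germ k.V₂ (genericPoint X) hξ).hom.comp (φ.appLE k.V₁ k.V₂ k.e).hom =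
      (φ.stalkMap (genericPoint X)).hom.comp
        (Y.presheaf.germ k.V₁ (φ.base (genericPoint X)) hη).hom
    rw [← CommRingCat.hom_comp, ← CommRingCat.hom_comp, Scheme.Hom.germ_stalkMap,
      Scheme.Hom.appLE, Category.assoc, TopCat.Presheaf.germ_res]
  haveI hloc : IsLocalization.AtPrime (Y.presheaf.stalk (φ.base (genericPoint X)))
      (k.hV₁.primeIdealOf ⟨φ.base (genericPoint X), hη⟩).asIdeal :=
    k.hV₁.isLocalization_stalk ⟨φ.base (genericPoint X), hη⟩
  haveI : Algebra.FormallySmooth Γ(Y, k.V₁) (Y.presheaf.stalk (φ.base (genericPoint X))) :=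
    Algebra.FormallySmooth.of_isLocalization
      (k.hV₁.primeIdealOf ⟨φ.base (genericPoint X), hη⟩).asIdeal.primeCompl
  haveI : Algebra.FormallySmooth (Y.presheaf.stalk (φ.base (genericPoint X)))
      (X.presheaf.stalk (genericPoint X)) := hfs
  haveI : Algebra.FormallySmooth Γ(Y, k.V₁) (X.presheaf.stalk (genericPoint X)) :=
    Algebra.FormallySmooth.comp Γ(Y, k.V₁) (Y.presheaf.stalk (φ.base (genericPoint X)))
      (X.presheaf.stalk (genericPoint X))
  have hinj : Function.Injective (algebraMap Γ(X, k.V₂) (X.presheaf.stalk (genericPoint X))) :=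
    germ_injective_of_isIntegral X (genericPoint X) hξ
  obtain ⟨Ψ, ψ', -, -, hfac⟩ := DiffCompatLocal.exists_tracking g (φ ≫ g) φ hY hX hc k.hU k.hV₁ k.e₁
    k.hU k.hV₂ e₂ k.e (KaehlerDifferential.mapBaseChange Γ(S, k.U) Γ(Y, k.V₁) Γ(X, k.V₂))
    (fun s => by
      rw [KaehlerDifferential.mapBaseChange_tmul, one_smul, KaehlerDifferential.map_D]
      rfl)
  intro q q' hq
  have h1 : ψ' (c.app k.V₂ q) = ψ' (c.app k.V₂ q') := by rw [hq]
  rw [hfac, hfac] at h1
  exact Ψ.injective (GenericDiff.mapBaseChange_injective_of_generic Γ(S, k.U) Γ(Y, k.V₁)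
    Γ(X, k.V₂) (X.presheaf.stalk (genericPoint X)) hinj h1)


/-- Scheme-level core: for a dominant, locally finitely presented morphism `f : X ⟶ Z` of integral
`S`-schemes with `Z` smooth over `S` and geometrically reduced generic fibre, the comparison map
`f^*Ω_Z → Ω_X` is a monomorphism. -/
theorem main {S : Scheme.{u}} (X Z : Scheme.{u}) [IsIntegral X] [IsIntegral Z]
    (pX : X ⟶ S) (pZ : Z ⟶ S) [Smooth pZ] (f : X ⟶ Z) (hf : f ≫ pZ = pX)
    [IsDominant f] [LocallyOfFinitePresentation f]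
    (hsep : GeometricallyReduced (pullback.snd f (Z.fromSpecResidueField (genericPoint ↥Z))))
    (ΩZ : Z.Modules) (dZ : OmegaSh.Der pZ ΩZ) (hdZ : OmegaSh.IsUniversal dZ)
    (ΩX : X.Modules) (dX : OmegaSh.Der pX ΩX) (hdX : OmegaSh.IsUniversal dX)
    (c : (Scheme.Modules.pullback f).obj ΩZ ⟶ ΩX) (hc : OmegaSh.IsDiffCompat f dZ dX c) :
    Mono c := by
  subst hf
  have hdom : DenseRange f.base := f.denseRange
  have hηg : f.base (genericPoint X) = genericPoint Z :=
    Groth.Agent.H39.GenericDiffSch.map_genericPoint f hdom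
  have hsep' : GeometricallyReduced (f.fiberToSpecResidueField (f.base (genericPoint X))) := by
    rw [hηg]; exact hsep
  have hmem := Groth.Agent.H63.GenericSmooth.genericPoint_mem_smoothLocus X Z f hsep'
  rw [Scheme.Hom.mem_smoothLocus] at hmem
  haveI : ΩZ.IsQuasicoherent := Groth.Agent.H39.DerFin.isQuasicoherent_of_isUniversal pZ hdZ
  haveI : ΩX.IsQuasicoherent := Groth.Agent.H39.DerFin.isQuasicoherent_of_isUniversal (f ≫ pZ) hdX
  haveI : ((Scheme.Modules.pullback f).obj ΩZ).IsQuasicoherent :=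
    Groth.Agent.H8.isQuasicoherent_pullback f ΩZ
  exact Groth.Agent.H39.ConormalMono.mono_of_injective_affine_cover c _
    (Groth.Agent.H39.GenericDiffSch.isOpenCover_idxG f pZ) (fun k => k.hV₂)
    (fun k => local_injective' pZ f hdom hmem hdZ hdX hc k)

/-- Let k be a field and f : X → Z a surjective k-morphism between integral proper k-schemes, where X is
geometrically normal (its base change to an algebraic closure of k has integrally closed local
domains), Z is smooth over k, and the generic fibre of f is geometrically reduced over the function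
field of Z (equivalently K(Z) ⊆ K(X) is separable). Let d_Z : O_Z → Ω_Z and d_X : O_X → Ω_X be
universal k-derivations (sheaves of Kähler differentials over k) and c : f^*Ω_Z → Ω_X the O_X-linear
map compatible with them. Then for every open subscheme U ⊆ X which is smooth over k, the
restriction of c to U is a monomorphism of O_U-modules; in particular c is injective on the smooth
locus of X. -/
theorem result (k : Type u) [Field k]
    (X Z : Scheme.{u}) [X.Over (Spec (CommRingCat.of k))] [Z.Over (Spec (CommRingCat.of k))]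
    [IsProper (X ↘ Spec (CommRingCat.of k))] [IsProper (Z ↘ Spec (CommRingCat.of k))] [IsIntegral X] [IsIntegral Z]
    [Smooth (Z ↘ Spec (CommRingCat.of k))]
    (hgn : ∀ (K : Type u) [Field K] [Algebra k K] [IsAlgClosure k K],
      Pi1.IsNormalScheme (pullback (X ↘ Spec (CommRingCat.of k)) (Spec.map (CommRingCat.ofHom (algebraMap k K)))))
    (f : X ⟶ Z) [Surjective f] (hf : f ≫ (Z ↘ Spec (CommRingCat.of k)) = X ↘ Spec (CommRingCat.of k))
    (hsep : GeometricallyReduced (pullback.snd f (Z.fromSpecResidueField (genericPoint ↥Z))))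
    (ΩZ : Z.Modules) (dZ : OmegaSh.Der (Z ↘ Spec (CommRingCat.of k)) ΩZ) (hdZ : OmegaSh.IsUniversal dZ)
    (ΩX : X.Modules) (dX : OmegaSh.Der (X ↘ Spec (CommRingCat.of k)) ΩX) (hdX : OmegaSh.IsUniversal dX)
    (c : (Scheme.Modules.pullback f).obj ΩZ ⟶ ΩX) (hc : OmegaSh.IsDiffCompat f dZ dX c)
    (U : X.Opens) (hU : Smooth (U.ι ≫ (X ↘ Spec (CommRingCat.of k)))) :
    Mono ((Scheme.Modules.restrictFunctor U.ι).map c) := by
  haveI : LocallyOfFiniteType (f ≫ (Z ↘ Spec (CommRingCat.of k))) := by rw [hf]; infer_instance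
  haveI : LocallyOfFiniteType f := locallyOfFiniteType_of_comp f (Z ↘ Spec (CommRingCat.of k))
  haveI : IsLocallyNoetherian Z :=
    LocallyOfFiniteType.isLocallyNoetherian (Z ↘ Spec (CommRingCat.of k))
  haveI : LocallyOfFinitePresentation f := inferInstance
  haveI : Mono c := main X Z (X ↘ Spec (CommRingCat.of k)) (Z ↘ Spec (CommRingCat.of k)) f hf hsep
    ΩZ dZ hdZ ΩX dX hdX c hc
  infer_instance

end Groth.Agent.S14833
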