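import Groth.Statements.S1484
import Mathlib

set_option autoImplicit false
universe u
open FlatMor

namespace Groth.Agent.S1484

/-- Let R be a ring, p_1, …, p_r primes of R none of which is contained in another, k_i ⊆ κ(p_i)
subfields over which κ(p_i) is not algebraic, and J an ideal of R contained in none of the p_i. Then
some x ∈ J has image in κ(p_i) transcendental over k_i for every i. -/
theorem result {R : Type u} [CommRing R] {r : ℕ} (p : Fin r → Ideal R) [∀ i, (p i).IsPrime]
    (hp : ∀ i j, i ≠ j → ¬ p i ≤ p j) (k : ∀ i, Subfield (p i).ResidueField)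
    (hk : ∀ i, ¬ Algebra.IsAlgebraic ↥(k i) (p i).ResidueField) (J : Ideal R) (hJ : ∀ i, ¬ J ≤ p i) :
    ∃ x ∈ J, ∀ i, Transcendental ↥(k i) (algebraMap R (p i).ResidueField x) := by
  classical
  -- Step 1: elements y i ∈ J, in p j for j ≠ i, not in p i
  have h1 : ∀ i, ∃ y ∈ J, (∀ j, j ≠ i → y ∈ p j) ∧ y ∉ p i := by
    intro i
    obtain ⟨a, haJ, hai⟩ := SetLike.not_le_iff_exists.mp (hJ i)
    have hb : ∀ j, ∃ b ∈ p j, j ≠ i → b ∉ p i := by
      intro j
      by_cases hji : j = i
      · exact ⟨0, (p j).zero_mem, fun h => (h hji).elim⟩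
      · obtain ⟨b, hbj, hbi⟩ := SetLike.not_le_iff_exists.mp (hp j i hji)
        exact ⟨b, hbj, fun _ => hbi⟩
    choose b hbj hbi using hb
    refine ⟨a * ∏ j ∈ Finset.univ.erase i, b j, J.mul_mem_right _ haJ, ?_, ?_⟩
    · intro j hji
      apply (p j).mul_mem_left
      have hmem : j ∈ Finset.univ.erase i := Finset.mem_erase.mpr ⟨hji, Finset.mem_univ j⟩
      rw [← Finset.mul_prod_erase _ _ hmem]
      exact (p j).mul_mem_right _ (hbj j)
    · intro hmem
      rcases (Ideal.IsPrime.mem_or_mem inferInstance hmem) with h | h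
      · exact hai h
      · obtain ⟨j, hj, hbji⟩ := Ideal.IsPrime.prod_mem_iff.mp h
        exact hbi j (Finset.ne_of_mem_erase hj) hbji
  choose y hyJ hyj hyi using h1
  -- Step 2: elements t i with transcendental image
  have h2 : ∀ i, ∃ t : R, Transcendental ↥(k i) (algebraMap R (p i).ResidueField t) := by
    intro i
    by_contra hcon
    push Not at hcon
    apply hk i
    refine ⟨fun z => ?_⟩
    obtain ⟨a, b, -, hab⟩ := IsFractionRing.div_surjective (A := R ⧸ p i) z
    obtain ⟨a', rfl⟩ := Ideal.Quotient.mk_surjective a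
    obtain ⟨b', rfl⟩ := Ideal.Quotient.mk_surjective b
    have ha : IsAlgebraic ↥(k i) (algebraMap R (p i).ResidueField a') := by
      have := hcon a'; rwa [Transcendental, not_not] at this
    have hb : IsAlgebraic ↥(k i) (algebraMap R (p i).ResidueField b') := by
      have := hcon b'; rwa [Transcendental, not_not] at this
    rw [← hab, div_eq_mul_inv]
    have e1 : algebraMap (R ⧸ p i) (p i).ResidueField (Ideal.Quotient.mk (p i) a') =
        algebraMap R (p i).ResidueField a' := (IsScalarTower.algebraMap_apply R (R ⧸ p i) _ a').symm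
    have e2 : algebraMap (R ⧸ p i) (p i).ResidueField (Ideal.Quotient.mk (p i) b') =
        algebraMap R (p i).ResidueField b' := (IsScalarTower.algebraMap_apply R (R ⧸ p i) _ b').symm
    rw [e1, e2]
    exact ha.mul hb.inv
  choose t ht using h2
  -- Step 3
  let s : Fin r → R := fun i =>
    if Transcendental ↥(k i) (algebraMap R (p i).ResidueField (y i)) then 1 else t i
  refine ⟨∑ i, y i * s i, J.sum_mem (fun i _ => J.mul_mem_right _ (hyJ i)), fun i => ?_⟩
  have himg : algebraMap R (p i).ResidueField (∑ j, y j * s j) =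
      algebraMap R (p i).ResidueField (y i) * algebraMap R (p i).ResidueField (s i) := by
    rw [map_sum, Finset.sum_eq_single i]
    · rw [map_mul]
    · intro j _ hji
      rw [map_mul, Ideal.algebraMap_residueField_eq_zero.mpr (hyj j i (Ne.symm hji)), zero_mul]
    · intro h; exact (h (Finset.mem_univ i)).elim
  rw [himg]
  by_cases hy : Transcendental ↥(k i) (algebraMap R (p i).ResidueField (y i))
  · have hs : s i = 1 := if_pos hy
    rw [hs, map_one, mul_one]; exact hy
  · have hs : s i = t i := if_neg hy
    rw [hs]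
    rw [Transcendental, not_not] at hy
    intro halg
    apply ht i
    have hne : algebraMap R (p i).ResidueField (y i) ≠ 0 := by
      rw [Ne, Ideal.algebraMap_residueField_eq_zero]; exact hyi i
    have : algebraMap R (p i).ResidueField (t i) =
        (algebraMap R (p i).ResidueField (y i))⁻¹ *
          (algebraMap R (p i).ResidueField (y i) * algebraMap R (p i).ResidueField (t i)) := by
      rw [← mul_assoc, inv_mul_cancel₀ hne, one_mul]
    rw [this]
    exact hy.inv.mul halg

end Groth.Agent.S1484
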