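import Groth.Statements.S14840
import Groth.Agent.H73.FixLoc6
import Groth.Agent.H73.FixLoc7

set_option autoImplicit false
open CategoryTheory MonoidalCategory CartesianMonoidalCategory AlgebraicGeometry
universe u
open AlgGrp

namespace Groth.Agent.S14840


open Groth.Agent.H73 in
theorem fixed_iff_phi {S : Scheme.{u}} (G Y : Over S) [GrpObj G] (a : AlgGrp.Action G Y)
    (T : Over S) (y : T ⟶ Y) :
    (∀ (T' : Over S) (t : T' ⟶ T) (g : T' ⟶ G), lift g (t ≫ y) ≫ a.act = t ≫ y) ↔
      FixLoc.Phi (snd G Y).left (Limits.equalizer.ι a.act (snd G Y)).left y.left := by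
  constructor
  · intro h P' g' p' hc
    have hw : g' ≫ (G ⊗ Y).hom = p' ≫ T.hom := by
      rw [← Over.w (snd G Y), ← Category.assoc, hc, Category.assoc, Over.w y]
    let T'' : Over S := Over.mk (p' ≫ T.hom)
    let t : T'' ⟶ T := Over.homMk p' rfl
    let g'' : T'' ⟶ G ⊗ Y := Over.homMk g' hw
    have hsnd : g'' ≫ snd G Y = t ≫ y := by
      apply Over.OverMorphism.ext
      exact hc
    have hlift : lift (g'' ≫ fst G Y) (t ≫ y) = g'' := by
      apply CartesianMonoidalCategory.hom_ext
      · rw [lift_fst]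
      · rw [lift_snd, hsnd]
    have h1 := h T'' t (g'' ≫ fst G Y)
    rw [hlift, ← hsnd] at h1
    refine ⟨(Limits.equalizer.lift g'' h1).left, ?_⟩
    rw [← Over.comp_left, Limits.equalizer.lift_ι]
    rfl
  · intro h T' t g
    obtain ⟨k, hk⟩ := h T'.left (lift g (t ≫ y)).left t.left (by
      rw [← Over.comp_left, lift_snd, Over.comp_left])
    have : lift g (t ≫ y) ≫ a.act = lift g (t ≫ y) ≫ snd G Y := by
      apply Over.OverMorphism.ext
      rw [Over.comp_left, Over.comp_left, ← hk, Category.assoc, Category.assoc,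
        ← Over.comp_left, ← Over.comp_left, Limits.equalizer.condition]
    rw [this, lift_snd]

/-- Let G be a group scheme over a scheme S, affine over S and with structure sheaf locally free over
O_S (each point of S has an affine open neighbourhood U such that the sections of O_G over the
preimage of U form a free module over the sections of O_S over U), acting on an S-scheme Y which is
separated over S. Then the subfunctor of G-fixed points of Y is a closed subfunctor: there are an
S-scheme Z and a closed immersion i : Z → Y over S such that a T-valued point y of Y factors through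
i exactly when it is fixed, i.e. g · y = y for every S-scheme T' over T and every T'-valued point g
of G. -/
theorem result
    {S : Scheme.{u}} (G Y : Over S) [GrpObj G] (a : AlgGrp.Action G Y)
    [IsAffineHom G.hom] [IsSeparated Y.hom]
    (hfree : ∀ s : S, ∃ U : S.affineOpens, s ∈ (U : S.Opens) ∧
      @Module.Free Γ(S, U) Γ(G.left, G.hom ⁻¹ᵁ U) _ _ (G.hom.app U).hom.toAlgebra.toModule) :
    ∃ (Z : Over S) (i : Z ⟶ Y), IsClosedImmersion i.left ∧
      ∀ (T : Over S) (y : T ⟶ Y),
        (∀ (T' : Over S) (t : T' ⟶ T) (g : T' ⟶ G), lift g (t ≫ y) ≫ a.act = t ≫ y) ↔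
          ∃ z : T ⟶ Z, z ≫ i = y := by
  classical
  let π : (G ⊗ Y).left ⟶ Y.left := (snd G Y).left
  let ι := (Limits.equalizer.ι a.act (snd G Y)).left
  have : IsAffineHom π := by
    change IsAffineHom (Limits.pullback.snd G.hom Y.hom)
    exact MorphismProperty.of_isPullback (P := @IsAffineHom)
      (IsPullback.of_hasPullback G.hom Y.hom) inferInstance
  have : IsClosedImmersion ι := isClosedImmersion_equalizer_ι_left _ _
  have hcov : ∀ y : Y.left, ∃ j : Groth.Agent.H73.FixLoc.Good π, y ∈ j.V := by
    intro y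
    obtain ⟨U, hsU, hfU⟩ := hfree (Y.hom y)
    have hy : y ∈ Y.hom ⁻¹ᵁ (U : S.Opens) := hsU
    obtain ⟨V, hVaff, hyV, hVU⟩ := exists_isAffineOpen_mem_and_subset hy
    exact ⟨⟨V, hVaff,
      Groth.Agent.H73.FixLoc.free_pullback G.hom Y.hom U U.2 V hVaff hVU hfU⟩, hyV⟩
  obtain ⟨Z, i, hi, key⟩ := Groth.Agent.H73.FixLoc.exists_closed π ι hcov
  refine ⟨Over.mk (i ≫ Y.hom), Over.homMk i rfl, hi, ?_⟩
  intro T y
  rw [fixed_iff_phi G Y a T y, key T.left y.left]
  constructor
  · rintro ⟨z, hz⟩
    refine ⟨Over.homMk z ?_, ?_⟩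
    · change z ≫ i ≫ Y.hom = T.hom
      rw [← Category.assoc, hz, Over.w y]
    · apply Over.OverMorphism.ext
      exact hz
  · rintro ⟨z, rfl⟩
    exact ⟨z.left, rfl⟩

end Groth.Agent.S14840
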