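import Groth.Statements.S14841
import Groth.Agent.H93.Coeff

set_option autoImplicit false
universe u v w
open HopfRep

namespace Groth.Agent.S14841

open TensorProduct in
/-- Over a field K, let C be a coalgebra and E a simple right C-comodule, and let D be the coefficient
space of E, the least subspace D' of C such that the coaction of E lands in E ⊗ D'. Then D is a
simple subcoalgebra of C: it is nonzero, its comultiplication lands in the image of D ⊗ D, and any
subcoalgebra of C contained in D is 0 or D. Here a subcoalgebra of C is a subspace B whose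
comultiplication lands in the image of B ⊗ B, and a simple subcoalgebra is a nonzero subcoalgebra D
whose only subcoalgebras contained in D are 0 and D. (Stated for right comodules; the published
statement is for left comodules, with D' ⊗ E in place of E ⊗ D'.) -/
theorem result {K : Type u} {C : Type v} [Field K]
    [AddCommGroup C] [Module K C] [Coalgebra K C]
    {E : Type w} [AddCommGroup E] [Module K E] [HopfRep.Comod K C E]
    (hE : HopfRep.IsSimpleComod K C E) (D : Submodule K C)
    (hD : IsLeast {D' : Submodule K C |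
      ∀ e : E, HopfRep.Comod.coact (k := K) (A := C) e ∈ LinearMap.range (LinearMap.lTensor E D'.subtype)} D) :
    D ≠ ⊥ ∧ (∀ b ∈ D, CoalgebraStruct.comul (R := K) b ∈ LinearMap.range (TensorProduct.map D.subtype D.subtype)) ∧
      ∀ B : Submodule K C, B ≤ D → (∀ b ∈ B, CoalgebraStruct.comul (R := K) b ∈ LinearMap.range (TensorProduct.map B.subtype B.subtype)) → B = ⊥ ∨ B = D := by
  classical
  haveI := hE.1
  have hD1 := Groth.Agent.H93.eq_coeffSpace_of_isLeast hD
  subst hD1
  refine ⟨Groth.Agent.H93.coeffSpace_ne_bot, fun b hb => Groth.Agent.H93.comul_mem_coeffSpace hb, ?_⟩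
  intro B hBD hB
  by_cases hB0 : B = ⊥
  · exact Or.inl hB0
  · right
    have hBsub : HopfRep.IsSubcomod (k := K) (A := C) B := by
      intro b hb
      obtain ⟨t, ht⟩ := hB b hb
      refine ⟨(B.subtype.lTensor B) t, ?_⟩
      rw [← LinearMap.comp_apply, LinearMap.rTensor_comp_lTensor]
      exact ht
    obtain ⟨x, hxB, hx0⟩ := Submodule.exists_mem_ne_zero_of_ne_bot hB0
    obtain ⟨F, hFfin, hxF, hFsub⟩ :=
      Groth.Agent.H40.exists_finite_subcomod_mem (k := K) (C := C) (V := C) x
    have hG₀sub : HopfRep.IsSubcomod (k := K) (A := C) (F ⊓ B) :=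
      Groth.Agent.H40.isSubcomod_inf hFsub hBsub
    haveI : Module.Finite K ↥(F ⊓ B) :=
      Module.Finite.of_injective (Submodule.inclusion (inf_le_left : F ⊓ B ≤ F))
        (Submodule.inclusion_injective _)
    have hG₀ne : F ⊓ B ≠ ⊥ := by
      intro h
      have : x ∈ F ⊓ B := ⟨hxF, hxB⟩
      rw [h, Submodule.mem_bot] at this
      exact hx0 this
    obtain ⟨T, hTle, hTsub, hTne, hTmin⟩ :=
      Groth.Agent.S18818.exists_simple_le (F ⊓ B) hG₀sub hG₀ne
    letI instT : HopfRep.Comod K C T := Groth.Agent.H62.subComod T hTsub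
    have hTsimple : HopfRep.IsSimpleComod K C T :=
      Groth.Agent.H93.isSimpleComod_subComod T hTsub hTne hTmin
    have hsubt : Hoch.IsComodHom C T.subtype := Groth.Agent.H62.isComodHom_subtype T hTsub
    have hf0 : T.subtype ≠ 0 := by
      intro h
      apply hTne
      rw [eq_bot_iff]
      intro t ht
      have : T.subtype ⟨t, ht⟩ = 0 := by rw [h, LinearMap.zero_apply]
      rw [Submodule.mem_bot]
      exact this
    have hTB : T ≤ B := hTle.trans inf_le_right
    have h1 : LinearMap.range T.subtype ≤
        ⨆ φ : E →ₗ[K] K, LinearMap.range (Groth.Agent.H93.coefMap (C := C) φ) := by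
      rw [Submodule.range_subtype]
      exact hTB.trans hBD
    obtain ⟨φ, e, he⟩ := Groth.Agent.H93.exists_iso_of_range_le_iSup (V := C)
      (K := fun _ : E →ₗ[K] K => E) (fun _ => hE) (fun φ => Groth.Agent.H93.coefMap (C := C) φ)
      (fun φ => Groth.Agent.H93.isComodHom_coefMap φ) T hTsimple T.subtype hsubt hf0 h1
    let ι : E →ₗ[K] C := T.subtype ∘ₗ (e.symm : E →ₗ[K] T)
    have hι : Hoch.IsComodHom C ι :=
      Groth.Agent.H93.isComodHom_comp (Groth.Agent.H93.isComodHom_symm e he) hsubt
    have hιinj : Function.Injective ι := T.injective_subtype.comp e.symm.injective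
    have hιB : ∀ y, ι y ∈ B := fun y => hTB (e.symm y).2
    have key : ∀ y : E, HopfRep.Comod.coact (k := K) (A := C) y ∈
        LinearMap.range (LinearMap.lTensor E B.subtype) := by
      intro y
      apply Groth.Agent.H93.mem_range_subtype_lTensor_of_rTensor ι hιinj B
      have h2 := LinearMap.congr_fun hι y
      simp only [LinearMap.comp_apply] at h2
      rw [← h2]
      obtain ⟨t, ht⟩ := hB (ι y) (hιB y)
      refine ⟨(B.subtype.rTensor B) t, ?_⟩
      rw [← LinearMap.comp_apply, LinearMap.lTensor_comp_rTensor]
      exact ht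
    exact le_antisymm hBD (hD.2 key)

end Groth.Agent.S14841
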