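import Groth.Statements.S14842
import Mathlib
import Groth.Agent.H74.Coeff2
-- import your own Groth.Agent.* helpers here

set_option autoImplicit false
universe u v
open HopfRep

namespace Groth.Agent.S14842

open TensorProduct in
/-- Over a field K, every simple subcoalgebra D of a coalgebra C is the coefficient space of a simple
comodule. Precisely: there is a subspace E of C contained in D which is a simple subcomodule of the
regular right comodule C (E is nonzero, stable under the coaction, and its only subcomodules are 0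
and E) and such that D is the least subspace D' of C with comul(E) inside the image of E ⊗ D'. Here
a subcoalgebra of C is a subspace B whose comultiplication lands in the image of B ⊗ B, and a simple
subcoalgebra is a nonzero subcoalgebra D whose only subcoalgebras contained in D are 0 and D.
(Stated for right comodules; the published statement is for left comodules.) -/
theorem result {K : Type u} {C : Type v} [Field K]
    [AddCommGroup C] [Module K C] [Coalgebra K C]
    (D : Submodule K C) (hD0 : D ≠ ⊥) (hD : (∀ b ∈ D, CoalgebraStruct.comul (R := K) b ∈ LinearMap.range (TensorProduct.map D.subtype D.subtype)))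
    (hDs : ∀ B : Submodule K C, B ≤ D → (∀ b ∈ B, CoalgebraStruct.comul (R := K) b ∈ LinearMap.range (TensorProduct.map B.subtype B.subtype)) → B = ⊥ ∨ B = D) :
    ∃ E : Submodule K C, E ≤ D ∧ E ≠ ⊥ ∧ HopfRep.IsSubcomod (k := K) (A := C) E ∧
      (∀ E' : Submodule K C, E' ≤ E → HopfRep.IsSubcomod (k := K) (A := C) E' → E' = ⊥ ∨ E' = E) ∧
      IsLeast {D' : Submodule K C |
        ∀ e ∈ E, CoalgebraStruct.comul (R := K) e ∈ LinearMap.range (TensorProduct.map E.subtype D'.subtype)} D := by
  have hDsub : Groth.Agent.H74.Coeff.IsSubcoalg D := hD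
  have hDcomod := hDsub.isSubcomod
  obtain ⟨d, hdD, hd0⟩ := Submodule.exists_mem_ne_zero_of_ne_bot hD0
  obtain ⟨W₀, hfin, hdW, hW₀⟩ :=
    Groth.Agent.H40.exists_finite_subcomod_mem (k := K) (C := C) (V := C) d
  have hW : HopfRep.IsSubcomod (k := K) (A := C) (W₀ ⊓ D) :=
    Groth.Agent.H40.isSubcomod_inf hW₀ hDcomod
  have hWfin : Module.Finite K ↥(W₀ ⊓ D) := Submodule.finiteDimensional_of_le inf_le_left
  have hWne : W₀ ⊓ D ≠ ⊥ := fun h => hd0 ((Submodule.mem_bot K).mp (h ▸ ⟨hdW, hdD⟩))
  obtain ⟨E, hEW, hEne, hE, hEs⟩ :=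
    Groth.Agent.H74.Coeff.exists_simple_subcomod_le _ (W₀ ⊓ D) rfl hW hWne
  have hED : E ≤ D := hEW.trans inf_le_right
  refine ⟨E, hED, hEne, hE, hEs, ?_⟩
  have hB : Groth.Agent.H74.Coeff.IsSubcoalg (Groth.Agent.H74.Coeff.coeffOn (C := C) (V := C) E) :=
    Groth.Agent.H74.Coeff.isSubcoalg_coeffOn hE
  have hBD : Groth.Agent.H74.Coeff.coeffOn (C := C) (V := C) E ≤ D :=
    Groth.Agent.H74.Coeff.coeffOn_le_of_le_isSubcoalg hDsub hED
  have hBeq : Groth.Agent.H74.Coeff.coeffOn (C := C) (V := C) E = D := by
    rcases hDs _ hBD hB with h | h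
    · exact absurd ((Groth.Agent.H74.Coeff.coeffOn_eq_bot_iff E).mp h) hEne
    · exact h
  constructor
  · intro e he
    have h := Groth.Agent.H74.Coeff.coact_mem_range_map (C := C) hE he
    rw [hBeq] at h
    exact h
  · intro D' hD'
    rw [← hBeq, Groth.Agent.H74.Coeff.coeffOn_le_iff]
    intro e he
    exact Groth.Agent.H74.Coeff.range_map_le_range_lTensor E D' (hD' e he)

end Groth.Agent.S14842
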