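import Groth.Statements.S14844
import Mathlib
import Groth.Agent.H40.Comod
-- import your own Groth.Agent.* helpers here

set_option autoImplicit false
universe u v w w'
open HopfRep

namespace Groth.Agent.S14844

open TensorProduct in
/-- Let R be a commutative ring and C an R-coalgebra, flat over R, which is the internal direct sum of
subcoalgebras D_i (submodules whose comultiplication lands in the image of D_i ⊗ D_i, independent
and with supremum C). Then every right C-comodule V is the internal direct sum of the subcomodules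
V_i, where V_i is the preimage under the coaction of the image of V ⊗ D_i in V ⊗ C, and the coaction
maps V_i into the image of V_i ⊗ D_i, so that the comodule structure of V_i reduces to a
D_i-comodule structure. (The published statement is for a flat sheaf of coalgebras over a base
scheme and left comodules on a scheme over it; this row is the case of an affine base with modules
of global sections, for right comodules.) -/
theorem result {R : Type u} {C : Type v} [CommRing R]
    [AddCommGroup C] [Module R C] [Coalgebra R C] [Module.Flat R C]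
    {ι : Type w} (D : ι → Submodule R C)
    (hD : ∀ i, ∀ d ∈ D i, CoalgebraStruct.comul (R := R) d ∈
      LinearMap.range (TensorProduct.map (D i).subtype (D i).subtype))
    (hind : iSupIndep D) (htop : iSup D = ⊤)
    {V : Type w'} [AddCommGroup V] [Module R V] [HopfRep.Comod R C V] :
    (∀ i, HopfRep.IsSubcomod (k := R) (A := C) ((LinearMap.range (LinearMap.lTensor V (D i).subtype)).comap
        (HopfRep.Comod.coact (k := R) (A := C) (V := V)))) ∧
    iSupIndep (fun i => ((LinearMap.range (LinearMap.lTensor V (D i).subtype)).comap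
        (HopfRep.Comod.coact (k := R) (A := C) (V := V)))) ∧
    (⨆ i, ((LinearMap.range (LinearMap.lTensor V (D i).subtype)).comap
        (HopfRep.Comod.coact (k := R) (A := C) (V := V)))) = ⊤ ∧
    ∀ i, ∀ v ∈ ((LinearMap.range (LinearMap.lTensor V (D i).subtype)).comap
        (HopfRep.Comod.coact (k := R) (A := C) (V := V))),
      HopfRep.Comod.coact (k := R) (A := C) v ∈
        LinearMap.range (TensorProduct.map ((LinearMap.range (LinearMap.lTensor V (D i).subtype)).comap
        (HopfRep.Comod.coact (k := R) (A := C) (V := V))).subtype (D i).subtype) := by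
  classical
  have hcompl : ∀ i, IsCompl (D i) (⨆ j ≠ i, D j) := fun i =>
    ⟨hind i, by rw [codisjoint_iff, ← iSup_split_single, htop]⟩
  let π' : ∀ i, C →ₗ[R] D i := fun i => (D i).projectionOnto _ (hcompl i)
  let π : ι → (C →ₗ[R] C) := fun i => (D i).subtype ∘ₗ π' i
  have hπ_self : ∀ i (d : C), d ∈ D i → π i d = d := fun i d hd =>
    Submodule.projection_apply_of_mem_left (hcompl i) hd
  have hπ_other : ∀ i j (d : C), j ≠ i → d ∈ D j → π i d = 0 := by
    intro i j d hji hd
    have hmem : d ∈ ⨆ j ≠ i, D j := (le_iSup₂ (f := fun j (_ : j ≠ i) => D j) j hji) hd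
    exact Submodule.projection_apply_of_mem_right (hcompl i) hmem
  have hπ_sub_self : ∀ i, π i ∘ₗ (D i).subtype = (D i).subtype := fun i =>
    LinearMap.ext fun d => hπ_self i d d.2
  have hπ_sub_other : ∀ i j, j ≠ i → π i ∘ₗ (D j).subtype = 0 := fun i j hji =>
    LinearMap.ext fun d => hπ_other i j d hji d.2
  let Δ : C →ₗ[R] C ⊗[R] C := CoalgebraStruct.comul (R := R) (A := C)
  let ε : C →ₗ[R] R := CoalgebraStruct.counit (R := R) (A := C)
  have hall : ∀ c : C, c ∈ ⨆ j, D j := fun c => by rw [htop]; trivial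
  -- Lemma B
  have hB : ∀ i (c : C), ((ε ∘ₗ π i).lTensor C) (Δ c) = (π i c) ⊗ₜ[R] (1 : R) := by
    intro i c
    refine Submodule.iSup_induction D
      (motive := fun c => ((ε ∘ₗ π i).lTensor C) (Δ c) = (π i c) ⊗ₜ[R] (1 : R)) (hall c) ?_ ?_ ?_
    · intro j d hd
      obtain ⟨y, hy⟩ := hD j d hd
      have hy' : Δ d = TensorProduct.map (D j).subtype (D j).subtype y := hy.symm
      rw [hy', LinearMap.lTensor_def, ← LinearMap.comp_apply, ← TensorProduct.map_comp,
        LinearMap.id_comp]
      by_cases hji : j = i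
      · subst hji
        rw [LinearMap.comp_assoc, hπ_sub_self, hπ_self j d hd]
        have h1 : TensorProduct.map (D j).subtype (ε ∘ₗ (D j).subtype) y
            = ε.lTensor C (TensorProduct.map (D j).subtype (D j).subtype y) := by
          rw [LinearMap.lTensor_def, ← LinearMap.comp_apply, ← TensorProduct.map_comp,
            LinearMap.id_comp]
        rw [h1, ← hy']
        exact Coalgebra.lTensor_counit_comul d
      · rw [LinearMap.comp_assoc, hπ_sub_other i j hji, LinearMap.comp_zero,
          TensorProduct.map_zero_right, LinearMap.zero_apply, hπ_other i j d hji hd,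
          TensorProduct.zero_tmul]
    · simp
    · intro x y hx hy
      simp only [map_add, TensorProduct.add_tmul, hx, hy]
  have hB' : ∀ i (c : C), ((ε ∘ₗ π i).rTensor C) (Δ c) = (1 : R) ⊗ₜ[R] (π i c) := by
    intro i c
    refine Submodule.iSup_induction D
      (motive := fun c => ((ε ∘ₗ π i).rTensor C) (Δ c) = (1 : R) ⊗ₜ[R] (π i c)) (hall c) ?_ ?_ ?_
    · intro j d hd
      obtain ⟨y, hy⟩ := hD j d hd
      have hy' : Δ d = TensorProduct.map (D j).subtype (D j).subtype y := hy.symm
      rw [hy', LinearMap.rTensor_def, ← LinearMap.comp_apply, ← TensorProduct.map_comp,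
        LinearMap.id_comp]
      by_cases hji : j = i
      · subst hji
        rw [LinearMap.comp_assoc, hπ_sub_self, hπ_self j d hd]
        have h1 : TensorProduct.map (ε ∘ₗ (D j).subtype) (D j).subtype y
            = ε.rTensor C (TensorProduct.map (D j).subtype (D j).subtype y) := by
          rw [LinearMap.rTensor_def, ← LinearMap.comp_apply, ← TensorProduct.map_comp,
            LinearMap.id_comp]
        rw [h1, ← hy']
        exact Coalgebra.rTensor_counit_comul d
      · rw [LinearMap.comp_assoc, hπ_sub_other i j hji, LinearMap.comp_zero,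
          TensorProduct.map_zero_left, LinearMap.zero_apply, hπ_other i j d hji hd,
          TensorProduct.tmul_zero]
    · simp
    · intro x y hx hy
      simp only [map_add, TensorProduct.tmul_add, hx, hy]
  let ρ : V →ₗ[R] V ⊗[R] C := HopfRep.Comod.coact (k := R) (A := C) (V := V)
  let p : ι → (V →ₗ[R] V) := fun i => Groth.Agent.H40.contr V (ε ∘ₗ π i) ∘ₗ ρ
  -- (I1)
  have hcontrΔ : ∀ i, Groth.Agent.H40.contr C (ε ∘ₗ π i) ∘ₗ Δ = π i := by
    intro i
    refine LinearMap.ext fun c => ?_
    show (TensorProduct.rid R C) (((ε ∘ₗ π i).lTensor C) (Δ c)) = π i c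
    rw [hB, TensorProduct.rid_tmul, one_smul]
  have hI1 : ∀ i (v : V), ρ (p i v) = (π i).lTensor V (ρ v) := by
    intro i v
    have h := Groth.Agent.H40.coact_contr_coact (k := R) (C := C) (V := V) (ε ∘ₗ π i) v
    rw [hcontrΔ i] at h
    exact h
  -- (I2)
  have hlidΔ : ∀ i, (TensorProduct.lid R C).toLinearMap ∘ₗ (ε ∘ₗ π i).rTensor C ∘ₗ Δ = π i := by
    intro i
    refine LinearMap.ext fun c => ?_
    show (TensorProduct.lid R C) (((ε ∘ₗ π i).rTensor C) (Δ c)) = π i c
    rw [hB', TensorProduct.lid_tmul, one_smul]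
  have hswap : ∀ (f : C →ₗ[R] R),
      (Groth.Agent.H40.contr V f).rTensor C ∘ₗ (TensorProduct.assoc R V C C).symm.toLinearMap
        = ((TensorProduct.lid R C).toLinearMap ∘ₗ f.rTensor C).lTensor V := by
    intro f
    ext v c c'
    simp [TensorProduct.smul_tmul]
  have hI2 : ∀ i (v : V), (p i).rTensor C (ρ v) = (π i).lTensor V (ρ v) := by
    intro i v
    have h1 : (p i).rTensor C (ρ v)
        = (Groth.Agent.H40.contr V (ε ∘ₗ π i)).rTensor C (ρ.rTensor C (ρ v)) := by
      show ((Groth.Agent.H40.contr V (ε ∘ₗ π i) ∘ₗ ρ).rTensor C) (ρ v) = _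
      rw [LinearMap.rTensor_comp, LinearMap.comp_apply]
    have h2 : ρ.rTensor C (ρ v)
        = (TensorProduct.assoc R V C C).symm (Δ.lTensor V (ρ v)) := by
      rw [← Groth.Agent.H40.coassoc_apply, LinearEquiv.symm_apply_apply]
    have h3 := LinearMap.congr_fun (hswap (ε ∘ₗ π i)) (Δ.lTensor V (ρ v))
    simp only [LinearMap.comp_apply, LinearEquiv.coe_coe] at h3
    rw [h1, h2, h3, ← LinearMap.comp_apply, ← LinearMap.lTensor_comp, LinearMap.comp_assoc,
      hlidΔ i]
  -- the subcomodules
  let Vi : ι → Submodule R V := fun i =>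
    (LinearMap.range (LinearMap.lTensor V (D i).subtype)).comap ρ
  have hmemV : ∀ i (v : V), v ∈ Vi i ↔ (π i).lTensor V (ρ v) = ρ v := by
    intro i v
    constructor
    · rintro ⟨y, hy⟩
      rw [← hy, ← LinearMap.comp_apply, ← LinearMap.lTensor_comp, hπ_sub_self]
    · intro h
      refine ⟨(π' i).lTensor V (ρ v), ?_⟩
      rw [← LinearMap.comp_apply, ← LinearMap.lTensor_comp]
      exact h
  have hmemV_other : ∀ i j (v : V), j ≠ i → v ∈ Vi j → (π i).lTensor V (ρ v) = 0 := by
    rintro i j v hji ⟨y, hy⟩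
    rw [← hy, ← LinearMap.comp_apply, ← LinearMap.lTensor_comp, hπ_sub_other i j hji,
      LinearMap.lTensor_zero, LinearMap.zero_apply]
  have hp_mem : ∀ i (v : V), p i v ∈ Vi i := by
    intro i v
    rw [hmemV, hI1, ← LinearMap.comp_apply, ← LinearMap.lTensor_comp]
    have : π i ∘ₗ π i = π i := LinearMap.ext fun c =>
      hπ_self i _ (Submodule.projection_apply_mem (hcompl i) c)
    rw [this]
  have hp_eq : ∀ i (v : V), p i v
      = (TensorProduct.rid R V) (ε.lTensor V ((π i).lTensor V (ρ v))) := by
    intro i v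
    show (TensorProduct.rid R V) (((ε ∘ₗ π i).lTensor V) (ρ v)) = _
    rw [LinearMap.lTensor_comp, LinearMap.comp_apply]
  have hcounit : ∀ v : V, (TensorProduct.rid R V) (ε.lTensor V (ρ v)) = v := by
    intro v
    have h := Groth.Agent.H40.counit_apply (k := R) (C := C) v
    rw [h, TensorProduct.rid_tmul, one_smul]
  have hp_self : ∀ i (v : V), v ∈ Vi i → p i v = v := by
    intro i v hv
    rw [hp_eq, (hmemV i v).mp hv, hcounit]
  have hp_other : ∀ i j (v : V), j ≠ i → v ∈ Vi j → p i v = 0 := by
    intro i j v hji hv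
    rw [hp_eq, hmemV_other i j v hji hv, map_zero, map_zero]
  -- finite decomposition
  have hdecC : ∀ c : C, ∃ s : Finset ι, (∀ i ∉ s, π i c = 0) ∧ c = ∑ i ∈ s, π i c := by
    intro c
    refine Submodule.iSup_induction D
      (motive := fun c => ∃ s : Finset ι, (∀ i ∉ s, π i c = 0) ∧ c = ∑ i ∈ s, π i c)
      (hall c) ?_ ?_ ?_
    · intro j d hd
      refine ⟨{j}, fun i hi => ?_, ?_⟩
      · have hij : j ≠ i := fun h => hi (by rw [h]; exact Finset.mem_singleton_self _)
        exact hπ_other i j d hij hd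
      · rw [Finset.sum_singleton, hπ_self j d hd]
    · exact ⟨∅, fun i _ => map_zero _, by simp⟩
    · rintro x y ⟨s, hs0, hs⟩ ⟨t, ht0, ht⟩
      refine ⟨s ∪ t, fun i hi => ?_, ?_⟩
      · rw [Finset.mem_union, not_or] at hi
        rw [map_add, hs0 i hi.1, ht0 i hi.2, add_zero]
      · have h1 : ∑ i ∈ s ∪ t, π i x = ∑ i ∈ s, π i x :=
          (Finset.sum_subset Finset.subset_union_left fun i _ hi => hs0 i hi).symm
        have h2 : ∑ i ∈ s ∪ t, π i y = ∑ i ∈ t, π i y :=
          (Finset.sum_subset Finset.subset_union_right fun i _ hi => ht0 i hi).symm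
        simp only [map_add, Finset.sum_add_distrib]
        rw [h1, h2, ← hs, ← ht]
  have hdecT : ∀ x : V ⊗[R] C, ∃ s : Finset ι, (∀ i ∉ s, (π i).lTensor V x = 0) ∧
      x = ∑ i ∈ s, (π i).lTensor V x := by
    intro x
    induction x using TensorProduct.induction_on with
    | zero => exact ⟨∅, fun i _ => map_zero _, by simp⟩
    | tmul v c =>
      obtain ⟨s, hs0, hs⟩ := hdecC c
      refine ⟨s, fun i hi => ?_, ?_⟩
      · rw [LinearMap.lTensor_tmul, hs0 i hi, TensorProduct.tmul_zero]
      · simp only [LinearMap.lTensor_tmul]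
        rw [← TensorProduct.tmul_sum, ← hs]
    | add x y hx hy =>
      obtain ⟨s, hs0, hs⟩ := hx
      obtain ⟨t, ht0, ht⟩ := hy
      refine ⟨s ∪ t, fun i hi => ?_, ?_⟩
      · rw [Finset.mem_union, not_or] at hi
        rw [map_add, hs0 i hi.1, ht0 i hi.2, add_zero]
      · have h1 : ∑ i ∈ s ∪ t, (π i).lTensor V x = ∑ i ∈ s, (π i).lTensor V x :=
          (Finset.sum_subset Finset.subset_union_left fun i _ hi => hs0 i hi).symm
        have h2 : ∑ i ∈ s ∪ t, (π i).lTensor V y = ∑ i ∈ t, (π i).lTensor V y :=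
          (Finset.sum_subset Finset.subset_union_right fun i _ hi => ht0 i hi).symm
        simp only [map_add, Finset.sum_add_distrib]
        rw [h1, h2, ← hs, ← ht]
  -- the four claims
  have c1 : ∀ i, HopfRep.IsSubcomod (k := R) (A := C) (Vi i) := by
    intro i v hv
    let pc : V →ₗ[R] Vi i := LinearMap.codRestrict (Vi i) (p i) (hp_mem i)
    refine ⟨pc.rTensor C (ρ v), ?_⟩
    rw [← LinearMap.comp_apply, ← LinearMap.rTensor_comp]
    have hpc : (Vi i).subtype ∘ₗ pc = p i := LinearMap.ext fun _ => rfl
    rw [hpc, hI2, (hmemV i v).mp hv]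
  have c2 : iSupIndep Vi := by
    intro i
    rw [Submodule.disjoint_def]
    intro v hv hv'
    have hle : (⨆ j ≠ i, Vi j) ≤ LinearMap.ker (p i) := by
      refine iSup₂_le fun j hji w hw => ?_
      exact hp_other i j w hji hw
    have h0 : p i v = 0 := hle hv'
    rw [← hp_self i v hv, h0]
  have c3 : (⨆ i, Vi i) = ⊤ := by
    rw [eq_top_iff]
    intro v _
    obtain ⟨s, -, hs⟩ := hdecT (ρ v)
    have hv : v = ∑ i ∈ s, p i v := by
      conv_lhs => rw [← hcounit v, hs]
      simp only [map_sum, hp_eq]
    rw [hv]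
    exact Submodule.sum_mem _ fun i _ => Submodule.mem_iSup_of_mem i (hp_mem i v)
  have c4 : ∀ i, ∀ v ∈ Vi i, ρ v ∈
      LinearMap.range (TensorProduct.map (Vi i).subtype (D i).subtype) := by
    intro i v hv
    let pc : V →ₗ[R] Vi i := LinearMap.codRestrict (Vi i) (p i) (hp_mem i)
    refine ⟨TensorProduct.map pc (π' i) (ρ v), ?_⟩
    rw [← LinearMap.comp_apply, ← TensorProduct.map_comp]
    have hpc : (Vi i).subtype ∘ₗ pc = p i := LinearMap.ext fun _ => rfl
    have hππ : (D i).subtype ∘ₗ π' i = π i := rfl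
    rw [hpc, hππ]
    have hsplit : TensorProduct.map (p i) (π i) = (p i).rTensor C ∘ₗ (π i).lTensor V := by
      rw [LinearMap.rTensor_comp_lTensor]
    rw [hsplit, LinearMap.comp_apply, (hmemV i v).mp hv, hI2, (hmemV i v).mp hv]
  exact ⟨c1, c2, c3, c4⟩

end Groth.Agent.S14844
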