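import Groth.Statements.S14845
-- import your own Groth.Agent.* helpers here

set_option autoImplicit false
open CategoryTheory CategoryTheory.Limits AlgebraicGeometry
universe u
open HilbD

namespace Groth.Agent.S14845


open CategoryTheory CategoryTheory.Limits AlgebraicGeometry

/-- the graph of an `S`-morphism `x : T ⟶ X`, as a section of `X_T ⟶ T`. -/
noncomputable abbrev gr {X S : Scheme.{u}} (f : X ⟶ S) (T : Over S) (x : T.left ⟶ X)
    (hx : x ≫ f = T.hom) : T.left ⟶ PicF.XT f T :=
  pullback.lift x (𝟙 T.left) (by simpa using hx)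

theorem secGraph_eq {X S : Scheme.{u}} (f : X ⟶ S) (T : Over S) (x : T.left ⟶ X)
    (hx : x ≫ f = T.hom) : HilbD.secGraph f T x hx = (gr f T x hx).ker := rfl

theorem gr_fst {X S : Scheme.{u}} (f : X ⟶ S) (T : Over S) (x : T.left ⟶ X)
    (hx : x ≫ f = T.hom) : gr f T x hx ≫ pullback.fst f T.hom = x := pullback.lift_fst _ _ _

theorem gr_snd {X S : Scheme.{u}} (f : X ⟶ S) (T : Over S) (x : T.left ⟶ X)
    (hx : x ≫ f = T.hom) : gr f T x hx ≫ pullback.snd f T.hom = 𝟙 T.left :=
  pullback.lift_snd _ _ _

theorem XTmap_fst {X S : Scheme.{u}} (f : X ⟶ S) {T T' : Over S} (g : T' ⟶ T) :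
    PicF.XTmap f g ≫ pullback.fst f T.hom = pullback.fst f T'.hom :=
  (pullback.lift_fst _ _ _).trans (Category.comp_id _)

theorem XTmap_snd {X S : Scheme.{u}} (f : X ⟶ S) {T T' : Over S} (g : T' ⟶ T) :
    PicF.XTmap f g ≫ pullback.snd f T.hom = pullback.snd f T'.hom ≫ g.left :=
  pullback.lift_snd _ _ _

/-- the graph of `g` is the base change of the diagonal. -/
theorem isPullback_graph {X S : Scheme.{u}} (f : X ⟶ S) (T : Over S) (g : T ⟶ Over.mk f) :
    IsPullback g.left (gr f T g.left (Over.w g))
      (gr f (Over.mk f) (𝟙 X) (Category.id_comp f)) (PicF.XTmap f g) := by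
  have w : g.left ≫ gr f (Over.mk f) (𝟙 X) (Category.id_comp f) =
      gr f T g.left (Over.w g) ≫ PicF.XTmap f g := by
    apply pullback.hom_ext
    · rw [Category.assoc, gr_fst, Category.assoc, XTmap_fst, gr_fst]
      exact Category.comp_id _
    · rw [Category.assoc, gr_snd, Category.assoc, XTmap_snd, ← Category.assoc, gr_snd,
        Category.id_comp]
      exact Category.comp_id _
  have fl : ∀ s : PullbackCone (gr f (Over.mk f) (𝟙 X) (Category.id_comp f)) (PicF.XTmap f g),
      (s.snd ≫ pullback.snd f T.hom) ≫ g.left = s.fst := by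
    intro s
    have h := s.condition =≫ pullback.snd f (Over.mk f).hom
    rw [Category.assoc, gr_snd, Category.assoc, XTmap_snd] at h
    rw [Category.assoc]
    exact h.symm.trans (Category.comp_id _)
  refine ⟨⟨w⟩, ⟨PullbackCone.IsLimit.mk _ (fun s => s.snd ≫ pullback.snd f T.hom) fl ?_ ?_⟩⟩
  · intro s
    have h1 := s.condition =≫ pullback.fst f (Over.mk f).hom
    rw [Category.assoc, gr_fst, Category.assoc, XTmap_fst] at h1
    apply pullback.hom_ext
    · rw [Category.assoc, gr_fst]
      exact (fl s).trans ((Category.comp_id _).symm.trans h1)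
    · rw [Category.assoc, gr_snd, Category.comp_id]
  · intro s m _ hm
    have := hm =≫ pullback.snd f T.hom
    rw [Category.assoc, gr_snd, Category.comp_id] at this
    exact this

/-- the kernel of a base change of the image inclusion of a closed immersion. -/
theorem ker_snd_eq {A Y Y' P : Scheme.{u}} (c : A ⟶ Y) [IsClosedImmersion c] (d : Y' ⟶ Y)
    (a : P ⟶ A) (b : P ⟶ Y') (sq : IsPullback a b c d) :
    (pullback.snd c.ker.subschemeι d).ker = b.ker := by
  have sqR : IsPullback c.toImage c c.ker.subschemeι (𝟙 Y) :=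
    IsPullback.of_horiz_isIso ⟨by rw [Scheme.Hom.toImage_imageι, Category.comp_id]⟩
  have sq' := sq.paste_horiz sqR
  rw [Category.comp_id] at sq'
  have h := sq'.isoPullback_hom_snd
  rw [← h, Scheme.Hom.ker_comp_of_isIso]

theorem exists_iso_of_ker_eq {A Y : Scheme.{u}} (a : A ⟶ Y) [IsClosedImmersion a]
    (I : Y.IdealSheafData) (h : a.ker = I) :
    ∃ e : A ⟶ I.subscheme, IsIso e ∧ e ≫ I.subschemeι = a := by
  subst h
  exact ⟨a.toImage, inferInstance, a.toImage_imageι⟩


/-- For a separated morphism f : X → S, the Hilbert functor of one point of X over S is represented by X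
with the diagonal as universal family: the diagonal of X ×_S X (the graph of the identity section of
X over itself) is a closed subscheme finite locally free of degree 1 over X, and every closed
subscheme of X ×_S T which is finite locally free of degree 1 over T is its base change along a
unique S-morphism T → X. (The published statement takes S Noetherian, f locally of finite type and
the Hilbert functor on locally Noetherian S-schemes with flat proper families of Hilbert polynomial
1; this row uses the functor of families finite locally free of degree 1 on all S-schemes, for which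
the same argument applies without Noetherian hypotheses.) -/
theorem result {X S : Scheme.{u}} (f : X ⟶ S) [IsSeparated f] :
    ∃ Δ : HilbD.Obj f 1 (Over.mk f),
      Δ.1 = HilbD.secGraph f (Over.mk f) (𝟙 X) (Category.id_comp f) ∧
      HilbD.IsUniversal f 1 (Over.mk f) Δ := by
  haveI hδ : IsClosedImmersion (gr f (Over.mk f) (𝟙 X) (Category.id_comp f)) :=
    inferInstanceAs (IsClosedImmersion (pullback.diagonal f))
  have hΔ : Mor2.IsFinLocFreeOfDeg 1
      ((HilbD.secGraph f (Over.mk f) (𝟙 X) (Category.id_comp f)).subschemeι ≫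
        PicF.XTproj f (Over.mk f)) := by
    rw [secGraph_eq]
    have e : (gr f (Over.mk f) (𝟙 X) (Category.id_comp f)).ker.subschemeι ≫
        PicF.XTproj f (Over.mk f) = inv (gr f (Over.mk f) (𝟙 X) (Category.id_comp f)).toImage := by
      rw [← cancel_epi (gr f (Over.mk f) (𝟙 X) (Category.id_comp f)).toImage, ← Category.assoc,
        Scheme.Hom.toImage_imageι, IsIso.hom_inv_id]
      exact pullback.lift_snd _ _ _
    rw [e]
    refine ⟨⟨inferInstance, inferInstance, inferInstance⟩, fun y => ?_⟩
    rw [Scheme.Hom.finrank_eq_one_of_isIso]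
    rfl
  refine ⟨⟨_, hΔ⟩, rfl, ?_⟩
  intro T Z'
  obtain ⟨I', ⟨hfin, hflat, hlfp⟩, hrk⟩ := Z'
  haveI := hfin
  haveI := hflat
  haveI hπ : IsIso (I'.subschemeι ≫ PicF.XTproj f T) :=
    (Scheme.Hom.isIso_iff_finrank_eq _).2 (funext hrk)
  have hg₀ : (inv (I'.subschemeι ≫ PicF.XTproj f T) ≫ I'.subschemeι ≫ pullback.fst f T.hom) ≫ f =
      T.hom := by
    rw [Category.assoc, Category.assoc, pullback.condition, ← Category.assoc I'.subschemeι,
      IsIso.inv_hom_id_assoc]
  -- the kernel of the graph of any `g'`
  have hpull : ∀ g' : T ⟶ Over.mk f,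
      HilbD.pull f g' (HilbD.secGraph f (Over.mk f) (𝟙 X) (Category.id_comp f)) =
        (gr f T g'.left (Over.w g')).ker := by
    intro g'
    rw [secGraph_eq]
    exact ker_snd_eq _ _ _ _ (isPullback_graph f T g')
  have hcl : ∀ g' : T ⟶ Over.mk f, IsClosedImmersion (gr f T g'.left (Over.w g')) := fun g' =>
    MorphismProperty.of_isPullback (P := @IsClosedImmersion) (isPullback_graph f T g') hδ
  refine ⟨Over.homMk (inv (I'.subschemeι ≫ PicF.XTproj f T) ≫ I'.subschemeι ≫
    pullback.fst f T.hom) hg₀, ?_, ?_⟩
  · show HilbD.pull f _ (HilbD.secGraph f (Over.mk f) (𝟙 X) (Category.id_comp f)) = I'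
    rw [hpull]
    have hF : gr f T (Over.homMk (inv (I'.subschemeι ≫ PicF.XTproj f T) ≫ I'.subschemeι ≫
        pullback.fst f T.hom) hg₀ : T ⟶ Over.mk f).left (Over.w _) =
        inv (I'.subschemeι ≫ PicF.XTproj f T) ≫ I'.subschemeι := by
      apply pullback.hom_ext
      · rw [gr_fst, Category.assoc]
        rfl
      · rw [gr_snd, Category.assoc]
        exact (IsIso.inv_hom_id _).symm
    rw [hF, Scheme.Hom.ker_comp_of_isIso, Scheme.IdealSheafData.ker_subschemeι]
  · intro g' hg'
    have hker : (gr f T g'.left (Over.w g')).ker = I' := by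
      rw [← hpull]
      exact hg'
    haveI := hcl g'
    obtain ⟨e, he, hee⟩ := exists_iso_of_ker_eq _ I' hker
    have h1 : e ≫ (I'.subschemeι ≫ PicF.XTproj f T) = 𝟙 _ := by
      rw [← Category.assoc, hee]
      exact pullback.lift_snd _ _ _
    have h2 : e = inv (I'.subschemeι ≫ PicF.XTproj f T) :=
      ((IsIso.eq_comp_inv _).2 h1).trans (Category.id_comp _)
    apply Over.OverMorphism.ext
    show g'.left = inv (I'.subschemeι ≫ PicF.XTproj f T) ≫ I'.subschemeι ≫ pullback.fst f T.hom
    rw [← h2, ← Category.assoc, hee]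
    exact (pullback.lift_fst _ _ _).symm

end Groth.Agent.S14845
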