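import Groth.Statements.S14846
import Groth.Agent.H86.GaloisIdeal

set_option autoImplicit false
universe u v w
open Brauer

namespace Groth.Agent.S14846

open TensorProduct in
/-- Let L/K be a Galois extension with group Γ = Aut_K(L), and A a K-algebra which is a simple ring. If
L ⊗_K A is semisimple, then Γ, acting on L ⊗_K A through the first tensor factor, permutes its
simple components, i.e. its minimal nonzero two-sided ideals, transitively: any minimal two-sided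
ideal is carried onto any other by some γ ⊗ id. -/
theorem result
    {K : Type u} {L : Type v} [Field K] [Field L] [Algebra K L] [IsGalois K L]
    {A : Type w} [Ring A] [Algebra K A] [IsSimpleRing A]
    [IsSemisimpleRing (L ⊗[K] A)]
    (I J : TwoSidedIdeal (L ⊗[K] A)) (hI : IsAtom I) (hJ : IsAtom J) :
    ∃ γ : L ≃ₐ[K] L, (J : Set (L ⊗[K] A)) =
      Algebra.TensorProduct.map (γ : L →ₐ[K] L) (AlgHom.id K A) '' (I : Set (L ⊗[K] A)) := by
  classical
  by_contra hcon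
  push Not at hcon
  -- nonzero elements of the atoms
  obtain ⟨y₀, hy₀I, hy₀⟩ : ∃ y ∈ I, y ≠ 0 := by
    obtain ⟨y, hy, hy'⟩ := SetLike.exists_of_lt (bot_lt_iff_ne_bot.mpr hI.1)
    exact ⟨y, hy, fun h => hy' (by rw [TwoSidedIdeal.mem_bot]; exact h)⟩
  obtain ⟨x₀, hx₀J, hx₀⟩ : ∃ x ∈ J, x ≠ 0 := by
    obtain ⟨y, hy, hy'⟩ := SetLike.exists_of_lt (bot_lt_iff_ne_bot.mpr hJ.1)
    exact ⟨y, hy, fun h => hy' (by rw [TwoSidedIdeal.mem_bot]; exact h)⟩
  -- Claim 1: `J` annihilates every twist of `I`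
  have claim1 : ∀ (γ : L ≃ₐ[K] L), ∀ x ∈ J, ∀ y, Groth.Agent.H86.GaloisIdeal.Φ γ y ∈ I → x * y = 0 := by
    intro γ x hx y hy
    by_contra hxy
    let Iγ : TwoSidedIdeal (L ⊗[K] A) := TwoSidedIdeal.comap (Groth.Agent.H86.GaloisIdeal.Φ γ) I
    have hmemI : x * y ∈ Iγ := by
      rw [TwoSidedIdeal.mem_comap, map_mul]
      exact I.mul_mem_left _ _ hy
    have hmemJ : x * y ∈ J := J.mul_mem_right _ _ hx
    have hT : J ⊓ Iγ ≠ ⊥ := by
      intro h
      have h1 : x * y ∈ J ⊓ Iγ := by rw [TwoSidedIdeal.mem_inf]; exact ⟨hmemJ, hmemI⟩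
      rw [h, TwoSidedIdeal.mem_bot] at h1
      exact hxy h1
    have hJle : J ≤ Iγ := by
      rcases hJ.le_iff.mp (inf_le_left : J ⊓ Iγ ≤ J) with h | h
      · exact absurd h hT
      · exact inf_eq_left.mp h
    -- `J' = {w | Φ γ⁻¹ w ∈ J}` is a nonzero ideal inside `I`
    let J' : TwoSidedIdeal (L ⊗[K] A) := TwoSidedIdeal.comap (Groth.Agent.H86.GaloisIdeal.Φ γ⁻¹) J
    have hJ'le : J' ≤ I := by
      intro w hw
      rw [TwoSidedIdeal.mem_comap] at hw
      have h1 := hJle hw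
      rw [TwoSidedIdeal.mem_comap, Groth.Agent.H86.GaloisIdeal.Φ_Φ_inv] at h1
      exact h1
    have hJ'ne : J' ≠ ⊥ := by
      intro h
      have h1 : Groth.Agent.H86.GaloisIdeal.Φ γ x₀ ∈ J' := by
        rw [TwoSidedIdeal.mem_comap, Groth.Agent.H86.GaloisIdeal.Φ_inv_Φ]
        exact hx₀J
      rw [h, TwoSidedIdeal.mem_bot] at h1
      apply hx₀
      have h2 := congrArg (Groth.Agent.H86.GaloisIdeal.Φ γ⁻¹) h1
      rwa [Groth.Agent.H86.GaloisIdeal.Φ_inv_Φ, map_zero] at h2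
    have hJ'I : J' = I := by
      rcases hI.le_iff.mp hJ'le with h | h
      · exact absurd h hJ'ne
      · exact h
    apply hcon γ⁻¹
    ext w
    constructor
    · intro hw
      refine ⟨Groth.Agent.H86.GaloisIdeal.Φ γ w, ?_, Groth.Agent.H86.GaloisIdeal.Φ_inv_Φ γ w⟩
      have h1 : Groth.Agent.H86.GaloisIdeal.Φ γ w ∈ J' := by
        rw [TwoSidedIdeal.mem_comap, Groth.Agent.H86.GaloisIdeal.Φ_inv_Φ]
        exact hw
      rw [hJ'I] at h1
      exact h1
    · rintro ⟨v, hv, rfl⟩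
      have h1 : v ∈ J' := by rw [hJ'I]; exact hv
      rw [TwoSidedIdeal.mem_comap] at h1
      exact h1
  -- the annihilator predicate
  have h1P : (1 : L ⊗[K] A) ∈ {x : L ⊗[K] A | ∀ (γ : L ≃ₐ[K] L) (y : L ⊗[K] A),
      Groth.Agent.H86.GaloisIdeal.Φ γ y ∈ I → x * y = 0} := by
    refine Groth.Agent.H86.GaloisIdeal.one_mem_of_stable _ ?_ ?_ ?_ ?_ ?_ ?_ x₀ ?_ hx₀
    · intro γ y _
      exact zero_mul y
    · intro x x' hx hx' γ y hy
      rw [add_mul, hx γ y hy, hx' γ y hy, add_zero]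
    · intro x hx γ y hy
      rw [neg_mul, hx γ y hy, neg_zero]
    · intro r x hx γ y hy
      rw [mul_assoc, hx γ y hy, mul_zero]
    · intro r x hx γ y hy
      rw [mul_assoc]
      apply hx γ
      rw [map_mul]
      exact I.mul_mem_left _ _ hy
    · intro δ x hx γ y hy
      have h1 : x * Groth.Agent.H86.GaloisIdeal.Φ δ⁻¹ y = 0 := by
        apply hx (γ * δ)
        rw [← Groth.Agent.H86.GaloisIdeal.Φ_mul, Groth.Agent.H86.GaloisIdeal.Φ_Φ_inv]
        exact hy
      have h2 := congrArg (Groth.Agent.H86.GaloisIdeal.Φ δ) h1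
      rwa [map_mul, Groth.Agent.H86.GaloisIdeal.Φ_Φ_inv, map_zero] at h2
    · intro γ y hy
      exact claim1 γ x₀ hx₀J y hy
  have h2 := h1P 1 y₀ (by rw [Groth.Agent.H86.GaloisIdeal.Φ_one]; exact hy₀I)
  rw [one_mul] at h2
  exact hy₀ h2

end Groth.Agent.S14846
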