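import Groth.Statements.S14848
import Mathlib
import Groth.Agent.H74.SL2
-- import your own Groth.Agent.* helpers here

set_option autoImplicit false
universe u v
open McKay

namespace Groth.Agent.S14848

/-- Let K be a field of characteristic zero, L an extension field of K and ξ ∈ L a primitive n-th root
of unity (n ≥ 1) with ξ + ξ⁻¹ ∈ K, say ξ + ξ⁻¹ = 2c with c ∈ K (the character of the natural
two-dimensional representation of the cyclic group of order n takes values in K). Then the cyclic
group of order n is realisable over K as a subgroup of SL(2, K): there is an element of SL(2, K) of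
order n. -/
theorem result {K : Type u} {L : Type v} [Field K] [Field L]
    [CharZero K] [Algebra K L] (n : ℕ) (hn : 1 ≤ n) (ξ : L) (hξ : IsPrimitiveRoot ξ n) (c : K)
    (hc : algebraMap K L (2 * c) = ξ + ξ⁻¹) :
    ∃ M : Matrix.SpecialLinearGroup (Fin 2) K, orderOf M = n := by
  have hn0 : n ≠ 0 := by omega
  have hξ0 : ξ ≠ 0 := hξ.ne_zero hn0
  by_cases h2 : ξ ^ 2 = 1
  · have hn2 : n ∣ 2 := (hξ.pow_eq_one_iff_dvd 2).mp h2
    have hle : n ≤ 2 := Nat.le_of_dvd (by norm_num) hn2
    have hcases : n = 1 ∨ n = 2 := by omega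
    rcases hcases with rfl | rfl
    · exact ⟨1, orderOf_one⟩
    · have hM : ∃ M : Matrix.SpecialLinearGroup (Fin 2) K,
          (M : Matrix (Fin 2) (Fin 2) K) = !![-1, 0; 0, -1] :=
        ⟨⟨!![-1, 0; 0, -1], by simp [Matrix.det_fin_two_of]⟩, rfl⟩
      obtain ⟨M, hM⟩ := hM
      refine ⟨M, ?_⟩
      apply orderOf_eq_prime
      · apply Subtype.ext
        rw [Matrix.SpecialLinearGroup.coe_pow, Matrix.SpecialLinearGroup.coe_one, hM,
          pow_two, Matrix.mul_fin_two, Matrix.one_fin_two]
        simp
      · intro h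
        have h' := congrArg Subtype.val h
        rw [Matrix.SpecialLinearGroup.coe_one] at h'
        change (M : Matrix (Fin 2) (Fin 2) K) = 1 at h'
        rw [hM] at h'
        have h00 : (!![-1, 0; 0, -1] : Matrix (Fin 2) (Fin 2) K) 0 0
            = (1 : Matrix (Fin 2) (Fin 2) K) 0 0 := congr_fun (congr_fun h' 0) 0
        rw [Matrix.one_apply_eq] at h00
        have h00' : (-1 : K) = 1 := h00
        have h20 : (2 : K) = 0 := by linear_combination (-1 : K) * h00'
        exact two_ne_zero h20
  · refine ⟨Groth.Agent.H74.SL2.σ c, ?_⟩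
    rw [Groth.Agent.H74.SL2.orderOf_σ ξ hξ0 h2 c hc, ← hξ.eq_orderOf]

end Groth.Agent.S14848
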