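import Groth.Statements.S14850
import Mathlib
import Groth.Agent.H74.Coeff3
-- import your own Groth.Agent.* helpers here

set_option autoImplicit false
universe u v
open HopfRep

namespace Groth.Agent.S14850

open TensorProduct in
/-- Over a field K, a nonzero coalgebra C is simple if and only if C is isotypic as a right comodule
over itself, i.e. C is the internal direct sum of the images of a family of injective comodule maps
from one simple right C-comodule E. Here a subcoalgebra of C is a subspace B whose comultiplication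
lands in the image of B ⊗ B, and C is simple when its only subcoalgebras are 0 and C. (Stated for
the right regular comodule; the published statement allows left or right.) -/
theorem result {K : Type u} {C : Type v} [Field K] [AddCommGroup C]
    [Module K C] [Coalgebra K C] [Nontrivial C] :
    (∀ B : Submodule K C, (∀ b ∈ B, CoalgebraStruct.comul (R := K) b ∈ LinearMap.range (TensorProduct.map B.subtype B.subtype)) → B = ⊥ ∨ B = ⊤) ↔
    ∃ (E : Type v) (_ : AddCommGroup E) (_ : Module K E) (_ : HopfRep.Comod K C E),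
      HopfRep.IsSimpleComod K C E ∧
      ∃ (ι : Type v) (f : ι → (E →ₗ[K] C)),
        (∀ i, Hoch.IsComodHom C (f i) ∧ Function.Injective (f i)) ∧
        iSupIndep (fun i => LinearMap.range (f i)) ∧ (⨆ i, LinearMap.range (f i)) = ⊤ := by
  constructor
  · intro hsimple
    obtain ⟨N, -, hN⟩ := Groth.Agent.H74.Coeff.exists_isSimpleSub_le (k := K) (C := C) (V := C)
      (W := (⊤ : Submodule K C))
      Groth.Agent.H93.isSubcomod_top (top_ne_bot (α := Submodule K C))
    have hcf : Groth.Agent.H74.Coeff.coeffOn (C := C) (V := C) N = ⊤ := by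
      rcases hsimple _ (Groth.Agent.H74.Coeff.isSubcoalg_coeffOn hN.1) with h | h
      · exact absurd ((Groth.Agent.H74.Coeff.coeffOn_eq_bot_iff N).mp h) hN.2.1
      · exact h
    letI instN : HopfRep.Comod K C N := Groth.Agent.H62.subComod N hN.1
    have hNsimple : HopfRep.IsSimpleComod K C N := Groth.Agent.H74.Coeff.isSimpleComod_sub hN
    refine ⟨N, inferInstance, inferInstance, instN, hNsimple, ?_⟩
    have hcf' : Groth.Agent.H74.Coeff.coeffOn (C := C) (⊤ : Submodule K N) = ⊤ := by
      rw [← Groth.Agent.H74.Coeff.coeffOn_eq_coeffOn_sub_top hN.1]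
      exact hcf
    let S : {φ : N →ₗ[K] K // Groth.Agent.H74.Coeff.coeffMap (C := C) φ ≠ 0} → Submodule K C :=
      fun φ => LinearMap.range (Groth.Agent.H74.Coeff.coeffMap (C := C) φ.1)
    have hS : ∀ φ, Groth.Agent.H74.Coeff.IsSimpleSub C (S φ) := fun φ =>
      Groth.Agent.H74.Coeff.isSimpleSub_range hNsimple (Groth.Agent.H74.Coeff.isComodHom_coeffMap φ.1) φ.2
    have hsum : ⨆ φ, S φ = ⊤ := by
      rw [eq_top_iff, ← hcf']
      simp only [Groth.Agent.H74.Coeff.coeffOn, Submodule.map_top]
      refine iSup_le fun φ => ?_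
      by_cases h0 : Groth.Agent.H74.Coeff.coeffMap (C := C) φ = 0
      · rw [h0, LinearMap.range_zero]
        exact bot_le
      · exact le_iSup S ⟨φ, h0⟩
    obtain ⟨s, hind, -, hsup, hs⟩ := Groth.Agent.S7972.exists_set K C C S (fun φ => (hS φ).1)
      (fun φ => (hS φ).2) hsum ⊥ Groth.Agent.H93.isSubcomod_bot
    rw [bot_sup_eq] at hsup
    choose σ hσ using hs
    have hfun : (fun a : s => LinearMap.range (Groth.Agent.H74.Coeff.coeffMap (C := C) (σ a.1 a.2).1)) =
        fun a : s => a.1 := funext fun a => hσ a.1 a.2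
    refine ⟨s, fun a => Groth.Agent.H74.Coeff.coeffMap (C := C) (σ a.1 a.2).1, ?_, ?_, ?_⟩
    · intro a
      exact ⟨Groth.Agent.H74.Coeff.isComodHom_coeffMap _,
        Groth.Agent.H74.Coeff.injective_of_ne_zero hNsimple (Groth.Agent.H74.Coeff.isComodHom_coeffMap _) (σ a.1 a.2).2⟩
    · rw [hfun]
      exact (sSupIndep_iff s).mp hind
    · rw [hfun, ← sSup_eq_iSup']
      exact hsup
  · rintro ⟨E, iE1, iE2, iE3, hE, ι, f, hf, -, hsum⟩ B hB
    by_cases hB0 : B = ⊥
    · exact Or.inl hB0
    · right
      have hBs : Groth.Agent.H74.Coeff.IsSubcoalg B := hB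
      obtain ⟨N, hNB, hN⟩ := Groth.Agent.H74.Coeff.exists_isSimpleSub_le (C := C) hBs.isSubcomod hB0
      obtain ⟨i, g, hg, hginj, hgr⟩ := Groth.Agent.H74.Coeff.exists_comodHom_range_eq (C := C)
        (fun _ : ι => E) (fun _ => hE) f (fun i => (hf i).1) hN (by rw [hsum]; exact le_top)
      have hcfN : Groth.Agent.H74.Coeff.coeffOn (C := C) (V := C) N ≤ B := Groth.Agent.H74.Coeff.coeffOn_le_of_le_isSubcoalg hBs hNB
      rw [eq_top_iff, ← hsum]
      refine iSup_le fun i' => ?_
      calc LinearMap.range (f i')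
          ≤ Groth.Agent.H74.Coeff.coeffOn (C := C) (V := C) (LinearMap.range (f i')) := Groth.Agent.H74.Coeff.le_coeffOn_regular _
        _ = Groth.Agent.H74.Coeff.coeffOn (C := C) (⊤ : Submodule K E) := Groth.Agent.H74.Coeff.coeffOn_range_eq (hf i').1 (hf i').2
        _ = Groth.Agent.H74.Coeff.coeffOn (C := C) (V := C) N := by rw [← hgr, Groth.Agent.H74.Coeff.coeffOn_range_eq hg hginj]
        _ ≤ B := hcfN

end Groth.Agent.S14850
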