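import Groth.Statements.S14851
import Groth.Agent.H93.Coeff

set_option autoImplicit false
universe u v w w'
open HopfRep

namespace Groth.Agent.S14851

open TensorProduct in
/-- The map E ↦ C(E) from isomorphism classes of simple comodules to simple subcoalgebras is injective,
that is: over a field K, two simple right comodules E, E' over a coalgebra C with the same
coefficient space D (the least subspace D' of C such that the coaction lands in E ⊗ D', resp. E' ⊗
D') are isomorphic as comodules. (The published statement is made for a cosemisimple coalgebra and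
for left comodules; the printed argument for this part uses neither restriction.) -/
theorem result {K : Type u} {C : Type v} [Field K]
    [AddCommGroup C] [Module K C] [Coalgebra K C]
    {E : Type w} [AddCommGroup E] [Module K E] [HopfRep.Comod K C E]
    {E' : Type w'} [AddCommGroup E'] [Module K E'] [HopfRep.Comod K C E']
    (hE : HopfRep.IsSimpleComod K C E) (hE' : HopfRep.IsSimpleComod K C E') (D : Submodule K C)
    (hD : IsLeast {D' : Submodule K C |
      ∀ e : E, HopfRep.Comod.coact (k := K) (A := C) e ∈ LinearMap.range (LinearMap.lTensor E D'.subtype)} D)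
    (hD' : IsLeast {D' : Submodule K C |
      ∀ e : E', HopfRep.Comod.coact (k := K) (A := C) e ∈ LinearMap.range (LinearMap.lTensor E' D'.subtype)} D) :
    ∃ e : E ≃ₗ[K] E', Hoch.IsComodHom C e.toLinearMap := by
  haveI := hE'.1
  have hD1 := Groth.Agent.H93.eq_coeffSpace_of_isLeast hD
  have hD2 := Groth.Agent.H93.eq_coeffSpace_of_isLeast hD'
  have hne : Groth.Agent.H93.coeffSpace K C E' ≠ ⊥ := Groth.Agent.H93.coeffSpace_ne_bot
  have hex : ∃ φ' : E' →ₗ[K] K, Groth.Agent.H93.coefMap (C := C) φ' ≠ 0 := by
    by_contra hcon
    rw [not_exists] at hcon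
    apply hne
    rw [eq_bot_iff]
    refine iSup_le fun φ => ?_
    have := not_not.mp (hcon φ)
    rw [this, LinearMap.range_zero]
  obtain ⟨φ', hφ'⟩ := hex
  have hle : LinearMap.range (Groth.Agent.H93.coefMap (C := C) φ') ≤
      ⨆ φ : E →ₗ[K] K, LinearMap.range (Groth.Agent.H93.coefMap (C := C) φ) := by
    have h1 : LinearMap.range (Groth.Agent.H93.coefMap (C := C) φ') ≤
        Groth.Agent.H93.coeffSpace K C E' :=
      le_iSup (fun φ : E' →ₗ[K] K => LinearMap.range (Groth.Agent.H93.coefMap (C := C) φ)) φ'
    rw [← hD2, hD1] at h1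
    exact h1
  obtain ⟨φ, e, he⟩ := Groth.Agent.H93.exists_iso_of_range_le_iSup (V := C)
    (K := fun _ : E →ₗ[K] K => E) (fun _ => hE) (fun φ => Groth.Agent.H93.coefMap (C := C) φ)
    (fun φ => Groth.Agent.H93.isComodHom_coefMap φ) E' hE' (Groth.Agent.H93.coefMap (C := C) φ')
    (Groth.Agent.H93.isComodHom_coefMap φ') hφ' hle
  exact ⟨e.symm, Groth.Agent.H93.isComodHom_symm e he⟩

end Groth.Agent.S14851
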