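import Groth.Statements.S14852
import Mathlib
import Groth.Agent.H74.Coeff
import Groth.Agent.H93.Comod
-- import your own Groth.Agent.* helpers here

set_option autoImplicit false
universe u v w w'
open HopfRep

namespace Groth.Agent.S14852

open TensorProduct in
/-- Over a field K, let C be a cosemisimple coalgebra and D₁ ≠ D₂ simple subcoalgebras of C. If V is a
right C-comodule whose coaction lands in V ⊗ D₁ and W one whose coaction lands in W ⊗ D₂, then the
only comodule map V → W is zero. Here a subcoalgebra of C is a subspace B whose comultiplication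
lands in the image of B ⊗ B, and a simple subcoalgebra is a nonzero subcoalgebra D whose only
subcoalgebras contained in D are 0 and D; cosemisimple means C is the internal direct sum of a
family of simple subcoalgebras. (The published statement is for quasi-coherent G-sheaves on a scheme
with trivial action of G = Spec C; this row is the statement on spaces of sections to which its
proof reduces.) -/
theorem result {K : Type u} {C : Type v} [Field K]
    [AddCommGroup C] [Module K C] [Coalgebra K C]
    (hC : ∃ (ι : Type v) (D : ι → Submodule K C), iSupIndep D ∧ iSup D = ⊤ ∧ ∀ i,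
        D i ≠ ⊥ ∧ (∀ b ∈ (D i), CoalgebraStruct.comul (R := K) b ∈ LinearMap.range (TensorProduct.map (D i).subtype (D i).subtype)) ∧
        ∀ B : Submodule K C, B ≤ D i → (∀ b ∈ B, CoalgebraStruct.comul (R := K) b ∈ LinearMap.range (TensorProduct.map B.subtype B.subtype)) → B = ⊥ ∨ B = D i)
    (D₁ D₂ : Submodule K C) (hne : D₁ ≠ D₂)
    (h₁ : D₁ ≠ ⊥ ∧ (∀ b ∈ D₁, CoalgebraStruct.comul (R := K) b ∈ LinearMap.range (TensorProduct.map D₁.subtype D₁.subtype)) ∧ ∀ B : Submodule K C, B ≤ D₁ → (∀ b ∈ B, CoalgebraStruct.comul (R := K) b ∈ LinearMap.range (TensorProduct.map B.subtype B.subtype)) → B = ⊥ ∨ B = D₁)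
    (h₂ : D₂ ≠ ⊥ ∧ (∀ b ∈ D₂, CoalgebraStruct.comul (R := K) b ∈ LinearMap.range (TensorProduct.map D₂.subtype D₂.subtype)) ∧ ∀ B : Submodule K C, B ≤ D₂ → (∀ b ∈ B, CoalgebraStruct.comul (R := K) b ∈ LinearMap.range (TensorProduct.map B.subtype B.subtype)) → B = ⊥ ∨ B = D₂)
    {V : Type w} [AddCommGroup V] [Module K V] [HopfRep.Comod K C V]
    {W : Type w'} [AddCommGroup W] [Module K W] [HopfRep.Comod K C W]
    (hV : ∀ v : V, HopfRep.Comod.coact (k := K) (A := C) v ∈ LinearMap.range (LinearMap.lTensor V D₁.subtype))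
    (hW : ∀ w : W, HopfRep.Comod.coact (k := K) (A := C) w ∈ LinearMap.range (LinearMap.lTensor W D₂.subtype))
    (φ : V →ₗ[K] W) (hφ : Hoch.IsComodHom C φ) : φ = 0 := by
  obtain ⟨hD1ne, hD1sub, hD1s⟩ := h₁
  obtain ⟨hD2ne, hD2sub, hD2s⟩ := h₂
  have hN : HopfRep.IsSubcomod (k := K) (A := C) (LinearMap.range φ) :=
    Groth.Agent.H93.isSubcomod_range hφ
  have hB : Groth.Agent.H74.Coeff.IsSubcoalg
      (Groth.Agent.H74.Coeff.coeffOn (C := C) (LinearMap.range φ)) :=
    Groth.Agent.H74.Coeff.isSubcoalg_coeffOn hN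
  have hB2 : Groth.Agent.H74.Coeff.coeffOn (C := C) (LinearMap.range φ) ≤ D₂ := by
    rw [Groth.Agent.H74.Coeff.coeffOn_le_iff]
    intro w _
    exact hW w
  have hB1 : Groth.Agent.H74.Coeff.coeffOn (C := C) (LinearMap.range φ) ≤ D₁ := by
    have h1 : Groth.Agent.H74.Coeff.coeffOn (C := C) (LinearMap.range φ)
        ≤ Groth.Agent.H74.Coeff.coeffOn (C := C) (⊤ : Submodule K V) := by
      rw [← Submodule.map_top]
      exact Groth.Agent.H74.Coeff.coeffOn_map_le hφ ⊤
    refine h1.trans ?_
    rw [Groth.Agent.H74.Coeff.coeffOn_le_iff]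
    intro v _
    exact hV v
  rcases hD1s _ hB1 hB with h | h
  · have hr : LinearMap.range φ = ⊥ := (Groth.Agent.H74.Coeff.coeffOn_eq_bot_iff _).mp h
    exact LinearMap.range_eq_bot.mp hr
  · rcases hD2s _ hB2 hB with h' | h'
    · exact absurd (h.symm.trans h') hD1ne
    · exact absurd (h.symm.trans h') hne

end Groth.Agent.S14852
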