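import Groth.Statements.S14856
import Mathlib
-- import your own Groth.Agent.* helpers here

set_option autoImplicit false
universe u
open CAlg

namespace Groth.Agent.S14856

/-- Let p be a prime and S a commutative ring in which p is a non-zero-divisor. For a p-typical Witt
vector x over S, a natural number m and an integer s ≥ 1, the power p^s divides each of the Witt
components x_0, …, x_m if and only if p^(n+s) divides the n-th ghost component w_n(x) = x_0^(p^n) +
p x_1^(p^(n-1)) + ⋯ + p^n x_n for every n ≤ m. -/
theorem result (p : ℕ) [Fact p.Prime] (S : Type u) [CommRing S]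
    (hS : ∀ y : S, (p : S) * y = 0 → y = 0) (x : WittVector p S) (m s : ℕ) (hs : 1 ≤ s) :
    (∀ i ≤ m, (p : S) ^ s ∣ x.coeff i) ↔
      (∀ n ≤ m, (p : S) ^ (n + s) ∣ WittVector.ghostComponent n x) := by
  have hp2 : 1 < p := (Fact.out : p.Prime).one_lt
  have ghost_eq : ∀ n, WittVector.ghostComponent n x =
      ∑ i ∈ Finset.range (n + 1), (p : S) ^ i * x.coeff i ^ (p ^ (n - i)) := by
    intro n
    rw [WittVector.ghostComponent_apply, wittPolynomial_eq_sum_C_mul_X_pow, map_sum]
    refine Finset.sum_congr rfl fun i _ => ?_
    simp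
  have hineq : ∀ k : ℕ, s + k ≤ s * p ^ k := by
    intro k
    have h1 : k + 1 ≤ p ^ k := Nat.lt_pow_self hp2
    have h2 : s * (k + 1) ≤ s * p ^ k := Nat.mul_le_mul_left s h1
    have h3 : k ≤ s * k := Nat.le_mul_of_pos_left k hs
    nlinarith
  have term_dvd : ∀ (i k : ℕ) (a : S), (p : S) ^ s ∣ a →
      (p : S) ^ (i + (s + k)) ∣ (p : S) ^ i * a ^ (p ^ k) := by
    intro i k a ha
    rw [pow_add]
    refine mul_dvd_mul (dvd_refl _) ?_
    have h1 : ((p : S) ^ s) ^ (p ^ k) ∣ a ^ (p ^ k) := pow_dvd_pow_of_dvd ha _
    rw [← pow_mul] at h1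
    exact (pow_dvd_pow (p : S) (hineq k)).trans h1
  have hzero : ∀ (k : ℕ) (y : S), (p : S) ^ k * y = 0 → y = 0 := by
    intro k
    induction k with
    | zero => intro y h; simpa using h
    | succ k ih =>
      intro y h
      apply ih
      apply hS
      rw [← h]
      ring
  constructor
  · intro h n hn
    rw [ghost_eq]
    apply Finset.dvd_sum
    intro i hi
    have hin : i ≤ n := Nat.lt_succ_iff.mp (Finset.mem_range.mp hi)
    have h1 := term_dvd i (n - i) (x.coeff i) (h i (hin.trans hn))
    have h2 : i + (s + (n - i)) = n + s := by omega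
    rw [h2] at h1
    exact h1
  · intro h i
    induction i using Nat.strong_induction_on with
    | _ i ih =>
      intro him
      have hw := h i him
      rw [ghost_eq, Finset.sum_range_succ] at hw
      have hsum : (p : S) ^ (i + s) ∣
          ∑ j ∈ Finset.range i, (p : S) ^ j * x.coeff j ^ p ^ (i - j) := by
        apply Finset.dvd_sum
        intro j hj
        have hji := Finset.mem_range.mp hj
        have h1 := term_dvd j (i - j) (x.coeff j) (ih j hji (hji.le.trans him))
        have h2 : j + (s + (i - j)) = i + s := by omega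
        rw [h2] at h1
        exact h1
      have hlast : (p : S) ^ (i + s) ∣ (p : S) ^ i * x.coeff i := by
        have h1 := (dvd_add_right hsum).mp hw
        rw [Nat.sub_self, pow_zero, pow_one] at h1
        exact h1
      obtain ⟨y, hy⟩ := hlast
      refine ⟨y, ?_⟩
      have h0 : (p : S) ^ i * (x.coeff i - (p : S) ^ s * y) = 0 := by
        rw [mul_sub, hy, pow_add]
        ring
      exact sub_eq_zero.mp (hzero i _ h0)

end Groth.Agent.S14856
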