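import Groth.Statements.S14862
import Mathlib

set_option autoImplicit false
set_option linter.style.haveILetI false
set_option linter.unusedSectionVars false
set_option linter.unusedVariables false
universe u
open CAlg

namespace Groth.Agent.S14862

section Helpers

variable (p : ℕ) [hp : Fact p.Prime] (S : Type u) [CommRing S]

/-- reduction to length-`r` Witt vectors over `S / p^t`. -/
noncomputable def phi (r t : ℕ) :
    WittVector p S →+* TruncatedWittVector p r (S ⧸ Ideal.span {(p : S) ^ t}) :=
  (WittVector.truncate (p := p) r).comp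
    (WittVector.map (p := p) (Ideal.Quotient.mk (Ideal.span {(p : S) ^ t})))

theorem phi_eq_iff (r t : ℕ) (a b : WittVector p S) :
    phi p S r t a = phi p S r t b ↔ ∀ n < r, (p : S) ^ t ∣ a.coeff n - b.coeff n := by
  constructor
  · intro h n hn
    have h2 := congrArg (fun w => TruncatedWittVector.coeff ⟨n, hn⟩ w) h
    simp only [phi, RingHom.comp_apply, WittVector.coeff_truncate, WittVector.map_coeff] at h2
    rwa [Ideal.Quotient.eq, Ideal.mem_span_singleton] at h2
  · intro h
    apply TruncatedWittVector.ext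
    intro i
    simp only [phi, RingHom.comp_apply, WittVector.coeff_truncate, WittVector.map_coeff]
    rw [Ideal.Quotient.eq, Ideal.mem_span_singleton]
    exact h i i.2

theorem phi_zero_iff (r t : ℕ) (a : WittVector p S) :
    phi p S r t a = 0 ↔ ∀ n < r, (p : S) ^ t ∣ a.coeff n := by
  have h := phi_eq_iff p S r t a 0
  rw [map_zero] at h
  rw [h]
  constructor
  · intro h2 n hn
    have := h2 n hn
    rwa [WittVector.zero_coeff, sub_zero] at this
  · intro h2 n hn
    rw [WittVector.zero_coeff, sub_zero]
    exact h2 n hn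

theorem phi_mono {r t r' t' : ℕ} (hr : r' ≤ r) (ht : t' ≤ t) (a : WittVector p S)
    (h : phi p S r t a = 0) : phi p S r' t' a = 0 := by
  rw [phi_zero_iff] at h ⊢
  intro n hn
  exact dvd_trans (pow_dvd_pow _ ht) (h n (lt_of_lt_of_le hn hr))

theorem phi_of_mem (u r s : ℕ) (x : WittVector p S)
    (hx : x ∈ Ideal.span {(p : WittVector p S) ^ u} ⊔
      RingHom.ker (WittVector.truncate (p := p) (R := S) r) ⊔
      RingHom.ker (WittVector.map (p := p) (Ideal.Quotient.mk (Ideal.span {(p : S) ^ s})))) :
    ∃ a : WittVector p S, phi p S r s (x - (p : WittVector p S) ^ u * a) = 0 := by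
  obtain ⟨y, hy, c, hc, rfl⟩ := Submodule.mem_sup.1 hx
  obtain ⟨d, hd, b, hb, rfl⟩ := Submodule.mem_sup.1 hy
  obtain ⟨a, rfl⟩ := Ideal.mem_span_singleton'.1 hd
  refine ⟨a, ?_⟩
  have e : a * (p : WittVector p S) ^ u + b + c - (p : WittVector p S) ^ u * a = b + c := by ring
  rw [e, map_add]
  have hb0 : phi p S r s b = 0 := by
    rw [phi_zero_iff]
    intro n hn
    rw [(WittVector.mem_ker_truncate r b).1 hb n hn]
    exact dvd_zero _
  have hc0 : phi p S r s c = 0 := by
    have : WittVector.map (p := p) (Ideal.Quotient.mk (Ideal.span {(p : S) ^ s})) c = 0 := hc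
    simp only [phi, RingHom.comp_apply, this, map_zero]
  rw [hb0, hc0, add_zero]

theorem ghost_eq (n : ℕ) (z : WittVector p S) :
    WittVector.ghostComponent (p := p) n z =
      ∑ i ∈ Finset.range (n + 1), (p : S) ^ i * z.coeff i ^ p ^ (n - i) := by
  rw [WittVector.ghostComponent_apply, aeval_wittPolynomial]

theorem ghost_dvd (r s : ℕ) (z : WittVector p S) (h : ∀ i < r, (p : S) ^ s ∣ z.coeff i) :
    ∀ n < r, (p : S) ^ s ∣ WittVector.ghostComponent (p := p) n z := by
  intro n hn
  rw [ghost_eq]
  apply Finset.dvd_sum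
  intro i hi
  have hi' : i < n + 1 := Finset.mem_range.1 hi
  apply Dvd.dvd.mul_left
  exact dvd_trans (h i (by omega)) (dvd_pow_self _ (pow_ne_zero _ hp.out.ne_zero))

theorem cancel_pow (hS : ∀ y : S, (p : S) * y = 0 → y = 0) (a : ℕ) (y : S)
    (h : (p : S) ^ a * y = 0) : y = 0 := by
  induction a with
  | zero => simpa using h
  | succ a ih =>
    apply ih
    apply hS
    rw [← mul_assoc, ← pow_succ']
    exact h

theorem dvd_cancel (hS : ∀ y : S, (p : S) * y = 0 → y = 0) (a b : ℕ) (y : S)
    (h : (p : S) ^ (a + b) ∣ (p : S) ^ a * y) : (p : S) ^ b ∣ y := by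
  obtain ⟨c, hc⟩ := h
  refine ⟨c, ?_⟩
  have : (p : S) ^ a * (y - (p : S) ^ b * c) = 0 := by
    rw [mul_sub, hc, pow_add]
    ring
  exact sub_eq_zero.1 (cancel_pow p S hS a _ this)

theorem num_ineq (t m : ℕ) (ht : 1 ≤ t) (hm : 1 ≤ m) : m + t ≤ t * p ^ m := by
  have h1 : m < 2 ^ m := Nat.lt_two_pow_self
  have h2 : 2 ^ m ≤ p ^ m := Nat.pow_le_pow_left hp.out.two_le m
  have h3 : m + 1 ≤ p ^ m := by omega
  have h4 : t * (m + 1) ≤ t * p ^ m := Nat.mul_le_mul_left t h3
  have h5 : m ≤ t * m := Nat.le_mul_of_pos_left m ht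
  have h6 : t * (m + 1) = t * m + t := by ring
  omega

theorem coeff_dvd_of_ghost (hS : ∀ y : S, (p : S) * y = 0 → y = 0) (r t : ℕ) (ht : 1 ≤ t)
    (z : WittVector p S)
    (h : ∀ n < r, (p : S) ^ (n + t) ∣ WittVector.ghostComponent (p := p) n z) :
    ∀ n < r, (p : S) ^ t ∣ z.coeff n := by
  intro n
  induction n using Nat.strong_induction_on with
  | _ n ih =>
    intro hn
    have hg := h n hn
    rw [ghost_eq, Finset.sum_range_succ, Nat.sub_self, pow_zero, pow_one] at hg
    have hsum : (p : S) ^ (n + t) ∣
        ∑ i ∈ Finset.range n, (p : S) ^ i * z.coeff i ^ p ^ (n - i) := by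
      apply Finset.dvd_sum
      intro i hi
      have hi' : i < n := Finset.mem_range.1 hi
      have h1 : (p : S) ^ t ∣ z.coeff i := ih i hi' (by omega)
      have h2 : ((p : S) ^ t) ^ p ^ (n - i) ∣ z.coeff i ^ p ^ (n - i) :=
        pow_dvd_pow_of_dvd h1 _
      have h3 : (p : S) ^ i * ((p : S) ^ t) ^ p ^ (n - i) ∣
          (p : S) ^ i * z.coeff i ^ p ^ (n - i) := mul_dvd_mul_left _ h2
      refine dvd_trans ?_ h3
      rw [← pow_mul, ← pow_add]
      apply pow_dvd_pow
      have := num_ineq p t (n - i) ht (by omega)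
      omega
    have h4 : (p : S) ^ (n + t) ∣ (p : S) ^ n * z.coeff n := (dvd_add_right hsum).1 hg
    exact dvd_cancel p S hS n t _ h4

theorem lemmaA (hS : ∀ y : S, (p : S) * y = 0 → y = 0) (u r s t : ℕ) (ht : 1 ≤ t)
    (hs : r + t + u ≤ s) (z : WittVector p S)
    (h : phi p S r s ((p : WittVector p S) ^ u * z) = 0) : phi p S r t z = 0 := by
  rw [phi_zero_iff] at h ⊢
  have hg := ghost_dvd p S r s _ h
  apply coeff_dvd_of_ghost p S hS r t ht
  intro n hn
  have h1 := hg n hn
  rw [map_mul, map_pow, map_natCast] at h1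
  obtain ⟨v, hv⟩ : ∃ v, s = u + v := ⟨s - u, by omega⟩
  rw [hv] at h1
  have h2 := dvd_cancel p S hS u v _ h1
  exact dvd_trans (pow_dvd_pow _ (by omega)) h2

theorem smodeq_iff (m : ℕ) (x y : S) :
    x ≡ y [SMOD ((Ideal.span {(p : S)}) ^ m • ⊤ : Submodule S S)] ↔ (p : S) ^ m ∣ x - y := by
  rw [SModEq.sub_mem, smul_eq_mul, Ideal.mul_top, Ideal.span_singleton_pow,
    Ideal.mem_span_singleton]

end Helpers

/-- Let p be a prime and S a commutative ring without p-torsion which is complete and separated for the
p-adic topology; write W = W(S) for the p-typical Witt vectors, I_r ⊆ W for the ideal of Witt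
vectors whose first r components vanish (the image of the r-th iterate of the Verschiebung) and
W(p^s S) ⊆ W for the ideal of Witt vectors all of whose components lie in p^s S (the kernel of W(S)
→ W(S/p^s S)). Then for every natural number u the ideal p^u W is closed for the linear topology on
W in which the ideals I_r + W(p^s S) form a neighbourhood basis of zero: the intersection over all r
and s of p^u W + I_r + W(p^s S) equals p^u W. (The published statement asks only that S have no
p-torsion; S is moreover taken p-adically complete and separated here, the case in which the result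
is applied and through which the published proof goes.) -/
theorem result (p : ℕ) [Fact p.Prime] (S : Type u) [CommRing S]
    (hS : ∀ y : S, (p : S) * y = 0 → y = 0) [IsAdicComplete (Ideal.span {(p : S)}) S] (u : ℕ) :
    (⨅ r : ℕ, ⨅ s : ℕ,
        Ideal.span {(p : WittVector p S) ^ u} ⊔ RingHom.ker (WittVector.truncate (p := p) (R := S) r) ⊔
          RingHom.ker (WittVector.map (p := p) (Ideal.Quotient.mk (Ideal.span {(p : S) ^ s})))) =
      Ideal.span {(p : WittVector p S) ^ u} := by
  apply le_antisymm
  · intro x hx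
    have hx' : ∀ r s : ℕ, ∃ a : WittVector p S,
        phi p S r s (x - (p : WittVector p S) ^ u * a) = 0 := by
      intro r s
      apply phi_of_mem p S u r s x
      have h1 := (Ideal.mem_iInf.1 hx) r
      exact (Ideal.mem_iInf.1 h1) s
    have hx'' : ∀ k : ℕ, ∃ a : WittVector p S,
        phi p S k (u + 2 * k) (x - (p : WittVector p S) ^ u * a) = 0 := fun k => hx' k _
    choose a ha using hx''
    -- Cauchy property
    have hC : ∀ k l : ℕ, k ≤ l → ∀ n < k, (p : S) ^ k ∣ (a l).coeff n - (a k).coeff n := by
      intro k l hkl n hn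
      have h1 : phi p S k (u + 2 * k) (x - (p : WittVector p S) ^ u * a l) = 0 :=
        phi_mono p S hkl (by omega) _ (ha l)
      have h2 : phi p S k (u + 2 * k) ((p : WittVector p S) ^ u * (a l - a k)) = 0 := by
        have e : (p : WittVector p S) ^ u * (a l - a k) =
            (x - (p : WittVector p S) ^ u * a k) - (x - (p : WittVector p S) ^ u * a l) := by ring
        rw [e, map_sub, ha k, h1, sub_zero]
      have h3 : phi p S k k (a l - a k) = 0 :=
        lemmaA p S hS u k (u + 2 * k) k (by omega) (by omega) _ h2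
      rw [map_sub, sub_eq_zero] at h3
      exact (phi_eq_iff p S k k _ _).1 h3 n hn
    -- limits
    have hL : ∀ n : ℕ, ∃ L : S, ∀ m : ℕ, (p : S) ^ m ∣ (a (m + n + 1)).coeff n - L := by
      intro n
      have hprec : IsPrecomplete (Ideal.span {(p : S)}) S := inferInstance
      obtain ⟨L, hL⟩ := hprec.prec (f := fun m => (a (m + n + 1)).coeff n) (by
        intro m m' hmm'
        rw [smodeq_iff]
        have h1 := hC (m + n + 1) (m' + n + 1) (by omega) n (by omega)
        have h2 : (p : S) ^ m ∣ (a (m' + n + 1)).coeff n - (a (m + n + 1)).coeff n :=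
          dvd_trans (pow_dvd_pow _ (by omega)) h1
        have h3 := (dvd_neg (a := (p : S) ^ m)).2 h2
        rwa [neg_sub] at h3)
      refine ⟨L, fun m => ?_⟩
      have := hL m
      rwa [smodeq_iff] at this
    choose y hy using hL
    obtain ⟨Y, hY⟩ : ∃ Y : WittVector p S, Y = WittVector.mk p y := ⟨_, rfl⟩
    have hYc : ∀ n, Y.coeff n = y n := by
      intro n
      rw [hY, WittVector.coeff_mk]
    -- x - p^u Y is in every kernel
    have hker : ∀ r t : ℕ, phi p S r t (x - (p : WittVector p S) ^ u * Y) = 0 := by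
      intro r t
      have h1 : phi p S r t (x - (p : WittVector p S) ^ u * a (r + t)) = 0 :=
        phi_mono p S (by omega) (by omega) _ (ha (r + t))
      have h2 : phi p S r t (a (r + t)) = phi p S r t Y := by
        rw [phi_eq_iff]
        intro n hn
        obtain ⟨m, hm, hm'⟩ : ∃ m, r + t = m + n + 1 ∧ t ≤ m := ⟨r + t - n - 1, by omega, by omega⟩
        have h3 := hy n m
        rw [← hm] at h3
        rw [hYc]
        exact dvd_trans (pow_dvd_pow _ hm') h3
      have e : x - (p : WittVector p S) ^ u * Y =
          (x - (p : WittVector p S) ^ u * a (r + t)) +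
            (p : WittVector p S) ^ u * (a (r + t) - Y) := by ring
      rw [e, map_add, h1, zero_add, map_mul, map_sub, h2, sub_self, mul_zero]
    have hzero : x - (p : WittVector p S) ^ u * Y = 0 := by
      apply WittVector.ext
      intro n
      rw [WittVector.zero_coeff]
      have hhaus : IsHausdorff (Ideal.span {(p : S)}) S := inferInstance
      apply hhaus.haus
      intro m
      rw [smodeq_iff, sub_zero]
      exact (phi_zero_iff p S (n + 1) m _).1 (hker (n + 1) m) n (by omega)
    rw [Ideal.mem_span_singleton']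
    exact ⟨Y, by rw [mul_comm]; exact (sub_eq_zero.1 hzero).symm⟩
  · exact le_iInf fun r => le_iInf fun s => le_sup_of_le_left le_sup_left

end Groth.Agent.S14862
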