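import Groth.Statements.S14869
import Mathlib
-- import your own Groth.Agent.* helpers here

set_option autoImplicit false
universe u v w
open CAlg

namespace Groth.Agent.S14869

open TensorProduct in
/-- Let S → R be a surjective homomorphism of commutative rings, let π : P_1 → P_2 be a surjective
homomorphism of S-modules with P_2 projective, and let π̄ : R ⊗_S P_1 → R ⊗_S P_2 be its base
change. Then every R-linear section σ̄ of π̄ lifts to a section of π: there is an S-linear map σ :
P_2 → P_1 with π ∘ σ = id whose base change R ⊗_S σ is σ̄. -/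
theorem result (S R : Type u) [CommRing S] [CommRing R] [Algebra S R]
    (hSR : Function.Surjective (algebraMap S R))
    (P₁ : Type v) [AddCommGroup P₁] [Module S P₁]
    (P₂ : Type w) [AddCommGroup P₂] [Module S P₂] [Module.Projective S P₂]
    (π : P₁ →ₗ[S] P₂) (hπ : Function.Surjective π)
    (σ' : R ⊗[S] P₂ →ₗ[R] R ⊗[S] P₁) (hσ' : (π.baseChange R).comp σ' = LinearMap.id) :
    ∃ σ : P₂ →ₗ[S] P₁, π.comp σ = LinearMap.id ∧ σ.baseChange R = σ' := by
  obtain ⟨σ₀, hσ₀⟩ := Module.projective_lifting_property π LinearMap.id hπ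
  let ρ₀ : P₁ →ₗ[S] LinearMap.ker π :=
    LinearMap.codRestrict (LinearMap.ker π) (LinearMap.id - σ₀.comp π) (fun x => by
      have h := LinearMap.congr_fun hσ₀ (π x)
      rw [LinearMap.comp_apply, LinearMap.id_apply] at h
      rw [LinearMap.mem_ker, LinearMap.sub_apply, map_sub, LinearMap.id_apply,
        LinearMap.comp_apply, h, sub_self])
  have hρ₀ : (LinearMap.ker π).subtype.comp ρ₀ = LinearMap.id - σ₀.comp π :=
    LinearMap.ext fun x => rfl
  let δ' : R ⊗[S] P₂ →ₗ[R] R ⊗[S] P₁ := σ' - σ₀.baseChange R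
  have hδ' : (π.baseChange R).comp δ' = 0 := by
    rw [LinearMap.comp_sub, hσ', ← LinearMap.baseChange_comp, hσ₀, LinearMap.baseChange_id]
    refine LinearMap.ext fun x => ?_
    simp
  let θ : P₂ →ₗ[S] R ⊗[S] (LinearMap.ker π) :=
    (((ρ₀.baseChange R).comp δ').restrictScalars S).comp (TensorProduct.mk S R P₂ 1)
  have hq : Function.Surjective (TensorProduct.mk S R (LinearMap.ker π) 1) := by
    intro t
    induction t using TensorProduct.induction_on with
    | zero => exact ⟨0, map_zero _⟩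
    | tmul r k =>
      obtain ⟨s, rfl⟩ := hSR r
      refine ⟨s • k, ?_⟩
      rw [map_smul, TensorProduct.mk_apply, TensorProduct.smul_tmul', Algebra.smul_def, mul_one]
    | add x y hx hy =>
      obtain ⟨a, rfl⟩ := hx
      obtain ⟨b, rfl⟩ := hy
      exact ⟨a + b, map_add _ _ _⟩
  obtain ⟨δ, hδ⟩ := Module.projective_lifting_property (TensorProduct.mk S R (LinearMap.ker π) 1)
    θ hq
  refine ⟨σ₀ + (LinearMap.ker π).subtype.comp δ, ?_, ?_⟩
  · rw [LinearMap.comp_add, hσ₀, ← LinearMap.comp_assoc]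
    have h0 : π.comp (LinearMap.ker π).subtype = 0 := LinearMap.ext fun x => x.2
    rw [h0, LinearMap.zero_comp, add_zero]
  · apply TensorProduct.AlgebraTensorModule.ext
    intro r p
    have hr : r ⊗ₜ[S] p = r • ((1 : R) ⊗ₜ[S] p) := by
      rw [TensorProduct.smul_tmul', smul_eq_mul, mul_one]
    rw [hr, map_smul, map_smul]
    congr 1
    rw [LinearMap.baseChange_tmul, LinearMap.add_apply, LinearMap.comp_apply,
      TensorProduct.tmul_add]
    have h1 : (1 : R) ⊗ₜ[S] ((LinearMap.ker π).subtype (δ p))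
        = ((LinearMap.ker π).subtype.baseChange R)
            (TensorProduct.mk S R (LinearMap.ker π) 1 (δ p)) := by
      rw [TensorProduct.mk_apply, LinearMap.baseChange_tmul]
    have h2 : TensorProduct.mk S R (LinearMap.ker π) 1 (δ p) = θ p := LinearMap.congr_fun hδ p
    have h3 : θ p = (ρ₀.baseChange R) (δ' ((1 : R) ⊗ₜ[S] p)) := rfl
    have h4 : (π.baseChange R) (δ' ((1 : R) ⊗ₜ[S] p)) = 0 := LinearMap.congr_fun hδ' _
    have h5 : δ' ((1 : R) ⊗ₜ[S] p) = σ' ((1 : R) ⊗ₜ[S] p) - (1 : R) ⊗ₜ[S] σ₀ p := by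
      show σ' ((1 : R) ⊗ₜ[S] p) - (σ₀.baseChange R) ((1 : R) ⊗ₜ[S] p) = _
      rw [LinearMap.baseChange_tmul]
    rw [h1, h2, h3, ← LinearMap.comp_apply, ← LinearMap.baseChange_comp, hρ₀,
      LinearMap.baseChange_sub, LinearMap.baseChange_id, LinearMap.baseChange_comp,
      LinearMap.sub_apply, LinearMap.id_apply, LinearMap.comp_apply, h4, map_zero, sub_zero, h5]
    abel

end Groth.Agent.S14869
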