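import Groth.Statements.S14871
import Mathlib
-- import your own Groth.Agent.* helpers here

set_option autoImplicit false
universe u v
open PLie

namespace Groth.Agent.S14871

/-- Let `L` be a finite-dimensional Lie algebra over a field of characteristic `p` equipped with a
`p`-mapping `φ`. Then the solvable radical of `L` is stable under `φ` (it is a `p`-subalgebra). -/
theorem result
    (k : Type u) [Field k] (p : ℕ) [Fact p.Prime] [CharP k p]
    (L : Type v) [LieRing L] [LieAlgebra k L] [Module.Finite k L]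
    (φ : PLie.PMap k p L) (x : L) (hx : x ∈ LieAlgebra.radical k L) :
    φ x ∈ LieAlgebra.radical k L := by
  have hp : p ≠ 0 := (Fact.out : p.Prime).ne_zero
  set R := LieAlgebra.radical k L with hR
  -- brackets with `φ x` land in the radical
  have hbr : ∀ y : L, ⁅y, φ x⁆ ∈ R := by
    intro y
    rw [← lie_skew, neg_mem_iff]
    have h1 : ⁅φ x, y⁆ = (LieAlgebra.ad k L x ^ p) y := by
      rw [← φ.ad_map x]; rfl
    rw [h1]
    obtain ⟨n, rfl⟩ := Nat.exists_eq_succ_of_ne_zero hp
    rw [pow_succ', Module.End.mul_apply, LieAlgebra.ad_apply, ← lie_skew, neg_mem_iff]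
    exact R.lie_mem hx
  -- the ideal `R + k φ x`
  let I : LieIdeal k L :=
    { (R : Submodule k L) ⊔ Submodule.span k {φ x} with
      lie_mem := by
        intro y m hm
        obtain ⟨r, hr, z, hz, rfl⟩ := Submodule.mem_sup.mp hm
        obtain ⟨c, rfl⟩ := Submodule.mem_span_singleton.mp hz
        refine Submodule.mem_sup_left ?_
        rw [lie_add, lie_smul]
        exact add_mem (R.lie_mem hr) (R.smul_mem c (hbr y)) }
  have hmemI : ∀ m : L, m ∈ I ↔ ∃ r ∈ R, ∃ c : k, r + c • φ x = m := by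
    intro m
    show m ∈ (R : Submodule k L) ⊔ Submodule.span k {φ x} ↔ _
    rw [Submodule.mem_sup]
    constructor
    · rintro ⟨r, hr, z, hz, rfl⟩
      obtain ⟨c, rfl⟩ := Submodule.mem_span_singleton.mp hz
      exact ⟨r, hr, c, rfl⟩
    · rintro ⟨r, hr, c, rfl⟩
      exact ⟨r, hr, _, Submodule.mem_span_singleton.mpr ⟨c, rfl⟩, rfl⟩
  have hI1 : LieAlgebra.derivedSeriesOfIdeal k L 1 I ≤ R := by
    rw [LieAlgebra.derivedSeriesOfIdeal_succ, LieAlgebra.derivedSeriesOfIdeal_zero,
      LieSubmodule.lie_le_iff]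
    intro a _ b hb
    obtain ⟨r, hr, c, rfl⟩ := (hmemI b).mp hb
    rw [lie_add, lie_smul]
    exact add_mem (R.lie_mem hr) (R.smul_mem c (hbr a))
  have hRsolv : LieAlgebra.IsSolvable R := LieAlgebra.radicalIsSolvable k L
  obtain ⟨n, hn⟩ := LieAlgebra.IsSolvable.solvable k R
  rw [LieIdeal.derivedSeries_eq_bot_iff] at hn
  have hIsolv : LieAlgebra.IsSolvable I := by
    refine LieAlgebra.IsSolvable.mk (R := k) (k := n + 1) ?_
    rw [LieIdeal.derivedSeries_eq_bot_iff, LieAlgebra.derivedSeriesOfIdeal_add, eq_bot_iff, ← hn]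
    exact LieAlgebra.derivedSeriesOfIdeal_mono hI1 n
  have hIle : I ≤ R := le_sSup hIsolv
  exact hIle ((hmemI _).mpr ⟨0, R.zero_mem, 1, by simp⟩)

end Groth.Agent.S14871
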