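import Groth.Statements.S14872
import Mathlib

set_option autoImplicit false
universe u v
open PLie

namespace Groth.Agent.S14872

section
variable {k : Type u} [Field k] {L : Type v} [LieRing L] [LieAlgebra k L]

theorem coe_ad_pow (I : LieIdeal k L) (x : I) (m : ℕ) (y : I) :
    (((LieAlgebra.ad k I x) ^ m) y : L) = ((LieAlgebra.ad k L (x : L)) ^ m) (y : L) := by
  induction m generalizing y with
  | zero => simp
  | succ m ih =>
    rw [pow_succ', Module.End.mul_apply, pow_succ', Module.End.mul_apply, ← ih]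
    rfl

theorem toEnd_pow (N : LieIdeal k L) (r : N) (m : ℕ) (y : L) :
    ((LieModule.toEnd k N L r) ^ m) y = ((LieAlgebra.ad k L (r : L)) ^ m) y := by
  induction m generalizing y with
  | zero => simp
  | succ m ih =>
    rw [pow_succ', Module.End.mul_apply, pow_succ', Module.End.mul_apply, ih]
    rfl

theorem exists_ideal (N : LieIdeal k L) (w : L) (hw : ∀ y : L, ⁅y, w⁆ ∈ N) :
    ∃ I : LieIdeal k L, N ≤ I ∧ w ∈ I ∧ ∀ m ∈ I, ∃ r ∈ N, ∃ c : k, r + c • w = m := by
  let I : LieIdeal k L :=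
    { (N : Submodule k L) ⊔ Submodule.span k {w} with
      lie_mem := by
        intro y m hm
        obtain ⟨r, hr, z, hz, rfl⟩ := Submodule.mem_sup.mp hm
        obtain ⟨c, rfl⟩ := Submodule.mem_span_singleton.mp hz
        refine Submodule.mem_sup_left ?_
        rw [lie_add, lie_smul]
        exact add_mem (N.lie_mem hr) (N.smul_mem c (hw y)) }
  refine ⟨I, ?_, ?_, ?_⟩
  · intro m hm
    show m ∈ (N : Submodule k L) ⊔ Submodule.span k {w}
    exact Submodule.mem_sup_left hm
  · show w ∈ (N : Submodule k L) ⊔ Submodule.span k {w}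
    exact Submodule.mem_sup_right (Submodule.mem_span_singleton_self w)
  · intro m hm
    have hm' : m ∈ (N : Submodule k L) ⊔ Submodule.span k {w} := hm
    obtain ⟨r, hr, z, hz, rfl⟩ := Submodule.mem_sup.mp hm'
    obtain ⟨c, rfl⟩ := Submodule.mem_span_singleton.mp hz
    exact ⟨r, hr, c, rfl⟩

/-- `ad_L x` is nilpotent for `x` in a nilpotent ideal. -/
theorem ad_nilpotent_of_mem [Module.Finite k L] (N : LieIdeal k L) (hN : LieRing.IsNilpotent N)
    (x : L) (hx : x ∈ N) : ∃ m : ℕ, LieAlgebra.ad k L x ^ (m + 1) = 0 := by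
  have hNad : ∀ r : N, IsNilpotent (LieAlgebra.ad k N r) :=
    (LieAlgebra.isNilpotent_iff_forall (R := k)).mp hN
  obtain ⟨m, hm⟩ := hNad ⟨x, hx⟩
  refine ⟨m, ?_⟩
  ext y
  rw [pow_succ, Module.End.mul_apply, LieAlgebra.ad_apply]
  have hmem : ⁅x, y⁆ ∈ N := by
    rw [← lie_skew, neg_mem_iff]; exact N.lie_mem hx
  have := coe_ad_pow N ⟨x, hx⟩ m ⟨⁅x, y⁆, hmem⟩
  rw [hm] at this
  simpa using this.symm

end

/-- Let `L` be a finite-dimensional Lie algebra over a field of characteristic `p` equipped with a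
`p`-mapping `φ`, and let `N` be its nilradical, i.e. the ideal of `L` that is nilpotent as a Lie
ring and contains every ideal of `L` nilpotent as a Lie ring. Then `N` is stable under `φ` (it is a
`p`-subalgebra). (The nilradical is given here through its characterising property; it is not the
largest submodule on which `L` acts nilpotently.) -/
theorem result
    (k : Type u) [Field k] (p : ℕ) [Fact p.Prime] [CharP k p]
    (L : Type v) [LieRing L] [LieAlgebra k L] [Module.Finite k L]
    (φ : PLie.PMap k p L) (N : LieIdeal k L) (hN : LieRing.IsNilpotent N)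
    (hmax : ∀ I : LieIdeal k L, LieRing.IsNilpotent I → I ≤ N)
    (x : L) (hx : x ∈ N) : φ x ∈ N := by
  have hp : p ≠ 0 := (Fact.out : p.Prime).ne_zero
  obtain ⟨q, hq⟩ := Nat.exists_eq_succ_of_ne_zero hp
  -- `L` is a nilpotent `N`-module
  have hNL : LieModule.IsNilpotent N L := by
    rw [LieModule.isNilpotent_iff_forall' (R := k)]
    intro r
    obtain ⟨m, hm⟩ := ad_nilpotent_of_mem N hN (r : L) r.2
    refine ⟨m + 1, ?_⟩
    ext y
    rw [toEnd_pow, hm]
  obtain ⟨c, hc⟩ := (LieModule.isNilpotent_iff k N L).mp hNL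
  have hbot : ∀ y ∈ N.lcs L c, y = 0 := by
    intro y hy
    have h1 : y ∈ LieSubmodule.toSubmodule (N.lcs L c) := hy
    rw [LieIdeal.coe_lcs_eq, hc] at h1
    simpa using h1
  have hphi : ∀ y : L, ⁅φ x, y⁆ = (LieAlgebra.ad k L x ^ p) y := by
    intro y; rw [← φ.ad_map x]; rfl
  have hpow : LieAlgebra.ad k L x ^ p = LieAlgebra.ad k L x * LieAlgebra.ad k L x ^ q := by
    rw [hq, pow_succ']
  have hbr : ∀ y : L, ⁅y, φ x⁆ ∈ N := by
    intro y
    rw [← lie_skew, neg_mem_iff, hphi, hpow, Module.End.mul_apply, LieAlgebra.ad_apply,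
      ← lie_skew, neg_mem_iff]
    exact N.lie_mem hx
  obtain ⟨I, hNI, hwI, hI⟩ := exists_ideal N (φ x) hbr
  have hstep : ∀ z ∈ I, ∀ (i : ℕ) (y : L), y ∈ N.lcs L i → ⁅z, y⁆ ∈ N.lcs L (i + 1) := by
    intro z hz i y hy
    obtain ⟨r, hr, a, rfl⟩ := hI z hz
    rw [LieIdeal.lcs_succ, add_lie, smul_lie]
    refine add_mem (LieSubmodule.lie_mem_lie hr hy) ((⁅N, N.lcs L i⁆ : LieSubmodule k L L).smul_mem a ?_)
    rw [hphi, hpow, Module.End.mul_apply, LieAlgebra.ad_apply]
    refine LieSubmodule.lie_mem_lie hx ?_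
    have : ∀ j : ℕ, (LieAlgebra.ad k L x ^ j) y ∈ N.lcs L i := by
      intro j
      induction j with
      | zero => simpa using hy
      | succ j ih =>
        rw [pow_succ', Module.End.mul_apply, LieAlgebra.ad_apply]
        exact (N.lcs L i).lie_mem ih
    exact this q
  have hpowmem : ∀ z ∈ I, ∀ (i : ℕ) (y : L), (LieAlgebra.ad k L z ^ i) y ∈ N.lcs L i := by
    intro z hz i
    induction i with
    | zero => intro y; simp
    | succ i ih =>
      intro y
      rw [pow_succ', Module.End.mul_apply, LieAlgebra.ad_apply]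
      exact hstep z hz i _ (ih y)
  have hInil : LieRing.IsNilpotent I := by
    rw [LieAlgebra.isNilpotent_iff_forall (R := k)]
    intro w
    refine ⟨c, ?_⟩
    ext y
    rw [coe_ad_pow]
    simpa using hbot _ (hpowmem w w.2 c y)
  exact hmax I hInil hwI

end Groth.Agent.S14872
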