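import Groth.Statements.S14874
import Groth.Agent.S14872
import Mathlib

set_option autoImplicit false
universe u v
open PLie

namespace Groth.Agent.S14874

section
variable {k : Type u} [Field k] {p : ℕ} [Fact p.Prime] [CharP k p]
  {L : Type v} [LieRing L] [LieAlgebra k L]

theorem iter_ad (φ : PLie.PMap k p L) (n : ℕ) (x : L) :
    LieAlgebra.ad k L (φ.toFun^[n] x) = LieAlgebra.ad k L x ^ (p ^ n) := by
  induction n generalizing x with
  | zero => simp
  | succ n ih =>
    rw [Function.iterate_succ_apply, ih, φ.ad_map, ← pow_mul, pow_succ']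

theorem nilp_of_pnil [Module.Finite k L] (φ : PLie.PMap k p L) (I : LieIdeal k L)
    (hnil : ∀ x ∈ I, PLie.IsPNilpotent φ x) : LieRing.IsNilpotent I := by
  rw [LieAlgebra.isNilpotent_iff_forall (R := k)]
  intro x
  obtain ⟨n, hn⟩ := hnil x x.2
  refine ⟨p ^ n, ?_⟩
  ext y
  rw [Groth.Agent.S14872.coe_ad_pow, ← iter_ad, hn]
  simp

end

/-- Let `L` be a finite-dimensional Lie algebra over a field of characteristic `p` equipped with a
`p`-mapping `φ`. Let `N` be the nilradical of `L` (the ideal nilpotent as a Lie ring that contains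
every such ideal) and `P` its `p`-radical (the largest ideal stable under `φ` all of whose elements
are `p`-nilpotent). Then `N = P` if and only if the centre of `L` is contained in `P`. -/
theorem result
    (k : Type u) [Field k] (p : ℕ) [Fact p.Prime] [CharP k p]
    (L : Type v) [LieRing L] [LieAlgebra k L] [Module.Finite k L]
    (φ : PLie.PMap k p L)
    (N : LieIdeal k L) (hN : LieRing.IsNilpotent N)
    (hNmax : ∀ I : LieIdeal k L, LieRing.IsNilpotent I → I ≤ N)
    (P : LieIdeal k L) (hPsub : ∀ x ∈ P, φ x ∈ P) (hPnil : ∀ x ∈ P, PLie.IsPNilpotent φ x)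
    (hPmax : ∀ J : LieIdeal k L, (∀ x ∈ J, φ x ∈ J) → (∀ x ∈ J, PLie.IsPNilpotent φ x) → J ≤ P) :
    N = P ↔ LieAlgebra.center k L ≤ P := by
  have hp : p.Prime := Fact.out
  have hPN : P ≤ N := hNmax P (nilp_of_pnil φ P hPnil)
  constructor
  · intro h
    rw [← h]
    apply hNmax
    rw [LieAlgebra.isNilpotent_iff_forall (R := k)]
    intro z
    refine ⟨1, ?_⟩
    ext y
    rw [Groth.Agent.S14872.coe_ad_pow, pow_one, LieAlgebra.ad_apply, ← lie_skew]
    have h0 : ⁅(y : L), (z : L)⁆ = 0 := (LieModule.mem_maxTrivSubmodule k L L (z : L)).mp z.2 y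
    rw [h0]
    simp
  · intro hc
    refine le_antisymm ?_ hPN
    refine hPmax N (fun x hx => Groth.Agent.S14872.result k p L φ N hN hNmax x hx) ?_
    intro x hx
    obtain ⟨m, hadx⟩ := Groth.Agent.S14872.ad_nilpotent_of_mem N hN x hx
    have hcen : φ.toFun^[m + 1] x ∈ LieAlgebra.center k L := by
      rw [LieModule.mem_maxTrivSubmodule]
      intro y
      rw [← lie_skew, neg_eq_zero]
      have h1 : ⁅φ.toFun^[m + 1] x, y⁆ = (LieAlgebra.ad k L (φ.toFun^[m + 1] x)) y := rfl
      rw [h1, iter_ad, pow_eq_zero_of_le (Nat.lt_pow_self hp.one_lt).le hadx]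
      simp
    obtain ⟨n', hn'⟩ := hPnil _ (hc hcen)
    exact ⟨n' + (m + 1), by rw [Function.iterate_add_apply]; exact hn'⟩

end Groth.Agent.S14874
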