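import Groth.Statements.S14875
import Mathlib

set_option autoImplicit false
universe u v
open PLie

namespace Groth.Agent.S14875

section
variable {k : Type u} [Field k] {p : ℕ} [Fact p.Prime] [CharP k p]
  {L : Type v} [LieRing L] [LieAlgebra k L]

theorem iter_ad (φ : PLie.PMap k p L) (n : ℕ) (x : L) :
    LieAlgebra.ad k L (φ.toFun^[n] x) = LieAlgebra.ad k L x ^ (p ^ n) := by
  induction n generalizing x with
  | zero => simp
  | succ n ih =>
    rw [Function.iterate_succ_apply, ih, φ.ad_map, ← pow_mul, pow_succ']

theorem toEnd_pow' (H : LieSubalgebra k L) (I : LieIdeal k H) (r : I) (m : ℕ) (y : L) :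
    ((LieModule.toEnd k I L r) ^ m) y = ((LieAlgebra.ad k L ((r : H) : L)) ^ m) y := by
  induction m generalizing y with
  | zero => simp
  | succ m ih =>
    rw [pow_succ', Module.End.mul_apply, pow_succ', Module.End.mul_apply, ih]
    rfl

theorem kcomm [Module.Finite k L] (a b : L) : killingForm k L a b = killingForm k L b a :=
  LieModule.traceForm_comm k L L a b

theorem kinv [Module.Finite k L] (a b c : L) :
    killingForm k L ⁅a, b⁆ c = killingForm k L a ⁅b, c⁆ :=
  LieModule.traceForm_apply_lie_apply k L L a b c

end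

/-- Let `L` be a finite-dimensional Lie algebra over a field of characteristic `p` equipped with a
`p`-mapping `φ`, whose Killing form is non-degenerate. Let `U` and `H` be Lie subalgebras of `L`
such that `H` is the normaliser of `U`, `U` is the set of elements of `H` that lie in the solvable
radical of `H` and are `p`-nilpotent, and the orthogonal of `U` for the Killing form is closed under
the bracket. Then `U` is the orthogonal of `H` for the Killing form. (The published statement is for
the Lie algebra of a reductive group over a field of characteristic `p` with its canonical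
`p`-structure; this row states it for any finite-dimensional Lie algebra with a `p`-mapping.) -/
theorem result
    (k : Type u) [Field k] (p : ℕ) [Fact p.Prime] [CharP k p]
    (L : Type v) [LieRing L] [LieAlgebra k L] [Module.Finite k L]
    (φ : PLie.PMap k p L) (hκ : (killingForm k L).Nondegenerate)
    (U H : LieSubalgebra k L) (hH : H = U.normalizer)
    (hU : ∀ x : L, x ∈ U ↔ ∃ hx : x ∈ H, (⟨x, hx⟩ : ↥H) ∈ LieAlgebra.radical k ↥H ∧ PLie.IsPNilpotent φ x)
    (hperp : ∀ a b : L, (∀ y ∈ U, killingForm k L a y = 0) → (∀ y ∈ U, killingForm k L b y = 0) →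
      ∀ y ∈ U, killingForm k L ⁅a, b⁆ y = 0) :
    ∀ x : L, x ∈ U ↔ ∀ h ∈ H, killingForm k L h x = 0 := by
  have hp : p.Prime := Fact.out
  have hnorm : ∀ h ∈ H, ∀ u ∈ U, ⁅h, u⁆ ∈ U := by
    intro h hh u hu
    rw [hH] at hh
    exact (LieSubalgebra.mem_normalizer_iff U h).mp hh u hu
  have hUH : ∀ u ∈ U, u ∈ H := by
    intro u hu
    obtain ⟨hx, _⟩ := (hU u).mp hu
    exact hx
  let U' : LieIdeal k H :=
    { carrier := {x : H | (x : L) ∈ U}
      add_mem' := fun {a b} ha hb => U.add_mem ha hb
      zero_mem' := U.zero_mem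
      smul_mem' := fun c x hx => U.smul_mem c hx
      lie_mem := fun {h m} hm => hnorm (h : L) h.2 (m : L) hm }
  have hUU : (killingForm k L).orthogonal ((killingForm k L).orthogonal U.toSubmodule)
      = U.toSubmodule :=
    LinearMap.BilinForm.orthogonal_orthogonal hκ (LieModule.traceForm_isSymm k L L).isRefl _
  have hfwd : ∀ u ∈ U, ∀ h ∈ H, killingForm k L h u = 0 := by
    intro u hu h hh
    have hnil : LieModule.IsNilpotent U' L := by
      rw [LieModule.isNilpotent_iff_forall' (R := k)]
      intro r
      have hrU : ((r : H) : L) ∈ U := r.2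
      obtain ⟨_, _, n, hn⟩ := (hU _).mp hrU
      refine ⟨p ^ n, ?_⟩
      ext y
      rw [toEnd_pow', ← iter_ad, hn]
      simp
    obtain ⟨c, hc⟩ := (LieModule.isNilpotent_iff k U' L).mp hnil
    have hbot : ∀ y ∈ U'.lcs L c, y = 0 := by
      intro y hy
      have h1 : y ∈ LieSubmodule.toSubmodule (U'.lcs L c) := hy
      rw [LieIdeal.coe_lcs_eq, hc] at h1
      simpa using h1
    set T : Module.End k L := LieAlgebra.ad k L h * LieAlgebra.ad k L u with hT
    have hstep : ∀ (i : ℕ) (y : L), y ∈ U'.lcs L i → T y ∈ U'.lcs L (i + 1) := by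
      intro i y hy
      rw [hT, Module.End.mul_apply, LieAlgebra.ad_apply, LieAlgebra.ad_apply, LieIdeal.lcs_succ]
      have h1 : ⁅u, y⁆ ∈ ⁅U', U'.lcs L i⁆ :=
        LieSubmodule.lie_mem_lie (x := (⟨u, hUH u hu⟩ : H))
          (show (⟨u, hUH u hu⟩ : H) ∈ U' from hu) hy
      exact (⁅U', U'.lcs L i⁆ : LieSubmodule k H L).lie_mem (x := (⟨h, hh⟩ : H)) h1
    have hpow : ∀ (i : ℕ) (y : L), (T ^ i) y ∈ U'.lcs L i := by
      intro i
      induction i with
      | zero => intro y; simp
      | succ i ih =>
        intro y
        rw [pow_succ', Module.End.mul_apply]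
        exact hstep i _ (ih y)
    have hTnil : IsNilpotent T := ⟨c, by ext y; simpa using hbot _ (hpow c y)⟩
    have h3 := LinearMap.isNilpotent_trace_of_isNilpotent hTnil
    rw [isNilpotent_iff_eq_zero] at h3
    rw [killingForm_apply_apply]
    exact h3
  have hperpH : ∀ a : L, (∀ y ∈ U, killingForm k L a y = 0) → a ∈ H := by
    intro a ha
    rw [hH, LieSubalgebra.mem_normalizer_iff]
    intro u hu
    have h4 : ⁅a, u⁆ ∈ (killingForm k L).orthogonal
        ((killingForm k L).orthogonal U.toSubmodule) := by
      rw [LinearMap.BilinForm.mem_orthogonal_iff]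
      intro b hb
      rw [LinearMap.BilinForm.mem_orthogonal_iff] at hb
      have hb' : ∀ y ∈ U, killingForm k L b y = 0 := fun y hy => by
        rw [kcomm]; exact hb y hy
      have h2 := hperp b a hb' ha u hu
      rwa [kinv] at h2
    rw [hUU] at h4
    exact h4
  intro x
  constructor
  · intro hx h hh
    exact hfwd x hx h hh
  · intro hx
    have h5 : x ∈ (killingForm k L).orthogonal
        ((killingForm k L).orthogonal U.toSubmodule) := by
      rw [LinearMap.BilinForm.mem_orthogonal_iff]
      intro a ha
      rw [LinearMap.BilinForm.mem_orthogonal_iff] at ha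
      exact hx a (hperpH a (fun y hy => by rw [kcomm]; exact ha y hy))
    rw [hUU] at h5
    exact h5

end Groth.Agent.S14875
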