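import Groth.Statements.S14879
import Groth.Agent.H74.Laplace
-- import your own Groth.Agent.* helpers here

set_option autoImplicit false
universe u
open Finset
open AlgGrp

namespace Groth.Agent.S14879

/-- Let k be a field of characteristic zero, n = p + r with p, r ≥ 1, M an n × n matrix over k, A a set
of p row indices and B a set of r row indices, both listed increasingly. For a permutation π of the
indices, with permutation matrix P_π, let Y_A(M·P_π) be the minor of M·P_π on the rows A and the
first p columns, and Z_B(M·P_π) the minor on the rows B and the last r columns. Then the sum over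
all π of sign(π)·Y_A(M·P_π)·Z_B(M·P_π) equals p!·r!·(−1)^N·det M when B is the complement of A,
where N is the number of pairs (a, b) with a in A, b outside A and b < a, and equals 0 otherwise.
Taking det M = 1 this says that the pairing (f, h) ↦ Σ_π sign(π) f(π) h(π) between the spans of the
left p-minors and of the right r-minors is invariant under left translation by matrices of
determinant one and pairs Y_A with the signed complementary minor to p!·r!. (The published statement
asserts that the two families of minors are dual bases for this pairing, that is, the value 1 in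
place of p!·r!; the p!·r! permutations preserving the two column blocks each contribute the same
signed term, so this row carries that factor, which is 1 only for n = 2.) -/
theorem result (k : Type u) [Field k] [CharZero k]
    (p r : ℕ) (hp : 1 ≤ p) (hr : 1 ≤ r) (M : Matrix (Fin (p + r)) (Fin (p + r)) k)
    (A : Finset (Fin (p + r))) (hA : A.card = p) (B : Finset (Fin (p + r))) (hB : B.card = r) :
    ∑ π : Equiv.Perm (Fin (p + r)), (((Equiv.Perm.sign π : ℤˣ) : ℤ) : k) *
      ((M * π.permMatrix k).submatrix (A.orderEmbOfFin hA) (Fin.castAdd r)).det *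
      ((M * π.permMatrix k).submatrix (B.orderEmbOfFin hB) (Fin.natAdd p)).det =
    if B = Aᶜ then ((p.factorial * r.factorial : ℕ) : k) *
      (-1 : k) ^ ((A ×ˢ Aᶜ).filter (fun ab => ab.2 < ab.1)).card * M.det else 0 := by
  classical
  let ρ : Fin (p + r) → Fin (p + r) :=
    Fin.append (fun i => A.orderEmbOfFin hA i) (fun j => B.orderEmbOfFin hB j)
  have hρl : ∀ i, ρ (Fin.castAdd r i) = A.orderEmbOfFin hA i := fun i => Fin.append_left _ _ i
  have hρr : ∀ j, ρ (Fin.natAdd p j) = B.orderEmbOfFin hB j := fun j => Fin.append_right _ _ j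
  have hLHS : ∑ π : Equiv.Perm (Fin (p + r)), (((Equiv.Perm.sign π : ℤˣ) : ℤ) : k) *
      ((M * π.permMatrix k).submatrix (A.orderEmbOfFin hA) (Fin.castAdd r)).det *
      ((M * π.permMatrix k).submatrix (B.orderEmbOfFin hB) (Fin.natAdd p)).det
      = ((p.factorial * r.factorial : ℕ) : k) * (M.submatrix ρ id).det := by
    rw [← Groth.Agent.H74.Laplace.sum_perm_minor_mul_minor p r (M.submatrix ρ id)]
    refine Finset.sum_congr rfl fun π _ => ?_
    have hP : M * π.permMatrix k = M.submatrix id π.symm := PEquiv.mul_toMatrix_toPEquiv M π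
    rw [hP]
    have e1 : (M.submatrix id π.symm).submatrix (A.orderEmbOfFin hA) (Fin.castAdd r)
        = (M.submatrix ρ id).submatrix (Fin.castAdd r) (fun i => π.symm (Fin.castAdd r i)) := by
      ext i j
      simp only [Matrix.submatrix_apply, id, hρl]
    have e2 : (M.submatrix id π.symm).submatrix (B.orderEmbOfFin hB) (Fin.natAdd p)
        = (M.submatrix ρ id).submatrix (Fin.natAdd p) (fun j => π.symm (Fin.natAdd p j)) := by
      ext i j
      simp only [Matrix.submatrix_apply, id, hρr]
    rw [e1, e2]
  rw [hLHS]
  by_cases hBA : B = Aᶜ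
  · rw [if_pos hBA]
    have hinj : Function.Injective ρ := by
      intro x y hxy
      obtain ⟨i1, rfl⟩ | ⟨j1, rfl⟩ := Groth.Agent.H74.Laplace.fin_cases_add x
      · obtain ⟨i2, rfl⟩ | ⟨j2, rfl⟩ := Groth.Agent.H74.Laplace.fin_cases_add y
        · rw [hρl, hρl] at hxy
          rw [(A.orderEmbOfFin hA).injective hxy]
        · exfalso
          rw [hρl, hρr] at hxy
          have h1 : A.orderEmbOfFin hA i1 ∈ A := Finset.orderEmbOfFin_mem A hA i1
          have h2 : B.orderEmbOfFin hB j2 ∈ Aᶜ :=
            Finset.subset_of_eq hBA (Finset.orderEmbOfFin_mem B hB j2)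
          rw [Finset.mem_compl, ← hxy] at h2
          exact h2 h1
      · obtain ⟨i2, rfl⟩ | ⟨j2, rfl⟩ := Groth.Agent.H74.Laplace.fin_cases_add y
        · exfalso
          rw [hρl, hρr] at hxy
          have h1 : A.orderEmbOfFin hA i2 ∈ A := Finset.orderEmbOfFin_mem A hA i2
          have h2 : B.orderEmbOfFin hB j1 ∈ Aᶜ :=
            Finset.subset_of_eq hBA (Finset.orderEmbOfFin_mem B hB j1)
          rw [Finset.mem_compl, hxy] at h2
          exact h2 h1
        · rw [hρr, hρr] at hxy
          rw [(B.orderEmbOfFin hB).injective hxy]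
    let ρ' : Equiv.Perm (Fin (p + r)) :=
      Equiv.ofBijective ρ ⟨hinj, Finite.surjective_of_injective hinj⟩
    have hdet : (M.submatrix ρ id).det = (M.submatrix ρ' id).det := rfl
    rw [hdet, Matrix.det_permute, Groth.Agent.H74.Laplace.sign_eq_neg_one_pow_card,
      Groth.Agent.H74.Laplace.card_inv p r A B hA hB hBA ρ' hρl hρr]
    push_cast
    ring
  · rw [if_neg hBA]
    have hsub : ¬ B ⊆ Aᶜ := fun hsub => hBA (Finset.eq_of_subset_of_card_le hsub (by
      rw [Finset.card_compl, hA, hB, Fintype.card_fin]; omega))
    obtain ⟨x, hxB, hxA⟩ := Finset.not_subset.mp hsub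
    rw [Finset.mem_compl, not_not] at hxA
    have hxA' : x ∈ Set.range (A.orderEmbOfFin hA) := by
      rw [Finset.range_orderEmbOfFin]; exact hxA
    have hxB' : x ∈ Set.range (B.orderEmbOfFin hB) := by
      rw [Finset.range_orderEmbOfFin]; exact hxB
    obtain ⟨i, hi⟩ := hxA'
    obtain ⟨j, hj⟩ := hxB'
    have hne : Fin.castAdd r i ≠ Fin.natAdd p j :=
      ne_of_lt (Groth.Agent.H74.Laplace.castAdd_lt_natAdd' i j)
    have hrow : (M.submatrix ρ id) (Fin.castAdd r i) = (M.submatrix ρ id) (Fin.natAdd p j) := by
      funext c
      simp only [Matrix.submatrix_apply, hρl, hρr, hi, hj]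
    rw [Matrix.det_zero_of_row_eq hne hrow, mul_zero]

end Groth.Agent.S14879
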