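import Groth.Statements.S14886
import Groth.Agent.H40.PrincBundle

set_option autoImplicit false
universe u
open CategoryTheory MonoidalCategory CartesianMonoidalCategory MonObj GrpObj AlgebraicGeometry CategoryTheory.Limits
open AlgGrp

namespace Groth.Agent.S14886

/-- Over an algebraically closed field k of characteristic zero, let G be a connected algebraic group (a
smooth connected k-group scheme of finite type) and H an algebraic subgroup (a smooth closed
subgroup scheme, j : H → G). Let π : G → B be the quotient of G by H (a geometric quotient for the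
action h·g = g·h⁻¹ which is a principal H-bundle: (h, g) ↦ (g·h⁻¹, g) is an isomorphism H × G ≅ G
×_B G and π is flat). Let X and Y be varieties (reduced, separated, of finite type over k) with
H-actions, in each of which every finite set of points lies in an affine open subset, and let qX : G
× X → QX, qY : G × Y → QY and qXY : G × (X × Y) → QXY be the associated bundles G_H(X), G_H(Y) and
G_H(X × Y): geometric quotients (invariant, surjective, open, fibre-pair map surjective on points,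
sections = invariant sections) which are principal H-bundles, for the actions h·(g, x) = (g·h⁻¹,
h·x), h·(g, y) = (g·h⁻¹, h·y) and h·(g, x, y) = (g·h⁻¹, h·x, h·y), with QX, QY, QXY varieties over B
= G/H through pX, pY, pXY satisfying p ∘ q = π ∘ pr₁. Let fX : QXY → QX and fY : QXY → QY be the
morphisms over B induced by the projections, fX ∘ qXY = qX ∘ (id × pr₁) and fY ∘ qXY = qY ∘ (id ×
pr₂). Then the square formed by fX, fY, pX, pY is cartesian: G_H(X × Y) is the fibre product of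
G_H(X) and G_H(Y) over G/H. -/
theorem result (k : Type u) [Field k] [IsAlgClosed k] [CharZero k]
    (G H : Over (Spec (CommRingCat.of k))) [GrpObj G] [Smooth G.hom] [QuasiCompact G.hom]
    [ConnectedSpace ↥G.left] [GrpObj H] (j : H ⟶ G) [IsMonHom j] [IsClosedImmersion j.left] [Smooth H.hom]
    (B : Over (Spec (CommRingCat.of k))) [LocallyOfFiniteType B.hom] [QuasiCompact B.hom] [IsSeparated B.hom] [IsReduced B.left]
    (r : AlgGrp.Action H G) (hr : ∀ (T : Over (Spec (CommRingCat.of k))) (h : T ⟶ H) (g : T ⟶ G),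
      lift h g ≫ r.act = g * (h ≫ j)⁻¹)
    (π : G ⟶ B) (hπinv : GIT.IsInvariant r π)
    (hπ : (Function.Surjective π.left.base ∧ IsOpenMap π.left.base ∧
      Function.Surjective (GIT.PsiY r π hπinv).base ∧
      (∀ U : B.left.Opens, Function.Injective (π.left.app U) ∧
        Set.range (π.left.app U) = {f | GIT.IsInvSection r π U f}) ∧
      IsIso (GIT.PsiY r π hπinv) ∧ Flat π.left))
    (X Y : Over (Spec (CommRingCat.of k))) [LocallyOfFiniteType X.hom] [QuasiCompact X.hom] [IsSeparated X.hom] [IsReduced X.left] [LocallyOfFiniteType Y.hom] [QuasiCompact Y.hom] [IsSeparated Y.hom] [IsReduced Y.left]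
    (hFX : ∀ F : Finset ↥X.left, ∃ U : X.left.Opens, IsAffineOpen U ∧ (↑F : Set ↥X.left) ⊆ (U : Set ↥X.left))
    (hFY : ∀ F : Finset ↥Y.left, ∃ U : Y.left.Opens, IsAffineOpen U ∧ (↑F : Set ↥Y.left) ⊆ (U : Set ↥Y.left))
    (aX : AlgGrp.Action H X) (aY : AlgGrp.Action H Y)
    (b : AlgGrp.Action H (G ⊗ X))
    (hb : ∀ (T : Over (Spec (CommRingCat.of k))) (h : T ⟶ H) (g : T ⟶ G) (x : T ⟶ X),
      lift h (lift g x) ≫ b.act = lift (g * (h ≫ j)⁻¹) (lift h x ≫ aX.act))
    (c : AlgGrp.Action H (G ⊗ Y))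
    (hc : ∀ (T : Over (Spec (CommRingCat.of k))) (h : T ⟶ H) (g : T ⟶ G) (x : T ⟶ Y),
      lift h (lift g x) ≫ c.act = lift (g * (h ≫ j)⁻¹) (lift h x ≫ aY.act))
    (d : AlgGrp.Action H (G ⊗ (X ⊗ Y)))
    (hd : ∀ (T : Over (Spec (CommRingCat.of k))) (h : T ⟶ H) (g : T ⟶ G) (x : T ⟶ X) (y : T ⟶ Y),
      lift h (lift g (lift x y)) ≫ d.act = lift (g * (h ≫ j)⁻¹) (lift (lift h x ≫ aX.act) (lift h y ≫ aY.act)))
    (QX QY QXY : Over (Spec (CommRingCat.of k))) [LocallyOfFiniteType QX.hom] [QuasiCompact QX.hom] [IsSeparated QX.hom] [IsReduced QX.left] [LocallyOfFiniteType QY.hom] [QuasiCompact QY.hom] [IsSeparated QY.hom] [IsReduced QY.left] [LocallyOfFiniteType QXY.hom] [QuasiCompact QXY.hom] [IsSeparated QXY.hom] [IsReduced QXY.left]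
    (qX : G ⊗ X ⟶ QX) (hqXinv : GIT.IsInvariant b qX) (hqX : (Function.Surjective qX.left.base ∧ IsOpenMap qX.left.base ∧
      Function.Surjective (GIT.PsiY b qX hqXinv).base ∧
      (∀ U : QX.left.Opens, Function.Injective (qX.left.app U) ∧
        Set.range (qX.left.app U) = {f | GIT.IsInvSection b qX U f}) ∧
      IsIso (GIT.PsiY b qX hqXinv) ∧ Flat qX.left))
    (qY : G ⊗ Y ⟶ QY) (hqYinv : GIT.IsInvariant c qY) (hqY : (Function.Surjective qY.left.base ∧ IsOpenMap qY.left.base ∧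
      Function.Surjective (GIT.PsiY c qY hqYinv).base ∧
      (∀ U : QY.left.Opens, Function.Injective (qY.left.app U) ∧
        Set.range (qY.left.app U) = {f | GIT.IsInvSection c qY U f}) ∧
      IsIso (GIT.PsiY c qY hqYinv) ∧ Flat qY.left))
    (qXY : G ⊗ (X ⊗ Y) ⟶ QXY) (hqXYinv : GIT.IsInvariant d qXY) (hqXY : (Function.Surjective qXY.left.base ∧ IsOpenMap qXY.left.base ∧
      Function.Surjective (GIT.PsiY d qXY hqXYinv).base ∧
      (∀ U : QXY.left.Opens, Function.Injective (qXY.left.app U) ∧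
        Set.range (qXY.left.app U) = {f | GIT.IsInvSection d qXY U f}) ∧
      IsIso (GIT.PsiY d qXY hqXYinv) ∧ Flat qXY.left))
    (pX : QX ⟶ B) (hpX : qX ≫ pX = fst G X ≫ π) (pY : QY ⟶ B) (hpY : qY ≫ pY = fst G Y ≫ π)
    (pXY : QXY ⟶ B) (hpXY : qXY ≫ pXY = fst G (X ⊗ Y) ≫ π)
    (fX : QXY ⟶ QX) (hfX : qXY ≫ fX = (G ◁ fst X Y) ≫ qX) (hfXp : fX ≫ pX = pXY)
    (fY : QXY ⟶ QY) (hfY : qXY ≫ fY = (G ◁ snd X Y) ≫ qY) (hfYp : fY ≫ pY = pXY) :
    IsPullback fX.left fY.left pX.left pY.left := by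
  open Groth.Agent.H40.PrincBundle Groth.Agent.H40.FpqcFam in
  obtain ⟨hπsurj, -, -, -, hπiso, hπflat⟩ := hπ
  obtain ⟨hXsurj, -, -, -, hXiso, hXflat⟩ := hqX
  obtain ⟨hYsurj, -, -, -, hYiso, hYflat⟩ := hqY
  obtain ⟨hXYsurj, -, -, -, hXYiso, hXYflat⟩ := hqXY
  have hπqc : QuasiCompact π.left := by
    have : QuasiCompact (π.left ≫ B.hom) := by rw [Over.w]; infer_instance
    exact QuasiCompact.of_comp π.left B.hom
  have hXqc : QuasiCompact qX.left := by
    have h0 : QuasiCompact (G ⊗ X).hom := by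
      rw [Over.tensorObj_hom]
      infer_instance
    have : QuasiCompact (qX.left ≫ QX.hom) := by rw [Over.w]; exact h0
    exact QuasiCompact.of_comp qX.left QX.hom
  have hYqc : QuasiCompact qY.left := by
    have h0 : QuasiCompact (G ⊗ Y).hom := by
      rw [Over.tensorObj_hom]
      infer_instance
    have : QuasiCompact (qY.left ≫ QY.hom) := by rw [Over.w]; exact h0
    exact QuasiCompact.of_comp qY.left QY.hom
  have hXYqc : QuasiCompact qXY.left := by
    have h00 : QuasiCompact (X ⊗ Y).hom := by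
      rw [Over.tensorObj_hom]
      infer_instance
    have h0 : QuasiCompact (G ⊗ (X ⊗ Y)).hom := by
      rw [Over.tensorObj_hom]
      infer_instance
    have : QuasiCompact (qXY.left ≫ QXY.hom) := by rw [Over.w]; exact h0
    exact QuasiCompact.of_comp qXY.left QXY.hom
  have PBπ := IsPB.of_psiY r π hπinv hπiso hπflat hπsurj hπqc
  have PBX := IsPB.of_psiY b qX hqXinv hXiso hXflat hXsurj hXqc
  have PBY := IsPB.of_psiY c qY hqYinv hYiso hYflat hYsurj hYqc
  have PBXY := IsPB.of_psiY d qXY hqXYinv hXYiso hXYflat hXYsurj hXYqc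
  have hpt₂ : ∀ {A C : Over (Spec (CommRingCat.of k))} {T : Over (Spec (CommRingCat.of k))}
      (p : T ⟶ A ⊗ C), p = lift (p ≫ fst A C) (p ≫ snd A C) := by
    intro A C T p
    rw [← comp_lift, lift_fst_snd, Category.comp_id]
  -- equivariance of the four projections
  have heqY : c.act ≫ fst G Y = (H ◁ fst G Y) ≫ r.act := by
    apply AlgGrp.Action.hom_ext_lift₂
    intro T h p
    rw [lift_whiskerLeft_assoc, hr, hpt₂ p, ← Category.assoc, hc, lift_fst, lift_fst]
  have hfXYX : d.act ≫ (G ◁ fst X Y) = (H ◁ (G ◁ fst X Y)) ≫ b.act := by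
    apply AlgGrp.Action.hom_ext_lift₂
    intro T h p
    have hp' : p = lift (p ≫ fst G (X ⊗ Y)) (lift (p ≫ snd G (X ⊗ Y) ≫ fst X Y)
        (p ≫ snd G (X ⊗ Y) ≫ snd X Y)) := by
      conv_lhs => rw [hpt₂ p, hpt₂ (p ≫ snd G (X ⊗ Y))]
      simp only [Category.assoc]
    rw [lift_whiskerLeft_assoc, hp', ← Category.assoc, hd, lift_whiskerLeft, lift_whiskerLeft,
      lift_fst, lift_fst, hb]
  have hfXYY : d.act ≫ (G ◁ snd X Y) = (H ◁ (G ◁ snd X Y)) ≫ c.act := by
    apply AlgGrp.Action.hom_ext_lift₂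
    intro T h p
    have hp' : p = lift (p ≫ fst G (X ⊗ Y)) (lift (p ≫ snd G (X ⊗ Y) ≫ fst X Y)
        (p ≫ snd G (X ⊗ Y) ≫ snd X Y)) := by
      conv_lhs => rw [hpt₂ p, hpt₂ (p ≫ snd G (X ⊗ Y))]
      simp only [Category.assoc]
    rw [lift_whiskerLeft_assoc, hp', ← Category.assoc, hd, lift_whiskerLeft, lift_whiskerLeft,
      lift_snd, lift_snd, hc]
  have sqB := PBπ.isPullback_of_equivariant PBY (fst G Y) pY heqY hpY
  have sqC := PBX.isPullback_of_equivariant PBXY (G ◁ fst X Y) fX hfXYX hfX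
  have sqD := PBY.isPullback_of_equivariant PBXY (G ◁ snd X Y) fY hfXYY hfY
  -- joint monicity of the two projections of `G ⊗ (X ⊗ Y)`
  have hjm : ∀ {T : Over (Spec (CommRingCat.of k))} (t t' : T ⟶ G ⊗ (X ⊗ Y)),
      t ≫ (G ◁ fst X Y) = t' ≫ (G ◁ fst X Y) → t ≫ (G ◁ snd X Y) = t' ≫ (G ◁ snd X Y) → t = t' := by
    intro T t t' h1 h2
    apply CartesianMonoidalCategory.hom_ext
    · have := congrArg (fun m => m ≫ fst G X) h1
      simpa only [Category.assoc, whiskerLeft_fst] using this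
    · apply CartesianMonoidalCategory.hom_ext
      · have := congrArg (fun m => m ≫ snd G X) h1
        simpa only [Category.assoc, whiskerLeft_snd] using this
      · have := congrArg (fun m => m ≫ snd G Y) h2
        simpa only [Category.assoc, whiskerLeft_snd] using this
  -- uniqueness, over any test object
  have huniq : ∀ (T : Over (Spec (CommRingCat.of k))) (w₁ w₂ : T ⟶ QXY),
      w₁ ≫ fX = w₂ ≫ fX → w₁ ≫ fY = w₂ ≫ fY → w₁ = w₂ := by
    intro T w₁ w₂ h1 h2
    have hloc := locTriv_pullback_fst w₁ qXY PBXY.flat PBXY.surj PBXY.qc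
    obtain ⟨p, hpdef⟩ : ∃ p : Limits.pullback w₁ qXY ⟶ T, p = pullback.fst w₁ qXY := ⟨_, rfl⟩
    obtain ⟨t, htdef⟩ : ∃ t : Limits.pullback w₁ qXY ⟶ G ⊗ (X ⊗ Y), t = pullback.snd w₁ qXY :=
      ⟨_, rfl⟩
    have hpt : p ≫ w₁ = t ≫ qXY := by rw [hpdef, htdef]; exact pullback.condition
    rw [← hpdef] at hloc
    have e2 : (t ≫ (G ◁ fst X Y)) ≫ qX = (p ≫ w₂) ≫ fX := by
      rw [Category.assoc, ← hfX, ← Category.assoc, ← hpt, Category.assoc, Category.assoc, h1]
    obtain ⟨t₂, ht₂def⟩ : ∃ t₂, t₂ = sqC.lift (t ≫ (G ◁ fst X Y)) (p ≫ w₂) e2 := ⟨_, rfl⟩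
    have ht₂1 : t₂ ≫ (G ◁ fst X Y) = t ≫ (G ◁ fst X Y) := by rw [ht₂def]; exact sqC.lift_fst _ _ _
    have ht₂2 : t₂ ≫ qXY = p ≫ w₂ := by rw [ht₂def]; exact sqC.lift_snd _ _ _
    have ht₂3 : t₂ ≫ (G ◁ snd X Y) = t ≫ (G ◁ snd X Y) := by
      apply sqB.hom_ext
      · have := congrArg (fun m => m ≫ fst G X) ht₂1
        simpa only [Category.assoc, whiskerLeft_fst] using this
      · rw [Category.assoc, Category.assoc, ← hfY, ← Category.assoc, ← Category.assoc, ht₂2, ← hpt,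
          Category.assoc, Category.assoc, h2]
    have htt : t₂ = t := hjm _ _ ht₂1 ht₂3
    apply exact_cancel' hloc
    rw [hpt, ← ht₂2, htt]
  refine (isPullback_of_pts (hfXp.trans hfYp.symm) ?_).map (Over.forget _)
  intro T zX zY hz
  have hloc := locTriv_pullback_fst zX qX PBX.flat PBX.surj PBX.qc
  obtain ⟨p, hpdef⟩ : ∃ p : Limits.pullback zX qX ⟶ T, p = pullback.fst zX qX := ⟨_, rfl⟩
  obtain ⟨s, hsdef⟩ : ∃ s : Limits.pullback zX qX ⟶ G ⊗ X, s = pullback.snd zX qX := ⟨_, rfl⟩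
  have hps : p ≫ zX = s ≫ qX := by rw [hpdef, hsdef]; exact pullback.condition
  rw [← hpdef] at hloc
  have e1 : (s ≫ fst G X) ≫ π = (p ≫ zY) ≫ pY := by
    rw [Category.assoc, ← hpX, ← Category.assoc, ← hps, Category.assoc, Category.assoc, hz]
  obtain ⟨sY, hsYdef⟩ : ∃ sY, sY = sqB.lift (s ≫ fst G X) (p ≫ zY) e1 := ⟨_, rfl⟩
  have hsY1 : sY ≫ fst G Y = s ≫ fst G X := by rw [hsYdef]; exact sqB.lift_fst _ _ _
  have hsY2 : sY ≫ qY = p ≫ zY := by rw [hsYdef]; exact sqB.lift_snd _ _ _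
  obtain ⟨t, htdef⟩ : ∃ t : Limits.pullback zX qX ⟶ G ⊗ (X ⊗ Y),
      t = lift (s ≫ fst G X) (lift (s ≫ snd G X) (sY ≫ snd G Y)) := ⟨_, rfl⟩
  have ht1 : t ≫ (G ◁ fst X Y) = s := by
    rw [htdef, lift_whiskerLeft, lift_fst]
    exact (hpt₂ s).symm
  have ht2 : t ≫ (G ◁ snd X Y) = sY := by
    rw [htdef, lift_whiskerLeft, lift_snd, ← hsY1]
    exact (hpt₂ sY).symm
  obtain ⟨w', hw'def⟩ : ∃ w', w' = t ≫ qXY := ⟨_, rfl⟩
  have hw'X : w' ≫ fX = p ≫ zX := by
    rw [hw'def, Category.assoc, hfX, ← Category.assoc, ht1, hps]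
  have hw'Y : w' ≫ fY = p ≫ zY := by
    rw [hw'def, Category.assoc, hfY, ← Category.assoc, ht2, hsY2]
  obtain ⟨u, hu⟩ := desc_of_const' hloc w' (by
    intro T' t₁ t₂ ht
    apply huniq
    · rw [Category.assoc, Category.assoc, hw'X, ← Category.assoc, ← Category.assoc, ht]
    · rw [Category.assoc, Category.assoc, hw'Y, ← Category.assoc, ← Category.assoc, ht])
  refine ⟨u, ⟨?_, ?_⟩, ?_⟩
  · apply exact_cancel' hloc
    rw [← Category.assoc, hu, hw'X]
  · apply exact_cancel' hloc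
    rw [← Category.assoc, hu, hw'Y]
  · rintro u' ⟨h1, h2⟩
    apply huniq
    · apply exact_cancel' hloc
      rw [h1, ← Category.assoc, hu, hw'X]
    · apply exact_cancel' hloc
      rw [h2, ← Category.assoc, hu, hw'Y]
end Groth.Agent.S14886
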