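import Groth.Statements.S14888
import Mathlib

set_option autoImplicit false
set_option maxHeartbeats 400000
universe u
open CategoryTheory AlgebraicGeometry
open CAlg

namespace Groth.Agent.S14888

open CategoryTheory CategoryTheory.Limits AlgebraicGeometry

theorem away_of_finite {B S : Type*} [CommRing B] [CommRing S] [Algebra B S]
    [Finite (PrimeSpectrum B)]
    (q : Ideal B) [hq : q.IsPrime] [IsLocalization.AtPrime S q] :
    ∃ b : B, IsLocalization.Away b S := by
  classical
  haveI := Fintype.ofFinite (PrimeSpectrum B)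
  have hex : ∀ p : PrimeSpectrum B, ¬ p.asIdeal ≤ q → ∃ b, b ∈ p.asIdeal ∧ b ∉ q := fun p hp =>
    SetLike.not_le_iff_exists.mp hp
  choose! bp hbp using hex
  let T : Finset (PrimeSpectrum B) := Finset.univ.filter (fun p => ¬ p.asIdeal ≤ q)
  have hbq : ∏ p ∈ T, bp p ∉ q := by
    rw [Ideal.IsPrime.prod_mem_iff]
    rintro ⟨p, hp, hpq⟩
    exact (hbp p (Finset.mem_filter.mp hp).2).2 hpq
  have hle : ∀ p : PrimeSpectrum B, ∏ p ∈ T, bp p ∉ p.asIdeal → p.asIdeal ≤ q := by
    intro p hp
    by_contra hnle
    apply hp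
    haveI := p.isPrime
    rw [Ideal.IsPrime.prod_mem_iff]
    exact ⟨p, Finset.mem_filter.mpr ⟨Finset.mem_univ _, hnle⟩, (hbp p hnle).1⟩
  have key : ∀ t : B, t ∉ q → ∃ (k : ℕ) (c : B), (∏ p ∈ T, bp p) ^ k = t * c := by
    intro t ht
    have hrad : (∏ p ∈ T, bp p) ∈ Ideal.radical (Ideal.span {t}) := by
      rw [Ideal.radical_eq_sInf, Ideal.mem_sInf]
      rintro J ⟨hJ, hJp⟩
      by_contra hbJ
      have := hle ⟨J, hJp⟩ hbJ
      exact ht (this (hJ (Ideal.mem_span_singleton_self t)))
    obtain ⟨k, hk⟩ := hrad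
    obtain ⟨c, hc⟩ := Ideal.mem_span_singleton'.mp hk
    exact ⟨k, c, by rw [← hc, mul_comm]⟩
  refine ⟨∏ p ∈ T, bp p, ?_⟩
  refine IsLocalization.Away.mk _ ?_ ?_ ?_
  · exact IsLocalization.map_units S (⟨_, hbq⟩ : q.primeCompl)
  · intro s
    obtain ⟨⟨a, t⟩, h⟩ := IsLocalization.surj q.primeCompl s
    obtain ⟨k, c, hkc⟩ := key t t.2
    refine ⟨k, a * c, ?_⟩
    simp only at h
    rw [← map_pow, hkc, map_mul, ← mul_assoc, h, map_mul]
  · intro x y hxy
    obtain ⟨t, ht⟩ := (IsLocalization.eq_iff_exists q.primeCompl S).mp hxy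
    obtain ⟨k, c, hkc⟩ := key t t.2
    refine ⟨k, ?_⟩
    rw [hkc, mul_comm (t : B) c, mul_assoc, ht, mul_assoc]

set_option backward.isDefEq.respectTransparency.types false in

/-- Let R be a valuation ring whose spectrum is finite (finite height) and let f : X → Spec R be locally
of finite type with locally quasi-finite fibres. For every x ∈ X the canonical morphism Spec O_{X,x}
→ X is an open immersion, and the composite Spec O_{X,x} → Spec R is locally of finite type; in
particular O_{X,x} is finitely generated as an R-algebra. (The published statement takes X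
quasi-finite over Spec R; the assertions are local at x, so this row assumes only that X is locally
of finite type with discrete fibres.) -/
theorem result
    (R : Type u) [CommRing R] [IsDomain R] [ValuationRing R] [Finite (PrimeSpectrum R)]
    {X : Scheme.{u}} (f : X ⟶ Spec (CommRingCat.of R)) [LocallyOfFiniteType f] [LocallyQuasiFinite f]
    (x : X) :
    IsOpenImmersion (X.fromSpecStalk x) ∧ LocallyOfFiniteType (X.fromSpecStalk x ≫ f) := by
  let U : X.Opens := (X.affineCover.f (X.affineCover.idx x)).opensRange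
  have hU : IsAffineOpen U := isAffineOpen_opensRange _
  have hxU : x ∈ U := X.affineCover.covers x
  haveI : IsAffine U.toScheme := hU
  haveI hfinR : Finite ↥(Spec (CommRingCat.of R)) := inferInstanceAs (Finite (PrimeSpectrum R))
  haveI : QuasiCompact (U.ι ≫ f) := inferInstance
  haveI : LocallyQuasiFinite (U.ι ≫ f) := inferInstance
  have hfinU : Finite ↥U.toScheme := by
    have h1 := (U.ι ≫ f).finite_preimage (Set.finite_univ (α := ↥(Spec (CommRingCat.of R))))
    rw [Set.preimage_univ] at h1
    exact Set.finite_univ_iff.mp h1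
  haveI hfinB : Finite (PrimeSpectrum Γ(X, U)) :=
    Finite.of_equiv ↥U.toScheme (Scheme.homeoOfIso hU.isoSpec).toEquiv
  letI := X.presheaf.algebra_section_stalk ⟨x, hxU⟩
  haveI := hU.isLocalization_stalk ⟨x, hxU⟩
  obtain ⟨b, hb⟩ := away_of_finite (B := Γ(X, U)) (S := X.presheaf.stalk x)
    (hU.primeIdealOf ⟨x, hxU⟩).asIdeal
  haveI h1 : IsOpenImmersion (Spec.map (X.presheaf.germ U x hxU)) :=
    IsOpenImmersion.of_isLocalization (R := Γ(X, U)) (S := X.presheaf.stalk x) b
  haveI h2 : IsOpenImmersion (X.fromSpecStalk x) := by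
    rw [← hU.fromSpecStalk_eq_fromSpecStalk hxU]
    unfold IsAffineOpen.fromSpecStalk
    infer_instance
  exact ⟨h2, inferInstance⟩

end Groth.Agent.S14888
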