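import Groth.Statements.S14909
import Groth.Agent.H27.WC2

set_option autoImplicit false
universe u
open Neron

namespace Groth.Agent.S14909

/-- Let R be a discrete valuation ring with uniformizer ϖ, let a₁, a₆ ∈ R with a₁ of valuation v ≥ 1, a₆
of valuation 1, and 2 of valuation at least v (so the residue characteristic is 2; 2 = 0 is
allowed). In the power series ring S = R[[x, y]] let M = (ϖ, x, y) be the maximal ideal and I the
ideal generated by y² + a₁xy − x³ − a₆, 2y + a₁x and 3x² − a₁y, so that S/I is a local ring with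
maximal ideal m = M/I. Then the classes of y^(2v) and x·y^(2v−1) form a basis of the vector space
m^(2v)/m^(2v+1) over the residue field: M^(2v) + I = (y^(2v), x·y^(2v−1)) + I, and whenever a·y^(2v)
+ b·x·y^(2v−1) ∈ M^(2v+1) + I with a, b ∈ R, both a and b lie in the maximal ideal of R. (Generation
holds with any exponent i ≥ 1 in place of 2v: M^i + I = (y^i, x·y^(i−1)) + I.) -/
theorem result (R : Type u) [CommRing R] [IsDomain R] [IsDiscreteValuationRing R]
    (ϖ a₁ a₆ : R) (hϖ : Irreducible ϖ) (v : ℕ) (hv : 1 ≤ v) (u₁ u₆ : Rˣ) (ha₁ : a₁ = u₁ * ϖ ^ v) (ha₆ : a₆ = u₆ * ϖ)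
    (h2 : (2 : R) ∈ IsLocalRing.maximalIdeal R ^ v)
    (x y : MvPowerSeries (Fin 2) R) (hx : x = MvPowerSeries.X 0) (hy : y = MvPowerSeries.X 1)
    (I M : Ideal (MvPowerSeries (Fin 2) R))
    (hI : I = Ideal.span {y ^ 2 + a₁ • (x * y) - x ^ 3 - algebraMap R (MvPowerSeries (Fin 2) R) a₆,
      2 * y + a₁ • x, 3 * x ^ 2 - a₁ • y})
    (hM : M = Ideal.span {algebraMap R (MvPowerSeries (Fin 2) R) ϖ, x, y}) :
    M ^ (2 * v) ⊔ I = Ideal.span {y ^ (2 * v), x * y ^ (2 * v - 1)} ⊔ I ∧
      ∀ a b : R, a • y ^ (2 * v) + b • (x * y ^ (2 * v - 1)) ∈ M ^ (2 * v + 1) ⊔ I →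
        a ∈ IsLocalRing.maximalIdeal R ∧ b ∈ IsLocalRing.maximalIdeal R := by
  classical
  subst hx hy
  have hmR : IsLocalRing.maximalIdeal R = Ideal.span {ϖ} := hϖ.maximalIdeal_eq
  obtain ⟨w, hw⟩ : ∃ w, w * ϖ ^ v = 2 := by
    rw [hmR, Ideal.span_singleton_pow] at h2
    exact Ideal.mem_span_singleton'.mp h2
  have h2m : (2 : R) ∈ IsLocalRing.maximalIdeal R := Ideal.pow_le_self (by omega) h2
  have h3 : IsUnit (3 : R) := by
    by_contra h
    have h3m : (3 : R) ∈ IsLocalRing.maximalIdeal R := (IsLocalRing.mem_maximalIdeal _).mpr h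
    have h1 : (1 : R) ∈ IsLocalRing.maximalIdeal R := by
      have e : (3 : R) - 2 = 1 := by norm_num
      rw [← e]; exact Ideal.sub_mem _ h3m h2m
    exact (Ideal.ne_top_iff_one _).mp (IsLocalRing.maximalIdeal.isMaximal R).ne_top h1
  obtain ⟨i3, hi3⟩ := h3.exists_right_inv
  have hϖ0 : ϖ ≠ 0 := hϖ.ne_zero
  set x : MvPowerSeries (Fin 2) R := MvPowerSeries.X 0 with hxdef
  set y : MvPowerSeries (Fin 2) R := MvPowerSeries.X 1 with hydef
  set c := algebraMap R (MvPowerSeries (Fin 2) R) with hc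
  set p := c ϖ with hp
  set Y : Ideal (MvPowerSeries (Fin 2) R) := Ideal.span {x, y} with hY
  have hxY : x ∈ Y := Ideal.subset_span (by simp)
  have hyY : y ∈ Y := Ideal.subset_span (by simp)
  have hca₁ : c a₁ = c u₁ * p ^ v := by rw [ha₁, map_mul, map_pow]
  have hca₆ : c a₆ = c u₆ * p := by rw [ha₆, map_mul]
  have hc2 : (2 : MvPowerSeries (Fin 2) R) = c w * p ^ v := by
    rw [← map_pow, ← map_mul, hw, map_ofNat]
  have hu6 : c (↑u₆⁻¹ : R) * c u₆ = 1 := by rw [← map_mul, Units.inv_mul, map_one]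
  have h3c : c i3 * 3 = 1 := by
    rw [← map_ofNat c 3, ← map_mul, mul_comm, hi3, map_one]
  -- generators of I
  set F := y ^ 2 + a₁ • (x * y) - x ^ 3 - c a₆ with hF
  set Fy := 2 * y + a₁ • x with hFy
  set Fx := 3 * x ^ 2 - a₁ • y with hFx
  have hFe : F = y ^ 2 + c u₁ * p ^ v * (x * y) - x ^ 3 - c u₆ * p := by
    rw [hF, Algebra.smul_def, ← hc, hca₁, hca₆]
  have hFye : Fy = c w * p ^ v * y + c u₁ * p ^ v * x := by
    rw [hFy, Algebra.smul_def, ← hc, hca₁, hc2]
  have hFxe : Fx = 3 * x ^ 2 - c u₁ * p ^ v * y := by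
    rw [hFx, Algebra.smul_def, ← hc, hca₁]
  have hFI : F ∈ I := by rw [hI]; exact Ideal.subset_span (by simp)
  have hFxI : Fx ∈ I := by rw [hI]; exact Ideal.subset_span (by simp)
  have hMY : Y ≤ M := by
    rw [hM, hY]; exact Ideal.span_mono (by intro z hz; right; exact hz)
  have hy2 : y ^ 2 ∈ Y ^ 2 := Ideal.pow_mem_pow hyY 2
  have hxy : x * y ∈ Y ^ 2 := by rw [pow_two]; exact Ideal.mul_mem_mul hxY hyY
  have hx2' : x ^ 2 ∈ Y ^ 2 := Ideal.pow_mem_pow hxY 2
  have hy1 : y ∈ Y ^ 1 := by rwa [pow_one]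
  have hx1 : x ∈ Y ^ 1 := by rwa [pow_one]
  refine ⟨?_, ?_⟩
  · ----- generation
    have hpI : p ∈ I ⊔ Y ^ 2 := by
      have e1 : p = -(c (↑u₆⁻¹ : R)) * F + c (↑u₆⁻¹ : R) * (y ^ 2 + c u₁ * p ^ v * (x * y) - x ^ 3) := by
        rw [hFe]; linear_combination (-p) * hu6
      rw [e1]
      refine Submodule.add_mem _ (Ideal.mem_sup_left (Ideal.mul_mem_left _ _ hFI))
        (Ideal.mem_sup_right (Ideal.mul_mem_left _ _ ?_))
      refine Ideal.sub_mem _ (Ideal.add_mem _ hy2 (Ideal.mul_mem_left _ _ hxy)) ?_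
      have : x ^ 3 = x * x ^ 2 := by ring
      rw [this]; exact Ideal.mul_mem_left _ _ hx2'
    have hMle : M ≤ I ⊔ Y := by
      rw [hM, Ideal.span_le]
      rintro z (rfl | rfl | rfl)
      · exact (sup_le_sup_left (Ideal.pow_le_self two_ne_zero) I) hpI
      · exact Ideal.mem_sup_right hxY
      · exact Ideal.mem_sup_right hyY
    have hx2 : x ^ 2 ∈ I ⊔ Y ^ (2 * v + 1) := by
      have e1 : x ^ 2 = c i3 * Fx + c i3 * c u₁ * p ^ v * y := by
        rw [hFxe]; linear_combination (-(x ^ 2)) * h3c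
      rw [e1]
      exact Submodule.add_mem _ (Ideal.mem_sup_left (Ideal.mul_mem_left _ _ hFxI))
        (Groth.Agent.H27.WC2.mul_pow_mul_mem I Y p hpI v 1 _ y hy1)
    obtain ⟨n, hn⟩ : ∃ n, 2 * v = n + 2 := ⟨2 * v - 2, by omega⟩
    have hn1 : 2 * v - 1 = n + 1 := by omega
    apply le_antisymm
    · refine sup_le ?_ le_sup_right
      have hjac : M ≤ Ideal.jacobson (⊥ : Ideal (MvPowerSeries (Fin 2) R)) := by
        rw [IsLocalRing.jacobson_eq_maximalIdeal ⊥ bot_ne_top]
        apply IsLocalRing.le_maximalIdeal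
        intro htop
        have hle : M ≤ Ideal.comap (MvPowerSeries.constantCoeff (σ := Fin 2) (R := R))
            (IsLocalRing.maximalIdeal R) := by
          rw [hM, Ideal.span_le]
          rintro z (rfl | rfl | rfl)
          · rw [SetLike.mem_coe, Ideal.mem_comap, hp, hc, MvPowerSeries.algebraMap_apply,
              MvPowerSeries.constantCoeff_C, hmR]
            exact Ideal.subset_span rfl
          · rw [SetLike.mem_coe, Ideal.mem_comap, hxdef, MvPowerSeries.constantCoeff_X]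
            exact Ideal.zero_mem _
          · rw [SetLike.mem_coe, Ideal.mem_comap, hydef, MvPowerSeries.constantCoeff_X]
            exact Ideal.zero_mem _
        have h1 : (1 : MvPowerSeries (Fin 2) R) ∈ M := by rw [htop]; exact Submodule.mem_top
        have := hle h1
        rw [Ideal.mem_comap, map_one] at this
        exact (Ideal.ne_top_iff_one _).mp (IsLocalRing.maximalIdeal.isMaximal R).ne_top this
      have hfg : (M ^ (2 * v)).FG := by
        apply Ideal.FG.pow
        rw [hM]; exact ⟨{p, x, y}, by simp⟩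
      refine Submodule.le_of_le_smul_of_le_jacobson_bot hfg hjac ?_
      intro z hz
      have h1 := Groth.Agent.H27.WC2.pow_le_of_le I Y M hMle (2 * v) hz
      obtain ⟨i, hi, t, ht, rfl⟩ := Submodule.mem_sup.mp h1
      have h2' : t ∈ Ideal.span {x ^ 2} ⊔ Ideal.span {y ^ (n + 2), x * y ^ (n + 1)} := by
        rw [hn] at ht
        exact Groth.Agent.H27.WC2.span_pow_add_two_le n ht
      obtain ⟨q, hq, r, hr, rfl⟩ := Submodule.mem_sup.mp h2'
      obtain ⟨q', rfl⟩ := Ideal.mem_span_singleton'.mp hq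
      have h3' : q' * x ^ 2 ∈ I ⊔ Y ^ (2 * v + 1) := Ideal.mul_mem_left _ _ hx2
      obtain ⟨i', hi', t', ht', h4⟩ := Submodule.mem_sup.mp h3'
      have ht'M : t' ∈ M • M ^ (2 * v) := by
        rw [smul_eq_mul, ← pow_succ']
        exact Ideal.pow_right_mono hMY _ ht'
      rw [← h4]
      have hr' : r ∈ Ideal.span {y ^ (2 * v), x * y ^ (2 * v - 1)} := by
        rw [hn1, hn]; exact hr
      have e2 : i + (i' + t' + r) = (r + (i + i')) + t' := by ring
      rw [e2]
      exact Submodule.add_mem _ (Ideal.mem_sup_left (Submodule.add_mem _ (Ideal.mem_sup_left hr')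
        (Ideal.mem_sup_right (Ideal.add_mem _ hi hi')))) (Ideal.mem_sup_right ht'M)
    · refine sup_le ?_ le_sup_right
      rw [Ideal.span_le]
      rintro z (rfl | rfl)
      · exact Ideal.mem_sup_left (Ideal.pow_mem_pow (hMY hyY) _)
      · have : 2 * v = 1 + (2 * v - 1) := by omega
        rw [this, pow_add, pow_one, ← this]
        exact Ideal.mem_sup_left (Ideal.mul_mem_mul (hMY hxY) (Ideal.pow_mem_pow (hMY hyY) _))
  · ----- independence
    intro a b hab
    set g₂ := c u₆ * p - y ^ 2 with hg₂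
    set B : Ideal (MvPowerSeries (Fin 2) R) := Ideal.span {x ^ 2, g₂} with hB
    have hx2B : x ^ 2 ∈ B := Ideal.subset_span (by simp)
    have hg₂B : g₂ ∈ B := Ideal.subset_span (by simp)
    have hpB : p ∈ B ⊔ Y ^ 2 := by
      have e1 : p = c (↑u₆⁻¹ : R) * g₂ + c (↑u₆⁻¹ : R) * y ^ 2 := by
        rw [hg₂]; linear_combination (-p) * hu6
      rw [e1]
      exact Submodule.add_mem _ (Ideal.mem_sup_left (Ideal.mul_mem_left _ _ hg₂B))
        (Ideal.mem_sup_right (Ideal.mul_mem_left _ _ hy2))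
    have hMle : M ≤ B ⊔ Y := by
      rw [hM, Ideal.span_le]
      rintro z (rfl | rfl | rfl)
      · exact (sup_le_sup_left (Ideal.pow_le_self two_ne_zero) B) hpB
      · exact Ideal.mem_sup_right hxY
      · exact Ideal.mem_sup_right hyY
    have hmono : ∀ k, 2 * v + 1 ≤ k → B ⊔ Y ^ k ≤ B ⊔ Y ^ (2 * v + 1) := fun k hk =>
      sup_le_sup_left (Ideal.pow_le_pow_right hk) B
    have hIle : I ≤ B ⊔ Y ^ (2 * v + 1) := by
      rw [hI, Ideal.span_le]
      rintro z (rfl | rfl | rfl)
      · show F ∈ _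
        have e1 : F = (-1) * g₂ + c u₁ * p ^ v * (x * y) + (-x) * x ^ 2 := by
          rw [hFe, hg₂]; ring
        rw [e1]
        refine Submodule.add_mem _ (Submodule.add_mem _
          (Ideal.mem_sup_left (Ideal.mul_mem_left _ _ hg₂B)) ?_)
          (Ideal.mem_sup_left (Ideal.mul_mem_left _ _ hx2B))
        exact hmono _ (by omega) (Groth.Agent.H27.WC2.mul_pow_mul_mem B Y p hpB v 2 _ _ hxy)
      · show Fy ∈ _
        rw [hFye]
        exact Submodule.add_mem _ (Groth.Agent.H27.WC2.mul_pow_mul_mem B Y p hpB v 1 _ _ hy1)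
          (Groth.Agent.H27.WC2.mul_pow_mul_mem B Y p hpB v 1 _ _ hx1)
      · show Fx ∈ _
        rw [hFxe]
        exact Submodule.sub_mem _ (Ideal.mem_sup_left (Ideal.mul_mem_left _ _ hx2B))
          (Groth.Agent.H27.WC2.mul_pow_mul_mem B Y p hpB v 1 _ _ hy1)
    have hzB : a • y ^ (2 * v) + b • (x * y ^ (2 * v - 1)) ∈ B ⊔ Y ^ (2 * v + 1) :=
      (sup_le (Groth.Agent.H27.WC2.pow_le_of_le B Y M hMle _) hIle) hab
    obtain ⟨g, hg, h, hh, hgh⟩ := Submodule.mem_sup.mp hzB
    obtain ⟨s₁, s₂, rfl⟩ := Ideal.mem_span_pair.mp hg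
    have hhO := Groth.Agent.H27.WC2.span_pow_le_O (R := R) (2 * v + 1) hh
    -- monomial forms
    have hy2v : y ^ (2 * v) = MvPowerSeries.monomial (Groth.Agent.H27.WC2.e 0 (2 * v)) (1 : R) := by
      have := Groth.Agent.H27.WC2.X0_pow_mul_X1_pow (R := R) 0 (2 * v)
      rwa [pow_zero, one_mul] at this
    have hxy2v : x * y ^ (2 * v - 1) =
        MvPowerSeries.monomial (Groth.Agent.H27.WC2.e 1 (2 * v - 1)) (1 : R) := by
      have := Groth.Agent.H27.WC2.X0_pow_mul_X1_pow (R := R) 1 (2 * v - 1)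
      rwa [pow_one] at this
    have hx2m : x ^ 2 = MvPowerSeries.monomial (Groth.Agent.H27.WC2.e 2 0) (1 : R) := by
      have := Groth.Agent.H27.WC2.X0_pow_mul_X1_pow (R := R) 2 0
      rwa [pow_zero, mul_one] at this
    have hy2m : y ^ 2 = MvPowerSeries.monomial (Groth.Agent.H27.WC2.e 0 2) (1 : R) := by
      have := Groth.Agent.H27.WC2.X0_pow_mul_X1_pow (R := R) 0 2
      rwa [pow_zero, one_mul] at this
    have hcup : c u₆ * p = MvPowerSeries.C (↑u₆ * ϖ) := by
      rw [hp, ← map_mul, hc, MvPowerSeries.algebraMap_apply]; rfl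
    -- the key coefficient equation
    have key : ∀ i j : ℕ, i ≤ 1 → i + j ≤ 2 * v →
        a * (if Groth.Agent.H27.WC2.e i j = Groth.Agent.H27.WC2.e 0 (2 * v) then 1 else 0) +
          b * (if Groth.Agent.H27.WC2.e i j = Groth.Agent.H27.WC2.e 1 (2 * v - 1) then 1 else 0) =
        MvPowerSeries.coeff (Groth.Agent.H27.WC2.e i j) s₂ * (↑u₆ * ϖ) -
          (if 2 ≤ j then MvPowerSeries.coeff (Groth.Agent.H27.WC2.e i (j - 2)) s₂ else 0) := by
      intro i j hi hij
      have h0 := congrArg (MvPowerSeries.coeff (Groth.Agent.H27.WC2.e i j)) hgh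
      have hh0 : MvPowerSeries.coeff (Groth.Agent.H27.WC2.e i j) h = 0 := by
        apply hhO
        rw [Groth.Agent.H27.WC2.e_degree]; omega
      rw [map_add, map_add, hh0, add_zero, hg₂, mul_sub, map_sub, hcup,
        MvPowerSeries.coeff_mul_C, hx2m, hy2m, MvPowerSeries.coeff_mul_monomial,
        MvPowerSeries.coeff_mul_monomial, hy2v, hxy2v, map_add, MvPowerSeries.coeff_smul,
        MvPowerSeries.coeff_smul, MvPowerSeries.coeff_monomial, MvPowerSeries.coeff_monomial]
        at h0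
      have hne : ¬ (2 ≤ i ∧ 0 ≤ j) := by omega
      have hsimp : (0 ≤ i ∧ 2 ≤ j) ↔ 2 ≤ j := by omega
      simp only [Groth.Agent.H27.WC2.e_le_iff, Groth.Agent.H27.WC2.e_sub, hne, if_false, zero_add,
        hsimp, Nat.sub_zero, mul_one, smul_eq_mul] at h0
      rw [← h0]
    have hu6ϖ : (↑u₆ * ϖ : R) ≠ 0 := mul_ne_zero u₆.ne_zero hϖ0
    -- vanishing of low coefficients
    have hvan : ∀ j i : ℕ, i ≤ 1 → i + j < 2 * v →
        MvPowerSeries.coeff (Groth.Agent.H27.WC2.e i j) s₂ = 0 := by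
      intro j
      induction j using Nat.strong_induction_on with
      | _ j ih =>
        intro i hi hij
        have hk := key i j hi (by omega)
        have hn1 : Groth.Agent.H27.WC2.e i j ≠ Groth.Agent.H27.WC2.e 0 (2 * v) := by
          intro h; have := Groth.Agent.H27.WC2.e_inj h; omega
        have hn2 : Groth.Agent.H27.WC2.e i j ≠ Groth.Agent.H27.WC2.e 1 (2 * v - 1) := by
          intro h; have := Groth.Agent.H27.WC2.e_inj h; omega
        rw [if_neg hn1, if_neg hn2, mul_zero, mul_zero, add_zero] at hk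
        have hprev : (if 2 ≤ j then MvPowerSeries.coeff (Groth.Agent.H27.WC2.e i (j - 2)) s₂ else 0)
            = 0 := by
          split_ifs with h2j
          · exact ih (j - 2) (by omega) i hi (by omega)
          · rfl
        rw [hprev, sub_zero] at hk
        exact (mul_eq_zero.mp hk.symm).resolve_right hu6ϖ
    rw [hmR]
    constructor
    · have hk := key 0 (2 * v) (by omega) (by omega)
      have hn2 : Groth.Agent.H27.WC2.e 0 (2 * v) ≠ Groth.Agent.H27.WC2.e 1 (2 * v - 1) := by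
        intro h; have := Groth.Agent.H27.WC2.e_inj h; omega
      rw [if_pos rfl, if_neg hn2, mul_one, mul_zero, add_zero, if_pos (by omega : 2 ≤ 2 * v),
        hvan (2 * v - 2) 0 (by omega) (by omega), sub_zero] at hk
      rw [hk]
      exact Ideal.mem_span_singleton'.mpr
        ⟨MvPowerSeries.coeff (Groth.Agent.H27.WC2.e 0 (2 * v)) s₂ * ↑u₆, by ring⟩
    · have hk := key 1 (2 * v - 1) (by omega) (by omega)
      have hn1 : Groth.Agent.H27.WC2.e 1 (2 * v - 1) ≠ Groth.Agent.H27.WC2.e 0 (2 * v) := by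
        intro h; have := Groth.Agent.H27.WC2.e_inj h; omega
      have hprev : (if 2 ≤ 2 * v - 1 then
          MvPowerSeries.coeff (Groth.Agent.H27.WC2.e 1 (2 * v - 1 - 2)) s₂ else 0) = 0 := by
        split_ifs with h2j
        · exact hvan (2 * v - 1 - 2) 1 (by omega) (by omega)
        · rfl
      rw [if_neg hn1, if_pos rfl, mul_one, mul_zero, zero_add, hprev, sub_zero] at hk
      rw [hk]
      exact Ideal.mem_span_singleton'.mpr
        ⟨MvPowerSeries.coeff (Groth.Agent.H27.WC2.e 1 (2 * v - 1)) s₂ * ↑u₆, by ring⟩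

end Groth.Agent.S14909
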