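import Groth.Statements.S14913
import Groth.Agent.H69.PerfUH

set_option autoImplicit false
universe u
open CategoryTheory AlgebraicGeometry
open PerfSch

namespace Groth.Agent.S14913

theorem quasiCompact_of_comp_surjective {X Y Z : Scheme.{u}} (f : X ⟶ Y) (g : Y ⟶ Z)
    [Surjective f] [QuasiCompact (f ≫ g)] : QuasiCompact g := by
  constructor
  intro U hU hUc
  have h1 : IsCompact ((f ≫ g) ⁻¹' U) := QuasiCompact.isCompact_preimage (f := f ≫ g) U hU hUc
  have h2 : g ⁻¹' U = f '' ((f ≫ g) ⁻¹' U) := by
    ext y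
    constructor
    · intro hy
      obtain ⟨x, rfl⟩ := f.surjective y
      exact ⟨x, by simpa using hy, rfl⟩
    · rintro ⟨x, hx, rfl⟩
      simpa using hx
  rw [h2]
  exact h1.image f.continuous

/-- Let p be a prime and let X, Y, X', Y' be schemes of characteristic p (p = 0 in the structure sheaf).
Let π_X : X' ⟶ X and π_Y : Y' ⟶ Y be perfections: X' is perfect (its absolute Frobenius is an
isomorphism) and every morphism from a perfect scheme of characteristic p to X factors uniquely
through π_X, and likewise for π_Y. Let f : X ⟶ Y be a morphism and f' : X' ⟶ Y' the induced morphism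
of perfections, the one with f' ≫ π_Y = π_X ≫ f. Then f is quasi-compact if and only if f' is
quasi-compact. -/
theorem result (p : ℕ) [Fact p.Prime] {X Y XP YP : Scheme.{u}}
    [FrobSch.IsCharP X p] [FrobSch.IsCharP Y p] [FrobSch.IsCharP XP p] [FrobSch.IsCharP YP p]
    (πX : XP ⟶ X) (πY : YP ⟶ Y) (hX : FrobSch.IsPerfection πX p) (hY : FrobSch.IsPerfection πY p)
    (f : X ⟶ Y) (fP : XP ⟶ YP) (w : fP ≫ πY = πX ≫ f) :
    AlgebraicGeometry.QuasiCompact f ↔ AlgebraicGeometry.QuasiCompact fP := by
  have hX' : FlatMor.IsUnivHomeo πX := Groth.Agent.H69.isUnivHomeo_of_isPerfection p πX hX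
  have hY' : FlatMor.IsUnivHomeo πY := Groth.Agent.H69.isUnivHomeo_of_isPerfection p πY hY
  haveI : IsIntegralHom πX := Groth.Agent.H69.isIntegralHom_of_isUnivHomeo πX hX'
  haveI : IsIntegralHom πY := Groth.Agent.H69.isIntegralHom_of_isUnivHomeo πY hY'
  haveI : Surjective πX := ⟨(Groth.Agent.H69.isHomeomorph_of_isUnivHomeo πX hX').surjective⟩
  constructor
  · intro hf
    haveI : QuasiCompact (fP ≫ πY) := by rw [w]; infer_instance
    exact QuasiCompact.of_comp fP πY
  · intro hfP
    haveI : QuasiCompact (πX ≫ f) := by rw [← w]; infer_instance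
    exact quasiCompact_of_comp_surjective πX f

end Groth.Agent.S14913
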