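import Groth.Statements.S14915
import Groth.Agent.H69.CharPAffine
import Groth.Agent.H69.PerfUH
import Mathlib

set_option autoImplicit false
universe u
open CategoryTheory AlgebraicGeometry
open PerfSch

namespace Groth.Agent.S14915

/-- Let p be a prime and let X, Y, X', Y' be schemes of characteristic p (p = 0 in the structure sheaf).
Let π_X : X' ⟶ X and π_Y : Y' ⟶ Y be perfections: X' is perfect (its absolute Frobenius is an
isomorphism) and every morphism from a perfect scheme of characteristic p to X factors uniquely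
through π_X, and likewise for π_Y. Let f : X ⟶ Y be a morphism and f' : X' ⟶ Y' the induced morphism
of perfections, the one with f' ≫ π_Y = π_X ≫ f. Then f is affine if and only if f' is affine. -/
theorem result (p : ℕ) [Fact p.Prime] {X Y XP YP : Scheme.{u}}
    [FrobSch.IsCharP X p] [FrobSch.IsCharP Y p] [FrobSch.IsCharP XP p] [FrobSch.IsCharP YP p]
    (πX : XP ⟶ X) (πY : YP ⟶ Y) (hX : FrobSch.IsPerfection πX p) (hY : FrobSch.IsPerfection πY p)
    (f : X ⟶ Y) (fP : XP ⟶ YP) (w : fP ≫ πY = πX ≫ f) :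
    AlgebraicGeometry.IsAffineHom f ↔ AlgebraicGeometry.IsAffineHom fP := by
  have hp : p.Prime := Fact.out
  have hUX : FlatMor.IsUnivHomeo πX := Groth.Agent.H69.isUnivHomeo_of_isPerfection p πX hX
  have hUY : FlatMor.IsUnivHomeo πY := Groth.Agent.H69.isUnivHomeo_of_isPerfection p πY hY
  haveI : IsIntegralHom πX := Groth.Agent.H69.isIntegralHom_of_isUnivHomeo _ hUX
  haveI : IsIntegralHom πY := Groth.Agent.H69.isIntegralHom_of_isUnivHomeo _ hUY
  constructor
  · intro hf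
    haveI : IsAffineHom (fP ≫ πY) := by
      rw [w]
      infer_instance
    exact IsAffineHom.of_comp fP πY
  · intro hfP
    rw [isAffineHom_iff]
    intro U hU
    have hV : IsAffineOpen (πY ⁻¹ᵁ U) := hU.preimage πY
    have hW : IsAffineOpen (fP ⁻¹ᵁ (πY ⁻¹ᵁ U)) := hV.preimage fP
    have heq : πX ⁻¹ᵁ (f ⁻¹ᵁ U) = fP ⁻¹ᵁ (πY ⁻¹ᵁ U) := by
      rw [← Scheme.Hom.comp_preimage, ← Scheme.Hom.comp_preimage, w]
    have hW' : IsAffineOpen (πX ⁻¹ᵁ (f ⁻¹ᵁ U)) := heq ▸ hW
    haveI : IsAffine ((πX ⁻¹ᵁ (f ⁻¹ᵁ U)).toScheme) := hW'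
    have hres : FlatMor.IsUnivHomeo (πX ∣_ (f ⁻¹ᵁ U)) :=
      Groth.Agent.H69.isUnivHomeo_morphismRestrict πX hUX (f ⁻¹ᵁ U)
    haveI : FrobSch.IsCharP (f ⁻¹ᵁ U).toScheme p := FrobSch.IsCharP.of_hom (f ⁻¹ᵁ U).ι p
    exact Groth.Agent.H69.isAffine_of_isUnivHomeo_of_charP (πX ∣_ (f ⁻¹ᵁ U)) hres p hp
      (FrobSch.IsCharP.natCast_eq_zero (X := (f ⁻¹ᵁ U).toScheme) (p := p))

end Groth.Agent.S14915
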