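import Groth.Statements.S14916
import Groth.Agent.H69.PerfUH

set_option autoImplicit false
universe u
open CategoryTheory AlgebraicGeometry
open PerfSch

namespace Groth.Agent.S14916

/-- Let p be a prime and let X, Y, X', Y' be schemes of characteristic p (p = 0 in the structure sheaf).
Let π_X : X' ⟶ X and π_Y : Y' ⟶ Y be perfections: X' is perfect (its absolute Frobenius is an
isomorphism) and every morphism from a perfect scheme of characteristic p to X factors uniquely
through π_X, and likewise for π_Y. Let f : X ⟶ Y be a morphism and f' : X' ⟶ Y' the induced morphism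
of perfections, the one with f' ≫ π_Y = π_X ≫ f. Then f is separated if and only if f' is separated. -/
theorem result (p : ℕ) [Fact p.Prime] {X Y XP YP : Scheme.{u}}
    [FrobSch.IsCharP X p] [FrobSch.IsCharP Y p] [FrobSch.IsCharP XP p] [FrobSch.IsCharP YP p]
    (πX : XP ⟶ X) (πY : YP ⟶ Y) (hX : FrobSch.IsPerfection πX p) (hY : FrobSch.IsPerfection πY p)
    (f : X ⟶ Y) (fP : XP ⟶ YP) (w : fP ≫ πY = πX ≫ f) :
    AlgebraicGeometry.IsSeparated f ↔ AlgebraicGeometry.IsSeparated fP := by
  have hX' : FlatMor.IsUnivHomeo πX := Groth.Agent.H69.isUnivHomeo_of_isPerfection p πX hX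
  have hY' : FlatMor.IsUnivHomeo πY := Groth.Agent.H69.isUnivHomeo_of_isPerfection p πY hY
  haveI : IsIntegralHom πX := Groth.Agent.H69.isIntegralHom_of_isUnivHomeo πX hX'
  haveI : IsIntegralHom πY := Groth.Agent.H69.isIntegralHom_of_isUnivHomeo πY hY'
  haveI : Surjective πX := ⟨(Groth.Agent.H69.isHomeomorph_of_isUnivHomeo πX hX').surjective⟩
  constructor
  · intro hf
    haveI : IsSeparated (fP ≫ πY) := by rw [w]; infer_instance
    exact IsSeparated.of_comp fP πY
  · intro hfP
    haveI : IsSeparated (πX ≫ f) := by rw [← w]; infer_instance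
    have hm : FlatMor.IsUnivHomeo (Limits.pullback.map (πX ≫ f) (πX ≫ f) f f πX πX (𝟙 Y)
        ((Category.comp_id _).trans rfl) ((Category.comp_id _).trans rfl)) :=
      MorphismProperty.pullbackMap hX' hX' rfl rfl
    have hcomm : Limits.pullback.diagonal (πX ≫ f) ≫
        Limits.pullback.map (πX ≫ f) (πX ≫ f) f f πX πX (𝟙 Y)
          ((Category.comp_id _).trans rfl) ((Category.comp_id _).trans rfl) =
        πX ≫ Limits.pullback.diagonal f := by
      apply Limits.pullback.hom_ext
      · have a1 : Limits.pullback.map (πX ≫ f) (πX ≫ f) f f πX πX (𝟙 Y)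
            ((Category.comp_id _).trans rfl) ((Category.comp_id _).trans rfl) ≫
            Limits.pullback.fst f f = Limits.pullback.fst (πX ≫ f) (πX ≫ f) ≫ πX :=
          Limits.pullback.lift_fst _ _ _
        calc (Limits.pullback.diagonal (πX ≫ f) ≫ _) ≫ Limits.pullback.fst f f
            = Limits.pullback.diagonal (πX ≫ f) ≫ (_ ≫ Limits.pullback.fst f f) :=
              Category.assoc _ _ _
          _ = Limits.pullback.diagonal (πX ≫ f) ≫
              (Limits.pullback.fst (πX ≫ f) (πX ≫ f) ≫ πX) := by rw [a1]
          _ = πX := by rw [← Category.assoc, Limits.pullback.diagonal_fst, Category.id_comp]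
          _ = (πX ≫ Limits.pullback.diagonal f) ≫ Limits.pullback.fst f f := by
              rw [Category.assoc, Limits.pullback.diagonal_fst, Category.comp_id]
      · have a1 : Limits.pullback.map (πX ≫ f) (πX ≫ f) f f πX πX (𝟙 Y)
            ((Category.comp_id _).trans rfl) ((Category.comp_id _).trans rfl) ≫
            Limits.pullback.snd f f = Limits.pullback.snd (πX ≫ f) (πX ≫ f) ≫ πX :=
          Limits.pullback.lift_snd _ _ _
        calc (Limits.pullback.diagonal (πX ≫ f) ≫ _) ≫ Limits.pullback.snd f f
            = Limits.pullback.diagonal (πX ≫ f) ≫ (_ ≫ Limits.pullback.snd f f) :=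
              Category.assoc _ _ _
          _ = Limits.pullback.diagonal (πX ≫ f) ≫
              (Limits.pullback.snd (πX ≫ f) (πX ≫ f) ≫ πX) := by rw [a1]
          _ = πX := by rw [← Category.assoc, Limits.pullback.diagonal_snd, Category.id_comp]
          _ = (πX ≫ Limits.pullback.diagonal f) ≫ Limits.pullback.snd f f := by
              rw [Category.assoc, Limits.pullback.diagonal_snd, Category.comp_id]
    have hs : Function.Surjective πX :=
      (Groth.Agent.H69.isHomeomorph_of_isUnivHomeo πX hX').surjective
    have hclosed : IsClosed (Set.range (Limits.pullback.diagonal f)) := by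
      have e1 : Set.range ⇑(Limits.pullback.diagonal f) =
          Set.range ⇑(πX ≫ Limits.pullback.diagonal f) := by
        have : ⇑(πX ≫ Limits.pullback.diagonal f) = ⇑(Limits.pullback.diagonal f) ∘ ⇑πX := by
          funext x; simp
        rw [this, hs.range_comp]
      have e2 : Set.range ⇑(Limits.pullback.diagonal (πX ≫ f) ≫
          Limits.pullback.map (πX ≫ f) (πX ≫ f) f f πX πX (𝟙 Y)
            ((Category.comp_id _).trans rfl) ((Category.comp_id _).trans rfl)) =
          ⇑(Limits.pullback.map (πX ≫ f) (πX ≫ f) f f πX πX (𝟙 Y)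
            ((Category.comp_id _).trans rfl) ((Category.comp_id _).trans rfl)) ''
            Set.range ⇑(Limits.pullback.diagonal (πX ≫ f)) := by
        have : ⇑(Limits.pullback.diagonal (πX ≫ f) ≫
            Limits.pullback.map (πX ≫ f) (πX ≫ f) f f πX πX (𝟙 Y)
              ((Category.comp_id _).trans rfl) ((Category.comp_id _).trans rfl)) =
            ⇑(Limits.pullback.map (πX ≫ f) (πX ≫ f) f f πX πX (𝟙 Y)
              ((Category.comp_id _).trans rfl) ((Category.comp_id _).trans rfl)) ∘
            ⇑(Limits.pullback.diagonal (πX ≫ f)) := by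
          funext x; simp
        rw [this, Set.range_comp]
      rw [e1, ← hcomm, e2]
      exact (Groth.Agent.H69.isHomeomorph_of_isUnivHomeo _ hm).isClosedMap _
        (Limits.pullback.diagonal (πX ≫ f)).isClosedEmbedding.isClosed_range
    exact ⟨IsClosedImmersion.of_isPreimmersion _ hclosed⟩

end Groth.Agent.S14916
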