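import Groth.Statements.S14921
import Groth.Agent.H69.PerfMor

set_option autoImplicit false
universe u
open CategoryTheory AlgebraicGeometry
open PerfSch

namespace Groth.Agent.S14921

open Groth.Agent.H69 in
theorem isPerfection_morphismRestrict (p : ℕ) [Fact p.Prime] {Y YP : Scheme.{u}}
    [FrobSch.IsCharP Y p] [FrobSch.IsCharP YP p] (πY : YP ⟶ Y) (hY : FrobSch.IsPerfection πY p)
    (U : Y.Opens) [FrobSch.IsCharP U.toScheme p] [FrobSch.IsCharP (πY ⁻¹ᵁ U).toScheme p] :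
    FrobSch.IsPerfection (πY ∣_ U) p := by
  refine ⟨isPerfect_of_isOpenImmersion p (πY ⁻¹ᵁ U).ι hY.1, ?_⟩
  intro Z _ hZ
  constructor
  · intro g₁ g₂ h
    have h' : g₁ ≫ πY ∣_ U = g₂ ≫ πY ∣_ U := h
    have h2 : g₁ ≫ (πY ⁻¹ᵁ U).ι = g₂ ≫ (πY ⁻¹ᵁ U).ι := (hY.2 Z hZ).1 (by
      show (g₁ ≫ (πY ⁻¹ᵁ U).ι) ≫ πY = (g₂ ≫ (πY ⁻¹ᵁ U).ι) ≫ πY
      rw [Category.assoc, Category.assoc, ← morphismRestrict_ι, ← Category.assoc,
        ← Category.assoc, h'])
    exact (cancel_mono _).mp h2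
  · intro k
    obtain ⟨k', hk'⟩ := (hY.2 Z hZ).2 (k ≫ U.ι)
    have hk'' : k' ≫ πY = k ≫ U.ι := hk'
    have hr : Set.range ⇑k' ⊆ Set.range ⇑(πY ⁻¹ᵁ U).ι := by
      rintro _ ⟨z, rfl⟩
      rw [Scheme.Opens.range_ι]
      show πY (k' z) ∈ U
      have h3 : πY (k' z) = U.ι (k z) := by
        rw [← Scheme.Hom.comp_apply, hk'', Scheme.Hom.comp_apply]
      rw [h3]
      exact (k z).2
    refine ⟨IsOpenImmersion.lift (πY ⁻¹ᵁ U).ι k' hr, ?_⟩
    show IsOpenImmersion.lift (πY ⁻¹ᵁ U).ι k' hr ≫ πY ∣_ U = k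
    rw [← cancel_mono U.ι, Category.assoc, morphismRestrict_ι, ← Category.assoc,
      IsOpenImmersion.lift_fac, hk'']

/-- Let p be a prime and let X, Y, X', Y' be schemes of characteristic p (p = 0 in the structure sheaf).
Let π_X : X' ⟶ X and π_Y : Y' ⟶ Y be perfections: X' is perfect (its absolute Frobenius is an
isomorphism) and every morphism from a perfect scheme of characteristic p to X factors uniquely
through π_X, and likewise for π_Y. Let f : X ⟶ Y be a morphism and f' : X' ⟶ Y' the induced morphism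
of perfections, the one with f' ≫ π_Y = π_X ≫ f. If f is an immersion (a closed immersion into an
open subscheme), then so is f'. -/
theorem result (p : ℕ) [Fact p.Prime] {X Y XP YP : Scheme.{u}}
    [FrobSch.IsCharP X p] [FrobSch.IsCharP Y p] [FrobSch.IsCharP XP p] [FrobSch.IsCharP YP p]
    (πX : XP ⟶ X) (πY : YP ⟶ Y) (hX : FrobSch.IsPerfection πX p) (hY : FrobSch.IsPerfection πY p)
    (f : X ⟶ Y) (fP : XP ⟶ YP) (w : fP ≫ πY = πX ≫ f)
    [AlgebraicGeometry.IsImmersion f] : AlgebraicGeometry.IsImmersion fP := by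
  haveI : FrobSch.IsCharP f.coborderRange.toScheme p :=
    FrobSch.IsCharP.of_hom f.coborderRange.ι p
  haveI : FrobSch.IsCharP (πY ⁻¹ᵁ f.coborderRange).toScheme p :=
    FrobSch.IsCharP.of_hom (πY ⁻¹ᵁ f.coborderRange).ι p
  have hU := isPerfection_morphismRestrict p πY hY f.coborderRange
  have hr : Set.range ⇑fP ⊆ Set.range ⇑(πY ⁻¹ᵁ f.coborderRange).ι := by
    rintro _ ⟨x, rfl⟩
    rw [Scheme.Opens.range_ι]
    show πY (fP x) ∈ f.coborderRange
    have h1 : πY (fP x) = f (πX x) := by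
      rw [← Scheme.Hom.comp_apply, w, Scheme.Hom.comp_apply]
    have h2 : (f.liftCoborder ≫ f.coborderRange.ι) (πX x) = f (πX x) := by
      rw [f.liftCoborder_ι]
    rw [h1, ← h2]
    exact (f.liftCoborder (πX x)).2
  have hfac : IsOpenImmersion.lift (πY ⁻¹ᵁ f.coborderRange).ι fP hr ≫
      (πY ⁻¹ᵁ f.coborderRange).ι = fP := IsOpenImmersion.lift_fac _ _ _
  have w' : IsOpenImmersion.lift (πY ⁻¹ᵁ f.coborderRange).ι fP hr ≫
      (πY ∣_ f.coborderRange) = πX ≫ f.liftCoborder := by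
    rw [← cancel_mono f.coborderRange.ι, Category.assoc, morphismRestrict_ι, ← Category.assoc,
      hfac, w, Category.assoc, f.liftCoborder_ι]
  haveI : IsClosedImmersion (IsOpenImmersion.lift (πY ⁻¹ᵁ f.coborderRange).ι fP hr) :=
    Groth.Agent.H69.isClosedImmersion_perfection p πX (πY ∣_ f.coborderRange) hX hU
      f.liftCoborder _ w'
  rw [← hfac]
  infer_instance

end Groth.Agent.S14921
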