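import Groth.Statements.S14922
import Groth.Agent.H69.PerfEtale
import Mathlib

set_option autoImplicit false
universe u
open CategoryTheory AlgebraicGeometry
open PerfSch

namespace Groth.Agent.S14922

/-- Let p be a prime and let X, Y, X', Y' be schemes of characteristic p (p = 0 in the structure sheaf).
Let π_X : X' ⟶ X and π_Y : Y' ⟶ Y be perfections: X' is perfect (its absolute Frobenius is an
isomorphism) and every morphism from a perfect scheme of characteristic p to X factors uniquely
through π_X, and likewise for π_Y. Let f : X ⟶ Y be a morphism and f' : X' ⟶ Y' the induced morphism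
of perfections, the one with f' ≫ π_Y = π_X ≫ f. If f is etale, then the commutative square formed
by f', π_X, π_Y and f is cartesian, i.e. X' with the maps f' and π_X is a fibre product of Y' and X
over Y; in particular f', being a base change of f, is etale. (The published item states that the
perfection of an etale morphism is etale; this row states what its proof establishes, that X' ⟶ X
×_Y Y' is an isomorphism, from which etaleness of f' follows by base change.) -/
theorem result (p : ℕ) [Fact p.Prime] {X Y XP YP : Scheme.{u}}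
    [FrobSch.IsCharP X p] [FrobSch.IsCharP Y p] [FrobSch.IsCharP XP p] [FrobSch.IsCharP YP p]
    (πX : XP ⟶ X) (πY : YP ⟶ Y) (hX : FrobSch.IsPerfection πX p) (hY : FrobSch.IsPerfection πY p)
    (f : X ⟶ Y) (fP : XP ⟶ YP) (w : fP ≫ πY = πX ≫ f)
    [AlgebraicGeometry.Etale f] : IsPullback fP πX πY f := by
  -- the pullback
  haveI : FrobSch.IsCharP (Limits.pullback πY f) p := FrobSch.IsCharP.of_hom (Limits.pullback.snd πY f) p
  have hPperf : FrobSch.IsPerfect (Limits.pullback πY f) p :=
    Groth.Agent.H69.isPerfect_of_etale p (Limits.pullback.fst πY f) hY.1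
  -- the pullback is a perfection of X
  have hPbij : ∀ (Z : Scheme.{u}) [FrobSch.IsCharP Z p], FrobSch.IsPerfect Z p →
      Function.Bijective (fun g : Z ⟶ Limits.pullback πY f => g ≫ Limits.pullback.snd πY f) := by
    intro Z _ hZ
    constructor
    · intro g₁ g₂ h
      have h' : g₁ ≫ Limits.pullback.snd πY f = g₂ ≫ Limits.pullback.snd πY f := h
      apply Limits.pullback.hom_ext
      · apply (hY.2 Z hZ).1
        show (g₁ ≫ Limits.pullback.fst πY f) ≫ πY = (g₂ ≫ Limits.pullback.fst πY f) ≫ πY
        rw [Category.assoc, Category.assoc, Limits.pullback.condition, ← Category.assoc,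
          ← Category.assoc, h']
      · exact h'
    · intro g
      obtain ⟨k, hk⟩ := (hY.2 Z hZ).2 (g ≫ f)
      have hk' : k ≫ πY = g ≫ f := hk
      exact ⟨Limits.pullback.lift k g hk', Limits.pullback.lift_snd _ _ _⟩
  -- comparison map
  let ℓ : XP ⟶ Limits.pullback πY f := Limits.pullback.lift fP πX w
  obtain ⟨k, hk⟩ := (hX.2 (Limits.pullback πY f) hPperf).2 (Limits.pullback.snd πY f)
  have hk' : k ≫ πX = Limits.pullback.snd πY f := hk
  have h1 : ℓ ≫ k = 𝟙 XP := by
    apply (hX.2 XP hX.1).1
    show (ℓ ≫ k) ≫ πX = 𝟙 XP ≫ πX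
    rw [Category.assoc, hk', Limits.pullback.lift_snd, Category.id_comp]
  have h2 : k ≫ ℓ = 𝟙 (Limits.pullback πY f) := by
    apply (hPbij (Limits.pullback πY f) hPperf).1
    show (k ≫ ℓ) ≫ Limits.pullback.snd πY f = 𝟙 _ ≫ Limits.pullback.snd πY f
    rw [Category.assoc, Limits.pullback.lift_snd, hk', Category.id_comp]
  let i : XP ≅ Limits.pullback πY f := ⟨ℓ, k, h1, h2⟩
  exact IsPullback.of_iso_pullback ⟨w⟩ i (Limits.pullback.lift_fst _ _ _) (Limits.pullback.lift_snd _ _ _)

end Groth.Agent.S14922
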