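import Groth.Statements.S1493
import Mathlib
import Groth.Agent.H59.LCIReg

set_option autoImplicit false
universe u
attribute [local instance] HasDerivedCategory.standard
open FlatMor

namespace Groth.Agent.S1493

open AlgebraicGeometry CategoryTheory Limits in
/-- sections over an affine open of a regular scheme form a regular ring -/
theorem regRing_of_affineOpen {X : Scheme.{u}} [hn : IsLocallyNoetherian X]
    (hX : ∀ x : X, IsRegularLocalRing ↑(X.presheaf.stalk x)) (V : X.affineOpens) :
    IsRegularRing Γ(X, V.1) := by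
  haveI : IsNoetherianRing Γ(X, V.1) := hn.component_noetherian V
  rw [isRegularRing_iff]
  intro p hp
  have hU : IsAffineOpen V.1 := V.2
  set y : PrimeSpectrum Γ(X, V.1) := ⟨p, hp⟩ with hy
  have hmem : hU.fromSpec y ∈ V.1 := by
    have : hU.fromSpec y ∈ Set.range hU.fromSpec := ⟨y, rfl⟩
    rw [hU.range_fromSpec] at this
    exact this
  have hloc := hU.isLocalization_stalk' y hmem
  letI : Algebra Γ(X, V.1) (X.presheaf.stalk (hU.fromSpec y)) :=
    TopCat.Presheaf.algebra_section_stalk X.presheaf ⟨hU.fromSpec y, hmem⟩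
  haveI : IsLocalization.AtPrime (X.presheaf.stalk (hU.fromSpec y)) p := hloc
  have e : X.presheaf.stalk (hU.fromSpec y) ≃ₐ[Γ(X, V.1)] Localization.AtPrime p :=
    IsLocalization.algEquiv p.primeCompl _ _
  haveI := hX (hU.fromSpec y)
  exact IsRegularLocalRing.of_ringEquiv (R := X.presheaf.stalk (hU.fromSpec y)) e.toRingEquiv

open AlgebraicGeometry CategoryTheory Limits in
/-- Let f : X → Y be locally of finite type with X and Y regular (locally Noetherian with regular local
rings). Then f is a local complete intersection morphism (affine-locally: local complete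
intersection ring maps). -/
theorem result {X Y : Scheme.{u}} (f : X ⟶ Y) [LocallyOfFiniteType f] [IsLocallyNoetherian X] [IsLocallyNoetherian Y]
    (hX : ∀ x : X, IsRegularLocalRing ↑(X.presheaf.stalk x)) (hY : ∀ y : Y, IsRegularLocalRing ↑(Y.presheaf.stalk y)) :
    (∀ (U : X.Opens) (V : Y.Opens) (hU : IsAffineOpen U) (hV : IsAffineOpen V) (hUV : U ≤ f ⁻¹ᵁ V),
        letI := (f.appLE V U hUV).hom.toAlgebra
        LCI.IsLCI Γ(Y, V) Γ(X, U)) := by
  intro U V hU hV hUV
  letI := (f.appLE V U hUV).hom.toAlgebra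
  haveI : IsRegularRing Γ(Y, V) := regRing_of_affineOpen hY ⟨V, hV⟩
  haveI : IsRegularRing Γ(X, U) := regRing_of_affineOpen hX ⟨U, hU⟩
  haveI : Algebra.FiniteType Γ(Y, V) Γ(X, U) :=
    LocallyOfFiniteType.finiteType_appLE f hV hU hUV
  exact Groth.Agent.H59.Kosz.isLCI_of_regular _ _

end Groth.Agent.S1493
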