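import Groth.Statements.S14953
import Mathlib
import Groth.Agent.S14949
-- import your own Groth.Agent.* helpers here

set_option autoImplicit false
universe u
open TensorProduct
open EtAlg

namespace Groth.Agent.S14953

/-- Let B' = B ×_A A' be a fibre product of commutative rings with A' → A surjective and L' a B'-module.
If B ⊗_{B'} L' is a finitely generated B-module and A' ⊗_{B'} L' is a finitely generated A'-module,
then L' is a finitely generated B'-module. (The published statement is about flat modules of finite
type; the finiteness conclusion does not use flatness, which descends separately.) -/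
theorem result (B' B A' A : Type u) [CommRing B'] [CommRing B] [CommRing A'] [CommRing A]
    [Algebra B' B] [Algebra B' A'] [Algebra B A] [Algebra A' A] [Algebra B' A] [IsScalarTower B' B A] [IsScalarTower B' A' A]
    (hsq : EtMil.IsFibreSquare B' B A' A)
    (L' : Type u) [AddCommGroup L'] [Module B' L']
    [Module.Finite B (B ⊗[B'] L')] [Module.Finite A' (A' ⊗[B'] L')] : Module.Finite B' L' := by
  classical
  have key : ∀ (R : Type u) [CommRing R] [Algebra B' R] [Module.Finite R (R ⊗[B'] L')],
      ∃ N : Submodule B' L', N.FG ∧ ∀ N' : Submodule B' L', N ≤ N' →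
        Function.Surjective (N'.subtype.lTensor R) := by
    intro R _ _ hfin
    obtain ⟨s, hs⟩ := hfin.fg_top
    obtain ⟨N, hN, hsN⟩ :=
      TensorProduct.exists_finite_submodule_right_of_setFinite (s : Set (R ⊗[B'] L'))
        s.finite_toSet
    refine ⟨N, Module.Finite.iff_fg.mp hN, fun N' hNN' => ?_⟩
    have hr : LinearMap.range (N'.subtype.baseChange R) = ⊤ := by
      rw [eq_top_iff, ← hs, Submodule.span_le]
      intro x hx
      obtain ⟨y, hy⟩ := hsN hx
      refine ⟨(Submodule.inclusion hNN').lTensor R y, ?_⟩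
      show (N'.subtype.lTensor R) ((Submodule.inclusion hNN').lTensor R y) = x
      rw [← LinearMap.comp_apply, ← LinearMap.lTensor_comp, Submodule.subtype_comp_inclusion]
      exact hy
    intro x
    have hx : x ∈ LinearMap.range (N'.subtype.baseChange R) := hr ▸ Submodule.mem_top
    obtain ⟨y, hy⟩ := hx
    exact ⟨y, hy⟩
  obtain ⟨N₁, hN₁, h₁⟩ := key B
  obtain ⟨N₂, hN₂, h₂⟩ := key A'
  have hNfg : (N₁ ⊔ N₂).FG := hN₁.sup hN₂
  have hB := h₁ (N₁ ⊔ N₂) le_sup_left
  have hA := h₂ (N₁ ⊔ N₂) le_sup_right
  generalize N₁ ⊔ N₂ = N at hNfg hB hA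
  have sub : ∀ (R : Type u) [CommRing R] [Algebra B' R],
      Function.Surjective (N.subtype.lTensor R) → Subsingleton (R ⊗[B'] (L' ⧸ N)) := by
    intro R _ _ hsurj
    have hz : ∀ z : R ⊗[B'] (L' ⧸ N), z = 0 := by
      intro z
      obtain ⟨t, rfl⟩ := LinearMap.lTensor_surjective R N.mkQ_surjective z
      obtain ⟨t', rfl⟩ := hsurj t
      rw [← LinearMap.comp_apply, ← LinearMap.lTensor_comp]
      have h0 : N.mkQ ∘ₗ N.subtype = 0 := by
        ext x
        simp
      rw [h0, LinearMap.lTensor_zero, LinearMap.zero_apply]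
    exact ⟨fun x y => by rw [hz x, hz y]⟩
  have := sub B hB
  have := sub A' hA
  have hQ : Subsingleton (L' ⧸ N) := Groth.Agent.S14949.result B' B A' A hsq (L' ⧸ N)
  have hNtop : N = ⊤ := Submodule.Quotient.subsingleton_iff.mp hQ
  rw [Module.finite_def, ← hNtop]
  exact hNfg

end Groth.Agent.S14953
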