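import Groth.Statements.S14954
import Mathlib
import Groth.Agent.H74.MilnorFlat
import Groth.Agent.S14953
-- import your own Groth.Agent.* helpers here

set_option autoImplicit false
universe u
open TensorProduct
open EtAlg

namespace Groth.Agent.S14954

/-- Let B' = B ×_A A' be a fibre product of commutative rings with A' → A surjective and L' a B'-module.
If B ⊗_{B'} L' is flat and finitely presented over B and A' ⊗_{B'} L' is flat and finitely presented
over A', then L' is finitely presented over B'. (Together with descent of flatness, L' is then flat
of finite presentation, i.e. finite locally free.) -/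
theorem result (B' B A' A : Type u) [CommRing B'] [CommRing B] [CommRing A'] [CommRing A]
    [Algebra B' B] [Algebra B' A'] [Algebra B A] [Algebra A' A] [Algebra B' A] [IsScalarTower B' B A] [IsScalarTower B' A' A]
    (hsq : EtMil.IsFibreSquare B' B A' A)
    (L' : Type u) [AddCommGroup L'] [Module B' L']
    [Module.Flat B (B ⊗[B'] L')] [Module.FinitePresentation B (B ⊗[B'] L')]
    [Module.Flat A' (A' ⊗[B'] L')] [Module.FinitePresentation A' (A' ⊗[B'] L')] :
    Module.FinitePresentation B' L' := by
  have hfin : Module.Finite B' L' := Groth.Agent.S14953.result B' B A' A hsq L'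
  have hflat : Module.Flat B' L' := Groth.Agent.H74.Milnor.flat_of_flat_baseChangePair hsq L'
  obtain ⟨n, f, hf⟩ := Module.Finite.exists_fin' B' L'
  have key : ∀ (S : Type u) [CommRing S] [Algebra B' S]
      [Module.FinitePresentation S (S ⊗[B'] L')],
      Module.Finite S (S ⊗[B'] (LinearMap.ker f)) := by
    intro S _ _ _
    have hinj : Function.Injective ((LinearMap.ker f).subtype.lTensor S) :=
      Groth.Agent.H74.Milnor.lTensor_injective_of_flat_quotient (LinearMap.ker f).subtype f
        (LinearMap.exact_subtype_ker_map f) hf (Submodule.injective_subtype _) S
    have hsurjS : Function.Surjective (f.baseChange S) := LinearMap.lTensor_surjective S hf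
    have hfg : (LinearMap.ker (f.baseChange S)).FG :=
      Module.FinitePresentation.fg_ker (f.baseChange S) hsurjS
    have hex := lTensor_exact S (LinearMap.exact_subtype_ker_map f) hf
    have hrange : LinearMap.range ((LinearMap.ker f).subtype.baseChange S)
        = LinearMap.ker (f.baseChange S) := by
      ext x
      rw [LinearMap.mem_ker, LinearMap.mem_range]
      exact (hex x).symm
    have hinj' : Function.Injective ((LinearMap.ker f).subtype.baseChange S) := hinj
    let e := LinearEquiv.ofInjective ((LinearMap.ker f).subtype.baseChange S) hinj'
    have hfinr : Module.Finite S (LinearMap.range ((LinearMap.ker f).subtype.baseChange S)) := by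
      rw [hrange]
      exact Module.Finite.iff_fg.mpr hfg
    exact Module.Finite.equiv e.symm
  have h1 : Module.Finite B (B ⊗[B'] (LinearMap.ker f)) := key B
  have h2 : Module.Finite A' (A' ⊗[B'] (LinearMap.ker f)) := key A'
  have hR' : Module.Finite B' (LinearMap.ker f) :=
    Groth.Agent.S14953.result B' B A' A hsq (LinearMap.ker f)
  exact Module.finitePresentation_of_surjective f hf (Module.Finite.iff_fg.mp hR')

end Groth.Agent.S14954
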