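import Groth.Statements.S14955
import Mathlib
import Groth.Agent.H74.Milnor
-- import your own Groth.Agent.* helpers here

set_option autoImplicit false
universe u
open TensorProduct
open EtAlg

namespace Groth.Agent.S14955

/-- Let B' = B ×_A A' be a fibre product of commutative rings with A' → A surjective. Then the square is
also a pushout of commutative rings: the canonical map B ⊗_{B'} A' → A is an isomorphism. -/
theorem result (B' B A' A : Type u) [CommRing B'] [CommRing B] [CommRing A'] [CommRing A]
    [Algebra B' B] [Algebra B' A'] [Algebra B A] [Algebra A' A] [Algebra B' A] [IsScalarTower B' B A] [IsScalarTower B' A' A]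
    (hsq : EtMil.IsFibreSquare B' B A' A) : Algebra.IsPushout B' B A' A := by
  have hsurj := Groth.Agent.H74.Milnor.surj hsq
  -- every tensor is of the form `1 ⊗ a'`
  have hform : ∀ t : B ⊗[B'] A', ∃ a' : A', t = (1 : B) ⊗ₜ[B'] a' := by
    intro t
    induction t using TensorProduct.induction_on with
    | zero => exact ⟨0, by simp⟩
    | tmul b a' =>
      obtain ⟨b', rfl⟩ := hsurj b
      refine ⟨b' • a', ?_⟩
      rw [← TensorProduct.smul_tmul, Algebra.algebraMap_eq_smul_one]
    | add x y hx hy =>
      obtain ⟨a₁, rfl⟩ := hx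
      obtain ⟨a₂, rfl⟩ := hy
      exact ⟨a₁ + a₂, by rw [TensorProduct.tmul_add]⟩
  let g : B ⊗[B'] A' →ₗ[B] A := (IsScalarTower.toAlgHom B' A' A).toLinearMap.liftBaseChange B
  have hg : ∀ a' : A', g ((1 : B) ⊗ₜ[B'] a') = algebraMap A' A a' := by
    intro a'
    simp [g]
  have hbij : Function.Bijective g := by
    constructor
    · rw [injective_iff_map_eq_zero]
      intro t ht
      obtain ⟨a', rfl⟩ := hform t
      rw [hg] at ht
      have h0 : algebraMap B A 0 = algebraMap A' A a' := by rw [map_zero, ht]
      obtain ⟨j, ⟨hj1, hj2⟩, -⟩ := hsq.2 0 a' h0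
      have : a' = j • (1 : A') := by rw [Algebra.smul_def, mul_one, hj2]
      rw [this, ← TensorProduct.smul_tmul, Algebra.smul_def, mul_one, hj1, TensorProduct.zero_tmul]
    · intro a
      obtain ⟨a', rfl⟩ := hsq.1 a
      exact ⟨(1 : B) ⊗ₜ[B'] a', hg a'⟩
  exact ⟨IsBaseChange.of_equiv (LinearEquiv.ofBijective g hbij) (fun x => hg x)⟩

end Groth.Agent.S14955
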