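import Groth.Statements.S14956
import Groth.Agent.H97.Azumaya
import Groth.Agent.S19588
import Groth.Agent.S14949
import Groth.Agent.S14952
import Groth.Agent.S14954
import Mathlib

set_option autoImplicit false
set_option linter.style.haveILetI false
universe u
open TensorProduct
open Brauer

namespace Groth.Agent.S14956

open Groth.Agent.H97

/-- a module over a commutative ring all of whose elements of `S ⊗ M` are zero -/
lemma subsingleton_of_forall_eq_zero {X : Type*} [Zero X] (h : ∀ x : X, x = 0) : Subsingleton X :=
  ⟨fun a b => by rw [h a, h b]⟩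

/-- cokernel vanishes after base change when the base change is surjective -/
lemma subsingleton_tensor_coker {R : Type*} [CommRing R] (S : Type*) [CommRing S] [Algebra R S]
    {P Q : Type*} [AddCommGroup P] [Module R P] [AddCommGroup Q] [Module R Q] (f : P →ₗ[R] Q)
    (h : Function.Surjective (f.baseChange S)) :
    Subsingleton (S ⊗[R] (Q ⧸ LinearMap.range f)) := by
  apply subsingleton_of_forall_eq_zero
  intro x
  obtain ⟨w, rfl⟩ := LinearMap.lTensor_surjective S (LinearMap.range f).mkQ_surjective x
  obtain ⟨w', rfl⟩ := h w
  change ((LinearMap.range f).mkQ.lTensor S) ((f.lTensor S) w') = 0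
  rw [← LinearMap.comp_apply, ← LinearMap.lTensor_comp]
  have h0 : (LinearMap.range f).mkQ ∘ₗ f = 0 := by
    refine LinearMap.ext fun p => ?_
    simp
  rw [h0, LinearMap.lTensor_zero, LinearMap.zero_apply]

/-- the range of a projector `e` with `f ∘ e = 0` vanishes after a base change making `f` injective -/
lemma subsingleton_tensor_range {R : Type*} [CommRing R] (S : Type*) [CommRing S] [Algebra R S]
    {P Q : Type*} [AddCommGroup P] [Module R P] [AddCommGroup Q] [Module R Q] (f : P →ₗ[R] Q)
    (e : P →ₗ[R] P) (hee : ∀ p, e (e p) = e p) (hfe : ∀ p, f (e p) = 0)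
    (h : Function.Injective (f.baseChange S)) :
    Subsingleton (S ⊗[R] (LinearMap.range e)) := by
  apply subsingleton_of_forall_eq_zero
  intro x
  let eK : P →ₗ[R] LinearMap.range e := e.rangeRestrict
  let ι : LinearMap.range e →ₗ[R] P := (LinearMap.range e).subtype
  have hsplit : eK ∘ₗ ι = LinearMap.id := by
    refine LinearMap.ext fun y => ?_
    obtain ⟨y, p, rfl⟩ := y
    apply Subtype.ext
    exact hee p
  have hιinj : Function.Injective (ι.lTensor S) := by
    apply Function.LeftInverse.injective (g := eK.lTensor S)
    intro y
    rw [← LinearMap.comp_apply, ← LinearMap.lTensor_comp, hsplit, LinearMap.lTensor_id,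
      LinearMap.id_apply]
  apply hιinj
  rw [map_zero]
  apply h
  rw [map_zero]
  change (f.lTensor S) ((ι.lTensor S) x) = 0
  rw [← LinearMap.comp_apply, ← LinearMap.lTensor_comp]
  have h0 : f ∘ₗ ι = 0 := by
    refine LinearMap.ext fun y => ?_
    obtain ⟨y, p, rfl⟩ := y
    exact hfe p
  rw [h0, LinearMap.lTensor_zero, LinearMap.zero_apply]

/-- over a fibre square, a map to a projective module is bijective if its two base changes are -/
theorem bijective_of_baseChangePair (B' B A' A : Type u) [CommRing B'] [CommRing B] [CommRing A']
    [CommRing A] [Algebra B' B] [Algebra B' A'] [Algebra B A] [Algebra A' A] [Algebra B' A]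
    [IsScalarTower B' B A] [IsScalarTower B' A' A]
    (hsq : EtMil.IsFibreSquare B' B A' A)
    {P Q : Type u} [AddCommGroup P] [Module B' P] [AddCommGroup Q] [Module B' Q]
    [Module.Projective B' Q] (f : P →ₗ[B'] Q)
    (hB : Function.Bijective (f.baseChange B)) (hA' : Function.Bijective (f.baseChange A')) :
    Function.Bijective f := by
  have hsurj : Function.Surjective f := by
    haveI := subsingleton_tensor_coker B f hB.2
    haveI := subsingleton_tensor_coker A' f hA'.2
    haveI : Subsingleton (Q ⧸ LinearMap.range f) :=
      Groth.Agent.S14949.result B' B A' A hsq (Q ⧸ LinearMap.range f)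
    rw [← LinearMap.range_eq_top, eq_top_iff]
    intro q _
    have hq : (Submodule.Quotient.mk q : Q ⧸ LinearMap.range f) = 0 := Subsingleton.elim _ _
    rw [Submodule.Quotient.mk_eq_zero] at hq
    exact hq
  obtain ⟨s, hs⟩ := Module.projective_lifting_property f LinearMap.id hsurj
  have hs' : ∀ q, f (s q) = q := fun q => LinearMap.congr_fun hs q
  let e : P →ₗ[B'] P := LinearMap.id - s ∘ₗ f
  have he : ∀ p, e p = p - s (f p) := fun p => rfl
  have hfe : ∀ p, f (e p) = 0 := by
    intro p
    rw [he, map_sub, hs', sub_self]
  have hee : ∀ p, e (e p) = e p := by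
    intro p
    rw [he (e p), hfe, map_zero, sub_zero]
  haveI := subsingleton_tensor_range B f e hee hfe hB.1
  haveI := subsingleton_tensor_range A' f e hee hfe hA'.1
  haveI : Subsingleton (LinearMap.range e) :=
    Groth.Agent.S14949.result B' B A' A hsq (LinearMap.range e)
  refine ⟨?_, hsurj⟩
  intro p p' hpp
  have hz : ∀ p, e p = 0 := by
    intro p
    have h1 : (⟨e p, LinearMap.mem_range_self e p⟩ : LinearMap.range e) = 0 :=
      Subsingleton.elim _ _
    exact congrArg Subtype.val h1
  have h1 := hz p
  have h2 := hz p'
  rw [he, sub_eq_zero] at h1 h2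
  rw [h1, h2, hpp]

/-- Let B' = B ×_A A' be a fibre product of commutative rings with A' → A surjective and D' a B'-algebra
(associative, unital, not necessarily commutative). Then D' is an Azumaya algebra over B' if and
only if B ⊗_{B'} D' is an Azumaya algebra over B and A' ⊗_{B'} D' is an Azumaya algebra over A'.
(The published statement is for a quasi-coherent algebra on the pushout scheme Y of a closed
immersion and an affine morphism; this row is the case of an affine Y. Azumaya is taken in the
finite-projective-faithful sense.) -/
theorem result (B' B A' A : Type u) [CommRing B'] [CommRing B] [CommRing A'] [CommRing A]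
    [Algebra B' B] [Algebra B' A'] [Algebra B A] [Algebra A' A] [Algebra B' A] [IsScalarTower B' B A] [IsScalarTower B' A' A]
    (hsq : EtMil.IsFibreSquare B' B A' A)
    (D' : Type u) [Ring D'] [Algebra B' D'] :
    IsAzumaya B' D' ↔ IsAzumaya B (B ⊗[B'] D') ∧ IsAzumaya A' (A' ⊗[B'] D') := by
  constructor
  · intro h
    exact ⟨Groth.Agent.S19588.result B' B D', Groth.Agent.S19588.result B' A' D'⟩
  · rintro ⟨hB, hA'⟩
    haveI := hB
    haveI := hA'
    haveI : Module.FinitePresentation B (B ⊗[B'] D') := Module.finitePresentation_of_projective B _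
    haveI : Module.FinitePresentation A' (A' ⊗[B'] D') :=
      Module.finitePresentation_of_projective A' _
    haveI : Module.Flat B' D' := Groth.Agent.S14952.result B' B A' A hsq D'
    haveI : Module.FinitePresentation B' D' := Groth.Agent.S14954.result B' B A' A hsq D'
    haveI : Module.Projective B' D' := Module.Flat.projective_of_finitePresentation
    obtain ⟨hfinE, hprojE⟩ := end_finite_projective B' D'
    haveI := hfinE
    haveI := hprojE
    have hgB : Function.Bijective ((AlgHom.mulLeftRight B' D').toLinearMap.baseChange B) :=
      (mulLeftRight_baseChange_bijective_iff B' B D').1 IsAzumaya.bij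
    have hgA' : Function.Bijective ((AlgHom.mulLeftRight B' D').toLinearMap.baseChange A') :=
      (mulLeftRight_baseChange_bijective_iff B' A' D').1 IsAzumaya.bij
    have hbij : Function.Bijective (AlgHom.mulLeftRight B' D') :=
      bijective_of_baseChangePair B' B A' A hsq (AlgHom.mulLeftRight B' D').toLinearMap hgB hgA'
    haveI : FaithfulSMul B' D' := by
      rw [faithfulSMul_iff_algebraMap_injective, injective_iff_map_eq_zero]
      intro r hr
      have h1 : algebraMap B' B r = 0 := by
        apply FaithfulSMul.algebraMap_injective B (B ⊗[B'] D')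
        rw [map_zero, Algebra.TensorProduct.algebraMap_apply, Algebra.algebraMap_self,
          RingHom.id_apply, Algebra.algebraMap_eq_smul_one r, TensorProduct.smul_tmul,
          ← Algebra.algebraMap_eq_smul_one, hr, tmul_zero]
      have h2 : algebraMap B' A' r = 0 := by
        apply FaithfulSMul.algebraMap_injective A' (A' ⊗[B'] D')
        rw [map_zero, Algebra.TensorProduct.algebraMap_apply, Algebra.algebraMap_self,
          RingHom.id_apply, Algebra.algebraMap_eq_smul_one r, TensorProduct.smul_tmul,
          ← Algebra.algebraMap_eq_smul_one, hr, tmul_zero]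
      obtain ⟨b0, -, hb0⟩ := hsq.2 0 0 (by rw [map_zero, map_zero])
      rw [hb0 r ⟨h1, h2⟩, ← hb0 0 ⟨map_zero _, map_zero _⟩]
    exact ⟨hbij⟩

end Groth.Agent.S14956
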