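import Groth.Statements.S14957
import Mathlib
-- import your own Groth.Agent.* helpers here

set_option autoImplicit false
universe u
open CAlg

namespace Groth.Agent.S14957

/-- Let A be a commutative ring and u : M → M', w : M → N, w' : M' → N', v : N → N' a commutative square
of A-linear maps (w' ∘ u = v ∘ w). The square is cartesian, i.e. the induced map M → N ×_{N'} M' is
bijective, if and only if u induces a bijection from ker w onto ker w' and v induces an injection
from coker w into coker w'. Here the three conditions are written elementwise. -/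
theorem result (A : Type u) [CommRing A]
    (M M' N N' : Type u) [AddCommGroup M] [Module A M] [AddCommGroup M'] [Module A M']
    [AddCommGroup N] [Module A N] [AddCommGroup N'] [Module A N']
    (u : M →ₗ[A] M') (w : M →ₗ[A] N) (w' : M' →ₗ[A] N') (v : N →ₗ[A] N') (hc : w'.comp u = v.comp w) :
    (Function.Injective (w.prod u) ∧ ∀ (x : N) (y : M'), v x = w' y → ∃ m : M, w m = x ∧ u m = y) ↔
    (LinearMap.ker w ⊓ LinearMap.ker u = ⊥ ∧ Submodule.map u (LinearMap.ker w) = LinearMap.ker w' ∧
      ∀ x : N, v x ∈ LinearMap.range w' → x ∈ LinearMap.range w) := by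
  have hc' : ∀ m, w' (u m) = v (w m) := fun m => LinearMap.congr_fun hc m
  constructor
  · rintro ⟨hinj, hsurj⟩
    refine ⟨?_, ?_, ?_⟩
    · rw [eq_bot_iff]
      rintro m ⟨hm1, hm2⟩
      have : (w.prod u) m = (w.prod u) 0 := by
        rw [map_zero]
        exact Prod.ext (LinearMap.mem_ker.mp hm1) (LinearMap.mem_ker.mp hm2)
      simpa using hinj this
    · ext y
      constructor
      · rintro ⟨m, hm, rfl⟩
        rw [LinearMap.mem_ker, hc', LinearMap.mem_ker.mp hm, map_zero]
      · intro hy
        obtain ⟨m, hm1, hm2⟩ := hsurj 0 y (by rw [map_zero, LinearMap.mem_ker.mp hy])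
        exact ⟨m, hm1, hm2⟩
    · rintro x ⟨y, hy⟩
      obtain ⟨m, hm1, -⟩ := hsurj x y hy.symm
      exact ⟨m, hm1⟩
  · rintro ⟨h1, h2, h3⟩
    refine ⟨?_, ?_⟩
    · rw [← LinearMap.ker_eq_bot, LinearMap.ker_prod]
      exact h1
    · intro x y hxy
      obtain ⟨m₀, rfl⟩ := h3 x ⟨y, hxy.symm⟩
      have : y - u m₀ ∈ LinearMap.ker w' := by
        rw [LinearMap.mem_ker, map_sub, hc', hxy, sub_self]
      rw [← h2] at this
      obtain ⟨m₁, hm₁, hm₁'⟩ := this
      refine ⟨m₀ + m₁, ?_, ?_⟩
      · rw [map_add, LinearMap.mem_ker.mp hm₁, add_zero]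
      · rw [map_add, hm₁', add_sub_cancel]

end Groth.Agent.S14957
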