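import Groth.Statements.S14958
import Groth.Agent.H82.TorLib
import Groth.Agent.H10.LDerAdditive

set_option autoImplicit false
universe u
open TensorProduct CategoryTheory CategoryTheory.Limits
open EtAlg

namespace Groth.Agent.S14958

section Aux

open MonoidalCategory Groth.Agent.H82.LDer Groth.Agent.H82.TorLib

variable {R : Type u} [CommRing R]

/-- For a short exact sequence `S`, `Tor₁(M, g)` is epi iff `M ⊗ f` is mono. -/
theorem epi_tor_one_iff_mono (M : ModuleCat.{u} R) (S : ShortComplex (ModuleCat.{u} R))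
    (hS : S.ShortExact) :
    Epi (((Tor (ModuleCat.{u} R) 1).obj M).map S.g) ↔ Mono ((tensorLeft M).map S.f) := by
  obtain ⟨-, -, δ, w₁, w₂, e₁, e₂⟩ := hasLES_tor M S hS 0
  let i := (tensorLeft M).leftDerivedZeroIsoSelf
  let i₁ : ((Tor (ModuleCat.{u} R) 0).obj M).obj S.X₁ ≅ (tensorLeft M).obj S.X₁ := i.app S.X₁
  let i₂ : ((Tor (ModuleCat.{u} R) 0).obj M).obj S.X₂ ≅ (tensorLeft M).obj S.X₂ := i.app S.X₂
  have hnat : ((Tor (ModuleCat.{u} R) 0).obj M).map S.f ≫ i₂.hom =
      i₁.hom ≫ (tensorLeft M).map S.f := i.hom.naturality S.f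
  have hmono : Mono (((Tor (ModuleCat.{u} R) 0).obj M).map S.f) ↔ Mono ((tensorLeft M).map S.f) := by
    constructor
    · intro h
      have h1 : Mono (((Tor (ModuleCat.{u} R) 0).obj M).map S.f ≫ i₂.hom) := mono_comp _ _
      rw [hnat] at h1
      have h2 : (tensorLeft M).map S.f = i₁.inv ≫ (i₁.hom ≫ (tensorLeft M).map S.f) := by
        rw [Iso.inv_hom_id_assoc]
      rw [h2]
      exact mono_comp _ _
    · intro h
      have h1 : Mono (i₁.hom ≫ (tensorLeft M).map S.f) := mono_comp _ _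
      rw [← hnat] at h1
      exact mono_of_mono _ i₂.hom
  rw [← hmono]
  constructor
  · intro h
    have hδ : δ = 0 := by
      rw [← cancel_epi (((Tor (ModuleCat.{u} R) 1).obj M).map S.g), w₁, comp_zero]
    exact e₂.mono_g hδ
  · intro h
    have hδ : δ = 0 := by
      rw [← cancel_mono (((Tor (ModuleCat.{u} R) 0).obj M).map S.f), w₂, zero_comp]
    exact e₁.epi_f hδ

/-- An additive functor turns the sum map `X × Y → Z` into the codiagonal of the two maps. -/
theorem epi_map_coprod_iff (F : ModuleCat.{u} R ⥤ ModuleCat.{u} R) [F.Additive]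
    {X Y Z : Type u} [AddCommGroup X] [Module R X] [AddCommGroup Y] [Module R Y]
    [AddCommGroup Z] [Module R Z] (a : X →ₗ[R] Z) (b : Y →ₗ[R] Z) :
    Epi (F.map (ModuleCat.ofHom (a.coprod b))) ↔
      Epi (biprod.desc (F.map (ModuleCat.ofHom a)) (F.map (ModuleCat.ofHom b))) := by
  let p : F.obj (ModuleCat.of R X) ⊞ F.obj (ModuleCat.of R Y) ⟶ F.obj (ModuleCat.of R (X × Y)) :=
    biprod.desc (F.map (ModuleCat.ofHom (LinearMap.inl R X Y)))
      (F.map (ModuleCat.ofHom (LinearMap.inr R X Y)))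
  let s : F.obj (ModuleCat.of R (X × Y)) ⟶ F.obj (ModuleCat.of R X) ⊞ F.obj (ModuleCat.of R Y) :=
    biprod.lift (F.map (ModuleCat.ofHom (LinearMap.fst R X Y)))
      (F.map (ModuleCat.ofHom (LinearMap.snd R X Y)))
  have hsp : s ≫ p = 𝟙 _ := by
    show biprod.lift _ _ ≫ biprod.desc _ _ = 𝟙 _
    rw [biprod.lift_desc, ← F.map_comp, ← F.map_comp, ← F.map_add, ← F.map_id]
    congr 1
    apply ModuleCat.hom_ext
    apply LinearMap.ext
    rintro ⟨x, y⟩
    show ((x, (0 : Y)) : X × Y) + ((0 : X), y) = (x, y)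
    simp
  have hp : Epi p := by
    have : IsSplitEpi p := IsSplitEpi.mk' ⟨s, hsp⟩
    infer_instance
  have hcomp : p ≫ F.map (ModuleCat.ofHom (a.coprod b)) =
      biprod.desc (F.map (ModuleCat.ofHom a)) (F.map (ModuleCat.ofHom b)) := by
    apply biprod.hom_ext'
    · rw [biprod.inl_desc_assoc, biprod.inl_desc, ← F.map_comp]
      congr 1
      apply ModuleCat.hom_ext
      exact LinearMap.coprod_inl a b
    · rw [biprod.inr_desc_assoc, biprod.inr_desc, ← F.map_comp]
      congr 1
      apply ModuleCat.hom_ext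
      exact LinearMap.coprod_inr a b
  rw [← hcomp]
  constructor
  · intro h
    exact epi_comp _ _
  · intro h
    exact epi_of_epi p _

end Aux

/-- Let B' = B ×_A A' be a fibre product of commutative rings with A' → A surjective and L' a B'-module.
Then L' is a fixed point of the glueing adjunction, i.e. the canonical map from L' to the compatible
pairs in (B ⊗_{B'} L') × (A' ⊗_{B'} L') is injective (it is always surjective), if and only if the
map Tor_1(L', B) ⊕ Tor_1(L', A') → Tor_1(L', A) over B' induced by B → A and A' → A is surjective.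
Here Tor_1(L', –) is the first left derived functor of L' ⊗_{B'} – on B'-modules. -/
theorem result (B' B A' A : Type u) [CommRing B'] [CommRing B] [CommRing A'] [CommRing A]
    [Algebra B' B] [Algebra B' A'] [Algebra B A] [Algebra A' A] [Algebra B' A] [IsScalarTower B' B A] [IsScalarTower B' A' A]
    (hsq : EtMil.IsFibreSquare B' B A' A)
    (L' : Type u) [AddCommGroup L'] [Module B' L'] :
    (∀ l : L', ((1 : B) ⊗ₜ[B'] l : B ⊗[B'] L') = 0 → ((1 : A') ⊗ₜ[B'] l : A' ⊗[B'] L') = 0 → l = 0) ↔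
    Epi (biprod.desc
      (((Tor (ModuleCat.{u} B') 1).obj (ModuleCat.of B' L')).map
        (ModuleCat.ofHom (IsScalarTower.toAlgHom B' B A).toLinearMap))
      (((Tor (ModuleCat.{u} B') 1).obj (ModuleCat.of B' L')).map
        (ModuleCat.ofHom (IsScalarTower.toAlgHom B' A' A).toLinearMap))) := by
  classical
  let φ : B →ₗ[B'] A := (IsScalarTower.toAlgHom B' B A).toLinearMap
  let ψ : A' →ₗ[B'] A := (IsScalarTower.toAlgHom B' A' A).toLinearMap
  let f : B' →ₗ[B'] B × A' := (Algebra.linearMap B' B).prod (-(Algebra.linearMap B' A'))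
  let g : B × A' →ₗ[B'] A := φ.coprod ψ
  have hφ : ∀ b, φ b = algebraMap B A b := fun b => rfl
  have hψ : ∀ a', ψ a' = algebraMap A' A a' := fun a' => rfl
  have hf : ∀ b', f b' = (algebraMap B' B b', -algebraMap B' A' b') := fun b' => rfl
  have hg : ∀ b a', g (b, a') = algebraMap B A b + algebraMap A' A a' := by
    intro b a'
    show φ b + ψ a' = _
    rfl
  have hfinj : Function.Injective f := by
    rw [injective_iff_map_eq_zero]
    intro b' hb'
    rw [hf, Prod.mk_eq_zero, neg_eq_zero] at hb'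
    obtain ⟨b₀, -, huniq⟩ := hsq.2 0 0 (by rw [map_zero, map_zero])
    rw [huniq b' hb', huniq 0 ⟨map_zero _, map_zero _⟩]
  have hgsurj : Function.Surjective g := by
    intro a
    obtain ⟨a', ha'⟩ := hsq.1 a
    exact ⟨(0, a'), by rw [hg, map_zero, zero_add, ha']⟩
  have hex : Function.Exact f g := by
    rintro ⟨b, a'⟩
    constructor
    · intro h
      rw [hg] at h
      have h' : algebraMap B A b = algebraMap A' A (-a') := by
        rw [map_neg]; exact eq_neg_of_add_eq_zero_left h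
      obtain ⟨b', ⟨hb1, hb2⟩, -⟩ := hsq.2 b (-a') h'
      refine ⟨b', ?_⟩
      rw [hf, hb1, hb2, neg_neg]
    · rintro ⟨b', hb'⟩
      rw [hf] at hb'
      obtain ⟨rfl, rfl⟩ := Prod.mk.inj hb'
      rw [hg, map_neg, ← IsScalarTower.algebraMap_apply, ← IsScalarTower.algebraMap_apply,
        add_neg_cancel]
  let S : ShortComplex (ModuleCat.{u} B') :=
    ShortComplex.mk (ModuleCat.ofHom f) (ModuleCat.ofHom g) (by
      apply ModuleCat.hom_ext
      exact hex.linearMap_comp_eq_zero)
  have hS : S.ShortExact := ModuleCat.shortComplex_shortExact _ hex hfinj hgsurj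
  have hadd : ((Tor (ModuleCat.{u} B') 1).obj (ModuleCat.of B' L')).Additive :=
    Groth.Agent.H10.LDerAdditive.tor_obj_additive B' (ModuleCat.of B' L') 1
  have key := epi_map_coprod_iff ((Tor (ModuleCat.{u} B') 1).obj (ModuleCat.of B' L')) φ ψ
  rw [← key]
  have key2 := epi_tor_one_iff_mono (ModuleCat.of B' L') S hS
  have key2' : Epi (((Tor (ModuleCat.{u} B') 1).obj (ModuleCat.of B' L')).map
      (ModuleCat.ofHom (φ.coprod ψ))) ↔
      Mono ((MonoidalCategory.tensorLeft (ModuleCat.of B' L')).map (ModuleCat.ofHom f)) := key2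
  rw [key2', ModuleCat.mono_iff_injective]
  have hmap : ∀ z : L' ⊗[B'] B', ((MonoidalCategory.tensorLeft (ModuleCat.of B' L')).map
      (ModuleCat.ofHom f)).hom z = f.lTensor L' z := fun z => rfl
  have hcomm1 : ∀ l : L', ((1 : B) ⊗ₜ[B'] l : B ⊗[B'] L') = 0 ↔ (l ⊗ₜ[B'] (1 : B) : L' ⊗[B'] B) = 0 := by
    intro l
    rw [← (TensorProduct.comm B' B L').map_eq_zero_iff, TensorProduct.comm_tmul]
  have hcomm2 : ∀ l : L', ((1 : A') ⊗ₜ[B'] l : A' ⊗[B'] L') = 0 ↔
      (l ⊗ₜ[B'] (1 : A') : L' ⊗[B'] A') = 0 := by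
    intro l
    rw [← (TensorProduct.comm B' A' L').map_eq_zero_iff, TensorProduct.comm_tmul]
  have hone : ∀ l : L', f.lTensor L' (l ⊗ₜ[B'] (1 : B')) =
      l ⊗ₜ[B'] ((1 : B), (-1 : A')) := by
    intro l
    rw [LinearMap.lTensor_tmul, hf, map_one, map_one]
  constructor
  · intro hcond
    show Function.Injective fun z => ((MonoidalCategory.tensorLeft (ModuleCat.of B' L')).map
      (ModuleCat.ofHom f)).hom z
    simp only [hmap]
    rw [injective_iff_map_eq_zero]
    intro z hz
    obtain ⟨l, rfl⟩ : ∃ l : L', z = l ⊗ₜ[B'] (1 : B') :=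
      ⟨TensorProduct.rid B' L' z, by
        rw [← TensorProduct.rid_symm_apply, LinearEquiv.symm_apply_apply]⟩
    rw [hone] at hz
    have h1 := congrArg ((LinearMap.fst B' B A').lTensor L') hz
    have h2 := congrArg ((LinearMap.snd B' B A').lTensor L') hz
    rw [LinearMap.lTensor_tmul, map_zero] at h1 h2
    have h1' : (l ⊗ₜ[B'] (1 : B) : L' ⊗[B'] B) = 0 := h1
    have h2' : (l ⊗ₜ[B'] (-1 : A') : L' ⊗[B'] A') = 0 := h2
    rw [TensorProduct.tmul_neg, neg_eq_zero] at h2'
    have hl : l = 0 := hcond l ((hcomm1 l).mpr h1') ((hcomm2 l).mpr h2')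
    rw [hl, TensorProduct.zero_tmul]
  · intro hinj l h1 h2
    have hinj' : Function.Injective (f.lTensor L') := by
      intro z z' hzz'
      apply hinj
      rw [hmap, hmap]
      exact hzz'
    have h1' := (hcomm1 l).mp h1
    have h2' := (hcomm2 l).mp h2
    have hz : f.lTensor L' (l ⊗ₜ[B'] (1 : B')) = 0 := by
      rw [hone]
      have hsplit : ((1 : B), (-1 : A')) = LinearMap.inl B' B A' 1 - LinearMap.inr B' B A' 1 := by
        simp
      rw [hsplit, TensorProduct.tmul_sub]
      have e1 : (l ⊗ₜ[B'] (LinearMap.inl B' B A' 1) : L' ⊗[B'] (B × A')) =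
          (LinearMap.inl B' B A').lTensor L' (l ⊗ₜ[B'] (1 : B)) := rfl
      have e2 : (l ⊗ₜ[B'] (LinearMap.inr B' B A' 1) : L' ⊗[B'] (B × A')) =
          (LinearMap.inr B' B A').lTensor L' (l ⊗ₜ[B'] (1 : A')) := rfl
      rw [e1, e2, h1', h2', map_zero, map_zero, sub_zero]
    have hz' : (l ⊗ₜ[B'] (1 : B') : L' ⊗[B'] B') = 0 := hinj' (hz.trans (map_zero _).symm)
    have := congrArg (TensorProduct.rid B' L') hz'
    rwa [TensorProduct.rid_tmul, one_smul, map_zero] at this

end Groth.Agent.S14958
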