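import Groth.Statements.S14961
import Groth.Agent.H89.PinchSheafProj
import Mathlib

set_option autoImplicit false
universe u
open AlgebraicGeometry CategoryTheory CategoryTheory.Limits
open Pinch

namespace Groth.Agent.S14961

/-- Let w : X' → X, g : X' → Y', f : X → Y, u : Y' → Y be a cartesian square of schemes with f affine
and u a closed immersion which is a pinching square: for every affine open V of Y, with I(V) the
kernel of Γ(V, O_Y) → Γ(u⁻¹V, O_Y'), the kernel of Γ(V, O_Y) → Γ(f⁻¹V, O_X) meets I(V) in 0 and the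
ideal generated by the image of I(V) in Γ(f⁻¹V, O_X) consists of images of elements of I(V)
(equivalently Γ(V, O_Y) is the fibre product of Γ(u⁻¹V, O_Y') and Γ(f⁻¹V, O_X) over Γ(h⁻¹V, O_X'),
i.e. O_Y = u_*O_Y' ×_{h_*O_X'} f_*O_X). A quasi-coherent O_Y-module G is finite locally free if and
only if u*G and f*G are finite locally free. -/
theorem result {X X' Y Y' : Scheme.{u}} (f : X ⟶ Y) (u : Y' ⟶ Y) (w : X' ⟶ X) (g : X' ⟶ Y')
    (hP : IsPullback w g f u) [IsAffineHom f] [IsClosedImmersion u]
    (hM : ∀ V ∈ Y.affineOpens,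
      RingHom.ker (f.app V).hom ⊓ RingHom.ker (u.app V).hom = ⊥ ∧
      ∀ a ∈ Ideal.map (f.app V).hom (RingHom.ker (u.app V).hom),
        ∃ i ∈ RingHom.ker (u.app V).hom, (f.app V).hom i = a)
    (G : Y.Modules) [G.IsQuasicoherent] :
    FlatMod.IsFinLocFree G ↔
      FlatMod.IsFinLocFree ((Scheme.Modules.pullback u).obj G) ∧
        FlatMod.IsFinLocFree ((Scheme.Modules.pullback f).obj G) := by
  constructor
  · intro hG
    exact ⟨Groth.Agent.H89.PinchSheafProj.isFinLocFree_pullback_of_isAffineHom u G hG,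
      Groth.Agent.H89.PinchSheafProj.isFinLocFree_pullback_of_isAffineHom f G hG⟩
  · rintro ⟨hu, hf⟩
    haveI : ((Scheme.Modules.pullback u).obj G).IsQuasicoherent :=
      Groth.Agent.H8.isQuasicoherent_pullback u G
    haveI : ((Scheme.Modules.pullback f).obj G).IsQuasicoherent :=
      Groth.Agent.H8.isQuasicoherent_pullback f G
    refine Groth.Agent.H8.isFinLocFree_of_projective_sections G (fun y => ?_)
    obtain ⟨V, hV, hyV, -⟩ := exists_isAffineOpen_mem_and_subset (x := y)
      (U := (⊤ : Y.Opens)) trivial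
    obtain ⟨hfp1, hp1⟩ :=
      Groth.Agent.H8.finitePresentation_projective_sections_of_isFinLocFree _ hu (hV.preimage u)
    obtain ⟨hfp2, hp2⟩ :=
      Groth.Agent.H8.finitePresentation_projective_sections_of_isFinLocFree _ hf (hV.preimage f)
    obtain ⟨hfin, hproj⟩ := Groth.Agent.H89.PinchSheafProj.projective_sections_of_pinch f u G hV
      (hM V hV) inferInstance hp1 inferInstance hp2
    exact ⟨V, hV, hyV, hfin, hproj⟩

end Groth.Agent.S14961
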