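import Groth.Statements.S14962
import Groth.Agent.H89.PinchSheaf
import Mathlib

set_option autoImplicit false
universe u
open AlgebraicGeometry CategoryTheory CategoryTheory.Limits
open Pinch

namespace Groth.Agent.S14962

/-- Let w : X' → X, g : X' → Y', f : X → Y, u : Y' → Y be a cartesian square of schemes with f affine
and u a closed immersion which is a pinching square: for every affine open V of Y, with I(V) the
kernel of Γ(V, O_Y) → Γ(u⁻¹V, O_Y'), the kernel of Γ(V, O_Y) → Γ(f⁻¹V, O_X) meets I(V) in 0 and the
ideal generated by the image of I(V) in Γ(f⁻¹V, O_X) consists of images of elements of I(V)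
(equivalently Γ(V, O_Y) is the fibre product of Γ(u⁻¹V, O_Y') and Γ(f⁻¹V, O_X) over Γ(h⁻¹V, O_X'),
i.e. O_Y = u_*O_Y' ×_{h_*O_X'} f_*O_X). A quasi-coherent O_Y-module G is of finite type if and only
if u*G and f*G are of finite type. (The published clause is for flat modules of finite type;
flatness descends separately and the finiteness part does not use it.) -/
theorem result {X X' Y Y' : Scheme.{u}} (f : X ⟶ Y) (u : Y' ⟶ Y) (w : X' ⟶ X) (g : X' ⟶ Y')
    (hP : IsPullback w g f u) [IsAffineHom f] [IsClosedImmersion u]
    (hM : ∀ V ∈ Y.affineOpens,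
      RingHom.ker (f.app V).hom ⊓ RingHom.ker (u.app V).hom = ⊥ ∧
      ∀ a ∈ Ideal.map (f.app V).hom (RingHom.ker (u.app V).hom),
        ∃ i ∈ RingHom.ker (u.app V).hom, (f.app V).hom i = a)
    (G : Y.Modules) [G.IsQuasicoherent] :
    SheafOfModules.IsFiniteType G ↔
      SheafOfModules.IsFiniteType ((Scheme.Modules.pullback u).obj G) ∧
        SheafOfModules.IsFiniteType ((Scheme.Modules.pullback f).obj G) := by
  constructor
  · intro hG
    haveI : SheafOfModules.IsFiniteType (R := Y.ringCatSheaf) G := hG
    exact ⟨Groth.Agent.H8.isFiniteType_pullback u G, Groth.Agent.H8.isFiniteType_pullback f G⟩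
  · rintro ⟨hu, hf⟩
    haveI : ((Scheme.Modules.pullback u).obj G).IsQuasicoherent :=
      Groth.Agent.H8.isQuasicoherent_pullback u G
    haveI : ((Scheme.Modules.pullback f).obj G).IsQuasicoherent :=
      Groth.Agent.H8.isQuasicoherent_pullback f G
    haveI : SheafOfModules.IsFiniteType (R := Y'.ringCatSheaf)
      ((Scheme.Modules.pullback u).obj G) := hu
    haveI : SheafOfModules.IsFiniteType (R := X.ringCatSheaf)
      ((Scheme.Modules.pullback f).obj G) := hf
    refine Groth.Agent.H8.isFiniteType_of_forall_affine_finite G (fun V => ?_)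
    exact Groth.Agent.H89.PinchSheaf.finite_sections_of_pinch f u G V.2 (hM V.1 V.2)
      (Groth.Agent.H8.finite_sections_of_isAffineOpen _ (V.2.preimage u))
      (Groth.Agent.H8.finite_sections_of_isAffineOpen _ (V.2.preimage f))

end Groth.Agent.S14962
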