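import Groth.Statements.S14963
import Groth.Agent.H97.Azumaya
import Mathlib

set_option autoImplicit false
set_option linter.style.haveILetI false
universe u v w
open TensorProduct
open Brauer

namespace Groth.Agent.S14963

open Groth.Agent.H97

/-- Let R → S be a ring homomorphism with Spec S → Spec R surjective and B an R-algebra which is
finitely generated and projective as an R-module. If S ⊗_R B is an Azumaya S-algebra, then B is an
Azumaya R-algebra. (The published statement is for a surjective morphism of schemes X → Y and a
finite locally free O_Y-algebra; this row is the case of affine X and Y. The converse direction,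
base change, is omitted.) -/
theorem result (R : Type u) [CommRing R]
    (S : Type v) [CommRing S] [Algebra R S]
    (hS : Function.Surjective (PrimeSpectrum.comap (algebraMap R S)))
    (B : Type w) [Ring B] [Algebra R B] [Module.Finite R B] [Module.Projective R B]
    [IsAzumaya S (S ⊗[R] B)] : IsAzumaya R B := by
  have hgS : Function.Bijective ((AlgHom.mulLeftRight R B).toLinearMap.baseChange S) :=
    (mulLeftRight_baseChange_bijective_iff R S B).1 IsAzumaya.bij
  haveI : Module.FaithfullyFlat S (S ⊗[R] B) := faithfullyFlat_of_finite_flat_faithful _
  have hmax : ∀ m : Ideal R, m.IsMaximal → Nontrivial ((R ⧸ m) ⊗[R] B) ∧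
      Function.Bijective ((AlgHom.mulLeftRight R B).toLinearMap.baseChange (R ⧸ m)) := by
    intro m hm
    haveI := hm
    obtain ⟨q, hq⟩ := hS ⟨m, hm.isPrime⟩
    have hqm : q.asIdeal.comap (algebraMap R S) = m := congrArg PrimeSpectrum.asIdeal hq
    have hK : m ≤ RingHom.ker (algebraMap R q.asIdeal.ResidueField) := by
      intro x hx
      rw [RingHom.mem_ker, IsScalarTower.algebraMap_apply R S q.asIdeal.ResidueField,
        Ideal.algebraMap_residueField_eq_zero]
      rw [← hqm] at hx
      exact hx
    have hgT : Function.Bijective
        ((AlgHom.mulLeftRight R B).toLinearMap.baseChange q.asIdeal.ResidueField) :=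
      bijective_baseChange_of_bijective_baseChange R S q.asIdeal.ResidueField _ hgS
    haveI : Nontrivial (q.asIdeal.ResidueField ⊗[R] B) := by
      have e := TensorProduct.AlgebraTensorModule.cancelBaseChange R S q.asIdeal.ResidueField
        q.asIdeal.ResidueField B
      haveI : Nontrivial (q.asIdeal.ResidueField ⊗[S] (S ⊗[R] B)) := inferInstance
      exact e.injective.nontrivial
    exact ⟨nontrivial_quotient_tensor_of_algebra m q.asIdeal.ResidueField hK B,
      bijective_baseChange_quotient_of_algebra m q.asIdeal.ResidueField hK _ hgT⟩
  obtain ⟨hfinE, hprojE⟩ := end_finite_projective R B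
  haveI := hfinE
  haveI := hprojE
  have hbij : Function.Bijective (AlgHom.mulLeftRight R B) :=
    bijective_of_forall_maximal_baseChange_quotient (AlgHom.mulLeftRight R B).toLinearMap
      (fun m hm => (hmax m hm).2)
  haveI : Module.FaithfullyFlat R B :=
    faithfullyFlat_of_forall_maximal_nontrivial B (fun m hm => (hmax m hm).1)
  haveI : FaithfulSMul R B := faithfulSMul_of_faithfullyFlat B
  exact ⟨hbij⟩

end Groth.Agent.S14963
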