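import Groth.Statements.S14965
import Mathlib
import Groth.Agent.H97.Milnor
import Groth.Agent.S14956

set_option autoImplicit false
set_option linter.style.haveILetI false
universe u
open TensorProduct
open Brauer

namespace Groth.Agent.S14965

/-- Let B' = B ×_A A' be a fibre product of commutative rings with A' → A surjective, N an Azumaya
B-algebra, M' an Azumaya A'-algebra and φ : A ⊗_B N ≅ A ⊗_{A'} M' an isomorphism of A-algebras. If a
B'-algebra D' with B'-algebra homomorphisms π₁ : D' → N and π₂ : D' → M' is the glued algebra N ×_φ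
M', in the sense that (π₁, π₂) is injective with image the pairs (n, m') satisfying φ(1 ⊗ n) = 1 ⊗
m', then D' is an Azumaya B'-algebra. (The published statement is for Azumaya algebras on the
pushout scheme of a closed immersion and an affine morphism, glued as u_*B' ×_{h_*} f_*A; this row
is the case of an affine pushout.) -/
theorem result (B' B A' A : Type u) [CommRing B'] [CommRing B] [CommRing A'] [CommRing A]
    [Algebra B' B] [Algebra B' A'] [Algebra B A] [Algebra A' A] [Algebra B' A] [IsScalarTower B' B A] [IsScalarTower B' A' A]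
    (hsq : EtMil.IsFibreSquare B' B A' A)
    (N : Type u) [Ring N] [Algebra B N] [Algebra B' N] [IsScalarTower B' B N] [IsAzumaya B N]
    (M' : Type u) [Ring M'] [Algebra A' M'] [Algebra B' M'] [IsScalarTower B' A' M'] [IsAzumaya A' M']
    (φ : A ⊗[B] N ≃ₐ[A] A ⊗[A'] M')
    (D' : Type u) [Ring D'] [Algebra B' D'] (π₁ : D' →ₐ[B'] N) (π₂ : D' →ₐ[B'] M')
    (hinj : ∀ d : D', π₁ d = 0 → π₂ d = 0 → d = 0)
    (himg : ∀ (n : N) (m' : M'), φ ((1 : A) ⊗ₜ[B] n) = (1 : A) ⊗ₜ[A'] m' ↔ ∃ d : D', π₁ d = n ∧ π₂ d = m') :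
    IsAzumaya B' D' := by
  have hG : Groth.Agent.H97.Milnor.IsGlue (B' := B') φ.toLinearEquiv π₁.toLinearMap
      π₂.toLinearMap := { inj := hinj, img := himg }
  have hb1 := hG.fst_bijective hsq
  have hb2 := hG.snd_bijective hsq
  -- the algebra isomorphism `B ⊗ D' ≃ N`
  let f₁ : B ⊗[B'] D' →ₐ[B] N :=
    Algebra.TensorProduct.lift (Algebra.ofId B N) π₁ (fun b d => Algebra.commutes b (π₁ d))
  have hf₁ : ∀ z, f₁ z = LinearMap.liftBaseChange B π₁.toLinearMap z := by
    intro z
    induction z using TensorProduct.induction_on with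
    | zero => rw [map_zero, map_zero]
    | tmul b d =>
      have e1 : f₁ (b ⊗ₜ[B'] d) = algebraMap B N b * π₁ d := rfl
      rw [e1, LinearMap.liftBaseChange_tmul, Algebra.smul_def]
      rfl
    | add x y hx hy => rw [map_add, map_add, hx, hy]
  have hbij₁ : Function.Bijective f₁ := by
    have : (f₁ : B ⊗[B'] D' → N) = LinearMap.liftBaseChange B π₁.toLinearMap := funext hf₁
    rw [this]
    exact hb1
  haveI : IsAzumaya B (B ⊗[B'] D') :=
    IsAzumaya.of_AlgEquiv B N (B ⊗[B'] D') (AlgEquiv.ofBijective f₁ hbij₁).symm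
  -- the algebra isomorphism `A' ⊗ D' ≃ M'`
  let f₂ : A' ⊗[B'] D' →ₐ[A'] M' :=
    Algebra.TensorProduct.lift (Algebra.ofId A' M') π₂ (fun b d => Algebra.commutes b (π₂ d))
  have hf₂ : ∀ z, f₂ z = LinearMap.liftBaseChange A' π₂.toLinearMap z := by
    intro z
    induction z using TensorProduct.induction_on with
    | zero => rw [map_zero, map_zero]
    | tmul b d =>
      have e1 : f₂ (b ⊗ₜ[B'] d) = algebraMap A' M' b * π₂ d := rfl
      rw [e1, LinearMap.liftBaseChange_tmul, Algebra.smul_def]
      rfl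
    | add x y hx hy => rw [map_add, map_add, hx, hy]
  have hbij₂ : Function.Bijective f₂ := by
    have : (f₂ : A' ⊗[B'] D' → M') = LinearMap.liftBaseChange A' π₂.toLinearMap := funext hf₂
    rw [this]
    exact hb2
  haveI : IsAzumaya A' (A' ⊗[B'] D') :=
    IsAzumaya.of_AlgEquiv A' M' (A' ⊗[B'] D') (AlgEquiv.ofBijective f₂ hbij₂).symm
  exact (Groth.Agent.S14956.result B' B A' A hsq D').2 ⟨inferInstance, inferInstance⟩

end Groth.Agent.S14965
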