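import Groth.Statements.S14966
import Mathlib
-- import your own Groth.Agent.* helpers here

set_option autoImplicit false
universe u
open EtAlg

namespace Groth.Agent.S14966

/-- Let A → A' be an injective homomorphism of commutative rings and let I ⊆ A be the conductor, i.e.
the annihilator of the A-module A'/A. Then the conductor square formed by A → A/I, A → A', A/I →
A'/IA' and A' → A'/IA' is a fibre product square of rings with A' → A'/IA' surjective: A = A/I
×_{A'/IA'} A'. (The published Lemma is for the conductor square of a finite modification of schemes;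
this row is the underlying statement for one injective ring map, which needs no finiteness.) -/
theorem result (A A' : Type u) [CommRing A] [CommRing A'] [Algebra A A']
    (hinj : Function.Injective (algebraMap A A')) :
    EtMil.IsFibreSquare A (A ⧸ Module.annihilator A (A' ⧸ LinearMap.range (Algebra.linearMap A A'))) A'
      (A' ⧸ Ideal.map (algebraMap A A') (Module.annihilator A (A' ⧸ LinearMap.range (Algebra.linearMap A A')))) := by
  set I := Module.annihilator A (A' ⧸ LinearMap.range (Algebra.linearMap A A')) with hI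
  have hmemI : ∀ a : A, a ∈ I ↔
      ∀ a' : A', ∃ c : A, algebraMap A A' c = algebraMap A A' a * a' := by
    intro a
    rw [hI, Module.mem_annihilator]
    constructor
    · intro h a'
      have h' := h (Submodule.Quotient.mk a')
      rw [← Submodule.Quotient.mk_smul, Submodule.Quotient.mk_eq_zero] at h'
      obtain ⟨c, hc⟩ := h'
      exact ⟨c, by rw [← Algebra.smul_def]; exact hc⟩
    · intro h q
      obtain ⟨a', rfl⟩ := Submodule.Quotient.mk_surjective _ q
      rw [← Submodule.Quotient.mk_smul, Submodule.Quotient.mk_eq_zero]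
      obtain ⟨c, hc⟩ := h a'
      exact ⟨c, by rw [Algebra.smul_def]; exact hc⟩
  have hmap : ∀ x ∈ Ideal.map (algebraMap A A') I, ∃ i ∈ I, algebraMap A A' i = x := by
    intro x hx
    have hx' : x ∈ Submodule.span A' ((algebraMap A A') '' (I : Set A)) := hx
    clear hx
    induction hx' using Submodule.span_induction with
    | mem x h =>
      obtain ⟨i, hi, rfl⟩ := h
      exact ⟨i, hi, rfl⟩
    | zero => exact ⟨0, I.zero_mem, map_zero _⟩
    | add x y _ _ ihx ihy =>
      obtain ⟨i, hi, rfl⟩ := ihx
      obtain ⟨j, hj, rfl⟩ := ihy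
      exact ⟨i + j, I.add_mem hi hj, map_add _ _ _⟩
    | smul a' x _ ih =>
      obtain ⟨i, hi, rfl⟩ := ih
      obtain ⟨c, hc⟩ := (hmemI i).mp hi a'
      refine ⟨c, (hmemI c).mpr fun a'' => ?_, ?_⟩
      · obtain ⟨c', hc'⟩ := (hmemI i).mp hi (a' * a'')
        exact ⟨c', by rw [hc', hc]; ring⟩
      · rw [hc, smul_eq_mul, mul_comm]
  refine ⟨Ideal.Quotient.mk_surjective, ?_⟩
  intro b a' hba
  obtain ⟨a₀, rfl⟩ := Ideal.Quotient.mk_surjective b
  have h1 : Ideal.Quotient.mk (Ideal.map (algebraMap A A') I) (algebraMap A A' a₀)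
      = Ideal.Quotient.mk _ a' := hba
  rw [Ideal.Quotient.eq] at h1
  obtain ⟨i, hi, hia⟩ := hmap _ h1
  refine ⟨a₀ - i, ⟨?_, ?_⟩, ?_⟩
  · show Ideal.Quotient.mk I (a₀ - i) = Ideal.Quotient.mk I a₀
    rw [Ideal.Quotient.eq]
    have : a₀ - i - a₀ = -i := by ring
    rw [this]
    exact I.neg_mem hi
  · rw [map_sub, hia]
    ring
  · rintro y ⟨-, hy⟩
    apply hinj
    rw [hy, map_sub, hia]
    ring

end Groth.Agent.S14966
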