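import Groth.Statements.S1497
import Groth.Agent.H22.VeryAmpleIso
import Groth.Agent.H22.VeryAmpleConv
import Groth.Agent.S2331
import Groth.Agent.S9705
-- import your own Groth.Agent.* helpers here

set_option autoImplicit false
universe u
attribute [local instance] HasDerivedCategory.standard
open FlatMor

namespace Groth.Agent.S1497
open AlgebraicGeometry CategoryTheory Limits

open AlgebraicGeometry CategoryTheory Limits in
/-- Let S be a scheme with an ample invertible sheaf and f : X → S a morphism. Then f is a quasi-compact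
immersion into some projective space P^n_S over S if and only if f is of finite type and X has an
ample invertible sheaf. -/
theorem result {X S : Scheme.{u}} (hS : ∃ N : S.Modules, CohB1.IsAmple N) (f : X ⟶ S) :
    (∃ (n : ℕ) (i : X ⟶ CohB1.ProjSpaceOver n S), IsImmersion i ∧ QuasiCompact i ∧ i ≫ pullback.snd (CohB1.ProjSpace.toSpec n (ULift.{u} ℤ)) (specULiftZIsTerminal.from S) = f) ↔
      (LocallyOfFiniteType f ∧ QuasiCompact f ∧ ∃ L : X.Modules, CohB1.IsAmple L) := by
  obtain ⟨N, hN⟩ := hS
  constructor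
  · rintro ⟨n, i, hi, hqc, hfac⟩
    have hfac' : i ≫ CohB1.ProjSpaceOver.toBase n S = f := hfac
    have : LocallyOfFiniteType f := by rw [← hfac']; infer_instance
    have : QuasiCompact f := by rw [← hfac']; infer_instance
    refine ⟨inferInstance, inferInstance, ?_⟩
    have hrel := Groth.Agent.H22.VeryAmpleConv.isRelAmple_of_isRelVeryAmplePn f _
      ⟨n, i, hi, hfac, ⟨Iso.refl _⟩⟩
    obtain ⟨n₁, hn₁⟩ := Groth.Agent.S2331.thmA f hrel hN
    exact ⟨_, hn₁ n₁ le_rfl⟩
  · rintro ⟨h1, h2, L, hL⟩
    obtain ⟨d₀, -, hd⟩ := Groth.Agent.H22.VeryAmpleIso.eventually_isRelVeryAmplePn_tensorPow f hL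
    obtain ⟨r, i, hi, hfac, -⟩ := hd d₀ le_rfl
    refine ⟨r, i, hi, ?_, hfac⟩
    have hfac' : i ≫ CohB1.ProjSpaceOver.toBase r S = f := hfac
    have : QuasiCompact (i ≫ CohB1.ProjSpaceOver.toBase r S) := by rw [hfac']; exact h2
    exact QuasiCompact.of_comp i (CohB1.ProjSpaceOver.toBase r S)

end Groth.Agent.S1497
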