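import Groth.Statements.S14984
import Mathlib

set_option autoImplicit false
universe u v w
open HopfRep

namespace Groth.Agent.S14984

/-- Let `R` be a commutative ring, `A` a commutative Hopf algebra over `R`, flat as an `R`-module, `B` a
commutative `R`-algebra with a coaction of `A` that is an algebra map (an action of `G = Spec A` on
`X = Spec B`), and `C = B^A` the ring of invariants. If the action base-changed along `R → C` — the
`C`-Hopf algebra `C ⊗ A` coacting on `C ⊗ B` — is tame, i.e. there is a `C`-linear comodule map `β :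
C ⊗ A → C ⊗ B` (regular coaction on the source, base-changed coaction on the target) with `β 1 = 1`,
then the original action is tame: there is an `R`-linear comodule map `α : A → B` with `α 1 = 1`.
(The converse is the case `S = C` of stability of tameness under base change. The published lemma
also lists, as a third equivalent condition, tameness of the action of `C ⊗ A` on `B` itself over
`C`; that condition is not stated here.) -/
theorem result
    (R : Type u) (A : Type v) (B : Type w)
    [CommRing R] [CommRing A] [HopfAlgebra R A] [Module.Flat R A]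
    [CommRing B] [Algebra R B] [HopfRep.Comod R A B] [GLin.IsCoactAlg R A B]
    (h : ∃ β : TensorProduct R ↥(GLin.invariants R A B) A →ₗ[↥(GLin.invariants R A B)]
        TensorProduct R ↥(GLin.invariants R A B) B,
      @Hoch.IsComodHom ↥(GLin.invariants R A B) _ (TensorProduct R ↥(GLin.invariants R A B) A) _ _ _
        (TensorProduct R ↥(GLin.invariants R A B) A) _ _
        (HopfRep.Comod.regular ↥(GLin.invariants R A B) (TensorProduct R ↥(GLin.invariants R A B) A))
        (TensorProduct R ↥(GLin.invariants R A B) B) _ _
        (CoactBr.Comod.baseChange R ↥(GLin.invariants R A B) A B) β ∧ β 1 = 1) :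
    ∃ α : A →ₗ[R] B, Hoch.IsComodHom A α ∧ α 1 = 1 := by
  classical
  obtain ⟨β, hβ, hβ1⟩ := h
  -- multiplication `C ⊗ B → B`
  let μ : TensorProduct R ↥(GLin.invariants R A B) B →ₐ[↥(GLin.invariants R A B)] B :=
    Algebra.TensorProduct.lift (Algebra.ofId ↥(GLin.invariants R A B) B) (AlgHom.id R B)
      (fun _ _ => Commute.all _ _)
  have hμ : ∀ (c : ↥(GLin.invariants R A B)) (b : B), μ (c ⊗ₜ[R] b) = (c : B) * b := by
    intro c b
    simp [μ, Algebra.ofId_apply]
  let α : A →ₗ[R] B := (μ.toLinearMap.restrictScalars R) ∘ₗ (β.restrictScalars R) ∘ₗ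
    (TensorProduct.mk R ↥(GLin.invariants R A B) A 1)
  have hα : ∀ a, α a = μ (β ((1 : ↥(GLin.invariants R A B)) ⊗ₜ[R] a)) := fun a => rfl
  let Ψ : TensorProduct ↥(GLin.invariants R A B) (TensorProduct R ↥(GLin.invariants R A B) B)
      (TensorProduct R ↥(GLin.invariants R A B) A) →ₗ[↥(GLin.invariants R A B)] TensorProduct R B A :=
    (TensorProduct.AlgebraTensorModule.cancelBaseChange R ↥(GLin.invariants R A B)
      ↥(GLin.invariants R A B) B A).toLinearMap ∘ₗ
      μ.toLinearMap.rTensor (TensorProduct R ↥(GLin.invariants R A B) A)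
  have hΨ : ∀ (x : TensorProduct R ↥(GLin.invariants R A B) B) (c : ↥(GLin.invariants R A B)) (a : A),
      Ψ (x ⊗ₜ[↥(GLin.invariants R A B)] (c ⊗ₜ[R] a)) = (c • μ x) ⊗ₜ[R] a := by
    intro x c a
    rfl
  refine ⟨α, ?_, ?_⟩
  · -- comodule map
    unfold Hoch.IsComodHom at hβ ⊢
    refine LinearMap.ext fun a => ?_
    have h1 := LinearMap.congr_fun hβ ((1 : ↥(GLin.invariants R A B)) ⊗ₜ[R] a)
    simp only [LinearMap.comp_apply] at h1 ⊢
    have h2 := congrArg Ψ h1
    -- left side
    have hLc : ∀ (c : ↥(GLin.invariants R A B)),
        (Ψ.restrictScalars R) ∘ₗ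
          ((TensorProduct.AlgebraTensorModule.tensorTensorTensorComm R ↥(GLin.invariants R A B) R
            ↥(GLin.invariants R A B) ↥(GLin.invariants R A B) ↥(GLin.invariants R A B) B
            A).toLinearMap.restrictScalars R) ∘ₗ
          (TensorProduct.mk R _ (TensorProduct R B A)
            ((1 : ↥(GLin.invariants R A B)) ⊗ₜ[↥(GLin.invariants R A B)] c)) =
        LinearMap.mulLeft R ((c : B) ⊗ₜ[R] (1 : A)) := by
      intro c
      apply TensorProduct.ext'
      intro b0 b1
      simp only [LinearMap.comp_apply, LinearMap.restrictScalars_apply, TensorProduct.mk_apply,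
        LinearEquiv.coe_coe, LinearMap.mulLeft_apply]
      rw [TensorProduct.AlgebraTensorModule.tensorTensorTensorComm_tmul, hΨ, hμ,
        Algebra.TensorProduct.tmul_mul_tmul, one_mul]
      congr 1
      simp [Algebra.smul_def]
    have hL : ∀ x : TensorProduct R ↥(GLin.invariants R A B) B,
        Ψ ((CoactBr.Comod.baseChange R ↥(GLin.invariants R A B) A B).coact x) =
          HopfRep.Comod.coact (k := R) (A := A) (μ x) := by
      intro x
      induction x using TensorProduct.induction_on with
      | zero => simp
      | add x y hx hy => simp only [map_add, hx, hy]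
      | tmul c b =>
        rw [CoactBr.baseChange_coact_tmul, hμ, GLin.IsCoactAlg.coact_mul]
        have hc : HopfRep.Comod.coact (k := R) (A := A) (c : B) = (c : B) ⊗ₜ[R] (1 : A) := c.2
        rw [hc]
        exact LinearMap.congr_fun (hLc c) (HopfRep.Comod.coact (k := R) (A := A) b)
    have hRc : (Ψ.restrictScalars R) ∘ₗ
          ((β.rTensor (TensorProduct R ↥(GLin.invariants R A B) A)).restrictScalars R) ∘ₗ
          ((TensorProduct.AlgebraTensorModule.tensorTensorTensorComm R ↥(GLin.invariants R A B) R
            ↥(GLin.invariants R A B) ↥(GLin.invariants R A B) ↥(GLin.invariants R A B) A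
            A).toLinearMap.restrictScalars R) ∘ₗ
          (TensorProduct.mk R _ (TensorProduct R A A)
            ((1 : ↥(GLin.invariants R A B)) ⊗ₜ[↥(GLin.invariants R A B)]
              (1 : ↥(GLin.invariants R A B)))) = α.rTensor A := by
      apply TensorProduct.ext'
      intro a1 a2
      simp only [LinearMap.comp_apply, LinearMap.restrictScalars_apply, TensorProduct.mk_apply,
        LinearEquiv.coe_coe]
      rw [TensorProduct.AlgebraTensorModule.tensorTensorTensorComm_tmul, LinearMap.rTensor_tmul,
        hΨ, one_smul, LinearMap.rTensor_tmul, hα]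
    rw [hL] at h2
    rw [← hα] at h2
    rw [h2]
    exact LinearMap.congr_fun hRc (CoalgebraStruct.comul (R := R) a)
  · rw [hα]
    have : ((1 : ↥(GLin.invariants R A B)) ⊗ₜ[R] (1 : A)) =
        (1 : TensorProduct R ↥(GLin.invariants R A B) A) := rfl
    rw [this, hβ1]
    exact map_one μ

end Groth.Agent.S14984
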