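import Groth.Statements.S1499
import Groth.Agent.S2331
-- import your own Groth.Agent.* helpers here

set_option autoImplicit false
universe u
attribute [local instance] HasDerivedCategory.standard
open FlatMor

namespace Groth.Agent.S1499
open Groth.Agent.H22.CompAmple Groth.Agent.H22.PullBC Groth.Agent.H22.PullGen
open Groth.Agent.H22.PullAmple Groth.Agent.H22.AmpleLocal TopologicalSpace
open Groth.Agent.H18 Groth.Agent.H18.TensorGen Groth.Agent.H18.RestrictTensor

open AlgebraicGeometry CategoryTheory Limits in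
/-- Let f : X → Y with Y having an ample family of invertible modules, and suppose some O_X-module is
ample relative to f. Then X has an ample family of invertible modules. -/
theorem result {X Y : Scheme.{u}} (f : X ⟶ Y)
    (hY : MoreMor.HasAmpleFamily Y) (L : X.Modules) (hL : RelAmple.IsRelAmple f L) :
    MoreMor.HasAmpleFamily X := by
  obtain ⟨hYc, hYcov⟩ := hY
  haveI : CompactSpace Y := hYc
  haveI : QuasiCompact f := hL.1
  haveI : CompactSpace X := QuasiCompact.compactSpace_of_compactSpace f
  haveI : QuasiSeparatedSpace Y := by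
    have h := Groth.Agent.S7390.result Y (fun y => by
      obtain ⟨N, n, t, hN, -, hyt, haff⟩ := hYcov y
      exact ⟨_, t, isInvertible_tensorPow hN n, hyt, haff⟩)
    rw [quasiSeparatedSpace_iff_quasiSeparated]
    exact ⟨inferInstance⟩
  haveI : IsSeparated f := isSeparated_of_isRelAmple f L hL
  haveI : QuasiSeparatedSpace X := quasiSeparatedSpace_of_quasiSeparated f
  have hLinv := Groth.Agent.S4417.isInvertible_of_isRelAmple f L hL
  refine ⟨inferInstance, fun x => ?_⟩
  obtain ⟨N, n, t, hN, hn, hyt, haff⟩ := hYcov (f x)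
  obtain ⟨m, rfl⟩ : ∃ m, n = m + 1 := ⟨n - 1, by omega⟩
  have hA := isInvertible_pullback f hN
  obtain ⟨σ, hσ⟩ := exists_pbSecPow f hN (m + 1) t
  obtain ⟨e, D, hxD, hD, hs⟩ := exists_affine_genLocus hLinv hA x m σ
    (by rw [hσ]; exact hyt) (by rw [hσ]; exact hL.2 ⟨_, haff⟩)
  obtain ⟨c, s, hcs⟩ := hs e le_rfl
  refine ⟨_, c + 1, s, isInvertible_tensorMod hLinv (isInvertible_tensorPow hA e),
    Nat.succ_pos c, ?_, ?_⟩
  · rw [hcs]
    exact hxD
  · rw [hcs]
    exact hD

end Groth.Agent.S1499
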