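import Groth.Statements.S14994
import Mathlib.LinearAlgebra.Dual.Lemmas
import Mathlib.Algebra.Module.LocalizedModule.Basic
import Mathlib.RingTheory.Localization.FractionRing
import Mathlib.RingTheory.Localization.Integer
import Mathlib.RingTheory.Finiteness.Basic
import Mathlib.RingTheory.Localization.Module

set_option autoImplicit false
universe u
open CAlg

namespace Groth.Agent.S14994

/-- A finitely generated torsion-free module over a domain has enough functionals. -/
theorem exists_functional_ne_zero {A : Type u} [CommRing A] [IsDomain A] {Q : Type u}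
    [AddCommGroup Q] [Module A Q] [Module.Finite A Q] [Module.IsTorsionFree A Q]
    (x : Q) (hx : x ≠ 0) : ∃ ψ : Q →ₗ[A] A, ψ x ≠ 0 := by
  classical
  let S := nonZeroDivisors A
  let K := FractionRing A
  let V := LocalizedModule S Q
  let ι : Q →ₗ[A] V := LocalizedModule.mkLinearMap S Q
  have hιx : ι x ≠ 0 := by
    intro h0
    rw [IsLocalizedModule.eq_zero_iff S] at h0
    obtain ⟨s, hs⟩ := h0
    have hs0 : (s : A) ≠ 0 := nonZeroDivisors.ne_zero s.2
    have : (s : A) • x = 0 := hs
    exact hx ((smul_eq_zero_iff_right hs0).mp this)
  obtain ⟨f, hf⟩ := Module.Projective.exists_dual_ne_zero K hιx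
  let g : Q →ₗ[A] K := (f.restrictScalars A).comp ι
  have hgx : g x ≠ 0 := hf
  obtain ⟨T, hT⟩ := (Module.Finite.fg_top : (⊤ : Submodule A Q).FG)
  obtain ⟨b, hb⟩ := IsLocalization.exist_integer_multiples_of_finset S (T.image g)
  have hb0 : (b : A) ≠ 0 := nonZeroDivisors.ne_zero b.2
  have hall : ∀ q : Q, (b : A) • g q ∈ LinearMap.range (Algebra.linearMap A K) := by
    intro q
    have hq : q ∈ Submodule.span A (T : Set Q) := by rw [hT]; trivial
    induction hq using Submodule.span_induction with
    | mem y hy =>
      obtain ⟨a, ha⟩ := hb (g y) (Finset.mem_image_of_mem g hy)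
      exact ⟨a, by simpa [Algebra.smul_def] using ha⟩
    | zero => simp
    | add y z _ _ hy hz =>
      rw [map_add, smul_add]
      exact Submodule.add_mem _ hy hz
    | smul a y _ hy =>
      rw [map_smul, smul_comm]
      exact Submodule.smul_mem _ a hy
  have hinj : Function.Injective (Algebra.linearMap A K) :=
    IsFractionRing.injective A K
  let e := LinearEquiv.ofInjective (Algebra.linearMap A K) hinj
  let ψ : Q →ₗ[A] A := e.symm.toLinearMap.comp
    (LinearMap.codRestrict (LinearMap.range (Algebra.linearMap A K)) ((b : A) • g) hall)
  refine ⟨ψ, ?_⟩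
  intro h0
  have h1 : (e (ψ x) : K) = (b : A) • g x := by
    simp [ψ]
  rw [h0, map_zero] at h1
  have : (b : A) • g x = 0 := h1.symm
  rw [Algebra.smul_def, mul_eq_zero] at this
  rcases this with h | h
  · exact hb0 ((map_eq_zero_iff _ (IsFractionRing.injective A K)).mp h)
  · exact hgx h


/-- Let A be a Noetherian integrally closed domain, M a finitely generated torsion-free A-module, N a
submodule of M and ι : M → M** the canonical map to the double dual. Write N** → M** for the double
dual of the inclusion N → M. Then every m ∈ M whose image ι(m) lies in the image of N** is a torsion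
element modulo N: some nonzero a ∈ A satisfies a·m ∈ N. In other words the preimage of N** under ι
is contained in the saturation of N in M (the preimage of the torsion submodule of M/N), and the two
coincide when M/N is torsion-free. (The published statement asserts equality of the preimage with
the saturation for every N; for N = xA inside M = A = k[x] the saturation is all of M while N** has
image xA = N under the identification M** = M, so only the inclusion stated here holds, and it is
the inclusion later used, for saturated N, where the two sides agree.) -/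
theorem result (A : Type u) [CommRing A] [IsDomain A]
    [IsNoetherianRing A] [IsIntegrallyClosed A]
    (M : Type u) [AddCommGroup M] [Module A M] [Module.Finite A M] [NoZeroSMulDivisors A M]
    (N : Submodule A M) :
    (LinearMap.range N.subtype.dualMap.dualMap).comap (Module.Dual.eval A M) ≤
      (Submodule.torsion A (M ⧸ N)).comap N.mkQ := by
  intro m hm
  rw [Submodule.mem_comap, LinearMap.mem_range] at hm
  obtain ⟨ξ, hξ⟩ := hm
  rw [Submodule.mem_comap]
  by_contra hmt
  let T := M ⧸ N
  let Q := T ⧸ Submodule.torsion A T
  let x : Q := (Submodule.torsion A T).mkQ (N.mkQ m)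
  have hx : x ≠ 0 := by
    intro h0
    exact hmt ((Submodule.Quotient.mk_eq_zero _).mp h0)
  obtain ⟨ψ, hψ⟩ := exists_functional_ne_zero (A := A) x hx
  let φ : Module.Dual A M := ψ.comp ((Submodule.torsion A T).mkQ.comp N.mkQ)
  have h1 : (N.subtype.dualMap.dualMap ξ) φ = φ m := by
    rw [hξ]; rfl
  have h2 : N.subtype.dualMap φ = 0 := by
    ext n
    have hn : N.mkQ (n : M) = 0 := (Submodule.Quotient.mk_eq_zero N).mpr n.2
    simp [φ, hn]
  have h3 : (N.subtype.dualMap.dualMap ξ) φ = 0 := by
    rw [LinearMap.dualMap_apply, h2, map_zero]
  rw [h3] at h1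
  exact hψ h1.symm

end Groth.Agent.S14994
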