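import Groth.Statements.S14997
import Mathlib

set_option autoImplicit false
open HilbPol

namespace Groth.Agent.S14997

section aux

lemma lex_lt_iff {ℓ : ℕ} (x y : Fin ℓ → ℚ) :
    toLex x < toLex y ↔ ∃ i, (∀ j, j < i → x j = y j) ∧ x i < y i := Iff.rfl

lemma tri_eq (U U' : ℕ → ℚ) (G : ℕ → (ℕ → ℚ) → ℚ)
    (hG : ∀ s (V V' : ℕ → ℚ), (∀ i, i < s → V i = V' i) → G s V = G s V')
    (n : ℕ) (h : ∀ s, s < n → U s + G s U = U' s + G s U') : ∀ s, s < n → U s = U' s := by
  induction n with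
  | zero => intro s hs; omega
  | succ n ih =>
    have ih' := ih (fun s hs => h s (by omega))
    intro s hs
    rcases Nat.lt_or_eq_of_le (Nat.lt_succ_iff.mp hs) with hs' | hs'
    · exact ih' s hs'
    · subst hs'
      have h1 := h s (by omega)
      rw [hG s U U' ih'] at h1
      exact add_right_cancel h1

lemma tri_lex {ℓ : ℕ} (U U' : ℕ → ℚ) (G : ℕ → (ℕ → ℚ) → ℚ)
    (hG : ∀ s (V V' : ℕ → ℚ), (∀ i, i < s → V i = V' i) → G s V = G s V') :
    toLex (fun j : Fin ℓ => U j) ≤ toLex (fun j : Fin ℓ => U' j) ↔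
      toLex (fun j : Fin ℓ => U j + G j U) ≤ toLex (fun j : Fin ℓ => U' j + G j U') := by
  have hlt : toLex (fun j : Fin ℓ => U j) < toLex (fun j : Fin ℓ => U' j) ↔
      toLex (fun j : Fin ℓ => U j + G j U) < toLex (fun j : Fin ℓ => U' j + G j U') := by
    rw [lex_lt_iff, lex_lt_iff]
    constructor
    · rintro ⟨i, hi, hlt⟩
      have hagree : ∀ s, s < (i : ℕ) → U s = U' s := by
        intro s hs
        exact hi ⟨s, lt_trans hs i.2⟩ hs
      refine ⟨i, ?_, ?_⟩
      · intro j hj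
        have hj' : (j : ℕ) < (i : ℕ) := hj
        have e1 : U j = U' j := hi j hj
        have e2 : G j U = G j U' := hG j U U' (fun s hs => hagree s (lt_trans hs hj'))
        show U j + G j U = U' j + G j U'
        rw [e1, e2]
      · show U i + G i U < U' i + G i U'
        have hlt' : U i < U' i := hlt
        rw [hG i U U' hagree]
        linarith
    · rintro ⟨i, hi, hlt⟩
      have hagree : ∀ s, s < (i : ℕ) → U s = U' s := by
        apply tri_eq U U' G hG i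
        intro s hs
        exact hi ⟨s, lt_trans hs i.2⟩ hs
      refine ⟨i, fun j hj => hagree j hj, ?_⟩
      have h1 : U i + G i U < U' i + G i U' := hlt
      rw [hG i U U' hagree] at h1
      show U i < U' i
      linarith
  have heq : (toLex (fun j : Fin ℓ => U j) = toLex (fun j : Fin ℓ => U' j)) ↔
      (toLex (fun j : Fin ℓ => U j + G j U) = toLex (fun j : Fin ℓ => U' j + G j U')) := by
    constructor
    · intro h
      have h' : ∀ s, s < ℓ → U s = U' s :=
        fun s hs => congrFun (toLex.injective h) ⟨s, hs⟩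
      apply congrArg toLex
      funext j
      rw [h' j j.2, hG j U U' (fun s hs => h' s (lt_trans hs j.2))]
    · intro h
      have h' : ∀ s, s < ℓ → U s + G s U = U' s + G s U' :=
        fun s hs => congrFun (toLex.injective h) ⟨s, hs⟩
      have h2 := tri_eq U U' G hG ℓ h'
      apply congrArg toLex
      funext j
      exact h2 j j.2
  rw [le_iff_lt_or_eq, le_iff_lt_or_eq]
  exact or_congr hlt heq

open Polynomial in
lemma coeff_comp_sub (P : ℚ[X]) (a : ℚ) (d i : ℕ) (hP : P.natDegree ≤ d) :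
    (P.comp (X - C a)).coeff i
      = ∑ m ∈ Finset.range (d - i + 1), ((m + i).choose i * P.coeff (m + i)) * (-a) ^ m := by
  have h1 : P.comp (X - C a) = taylor (-a) P := by
    rw [taylor_apply, C_neg, sub_eq_add_neg]
  rw [h1, taylor_coeff, eval_eq_sum_range' (n := d - i + 1)]
  · apply Finset.sum_congr rfl
    intro m _
    rw [hasseDeriv_coeff]
  · have := natDegree_hasseDeriv_le P i
    omega

open Polynomial Nat in
lemma KF (P : ℚ[X]) (a : ℚ) (d i : ℕ) (hP : P.natDegree ≤ d) :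
    (P - P.comp (X - C a)).coeff i * (i ! : ℚ)
      = ∑ k ∈ Finset.range (d - i),
          (-(-a) ^ (k + 1) / ((k + 1)! : ℚ)) * (P.coeff (k + 1 + i) * ((k + 1 + i)! : ℚ)) := by
  rw [coeff_sub, coeff_comp_sub P a d i hP, Finset.sum_range_succ']
  simp only [zero_add, Nat.choose_self, Nat.cast_one, one_mul, pow_zero, mul_one]
  have hxy : ∀ x y : ℚ, x - (y + x) = -y := fun x y => by ring
  rw [hxy, neg_mul, Finset.sum_mul, ← Finset.sum_neg_distrib]
  apply Finset.sum_congr rfl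
  intro k _
  have hfac : ((k + 1 + i)! : ℚ) = ((k + 1 + i).choose i : ℚ) * (i ! : ℚ) * ((k + 1)! : ℚ) := by
    have h := Nat.add_choose_mul_factorial_mul_factorial (k + 1) i
    have h' : ((k + 1 + i)! : ℚ) = ((k + 1 + i).choose i : ℚ) * ((k + 1)! : ℚ) * (i ! : ℚ) := by
      exact_mod_cast h.symm
    rw [h']; ring
  rw [hfac]
  have hk : ((k + 1)! : ℚ) ≠ 0 := Nat.cast_ne_zero.mpr (Nat.factorial_ne_zero _)
  rw [div_mul_eq_mul_div, eq_div_iff hk]
  ring

open Nat in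
/-- the reduced coefficients -/
noncomputable def uu (d : ℕ) (P : Polynomial ℚ) (s : ℕ) : ℚ :=
  P.coeff (d - 1 - s) * ((d - 1 - s)! : ℚ) / (P.coeff d * (d ! : ℚ))

open Nat in
noncomputable def kap (a : ℚ) (m : ℕ) : ℚ := (-(-a) ^ m / (m ! : ℚ)) / a

noncomputable def GG (a : ℚ) (s : ℕ) (U : ℕ → ℚ) : ℚ :=
  kap a (s + 1 + 1) + ∑ k ∈ Finset.range s, kap a (k + 1 + 1) * U (s - 1 - k)

open Polynomial Nat in
lemma entry (d : ℕ) (a : ℚ) (ha : a ≠ 0) (P : ℚ[X]) (hP : P.natDegree = d) (hP0 : P ≠ 0)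
    (s : ℕ) (hs : s + 2 ≤ d) :
    (P - P.comp (X - C a)).coeff ((d - 1) - 1 - s) * (((d - 1) - 1 - s)! : ℚ) /
        ((P - P.comp (X - C a)).coeff (d - 1) * ((d - 1)! : ℚ))
      = uu d P s + GG a s (uu d P) := by
  obtain ⟨i₀, rfl⟩ : ∃ i₀, d = i₀ + s + 2 := ⟨d - 2 - s, by omega⟩
  have hlead : P.coeff (i₀ + s + 2) ≠ 0 := by
    rw [← hP]; exact leadingCoeff_ne_zero.mpr hP0
  have hα : P.coeff (i₀ + s + 2) * ((i₀ + s + 2)! : ℚ) ≠ 0 :=
    mul_ne_zero hlead (Nat.cast_ne_zero.mpr (Nat.factorial_ne_zero _))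
  have e1 : i₀ + s + 2 - 1 - 1 - s = i₀ := by omega
  have e2 : i₀ + s + 2 - 1 = i₀ + s + 1 := by omega
  rw [e1, e2, KF P a (i₀ + s + 2) i₀ hP.le, KF P a (i₀ + s + 2) (i₀ + s + 1) hP.le]
  have e3 : i₀ + s + 2 - i₀ = s + 2 := by omega
  have e4 : i₀ + s + 2 - (i₀ + s + 1) = 1 := by omega
  rw [e3, e4, Finset.sum_range_one, Finset.sum_range_succ, Finset.sum_range_succ']
  have h0 : 0 + 1 + (i₀ + s + 1) = i₀ + s + 2 := by omega
  have h1 : 0 + 1 + i₀ = i₀ + 1 := by omega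
  have h2 : s + 1 + 1 + i₀ = i₀ + s + 2 := by omega
  have hc1 : (-(-a) ^ (0 + 1) / ((0 + 1)! : ℚ)) = a := by simp
  rw [h0, h1, h2, hc1]
  unfold GG
  have p0 : uu (i₀ + s + 2) P s
      = P.coeff (i₀ + 1) * ((i₀ + 1)! : ℚ) / (P.coeff (i₀ + s + 2) * ((i₀ + s + 2)! : ℚ)) := by
    unfold uu
    have h3 : i₀ + s + 2 - 1 - s = i₀ + 1 := by omega
    rw [h3]
  have pk : kap a (s + 1 + 1) = (-(-a) ^ (s + 1 + 1) / ((s + 1 + 1)! : ℚ)) / a := rfl
  have p1 : (∑ k ∈ Finset.range s, (-(-a) ^ (k + 1 + 1) / ((k + 1 + 1)! : ℚ)) *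
        (P.coeff (k + 1 + 1 + i₀) * ((k + 1 + 1 + i₀)! : ℚ))) /
        (a * (P.coeff (i₀ + s + 2) * ((i₀ + s + 2)! : ℚ)))
      = ∑ k ∈ Finset.range s, kap a (k + 1 + 1) * uu (i₀ + s + 2) P (s - 1 - k) := by
    rw [Finset.sum_div]
    apply Finset.sum_congr rfl
    intro k hk
    have hk' := Finset.mem_range.mp hk
    unfold kap uu
    have e : i₀ + s + 2 - 1 - (s - 1 - k) = k + 1 + 1 + i₀ := by omega
    rw [e]
    exact mul_div_mul_comm _ _ _ _
  have p2 : a * (P.coeff (i₀ + 1) * ((i₀ + 1)! : ℚ)) /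
        (a * (P.coeff (i₀ + s + 2) * ((i₀ + s + 2)! : ℚ)))
      = P.coeff (i₀ + 1) * ((i₀ + 1)! : ℚ) / (P.coeff (i₀ + s + 2) * ((i₀ + s + 2)! : ℚ)) :=
    mul_div_mul_left _ _ ha
  have p3 : (-(-a) ^ (s + 1 + 1) / ((s + 1 + 1)! : ℚ)) *
        (P.coeff (i₀ + s + 2) * ((i₀ + s + 2)! : ℚ)) /
        (a * (P.coeff (i₀ + s + 2) * ((i₀ + s + 2)! : ℚ)))
      = (-(-a) ^ (s + 1 + 1) / ((s + 1 + 1)! : ℚ)) / a :=
    mul_div_mul_right _ _ hα
  rw [add_div, add_div, p1, p0, pk, p2, p3]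
  ring

end aux


open Polynomial in
/-- Let d and ℓ be natural numbers with ℓ + 1 ≤ d, let a be a nonzero rational number and let P, Q be
polynomials with rational coefficients, both of degree exactly d. For a polynomial R of degree e
write R(m) = Σ_i α_i(R) m^i / i! (so α_i(R) = i! · coeff_i(R)) and let r_ℓ(R) ∈ ℚ^ℓ be the vector
(α_{e−1}(R)/α_e(R), …, α_{e−ℓ}(R)/α_e(R)) of the ℓ coefficients after the leading one of the reduced
polynomial R/α_e(R), ordered lexicographically. The polynomials P(m) − P(m − a) and Q(m) − Q(m − a)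
have degree d − 1, and r_ℓ(P) ≤ r_ℓ(Q) lexicographically if and only if r_ℓ(P(m) − P(m − a)) ≤
r_ℓ(Q(m) − Q(m − a)) lexicographically (hence the same with strict inequalities, by exchanging P and
Q). When P and Q are the Hilbert polynomials of pure d-dimensional coherent sheaves E → F on a
polarized projective scheme and D is a hypersurface section of degree a containing no associated
point of E or F, the Hilbert polynomials of E|_D and F|_D are P(m) − P(m − a) and Q(m) − Q(m − a),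
and the two sides are the comparisons of the ℓ-truncated reduced Hilbert polynomials p_ℓ(E) ≥ p_ℓ(F)
and p_ℓ(E|_D) ≥ p_ℓ(F|_D). (The published statement is phrased for the sheaves; this row is the
statement about their Hilbert polynomials that the displayed coefficient formula yields.) -/
theorem result (d ℓ : ℕ) (hℓ : ℓ + 1 ≤ d) (a : ℚ) (ha : a ≠ 0)
    (P Q : ℚ[X]) (hP : P.natDegree = d) (hQ : Q.natDegree = d) (hP0 : P ≠ 0) (hQ0 : Q ≠ 0) :
    toLex (fun j : Fin ℓ => ((P).coeff (d - 1 - (j : ℕ)) * (Nat.factorial (d - 1 - (j : ℕ)) : ℚ)) / ((P).coeff (d) * (Nat.factorial (d) : ℚ))) ≤ toLex (fun j : Fin ℓ => ((Q).coeff (d - 1 - (j : ℕ)) * (Nat.factorial (d - 1 - (j : ℕ)) : ℚ)) / ((Q).coeff (d) * (Nat.factorial (d) : ℚ))) ↔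
      toLex (fun j : Fin ℓ => ((P - P.comp (X - C a)).coeff ((d - 1) - 1 - (j : ℕ)) * (Nat.factorial ((d - 1) - 1 - (j : ℕ)) : ℚ)) / ((P - P.comp (X - C a)).coeff ((d - 1)) * (Nat.factorial ((d - 1)) : ℚ))) ≤
        toLex (fun j : Fin ℓ => ((Q - Q.comp (X - C a)).coeff ((d - 1) - 1 - (j : ℕ)) * (Nat.factorial ((d - 1) - 1 - (j : ℕ)) : ℚ)) / ((Q - Q.comp (X - C a)).coeff ((d - 1)) * (Nat.factorial ((d - 1)) : ℚ))) := by
  have hGG : ∀ s (V V' : ℕ → ℚ), (∀ i, i < s → V i = V' i) → GG a s V = GG a s V' := by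
    intro s V V' h
    unfold GG
    congr 1
    apply Finset.sum_congr rfl
    intro k hk
    have hk' := Finset.mem_range.mp hk
    rw [h (s - 1 - k) (by omega)]
  have e1 : (fun j : Fin ℓ => ((P - P.comp (X - C a)).coeff ((d - 1) - 1 - (j : ℕ)) * (Nat.factorial ((d - 1) - 1 - (j : ℕ)) : ℚ)) / ((P - P.comp (X - C a)).coeff ((d - 1)) * (Nat.factorial ((d - 1)) : ℚ)))
      = fun j : Fin ℓ => uu d P j + GG a j (uu d P) := by
    funext j
    exact entry d a ha P hP hP0 j (by have := j.2; omega)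
  have e2 : (fun j : Fin ℓ => ((Q - Q.comp (X - C a)).coeff ((d - 1) - 1 - (j : ℕ)) * (Nat.factorial ((d - 1) - 1 - (j : ℕ)) : ℚ)) / ((Q - Q.comp (X - C a)).coeff ((d - 1)) * (Nat.factorial ((d - 1)) : ℚ)))
      = fun j : Fin ℓ => uu d Q j + GG a j (uu d Q) := by
    funext j
    exact entry d a ha Q hQ hQ0 j (by have := j.2; omega)
  have h := tri_lex (ℓ := ℓ) (uu d P) (uu d Q) (GG a) hGG
  rw [← e1, ← e2] at h
  exact h

end Groth.Agent.S14997
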