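import Groth.Statements.S1500
import Groth.Agent.H22.CartierSec
import Groth.Agent.H22.CompAmple
import Groth.Agent.H22.VeryAmpleIso
import Groth.Agent.H18.AmpleBasis
import Groth.Agent.H18.TwistAmple
-- import your own Groth.Agent.* helpers here

set_option autoImplicit false
universe u
open FlatMor

namespace Groth.Agent.S1500
open AlgebraicGeometry CategoryTheory Limits TopologicalSpace
open Groth.Agent.H18.TensorGen (isInvertible_tensorMod isInvertible_tensorPow)

open AlgebraicGeometry CategoryTheory Limits in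
/-- Let D_1, …, D_m be effective Cartier divisors on X (ideal sheaves locally generated by a
nonzerodivisor) with empty common support, and L_1, …, L_m invertible O_X-modules with L_i ample on
the open complement of D_i. Then X has an ample family of invertible modules. -/
theorem result {X : Scheme.{u}} {m : ℕ} (D : Fin m → X.IdealSheafData)
    (hD : ∀ i, BlowUp.IsEffCartierIdeal (D i)) (hcap : ⋂ i, ((D i).support : Set ↑X) = ∅)
    (L : Fin m → X.Modules) (hL : ∀ i, PicF.IsInvertible (L i)) (hamp : ∀ i, CohB1.IsAmple ((L i).restrict (Scheme.Opens.ι (D i).support.compl))) :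
    MoreMor.HasAmpleFamily X := by
  classical
  have hI : ∀ i, PicF.IsInvertible (ClSub.idealMod (D i)) :=
    fun i => (Groth.Agent.S8914.result (D i)).mpr (hD i)
  choose A σ hA hσ using fun i =>
    Groth.Agent.H22.CartierSec.exists_section_of_invertible_ideal (D i) (hI i)
  have hamp' : ∀ i, CohB1.IsAmple ((L i).restrict (CohB1.genLocus (A i) (σ i)).ι) := by
    intro i
    rw [hσ i]
    exact hamp i
  have hcov : ∀ x : X, ∃ i, x ∈ CohB1.genLocus (A i) (σ i) := by
    intro x
    by_contra h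
    push Not at h
    have hx : x ∈ ⋂ i, ((D i).support : Set X) := Set.mem_iInter.mpr (fun i => by
      by_contra hx
      apply h i
      rw [hσ i]
      exact hx)
    rw [hcap] at hx
    exact hx
  have hUc : ∀ i, IsCompact ((CohB1.genLocus (A i) (σ i) : X.Opens) : Set X) := fun i =>
    isCompact_iff_compactSpace.mpr (hamp' i).2.1
  have : CompactSpace X := ⟨by
    have h1 : (Set.univ : Set X) = ⋃ i, ((CohB1.genLocus (A i) (σ i) : X.Opens) : Set X) := by
      ext x
      simp only [Set.mem_univ, Set.mem_iUnion, true_iff]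
      exact hcov x
    rw [h1]
    exact isCompact_iUnion hUc⟩
  have hUqs : ∀ i, IsQuasiSeparated ((CohB1.genLocus (A i) (σ i) : X.Opens) : Set X) := fun i =>
    (isQuasiSeparated_iff_quasiSeparatedSpace _ (CohB1.genLocus (A i) (σ i)).2).mpr
      (Groth.Agent.H18.AmpleBasis.quasiSeparatedSpace_of_isAmple (hamp' i))
  have : QuasiSeparatedSpace X := by
    rw [quasiSeparatedSpace_iff_forall_affineOpens]
    intro P Q
    have h1 : ((P.1 : Set X) ∩ (Q.1 : Set X)) =
        ⋃ i, (((CohB1.genLocus (A i) (σ i) ⊓ P.1 : X.Opens) : Set X) ∩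
          ((CohB1.genLocus (A i) (σ i) ⊓ Q.1 : X.Opens) : Set X)) := by
      ext x
      constructor
      · rintro ⟨hP, hQ⟩
        obtain ⟨i, hi⟩ := hcov x
        exact Set.mem_iUnion.mpr ⟨i, ⟨hi, hP⟩, ⟨hi, hQ⟩⟩
      · intro h
        obtain ⟨i, ⟨-, hP⟩, ⟨-, hQ⟩⟩ := Set.mem_iUnion.mp h
        exact ⟨hP, hQ⟩
    rw [h1]
    refine isCompact_iUnion (fun i => ?_)
    have hP := Groth.Agent.H18.GlobGenConv.isAffineOpen_genLocus_inf (hA i) (σ i) P.2
    have hQ := Groth.Agent.H18.GlobGenConv.isAffineOpen_genLocus_inf (hA i) (σ i) Q.2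
    exact hUqs i _ _ (fun y hy => hy.1) (CohB1.genLocus (A i) (σ i) ⊓ P.1).2 hP.isCompact
      (fun y hy => hy.1) (CohB1.genLocus (A i) (σ i) ⊓ Q.1).2 hQ.isCompact
  refine ⟨inferInstance, fun x => ?_⟩
  obtain ⟨i, hxi⟩ := hcov x
  obtain ⟨e1⟩ := Groth.Agent.H22.VeryAmpleIso.nonempty_tensorPow_unit_tensor (hA i) 0
  obtain ⟨σ', hσ'⟩ : ∃ σ' : Coh.structureModule X ⟶ CohB1.tensorPow (A i) (0 + 1),
      CohB1.genLocus _ σ' = CohB1.genLocus (A i) (σ i) :=
    ⟨σ i ≫ e1.inv, Groth.Agent.H18.TwistAmple.genLocus_comp_iso (σ i) e1.symm⟩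
  obtain ⟨e, Dop, hxD, hDaff, hs⟩ := Groth.Agent.H22.CompAmple.exists_affine_genLocus (hL i) (hA i)
    x 0 σ' (by rw [hσ']; exact hxi) (by rw [hσ']; exact hamp' i)
  obtain ⟨c, s, hcs⟩ := hs e le_rfl
  refine ⟨_, c + 1, s, isInvertible_tensorMod (hL i) (isInvertible_tensorPow (hA i) e),
    Nat.succ_pos c, ?_, ?_⟩
  · rw [hcs]
    exact hxD
  · rw [hcs]
    exact hDaff

end Groth.Agent.S1500
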