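import Groth.Statements.S15004
-- import your own Groth.Agent.* helpers here

set_option autoImplicit false
universe u v
open Harb

namespace Groth.Agent.S15004

/-- Let C be a finite family of d curves, recorded as an incidence relation between a type of points and
a finite index type, such that any two distinct curves of the family meet in exactly h points; for a
point p write r_p for the number of curves of the family through p. Then for every curve C_i of the
family, Σ_{p ∈ C_i} (r_p − 1) = h (d − 1), the sum being finitely supported. (The published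
statement is for a transversal arrangement of curves on a geometrically ruled surface with invariant
e, all numerically equivalent to a C₀ + b f, where any two of the curves meet transversally in h =
2ab − a²e points; only this common pairwise intersection count enters the proof, and this row states
the identity for an abstract incidence relation.) -/
theorem result (P : Type u) (ι : Type v) [Fintype ι]
    (inc : P → ι → Prop) (h : ℕ)
    (hfin : ∀ i j : ι, i ≠ j → {p : P | inc p i ∧ inc p j}.Finite)
    (hcount : ∀ i j : ι, i ≠ j → {p : P | inc p i ∧ inc p j}.ncard = h) (i : ι) :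
    ∑ᶠ p ∈ {p : P | inc p i}, (Nat.card {j : ι // inc p j} - 1) = h * (Fintype.card ι - 1) := by
  classical
  let G : ι → Finset P := fun j => if hj : i ≠ j then (hfin i j hj).toFinset else ∅
  have hG : ∀ j, j ≠ i → ∀ p, p ∈ G j ↔ inc p i ∧ inc p j := by
    intro j hj p
    have hj' : i ≠ j := fun h => hj h.symm
    simp [G, hj']
  let F : Finset P := (Finset.univ.erase i).biUnion G
  have hF : ∀ p, p ∈ F ↔ inc p i ∧ ∃ j, j ≠ i ∧ inc p j := by
    intro p
    simp only [F, Finset.mem_biUnion, Finset.mem_erase, Finset.mem_univ, and_true]
    constructor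
    · rintro ⟨j, hj, hp⟩
      have := (hG j hj p).mp hp
      exact ⟨this.1, j, hj, this.2⟩
    · rintro ⟨hi, j, hj, hp⟩
      exact ⟨j, hj, (hG j hj p).mpr ⟨hi, hp⟩⟩
  have hcard : ∀ p, inc p i → Nat.card {j : ι // inc p j} - 1 =
      ((Finset.univ.erase i).filter (fun j => inc p j)).card := by
    intro p hp
    rw [Nat.card_eq_fintype_card, Fintype.card_subtype]
    have : (Finset.univ.filter (fun j => inc p j)) =
        insert i ((Finset.univ.erase i).filter (fun j => inc p j)) := by
      ext j; by_cases hji : j = i <;> simp [hji, hp]
    rw [this, Finset.card_insert_of_notMem (by simp)]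
    simp
  rw [finsum_mem_eq_sum_of_subset (t := F)]
  rotate_left
  · intro p ⟨hp, hsupp⟩
    rw [Function.mem_support] at hsupp
    rw [Finset.mem_coe, hF]
    refine ⟨hp, ?_⟩
    rw [hcard p hp] at hsupp
    obtain ⟨j, hj⟩ := Finset.card_pos.mp (Nat.pos_of_ne_zero hsupp)
    simp only [Finset.mem_filter, Finset.mem_erase, Finset.mem_univ, and_true] at hj
    exact ⟨j, hj.1, hj.2⟩
  · intro p hp
    exact ((hF p).mp hp).1
  calc ∑ p ∈ F, (Nat.card {j : ι // inc p j} - 1)
      = ∑ p ∈ F, ((Finset.univ.erase i).filter (fun j => inc p j)).card :=
        Finset.sum_congr rfl (fun p hp => hcard p ((hF p).mp hp).1)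
    _ = ∑ p ∈ F, ∑ j ∈ Finset.univ.erase i, if inc p j then 1 else 0 := by
        refine Finset.sum_congr rfl (fun p _ => ?_)
        rw [Finset.card_filter]
    _ = ∑ j ∈ Finset.univ.erase i, ∑ p ∈ F, if inc p j then 1 else 0 := Finset.sum_comm
    _ = ∑ j ∈ Finset.univ.erase i, h := by
        refine Finset.sum_congr rfl (fun j hj => ?_)
        have hj' : j ≠ i := (Finset.mem_erase.mp hj).1
        rw [← Finset.card_filter]
        have : F.filter (fun p => inc p j) = (hfin i j hj'.symm).toFinset := by
          ext p
          simp only [Finset.mem_filter, hF, Set.Finite.mem_toFinset, Set.mem_ofPred_eq]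
          constructor
          · rintro ⟨⟨hi, _⟩, hp⟩; exact ⟨hi, hp⟩
          · rintro ⟨hi, hp⟩; exact ⟨⟨hi, j, hj', hp⟩, hp⟩
        rw [this, ← Set.ncard_eq_toFinset_card _ (hfin i j hj'.symm), hcount i j hj'.symm]
    _ = h * (Fintype.card ι - 1) := by
        rw [Finset.sum_const, Finset.card_erase_of_mem (Finset.mem_univ i), Finset.card_univ,
          smul_eq_mul, mul_comm]

end Groth.Agent.S15004
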