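import Groth.Statements.S15005
-- import your own Groth.Agent.* helpers here

set_option autoImplicit false
universe u v
open Harb

namespace Groth.Agent.S15005

/-- Let C be a finite family of d curves, recorded as an incidence relation between a type of points and
a finite index type, such that any two distinct curves of the family meet in exactly h points; let
t_k be the number of k-fold points (points lying on exactly k curves of the family). Then f₂ − f₁ =
Σ_{k ≥ 2} k(k − 1) t_k equals h d(d − 1), where f_i = Σ_{k ≥ 2} k^i t_k. (The published statement is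
for a transversal arrangement of curves on a geometrically ruled surface with invariant e, all
numerically equivalent to a C₀ + b f, where any two of the curves meet transversally in h = 2ab −
a²e points; only this common pairwise intersection count enters the proof, and this row states the
identity for an abstract incidence relation.) -/
theorem result (P : Type u) (ι : Type v) [Fintype ι]
    (inc : P → ι → Prop) (h : ℕ)
    (hfin : ∀ i j : ι, i ≠ j → {p : P | inc p i ∧ inc p j}.Finite)
    (hcount : ∀ i j : ι, i ≠ j → {p : P | inc p i ∧ inc p j}.ncard = h) :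
    ∑ k ∈ Finset.Icc 2 (Fintype.card ι), k * (k - 1) * Nat.card {p : P // Nat.card {j : ι // inc p j} = k} =
      h * (Fintype.card ι * (Fintype.card ι - 1)) := by
  classical
  set d := Fintype.card ι with hd
  let r : P → ℕ := fun p => Nat.card {j : ι // inc p j}
  have hr : ∀ p, r p = (Finset.univ.filter (fun j => inc p j)).card := by
    intro p
    show Nat.card {j : ι // inc p j} = _
    rw [Nat.card_eq_fintype_card, Fintype.card_subtype]
  let G : ι × ι → Finset P := fun ij =>
    if hij : ij.1 ≠ ij.2 then (hfin ij.1 ij.2 hij).toFinset else ∅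
  have hG : ∀ i j, i ≠ j → ∀ p, p ∈ G (i, j) ↔ inc p i ∧ inc p j := by
    intro i j hij p
    simp [G, hij]
  let F : Finset P := (Finset.univ.offDiag : Finset (ι × ι)).biUnion G
  have hF : ∀ p, p ∈ F ↔ ∃ i j, i ≠ j ∧ inc p i ∧ inc p j := by
    intro p
    simp only [F, Finset.mem_biUnion, Finset.mem_offDiag, Finset.mem_univ, true_and]
    constructor
    · rintro ⟨⟨i, j⟩, hij, hp⟩
      exact ⟨i, j, hij, (hG i j hij p).mp hp⟩
    · rintro ⟨i, j, hij, hp⟩
      exact ⟨(i, j), hij, (hG i j hij p).mpr hp⟩
  have hF2 : ∀ p, p ∈ F ↔ 2 ≤ r p := by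
    intro p
    rw [hF, hr]
    constructor
    · rintro ⟨i, j, hij, hi, hj⟩
      have : 1 < (Finset.univ.filter (fun j => inc p j)).card :=
        Finset.one_lt_card.mpr ⟨i, by simp [hi], j, by simp [hj], hij⟩
      omega
    · intro h2
      obtain ⟨i, hi, j, hj, hij⟩ := Finset.one_lt_card.mp (by omega :
        1 < (Finset.univ.filter (fun j => inc p j)).card)
      simp only [Finset.mem_filter, Finset.mem_univ, true_and] at hi hj
      exact ⟨i, j, hij, hi, hj⟩
  have hrle : ∀ p, r p ≤ d := by
    intro p
    rw [hr, hd, ← Finset.card_univ]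
    exact Finset.card_le_card (Finset.filter_subset _ _)
  have h1 : ∀ k ∈ Finset.Icc 2 d, Nat.card {p : P // Nat.card {j : ι // inc p j} = k} =
      (F.filter (fun p => r p = k)).card := by
    intro k hk
    have hk2 : 2 ≤ k := (Finset.mem_Icc.mp hk).1
    have : {p : P | Nat.card {j : ι // inc p j} = k} = ↑(F.filter (fun p => r p = k)) := by
      ext p
      simp only [Set.mem_ofPred_eq, Finset.coe_filter]
      constructor
      · intro hp
        exact ⟨(hF2 p).mpr (by show 2 ≤ Nat.card {j : ι // inc p j}; omega), hp⟩
      · rintro ⟨_, hp⟩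
        exact hp
    have e : Nat.card {p : P // Nat.card {j : ι // inc p j} = k} =
        Set.ncard {p : P | Nat.card {j : ι // inc p j} = k} := Nat.card_coe_set_eq _
    rw [e, this, Set.ncard_coe_finset]
  rw [Finset.sum_congr rfl (fun k hk => by rw [h1 k hk])]
  have h2 : ∀ k ∈ Finset.Icc 2 d, k * (k - 1) * (F.filter (fun p => r p = k)).card =
      ∑ p ∈ F.filter (fun p => r p = k), r p * (r p - 1) := by
    intro k _
    rw [Finset.sum_congr rfl (fun p hp => by rw [(Finset.mem_filter.mp hp).2]),
      Finset.sum_const, smul_eq_mul, mul_comm]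
  rw [Finset.sum_congr rfl h2]
  rw [Finset.sum_fiberwise_of_maps_to (fun p hp => Finset.mem_Icc.mpr ⟨(hF2 p).mp hp, hrle p⟩)]
  have h3 : ∀ p ∈ F, r p * (r p - 1) =
      ∑ ij ∈ (Finset.univ.offDiag : Finset (ι × ι)), if inc p ij.1 ∧ inc p ij.2 then 1 else 0 := by
    intro p _
    rw [← Finset.card_filter, hr]
    have : (Finset.univ.offDiag : Finset (ι × ι)).filter (fun ij => inc p ij.1 ∧ inc p ij.2) =
        (Finset.univ.filter (fun j => inc p j)).offDiag := by
      ext ⟨i, j⟩
      simp only [Finset.mem_filter, Finset.mem_offDiag, Finset.mem_univ, true_and]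
      tauto
    rw [this, Finset.offDiag_card, Nat.mul_sub_one]
  rw [Finset.sum_congr rfl h3, Finset.sum_comm]
  have h4 : ∀ ij ∈ (Finset.univ.offDiag : Finset (ι × ι)),
      (∑ p ∈ F, if inc p ij.1 ∧ inc p ij.2 then 1 else 0) = h := by
    rintro ⟨i, j⟩ hij
    have hij' : i ≠ j := by simpa using hij
    rw [← Finset.card_filter]
    have : F.filter (fun p => inc p i ∧ inc p j) = (hfin i j hij').toFinset := by
      ext p
      simp only [Finset.mem_filter, hF, Set.Finite.mem_toFinset, Set.mem_ofPred_eq]
      constructor
      · rintro ⟨_, hp⟩; exact hp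
      · intro hp; exact ⟨⟨i, j, hij', hp⟩, hp⟩
    rw [this, ← Set.ncard_eq_toFinset_card _ (hfin i j hij'), hcount i j hij']
  rw [Finset.sum_congr rfl h4, Finset.sum_const, Finset.offDiag_card, Finset.card_univ, smul_eq_mul,
    ← hd, Nat.mul_sub_one, mul_comm]

end Groth.Agent.S15005
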