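import Groth.Statements.S15006
import Mathlib

set_option autoImplicit false
universe u v
open Harb

namespace Groth.Agent.S15006

theorem fisher {Q : Type*} [Fintype Q] {ι : Type*} [Fintype ι] [DecidableEq ι] (N : ι → Q → ℚ)
    (h : ℚ) (hh : 0 ≤ h)
    (hm : ∀ i j, i ≠ j → ∑ q, N i q * N j q = h)
    (hr : ∀ j, h < ∑ q, N j q * N j q) :
    Fintype.card ι ≤ Fintype.card Q := by
  have hli : LinearIndependent ℚ N := by
    rw [Fintype.linearIndependent_iff]
    intro c hc j₀
    have hs : ∀ q, ∑ i, c i * N i q = 0 := by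
      intro q
      have h0 := congrFun hc q
      simpa [Finset.sum_apply, Pi.smul_apply, smul_eq_mul] using h0
    have h1 : ∀ j, ∑ i, c i * (∑ q, N i q * N j q) = 0 := by
      intro j
      calc ∑ i, c i * (∑ q, N i q * N j q) = ∑ i, ∑ q, c i * N i q * N j q := by
            refine Finset.sum_congr rfl fun i _ => ?_
            rw [Finset.mul_sum]
            refine Finset.sum_congr rfl fun q _ => ?_
            ring
        _ = ∑ q, ∑ i, c i * N i q * N j q := Finset.sum_comm
        _ = ∑ q, (∑ i, c i * N i q) * N j q := by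
            refine Finset.sum_congr rfl fun q _ => ?_
            rw [Finset.sum_mul]
        _ = 0 := by
            refine Finset.sum_eq_zero fun q _ => ?_
            rw [hs q, zero_mul]
    have h2 : ∀ j, ∑ i, c i * (∑ q, N i q * N j q) =
        h * (∑ i, c i) + c j * ((∑ q, N j q * N j q) - h) := by
      intro j
      have e : ∀ i, c i * (∑ q, N i q * N j q) =
          h * c i + (if i = j then c j * ((∑ q, N j q * N j q) - h) else 0) := by
        intro i
        by_cases hij : i = j
        · subst hij; rw [if_pos rfl]; ring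
        · rw [if_neg hij, hm i j hij]; ring
      rw [Finset.sum_congr rfl fun i _ => e i, Finset.sum_add_distrib, ← Finset.mul_sum,
        Finset.sum_ite_eq' Finset.univ j, if_pos (Finset.mem_univ j)]
    have h3 : 0 = h * (∑ i, c i) ^ 2 + ∑ j, c j ^ 2 * ((∑ q, N j q * N j q) - h) := by
      have e0 : ∑ j, c j * (h * (∑ i, c i) + c j * ((∑ q, N j q * N j q) - h)) = 0 := by
        refine Finset.sum_eq_zero fun j _ => ?_
        rw [← h2 j, h1 j, mul_zero]
      calc (0:ℚ) = ∑ j, c j * (h * (∑ i, c i) + c j * ((∑ q, N j q * N j q) - h)) := e0.symm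
        _ = ∑ j, (h * (∑ i, c i) * c j + c j ^ 2 * ((∑ q, N j q * N j q) - h)) :=
            Finset.sum_congr rfl (fun j _ => by ring)
        _ = h * (∑ i, c i) * (∑ j, c j) + ∑ j, c j ^ 2 * ((∑ q, N j q * N j q) - h) := by
            rw [Finset.sum_add_distrib, ← Finset.mul_sum]
        _ = h * (∑ i, c i) ^ 2 + ∑ j, c j ^ 2 * ((∑ q, N j q * N j q) - h) := by ring
    have hpos : ∀ j, 0 < (∑ q, N j q * N j q) - h := fun j => sub_pos.mpr (hr j)
    have hnn : ∀ j ∈ Finset.univ, 0 ≤ c j ^ 2 * ((∑ q, N j q * N j q) - h) :=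
      fun j _ => mul_nonneg (sq_nonneg _) (hpos j).le
    have hsum0 : ∑ j, c j ^ 2 * ((∑ q, N j q * N j q) - h) = 0 := by
      have h5 : 0 ≤ h * (∑ i, c i) ^ 2 := mul_nonneg hh (sq_nonneg _)
      have h6 := Finset.sum_nonneg hnn
      linarith
    have h7 := (Finset.sum_eq_zero_iff_of_nonneg hnn).mp hsum0 j₀ (Finset.mem_univ _)
    rcases mul_eq_zero.mp h7 with h8 | h8
    · exact pow_eq_zero_iff (two_ne_zero) |>.mp h8
    · exact absurd h8 (hpos j₀).ne'
  have h9 := hli.fintype_card_le_finrank
  rwa [Module.finrank_fintype_fun_eq_card] at h9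

open Classical in
/-- incidence vector -/
noncomputable def Nvec {P : Type u} {ι : Type v} (inc : P → ι → Prop) (i : ι)
    (q : {p : P // 2 ≤ Nat.card {j : ι // inc p j}}) : ℚ := if inc q.1 i then 1 else 0

theorem sum_ind_eq_card {Q : Type*} [Fintype Q] (A : Q → Prop) [DecidablePred A] :
    (∑ q, if A q then (1:ℚ) else 0) = (Nat.card {q // A q} : ℚ) := by
  rw [Finset.sum_boole, Nat.card_eq_fintype_card, Fintype.card_subtype]

/-- Let C be a finite family of d ≥ 2 curves, recorded as an incidence relation between a type of points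
and a finite index type, such that any two distinct curves of the family meet in exactly h ≥ 1
points and no point lies on every curve of the family. Then f₀ ≥ d: the number of multiple points
(points lying on at least two of the curves) is at least the number of curves. (The published
statement is for a transversal arrangement of d ≥ 4 curves on a geometrically ruled surface with
invariant e ≥ 4, all numerically equivalent to a C₀ + b f with a ≥ 1 and b ≥ ae and with no point
common to all of them, satisfying in addition either a ≥ 2, or a = 1 with some four of the curves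
having no point in common, where any two of the curves meet transversally in h = 2ab − a²e ≥ 1
points; only d ≥ 2, h ≥ 1 and the absence of a common point enter the proof, and this row states the
bound for an abstract incidence relation.) -/
theorem result (P : Type u) (ι : Type v) [Fintype ι]
    (inc : P → ι → Prop) (h : ℕ) (hh : 0 < h) (hd : 2 ≤ Fintype.card ι)
    (hfin : ∀ i j : ι, i ≠ j → {p : P | inc p i ∧ inc p j}.Finite)
    (hcount : ∀ i j : ι, i ≠ j → {p : P | inc p i ∧ inc p j}.ncard = h)
    (hnone : ∀ p : P, ∃ i : ι, ¬ inc p i) :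
    Fintype.card ι ≤ Nat.card {p : P // 2 ≤ Nat.card {j : ι // inc p j}} := by
  classical
  have hM : ∀ (p : P) (i j : ι), i ≠ j → inc p i → inc p j →
      2 ≤ Nat.card {k : ι // inc p k} := by
    intro p i j hij hi hj
    haveI : Nontrivial {k : ι // inc p k} :=
      ⟨⟨⟨i, hi⟩, ⟨j, hj⟩, fun e => hij (congrArg Subtype.val e)⟩⟩
    have h1 : 1 < Nat.card {k : ι // inc p k} := Finite.one_lt_card_iff_nontrivial.mpr this
    omega
  have hM' : ∀ p : P, 2 ≤ Nat.card {k : ι // inc p k} →
      ∃ i j : ι, i ≠ j ∧ inc p i ∧ inc p j := by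
    intro p hp
    haveI : Nontrivial {k : ι // inc p k} :=
      Finite.one_lt_card_iff_nontrivial.mp (by omega)
    obtain ⟨a, b, hab⟩ := exists_pair_ne {k : ι // inc p k}
    exact ⟨a.1, b.1, fun e => hab (Subtype.ext e), a.2, b.2⟩
  have hMfin : {p : P | 2 ≤ Nat.card {k : ι // inc p k}}.Finite := by
    refine Set.Finite.subset (Set.finite_iUnion (ι := {x : ι × ι // x.1 ≠ x.2})
      (f := fun x => {p : P | inc p x.1.1 ∧ inc p x.1.2}) fun x => hfin _ _ x.2) ?_
    intro p hp
    obtain ⟨i, j, hij, hi, hj⟩ := hM' p hp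
    exact Set.mem_iUnion.mpr ⟨⟨(i, j), hij⟩, hi, hj⟩
  haveI : Finite {p : P // 2 ≤ Nat.card {j : ι // inc p j}} := hMfin.to_subtype
  haveI : Fintype {p : P // 2 ≤ Nat.card {j : ι // inc p j}} := Fintype.ofFinite _
  rw [Nat.card_eq_fintype_card]
  have hm : ∀ i j, i ≠ j → ∑ q, Nvec inc i q * Nvec inc j q = (h : ℚ) := by
    intro i j hij
    have e1 : ∀ q : {p : P // 2 ≤ Nat.card {j : ι // inc p j}},
        Nvec inc i q * Nvec inc j q = if (inc q.1 i ∧ inc q.1 j) then (1:ℚ) else 0 := by
      intro q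
      by_cases h1 : inc q.1 i <;> by_cases h2 : inc q.1 j <;> simp [Nvec, h1, h2]
    rw [Finset.sum_congr rfl fun q _ => e1 q, sum_ind_eq_card, ← hcount i j hij,
      ← Nat.card_coe_set_eq]
    congr 1
    refine Nat.card_congr
      { toFun := fun q => ⟨q.1.1, q.2⟩
        invFun := fun p => ⟨⟨p.1, hM p.1 i j hij p.2.1 p.2.2⟩, p.2⟩
        left_inv := fun q => rfl
        right_inv := fun p => rfl }
  have hr : ∀ j, (h : ℚ) < ∑ q, Nvec inc j q * Nvec inc j q := by
    intro j
    obtain ⟨i₀, hi₀⟩ := Fintype.exists_ne_of_one_lt_card (by omega : 1 < Fintype.card ι) j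
    have hne : {p : P | inc p i₀ ∧ inc p j}.Nonempty := by
      apply Set.nonempty_of_ncard_ne_zero
      rw [hcount i₀ j hi₀]
      omega
    obtain ⟨p, hpi, hpj⟩ := hne
    obtain ⟨i₁, hi₁⟩ := hnone p
    have hne1 : i₁ ≠ j := fun e => hi₁ (e ▸ hpj)
    have e2 : ∑ q, Nvec inc j q * Nvec inc j q =
        ∑ q, Nvec inc i₁ q * Nvec inc j q +
          ∑ q, Nvec inc j q * (Nvec inc j q - Nvec inc i₁ q) := by
      rw [← Finset.sum_add_distrib]
      exact Finset.sum_congr rfl fun q _ => by ring
    have e3 : (1:ℚ) ≤ ∑ q, Nvec inc j q * (Nvec inc j q - Nvec inc i₁ q) := by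
      have hnn : ∀ q ∈ (Finset.univ : Finset {p : P // 2 ≤ Nat.card {j : ι // inc p j}}),
          0 ≤ Nvec inc j q * (Nvec inc j q - Nvec inc i₁ q) := by
        intro q _
        by_cases h1 : inc q.1 j <;> by_cases h2 : inc q.1 i₁ <;> simp [Nvec, h1, h2]
      have hle := Finset.single_le_sum
        (f := fun q => Nvec inc j q * (Nvec inc j q - Nvec inc i₁ q)) hnn
        (Finset.mem_univ (⟨p, hM p i₀ j hi₀ hpi hpj⟩ :
          {p : P // 2 ≤ Nat.card {j : ι // inc p j}}))
      have hq0 : Nvec inc j (⟨p, hM p i₀ j hi₀ hpi hpj⟩ :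
          {p : P // 2 ≤ Nat.card {j : ι // inc p j}}) *
          (Nvec inc j ⟨p, hM p i₀ j hi₀ hpi hpj⟩ - Nvec inc i₁ ⟨p, hM p i₀ j hi₀ hpi hpj⟩) = 1 := by
        simp [Nvec, hpj, hi₁]
      calc (1:ℚ) = _ := hq0.symm
        _ ≤ _ := hle
    rw [e2, hm i₁ j hne1]
    linarith
  exact fisher (Nvec inc) (h : ℚ) (Nat.cast_nonneg h) hm hr

end Groth.Agent.S15006
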