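import Groth.Statements.S15007
-- import your own Groth.Agent.* helpers here

set_option autoImplicit false
universe u v
open Harb

namespace Groth.Agent.S15007

/-- Let C be a finite family of d ≥ 2 curves, recorded as an incidence relation between a type of points
and a finite index type, such that any two distinct curves of the family meet in exactly h ≥ 1
points and no point lies on every curve of the family. Then f₀ ≥ h + 2: the number of multiple
points (points lying on at least two of the curves) is at least h + 2. (The published claim reads f₀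
≥ 2ab − a²e + 2 for a transversal arrangement of d ≥ 4 curves on a geometrically ruled surface with
invariant e ≥ 4, all numerically equivalent to a C₀ + b f with a ≥ 1 and b ≥ ae and with no point
common to all of them, satisfying in addition either a ≥ 2, or a = 1 with some four of the curves
having no point in common, where any two of the curves meet transversally in h = 2ab − a²e ≥ 1
points; only d ≥ 2, h ≥ 1 and the absence of a common point enter the proof, and this row states the
bound for an abstract incidence relation.) -/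
theorem result (P : Type u) (ι : Type v) [Fintype ι]
    (inc : P → ι → Prop) (h : ℕ) (hh : 0 < h) (hd : 2 ≤ Fintype.card ι)
    (hfin : ∀ i j : ι, i ≠ j → {p : P | inc p i ∧ inc p j}.Finite)
    (hcount : ∀ i j : ι, i ≠ j → {p : P | inc p i ∧ inc p j}.ncard = h)
    (hnone : ∀ p : P, ∃ i : ι, ¬ inc p i) :
    h + 2 ≤ Nat.card {p : P // 2 ≤ Nat.card {j : ι // inc p j}} := by
  classical
  set MP : Set P := {p : P | 2 ≤ Nat.card {j : ι // inc p j}} with hMP
  have hD_sub : ∀ i j, i ≠ j → {p : P | inc p i ∧ inc p j} ⊆ MP := by
    intro i j hij p ⟨hi, hj⟩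
    show 2 ≤ Nat.card {j : ι // inc p j}
    rw [Nat.card_eq_fintype_card]
    have : 1 < Fintype.card {j : ι // inc p j} :=
      Fintype.one_lt_card_iff.mpr ⟨⟨i, hi⟩, ⟨j, hj⟩, by simpa using hij⟩
    omega
  have hMP_sub : MP ⊆ ⋃ i, ⋃ j, {p : P | i ≠ j ∧ inc p i ∧ inc p j} := by
    intro p hp
    have hp' : 2 ≤ Nat.card {j : ι // inc p j} := hp
    rw [Nat.card_eq_fintype_card] at hp'
    obtain ⟨⟨a, ha⟩, ⟨b, hb⟩, hab⟩ :=
      Fintype.one_lt_card_iff.mp (by omega : 1 < Fintype.card {j : ι // inc p j})
    simp only [Set.mem_iUnion]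
    exact ⟨a, b, by simpa using hab, ha, hb⟩
  have hMPfin : MP.Finite := by
    refine Set.Finite.subset ?_ hMP_sub
    refine Set.finite_iUnion (fun i => Set.finite_iUnion (fun j => ?_))
    by_cases hij : i = j
    · convert Set.finite_empty
      ext p
      simp [hij]
    · exact (hfin i j hij).subset (fun p hp => ⟨hp.2.1, hp.2.2⟩)
  have hgoal : Nat.card {p : P // 2 ≤ Nat.card {j : ι // inc p j}} = MP.ncard :=
    Nat.card_coe_set_eq MP
  rw [hgoal]
  by_contra hlt
  have hle : MP.ncard ≤ h + 1 := by omega
  have key : ∀ i, MP ⊆ {p | inc p i} := by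
    intro i
    obtain ⟨j, hj⟩ : ∃ j, j ≠ i := by
      by_contra hne
      have hne' : ∀ j, j = i := by
        intro j
        by_contra hji
        exact hne ⟨j, hji⟩
      have : Fintype.card ι ≤ 1 :=
        Fintype.card_le_one_iff.mpr (fun a b => (hne' a).trans (hne' b).symm)
      omega
    have hDij : {p : P | inc p i ∧ inc p j}.Nonempty := by
      rw [← Set.ncard_pos (hfin i j hj.symm), hcount i j hj.symm]; exact hh
    obtain ⟨p0, hp0i, hp0j⟩ := hDij
    obtain ⟨k, hk⟩ := hnone p0
    have hki : i ≠ k := by rintro rfl; exact hk hp0i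
    set S : Set P := MP ∩ {p | inc p i} with hS
    have hS1 : insert p0 {p : P | inc p i ∧ inc p k} ⊆ S := by
      intro p hp
      rcases hp with rfl | hp
      · exact ⟨hD_sub i j hj.symm ⟨hp0i, hp0j⟩, hp0i⟩
      · exact ⟨hD_sub i k hki hp, hp.1⟩
    have hcard1 : (insert p0 {p : P | inc p i ∧ inc p k}).ncard = h + 1 := by
      rw [Set.ncard_insert_of_notMem (fun hp => hk hp.2) (hfin i k hki), hcount i k hki]
    have hSfin : S.Finite := hMPfin.subset Set.inter_subset_left
    have hS2 : h + 1 ≤ S.ncard := hcard1 ▸ Set.ncard_le_ncard hS1 hSfin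
    have hSeq : S = MP :=
      Set.eq_of_subset_of_ncard_le Set.inter_subset_left (by omega) hMPfin
    intro p hp
    have : p ∈ S := hSeq ▸ hp
    exact this.2
  obtain ⟨i, j, hij⟩ : ∃ i j : ι, i ≠ j :=
    Fintype.one_lt_card_iff.mp (by omega : 1 < Fintype.card ι)
  have hDij : {p : P | inc p i ∧ inc p j}.Nonempty := by
    rw [← Set.ncard_pos (hfin i j hij), hcount i j hij]; exact hh
  obtain ⟨p0, hp0⟩ := hDij
  obtain ⟨k, hk⟩ := hnone p0
  exact hk (key k (hD_sub i j hij hp0))

end Groth.Agent.S15007
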