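import Groth.Statements.S15008
import Groth.Agent.H72.CanonDual2

set_option autoImplicit false
universe u
open CategoryTheory
open TFCurv

namespace Groth.Agent.S15008

/-- Let O be a one-dimensional Noetherian local domain with algebraically closed residue field whose
integral closure O~ in its fraction field K is a finite O-module, and suppose O is not Gorenstein.
If w is an O-submodule of K with O ⊆ w ⊆ O~ whose injective dimension as an O-module is at most one
(a canonical ideal placed between O and O~), then length(w/O) + length(O~/C) = 2 · length(O~/O),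
where C is the conductor of O in O~. -/
theorem result (O : Type u) [CommRing O] [IsDomain O] [IsNoetherianRing O] [IsLocalRing O] (hdim : ringKrullDim O = 1) [IsAlgClosed (IsLocalRing.ResidueField O)] (K : Type u) [Field K] [Algebra O K] [IsFractionRing O K] (hfin : Module.Finite O ↥(integralClosure O K)) (hG : ¬ LocCoh.IsGorensteinLocalRing O) (ω : Submodule O K) (hω1 : (1 : Submodule O K) ≤ ω) (hω2 : ω ≤ (Subalgebra.toSubmodule (integralClosure O K))) (hωinj : HasInjectiveDimensionLT (ModuleCat.of O ↥ω) 2) : Module.length O (↥ω ⧸ Submodule.comap ω.subtype (1 : Submodule O K)) + Module.length O (↥(integralClosure O K) ⧸ ((1 : Submodule O K).colon (Subalgebra.toSubmodule (integralClosure O K))) • (⊤ : Submodule O ↥(integralClosure O K))) = 2 * Module.length O (↥(integralClosure O K) ⧸ Submodule.comap (Subalgebra.toSubmodule (integralClosure O K)).subtype (1 : Submodule O K)) := by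
  classical
  open Groth.Agent.H72.CanonDual in
  have hinj : Function.Injective (algebraMap O K) := IsFractionRing.injective O K
  have hfrac : ∀ l : K, ∃ b : O, b ≠ 0 ∧ ∃ a : O, b • l = algebraMap O K a := by
    intro l
    obtain ⟨a, b, hb, hab⟩ := IsFractionRing.div_surjective (A := O) l
    have hb0 : b ≠ 0 := nonZeroDivisors.ne_zero hb
    have hbK : algebraMap O K b ≠ 0 := fun h => hb0 (hinj (h.trans (map_zero _).symm))
    refine ⟨b, hb0, a, ?_⟩
    rw [Algebra.smul_def, ← hab]
    field_simp
  have hnf : ∃ x : O, x ∈ IsLocalRing.maximalIdeal O ∧ x ≠ 0 := by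
    have hm : IsLocalRing.maximalIdeal O ≠ ⊥ := by
      intro h
      have hF : IsField O := IsLocalRing.isField_iff_maximalIdeal_eq.mpr h
      have h0 := ringKrullDim_eq_zero_of_isField hF
      rw [hdim] at h0
      exact one_ne_zero h0
    obtain ⟨x, hxm, hx0⟩ := Submodule.exists_mem_ne_zero_of_ne_bot hm
    exact ⟨x, hxm, hx0⟩
  haveI : Ring.KrullDimLE 1 O := Ring.krullDimLE_iff.2 (by rw [hdim]; exact_mod_cast le_rfl)
  haveI := hfin
  let N₂ : Submodule O K := Subalgebra.toSubmodule (integralClosure O K)
  haveI hfinN : Module.Finite O ↥N₂ :=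
    inferInstanceAs (Module.Finite O ↥(integralClosure O K))
  haveI : IsNoetherian O ↥N₂ := isNoetherian_of_isNoetherianRing_of_finite O ↥N₂
  have hfgle : ∀ Q : Submodule O K, Q ≤ N₂ → Q.FG := by
    intro Q hQ
    have h1 : (Submodule.comap N₂.subtype Q).FG := IsNoetherian.noetherian _
    have h2 := h1.map N₂.subtype
    rw [Submodule.map_comap_subtype, inf_eq_right.2 hQ] at h2
    exact h2
  have hω1' : (1 : K) ∈ ω := Submodule.one_le.1 hω1
  have hωfg : ω.FG := hfgle ω hω2
  have h1N : (1 : Submodule O K) ≤ N₂ := le_trans hω1 hω2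
  obtain ⟨s, hs⟩ := (Module.Finite.iff_fg (N := N₂)).1 hfinN
  obtain ⟨b, hb⟩ := IsLocalization.exist_integer_multiples_of_finset (nonZeroDivisors O) s
  have hbN : ∀ z ∈ N₂, (b : O) • z ∈ (1 : Submodule O K) := by
    intro z hz
    rw [← hs] at hz
    induction hz using Submodule.span_induction with
    | mem z hz =>
      obtain ⟨a, ha⟩ := hb z hz
      exact Submodule.mem_one.2 ⟨a, ha⟩
    | zero => rw [smul_zero]; exact Submodule.zero_mem _
    | add z w _ _ hz hw => rw [smul_add]; exact Submodule.add_mem _ hz hw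
    | smul c z _ hz => rw [smul_comm]; exact Submodule.smul_mem _ c hz
  have hb0 : (b : O) ≠ 0 := nonZeroDivisors.ne_zero b.2
  have hbK : algebraMap O K (b : O) ≠ 0 := fun h => hb0 (hinj (h.trans (map_zero _).symm))
  let C : Submodule O K := ω / N₂
  have hbC : algebraMap O K (b : O) ∈ C := by
    rw [Submodule.mem_div_iff_forall_mul_mem]
    intro y hy
    rw [← Algebra.smul_def]
    exact hω1 (hbN y hy)
  have hD1 : ω / ω = 1 := div_self_eq_one hinj hfrac hnf ω hω1' hωfg hωinj
  have hC1 : C ≤ 1 := by
    have h := div_anti ω hω2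
    rw [hD1] at h
    exact h
  have hr1 : ∀ Q : Submodule O K, 1 ≤ Q → Q ≤ N₂ → ω / (ω / Q) = Q := fun Q hQ1 hQ2 =>
    refl_div hinj hfrac hnf ω hω1' hωfg hωinj Q (hfgle Q hQ2) 1 (Submodule.one_le.1 hQ1)
      isUnit_one
  have hr2 : ∀ Q : Submodule O K, C ≤ Q → Q ≤ ω → ω / (ω / Q) = Q := fun Q hQ1 hQ2 =>
    refl_div hinj hfrac hnf ω hω1' hωfg hωinj Q (hfgle Q (le_trans hQ2 hω2)) _ (hQ1 hbC)
      (IsUnit.mk0 _ hbK)
  have hdual : len (1 : Submodule O K) N₂ = len C ω :=
    length_dual ω 1 N₂ ω C h1N (div_one_eq ω) rfl hr1 hr2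
  have hadd1 : len C ω = len C 1 + len (1 : Submodule O K) ω := len_add C 1 ω hC1 hω1
  have hadd2 : len C N₂ = len C 1 + len (1 : Submodule O K) N₂ := len_add C 1 N₂ hC1 h1N
  have hmid : (((1 : Submodule O K).colon (N₂ : Set K)) • (⊤ : Submodule O ↥N₂)) =
      Submodule.comap N₂.subtype C := by
    apply le_antisymm
    · rw [Submodule.smul_le]
      intro r hr n _
      rw [Submodule.mem_comap]
      change r • (n : K) ∈ ω / N₂
      rw [Submodule.mem_div_iff_forall_mul_mem]
      intro y hy
      rw [smul_mul_assoc]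
      have hny : (n : K) * y ∈ N₂ := (integralClosure O K).mul_mem n.2 hy
      exact hω1 (Submodule.mem_colon.1 hr _ hny)
    · intro y hy
      have hyC : (y : K) ∈ C := hy
      obtain ⟨a, ha⟩ := Submodule.mem_one.1 (hC1 hyC)
      have ha𝔠 : a ∈ (1 : Submodule O K).colon (N₂ : Set K) := by
        rw [Submodule.mem_colon]
        intro s hs'
        apply hC1
        rw [Algebra.smul_def, ha, Submodule.mem_div_iff_forall_mul_mem]
        intro t ht
        rw [mul_assoc]
        exact Submodule.mem_div_iff_forall_mul_mem.1 hyC _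
          ((integralClosure O K).mul_mem hs' ht)
      have hy1 : y = a • (⟨1, (integralClosure O K).one_mem⟩ : ↥N₂) := by
        apply Subtype.ext
        change (y : K) = a • (1 : K)
        rw [Algebra.smul_def, mul_one, ha]
      rw [hy1]
      exact Submodule.smul_mem_smul ha𝔠 Submodule.mem_top
  change len (1 : Submodule O K) ω + Module.length O (↥N₂ ⧸
    (((1 : Submodule O K).colon (N₂ : Set K)) • (⊤ : Submodule O ↥N₂))) =
    2 * len (1 : Submodule O K) N₂
  rw [hmid]
  change len (1 : Submodule O K) ω + len C N₂ = 2 * len (1 : Submodule O K) N₂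
  rw [hadd2, two_mul]
  calc len (1 : Submodule O K) ω + (len C 1 + len (1 : Submodule O K) N₂)
      = (len C 1 + len (1 : Submodule O K) ω) + len (1 : Submodule O K) N₂ := by ring
    _ = len C ω + len (1 : Submodule O K) N₂ := by rw [hadd1]
    _ = len (1 : Submodule O K) N₂ + len (1 : Submodule O K) N₂ := by rw [hdual]

end Groth.Agent.S15008
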