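import Groth.Statements.S15010
import Mathlib

set_option autoImplicit false
universe u
open TFCurv

namespace Groth.Agent.S15010

theorem lin_eq_mulVec {O : Type u} [CommRing O] [IsDomain O] {K : Type u} [Field K] [Algebra O K]
    [IsFractionRing O K] {n : ℕ} (M : Submodule O (Fin n → K))
    (e : Fin n → ↥M) (he : ∀ j i, (e j : Fin n → K) i = if i = j then 1 else 0)
    (ψ : ↥M →ₗ[O] (Fin n → K)) (x : ↥M) :
    ψ x = (Matrix.of fun i j => ψ (e j) i).mulVec (x : Fin n → K) := by
  classical
  obtain ⟨d, hd⟩ := IsLocalization.exist_integer_multiples_of_finite (nonZeroDivisors O)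
    (fun j => (x : Fin n → K) j)
  have hd' : ∀ j, ∃ c : O, algebraMap O K c = (d : O) • (x : Fin n → K) j :=
    fun j => RingHom.mem_rangeS.mp (hd j)
  choose c hc using hd'
  have hd0 : algebraMap O K (d : O) ≠ 0 :=
    (map_ne_zero_iff (algebraMap O K) (IsFractionRing.injective O K)).mpr
      (nonZeroDivisors.ne_zero d.2)
  have hsum : (d : O) • x = ∑ j, c j • e j := by
    apply Subtype.ext
    funext i
    rw [Submodule.coe_smul, Pi.smul_apply, Submodule.coe_sum, Finset.sum_apply]
    simp only [Submodule.coe_smul, Pi.smul_apply, he]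
    rw [Finset.sum_eq_single i]
    · rw [if_pos rfl, ← hc i, Algebra.smul_def (c i), mul_one]
    · intro j _ hji; rw [if_neg (Ne.symm hji), smul_zero]
    · intro h; exact absurd (Finset.mem_univ i) h
  funext i
  have h1 : ψ ((d : O) • x) i = (∑ j, c j • ψ (e j)) i := by
    rw [hsum, map_sum]; simp only [map_smul]
  rw [map_smul, Pi.smul_apply, Finset.sum_apply] at h1
  simp only [Pi.smul_apply] at h1
  have h2 : algebraMap O K d * ψ x i =
      algebraMap O K d * ∑ j, ψ (e j) i * (x : Fin n → K) j := by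
    calc algebraMap O K d * ψ x i = (d : O) • ψ x i := (Algebra.smul_def _ _).symm
      _ = ∑ j, c j • ψ (e j) i := h1
      _ = ∑ j, algebraMap O K d * (ψ (e j) i * (x : Fin n → K) j) :=
          Finset.sum_congr rfl (fun j _ => by
            rw [Algebra.smul_def, hc j, Algebra.smul_def]; ring)
      _ = algebraMap O K d * ∑ j, ψ (e j) i * (x : Fin n → K) j := by rw [Finset.mul_sum]
  exact mul_left_cancel₀ hd0 h2

/-- Let O be a one-dimensional Noetherian local domain with algebraically closed residue field whose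
integral closure O~ in its fraction field K is a finite O-module. If M and N are O-submodules of K^n
with O^n ⊆ M ⊆ O~^n and O^n ⊆ N ⊆ O~^n, then every O-linear isomorphism M → N is the restriction of
x ↦ A·x for an invertible n × n matrix A with entries in O~. -/
theorem result (O : Type u) [CommRing O] [IsDomain O] [IsNoetherianRing O] [IsLocalRing O] (hdim : ringKrullDim O = 1) [IsAlgClosed (IsLocalRing.ResidueField O)] (K : Type u) [Field K] [Algebra O K] [IsFractionRing O K] (hfin : Module.Finite O ↥(integralClosure O K)) (n : ℕ) (M N : Submodule O (Fin n → K)) (hM1 : Submodule.pi Set.univ (fun _ : Fin n => (1 : Submodule O K)) ≤ M) (hM2 : M ≤ Submodule.pi Set.univ (fun _ : Fin n => (Subalgebra.toSubmodule (integralClosure O K)))) (hN1 : Submodule.pi Set.univ (fun _ : Fin n => (1 : Submodule O K)) ≤ N) (hN2 : N ≤ Submodule.pi Set.univ (fun _ : Fin n => (Subalgebra.toSubmodule (integralClosure O K)))) (φ : ↥M ≃ₗ[O] ↥N) : ∃ A : Matrix (Fin n) (Fin n) ↥(integralClosure O K), IsUnit A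 ∧ ∀ x : ↥M, ((φ x : ↥N) : Fin n → K) = (A.map (algebraMap ↥(integralClosure O K) K)).mulVec (x : Fin n → K) := by
  classical
  have hO : ∀ c : Fin n → O, (fun i => algebraMap O K (c i)) ∈
      Submodule.pi Set.univ (fun _ : Fin n => (1 : Submodule O K)) := by
    intro c
    rw [Submodule.mem_pi]
    intro i _
    exact Submodule.mem_one.mpr ⟨c i, rfl⟩
  have heq : ∀ j i : Fin n, algebraMap O K ((Pi.single j (1:O) : Fin n → O) i) =
      if i = j then (1:K) else 0 := by
    intro j i
    rw [Pi.single_apply]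
    split_ifs <;> simp
  obtain ⟨eM, heM⟩ : ∃ eM : Fin n → ↥M, ∀ j i, (eM j : Fin n → K) i = if i = j then 1 else 0 :=
    ⟨fun j => ⟨_, hM1 (hO (Pi.single j 1))⟩, fun j i => heq j i⟩
  obtain ⟨eN, heN⟩ : ∃ eN : Fin n → ↥N, ∀ j i, (eN j : Fin n → K) i = if i = j then 1 else 0 :=
    ⟨fun j => ⟨_, hN1 (hO (Pi.single j 1))⟩, fun j i => heq j i⟩
  have hA : ∀ x : ↥M, ((φ x : ↥N) : Fin n → K) =
      (Matrix.of fun i j => ((φ (eM j) : ↥N) : Fin n → K) i).mulVec (x : Fin n → K) :=
    fun x => lin_eq_mulVec M eM heM (N.subtype.comp φ.toLinearMap) x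
  have hB : ∀ y : ↥N, ((φ.symm y : ↥M) : Fin n → K) =
      (Matrix.of fun i j => ((φ.symm (eN j) : ↥M) : Fin n → K) i).mulVec (y : Fin n → K) :=
    fun y => lin_eq_mulVec N eN heN (M.subtype.comp φ.symm.toLinearMap) y
  have hSA : ∀ i j, ((φ (eM j) : ↥N) : Fin n → K) i ∈ integralClosure O K := fun i j =>
    (Subalgebra.mem_toSubmodule _).mp ((Submodule.mem_pi.mp (hN2 (φ (eM j)).2)) i (Set.mem_univ i))
  have hSB : ∀ i j, ((φ.symm (eN j) : ↥M) : Fin n → K) i ∈ integralClosure O K := fun i j =>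
    (Subalgebra.mem_toSubmodule _).mp
      ((Submodule.mem_pi.mp (hM2 (φ.symm (eN j)).2)) i (Set.mem_univ i))
  obtain ⟨A, hAe⟩ : ∃ A : Matrix (Fin n) (Fin n) ↥(integralClosure O K), ∀ i j,
      algebraMap ↥(integralClosure O K) K (A i j) = ((φ (eM j) : ↥N) : Fin n → K) i :=
    ⟨Matrix.of fun i j => ⟨_, hSA i j⟩, fun i j => rfl⟩
  obtain ⟨B, hBe⟩ : ∃ B : Matrix (Fin n) (Fin n) ↥(integralClosure O K), ∀ i j,
      algebraMap ↥(integralClosure O K) K (B i j) = ((φ.symm (eN j) : ↥M) : Fin n → K) i :=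
    ⟨Matrix.of fun i j => ⟨_, hSB i j⟩, fun i j => rfl⟩
  have hAmap : A.map (algebraMap ↥(integralClosure O K) K) =
      Matrix.of fun i j => ((φ (eM j) : ↥N) : Fin n → K) i := by
    ext i j; exact hAe i j
  have hAB' : (A.map (algebraMap ↥(integralClosure O K) K)) *
      (B.map (algebraMap ↥(integralClosure O K) K)) = 1 := by
    ext i j
    have h1 := congrFun (hA (φ.symm (eN j))) i
    rw [LinearEquiv.apply_symm_apply, heN] at h1
    rw [Matrix.mul_apply, Matrix.one_apply, h1]
    show _ = ∑ k, ((φ (eM k) : ↥N) : Fin n → K) i * ((φ.symm (eN j) : ↥M) : Fin n → K) k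
    refine Finset.sum_congr rfl fun k _ => ?_
    rw [Matrix.map_apply, Matrix.map_apply, hAe, hBe]
  have hinj : Function.Injective (algebraMap ↥(integralClosure O K) K) := Subtype.val_injective
  have hAB : A * B = 1 := by
    apply Matrix.map_injective hinj
    show (A * B).map (algebraMap ↥(integralClosure O K) K) =
      (1 : Matrix (Fin n) (Fin n) ↥(integralClosure O K)).map (algebraMap ↥(integralClosure O K) K)
    rw [Matrix.map_mul, hAB', Matrix.map_one _ (map_zero _) (map_one _)]
  have hBA : B * A = 1 := mul_eq_one_comm.mp hAB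
  refine ⟨A, ⟨⟨A, B, hAB, hBA⟩, rfl⟩, fun x => ?_⟩
  rw [hAmap]
  exact hA x

end Groth.Agent.S15010
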