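import Groth.Statements.S15015
import Mathlib.RingTheory.PowerSeries.Inverse
import Mathlib.RingTheory.PowerSeries.Order
import Mathlib.LinearAlgebra.Dimension.StrongRankCondition
import Mathlib.RingTheory.Finiteness.Defs
import Mathlib.Tactic.Ring
import Mathlib.Tactic.FieldSimp

set_option autoImplicit false
universe u
open TFCurv

namespace Groth.Agent.S15015

/-- Let k be an algebraically closed field and A ≠ k[[t]] a k-subalgebra of k[[t]] that is closed in the
t-adic topology, over which k[[t]] is a finite module, and such that every power series is carried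
into A by multiplication with some nonzero element of A (so k[[t]] lies in the fraction field of A
and is its normalisation, as for the complete local ring of a unibranch curve singularity), and let
Γ ⊆ ℕ be the set of t-orders of the nonzero elements of A (its value semigroup). Then ℕ ∖ Γ is
finite and the k-dimension of k[[t]]/A equals the number of gaps of Γ. -/
theorem result (k : Type u) [Field k] [IsAlgClosed k] (A : Subalgebra k (PowerSeries k)) (hA : Module.Finite ↥A (PowerSeries k)) (hcl : ∀ f : PowerSeries k, (∀ n : ℕ, ∃ g ∈ A, (n : ℕ∞) ≤ PowerSeries.order (f - g)) → f ∈ A) (hsing : A ≠ ⊤) (hbir : ∀ f : PowerSeries k, ∃ a ∈ A, a ≠ 0 ∧ a * f ∈ A) (Γ : Set ℕ) (hΓ : ∀ n : ℕ, n ∈ Γ ↔ ∃ f ∈ A, PowerSeries.order f = n) : Γᶜ.Finite ∧ Module.finrank k (PowerSeries k ⧸ Subalgebra.toSubmodule A) = Γᶜ.ncard := by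
  classical
  -- (1) a nonzero element of `A` multiplying everything into `A`
  obtain ⟨S, hS⟩ := Module.finite_def.mp hA
  choose! af haf using (fun f : PowerSeries k => hbir f)
  obtain ⟨a, ha⟩ : ∃ a : PowerSeries k, a = ∏ f ∈ S, af f := ⟨_, rfl⟩
  have ha0 : a ≠ 0 := by
    rw [ha]; exact Finset.prod_ne_zero_iff.mpr (fun f _ => (haf f).2.1)
  have hag : ∀ g : PowerSeries k, a * g ∈ A := by
    intro g
    have hg : g ∈ Submodule.span ↥A (S : Set (PowerSeries k)) := by rw [hS]; trivial
    induction hg using Submodule.span_induction with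
    | mem f hf =>
      have h1 : a = (∏ f' ∈ S.erase f, af f') * af f := by
        rw [ha, Finset.prod_erase_mul S af hf]
      rw [h1, mul_assoc]
      exact A.mul_mem (Subalgebra.prod_mem A (fun f' _ => (haf f').1)) (haf f).2.2
    | zero => rw [mul_zero]; exact A.zero_mem
    | add x y _ _ hx hy => rw [mul_add]; exact A.add_mem hx hy
    | smul c x _ hx =>
      have h1 : a * (c • x) = (c : PowerSeries k) * (a * x) := by
        rw [Subalgebra.smul_def, smul_eq_mul]; ring
      rw [h1]; exact A.mul_mem c.2 hx
  obtain ⟨v, hv⟩ : ∃ v : ℕ, PowerSeries.order a = v := by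
    have h1 := PowerSeries.order_finite_iff_ne_zero.mpr ha0
    exact ⟨(PowerSeries.order a).toNat, (ENat.natCast_toNat (ne_of_lt h1)).symm⟩
  have hvA : ∀ h : PowerSeries k, (v : ℕ∞) ≤ PowerSeries.order h → h ∈ A := by
    intro h hh
    have hu : IsUnit (PowerSeries.divXPowOrder a) := by
      rw [PowerSeries.isUnit_iff_constantCoeff, isUnit_iff_ne_zero]
      exact fun h0 => ha0 (PowerSeries.constantCoeff_divXPowOrder_eq_zero_iff.mp h0)
    obtain ⟨u, hu'⟩ := hu
    have haeq : (PowerSeries.X : PowerSeries k) ^ v * (↑u : PowerSeries k) = a := by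
      have h1 := PowerSeries.X_pow_order_mul_divXPowOrder (f := a)
      rw [hv] at h1
      simpa [hu'] using h1
    obtain ⟨w, hw⟩ : (PowerSeries.X : PowerSeries k) ^ v ∣ h := by
      rw [PowerSeries.X_pow_dvd_iff]
      intro m hm
      exact PowerSeries.coeff_of_lt_order m (lt_of_lt_of_le (by exact_mod_cast hm) hh)
    have hinv : (↑u : PowerSeries k) * ((u⁻¹ : (PowerSeries k)ˣ) : PowerSeries k) = 1 :=
      Units.mul_inv u
    have h2 : h = a * (((u⁻¹ : (PowerSeries k)ˣ) : PowerSeries k) * w) := by
      rw [hw, ← haeq]
      calc (PowerSeries.X : PowerSeries k) ^ v * w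
          = PowerSeries.X ^ v * ((↑u : PowerSeries k) * ((u⁻¹ : (PowerSeries k)ˣ) : PowerSeries k)) * w := by
            rw [hinv, mul_one]
        _ = _ := by ring
    rw [h2]; exact hag _
  have hΓv : ∀ n : ℕ, v ≤ n → n ∈ Γ := by
    intro n hn
    refine (hΓ n).mpr ⟨PowerSeries.X ^ n, hvA _ ?_, PowerSeries.order_X_pow n⟩
    rw [PowerSeries.order_X_pow]; exact_mod_cast hn
  have hfin : Γᶜ.Finite :=
    (Set.finite_Iio v).subset (fun n hn => by
      by_contra h
      exact hn (hΓv n (not_lt.mp h)))
  refine ⟨hfin, ?_⟩
  -- (3) a basis of the quotient indexed by the gaps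
  let W := PowerSeries k ⧸ Subalgebra.toSubmodule A
  let vv : ↥Γᶜ → W := fun n => Submodule.Quotient.mk ((PowerSeries.X : PowerSeries k) ^ (n : ℕ))
  have hli : LinearIndependent k vv := by
    rw [linearIndependent_iff']
    intro s g hsum i hi
    by_contra hgi
    obtain ⟨P, hP⟩ : ∃ P : PowerSeries k, P = ∑ j ∈ s, g j • (PowerSeries.X : PowerSeries k) ^ (j : ℕ) :=
      ⟨_, rfl⟩
    have hPA : P ∈ A := by
      have h1 : (Submodule.Quotient.mk P : W) = 0 := by
        rw [hP, ← hsum]
        change (Submodule.mkQ (Subalgebra.toSubmodule A)) _ = _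
        rw [map_sum]
        apply Finset.sum_congr rfl
        intro j _
        rw [map_smul]
        rfl
      exact (Submodule.Quotient.mk_eq_zero _).mp h1
    have hcoeff : ∀ m : ℕ, PowerSeries.coeff m P = ∑ j ∈ s, g j * (if m = (j : ℕ) then 1 else 0) := by
      intro m
      rw [hP, map_sum]
      apply Finset.sum_congr rfl
      intro j _
      rw [map_smul, smul_eq_mul, PowerSeries.coeff_X_pow]
    have hP0 : P ≠ 0 := by
      intro h0
      have h1 := hcoeff (i : ℕ)
      rw [h0, map_zero] at h1
      rw [Finset.sum_eq_single i] at h1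
      · simp at h1; exact hgi h1.symm
      · intro j _ hji
        rw [if_neg (fun h => hji (Subtype.ext h.symm)), mul_zero]
      · intro h; exact absurd hi h
    obtain ⟨n₀, hn₀⟩ : ∃ n₀ : ℕ, PowerSeries.order P = n₀ := by
      have h1 := PowerSeries.order_finite_iff_ne_zero.mpr hP0
      exact ⟨(PowerSeries.order P).toNat, (ENat.natCast_toNat (ne_of_lt h1)).symm⟩
    have hn₀Γ : n₀ ∈ Γ := (hΓ n₀).mpr ⟨P, hPA, hn₀⟩
    have hc0 : PowerSeries.coeff n₀ P ≠ 0 := by
      have h1 := PowerSeries.coeff_order hP0
      rwa [hn₀, ENat.toNat_natCast] at h1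
    apply hc0
    rw [hcoeff]
    apply Finset.sum_eq_zero
    intro j _
    rw [if_neg, mul_zero]
    intro h
    exact j.2 (h ▸ hn₀Γ)
  have hmkA : ∀ h : PowerSeries k, h ∈ A → (Submodule.Quotient.mk h : W) = 0 := by
    intro h hh
    exact (Submodule.Quotient.mk_eq_zero _).mpr hh
  have hspan_aux : ∀ d : ℕ, ∀ h : PowerSeries k, ((v - d : ℕ) : ℕ∞) ≤ PowerSeries.order h →
      (Submodule.Quotient.mk h : W) ∈ Submodule.span k (Set.range vv) := by
    intro d
    induction d with
    | zero =>
      intro h hh
      rw [hmkA h (hvA h (by simpa using hh))]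
      exact Submodule.zero_mem _
    | succ d ih =>
      intro h hh
      by_cases hdv : v ≤ d
      · apply ih h
        have h1 : v - d = 0 := by omega
        rw [h1]; simp
      · obtain ⟨N, hN⟩ : ∃ N : ℕ, N = v - (d + 1) := ⟨_, rfl⟩
        have hN1 : v - d = N + 1 := by omega
        rw [← hN] at hh
        by_cases hNΓ : N ∈ Γ
        · obtain ⟨b, hbA, hbord⟩ := (hΓ N).mp hNΓ
          have hb0 : b ≠ 0 := by
            rintro rfl
            rw [PowerSeries.order_zero] at hbord
            exact ENat.top_ne_natCast _ hbord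
          have hβ : PowerSeries.coeff N b ≠ 0 := by
            have h1 := PowerSeries.coeff_order hb0
            rwa [hbord, ENat.toNat_natCast] at h1
          have h2 : (Submodule.Quotient.mk (h - (PowerSeries.coeff N h / PowerSeries.coeff N b) • b) : W)
              ∈ Submodule.span k (Set.range vv) := by
            apply ih
            rw [hN1]
            apply PowerSeries.nat_le_order
            intro i hi
            rw [map_sub, map_smul, smul_eq_mul]
            rcases Nat.lt_succ_iff_lt_or_eq.mp hi with hlt | heq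
            · rw [PowerSeries.coeff_of_lt_order i (lt_of_lt_of_le (by exact_mod_cast hlt) hh),
                PowerSeries.coeff_of_lt_order i (by rw [hbord]; exact_mod_cast hlt), mul_zero, sub_zero]
            · subst heq
              rw [div_mul_cancel₀ _ hβ, sub_self]
          rw [Submodule.Quotient.mk_sub, hmkA _ (A.smul_mem hbA _), sub_zero] at h2
          exact h2
        · have h2 : (Submodule.Quotient.mk (h - PowerSeries.coeff N h • (PowerSeries.X : PowerSeries k) ^ N) : W)
              ∈ Submodule.span k (Set.range vv) := by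
            apply ih
            rw [hN1]
            apply PowerSeries.nat_le_order
            intro i hi
            rw [map_sub, map_smul, smul_eq_mul, PowerSeries.coeff_X_pow]
            rcases Nat.lt_succ_iff_lt_or_eq.mp hi with hlt | heq
            · rw [PowerSeries.coeff_of_lt_order i (lt_of_lt_of_le (by exact_mod_cast hlt) hh),
                if_neg (ne_of_lt hlt), mul_zero, sub_zero]
            · subst heq
              rw [if_pos rfl, mul_one, sub_self]
          rw [Submodule.Quotient.mk_sub, Submodule.Quotient.mk_smul] at h2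
          have h3 : (PowerSeries.coeff N h) • (Submodule.Quotient.mk ((PowerSeries.X : PowerSeries k) ^ N) : W)
              ∈ Submodule.span k (Set.range vv) :=
            Submodule.smul_mem _ _ (Submodule.subset_span ⟨⟨N, hNΓ⟩, rfl⟩)
          have h4 := Submodule.add_mem _ h2 h3
          rwa [sub_add_cancel] at h4
  have hsp : ⊤ ≤ Submodule.span k (Set.range vv) := by
    intro w _
    obtain ⟨h, rfl⟩ := Submodule.Quotient.mk_surjective _ w
    apply hspan_aux v h
    simp
  have hbasis := Module.finrank_eq_nat_card_basis (Module.Basis.mk hli hsp)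
  rw [hbasis, Nat.card_coe_set_eq]

end Groth.Agent.S15015
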