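import Groth.Statements.S15016
import Mathlib.RingTheory.PowerSeries.Inverse
import Mathlib.RingTheory.PowerSeries.Order
import Mathlib.Tactic.Ring
import Mathlib.Tactic.FieldSimp

set_option autoImplicit false
universe u
open TFCurv

namespace Groth.Agent.S15016

/-- Let k be an algebraically closed field and A ≠ k[[t]] a k-subalgebra of k[[t]] that is closed in the
t-adic topology and over which k[[t]] is a finite module (as for the complete local ring of a
unibranch curve singularity inside its normalisation), and let Γ ⊆ ℕ be the set of t-orders of the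
nonzero elements of A (its value semigroup); let c be the conductor of Γ, so that every n ≥ c lies
in Γ and c − 1 does not. Then for a power series f, f · k[[t]] ⊆ A holds exactly when the order of f
is at least c: the conductor of A in k[[t]] is t^c · k[[t]], of codimension c. -/
theorem result (k : Type u) [Field k] [IsAlgClosed k] (A : Subalgebra k (PowerSeries k)) (hA : Module.Finite ↥A (PowerSeries k)) (hcl : ∀ f : PowerSeries k, (∀ n : ℕ, ∃ g ∈ A, (n : ℕ∞) ≤ PowerSeries.order (f - g)) → f ∈ A) (hsing : A ≠ ⊤) (Γ : Set ℕ) (hΓ : ∀ n : ℕ, n ∈ Γ ↔ ∃ f ∈ A, PowerSeries.order f = n) (c : ℕ) (hc : ∀ n : ℕ, c ≤ n → n ∈ Γ) (hc0 : c ≠ 0) (hc1 : c - 1 ∉ Γ) (f : PowerSeries k) : (∀ g : PowerSeries k, g * f ∈ A) ↔ (c : ℕ∞) ≤ PowerSeries.order f := by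
  classical
  constructor
  · intro h
    by_contra hlt
    rw [not_le] at hlt
    have hf0 : f ≠ 0 := by
      rintro rfl
      simp at hlt
    obtain ⟨v, hv⟩ : ∃ v : ℕ, PowerSeries.order f = v := by
      have h1 := PowerSeries.order_finite_iff_ne_zero.mpr hf0
      exact ⟨(PowerSeries.order f).toNat, (ENat.coe_toNat (ne_of_lt h1)).symm⟩
    rw [hv] at hlt
    have hvc : v < c := by exact_mod_cast hlt
    have hu : IsUnit (PowerSeries.divXPowOrder f) := by
      rw [PowerSeries.isUnit_iff_constantCoeff, isUnit_iff_ne_zero]
      exact fun h0 => hf0 (PowerSeries.constantCoeff_divXPowOrder_eq_zero_iff.mp h0)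
    obtain ⟨u, hu'⟩ := hu
    have hfeq : (PowerSeries.X : PowerSeries k) ^ v * (↑u : PowerSeries k) = f := by
      have h1 := PowerSeries.X_pow_order_mul_divXPowOrder (f := f)
      rw [hv] at h1
      simpa [hu'] using h1
    have hmem := h (PowerSeries.X ^ (c - 1 - v) * ((u⁻¹ : (PowerSeries k)ˣ) : PowerSeries k))
    have hinv : ((u⁻¹ : (PowerSeries k)ˣ) : PowerSeries k) * (↑u : PowerSeries k) = 1 :=
      Units.inv_mul u
    have heq : PowerSeries.X ^ (c - 1 - v) * ((u⁻¹ : (PowerSeries k)ˣ) : PowerSeries k) * f
        = PowerSeries.X ^ (c - 1) := by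
      rw [← hfeq]
      calc PowerSeries.X ^ (c - 1 - v) * ((u⁻¹ : (PowerSeries k)ˣ) : PowerSeries k)
            * (PowerSeries.X ^ v * (↑u : PowerSeries k))
          = PowerSeries.X ^ (c - 1 - v) * PowerSeries.X ^ v
            * (((u⁻¹ : (PowerSeries k)ˣ) : PowerSeries k) * (↑u : PowerSeries k)) := by ring
        _ = PowerSeries.X ^ (c - 1) := by
            rw [hinv, mul_one, ← pow_add]
            congr 1
            omega
    rw [heq] at hmem
    exact hc1 ((hΓ (c - 1)).mpr ⟨_, hmem, PowerSeries.order_X_pow (c - 1)⟩)
  · intro hord g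
    have hh : (c : ℕ∞) ≤ PowerSeries.order (g * f) := by
      rw [PowerSeries.order_mul]
      exact le_trans hord le_add_self
    apply hcl
    have key : ∀ N : ℕ, ∃ g' ∈ A, ((c + N : ℕ) : ℕ∞) ≤ PowerSeries.order (g * f - g') := by
      intro N
      induction N with
      | zero => exact ⟨0, A.zero_mem, by simpa using hh⟩
      | succ N ih =>
        obtain ⟨g', hg', hord'⟩ := ih
        obtain ⟨a, haA, haord⟩ := (hΓ (c + N)).mp (hc (c + N) (Nat.le_add_right c N))
        have ha0 : a ≠ 0 := by
          rintro rfl
          rw [PowerSeries.order_zero] at haord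
          exact ENat.top_ne_coe _ haord
        have hβ : PowerSeries.coeff (c + N) a ≠ 0 := by
          have h1 := PowerSeries.coeff_order ha0
          rwa [haord, ENat.toNat_natCast] at h1
        refine ⟨g' + (PowerSeries.coeff (c + N) (g * f - g') / PowerSeries.coeff (c + N) a) • a,
          A.add_mem hg' (A.smul_mem haA _), ?_⟩
        have hrw : g * f - (g' + (PowerSeries.coeff (c + N) (g * f - g') /
            PowerSeries.coeff (c + N) a) • a) = (g * f - g') -
            (PowerSeries.coeff (c + N) (g * f - g') / PowerSeries.coeff (c + N) a) • a := by ring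
        rw [hrw]
        apply PowerSeries.nat_le_order
        intro i hi
        rw [map_sub, map_smul, smul_eq_mul]
        have hi' : i < (c + N) + 1 := by omega
        rcases Nat.lt_succ_iff_lt_or_eq.mp hi' with hlt | heq
        · have h1 : PowerSeries.coeff i (g * f - g') = 0 :=
            PowerSeries.coeff_of_lt_order i (lt_of_lt_of_le (by exact_mod_cast hlt) hord')
          have h2 : PowerSeries.coeff i a = 0 :=
            PowerSeries.coeff_of_lt_order i (by rw [haord]; exact_mod_cast hlt)
          rw [h1, h2, mul_zero, sub_zero]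
        · subst heq
          rw [div_mul_cancel₀ _ hβ, sub_self]
    intro n
    obtain ⟨g', hg', h⟩ := key n
    exact ⟨g', hg', le_trans (by exact_mod_cast Nat.le_add_left n c) h⟩

end Groth.Agent.S15016
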