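import Groth.Statements.S15017
import Mathlib.Tactic.IntervalCases
import Mathlib.Tactic.Ring
import Mathlib.Tactic.NormNum

set_option autoImplicit false
open TFCurv

namespace Groth.Agent.S15017

/-- Let Γ be a numerical semigroup (a submonoid of (ℕ, +) with finite complement), Γ ≠ ℕ, with conductor
c (every n ≥ c lies in Γ, c − 1 does not). If Γ is symmetric (for x < c, x is a gap exactly when c −
1 − x ∈ Γ) and has multiplicity greater than 2 (neither 1 nor 2 lies in Γ), then Γ is generated by
its elements smaller than c: every minimal generator of Γ is less than the conductor. -/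
theorem result (Γ : AddSubmonoid ℕ) (c : ℕ) (hc : ∀ n : ℕ, c ≤ n → n ∈ Γ) (hc0 : c ≠ 0) (hc1 : c - 1 ∉ Γ) (hsymm : ∀ x : ℕ, x < c → (x ∉ Γ ↔ c - 1 - x ∈ Γ)) (he : (1 : ℕ) ∉ Γ ∧ (2 : ℕ) ∉ Γ) : AddSubmonoid.closure {γ : ℕ | γ ∈ Γ ∧ γ < c} = Γ := by
  have h1 : (1 : ℕ) ∉ Γ := he.1
  have h2 : (2 : ℕ) ∉ Γ := he.2
  have hc4 : 4 ≤ c := by
    by_contra hlt
    have hcl : c < 4 := not_le.mp hlt
    interval_cases c
    · exact hc0 rfl
    · exact hc1 (by simpa using Γ.zero_mem)
    · exact h2 (hc 2 (le_refl 2))
    · have := (hsymm 1 (by norm_num)).mp h1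
      exact h1 (by simpa using this)
  have hcm2 : c - 2 ∈ Γ := by
    have := (hsymm 1 (by omega)).mp h1
    have e : c - 1 - 1 = c - 2 := by omega
    rwa [e] at this
  have hcm3 : c - 3 ∈ Γ := by
    have := (hsymm 2 (by omega)).mp h2
    have e : c - 1 - 2 = c - 3 := by omega
    rwa [e] at this
  -- every element `≥ c` decomposes
  have hdecomp : ∀ n : ℕ, c ≤ n → ∃ a b : ℕ, a ∈ Γ ∧ b ∈ Γ ∧ 0 < a ∧ 0 < b ∧ a + b = n := by
    intro n hn
    by_contra hno
    have hno' : ∀ a b : ℕ, a ∈ Γ → b ∈ Γ → 0 < a → 0 < b → a + b ≠ n := by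
      intro a b ha hb ha0 hb0 hab
      exact hno ⟨a, b, ha, hb, ha0, hb0, hab⟩
    have hn2 : n < 2 * c := by
      by_contra hge
      exact hno' c (n - c) (hc c (le_refl c)) (hc _ (by omega)) (by omega) (by omega) (by omega)
    obtain ⟨k, hk⟩ : ∃ k, n = c - 1 + k := ⟨n - (c - 1), by omega⟩
    have hk1 : 1 ≤ k := by omega
    have hkc : k ≤ c := by omega
    have nosmall : ∀ j : ℕ, 0 < j → j < k → j ∉ Γ := by
      intro j hj0 hjk hj
      exact hno' j (n - j) hj (hc _ (by omega)) hj0 (by omega) (by omega)
    have star : ∀ a : ℕ, a ∈ Γ → k ≤ a → a ≤ c - 1 → 0 < a → a - k ∈ Γ := by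
      intro a ha hka hac ha0
      by_contra hx
      have := (hsymm (a - k) (by omega)).mp hx
      have e : c - 1 - (a - k) = n - a := by omega
      rw [e] at this
      exact hno' a (n - a) ha this ha0 (by omega) (by omega)
    have chain2 : ∀ m : ℕ, m * k ≤ c - 2 → c - 2 - m * k ∈ Γ := by
      intro m
      induction m with
      | zero => intro _; simpa using hcm2
      | succ m ih =>
        intro hm
        have hm' : m * k ≤ c - 2 := by
          have : m * k ≤ (m + 1) * k := Nat.mul_le_mul_right k (Nat.le_succ m)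
          omega
        have hmk : (m + 1) * k = m * k + k := by ring
        have := star (c - 2 - m * k) (ih hm') (by omega) (by omega) (by omega)
        have e : c - 2 - m * k - k = c - 2 - (m + 1) * k := by omega
        rwa [e] at this
    have chain3 : ∀ m : ℕ, m * k ≤ c - 3 → c - 3 - m * k ∈ Γ := by
      intro m
      induction m with
      | zero => intro _; simpa using hcm3
      | succ m ih =>
        intro hm
        have hm' : m * k ≤ c - 3 := by
          have : m * k ≤ (m + 1) * k := Nat.mul_le_mul_right k (Nat.le_succ m)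
          omega
        have hmk : (m + 1) * k = m * k + k := by ring
        have := star (c - 3 - m * k) (ih hm') (by omega) (by omega) (by omega)
        have e : c - 3 - m * k - k = c - 3 - (m + 1) * k := by omega
        rwa [e] at this
    have hr2 : (c - 2) % k = 0 := by
      by_contra hne
      have hlt : (c - 2) % k < k := Nat.mod_lt _ (by omega)
      have hmem := chain2 ((c - 2) / k) (Nat.div_mul_le_self _ _)
      have e : c - 2 - (c - 2) / k * k = (c - 2) % k := by
        have := Nat.div_add_mod (c - 2) k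
        have hcomm : (c - 2) / k * k = k * ((c - 2) / k) := Nat.mul_comm _ _
        omega
      rw [e] at hmem
      exact nosmall _ (Nat.pos_of_ne_zero hne) hlt hmem
    have hr3 : (c - 3) % k = 0 := by
      by_contra hne
      have hlt : (c - 3) % k < k := Nat.mod_lt _ (by omega)
      have hmem := chain3 ((c - 3) / k) (Nat.div_mul_le_self _ _)
      have e : c - 3 - (c - 3) / k * k = (c - 3) % k := by
        have := Nat.div_add_mod (c - 3) k
        have hcomm : (c - 3) / k * k = k * ((c - 3) / k) := Nat.mul_comm _ _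
        omega
      rw [e] at hmem
      exact nosmall _ (Nat.pos_of_ne_zero hne) hlt hmem
    have hk_one : k = 1 := by
      have d2 : k ∣ c - 2 := Nat.dvd_of_mod_eq_zero hr2
      have d3 : k ∣ c - 3 := Nat.dvd_of_mod_eq_zero hr3
      have : k ∣ (c - 2) - (c - 3) := Nat.dvd_sub d2 d3
      have e : (c - 2) - (c - 3) = 1 := by omega
      rw [e] at this
      exact Nat.dvd_one.mp this
    subst hk_one
    have := chain2 (c - 3) (by omega)
    have e : c - 2 - (c - 3) * 1 = 1 := by omega
    rw [e] at this
    exact h1 this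
  apply le_antisymm
  · rw [AddSubmonoid.closure_le]
    intro γ hγ
    exact hγ.1
  · intro n
    induction n using Nat.strong_induction_on with
    | _ n ih =>
      intro hn
      by_cases hlt : n < c
      · exact AddSubmonoid.subset_closure ⟨hn, hlt⟩
      · obtain ⟨a, b, ha, hb, ha0, hb0, hab⟩ := hdecomp n (not_lt.mp hlt)
        have := AddSubmonoid.add_mem _ (ih a (by omega) ha) (ih b (by omega) hb)
        rwa [hab] at this

end Groth.Agent.S15017
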