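import Groth.Statements.S15018
import Mathlib.Order.Lattice.Nat

set_option autoImplicit false
open TFCurv

namespace Groth.Agent.S15018

/-- Let Γ be a numerical semigroup (a submonoid of (ℕ, +) with finite complement), Γ ≠ ℕ, with conductor
c (every n ≥ c lies in Γ, c − 1 does not). Then Γ is symmetric (for x < c, x is a gap exactly when c
− 1 − x ∈ Γ) if and only if there is exactly one gap n of Γ such that Γ ∪ {n} is again stable under
adding elements of Γ, i.e. n + γ ∈ Γ for every nonzero γ ∈ Γ. -/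
theorem result (Γ : AddSubmonoid ℕ) (c : ℕ) (hc : ∀ n : ℕ, c ≤ n → n ∈ Γ) (hc0 : c ≠ 0) (hc1 : c - 1 ∉ Γ) : (∀ x : ℕ, x < c → (x ∉ Γ ↔ c - 1 - x ∈ Γ)) ↔ ∃! n : ℕ, n ∉ Γ ∧ ∀ γ : ℕ, γ ∈ Γ → γ ≠ 0 → n + γ ∈ Γ := by
  have hgaplt : ∀ n : ℕ, n ∉ Γ → n < c := by
    intro n hn
    by_contra hlt
    exact hn (hc n (not_lt.mp hlt))
  have hF : c - 1 ∉ Γ ∧ ∀ γ : ℕ, γ ∈ Γ → γ ≠ 0 → c - 1 + γ ∈ Γ := by
    refine ⟨hc1, fun γ _ hγ0 => hc _ (by omega)⟩
  constructor
  · intro hsymm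
    refine ⟨c - 1, hF, ?_⟩
    rintro n ⟨hn, hnPF⟩
    have hnlt := hgaplt n hn
    have hmem : c - 1 - n ∈ Γ := (hsymm n hnlt).mp hn
    by_cases h0 : c - 1 - n = 0
    · omega
    · have := hnPF _ hmem h0
      have e : n + (c - 1 - n) = c - 1 := by omega
      rw [e] at this
      exact absurd this hc1
  · rintro ⟨n, hn, huniq⟩ x hx
    have hnF : c - 1 = n := huniq (c - 1) hF
    constructor
    · intro hxΓ
      let T : Set ℕ := {y | y ∉ Γ ∧ x ≤ y ∧ y - x ∈ Γ}
      have hTne : T.Nonempty := ⟨x, hxΓ, le_refl x, by simpa using Γ.zero_mem⟩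
      have hTbdd : BddAbove T := ⟨c, fun y hy => (hgaplt y hy.1).le⟩
      have hmem : sSup T ∈ T := Nat.sSup_mem hTne hTbdd
      obtain ⟨h1, h2, h3⟩ := hmem
      have hPF : sSup T ∉ Γ ∧ ∀ γ : ℕ, γ ∈ Γ → γ ≠ 0 → sSup T + γ ∈ Γ := by
        refine ⟨h1, fun γ hγ hγ0 => ?_⟩
        by_contra hnot
        have hin : sSup T + γ ∈ T := by
          refine ⟨hnot, by omega, ?_⟩
          have e : sSup T + γ - x = (sSup T - x) + γ := by omega
          rw [e]
          exact Γ.add_mem h3 hγ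
        have := le_csSup hTbdd hin
        omega
      have hy0 : sSup T = n := huniq _ hPF
      have : c - 1 - x = sSup T - x := by rw [hy0, ← hnF]
      rw [this]
      exact h3
    · intro hmem hxΓ
      have := Γ.add_mem hxΓ hmem
      have e : x + (c - 1 - x) = c - 1 := by omega
      rw [e] at this
      exact hc1 this

end Groth.Agent.S15018
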