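import Groth.Statements.S15019
import Mathlib.Tactic.Ring
import Mathlib.Data.Nat.ModEq
import Mathlib.Order.Interval.Finset.Nat
import Mathlib.Algebra.Group.Submonoid.Membership

set_option autoImplicit false
open TFCurv

namespace Groth.Agent.S15019

/-- Let Γ be a numerical semigroup (a submonoid of (ℕ, +) with finite complement), Γ ≠ ℕ, with conductor
c (every n ≥ c lies in Γ, c − 1 does not), let e be its multiplicity (the least nonzero element of
Γ), and let S ⊆ ℕ be a Γ-module in normal form: 0 ∈ S and γ + s ∈ S for all γ ∈ Γ, s ∈ S. Then the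
set of gaps n of S with S ∪ {n} again a Γ-module (n + γ ∈ S for every nonzero γ ∈ Γ) has at most e −
1 elements, and so does the set of nonzero s ∈ S with S ∖ {s} again a Γ-module (s − γ ∉ S for every
nonzero γ ∈ Γ with γ ≤ s). -/
theorem result (Γ : AddSubmonoid ℕ) (c : ℕ) (hc : ∀ n : ℕ, c ≤ n → n ∈ Γ) (hc0 : c ≠ 0) (hc1 : c - 1 ∉ Γ) (e : ℕ) (he : e ∈ Γ) (he0 : e ≠ 0) (hemin : ∀ γ : ℕ, γ ∈ Γ → γ ≠ 0 → e ≤ γ) (S : Set ℕ) (hS0 : (0 : ℕ) ∈ S) (hS : ∀ γ : ℕ, γ ∈ Γ → ∀ s : ℕ, s ∈ S → γ + s ∈ S) : {n : ℕ | n ∉ S ∧ ∀ γ : ℕ, γ ∈ Γ → γ ≠ 0 → n + γ ∈ S}.encard ≤ ((e - 1 : ℕ) : ℕ∞) ∧ {s : ℕ | s ∈ S ∧ s ≠ 0 ∧ ∀ γ : ℕ, γ ∈ Γ → γ ≠ 0 → γ ≤ s → s - γ ∉ S}.encard ≤ ((e - 1 : ℕ) : ℕ∞) := by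
  have he1 : 1 ≤ e := Nat.pos_of_ne_zero he0
  have hme : ∀ m : ℕ, m * e ∈ Γ := by
    intro m
    have := Γ.nsmul_mem he m
    simpa [smul_eq_mul] using this
  have hΓS : ∀ γ : ℕ, γ ∈ Γ → γ ∈ S := by
    intro γ hγ
    have := hS γ hγ 0 hS0
    simpa using this
  have hcardIco : ((Finset.Ico 1 e : Finset ℕ) : Set ℕ).encard = ((e - 1 : ℕ) : ℕ∞) := by
    rw [Set.encard_coe_eq_coe_finsetCard, Nat.card_Ico]
  -- general principle
  have main : ∀ A : Set ℕ, (∀ n ∈ A, n % e ≠ 0) →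
      (∀ n ∈ A, ∀ m : ℕ, 1 ≤ m → n + m * e ∉ A) → A.encard ≤ ((e - 1 : ℕ) : ℕ∞) := by
    intro A h0 hstep
    rw [← hcardIco]
    refine Set.encard_le_encard_of_injOn (f := fun n => n % e) ?_ ?_
    · intro n hn
      simp only [Finset.coe_Ico, Set.mem_Ico]
      exact ⟨Nat.pos_of_ne_zero (h0 n hn), Nat.mod_lt _ he1⟩
    · have key : ∀ n n' : ℕ, n ∈ A → n' ∈ A → n % e = n' % e → n < n' → False := by
        intro n n' hn hn' hmod hlt
        have hdvd : e ∣ n' - n := (Nat.modEq_iff_dvd' hlt.le).mp hmod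
        obtain ⟨m, hm⟩ := hdvd
        have hm1 : 1 ≤ m := by
          rcases Nat.eq_zero_or_pos m with h | h
          · subst h; omega
          · exact h
        apply hstep n hn m hm1
        have : n + m * e = n' := by
          rw [Nat.mul_comm]; omega
        rw [this]; exact hn'
      intro n hn n' hn' hmod
      simp only at hmod
      rcases lt_trichotomy n n' with h | h | h
      · exact (key n n' hn hn' hmod h).elim
      · exact h
      · exact (key n' n hn' hn hmod.symm h).elim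
  have hmpos : ∀ m : ℕ, 1 ≤ m → m * e ≠ 0 := by
    intro m hm
    exact Nat.mul_ne_zero (by omega) he0
  constructor
  · apply main
    · rintro n ⟨hnS, _⟩ hmod
      apply hnS
      have : n = (n / e) * e := by
        have := Nat.div_add_mod n e
        rw [hmod] at this
        rw [Nat.mul_comm]; omega
      rw [this]
      exact hΓS _ (hme _)
    · rintro n ⟨_, hn⟩ m hm ⟨hnot, _⟩
      exact hnot (hn (m * e) (hme m) (hmpos m hm))
  · apply main
    · rintro s ⟨hsS, hs0, hs⟩ hmod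
      have hse : s = (s / e) * e := by
        have := Nat.div_add_mod s e
        rw [hmod] at this
        rw [Nat.mul_comm]; omega
      have := hs s (by rw [hse]; exact hme _) hs0 (le_refl s)
      rw [Nat.sub_self] at this
      exact this hS0
    · rintro s ⟨hsS, _, _⟩ m hm ⟨_, _, hs'⟩
      have := hs' (m * e) (hme m) (hmpos m hm) (by omega)
      rw [Nat.add_sub_cancel] at this
      exact this hsS

end Groth.Agent.S15019
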