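import Groth.Statements.S19528
import Groth.Agent.H72.CanonDual
import Groth.Agent.H75.EakinNagata
import Groth.Agent.S15016

set_option autoImplicit false
universe u
open CategoryTheory
open TFCurv

namespace Groth.Agent.S19528

open IsLocalRing in
/-- The `A`-submodule of power series of order at least `j`. -/
def ordGE {k : Type u} [Field k] (A : Subalgebra k (PowerSeries k)) (j : ℕ) :
    Submodule ↥A (PowerSeries k) where
  carrier := {f | (j : ℕ∞) ≤ PowerSeries.order f}
  add_mem' := by
    intro f g hf hg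
    exact le_trans (le_min hf hg) (PowerSeries.min_order_le_order_add f g)
  zero_mem' := by
    change (j : ℕ∞) ≤ PowerSeries.order (0 : PowerSeries k)
    rw [PowerSeries.order_zero]; exact le_top
  smul_mem' := by
    intro a f hf
    change (j : ℕ∞) ≤ PowerSeries.order (a • f)
    rw [Algebra.smul_def, PowerSeries.order_mul]
    exact le_trans hf le_add_self

/-- The main statement, with the facts about `A` that are needed collected as hypotheses. -/
theorem core (k : Type u) [Field k] (A : Subalgebra k (PowerSeries k))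
    [IsLocalRing ↥A] [IsNoetherianRing ↥A] [IsNoetherian ↥A (PowerSeries k)]
    (Γ : Set ℕ) (hΓ : ∀ n : ℕ, n ∈ Γ ↔ ∃ f ∈ A, PowerSeries.order f = n) (c : ℕ)
    (hc : ∀ n : ℕ, c ≤ n → n ∈ Γ) (hc0 : c ≠ 0) (hc1 : c - 1 ∉ Γ)
    (hcond : ∀ f : PowerSeries k, (c : ℕ∞) ≤ PowerSeries.order f → f ∈ A)
    (hmax : ∀ a : ↥A, a ∈ IsLocalRing.maximalIdeal ↥A →
      (1 : ℕ∞) ≤ PowerSeries.order (a : PowerSeries k))
    (hunit : ∀ a : ↥A, IsUnit a → IsUnit (a : PowerSeries k))
    (ω : Submodule ↥A (PowerSeries k)) (hω1 : (1 : PowerSeries k) ∈ ω) (hωfg : ω.FG)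
    (hωinj : HasInjectiveDimensionLT (ModuleCat.of ↥A ↥ω) 2)
    (M : Submodule ↥A (PowerSeries k)) (hM1 : (1 : PowerSeries k) ∈ M) (n : ℕ) :
    (∃ u : PowerSeries k, PowerSeries.order u = n ∧ ∀ m ∈ M, u * m ∈ ω) ↔
      (c ≤ n ∨ ¬ ∃ m ∈ M, PowerSeries.order m = ((c - 1 - n : ℕ) : ℕ∞)) := by
  classical
  have hinj : Function.Injective (algebraMap ↥A (PowerSeries k)) := fun a b h => Subtype.ext h
  have h1c : 1 ≤ c := Nat.one_le_iff_ne_zero.2 hc0
  have hAω : ∀ f : PowerSeries k, f ∈ A → f ∈ ω := by
    intro f hf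
    have h := ω.smul_mem (⟨f, hf⟩ : ↥A) hω1
    rw [Algebra.smul_def, mul_one] at h
    exact h
  obtain ⟨fc, hfcA, hfc⟩ := (hΓ c).1 (hc c le_rfl)
  have hfc0 : fc ≠ 0 := by
    intro h
    rw [h, PowerSeries.order_zero] at hfc
    exact ENat.top_ne_coe c hfc
  have hnf : ∃ x : ↥A, x ∈ IsLocalRing.maximalIdeal ↥A ∧ x ≠ 0 := by
    refine ⟨⟨fc, hfcA⟩, ?_, fun h => hfc0 (congrArg Subtype.val h)⟩
    rw [IsLocalRing.mem_maximalIdeal, mem_nonunits_iff]
    intro hu
    have h1 : IsUnit fc := hunit _ hu
    have h2 := PowerSeries.order_zero_of_unit h1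
    rw [hfc] at h2
    exact hc0 (by exact_mod_cast h2)
  have hfrac : ∀ l : PowerSeries k, ∃ b : ↥A, b ≠ 0 ∧
      ∃ a : ↥A, b • l = algebraMap ↥A (PowerSeries k) a := by
    intro l
    refine ⟨⟨fc, hfcA⟩, fun h => hfc0 (congrArg Subtype.val h), ⟨fc * l, hcond _ ?_⟩, ?_⟩
    · rw [PowerSeries.order_mul, hfc]; exact le_self_add
    · rw [Algebra.smul_def]; rfl
  have hccast : (c : ℕ∞) = 1 + ((c - 1 : ℕ) : ℕ∞) := by
    rw [← Nat.cast_one, ← Nat.cast_add, Nat.add_sub_cancel' h1c]
  -- no element of `ω` has order `c - 1`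
  have hT1 : ∀ h ∈ ω, PowerSeries.order h ≠ ((c - 1 : ℕ) : ℕ∞) := by
    intro h hhω hord
    have hhA : h ∉ A := fun hA' => hc1 ((hΓ (c - 1)).2 ⟨h, hA', hord⟩)
    let I : Submodule ↥A (PowerSeries k) := 1
    have hI_mem : ∀ f : PowerSeries k, f ∈ I ↔ f ∈ A := by
      intro f
      change f ∈ (1 : Submodule ↥A (PowerSeries k)) ↔ _
      rw [Submodule.mem_one]
      constructor
      · rintro ⟨y, rfl⟩; exact y.2
      · intro hf; exact ⟨⟨f, hf⟩, rfl⟩
    let J : Submodule ↥A (PowerSeries k) := I ⊔ Submodule.span ↥A {h}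
    obtain ⟨u, hu1, hu2⟩ := Groth.Agent.H72.CanonDual.cover hinj hfrac hnf ω hω1 hωfg hωinj I J
      le_sup_left (IsNoetherian.noetherian J) 1 ((hI_mem 1).2 A.one_mem) isUnit_one h
      (Submodule.mem_sup_right (Submodule.mem_span_singleton_self h)) le_rfl
      (fun hh => hhA ((hI_mem h).1 hh))
      (fun a ha => by
        rw [hI_mem, Algebra.smul_def]
        apply hcond
        rw [PowerSeries.order_mul, hord, hccast]
        exact add_le_add (hmax a ha) le_rfl)
    have huω : u ∈ ω := by
      have h3 := hu1 1 ((hI_mem 1).2 A.one_mem)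
      rw [mul_one] at h3
      exact h3
    apply hu2
    have hdec := PowerSeries.eq_X_mul_shift_add_const u
    have hsplit : u * h = (PowerSeries.X * (PowerSeries.mk fun p => PowerSeries.coeff (p + 1) u)) * h
        + (algebraMap k ↥A (PowerSeries.constantCoeff u)) • h := by
      rw [Algebra.smul_def]
      conv_lhs => rw [hdec]
      rw [add_mul]
      rfl
    rw [hsplit]
    refine ω.add_mem (hAω _ (hcond _ ?_)) (ω.smul_mem _ hhω)
    rw [PowerSeries.order_mul, PowerSeries.order_mul, PowerSeries.order_X, hord, hccast]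
    exact add_le_add le_self_add le_rfl
  -- the largest `k[[t]]`-submodule of `ω` is `t^c k[[t]]`
  have hT2 : ∀ y : PowerSeries k, (∀ l : PowerSeries k, y * l ∈ ω) →
      (c : ℕ∞) ≤ PowerSeries.order y := by
    intro y hy
    by_contra hlt
    rw [not_le] at hlt
    obtain ⟨m, hm⟩ : ∃ m : ℕ, PowerSeries.order y = m :=
      ⟨(PowerSeries.order y).toNat, (ENat.coe_toNat (ne_top_of_lt hlt)).symm⟩
    rw [hm] at hlt
    have hmc : m < c := by exact_mod_cast hlt
    refine hT1 (y * PowerSeries.X ^ (c - 1 - m)) (hy _) ?_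
    rw [PowerSeries.order_mul, hm, PowerSeries.order_X_pow, ← Nat.cast_add]
    congr 1; omega
  constructor
  · rintro ⟨u, hun, huM⟩
    by_cases hcn : c ≤ n
    · exact Or.inl hcn
    · right
      rintro ⟨m, hmM, hm⟩
      refine hT1 (u * m) (huM m hmM) ?_
      rw [PowerSeries.order_mul, hun, hm, ← Nat.cast_add]
      congr 1; omega
  · intro hor
    by_cases hcn : c ≤ n
    · refine ⟨PowerSeries.X ^ n, PowerSeries.order_X_pow n, fun m _ => hAω _ (hcond _ ?_)⟩
      rw [PowerSeries.order_mul, PowerSeries.order_X_pow]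
      exact le_trans (by exact_mod_cast hcn) le_self_add
    · have hno : ¬ ∃ m ∈ M, PowerSeries.order m = ((c - 1 - n : ℕ) : ℕ∞) := hor.resolve_left hcn
      have hnc : n < c := not_le.1 hcn
      obtain ⟨j, hj⟩ : ∃ j : ℕ, j = c - 1 - n := ⟨_, rfl⟩
      rw [← hj] at hno
      let I : Submodule ↥A (PowerSeries k) := M ⊔ ordGE A (j + 1)
      let J : Submodule ↥A (PowerSeries k) := M ⊔ ordGE A j
      have hanti : ordGE A (j + 1) ≤ ordGE A j := by
        intro f hf
        have hf' : ((j + 1 : ℕ) : ℕ∞) ≤ PowerSeries.order f := hf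
        exact le_trans (by exact_mod_cast Nat.le_succ j) hf'
      have hgJ : (PowerSeries.X : PowerSeries k) ^ j ∈ J := by
        refine Submodule.mem_sup_right ?_
        change (j : ℕ∞) ≤ PowerSeries.order ((PowerSeries.X : PowerSeries k) ^ j)
        rw [PowerSeries.order_X_pow]
      have hJle : J ≤ I ⊔ Submodule.span ↥A {(PowerSeries.X : PowerSeries k) ^ j} := by
        refine sup_le (le_sup_of_le_left le_sup_left) ?_
        intro f hf
        have hf' : (j : ℕ∞) ≤ PowerSeries.order f := hf
        have h1 : f - PowerSeries.C (PowerSeries.coeff j f) * PowerSeries.X ^ j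
            ∈ ordGE A (j + 1) := by
          change ((j + 1 : ℕ) : ℕ∞) ≤ PowerSeries.order _
          apply PowerSeries.nat_le_order
          intro i hi
          rw [map_sub, PowerSeries.coeff_C_mul_X_pow]
          split_ifs with hij
          · rw [hij, sub_self]
          · rw [sub_zero]
            have hij' : i < j := by omega
            exact PowerSeries.coeff_of_lt_order i
              (lt_of_lt_of_le (by exact_mod_cast hij') hf')
        have h2 : PowerSeries.C (PowerSeries.coeff j f) * PowerSeries.X ^ j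
            ∈ Submodule.span ↥A {(PowerSeries.X : PowerSeries k) ^ j} := by
          rw [Submodule.mem_span_singleton]
          exact ⟨algebraMap k ↥A (PowerSeries.coeff j f), by rw [Algebra.smul_def]; rfl⟩
        have h3 : f = (f - PowerSeries.C (PowerSeries.coeff j f) * PowerSeries.X ^ j)
            + PowerSeries.C (PowerSeries.coeff j f) * PowerSeries.X ^ j := by ring
        rw [h3]
        exact Submodule.add_mem _ (Submodule.mem_sup_left (Submodule.mem_sup_right h1))
          (Submodule.mem_sup_right h2)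
      have hgI : (PowerSeries.X : PowerSeries k) ^ j ∉ I := by
        intro hmem
        obtain ⟨m, hmM, f', hf', hsum⟩ := Submodule.mem_sup.1 hmem
        apply hno
        refine ⟨m, hmM, ?_⟩
        have hm : m = PowerSeries.X ^ j - f' := by rw [← hsum]; ring
        have hf'' : ((j + 1 : ℕ) : ℕ∞) ≤ PowerSeries.order f' := hf'
        rw [hm, PowerSeries.order_eq_nat]
        constructor
        · rw [map_sub, PowerSeries.coeff_X_pow_self, PowerSeries.coeff_of_lt_order j
            (lt_of_lt_of_le (by exact_mod_cast Nat.lt_succ_self j) hf''), sub_zero]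
          exact one_ne_zero
        · intro i hi
          have hne : i ≠ j := by omega
          have hlt : i < j + 1 := by omega
          rw [map_sub, PowerSeries.coeff_X_pow, if_neg hne, PowerSeries.coeff_of_lt_order i
            (lt_of_lt_of_le (by exact_mod_cast hlt) hf''), sub_zero]
      have hmg : ∀ a ∈ IsLocalRing.maximalIdeal ↥A,
          a • (PowerSeries.X : PowerSeries k) ^ j ∈ I := by
        intro a ha
        refine Submodule.mem_sup_right ?_
        change ((j + 1 : ℕ) : ℕ∞) ≤ PowerSeries.order (a • (PowerSeries.X : PowerSeries k) ^ j)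
        rw [Algebra.smul_def, PowerSeries.order_mul, PowerSeries.order_X_pow]
        calc ((j + 1 : ℕ) : ℕ∞) = 1 + (j : ℕ∞) := by rw [Nat.cast_add, Nat.cast_one, add_comm]
          _ ≤ _ := add_le_add (hmax a ha) le_rfl
      obtain ⟨u, hu1, hu2⟩ := Groth.Agent.H72.CanonDual.cover hinj hfrac hnf ω hω1 hωfg hωinj I J
        (sup_le_sup_left hanti M) (IsNoetherian.noetherian J) 1 (Submodule.mem_sup_left hM1)
        isUnit_one (PowerSeries.X ^ j) hgJ hJle hgI hmg
      have hu0 : u ≠ 0 := by
        rintro rfl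
        apply hu2
        rw [zero_mul]
        exact ω.zero_mem
      obtain ⟨d, hd⟩ : ∃ d : ℕ, PowerSeries.order u = d :=
        ⟨(PowerSeries.order u).toNat, (ENat.coe_toNat (by
          rw [Ne, PowerSeries.order_eq_top]; exact hu0)).symm⟩
      have h_ge : n ≤ d := by
        have h := hT2 (u * PowerSeries.X ^ (j + 1)) (fun l => by
          rw [mul_assoc]
          apply hu1
          refine Submodule.mem_sup_right ?_
          change ((j + 1 : ℕ) : ℕ∞) ≤ PowerSeries.order (PowerSeries.X ^ (j + 1) * l)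
          rw [PowerSeries.order_mul, PowerSeries.order_X_pow]
          exact le_self_add)
        rw [PowerSeries.order_mul, hd, PowerSeries.order_X_pow, ← Nat.cast_add] at h
        have h' : c ≤ d + (j + 1) := by exact_mod_cast h
        omega
      have h_le : d ≤ n := by
        by_contra hlt
        apply hu2
        apply hAω
        apply hcond
        rw [PowerSeries.order_mul, hd, PowerSeries.order_X_pow, ← Nat.cast_add]
        have h' : c ≤ d + j := by omega
        exact_mod_cast h'
      refine ⟨u, ?_, fun m hm => hu1 m (Submodule.mem_sup_left hm)⟩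
      rw [hd]
      exact_mod_cast le_antisymm h_le h_ge

/-- The facts about `A` needed by `core`. -/
theorem setup (k : Type u) [Field k] [IsAlgClosed k] (A : Subalgebra k (PowerSeries k))
    (hA : Module.Finite ↥A (PowerSeries k))
    (hcl : ∀ f : PowerSeries k, (∀ n : ℕ, ∃ g ∈ A, (n : ℕ∞) ≤ PowerSeries.order (f - g)) → f ∈ A)
    (hsing : A ≠ ⊤) (Γ : Set ℕ) (hΓ : ∀ n : ℕ, n ∈ Γ ↔ ∃ f ∈ A, PowerSeries.order f = n) (c : ℕ)
    (hc : ∀ n : ℕ, c ≤ n → n ∈ Γ) (hc0 : c ≠ 0) (hc1 : c - 1 ∉ Γ) :
    ∃ (_ : IsLocalRing ↥A) (_ : IsNoetherianRing ↥A) (_ : IsNoetherian ↥A (PowerSeries k)),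
      (∀ f : PowerSeries k, (c : ℕ∞) ≤ PowerSeries.order f → f ∈ A) ∧
      (∀ a : ↥A, a ∈ IsLocalRing.maximalIdeal ↥A →
        (1 : ℕ∞) ≤ PowerSeries.order (a : PowerSeries k)) ∧
      (∀ a : ↥A, IsUnit a → IsUnit (a : PowerSeries k)) := by
  classical
  have hcond : ∀ f : PowerSeries k, (c : ℕ∞) ≤ PowerSeries.order f → f ∈ A := by
    intro f hf
    have h := ((Groth.Agent.S15016.result k A hA hcl hsing Γ hΓ c hc hc0 hc1 f).2 hf) 1
    rw [one_mul] at h
    exact h
  haveI : Module.Finite ↥A (PowerSeries k) := hA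
  haveI : Algebra.IsIntegral ↥A (PowerSeries k) := Algebra.IsIntegral.of_finite ↥A (PowerSeries k)
  have hinj : Function.Injective (algebraMap ↥A (PowerSeries k)) := fun a b h => Subtype.ext h
  haveI : FaithfulSMul ↥A (PowerSeries k) :=
    (faithfulSMul_iff_algebraMap_injective ↥A (PowerSeries k)).mpr hinj
  haveI : IsLocalHom (algebraMap ↥A (PowerSeries k)) := inferInstance
  haveI hloc : IsLocalRing ↥A := RingHom.domain_isLocalRing (algebraMap ↥A (PowerSeries k))
  haveI hnoeth : IsNoetherianRing ↥A :=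
    Groth.Agent.H75.EakinNagata.isNoetherianRing_of_finite (B := ↥A) (A := PowerSeries k) hinj
  have hnm : IsNoetherian ↥A (PowerSeries k) :=
    isNoetherian_of_isNoetherianRing_of_finite ↥A (PowerSeries k)
  refine ⟨hloc, hnoeth, hnm, hcond, ?_, ?_⟩
  · intro a ha
    have hnu : ¬ IsUnit (a : PowerSeries k) := by
      intro hu
      have h1 : IsUnit a := isUnit_of_map_unit (algebraMap ↥A (PowerSeries k)) a hu
      exact (IsLocalRing.mem_maximalIdeal a).1 ha h1
    have hc0' : PowerSeries.constantCoeff (a : PowerSeries k) = 0 := by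
      by_contra h
      exact hnu (PowerSeries.isUnit_iff_constantCoeff.2 (IsUnit.mk0 _ h))
    have h2 := PowerSeries.nat_le_order (a : PowerSeries k) 1 (fun i hi => by
      have hi0 : i = 0 := by omega
      subst hi0
      rw [PowerSeries.coeff_zero_eq_constantCoeff_apply]; exact hc0')
    exact_mod_cast h2
  · intro a ha
    exact ha.map (algebraMap ↥A (PowerSeries k))

/-- Let k be an algebraically closed field and A ≠ k[[t]] a k-subalgebra of k[[t]] that is closed in the
t-adic topology and over which k[[t]] is a finite module (as for the complete local ring of a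
unibranch curve singularity inside its normalisation), let Γ ⊆ ℕ be the set of t-orders of the
nonzero elements of A (its value semigroup) with conductor c (every n ≥ c lies in Γ, c ≥ 1, c − 1 ∉
Γ), and suppose A is not Gorenstein. Let ω be a finitely generated A-submodule of k[[t]] containing
1 whose injective dimension as an A-module is at most one (a canonical ideal of A placed between A
and k[[t]]). Then for every finitely generated A-submodule M of k[[t]] containing 1 (a rank-one
torsion-free module in normal form) the A-linear maps M → ω are the multiplications by power series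
u with uM ⊆ ω, and the set of orders of such u is the dual of the value set of M: a natural number n
is the order of some u with uM ⊆ ω if and only if n ≥ c or c − 1 − n is not the order of any element
of M. (For M = A this is the first assertion, that the value set of ω is the dual of Γ. The
published statement does not exclude the Gorenstein case; this row assumes that A is not Gorenstein,
as the printed argument for the value set of ω does.) -/
theorem result (k : Type u) [Field k] [IsAlgClosed k] (A : Subalgebra k (PowerSeries k)) (hA : Module.Finite ↥A (PowerSeries k)) (hcl : ∀ f : PowerSeries k, (∀ n : ℕ, ∃ g ∈ A, (n : ℕ∞) ≤ PowerSeries.order (f - g)) → f ∈ A) (hsing : A ≠ ⊤) (Γ : Set ℕ) (hΓ : ∀ n : ℕ, n ∈ Γ ↔ ∃ f ∈ A, PowerSeries.order f = n) (c : ℕ) (hc : ∀ n : ℕ, c ≤ n → n ∈ Γ) (hc0 : c ≠ 0) (hc1 : c - 1 ∉ Γ) (hG : ¬ LocCoh.IsGorensteinLocalRing ↥A) (ω : Submodule ↥A (PowerSeries k)) (hω1 : (1 : PowerSeries k) ∈ ω) (hωfg : ω.FG) (hωinj : HasInjectiveDimensionLT (ModuleCat.of ↥A ↥ω) 2) (M : Submodule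 ↥A (PowerSeries k)) (hMfg : M.FG) (hM1 : (1 : PowerSeries k) ∈ M) (n : ℕ) : (∃ u : PowerSeries k, PowerSeries.order u = n ∧ ∀ m ∈ M, u * m ∈ ω) ↔ (c ≤ n ∨ ¬ ∃ m ∈ M, PowerSeries.order m = ((c - 1 - n : ℕ) : ℕ∞)) := by
  obtain ⟨hloc, hnoeth, hnm, hcond, hmax, hunit⟩ := setup k A hA hcl hsing Γ hΓ c hc hc0 hc1
  exact core k A Γ hΓ c hc hc0 hc1 hcond hmax hunit ω hω1 hωfg hωinj M hM1 n

end Groth.Agent.S19528
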