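import Groth.Statements.S15022
import Groth.Agent.S19528

set_option autoImplicit false
universe u
open CategoryTheory
open TFCurv

namespace Groth.Agent.S15022

/-- Let k be an algebraically closed field and A ≠ k[[t]] a k-subalgebra of k[[t]] that is closed in the
t-adic topology and over which k[[t]] is a finite module (as for the complete local ring of a
unibranch curve singularity inside its normalisation), and let Γ ⊆ ℕ be the set of t-orders of the
nonzero elements of A (its value semigroup); let c be the conductor of Γ (every n ≥ c lies in Γ, c −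
1 does not) and suppose A is not Gorenstein. If w is an A-submodule of k[[t]] with 1 ∈ w whose
injective dimension as an A-module is at most one (a canonical ideal of A placed between A and
k[[t]]), then the value set of w is the dual of Γ: a natural number n is the t-order of some element
of w exactly when n ≥ c or c − 1 − n is a gap of Γ. (The published statement does not exclude the
Gorenstein case; this row assumes that A is not Gorenstein.) -/
theorem result (k : Type u) [Field k] [IsAlgClosed k] (A : Subalgebra k (PowerSeries k)) (hA : Module.Finite ↥A (PowerSeries k)) (hcl : ∀ f : PowerSeries k, (∀ n : ℕ, ∃ g ∈ A, (n : ℕ∞) ≤ PowerSeries.order (f - g)) → f ∈ A) (hsing : A ≠ ⊤) (Γ : Set ℕ) (hΓ : ∀ n : ℕ, n ∈ Γ ↔ ∃ f ∈ A, PowerSeries.order f = n) (c : ℕ) (hc : ∀ n : ℕ, c ≤ n → n ∈ Γ) (hc0 : c ≠ 0) (hc1 : c - 1 ∉ Γ) (hG : ¬ LocCoh.IsGorensteinLocalRing ↥A) (ω : Submodule ↥A (PowerSeries k)) (hω1 : (1 : PowerSeries k) ∈ ω) (hωfg : ω.FG) (hωinj : HasInjectiveDimensionLT (ModuleCat.of ↥A ↥ω) 2) (n :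 ℕ) : (∃ f ∈ ω, PowerSeries.order f = n) ↔ (c ≤ n ∨ c - 1 - n ∉ Γ) := by
  have hmem : ∀ f : PowerSeries k, f ∈ (1 : Submodule ↥A (PowerSeries k)) ↔ f ∈ A := by
    intro f
    rw [Submodule.mem_one]
    constructor
    · rintro ⟨y, rfl⟩; exact y.2
    · intro hf; exact ⟨⟨f, hf⟩, rfl⟩
  have hfg1 : (1 : Submodule ↥A (PowerSeries k)).FG := by
    rw [Submodule.one_eq_span]; exact Submodule.fg_span_singleton _
  have key := Groth.Agent.S19528.result k A hA hcl hsing Γ hΓ c hc hc0 hc1 hG ω hω1 hωfg hωinj 1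
    hfg1 ((hmem 1).2 A.one_mem) n
  constructor
  · rintro ⟨f, hfω, hfn⟩
    have h1 := key.1 ⟨f, hfn, fun m hm => by
      obtain ⟨a, rfl⟩ := Submodule.mem_one.1 hm
      have h3 := ω.smul_mem a hfω
      rw [Algebra.smul_def] at h3
      rw [mul_comm]; exact h3⟩
    rcases h1 with h1 | h1
    · exact Or.inl h1
    · right
      intro hΓn
      apply h1
      obtain ⟨g, hgA, hg⟩ := (hΓ _).1 hΓn
      exact ⟨g, (hmem g).2 hgA, hg⟩
  · intro hor
    have h2 : c ≤ n ∨ ¬ ∃ m ∈ (1 : Submodule ↥A (PowerSeries k)),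
        PowerSeries.order m = ((c - 1 - n : ℕ) : ℕ∞) := by
      rcases hor with h | h
      · exact Or.inl h
      · right
        rintro ⟨m, hm1, hm⟩
        exact h ((hΓ _).2 ⟨m, (hmem m).1 hm1, hm⟩)
    obtain ⟨u, hun, hu⟩ := key.2 h2
    refine ⟨u, ?_, hun⟩
    have h3 := hu 1 ((hmem 1).2 A.one_mem)
    rw [mul_one] at h3
    exact h3

end Groth.Agent.S15022
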