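import Groth.Statements.S15023
import Mathlib

set_option autoImplicit false
universe u
open TFCurv

namespace Groth.Agent.S15023



open PowerSeries

/-- value set of a k-subspace of k[[t]] -/
def vset {k : Type u} [Field k] (W : Submodule k (PowerSeries k)) : Set ℕ :=
  {n | ∃ w ∈ W, PowerSeries.order w = (n : ℕ∞)}

theorem reduce_aux {k : Type u} [Field k] (W : Submodule k (PowerSeries k)) (N : ℕ)
    (hN : ∀ f : PowerSeries k, (∀ i < N, coeff i f = 0) → f ∈ W) :
    ∀ (d n : ℕ), N ≤ n + d → ∀ f : PowerSeries k, (∀ i < n, coeff i f = 0) →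
      ∃ c : ℕ → k, (∀ i, c i ≠ 0 → n ≤ i ∧ i < N ∧ i ∉ vset W) ∧
        f - ∑ i ∈ Finset.range N, c i • (X : PowerSeries k) ^ i ∈ W := by
  classical
  intro d
  induction d with
  | zero =>
    intro n hn f hf
    refine ⟨fun _ => 0, fun i hi => absurd rfl hi, ?_⟩
    simp only [zero_smul, Finset.sum_const_zero, sub_zero]
    exact hN f (fun i hi => hf i (by omega))
  | succ d ih =>
    intro n hn f hf
    by_cases hnN : N ≤ n
    · refine ⟨fun _ => 0, fun i hi => absurd rfl hi, ?_⟩
      simp only [zero_smul, Finset.sum_const_zero, sub_zero]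
      exact hN f (fun i hi => hf i (by omega))
    push Not at hnN
    by_cases hv : n ∈ vset W
    · obtain ⟨w, hw, hwo⟩ := hv
      rw [order_eq_nat] at hwo
      obtain ⟨hb, hlow⟩ := hwo
      obtain ⟨f', hf'⟩ : ∃ f', f' = f - (coeff n f / coeff n w) • w := ⟨_, rfl⟩
      have hf'low : ∀ i < n + 1, coeff i f' = 0 := by
        intro i hi
        rw [hf', map_sub, map_smul, smul_eq_mul]
        rcases Nat.lt_succ_iff_lt_or_eq.mp hi with h | h
        · rw [hf i h, hlow i h, mul_zero, sub_zero]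
        · subst h
          rw [div_mul_cancel₀ _ hb, sub_self]
      obtain ⟨c, hc1, hc2⟩ := ih (n + 1) (by omega) f' hf'low
      refine ⟨c, fun i hi => ?_, ?_⟩
      · obtain ⟨h1, h2, h3⟩ := hc1 i hi
        exact ⟨by omega, h2, h3⟩
      · have : f - ∑ i ∈ Finset.range N, c i • (X : PowerSeries k) ^ i =
            (f' - ∑ i ∈ Finset.range N, c i • (X : PowerSeries k) ^ i) +
              (coeff n f / coeff n w) • w := by
          rw [hf']; ring
        rw [this]
        exact W.add_mem hc2 (W.smul_mem _ hw)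
    · obtain ⟨f', hf'⟩ : ∃ f', f' = f - (coeff n f) • (X : PowerSeries k) ^ n := ⟨_, rfl⟩
      have hf'low : ∀ i < n + 1, coeff i f' = 0 := by
        intro i hi
        rw [hf', map_sub, map_smul, smul_eq_mul, coeff_X_pow]
        rcases Nat.lt_succ_iff_lt_or_eq.mp hi with h | h
        · rw [hf i h, if_neg (by omega), mul_zero, sub_zero]
        · subst h
          rw [if_pos rfl, mul_one, sub_self]
      obtain ⟨c, hc1, hc2⟩ := ih (n + 1) (by omega) f' hf'low
      have hcn : c n = 0 := by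
        by_contra h
        have := (hc1 n h).1
        omega
      refine ⟨fun i => if i = n then coeff n f else c i, fun i hi => ?_, ?_⟩
      · by_cases hin : i = n
        · subst hin
          exact ⟨le_refl _, hnN, hv⟩
        · simp only [if_neg hin] at hi
          obtain ⟨h1, h2, h3⟩ := hc1 i hi
          exact ⟨by omega, h2, h3⟩
      · have hsum : ∑ i ∈ Finset.range N, (if i = n then coeff n f else c i) • (X : PowerSeries k) ^ i =
            ∑ i ∈ Finset.range N, c i • (X : PowerSeries k) ^ i + (coeff n f) • (X : PowerSeries k) ^ n := by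
          have h1 : ∀ i ∈ Finset.range N, (if i = n then coeff n f else c i) • (X : PowerSeries k) ^ i =
              c i • (X : PowerSeries k) ^ i + (if i = n then (coeff n f) • (X : PowerSeries k) ^ n else 0) := by
            intro i _
            by_cases hin : i = n
            · subst hin
              simp [hcn]
            · simp [hin]
          rw [Finset.sum_congr rfl h1, Finset.sum_add_distrib, Finset.sum_ite_eq' ,
            if_pos (Finset.mem_range.mpr hnN)]
        rw [hsum]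
        have : f - (∑ i ∈ Finset.range N, c i • (X : PowerSeries k) ^ i + (coeff n f) • (X : PowerSeries k) ^ n) =
            f' - ∑ i ∈ Finset.range N, c i • (X : PowerSeries k) ^ i := by
          rw [hf']; ring
        rw [this]
        exact hc2

theorem reduce {k : Type u} [Field k] (W : Submodule k (PowerSeries k)) (N : ℕ)
    (hN : ∀ f : PowerSeries k, (∀ i < N, coeff i f = 0) → f ∈ W)
    (n : ℕ) (f : PowerSeries k) (hf : ∀ i < n, coeff i f = 0) :
      ∃ c : ℕ → k, (∀ i, c i ≠ 0 → n ≤ i ∧ i < N ∧ i ∉ vset W) ∧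
        f - ∑ i ∈ Finset.range N, c i • (X : PowerSeries k) ^ i ∈ W :=
  reduce_aux W N hN N n (by omega) f hf

/-- conductor containment -/
theorem mem_of_vset_ge {k : Type u} [Field k] (W : Submodule k (PowerSeries k)) (N : ℕ)
    (hN : ∀ f : PowerSeries k, (∀ i < N, coeff i f = 0) → f ∈ W)
    (n : ℕ) (hn : ∀ m, n ≤ m → m ∈ vset W) (f : PowerSeries k) (hf : ∀ i < n, coeff i f = 0) :
    f ∈ W := by
  obtain ⟨c, hc1, hc2⟩ := reduce W N hN n f hf
  have hc0 : ∀ i, c i = 0 := by
    intro i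
    by_contra h
    obtain ⟨h1, _, h3⟩ := hc1 i h
    exact h3 (hn i h1)
  simpa [hc0] using hc2

theorem vset_compl_subset {k : Type u} [Field k] (W : Submodule k (PowerSeries k)) (N : ℕ)
    (hN : ∀ f : PowerSeries k, (∀ i < N, coeff i f = 0) → f ∈ W) :
    (vset W)ᶜ ⊆ ↑(Finset.range N) := by
  intro n hn
  by_contra h
  apply hn
  simp only [Finset.coe_range, Set.mem_Iio, not_lt] at h
  refine ⟨X ^ n, hN _ (fun i hi => ?_), order_X_pow n⟩
  rw [coeff_X_pow, if_neg (by omega)]

theorem finrank_quot_eq {k : Type u} [Field k] (W : Submodule k (PowerSeries k)) (N : ℕ)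
    (hN : ∀ f : PowerSeries k, (∀ i < N, coeff i f = 0) → f ∈ W) :
    Module.finrank k (PowerSeries k ⧸ W) = (vset W)ᶜ.ncard := by
  classical
  obtain ⟨G, hG⟩ : ∃ G : Finset ℕ, G = (Finset.range N).filter (fun i => i ∉ vset W) := ⟨_, rfl⟩
  have hGset : (vset W)ᶜ = ↑G := by
    ext n
    rw [hG]
    simp only [Set.mem_compl_iff, Finset.coe_filter, Finset.mem_range, Set.mem_ofPred_eq]
    constructor
    · intro h
      have := vset_compl_subset W N hN h
      simp only [Finset.coe_range, Set.mem_Iio] at this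
      exact ⟨this, h⟩
    · intro h; exact h.2
  rw [hGset, Set.ncard_coe_finset]
  -- the family
  obtain ⟨v, hv⟩ : ∃ v : G → (PowerSeries k ⧸ W), v = fun g : G => W.mkQ ((X : PowerSeries k) ^ (g : ℕ)) :=
    ⟨_, rfl⟩
  have hsumG : ∀ c : G → k, ∑ g, c g • v g =
      W.mkQ (∑ i ∈ G, (if h : i ∈ G then c ⟨i, h⟩ else 0) • (X : PowerSeries k) ^ i) := by
    intro c
    rw [map_sum, ← Finset.sum_coe_sort G]
    apply Finset.sum_congr rfl
    intro g _
    rw [hv, dif_pos g.2, map_smul]
  have hcoeff : ∀ (c : ℕ → k) (i : ℕ), coeff i (∑ j ∈ G, c j • (X : PowerSeries k) ^ j) =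
      if i ∈ G then c i else 0 := by
    intro c i
    rw [map_sum]
    simp only [map_smul, smul_eq_mul, coeff_X_pow, mul_ite, mul_one, mul_zero]
    rw [Finset.sum_ite_eq]
  have hli : LinearIndependent k v := by
    rw [Fintype.linearIndependent_iff]
    intro c hc
    rw [hsumG] at hc
    rw [Submodule.mkQ_apply, Submodule.Quotient.mk_eq_zero] at hc
    by_contra hne
    push Not at hne
    obtain ⟨g0, hg0⟩ := hne
    -- minimal index with nonzero coefficient
    obtain ⟨c', hc'⟩ : ∃ c' : ℕ → k, c' = fun i => if h : i ∈ G then c ⟨i, h⟩ else 0 := ⟨_, rfl⟩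
    have hex : ∃ n, c' n ≠ 0 := ⟨g0, by rw [hc']; simp only [dif_pos g0.2]; exact hg0⟩
    obtain ⟨hn0, hmin⟩ := Nat.find_spec hex, fun m => Nat.find_min hex (m := m)
    obtain ⟨n0, hn0def⟩ : ∃ n0, n0 = Nat.find hex := ⟨_, rfl⟩
    rw [← hn0def] at hn0 hmin
    have hn0G : n0 ∈ G := by
      by_contra h
      apply hn0
      rw [hc']
      simp only [dif_neg h]
    have hw : (∑ i ∈ G, c' i • (X : PowerSeries k) ^ i) ∈ W := by
      rw [hc']; exact hc
    have : n0 ∈ vset W := by
      refine ⟨_, hw, ?_⟩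
      rw [order_eq_nat]
      constructor
      · rw [hcoeff, if_pos hn0G]; exact hn0
      · intro i hi
        rw [hcoeff]
        by_cases hiG : i ∈ G
        · rw [if_pos hiG]
          by_contra h
          exact hmin i hi h
        · rw [if_neg hiG]
    rw [hG] at hn0G
    exact (Finset.mem_filter.mp hn0G).2 this
  have hspan : ⊤ ≤ Submodule.span k (Set.range v) := by
    intro x _
    obtain ⟨f, rfl⟩ := W.mkQ_surjective x
    obtain ⟨c, hc1, hc2⟩ := reduce W N hN 0 f (fun i hi => absurd hi (Nat.not_lt_zero i))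
    have hfq : W.mkQ f = W.mkQ (∑ i ∈ Finset.range N, c i • (X : PowerSeries k) ^ i) := by
      rw [← sub_eq_zero, ← map_sub, Submodule.mkQ_apply, Submodule.Quotient.mk_eq_zero]
      exact hc2
    rw [hfq, map_sum]
    apply Submodule.sum_mem
    intro i _
    rw [map_smul]
    by_cases hci : c i = 0
    · rw [hci, zero_smul]; exact Submodule.zero_mem _
    · obtain ⟨_, h2, h3⟩ := hc1 i hci
      have hiG : i ∈ G := by
        rw [hG]; exact Finset.mem_filter.mpr ⟨Finset.mem_range.mpr h2, h3⟩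
      apply Submodule.smul_mem
      apply Submodule.subset_span
      exact ⟨⟨i, hiG⟩, by rw [hv]⟩
  have hb := Module.finrank_eq_card_basis (Module.Basis.mk hli hspan)
  rw [hb, Fintype.card_coe]



theorem exists_embedding_ring {R : Type u} [CommRing R] [IsDomain R]
    (M : Type u) [AddCommGroup M] [Module R M] [Module.Finite R M] [NoZeroSMulDivisors R M]
    (hrk : Module.finrank (FractionRing R) (TensorProduct R (FractionRing R) M) = 1) :
    ∃ ψ : M →ₗ[R] R, Function.Injective ψ ∧ ∃ m, ψ m ≠ 0 := by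
  classical
  have : Module.Finite (FractionRing R) (TensorProduct R (FractionRing R) M) :=
    Module.finite_of_finrank_pos (by rw [hrk]; exact one_pos)
  obtain ⟨e⟩ : Nonempty (TensorProduct R (FractionRing R) M ≃ₗ[FractionRing R] FractionRing R) :=
    ⟨LinearEquiv.ofFinrankEq _ _ (by rw [hrk, Module.finrank_self])⟩
  obtain ⟨ι, hι⟩ : ∃ ι : M →ₗ[R] TensorProduct R (FractionRing R) M,
      ι = TensorProduct.mk R (FractionRing R) M 1 := ⟨_, rfl⟩
  have : IsLocalizedModule (nonZeroDivisors R) ι := by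
    rw [hι]
    exact (isLocalizedModule_iff_isBaseChange _ (FractionRing R) _).mpr
      (TensorProduct.isBaseChange R M (FractionRing R))
  have hιinj : Function.Injective ι := by
    rw [injective_iff_map_eq_zero]
    intro m hm
    rw [IsLocalizedModule.eq_zero_iff (nonZeroDivisors R)] at hm
    obtain ⟨s, hs⟩ := hm
    have hs0 : (s : R) ≠ 0 := nonZeroDivisors.coe_ne_zero s
    rcases smul_eq_zero.mp hs with h | h
    · exact absurd h hs0
    · exact h
  obtain ⟨θ, hθ⟩ : ∃ θ : M →ₗ[R] FractionRing R,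
      θ = (e.toLinearMap.restrictScalars R).comp ι := ⟨_, rfl⟩
  have hθinj : Function.Injective θ := by
    rw [hθ]
    exact e.injective.comp hιinj
  obtain ⟨s, hs⟩ := Module.Finite.fg_top (R := R) (M := M)
  obtain ⟨b, hb⟩ := IsLocalization.exist_integer_multiples_of_finset (nonZeroDivisors R)
    (S := FractionRing R) (s.image θ)
  have hint : ∀ m : M, IsLocalization.IsInteger R ((b : R) • θ m) := by
    intro m
    have hm : m ∈ Submodule.span R (s : Set M) := by rw [hs]; trivial
    induction hm using Submodule.span_induction with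
    | mem x hx => exact hb _ (Finset.mem_image_of_mem θ hx)
    | zero => rw [map_zero, smul_zero]; exact IsLocalization.isInteger_zero
    | add x y _ _ hx hy => rw [map_add, smul_add]; exact IsLocalization.isInteger_add hx hy
    | smul a x _ hx =>
      rw [map_smul, smul_comm]
      exact IsLocalization.isInteger_smul hx
  have hb0 : (b : R) ≠ 0 := nonZeroDivisors.coe_ne_zero b
  have halg : Function.Injective (Algebra.linearMap R (FractionRing R)) :=
    IsFractionRing.injective R (FractionRing R)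
  obtain ⟨ρ, hρ⟩ : ∃ ρ : M →ₗ[R] FractionRing R, ρ = (b : R) • θ := ⟨_, rfl⟩
  have hρrange : ∀ m, ρ m ∈ LinearMap.range (Algebra.linearMap R (FractionRing R)) := by
    intro m
    obtain ⟨a, ha⟩ := hint m
    exact ⟨a, by rw [hρ]; exact ha⟩
  have hρinj : Function.Injective ρ := by
    rw [injective_iff_map_eq_zero]
    intro m hm
    rw [hρ, LinearMap.smul_apply] at hm
    rcases smul_eq_zero.mp hm with h | h
    · exact absurd h hb0
    · exact hθinj (by rw [h, map_zero])
  obtain ⟨ψ, hψ⟩ : ∃ ψ : M →ₗ[R] R,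
      ψ = ((LinearEquiv.ofInjective (Algebra.linearMap R (FractionRing R)) halg).symm.toLinearMap).comp
          (ρ.codRestrict _ hρrange) := ⟨_, rfl⟩
  have hψinj : Function.Injective ψ := by
    rw [hψ, LinearMap.coe_comp]
    refine Function.Injective.comp
        (LinearEquiv.ofInjective (Algebra.linearMap R (FractionRing R)) halg).symm.injective ?_
    intro x y hxy
    apply hρinj
    have := congrArg Subtype.val hxy
    simpa using this
  refine ⟨ψ, hψinj, ?_⟩
  by_contra hcon
  push Not at hcon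
  have hsub : Subsingleton M := ⟨fun x y => hψinj (by rw [hcon x, hcon y])⟩
  have : Subsingleton (TensorProduct R (FractionRing R) M) := inferInstance
  have h0 : Module.finrank (FractionRing R) (TensorProduct R (FractionRing R) M) = 0 :=
    Module.finrank_zero_of_subsingleton
  omega

/-- conductor: some power of X multiplies everything into A -/
theorem exists_conductor {k : Type u} [Field k] (A : Subalgebra k (PowerSeries k))
    (hA : Module.Finite ↥A (PowerSeries k))
    (hbir : ∀ f : PowerSeries k, ∃ a ∈ A, a ≠ 0 ∧ a * f ∈ A) :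
    ∃ c : ℕ, ∀ f : PowerSeries k, (X : PowerSeries k) ^ c * f ∈ A := by
  classical
  obtain ⟨s, hs⟩ := hA.fg_top
  choose a ha ha0 haf using hbir
  obtain ⟨P, hP⟩ : ∃ P : PowerSeries k, P = ∏ g ∈ s, a g := ⟨_, rfl⟩
  have hPA : P ∈ A := by rw [hP]; exact Subalgebra.prod_mem _ (fun g _ => ha g)
  have hP0 : P ≠ 0 := by rw [hP]; exact Finset.prod_ne_zero_iff.mpr (fun g _ => ha0 g)
  have hPs : ∀ g ∈ s, P * g ∈ A := by
    intro g hg
    rw [hP, ← Finset.mul_prod_erase s a hg]
    have : (a g * ∏ x ∈ s.erase g, a x) * g = (∏ x ∈ s.erase g, a x) * (a g * g) := by ring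
    rw [this]
    exact A.mul_mem (Subalgebra.prod_mem _ (fun x _ => ha x)) (haf g)
  have hPall : ∀ f : PowerSeries k, P * f ∈ A := by
    intro f
    have hf : f ∈ Submodule.span ↥A (s : Set (PowerSeries k)) := by rw [hs]; trivial
    induction hf using Submodule.span_induction with
    | mem x hx => exact hPs x hx
    | zero => rw [mul_zero]; exact A.zero_mem
    | add x y _ _ hx hy => rw [mul_add]; exact A.add_mem hx hy
    | smul r x _ hx =>
      have : P * (r • x) = (r : PowerSeries k) * (P * x) := by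
        rw [Subalgebra.smul_def, smul_eq_mul]; ring
      rw [this]
      exact A.mul_mem r.2 hx
  obtain ⟨u, hu⟩ := X_pow_order_dvd (φ := P)
  have h1 := coeff_order hP0
  obtain ⟨c, hc⟩ : ∃ c, c = P.order.toNat := ⟨_, rfl⟩
  rw [← hc] at hu h1
  have hu0 : constantCoeff u ≠ 0 := by
    have h2 : coeff c ((X : PowerSeries k) ^ c * u) = coeff 0 u := by
      have := coeff_X_pow_mul u c 0
      rwa [zero_add] at this
    rw [← hu] at h2
    rw [h2] at h1
    simpa using h1
  have huu : IsUnit u := isUnit_iff_constantCoeff.mpr (isUnit_iff_ne_zero.mpr hu0)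
  obtain ⟨v, hv⟩ := huu.exists_right_inv
  refine ⟨c, fun f => ?_⟩
  have : (X : PowerSeries k) ^ c * f = P * (v * f) := by
    rw [hu]
    calc (X : PowerSeries k) ^ c * f = X ^ c * ((u * v) * f) := by
          rw [hv, one_mul]
      _ = _ := by ring
  rw [this]
  exact hPall _



theorem gap_lt (Γ V : Set ℕ) (hΓfin : Γᶜ.Finite) (hsub : Vᶜ ⊆ Γᶜ)
    (hadd : ∀ γ ∈ Γ, ∀ s ∈ V, γ + s ∈ V) (m : ℕ) (hm : m ∉ V) :
    m < Γᶜ.ncard + Vᶜ.ncard := by
  classical
  have hVfin : Vᶜ.Finite := hΓfin.subset hsub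
  obtain ⟨S1, hS1⟩ : ∃ S1 : Set ℕ, S1 = {i | i < m ∧ i ∈ V} := ⟨_, rfl⟩
  obtain ⟨S2, hS2⟩ : ∃ S2 : Set ℕ, S2 = {i | i < m ∧ i ∉ V} := ⟨_, rfl⟩
  have hunion : (↑(Finset.range m) : Set ℕ) = S1 ∪ S2 := by
    ext i
    rw [hS1, hS2]
    simp only [Finset.coe_range, Set.mem_Iio, Set.mem_union, Set.mem_ofPred_eq]
    tauto
  have hcard : m ≤ S1.ncard + S2.ncard := by
    have h1 : (↑(Finset.range m) : Set ℕ).ncard = m := by
      rw [Set.ncard_coe_finset, Finset.card_range]
    rw [← h1, hunion]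
    exact Set.ncard_union_le _ _
  have h1 : S1.ncard ≤ Γᶜ.ncard := by
    apply Set.ncard_le_ncard_of_injOn (fun i => m - i) _ _ hΓfin
    · intro i hi
      rw [hS1] at hi
      obtain ⟨hi1, hi2⟩ := hi
      intro hγ
      apply hm
      have := hadd _ hγ i hi2
      have h3 : m - i + i = m := by omega
      rwa [h3] at this
    · intro i hi i' hi' h
      rw [hS1] at hi hi'
      have := hi.1
      have := hi'.1
      simp only at h
      omega
  have h2 : S2.ncard < Vᶜ.ncard := by
    apply Set.ncard_lt_ncard _ hVfin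
    constructor
    · intro i hi
      rw [hS2] at hi
      exact hi.2
    · intro h
      have := h (show m ∈ Vᶜ from hm)
      rw [hS2] at this
      exact absurd this.1 (lt_irrefl m)
  omega

/-- Stage 1: a normalized copy `I'` of `M` inside `k[[t]]` containing a unit. -/
theorem exists_normalized {k : Type u} [Field k] (A : Subalgebra k (PowerSeries k))
    (M : Type u) [AddCommGroup M] [Module ↥A M] [Module.Finite ↥A M] [NoZeroSMulDivisors ↥A M]
    (hrk : Module.finrank (FractionRing ↥A) (TensorProduct ↥A (FractionRing ↥A) M) = 1) :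
    ∃ I' : Submodule ↥A (PowerSeries k), Nonempty (M ≃ₗ[↥A] ↥I') ∧
      ∃ u ∈ I', constantCoeff u ≠ 0 := by
  classical
  obtain ⟨ψ, hψinj, m1, hm1⟩ := exists_embedding_ring (R := ↥A) M hrk
  obtain ⟨Ψ, hΨ⟩ : ∃ Ψ : M →ₗ[↥A] PowerSeries k,
      Ψ = (Algebra.linearMap ↥A (PowerSeries k)).comp ψ := ⟨_, rfl⟩
  have hΨinj : Function.Injective Ψ := by
    rw [hΨ, LinearMap.coe_comp]
    exact Function.Injective.comp Subtype.val_injective hψinj
  have hΨm1 : Ψ m1 ≠ 0 := by
    intro h
    apply hm1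
    apply Subtype.val_injective
    rw [hΨ] at h
    simpa using h
  obtain ⟨I, hI⟩ : ∃ I : Submodule ↥A (PowerSeries k), I = LinearMap.range Ψ := ⟨_, rfl⟩
  have e1 : M ≃ₗ[↥A] ↥I := by
    rw [hI]; exact LinearEquiv.ofInjective Ψ hΨinj
  -- minimal order
  have hex : ∃ n : ℕ, ∃ f ∈ I, PowerSeries.order f = (n : ℕ∞) := by
    have hfin := order_finite_iff_ne_zero.mpr hΨm1
    refine ⟨(Ψ m1).order.toNat, Ψ m1, by rw [hI]; exact ⟨m1, rfl⟩, ?_⟩
    exact (ENat.coe_toNat (ne_of_lt hfin)).symm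
  obtain ⟨m0, hm0⟩ : ∃ m0, m0 = Nat.find hex := ⟨_, rfl⟩
  obtain ⟨f0, hf0I, hf0⟩ : ∃ f ∈ I, PowerSeries.order f = (m0 : ℕ∞) := by
    rw [hm0]; exact Nat.find_spec hex
  have hmin : ∀ f ∈ I, ∀ i < m0, coeff i f = 0 := by
    intro f hf i hi
    by_contra hne
    have hf0' : f ≠ 0 := by rintro rfl; simp at hne
    have hfin := order_finite_iff_ne_zero.mpr hf0'
    have hle : f.order ≤ i := order_le i hne
    have hnat : f.order = ((f.order.toNat : ℕ) : ℕ∞) := (ENat.coe_toNat (ne_of_lt hfin)).symm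
    have : Nat.find hex ≤ f.order.toNat := Nat.find_min' hex ⟨f, hf, hnat⟩
    rw [hnat] at hle
    have h2 : f.order.toNat ≤ i := by exact_mod_cast hle
    omega
  obtain ⟨L, hL⟩ : ∃ L : PowerSeries k →ₗ[↥A] PowerSeries k,
      L = LinearMap.mulLeft ↥A ((X : PowerSeries k) ^ m0) := ⟨_, rfl⟩
  have hLapp : ∀ x, L x = (X : PowerSeries k) ^ m0 * x := by intro x; rw [hL]; rfl
  obtain ⟨I', hI'⟩ : ∃ I' : Submodule ↥A (PowerSeries k), I' = I.comap L := ⟨_, rfl⟩
  have hX0 : (X : PowerSeries k) ^ m0 ≠ 0 := pow_ne_zero _ X_ne_zero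
  have e2 : ↥I' ≃ₗ[↥A] ↥I := by
    refine LinearEquiv.ofBijective (L.restrict (p := I') (q := I) (fun x hx => by rw [hI'] at hx; exact hx)) ⟨?_, ?_⟩
    · intro x y hxy
      have := congrArg Subtype.val hxy
      simp only [LinearMap.restrict_coe_apply, hLapp] at this
      exact Subtype.ext (mul_left_cancel₀ hX0 this)
    · intro y
      have hdvd : (X : PowerSeries k) ^ m0 ∣ (y : PowerSeries k) :=
        X_pow_dvd_iff.mpr (hmin y y.2)
      obtain ⟨g, hg⟩ := hdvd
      refine ⟨⟨g, ?_⟩, ?_⟩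
      · rw [hI']
        show L g ∈ I
        rw [hLapp, ← hg]; exact y.2
      · apply Subtype.ext
        simp only [LinearMap.restrict_coe_apply, hLapp]
        exact hg.symm
  refine ⟨I', ⟨e1.trans e2.symm⟩, ?_⟩
  obtain ⟨u, hu⟩ : (X : PowerSeries k) ^ m0 ∣ f0 := X_pow_dvd_iff.mpr (hmin f0 hf0I)
  refine ⟨u, ?_, ?_⟩
  · rw [hI']
    show L u ∈ I
    rw [hLapp, ← hu]; exact hf0I
  · rw [order_eq_nat] at hf0
    have h1 := hf0.1
    rw [hu] at h1
    have h2 : coeff m0 ((X : PowerSeries k) ^ m0 * u) = coeff 0 u := by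
      have := coeff_X_pow_mul u m0 0
      rwa [zero_add] at this
    rw [h2] at h1
    simpa using h1

theorem stage2 {k : Type u} [Field k] (A : Subalgebra k (PowerSeries k))
    (c : ℕ) (hc : ∀ f : PowerSeries k, (X : PowerSeries k) ^ c * f ∈ A)
    (Γ : Set ℕ) (hΓ : ∀ n : ℕ, n ∈ Γ ↔ ∃ f ∈ A, PowerSeries.order f = n)
    (I' : Submodule ↥A (PowerSeries k)) (u : PowerSeries k) (huI : u ∈ I')
    (hu0 : constantCoeff u ≠ 0) :
    ∃ M' : Submodule ↥A (PowerSeries k),
      (Ideal.span {(X : PowerSeries k) ^ (2 * Γᶜ.ncard)}).restrictScalars ↥A ≤ M' ∧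
      Nonempty (↥I' ≃ₗ[↥A] ↥M') ∧
      Module.finrank k (PowerSeries k ⧸ M'.restrictScalars k) = Γᶜ.ncard := by
  classical
  -- Γ facts
  have hΓge : ∀ n, c ≤ n → n ∈ Γ := by
    intro n hn
    rw [hΓ]
    refine ⟨X ^ n, ?_, order_X_pow n⟩
    have : (X : PowerSeries k) ^ n = X ^ c * X ^ (n - c) := by
      rw [← pow_add]; congr 1; omega
    rw [this]; exact hc _
  have hΓfin : Γᶜ.Finite := by
    apply (Finset.finite_toSet (Finset.range c)).subset
    intro n hn
    simp only [Finset.coe_range, Set.mem_Iio]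
    by_contra h
    exact hn (hΓge n (by omega))
  -- unit inverse
  have huu : IsUnit u := isUnit_iff_constantCoeff.mpr (isUnit_iff_ne_zero.mpr hu0)
  obtain ⟨v, hv⟩ := huu.exists_right_inv
  -- W = I' over k
  obtain ⟨W, hW⟩ : ∃ W : Submodule k (PowerSeries k), W = I'.restrictScalars k := ⟨_, rfl⟩
  have hWmem : ∀ x, x ∈ W ↔ x ∈ I' := by intro x; rw [hW]; exact Iff.rfl
  have hAsmul : ∀ a ∈ A, ∀ w ∈ I', a * w ∈ I' := by
    intro a ha w hw
    have := I'.smul_mem (⟨a, ha⟩ : ↥A) hw
    rwa [Subalgebra.smul_def, smul_eq_mul] at this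
  have hNW : ∀ f : PowerSeries k, (∀ i < c, coeff i f = 0) → f ∈ W := by
    intro f hf
    obtain ⟨g, hg⟩ := X_pow_dvd_iff.mpr hf
    rw [hWmem]
    have : f = (X ^ c * (g * v)) * u := by
      rw [hg]
      calc (X : PowerSeries k) ^ c * g = X ^ c * (g * (u * v)) := by rw [hv, mul_one]
        _ = _ := by ring
    rw [this]
    exact hAsmul _ (hc _) u huI
  obtain ⟨V, hV⟩ : ∃ V : Set ℕ, V = vset W := ⟨_, rfl⟩
  have hV0 : 0 ∈ V := by
    rw [hV]
    refine ⟨u, (hWmem u).mpr huI, ?_⟩
    exact order_eq_nat.mpr ⟨by simpa using hu0, fun i hi => absurd hi (Nat.not_lt_zero i)⟩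
  have hVadd : ∀ γ ∈ Γ, ∀ s ∈ V, γ + s ∈ V := by
    intro γ hγ s hs
    rw [hΓ] at hγ
    obtain ⟨a, ha, hao⟩ := hγ
    rw [hV] at hs ⊢
    obtain ⟨w, hw, hwo⟩ := hs
    refine ⟨a * w, (hWmem _).mpr (hAsmul a ha w ((hWmem w).mp hw)), ?_⟩
    rw [order_mul, hao, hwo, Nat.cast_add]
  have hsub : Vᶜ ⊆ Γᶜ := by
    intro n hn hγ
    apply hn
    have := hVadd n hγ 0 hV0
    rwa [add_zero] at this
  have hVfin : Vᶜ.Finite := hΓfin.subset hsub
  have hdle : Vᶜ.ncard ≤ Γᶜ.ncard := Set.ncard_le_ncard hsub hΓfin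
  obtain ⟨δ, hδ⟩ : ∃ δ, δ = Γᶜ.ncard := ⟨_, rfl⟩
  obtain ⟨d, hd⟩ : ∃ d, d = Vᶜ.ncard := ⟨_, rfl⟩
  rw [← hδ, ← hd] at hdle
  have hgap : ∀ m, δ + d ≤ m → m ∈ V := by
    intro m hm
    by_contra hmV
    have := gap_lt Γ V hΓfin hsub hVadd m hmV
    rw [← hδ, ← hd] at this
    omega
  -- shift
  obtain ⟨j, hj⟩ : ∃ j, j = δ - d := ⟨_, rfl⟩
  obtain ⟨L, hL⟩ : ∃ L : PowerSeries k →ₗ[↥A] PowerSeries k,
      L = LinearMap.mulLeft ↥A ((X : PowerSeries k) ^ j) := ⟨_, rfl⟩
  have hLapp : ∀ x, L x = (X : PowerSeries k) ^ j * x := by intro x; rw [hL]; rfl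
  have hXj0 : (X : PowerSeries k) ^ j ≠ 0 := pow_ne_zero _ X_ne_zero
  have hLinj : Function.Injective L := by
    intro x y hxy
    rw [hLapp, hLapp] at hxy
    exact mul_left_cancel₀ hXj0 hxy
  obtain ⟨M', hM'⟩ : ∃ M' : Submodule ↥A (PowerSeries k), M' = I'.map L := ⟨_, rfl⟩
  have hM'mem : ∀ x, x ∈ M' ↔ ∃ y ∈ I', (X : PowerSeries k) ^ j * y = x := by
    intro x
    rw [hM', Submodule.mem_map]
    constructor
    · rintro ⟨y, hy, rfl⟩; exact ⟨y, hy, (hLapp y).symm⟩
    · rintro ⟨y, hy, rfl⟩; exact ⟨y, hy, hLapp y⟩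
  obtain ⟨W', hW'⟩ : ∃ W' : Submodule k (PowerSeries k), W' = M'.restrictScalars k := ⟨_, rfl⟩
  have hW'mem : ∀ x, x ∈ W' ↔ x ∈ M' := by intro x; rw [hW']; exact Iff.rfl
  have hNW' : ∀ f : PowerSeries k, (∀ i < j + c, coeff i f = 0) → f ∈ W' := by
    intro f hf
    obtain ⟨g, hg⟩ := X_pow_dvd_iff.mpr hf
    rw [hW'mem, hM'mem]
    refine ⟨X ^ c * g, (hWmem _).mp (hNW _ ?_), ?_⟩
    · intro i hi
      rw [coeff_X_pow_mul', if_neg (by omega)]
    · rw [hg, pow_add]; ring
  -- value set of W'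
  have hvW' : ∀ n, n ∈ vset W' ↔ ∃ s ∈ V, n = j + s := by
    intro n
    constructor
    · rintro ⟨x, hx, hxo⟩
      rw [hW'mem, hM'mem] at hx
      obtain ⟨y, hy, rfl⟩ := hx
      have hy0 : y ≠ 0 := by
        rintro rfl
        rw [mul_zero, order_zero] at hxo
        exact ENat.top_ne_natCast n hxo
      have hfin := order_finite_iff_ne_zero.mpr hy0
      have hnat : y.order = ((y.order.toNat : ℕ) : ℕ∞) := (ENat.natCast_toNat (ne_of_lt hfin)).symm
      refine ⟨y.order.toNat, ?_, ?_⟩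
      · rw [hV]; exact ⟨y, (hWmem y).mpr hy, hnat⟩
      · rw [order_mul, order_X_pow, hnat, ← Nat.cast_add] at hxo
        exact_mod_cast hxo.symm
    · rintro ⟨s, hs, rfl⟩
      rw [hV] at hs
      obtain ⟨w, hw, hwo⟩ := hs
      refine ⟨X ^ j * w, (hW'mem _).mpr ((hM'mem _).mpr ⟨w, (hWmem w).mp hw, rfl⟩), ?_⟩
      rw [order_mul, order_X_pow, hwo, Nat.cast_add]
  have hcompl : (vset W')ᶜ = (↑(Finset.range j) : Set ℕ) ∪ (fun s => j + s) '' Vᶜ := by
    ext n
    simp only [Set.mem_compl_iff, Finset.coe_range, Set.mem_union, Set.mem_Iio, Set.mem_image]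
    rw [hvW']
    constructor
    · intro h
      by_cases hnj : n < j
      · left; exact hnj
      · right
        refine ⟨n - j, ?_, by omega⟩
        intro hs
        exact h ⟨n - j, hs, by omega⟩
    · rintro (h | ⟨s, hs, rfl⟩)
      · rintro ⟨s, _, rfl⟩; omega
      · rintro ⟨s', hs', h⟩
        have : s = s' := by omega
        rw [this] at hs
        exact hs hs'
  have hdisj : Disjoint (↑(Finset.range j) : Set ℕ) ((fun s => j + s) '' Vᶜ) := by
    rw [Set.disjoint_left]
    intro n hn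
    simp only [Finset.coe_range, Set.mem_Iio] at hn
    rintro ⟨s, _, hs⟩
    simp only at hs
    omega
  have hncard : (vset W')ᶜ.ncard = δ := by
    rw [hcompl, Set.ncard_union_eq hdisj (Finset.finite_toSet _) (hVfin.image _),
      Set.ncard_coe_finset, Finset.card_range,
      Set.ncard_image_of_injective _ (fun a b h => by simpa using h), ← hd]
    omega
  refine ⟨M', ?_, ⟨Submodule.equivMapOfInjective L hLinj I' |>.trans (LinearEquiv.ofEq _ _ hM'.symm)⟩, ?_⟩
  · intro f hf
    rw [Submodule.restrictScalars_mem, Ideal.mem_span_singleton] at hf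
    rw [← hW'mem]
    apply mem_of_vset_ge W' (j + c) hNW' (2 * δ)
    · intro m hm
      rw [hvW']
      exact ⟨m - j, hgap _ (by omega), by omega⟩
    · rw [← hδ] at hf
      exact X_pow_dvd_iff.mp hf
  · rw [← hW', finrank_quot_eq W' (j + c) hNW', hncard, hδ]

/-- Let k be an algebraically closed field and A ≠ k[[t]] a k-subalgebra of k[[t]] that is closed in the
t-adic topology, over which k[[t]] is a finite module, and such that every power series is carried
into A by multiplication with some nonzero element of A (so k[[t]] lies in the fraction field of A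
and is its normalisation, as for the complete local ring of a unibranch curve singularity), and let
Γ ⊆ ℕ be the set of t-orders of the nonzero elements of A (its value semigroup); assume moreover
that A is the monomial ring of Γ (a power series lies in A exactly when all its exponents lie in Γ),
and let δ be the number of gaps of Γ. Then every finitely generated torsion-free A-module of rank
one is isomorphic to an A-submodule M' of k[[t]] with t^{2δ} k[[t]] ⊆ M' and dim_k(k[[t]]/M') = δ,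
equivalently dim_k(M'/t^{2δ}k[[t]]) = δ: every isomorphism class of rank-one torsion-free modules is
represented by a δ-dimensional A-stable subspace of k[[t]]/t^{2δ}k[[t]]. -/
theorem result (k : Type u) [Field k] [IsAlgClosed k] (A : Subalgebra k (PowerSeries k)) (hA : Module.Finite ↥A (PowerSeries k)) (hcl : ∀ f : PowerSeries k, (∀ n : ℕ, ∃ g ∈ A, (n : ℕ∞) ≤ PowerSeries.order (f - g)) → f ∈ A) (hsing : A ≠ ⊤) (hbir : ∀ f : PowerSeries k, ∃ a ∈ A, a ≠ 0 ∧ a * f ∈ A) (Γ : Set ℕ) (hΓ : ∀ n : ℕ, n ∈ Γ ↔ ∃ f ∈ A, PowerSeries.order f = n) (hmono : ∀ f : PowerSeries k, f ∈ A ↔ ∀ n : ℕ, PowerSeries.coeff n f ≠ 0 → n ∈ Γ) (M : Type u) [AddCommGroup M] [Module ↥A M] [Module.Finite ↥A M] [NoZeroSMulDivisors ↥A M] (hrk : Module.finrank (FractionRing ↥A) (TensorProduct ↥A (FractionRing ↥A) M) = 1) : ∃ M' : Submodule ↥A (PowerSeries k), (Ideal.span {(PowerSeries.X : PowerSeries k) ^ (2 * Γᶜ.ncard)}).restrictScalars ↥A ≤ M' ∧ Nonempty (M ≃ₗ[↥A] ↥M') ∧ Module.finrank k (PowerSeries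 k ⧸ M'.restrictScalars k) = Γᶜ.ncard := by
  obtain ⟨c, hc⟩ := exists_conductor A hA hbir
  obtain ⟨I', ⟨e⟩, u, huI, hu0⟩ := exists_normalized A M hrk
  obtain ⟨M', h1, ⟨e'⟩, h3⟩ := stage2 A c hc Γ hΓ I' u huI hu0
  exact ⟨M', h1, ⟨e.trans e'⟩, h3⟩

end Groth.Agent.S15023
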