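import Groth.Statements.S15029
import Mathlib.Order.Lattice.Nat

set_option autoImplicit false
open TFCurv

namespace Groth.Agent.S15029

/-- Let Γ be a numerical semigroup (a submonoid of (ℕ, +) with finite complement), Γ ≠ ℕ, with conductor
c (every n ≥ c lies in Γ, c − 1 does not), and let S ⊆ ℕ be a Γ-module in normal form (0 ∈ S and γ +
s ∈ S for γ ∈ Γ, s ∈ S). If S ≠ ℕ then some gap n of S can be added (n + γ ∈ S for every nonzero γ ∈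
Γ, so S ∪ {n} is a Γ-module), and if S ≠ Γ then some s ∈ S outside Γ can be removed (s − γ ∉ S for
every nonzero γ ∈ Γ with γ ≤ s, so S ∖ {s} is a Γ-module containing Γ); iterating, S is joined to ℕ
and to Γ by chains in the diagram of Γ-modules, which is therefore connected. -/
theorem result (Γ : AddSubmonoid ℕ) (c : ℕ) (hc : ∀ n : ℕ, c ≤ n → n ∈ Γ) (hc0 : c ≠ 0) (hc1 : c - 1 ∉ Γ) (S : Set ℕ) (hS0 : (0 : ℕ) ∈ S) (hS : ∀ γ : ℕ, γ ∈ Γ → ∀ s : ℕ, s ∈ S → γ + s ∈ S) : (S ≠ Set.univ → ∃ n : ℕ, n ∉ S ∧ ∀ γ : ℕ, γ ∈ Γ → γ ≠ 0 → n + γ ∈ S) ∧ ((↑Γ : Set ℕ) ≠ S → ∃ s : ℕ, s ∈ S ∧ s ∉ Γ ∧ ∀ γ : ℕ, γ ∈ Γ → γ ≠ 0 → γ ≤ s → s - γ ∉ S) := by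
  have hΓS : ∀ γ : ℕ, γ ∈ Γ → γ ∈ S := by
    intro γ hγ
    have := hS γ hγ 0 hS0
    simpa using this
  constructor
  · intro hne
    have hne' : (Sᶜ).Nonempty := by
      rw [Set.nonempty_compl]; exact hne
    have hbdd : BddAbove (Sᶜ) := by
      refine ⟨c, fun n hn => ?_⟩
      by_contra hlt
      exact hn (hΓS n (hc n (by omega)))
    have hmem : sSup (Sᶜ) ∈ Sᶜ := Nat.sSup_mem hne' hbdd
    refine ⟨sSup (Sᶜ), hmem, fun γ _ hγ0 => ?_⟩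
    by_contra hn
    have : sSup (Sᶜ) + γ ≤ sSup (Sᶜ) := le_csSup hbdd hn
    omega
  · intro hne
    have hne' : (S \ (↑Γ : Set ℕ)).Nonempty := by
      by_contra hempty
      rw [Set.not_nonempty_iff_eq_empty, Set.sdiff_eq_empty] at hempty
      exact hne (Set.Subset.antisymm (fun γ hγ => hΓS γ hγ) hempty)
    have hmem : sInf (S \ (↑Γ : Set ℕ)) ∈ S \ (↑Γ : Set ℕ) := Nat.sInf_mem hne'
    refine ⟨sInf (S \ (↑Γ : Set ℕ)), hmem.1, hmem.2, fun γ hγ hγ0 hle hin => ?_⟩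
    have hΓmem : sInf (S \ (↑Γ : Set ℕ)) - γ ∈ Γ := by
      by_contra hnot
      have : sInf (S \ (↑Γ : Set ℕ)) ≤ sInf (S \ (↑Γ : Set ℕ)) - γ := Nat.sInf_le ⟨hin, hnot⟩
      omega
    have hsum : γ + (sInf (S \ (↑Γ : Set ℕ)) - γ) ∈ Γ := Γ.add_mem hγ hΓmem
    rw [Nat.add_sub_cancel' hle] at hsum
    exact hmem.2 hsum

end Groth.Agent.S15029
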