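import Groth.Statements.S1503
import Groth.Agent.S7067
-- import your own Groth.Agent.* helpers here

set_option autoImplicit false
universe u
attribute [local instance] HasDerivedCategory.standard
open FlatMor

namespace Groth.Agent.S1503

open AlgebraicGeometry CategoryTheory Limits in
/-- Let f : X → S with S locally Noetherian. Then f is pseudo-coherent (affine-locally: pseudo-coherent
ring maps) if and only if f is locally of finite type. -/
theorem result {X S : Scheme.{u}} (f : X ⟶ S) [IsLocallyNoetherian S] :
    MoreMor.IsPseudoCoherentMor f ↔ LocallyOfFiniteType f := by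
  rw [HasRingHomProperty.iff_appLE (P := @LocallyOfFiniteType)]
  constructor
  · intro hf U V e
    have h := hf V.1 U.1 V.2 U.2 e
    letI := (f.appLE U.1 V.1 e).hom.toAlgebra
    obtain ⟨n, φ, hφ, _⟩ := h
    exact (Algebra.FiniteType.iff_quotient_mvPolynomial''.2 ⟨n, φ, hφ⟩ :
      Algebra.FiniteType Γ(S, U.1) Γ(X, V.1))
  · intro hf U V hU hV hUV
    letI := (f.appLE V U hUV).hom.toAlgebra
    haveI : IsNoetherianRing Γ(S, V) := IsLocallyNoetherian.component_noetherian ⟨V, hV⟩
    haveI : Algebra.FiniteType Γ(S, V) Γ(X, U) := hf ⟨V, hV⟩ ⟨U, hU⟩ hUV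
    exact Groth.Agent.S7067.result _ _

end Groth.Agent.S1503
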