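import Groth.Statements.S15034
import Mathlib

set_option autoImplicit false
universe u
open TFCurv

namespace Groth.Agent.S15034

/-- Let k be an algebraically closed field and A ≠ k[[t]] a k-subalgebra of k[[t]] that is closed in the
t-adic topology and over which k[[t]] is a finite module (as for the complete local ring of a
unibranch curve singularity inside its normalisation), and let Γ ⊆ ℕ be the set of t-orders of the
nonzero elements of A (its value semigroup). Let M, N be finitely generated A-submodules of k[[t]]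
containing 1 (rank-one torsion-free modules in normal form), with value sets Γ(M), Γ(N) (orders of
their nonzero elements); the A-linear maps M → N are the multiplications by power series u with uM ⊆
N. Then the order of every such nonzero u satisfies n + Γ(M) ⊆ Γ(N), and although the set of these
orders can be smaller than S = {n | n + Γ(M) ⊆ Γ(N)}, the two sets have the same conductor: for
every c', all integers n ≥ c' are orders of multipliers exactly when all n ≥ c' lie in S. -/
theorem result (k : Type u) [Field k] [IsAlgClosed k] (A : Subalgebra k (PowerSeries k)) (hA : Module.Finite ↥A (PowerSeries k)) (hcl : ∀ f : PowerSeries k, (∀ n : ℕ, ∃ g ∈ A, (n : ℕ∞) ≤ PowerSeries.order (f - g)) → f ∈ A) (hsing : A ≠ ⊤) (Γ : Set ℕ) (hΓ : ∀ n : ℕ, n ∈ Γ ↔ ∃ f ∈ A, PowerSeries.order f = n) (M N : Submodule ↥A (PowerSeries k)) (hMfg : M.FG) (hNfg : N.FG) (hM1 : (1 : PowerSeries k) ∈ M) (hN1 : (1 : PowerSeries k) ∈ N) (ΓM ΓN : Set ℕ) (hΓM : ∀ n : ℕ, n ∈ ΓM ↔ ∃ f ∈ M, PowerSeries.order f = n) (hΓN : ∀ n : ℕ, n ∈ ΓN ↔ ∃ f ∈ N, PowerSeries.order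 f = n) : (∀ n : ℕ, (∃ u : PowerSeries k, PowerSeries.order u = n ∧ ∀ m ∈ M, u * m ∈ N) → ∀ a ∈ ΓM, n + a ∈ ΓN) ∧ ∀ c' : ℕ, (∀ n : ℕ, c' ≤ n → ∃ u : PowerSeries k, PowerSeries.order u = n ∧ ∀ m ∈ M, u * m ∈ N) ↔ (∀ n : ℕ, c' ≤ n → ∀ a ∈ ΓM, n + a ∈ ΓN) := by
  classical
  have part1 : ∀ n : ℕ, (∃ u : PowerSeries k, PowerSeries.order u = n ∧ ∀ m ∈ M, u * m ∈ N) →
      ∀ a ∈ ΓM, n + a ∈ ΓN := by
    intro n hu a ha
    obtain ⟨u, hun, hu⟩ := hu
    rw [hΓM] at ha
    obtain ⟨m, hm, hma⟩ := ha
    rw [hΓN]
    refine ⟨u * m, hu m hm, ?_⟩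
    rw [PowerSeries.order_mul, hun, hma]
    exact (Nat.cast_add n a).symm
  refine ⟨part1, fun c' => ⟨fun h n hn => part1 n (h n hn), fun h n hn => ?_⟩⟩
  have key : ∀ F : PowerSeries k, ((c' : ℕ) : ℕ∞) ≤ PowerSeries.order F → F ∈ N := by
    have h0 : (0 : ℕ) ∈ ΓM := by
      rw [hΓM]; exact ⟨1, hM1, by simp⟩
    have hN' : ∀ n : ℕ, c' ≤ n → ∃ g ∈ N, PowerSeries.order g = n := by
      intro n hn
      have h1 := h n hn 0 h0
      rw [add_zero, hΓN] at h1
      exact h1
    haveI : Algebra.IsIntegral ↥A (PowerSeries k) := Algebra.IsIntegral.of_finite ↥A (PowerSeries k)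
    have hunit : ∀ a : ↥A, IsUnit (a : PowerSeries k) → IsUnit a := by
      intro a ha
      by_contra hna
      obtain ⟨m, hm, ham⟩ := exists_max_ideal_of_mem_nonunits hna
      haveI := hm
      have hker : RingHom.ker (algebraMap ↥A (PowerSeries k)) ≤ m := by
        have h1 : RingHom.ker (algebraMap ↥A (PowerSeries k)) = ⊥ :=
          (RingHom.injective_iff_ker_eq_bot (algebraMap ↥A (PowerSeries k))).mp
            (fun x y hxy => Subtype.ext hxy)
        rw [h1]; exact bot_le
      obtain ⟨P, hPmax, hPcomap⟩ :=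
        Ideal.exists_ideal_over_maximal_of_isIntegral (S := PowerSeries k) m hker
      have hmem : (a : PowerSeries k) ∈ P := by
        have h1 : a ∈ P.comap (algebraMap ↥A (PowerSeries k)) := by rw [hPcomap]; exact ham
        exact h1
      exact hPmax.ne_top (Ideal.eq_top_of_isUnit_mem _ hmem ha)
    have hJ : ∀ x : ↥A, (1 : ℕ∞) ≤ PowerSeries.order (x : PowerSeries k) →
        x ∈ Ideal.jacobson (⊥ : Ideal ↥A) := by
      intro x hx
      rw [Ideal.mem_jacobson_bot]
      intro y
      apply hunit
      rw [PowerSeries.isUnit_iff_constantCoeff]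
      have hx0 : PowerSeries.constantCoeff (x : PowerSeries k) = 0 := by
        rw [← PowerSeries.coeff_zero_eq_constantCoeff_apply]
        exact PowerSeries.coeff_of_lt_order 0 (lt_of_lt_of_le (by simp) hx)
      have h1 : ((x * y + 1 : ↥A) : PowerSeries k) =
          (x : PowerSeries k) * (y : PowerSeries k) + 1 := rfl
      rw [h1, map_add, map_mul, hx0, zero_mul, zero_add, map_one]
      exact isUnit_one
    obtain ⟨f, e, he1, hfe⟩ : ∃ (f : ↥A) (e : ℕ), 1 ≤ e ∧
        PowerSeries.order (f : PowerSeries k) = e := by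
      by_contra hno
      push_neg at hno
      have hAbot : A = ⊥ := by
        rw [eq_bot_iff]
        intro a ha
        rw [Algebra.mem_bot]
        refine ⟨PowerSeries.constantCoeff a, ?_⟩
        by_contra hne
        obtain ⟨bb, hbb⟩ : ∃ bb : PowerSeries k,
            bb = a - algebraMap k (PowerSeries k) (PowerSeries.constantCoeff a) := ⟨_, rfl⟩
        have hbA : bb ∈ A := by
          rw [hbb]; exact A.sub_mem ha (A.algebraMap_mem _)
        have hb0 : bb ≠ 0 := by
          intro h0
          rw [hbb] at h0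
          exact hne (sub_eq_zero.mp h0).symm
        have hcc : PowerSeries.coeff 0 bb = 0 := by
          rw [hbb]
          simp [PowerSeries.algebraMap_apply]
        have hord := PowerSeries.coe_toNat_order hb0
        have hpos : 1 ≤ (PowerSeries.order bb).toNat := by
          by_contra hlt
          have hz : (PowerSeries.order bb).toNat = 0 := by omega
          have h1 := PowerSeries.coeff_order hb0
          rw [hz] at h1
          exact h1 hcc
        exact hno ⟨bb, hbA⟩ _ hpos hord.symm
      subst hAbot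
      haveI : Module.Finite k (PowerSeries k) :=
        Module.Finite.trans (↥(⊥ : Subalgebra k (PowerSeries k))) (PowerSeries k)
      obtain ⟨φ, hφ⟩ : ∃ φ : Polynomial k →ₗ[k] PowerSeries k,
          ∀ p, φ p = (p : PowerSeries k) :=
        ⟨{ toFun := fun p => (p : PowerSeries k)
           map_add' := fun p q => Polynomial.coe_add p q
           map_smul' := fun c p => Polynomial.coe_smul p c }, fun p => rfl⟩
      have hinj : Function.Injective φ := by
        intro p q hpq
        rw [hφ, hφ] at hpq
        exact Polynomial.coe_injective k hpq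
      haveI : FiniteDimensional k (Polynomial k) := FiniteDimensional.of_injective φ hinj
      exact Polynomial.not_finite (R := k) inferInstance
    obtain ⟨I, hI⟩ : ∃ I : Ideal ↥A, I = Ideal.span {f} := ⟨_, rfl⟩
    have hIJ : I ≤ Ideal.jacobson (⊥ : Ideal ↥A) := by
      rw [hI, Ideal.span_le]
      intro x hx
      rw [Set.mem_singleton_iff] at hx
      rw [hx]
      exact hJ _ (by rw [hfe]; exact_mod_cast he1)
    obtain ⟨L, hLdef⟩ : ∃ L : Submodule ↥A (PowerSeries k), L = Submodule.map
        (LinearMap.mulLeft ↥A ((PowerSeries.X : PowerSeries k) ^ c')) ⊤ := ⟨_, rfl⟩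
    have hLfg : L.FG := by
      rw [hLdef]
      exact Submodule.FG.map _ Module.Finite.fg_top
    have hLmem : ∀ F : PowerSeries k, F ∈ L ↔
        ∃ G : PowerSeries k, (PowerSeries.X : PowerSeries k) ^ c' * G = F := by
      intro F
      rw [hLdef, Submodule.mem_map]
      constructor
      · rintro ⟨G, -, hG⟩; exact ⟨G, hG⟩
      · rintro ⟨G, hG⟩; exact ⟨G, Submodule.mem_top, hG⟩
    have hLord : ∀ F : PowerSeries k, ((c' : ℕ) : ℕ∞) ≤ PowerSeries.order F → F ∈ L := by
      intro F hF
      rw [hLmem]
      have hdvd : (PowerSeries.X : PowerSeries k) ^ c' ∣ F := by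
        rw [PowerSeries.X_pow_dvd_iff]
        intro m hm
        exact PowerSeries.coeff_of_lt_order m (lt_of_lt_of_le (by exact_mod_cast hm) hF)
      obtain ⟨G, hG⟩ := hdvd
      exact ⟨G, hG.symm⟩
    have hfdvd : (PowerSeries.X : PowerSeries k) ^ e ∣ (f : PowerSeries k) := by
      rw [PowerSeries.X_pow_dvd_iff]
      exact (PowerSeries.order_eq_nat.mp hfe).2
    obtain ⟨v, hv⟩ := hfdvd
    have hvunit : IsUnit v := by
      rw [PowerSeries.isUnit_iff_constantCoeff, ← PowerSeries.coeff_zero_eq_constantCoeff_apply]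
      have h1 := (PowerSeries.order_eq_nat.mp hfe).1
      rw [hv] at h1
      have h2 : PowerSeries.coeff e ((PowerSeries.X : PowerSeries k) ^ e * v) =
          PowerSeries.coeff 0 v := by
        have h3 := PowerSeries.coeff_X_pow_mul v e 0
        rwa [zero_add] at h3
      rw [h2] at h1
      exact isUnit_iff_ne_zero.mpr h1
    obtain ⟨w, hw⟩ := hvunit.exists_right_inv
    have hdeep : ∀ F : PowerSeries k, (((c' + e : ℕ)) : ℕ∞) ≤ PowerSeries.order F →
        F ∈ I • L := by
      intro F hF
      have hdvd : (PowerSeries.X : PowerSeries k) ^ (c' + e) ∣ F := by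
        rw [PowerSeries.X_pow_dvd_iff]
        intro m hm
        exact PowerSeries.coeff_of_lt_order m (lt_of_lt_of_le (by exact_mod_cast hm) hF)
      obtain ⟨H, hH⟩ := hdvd
      have hfI : f ∈ I := by rw [hI]; exact Ideal.mem_span_singleton_self f
      have hmemL : (PowerSeries.X : PowerSeries k) ^ c' * (w * H) ∈ L :=
        (hLmem _).mpr ⟨w * H, rfl⟩
      have h1 := Submodule.smul_mem_smul hfI hmemL
      have heq : f • ((PowerSeries.X : PowerSeries k) ^ c' * (w * H)) = F := by
        have h2 : f • ((PowerSeries.X : PowerSeries k) ^ c' * (w * H)) =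
            (f : PowerSeries k) * ((PowerSeries.X : PowerSeries k) ^ c' * (w * H)) := rfl
        rw [h2, hv, hH, pow_add]
        linear_combination ((PowerSeries.X : PowerSeries k) ^ c' *
          (PowerSeries.X : PowerSeries k) ^ e * H) * hw
      rwa [heq] at h1
    have hL : L ≤ N ⊔ I • L := by
      intro F hF
      obtain ⟨G, hG⟩ := (hLmem F).mp hF
      have hFord : ((c' : ℕ) : ℕ∞) ≤ PowerSeries.order F := by
        rw [← hG, PowerSeries.order_mul, PowerSeries.order_X_pow]
        exact le_self_add
      have stepA : ∀ j : ℕ, j ≤ e → ∃ g ∈ N, ((c' + j : ℕ) : ℕ∞) ≤ PowerSeries.order (F - g) := by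
        intro j
        induction j with
        | zero =>
          intro _
          exact ⟨0, N.zero_mem, by rw [sub_zero, add_zero]; exact hFord⟩
        | succ j ih =>
          intro hj
          obtain ⟨g, hgN, hg⟩ := ih (by omega)
          obtain ⟨gj, hgjN, hgj⟩ := hN' (c' + j) (by omega)
          obtain ⟨hgj1, hgj2⟩ := PowerSeries.order_eq_nat.mp hgj
          obtain ⟨lam, hlam⟩ : ∃ lam : k, lam = PowerSeries.coeff (c' + j) (F - g) /
              PowerSeries.coeff (c' + j) gj := ⟨_, rfl⟩
          have hsm : lam • gj ∈ N := by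
            rw [← algebraMap_smul ↥A lam gj]
            exact N.smul_mem _ hgjN
          refine ⟨g + lam • gj, N.add_mem hgN hsm, ?_⟩
          apply PowerSeries.nat_le_order
          intro i hi
          rw [sub_add_eq_sub_sub, map_sub, PowerSeries.coeff_smul, smul_eq_mul]
          by_cases hi' : i < c' + j
          · rw [PowerSeries.coeff_of_lt_order i (lt_of_lt_of_le (by exact_mod_cast hi') hg),
              hgj2 i hi']
            ring
          · have hie : i = c' + j := by omega
            rw [hie, hlam, div_mul_cancel₀ _ hgj1, sub_self]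
      obtain ⟨g, hgN, hg⟩ := stepA e le_rfl
      rw [Submodule.mem_sup]
      exact ⟨g, hgN, F - g, hdeep _ hg, by ring⟩
    intro F hF
    exact (Submodule.le_of_le_smul_of_le_jacobson_bot hLfg hIJ hL) (hLord F hF)
  refine ⟨PowerSeries.X ^ n, PowerSeries.order_X_pow n, fun m _ => key _ ?_⟩
  rw [PowerSeries.order_mul, PowerSeries.order_X_pow]
  calc ((c' : ℕ) : ℕ∞) ≤ (n : ℕ∞) := by exact_mod_cast hn
    _ ≤ (n : ℕ∞) + PowerSeries.order m := le_self_add

end Groth.Agent.S15034
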