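import Groth.Statements.S15035
import Groth.Agent.H55.TFL.Mat
import Groth.Agent.H76.TFQ2
import Groth.Agent.S15009

set_option autoImplicit false
universe u
open TFCurv Groth.Agent.H55.TFL

namespace Groth.Agent.S15035

/-- Let O be a one-dimensional Gorenstein local domain with algebraically closed residue field whose
integral closure O~ in its fraction field K is a finite O-module, and C ⊆ O the conductor of O in
O~. Then every finitely generated torsion-free O-module of rank n is isomorphic to an O-submodule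
M'' of K^n with C^n ⊆ M'' ⊆ O^n. (For a general O the published statement places M'' between (O~*)^n
and ω^n for the canonical ideal ω; only the Gorenstein case ω = O, O~* = C is stated.) -/
theorem result (O : Type u) [CommRing O] [IsDomain O] [LocCoh.IsGorensteinLocalRing O] (hdim : ringKrullDim O = 1) [IsAlgClosed (IsLocalRing.ResidueField O)] (K : Type u) [Field K] [Algebra O K] [IsFractionRing O K] (hfin : Module.Finite O ↥(integralClosure O K)) (M : Type u) [AddCommGroup M] [Module O M] [Module.Finite O M] [NoZeroSMulDivisors O M] (n : ℕ) (hn : Module.finrank K (TensorProduct O K M) = n) : ∃ M'' : Submodule O (Fin n → K), Submodule.pi Set.univ (fun _ : Fin n => (((1 : Submodule O K).colon (Subalgebra.toSubmodule (integralClosure O K))) • (1 : Submodule O K))) ≤ M'' ∧ M'' ≤ Submodule.pi Set.univ (fun _ : Fin n => (1 : Submodule O K)) ∧ Nonempty (M ≃ₗ[O] ↥M'') := by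
  obtain ⟨M₁, h1, h2, ⟨e⟩⟩ := Groth.Agent.S15009.result O hdim K hfin M n hn
  have h1' : On O K n ≤ M₁ := h1
  have h2' : M₁ ≤ Otn O K n := h2
  have hO1 : (1 : O) ≠ 0 := one_ne_zero
  have hL : IsLat O K n M₁ := isLat_of_between (isLat_On hO1) (isLat_Otn hfin) h1' h2'
  obtain ⟨u, hu1, hu2, hu3⟩ :=
    Groth.Agent.H76.TFQ2.exists_basis_in_lattice O hdim K hfin n _ (isLat_dual hL)
  obtain ⟨g, hg⟩ : ∃ g : (Fin n → K) ≃ₗ[K] (Fin n → K), g = gEquiv u hu2 := ⟨_, rfl⟩
  have hgapp : ∀ x, g x = gOf u x := fun x => by rw [hg]; rfl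
  obtain ⟨gO, hgO⟩ : ∃ gO : (Fin n → K) →ₗ[O] (Fin n → K), gO = (gOf u).restrictScalars O :=
    ⟨_, rfl⟩
  have hgOapp : ∀ x, gO x = gOf u x := fun x => by rw [hgO]; rfl
  have hginj : Function.Injective gO := by
    intro x y hxy
    rw [hgOapp, hgOapp] at hxy
    exact gOf_injective u hu2 hxy
  refine ⟨M₁.map gO, ?_, ?_, ⟨e.trans (Submodule.equivMapOfInjective gO hginj M₁)⟩⟩
  · intro y hy
    have hy' : y ∈ Cn O K n := hy
    refine ⟨g.symm y, ?_, ?_⟩
    · rw [SetLike.mem_coe, ← dual_dual hdim hL]
      intro l hl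
      have hl' : l ∈ Submodule.span ↥(integralClosure O K) (Set.range u) := by
        rw [hu3]; exact Submodule.subset_span hl
      obtain ⟨a, ha⟩ := (Submodule.mem_span_range_iff_exists_fun _).mp hl'
      rw [← ha, sum_dotProduct]
      apply Submodule.sum_mem
      intro i _
      have h3 : (a i • u i) ⬝ᵥ g.symm y = ((a i : ↥(integralClosure O K)) : K) * y i := by
        have h4 : a i • u i = ((a i : ↥(integralClosure O K)) : K) • u i := rfl
        rw [h4, smul_dotProduct, smul_eq_mul, ← gOf_apply, ← hgapp, LinearEquiv.apply_symm_apply]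
      rw [h3]
      exact mul_mem_one_of_mem_CK (mem_Cn.mp hy' i) (a i).2
    · rw [hgOapp, ← hgapp, LinearEquiv.apply_symm_apply]
  · rintro _ ⟨x, hx, rfl⟩
    show gO x ∈ On O K n
    rw [mem_On]
    intro i
    rw [hgOapp, gOf_apply, dotProduct_comm]
    exact hu1 i x hx

end Groth.Agent.S15035
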