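import Groth.Statements.S15036
import Mathlib.Data.Nat.Nth
import Mathlib.Data.Nat.Count
import Mathlib.Order.Interval.Set.Infinite
import Mathlib.Tactic.Tauto

set_option autoImplicit false
open TFCurv

namespace Groth.Agent.S15036

/-- Let Γ be a numerical semigroup (a submonoid of (ℕ, +) with finite complement), Γ ≠ ℕ, with conductor
c (every n ≥ c lies in Γ, c − 1 does not); let S ⊆ ℕ be a Γ-module in normal form (0 ∈ S, γ + s ∈ S
for γ ∈ Γ, s ∈ S) with conductor c(S) (all n ≥ c(S) in S, c(S) − 1 ∉ S), and let s be a gap of S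
such that S ∪ {s} is again a Γ-module. Enumerate S increasingly as s_0 < s_1 < ⋯ and put τ_i(S) =
s_i + ℓ(S), where ℓ counts the gaps of Γ filled; since ℓ(S ∪ {s}) = ℓ(S) + 1, the termwise
comparison τ(S) ≤ τ(S ∪ {s}) says that the i-th element of S is at most one more than the i-th
element of S ∪ {s} for every i. This holds if and only if s = c(S) − 1, the largest gap of S. -/
theorem result (Γ : AddSubmonoid ℕ) (c : ℕ) (hc : ∀ n : ℕ, c ≤ n → n ∈ Γ) (hc0 : c ≠ 0) (hc1 : c - 1 ∉ Γ) (S : Set ℕ) (hS0 : (0 : ℕ) ∈ S) (hS : ∀ γ : ℕ, γ ∈ Γ → ∀ s : ℕ, s ∈ S → γ + s ∈ S) (cS : ℕ) (hcS : ∀ n : ℕ, cS ≤ n → n ∈ S) (hcS0 : cS ≠ 0) (hcS1 : cS - 1 ∉ S) (s : ℕ) (hs : s ∉ S) (hs' : ∀ γ : ℕ, γ ∈ Γ → γ ≠ 0 → s + γ ∈ S) : (∀ i : ℕ, Nat.nth (fun m => m ∈ S) i ≤ Nat.nth (fun m => m ∈ insert s S) i + 1) ↔ s + 1 = cS := by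
  classical
  set p : ℕ → Prop := fun m => m ∈ S with hp
  set p' : ℕ → Prop := fun m => m ∈ insert s S with hp'
  have hinf : (Set.ofPred p).Infinite := (Set.Ici_infinite cS).mono (fun n hn => hcS n hn)
  have hinf' : (Set.ofPred p').Infinite :=
    hinf.mono (fun n hn => Set.mem_insert_of_mem s hn)
  have hcount : ∀ n, Nat.count p' n = Nat.count p n + (if s < n then 1 else 0) := by
    intro n
    induction n with
    | zero => simp
    | succ n ih =>
      rw [Nat.count_succ, Nat.count_succ, ih]
      by_cases hns : n = s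
      · subst hns
        have h1 : p' n := Set.mem_insert _ _
        have h2 : ¬ p n := hs
        simp [h1, h2]
      · have h3 : p' n ↔ p n := by
          change n ∈ insert s S ↔ n ∈ S
          rw [Set.mem_insert_iff]
          tauto
        by_cases hn : p n
        · have h4 : p' n := h3.mpr hn
          simp only [hn, h4, if_true]
          split_ifs <;> omega
        · have h4 : ¬ p' n := fun h => hn (h3.mp h)
          simp only [hn, h4, if_false]
          split_ifs <;> omega
  have hslt : s < cS := by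
    by_contra h
    exact hs (hcS s (by omega))
  constructor
  · intro h
    by_contra hne
    have hg : ¬ p (cS - 1) := hcS1
    have hsg : s < cS - 1 := by omega
    have hc' : Nat.count p' (cS - 1) = Nat.count p (cS - 1) + 1 := by rw [hcount, if_pos hsg]
    have hi' : Nat.count p (cS - 1) < Nat.count p' (cS - 1) := by omega
    have hm : Nat.nth p' (Nat.count p (cS - 1)) < cS - 1 := Nat.nth_lt_of_lt_count hi'
    have hle := h (Nat.count p (cS - 1))
    have hmem : p (Nat.nth p (Nat.count p (cS - 1))) := Nat.nth_mem_of_infinite hinf _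
    have hne' : Nat.nth p (Nat.count p (cS - 1)) ≠ cS - 1 := fun heq => hg (heq ▸ hmem)
    have hlt' : Nat.nth p (Nat.count p (cS - 1)) < cS - 1 := by
      change Nat.nth p (Nat.count p (cS - 1)) ≤ Nat.nth p' (Nat.count p (cS - 1)) + 1 at hle
      omega
    have h1 : Nat.count p (Nat.nth p (Nat.count p (cS - 1)) + 1) = Nat.count p (cS - 1) + 1 := by
      rw [Nat.count_succ, Nat.count_nth_of_infinite hinf, if_pos hmem]
    have h2 : Nat.count p (Nat.nth p (Nat.count p (cS - 1)) + 1) ≤ Nat.count p (cS - 1) :=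
      Nat.count_monotone p (by omega)
    omega
  · intro hsc i
    change Nat.nth p i ≤ Nat.nth p' i + 1
    have hpm : p' (Nat.nth p' i) := Nat.nth_mem_of_infinite hinf' i
    have hcm : Nat.count p' (Nat.nth p' i) = i := Nat.count_nth_of_infinite hinf' i
    have hcm1 : Nat.count p' (Nat.nth p' i + 1) = i + 1 := by
      rw [Nat.count_succ, hcm, if_pos hpm]
    have key : i < Nat.count p (Nat.nth p' i + 2) := by
      have e1 := hcount (Nat.nth p' i + 1)
      have e2 : Nat.count p (Nat.nth p' i + 2) =
          Nat.count p (Nat.nth p' i + 1) + (if p (Nat.nth p' i + 1) then 1 else 0) :=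
        Nat.count_succ _ _
      by_cases hsm : s < Nat.nth p' i + 1
      · rw [if_pos hsm] at e1
        have h5 : p (Nat.nth p' i + 1) := hcS (Nat.nth p' i + 1) (by omega)
        rw [if_pos h5] at e2
        omega
      · rw [if_neg hsm] at e1
        omega
    have := Nat.nth_lt_of_lt_count key
    omega

end Groth.Agent.S15036
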