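import Groth.Statements.S15037
import Mathlib.Data.Nat.Nth
import Mathlib.Data.Nat.Count
import Mathlib.Data.Set.Card
import Mathlib.Order.Interval.Set.Infinite

set_option autoImplicit false
open TFCurv

namespace Groth.Agent.S15037


section helpers
open Classical

variable (S : Set ℕ) (cS : ℕ)

lemma count_tail (hcS : ∀ n : ℕ, cS ≤ n → n ∈ S) (k : ℕ) :
    Nat.count (fun m => m ∈ S) (cS + k) = Nat.count (fun m => m ∈ S) cS + k := by
  induction k with
  | zero => rfl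
  | succ k ih =>
    rw [← Nat.add_assoc, Nat.count_succ, ih, if_pos (hcS _ (by omega))]
    omega

lemma nth_tail (hcS : ∀ n : ℕ, cS ≤ n → n ∈ S) (k : ℕ) :
    Nat.nth (fun m => m ∈ S) (Nat.count (fun m => m ∈ S) cS + k) = cS + k := by
  rw [← count_tail S cS hcS]
  exact Nat.nth_count (p := fun m => m ∈ S) (hcS _ (by omega))

lemma ncard_below : (S ∩ Set.Iio cS).ncard = Nat.count (fun m => m ∈ S) cS := by
  rw [Nat.count_eq_card_filter_range]
  have : S ∩ Set.Iio cS = ↑((Finset.range cS).filter (fun m => m ∈ S)) := by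
    ext x
    simp [and_comm]
  rw [this, Set.ncard_coe_finset]

lemma ncard_compl (hcS : ∀ n : ℕ, cS ≤ n → n ∈ S) :
    Sᶜ.ncard + Nat.count (fun m => m ∈ S) cS = cS := by
  have hc : Sᶜ = ↑((Finset.range cS).filter (fun m => ¬ m ∈ S)) := by
    ext x
    simp only [Set.mem_compl_iff, Finset.coe_filter, Finset.mem_range, Set.mem_setOf_eq]
    constructor
    · intro hx
      exact ⟨by by_contra h; exact hx (hcS x (by omega)), hx⟩
    · exact fun h => h.2
  rw [hc, Set.ncard_coe_finset, Nat.count_eq_card_filter_range, add_comm]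
  have := Finset.card_filter_add_card_filter_not (s := Finset.range cS) (fun m => m ∈ S)
  rw [Finset.card_range] at this
  exact this

lemma count_lip (n m : ℕ) (h : n ≤ m) :
    Nat.count (fun m => m ∈ S) m ≤ Nat.count (fun m => m ∈ S) n + (m - n) := by
  obtain ⟨k, rfl⟩ := Nat.exists_eq_add_of_le h
  rw [Nat.count_add]
  have := Nat.count_le (p := fun j => n + j ∈ S) (n := k)
  omega

lemma nth_le_add (hcS : ∀ n : ℕ, cS ≤ n → n ∈ S) (i : ℕ) :
    Nat.nth (fun m => m ∈ S) i ≤ i + Sᶜ.ncard := by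
  have hinf : (Set.ofPred (fun m => m ∈ S)).Infinite :=
    (Set.Ici_infinite cS).mono (fun n hn => hcS n hn)
  have h2 := ncard_compl S cS hcS
  by_cases hi : i < Nat.count (fun m => m ∈ S) cS
  · have hlt := Nat.nth_lt_of_lt_count hi
    have hmem : (Nat.nth (fun m => m ∈ S) i) ∈ S := Nat.nth_mem_of_infinite hinf i
    have hc1 : Nat.count (fun m => m ∈ S) (Nat.nth (fun m => m ∈ S) i + 1) = i + 1 := by
      rw [Nat.count_succ, Nat.count_nth_of_infinite hinf, if_pos hmem]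
    have := count_lip S (Nat.nth (fun m => m ∈ S) i + 1) cS (by omega)
    omega
  · obtain ⟨k, hk⟩ := Nat.exists_eq_add_of_le (Nat.le_of_not_lt hi)
    rw [hk, nth_tail S cS hcS]
    omega

end helpers

/-- Let Γ be a numerical semigroup (a submonoid of (ℕ, +) with finite complement), Γ ≠ ℕ, with conductor
c (every n ≥ c lies in Γ, c − 1 does not); let S and S' ⊆ ℕ be Γ-modules in normal form with
conductors c(S), c(S'), let δ(S), δ(S') be their numbers of gaps and r(S), r(S') their numbers of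
elements below the conductor, and enumerate them increasingly as s_i, s'_i (i ≥ 0). With τ_i(S) =
s_i + ℓ(S) and ℓ(S) = δ(Γ) − δ(S), the termwise order τ(S) ≤ τ(S') reads s_i + δ(S') ≤ s'_i + δ(S)
for all i. It holds if and only if r(S') ≤ r(S) and s_i + δ(S') ≤ s'_i + δ(S) for all i < r(S')
(beyond r(S) the entries τ_i(S) = i + δ(Γ) are the largest possible). -/
theorem result (Γ : AddSubmonoid ℕ) (c : ℕ) (hc : ∀ n : ℕ, c ≤ n → n ∈ Γ) (hc0 : c ≠ 0) (hc1 : c - 1 ∉ Γ) (S : Set ℕ) (hS0 : (0 : ℕ) ∈ S) (hS : ∀ γ : ℕ, γ ∈ Γ → ∀ s : ℕ, s ∈ S → γ + s ∈ S) (cS : ℕ) (hcS : ∀ n : ℕ, cS ≤ n → n ∈ S) (hcS1 : cS = 0 ∨ cS - 1 ∉ S) (S' : Set ℕ) (hS'0 : (0 : ℕ) ∈ S') (hS' : ∀ γ : ℕ, γ ∈ Γ → ∀ s : ℕ, s ∈ S' → γ + s ∈ S') (cS' : ℕ) (hcS' : ∀ n : ℕ, cS' ≤ n → n ∈ S') (hcS'1 : cS' = 0 ∨ cS' - 1 ∉ S') : (∀ i : ℕ, Nat.nth (fun m => m ∈ S) i + S'ᶜ.ncard ≤ Nat.nth (fun m => m ∈ S') i + Sᶜ.ncard) ↔ ((S' ∩ Set.Iio cS').ncard ≤ (S ∩ Set.Iio cS).ncard ∧ ∀ i : ℕ,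 i < (S' ∩ Set.Iio cS').ncard → Nat.nth (fun m => m ∈ S) i + S'ᶜ.ncard ≤ Nat.nth (fun m => m ∈ S') i + Sᶜ.ncard) := by
  classical
  have hinf : (Set.ofPred (fun m => m ∈ S)).Infinite :=
    (Set.Ici_infinite cS).mono (fun n hn => hcS n hn)
  have hinf' : (Set.ofPred (fun m => m ∈ S')).Infinite :=
    (Set.Ici_infinite cS').mono (fun n hn => hcS' n hn)
  rw [ncard_below S cS, ncard_below S' cS']
  have e1 := ncard_compl S cS hcS
  have e2 := ncard_compl S' cS' hcS'
  constructor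
  · intro h
    refine ⟨?_, fun i _ => h i⟩
    by_contra hlt
    have hr : Nat.count (fun m => m ∈ S) cS < Nat.count (fun m => m ∈ S') cS' := by omega
    have hi' : Nat.count (fun m => m ∈ S') cS' - 1 < Nat.count (fun m => m ∈ S') cS' := by omega
    have h1 := Nat.nth_lt_of_lt_count hi'
    have hmem : (Nat.nth (fun m => m ∈ S') (Nat.count (fun m => m ∈ S') cS' - 1)) ∈ S' :=
      Nat.nth_mem_of_infinite hinf' _
    have hc0 : cS' ≠ 0 := by
      intro h0
      have := Nat.count_le (p := fun m => m ∈ S') (n := cS')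
      omega
    have hgap : cS' - 1 ∉ S' := hcS'1.resolve_left hc0
    have hne : Nat.nth (fun m => m ∈ S') (Nat.count (fun m => m ∈ S') cS' - 1) ≠ cS' - 1 :=
      fun heq => hgap (heq ▸ hmem)
    obtain ⟨k, hk⟩ := Nat.exists_eq_add_of_le
      (show Nat.count (fun m => m ∈ S) cS ≤ Nat.count (fun m => m ∈ S') cS' - 1 by omega)
    have h2 := nth_tail S cS hcS k
    rw [← hk] at h2
    have h3 := h (Nat.count (fun m => m ∈ S') cS' - 1)
    omega
  · rintro ⟨hr, h⟩ i
    by_cases hi : i < Nat.count (fun m => m ∈ S') cS'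
    · exact h i hi
    · obtain ⟨k, hk⟩ := Nat.exists_eq_add_of_le (Nat.le_of_not_lt hi)
      have h1 := nth_tail S' cS' hcS' k
      rw [← hk] at h1
      have h2 := nth_le_add S cS hcS i
      omega

end Groth.Agent.S15037
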