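import Groth.Statements.S15038
import Mathlib.Tactic.Ring
import Mathlib.Data.Nat.ModEq
import Mathlib.Data.Finset.Card
import Mathlib.Algebra.Group.Submonoid.Membership

set_option autoImplicit false
open TFCurv

namespace Groth.Agent.S15038

/-- Let Γ be a numerical semigroup (a submonoid of (ℕ, +) with finite complement), Γ ≠ ℕ, with conductor
c (every n ≥ c lies in Γ, c − 1 does not). If Γ is symmetric (for x < c, x is a gap exactly when c −
1 − x ∈ Γ) and its multiplicity e, the least nonzero element of Γ, is greater than 2, then Γ is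
generated as an additive monoid by at most e − 1 elements. -/
theorem result (Γ : AddSubmonoid ℕ) (c : ℕ) (hc : ∀ n : ℕ, c ≤ n → n ∈ Γ) (hc0 : c ≠ 0) (hc1 : c - 1 ∉ Γ) (hsymm : ∀ x : ℕ, x < c → (x ∉ Γ ↔ c - 1 - x ∈ Γ)) (e : ℕ) (he : e ∈ Γ) (he0 : e ≠ 0) (hemin : ∀ γ : ℕ, γ ∈ Γ → γ ≠ 0 → e ≤ γ) (he2 : 2 < e) : ∃ G : Finset ℕ, G.card ≤ e - 1 ∧ AddSubmonoid.closure (↑G : Set ℕ) = Γ := by
  classical
  have hgaplt : ∀ n : ℕ, n ∉ Γ → n < c := by
    intro n hn
    by_contra hlt
    exact hn (hc n (not_lt.mp hlt))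
  have hc1' : 1 ≤ c := Nat.pos_of_ne_zero hc0
  have hme : ∀ m : ℕ, m * e ∈ Γ := by
    intro m
    have := Γ.nsmul_mem he m
    simpa [smul_eq_mul] using this
  have hsmall : ∀ t : ℕ, 0 < t → t < e → t ∉ Γ := by
    intro t ht0 hte ht
    have := hemin t ht (by omega)
    omega
  let Ap : Finset ℕ := (Finset.range (c + e)).filter (fun γ => γ ∈ Γ ∧ (γ < e ∨ γ - e ∉ Γ))
  have hAp : ∀ γ, γ ∈ Ap ↔ γ < c + e ∧ γ ∈ Γ ∧ (γ < e ∨ γ - e ∉ Γ) := by
    intro γ
    simp [Ap]
  have hAp0 : 0 ∈ Ap := (hAp 0).mpr ⟨by omega, Γ.zero_mem, Or.inl (by omega)⟩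
  have hApF : c - 1 + e ∈ Ap := by
    refine (hAp _).mpr ⟨by omega, hc _ (by omega), Or.inr ?_⟩
    have : c - 1 + e - e = c - 1 := by omega
    rw [this]; exact hc1
  have hApcard : Ap.card ≤ e := by
    have : Ap.card ≤ (Finset.range e).card := by
      refine Finset.card_le_card_of_injOn (fun γ => γ % e) ?_ ?_
      · intro γ _
        exact Finset.mem_range.mpr (Nat.mod_lt _ (by omega))
      · have key : ∀ γ γ' : ℕ, γ ∈ Ap → γ' ∈ Ap → γ % e = γ' % e → γ < γ' → False := by
          intro γ γ' hγ hγ' hmod hlt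
          obtain ⟨_, hγΓ, _⟩ := (hAp γ).mp hγ
          obtain ⟨_, _, hγ'2⟩ := (hAp γ').mp hγ'
          have hdvd : e ∣ γ' - γ := (Nat.modEq_iff_dvd' hlt.le).mp hmod
          obtain ⟨m, hm⟩ := hdvd
          have hm1 : 1 ≤ m := by
            rcases Nat.eq_zero_or_pos m with h | h
            · subst h; omega
            · exact h
          have hγ'e : e ≤ γ' := by
            have : e * 1 ≤ e * m := Nat.mul_le_mul_left e hm1
            omega
          rcases hγ'2 with h | h
          · omega
          · apply h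
            have e1 : γ' - e = γ + (m - 1) * e := by
              have : e * m = (m - 1) * e + e := by
                obtain ⟨m', rfl⟩ : ∃ m', m = m' + 1 := ⟨m - 1, by omega⟩
                simp; ring
              omega
            rw [e1]
            exact Γ.add_mem hγΓ (hme _)
        intro γ hγ γ' hγ' hmod
        simp only at hmod
        rcases lt_trichotomy γ γ' with h | h | h
        · exact (key γ γ' hγ hγ' hmod h).elim
        · exact h
        · exact (key γ' γ hγ' hγ hmod.symm h).elim
    simpa using this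
  let G : Finset ℕ := insert e ((Ap.erase 0).erase (c - 1 + e))
  have hGcard : G.card ≤ e - 1 := by
    have h1 : ((Ap.erase 0).erase (c - 1 + e)).card = Ap.card - 1 - 1 := by
      rw [Finset.card_erase_of_mem, Finset.card_erase_of_mem hAp0]
      exact Finset.mem_erase.mpr ⟨by omega, hApF⟩
    have h2 : G.card ≤ ((Ap.erase 0).erase (c - 1 + e)).card + 1 := Finset.card_insert_le _ _
    have h3 : 2 ≤ Ap.card := by
      have : ({0, c - 1 + e} : Finset ℕ) ⊆ Ap := by
        intro x hx
        simp only [Finset.mem_insert, Finset.mem_singleton] at hx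
        rcases hx with rfl | rfl
        · exact hAp0
        · exact hApF
      have hc2 : ({0, c - 1 + e} : Finset ℕ).card = 2 :=
        Finset.card_pair (by omega)
      have := Finset.card_le_card this
      omega
    omega
  have hGmem : ∀ γ, γ ∈ G ↔ γ = e ∨ (γ ≠ c - 1 + e ∧ γ ≠ 0 ∧ γ ∈ Ap) := by
    intro γ
    simp [G]
  refine ⟨G, hGcard, le_antisymm ?_ ?_⟩
  · rw [AddSubmonoid.closure_le]
    intro γ hγ
    rcases (hGmem γ).mp hγ with rfl | ⟨_, _, h⟩
    · exact he
    · exact ((hAp γ).mp h).2.1
  · have heG : e ∈ AddSubmonoid.closure (↑G : Set ℕ) :=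
      AddSubmonoid.subset_closure ((hGmem e).mpr (Or.inl rfl))
    -- a decomposition of `c - 1 + e`
    have hdec : ∃ a b : ℕ, a ∈ Γ ∧ b ∈ Γ ∧ 0 < a ∧ 0 < b ∧ a + b = c - 1 + e := by
      have cand : ∀ t : ℕ, 0 < t → t < e →
          ∃ a : ℕ, a ∈ Γ ∧ e ≤ a ∧ a - e ∉ Γ ∧ ∃ m, a = t + m * e := by
        intro t ht0 hte
        have hex : ∃ m : ℕ, t + m * e ∈ Γ := ⟨c, hc _ (by
          have : c * 1 ≤ c * e := Nat.mul_le_mul_left c (by omega)
          omega)⟩
        have hm1 : 1 ≤ Nat.find hex := by
          rcases Nat.eq_zero_or_pos (Nat.find hex) with h | h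
          · have := Nat.find_spec hex
            rw [h] at this
            simp only [zero_mul, add_zero] at this
            exact absurd this (hsmall t ht0 hte)
          · exact h
        refine ⟨t + Nat.find hex * e, Nat.find_spec hex, ?_, ?_, _, rfl⟩
        · have : 1 * e ≤ Nat.find hex * e := Nat.mul_le_mul_right e hm1
          omega
        · have hmin := Nat.find_min hex (m := Nat.find hex - 1) (by omega)
          have e1 : t + Nat.find hex * e - e = t + (Nat.find hex - 1) * e := by
            obtain ⟨m', hm'⟩ : ∃ m', Nat.find hex = m' + 1 := ⟨Nat.find hex - 1, by omega⟩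
            rw [hm']
            have : (m' + 1) * e = m' * e + e := by ring
            simp only [Nat.add_sub_cancel]
            omega
          rw [e1]
          exact hmin
      have use_a : ∀ a : ℕ, a ∈ Γ → e ≤ a → a - e ∉ Γ → a ≠ c - 1 + e →
          ∃ a b : ℕ, a ∈ Γ ∧ b ∈ Γ ∧ 0 < a ∧ 0 < b ∧ a + b = c - 1 + e := by
        intro a ha hea hae hne
        have hlt := hgaplt _ hae
        have hb := (hsymm (a - e) hlt).mp hae
        have e1 : c - 1 - (a - e) = c - 1 + e - a := by omega
        rw [e1] at hb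
        exact ⟨a, c - 1 + e - a, ha, hb, by omega, by omega, by omega⟩
      obtain ⟨a1, ha1, hea1, hae1, m1, hm1⟩ := cand 1 (by omega) (by omega)
      obtain ⟨a2, ha2, hea2, hae2, m2, hm2⟩ := cand 2 (by omega) (by omega)
      by_cases h1 : a1 = c - 1 + e
      · by_cases h2 : a2 = c - 1 + e
        · exfalso
          have heq : 1 + m1 * e = 2 + m2 * e := by rw [← hm1, ← hm2, h1, h2]
          have hd : e ∣ m1 * e - m2 * e :=
            Nat.dvd_sub (Dvd.intro_left m1 rfl) (Dvd.intro_left m2 rfl)
          have : m1 * e - m2 * e = 1 := by omega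
          rw [this] at hd
          have := Nat.le_of_dvd (by omega) hd
          omega
        · exact use_a a2 ha2 hea2 hae2 h2
      · exact use_a a1 ha1 hea1 hae1 h1
    intro n
    induction n using Nat.strong_induction_on with
    | _ n ih =>
      intro hn
      by_cases hn0 : n = 0
      · subst hn0; exact AddSubmonoid.zero_mem _
      have hen : e ≤ n := hemin n hn hn0
      by_cases hne : n - e ∈ Γ
      · have := AddSubmonoid.add_mem _ (ih (n - e) (by omega) hne) heG
        have e1 : n - e + e = n := by omega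
        rwa [e1] at this
      · have hlt := hgaplt _ hne
        have hnAp : n ∈ Ap := (hAp n).mpr ⟨by omega, hn, Or.inr hne⟩
        by_cases hnF : n = c - 1 + e
        · obtain ⟨a, b, ha, hb, ha0, hb0, hab⟩ := hdec
          have := AddSubmonoid.add_mem _ (ih a (by omega) ha) (ih b (by omega) hb)
          rw [hab, ← hnF] at this
          exact this
        · exact AddSubmonoid.subset_closure ((hGmem n).mpr (Or.inr ⟨hnF, hn0, hnAp⟩))

end Groth.Agent.S15038
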