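import Groth.Statements.S15040
import Groth.Agent.H71.GD6

set_option autoImplicit false
universe u
open CategoryTheory
open TFCurv

namespace Groth.Agent.S15040

/-- Let O be a one-dimensional Gorenstein local domain with algebraically closed residue field whose
integral closure O~ in its fraction field K is a finite O-module, and let M be an intermediate ring
O ⊆ M ⊆ O~ (an overring of O), viewed as an O-module. Put M⁻¹ = {x ∈ K | x·M ⊆ O}, which lies in O
and is identified with an ideal of O. Then Ext¹_O(M, M) and Hom_O(M⁻¹, O/M⁻¹) are isomorphic abelian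
groups (existence of an additive isomorphism only). -/
theorem result (O : Type u) [CommRing O] [IsDomain O] [LocCoh.IsGorensteinLocalRing O] (hdim : ringKrullDim O = 1) [IsAlgClosed (IsLocalRing.ResidueField O)] (K : Type u) [Field K] [Algebra O K] [IsFractionRing O K] (hfin : Module.Finite O ↥(integralClosure O K)) (M : Subalgebra O K) (hM : M ≤ integralClosure O K) : Nonempty (Abelian.Ext (ModuleCat.of O ↥M) (ModuleCat.of O ↥M) 1 ≃+ (↥((1 : Submodule O K) / Subalgebra.toSubmodule M) →ₗ[O] (O ⧸ Submodule.comap (Algebra.linearMap O K) ((1 : Submodule O K) / Subalgebra.toSubmodule M)))) := by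
  classical
  open Groth.Agent.H71.GD in
  haveI : IsNoetherianRing O := inferInstance
  haveI : Module.Finite O ↥(integralClosure O K) := hfin
  haveI : IsNoetherian O ↥(integralClosure O K) := isNoetherian_of_isNoetherianRing_of_finite O _
  haveI : Module.Finite O ↥M :=
    Module.Finite.of_injective (Subalgebra.inclusion hM).toLinearMap
      (Subalgebra.inclusion_injective hM)
  have hinjK : Function.Injective (algebraMap O K) := IsFractionRing.injective O K
  haveI : NoZeroSMulDivisors O ↥M := by
    refine ⟨fun {c y} h => ?_⟩
    by_cases hc : c = 0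
    · exact Or.inl hc
    · right
      apply Subtype.ext
      have h1 : c • (y : K) = 0 := congrArg Subtype.val h
      rw [Algebra.smul_def, mul_eq_zero] at h1
      rcases h1 with h1 | h1
      · exact absurd (hinjK (h1.trans (map_zero _).symm)) hc
      · exact h1
  let L : ↥M → (↥M →ₗ[O] ↥M) := fun y =>
    { toFun := fun z => y * z
      map_add' := mul_add y
      map_smul' := fun c z => mul_smul_comm c y z }
  have hL : ∀ y, L y 1 = y := fun y => mul_one y
  have hev₁ : Function.Injective (LinearMap.applyₗ (1 : ↥M) : (↥M →ₗ[O] O) →ₗ[O] O) := by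
    intro φ φ' h
    refine LinearMap.ext fun y => ?_
    apply hinjK
    have h1 : φ 1 = φ' 1 := h
    rw [functional_eq M φ y, functional_eq M φ' y, h1]
  have hsep : ∀ y : ↥M, y ≠ 0 → ∃ φ : ↥M →ₗ[O] O, φ y ≠ 0 := by
    intro y hy
    haveI : Module.Finite O ↥(Subalgebra.toSubmodule M) := inferInstanceAs (Module.Finite O ↥M)
    obtain ⟨s, hs⟩ := Module.Finite.iff_fg.1 (inferInstance :
      Module.Finite O ↥(Subalgebra.toSubmodule M))
    obtain ⟨b, hb⟩ := IsLocalization.exist_integer_multiples_of_finset (nonZeroDivisors O) s
    have hx₀ : algebraMap O K (b : O) ∈ (1 : Submodule O K) / Subalgebra.toSubmodule M := by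
      rw [Submodule.mem_div_iff_forall_mul_mem]
      intro z hz
      rw [← hs] at hz
      induction hz using Submodule.span_induction with
      | mem z hz =>
        obtain ⟨a, ha⟩ := hb z hz
        rw [Submodule.mem_one]
        exact ⟨a, by rw [ha, Algebra.smul_def]⟩
      | zero => rw [mul_zero]; exact Submodule.zero_mem _
      | add z w _ _ hz hw => rw [mul_add]; exact Submodule.add_mem _ hz hw
      | smul c z _ hz => rw [mul_smul_comm]; exact Submodule.smul_mem _ c hz
    refine ⟨mulFun M _ hx₀, fun h0 => ?_⟩
    have h1 := mulFun_spec M _ hx₀ y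
    rw [h0, map_zero] at h1
    rcases mul_eq_zero.1 h1.symm with h2 | h2
    · exact nonZeroDivisors.ne_zero b.2 (hinjK (h2.trans (map_zero _).symm))
    · exact hy (Subtype.ext h2)
  obtain ⟨E⟩ := main_abstract O hdim ↥M 1 L hL hsep hev₁
  exact ⟨(E.trans (LinearEquiv.arrowCongr (dualEquiv M)
    (Submodule.quotEquivOfEq _ _ (range_ev M)))).toAddEquiv⟩

end Groth.Agent.S15040
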