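import Groth.Statements.S15043
import Mathlib
import Groth.Agent.S15042
import Groth.Agent.H56.QuietSwap
-- import your own Groth.Agent.* helpers here

set_option autoImplicit false
open CategoryTheory AlgebraicGeometry
universe u
open Quiet

namespace Groth.Agent.S15043


open CategoryTheory.Limits TensorProduct Groth.Agent.H56.QuietSwap

set_option linter.style.haveILetI false
set_option linter.unusedSectionVars false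
set_option linter.unusedVariables false

/-- base change of a root tower of rings of sections along a cartesian square (after helper97). -/
theorem towerHom_of_isPullback {p : ℕ} {V V' Z Z' : Scheme.{u}} (r : V ⟶ Z) (r' : V' ⟶ Z')
    (a : V' ⟶ V) (b : Z' ⟶ Z) (sq : IsPullback r' a b r) {U : Z.Opens} (hU : IsAffineOpen U)
    (hUaff : IsAffineOpen (r ⁻¹ᵁ U)) {n : ℕ} (hn : TowerHom p n (r.app U))
    {U' : Z'.Opens} (hU' : IsAffineOpen U') (hU'U : U' ≤ b ⁻¹ᵁ U) :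
    IsAffineOpen (r' ⁻¹ᵁ U') ∧ TowerHom p n (r'.app U') := by
  have hUST : r ⁻¹ᵁ U ≤ r ⁻¹ᵁ U := le_rfl
  have hUSX : U' ≤ b ⁻¹ᵁ U := hU'U
  have hle3 : r' ⁻¹ᵁ U' ≤ a ⁻¹ᵁ (r ⁻¹ᵁ U) := by
    intro x hx
    show r (a x) ∈ U
    have hw : r (a x) = b (r' x) := by
      rw [← Scheme.Hom.comp_apply, ← Scheme.Hom.comp_apply, sq.w]
    rw [hw]
    exact hU'U hx
  have hle2 : r' ⁻¹ᵁ U' ≤ r' ⁻¹ᵁ U' := le_rfl
  have hUY : r' ⁻¹ᵁ U' = r' ⁻¹ᵁ U' ⊓ a ⁻¹ᵁ (r ⁻¹ᵁ U) :=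
    le_antisymm (le_inf le_rfl hle3) inf_le_left
  have hUY' : IsAffineOpen (r' ⁻¹ᵁ U') := by
    have : IsAffine _ := hU
    have : IsAffine _ := hUaff
    have : IsAffine _ := hU'
    exact .of_isIso (Scheme.Hom.isPullback_resLE sq hUST hUSX hUY).isoPullback.hom
  have hiso := isIso_pushoutSection_of_isAffineOpen sq hUST hUSX hUY hU hUaff hU'
  have hPO : IsPushout (b.appLE U U' hUSX) (r.appLE U (r ⁻¹ᵁ U) hUST)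
      (r'.appLE U' (r' ⁻¹ᵁ U') hle2) (a.appLE (r ⁻¹ᵁ U) (r' ⁻¹ᵁ U') hle3) :=
    (isIso_pushoutSection_iff sq hUST hUSX hUY).mp hiso
  refine ⟨hUY', ?_⟩
  letI algAB : Algebra Γ(Z, U) Γ(V, r ⁻¹ᵁ U) := (r.app U).hom.toAlgebra
  letI algAA' : Algebra Γ(Z, U) Γ(Z', U') := (b.appLE U U' hUSX).hom.toAlgebra
  letI algA'B' : Algebra Γ(Z', U') Γ(V', r' ⁻¹ᵁ U') := (r'.app U').hom.toAlgebra
  have hbc := Groth.Agent.S15042.isRootTower_baseChange p n Γ(Z, U) Γ(V, r ⁻¹ᵁ U) Γ(Z', U') hn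
  have hT := CommRingCat.isPushout_tensorProduct Γ(Z, U) Γ(Z', U') Γ(V, r ⁻¹ᵁ U)
  have hPO' : IsPushout (CommRingCat.ofHom (algebraMap Γ(Z, U) Γ(Z', U')))
      (CommRingCat.ofHom (algebraMap Γ(Z, U) Γ(V, r ⁻¹ᵁ U))) (r'.app U')
      (a.appLE (r ⁻¹ᵁ U) (r' ⁻¹ᵁ U') hle3) := by
    have h1 : r.appLE U (r ⁻¹ᵁ U) hUST = r.app U := by
      rw [Scheme.Hom.app_eq_appLE]
    have h2 : r'.appLE U' (r' ⁻¹ᵁ U') hle2 = r'.app U' := by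
      rw [Scheme.Hom.app_eq_appLE]
    rw [h1, h2] at hPO
    exact hPO
  have he_inl := hT.inl_isoIsPushout_hom _ _ hPO'
  have hcommE : ∀ x : Γ(Z', U'), (hT.isoIsPushout _ _ hPO').commRingCatIsoToRingEquiv
      (algebraMap Γ(Z', U') (Γ(Z', U') ⊗[Γ(Z, U)] Γ(V, r ⁻¹ᵁ U)) x) =
      algebraMap Γ(Z', U') Γ(V', r' ⁻¹ᵁ U') x := by
    intro x
    have h := congrArg (fun t => t.hom x) he_inl
    exact h
  exact Groth.Agent.S15042.isRootTower_of_algEquiv p n _ _ _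
    (AlgEquiv.ofRingEquiv (f := (hT.isoIsPushout _ _ hPO').commRingCatIsoToRingEquiv) hcommE) hbc

/-- a morphism of affine schemes which is a root tower on global sections is a `p`-th root
morphism. -/
theorem isPthRoot_of_towerHom_appTop {p : ℕ} {P Q : Scheme.{u}} [IsAffine P] [IsAffine Q]
    (r : P ⟶ Q) {n : ℕ} (h : TowerHom p n r.appTop) : Quiet.IsPthRoot p r := by
  intro x
  refine ⟨⟨⊤, isAffineOpen_top Q⟩, trivial, isAffineOpen_top P, ?_⟩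
  exact ⟨n, h⟩

/-- the affine chain: tower, etale, tower, then an etale map to `X`. -/
theorem aff_chain (p : ℕ) [Fact p.Prime] {X P₀ P₁ P₂ P₃ : Scheme.{u}} [FrobSch.IsCharP X p]
    [IsAffine P₀] [IsAffine P₁] [IsAffine P₂] [IsAffine P₃] [Nonempty P₂]
    (r₃ : P₃ ⟶ P₂) (e₂ : P₂ ⟶ P₁) (s₁ : P₁ ⟶ P₀) (u : P₀ ⟶ X) [Etale e₂] [Etale u]
    {n m : ℕ} (hs : TowerHom p n s₁.appTop) (hr : TowerHom p m r₃.appTop) :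
    ∃ (Y'' : Scheme.{u}) (r'' : P₃ ⟶ Y'') (e'' : Y'' ⟶ X),
      Quiet.IsPthRoot p r'' ∧ Etale e'' ∧ r'' ≫ e'' = r₃ ≫ e₂ ≫ s₁ ≫ u := by
  haveI : FrobSch.IsCharP P₀ p := FrobSch.IsCharP.of_hom u p
  have hp0 : (p : Γ(P₀, ⊤)) = 0 := FrobSch.IsCharP.natCast_eq_zero
  haveI : Nonempty (⊤ : P₂.Opens) := ⟨⟨Classical.arbitrary P₂, trivial⟩⟩
  haveI : Nontrivial Γ(P₂, ⊤) := Scheme.component_nontrivial P₂ ⊤
  have hψ : e₂.appTop.hom.Etale := HasRingHomProperty.appTop (P := @Etale) e₂ inferInstance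
  obtain ⟨C', α, β, hα, hβ, hαβ⟩ := TowerHom.swap (p := p) hp0 hψ hs
  have hβχ : TowerHom p (n + m) (β ≫ r₃.appTop) := hβ.comp hr
  have hr'' : (P₃.toSpecΓ ≫ Spec.map (β ≫ r₃.appTop)).appTop =
      (Scheme.ΓSpecIso C').hom ≫ (β ≫ r₃.appTop) := by
    rw [Scheme.Hom.comp_appTop, Scheme.toSpecΓ_appTop, Scheme.ΓSpecIso_naturality]
  refine ⟨Spec C', P₃.toSpecΓ ≫ Spec.map (β ≫ r₃.appTop), Spec.map α ≫ P₀.isoSpec.inv ≫ u,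
    ?_, ?_, ?_⟩
  · apply isPthRoot_of_towerHom_appTop (n := n + m)
    rw [hr'']
    exact TowerHom.iso_comp _ hβχ
  · haveI : Etale (Spec.map α) := HasRingHomProperty.Spec_iff.mpr hα
    infer_instance
  · have h1 : Spec.map (β ≫ r₃.appTop) ≫ Spec.map α = Spec.map ((r₃ ≫ e₂ ≫ s₁).appTop) := by
      rw [← Spec.map_comp, ← Category.assoc, hαβ, Scheme.Hom.comp_appTop, Scheme.Hom.comp_appTop,
        Category.assoc]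
    rw [Category.assoc, reassoc_of% h1, ← Scheme.toSpecΓ_naturality_assoc,
      Scheme.toSpecΓ_isoSpec_inv_assoc]
    simp only [Category.assoc]


/-- Over a scheme `X` of prime characteristic `p`, the composite of quasi-etale morphisms `g : Z ⟶ Y`
and `f : Y ⟶ X` (each locally on its source an extraction of `p`-th roots followed by an etale
morphism) is quasi-etale. -/
theorem result (p : ℕ) [Fact p.Prime] {X Y Z : Scheme.{u}} [FrobSch.IsCharP X p]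
    (f : Y ⟶ X) (g : Z ⟶ Y) (hf : Quiet.IsQuiet p f) (hg : Quiet.IsQuiet p g) :
    Quiet.IsQuiet p (g ≫ f) := by
  intro z
  obtain ⟨V, Z', r, e, hzV, hr, he, hre⟩ := hg z
  obtain ⟨W, Y', s, t, hyW, hs, ht, hst⟩ := hf (g z)
  haveI := he
  haveI := ht
  -- the tower for `s` around `g z`
  obtain ⟨U, hy'U, hsU, hn'⟩ := hs (s ⟨g z, hyW⟩)
  obtain ⟨n, hn⟩ : ∃ n, TowerHom p n (s.app U.1) := hn'
  have hW₁ : IsAffineOpen (W.ι ''ᵁ (s ⁻¹ᵁ U.1)) := hsU.image_of_isOpenImmersion W.ι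
  have hyW₁ : g z ∈ W.ι ''ᵁ (s ⁻¹ᵁ U.1) := ⟨⟨g z, hyW⟩, hy'U, rfl⟩
  -- the tower for `r` around `z`
  have hez : e (r ⟨z, hzV⟩) = g z := by
    have h1 := congrArg (fun k => k ⟨z, hzV⟩) hre
    exact h1
  obtain ⟨U', hz'U', hrU', hm'⟩ := hr (r ⟨z, hzV⟩)
  obtain ⟨m, hm⟩ : ∃ m, TowerHom p m (r.app U'.1) := hm'
  have hz'W₁ : r ⟨z, hzV⟩ ∈ e ⁻¹ᵁ (W.ι ''ᵁ (s ⁻¹ᵁ U.1)) := by
    show e (r ⟨z, hzV⟩) ∈ W.ι ''ᵁ (s ⁻¹ᵁ U.1)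
    rw [hez]
    exact hyW₁
  obtain ⟨(T : Z'.Opens), hT', hz'T, hTle⟩ := TopologicalSpace.Opens.isBasis_iff_nbhd.mp
    Z'.isBasis_affineOpens (U := U'.1 ⊓ e ⁻¹ᵁ (W.ι ''ᵁ (s ⁻¹ᵁ U.1))) (x := r ⟨z, hzV⟩)
    ⟨hz'U', hz'W₁⟩
  have hT : IsAffineOpen T := hT'
  have hTU' : T ≤ U'.1 := fun x hx => (hTle hx).1
  have hTW₁ : T ≤ e ⁻¹ᵁ (W.ι ''ᵁ (s ⁻¹ᵁ U.1)) := fun x hx => (hTle hx).2
  haveI : IsAffine ↑T := hT
  haveI : IsAffine ↑U.1 := U.2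
  haveI : IsAffine ↑(W.ι ''ᵁ (s ⁻¹ᵁ U.1)) := hW₁
  -- affineness of `r ⁻¹ T`
  have hO : IsAffineOpen (r ⁻¹ᵁ T) :=
    (towerHom_of_isPullback r r (𝟙 _) (𝟙 _) (IsPullback.of_vert_isIso ⟨by simp⟩) U'.2 hrU' hm hT
      hTU').1
  have hV₂ : IsAffineOpen (V.ι ''ᵁ (r ⁻¹ᵁ T)) := hO.image_of_isOpenImmersion V.ι
  haveI : IsAffine ↑(V.ι ''ᵁ (r ⁻¹ᵁ T)) := hV₂
  -- towers on global sections of the restrictions
  have hrT : TowerHom p m (r ∣_ T).appTop :=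
    (towerHom_of_isPullback r (r ∣_ T) (r ⁻¹ᵁ T).ι T.ι (isPullback_morphismRestrict r T) U'.2 hrU'
      hm (isAffineOpen_top _) (by
        rw [← Scheme.Opens.ι_preimage_self T]
        exact Scheme.Hom.preimage_mono _ hTU')).2
  have hsU' : TowerHom p n (s ∣_ U.1).appTop :=
    (towerHom_of_isPullback s (s ∣_ U.1) (s ⁻¹ᵁ U.1).ι U.1.ι (isPullback_morphismRestrict s U.1)
      U.2 hsU hn (isAffineOpen_top _) (by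
        rw [Scheme.Opens.ι_preimage_self U.1])).2
  -- the chain of affine schemes
  have hr₃ : TowerHom p m ((V.ι.isoImage (r ⁻¹ᵁ T)).inv ≫ (r ∣_ T)).appTop := by
    rw [Scheme.Hom.comp_appTop]
    haveI : IsIso (Scheme.Hom.appTop (V.ι.isoImage (r ⁻¹ᵁ T)).inv) :=
      inferInstanceAs (IsIso ((V.ι.isoImage (r ⁻¹ᵁ T)).inv.app ⊤))
    exact hrT.comp_iso _
  have hs₁ : TowerHom p n ((W.ι.isoImage (s ⁻¹ᵁ U.1)).inv ≫ (s ∣_ U.1)).appTop := by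
    rw [Scheme.Hom.comp_appTop]
    haveI : IsIso (Scheme.Hom.appTop (W.ι.isoImage (s ⁻¹ᵁ U.1)).inv) :=
      inferInstanceAs (IsIso ((W.ι.isoImage (s ⁻¹ᵁ U.1)).inv.app ⊤))
    exact hsU'.comp_iso _
  haveI : Nonempty ↑T := ⟨⟨r ⟨z, hzV⟩, hz'T⟩⟩
  obtain ⟨Y'', r'', e'', hr'', he'', heq''⟩ := aff_chain p
    ((V.ι.isoImage (r ⁻¹ᵁ T)).inv ≫ (r ∣_ T))
    (e.resLE (W.ι ''ᵁ (s ⁻¹ᵁ U.1)) T hTW₁)
    ((W.ι.isoImage (s ⁻¹ᵁ U.1)).inv ≫ (s ∣_ U.1))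
    (U.1.ι ≫ t) hs₁ hr₃
  refine ⟨V.ι ''ᵁ (r ⁻¹ᵁ T), Y'', r'', e'', ⟨⟨z, hzV⟩, hz'T, rfl⟩, hr'', he'', ?_⟩
  rw [heq'']
  have h1 : ((W.ι.isoImage (s ⁻¹ᵁ U.1)).inv ≫ (s ∣_ U.1)) ≫ U.1.ι ≫ t =
      (W.ι ''ᵁ (s ⁻¹ᵁ U.1)).ι ≫ f := by
    calc ((W.ι.isoImage (s ⁻¹ᵁ U.1)).inv ≫ (s ∣_ U.1)) ≫ U.1.ι ≫ t
        = (W.ι.isoImage (s ⁻¹ᵁ U.1)).inv ≫ ((s ∣_ U.1) ≫ U.1.ι) ≫ t := by
          simp only [Category.assoc]
      _ = (W.ι.isoImage (s ⁻¹ᵁ U.1)).inv ≫ ((s ⁻¹ᵁ U.1).ι ≫ s) ≫ t := by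
          rw [morphismRestrict_ι]
      _ = (W.ι.isoImage (s ⁻¹ᵁ U.1)).inv ≫ (s ⁻¹ᵁ U.1).ι ≫ (W.ι ≫ f) := by
          rw [Category.assoc, hst]
      _ = ((W.ι.isoImage (s ⁻¹ᵁ U.1)).inv ≫ (s ⁻¹ᵁ U.1).ι ≫ W.ι) ≫ f := by
          simp only [Category.assoc]
      _ = (W.ι ''ᵁ (s ⁻¹ᵁ U.1)).ι ≫ f := by
          rw [Scheme.Hom.isoImage_inv_ι]
  have h2 : e.resLE (W.ι ''ᵁ (s ⁻¹ᵁ U.1)) T hTW₁ ≫ (W.ι ''ᵁ (s ⁻¹ᵁ U.1)).ι = T.ι ≫ e :=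
    Scheme.Hom.resLE_comp_ι _ _
  have h3 : ((V.ι.isoImage (r ⁻¹ᵁ T)).inv ≫ (r ∣_ T)) ≫ T.ι ≫ e =
      (V.ι ''ᵁ (r ⁻¹ᵁ T)).ι ≫ g := by
    calc ((V.ι.isoImage (r ⁻¹ᵁ T)).inv ≫ (r ∣_ T)) ≫ T.ι ≫ e
        = (V.ι.isoImage (r ⁻¹ᵁ T)).inv ≫ ((r ∣_ T) ≫ T.ι) ≫ e := by
          simp only [Category.assoc]
      _ = (V.ι.isoImage (r ⁻¹ᵁ T)).inv ≫ ((r ⁻¹ᵁ T).ι ≫ r) ≫ e := by
          rw [morphismRestrict_ι]
      _ = (V.ι.isoImage (r ⁻¹ᵁ T)).inv ≫ (r ⁻¹ᵁ T).ι ≫ (V.ι ≫ g) := by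
          rw [Category.assoc, hre]
      _ = ((V.ι.isoImage (r ⁻¹ᵁ T)).inv ≫ (r ⁻¹ᵁ T).ι ≫ V.ι) ≫ g := by
          simp only [Category.assoc]
      _ = (V.ι ''ᵁ (r ⁻¹ᵁ T)).ι ≫ g := by
          rw [Scheme.Hom.isoImage_inv_ι]
  rw [h1, reassoc_of% h2]
  have h4 := congrArg (fun k => k ≫ f) h3
  simpa only [Category.assoc] using h4

end Groth.Agent.S15043
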