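import Groth.Statements.S15044
import Groth.Agent.S18934
import Groth.Agent.S9287
import Groth.Agent.S9699
import Groth.Agent.H56.LciComp
import Groth.Agent.Lead.SyntLocal
import Groth.Agent.Lead.SyntIso

set_option autoImplicit false
open CategoryTheory AlgebraicGeometry
universe u
open Quiet

namespace Groth.Agent.S15044

set_option linter.style.haveILetI false
open AlgebraicGeometry CategoryTheory Groth.Agent.Lead.SyntLocal

/-- composition of syntomic ring maps -/
theorem isSyntomic_comp (A B C : Type u) [CommRing A] [CommRing B] [CommRing C] [Algebra A B]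
    [Algebra B C] [Algebra A C] [IsScalarTower A B C] (h1 : Synt.IsSyntomic A B)
    (h2 : Synt.IsSyntomic B C) : Synt.IsSyntomic A C := by
  obtain ⟨f1, l1⟩ := (Groth.Agent.S9287.result A B).1 h1
  obtain ⟨f2, l2⟩ := (Groth.Agent.S9287.result B C).1 h2
  haveI := f1
  haveI := f2
  exact (Groth.Agent.S9287.result A C).2
    ⟨Module.Flat.trans A B C, Groth.Agent.H56.LciComp.isLCI_comp A B C l1 l2⟩

theorem stableUnderComposition_Q : RingHom.StableUnderComposition @Q := by
  intro R S T _ _ _ f g hf hg
  letI := f.toAlgebra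
  letI := g.toAlgebra
  letI := (g.comp f).toAlgebra
  haveI : IsScalarTower R S T := IsScalarTower.of_algebraMap_eq (fun _ => rfl)
  exact isSyntomic_comp R S T hf hg

instance : MorphismProperty.IsStableUnderComposition SyntMor.{u} :=
  HasRingHomProperty.stableUnderComposition stableUnderComposition_Q

theorem isSyntomic_self (A : Type u) [CommRing A] : Synt.IsSyntomic A A := by
  have h1 : Synt.IsSyntomicMor (𝟙 (Spec (CommRingCat.of A))) :=
    Groth.Agent.S9699.result (𝟙 (Spec (CommRingCat.of A)))
  have h2 : SyntMor (Spec.map (𝟙 (CommRingCat.of A))) := by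
    rw [Spec.map_id]; exact h1
  rw [HasRingHomProperty.Spec_iff (P := SyntMor)] at h2
  have h3 : Q (algebraMap A A) := h2
  exact Q_algebraMap_iff.mp h3

theorem isSyntomic_of_isRootTower (p : ℕ) [Fact p.Prime] :
    ∀ (n : ℕ) (A B : Type u) [CommRing A] [CommRing B] [Algebra A B],
      Quiet.IsRootTower p n A B → Synt.IsSyntomic A B := by
  intro n
  induction n with
  | zero =>
    intro A B _ _ _ h
    obtain ⟨e⟩ := h
    exact Groth.Agent.Lead.SyntIso.isSyntomic_of_algEquiv e.symm (isSyntomic_self A)
  | succ n ih =>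
    intro A B _ _ _ h
    obtain ⟨a, alg, htower, h'⟩ := h
    have h1 : Synt.IsSyntomic A (Quiet.RootRing p A a) := (Groth.Agent.S18934.result p A a).1
    have h2 : Synt.IsSyntomic (Quiet.RootRing p A a) B := ih _ _ h'
    exact isSyntomic_comp A (Quiet.RootRing p A a) B h1 h2

theorem isSyntomicMor_of_isPthRoot (p : ℕ) [Fact p.Prime] {V Y' : Scheme.{u}} (r : V ⟶ Y')
    (h : Quiet.IsPthRoot p r) : Synt.IsSyntomicMor r := by
  intro v
  obtain ⟨U, hvU, haff, n, hn⟩ := h (r v)
  refine ⟨⟨r ⁻¹ᵁ U.1, haff⟩, U, le_rfl, hvU, ?_⟩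
  have heq : r.appLE U.1 (r ⁻¹ᵁ U.1) le_rfl = r.app U.1 := r.appLE_eq_app
  show @Synt.IsSyntomic Γ(Y', U.1) _ Γ(V, r ⁻¹ᵁ U.1) _
    (r.appLE U.1 (r ⁻¹ᵁ U.1) le_rfl).hom.toAlgebra
  rw [heq]
  letI := (r.app U.1).hom.toAlgebra
  exact isSyntomic_of_isRootTower p n _ _ hn


/-- Over a scheme `X` of prime characteristic `p`, a quasi-etale morphism `f : Y ⟶ X` (locally on the
source an extraction of `p`-th roots followed by an etale morphism) is syntomic: every point of `Y`
has an affine open neighbourhood mapping into an affine open of `X` such that the induced ring map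
is flat, finitely presented and has local complete intersection fibres. -/
theorem result (p : ℕ) [Fact p.Prime] {X Y : Scheme.{u}} [FrobSch.IsCharP X p]
    (f : Y ⟶ X) (hf : Quiet.IsQuiet p f) : Synt.IsSyntomicMor f := by
  classical
  show SyntMor f
  choose V Y' r e hyV hr he hfac using hf
  refine IsZariskiLocalAtSource.of_iSup_eq_top (P := SyntMor) V ?_ (fun y => ?_)
  · exact top_le_iff.mp fun y _ => TopologicalSpace.Opens.mem_iSup.mpr ⟨y, hyV y⟩
  · rw [← hfac y]
    haveI := he y
    exact MorphismProperty.comp_mem SyntMor (r y) (e y)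
      (isSyntomicMor_of_isPthRoot p (r y) (hr y)) (Groth.Agent.S9699.result (e y))

end Groth.Agent.S15044
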