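import Groth.Statements.S15045
import Mathlib
import Groth.Agent.S15042
import Groth.Agent.S15043
import Groth.Agent.H56.QuietSwap
import Groth.Agent.H56.QuietLift
import Groth.Agent.H65.ThickGlue
-- import your own Groth.Agent.* helpers here

set_option autoImplicit false
open CategoryTheory AlgebraicGeometry
universe u
open Quiet

namespace Groth.Agent.S15045


open CategoryTheory.Limits TensorProduct Groth.Agent.H56.QuietSwap Groth.Agent.H56.QuietLift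

set_option linter.style.haveILetI false
set_option linter.unusedSectionVars false
set_option linter.unusedVariables false

/-- `Spec.map` of a root tower is a `p`-th root morphism. -/
theorem isPthRoot_SpecMap {p n : ℕ} {R S : CommRingCat.{u}} {α : R ⟶ S} (h : TowerHom p n α) :
    Quiet.IsPthRoot p (Spec.map α) := by
  apply Groth.Agent.S15043.isPthRoot_of_towerHom_appTop (n := n)
  have h1 : (Spec.map α).appTop = (Scheme.ΓSpecIso R).hom ≫ α ≫ (Scheme.ΓSpecIso S).inv := by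
    rw [← Category.assoc, ← Scheme.ΓSpecIso_naturality, Category.assoc, Iso.hom_inv_id,
      Category.comp_id]
  rw [h1]
  exact TowerHom.iso_comp _ (h.comp_iso _)

/-- a `p`-th root morphism followed by an etale morphism is quasi-etale. -/
theorem isQuiet_comp_etale {p : ℕ} {P Q X : Scheme.{u}} (r : P ⟶ Q) (e : Q ⟶ X)
    (hr : Quiet.IsPthRoot p r) [Etale e] : Quiet.IsQuiet p (r ≫ e) := by
  intro y
  haveI : IsIso (⊤ : P.Opens).ι := inferInstanceAs (IsIso P.topIso.hom)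
  refine ⟨⊤, Q, (⊤ : P.Opens).ι ≫ r, e, trivial, ?_, inferInstance, by rw [Category.assoc]⟩
  exact Groth.Agent.S15042.isPthRoot_of_isPullback r ((⊤ : P.Opens).ι ≫ r) (⊤ : P.Opens).ι (𝟙 _)
    (IsPullback.of_vert_isIso ⟨by simp⟩) hr


/-- Let `T` be a scheme of prime characteristic `p`, `i : U ⟶ T` a closed immersion which is surjective
on points, and `f' : U' ⟶ U` quasi-etale (locally on `U'` an extraction of `p`-th roots followed by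
an etale morphism). Then every point of `U'` has an open neighbourhood `V` which is the base change
along `i` of a quasi-etale `T`-scheme: there are a quasi-etale `q : T' ⟶ T` and `j : V ⟶ T'` making
`V`, with `j` and `V ⟶ U' ⟶ U`, the fibre product of `q` and `i`. (The published statement asks `U ⟶
T` to be a closed nil-immersion, a term it does not define; this row takes any closed immersion that
is surjective on points, which is all the printed argument uses.) -/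
theorem result (p : ℕ) [Fact p.Prime] {T U U' : Scheme.{u}}
    [FrobSch.IsCharP T p] (i : U ⟶ T) [IsClosedImmersion i] [Surjective i] (f' : U' ⟶ U)
    (hf' : Quiet.IsQuiet p f') (u : U') :
    ∃ (V : U'.Opens) (T' : Scheme.{u}) (q : T' ⟶ T) (j : (V : Scheme.{u}) ⟶ T'),
      u ∈ V ∧ Quiet.IsQuiet p q ∧ IsPullback j (V.ι ≫ f') q i := by
  obtain ⟨V₀, Y', r, e, huV₀, hr, he, hre⟩ := hf' u
  haveI := he
  obtain ⟨Y₁, e₁, he₁, c, hpb⟩ := Groth.Agent.H65.ThickLift.exists_lift i Y' e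
  haveI := he₁
  haveI hc : IsClosedImmersion c :=
    Groth.Agent.H65.ThickLift.Lift.isClosedImmersion_a
      (⟨Y₁, e₁, c, he₁, hpb⟩ : Groth.Agent.H65.ThickLift.Lift i Y' e)
  -- the tower for `r` around `u`
  obtain ⟨U₁, hy'U₁, hrU₁, hn'⟩ := hr (r ⟨u, huV₀⟩)
  obtain ⟨n, hn⟩ : ∃ n, TowerHom p n (r.app U₁.1) := hn'
  -- an open of `Y₁` whose preimage lies in `U₁`
  have hclosed : IsClosed ((fun x => c x) '' ((U₁.1 : Set Y')ᶜ)) :=
    c.isClosedEmbedding.isClosedMap _ U₁.1.isOpen.isClosed_compl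
  have hcyO : c (r ⟨u, huV₀⟩) ∈ ((fun x => c x) '' ((U₁.1 : Set Y')ᶜ))ᶜ := by
    rintro ⟨x, hx, hxe⟩
    have hxx : x = r ⟨u, huV₀⟩ := c.isClosedEmbedding.injective hxe
    exact hx (hxx ▸ hy'U₁)
  obtain ⟨(U₂ : Y₁.Opens), hU₂', hcyU₂, hU₂O⟩ := TopologicalSpace.Opens.isBasis_iff_nbhd.mp
    Y₁.isBasis_affineOpens
    (U := (⟨((fun x => c x) '' ((U₁.1 : Set Y')ᶜ))ᶜ, hclosed.isOpen_compl⟩ : Y₁.Opens))
    (x := c (r ⟨u, huV₀⟩)) hcyO
  have hU₂ : IsAffineOpen U₂ := hU₂'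
  have hO₁ : IsAffineOpen (c ⁻¹ᵁ U₂) := hU₂.preimage c
  have hO₁U₁ : c ⁻¹ᵁ U₂ ≤ U₁.1 := by
    intro x hx
    by_contra hxU
    exact hU₂O hx ⟨x, hxU, rfl⟩
  haveI : IsAffine ↑U₂ := hU₂
  haveI : IsAffine ↑(c ⁻¹ᵁ U₂) := hO₁
  have hO₂ : IsAffineOpen (r ⁻¹ᵁ (c ⁻¹ᵁ U₂)) :=
    (Groth.Agent.S15043.towerHom_of_isPullback r r (𝟙 _) (𝟙 _)
      (IsPullback.of_vert_isIso ⟨by simp⟩) U₁.2 hrU₁ hn hO₁ hO₁U₁).1
  haveI : IsAffine ↑(r ⁻¹ᵁ (c ⁻¹ᵁ U₂)) := hO₂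
  have hψ : TowerHom p n (r ∣_ (c ⁻¹ᵁ U₂)).appTop :=
    (Groth.Agent.S15043.towerHom_of_isPullback r (r ∣_ (c ⁻¹ᵁ U₂)) (r ⁻¹ᵁ (c ⁻¹ᵁ U₂)).ι
      (c ⁻¹ᵁ U₂).ι (isPullback_morphismRestrict r (c ⁻¹ᵁ U₂)) U₁.2 hrU₁ hn (isAffineOpen_top _) (by
        rw [← Scheme.Opens.ι_preimage_self (c ⁻¹ᵁ U₂)]
        exact Scheme.Hom.preimage_mono _ hO₁U₁)).2
  -- lifting the tower
  haveI : IsClosedImmersion (c ∣_ U₂) := IsZariskiLocalAtTarget.restrict hc U₂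
  have hφ : Function.Surjective (c ∣_ U₂).appTop.hom :=
    (IsClosedImmersion.isAffine_surjective_of_isAffine (c ∣_ U₂)).2
  obtain ⟨B₀, α, β, hα, hPO⟩ := TowerHom.lift (c ∣_ U₂).appTop hφ hψ
  -- the three cartesian squares
  have hL := isPullback_SpecMap_of_isPushout _ _ _ _ hPO
  have hL' : IsPullback (r ∣_ (c ⁻¹ᵁ U₂))
      ((↑(r ⁻¹ᵁ (c ⁻¹ᵁ U₂)) : Scheme.{u}).isoSpec.hom ≫ Spec.map β) (c ∣_ U₂)
      (Spec.map α ≫ (↑U₂ : Scheme.{u}).isoSpec.inv) :=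
    hL.of_iso (↑(r ⁻¹ᵁ (c ⁻¹ᵁ U₂)) : Scheme.{u}).isoSpec.symm
      (↑(c ⁻¹ᵁ U₂) : Scheme.{u}).isoSpec.symm (Iso.refl _) (↑U₂ : Scheme.{u}).isoSpec.symm
      (Scheme.isoSpec_inv_naturality (r ∣_ (c ⁻¹ᵁ U₂))) (by simp)
      (Scheme.isoSpec_inv_naturality (c ∣_ U₂)) (by simp)
  have hM : IsPullback (c ⁻¹ᵁ U₂).ι (c ∣_ U₂) c U₂.ι := (isPullback_morphismRestrict c U₂).flip
  have hbig := ((hL'.paste_horiz hM).paste_horiz hpb.flip).flip
  have hfinal := hbig.of_iso (V₀.ι.isoImage (r ⁻¹ᵁ (c ⁻¹ᵁ U₂))) (Iso.refl _) (Iso.refl _)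
    (Iso.refl _)
    (fst' := (V₀.ι.isoImage (r ⁻¹ᵁ (c ⁻¹ᵁ U₂))).inv ≫
      ((↑(r ⁻¹ᵁ (c ⁻¹ᵁ U₂)) : Scheme.{u}).isoSpec.hom ≫ Spec.map β))
    (snd' := (V₀.ι ''ᵁ (r ⁻¹ᵁ (c ⁻¹ᵁ U₂))).ι ≫ f')
    (f' := ((Spec.map α ≫ (↑U₂ : Scheme.{u}).isoSpec.inv) ≫ U₂.ι) ≫ e₁) (g' := i)
    (by simp)
    (by
      rw [Iso.refl_hom, Category.comp_id, ← Category.assoc (V₀.ι.isoImage _).hom,
        Scheme.Hom.isoImage_hom_ι, morphismRestrict_ι, Category.assoc, Category.assoc, hre])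
    (by simp) (by simp)
  refine ⟨V₀.ι ''ᵁ (r ⁻¹ᵁ (c ⁻¹ᵁ U₂)), Spec B₀,
    ((Spec.map α ≫ (↑U₂ : Scheme.{u}).isoSpec.inv) ≫ U₂.ι) ≫ e₁, _,
    ⟨⟨u, huV₀⟩, hcyU₂, rfl⟩, ?_, hfinal⟩
  have hq : ((Spec.map α ≫ (↑U₂ : Scheme.{u}).isoSpec.inv) ≫ U₂.ι) ≫ e₁ =
      Spec.map α ≫ ((↑U₂ : Scheme.{u}).isoSpec.inv ≫ U₂.ι ≫ e₁) := by
    simp only [Category.assoc]
  rw [hq]
  exact isQuiet_comp_etale _ _ (isPthRoot_SpecMap hα)

end Groth.Agent.S15045
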