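import Groth.Statements.S15046
import Groth.Agent.H56.FrobSmoothSch
-- import your own Groth.Agent.* helpers here

set_option autoImplicit false
open CategoryTheory AlgebraicGeometry
universe u
open Quiet

namespace Groth.Agent.S15046

/-- Let `k` be a perfect field of prime characteristic `p` and `A` a smooth `k`-algebra of
characteristic `p`. Then the Frobenius endomorphism `a ↦ a ^ p` of `A` is faithfully flat, and the
endomorphism of `Spec A` it induces is an extraction of `p`-th roots: every point has an affine open
neighbourhood with affine preimage over which the induced ring map is a tower of finitely many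
elementary extractions `B → B[x]/(x^p - b)`. -/
theorem result (p : ℕ) [Fact p.Prime]
    (k : Type u) [Field k] [CharP k p] [PerfectRing k p] (A : Type u) [CommRing A] [Algebra k A]
    [CharP A p] [Algebra.Smooth k A] :
    (frobenius A p).FaithfullyFlat ∧
      Quiet.IsPthRoot p (Spec.map (CommRingCat.ofHom (frobenius A p))) := by
  refine ⟨Groth.Agent.H56.FrobSmooth.frobenius_faithfullyFlat_of_flat p A
    (Groth.Agent.H56.FrobSmooth.frobenius_flat p k A), ?_⟩
  intro x
  have hxp : x.asIdeal.IsPrime := x.isPrime
  obtain ⟨g, hgq, hchar, n, y, hb⟩ :=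
    Groth.Agent.H56.FrobSmooth.exists_good_monomial p k A x.asIdeal
  have hb' := Groth.Agent.H56.FrobSmooth.isBasisVia_frobenius p k (Localization.Away g) hb
  have hU : IsAffineOpen (X := Spec (CommRingCat.of A)) (PrimeSpectrum.basicOpen g) :=
    IsAffineOpen.Spec_basicOpen (R := CommRingCat.of A) g
  have hU' : IsAffineOpen (X := Spec (CommRingCat.of A)) (PrimeSpectrum.basicOpen (g ^ p)) :=
    IsAffineOpen.Spec_basicOpen (R := CommRingCat.of A) (g ^ p)
  refine ⟨⟨PrimeSpectrum.basicOpen g, hU⟩, hgq, hU', ?_⟩
  have hchA : CharP (CommRingCat.of A) p := ‹CharP A p›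
  exact ⟨n, Groth.Agent.H56.FrobSmooth.isRootTower_basicOpen p (CommRingCat.of A)
    (CommRingCat.ofHom (frobenius A p)) (fun a => rfl) g hchar n y hb'⟩

end Groth.Agent.S15046
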