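import Groth.Statements.S15047
import Groth.Agent.S1156
import Mathlib.RingTheory.Flat.FaithfullyFlat.Algebra
import Mathlib.LinearAlgebra.TensorProduct.Tower
import Mathlib.RingTheory.TensorProduct.Basic

set_option autoImplicit false
universe u
open TensorProduct
open Desc

namespace Groth.Agent.S15047

/-- Let A → A' be a faithfully flat homomorphism of commutative rings and M, N any A-modules. An
A'-linear map f : A' ⊗_A M → A' ⊗_A N whose two base changes to A' ⊗_A A' (along a ↦ a ⊗ 1 and a ↦ 1
⊗ a) coincide is the base change of a unique A-linear map h : M → N. Since (A' ⊗_A A') ⊗_A M is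
generated over A' ⊗_A A' by the elements 1 ⊗ m, the agreement of the two base changes is stated on
these generators: for every m, the two images of f (1 ⊗ m) in (A' ⊗_A A') ⊗_A N agree. Equivalently,
the sequence Hom_A(M, N) → Hom_{A'}(A' ⊗ M, A' ⊗ N) ⇉ Hom_{A' ⊗ A'}(A' ⊗ A' ⊗ M, A' ⊗ A' ⊗ N) is an
equalizer diagram. -/
theorem result (A A' : Type u) [CommRing A] [CommRing A'] [Algebra A A']
    [Module.FaithfullyFlat A A'] (M N : Type u) [AddCommGroup M] [Module A M] [AddCommGroup N] [Module A N]
    (f : A' ⊗[A] M →ₗ[A'] A' ⊗[A] N)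
    (hf : ∀ m : M,
      LinearMap.rTensor N (Algebra.TensorProduct.includeLeft : A' →ₐ[A] A' ⊗[A] A').toLinearMap (f (1 ⊗ₜ[A] m)) =
        LinearMap.rTensor N (Algebra.TensorProduct.includeRight : A' →ₐ[A] A' ⊗[A] A').toLinearMap (f (1 ⊗ₜ[A] m))) :
    ∃! h : M →ₗ[A] N, h.baseChange A' = f := by
  classical
  have hinj : Function.Injective (TensorProduct.mk A A' N 1) :=
    Module.FaithfullyFlat.tensorProduct_mk_injective (A := A) (B := A') N
  have e1 : ∀ x : A' ⊗[A] N, TensorProduct.assoc A A' A' N
      (LinearMap.rTensor N (Algebra.TensorProduct.includeLeft : A' →ₐ[A] A' ⊗[A] A').toLinearMap x)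
      = LinearMap.lTensor A' (TensorProduct.mk A A' N 1) x := by
    intro x
    induction x using TensorProduct.induction_on with
    | zero => simp
    | tmul a n => simp
    | add x y hx hy => simp only [map_add, hx, hy]
  have e2 : ∀ x : A' ⊗[A] N, TensorProduct.assoc A A' A' N
      (LinearMap.rTensor N (Algebra.TensorProduct.includeRight : A' →ₐ[A] A' ⊗[A] A').toLinearMap x)
      = TensorProduct.mk A A' (A' ⊗[A] N) 1 x := by
    intro x
    induction x using TensorProduct.induction_on with
    | zero => simp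
    | tmul a n => simp
    | add x y hx hy => simp only [map_add, hx, hy]
  have hrange : ∀ m : M, f (1 ⊗ₜ[A] m) ∈ LinearMap.range (TensorProduct.mk A A' N 1) := by
    intro m
    apply Groth.Agent.S1156.result A A' N
    have h := congrArg (TensorProduct.assoc A A' A' N) (hf m)
    rw [e1, e2] at h
    exact h.symm
  choose h0 hh0 using hrange
  have hh0' : ∀ m, (1 : A') ⊗ₜ[A] h0 m = f (1 ⊗ₜ[A] m) := hh0
  let h : M →ₗ[A] N :=
    { toFun := h0
      map_add' := by
        intro m m'
        apply hinj
        change (1 : A') ⊗ₜ[A] h0 (m + m') = (1 : A') ⊗ₜ[A] (h0 m + h0 m')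
        rw [hh0', TensorProduct.tmul_add, TensorProduct.tmul_add, map_add, hh0', hh0']
      map_smul' := by
        intro a m
        apply hinj
        change (1 : A') ⊗ₜ[A] h0 (a • m) = (1 : A') ⊗ₜ[A] ((RingHom.id A) a • h0 m)
        rw [hh0', RingHom.id_apply, TensorProduct.tmul_smul, TensorProduct.tmul_smul, hh0']
        exact (f.restrictScalars A).map_smul a _ }
  have hh : ∀ m, h m = h0 m := fun m => rfl
  refine ⟨h, ?_, ?_⟩
  · apply TensorProduct.AlgebraTensorModule.ext
    intro a m
    rw [LinearMap.baseChange_tmul, hh]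
    have h1 : a ⊗ₜ[A] m = a • ((1 : A') ⊗ₜ[A] m) := by
      rw [TensorProduct.smul_tmul', smul_eq_mul, mul_one]
    have h2 : a ⊗ₜ[A] h0 m = a • ((1 : A') ⊗ₜ[A] h0 m) := by
      rw [TensorProduct.smul_tmul', smul_eq_mul, mul_one]
    rw [h1, h2, map_smul, hh0']
  · intro h' hh'
    ext m
    apply hinj
    change (1 : A') ⊗ₜ[A] h' m = (1 : A') ⊗ₜ[A] h m
    rw [hh, hh0', ← hh', LinearMap.baseChange_tmul]

end Groth.Agent.S15047
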