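import Groth.Statements.S15049
import Groth.Agent.H75.LT3

set_option autoImplicit false
universe u
open LubinTate

namespace Groth.Agent.S15049

/-- Let O be a discrete valuation ring with finite residue field of cardinality q, π a uniformizer of O,
and f = πT + T^q ∈ O[[T]]. Then there is a one-dimensional commutative formal group law F(X,Y) over
O for which f is an endomorphism, f(F(X,Y)) = F(f(X), f(Y)); and F is the unique power series in
O[[X,Y]] with zero constant term and linear part X + Y satisfying this identity. (The published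
statement is for the ring of integers of a finite extension of ℚ_p or of 𝔽_q((X)); completeness is
not used and any discrete valuation ring with finite residue field is allowed here.) -/
theorem result (O : Type u) [CommRing O] [IsDomain O] [IsDiscreteValuationRing O]
    [Finite (IsLocalRing.ResidueField O)] (π : O) (hπ : Irreducible π) (f : PowerSeries O)
    (hf : f = π • PowerSeries.X + PowerSeries.X ^ Nat.card (IsLocalRing.ResidueField O)) :
    ∃ F : FormalGroup O, F.IsComm ∧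
      PowerSeries.subst F.toPowerSeries f =
        MvPowerSeries.subst (fun i : Fin 2 => PowerSeries.subst (MvPowerSeries.X i : MvPowerSeries (Fin 2) O) f) F.toPowerSeries ∧
      ∀ G : MvPowerSeries (Fin 2) O, G.constantCoeff = 0 → G.coeff (Finsupp.single 0 1) = 1 →
        G.coeff (Finsupp.single 1 1) = 1 →
        PowerSeries.subst G f =
        MvPowerSeries.subst (fun i : Fin 2 => PowerSeries.subst (MvPowerSeries.X i : MvPowerSeries (Fin 2) O) f) G →
        G = F.toPowerSeries := by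
  subst hf
  obtain ⟨q, hq⟩ : ∃ q, q = Nat.card (IsLocalRing.ResidueField O) := ⟨_, rfl⟩
  rw [← hq]
  have hq2 : 2 ≤ q := by
    rw [hq]
    exact Groth.Agent.H75.LT.dvr_card
  have hL0 : MvPowerSeries.constantCoeff
      (MvPowerSeries.X 0 + MvPowerSeries.X 1 : MvPowerSeries (Fin 2) O) = 0 := by
    rw [map_add, MvPowerSeries.constantCoeff_X, MvPowerSeries.constantCoeff_X, add_zero]
  obtain ⟨Fs, hF0, hF2, hFc⟩ := Groth.Agent.H75.LT.exist (σ := Fin 2) π hq2 1 hπ.ne_zero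
    (Groth.Agent.H75.LT.dvr_unit hπ) (Groth.Agent.H75.LT.frob_O hπ q hq)
    (MvPowerSeries.X 0 + MvPowerSeries.X 1) hL0
  have hF2' : Groth.Agent.H75.LT.Cong2 Fs (MvPowerSeries.X 0 + MvPowerSeries.X 1) := hF2
  have hFX : MvPowerSeries.coeff (Finsupp.single 0 1) Fs = 1 := by
    rw [Groth.Agent.H75.LT.Cong2.coeff_single hF2' 0, map_add,
      MvPowerSeries.coeff_index_single_self_X, MvPowerSeries.coeff_index_single_X,
      if_neg (by decide), add_zero]
  have hFY : MvPowerSeries.coeff (Finsupp.single 1 1) Fs = 1 := by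
    rw [Groth.Agent.H75.LT.Cong2.coeff_single hF2' 1, map_add,
      MvPowerSeries.coeff_index_single_X, if_neg (by decide),
      MvPowerSeries.coeff_index_single_self_X, zero_add]
  have hX3 : ∀ i : Fin 3, MvPowerSeries.constantCoeff
      (MvPowerSeries.X i : MvPowerSeries (Fin 3) O) = 0 :=
    fun i => MvPowerSeries.constantCoeff_X i
  have hcX3 : ∀ i : Fin 3, Groth.Agent.H75.LT.psi π q 1
      (MvPowerSeries.X i : MvPowerSeries (Fin 3) O) =
      Groth.Agent.H75.LT.phi π q (MvPowerSeries.X i) :=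
    fun i => Groth.Agent.H75.LT.comm_X π hq2 i
  have hA1_0 := Groth.Agent.H75.LT.cc_subst2 Fs hF0
    (MvPowerSeries.X 0 : MvPowerSeries (Fin 3) O) (MvPowerSeries.X 1) (hX3 0) (hX3 1)
  have hA1_c := Groth.Agent.H75.LT.comm_comp2 π hq2 1 Fs
    (MvPowerSeries.X 0 : MvPowerSeries (Fin 3) O) (MvPowerSeries.X 1) (hX3 0) (hX3 1) hFc
    (hcX3 0) (hcX3 1)
  have hA1_2 := Groth.Agent.H75.LT.cong2_subst2' Fs hF0 hFX hFY
    (MvPowerSeries.X 0 : MvPowerSeries (Fin 3) O) (MvPowerSeries.X 1) (hX3 0) (hX3 1)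
  have hA2_0 := Groth.Agent.H75.LT.cc_subst2 Fs hF0
    (MvPowerSeries.X 1 : MvPowerSeries (Fin 3) O) (MvPowerSeries.X 2) (hX3 1) (hX3 2)
  have hA2_c := Groth.Agent.H75.LT.comm_comp2 π hq2 1 Fs
    (MvPowerSeries.X 1 : MvPowerSeries (Fin 3) O) (MvPowerSeries.X 2) (hX3 1) (hX3 2) hFc
    (hcX3 1) (hcX3 2)
  have hA2_2 := Groth.Agent.H75.LT.cong2_subst2' Fs hF0 hFX hFY
    (MvPowerSeries.X 1 : MvPowerSeries (Fin 3) O) (MvPowerSeries.X 2) (hX3 1) (hX3 2)
  have hassoc : MvPowerSeries.subst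
      ![MvPowerSeries.subst ![(MvPowerSeries.X 0 : MvPowerSeries (Fin 3) O), MvPowerSeries.X 1] Fs,
        MvPowerSeries.X 2] Fs =
      MvPowerSeries.subst ![(MvPowerSeries.X 0 : MvPowerSeries (Fin 3) O),
        MvPowerSeries.subst ![(MvPowerSeries.X 1 : MvPowerSeries (Fin 3) O), MvPowerSeries.X 2] Fs]
        Fs := by
    refine Groth.Agent.H75.LT.uniq π hq2 1 hπ.ne_zero (Groth.Agent.H75.LT.dvr_unit hπ) _ _
      (Groth.Agent.H75.LT.cc_subst2 Fs hF0 _ _ hA1_0 (hX3 2))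
      (Groth.Agent.H75.LT.cc_subst2 Fs hF0 _ _ (hX3 0) hA2_0) ?_
      (Groth.Agent.H75.LT.comm_comp2 π hq2 1 Fs _ _ hA1_0 (hX3 2) hFc hA1_c (hcX3 2))
      (Groth.Agent.H75.LT.comm_comp2 π hq2 1 Fs _ _ (hX3 0) hA2_0 hFc (hcX3 0) hA2_c)
    have h1 := (Groth.Agent.H75.LT.cong2_subst2' Fs hF0 hFX hFY _ _ hA1_0 (hX3 2)).trans
      (hA1_2.add (Groth.Agent.H75.LT.Cong2.refl (MvPowerSeries.X 2)))
    have h2 := (Groth.Agent.H75.LT.cong2_subst2' Fs hF0 hFX hFY _ _ (hX3 0) hA2_0).trans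
      ((Groth.Agent.H75.LT.Cong2.refl (MvPowerSeries.X 0)).add hA2_2)
    rw [add_assoc] at h1
    exact h1.trans h2.symm
  have hX2 : ∀ i : Fin 2, MvPowerSeries.constantCoeff
      (MvPowerSeries.X i : MvPowerSeries (Fin 2) O) = 0 :=
    fun i => MvPowerSeries.constantCoeff_X i
  have hcX2 : ∀ i : Fin 2, Groth.Agent.H75.LT.psi π q 1
      (MvPowerSeries.X i : MvPowerSeries (Fin 2) O) =
      Groth.Agent.H75.LT.phi π q (MvPowerSeries.X i) :=
    fun i => Groth.Agent.H75.LT.comm_X π hq2 i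
  have hcomm : Fs = MvPowerSeries.subst
      ![(MvPowerSeries.X 1 : MvPowerSeries (Fin 2) O), MvPowerSeries.X 0] Fs := by
    refine Groth.Agent.H75.LT.uniq π hq2 1 hπ.ne_zero (Groth.Agent.H75.LT.dvr_unit hπ) _ _ hF0
      (Groth.Agent.H75.LT.cc_subst2 Fs hF0 _ _ (hX2 1) (hX2 0)) ?_ hFc
      (Groth.Agent.H75.LT.comm_comp2 π hq2 1 Fs _ _ (hX2 1) (hX2 0) hFc (hcX2 1) (hcX2 0))
    have h2 := Groth.Agent.H75.LT.cong2_subst2' Fs hF0 hFX hFY
      (MvPowerSeries.X 1 : MvPowerSeries (Fin 2) O) (MvPowerSeries.X 0) (hX2 1) (hX2 0)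
    rw [add_comm (MvPowerSeries.X 1 : MvPowerSeries (Fin 2) O) (MvPowerSeries.X 0)] at h2
    exact hF2'.trans h2.symm
  obtain ⟨F, hFdef⟩ : ∃ F : FormalGroup O, F.toPowerSeries = Fs :=
    ⟨⟨Fs, hF0, hFX, hFY, hassoc⟩, rfl⟩
  refine ⟨F, ⟨?_⟩, ?_, ?_⟩
  · rw [hFdef]
    exact hcomm
  · rw [hFdef, Groth.Agent.H75.LT.bridge_psi π q Fs hF0, Groth.Agent.H75.LT.bridge_phi]
    exact hFc
  · intro G hG0 hGX hGY hG
    rw [hFdef]
    exact Groth.Agent.H75.LT.uniq π hq2 1 hπ.ne_zero (Groth.Agent.H75.LT.dvr_unit hπ) G Fs hG0 hF0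
      (Groth.Agent.H75.LT.cong2_of_coeff (hG0.trans hF0.symm)
        (Fin.forall_fin_two.mpr ⟨hGX.trans hFX.symm, hGY.trans hFY.symm⟩))
      (Groth.Agent.H75.LT.comm_of_eq2 π q G hG0 hG) hFc

end Groth.Agent.S15049
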