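import Groth.Statements.S15050
import Groth.Agent.H75.LT2

set_option autoImplicit false
universe u
open LubinTate

namespace Groth.Agent.S15050

/-- Let O be a discrete valuation ring with finite residue field of cardinality q, π a uniformizer of O,
and f = πT + T^q ∈ O[[T]]. For every α ∈ O there is a unique power series g = [α] ∈ O[[T]] with zero
constant term and linear coefficient α which commutes with f under substitution, g(f(T)) = f(g(T)).
(The published statement is for the ring of integers of a finite extension of ℚ_p or of 𝔽_q((X));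
completeness is not used and any discrete valuation ring with finite residue field is allowed here.) -/
theorem result (O : Type u) [CommRing O] [IsDomain O] [IsDiscreteValuationRing O]
    [Finite (IsLocalRing.ResidueField O)] (π : O) (hπ : Irreducible π) (f : PowerSeries O)
    (hf : f = π • PowerSeries.X + PowerSeries.X ^ Nat.card (IsLocalRing.ResidueField O)) (α : O) :
    ∃! g : PowerSeries O, g.constantCoeff = 0 ∧ g.coeff 1 = α ∧
      PowerSeries.subst g f = PowerSeries.subst f g := by
  subst hf
  obtain ⟨q, hq⟩ : ∃ q, q = Nat.card (IsLocalRing.ResidueField O) := ⟨_, rfl⟩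
  rw [← hq]
  have hq2 : 2 ≤ q := by
    rw [hq]
    exact Groth.Agent.H75.LT.dvr_card
  have hL0 : MvPowerSeries.constantCoeff (α • (PowerSeries.X : PowerSeries O)) = 0 := by
    change PowerSeries.constantCoeff (α • (PowerSeries.X : PowerSeries O)) = 0
    simp
  obtain ⟨H, hH0, hH2, hHc⟩ := Groth.Agent.H75.LT.exist (σ := Unit) π hq2 1 hπ.ne_zero
    (Groth.Agent.H75.LT.dvr_unit hπ) (Groth.Agent.H75.LT.frob_O hπ q hq)
    (α • (PowerSeries.X : PowerSeries O)) hL0
  have hcoef : PowerSeries.coeff 1 H = α := by
    have h1 : PowerSeries.coeff 1 H = PowerSeries.coeff 1 (α • (PowerSeries.X : PowerSeries O)) :=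
      Groth.Agent.H75.LT.Cong2.coeff_single hH2 ()
    rw [h1]
    simp
  refine ⟨H, ⟨hH0, hcoef, ?_⟩, ?_⟩
  · rw [Groth.Agent.H75.LT.bridge_psi π q H hH0, Groth.Agent.H75.LT.bridge_phi1]
    exact hHc
  · rintro g' ⟨h0', h1', hc'⟩
    refine Groth.Agent.H75.LT.uniq π hq2 1 hπ.ne_zero (Groth.Agent.H75.LT.dvr_unit hπ) g' H
      h0' hH0 (Groth.Agent.H75.LT.cong2_of_coeff ?_ ?_) ?_ hHc
    · exact h0'.trans hH0.symm
    · intro i
      exact h1'.trans hcoef.symm
    · rw [← Groth.Agent.H75.LT.bridge_psi π q g' h0', ← Groth.Agent.H75.LT.bridge_phi1]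
      exact hc'

end Groth.Agent.S15050
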