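import Groth.Statements.S15051
import Groth.Agent.H75.LT3

set_option autoImplicit false
universe u
open LubinTate

namespace Groth.Agent.S15051

/-- Let O be a discrete valuation ring with finite residue field of cardinality q, π a uniformizer of O,
and f = πT + T^q ∈ O[[T]]; let F be a one-dimensional formal group law over O for which f is an
endomorphism, f(F(X,Y)) = F(f(X), f(Y)), and g ∈ O[[T]] a power series with zero constant term which
commutes with f, g(f(T)) = f(g(T)). Then g is an endomorphism of F, that is g(F(X,Y)) = F(g(X),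
g(Y)); so α ↦ [α] maps O into the endomorphisms of the Lubin–Tate formal group. (The published
statement is for the ring of integers of a finite extension of ℚ_p or of 𝔽_q((X)); completeness is
not used and any discrete valuation ring with finite residue field is allowed here.) -/
theorem result (O : Type u) [CommRing O] [IsDomain O] [IsDiscreteValuationRing O]
    [Finite (IsLocalRing.ResidueField O)] (π : O) (hπ : Irreducible π) (f : PowerSeries O)
    (hf : f = π • PowerSeries.X + PowerSeries.X ^ Nat.card (IsLocalRing.ResidueField O))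
    (F : FormalGroup O)
    (hF : PowerSeries.subst F.toPowerSeries f =
        MvPowerSeries.subst (fun i : Fin 2 => PowerSeries.subst (MvPowerSeries.X i : MvPowerSeries (Fin 2) O) f) F.toPowerSeries)
    (g : PowerSeries O) (hg0 : g.constantCoeff = 0)
    (hgf : PowerSeries.subst g f = PowerSeries.subst f g) :
    PowerSeries.subst F.toPowerSeries g =
      MvPowerSeries.subst (fun i : Fin 2 => PowerSeries.subst (MvPowerSeries.X i : MvPowerSeries (Fin 2) O) g)
        F.toPowerSeries := by
  subst hf
  obtain ⟨q, hq⟩ : ∃ q, q = Nat.card (IsLocalRing.ResidueField O) := ⟨_, rfl⟩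
  rw [← hq] at hF hgf
  have hq2 : 2 ≤ q := by
    rw [hq]
    exact Groth.Agent.H75.LT.dvr_card
  have hFc := Groth.Agent.H75.LT.comm_of_eq2 π q F.toPowerSeries F.zero_constantCoeff hF
  have hgc := Groth.Agent.H75.LT.comm_of_eq π q g hg0 hgf
  have ha0 : ∀ i : Fin 2, MvPowerSeries.constantCoeff
      (PowerSeries.subst (MvPowerSeries.X i : MvPowerSeries (Fin 2) O) g) = 0 :=
    fun i => Groth.Agent.H75.LT.cc_subst1 g hg0 (MvPowerSeries.X i)
      (MvPowerSeries.constantCoeff_X i)
  have hac : ∀ i : Fin 2, Groth.Agent.H75.LT.psi π q 1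
      (PowerSeries.subst (MvPowerSeries.X i : MvPowerSeries (Fin 2) O) g) =
      Groth.Agent.H75.LT.phi π q
        (PowerSeries.subst (MvPowerSeries.X i : MvPowerSeries (Fin 2) O) g) :=
    fun i => Groth.Agent.H75.LT.comm_comp1 π hq2 1 g (MvPowerSeries.X i)
      (MvPowerSeries.constantCoeff_X i) hgc (Groth.Agent.H75.LT.comm_X π hq2 i)
  have ha2 : ∀ i : Fin 2, Groth.Agent.H75.LT.Cong2
      (PowerSeries.subst (MvPowerSeries.X i : MvPowerSeries (Fin 2) O) g)
      (PowerSeries.coeff 1 g • (MvPowerSeries.X i : MvPowerSeries (Fin 2) O)) :=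
    fun i => Groth.Agent.H75.LT.cong2_subst1 g hg0 (MvPowerSeries.X i)
      (MvPowerSeries.constantCoeff_X i)
  refine Groth.Agent.H75.LT.uniq π hq2 1 hπ.ne_zero (Groth.Agent.H75.LT.dvr_unit hπ) _ _
    (Groth.Agent.H75.LT.cc_subst1 g hg0 F.toPowerSeries F.zero_constantCoeff)
    (Groth.Agent.H75.LT.cc_subst F.toPowerSeries F.zero_constantCoeff _ ha0) ?_
    (Groth.Agent.H75.LT.comm_comp1 π hq2 1 g F.toPowerSeries F.zero_constantCoeff hgc hFc)
    (Groth.Agent.H75.LT.comm_comp π hq2 1 F.toPowerSeries _ ha0 hFc hac)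
  have h1 := (Groth.Agent.H75.LT.cong2_subst1 g hg0 F.toPowerSeries F.zero_constantCoeff).trans
    ((Groth.Agent.H75.LT.cong2_XY F.toPowerSeries F.zero_constantCoeff F.lin_coeff_X
      F.lin_coeff_Y).smul (PowerSeries.coeff 1 g))
  have h2 := (Groth.Agent.H75.LT.cong2_subst2 F.toPowerSeries F.zero_constantCoeff F.lin_coeff_X
    F.lin_coeff_Y _ ha0).trans ((ha2 0).add (ha2 1))
  rw [smul_add] at h1
  exact h1.trans h2.symm

end Groth.Agent.S15051
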