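import Groth.Statements.S15052
import Groth.Agent.H75.LT3

set_option autoImplicit false
universe u
open LubinTate

namespace Groth.Agent.S15052

/-- Let O be a discrete valuation ring with finite residue field of cardinality q, π a uniformizer of O,
and f = πT + T^q ∈ O[[T]]; let K be the fraction field of O and F a one-dimensional formal group law
over O for which f is an endomorphism, f(F(X,Y)) = F(f(X), f(Y)). Then there is a unique power
series ℓ ∈ K[[T]] with zero constant term and linear coefficient 1 such that ℓ(f(T)) = π·ℓ(T); this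
logarithm is a homomorphism to the additive formal group, ℓ(F(T,S)) = ℓ(T) + ℓ(S), and it is
O-linear in the sense that ℓ(g(T)) = α·ℓ(T) for every α ∈ O and every series g ∈ O[[T]] with zero
constant term and linear coefficient α commuting with f. (The published statement is for the ring of
integers of a finite extension of ℚ_p; completeness is not used and any discrete valuation ring with
finite residue field is allowed here.) -/
theorem result (O : Type u) [CommRing O] [IsDomain O] [IsDiscreteValuationRing O]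
    [Finite (IsLocalRing.ResidueField O)] (K : Type u) [Field K] [Algebra O K] [IsFractionRing O K]
    (π : O) (hπ : Irreducible π) (f : PowerSeries O)
    (hf : f = π • PowerSeries.X + PowerSeries.X ^ Nat.card (IsLocalRing.ResidueField O))
    (F : FormalGroup O)
    (hF : PowerSeries.subst F.toPowerSeries f =
        MvPowerSeries.subst (fun i : Fin 2 => PowerSeries.subst (MvPowerSeries.X i : MvPowerSeries (Fin 2) O) f) F.toPowerSeries) :
    ∃ ℓ : PowerSeries K, (ℓ.constantCoeff = 0 ∧ ℓ.coeff 1 = 1 ∧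
      PowerSeries.subst (PowerSeries.map (algebraMap O K) f) ℓ = algebraMap O K π • ℓ) ∧
      (∀ ℓ' : PowerSeries K, ℓ'.constantCoeff = 0 → ℓ'.coeff 1 = 1 →
        PowerSeries.subst (PowerSeries.map (algebraMap O K) f) ℓ' = algebraMap O K π • ℓ' → ℓ' = ℓ) ∧
      PowerSeries.subst ((F.toPowerSeries).map (algebraMap O K)) ℓ =
        PowerSeries.subst (MvPowerSeries.X (0 : Fin 2) : MvPowerSeries (Fin 2) K) ℓ +
          PowerSeries.subst (MvPowerSeries.X (1 : Fin 2) : MvPowerSeries (Fin 2) K) ℓ ∧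
      (∀ (α : O) (g : PowerSeries O), g.constantCoeff = 0 → g.coeff 1 = α →
        PowerSeries.subst g f = PowerSeries.subst f g →
        PowerSeries.subst (PowerSeries.map (algebraMap O K) g) ℓ = algebraMap O K α • ℓ) := by
  subst hf
  obtain ⟨q, hq⟩ : ∃ q, q = Nat.card (IsLocalRing.ResidueField O) := ⟨_, rfl⟩
  rw [← hq] at hF ⊢
  have hq2 : 2 ≤ q := by
    rw [hq]
    exact Groth.Agent.H75.LT.dvr_card
  obtain ⟨π', hπ'def⟩ : ∃ π' : K, π' = algebraMap O K π := ⟨_, rfl⟩
  have hf' : PowerSeries.map (algebraMap O K)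
      (π • PowerSeries.X + PowerSeries.X ^ q : PowerSeries O) =
      π' • PowerSeries.X + PowerSeries.X ^ q := by
    rw [hπ'def]
    exact Groth.Agent.H75.LT.map_f (algebraMap O K) π q
  simp only [hf']
  rw [← hπ'def]
  have hπ'0 : π' ≠ 0 := by
    rw [hπ'def]
    exact Groth.Agent.H75.LT.frac_ne_zero hπ
  have hun' : ∀ r : ℕ, 1 ≤ r → IsUnit (1 - π' ^ r) := by
    rw [hπ'def]
    exact Groth.Agent.H75.LT.frac_unit hπ
  have hFc := Groth.Agent.H75.LT.comm_of_eq2 π q F.toPowerSeries F.zero_constantCoeff hF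
  have hX0 : MvPowerSeries.constantCoeff (PowerSeries.X : PowerSeries K) = 0 :=
    MvPowerSeries.constantCoeff_X ()
  obtain ⟨ℓ, hℓ0, hℓ2, hℓc⟩ := Groth.Agent.H75.LT.exist (σ := Unit) π' hq2 0 hπ'0 hun'
    (Groth.Agent.H75.LT.frac_frob π' hπ'0 q 0) (PowerSeries.X : PowerSeries K) hX0
  have hℓ2' : Groth.Agent.H75.LT.Cong2 ℓ (PowerSeries.X : PowerSeries K) := hℓ2
  have hℓ1 : PowerSeries.coeff 1 ℓ = 1 := by
    have h1 : PowerSeries.coeff 1 ℓ = PowerSeries.coeff 1 (PowerSeries.X : PowerSeries K) :=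
      Groth.Agent.H75.LT.Cong2.coeff_single hℓ2' ()
    rw [h1, PowerSeries.coeff_one_X]
  have hℓ1' : MvPowerSeries.coeff (Finsupp.single () 1) (ℓ : MvPowerSeries Unit K) = 1 := hℓ1
  have hℓc' : π' • ℓ = Groth.Agent.H75.LT.phi π' q (ℓ : MvPowerSeries Unit K) := by
    rw [← Groth.Agent.H75.LT.psi_zero π' q]
    exact hℓc
  refine ⟨ℓ, ⟨hℓ0, hℓ1, ?_⟩, ?_, ?_, ?_⟩
  · rw [Groth.Agent.H75.LT.bridge_phi1]
    exact hℓc'.symm
  · intro ℓ' h0' h1' hc'
    refine Groth.Agent.H75.LT.uniq π' hq2 0 hπ'0 hun' ℓ' ℓ h0' hℓ0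
      (Groth.Agent.H75.LT.cong2_of_coeff (h0'.trans hℓ0.symm) (fun i => h1'.trans hℓ1.symm)) ?_ hℓc
    rw [Groth.Agent.H75.LT.psi_zero, ← Groth.Agent.H75.LT.bridge_phi1]
    exact hc'.symm
  · obtain ⟨FK, hFKdef⟩ : ∃ FK : MvPowerSeries (Fin 2) K,
        FK = MvPowerSeries.map (algebraMap O K) F.toPowerSeries := ⟨_, rfl⟩
    rw [← hFKdef]
    have hFK0 : MvPowerSeries.constantCoeff FK = 0 := by
      rw [hFKdef, MvPowerSeries.constantCoeff_map, F.zero_constantCoeff, map_zero]
    have hFKX : MvPowerSeries.coeff (Finsupp.single 0 1) FK = 1 := by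
      rw [hFKdef, MvPowerSeries.coeff_map, F.lin_coeff_X, map_one]
    have hFKY : MvPowerSeries.coeff (Finsupp.single 1 1) FK = 1 := by
      rw [hFKdef, MvPowerSeries.coeff_map, F.lin_coeff_Y, map_one]
    have hFKc : Groth.Agent.H75.LT.psi π' q 1 FK = Groth.Agent.H75.LT.phi π' q FK := by
      have h := congrArg (MvPowerSeries.map (algebraMap O K)) hFc
      rw [Groth.Agent.H75.LT.map_psi, Groth.Agent.H75.LT.map_phi (algebraMap O K) π hq2, map_one,
        ← hπ'def, ← hFKdef] at h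
      exact h
    have hB0 : ∀ i : Fin 2, MvPowerSeries.constantCoeff
        (PowerSeries.subst (MvPowerSeries.X i : MvPowerSeries (Fin 2) K) ℓ) = 0 :=
      fun i => Groth.Agent.H75.LT.cc_subst1 ℓ hℓ0 (MvPowerSeries.X i)
        (MvPowerSeries.constantCoeff_X i)
    have hBc : ∀ i : Fin 2, Groth.Agent.H75.LT.psi π' q 0
        (PowerSeries.subst (MvPowerSeries.X i : MvPowerSeries (Fin 2) K) ℓ) =
        Groth.Agent.H75.LT.phi π' q
          (PowerSeries.subst (MvPowerSeries.X i : MvPowerSeries (Fin 2) K) ℓ) :=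
      fun i => Groth.Agent.H75.LT.comm_comp1 π' hq2 0 ℓ (MvPowerSeries.X i)
        (MvPowerSeries.constantCoeff_X i) hℓc (Groth.Agent.H75.LT.comm_X π' hq2 i)
    have hB2 : ∀ i : Fin 2, Groth.Agent.H75.LT.Cong2
        (PowerSeries.subst (MvPowerSeries.X i : MvPowerSeries (Fin 2) K) ℓ)
        (MvPowerSeries.X i) := by
      intro i
      have h := Groth.Agent.H75.LT.cong2_subst1 ℓ hℓ0
        (MvPowerSeries.X i : MvPowerSeries (Fin 2) K) (MvPowerSeries.constantCoeff_X i)
      rwa [hℓ1, one_smul] at h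
    refine Groth.Agent.H75.LT.uniq π' hq2 0 hπ'0 hun' _ _
      (Groth.Agent.H75.LT.cc_subst1 ℓ hℓ0 FK hFK0)
      (by rw [map_add, hB0 0, hB0 1, add_zero]) ?_
      (Groth.Agent.H75.LT.comm_comp1 π' hq2 0 ℓ FK hFK0 hℓc hFKc) ?_
    · have h1 := Groth.Agent.H75.LT.cong2_subst1 ℓ hℓ0 FK hFK0
      rw [hℓ1, one_smul] at h1
      exact (h1.trans (Groth.Agent.H75.LT.cong2_XY FK hFK0 hFKX hFKY)).trans
        ((hB2 0).add (hB2 1)).symm
    · rw [Groth.Agent.H75.LT.psi_zero, smul_add, Groth.Agent.H75.LT.phi_add π' hq2,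
        ← Groth.Agent.H75.LT.psi_zero π' q, ← Groth.Agent.H75.LT.psi_zero π' q, hBc 0, hBc 1]
  · intro α g hg0 hg1 hgf
    have hgc := Groth.Agent.H75.LT.comm_of_eq π q g hg0 hgf
    obtain ⟨gK, hgKdef⟩ : ∃ gK : PowerSeries K, gK = PowerSeries.map (algebraMap O K) g :=
      ⟨_, rfl⟩
    rw [← hgKdef]
    have hgKdef' : gK = MvPowerSeries.map (algebraMap O K) (g : MvPowerSeries Unit O) := hgKdef
    have hg0' : MvPowerSeries.constantCoeff (g : MvPowerSeries Unit O) = 0 := hg0
    have hg1' : MvPowerSeries.coeff (Finsupp.single () 1) (g : MvPowerSeries Unit O) = α := hg1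
    have hgK0 : MvPowerSeries.constantCoeff (gK : MvPowerSeries Unit K) = 0 := by
      rw [hgKdef', MvPowerSeries.constantCoeff_map, hg0', map_zero]
    have hgK1 : MvPowerSeries.coeff (Finsupp.single () 1) (gK : MvPowerSeries Unit K) =
        algebraMap O K α := by
      rw [hgKdef', MvPowerSeries.coeff_map, hg1']
    have hgKc : Groth.Agent.H75.LT.psi π' q 1 (gK : MvPowerSeries Unit K) =
        Groth.Agent.H75.LT.phi π' q (gK : MvPowerSeries Unit K) := by
      have h := congrArg (MvPowerSeries.map (algebraMap O K)) hgc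
      rw [Groth.Agent.H75.LT.map_psi, Groth.Agent.H75.LT.map_phi (algebraMap O K) π hq2, map_one,
        ← hπ'def, ← hgKdef'] at h
      exact h
    refine Groth.Agent.H75.LT.uniq π' hq2 0 hπ'0 hun' _ _
      (Groth.Agent.H75.LT.cc_subst1 ℓ hℓ0 gK hgK0) ?_ ?_
      (Groth.Agent.H75.LT.comm_comp1 π' hq2 0 ℓ gK hgK0 hℓc hgKc) ?_
    · rw [MvPowerSeries.smul_eq_C_mul, map_mul, hℓ0, mul_zero]
    · have h1 := Groth.Agent.H75.LT.cong2_subst1 ℓ hℓ0 gK hgK0
      rw [hℓ1, one_smul] at h1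
      refine h1.trans (Groth.Agent.H75.LT.cong2_of_coeff ?_ ?_)
      · rw [hgK0, MvPowerSeries.smul_eq_C_mul, map_mul, hℓ0, mul_zero]
      · intro i
        rw [hgK1, MvPowerSeries.coeff_smul, hℓ1', mul_one]
    · rw [Groth.Agent.H75.LT.psi_zero, Groth.Agent.H75.LT.phi_smul π' hq2, ← hℓc', smul_comm]

end Groth.Agent.S15052
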