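import Groth.Statements.S15056
import Mathlib
import Groth.Agent.H83.MultTors

set_option autoImplicit false
universe u
open scoped TensorProduct
open FrobAlg

namespace Groth.Agent.S15056

/-- an algebraically closed field containing a domain, with no inherited scalar actions -/
def Kc (B : Type u) [CommRing B] [IsDomain B] : Type u := AlgebraicClosure (FractionRing B)

noncomputable instance (B : Type u) [CommRing B] [IsDomain B] : Field (Kc B) :=
  inferInstanceAs (Field (AlgebraicClosure (FractionRing B)))

instance (B : Type u) [CommRing B] [IsDomain B] : IsAlgClosed (Kc B) :=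
  inferInstanceAs (IsAlgClosed (AlgebraicClosure (FractionRing B)))

noncomputable def toKc (B : Type u) [CommRing B] [IsDomain B] : B →+* Kc B :=
  (algebraMap (FractionRing B) (AlgebraicClosure (FractionRing B))).comp
    (algebraMap B (FractionRing B))

theorem toKc_injective (B : Type u) [CommRing B] [IsDomain B] : Function.Injective (toKc B) :=
  (algebraMap (FractionRing B) (AlgebraicClosure (FractionRing B))).injective.comp
    (IsFractionRing.injective B (FractionRing B))

theorem aux {R A : Type u} [CommRing R] [CommRing A] [HopfAlgebra R A] (K : Type u) [Field K]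
    [Algebra R K] (φa : A →ₐ[R] K) (hB : IsLocalRing (K ⊗[R] A)) (a : A)
    (ha : Coalgebra.counit (R := R) a = 0) : φa a = 0 := by
  let ψ : K ⊗[R] A →ₐ[K] K :=
    Algebra.TensorProduct.lift (Algebra.ofId K K) φa (fun _ _ => Commute.all _ _)
  have hψ1 : ∀ (c : K) (x : A), ψ (c ⊗ₜ[R] x) = c * φa x := by
    intro c x
    rw [Algebra.TensorProduct.lift_tmul]
    rfl
  have hψ : Function.Surjective ψ := fun c => ⟨c ⊗ₜ 1, by rw [hψ1, map_one, mul_one]⟩
  have hε1 : ∀ (c : K) (x : A),
      Bialgebra.counitAlgHom K (K ⊗[R] A) (c ⊗ₜ[R] x) = Coalgebra.counit (R := R) x • c := by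
    intro c x
    rw [Bialgebra.counitAlgHom_apply, TensorProduct.counit_tmul]
    rfl
  have hε : Function.Surjective (Bialgebra.counitAlgHom K (K ⊗[R] A)) :=
    fun c => ⟨c ⊗ₜ 1, by rw [hε1, Bialgebra.counit_one, one_smul]⟩
  have h1 := IsLocalRing.eq_maximalIdeal (RingHom.ker_isMaximal_of_surjective ψ.toRingHom hψ)
  have h2 := IsLocalRing.eq_maximalIdeal (RingHom.ker_isMaximal_of_surjective
    (Bialgebra.counitAlgHom K (K ⊗[R] A)).toRingHom hε)
  have h3 : (1 : K) ⊗ₜ[R] a ∈ RingHom.ker (Bialgebra.counitAlgHom K (K ⊗[R] A)).toRingHom := by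
    rw [RingHom.mem_ker]
    exact (hε1 1 a).trans (by rw [ha, zero_smul])
  rw [h2, ← h1, RingHom.mem_ker] at h3
  have h4 := (hψ1 1 a).symm.trans h3
  rwa [one_mul] at h4

/-- Let p be a prime number, R a Noetherian ring of characteristic p and A a finitely generated
commutative Hopf algebra over R (an affine algebraic R-group G = Spec A). The n-fold relative
Frobenius of G is the trivial homomorphism exactly when a^(p^n) = 0 for every a in the augmentation
ideal; G has finite Frobenius height when this holds for some n. Then G has finite Frobenius height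
if and only if A is a finite R-module and, for every algebraically closed field K and every ring
homomorphism R → K, the base change K ⊗_R A is a local ring (G is finite over R with connected
geometric fibres). -/
theorem result (p : ℕ) [Fact p.Prime] (R : Type u) [CommRing R] [CharP R p]
    [IsNoetherianRing R] (A : Type u) [CommRing A] [HopfAlgebra R A] [Algebra.FiniteType R A] :
    (∃ n : ℕ, ∀ a : A, Bialgebra.counitAlgHom R A a = 0 → a ^ p ^ n = 0) ↔
      (Module.Finite R A ∧ ∀ (K : Type u) [Field K] [IsAlgClosed K] [Algebra R K], IsLocalRing (K ⊗[R] A)) := by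
  constructor
  · rintro ⟨n, hn⟩
    have hnil : ∀ a : A, IsNilpotent (a - algebraMap R A (Coalgebra.counit a)) := by
      intro a
      refine ⟨p ^ n, hn _ ?_⟩
      rw [map_sub, AlgHom.commutes, Bialgebra.counitAlgHom_apply]
      simp
    refine ⟨?_, ?_⟩
    · have hint : Algebra.IsIntegral R A := by
        refine ⟨fun a => ?_⟩
        have h1 : IsIntegral R (a - algebraMap R A (Coalgebra.counit a)) := by
          obtain ⟨m, hm⟩ := hnil a
          exact ⟨Polynomial.X ^ m, Polynomial.monic_X_pow m, by simp [hm]⟩
        have h2 := h1.add (isIntegral_algebraMap (x := Coalgebra.counit (R := R) a))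
        rwa [sub_add_cancel] at h2
      exact Algebra.IsIntegral.finite
    · intro K _ _ _
      have key : ∀ b : K ⊗[R] A,
          IsNilpotent (b - algebraMap K (K ⊗[R] A) (Coalgebra.counit b)) := by
        intro b
        induction b using TensorProduct.induction_on with
        | zero => simp
        | tmul c a =>
          have h1 : c ⊗ₜ[R] a - algebraMap K (K ⊗[R] A) (Coalgebra.counit (R := K) (c ⊗ₜ[R] a)) =
              c ⊗ₜ[R] (a - algebraMap R A (Coalgebra.counit a)) := by
            rw [TensorProduct.tmul_sub, Groth.Agent.H83.MultTors.counit_tmul_eq]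
          rw [h1]
          obtain ⟨m, hm⟩ := hnil a
          exact ⟨m, by rw [Algebra.TensorProduct.tmul_pow, hm, TensorProduct.tmul_zero]⟩
        | add x y hx hy =>
          have h1 : x + y - algebraMap K (K ⊗[R] A) (Coalgebra.counit (x + y)) =
              (x - algebraMap K (K ⊗[R] A) (Coalgebra.counit x)) +
                (y - algebraMap K (K ⊗[R] A) (Coalgebra.counit y)) := by
            rw [map_add, map_add]
            ring
          rw [h1]
          exact (Commute.all _ _).isNilpotent_add hx hy
      have hnt : Nontrivial (K ⊗[R] A) :=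
        (Bialgebra.counitAlgHom K (K ⊗[R] A)).toRingHom.domain_nontrivial
      refine IsLocalRing.of_isUnit_or_isUnit_one_sub_self (fun b => ?_)
      by_cases ht : Coalgebra.counit (R := K) b = 0
      · right
        have h1 := key b
        rw [ht, map_zero, sub_zero] at h1
        exact h1.isUnit_one_sub
      · left
        have hu : IsUnit (algebraMap K (K ⊗[R] A) (Coalgebra.counit b)) :=
          (IsUnit.mk0 _ ht).map _
        have h1 := (key b).isUnit_add_left_of_commute hu (Commute.all _ _)
        rwa [add_sub_cancel] at h1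
  · rintro ⟨-, hloc⟩
    have hA : IsNoetherianRing A := Algebra.FiniteType.isNoetherianRing R A
    have hI : ∀ a : A, Bialgebra.counitAlgHom R A a = 0 → a ∈ nilradical A := by
      intro a ha
      rw [nilradical_eq_sInf, Ideal.mem_sInf]
      intro P hP
      have hPp : P.IsPrime := hP
      let _ : Algebra R (Kc (A ⧸ P)) :=
        ((toKc (A ⧸ P)).comp ((Ideal.Quotient.mk P).comp (algebraMap R A))).toAlgebra
      let φa : A →ₐ[R] Kc (A ⧸ P) :=
        { (toKc (A ⧸ P)).comp (Ideal.Quotient.mk P) with commutes' := fun r => rfl }
      have h4 : φa a = 0 := aux (Kc (A ⧸ P)) φa (hloc (Kc (A ⧸ P))) a ha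
      have h5 : (Ideal.Quotient.mk P) a = 0 :=
        toKc_injective (A ⧸ P) (h4.trans (map_zero _).symm)
      exact Ideal.Quotient.eq_zero_iff_mem.1 h5
    obtain ⟨N, hN⟩ := IsNoetherianRing.isNilpotent_nilradical A
    refine ⟨N, fun a ha => ?_⟩
    have h1 : a ^ N ∈ (nilradical A) ^ N := Ideal.pow_mem_pow (hI a ha) N
    rw [hN] at h1
    have h2 : a ^ N = 0 := by simpa using h1
    exact pow_eq_zero_of_le (Nat.lt_pow_self (Fact.out : p.Prime).one_lt).le h2

end Groth.Agent.S15056
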