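import Groth.Statements.S15057
import Mathlib

set_option autoImplicit false
universe u
open CategoryTheory CategoryTheory.Limits
open Desc

namespace Groth.Agent.S15057


open TensorProduct Simplicial

noncomputable section

variable (R A : Type u) [CommRing R] [CommRing A] [Algebra R A]

/-- The arrow R → A. -/
abbrev arr : Arrow CommRingCat.{u} := Arrow.mk (CommRingCat.ofHom (algebraMap R A))

/-- The conerve. -/
abbrev X : CosimplicialObject CommRingCat.{u} := (arr R A).cechConerve

/-- n-th term -/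
abbrev Cn (n : ℕ) : Type u := ((X R A).obj (SimplexCategory.mk n) : CommRingCat.{u})

def head (n : ℕ) : CommRingCat.of R ⟶ (X R A).obj (SimplexCategory.mk n) :=
  WidePushout.head (fun _ : Fin (n + 1) => (arr R A).hom)

def inc (n : ℕ) (j : Fin (n+1)) : CommRingCat.of A ⟶ (X R A).obj (SimplexCategory.mk n) :=
  WidePushout.ι (fun _ : Fin (n + 1) => (arr R A).hom) j

lemma arrow_inc (n : ℕ) (j : Fin (n+1)) :
    CommRingCat.ofHom (algebraMap R A) ≫ inc R A n j = head R A n :=
  WidePushout.arrow_ι (fun _ : Fin (n + 1) => (arr R A).hom) j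

instance algCn (n : ℕ) : Algebra R (Cn R A n) := (head R A n).hom.toAlgebra

lemma algebraMap_Cn (n : ℕ) (r : R) : algebraMap R (Cn R A n) r = (head R A n).hom r := rfl

lemma hom_ext' {n : ℕ} {Z : CommRingCat.{u}} (f g : (X R A).obj (SimplexCategory.mk n) ⟶ Z)
    (h0 : head R A n ≫ f = head R A n ≫ g)
    (h : ∀ j, inc R A n j ≫ f = inc R A n j ≫ g) : f = g :=
  WidePushout.hom_ext _ _ _ h h0

/-- desc -/
def dsc {n : ℕ} {Z : CommRingCat.{u}} (f0 : CommRingCat.of R ⟶ Z)
    (fs : Fin (n+1) → (CommRingCat.of A ⟶ Z))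
    (w : ∀ j, CommRingCat.ofHom (algebraMap R A) ≫ fs j = f0) :
    (X R A).obj (SimplexCategory.mk n) ⟶ Z :=
  WidePushout.desc (arrows := (fun _ : Fin (n + 1) => (arr R A).hom)) f0 fs w

lemma head_dsc {n : ℕ} {Z : CommRingCat.{u}} (f0 : CommRingCat.of R ⟶ Z)
    (fs : Fin (n+1) → (CommRingCat.of A ⟶ Z))
    (w : ∀ j, CommRingCat.ofHom (algebraMap R A) ≫ fs j = f0) :
    head R A n ≫ dsc R A f0 fs w = f0 :=
  WidePushout.head_desc _ _ _ _

lemma inc_dsc {n : ℕ} {Z : CommRingCat.{u}} (f0 : CommRingCat.of R ⟶ Z)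
    (fs : Fin (n+1) → (CommRingCat.of A ⟶ Z))
    (w : ∀ j, CommRingCat.ofHom (algebraMap R A) ≫ fs j = f0) (j : Fin (n+1)) :
    inc R A n j ≫ dsc R A f0 fs w = fs j :=
  WidePushout.ι_desc _ _ _ _ _

lemma head_map {n m : ℕ} (g : SimplexCategory.mk n ⟶ SimplexCategory.mk m) :
    head R A n ≫ (X R A).map g = head R A m :=
  WidePushout.head_desc _ _ _ _

lemma inc_map {n m : ℕ} (g : SimplexCategory.mk n ⟶ SimplexCategory.mk m) (j : Fin (n+1)) :
    inc R A n j ≫ (X R A).map g = inc R A m (g.toOrderHom j) :=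
  WidePushout.ι_desc _ _ _ _ _

lemma head_δ (n : ℕ) (i : Fin (n+2)) :
    head R A n ≫ (X R A).δ i = head R A (n+1) := head_map R A _

lemma inc_δ (n : ℕ) (i : Fin (n+2)) (j : Fin (n+1)) :
    inc R A n j ≫ (X R A).δ i = inc R A (n+1) (i.succAbove j) := inc_map R A _ j

/-- coface as algebra hom -/
def δa (n : ℕ) (i : Fin (n+2)) : Cn R A n →ₐ[R] Cn R A (n+1) :=
  { ((X R A).δ i).hom with
    commutes' := fun r => by
      have := ConcreteCategory.congr_hom (head_δ R A n i) r
      exact this }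


/-- differential as a linear map -/
def dl (n : ℕ) : Cn R A n →ₗ[R] Cn R A (n+1) :=
  ∑ i : Fin (n+2), (-1 : ℤ) ^ (i : ℕ) • (δa R A n i).toLinearMap

lemma dl_apply (n : ℕ) (x : Cn R A n) :
    dl R A n x = ∑ i : Fin (n+2), (-1 : ℤ) ^ (i : ℕ) • ((X R A).δ i).hom x := by
  simp only [dl, LinearMap.sum_apply, LinearMap.smul_apply]
  rfl

abbrev Y : CosimplicialObject AddCommGrpCat.{u} :=
  X R A ⋙ forget₂ CommRingCat RingCat ⋙ forget₂ RingCat AddCommGrpCat

abbrev K : CochainComplex AddCommGrpCat.{u} ℕ :=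
  AlgebraicTopology.AlternatingCofaceMapComplex.obj (Y R A)

lemma K_d_apply (n : ℕ) (x : Cn R A n) :
    ((K R A).d n (n+1)).hom x = dl R A n x := by
  rw [dl_apply]
  simp only [K, AlgebraicTopology.AlternatingCofaceMapComplex.obj, CochainComplex.of_d,
    AlgebraicTopology.AlternatingCofaceMapComplex.objD]
  have h1 : (∑ i : Fin (n+2), (-1 : ℤ) ^ (i : ℕ) • (Y R A).δ i).hom
      = ∑ i : Fin (n+2), (-1 : ℤ) ^ (i : ℕ) • ((Y R A).δ i).hom := by
    have := map_sum (AddCommGrpCat.homAddEquiv (M := (Y R A).obj (SimplexCategory.mk n))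
      (N := (Y R A).obj (SimplexCategory.mk (n+1))))
      (fun i : Fin (n+2) => (-1 : ℤ) ^ (i : ℕ) • (Y R A).δ i) Finset.univ
    exact this
  refine (DFunLike.congr_fun h1 x).trans ?_
  refine (AddMonoidHom.finsetSum_apply _ _ _).trans ?_
  exact Finset.sum_congr rfl fun i _ => rfl


/-- the ring hom `C^{n+1} → A ⊗ C^n` -/
def s' (n : ℕ) : (X R A).obj (SimplexCategory.mk (n+1)) ⟶ CommRingCat.of (A ⊗[R] Cn R A n) :=
  dsc R A (CommRingCat.ofHom (algebraMap R (A ⊗[R] Cn R A n)))
    (Fin.cases (CommRingCat.ofHom (Algebra.TensorProduct.includeLeftRingHom))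
      (fun j => inc R A n j ≫ CommRingCat.ofHom
        (Algebra.TensorProduct.includeRight (R := R) (A := A) (B := Cn R A n)).toRingHom))
    (by
      intro j
      refine Fin.cases ?_ (fun j => ?_) j
      · ext r
        simp [Algebra.TensorProduct.algebraMap_apply]
      · simp only [Fin.cases_succ]
        rw [← Category.assoc, arrow_inc]
        ext r
        exact (Algebra.TensorProduct.includeRight (R := R) (A := A) (B := Cn R A n)).commutes r)

lemma inc_zero_s' (n : ℕ) :
    inc R A (n+1) 0 ≫ s' R A n = CommRingCat.ofHom (Algebra.TensorProduct.includeLeftRingHom) := by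
  rw [s', inc_dsc]; rfl

lemma inc_succ_s' (n : ℕ) (j : Fin (n+1)) :
    inc R A (n+1) j.succ ≫ s' R A n = inc R A n j ≫ CommRingCat.ofHom
        (Algebra.TensorProduct.includeRight (R := R) (A := A) (B := Cn R A n)).toRingHom := by
  rw [s', inc_dsc]; rfl

lemma head_s' (n : ℕ) :
    head R A (n+1) ≫ s' R A n = CommRingCat.ofHom (algebraMap R (A ⊗[R] Cn R A n)) := by
  rw [s', head_dsc]

/-- `s'` as an algebra hom -/
def sa (n : ℕ) : Cn R A (n+1) →ₐ[R] A ⊗[R] Cn R A n :=
  { (s' R A n).hom with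
    commutes' := fun r => ConcreteCategory.congr_hom (head_s' R A n) r }

/-- the contracting homotopy -/
def s (n : ℕ) : A ⊗[R] Cn R A (n+1) →ₐ[R] A ⊗[R] Cn R A n :=
  Algebra.TensorProduct.productMap Algebra.TensorProduct.includeLeft (sa R A n)

/-- `1 ⊗ δ_i` -/
def Δ (n : ℕ) (i : Fin (n+2)) : A ⊗[R] Cn R A n →ₐ[R] A ⊗[R] Cn R A (n+1) :=
  Algebra.TensorProduct.map (AlgHom.id R A) (δa R A n i)

/-- algebra homs out of `C^n` agree if they agree on the inclusions -/
lemma algHom_ext {n : ℕ} {S : Type u} [CommRing S] [Algebra R S] (f g : Cn R A n →ₐ[R] S)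
    (h : ∀ (j : Fin (n+1)) (a : A), f ((inc R A n j).hom a) = g ((inc R A n j).hom a)) : f = g := by
  have : CommRingCat.ofHom (f : Cn R A n →+* S) = CommRingCat.ofHom (g : Cn R A n →+* S) := by
    apply hom_ext'
    · ext r
      exact (f.commutes r).trans (g.commutes r).symm
    · intro j
      ext a
      exact h j a
  ext x
  exact ConcreteCategory.congr_hom this x


lemma sa_inc_zero (n : ℕ) (a : A) :
    sa R A n ((inc R A (n+1) 0).hom a) = a ⊗ₜ[R] (1 : Cn R A n) :=
  ConcreteCategory.congr_hom (inc_zero_s' R A n) a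

lemma sa_inc_succ (n : ℕ) (j : Fin (n+1)) (a : A) :
    sa R A n ((inc R A (n+1) j.succ).hom a) = (1 : A) ⊗ₜ[R] ((inc R A n j).hom a) :=
  ConcreteCategory.congr_hom (inc_succ_s' R A n j) a

lemma δa_inc (n : ℕ) (i : Fin (n+2)) (j : Fin (n+1)) (a : A) :
    δa R A n i ((inc R A n j).hom a) = (inc R A (n+1) (i.succAbove j)).hom a :=
  ConcreteCategory.congr_hom (inc_δ R A n i j) a

lemma sa_comp_δ_zero (n : ℕ) :
    (sa R A n).comp (δa R A n 0) = Algebra.TensorProduct.includeRight := by
  apply algHom_ext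
  intro j a
  simp only [AlgHom.comp_apply]
  rw [δa_inc, Fin.succAbove_zero, sa_inc_succ]
  rfl

lemma sa_comp_δ_succ (n : ℕ) (i : Fin (n+2)) :
    (sa R A (n+1)).comp (δa R A (n+1) i.succ) = (Δ R A n i).comp (sa R A n) := by
  apply algHom_ext
  intro j a
  simp only [AlgHom.comp_apply]
  refine Fin.cases ?_ (fun k => ?_) j
  · rw [δa_inc, Fin.succ_succAbove_zero, sa_inc_zero, sa_inc_zero, Δ,
      Algebra.TensorProduct.map_tmul, map_one]
    rfl
  · rw [δa_inc, Fin.succ_succAbove_succ, sa_inc_succ, sa_inc_succ, Δ,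
      Algebra.TensorProduct.map_tmul, δa_inc]
    rfl

lemma s_comp_Δ_zero (n : ℕ) : (s R A n).comp (Δ R A n 0) = AlgHom.id R _ := by
  apply Algebra.TensorProduct.ext'
  intro a c
  simp only [AlgHom.comp_apply, Δ, Algebra.TensorProduct.map_tmul, s,
    Algebra.TensorProduct.productMap_apply_tmul, AlgHom.id_apply]
  have := DFunLike.congr_fun (sa_comp_δ_zero R A n) c
  simp only [AlgHom.comp_apply] at this
  rw [this]
  simp

lemma s_comp_Δ_succ (n : ℕ) (i : Fin (n+2)) :
    (s R A (n+1)).comp (Δ R A (n+1) i.succ) = (Δ R A n i).comp (s R A n) := by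
  apply Algebra.TensorProduct.ext'
  intro a c
  simp only [AlgHom.comp_apply, Δ, Algebra.TensorProduct.map_tmul, s,
    Algebra.TensorProduct.productMap_apply_tmul, AlgHom.id_apply, map_mul]
  have := DFunLike.congr_fun (sa_comp_δ_succ R A n i) c
  simp only [AlgHom.comp_apply] at this
  rw [this]
  simp [Δ]


/-- the tensored differential -/
def D (n : ℕ) : A ⊗[R] Cn R A n →ₗ[R] A ⊗[R] Cn R A (n+1) := (dl R A n).lTensor A

lemma D_apply (n : ℕ) (x : A ⊗[R] Cn R A n) :
    D R A n x = ∑ i : Fin (n+2), (-1 : ℤ) ^ (i : ℕ) • Δ R A n i x := by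
  induction x using TensorProduct.induction_on with
  | zero => simp
  | tmul a c =>
    simp only [D, LinearMap.lTensor_tmul, dl, LinearMap.sum_apply, LinearMap.smul_apply,
      TensorProduct.tmul_sum, TensorProduct.tmul_smul, Δ, Algebra.TensorProduct.map_tmul,
      AlgHom.id_apply, AlgHom.toLinearMap_apply]
  | add x y hx hy =>
    simp only [map_add, hx, hy, smul_add, Finset.sum_add_distrib]

lemma homotopy_formula (n : ℕ) (x : A ⊗[R] Cn R A (n+1)) :
    s R A (n+1) (D R A (n+1) x) + D R A n (s R A n x) = x := by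
  rw [D_apply, D_apply, map_sum, Fin.sum_univ_succ]
  have h0 : s R A (n+1) (Δ R A (n+1) 0 x) = x :=
    DFunLike.congr_fun (s_comp_Δ_zero R A (n+1)) x
  have hs : ∀ i : Fin (n+2), s R A (n+1) (Δ R A (n+1) i.succ x) = Δ R A n i (s R A n x) :=
    fun i => DFunLike.congr_fun (s_comp_Δ_succ R A n i) x
  have e1 : s R A (n+1) ((-1 : ℤ) ^ ((0 : Fin (n+3)) : ℕ) • Δ R A (n+1) 0 x) = x := by
    rw [Fin.val_zero, pow_zero, one_smul, h0]
  have e2 : ∀ i : Fin (n+2), s R A (n+1) ((-1 : ℤ) ^ ((i.succ : Fin (n+3)) : ℕ) •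
      Δ R A (n+1) i.succ x) = - ((-1 : ℤ) ^ (i : ℕ) • Δ R A n i (s R A n x)) := by
    intro i
    rw [map_zsmul, hs, Fin.val_succ, pow_succ, mul_neg_one, neg_smul]
  rw [e1, Finset.sum_congr rfl (fun i _ => e2 i), Finset.sum_neg_distrib]
  abel

lemma dl_comp_dl (n : ℕ) (x : Cn R A n) : dl R A (n+1) (dl R A n x) = 0 := by
  rw [← K_d_apply, ← K_d_apply]
  have := (K R A).d_comp_d n (n+1) (n+2)
  exact ConcreteCategory.congr_hom this x

lemma exact_D (n : ℕ) : Function.Exact (D R A n) (D R A (n+1)) := by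
  intro x
  constructor
  · intro hx
    refine ⟨s R A n x, ?_⟩
    have := homotopy_formula R A n x
    rw [hx, map_zero, zero_add] at this
    exact this
  · rintro ⟨y, rfl⟩
    have : (dl R A (n+1)).comp (dl R A n) = 0 := by
      ext c
      exact dl_comp_dl R A n c
    rw [D, D, ← LinearMap.comp_apply, ← LinearMap.lTensor_comp, this]
    simp

lemma exact_dl [Module.FaithfullyFlat R A] (n : ℕ) :
    Function.Exact (dl R A n) (dl R A (n+1)) :=
  Module.FaithfullyFlat.lTensor_reflects_exact R A _ _ (exact_D R A n)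


lemma exactAt_succ [Module.FaithfullyFlat R A] (m : ℕ) : (K R A).ExactAt (m+1) := by
  rw [(K R A).exactAt_iff' m (m+1) (m+2) (by simp) (by simp), ShortComplex.ab_exact_iff]
  intro x hx
  have hx' : dl R A (m+1) x = 0 := by
    rw [← K_d_apply]
    exact hx
  obtain ⟨y, hy⟩ := (exact_dl R A m x).1 hx'
  refine ⟨y, ?_⟩
  rw [← hy, ← K_d_apply]
  rfl

end



/-- Let R → A be a faithfully flat homomorphism of commutative rings. The Amitsur complex A → A ⊗_R A →
A ⊗_R A ⊗_R A → ⋯, whose differential is the alternating sum of the maps inserting a unit in each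
tensor slot, is realised here as the alternating coface complex (of underlying abelian groups) of
the Čech conerve of R → A in the category of commutative rings, whose degree-n term is the
(n+1)-fold coproduct of A under R, i.e. the (n+1)-fold tensor power over R. Then this complex is
exact in every degree n ≥ 1. (Exactness at the start, namely that R → A is injective with image the
equaliser of the two maps A → A ⊗_R A, is the degree-0 statement and is not part of this row.) -/
theorem result (R A : Type u) [CommRing R] [CommRing A] [Algebra R A] [Module.FaithfullyFlat R A]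
    (n : ℕ) (hn : 0 < n) :
    (AlgebraicTopology.AlternatingCofaceMapComplex.obj
      ((Arrow.mk (CommRingCat.ofHom (algebraMap R A))).cechConerve ⋙ forget₂ CommRingCat RingCat ⋙
        forget₂ RingCat AddCommGrpCat)).ExactAt n := by
  obtain ⟨m, rfl⟩ : ∃ m, n = m + 1 := ⟨n - 1, by omega⟩
  exact exactAt_succ R A m

end Groth.Agent.S15057
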