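import Groth.Statements.S15058
import Groth.Agent.H75.FG

set_option autoImplicit false
universe u
open FmlGrp

namespace Groth.Agent.S15058

/-- Let R be a commutative ring and F(X,Y) ∈ R[[X,Y]] a one-dimensional formal group law (zero constant
term, linear part X + Y, associative). Then there is a power series g(X) ∈ R[[X]] with zero constant
term which is a two-sided inverse for F, F(X, g(X)) = 0 = F(g(X), X), and it is unique: every power
series with zero constant term which is a right inverse or a left inverse equals g. (The published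
text proves this for formal group laws of any finite dimension with coefficients in a complete
Noetherian local ring; the argument is a formal degree-by-degree construction, and this row states
the one-dimensional case over an arbitrary commutative ring.) -/
theorem result (R : Type u) [CommRing R] (F : FormalGroup R) :
    ∃ g : PowerSeries R, g.constantCoeff = 0 ∧
      F.toPowerSeries.subst ![PowerSeries.X, g] = (0 : PowerSeries R) ∧
      F.toPowerSeries.subst ![g, PowerSeries.X] = (0 : PowerSeries R) ∧
      ∀ k : PowerSeries R, k.constantCoeff = 0 →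
        (F.toPowerSeries.subst ![PowerSeries.X, k] = (0 : PowerSeries R) ∨
          F.toPowerSeries.subst ![k, PowerSeries.X] = (0 : PowerSeries R)) → k = g := by
  obtain ⟨g, hg0, hr⟩ := Groth.Agent.H75.FG.exists_right_inv F
  have hgS : PowerSeries.HasSubst g := PowerSeries.HasSubst.of_constantCoeff_zero hg0
  have hX0 : MvPowerSeries.constantCoeff (PowerSeries.X : MvPowerSeries Unit R) = 0 :=
    Groth.Agent.H75.FG.cc_X
  have hk0 : MvPowerSeries.constantCoeff (PowerSeries.subst g g : MvPowerSeries Unit R) = 0 :=
    Groth.Agent.H75.LT.cc_subst1 g hg0 g hg0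
  have hgk : Groth.Agent.H75.FG.fadd F g (PowerSeries.subst g g) = 0 := by
    have h1 := congrArg (PowerSeries.subst g) hr
    have h2 : PowerSeries.subst g (0 : PowerSeries R) = (0 : PowerSeries R) := by
      rw [← PowerSeries.coe_substAlgHom hgS, map_zero]
    rw [h2] at h1
    have h3 : PowerSeries.subst g (Groth.Agent.H75.FG.fadd F PowerSeries.X g) =
        MvPowerSeries.subst (fun s => MvPowerSeries.subst (fun _ : Unit => g)
          ((![PowerSeries.X, g] : Fin 2 → MvPowerSeries Unit R) s)) F.toPowerSeries :=
      MvPowerSeries.subst_comp_subst_apply (Groth.Agent.H75.FG.hasSubst2 PowerSeries.X g hX0 hg0)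
        hgS.const F.toPowerSeries
    have h4 : (fun s => MvPowerSeries.subst (fun _ : Unit => g)
        ((![PowerSeries.X, g] : Fin 2 → MvPowerSeries Unit R) s)) =
        (![g, PowerSeries.subst g g] : Fin 2 → MvPowerSeries Unit R) := by
      funext s
      fin_cases s
      · exact PowerSeries.subst_X hgS
      · rfl
    rw [h3, h4] at h1
    exact h1
  have hkX : (PowerSeries.X : PowerSeries R) = PowerSeries.subst g g := by
    calc (PowerSeries.X : PowerSeries R)
        = Groth.Agent.H75.FG.fadd F PowerSeries.X 0 :=
          (Groth.Agent.H75.FG.fadd_zero F _ hX0).symm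
      _ = Groth.Agent.H75.FG.fadd F PowerSeries.X
            (Groth.Agent.H75.FG.fadd F g (PowerSeries.subst g g)) := by rw [hgk]
      _ = Groth.Agent.H75.FG.fadd F (Groth.Agent.H75.FG.fadd F PowerSeries.X g)
            (PowerSeries.subst g g) :=
          (Groth.Agent.H75.FG.fadd_assoc F _ _ _ hX0 hg0 hk0).symm
      _ = Groth.Agent.H75.FG.fadd F 0 (PowerSeries.subst g g) := by rw [hr]
      _ = PowerSeries.subst g g := Groth.Agent.H75.FG.zero_fadd F _ hk0
  have hl : Groth.Agent.H75.FG.fadd F g PowerSeries.X = 0 := by
    rw [hkX]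
    exact hgk
  refine ⟨g, hg0, hr, hl, ?_⟩
  intro k hk0' hk
  have hk0'' : MvPowerSeries.constantCoeff (k : MvPowerSeries Unit R) = 0 := hk0'
  rcases hk with hk | hk
  · have hk' : Groth.Agent.H75.FG.fadd F PowerSeries.X k = 0 := hk
    calc k = Groth.Agent.H75.FG.fadd F 0 k := (Groth.Agent.H75.FG.zero_fadd F _ hk0'').symm
      _ = Groth.Agent.H75.FG.fadd F (Groth.Agent.H75.FG.fadd F g PowerSeries.X) k := by rw [hl]
      _ = Groth.Agent.H75.FG.fadd F g (Groth.Agent.H75.FG.fadd F PowerSeries.X k) :=
          Groth.Agent.H75.FG.fadd_assoc F _ _ _ hg0 hX0 hk0''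
      _ = Groth.Agent.H75.FG.fadd F g 0 := by rw [hk']
      _ = g := Groth.Agent.H75.FG.fadd_zero F _ hg0
  · have hk' : Groth.Agent.H75.FG.fadd F k PowerSeries.X = 0 := hk
    calc k = Groth.Agent.H75.FG.fadd F k 0 := (Groth.Agent.H75.FG.fadd_zero F _ hk0'').symm
      _ = Groth.Agent.H75.FG.fadd F k (Groth.Agent.H75.FG.fadd F PowerSeries.X g) := by rw [hr]
      _ = Groth.Agent.H75.FG.fadd F (Groth.Agent.H75.FG.fadd F k PowerSeries.X) g :=
          (Groth.Agent.H75.FG.fadd_assoc F _ _ _ hk0'' hX0 hg0).symm
      _ = Groth.Agent.H75.FG.fadd F 0 g := by rw [hk']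
      _ = g := Groth.Agent.H75.FG.zero_fadd F _ hg0

end Groth.Agent.S15058
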