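import Groth.Statements.S15060
import Groth.Agent.H75.LT3

set_option autoImplicit false
universe u
open LubinTate

namespace Groth.Agent.S15060

/-- Let O be a discrete valuation ring with finite residue field of cardinality q, π a uniformizer of O,
f = πT + T^q ∈ O[[T]], and F a one-dimensional formal group law over O for which f is an
endomorphism, f(F(X,Y)) = F(f(X), f(Y)). For α ∈ O write [α] for a power series with zero constant
term and linear coefficient α commuting with f (it is unique). Then for all α, β ∈ O and all such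
series [α], [β], [αβ], [α+β] one has [α]([β](T)) = [αβ](T) and F([α](T), [β](T)) = [α+β](T): the map
α ↦ [α] is a ring homomorphism from O to the endomorphisms of F with their formal-group addition and
composition. (The published statement is for the ring of integers of a finite extension of ℚ_p or of
𝔽_q((X)); completeness is not used and any discrete valuation ring with finite residue field is
allowed here.) -/
theorem result (O : Type u) [CommRing O] [IsDomain O] [IsDiscreteValuationRing O]
    [Finite (IsLocalRing.ResidueField O)] (π : O) (hπ : Irreducible π) (f : PowerSeries O)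
    (hf : f = π • PowerSeries.X + PowerSeries.X ^ Nat.card (IsLocalRing.ResidueField O))
    (F : FormalGroup O)
    (hF : PowerSeries.subst F.toPowerSeries f =
        MvPowerSeries.subst (fun i : Fin 2 => PowerSeries.subst (MvPowerSeries.X i : MvPowerSeries (Fin 2) O) f)
          F.toPowerSeries)
    (α β : O) (gα gβ gαβ gs : PowerSeries O)
    (hα0 : gα.constantCoeff = 0) (hα1 : gα.coeff 1 = α) (hαf : PowerSeries.subst gα f = PowerSeries.subst f gα)
    (hβ0 : gβ.constantCoeff = 0) (hβ1 : gβ.coeff 1 = β) (hβf : PowerSeries.subst gβ f = PowerSeries.subst f gβ)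
    (hαβ0 : gαβ.constantCoeff = 0) (hαβ1 : gαβ.coeff 1 = α * β)
    (hαβf : PowerSeries.subst gαβ f = PowerSeries.subst f gαβ)
    (hs0 : gs.constantCoeff = 0) (hs1 : gs.coeff 1 = α + β) (hsf : PowerSeries.subst gs f = PowerSeries.subst f gs) :
    PowerSeries.subst gβ gα = gαβ ∧ F.toPowerSeries.subst ![gα, gβ] = gs := by
  subst hf
  obtain ⟨q, hq⟩ : ∃ q, q = Nat.card (IsLocalRing.ResidueField O) := ⟨_, rfl⟩
  rw [← hq] at hF hαf hβf hαβf hsf
  have hq2 : 2 ≤ q := by
    rw [hq]
    exact Groth.Agent.H75.LT.dvr_card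
  have hFc := Groth.Agent.H75.LT.comm_of_eq2 π q F.toPowerSeries F.zero_constantCoeff hF
  have hαc := Groth.Agent.H75.LT.comm_of_eq π q gα hα0 hαf
  have hβc := Groth.Agent.H75.LT.comm_of_eq π q gβ hβ0 hβf
  have hαβc := Groth.Agent.H75.LT.comm_of_eq π q gαβ hαβ0 hαβf
  have hsc := Groth.Agent.H75.LT.comm_of_eq π q gs hs0 hsf
  have hα0' : MvPowerSeries.constantCoeff (gα : MvPowerSeries Unit O) = 0 := hα0
  have hβ0' : MvPowerSeries.constantCoeff (gβ : MvPowerSeries Unit O) = 0 := hβ0
  have hαβ0' : MvPowerSeries.constantCoeff (gαβ : MvPowerSeries Unit O) = 0 := hαβ0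
  have hs0' : MvPowerSeries.constantCoeff (gs : MvPowerSeries Unit O) = 0 := hs0
  have hα1' : MvPowerSeries.coeff (Finsupp.single () 1) (gα : MvPowerSeries Unit O) = α := hα1
  have hβ1' : MvPowerSeries.coeff (Finsupp.single () 1) (gβ : MvPowerSeries Unit O) = β := hβ1
  have hαβ1' : MvPowerSeries.coeff (Finsupp.single () 1) (gαβ : MvPowerSeries Unit O) = α * β :=
    hαβ1
  have hs1' : MvPowerSeries.coeff (Finsupp.single () 1) (gs : MvPowerSeries Unit O) = α + β := hs1
  constructor
  · refine Groth.Agent.H75.LT.uniq π hq2 1 hπ.ne_zero (Groth.Agent.H75.LT.dvr_unit hπ) _ _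
      (Groth.Agent.H75.LT.cc_subst1 gα hα0 gβ hβ0') hαβ0' ?_
      (Groth.Agent.H75.LT.comm_comp1 π hq2 1 gα gβ hβ0' hαc hβc) hαβc
    refine (Groth.Agent.H75.LT.cong2_subst1 gα hα0 gβ hβ0').trans
      (Groth.Agent.H75.LT.cong2_of_coeff ?_ ?_)
    · rw [MvPowerSeries.smul_eq_C_mul, map_mul, hβ0', mul_zero, hαβ0']
    · intro i
      rw [MvPowerSeries.coeff_smul, hα1, hβ1', hαβ1']
  · refine Groth.Agent.H75.LT.uniq π hq2 1 hπ.ne_zero (Groth.Agent.H75.LT.dvr_unit hπ) _ _
      (Groth.Agent.H75.LT.cc_subst2 F.toPowerSeries F.zero_constantCoeff gα gβ hα0' hβ0') hs0' ?_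
      (Groth.Agent.H75.LT.comm_comp2 π hq2 1 F.toPowerSeries gα gβ hα0' hβ0' hFc hαc hβc) hsc
    refine (Groth.Agent.H75.LT.cong2_subst2' F.toPowerSeries F.zero_constantCoeff F.lin_coeff_X
      F.lin_coeff_Y gα gβ hα0' hβ0').trans (Groth.Agent.H75.LT.cong2_of_coeff ?_ ?_)
    · rw [map_add, hα0', hβ0', hs0', add_zero]
    · intro i
      rw [map_add, hα1', hβ1', hs1']

end Groth.Agent.S15060
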