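import Groth.Statements.S15062
import Mathlib
import Groth.Agent.H83.HopfEtale

set_option autoImplicit false
universe u
open scoped TensorProduct
open Hopf

namespace Groth.Agent.S15062

open Groth.Agent.H83.HopfEtale

/-- Let R be a henselian Noetherian local ring and A a commutative Hopf algebra over R which is finite
and flat as an R-module (a finite flat R-group G = Spec A, not assumed commutative); let e ∈ A be an
idempotent with ε(e) = 1 such that A/(1 − e) is a local ring, so that G⁰ = Spec A/(1 − e) is the
connected component of the unit section, and let B ⊆ A be the subalgebra of functions invariant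
under right translation by G⁰: the equaliser of a ↦ (id ⊗ π)(Δ a) and a ↦ a ⊗ 1 into A ⊗_R A/(1 − e)
(so Spec B = G^ét). Then: (2) for every commutative Hopf algebra C over R which is finite étale over
R (a finite étale R-group H) and every bialgebra homomorphism φ : C → A (a homomorphism G → H), the
image of φ lies in B — the homomorphism factors (necessarily uniquely, A being faithfully flat over
B) through G → G^ét; (3) for every commutative Hopf algebra D over R which is finite and flat over R
and a local ring (a connected finite flat R-group H) and every bialgebra homomorphism ψ : A → D (a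
homomorphism H → G), ψ(e) = 1, i.e. ψ kills the ideal (1 − e) and the homomorphism factors
(uniquely) through G⁰ → G. -/
theorem result (R : Type u) [CommRing R] [HenselianLocalRing R] [IsNoetherianRing R]
    (A : Type u) [CommRing A] [HopfAlgebra R A] [Module.Finite R A] [Module.Flat R A]
    (e : A) (he : IsIdempotentElem e) (hε : Bialgebra.counitAlgHom R A e = 1)
    [IsLocalRing (A ⧸ Ideal.span ({1 - e} : Set A))] :
    (∀ (C : Type u) [CommRing C] [HopfAlgebra R C] [Module.Finite R C] [Algebra.Etale R C] (φ : C →ₐc[R] A) (c : C),
        φ c ∈ (AlgHom.equalizer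
          ((Algebra.TensorProduct.map (AlgHom.id R A) (Ideal.Quotient.mkₐ R (Ideal.span ({1 - e} : Set A)))).comp
            (Bialgebra.comulAlgHom R A))
          (Algebra.TensorProduct.includeLeft : A →ₐ[R] A ⊗[R] (A ⧸ Ideal.span ({1 - e} : Set A))))) ∧
      ∀ (D : Type u) [CommRing D] [HopfAlgebra R D] [Module.Finite R D] [Module.Flat R D] [IsLocalRing D]
        (ψ : A →ₐc[R] D), ψ e = 1 := by
  classical
  refine ⟨?_, ?_⟩
  · intro C _ _ _ _ φ c
    let E : Ideal A := Ideal.span ({1 - e} : Set A)
    have hE : E ≤ RingHom.ker (Bialgebra.counitAlgHom R A) := by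
      rw [Ideal.span_le]
      intro a ha
      rw [Set.mem_singleton_iff] at ha
      rw [ha, SetLike.mem_coe, RingHom.mem_ker, map_sub, map_one, hε, sub_self]
    let ε0 : A ⧸ E →ₐ[R] R :=
      Ideal.Quotient.liftₐ E (Bialgebra.counitAlgHom R A) (fun a ha => hE ha)
    let φa : C →ₐ[R] A := (φ : C →ₐ[R] A)
    have hφε : ∀ x : C, Bialgebra.counitAlgHom R A (φ x) = Bialgebra.counitAlgHom R C x := by
      intro x
      exact AlgHom.congr_fun (BialgHom.counitAlgHom_comp φ) x
    have hsq := ker_sq_of_formallyUnramified (Bialgebra.counitAlgHom R C)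
    have hnoethC : IsNoetherianRing C :=
      isNoetherian_of_tower R (isNoetherian_of_isNoetherianRing_of_finite R C)
    obtain ⟨u, hu, hIu⟩ := (Ideal.isIdempotentElem_iff_of_fg _
      (IsNoetherian.noetherian (RingHom.ker (Bialgebra.counitAlgHom R C)))).mp
        (by rw [IsIdempotentElem, ← pow_two]; exact hsq)
    have huI : u ∈ RingHom.ker (Bialgebra.counitAlgHom R C) := by
      rw [hIu]
      exact Ideal.subset_span rfl
    have hv : Ideal.Quotient.mk E (φ u) = 0 := by
      have hid : IsIdempotentElem (Ideal.Quotient.mk E (φ u)) := by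
        rw [IsIdempotentElem, ← map_mul, ← map_mul, hu.eq]
      rcases IsLocalRing.isUnit_or_isUnit_one_sub_self (Ideal.Quotient.mk E (φ u)) with hun | hun
      · exfalso
        have h1 : Ideal.Quotient.mk E (φ u) = 1 := by
          have h3 : Ideal.Quotient.mk E (φ u) * Ideal.Quotient.mk E (φ u) =
              Ideal.Quotient.mk E (φ u) * 1 := by rw [mul_one]; exact hid
          exact hun.mul_left_cancel h3
        have h4 : ε0 (Ideal.Quotient.mk E (φ u)) = 0 := by
          change Bialgebra.counitAlgHom R A (φ u) = 0
          rw [hφε]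
          exact huI
        rw [h1, map_one] at h4
        exact one_ne_zero h4
      · have h3 : (1 - Ideal.Quotient.mk E (φ u)) * Ideal.Quotient.mk E (φ u) =
            (1 - Ideal.Quotient.mk E (φ u)) * 0 := by
          rw [mul_zero, sub_mul, one_mul, hid.eq, sub_self]
        exact hun.mul_left_cancel h3
    have hkill : ∀ x ∈ RingHom.ker (Bialgebra.counitAlgHom R C),
        Ideal.Quotient.mk E (φ x) = 0 := by
      intro x hx
      rw [hIu] at hx
      obtain ⟨y, rfl⟩ := Ideal.mem_span_singleton'.mp hx
      rw [map_mul, map_mul, hv, mul_zero]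
    have hπφ : (Ideal.Quotient.mkₐ R E).comp φa =
        (Algebra.ofId R (A ⧸ E)).comp (Bialgebra.counitAlgHom R C) := by
      apply AlgHom.ext
      intro x
      rw [AlgHom.comp_apply, AlgHom.comp_apply, Algebra.ofId_apply, ← sub_eq_zero]
      have h1 : x - algebraMap R C (Bialgebra.counitAlgHom R C x) ∈
          RingHom.ker (Bialgebra.counitAlgHom R C) := by
        rw [RingHom.mem_ker, map_sub, AlgHom.commutes, sub_eq_zero]
        rfl
      have h3 := hkill _ h1
      rw [map_sub, map_sub] at h3
      rw [← h3]
      congr 1
      change algebraMap R (A ⧸ E) _ = Ideal.Quotient.mk E (φa (algebraMap R C _))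
      rw [AlgHom.commutes]
      rfl
    have hgen : ∀ t : C ⊗[R] C,
        Algebra.TensorProduct.map φa
          ((Algebra.ofId R (A ⧸ E)).comp (Bialgebra.counitAlgHom R C)) t =
        Algebra.TensorProduct.map φa (Algebra.ofId R (A ⧸ E))
          (LinearMap.lTensor C (Coalgebra.counit (R := R) (A := C)) t) := by
      intro t
      induction t using TensorProduct.induction_on with
      | zero => simp
      | tmul a b => simp
      | add x y hx hy => simp only [map_add, hx, hy]
    rw [AlgHom.mem_equalizer, AlgHom.comp_apply]
    have h1 : Bialgebra.comulAlgHom R A (φ c) =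
        Algebra.TensorProduct.map φa φa (Bialgebra.comulAlgHom R C c) :=
      (AlgHom.congr_fun (BialgHom.map_comp_comulAlgHom φ) c).symm
    rw [h1, ← AlgHom.comp_apply, ← Algebra.TensorProduct.map_comp, AlgHom.id_comp, hπφ, hgen,
      Bialgebra.comulAlgHom_apply, Coalgebra.lTensor_counit_comul, Algebra.TensorProduct.map_tmul,
      map_one]
    rfl
  · intro D _ _ _ _ _ ψ
    have hid : IsIdempotentElem (ψ e) := by
      rw [IsIdempotentElem, ← map_mul, he.eq]
    rcases IsLocalRing.isUnit_or_isUnit_one_sub_self (ψ e) with hun | hun
    · have h3 : ψ e * ψ e = ψ e * 1 := by rw [mul_one]; exact hid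
      exact hun.mul_left_cancel h3
    · exfalso
      have h3 : (1 - ψ e) * ψ e = (1 - ψ e) * 0 := by
        rw [mul_zero, sub_mul, one_mul, hid.eq, sub_self]
      have h4 : ψ e = 0 := hun.mul_left_cancel h3
      have h5 : Bialgebra.counitAlgHom R D (ψ e) = Bialgebra.counitAlgHom R A e :=
        AlgHom.congr_fun (BialgHom.counitAlgHom_comp ψ) e
      rw [h4, map_zero, hε] at h5
      exact zero_ne_one h5

end Groth.Agent.S15062
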