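import Groth.Statements.S15063
import Mathlib

set_option autoImplicit false
universe u
open Hopf

namespace Groth.Agent.S15063

open TensorProduct WithConv

theorem conv3_eq {R A C : Type u} [CommRing R] [CommRing A] [HopfAlgebra R A] [CommRing C]
    [Algebra R C] (f g h : A →ₐ[R] C) :
    Dyn.conv3 R A f g h = (toConv f * toConv g * toConv h).ofConv := by
  have e1 : (toConv f * toConv g * toConv h).ofConv =
      (Algebra.TensorProduct.lmul' (S := C) R).comp
        ((Algebra.TensorProduct.map ((Algebra.TensorProduct.lmul' (S := C) R).comp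
          ((Algebra.TensorProduct.map f g).comp (Bialgebra.comulAlgHom R A))) h).comp
          (Bialgebra.comulAlgHom R A)) := rfl
  rw [e1]
  apply AlgHom.ext
  intro a
  have key : ∀ z : A ⊗[R] A,
      Algebra.TensorProduct.map ((Algebra.TensorProduct.lmul' (S := C) R).comp
        ((Algebra.TensorProduct.map f g).comp (Bialgebra.comulAlgHom R A))) h z =
      Algebra.TensorProduct.map ((Algebra.TensorProduct.lmul' (S := C) R).comp
        (Algebra.TensorProduct.map f g)) h
        (Algebra.TensorProduct.map (Bialgebra.comulAlgHom R A) (AlgHom.id R A) z) := by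
    intro z
    induction z using TensorProduct.induction_on with
    | zero => simp
    | tmul x y => simp
    | add x y hx hy => simp only [map_add, hx, hy]
  unfold Dyn.conv3
  simp only [AlgHom.comp_apply]
  try rw [key]

theorem comp_conv3 {R A C C' : Type u} [CommRing R] [CommRing A] [HopfAlgebra R A] [CommRing C]
    [Algebra R C] [CommRing C'] [Algebra R C'] (φ : C →ₐ[R] C') (f g h : A →ₐ[R] C) :
    φ.comp (Dyn.conv3 R A f g h) = Dyn.conv3 R A (φ.comp f) (φ.comp g) (φ.comp h) := by
  rw [conv3_eq, conv3_eq, AlgHom.comp_convMul_distrib, AlgHom.comp_convMul_distrib]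

theorem conv3_id_one_antipode {R A : Type u} [CommRing R] [CommRing A] [HopfAlgebra R A] :
    Dyn.conv3 R A (AlgHom.id R A) ((Algebra.ofId R A).comp (Bialgebra.counitAlgHom R A))
      ((AlgHom.id R A).comp (HopfAlgebra.antipodeAlgHom R A)) =
      (Algebra.ofId R A).comp (Bialgebra.counitAlgHom R A) := by
  rw [conv3_eq]
  have h1 : toConv ((Algebra.ofId R A).comp (Bialgebra.counitAlgHom R A)) =
      (1 : WithConv (A →ₐ[R] A)) := rfl
  have h2 : toConv ((AlgHom.id R A).comp (HopfAlgebra.antipodeAlgHom R A)) =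
      (toConv (AlgHom.id R A))⁻¹ := rfl
  rw [h1, h2]
  have h3 : toConv (AlgHom.id R A) * (1 : WithConv (A →ₐ[R] A)) * (toConv (AlgHom.id R A))⁻¹ = 1 := by
    rw [mul_one, mul_inv_cancel]
  rw [h3]
  rfl

/-- Nakayama for idempotents: an idempotent of a finite algebra over a local ring lying in `J • ⊤`
with `J` a proper ideal vanishes. -/
theorem idem_eq_zero {B U : Type u} [CommRing B] [IsLocalRing B] [CommRing U] [Algebra B U]
    [Module.Finite B U] (J : Ideal B) (hJ : J ≠ ⊤) (x : U) (hx : IsIdempotentElem x)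
    (hxJ : x ∈ J • (⊤ : Submodule B U)) : x = 0 := by
  set N : Submodule B U := Submodule.map (LinearMap.mulLeft B x) ⊤ with hN
  have hfg : N.FG := (Module.Finite.fg_top).map _
  have hmem : ∀ n, n ∈ N ↔ ∃ u, x * u = n := by
    intro n
    simp [hN]
  have hmul : ∀ y ∈ J • (⊤ : Submodule B U), ∀ n ∈ N, y * n ∈ J • N := by
    intro y hy n hn
    refine Submodule.smul_induction_on hy ?_ ?_
    · intro j hj t _
      rw [smul_mul_assoc]
      refine Submodule.smul_mem_smul hj ?_
      obtain ⟨u, rfl⟩ := (hmem n).1 hn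
      exact (hmem _).2 ⟨t * u, by ring⟩
    · intro y₁ y₂ h₁ h₂
      rw [add_mul]
      exact Submodule.add_mem _ h₁ h₂
  have hle : N ≤ J • N := by
    intro n hn
    obtain ⟨u, rfl⟩ := (hmem n).1 hn
    have : x * u = x * (x * u) := by rw [← mul_assoc, hx.eq]
    rw [this]
    exact hmul x hxJ _ ((hmem _).2 ⟨u, rfl⟩)
  have hjac : J ≤ Ideal.jacobson ⊥ := by
    rw [IsLocalRing.jacobson_eq_maximalIdeal ⊥ bot_ne_top]
    exact IsLocalRing.le_maximalIdeal hJ
  have hbot : N = ⊥ := Submodule.eq_bot_of_le_smul_of_le_jacobson_bot J N hfg hle hjac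
  have : x ∈ N := (hmem x).2 ⟨x, hx.eq⟩
  rw [hbot] at this
  simpa using this

/-- Let R be a henselian Noetherian local ring and A a commutative Hopf algebra over R which is finite
and flat as an R-module (a finite flat R-group G = Spec A, not assumed commutative); let e ∈ A be an
idempotent with ε(e) = 1 such that A/(1 − e) is a local ring, so that Spec A/(1 − e) is the
connected component G⁰ of G containing the unit section. Then G⁰ is normal in G: for every
commutative R-algebra T, every T-valued point g of G and every T-valued point h of G killing the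
ideal (1 − e), the conjugate g·h·g⁻¹ again kills (1 − e). (The published statement is for a flat
affine algebraic R-group and also asserts that G⁰ is an open and closed flat subgroup; this row
states the normality clause for finite flat G.) -/
theorem result (R : Type u) [CommRing R] [HenselianLocalRing R] [IsNoetherianRing R]
    (A : Type u) [CommRing A] [HopfAlgebra R A] [Module.Finite R A] [Module.Flat R A]
    (e : A) (he : IsIdempotentElem e) (hε : Bialgebra.counitAlgHom R A e = 1)
    [IsLocalRing (A ⧸ Ideal.span ({1 - e} : Set A))] :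
    SGA3.IsNormalHopfIdeal R A (Ideal.span ({1 - e} : Set A)) := by
  intro T _ _ g' h' hh' a ha
  set I : Ideal A := Ideal.span ({1 - e} : Set A) with hI
  have hεI : ∀ a ∈ I, Bialgebra.counitAlgHom R A a = 0 := by
    intro a ha
    obtain ⟨b, rfl⟩ := Ideal.mem_span_singleton'.mp ha
    rw [map_mul, map_sub, map_one, hε, sub_self, mul_zero]
  -- counit on the quotient
  let ε0 : (A ⧸ I) →ₐ[R] R := Ideal.Quotient.liftₐ I (Bialgebra.counitAlgHom R A) hεI
  have hε0 : ∀ a : A, ε0 (Ideal.Quotient.mk I a) = Bialgebra.counitAlgHom R A a := fun a => rfl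
  -- the universal points
  let gU : A →ₐ[R] (A ⧸ I) ⊗[R] A := Algebra.TensorProduct.includeRight
  let hU : A →ₐ[R] (A ⧸ I) ⊗[R] A :=
    (Algebra.TensorProduct.includeLeft : (A ⧸ I) →ₐ[R] (A ⧸ I) ⊗[R] A).comp (Ideal.Quotient.mkₐ R I)
  let ψ : (A ⧸ I) ⊗[R] A →ₐ[R] A :=
    Algebra.TensorProduct.productMap ((Algebra.ofId R A).comp ε0) (AlgHom.id R A)
  have hψg : ψ.comp gU = AlgHom.id R A := Algebra.TensorProduct.productMap_right _ _
  have hψh : ψ.comp hU = (Algebra.ofId R A).comp (Bialgebra.counitAlgHom R A) := by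
    apply AlgHom.ext
    intro x
    simp [ψ, hU, hε0]
  set c : (A ⧸ I) ⊗[R] A :=
    Dyn.conv3 R A gU hU (gU.comp (HopfAlgebra.antipodeAlgHom R A)) e with hc
  have hcid : IsIdempotentElem c := he.map _
  have hψc : ψ c = 1 := by
    have h1 : ψ c = (ψ.comp (Dyn.conv3 R A gU hU (gU.comp (HopfAlgebra.antipodeAlgHom R A)))) e := rfl
    have hψgS : ψ.comp (gU.comp (HopfAlgebra.antipodeAlgHom R A)) =
        (AlgHom.id R A).comp (HopfAlgebra.antipodeAlgHom R A) := by
      rw [← AlgHom.comp_assoc, hψg]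
    rw [h1, comp_conv3, hψg, hψh, hψgS, conv3_id_one_antipode]
    simp [hε]
  -- kernel of ψ
  set J : Ideal (A ⧸ I) := RingHom.ker ε0 with hJ
  have hJtop : J ≠ ⊤ := RingHom.ker_ne_top _
  have hD : ∀ u : (A ⧸ I) ⊗[R] A,
      u - (1 : A ⧸ I) ⊗ₜ[R] ψ u ∈ J • (⊤ : Submodule (A ⧸ I) ((A ⧸ I) ⊗[R] A)) := by
    intro u
    induction u using TensorProduct.induction_on with
    | zero => simp
    | tmul b a =>
      have h1 : ψ (b ⊗ₜ[R] a) = (ε0 b) • a := by
        simp [ψ, Algebra.smul_def]
      rw [h1, TensorProduct.tmul_smul, TensorProduct.smul_tmul', ← TensorProduct.sub_tmul]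
      have h2 : (b - (ε0 b) • (1 : A ⧸ I)) ⊗ₜ[R] a =
          (b - (ε0 b) • (1 : A ⧸ I)) • ((1 : A ⧸ I) ⊗ₜ[R] a) := by
        rw [TensorProduct.smul_tmul', smul_eq_mul, mul_one]
      rw [h2]
      refine Submodule.smul_mem_smul ?_ Submodule.mem_top
      rw [hJ, RingHom.mem_ker, map_sub, map_smul, map_one, smul_eq_mul, mul_one, sub_self]
    | add u v hu hv =>
      have : u + v - (1 : A ⧸ I) ⊗ₜ[R] ψ (u + v) =
          (u - (1 : A ⧸ I) ⊗ₜ[R] ψ u) + (v - (1 : A ⧸ I) ⊗ₜ[R] ψ v) := by
        rw [map_add, TensorProduct.tmul_add]; abel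
      rw [this]
      exact Submodule.add_mem _ hu hv
  have hc1 : c = 1 := by
    have hx : IsIdempotentElem (1 - c) := hcid.one_sub
    have hxJ : (1 - c) ∈ J • (⊤ : Submodule (A ⧸ I) ((A ⧸ I) ⊗[R] A)) := by
      have := hD (1 - c)
      rwa [map_sub, map_one, hψc, sub_self, TensorProduct.tmul_zero, sub_zero] at this
    have := idem_eq_zero J hJtop (1 - c) hx hxJ
    exact (sub_eq_zero.mp this).symm
  -- specialise
  let hbar : (A ⧸ I) →ₐ[R] T := Ideal.Quotient.liftₐ I h' hh'
  let φ : (A ⧸ I) ⊗[R] A →ₐ[R] T := Algebra.TensorProduct.productMap hbar g'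
  have hφg : φ.comp gU = g' := Algebra.TensorProduct.productMap_right _ _
  have hφh : φ.comp hU = h' := by
    apply AlgHom.ext
    intro x
    simp [φ, hU, hbar] <;> rfl
  have hnat : Dyn.conv3 R A g' h' (g'.comp (HopfAlgebra.antipodeAlgHom R A)) =
      φ.comp (Dyn.conv3 R A gU hU (gU.comp (HopfAlgebra.antipodeAlgHom R A))) := by
    have hφgS : φ.comp (gU.comp (HopfAlgebra.antipodeAlgHom R A)) =
        g'.comp (HopfAlgebra.antipodeAlgHom R A) := by
      rw [← AlgHom.comp_assoc, hφg]
    rw [comp_conv3, hφg, hφh, hφgS]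
  obtain ⟨b, rfl⟩ := Ideal.mem_span_singleton'.mp ha
  rw [hnat, AlgHom.comp_apply, map_mul, map_sub, map_one, ← hc, hc1, sub_self, mul_zero, map_zero]

end Groth.Agent.S15063
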