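import Groth.Statements.S15064
import Groth.Agent.H80.PrimHopf

set_option autoImplicit false
universe u
open scoped TensorProduct
open Hopf

namespace Groth.Agent.S15064

/-- Let k be a field of characteristic p > 0 and A a finite-dimensional commutative and cocommutative
Hopf algebra over k (a finite commutative k-group G = Spec A) which is bi-infinitesimal — A is a
local ring and so is the dual algebra Hom_k(A, k) with the convolution product (G and its Cartier
dual are connected) — with dim_k A > 1, and assume G is simple: every Hopf ideal of A is either zero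
or the augmentation ideal (G has no closed subgroup schemes other than G and 1). Then G is
isomorphic to α_p: A has a primitive element x (Δ(x) = x ⊗ 1 + 1 ⊗ x) with x^p = 0 whose powers 1,
x, …, x^(p−1) are linearly independent over k, and dim_k A = p (so A = k[x]/(x^p) with x primitive). -/
theorem result (k : Type u) [Field k] (p : ℕ) [Fact p.Prime] [CharP k p]
    (A : Type u) [CommRing A] [HopfAlgebra k A] [Coalgebra.IsCocomm k A] [FiniteDimensional k A] [IsLocalRing A]
    (hdual : IsLocalRing (WithConv (A →ₗ[k] k))) (hA : 1 < Module.finrank k A)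
    (hsimple : ∀ I : Ideal A, I.IsHopfIdeal k → I = ⊥ ∨ I = RingHom.ker (Bialgebra.counitAlgHom k A)) :
    ∃ x : A, Coalgebra.comul x = x ⊗ₜ[k] (1 : A) + (1 : A) ⊗ₜ[k] x ∧ x ^ p = 0 ∧
      LinearIndependent k (fun i : Fin p => x ^ (i : ℕ)) ∧ Module.finrank k A = p := by
  classical
  have hp : p.Prime := Fact.out
  obtain ⟨x, hx0, hxε, hxprim⟩ :=
    Groth.Agent.H80.PrimHopf.exists_prim_of_isLocalRing_dual hdual hA
  have hsurj : Function.Surjective (Bialgebra.counitAlgHom k A) := fun c =>
    ⟨algebraMap k A c, by rw [AlgHom.commutes]; rfl⟩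
  have hxnil : IsNilpotent x := by
    have hmax : (RingHom.ker (Bialgebra.counitAlgHom k A)).IsMaximal :=
      RingHom.ker_isMaximal_of_surjective _ hsurj
    have hxm : x ∈ IsLocalRing.maximalIdeal A := by
      rw [← IsLocalRing.eq_maximalIdeal hmax]; exact hxε
    have hart : IsArtinianRing A := IsArtinianRing.of_finite k A
    have h1 := IsArtinianRing.isNilpotent_jacobson_bot (R := A)
    rw [IsLocalRing.jacobson_eq_maximalIdeal ⊥ bot_ne_top] at h1
    obtain ⟨N, hN⟩ := h1
    refine ⟨N, ?_⟩
    have h2 := Ideal.pow_mem_pow hxm N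
    rw [hN] at h2
    exact h2
  have hex : ∃ m, x ^ p ^ m = 0 := by
    obtain ⟨N, hN⟩ := hxnil
    exact ⟨N, pow_eq_zero_of_le (Nat.lt_pow_self hp.one_lt).le hN⟩
  have hm : x ^ p ^ (Nat.find hex) = 0 := Nat.find_spec hex
  have hm0 : Nat.find hex ≠ 0 := by
    intro h
    rw [h, pow_zero, pow_one] at hm
    exact hx0 hm
  obtain ⟨m', hm'⟩ : ∃ m', Nat.find hex = m' + 1 := Nat.exists_eq_succ_of_ne_zero hm0
  have hy0 : x ^ p ^ m' ≠ 0 := Nat.find_min hex (by omega : m' < Nat.find hex)
  have hyp : (x ^ p ^ m') ^ p = 0 := by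
    rw [← pow_mul, ← pow_succ, ← hm']; exact hm
  have hyprim : Groth.Agent.H80.PrimHopf.IsPrim k (x ^ p ^ m') := hxprim.pow_char_pow p m'
  have hyε : Coalgebra.counit (R := k) (x ^ p ^ m') = 0 := by
    show Bialgebra.counitAlgHom k A (x ^ p ^ m') = 0
    have h1 : Bialgebra.counitAlgHom k A x = 0 := hxε
    rw [map_pow, h1, zero_pow (pow_ne_zero _ hp.ne_zero)]
  have hli := hyprim.linearIndependent_pow hy0 p hyp
  have hHopf := hyprim.isHopfIdeal_span hyε
  have hker : RingHom.ker (Bialgebra.counitAlgHom k A) = Ideal.span ({x ^ p ^ m'} : Set A) := by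
    rcases hsimple _ hHopf with h | h
    · exfalso
      apply hy0
      have h1 := Ideal.mem_span_singleton_self (x ^ p ^ m')
      rw [h] at h1
      exact h1
    · exact h.symm
  have hspan := Groth.Agent.H80.PrimHopf.span_pow_eq_top (k := k) p hyp hker
  refine ⟨x ^ p ^ m', hyprim, hyp, hli, ?_⟩
  have h1 := Module.finrank_eq_card_basis (Module.Basis.mk hli hspan.ge)
  rw [h1, Fintype.card_fin]

end Groth.Agent.S15064
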