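import Groth.Statements.S15065
import Mathlib
import Groth.Agent.S11935

set_option autoImplicit false
universe u
open Hopf

namespace Groth.Agent.S15065

open TensorProduct WithConv Groth.Agent.S11935

/-- Let k be an algebraically closed field and A a finite-dimensional commutative and cocommutative Hopf
algebra over k which is reduced (a finite étale commutative k-group G = Spec A), with dim_k A > 1,
and assume G is simple: every Hopf ideal of A is either zero or the augmentation ideal (no closed
subgroup schemes other than G and 1). Then the order dim_k A is a prime number ℓ, so that G is the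
constant group ℤ/ℓℤ. (The published statement lists the simple finite commutative groups over an
algebraically closed field of characteristic p > 0; the étale case does not use the characteristic
and is stated here for any algebraically closed field.) -/
theorem result (k : Type u) [Field k] [IsAlgClosed k] (A : Type u) [CommRing A] [HopfAlgebra k A]
    [Coalgebra.IsCocomm k A] [FiniteDimensional k A] [IsReduced A] (hA : 1 < Module.finrank k A)
    (hsimple : ∀ I : Ideal A, I.IsHopfIdeal k → I = ⊥ ∨ I = RingHom.ker (Bialgebra.counitAlgHom k A)) :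
    (Module.finrank k A).Prime := by
  classical
  have hfin : Finite (A →ₐ[k] k) := finite_points k A
  have hfinG : Finite (WithConv (A →ₐ[k] k)) := Finite.of_equiv _ (WithConv.equiv _).symm
  let _ : Fintype (A →ₐ[k] k) := Fintype.ofFinite _
  let ge : A ≃ₗ[k] ((A →ₐ[k] k) → k) :=
    LinearEquiv.ofBijective (gelfand k A).toLinearMap (gelfand_bijective k A)
  have hge : ∀ (f : (A →ₐ[k] k) → k) (χ : A →ₐ[k] k), χ (ge.symm f) = f χ := by
    intro f χ
    have h1 : ge (ge.symm f) = f := ge.apply_symm_apply f
    exact congrFun h1 χ
  have hcard : Module.finrank k A = Nat.card (WithConv (A →ₐ[k] k)) := by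
    rw [ge.finrank_eq, Module.finrank_fintype_fun_eq_card, Nat.card_congr (WithConv.equiv _),
      Nat.card_eq_fintype_card]
  have hone : ∀ a : A, (1 : WithConv (A →ₐ[k] k)).ofConv a = Coalgebra.counit (R := k) a := by
    intro a
    rfl
  -- the ideal of a subgroup
  let I : Subgroup (WithConv (A →ₐ[k] k)) → Ideal A := fun H =>
    { carrier := {a | ∀ χ ∈ H, χ.ofConv a = 0}
      add_mem' := by
        intro a b ha hb χ hχ
        rw [map_add, ha χ hχ, hb χ hχ, add_zero]
      zero_mem' := by
        intro χ _
        exact map_zero _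
      smul_mem' := by
        intro c a ha χ hχ
        rw [smul_eq_mul, map_mul, ha χ hχ, mul_zero] }
  have hI : ∀ (H : Subgroup (WithConv (A →ₐ[k] k))) (a : A),
      a ∈ I H ↔ ∀ χ ∈ H, χ.ofConv a = 0 := fun H a => Iff.rfl
  have hhopf : ∀ H : Subgroup (WithConv (A →ₐ[k] k)), (I H).IsHopfIdeal k := by
    intro H
    -- the idempotent of H
    let e : A := ge.symm (fun χ => if toConv χ ∈ H then 1 else 0)
    have he : ∀ χ : A →ₐ[k] k, χ e = if toConv χ ∈ H then 1 else 0 := fun χ => hge _ χ
    have h1e : ∀ a : A, a * (1 - e) ∈ I H := by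
      intro a χ hχ
      have : χ.ofConv e = 1 := by
        rw [he χ.ofConv, if_pos hχ]
      rw [map_mul, map_sub, map_one, this, sub_self, mul_zero]
    have hcomul : ∀ x ∈ I H, Coalgebra.comul (R := k) x * (e ⊗ₜ[k] e) = 0 := by
      intro x hx
      apply tensor_eq_zero k A
      intro χ₁ χ₂
      rw [map_mul, Algebra.TensorProduct.lift_tmul, he, he]
      by_cases h1 : toConv χ₁ ∈ H
      · by_cases h2 : toConv χ₂ ∈ H
        · have h3 : (toConv χ₁ * toConv χ₂ : WithConv (A →ₐ[k] k)).ofConv x = 0 :=
            hx _ (H.mul_mem h1 h2)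
          have h4 : Algebra.TensorProduct.lift χ₁ χ₂ (fun _ _ => Commute.all _ _)
              (Coalgebra.comul (R := k) x) = 0 := by
            rw [← h3]
            exact (AlgHom.convMul_apply (toConv χ₁) (toConv χ₂) x).symm
          rw [h4, zero_mul]
        · rw [if_neg h2, mul_zero, mul_zero]
      · rw [if_neg h1, zero_mul, mul_zero]
    have hr : ∀ z : A ⊗[k] A, z * ((1 - e) ⊗ₜ[k] (1 : A)) ∈
        LinearMap.range (LinearMap.rTensor A ((I H).restrictScalars k).subtype) := by
      intro z
      induction z using TensorProduct.induction_on with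
      | zero => rw [zero_mul]; exact Submodule.zero_mem _
      | tmul a b =>
        refine ⟨(⟨a * (1 - e), h1e a⟩ : ((I H).restrictScalars k)) ⊗ₜ[k] b, ?_⟩
        rw [LinearMap.rTensor_tmul, Algebra.TensorProduct.tmul_mul_tmul, mul_one]
        rfl
      | add z z' hz hz' => rw [add_mul]; exact Submodule.add_mem _ hz hz'
    have hl : ∀ z : A ⊗[k] A, z * (e ⊗ₜ[k] (1 - e)) ∈
        LinearMap.range (LinearMap.lTensor A ((I H).restrictScalars k).subtype) := by
      intro z
      induction z using TensorProduct.induction_on with
      | zero => rw [zero_mul]; exact Submodule.zero_mem _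
      | tmul a b =>
        refine ⟨(a * e) ⊗ₜ[k] (⟨b * (1 - e), h1e b⟩ : ((I H).restrictScalars k)), ?_⟩
        rw [LinearMap.lTensor_tmul, Algebra.TensorProduct.tmul_mul_tmul]
        rfl
      | add z z' hz hz' => rw [add_mul]; exact Submodule.add_mem _ hz hz'
    have hcoideal : ((I H).restrictScalars k).IsCoideal := by
      rw [Submodule.isCoideal_iff_comul_mem]
      refine ⟨?_, ?_⟩
      · intro x hx
        rw [← hone]
        exact hx 1 H.one_mem
      · intro x hx
        have hdec : Coalgebra.comul (R := k) x =
            Coalgebra.comul (R := k) x * (e ⊗ₜ[k] e) +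
            (Coalgebra.comul (R := k) x * (e ⊗ₜ[k] (1 - e)) +
              Coalgebra.comul (R := k) x * ((1 - e) ⊗ₜ[k] (1 : A))) := by
          rw [← mul_add, ← mul_add]
          have : (e ⊗ₜ[k] e + (e ⊗ₜ[k] (1 - e) + (1 - e) ⊗ₜ[k] (1 : A)) : A ⊗[k] A) = 1 := by
            rw [TensorProduct.tmul_sub, TensorProduct.sub_tmul, Algebra.TensorProduct.one_def]
            abel
          rw [this, mul_one]
        rw [hdec, hcomul x hx, zero_add]
        exact Submodule.add_mem _ (Submodule.mem_sup_left (hl _)) (Submodule.mem_sup_right (hr _))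
    refine { toIsCoideal := hcoideal, antipode_mem := ?_ }
    intro x hx χ hχ
    exact hx χ⁻¹ (H.inv_mem hχ)
  have hnontriv : Nontrivial (WithConv (A →ₐ[k] k)) := by
    rw [← Finite.one_lt_card_iff_nontrivial, ← hcard]
    exact hA
  have hsimpleG : IsSimpleGroup (WithConv (A →ₐ[k] k)) := by
    refine { toNontrivial := hnontriv, eq_bot_or_eq_top_of_normal := ?_ }
    intro H _
    rcases hsimple (I H) (hhopf H) with h | h
    · right
      rw [eq_top_iff]
      intro χ₀ _
      by_contra hχ₀
      let d : A := ge.symm (Pi.single χ₀.ofConv 1)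
      have hd : d ∈ I H := by
        intro χ hχ
        have : χ.ofConv d = (Pi.single χ₀.ofConv (1 : k) : (A →ₐ[k] k) → k) χ.ofConv := hge _ _
        rw [this, Pi.single_apply, if_neg]
        intro hne
        apply hχ₀
        have : χ = χ₀ := WithConv.ext hne
        rwa [← this]
      rw [h, Ideal.mem_bot] at hd
      have h2 : χ₀.ofConv d = (Pi.single χ₀.ofConv (1 : k) : (A →ₐ[k] k) → k) χ₀.ofConv := hge _ _
      rw [hd, map_zero, Pi.single_eq_same] at h2
      exact zero_ne_one h2
    · left
      rw [eq_bot_iff]
      intro χ hχ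
      rw [Subgroup.mem_bot]
      by_contra hne
      let d : A := ge.symm (Pi.single χ.ofConv 1)
      have hd : d ∈ I H := by
        rw [h, RingHom.mem_ker]
        change Coalgebra.counit (R := k) d = 0
        rw [← hone]
        have : (1 : WithConv (A →ₐ[k] k)).ofConv d =
            (Pi.single χ.ofConv (1 : k) : (A →ₐ[k] k) → k) (1 : WithConv (A →ₐ[k] k)).ofConv :=
          hge _ _
        rw [this, Pi.single_apply, if_neg]
        intro h1
        exact hne (WithConv.ext h1.symm)
      have h2 : χ.ofConv d = (Pi.single χ.ofConv (1 : k) : (A →ₐ[k] k) → k) χ.ofConv := hge _ _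
      rw [hd χ hχ, Pi.single_eq_same] at h2
      exact zero_ne_one h2
  rw [hcard]
  exact IsSimpleGroup.prime_card

end Groth.Agent.S15065
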