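import Groth.Statements.S15066
import Mathlib
import Groth.Agent.S11935
import Groth.Agent.S11928

set_option autoImplicit false
universe u
open Hopf

namespace Groth.Agent.S15066

open TensorProduct WithConv Groth.Agent.S11935

/-- Let k be an algebraically closed field of characteristic p > 0 and A a finite-dimensional
commutative and cocommutative Hopf algebra over k (a finite commutative k-group G = Spec A) which is
a local ring (G connected) and whose dual algebra Hom_k(A, k) with the convolution product is
reduced (the Cartier dual of G is étale, i.e. G is multiplicative), with dim_k A > 1, and assume G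
is simple: every Hopf ideal of A is either zero or the augmentation ideal (no closed subgroup
schemes other than G and 1). Then G is isomorphic to μ_p: A has a group-like element g (Δ(g) = g ⊗
g, ε(g) = 1) with g^p = 1 whose powers 1, g, …, g^(p−1) are linearly independent over k, and dim_k A
= p (so A = k[g]/(g^p − 1)). -/
theorem result (k : Type u) [Field k] [IsAlgClosed k] (p : ℕ) [Fact p.Prime]
    [CharP k p] (A : Type u) [CommRing A] [HopfAlgebra k A] [Coalgebra.IsCocomm k A] [FiniteDimensional k A]
    [IsLocalRing A] (hdual : IsReduced (WithConv (A →ₗ[k] k))) (hA : 1 < Module.finrank k A)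
    (hsimple : ∀ I : Ideal A, I.IsHopfIdeal k → I = ⊥ ∨ I = RingHom.ker (Bialgebra.counitAlgHom k A)) :
    ∃ g : A, IsGroupLikeElem k g ∧ g ^ p = 1 ∧ LinearIndependent k (fun i : Fin p => g ^ (i : ℕ)) ∧
      Module.finrank k A = p := by
  classical
  have hDfin : Module.Finite k (WithConv (A →ₗ[k] k)) :=
    Module.Finite.equiv (WithConv.linearEquiv k (A →ₗ[k] k)).symm
  have hDrank : Module.finrank k (WithConv (A →ₗ[k] k)) = Module.finrank k A := by
    rw [(WithConv.linearEquiv k (A →ₗ[k] k)).finrank_eq]
    exact Subspace.dual_finrank_eq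
  have hXfin : Finite (WithConv (A →ₗ[k] k) →ₐ[k] k) := finite_points k _
  let _ : Fintype (WithConv (A →ₗ[k] k) →ₐ[k] k) := Fintype.ofFinite _
  have hXcard : Nat.card (WithConv (A →ₗ[k] k) →ₐ[k] k) = Module.finrank k A := by
    have := (LinearEquiv.ofBijective (gelfand k (WithConv (A →ₗ[k] k))).toLinearMap
      (gelfand_bijective k _)).finrank_eq
    rw [Module.finrank_fintype_fun_eq_card, hDrank] at this
    rw [Nat.card_eq_fintype_card]
    exact this.symm
  -- points of the dual = group-like elements
  obtain ⟨hS1, hS2⟩ := Groth.Agent.S11928.result k A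
  let Φ : (WithConv (A →ₗ[k] k) →ₐ[k] k) → GroupLike k A := fun f =>
    ⟨(hS1 f).choose, (hS1 f).choose_spec.1.1⟩
  have hΦ : ∀ (f : WithConv (A →ₗ[k] k) →ₐ[k] k) (φ : A →ₗ[k] k),
      f (toConv φ) = φ (Φ f).val := fun f => (hS1 f).choose_spec.1.2
  have hΦinj : Function.Injective Φ := by
    intro f f' hff'
    apply AlgHom.ext
    intro d
    have h1 := hΦ f d.ofConv
    have h2 := hΦ f' d.ofConv
    rw [toConv_ofConv] at h1 h2
    rw [h1, h2, hff']
  have hΦsurj : Function.Surjective Φ := by
    intro γ
    obtain ⟨f, hf⟩ := hS2 γ.val γ.isGroupLikeElem_val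
    refine ⟨f, ?_⟩
    apply GroupLike.val_injective
    exact ((hS1 f).choose_spec.2 γ.val ⟨γ.isGroupLikeElem_val, hf⟩).symm
  have hΓfin : Finite (GroupLike k A) := Finite.of_surjective Φ hΦsurj
  let _ : Fintype (GroupLike k A) := Fintype.ofFinite _
  have hΓcard : Nat.card (GroupLike k A) = Module.finrank k A := by
    rw [← hXcard]
    exact (Nat.card_congr (Equiv.ofBijective Φ ⟨hΦinj, hΦsurj⟩)).symm
  have hΓne : Nonempty (GroupLike k A) := ⟨1⟩
  have hli : LinearIndependent k (GroupLike.val (R := k) (A := A)) := linearIndep_groupLikeVal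
  let b : Module.Basis (GroupLike k A) k A :=
    basisOfLinearIndependentOfCardEqFinrank hli (by rw [← hΓcard, Nat.card_eq_fintype_card])
  have hb : ∀ γ : GroupLike k A, b γ = γ.val := by
    intro γ
    simp only [b, coe_basisOfLinearIndependentOfCardEqFinrank]
  -- the ideal of a subgroup
  let J : Subgroup (GroupLike k A) → Ideal A := fun H =>
    Ideal.span {a | ∃ h ∈ H, a = h.val - 1}
  have hJmem : ∀ (H : Subgroup (GroupLike k A)) (h : GroupLike k A), h ∈ H → h.val - 1 ∈ J H :=
    fun H h hh => Ideal.subset_span ⟨h, hh, rfl⟩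
  have hJhopf : ∀ H : Subgroup (GroupLike k A), (J H).IsHopfIdeal k := by
    intro H
    have hcounit : J H ≤ RingHom.ker (Bialgebra.counitAlgHom k A) := by
      rw [Ideal.span_le]
      rintro a ⟨h, -, rfl⟩
      rw [SetLike.mem_coe, RingHom.mem_ker, map_sub, map_one, Bialgebra.counitAlgHom_apply,
        h.isGroupLikeElem_val.counit_eq_one, sub_self]
    let ψ : A →ₐ[k] (A ⧸ J H) ⊗[k] (A ⧸ J H) :=
      (Algebra.TensorProduct.map (Ideal.Quotient.mkₐ k (J H)) (Ideal.Quotient.mkₐ k (J H))).comp
        (Bialgebra.comulAlgHom k A)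
    have hψ : J H ≤ RingHom.ker ψ := by
      rw [Ideal.span_le]
      rintro a ⟨h, hh, rfl⟩
      rw [SetLike.mem_coe, RingHom.mem_ker, map_sub, map_one]
      have h1 : Ideal.Quotient.mkₐ k (J H) h.val = 1 := by
        rw [← sub_eq_zero, ← map_one (Ideal.Quotient.mkₐ k (J H)), ← map_sub]
        exact Ideal.Quotient.eq_zero_iff_mem.mpr (hJmem H h hh)
      change Algebra.TensorProduct.map (Ideal.Quotient.mkₐ k (J H)) (Ideal.Quotient.mkₐ k (J H))
        (Coalgebra.comul (R := k) h.val) - 1 = 0
      rw [h.isGroupLikeElem_val.comul_eq_tmul_self, Algebra.TensorProduct.map_tmul, h1, sub_eq_zero]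
      rfl
    have hex : Function.Exact ((J H).restrictScalars k).subtype
        (Ideal.Quotient.mkₐ k (J H)).toLinearMap := by
      intro y
      constructor
      · intro hy
        exact ⟨⟨y, Ideal.Quotient.eq_zero_iff_mem.mp hy⟩, rfl⟩
      · rintro ⟨z, rfl⟩
        exact Ideal.Quotient.eq_zero_iff_mem.mpr z.2
    have hsurj : Function.Surjective (Ideal.Quotient.mkₐ k (J H)).toLinearMap :=
      Ideal.Quotient.mk_surjective
    have hcoideal : ((J H).restrictScalars k).IsCoideal := by
      rw [Submodule.isCoideal_iff_comul_mem]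
      refine ⟨?_, ?_⟩
      · intro x hx
        exact hcounit hx
      · intro x hx
        rw [← TensorProduct.map_ker hex hsurj hex hsurj, LinearMap.mem_ker]
        exact hψ hx
    refine { toIsCoideal := hcoideal, antipode_mem := ?_ }
    have hanti : J H ≤ (J H).comap (HopfAlgebra.antipodeAlgHom k A) := by
      rw [Ideal.span_le]
      rintro a ⟨h, hh, rfl⟩
      rw [SetLike.mem_coe, Ideal.mem_comap, map_sub, map_one]
      exact hJmem H h⁻¹ (H.inv_mem hh)
    intro x hx
    exact hanti hx
  have hnontriv : Nontrivial (GroupLike k A) := by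
    rw [← Finite.one_lt_card_iff_nontrivial, hΓcard]
    exact hA
  have hsimpleG : IsSimpleGroup (GroupLike k A) := by
    refine { toNontrivial := hnontriv, eq_bot_or_eq_top_of_normal := ?_ }
    intro H _
    rcases hsimple (J H) (hJhopf H) with h | h
    · left
      rw [eq_bot_iff]
      intro γ hγ
      rw [Subgroup.mem_bot]
      have h1 := hJmem H γ hγ
      rw [h, Ideal.mem_bot, sub_eq_zero] at h1
      exact GroupLike.val_injective h1
    · right
      rw [eq_top_iff]
      intro γ _
      let lam : A →ₗ[k] k := b.constr k (fun γ' => if γ' ∈ H then (1 : k) else 0)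
      have hlam : ∀ γ' : GroupLike k A, lam γ'.val = if γ' ∈ H then (1 : k) else 0 := by
        intro γ'
        rw [← hb γ']
        exact b.constr_basis k _ γ'
      have hkill : ∀ x ∈ J H, ∀ a : A, lam (a * x) = 0 := by
        intro x hx
        induction hx using Submodule.span_induction with
        | mem x hx =>
          obtain ⟨h', hh', rfl⟩ := hx
          intro a
          have hz : lam ∘ₗ LinearMap.mulRight k (h'.val - 1) = 0 := by
            apply b.ext
            intro γ'
            rw [LinearMap.comp_apply, LinearMap.mulRight_apply, hb, mul_sub, mul_one, map_sub,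
              ← GroupLike.val_mul, hlam, hlam, LinearMap.zero_apply]
            by_cases hγ' : γ' ∈ H
            · rw [if_pos hγ', if_pos (H.mul_mem hγ' hh'), sub_self]
            · rw [if_neg hγ', if_neg, sub_self]
              intro hc
              exact hγ' ((H.mul_mem_cancel_right hh').mp hc)
          exact LinearMap.congr_fun hz a
        | zero => intro a; rw [mul_zero, map_zero]
        | add x y _ _ hx hy => intro a; rw [mul_add, map_add, hx a, hy a, add_zero]
        | smul c x _ hx => intro a; rw [smul_eq_mul, ← mul_assoc]; exact hx (a * c)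
      have hγ : γ.val - 1 ∈ J H := by
        rw [h, RingHom.mem_ker, map_sub, map_one, Bialgebra.counitAlgHom_apply,
          γ.isGroupLikeElem_val.counit_eq_one, sub_self]
      have h2 := hkill _ hγ 1
      rw [one_mul, map_sub, ← GroupLike.val_one (R := k) (A := A), hlam, hlam,
        if_pos H.one_mem] at h2
      by_contra hγH
      rw [if_neg hγH, zero_sub] at h2
      exact one_ne_zero (neg_eq_zero.mp h2)
  have hprime : (Nat.card (GroupLike k A)).Prime := IsSimpleGroup.prime_card
  -- pick a generator
  obtain ⟨g, hg⟩ := exists_ne (1 : GroupLike k A)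
  have hord : orderOf g = Nat.card (GroupLike k A) := by
    rcases (Nat.dvd_prime hprime).mp (orderOf_dvd_natCard g) with h | h
    · exact absurd (orderOf_eq_one_iff.mp h) hg
    · exact h
  -- g - 1 is nilpotent
  have hker : RingHom.ker (Bialgebra.counitAlgHom k A) = IsLocalRing.maximalIdeal A := by
    have hs : Function.Surjective (Bialgebra.counitAlgHom k A) := by
      intro c
      exact ⟨algebraMap k A c, by rw [AlgHom.commutes]; rfl⟩
    have : (RingHom.ker (Bialgebra.counitAlgHom k A)).IsMaximal :=
      RingHom.ker_isMaximal_of_surjective _ hs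
    exact IsLocalRing.eq_maximalIdeal this
  have hart : IsArtinianRing A := IsArtinianRing.of_finite k A
  obtain ⟨n, hn⟩ := IsArtinianRing.isNilpotent_jacobson_bot (R := A)
  have hgm : g.val - 1 ∈ Ideal.jacobson (⊥ : Ideal A) := by
    rw [IsLocalRing.jacobson_eq_maximalIdeal ⊥ bot_ne_top, ← hker, RingHom.mem_ker, map_sub,
      map_one, Bialgebra.counitAlgHom_apply, g.isGroupLikeElem_val.counit_eq_one, sub_self]
  have hgn : (g.val - 1) ^ n = 0 := by
    have h3 : (g.val - 1) ^ n ∈ (Ideal.jacobson (⊥ : Ideal A)) ^ n := Ideal.pow_mem_pow hgm n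
    rw [hn] at h3
    exact h3
  have hcharA : CharP A p := charP_of_injective_algebraMap (algebraMap k A).injective p
  have hgpn : g ^ (p ^ n) = 1 := by
    apply GroupLike.val_injective
    rw [GroupLike.val_pow, GroupLike.val_one]
    have h4 : (g.val - 1) ^ (p ^ n) = 0 :=
      pow_eq_zero_of_le (Nat.lt_pow_self (Fact.out : p.Prime).one_lt).le hgn
    rw [sub_pow_char_pow, one_pow, sub_eq_zero] at h4
    exact h4
  have hlp : Nat.card (GroupLike k A) = p := by
    have h5 : Nat.card (GroupLike k A) ∣ p ^ n := by
      rw [← hord]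
      exact orderOf_dvd_of_pow_eq_one hgpn
    exact (Nat.prime_dvd_prime_iff_eq hprime Fact.out).mp (hprime.dvd_of_dvd_pow h5)
  refine ⟨g.val, g.isGroupLikeElem_val, ?_, ?_, ?_⟩
  · have h6 : g ^ p = 1 := by
      rw [← hlp]
      exact pow_card_eq_one'
    rw [← GroupLike.val_pow, h6, GroupLike.val_one]
  · have hinj : Function.Injective (fun i : Fin p => g ^ (i : ℕ)) := by
      intro i j hij
      apply Fin.ext
      apply pow_injOn_Iio_orderOf (x := g)
      · rw [Set.mem_Iio, hord, hlp]; exact i.2
      · rw [Set.mem_Iio, hord, hlp]; exact j.2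
      · exact hij
    exact hli.comp _ hinj
  · rw [← hΓcard, hlp]

end Groth.Agent.S15066
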