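import Groth.Statements.S18472
import Groth.Agent.H83.HopfKaehler

set_option autoImplicit false
universe u v
open Hopf

namespace Groth.Agent.S18472

open TensorProduct Groth.Agent.H83.HopfKaehler

/-- Let R be a commutative ring and A a commutative Hopf algebra over R which is finitely generated and
projective as an R-module (a finite locally free group scheme G = Spec A over Spec R), and let I =
ker ε be its augmentation ideal. Then A is étale over R if and only if I² = I. (The published text
calls G finite flat, meaning that A is finitely generated and projective.) -/
theorem result
    (R : Type u) [CommRing R] (A : Type v) [CommRing A] [HopfAlgebra R A]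
    [Module.Finite R A] [Module.Projective R A] :
    Algebra.Etale R A ↔
      RingHom.ker (Bialgebra.counitAlgHom R A) ^ 2 = RingHom.ker (Bialgebra.counitAlgHom R A) := by
  let e : A ⊗[R] (augI R A).Cotangent ≃ₗ[A] (KaehlerDifferential.ideal R A).Cotangent :=
    (equivB R A).symm.trans (equivJ R A)
  constructor
  · intro hE
    have hU : Algebra.FormallyUnramified R A := inferInstance
    have h1 : Subsingleton (KaehlerDifferential.ideal R A).Cotangent :=
      hU.subsingleton_kaehlerDifferential
    have h2 : Subsingleton (A ⊗[R] (augI R A).Cotangent) := e.injective.subsingleton
    have h3 : Subsingleton (augI R A).Cotangent := by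
      refine ⟨fun n n' => ?_⟩
      have h4 : (1 : A) ⊗ₜ[R] n = (1 : A) ⊗ₜ[R] n' := Subsingleton.elim _ _
      have h5 := congrArg (fun t => TensorProduct.lid R (augI R A).Cotangent
        (LinearMap.rTensor (augI R A).Cotangent (Coalgebra.counit : A →ₗ[R] R) t)) h4
      simpa using h5
    have h6 := (Ideal.cotangent_subsingleton_iff _).mp h3
    rw [pow_two]
    exact h6
  · intro hI
    have h3 : Subsingleton (augI R A).Cotangent := by
      rw [Ideal.cotangent_subsingleton_iff]
      change augI R A * augI R A = augI R A
      rw [← pow_two]
      exact hI
    have h2 : Subsingleton (A ⊗[R] (augI R A).Cotangent) := by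
      refine ⟨fun x y => ?_⟩
      have h0 : ∀ z : A ⊗[R] (augI R A).Cotangent, z = 0 := by
        intro z
        induction z using TensorProduct.induction_on with
        | zero => rfl
        | tmul a n => rw [Subsingleton.elim n 0, tmul_zero]
        | add x y hx hy => rw [hx, hy, add_zero]
      rw [h0 x, h0 y]
    have h1 : Subsingleton (KaehlerDifferential.ideal R A).Cotangent :=
      e.symm.injective.subsingleton
    have hU : Algebra.FormallyUnramified R A := ⟨h1⟩
    have hP : Module.FinitePresentation R A := Module.finitePresentation_of_projective R A
    exact Algebra.Etale.of_formallyUnramified_of_flat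

end Groth.Agent.S18472
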