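import Groth.Statements.S15067
import Mathlib
import Groth.Agent.H83.HopfEtale
import Groth.Agent.S18472

set_option autoImplicit false
universe u
open scoped TensorProduct
open Hopf

namespace Groth.Agent.S15067

open Groth.Agent.H83.HopfEtale

/-- Let R be a henselian Noetherian local ring, A and A'' commutative Hopf algebras over R which are
finite and flat as R-modules (finite flat R-groups G = Spec A, G'' = Spec A''), and A'' → A an
R-algebra homomorphism compatible with the comultiplications and counits (a homomorphism π : G →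
G'') making A a faithfully flat A''-module (π faithfully flat). Let J ⊆ A be the ideal generated by
the image of the augmentation ideal of A'', so that G' = Spec A/J is the kernel of π and 1 → G' → G
→ G'' → 1 is an exact sequence of finite flat R-groups. Then: (2) if A'' and A/J are local rings
(G'' and G' connected), A is a local ring (G is connected); (3) if A'' and A/J are étale over R (G''
and G' finite étale), A is étale over R (G is finite étale). -/
theorem result (R : Type u) [CommRing R] [HenselianLocalRing R] [IsNoetherianRing R]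
    (A A'' : Type u) [CommRing A] [HopfAlgebra R A] [Module.Finite R A] [Module.Flat R A]
    [CommRing A''] [HopfAlgebra R A''] [Module.Finite R A''] [Module.Flat R A'']
    [Algebra A'' A] [IsScalarTower R A'' A] [Module.FaithfullyFlat A'' A]
    (hΔ : (Bialgebra.comulAlgHom R A).comp (IsScalarTower.toAlgHom R A'' A) =
      (Algebra.TensorProduct.map (IsScalarTower.toAlgHom R A'' A) (IsScalarTower.toAlgHom R A'' A)).comp
        (Bialgebra.comulAlgHom R A''))
    (hε : (Bialgebra.counitAlgHom R A).comp (IsScalarTower.toAlgHom R A'' A) = Bialgebra.counitAlgHom R A'') :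
    ((IsLocalRing A'' ∧
        IsLocalRing (A ⧸ (RingHom.ker (Bialgebra.counitAlgHom R A'')).map (algebraMap A'' A))) → IsLocalRing A) ∧
      ((Algebra.Etale R A'' ∧
        Algebra.Etale R (A ⧸ (RingHom.ker (Bialgebra.counitAlgHom R A'')).map (algebraMap A'' A))) →
        Algebra.Etale R A) := by
  have hI''ne : RingHom.ker (Bialgebra.counitAlgHom R A'') ≠ ⊤ := by
    intro h
    have h1 : (1 : A'') ∈ RingHom.ker (Bialgebra.counitAlgHom R A'') := h ▸ Submodule.mem_top
    rw [RingHom.mem_ker, map_one] at h1
    exact one_ne_zero h1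
  have h2 : (RingHom.ker (Bialgebra.counitAlgHom R A'')).map (algebraMap A'' A) ≤
      RingHom.ker (Bialgebra.counitAlgHom R A) := by
    rw [Ideal.map_le_iff_le_comap]
    intro a ha
    rw [Ideal.mem_comap, RingHom.mem_ker]
    have h3 := AlgHom.congr_fun hε a
    rw [AlgHom.comp_apply] at h3
    exact h3.trans ha
  refine ⟨?_, ?_⟩
  · rintro ⟨hloc'', hlocJ⟩
    have hfin : Module.Finite A'' A := Module.Finite.of_restrictScalars_finite R A'' A
    have hint : Algebra.IsIntegral A'' A := Algebra.IsIntegral.of_finite A'' A
    have hJle : ∀ M : Ideal A, M.IsMaximal →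
        (RingHom.ker (Bialgebra.counitAlgHom R A'')).map (algebraMap A'' A) ≤ M := by
      intro M hM
      rw [Ideal.map_le_iff_le_comap]
      have hmax : (M.comap (algebraMap A'' A)).IsMaximal :=
        Ideal.isMaximal_comap_of_isIntegral_of_isMaximal M
      rw [IsLocalRing.eq_maximalIdeal hmax]
      exact IsLocalRing.le_maximalIdeal hI''ne
    let J : Ideal A := (RingHom.ker (Bialgebra.counitAlgHom R A'')).map (algebraMap A'' A)
    let M₀ : Ideal A := (IsLocalRing.maximalIdeal (A ⧸ J)).comap (Ideal.Quotient.mk J)
    have hM₀ : M₀.IsMaximal :=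
      Ideal.comap_isMaximal_of_surjective _ Ideal.Quotient.mk_surjective
    apply IsLocalRing.of_unique_max_ideal
    refine ⟨M₀, hM₀, ?_⟩
    intro M hM
    have h1 : (M.map (Ideal.Quotient.mk J)) ≠ ⊤ := by
      intro h
      have h4 := Ideal.comap_map_of_surjective (Ideal.Quotient.mk J) Ideal.Quotient.mk_surjective M
      rw [h, Ideal.comap_top, ← RingHom.ker_eq_comap_bot, Ideal.mk_ker,
        sup_eq_left.mpr (hJle M hM)] at h4
      exact hM.ne_top h4.symm
    have h3 : M ≤ M₀ := by
      intro a ha
      exact IsLocalRing.le_maximalIdeal h1 (Ideal.mem_map_of_mem _ ha)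
    exact hM.eq_of_le hM₀.ne_top h3
  · rintro ⟨het'', hetJ⟩
    have hfp : Module.FinitePresentation R A := Module.finitePresentation_of_finite R A
    have hproj : Module.Projective R A := Module.Flat.projective_of_finitePresentation
    rw [Groth.Agent.S18472.result R A]
    apply le_antisymm (Ideal.pow_le_self two_ne_zero)
    have h1 : RingHom.ker (Bialgebra.counitAlgHom R A'') ^ 2 =
        RingHom.ker (Bialgebra.counitAlgHom R A'') :=
      ker_sq_of_formallyUnramified (Bialgebra.counitAlgHom R A'')
    let J : Ideal A := (RingHom.ker (Bialgebra.counitAlgHom R A'')).map (algebraMap A'' A)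
    have h3 : J ≤ RingHom.ker (Bialgebra.counitAlgHom R A) ^ 2 := by
      calc J = (RingHom.ker (Bialgebra.counitAlgHom R A'') ^ 2).map (algebraMap A'' A) := by
            rw [h1]
        _ = J ^ 2 := Ideal.map_pow _ _ _
        _ ≤ RingHom.ker (Bialgebra.counitAlgHom R A) ^ 2 := Ideal.pow_right_mono h2 2
    let εJ : A ⧸ J →ₐ[R] R :=
      Ideal.Quotient.liftₐ J (Bialgebra.counitAlgHom R A) (fun a ha => h2 ha)
    have h4 : RingHom.ker εJ ^ 2 = RingHom.ker εJ := ker_sq_of_formallyUnramified εJ
    have h6 : RingHom.ker εJ =
        (RingHom.ker (Bialgebra.counitAlgHom R A)).map (Ideal.Quotient.mk J) := by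
      apply le_antisymm
      · intro z hz
        obtain ⟨c, rfl⟩ := Ideal.Quotient.mk_surjective z
        exact Ideal.mem_map_of_mem _ hz
      · rw [Ideal.map_le_iff_le_comap]
        intro c hc
        exact hc
    intro a ha
    have h5 : Ideal.Quotient.mk J a ∈ RingHom.ker εJ ^ 2 := by
      rw [h4, RingHom.mem_ker]
      exact ha
    rw [h6, ← Ideal.map_pow] at h5
    have h7 : a ∈ RingHom.ker (Bialgebra.counitAlgHom R A) ^ 2 ⊔ J := by
      have h8 := Ideal.comap_map_of_surjective (Ideal.Quotient.mk J) Ideal.Quotient.mk_surjective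
        (RingHom.ker (Bialgebra.counitAlgHom R A) ^ 2)
      rw [← RingHom.ker_eq_comap_bot, Ideal.mk_ker] at h8
      rw [← h8]
      exact h5
    exact (sup_le le_rfl h3) h7

end Groth.Agent.S15067
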