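import Groth.Statements.S15068
import Mathlib
import Groth.Agent.H83.HopfEtale

set_option autoImplicit false
universe u
open scoped TensorProduct
open Hopf

namespace Groth.Agent.S15068

open Groth.Agent.H83.HopfEtale

/-- Let R be a henselian Noetherian local ring, A and A'' commutative Hopf algebras over R which are
finite and flat as R-modules, and A'' → A an R-algebra homomorphism compatible with
comultiplications and counits making A faithfully flat over A'' (a faithfully flat homomorphism π :
G → G'' of finite flat R-groups); let J ⊆ A be the ideal generated by the image of the augmentation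
ideal of A'' (G' = Spec A/J = ker π, so 1 → G' → G → G'' → 1 is exact). Assume A'' is a local ring
(G'' connected) and A/J is étale over R (G' finite étale), and let e ∈ A be an idempotent with ε(e)
= 1 such that A/(1 − e) is local (G⁰ = Spec A/(1 − e), the unit component of G). Then the composite
A'' → A → A/(1 − e) is bijective: the restriction G⁰ → G'' of π is an isomorphism, whose inverse
splits the extension, G ≅ G' × G''. -/
theorem result (R : Type u) [CommRing R] [HenselianLocalRing R]
    [IsNoetherianRing R] (A A'' : Type u) [CommRing A] [HopfAlgebra R A] [Module.Finite R A] [Module.Flat R A]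
    [CommRing A''] [HopfAlgebra R A''] [Module.Finite R A''] [Module.Flat R A'']
    [Algebra A'' A] [IsScalarTower R A'' A] [Module.FaithfullyFlat A'' A]
    (hΔ : (Bialgebra.comulAlgHom R A).comp (IsScalarTower.toAlgHom R A'' A) =
      (Algebra.TensorProduct.map (IsScalarTower.toAlgHom R A'' A) (IsScalarTower.toAlgHom R A'' A)).comp
        (Bialgebra.comulAlgHom R A''))
    (hε : (Bialgebra.counitAlgHom R A).comp (IsScalarTower.toAlgHom R A'' A) = Bialgebra.counitAlgHom R A'')
    [IsLocalRing A''] [Algebra.Etale R (A ⧸ (RingHom.ker (Bialgebra.counitAlgHom R A'')).map (algebraMap A'' A))]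
    (e : A) (he : IsIdempotentElem e) (heε : Bialgebra.counitAlgHom R A e = 1)
    [IsLocalRing (A ⧸ Ideal.span ({1 - e} : Set A))] :
    Function.Bijective ((Ideal.Quotient.mkₐ R (Ideal.span ({1 - e} : Set A))).comp (IsScalarTower.toAlgHom R A'' A)) := by
  classical
  let I'' : Ideal A'' := RingHom.ker (Bialgebra.counitAlgHom R A'')
  let J : Ideal A := I''.map (algebraMap A'' A)
  let E : Ideal A := Ideal.span ({1 - e} : Set A)
  have h2 : J ≤ RingHom.ker (Bialgebra.counitAlgHom R A) := by
    rw [Ideal.map_le_iff_le_comap]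
    intro a ha
    rw [Ideal.mem_comap, RingHom.mem_ker]
    have h3 := AlgHom.congr_fun hε a
    rw [AlgHom.comp_apply] at h3
    exact h3.trans ha
  have hE : E ≤ RingHom.ker (Bialgebra.counitAlgHom R A) := by
    rw [Ideal.span_le]
    intro a ha
    rw [Set.mem_singleton_iff] at ha
    rw [ha, SetLike.mem_coe, RingHom.mem_ker, map_sub, map_one, heε, sub_self]
  let K : Ideal A := J ⊔ E
  have hK : K ≤ RingHom.ker (Bialgebra.counitAlgHom R A) := sup_le h2 hE
  let εC : A ⧸ K →ₐ[R] R :=
    Ideal.Quotient.liftₐ K (Bialgebra.counitAlgHom R A) (fun a ha => hK ha)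
  have hone : ∀ L : Ideal A, L ≤ RingHom.ker (Bialgebra.counitAlgHom R A) → L ≠ ⊤ := by
    intro L hL h
    have h1 : (1 : A) ∈ L := h ▸ Submodule.mem_top
    have h3 := hL h1
    rw [RingHom.mem_ker, map_one] at h3
    exact one_ne_zero h3
  have hntC : Nontrivial (A ⧸ K) := Ideal.Quotient.nontrivial_iff.mpr (hone K hK)
  have hJK : J ≤ K := le_sup_left
  have hEK : E ≤ K := le_sup_right
  have hlocC : IsLocalRing (A ⧸ K) :=
    IsLocalRing.of_surjective' (Ideal.Quotient.factor hEK)
      (Ideal.Quotient.factor_surjective hEK)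
  have hunrC : Algebra.FormallyUnramified R (A ⧸ K) :=
    Algebra.FormallyUnramified.of_surjective (Ideal.Quotient.factorₐ R hJK)
      (Ideal.Quotient.factor_surjective hJK)
  have hsq := ker_sq_of_formallyUnramified εC
  have hnoethA : IsNoetherianRing A := isNoetherian_of_tower R (isNoetherian_of_isNoetherianRing_of_finite R A)
  obtain ⟨e', he', hIe'⟩ := (Ideal.isIdempotentElem_iff_of_fg _
    (IsNoetherian.noetherian (RingHom.ker εC))).mp
      (by rw [IsIdempotentElem, ← pow_two]; exact hsq)
  have hkerC : RingHom.ker εC = ⊥ := by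
    rcases IsLocalRing.isUnit_or_isUnit_one_sub_self e' with hu | hu
    · exfalso
      have h1 : e' = 1 := by
        have h3 : e' * e' = e' * 1 := by rw [mul_one]; exact he'
        exact hu.mul_left_cancel h3
      have h4 : (1 : A ⧸ K) ∈ RingHom.ker εC := by
        rw [hIe', h1]
        exact Ideal.subset_span rfl
      rw [RingHom.mem_ker, map_one] at h4
      exact one_ne_zero h4
    · have h1 : e' = 0 := by
        have h3 : (1 - e') * e' = (1 - e') * 0 := by
          rw [mul_zero, sub_mul, one_mul, he'.eq, sub_self]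
        exact hu.mul_left_cancel h3
      rw [hIe', h1]
      exact Ideal.span_singleton_eq_bot.mpr rfl
  have hIA : RingHom.ker (Bialgebra.counitAlgHom R A) ≤ K := by
    intro a ha
    have h1 : Ideal.Quotient.mk K a ∈ RingHom.ker εC := by
      rw [RingHom.mem_ker]
      exact ha
    rw [hkerC, Ideal.mem_bot] at h1
    exact Ideal.Quotient.eq_zero_iff_mem.mp h1
  -- module structure of A ⧸ E over A''
  have hfin : Module.Finite A'' A := Module.Finite.of_restrictScalars_finite R A'' A
  have hfinB : Module.Finite A'' (A ⧸ E) :=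
    Module.Finite.of_surjective ((Ideal.Quotient.mkₐ A'' E).toLinearMap) Ideal.Quotient.mk_surjective
  have hI''ne : I'' ≠ ⊤ := by
    intro h
    have h1 : (1 : A'') ∈ I'' := h ▸ Submodule.mem_top
    have h3 : Bialgebra.counitAlgHom R A'' 1 = 0 := h1
    rw [map_one] at h3
    exact one_ne_zero h3
  have hφ : ∀ a'' : A'', ((Ideal.Quotient.mkₐ R (Ideal.span ({1 - e} : Set A))).comp
      (IsScalarTower.toAlgHom R A'' A)) a'' = algebraMap A'' (A ⧸ E) a'' := fun a'' => rfl
  constructor
  · -- injectivity through freeness
    have hflatA : Module.Flat A (A ⧸ E) := by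
      let i : (A ⧸ E) →ₗ[A] A := Submodule.liftQ E (LinearMap.mulLeft A e) (by
        rw [Ideal.span_le]
        intro a ha
        rw [Set.mem_singleton_iff] at ha
        rw [ha, SetLike.mem_coe, LinearMap.mem_ker, LinearMap.mulLeft_apply, mul_sub, mul_one,
          he.eq, sub_self])
      refine Module.Flat.of_retract i (Submodule.mkQ E) ?_
      apply LinearMap.ext
      intro z
      obtain ⟨a, rfl⟩ := Submodule.mkQ_surjective E z
      rw [LinearMap.comp_apply, LinearMap.id_apply]
      change Submodule.mkQ E (e * a) = Submodule.mkQ E a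
      rw [← sub_eq_zero, ← map_sub, Submodule.mkQ_apply, Submodule.Quotient.mk_eq_zero]
      have h1 : e * a - a = -a * (1 - e) := by ring
      rw [h1]
      exact Ideal.mul_mem_left _ _ (Ideal.subset_span rfl)
    have hflatA'' : Module.Flat A'' A := inferInstance
    have hflatB : Module.Flat A'' (A ⧸ E) := Module.Flat.trans A'' A (A ⧸ E)
    have hfree : Module.Free A'' (A ⧸ E) := Module.free_of_flat_of_isLocalRing
    have hntB : Nontrivial (A ⧸ E) := Ideal.Quotient.nontrivial_iff.mpr (hone E hE)
    let b := Module.Free.chooseBasis A'' (A ⧸ E)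
    have hne : Nonempty (Module.Free.ChooseBasisIndex A'' (A ⧸ E)) := by
      by_contra hemp
      rw [not_nonempty_iff] at hemp
      have : Subsingleton (A ⧸ E) := b.repr.toEquiv.subsingleton
      exact not_subsingleton (A ⧸ E) this
    obtain ⟨i₀⟩ := hne
    rw [injective_iff_map_eq_zero]
    intro a'' ha''
    rw [hφ] at ha''
    have h1 : a'' • b i₀ = 0 := by
      rw [Algebra.smul_def, ha'', zero_mul]
    have h3 := congrArg (fun v => b.repr v i₀) h1
    simp only [map_smul, Module.Basis.repr_self, Finsupp.smul_single, smul_eq_mul, mul_one,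
      Finsupp.single_eq_same, map_zero, Finsupp.zero_apply] at h3
    exact h3
  · -- surjectivity by Nakayama
    have hloc'' : IsLocalRing A'' := inferInstance
    let N : Submodule A'' (A ⧸ E) := LinearMap.range (Algebra.linearMap A'' (A ⧸ E))
    have hjac : I'' ≤ Ideal.jacobson (⊥ : Ideal A'') := by
      rw [IsLocalRing.jacobson_eq_maximalIdeal ⊥ bot_ne_top]
      exact IsLocalRing.le_maximalIdeal hI''ne
    have hNN : (⊤ : Submodule A'' (A ⧸ E)) ≤ N ⊔ I'' • (⊤ : Submodule A'' (A ⧸ E)) := by
      intro z _
      obtain ⟨a, rfl⟩ := Ideal.Quotient.mk_surjective z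
      have h1 : a - algebraMap R A (Bialgebra.counitAlgHom R A a) ∈ K := by
        apply hIA
        rw [RingHom.mem_ker, map_sub, AlgHom.commutes, sub_eq_zero]
        rfl
      obtain ⟨j, hj, t, ht, hjt⟩ := Submodule.mem_sup.mp h1
      have h3 : Ideal.Quotient.mk E a = algebraMap A'' (A ⧸ E)
          (algebraMap R A'' (Bialgebra.counitAlgHom R A a)) + Ideal.Quotient.mk E j := by
        have h4 : a = algebraMap R A (Bialgebra.counitAlgHom R A a) + j + t := by
          rw [add_assoc, hjt]; ring
        have h5 : Ideal.Quotient.mk E t = 0 := Ideal.Quotient.eq_zero_iff_mem.mpr ht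
        conv_lhs => rw [h4]
        rw [map_add, map_add, h5, add_zero, IsScalarTower.algebraMap_apply R A'' A]
        rfl
      rw [h3]
      refine Submodule.add_mem _ (Submodule.mem_sup_left ⟨_, rfl⟩) (Submodule.mem_sup_right ?_)
      have h6 : j ∈ (I'' • (⊤ : Submodule A'' A)) := by
        rw [Ideal.smul_top_eq_map]
        exact hj
      have h7 := Submodule.mem_map_of_mem (f := (Ideal.Quotient.mkₐ A'' E).toLinearMap) h6
      rw [Submodule.map_smul''] at h7
      exact Submodule.smul_mono le_rfl le_top h7
    have hN := Submodule.le_of_le_smul_of_le_jacobson_bot (N := N)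
      (Module.Finite.fg_top (R := A'') (M := A ⧸ E)) hjac hNN
    intro z
    obtain ⟨a'', ha''⟩ := hN (Submodule.mem_top : z ∈ ⊤)
    exact ⟨a'', ha''⟩

end Groth.Agent.S15068
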