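import Groth.Statements.S15069
import Groth.Agent.H36.ExtZeroRing
-- import your own Groth.Agent.* helpers here

set_option autoImplicit false
universe u
open CategoryTheory TopologicalSpace
open OrdSurf

namespace Groth.Agent.S15069

/-- Let X be a topological space, A a sheaf of rings on X (not necessarily commutative), I a sheaf of
A-modules which is an injective object of the category of sheaves of A-modules, and U an open subset
of X. Then the restriction of I to the site of opens contained in U is an injective object of the
category of sheaves of modules over the restriction of A. (The published statement is for an order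
on a smooth projective surface; this row is stated for any sheaf of rings on any topological space.) -/
theorem result (X : TopCat.{u})
    (A : Sheaf (Opens.grothendieckTopology X) RingCat.{u}) (I : SheafOfModules.{u} A)
    [Injective I] (U : Opens X) : Injective (I.over U) := by
  have hR : (PresheafOfModules.pushforward.{u} (F := Over.forget U) (R := A.obj)
      (S := (A.over U).obj) (InducedCategory.Hom.hom (𝟙 (A.over U)))).IsRightAdjoint :=
    (Groth.Agent.H36.ExtZeroRing.jPreAdj (O := A) (U := U)).isRightAdjoint
  let φ : A.over U ⟶ ((Over.forget U).sheafPushforwardContinuous RingCat.{u}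
      ((Opens.grothendieckTopology X).over U) (Opens.grothendieckTopology X)).obj A := 𝟙 _
  have hR' : (PresheafOfModules.pushforward.{u} φ.hom).IsRightAdjoint := hR
  let adj : SheafOfModules.pullback.{u} φ ⊣ SheafOfModules.overFunctor.{u} A U :=
    SheafOfModules.pullbackPushforwardAdjunction.{u} φ
  let e : PresheafOfModules.pullback.{u} φ.hom ≅
      Groth.Agent.H36.ExtZeroRing.jPre (O := A) (U := U) :=
    (PresheafOfModules.pullbackPushforwardAdjunction.{u} φ.hom).leftAdjointUniq
      (Groth.Agent.H36.ExtZeroRing.jPreAdj (O := A) (U := U))
  have h0 : (Groth.Agent.H36.ExtZeroRing.jPre (O := A) (U := U)).PreservesMonomorphisms :=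
    Groth.Agent.H36.ExtZeroRing.jPre_preservesMonomorphisms
  have h1 : (PresheafOfModules.pullback.{u} φ.hom).PreservesMonomorphisms :=
    Functor.PreservesMonomorphisms.of_iso e.symm
  have h2 : (SheafOfModules.forget (A.over U) ⋙ PresheafOfModules.pullback.{u} φ.hom ⋙
      PresheafOfModules.sheafification (R₀ := A.obj) (𝟙 A.obj)).PreservesMonomorphisms :=
    inferInstance
  have h3 : (SheafOfModules.pullback.{u} φ).PreservesMonomorphisms :=
    Functor.PreservesMonomorphisms.of_iso (SheafOfModules.pullbackIso.{u} φ).symm
  exact Injective.injective_of_adjoint adj I

end Groth.Agent.S15069
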