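import Groth.Statements.S16488
import Groth.Agent.H17.ReflSheaf
import Groth.Agent.H17.ReflFree
import Groth.Agent.H8.Coh

set_option autoImplicit false
universe u
open CategoryTheory CategoryTheory.Limits AlgebraicGeometry TopologicalSpace
open VBPn

namespace Groth.Agent.S16488

/-- Let X be an integral locally Noetherian scheme all of whose local rings are regular, and F a
coherent O_X-module which is reflexive, i.e. the canonical map F → F^** is an isomorphism. Then the
singularity set of F (the set of points at which the stalk of F is not free) has codimension at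
least 3: for every point x such that F_x is not a free O_{X,x}-module, the local ring O_{X,x} has
dimension at least 3. The published statement is for reflexive coherent analytic sheaves on a
complex manifold; this row is its statement for coherent sheaves on a regular integral locally
Noetherian scheme, where the same argument (a reflexive sheaf is locally a second syzygy sheaf)
applies. -/
theorem result (X : Scheme.{u}) [IsIntegral X] [IsLocallyNoetherian X]
    (hreg : ∀ x : X, IsRegularLocalRing (X.presheaf.stalk x)) (F : X.Modules) (hF : Coh.IsCoh F)
    (hrefl : RefHull.IsReflexive F) (x : X) (hx : ¬ Module.Free (X.presheaf.stalk x) (F.presheaf.stalk x)) :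
    (3 : WithBot ℕ∞) ≤ ringKrullDim (X.presheaf.stalk x) := by
  by_contra hlt
  rw [not_le] at hlt
  haveI := hreg x
  haveI : Module.Finite (X.presheaf.stalk x) (F.presheaf.stalk x) :=
    Groth.Agent.H8.finite_stalk_of_isCoh F hF x
  haveI : Module.IsReflexive (X.presheaf.stalk x) (F.presheaf.stalk x) :=
    Groth.Agent.H17.ReflSheaf.isReflexiveAt_of_isReflexive F hF hrefl x
  have hd2 : ringKrullDim (X.presheaf.stalk x) ≤ 2 := by
    generalize ringKrullDim (X.presheaf.stalk x) = d at hlt
    induction d using WithBot.recBotCoe with
    | bot => exact bot_le
    | coe d =>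
      have h4 : d < (3 : ℕ∞) :=
        WithBot.coe_lt_coe.mp (show (d : WithBot ℕ∞) < ((3 : ℕ∞) : WithBot ℕ∞) from hlt)
      have h5 : d ≤ 2 := by
        have h6 : (3 : ℕ∞) = 2 + 1 := by norm_num
        rw [h6] at h4
        exact (ENat.lt_add_one_iff (by simp)).mp h4
      exact (show (d : WithBot ℕ∞) ≤ ((2 : ℕ∞) : WithBot ℕ∞) from WithBot.coe_le_coe.mpr h5)
  exact hx (Groth.Agent.H17.ReflFree.free_of_isReflexive_of_dim_le_two _ hd2 _)

end Groth.Agent.S16488
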