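import Groth.Statements.S16490
import Groth.Agent.H17.ReflNormal

set_option autoImplicit false
universe u
open CategoryTheory CategoryTheory.Limits AlgebraicGeometry TopologicalSpace
open VBPn

namespace Groth.Agent.S16490

/-- Let X be an integral locally Noetherian scheme all of whose local rings are regular, and let 0 → F →
E → Q → 0 be a short exact sequence of coherent O_X-modules in which E is reflexive (the canonical
map E → E^** is an isomorphism) and Q is torsion-free (every stalk Q_x is a torsion-free
O_{X,x}-module). Then F is normal: for all open subsets V ⊆ U of X such that every point of U not in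
V has local ring of dimension at least 2, the restriction map F(U) → F(V) is bijective. The
published statement is for coherent analytic sheaves on a complex manifold, a sheaf being called
normal when for every open U and every analytic subset A ⊆ U of codimension at least 2 the
restriction F(U) → F(U ∖ A) is bijective; this row is its statement for coherent sheaves on a
regular integral locally Noetherian scheme, with normality phrased through open subsets V ⊆ U whose
complement in U consists of points with local ring of dimension at least 2, where the same argument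
applies. -/
theorem result (X : Scheme.{u}) [IsIntegral X] [IsLocallyNoetherian X]
    (hreg : ∀ x : X, IsRegularLocalRing (X.presheaf.stalk x)) (S : ShortComplex X.Modules) (hS : S.ShortExact)
    (hF : Coh.IsCoh S.X₁) (hE : Coh.IsCoh S.X₂) (hQ : Coh.IsCoh S.X₃)
    (hErefl : RefHull.IsReflexive S.X₂) (hQtf : TorSh.IsTorsionFree S.X₃) :
    (∀ (U V : X.Opens) (hVU : V ≤ U), (∀ x : X, x ∈ U → x ∉ V → (2 : WithBot ℕ∞) ≤ ringKrullDim (X.presheaf.stalk x)) →
        Function.Bijective (S.X₁.presheaf.map (homOfLE hVU).op)) := by
  intro U V hVU h
  haveI : Mono S.f := hS.mono_f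
  haveI : S.X₃.IsQuasicoherent := hQ.1
  have hE' := Groth.Agent.H17.ReflNormal.isNormalMod_of_isReflexive hreg S.X₂ hE hErefl U V hVU h
  constructor
  · intro s s' hs
    apply Groth.Agent.H8.app_injective_of_mono S.f U
    apply hE'.1
    rw [← Groth.Agent.H22.QCohLimits.app_res, ← Groth.Agent.H22.QCohLimits.app_res, hs]
  · intro t
    obtain ⟨e, he⟩ := hE'.2 (S.f.app V t)
    by_cases hne : (U : Set X).Nonempty
    · have hηV := Groth.Agent.H17.ReflNormal.genericPoint_mem_of_codim hne h
      have hQinj := Groth.Agent.H17.ReflNormal.res_injective_of_isTorsionFree S.X₃ hQtf hVU hηV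
      have hq : S.g.app U e = 0 := by
        apply hQinj
        rw [map_zero, ← Groth.Agent.H22.QCohLimits.app_res, he]
        exact Groth.Agent.H8.app_comp_eq_zero S V t
      obtain ⟨s, hs⟩ := Groth.Agent.H8.exists_app_eq_of_exact S hS.exact U e hq
      refine ⟨s, Groth.Agent.H8.app_injective_of_mono S.f V ?_⟩
      rw [Groth.Agent.H22.QCohLimits.app_res, hs, he]
    · refine ⟨0, ?_⟩
      rw [map_zero]
      refine Groth.Agent.H17.HomSh.section_ext_germ S.X₁ _ _ (fun y => ?_)
      exact absurd ⟨y.1, hVU y.2⟩ hne

end Groth.Agent.S16490
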