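import Groth.Statements.S15070
import Groth.Agent.S16488
import Groth.Agent.S16489
import Groth.Agent.S16490
import Groth.Agent.H17.StalkSeq
import Groth.Agent.H17.ReflSheaf
import Groth.Agent.H63.SmoothRegular2
import Groth.Agent.H9.SchemeDimStalk
import Groth.Agent.H90.RegPerf
import Groth.Agent.H90.QCohHom
import Groth.Agent.H8.CohKerCoker
import Groth.Agent.H8.LocFreeStalk

set_option autoImplicit false
universe u
open CategoryTheory CategoryTheory.Limits AlgebraicGeometry
open OrdSurf

namespace Groth.Agent.S15070

/-- Let k be an algebraically closed field of characteristic zero and X a smooth projective surface over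
k (an integral k-scheme, smooth over k, of dimension two, admitting a closed immersion over k into
some projective space P^n_k). Let N be a coherent O_X-module all of whose stalks are torsion-free
modules over the local rings, M a finite locally free O_X-module and φ : M → N an epimorphism of
O_X-modules. Then the kernel of φ is a finite locally free O_X-module. -/
theorem result (k : Type u) [Field k] [IsAlgClosed k] [CharZero k]
    (X : Scheme.{u}) [X.Over (Spec (CommRingCat.of k))] [IsIntegral X]
    [Smooth (X ↘ Spec (CommRingCat.of k))] (hdim : topologicalKrullDim X = 2)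
    (hproj : ∃ (n : ℕ) (ι : X ⟶ CohB1.ProjSpace n k), IsClosedImmersion ι ∧
      ι ≫ CohB1.ProjSpace.toSpec n k = X ↘ Spec (CommRingCat.of k))
    (N : X.Modules) (hN : Coh.IsCoh N) (hNtf : TorSh.IsTorsionFree N)
    (M : X.Modules) (hM : FlatMod.IsFinLocFree M) (φ : M ⟶ N) [Epi φ] :
    FlatMod.IsFinLocFree (kernel φ) := by
  haveI : IsLocallyNoetherian X :=
    LocallyOfFiniteType.isLocallyNoetherian (X ↘ Spec (CommRingCat.of k))
  have hreg : ∀ x : X, IsRegularLocalRing (X.presheaf.stalk x) := fun x =>
    Groth.Agent.H63.SmoothRegular.isRegularLocalRing_stalk_of_smooth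
      (X ↘ Spec (CommRingCat.of k)) x
  have hMc : Coh.IsCoh M := Groth.Agent.H90.QH.isCoh_of_isFinLocFree hM
  have hMfree : ∀ x : X, Module.Free (X.presheaf.stalk x) (M.presheaf.stalk x) := by
    intro x
    haveI := Groth.Agent.H90.QH.projective_stalk_of_isFinLocFree hM x
    haveI : Module.Finite (X.presheaf.stalk x) (M.presheaf.stalk x) :=
      Groth.Agent.H8.finite_stalk_of_isCoh M hMc x
    exact Module.free_of_flat_of_isLocalRing
  have hMrefl : RefHull.IsReflexive M := by
    apply Groth.Agent.H17.ReflSheaf.isReflexive_of_closed_points M hMc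
    intro x _
    haveI := hMfree x
    haveI : Module.Finite (X.presheaf.stalk x) (M.presheaf.stalk x) :=
      Groth.Agent.H8.finite_stalk_of_isCoh M hMc x
    change Module.IsReflexive (X.presheaf.stalk x) (M.presheaf.stalk x)
    infer_instance
  have hK : Coh.IsCoh (kernel φ) := Groth.Agent.H8.isCoh_kernel hMc hN φ
  let S : ShortComplex X.Modules := ShortComplex.mk (kernel.ι φ) φ (kernel.condition φ)
  have hS : S.ShortExact :=
    { exact := ShortComplex.exact_kernel φ
      mono_f := (inferInstance : Mono (kernel.ι φ))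
      epi_g := (inferInstance : Epi φ) }
  have hart := Groth.Agent.S16490.result X hreg S hS hK hMc hN hMrefl hNtf
  have hKtf : TorSh.IsTorsionFree (kernel φ) := by
    intro x
    haveI := hMfree x
    haveI : IsDomain (X.presheaf.stalk x) := inferInstance
    have hinj := Groth.Agent.H17.StalkSeq.stalkMap_injective_of_mono (kernel.ι φ) x
    refine ⟨fun r hr a b hab => ?_⟩
    apply hinj
    have h1 : Groth.Agent.H17.StalkSeq.stalkMapₗ (kernel.ι φ) x (r • a) =
        Groth.Agent.H17.StalkSeq.stalkMapₗ (kernel.ι φ) x (r • b) := congrArg _ hab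
    rw [map_smul, map_smul] at h1
    have hreg' : IsSMulRegular (M.presheaf.stalk x) r :=
      Module.IsTorsionFree.isSMulRegular hr
    exact hreg' h1
  have hKrefl : RefHull.IsReflexive (kernel φ) :=
    (Groth.Agent.S16489.result X hreg (kernel φ) hK).mpr ⟨hKtf, hart⟩
  have hKfree : ∀ x : X, Module.Free (X.presheaf.stalk x) ((kernel φ).presheaf.stalk x) := by
    intro x
    by_contra hx
    have h3 := Groth.Agent.S16488.result X hreg (kernel φ) hK hKrefl x hx
    have h2 := (Groth.Agent.H9.FibDim.ringKrullDim_stalk_le X x).trans hdim.le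
    have h32 : (3 : WithBot ℕ∞) ≤ 2 := h3.trans h2
    exact absurd h32 (by decide)
  haveI : (kernel φ).IsQuasicoherent := hK.1
  intro x
  obtain ⟨_, ⟨U, hU, rfl⟩, hxU, -⟩ :=
    X.isBasis_affineOpens.exists_subset_of_mem_open (Set.mem_univ x) isOpen_univ
  replace hU : IsAffineOpen U := hU
  haveI : IsNoetherianRing Γ(X, U) := IsLocallyNoetherian.component_noetherian ⟨U, hU⟩
  haveI := Groth.Agent.H8.finite_sections_of_isCoh (kernel φ) hK hU
  haveI : Module.FinitePresentation Γ(X, U) Γ(kernel φ, U) :=
    Module.finitePresentation_of_finite Γ(X, U) Γ(kernel φ, U)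
  haveI := hKfree x
  obtain ⟨f, hxf, n, hiso⟩ :=
    Groth.Agent.H8.exists_basicOpen_restrict_iso_freeMod_of_free_stalk (kernel φ) hU x hxU
  exact ⟨X.basicOpen f, n, hxf, hiso⟩

end Groth.Agent.S15070
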