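import Groth.Statements.S15071
import Groth.Agent.H17.IsoCodimOne
import Groth.Agent.H63.SmoothRegular2
import Groth.Agent.H26.RegUFD
import Groth.Agent.H23.RegularLocal
import Groth.Agent.H8.LocFreeNearFinite
import Groth.Agent.H90.QCohHom
import Groth.Agent.S9805

set_option autoImplicit false
universe u
open CategoryTheory CategoryTheory.Limits AlgebraicGeometry
open OrdSurf

namespace Groth.Agent.S15071

/-- Let k be an algebraically closed field of characteristic zero and X a smooth projective surface over
k (an integral k-scheme, smooth over k, of dimension two, admitting a closed immersion over k into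
some projective space P^n_k). Let φ : M → N be a monomorphism between finite locally free
O_X-modules. Then either φ is an isomorphism, or the support of the cokernel of φ contains a point
of X whose local ring has Krull dimension at most one, i.e. the support has codimension at most one
in X. (The published statement phrases the first alternative as M and N being isomorphic; the
argument shows that the given monomorphism is an isomorphism, which is the form stated here.) -/
theorem result (k : Type u) [Field k] [IsAlgClosed k] [CharZero k]
    (X : Scheme.{u}) [X.Over (Spec (CommRingCat.of k))] [IsIntegral X]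
    [Smooth (X ↘ Spec (CommRingCat.of k))] (hdim : topologicalKrullDim X = 2)
    (hproj : ∃ (n : ℕ) (ι : X ⟶ CohB1.ProjSpace n k), IsClosedImmersion ι ∧
      ι ≫ CohB1.ProjSpace.toSpec n k = X ↘ Spec (CommRingCat.of k))
    (M N : X.Modules) (hM : FlatMod.IsFinLocFree M) (hN : FlatMod.IsFinLocFree N)
    (φ : M ⟶ N) [Mono φ] :
    IsIso φ ∨ ∃ x : X, x ∈ CohB1.support (cokernel φ) ∧ ringKrullDim (X.presheaf.stalk x) ≤ 1 := by
  classical
  haveI : IsLocallyNoetherian X :=
    LocallyOfFiniteType.isLocallyNoetherian (X ↘ Spec (CommRingCat.of k))
  have hX : Pi1.IsNormalScheme X := by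
    intro x
    haveI := Groth.Agent.H63.SmoothRegular.isRegularLocalRing_stalk_of_smooth
      (X ↘ Spec (CommRingCat.of k)) x
    haveI := Groth.Agent.H23.isDomain_of_isRegularLocalRing (X.presheaf.stalk x)
    haveI := Groth.Agent.H26.RegUFD.ufm_of_isRegularLocalRing (X.presheaf.stalk x)
    exact ⟨inferInstance, inferInstance⟩
  have hMq : Coh.IsQCoh M := Groth.Agent.H8.isQuasicoherent_of_isFinLocFree M hM
  have hNq : Coh.IsQCoh N := Groth.Agent.H8.isQuasicoherent_of_isFinLocFree N hN
  have hMfl : FlatMod.IsFlat M := ((Groth.Agent.S9805.result X M hMq).2 hM).1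
  have hNfl : FlatMod.IsFlat N := ((Groth.Agent.S9805.result X N hNq).2 hN).1
  haveI : SheafOfModules.IsFiniteType (R := X.ringCatSheaf) N :=
    (Groth.Agent.H90.QH.isCoh_of_isFinLocFree hN).2
  by_cases hall : ∀ x : X, ringKrullDim (X.presheaf.stalk x) ≤ 1 →
      Subsingleton ((cokernel φ).presheaf.stalk x)
  · exact Or.inl (Groth.Agent.H17.IsoCodimOne.isIso_of_stalk_bijective hX hMq hMfl hNq hNfl φ hall)
  · push Not at hall
    obtain ⟨x, hx1, hx2⟩ := hall
    exact Or.inr ⟨x, not_subsingleton_iff_nontrivial.mpr hx2, hx1⟩

end Groth.Agent.S15071
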