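import Groth.Statements.S15083
import Mathlib.LinearAlgebra.Matrix.SpecialLinearGroup
import Mathlib.Tactic.Ring
import Mathlib.Tactic.FieldSimp

set_option autoImplicit false
universe u
open MovLem

namespace Groth.Agent.S15083

open Matrix

macro "fin_arith" : tactic =>
  `(tactic| first | done | (field_simp; done) | (field_simp; ring) | ring)

section aux

variable {ι : Type*} [DecidableEq ι] [Fintype ι]

theorem map_transvection {R S : Type*} [CommRing R] [CommRing S] (f : R →+* S) {i j : ι}
    (hij : i ≠ j) (b : R) :
    SpecialLinearGroup.map f (SpecialLinearGroup.transvection hij b) =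
      SpecialLinearGroup.transvection hij (f b) := by
  apply Subtype.ext
  show f.mapMatrix (1 + Matrix.single i j b) = 1 + Matrix.single i j (f b)
  rw [map_add, map_one, RingHom.mapMatrix_apply, Matrix.map_single]

variable {K : Type*} [Field K]

/-- A diagonal `diag(c, c⁻¹)` in the `(i, j)`-plane is a product of four transvections. -/
theorem diag_eq {i j : ι} (hij : i ≠ j) (c : K) (hc : c ≠ 0) :
    ((1 + Matrix.single j i (c⁻¹ - 1)) * (1 + Matrix.single i j 1) *
      (1 + Matrix.single j i (c - 1)) * (1 + Matrix.single i j (-c⁻¹)) : Matrix ι ι K)
      = Matrix.diagonal (fun k => if k = i then c else if k = j then c⁻¹ else 1) := by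
  have hji := hij.symm
  simp only [mul_add, add_mul, mul_one, one_mul, Matrix.single_mul_single_same,
    Matrix.single_mul_single_of_ne (h := hij), Matrix.single_mul_single_of_ne (h := hji),
    mul_zero, zero_mul, add_zero, zero_add]
  ext k l
  have e1 : (i = k) = (k = i) := propext eq_comm
  have e2 : (j = k) = (k = j) := propext eq_comm
  have e3 : (i = l) = (l = i) := propext eq_comm
  have e4 : (j = l) = (l = j) := propext eq_comm
  simp only [Matrix.add_apply, Matrix.single_apply, Matrix.one_apply, Matrix.diagonal_apply,
    e1, e2, e3, e4]
  by_cases hki : k = i <;> by_cases hkj : k = j <;> by_cases hli : l = i <;> by_cases hlj : l = j <;>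
    first
    | (exfalso; exact hij (hki.symm.trans hkj))
    | (exfalso; exact hij (hli.symm.trans hlj))
    | (simp [hki, hkj, hli, hlj, hij, hji, e1, e2, e3, e4] <;> fin_arith)

theorem sl_diag_eq {i j : ι} (hij : i ≠ j) (c : K) (hc : c ≠ 0) :
    SpecialLinearGroup.diag2n hij c hc =
      SpecialLinearGroup.transvection hij.symm (c⁻¹ - 1) * SpecialLinearGroup.transvection hij 1 *
        SpecialLinearGroup.transvection hij.symm (c - 1) *
        SpecialLinearGroup.transvection hij (-c⁻¹) := by
  apply Subtype.ext
  rw [SpecialLinearGroup.diag2n_coe]
  exact (diag_eq hij c hc).symm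

end aux

/-- The property of being joined to the identity by a polynomial path. -/
def HasPath {K : Type u} [Field K] {n : ℕ} (A : Matrix.SpecialLinearGroup (Fin n) K) : Prop :=
  ∃ M : Matrix.SpecialLinearGroup (Fin n) (Polynomial K),
    Matrix.SpecialLinearGroup.map (Polynomial.evalRingHom (0 : K)) M = 1 ∧
    Matrix.SpecialLinearGroup.map (Polynomial.evalRingHom (1 : K)) M = A

theorem hasPath_mul {K : Type u} [Field K] {n : ℕ} {A B : Matrix.SpecialLinearGroup (Fin n) K}
    (hA : HasPath A) (hB : HasPath B) : HasPath (A * B) := by
  obtain ⟨M, hM0, hM1⟩ := hA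
  obtain ⟨N, hN0, hN1⟩ := hB
  exact ⟨M * N, by rw [map_mul, hM0, hN0, one_mul], by rw [map_mul, hM1, hN1]⟩

theorem hasPath_transvection {K : Type u} [Field K] {n : ℕ} {i j : Fin n} (hij : i ≠ j) (a : K) :
    HasPath (SpecialLinearGroup.transvection hij a) := by
  refine ⟨SpecialLinearGroup.transvection hij (Polynomial.C a * Polynomial.X), ?_, ?_⟩
  · rw [map_transvection]
    simp [SpecialLinearGroup.transvection_coeff_zero]
  · rw [map_transvection]
    simp

/-- Let K be a field and r ≥ 1. For every element A of the special linear group SL_{r+1}(K) there is an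
algebraic path in SL_{r+1} from the identity to A defined over K: a matrix M of determinant 1 with
entries in the polynomial ring K[y] such that M(0) is the identity matrix and M(1) = A. (The
published statement takes K to be the function field of SL_{r+1} over the ground field, A its
generic point viewed as a K-rational point, and the parameter space to be the projective line minus
the point 1, with endpoints 0 and ∞; this row gives the path for an arbitrary K-point A on the
affine line with endpoints 0 and 1, which is what the published construction provides before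
composing with the coordinate change y ↦ y/(y − 1).) -/
theorem result
    (K : Type u) [Field K] (r : ℕ) (hr : 1 ≤ r)
    (A : Matrix.SpecialLinearGroup (Fin (r + 1)) K) :
    ∃ M : Matrix.SpecialLinearGroup (Fin (r + 1)) (Polynomial K),
      Matrix.SpecialLinearGroup.map (Polynomial.evalRingHom (0 : K)) M = 1 ∧
      Matrix.SpecialLinearGroup.map (Polynomial.evalRingHom (1 : K)) M = A := by
  have : Nontrivial (Fin (r + 1)) := Fin.nontrivial_iff_two_le.2 (by omega)
  refine SpecialLinearGroup.diagonal_transvection_induction' (fun A => HasPath A) A ?_ ?_ ?_
  · intro i j hij c hc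
    rw [sl_diag_eq hij c hc]
    exact hasPath_mul (hasPath_mul (hasPath_mul (hasPath_transvection _ _)
      (hasPath_transvection _ _)) (hasPath_transvection _ _)) (hasPath_transvection _ _)
  · intro i j hij a
    exact hasPath_transvection hij a
  · intro A B hA hB
    exact hasPath_mul hA hB

end Groth.Agent.S15083
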