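import Groth.Statements.S15084
import Mathlib.RingTheory.IntegralClosure.IntegrallyClosed
import Mathlib.RingTheory.IntegralClosure.Algebra.Basic
import Mathlib.RingTheory.Localization.FractionRing
import Mathlib.RingTheory.Noetherian.Basic
import Mathlib.Tactic.Ring
import Mathlib.Tactic.FieldSimp

set_option autoImplicit false
universe u
open MovLem

namespace Groth.Agent.S15084

section Denom
variable {A K : Type u} [CommRing A] [Field K] [Algebra A K]

/-- the ideal of denominators of `z` -/
def denom (z : K) : Ideal A where
  carrier := {x | algebraMap A K x * z ∈ (algebraMap A K).range}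
  add_mem' := by
    intro x y hx hy
    change algebraMap A K (x + y) * z ∈ (algebraMap A K).range
    rw [map_add, add_mul]
    exact Subring.add_mem _ hx hy
  zero_mem' := by
    change algebraMap A K 0 * z ∈ (algebraMap A K).range
    rw [map_zero, zero_mul]
    exact Subring.zero_mem _
  smul_mem' := by
    intro c x hx
    change algebraMap A K (c • x) * z ∈ (algebraMap A K).range
    rw [smul_eq_mul, map_mul, mul_assoc]
    exact Subring.mul_mem _ ⟨c, rfl⟩ hx

theorem mem_denom {z : K} {x : A} :
    x ∈ denom (A := A) z ↔ algebraMap A K x * z ∈ (algebraMap A K).range := Iff.rfl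

end Denom

/-- Let A be a Noetherian integrally closed domain with fraction field K, let B be a domain with
fraction field L, and let A → B be an injective ring homomorphism, with K → L the induced map of
fraction fields, such that Spec B → Spec A is surjective (every prime ideal of A is the contraction
of a prime ideal of B). If a ∈ K is such that its image in L lies in B, then a ∈ A. (The published
statement: for a surjective morphism f : Y → X of normal integral separated schemes of finite type
over a perfect field and a Cartier divisor D on X, if f^*D is effective then D is effective; a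
Cartier divisor is locally the divisor of a nonzero rational function a, effectivity of div(a) on a
normal scheme means that a is a regular function, and this row is that local statement, which is
what the published proof establishes.) -/
theorem result
    (A B K L : Type u) [CommRing A] [IsDomain A] [IsNoetherianRing A] [IsIntegrallyClosed A]
    [CommRing B] [IsDomain B] [Field K] [Field L]
    [Algebra A B] [Algebra A K] [IsFractionRing A K] [Algebra B L] [IsFractionRing B L]
    [Algebra K L] [Algebra A L] [IsScalarTower A K L] [IsScalarTower A B L]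
    (hinj : Function.Injective (algebraMap A B))
    (hsurj : ∀ p : Ideal A, p.IsPrime → ∃ q : Ideal B, q.IsPrime ∧ q.comap (algebraMap A B) = p)
    (a : K) (ha : algebraMap K L a ∈ (algebraMap B L).range) :
    a ∈ (algebraMap A K).range := by
  classical
  by_contra ha0
  let 𝒮 : Set (Ideal A) := {I | ∃ y : A, algebraMap A K y * a ∉ (algebraMap A K).range ∧
    I = denom (A := A) (algebraMap A K y * a)}
  have hne : 𝒮.Nonempty :=
    ⟨denom (algebraMap A K 1 * a), 1, by rwa [map_one, one_mul], rfl⟩
  obtain ⟨P, ⟨y₀, hz, rfl⟩, hmax⟩ :=
    set_has_maximal_iff_noetherian.mpr (inferInstance : IsNoetherian A A) 𝒮 hne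
  obtain ⟨z, hzdef⟩ : ∃ z : K, z = algebraMap A K y₀ * a := ⟨_, rfl⟩
  rw [← hzdef] at hz hmax
  obtain ⟨b₀, hb₀⟩ := ha
  have hzB : ∃ b : B, algebraMap B L b = algebraMap K L z :=
    ⟨algebraMap A B y₀ * b₀, by
      rw [map_mul, hb₀, hzdef, map_mul, ← IsScalarTower.algebraMap_apply,
        ← IsScalarTower.algebraMap_apply A K L]⟩
  have hP1 : (1 : A) ∉ denom (A := A) z := by
    rw [mem_denom, map_one, one_mul]; exact hz
  have hPprime : (denom (A := A) z).IsPrime := by
    refine ⟨fun h => hP1 (h ▸ Submodule.mem_top), ?_⟩
    intro u v huv
    by_contra hcon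
    push Not at hcon
    obtain ⟨hu, hv⟩ := hcon
    have huz : algebraMap A K (u * y₀) * a ∉ (algebraMap A K).range := by
      rw [map_mul, mul_assoc, ← hzdef]; exact hu
    have hmem : denom (A := A) (algebraMap A K (u * y₀) * a) ∈ 𝒮 := ⟨u * y₀, huz, rfl⟩
    have hrw : algebraMap A K (u * y₀) * a = algebraMap A K u * z := by
      rw [map_mul, mul_assoc, ← hzdef]
    rw [hrw] at hmem
    have hle : denom (A := A) z ≤ denom (A := A) (algebraMap A K u * z) := by
      intro x hx
      rw [mem_denom] at hx ⊢
      rw [← mul_assoc, mul_comm (algebraMap A K x), mul_assoc]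
      exact Subring.mul_mem _ ⟨u, rfl⟩ hx
    have hvmem : v ∈ denom (A := A) (algebraMap A K u * z) := by
      rw [mem_denom, ← mul_assoc, ← map_mul, mul_comm v u]
      exact huv
    have hlt : denom (A := A) z < denom (A := A) (algebraMap A K u * z) :=
      lt_of_le_of_ne hle (fun heq => hv (heq ▸ hvmem))
    exact hmax _ hmem hlt
  have hnot : ¬ ∀ x ∈ denom (A := A) z, ∀ w : A, algebraMap A K w = algebraMap A K x * z →
      w ∈ denom (A := A) z := by
    intro hall
    have hint : IsIntegral A z := by
      apply isIntegral_of_smul_mem_submodule (M := K)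
        (Submodule.map (Algebra.linearMap A K) (denom (A := A) z)) ?_ ?_ z ?_
      · obtain ⟨n, d, hd, hnd⟩ := IsFractionRing.div_surjective (A := A) z
        have hd0 : algebraMap A K d ≠ 0 :=
          IsFractionRing.to_map_ne_zero_of_mem_nonZeroDivisors hd
        rw [Submodule.ne_bot_iff]
        refine ⟨algebraMap A K d, ⟨d, ?_, rfl⟩, hd0⟩
        change algebraMap A K d * z ∈ (algebraMap A K).range
        refine ⟨n, ?_⟩
        rw [← hnd, mul_div_cancel₀ _ hd0]
      · exact Submodule.FG.map _ (IsNoetherian.noetherian _)
      · rintro _ ⟨x, hx, rfl⟩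
        obtain ⟨w, hw⟩ := mem_denom.mp hx
        refine ⟨w, hall x hx w hw, ?_⟩
        rw [Algebra.linearMap_apply, Algebra.linearMap_apply, hw, smul_eq_mul, mul_comm]
    obtain ⟨w, hw⟩ := IsIntegrallyClosed.isIntegral_iff.mp hint
    exact hz ⟨w, hw⟩
  push Not at hnot
  obtain ⟨x, hx, w, hw, hwP⟩ := hnot
  obtain ⟨q, hq, hqP⟩ := hsurj (denom (A := A) z) hPprime
  obtain ⟨b, hb⟩ := hzB
  have hwq : algebraMap A B w ∈ q := by
    have h1 : algebraMap A B w = algebraMap A B x * b := by
      apply IsFractionRing.injective B L
      rw [map_mul, hb, ← IsScalarTower.algebraMap_apply A B L, ← IsScalarTower.algebraMap_apply A B L,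
        IsScalarTower.algebraMap_apply A K L w, hw, map_mul, ← IsScalarTower.algebraMap_apply A K L]
    rw [h1]
    exact q.mul_mem_right _ (by rw [← Ideal.mem_comap, hqP]; exact hx)
  apply hwP
  rw [← hqP, Ideal.mem_comap]
  exact hwq

end Groth.Agent.S15084
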