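import Groth.Statements.S15085
import Mathlib
import Groth.Agent.H54.FibreDimTdeg
import Groth.Agent.H54.DimClosure
import Groth.Agent.H54.SchemeDim2
import Groth.Agent.H54.IrredFibres

set_option autoImplicit false
universe u
open CategoryTheory CategoryTheory.Limits AlgebraicGeometry
open MovLem

namespace Groth.Agent.S15085


section Helpers
open AlgebraicGeometry CategoryTheory CategoryTheory.Limits TopologicalSpace Topology Groth.Agent.H54

theorem tdeg_eq_of_isFinite {k : Type u} [Field k] {Z X : Scheme.{u}}
    (sX : X ⟶ Spec (CommRingCat.of k)) [LocallyOfFiniteType sX] (h : Z ⟶ X) [IsFinite h]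
    (z : Z) : tdeg (h ≫ sX) z = tdeg sX (h.base z) := by
  have h1 := tdeg_fibre_add (h ≫ sX) sX h rfl (h.base z) (h.asFiber z)
  have hcl : IsClosed ({h.asFiber z} : Set (h.fiber (h.base z))) := isClosed_discrete _
  rw [tdeg_eq_zero_of_isClosed (fiberQ h (h.base z)) (h.asFiber z) hcl, add_zero,
    h.fiberι_asFiber z] at h1
  exact h1

theorem range_mem_irreducibleComponents {k : Type u} [Field k] {Z X : Scheme.{u}}
    (sX : X ⟶ Spec (CommRingCat.of k)) [LocallyOfFiniteType sX]
    (hXeq : ∀ T ∈ irreducibleComponents (X : Type u),
      topologicalKrullDim T = topologicalKrullDim X)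
    [IsIntegral Z] (h : Z ⟶ X) [IsFinite h]
    (hZ : topologicalKrullDim Z = topologicalKrullDim X) :
    Set.range h.base ∈ irreducibleComponents (X : Type u) := by
  have hζ : ∀ z : Z, genericPoint Z ⤳ z := fun z => (genericPoint_spec Z).specializes trivial
  have hdZ := topologicalKrullDim_eq_tdeg_of_generic (h ≫ sX) (genericPoint Z) hζ
  rw [tdeg_eq_of_isFinite sX h (genericPoint Z)] at hdZ
  have hrange : Set.range h.base = closure {h.base (genericPoint Z)} := by
    have h1 : closure (h '' {genericPoint Z}) = h '' closure {genericPoint Z} :=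
      h.isClosedMap.closure_image_eq_of_continuous h.continuous {genericPoint Z}
    rw [(genericPoint_spec Z).def, Set.image_univ, Set.image_singleton] at h1
    exact h1.symm
  have hirr : IsIrreducible (closure ({h.base (genericPoint Z)} : Set X)) :=
    isIrreducible_singleton.closure
  obtain ⟨T, hT, hsub⟩ := exists_mem_irreducibleComponents_subset_of_isIrreducible _ hirr
  obtain ⟨τ, hτ⟩ := QuasiSober.sober hT.1 (isClosed_of_mem_irreducibleComponents T hT)
  have hτs : τ ⤳ h.base (genericPoint Z) := by
    rw [specializes_iff_mem_closure, hτ.def]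
    exact hsub (subset_closure rfl)
  have hdT := hXeq T hT
  rw [← hτ.def, topologicalKrullDim_closure_singleton sX τ, ← hZ, hdZ] at hdT
  have hdT' : tdeg sX τ = tdeg sX (h.base (genericPoint Z)) := by exact_mod_cast hdT
  have hτeq : τ = h.base (genericPoint Z) := by
    by_contra hne
    have := tdeg_lt_of_specializes sX hτs hne
    omega
  rw [hrange, ← hτeq, hτ.def]
  exact hT

theorem main {k : Type u} [Field k] {X Bhat Z : Scheme.{u}}
    (sX : X ⟶ Spec (CommRingCat.of k)) (sB : Bhat ⟶ Spec (CommRingCat.of k))
    [IsAffine X] [LocallyOfFiniteType sX]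
    (hXeq : ∀ T ∈ irreducibleComponents (X : Type u),
      topologicalKrullDim T = topologicalKrullDim X)
    [IsProper sB]
    (B : Bhat.Opens) (hB : IsAffineOpen B)
    [IsIntegral Z] (ι : Z ⟶ ((pullback.snd sX sB) ⁻¹ᵁ B).toScheme) [IsClosedImmersion ι]
    (hZ : topologicalKrullDim Z = topologicalKrullDim X)
    (j : Z ⟶ pullback sX sB) (hj : j = ι ≫ ((pullback.snd sX sB) ⁻¹ᵁ B).ι) :
    (IsFinite (j ≫ pullback.fst sX sB) ∧
        Set.range (j ≫ pullback.fst sX sB).base ∈ irreducibleComponents (X : Type u)) ↔
      IsClosed (Set.range j.base) := by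
  constructor
  · rintro ⟨hfin, -⟩
    haveI := hfin
    haveI : IsProper j := IsProper.of_comp j (pullback.fst sX sB)
    exact j.isClosedMap.isClosed_range
  · intro hcl
    haveI : IsPreimmersion j := by rw [hj]; infer_instance
    haveI : IsClosedImmersion j := IsClosedImmersion.of_isPreimmersion j hcl
    haveI : IsProper (j ≫ pullback.fst sX sB) := inferInstance
    haveI : IsAffineHom sX := inferInstance
    haveI : IsAffineHom (pullback.snd sX sB) :=
      MorphismProperty.pullback_snd (P := @IsAffineHom) sX sB inferInstance
    have hU : IsAffineOpen ((pullback.snd sX sB) ⁻¹ᵁ B) := hB.preimage (pullback.snd sX sB)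
    haveI : IsAffine (((pullback.snd sX sB) ⁻¹ᵁ B).toScheme) := hU
    haveI : IsAffine Z := isAffine_of_isAffineHom ι
    haveI : IsAffineHom (j ≫ pullback.fst sX sB) := inferInstance
    have hfin : IsFinite (j ≫ pullback.fst sX sB) :=
      IsFinite.iff_isProper_and_isAffineHom.mpr ⟨inferInstance, inferInstance⟩
    haveI := hfin
    exact ⟨hfin, range_mem_irreducibleComponents sX hXeq (j ≫ pullback.fst sX sB) hZ⟩

end Helpers


/-- Let k be a field, X an affine scheme of finite type over k which is equidimensional (all irreducible
components have the same dimension), B̂ a proper smooth geometrically integral k-scheme and B ⊆ B̂ a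
nonempty affine open subscheme. Let Z be an integral closed subscheme of X ×_k B of dimension dim X
(that is, of codimension dim B, the product X ×_k B being equidimensional of dimension dim X + dim
B). Then the projection Z → X is finite and maps Z onto an irreducible component of X if and only if
Z is closed in X ×_k B̂. (The published statement allows X to be essentially of finite type, i.e.
also a localization of such a scheme at finitely many points, takes B̂ projective of positive
dimension, and phrases the dimension condition as codimension dim B; this row is the finite-type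
case with properness in place of projectivity.) -/
theorem result
    {k : Type u} [Field k] {X Bhat Z : Scheme.{u}}
    (sX : X ⟶ Spec (CommRingCat.of k)) (sB : Bhat ⟶ Spec (CommRingCat.of k))
    [IsAffine X] [LocallyOfFiniteType sX]
    (hXeq : ∀ T ∈ irreducibleComponents (X : Type u), topologicalKrullDim T = topologicalKrullDim X)
    [IsProper sB] [Smooth sB] [GeometricallyIntegral sB]
    (B : Bhat.Opens) (hB : IsAffineOpen B) (hBne : (B : Set Bhat).Nonempty)
    [IsIntegral Z] (ι : Z ⟶ ((pullback.snd sX sB) ⁻¹ᵁ B).toScheme) [IsClosedImmersion ι]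
    (hZ : topologicalKrullDim Z = topologicalKrullDim X)
    (j : Z ⟶ pullback sX sB) (hj : j = ι ≫ ((pullback.snd sX sB) ⁻¹ᵁ B).ι) :
    (IsFinite (j ≫ pullback.fst sX sB) ∧
        Set.range (j ≫ pullback.fst sX sB).base ∈ irreducibleComponents (X : Type u)) ↔
      IsClosed (Set.range j.base) := by
  exact main sX sB hXeq B hB ι hZ j hj
end Groth.Agent.S15085
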