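import Groth.Statements.S15086
import Groth.Agent.H65.GalCycFib

set_option autoImplicit false
universe u
open CategoryTheory CategoryTheory.Limits AlgebraicGeometry
open MovLem

namespace Groth.Agent.S15086


/-- Let k be an infinite perfect field with algebraic closure k̄, let φ : X → Y be a finite morphism of
k-schemes locally of finite type, let x be a closed point of X and y = φ(x). Let π_X : X_{k̄} → X
and π_Y : Y_{k̄} → Y be the base-change projections and φ_{k̄} : X_{k̄} → Y_{k̄} the induced
morphism. Then the number of points of π_Y⁻¹(y) is at most the number of points of π_X⁻¹(x);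
equality holds if and only if the residue field extension k(y) → k(x) is an isomorphism; and
equality holds whenever φ_{k̄} is injective on π_X⁻¹(x). (Cardinalities are taken in ℕ ∪ {∞}; both
fibres are in fact finite.) -/
theorem result
    {k : Type u} [Field k] [Infinite k] [PerfectField k] {X Y : Scheme.{u}}
    (sX : X ⟶ Spec (CommRingCat.of k)) (sY : Y ⟶ Spec (CommRingCat.of k))
    [LocallyOfFiniteType sX] [LocallyOfFiniteType sY]
    (φ : X ⟶ Y) (hφ : φ ≫ sY = sX) [IsFinite φ]
    (i : Spec (CommRingCat.of (AlgebraicClosure k)) ⟶ Spec (CommRingCat.of k))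
    (hi : i = Spec.map (CommRingCat.ofHom (algebraMap k (AlgebraicClosure k))))
    (φbar : pullback sX i ⟶ pullback sY i)
    (h1 : φbar ≫ pullback.fst sY i = pullback.fst sX i ≫ φ)
    (h2 : φbar ≫ pullback.snd sY i = pullback.snd sX i)
    (x : X) (hx : IsClosed ({x} : Set X)) :
    ((pullback.fst sY i).base ⁻¹' {φ.base x}).encard ≤ ((pullback.fst sX i).base ⁻¹' {x}).encard ∧
      (((pullback.fst sY i).base ⁻¹' {φ.base x}).encard = ((pullback.fst sX i).base ⁻¹' {x}).encard ↔
          Function.Bijective (φ.residueFieldMap x).hom) ∧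
      (Set.InjOn φbar.base ((pullback.fst sX i).base ⁻¹' {x}) →
        ((pullback.fst sY i).base ⁻¹' {φ.base x}).encard = ((pullback.fst sX i).base ⁻¹' {x}).encard) := by
  classical
  subst hi
  have hy : IsClosed ({φ.base x} : Set Y) := by
    have := φ.isClosedMap _ hx
    rwa [Set.image_singleton] at this
  obtain ⟨hXf, hXn⟩ := Groth.Agent.H65.GalCyc.fibre_card sX x hx
  obtain ⟨hYf, hYn⟩ := Groth.Agent.H65.GalCyc.fibre_card sY (φ.base x) hy
  obtain ⟨r, hmul, hpos, hone⟩ : ∃ r : ℕ,
      EGA4loc.residueDegree sX x = EGA4loc.residueDegree sY (φ.base x) * r ∧ 0 < r ∧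
      (r = 1 ↔ Function.Bijective (φ.residueFieldMap x).hom) :=
    ⟨_, Groth.Agent.H65.GalCyc.residueDegree_eq_mul sX sY φ hφ x hx⟩
  have hXe : ((pullback.fst sX (Spec.map (CommRingCat.ofHom
      (algebraMap k (AlgebraicClosure k))))).base ⁻¹' {x}).encard =
      ((EGA4loc.residueDegree sX x : ℕ) : ℕ∞) := by
    rw [← hXn]; exact (hXf.cast_ncard_eq).symm
  have hYe : ((pullback.fst sY (Spec.map (CommRingCat.ofHom
      (algebraMap k (AlgebraicClosure k))))).base ⁻¹' {φ.base x}).encard =
      ((EGA4loc.residueDegree sY (φ.base x) : ℕ) : ℕ∞) := by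
    rw [← hYn]; exact (hYf.cast_ncard_eq).symm
  -- positivity of the degree of y
  have hYpos : 0 < EGA4loc.residueDegree sY (φ.base x) := by
    rw [← Groth.Agent.H65.GalCyc.finrank_eq_residueDegree sY (φ.base x)]
    letI : Algebra k (Y.residueField (φ.base x)) :=
      (Groth.Agent.H65.GalCyc.aX sY (φ.base x)).hom.toAlgebra
    haveI : Module.Finite k (Y.residueField (φ.base x)) :=
      Groth.Agent.H65.GalCyc.finite_residueField sY (φ.base x) hy
    exact Module.finrank_pos
  have hle : ((pullback.fst sY (Spec.map (CommRingCat.ofHom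
      (algebraMap k (AlgebraicClosure k))))).base ⁻¹' {φ.base x}).encard ≤
      ((pullback.fst sX (Spec.map (CommRingCat.ofHom
      (algebraMap k (AlgebraicClosure k))))).base ⁻¹' {x}).encard := by
    rw [hXe, hYe, hmul]
    exact_mod_cast Nat.le_mul_of_pos_right _ hpos
  refine ⟨hle, ?_, ?_⟩
  · rw [hXe, hYe, hmul, ← hone]
    constructor
    · intro h
      have h' : EGA4loc.residueDegree sY (φ.base x) = EGA4loc.residueDegree sY (φ.base x) * r := by
        exact_mod_cast h
      have h'' := Nat.eq_of_mul_eq_mul_left hYpos ((mul_one _).trans h')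
      exact h''.symm
    · intro h
      rw [h, mul_one]
  · intro hinj
    refine le_antisymm hle ?_
    refine Set.encard_le_encard_of_injOn ?_ hinj
    intro z hz
    simp only [Set.mem_preimage, Set.mem_singleton_iff] at hz ⊢
    have := congrArg (fun g => g.base z) h1
    have h3 : (pullback.fst sY (Spec.map (CommRingCat.ofHom
      (algebraMap k (AlgebraicClosure k))))).base (φbar.base z) =
      φ.base ((pullback.fst sX (Spec.map (CommRingCat.ofHom
      (algebraMap k (AlgebraicClosure k))))).base z) := this
    rw [h3, hz]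

end Groth.Agent.S15086
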