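import Groth.Statements.S15087
import Mathlib
import Groth.Agent.H77.FaceA

set_option autoImplicit false
universe u v w
open MovLem

namespace Groth.Agent.S15087

/-- Let k be an infinite perfect field, r, m, s ≥ 1 and d ≥ 0, and put N = s(m+1). In affine space with
coordinates x_1, …, x_r, t, y_1, …, y_d (the cube of dimension d taken as affine d-space with faces
given by setting some coordinates equal to 0 or 1), let Z = V(I) be an integral closed subscheme of
dimension r which does not meet the hyperplane t = 0 and which meets every face {y_i = ε_i for i ∈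
S} (S nonempty, ε_i ∈ {0, 1}) in dimension at most r − |S|. Let Σ be a finite set of closed points
of affine r-space over k. Then there is a nonzero polynomial h in k[g_1, …, g_r] such that for every
field K over k and every g ∈ K^r with h(g) ≠ 0, the translate of Z_K by x ↦ x + t^N g meets no set
{x ∈ Σ} × A^1 × F with F a proper face: for every field L over K, every point ξ of affine r-space
over L lying on a point of Σ, every t ∈ L and every y ∈ L^d lying on a proper face, the point (ξ +
t^N g, t, y) is not a zero of I. (The published statement assumes that Z is an irreducible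
admissible additive cycle meeting the faces through Σ properly; the two consequences of
admissibility that its proof uses — Z misses t = 0, and Z meets all faces properly — are the
hypotheses here, and the dense open subset of affine r-space is given as the locus h ≠ 0.) -/
theorem result
    {k : Type u} [Field k] [Infinite k] [PerfectField k] (r m s d : ℕ) (hr : 1 ≤ r) (hm : 1 ≤ m) (hs : 1 ≤ s)
    (I : Ideal (MvPolynomial (Fin r ⊕ (Unit ⊕ Fin d)) k)) (hI : I.IsPrime)
    (hdim : ringKrullDim (MvPolynomial (Fin r ⊕ (Unit ⊕ Fin d)) k ⧸ I) = r)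
    (ht0 : I ⊔ Ideal.span {MvPolynomial.X (Sum.inr (Sum.inl ()))} = ⊤)
    (hface : ∀ (S : Finset (Fin d)), S.Nonempty → ∀ (ε : Fin d → k), (∀ i, ε i = 0 ∨ ε i = 1) →
      ringKrullDim (MvPolynomial (Fin r ⊕ (Unit ⊕ Fin d)) k ⧸
        (I ⊔ Ideal.span ((fun i => MvPolynomial.X (Sum.inr (Sum.inr i)) - MvPolynomial.C (ε i)) '' (S : Set (Fin d))))) ≤ (r - S.card : ℕ))
    (Sigma : Finset (Ideal (MvPolynomial (Fin r) k))) (hSigma : ∀ P ∈ Sigma, P.IsMaximal) :
    ∃ h : MvPolynomial (Fin r) k, h ≠ 0 ∧
      ∀ (K : Type v) [Field K] [Algebra k K] (g : Fin r → K), MvPolynomial.aeval g h ≠ 0 →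
        ∀ (L : Type w) [Field L] [Algebra k L] [Algebra K L] [IsScalarTower k K L]
          (ξ : Fin r → L) (t : L) (y : Fin d → L),
          ∀ P ∈ Sigma, (∀ p ∈ P, MvPolynomial.aeval ξ p = 0) →
            ∀ (S : Finset (Fin d)), S.Nonempty → ∀ (ε : Fin d → k), (∀ i, ε i = 0 ∨ ε i = 1) →
              (∀ i ∈ S, y i = algebraMap k L (ε i)) →
                ¬ (∀ q ∈ I, MvPolynomial.aeval
                    (Sum.elim (fun i => ξ i + t ^ (s * (m + 1)) * algebraMap K L (g i))
                      (Sum.elim (fun _ : Unit => t) y)) q = 0) := by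
  classical
  have hex : ∀ x : Ideal (MvPolynomial (Fin r) k) × Finset (Fin d) × (Fin d → Bool),
      ∃ h : MvPolynomial (Fin r) k, h ≠ 0 ∧ (x.1 ∈ Sigma → x.2.1.Nonempty →
        ∀ (K : Type v) [Field K] [Algebra k K] (g : Fin r → K), MvPolynomial.aeval g h ≠ 0 →
        ∀ (L : Type w) [Field L] [Algebra k L] [Algebra K L] [IsScalarTower k K L]
          (ξ : Fin r → L) (t : L) (y : Fin d → L),
          (∀ p ∈ x.1, MvPolynomial.aeval ξ p = 0) →
              (∀ i ∈ x.2.1, y i = algebraMap k L (if x.2.2 i then 1 else 0)) →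
                ¬ (∀ q ∈ I, MvPolynomial.aeval
                    (Sum.elim (fun i => ξ i + t ^ (s * (m + 1)) * algebraMap K L (g i))
                      (Sum.elim (fun _ : Unit => t) y)) q = 0)) := by
    intro x
    by_cases hx : x.1 ∈ Sigma ∧ x.2.1.Nonempty
    · obtain ⟨h, hh0, hh⟩ := Groth.Agent.H77.FaceA.exists_h_face.{u, v, w} d (s * (m + 1)) hr I ht0
        x.2.1 hx.2 (fun i => if x.2.2 i then 1 else 0)
        (hface _ hx.2 _ (by
          intro i
          by_cases h : x.2.2 i <;> simp [h])) x.1 (hSigma _ hx.1)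
      exact ⟨h, hh0, fun _ _ => hh⟩
    · exact ⟨1, one_ne_zero, fun h1 h2 => absurd ⟨h1, h2⟩ hx⟩
  choose hfun hne hprop using hex
  refine ⟨∏ x ∈ Sigma ×ˢ (Finset.univ : Finset (Finset (Fin d) × (Fin d → Bool))), hfun x,
    Finset.prod_ne_zero_iff.2 (fun x _ => hne x), ?_⟩
  intro K _ _ g hg L _ _ _ _ ξ t y P hP hξ S hS ε hε hy
  rw [map_prod] at hg
  have hεe : ∀ i, ε i = if (decide (ε i = 1)) then 1 else 0 := by
    intro i
    rcases hε i with h | h <;> simp [h]
  have hmem : (P, S, fun i => decide (ε i = 1)) ∈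
      Sigma ×ˢ (Finset.univ : Finset (Finset (Fin d) × (Fin d → Bool))) := by
    simp [hP]
  have hgx := Finset.prod_ne_zero_iff.1 hg _ hmem
  exact hprop (P, S, fun i => decide (ε i = 1)) hP hS K g hgx L ξ t y hξ (by
    intro i hi
    rw [hy i hi]
    exact congrArg _ (hεe i))

end Groth.Agent.S15087
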