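import Groth.Statements.S15088
import Mathlib
import Groth.Agent.H77.TransD

set_option autoImplicit false
universe u v
open MovLem

namespace Groth.Agent.S15088

/-- Let k be an infinite perfect field, r, m, s ≥ 1 and d ≥ 0, and put N = s(m+1). In affine space with
coordinates x_1, …, x_r, t, y_1, …, y_d let Z = V(I) be an integral closed subscheme of dimension r
which does not meet t = 0 and such that neither the projection of Z to the x-coordinates nor its
projection to the t-line is dominant (I contains a nonzero polynomial in the x's alone and a nonzero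
polynomial in t alone). Let Σ be a finite set of closed points of affine r-space over k. Then there
is a nonzero polynomial h in k[g_1, …, g_r] such that for every field K over k and every g ∈ K^r
with h(g) ≠ 0 the translate Z_g = {(x, t, y) : (x + t^N g, t, y) ∈ Z_K} of Z_K is empty over an open
neighbourhood of the points of affine r-space over K lying over Σ: the closure of the image of Z_g
in affine r-space over K (the zero set of the contraction to K[x_1, …, x_r] of the ideal of Z_g)
contains no point lying over a point of Σ. (The published statement assumes that Z is an irreducible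
admissible additive cycle meeting the faces through Σ properly; of this its proof uses only that Z
misses t = 0, which is a hypothesis here, and the dense open subset of affine r-space is given as
the locus h ≠ 0.) -/
theorem result
    {k : Type u} [Field k] [Infinite k] [PerfectField k] (r m s d : ℕ) (hr : 1 ≤ r) (hm : 1 ≤ m) (hs : 1 ≤ s)
    (I : Ideal (MvPolynomial (Fin r ⊕ (Unit ⊕ Fin d)) k)) (hI : I.IsPrime)
    (hdim : ringKrullDim (MvPolynomial (Fin r ⊕ (Unit ⊕ Fin d)) k ⧸ I) = r)
    (ht0 : I ⊔ Ideal.span {MvPolynomial.X (Sum.inr (Sum.inl ()))} = ⊤)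
    (hx : Ideal.comap (MvPolynomial.rename (Sum.inl : Fin r → Fin r ⊕ (Unit ⊕ Fin d)) :
        MvPolynomial (Fin r) k →ₐ[k] MvPolynomial (Fin r ⊕ (Unit ⊕ Fin d)) k) I ≠ ⊥)
    (ht : Ideal.comap (MvPolynomial.rename (fun _ : Unit => (Sum.inr (Sum.inl ()) : Fin r ⊕ (Unit ⊕ Fin d))) :
        MvPolynomial Unit k →ₐ[k] MvPolynomial (Fin r ⊕ (Unit ⊕ Fin d)) k) I ≠ ⊥)
    (Sigma : Finset (Ideal (MvPolynomial (Fin r) k))) (hSigma : ∀ P ∈ Sigma, P.IsMaximal) :
    ∃ h : MvPolynomial (Fin r) k, h ≠ 0 ∧
      ∀ (K : Type v) [Field K] [Algebra k K] (g : Fin r → K), MvPolynomial.aeval g h ≠ 0 →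
        ∀ P ∈ Sigma,
          Ideal.comap (MvPolynomial.rename (Sum.inl : Fin r → Fin r ⊕ (Unit ⊕ Fin d)) :
              MvPolynomial (Fin r) K →ₐ[K] MvPolynomial (Fin r ⊕ (Unit ⊕ Fin d)) K)
            (Ideal.map (MvPolynomial.aeval
                (Sum.elim (fun i : Fin r => MvPolynomial.X (Sum.inl i) +
                    MvPolynomial.X (Sum.inr (Sum.inl ())) ^ (s * (m + 1)) * MvPolynomial.C (g i))
                  (fun j : Unit ⊕ Fin d => MvPolynomial.X (Sum.inr j))) :
                MvPolynomial (Fin r ⊕ (Unit ⊕ Fin d)) k →ₐ[k] MvPolynomial (Fin r ⊕ (Unit ⊕ Fin d)) K) I) ⊔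
            Ideal.map (MvPolynomial.map (algebraMap k K) : MvPolynomial (Fin r) k →+* MvPolynomial (Fin r) K) P = ⊤ := by
  classical
  obtain ⟨F, hFI, hF0⟩ := (Submodule.ne_bot_iff _).1 hx
  obtain ⟨T₁, hT₁c, hT₁I⟩ := Groth.Agent.H77.TransC.exists_T₁ I hI (Sum.inr (Sum.inl ())) ht0 ht
  have hT₁0 : T₁ ≠ 0 := by
    rintro rfl
    simp at hT₁c
  have hex : ∀ P ∈ Sigma, ∃ hP : MvPolynomial (Fin r) k, hP ≠ 0 ∧
      ∀ (Ω : Type v) [CommRing Ω] [Algebra k Ω] (x0 : Fin r → Ω) (t0 : Ω) (γ : Fin r → Ω),
        (∀ p ∈ P, MvPolynomial.aeval x0 p = 0) → Polynomial.aeval t0 T₁ = 0 →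
        MvPolynomial.aeval γ hP ≠ 0 →
          MvPolynomial.aeval (fun i => x0 i + γ i * t0 ^ (s * (m + 1))) F ≠ 0 :=
    fun P hP => Groth.Agent.H77.TransC.exists_hP.{u, v} P (hSigma P hP) T₁ hT₁c (s * (m + 1)) F hF0
  choose! hfun hprop using hex
  refine ⟨∏ P ∈ Sigma, hfun P, Finset.prod_ne_zero_iff.2 (fun P hP => (hprop P hP).1), ?_⟩
  intro K _ _ g hg P hP
  rw [map_prod] at hg
  have hgP : MvPolynomial.aeval g (hfun P) ≠ 0 := Finset.prod_ne_zero_iff.1 hg P hP
  exact Groth.Agent.H77.TransD.translate_empty d (s * (m + 1)) I F hFI T₁ hT₁0 hT₁I P (hfun P)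
    (hprop P hP).2 K g hgP

end Groth.Agent.S15088
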