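import Groth.Statements.S1509
import Groth.Agent.H56.RegPerf
-- import your own Groth.Agent.* helpers here

set_option autoImplicit false
universe u
attribute [local instance] HasDerivedCategory.standard
open FlatMor

namespace Groth.Agent.S1509

open AlgebraicGeometry CategoryTheory Limits in
/-- A regular closed immersion (kernel ideal locally generated by a regular sequence) is a perfect
morphism. -/
theorem result {Z X : Scheme.{u}} (i : Z ⟶ X) (hi : Mor2.IsRegularClosedImmersion i) : MoreMor.IsPerfectMor i := by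
  obtain ⟨hci, h⟩ := hi
  haveI := hci
  rw [Groth.Agent.H56.PcMor.isPerfectMor_iff,
    HasRingHomProperty.iff_exists_appLE (P := Groth.Agent.H56.PcMor.PP)
      Groth.Agent.H56.PcMor.qp_srcLoc]
  intro z
  obtain ⟨U, hU, hz, rs, hrs, hker⟩ := h z
  refine ⟨⟨U, hU⟩, ⟨i ⁻¹ᵁ U, hU.preimage i⟩, hz, le_rfl, ?_⟩
  rw [← Scheme.Hom.app_eq_appLE]
  rw [Scheme.Hom.ker_apply] at hker
  exact Groth.Agent.H56.PcMor.qp_of_weaklyRegular rs (i.app U).hom (i.app_surjective U hU)
    hrs.toIsWeaklyRegular hker

end Groth.Agent.S1509
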