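import Groth.Statements.S15100
import Mathlib
import Groth.Agent.H77.KaehlerNF

set_option autoImplicit false
universe u
open TensorProduct
open CAlg

namespace Groth.Agent.S15100

/-- Let V be a discrete valuation ring with uniformizer u and V → R → A commutative V-algebras with A an
R-algebra compatibly; assume A is a Noetherian local domain of Krull dimension 3 with u in its
maximal ideal, that Ω_{A/V} is a free A-module of rank 2 and that A ⊗_R Ω_{R/V} is a free A-module
of rank 1. Suppose that on the special fibre Ω_{A/R} is locally free exactly away from the closed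
point: for every prime P of A containing u other than the maximal ideal the localization (Ω_{A/R})_P
is free over A_P, while Ω_{A/R} is not free over A. Then Ω_{A/R} is not locally free on the generic
fibre: there is a prime Q of A not containing u with (Ω_{A/R})_Q not free over A_Q. (In the
published statement R is a regular local ring of dimension 2 and A a local ring of dimension 3, both
smooth over V, which yields the two freeness hypotheses used here, and the hypothesis is phrased as
local freeness of Ω of the special fibre of A over that of R away from the closed point.) -/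
theorem result
    (V R A : Type u) [CommRing V] [IsDomain V] [IsDiscreteValuationRing V] [CommRing R] [CommRing A]
    [IsDomain A] [IsNoetherianRing A] [IsLocalRing A]
    [Algebra V R] [Algebra V A] [Algebra R A] [IsScalarTower V R A]
    (u : V) (hu : Irreducible u) (huA : algebraMap V A u ∈ IsLocalRing.maximalIdeal A)
    (hdimA : ringKrullDim A = 3)
    (hΩA : Module.Free A (Ω[A⁄V])) (hrkA : Module.finrank A (Ω[A⁄V]) = 2)
    (hΩR : Module.Free A (A ⊗[R] Ω[R⁄V])) (hrkR : Module.finrank A (A ⊗[R] Ω[R⁄V]) = 1)
    (h0 : ∀ P : PrimeSpectrum A, algebraMap V A u ∈ P.asIdeal → P.asIdeal ≠ IsLocalRing.maximalIdeal A →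
      Module.Free (Localization.AtPrime P.asIdeal) (LocalizedModule P.asIdeal.primeCompl (Ω[A⁄R])))
    (hm : ¬ Module.Free A (Ω[A⁄R])) :
    ∃ Q : PrimeSpectrum A, algebraMap V A u ∉ Q.asIdeal ∧
      ¬ Module.Free (Localization.AtPrime Q.asIdeal) (LocalizedModule Q.asIdeal.primeCompl (Ω[A⁄R])) := by
  classical
  haveI := hΩA
  haveI := hΩR
  haveI : Module.Finite A (Ω[A⁄V]) := Module.finite_of_finrank_pos (by omega)
  haveI : Module.Finite A (A ⊗[R] Ω[R⁄V]) := Module.finite_of_finrank_pos (by omega)
  let e : Module.Basis (Fin 2) A (Ω[A⁄V]) := Module.finBasisOfFinrankEq A _ hrkA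
  let n : Module.Basis (Fin 1) A (A ⊗[R] Ω[R⁄V]) := Module.finBasisOfFinrankEq A _ hrkR
  let φ : A ⊗[R] Ω[R⁄V] →ₗ[A] Ω[A⁄V] := KaehlerDifferential.mapBaseChange V R A
  let π : Ω[A⁄V] →ₗ[A] Ω[A⁄R] := KaehlerDifferential.map V R A A
  have hπ : Function.Surjective π := KaehlerDifferential.map_surjective V R A
  have hex : Function.Exact φ π := KaehlerDifferential.exact_mapBaseChange_map V R A
  set w : Ω[A⁄V] := φ (n 0) with hw
  have hker : LinearMap.ker π = Submodule.span A {w} := by
    rw [hex.linearMap_ker_eq, LinearMap.range_eq_map, ← n.span_eq, Submodule.map_span,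
      Set.range_unique, Set.image_singleton]
    rfl
  let a : Fin 2 → A := fun i => e.repr w i
  let sF : Finset A := Finset.univ.image a
  have hsF : (sF : Set A) = Set.range a := by simp [sF]
  have hB : ∀ (P : Ideal A) [P.IsPrime], Ideal.span (sF : Set A) ≤ P →
      ¬ Module.Free (Localization.AtPrime P) (LocalizedModule P.primeCompl (Ω[A⁄R])) := by
    intro P _ hIP hfree
    haveI := hfree
    have hw0 : w = 0 := Groth.Agent.H77.KaehlerNF.eq_zero_of_projective_localization P e w
      (fun i => hIP (Ideal.subset_span (by rw [hsF]; exact ⟨i, rfl⟩))) π hπ hker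
    have hinj : Function.Injective π := by
      rw [← LinearMap.ker_eq_bot, hker, hw0]
      simp
    exact hm (Module.Free.of_equiv (LinearEquiv.ofBijective π ⟨hinj, hπ⟩))
  have hI : Ideal.span (sF : Set A) ≠ ⊤ := by
    intro htop
    have h1 : (1 : A) ∈ Ideal.span (Set.range a) := by
      rw [← hsF, htop]
      trivial
    obtain ⟨c, hc⟩ := (Ideal.mem_span_range_iff_exists_fun).1 h1
    let l : Ω[A⁄V] →ₗ[A] A := ∑ i, c i • e.coord i
    have hl : l w = 1 := by
      rw [← hc]
      simp [l, a]
    exact hm (Groth.Agent.H77.KaehlerNF.free_of_functional w π hπ hker l hl)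
  obtain ⟨Q, hQ⟩ := Ideal.nonempty_minimalPrimes hI
  haveI hQprime : Q.IsPrime := hQ.1.1
  have hIQ : Ideal.span (sF : Set A) ≤ Q := hQ.1.2
  have hht : Q.height ≤ 2 := by
    have h1 := Ideal.height_le_card_of_mem_minimalPrimes_span_finset hQ
    refine h1.trans ?_
    have h2 : sF.card ≤ 2 := by
      simpa using Finset.card_image_le (s := (Finset.univ : Finset (Fin 2))) (f := a)
    exact_mod_cast h2
  refine ⟨⟨Q, hQprime⟩, ?_, hB Q hIQ⟩
  intro huQ
  by_cases hQm : Q = IsLocalRing.maximalIdeal A
  · have h3 := IsLocalRing.maximalIdeal_height_eq_ringKrullDim (R := A)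
    rw [hdimA, ← hQm] at h3
    have h4 : Q.height = 3 := by
      have h5 : (Q.height : WithBot ℕ∞) = ((3 : ℕ∞) : WithBot ℕ∞) := h3
      exact WithBot.coe_injective h5
    rw [h4] at hht
    exact absurd hht (by decide)
  · exact hB Q hIQ (h0 ⟨Q, hQprime⟩ huQ hQm)

end Groth.Agent.S15100
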