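import Groth.Statements.S15115
import Groth.Agent.H62.Reynolds

set_option autoImplicit false
universe u
open HopfRep

namespace Groth.Agent.S15115

open TensorProduct in
/-- Let k be an algebraically closed field, H a finite-dimensional commutative Hopf algebra over k all
of whose finite-dimensional comodules are semisimple (a finite linearly reductive group scheme G
over k), A a commutative k-algebra, and M an A-module with an H-coaction that is A-linear (G acts on
M by A-module maps, A carrying the trivial action). Let A' be a commutative A-algebra and N = A' ⊗_A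
M its base change, exhibited by an A-linear map φ : M → N, with the induced coaction: A'-linear and
compatible with φ. Then invariants commute with this base change: writing M^G for the A-submodule of
coinvariant elements of M, the natural map A' ⊗_A M^G → N, a' ⊗ m ↦ a' φ(m), is injective and its
image is exactly the set of coinvariant elements of N. (The published statement is the isomorphism
ρ^* π_* F → π'_* σ^* F for a tame Deligne–Mumford stack with coarse moduli space π and any base
change ρ of the coarse space; this row is the statement about invariants to which its proof reduces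
it, for modules that need not be finitely generated.) -/
theorem result (k : Type u) [Field k] [IsAlgClosed k]
    (H : Type u) [CommRing H] [HopfAlgebra k H] [Module.Finite k H] (hred : HopfRep.IsLinearlyReductive k H)
    (A : Type u) [CommRing A] [Algebra k A]
    (M : Type u) [AddCommGroup M] [Module k M] [Module A M] [IsScalarTower k A M] [HopfRep.Comod k H M]
    (hlin : ∀ (a : A) (m : M), HopfRep.Comod.coact (k := k) (A := H) (a • m) = a • HopfRep.Comod.coact (k := k) (A := H) m)
    (A' : Type u) [CommRing A'] [Algebra k A'] [Algebra A A'] [IsScalarTower k A A']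
    (N : Type u) [AddCommGroup N] [Module k N] [Module A N] [Module A' N]
    [IsScalarTower k A N] [IsScalarTower A A' N] [IsScalarTower k A' N] [HopfRep.Comod k H N]
    (φ : M →ₗ[A] N) (hφ : IsBaseChange A' φ)
    (hcomp : ∀ m : M, HopfRep.Comod.coact (k := k) (A := H) (φ m) =
      LinearMap.rTensor H (φ.restrictScalars k) (HopfRep.Comod.coact (k := k) (A := H) m))
    (hlinN : ∀ (a' : A') (n : N), HopfRep.Comod.coact (k := k) (A := H) (a' • n) = a' • HopfRep.Comod.coact (k := k) (A := H) n)
    (P : Submodule A M) (hP : (P : Set M) = (HopfRep.fixedPts k H M : Set M)) :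
    Function.Injective (TensorProduct.lift (((Algebra.lsmul A A N : A' →ₐ[A] Module.End A N).toLinearMap).compl₂ (φ ∘ₗ P.subtype))) ∧
      Set.range (TensorProduct.lift (((Algebra.lsmul A A N : A' →ₐ[A] Module.End A N).toLinearMap).compl₂ (φ ∘ₗ P.subtype))) =
        (HopfRep.fixedPts k H N : Set N) := by
  classical
  -- scalar multiplications as `k`-linear comodule maps
  let La : A → (M →ₗ[k] M) := fun a =>
    { toFun := fun m => a • m, map_add' := smul_add a, map_smul' := fun c m => smul_comm a c m }
  let La' : A' → (N →ₗ[k] N) := fun a =>
    { toFun := fun m => a • m, map_add' := smul_add a, map_smul' := fun c m => smul_comm a c m }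
  have hLa : ∀ a : A, Hoch.IsComodHom H (La a) := by
    intro a
    refine LinearMap.ext fun m => ?_
    change HopfRep.Comod.coact (k := k) (A := H) (a • m) =
      (La a).rTensor H (HopfRep.Comod.coact (k := k) (A := H) m)
    rw [hlin]
    generalize HopfRep.Comod.coact (k := k) (A := H) m = x
    induction x using TensorProduct.induction_on with
    | zero => simp
    | tmul m' h => rw [TensorProduct.smul_tmul', LinearMap.rTensor_tmul]; rfl
    | add x y hx hy => rw [smul_add, hx, hy, map_add]
  have hLa' : ∀ a : A', Hoch.IsComodHom H (La' a) := by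
    intro a
    refine LinearMap.ext fun m => ?_
    change HopfRep.Comod.coact (k := k) (A := H) (a • m) =
      (La' a).rTensor H (HopfRep.Comod.coact (k := k) (A := H) m)
    rw [hlinN]
    generalize HopfRep.Comod.coact (k := k) (A := H) m = x
    induction x using TensorProduct.induction_on with
    | zero => simp
    | tmul m' h => rw [TensorProduct.smul_tmul', LinearMap.rTensor_tmul]; rfl
    | add x y hx hy => rw [smul_add, hx, hy, map_add]
  have hφk : Hoch.IsComodHom H (φ.restrictScalars k) := LinearMap.ext fun m => hcomp m
  -- Reynolds operators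
  let RM := Groth.Agent.H62.reynolds M hred
  let RN := Groth.Agent.H62.reynolds N hred
  have hRM_smul : ∀ (a : A) (m : M), RM (a • m) = a • RM m := fun a m =>
    Groth.Agent.H62.reynolds_natural hred (hLa a) m
  have hRN_smul : ∀ (a : A') (n : N), RN (a • n) = a • RN n := fun a n =>
    Groth.Agent.H62.reynolds_natural hred (hLa' a) n
  have hRφ : ∀ m : M, RN (φ m) = φ (RM m) := fun m =>
    Groth.Agent.H62.reynolds_natural hred hφk m
  have hPmem : ∀ x : M, x ∈ P ↔ x ∈ HopfRep.fixedPts k H M := by
    intro x
    rw [← SetLike.mem_coe, hP]
    rfl
  -- the retraction onto P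
  let π : M →ₗ[A] P :=
    { toFun := fun m => ⟨RM m, (hPmem _).mpr (Groth.Agent.H62.reynolds_mem hred m)⟩
      map_add' := fun x y => Subtype.ext (map_add RM x y)
      map_smul' := fun a x => Subtype.ext (hRM_smul a x) }
  have hπι : π ∘ₗ P.subtype = LinearMap.id := by
    refine LinearMap.ext fun p => Subtype.ext ?_
    exact Groth.Agent.H62.reynolds_of_mem_fixedPts hred ((hPmem _).mp p.2)
  set Ψ := TensorProduct.lift
    (((Algebra.lsmul A A N : A' →ₐ[A] Module.End A N).toLinearMap).compl₂ (φ ∘ₗ P.subtype))
    with hΨ
  have hΨ_tmul : ∀ (a' : A') (p : P), Ψ (a' ⊗ₜ[A] p) = a' • φ (p : M) := by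
    intro a' p
    rw [hΨ, TensorProduct.lift.tmul]
    rfl
  have hΨe : ∀ x : TensorProduct A A' P, Ψ x = hφ.equiv (P.subtype.lTensor A' x) := by
    intro x
    induction x using TensorProduct.induction_on with
    | zero => simp
    | tmul a' p =>
      rw [hΨ_tmul, LinearMap.lTensor_tmul, IsBaseChange.equiv_tmul]
      rfl
    | add x y hx hy => rw [map_add, hx, hy, map_add, map_add]
  refine ⟨?_, ?_⟩
  · intro x y hxy
    rw [hΨe, hΨe] at hxy
    have h1 := hφ.equiv.injective hxy
    have h2 := congrArg (π.lTensor A') h1
    rw [← LinearMap.comp_apply, ← LinearMap.comp_apply, ← LinearMap.lTensor_comp, hπι,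
      LinearMap.lTensor_id] at h2
    exact h2
  · apply Set.Subset.antisymm
    · rintro _ ⟨x, rfl⟩
      change Ψ x ∈ HopfRep.fixedPts k H N
      induction x using TensorProduct.induction_on with
      | zero => rw [map_zero]; exact Submodule.zero_mem _
      | tmul a' p =>
        rw [hΨ_tmul]
        change HopfRep.Comod.coact (k := k) (A := H) (a' • φ (p : M)) = (a' • φ (p : M)) ⊗ₜ[k] (1 : H)
        have hp : HopfRep.Comod.coact (k := k) (A := H) (p : M) = (p : M) ⊗ₜ[k] (1 : H) :=
          (hPmem _).mp p.2
        rw [hlinN, hcomp, hp, LinearMap.rTensor_tmul, TensorProduct.smul_tmul']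
        rfl
      | add x y hx hy => rw [map_add]; exact Submodule.add_mem _ hx hy
    · intro n hn
      have hn' : n ∈ HopfRep.fixedPts k H N := hn
      have hkey : ∀ y : TensorProduct A A' M, RN (hφ.equiv y) = Ψ (π.lTensor A' y) := by
        intro y
        induction y using TensorProduct.induction_on with
        | zero => simp
        | tmul a' m =>
          rw [IsBaseChange.equiv_tmul, hRN_smul, hRφ, LinearMap.lTensor_tmul, hΨ_tmul]
          rfl
        | add x y hx hy => rw [map_add, map_add, hx, hy, map_add, map_add]
      refine ⟨π.lTensor A' (hφ.equiv.symm n), ?_⟩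
      rw [← hkey, LinearEquiv.apply_symm_apply]
      exact Groth.Agent.H62.reynolds_of_mem_fixedPts hred hn'

end Groth.Agent.S15115
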