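import Groth.Statements.S15116
import Mathlib.Tactic.Abel

set_option autoImplicit false
universe u v
open NRGIT

namespace Groth.Agent.S15116

/-- Let k be a characteristic-zero field and A a commutative k-algebra, graded by the integers with all
pieces of positive degree zero, and D a k-derivation of A that raises degrees by a fixed positive
integer l. If no maximal ideal of A contains both every piece of negative degree and the image of D,
then there is f with D f = 1. (The published statement is for an affine variety with an action of
the semidirect product of the additive and multiplicative groups, the multiplicative group acting on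
the coordinate ring with non-positive weights and on the Lie algebra of the additive group with
positive weight: the derivation is a generator of that Lie algebra, the maximal ideals containing
the pieces of negative degree are the limit points under the multiplicative group, and a limit point
has trivial additive stabiliser exactly when the image of D is not contained in its ideal; this row
keeps only this algebraic content, for any such graded algebra. The first assertion of the published
lemma, that every point has a limit in the variety under the multiplicative group as t → 0, is not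
part of this row.) -/
theorem result (k : Type u) [Field k] [CharZero k]
    (A : Type v) [CommRing A] [Algebra k A] (𝒜 : ℤ → Submodule k A) [GradedAlgebra 𝒜]
    (hpos : ∀ i : ℤ, 0 < i → 𝒜 i = ⊥)
    (D : Derivation k A A) (l : ℤ) (hl : 0 < l)
    (hD : ∀ (i : ℤ) (a : A), a ∈ 𝒜 i → D a ∈ 𝒜 (i + l))
    (hfree : ∀ m : Ideal A, m.IsMaximal → (∀ i : ℤ, i < 0 → (𝒜 i : Set A) ⊆ m) → ∃ a : A, D a ∉ m) :
    ∃ f : A, D f = 1 := by
  classical
  -- the image of `D` on the piece of degree `-l`
  let J : Submodule k A := (𝒜 (-l)).map (D : A →ₗ[k] A)
  have hJ : ∀ x : A, x ∈ J ↔ ∃ f ∈ 𝒜 (-l), D f = x := by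
    intro x
    simp [J, Submodule.mem_map]
  have hD0 : ∀ b : A, b ∈ 𝒜 0 → D b = 0 := by
    intro b hb
    have := hD 0 b hb
    rw [zero_add, hpos l hl] at this
    exact (Submodule.mem_bot k).mp this
  have hposz : ∀ (i : ℤ) (a : A), 0 < i → a ∈ 𝒜 i → a = 0 := by
    intro i a hi ha
    rw [hpos i hi] at ha
    exact (Submodule.mem_bot k).mp ha
  let p0 : A → A := fun a => (DirectSum.decompose 𝒜 a 0 : A)
  have hp0add : ∀ a b, p0 (a + b) = p0 a + p0 b := by
    intro a b
    simp [p0, DirectSum.decompose_add]
  have hsmul : ∀ b a : A, p0 a ∈ J → p0 (b * a) ∈ J := by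
    intro b a ha
    induction b using DirectSum.Decomposition.inductionOn 𝒜 with
    | zero =>
      simp only [zero_mul]
      show (DirectSum.decompose 𝒜 (0 : A) 0 : A) ∈ J
      simp
    | homogeneous b' =>
      rename_i i
      have hb : (b' : A) ∈ 𝒜 i := b'.2
      have e : p0 ((b' : A) * a) = (b' : A) * (DirectSum.decompose 𝒜 a (-i) : A) := by
        have := DirectSum.coe_decompose_mul_add_of_left_mem 𝒜 (j := -i) (b := a) hb
        rw [add_neg_cancel] at this
        exact this
      rw [e]
      rcases lt_trichotomy i 0 with hi | hi | hi
      · have : (DirectSum.decompose 𝒜 a (-i) : A) = 0 :=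
          hposz (-i) _ (by omega) (SetLike.coe_mem _)
        rw [this, mul_zero]
        exact J.zero_mem
      · subst hi
        rw [neg_zero]
        obtain ⟨f, hf, hfa⟩ := (hJ _).mp ha
        refine (hJ _).mpr ⟨(b' : A) * f, ?_, ?_⟩
        · have := SetLike.mul_mem_graded hb hf
          simpa using this
        · rw [D.leibniz, hD0 _ hb, smul_zero, add_zero, hfa]
          rfl
      · rw [hposz i _ hi hb, zero_mul]
        exact J.zero_mem
    | add b b' hb hb' =>
      rw [add_mul, hp0add]
      exact J.add_mem hb hb'
  let I : Ideal A :=
    { carrier := {a | p0 a ∈ J}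
      add_mem' := by
        intro a b ha hb
        show p0 (a + b) ∈ J
        rw [hp0add]
        exact J.add_mem ha hb
      zero_mem' := by
        show (DirectSum.decompose 𝒜 (0 : A) 0 : A) ∈ J
        simp
      smul_mem' := by
        intro c x hx
        exact hsmul c x hx }
  have hImem : ∀ a, a ∈ I ↔ p0 a ∈ J := fun a => Iff.rfl
  have hIneg : ∀ i : ℤ, i < 0 → (𝒜 i : Set A) ⊆ I := by
    intro i hi a ha
    show p0 a ∈ J
    have : p0 a = 0 := DirectSum.decompose_of_mem_ne 𝒜 ha (by omega)
    rw [this]
    exact J.zero_mem
  have hID : ∀ a : A, D a ∈ I := by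
    intro a
    induction a using DirectSum.Decomposition.inductionOn 𝒜 with
    | zero => rw [map_zero]; exact I.zero_mem
    | homogeneous a' =>
      rename_i i
      have ha : (a' : A) ∈ 𝒜 i := a'.2
      have hDa := hD i _ ha
      show p0 (D (a' : A)) ∈ J
      by_cases hil : i + l = 0
      · have e : p0 (D (a' : A)) = D (a' : A) := by
          rw [hil] at hDa
          exact DirectSum.decompose_of_mem_same 𝒜 hDa
        rw [e]
        refine (hJ _).mpr ⟨a', ?_, rfl⟩
        have : i = -l := by omega
        rw [← this]; exact ha
      · have e : p0 (D (a' : A)) = 0 := DirectSum.decompose_of_mem_ne 𝒜 hDa hil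
        rw [e]
        exact J.zero_mem
    | add a b ha hb =>
      rw [map_add]
      exact I.add_mem ha hb
  have hItop : I = ⊤ := by
    by_contra hne
    obtain ⟨m, hm, hIm⟩ := Ideal.exists_le_maximal I hne
    obtain ⟨a, ha⟩ := hfree m hm (fun i hi => (hIneg i hi).trans hIm)
    exact ha (hIm (hID a))
  have h1 : (1 : A) ∈ I := by rw [hItop]; trivial
  have h1' : p0 1 ∈ J := h1
  have e1 : p0 1 = 1 := DirectSum.decompose_of_mem_same 𝒜 (SetLike.GradedOne.one_mem)
  rw [e1] at h1'
  obtain ⟨f, _, hf⟩ := (hJ 1).mp h1'
  exact ⟨f, hf⟩

end Groth.Agent.S15116
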