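import Groth.Statements.S15117
import Mathlib.RingTheory.Flat.Basic

set_option autoImplicit false
universe u v w
open TensorProduct
open NRGIT

namespace Groth.Agent.S15117

/-- Let k be a field, π : A → B a map of commutative bialgebras over k, W a right A-comodule and V ⊆ W a
subcomodule all of whose elements are coinvariant for the B-coaction induced through π. Then the
coaction of every v ∈ V lies in V ⊗ A' ⊆ W ⊗ A, where A' ⊆ A is the set of elements a with (π ⊗
id)(Δ a) = 1 ⊗ a, i.e. coinvariant for the coaction of B on A through π on the left factor; the row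
states membership in the span of the pure tensors w ⊗ a with w ∈ V and a ∈ A'. (The published
statement is for a linear algebraic group H over an algebraically closed field of characteristic
zero, a normal subgroup N and an H-stable space V of N-invariant sections of a linearised line
bundle, with the coaction landing in O(H)^N ⊗ V, where O(H)^N is the ring of functions on H
invariant under N acting by right multiplication; this row is the comodule form, for any bialgebra
map over a field, where normality of N is not needed.) -/
theorem result (k : Type u) [Field k]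
    (A B : Type v) [CommRing A] [CommRing B] [Bialgebra k A] [Bialgebra k B] (π : A →ₐc[k] B)
    (W : Type w) [AddCommGroup W] [Module k W] [HopfRep.Comod k A W]
    (V : Submodule k W) (hV : HopfRep.IsSubcomod (k := k) (A := A) V)
    (hfix : ∀ v ∈ V, (π.toLinearMap.lTensor W) (HopfRep.Comod.coact (k := k) (A := A) v) = v ⊗ₜ[k] (1 : B))
    (v : W) (hv : v ∈ V) :
    HopfRep.Comod.coact (k := k) (A := A) v ∈
      Submodule.span k {x : W ⊗[k] A | ∃ w ∈ V, ∃ a : A,
        (π.toLinearMap.rTensor A) (Coalgebra.comul (R := k) a) = (1 : B) ⊗ₜ[k] a ∧ x = w ⊗ₜ[k] a} := by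
  classical
  set ρ : W →ₗ[k] W ⊗[k] A := HopfRep.Comod.coact (k := k) (A := A) with hρ
  set j : V →ₗ[k] W := V.subtype with hj
  set g : A →ₗ[k] B ⊗[k] A :=
    (π.toLinearMap.rTensor A) ∘ₗ (Coalgebra.comul (R := k) (A := A)) - TensorProduct.mk k B A 1 with hg
  obtain ⟨z, hz⟩ := hV v hv
  have nat : ∀ (t : W ⊗[k] A) (a : A),
      (LinearMap.lTensor W (π.toLinearMap.rTensor A)) (TensorProduct.assoc k W A A (t ⊗ₜ[k] a)) =
        TensorProduct.assoc k W B A ((LinearMap.lTensor W π.toLinearMap t) ⊗ₜ[k] a) := by
    intro t a
    induction t using TensorProduct.induction_on with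
    | zero => simp
    | tmul w c => simp
    | add x y hx hy => simp only [TensorProduct.add_tmul, map_add, hx, hy]
  have key : ∀ z : V ⊗[k] A,
      (LinearMap.lTensor W (π.toLinearMap.rTensor A))
        (TensorProduct.assoc k W A A ((ρ.rTensor A) ((j.rTensor A) z))) =
        (LinearMap.lTensor W (TensorProduct.mk k B A 1)) ((j.rTensor A) z) := by
    intro z
    induction z using TensorProduct.induction_on with
    | zero => simp
    | tmul v' a =>
      rw [LinearMap.rTensor_tmul, LinearMap.rTensor_tmul, nat, LinearMap.lTensor_tmul]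
      have h1 := hfix (j v') v'.2
      rw [h1, TensorProduct.assoc_tmul]
      rfl
    | add x y hx hy => simp only [map_add, hx, hy]
  -- `(id ⊗ g)(ρ v) = 0`
  have hco : TensorProduct.assoc k W A A ((ρ.rTensor A) (ρ v)) =
      (Coalgebra.comul (R := k) (A := A)).lTensor W (ρ v) :=
    LinearMap.congr_fun (HopfRep.Comod.coassoc (k := k) (A := A) (V := W)) v
  have h1 : (LinearMap.lTensor W g) (ρ v) = 0 := by
    rw [hg, LinearMap.lTensor_sub, LinearMap.sub_apply, LinearMap.lTensor_comp, LinearMap.comp_apply,
      ← hco, sub_eq_zero]
    have h2 := key z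
    rw [hz] at h2
    exact h2
  have h2 : (LinearMap.lTensor V g) z = 0 := by
    have hinj : Function.Injective (j.rTensor (B ⊗[k] A)) :=
      Module.Flat.rTensor_preserves_injective_linearMap j (Submodule.injective_subtype V)
    apply hinj
    rw [map_zero, ← LinearMap.comp_apply, LinearMap.rTensor_comp_lTensor,
      ← LinearMap.lTensor_comp_rTensor, LinearMap.comp_apply, hz]
    exact h1
  have hex : Function.Exact (LinearMap.lTensor V (LinearMap.ker g).subtype) (LinearMap.lTensor V g) :=
    Module.Flat.lTensor_exact V (LinearMap.exact_subtype_ker_map g)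
  obtain ⟨z', hz'⟩ := (hex z).mp h2
  have hfinal : ∀ y : V ⊗[k] LinearMap.ker g,
      (j.rTensor A) ((LinearMap.lTensor V (LinearMap.ker g).subtype) y) ∈
      Submodule.span k {x : W ⊗[k] A | ∃ w ∈ V, ∃ a : A,
        (π.toLinearMap.rTensor A) (Coalgebra.comul (R := k) a) = (1 : B) ⊗ₜ[k] a ∧ x = w ⊗ₜ[k] a} := by
    intro y
    induction y using TensorProduct.induction_on with
    | zero => simp
    | tmul v' a' =>
      rw [LinearMap.lTensor_tmul, LinearMap.rTensor_tmul]
      apply Submodule.subset_span
      refine ⟨j v', v'.2, (a' : A), ?_, rfl⟩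
      have h3 : ((π.toLinearMap.rTensor A) ∘ₗ (Coalgebra.comul (R := k) (A := A)) -
          TensorProduct.mk k B A 1) (a' : A) = 0 := a'.2
      rw [LinearMap.sub_apply, sub_eq_zero] at h3
      exact h3
    | add x y hx hy =>
      rw [map_add, map_add]
      exact Submodule.add_mem _ hx hy
  have h3 := hfinal z'
  rw [hz', hz] at h3
  exact h3

end Groth.Agent.S15117
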