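import Groth.Statements.S15121
import Mathlib.Tactic.Abel

set_option autoImplicit false
universe u v w
open InvQ

namespace Groth.Agent.S15121

/-- Let k be a field of characteristic zero and A a commutative k-algebra graded by a finitely generated
free abelian group Λ (the character group of a torus acting on Spec A) whose grading monoid is
positive: if the pieces of degrees w and −w are both non-zero then w = 0. Let δ be a locally
nilpotent k-derivation of A (an action of the additive group) that is homogeneous of degree d, with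
the piece of degree d equal to zero (the graded condition on the Lie algebra weight). Suppose that
no maximal ideal of A contains both all graded pieces of non-zero degree and the image of δ (every
torus-fixed closed point has trivial stabiliser under the additive group). Then δ has a homogeneous
slice: some s of degree −d with δ s = 1. (The published statement is for the coordinate ring of an
affine variety over an algebraically closed field of characteristic zero and concludes moreover that
the quotient map by the additive group is a trivial principal bundle, which follows from the slice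
by a standard argument not restated here; this row keeps the algebraic content, for any such graded
algebra.) -/
theorem result
    (k : Type u) [Field k] [CharZero k]
    (A : Type v) [CommRing A] [Algebra k A]
    (Λ : Type w) [AddCommGroup Λ] [DecidableEq Λ] [Module.Free ℤ Λ] [Module.Finite ℤ Λ]
    (𝒜 : Λ → Submodule k A) [GradedAlgebra 𝒜]
    (hpos : ∀ w : Λ, 𝒜 w ≠ ⊥ → 𝒜 (-w) ≠ ⊥ → w = 0)
    (δ : Derivation k A A) (hnil : ∀ a : A, ∃ n : ℕ, ((δ : A →ₗ[k] A) ^ n) a = 0)
    (d : Λ) (hhom : ∀ (w : Λ) (a : A), a ∈ 𝒜 w → δ a ∈ 𝒜 (w + d)) (hd : 𝒜 d = ⊥)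
    (hfix : ∀ m : Ideal A, m.IsMaximal → (∀ w : Λ, w ≠ 0 → (𝒜 w : Set A) ⊆ m) → ¬ (Set.range δ ⊆ m)) :
    ∃ s ∈ 𝒜 (-d), δ s = 1 := by
  classical
  let J : Submodule k A := (𝒜 (-d)).map (δ : A →ₗ[k] A)
  have hJ : ∀ x : A, x ∈ J ↔ ∃ f ∈ 𝒜 (-d), δ f = x := by
    intro x
    simp [J, Submodule.mem_map]
  have hD0 : ∀ b : A, b ∈ 𝒜 0 → δ b = 0 := by
    intro b hb
    have := hhom 0 b hb
    rw [zero_add, hd] at this
    exact (Submodule.mem_bot k).mp this
  have hprod : ∀ (i : Λ) (b c : A), i ≠ 0 → b ∈ 𝒜 i → c ∈ 𝒜 (-i) → b * c = 0 := by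
    intro i b c hi hb hc
    by_contra hne
    have hb0 : b ≠ 0 := fun h => hne (by rw [h, zero_mul])
    have hc0 : c ≠ 0 := fun h => hne (by rw [h, mul_zero])
    have h1 : 𝒜 i ≠ ⊥ := fun h => hb0 (by rw [h] at hb; exact (Submodule.mem_bot k).mp hb)
    have h2 : 𝒜 (-i) ≠ ⊥ := fun h => hc0 (by rw [h] at hc; exact (Submodule.mem_bot k).mp hc)
    exact hi (hpos i h1 h2)
  let p0 : A → A := fun a => (DirectSum.decompose 𝒜 a 0 : A)
  have hp0add : ∀ a b, p0 (a + b) = p0 a + p0 b := by
    intro a b
    simp [p0, DirectSum.decompose_add]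
  have hsmul : ∀ b a : A, p0 a ∈ J → p0 (b * a) ∈ J := by
    intro b a ha
    induction b using DirectSum.Decomposition.inductionOn 𝒜 with
    | zero =>
      simp only [zero_mul]
      show (DirectSum.decompose 𝒜 (0 : A) 0 : A) ∈ J
      simp
    | homogeneous b' =>
      rename_i i
      have hb : (b' : A) ∈ 𝒜 i := b'.2
      have e : p0 ((b' : A) * a) = (b' : A) * (DirectSum.decompose 𝒜 a (-i) : A) := by
        have := DirectSum.coe_decompose_mul_add_of_left_mem 𝒜 (j := -i) (b := a) hb
        rw [add_neg_cancel] at this
        exact this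
      rw [e]
      by_cases hi : i = 0
      · subst hi
        rw [neg_zero]
        obtain ⟨f, hf, hfa⟩ := (hJ _).mp ha
        refine (hJ _).mpr ⟨(b' : A) * f, ?_, ?_⟩
        · have := SetLike.mul_mem_graded hb hf
          simpa using this
        · rw [δ.leibniz, hD0 _ hb, smul_zero, add_zero, hfa]
          rfl
      · rw [hprod i _ _ hi hb (SetLike.coe_mem _)]
        exact J.zero_mem
    | add b b' hb hb' =>
      rw [add_mul, hp0add]
      exact J.add_mem hb hb'
  let I : Ideal A :=
    { carrier := {a | p0 a ∈ J}
      add_mem' := by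
        intro a b ha hb
        show p0 (a + b) ∈ J
        rw [hp0add]
        exact J.add_mem ha hb
      zero_mem' := by
        show (DirectSum.decompose 𝒜 (0 : A) 0 : A) ∈ J
        simp
      smul_mem' := by
        intro c x hx
        exact hsmul c x hx }
  have hIne : ∀ w : Λ, w ≠ 0 → (𝒜 w : Set A) ⊆ I := by
    intro i hi a ha
    show p0 a ∈ J
    have : p0 a = 0 := DirectSum.decompose_of_mem_ne 𝒜 ha hi
    rw [this]
    exact J.zero_mem
  have hID : ∀ a : A, δ a ∈ I := by
    intro a
    induction a using DirectSum.Decomposition.inductionOn 𝒜 with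
    | zero => rw [map_zero]; exact I.zero_mem
    | homogeneous a' =>
      rename_i i
      have ha : (a' : A) ∈ 𝒜 i := a'.2
      have hDa := hhom i _ ha
      show p0 (δ (a' : A)) ∈ J
      by_cases hil : i + d = 0
      · have e : p0 (δ (a' : A)) = δ (a' : A) := by
          rw [hil] at hDa
          exact DirectSum.decompose_of_mem_same 𝒜 hDa
        rw [e]
        refine (hJ _).mpr ⟨a', ?_, rfl⟩
        have : i = -d := eq_neg_of_add_eq_zero_left hil
        rw [← this]; exact ha
      · have e : p0 (δ (a' : A)) = 0 := DirectSum.decompose_of_mem_ne 𝒜 hDa hil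
        rw [e]
        exact J.zero_mem
    | add a b ha hb =>
      rw [map_add]
      exact I.add_mem ha hb
  have hItop : I = ⊤ := by
    by_contra hne
    obtain ⟨m, hm, hIm⟩ := Ideal.exists_le_maximal I hne
    apply hfix m hm (fun i hi => (hIne i hi).trans hIm)
    rintro _ ⟨a, rfl⟩
    exact hIm (hID a)
  have h1 : (1 : A) ∈ I := by rw [hItop]; trivial
  have h1' : p0 1 ∈ J := h1
  have e1 : p0 1 = 1 := DirectSum.decompose_of_mem_same 𝒜 (SetLike.GradedOne.one_mem)
  rw [e1] at h1'
  obtain ⟨f, hf1, hf⟩ := (hJ 1).mp h1'
  exact ⟨f, hf1, hf⟩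

end Groth.Agent.S15121
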