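import Groth.Statements.S15123
import Groth.Agent.H96.GrComod
import Mathlib.RingTheory.Bialgebra.MonoidAlgebra
import Mathlib.RingTheory.Spectrum.Prime.Topology
import Mathlib.Tactic.Abel

set_option autoImplicit false
universe u v w
open InvQ

namespace Groth.Agent.S15123

open Groth.Agent.H96 TensorProduct

section Lemmas

variable {k : Type u} [CommRing k] {Λ : Type v} [AddCommGroup Λ]

lemma hb (m : Λ) : IsGroupLikeElem k ((AddMonoidAlgebra.basis Λ k) m) := by
  rw [AddMonoidAlgebra.basis_apply]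
  exact AddMonoidAlgebra.isGroupLikeElem_single_one m

lemma hbs (m : Λ) : (AddMonoidAlgebra.basis Λ k) m = AddMonoidAlgebra.single m (1 : k) :=
  AddMonoidAlgebra.basis_apply k m

lemma h1 : (1 : AddMonoidAlgebra k Λ) = (AddMonoidAlgebra.basis Λ k) 0 := by
  rw [AddMonoidAlgebra.basis_apply, AddMonoidAlgebra.one_def]

lemma hcoord (c w : Λ) (x : AddMonoidAlgebra k Λ) :
    (AddMonoidAlgebra.basis Λ k).coord c (x * (AddMonoidAlgebra.basis Λ k) w) =
      (AddMonoidAlgebra.basis Λ k).coord (c - w) x := by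
  classical
  have h2 := LinearMap.congr_fun ((AddMonoidAlgebra.basis Λ k).ext
    (f₁ := ((AddMonoidAlgebra.basis Λ k).coord c) ∘ₗ
      (LinearMap.mulRight k ((AddMonoidAlgebra.basis Λ k) w)))
    (f₂ := (AddMonoidAlgebra.basis Λ k).coord (c - w)) (fun a => by
      simp only [LinearMap.comp_apply, LinearMap.mulRight_apply]
      rw [hbs a, hbs w, AddMonoidAlgebra.single_mul_single, mul_one, ← hbs (a + w), ← hbs a,
        Module.Basis.coord_apply, Module.Basis.coord_apply, Module.Basis.repr_self_apply,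
        Module.Basis.repr_self_apply]
      by_cases h : a + w = c
      · rw [if_pos h, if_pos (by rw [← h]; abel)]
      · rw [if_neg h, if_neg (fun h' => h (by rw [h']; abel))])) x
  simpa using h2

variable {R : Type w} [CommRing R] [Algebra k R]

lemma hPmul (c w : Λ) (h : R) (t : R ⊗[k] AddMonoidAlgebra k Λ) :
    GrComod.P (AddMonoidAlgebra.basis Λ k) c (t * (h ⊗ₜ[k] (AddMonoidAlgebra.basis Λ k) w)) =
      GrComod.P (AddMonoidAlgebra.basis Λ k) (c - w) t * h := by
  induction t using TensorProduct.induction_on with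
  | zero => simp
  | tmul r x =>
    rw [Algebra.TensorProduct.tmul_mul_tmul, GrComod.P_tmul, GrComod.P_tmul, hcoord,
      smul_mul_assoc]
  | add x y hx hy => rw [add_mul, map_add, map_add, hx, hy, add_mul]

variable [HopfRep.Comod k (AddMonoidAlgebra k Λ) R] [GLin.IsCoactAlg k (AddMonoidAlgebra k Λ) R]

lemma proj_mul_eigen (c w : Λ) (g h : R)
    (hh : HopfRep.Comod.coact (k := k) (A := AddMonoidAlgebra k Λ) h =
      h ⊗ₜ[k] (AddMonoidAlgebra.basis Λ k) w) :
    GrComod.proj (AddMonoidAlgebra.basis Λ k) c (g * h) =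
      GrComod.proj (AddMonoidAlgebra.basis Λ k) (c - w) g * h := by
  rw [GrComod.proj_apply, GLin.IsCoactAlg.coact_mul, hh, hPmul]
  rfl

lemma proj_zero_one : GrComod.proj (AddMonoidAlgebra.basis Λ k) 0 (1 : R) = 1 := by
  classical
  have h2 : HopfRep.Comod.coact (k := k) (A := AddMonoidAlgebra k Λ) (1 : R) =
      (1 : R) ⊗ₜ[k] (AddMonoidAlgebra.basis Λ k) 0 := by
    rw [GLin.IsCoactAlg.coact_one, ← h1]
    rfl
  rw [GrComod.proj_of_eigen (AddMonoidAlgebra.basis Λ k) 0 0 1 h2, if_pos rfl]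

lemma mul_eq_zero_of_pos
    (hpos : ∀ w : Λ, HopfRep.eigenspace k (AddMonoidAlgebra k Λ) R (AddMonoidAlgebra.single w 1) ≠ ⊥ →
      HopfRep.eigenspace k (AddMonoidAlgebra k Λ) R (AddMonoidAlgebra.single (-w) 1) ≠ ⊥ → w = 0)
    (w : Λ) (hw : w ≠ 0) (g h : R)
    (hg : HopfRep.Comod.coact (k := k) (A := AddMonoidAlgebra k Λ) g =
      g ⊗ₜ[k] (AddMonoidAlgebra.basis Λ k) (-w))
    (hh : HopfRep.Comod.coact (k := k) (A := AddMonoidAlgebra k Λ) h =
      h ⊗ₜ[k] (AddMonoidAlgebra.basis Λ k) w) : g * h = 0 := by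
  by_contra hne
  have h2 : g ≠ 0 := left_ne_zero_of_mul hne
  have h3 : h ≠ 0 := right_ne_zero_of_mul hne
  apply hw
  apply hpos w
  · refine (Submodule.ne_bot_iff _).mpr ⟨h, ?_, h3⟩
    show HopfRep.Comod.coact (k := k) (A := AddMonoidAlgebra k Λ) _ = _ ⊗ₜ[k] _
    rw [← hbs]
    exact hh
  · refine (Submodule.ne_bot_iff _).mpr ⟨g, ?_, h2⟩
    show HopfRep.Comod.coact (k := k) (A := AddMonoidAlgebra k Λ) _ = _ ⊗ₜ[k] _
    rw [← hbs]
    exact hg

lemma proj_zero_mul
    (hpos : ∀ w : Λ, HopfRep.eigenspace k (AddMonoidAlgebra k Λ) R (AddMonoidAlgebra.single w 1) ≠ ⊥ →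
      HopfRep.eigenspace k (AddMonoidAlgebra k Λ) R (AddMonoidAlgebra.single (-w) 1) ≠ ⊥ → w = 0)
    (f g : R) :
    GrComod.proj (AddMonoidAlgebra.basis Λ k) 0 (f * g) =
      GrComod.proj (AddMonoidAlgebra.basis Λ k) 0 f *
        GrComod.proj (AddMonoidAlgebra.basis Λ k) 0 g := by
  classical
  obtain ⟨s, hs⟩ := GrComod.sum_proj (AddMonoidAlgebra.basis Λ k) hb g
  have hsum := hs (insert 0 s) (Finset.subset_insert _ _)
  conv_lhs => rw [← hsum, Finset.mul_sum, map_sum]
  rw [Finset.sum_eq_single_of_mem 0 (Finset.mem_insert_self _ _)]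
  · rw [proj_mul_eigen 0 0 f _ (GrComod.coact_proj (AddMonoidAlgebra.basis Λ k) hb 0 g), sub_zero]
  · intro c _ hc
    rw [proj_mul_eigen 0 c f _ (GrComod.coact_proj (AddMonoidAlgebra.basis Λ k) hb c g), zero_sub]
    exact mul_eq_zero_of_pos hpos c hc _ _
      (GrComod.coact_proj (AddMonoidAlgebra.basis Λ k) hb (-c) f)
      (GrComod.coact_proj (AddMonoidAlgebra.basis Λ k) hb c g)

lemma orbitHom_eigen (x : R →ₐ[k] k) (w : Λ) (h : R)
    (hh : HopfRep.Comod.coact (k := k) (A := AddMonoidAlgebra k Λ) h =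
      h ⊗ₜ[k] (AddMonoidAlgebra.basis Λ k) w) :
    GLin.orbitHom k (AddMonoidAlgebra k Λ) x h = x h • (AddMonoidAlgebra.basis Λ k) w := by
  simp only [GLin.orbitHom, AlgHom.comp_apply, GLin.coactAlgHom_apply, hh,
    Algebra.TensorProduct.map_tmul, AlgHom.id_apply]
  rfl

lemma coord_zero_lid (x : R →ₐ[k] k) (t : R ⊗[k] AddMonoidAlgebra k Λ) :
    (AddMonoidAlgebra.basis Λ k).coord 0
      ((Algebra.TensorProduct.lid k (AddMonoidAlgebra k Λ)).toAlgHom
        ((Algebra.TensorProduct.map x (AlgHom.id k (AddMonoidAlgebra k Λ))) t)) =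
      x (GrComod.P (AddMonoidAlgebra.basis Λ k) 0 t) := by
  induction t using TensorProduct.induction_on with
  | zero => simp
  | tmul r a =>
    rw [Algebra.TensorProduct.map_tmul, GrComod.P_tmul, map_smul]
    show (AddMonoidAlgebra.basis Λ k).coord 0 (x r • a) = _
    rw [map_smul, smul_eq_mul, smul_eq_mul, mul_comm]
  | add s t hs ht => simp only [map_add, hs, ht]

lemma coord_zero_orbitHom (x : R →ₐ[k] k) (f : R) :
    (AddMonoidAlgebra.basis Λ k).coord 0 (GLin.orbitHom k (AddMonoidAlgebra k Λ) x f) =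
      x (GrComod.proj (AddMonoidAlgebra.basis Λ k) 0 f) :=
  coord_zero_lid x _

end Lemmas

open Groth.Agent.H96 TensorProduct in
/-- Let k be an algebraically closed field of characteristic zero, Λ a finitely generated free abelian
group and k[Λ] its group algebra, the coordinate Hopf algebra of the torus with character group Λ.
Let R be a reduced finitely generated commutative k-algebra with a multiplicative coaction of k[Λ]
(an action of the torus on the affine variety Spec R), and suppose the grading monoid is positive: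
if R has a non-zero eigenvector of weight w and one of weight −w then w = 0. Then for every k-point
x of Spec R, the orbit of x is closed if and only if x is a fixed point. (The published statement
also asserts that the fixed-point subvariety is affine and is a good quotient for the action; only
the description of the closed orbits is stated here.) -/
theorem result
    (k : Type u) [Field k] [IsAlgClosed k] [CharZero k]
    (Λ : Type v) [AddCommGroup Λ] [Module.Free ℤ Λ] [Module.Finite ℤ Λ]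
    (R : Type w) [CommRing R] [Algebra k R] [Algebra.FiniteType k R] [IsReduced R]
    [HopfRep.Comod k (AddMonoidAlgebra k Λ) R] [GLin.IsCoactAlg k (AddMonoidAlgebra k Λ) R]
    (hpos : ∀ w : Λ, HopfRep.eigenspace k (AddMonoidAlgebra k Λ) R (AddMonoidAlgebra.single w 1) ≠ ⊥ →
      HopfRep.eigenspace k (AddMonoidAlgebra k Λ) R (AddMonoidAlgebra.single (-w) 1) ≠ ⊥ → w = 0)
    (x : R →ₐ[k] k) :
    GLin.IsClosedOrbit k (AddMonoidAlgebra k Λ) x ↔ GLin.IsFixedPt k (AddMonoidAlgebra k Λ) x := by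
  classical
  have hunitb : ∀ a : Λ, IsUnit ((AddMonoidAlgebra.basis Λ k) a) := by
    intro a
    refine ⟨⟨(AddMonoidAlgebra.basis Λ k) a, (AddMonoidAlgebra.basis Λ k) (-a), ?_, ?_⟩, rfl⟩
    · rw [hbs, hbs, AddMonoidAlgebra.single_mul_single, add_neg_cancel, mul_one,
        AddMonoidAlgebra.one_def]
    · rw [hbs, hbs, AddMonoidAlgebra.single_mul_single, neg_add_cancel, mul_one,
        AddMonoidAlgebra.one_def]
  constructor
  · intro hclosed
    let y : R →ₐ[k] k := AlgHom.ofLinearMap
      (x.toLinearMap ∘ₗ GrComod.proj (AddMonoidAlgebra.basis Λ k) 0)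
      (by simp [proj_zero_one]) (fun f g => by simp [proj_zero_mul hpos])
    have hy : ∀ f, y f = x (GrComod.proj (AddMonoidAlgebra.basis Λ k) 0 f) := fun f => rfl
    have hmem : (⟨RingHom.ker y.toRingHom, RingHom.ker_isPrime _⟩ : PrimeSpectrum R) ∈
        Set.range (PrimeSpectrum.comap (GLin.orbitHom k (AddMonoidAlgebra k Λ) x).toRingHom) := by
      have hcl : IsClosed (Set.range (PrimeSpectrum.comap
        (GLin.orbitHom k (AddMonoidAlgebra k Λ) x).toRingHom)) := hclosed
      rw [← hcl.closure_eq, PrimeSpectrum.closure_range_comap, PrimeSpectrum.mem_zeroLocus]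
      intro f hf
      have hf' : GLin.orbitHom k (AddMonoidAlgebra k Λ) x f = 0 := hf
      show y f = 0
      rw [hy, ← coord_zero_orbitHom, hf', map_zero]
    obtain ⟨𝔮, h𝔮⟩ := hmem
    have h𝔮' : ∀ f, GLin.orbitHom k (AddMonoidAlgebra k Λ) x f ∈ 𝔮.asIdeal ↔ y f = 0 := by
      intro f
      have h2 := congrArg (fun P : PrimeSpectrum R => f ∈ P.asIdeal) h𝔮
      simpa [PrimeSpectrum.comap_asIdeal, Ideal.mem_comap, RingHom.mem_ker] using h2
    have hzero : ∀ (a : Λ), a ≠ 0 → ∀ f,
        x (GrComod.proj (AddMonoidAlgebra.basis Λ k) a f) = 0 := by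
      intro a ha f
      by_contra hne
      have h2 : GLin.orbitHom k (AddMonoidAlgebra k Λ) x
          (GrComod.proj (AddMonoidAlgebra.basis Λ k) a f) ∈ 𝔮.asIdeal := by
        rw [h𝔮', hy, GrComod.proj_proj (AddMonoidAlgebra.basis Λ k) hb 0 a f, if_neg ha, map_zero]
      rw [orbitHom_eigen x a _ (GrComod.coact_proj (AddMonoidAlgebra.basis Λ k) hb a f)] at h2
      apply 𝔮.2.ne_top
      apply Ideal.eq_top_of_isUnit_mem _ h2
      rw [Algebra.smul_def]
      exact ((IsUnit.mk0 _ hne).map (algebraMap k (AddMonoidAlgebra k Λ))).mul (hunitb a)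
    show GLin.orbitHom k (AddMonoidAlgebra k Λ) x = (Algebra.ofId k (AddMonoidAlgebra k Λ)).comp x
    ext f
    obtain ⟨s, hs⟩ := GrComod.sum_proj (AddMonoidAlgebra.basis Λ k) hb f
    have hsum := hs (insert 0 s) (Finset.subset_insert _ _)
    have e1 : GLin.orbitHom k (AddMonoidAlgebra k Λ) x f = ∑ a ∈ insert 0 s,
        x (GrComod.proj (AddMonoidAlgebra.basis Λ k) a f) • (AddMonoidAlgebra.basis Λ k) a := by
      conv_lhs => rw [← hsum, map_sum]
      exact Finset.sum_congr rfl fun a _ =>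
        orbitHom_eigen x a _ (GrComod.coact_proj (AddMonoidAlgebra.basis Λ k) hb a f)
    have e2 : x f = ∑ a ∈ insert 0 s, x (GrComod.proj (AddMonoidAlgebra.basis Λ k) a f) := by
      conv_lhs => rw [← hsum, map_sum]
    rw [e1, AlgHom.comp_apply, Algebra.ofId_apply, e2,
      Finset.sum_eq_single_of_mem 0 (Finset.mem_insert_self _ _)
        (fun a _ ha => by rw [hzero a ha f, zero_smul]),
      Finset.sum_eq_single_of_mem 0 (Finset.mem_insert_self _ _) (fun a _ ha => hzero a ha f),
      ← h1, Algebra.smul_def, mul_one]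
  · intro hfix
    have hfix' : GLin.orbitHom k (AddMonoidAlgebra k Λ) x =
        (Algebra.ofId k (AddMonoidAlgebra k Λ)).comp x := hfix
    have hφ : ∀ f, GLin.orbitHom k (AddMonoidAlgebra k Λ) x f =
        algebraMap k (AddMonoidAlgebra k Λ) (x f) := fun f => by
      rw [hfix']
      rfl
    have hall : ∀ 𝔮 : PrimeSpectrum (AddMonoidAlgebra k Λ),
        PrimeSpectrum.comap (GLin.orbitHom k (AddMonoidAlgebra k Λ) x).toRingHom 𝔮 =
          (⟨RingHom.ker x.toRingHom, RingHom.ker_isPrime _⟩ : PrimeSpectrum R) := by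
      intro 𝔮
      apply PrimeSpectrum.ext
      ext f
      simp only [PrimeSpectrum.comap_asIdeal, Ideal.mem_comap, RingHom.mem_ker]
      show GLin.orbitHom k (AddMonoidAlgebra k Λ) x f ∈ 𝔮.asIdeal ↔ x f = 0
      rw [hφ]
      constructor
      · intro hmem
        by_contra hne
        exact 𝔮.2.ne_top (Ideal.eq_top_of_isUnit_mem _ hmem
          ((IsUnit.mk0 _ hne).map (algebraMap k (AddMonoidAlgebra k Λ))))
      · intro h0
        rw [h0, map_zero]
        exact 𝔮.asIdeal.zero_mem
    have hrange : Set.range (PrimeSpectrum.comap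
        (GLin.orbitHom k (AddMonoidAlgebra k Λ) x).toRingHom) =
        {(⟨RingHom.ker x.toRingHom, RingHom.ker_isPrime _⟩ : PrimeSpectrum R)} := by
      ext P
      simp only [Set.mem_range, Set.mem_singleton_iff]
      constructor
      · rintro ⟨𝔮, rfl⟩
        exact hall 𝔮
      · rintro rfl
        obtain ⟨𝔮⟩ : Nonempty (PrimeSpectrum (AddMonoidAlgebra k Λ)) := inferInstance
        exact ⟨𝔮, hall 𝔮⟩
    show IsClosed (Set.range (PrimeSpectrum.comap
      (GLin.orbitHom k (AddMonoidAlgebra k Λ) x).toRingHom))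
    rw [hrange, PrimeSpectrum.isClosed_singleton_iff_isMaximal]
    exact RingHom.ker_isMaximal_of_surjective _ (fun c => ⟨algebraMap k R c, x.commutes c⟩)

end Groth.Agent.S15123
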