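import Groth.Statements.S15124
import Groth.Agent.H96.GrComod
import Mathlib.RingTheory.Bialgebra.MonoidAlgebra
import Mathlib.Tactic.Abel

set_option autoImplicit false
universe u v w
open InvQ

namespace Groth.Agent.S15124

open Groth.Agent.H96 TensorProduct in
/-- Let k be an algebraically closed field of characteristic zero, Λ a finitely generated free abelian
group with group algebra k[Λ] (the coordinate Hopf algebra of a torus T), and R a reduced finitely
generated commutative k-algebra with a multiplicative coaction of k[Λ] (an action of T on the affine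
variety X = Spec R) whose grading monoid is positive: if R has non-zero eigenvectors of weights w
and −w then w = 0. Let I be the ideal of R generated by all eigenvectors of non-zero weight (the
ideal of the fixed-point subscheme X^T). Then the composite of the inclusion of the ring of
invariants R^T into R with the projection R → R/I is bijective: the fixed-point subscheme maps
isomorphically onto the affine quotient Spec R^T. (The published statement phrases this as: X^T is
affine and X → X^T is a good quotient; the good-quotient property itself is not restated here.) -/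
theorem result
    (k : Type u) [Field k] [IsAlgClosed k] [CharZero k]
    (Λ : Type v) [AddCommGroup Λ] [Module.Free ℤ Λ] [Module.Finite ℤ Λ]
    (R : Type w) [CommRing R] [Algebra k R] [Algebra.FiniteType k R] [IsReduced R]
    [HopfRep.Comod k (AddMonoidAlgebra k Λ) R] [GLin.IsCoactAlg k (AddMonoidAlgebra k Λ) R]
    (hpos : ∀ w : Λ, HopfRep.eigenspace k (AddMonoidAlgebra k Λ) R (AddMonoidAlgebra.single w 1) ≠ ⊥ →
      HopfRep.eigenspace k (AddMonoidAlgebra k Λ) R (AddMonoidAlgebra.single (-w) 1) ≠ ⊥ → w = 0) :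
    Function.Bijective
      ((Ideal.Quotient.mkₐ k (Ideal.span {f : R | ∃ w : Λ, w ≠ 0 ∧
          f ∈ HopfRep.eigenspace k (AddMonoidAlgebra k Λ) R (AddMonoidAlgebra.single w 1)})).comp
        (GLin.invariants k (AddMonoidAlgebra k Λ) R).val) := by
  classical
  have hb : ∀ m, IsGroupLikeElem k ((AddMonoidAlgebra.basis Λ k) m) := fun m => by
    rw [AddMonoidAlgebra.basis_apply]
    exact AddMonoidAlgebra.isGroupLikeElem_single_one m
  have hbs : ∀ m : Λ, (AddMonoidAlgebra.basis Λ k) m = AddMonoidAlgebra.single m (1 : k) :=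
    fun m => AddMonoidAlgebra.basis_apply k m
  have h1 : (1 : AddMonoidAlgebra k Λ) = (AddMonoidAlgebra.basis Λ k) 0 := by
    rw [AddMonoidAlgebra.basis_apply, AddMonoidAlgebra.one_def]
  have hcoord : ∀ (c w : Λ) (x : AddMonoidAlgebra k Λ),
      (AddMonoidAlgebra.basis Λ k).coord c (x * (AddMonoidAlgebra.basis Λ k) w) =
        (AddMonoidAlgebra.basis Λ k).coord (c - w) x := by
    intro c w x
    have h2 := LinearMap.congr_fun ((AddMonoidAlgebra.basis Λ k).ext
      (f₁ := ((AddMonoidAlgebra.basis Λ k).coord c) ∘ₗ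
        (LinearMap.mulRight k ((AddMonoidAlgebra.basis Λ k) w)))
      (f₂ := (AddMonoidAlgebra.basis Λ k).coord (c - w)) (fun a => by
        simp only [LinearMap.comp_apply, LinearMap.mulRight_apply]
        rw [hbs a, hbs w, AddMonoidAlgebra.single_mul_single, mul_one, ← hbs (a + w), ← hbs a,
          Module.Basis.coord_apply, Module.Basis.coord_apply, Module.Basis.repr_self_apply,
          Module.Basis.repr_self_apply]
        by_cases h : a + w = c
        · rw [if_pos h, if_pos (by rw [← h]; abel)]
        · rw [if_neg h, if_neg (fun h' => h (by rw [h']; abel))])) x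
    simpa using h2
  have hPmul : ∀ (c w : Λ) (h : R) (t : R ⊗[k] AddMonoidAlgebra k Λ),
      GrComod.P (AddMonoidAlgebra.basis Λ k) c (t * (h ⊗ₜ[k] (AddMonoidAlgebra.basis Λ k) w)) =
        GrComod.P (AddMonoidAlgebra.basis Λ k) (c - w) t * h := by
    intro c w h t
    induction t using TensorProduct.induction_on with
    | zero => simp
    | tmul r x =>
      rw [Algebra.TensorProduct.tmul_mul_tmul, GrComod.P_tmul, GrComod.P_tmul, hcoord,
        smul_mul_assoc]
    | add x y hx hy => rw [add_mul, map_add, map_add, hx, hy, add_mul]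
  have hkey : ∀ (w : Λ), w ≠ 0 → ∀ h ∈ HopfRep.eigenspace k (AddMonoidAlgebra k Λ) R
      (AddMonoidAlgebra.single w 1), ∀ g : R,
      GrComod.proj (AddMonoidAlgebra.basis Λ k) 0 (g * h) = 0 := by
    intro w hw h hh g
    have hh' : HopfRep.Comod.coact (k := k) (A := AddMonoidAlgebra k Λ) h =
        h ⊗ₜ[k] (AddMonoidAlgebra.basis Λ k) w := by
      rw [hbs]
      exact hh
    rw [GrComod.proj_apply, GLin.IsCoactAlg.coact_mul, hh', hPmul, zero_sub]
    by_contra hne
    have h2 : GrComod.P (AddMonoidAlgebra.basis Λ k) (-w)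
        (HopfRep.Comod.coact (k := k) (A := AddMonoidAlgebra k Λ) g) ≠ 0 :=
      left_ne_zero_of_mul hne
    have h3 : h ≠ 0 := right_ne_zero_of_mul hne
    apply hw
    apply hpos w
    · exact (Submodule.ne_bot_iff _).mpr ⟨h, hh, h3⟩
    · refine (Submodule.ne_bot_iff _).mpr ⟨GrComod.P (AddMonoidAlgebra.basis Λ k) (-w)
        (HopfRep.Comod.coact (k := k) (A := AddMonoidAlgebra k Λ) g), ?_, h2⟩
      show HopfRep.Comod.coact (k := k) (A := AddMonoidAlgebra k Λ) _ = _ ⊗ₜ[k] _
      rw [← hbs]
      exact GrComod.coact_P (AddMonoidAlgebra.basis Λ k) hb (-w) g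
  have hI : ∀ f ∈ Submodule.span R {f : R | ∃ w : Λ, w ≠ 0 ∧
      f ∈ HopfRep.eigenspace k (AddMonoidAlgebra k Λ) R (AddMonoidAlgebra.single w 1)},
      ∀ g : R, GrComod.proj (AddMonoidAlgebra.basis Λ k) 0 (g * f) = 0 := by
    intro f hf
    induction hf using Submodule.span_induction with
    | mem x hx =>
      obtain ⟨w, hw, hxw⟩ := hx
      exact hkey w hw x hxw
    | zero => intro g; simp
    | add x y _ _ ihx ihy => intro g; rw [mul_add, map_add, ihx, ihy, add_zero]
    | smul a x _ ih => intro g; rw [smul_eq_mul, ← mul_assoc]; exact ih (g * a)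
  constructor
  · rw [injective_iff_map_eq_zero]
    intro x hx
    have hxI : (x : R) ∈ Ideal.span {f : R | ∃ w : Λ, w ≠ 0 ∧
        f ∈ HopfRep.eigenspace k (AddMonoidAlgebra k Λ) R (AddMonoidAlgebra.single w 1)} :=
      Ideal.Quotient.eq_zero_iff_mem.mp hx
    have hx0 := hI _ hxI 1
    rw [one_mul] at hx0
    have hxinv : HopfRep.Comod.coact (k := k) (A := AddMonoidAlgebra k Λ) (x : R) =
        (x : R) ⊗ₜ[k] (AddMonoidAlgebra.basis Λ k) 0 := by
      rw [← h1]
      exact x.2
    have h4 := GrComod.proj_of_eigen (AddMonoidAlgebra.basis Λ k) 0 0 (x : R) hxinv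
    rw [if_pos rfl] at h4
    apply Subtype.ext
    rw [← h4, hx0]
    rfl
  · intro y
    obtain ⟨f, rfl⟩ := Ideal.Quotient.mk_surjective y
    obtain ⟨s, hs⟩ := GrComod.sum_proj (AddMonoidAlgebra.basis Λ k) hb f
    have hsum := hs (insert 0 s) (Finset.subset_insert _ _)
    have hinv : GrComod.proj (AddMonoidAlgebra.basis Λ k) 0 f ∈
        GLin.invariants k (AddMonoidAlgebra k Λ) R := by
      rw [GLin.mem_invariants_iff, h1]
      exact GrComod.coact_proj (AddMonoidAlgebra.basis Λ k) hb 0 f
    refine ⟨⟨GrComod.proj (AddMonoidAlgebra.basis Λ k) 0 f, hinv⟩, ?_⟩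
    show Ideal.Quotient.mk _ (GrComod.proj (AddMonoidAlgebra.basis Λ k) 0 f) =
      Ideal.Quotient.mk _ f
    conv_rhs => rw [← hsum]
    rw [map_sum, Finset.sum_eq_single_of_mem 0 (Finset.mem_insert_self _ _)]
    intro a _ ha
    apply Ideal.Quotient.eq_zero_iff_mem.mpr
    apply Ideal.subset_span
    refine ⟨a, ha, ?_⟩
    show HopfRep.Comod.coact (k := k) (A := AddMonoidAlgebra k Λ) _ = _ ⊗ₜ[k] _
    rw [← hbs]
    exact GrComod.coact_proj (AddMonoidAlgebra.basis Λ k) hb a f

end Groth.Agent.S15124
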