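import Groth.Statements.S15126
import Mathlib.RingTheory.MvPowerSeries.Basic
import Mathlib.RingTheory.Ideal.Quotient.Operations
import Mathlib.Data.Finsupp.Encodable
import Mathlib.Algebra.MvPolynomial.Basic
import Mathlib.Algebra.MvPolynomial.Eval
import Mathlib.Data.Set.Countable

set_option autoImplicit false
universe u
open Formal

namespace Groth.Agent.S15126


open MvPowerSeries

section
variable (k : Type u) [Field k] (n : ℕ) (R : Type u) [CommRing R]
  [Algebra (MvPowerSeries (Fin n) k) R]

/-- the free `k`-algebra on the would-be coefficients -/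
abbrev P0 := MvPolynomial (R × (Fin n →₀ ℕ)) k

/-- the tautological map (just a function) -/
noncomputable def u0 (r : R) : MvPowerSeries (Fin n) (P0 k n R) :=
  fun m => MvPolynomial.X (r, m)

lemma coeff_u0 (r : R) (m : Fin n →₀ ℕ) :
    coeff m (u0 k n R r) = MvPolynomial.X (r, m) := rfl

/-- the relations expressing that `u0` is a homomorphism of algebras -/
inductive Rel : MvPowerSeries (Fin n) (P0 k n R) → MvPowerSeries (Fin n) (P0 k n R) → Prop
  | add (r s : R) : Rel (u0 k n R (r + s)) (u0 k n R r + u0 k n R s)
  | mul (r s : R) : Rel (u0 k n R (r * s)) (u0 k n R r * u0 k n R s)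
  | alg (c : MvPowerSeries (Fin n) k) :
      Rel (u0 k n R (algebraMap (MvPowerSeries (Fin n) k) R c))
        (algebraMap (MvPowerSeries (Fin n) k) (MvPowerSeries (Fin n) (P0 k n R)) c)

/-- the ideal of coefficientwise relations -/
noncomputable def J : Ideal (P0 k n R) :=
  Ideal.span {p | ∃ x y, Rel k n R x y ∧ ∃ m, p = coeff m (x - y)}

/-- the corepresenting algebra -/
abbrev P := P0 k n R ⧸ J k n R

/-- the projection -/
noncomputable def π : P0 k n R →ₐ[k] P k n R := Ideal.Quotient.mkₐ k (J k n R)

lemma map_π_eq {x y : MvPowerSeries (Fin n) (P0 k n R)} (h : Rel k n R x y) :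
    map (π k n R : P0 k n R →+* P k n R) x = map (π k n R : P0 k n R →+* P k n R) y := by
  ext m
  rw [coeff_map, coeff_map]
  have hmem : coeff m (x - y) ∈ J k n R := Ideal.subset_span ⟨x, y, h, m, rfl⟩
  rw [map_sub] at hmem
  exact Ideal.Quotient.eq.mpr hmem

/-- the universal homomorphism -/
noncomputable def uHom : R →ₐ[MvPowerSeries (Fin n) k] MvPowerSeries (Fin n) (P k n R) :=
  have hadd : ∀ r s, map (π k n R : P0 k n R →+* P k n R) (u0 k n R (r + s)) =
      map (π k n R : P0 k n R →+* P k n R) (u0 k n R r) +
        map (π k n R : P0 k n R →+* P k n R) (u0 k n R s) := fun r s => by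
    rw [map_π_eq k n R (Rel.add r s), map_add]
  have hmul : ∀ r s, map (π k n R : P0 k n R →+* P k n R) (u0 k n R (r * s)) =
      map (π k n R : P0 k n R →+* P k n R) (u0 k n R r) *
        map (π k n R : P0 k n R →+* P k n R) (u0 k n R s) := fun r s => by
    rw [map_π_eq k n R (Rel.mul r s), map_mul]
  have halg : ∀ c : MvPowerSeries (Fin n) k,
      map (π k n R : P0 k n R →+* P k n R) (u0 k n R (algebraMap _ R c)) =
        algebraMap (MvPowerSeries (Fin n) k) (MvPowerSeries (Fin n) (P k n R)) c := fun c => by
    rw [map_π_eq k n R (Rel.alg c)]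
    change map (π k n R : P0 k n R →+* P k n R) (map (algebraMap k (P0 k n R)) c) =
      map (algebraMap k (P k n R)) c
    rw [← RingHom.comp_apply, ← map_comp, AlgHom.comp_algebraMap]
  { toFun := fun r => map (π k n R : P0 k n R →+* P k n R) (u0 k n R r)
    map_one' := by have := halg 1; simpa using this
    map_mul' := hmul
    map_zero' := by have := halg 0; simpa using this
    map_add' := hadd
    commutes' := halg }

lemma uHom_apply (r : R) :
    uHom k n R r = map (π k n R : P0 k n R →+* P k n R) (u0 k n R r) := rfl

variable (Q : Type u) [CommRing Q] [Algebra k Q]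
  (f : R →ₐ[MvPowerSeries (Fin n) k] MvPowerSeries (Fin n) Q)

/-- the map on the free algebra attached to a homomorphism `f` -/
noncomputable def g0 : P0 k n R →ₐ[k] Q :=
  MvPolynomial.aeval (fun rm : R × (Fin n →₀ ℕ) => coeff rm.2 (f rm.1))

lemma map_g0_u0 (r : R) : map (g0 k n R Q f : P0 k n R →+* Q) (u0 k n R r) = f r := by
  ext m
  rw [coeff_map, coeff_u0]
  simp [g0]

lemma g0_rel {x y : MvPowerSeries (Fin n) (P0 k n R)} (h : Rel k n R x y) :
    map (g0 k n R Q f : P0 k n R →+* Q) x = map (g0 k n R Q f : P0 k n R →+* Q) y := by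
  cases h with
  | add r s => simp only [map_add, map_g0_u0 k n R Q f]
  | mul r s => simp only [map_mul, map_g0_u0 k n R Q f]
  | alg c =>
    rw [map_g0_u0, AlgHom.commutes]
    change map (algebraMap k Q) c =
      map (g0 k n R Q f : P0 k n R →+* Q) (map (algebraMap k (P0 k n R)) c)
    rw [← RingHom.comp_apply, ← map_comp, AlgHom.comp_algebraMap]

lemma g0_J : ∀ a ∈ J k n R, g0 k n R Q f a = 0 := by
  intro a ha
  have hle : J k n R ≤ RingHom.ker (g0 k n R Q f : P0 k n R →+* Q) := by
    refine Ideal.span_le.mpr ?_
    rintro p ⟨x, y, hxy, m, rfl⟩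
    rw [SetLike.mem_coe, RingHom.mem_ker, ← coeff_map, map_sub, g0_rel k n R Q f hxy, sub_self,
      map_zero]
  exact RingHom.mem_ker.mp (hle ha)

end

/-- Affine case. Let k be a field, n > 0, and R a commutative algebra over the power series ring
k[[z_1,…,z_n]]; for a commutative k-algebra Q regard Q[[z_1,…,z_n]] as a k[[z]]-algebra
coefficientwise. Then the functor Q ↦ Hom_{k[[z]]-alg}(R, Q[[z]]) on commutative k-algebras is
corepresentable: there exist a commutative k-algebra P and a k[[z]]-algebra homomorphism u : R →
P[[z]] such that every k[[z]]-algebra homomorphism R → Q[[z]] arises from u by applying a unique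
k-algebra homomorphism P → Q coefficientwise. If moreover R is countably generated as a
k[[z]]-algebra, P may be taken countably generated over k. (The published statement is for an adic
formal scheme Y over the formal disc Spf k[[z]], asserting that the sheaf of sections of Y over the
disc is a scheme, affine over the fibre of Y at the origin, and of pro-finite type when Y is; this
row is the case Y = Spf R, to which the published argument reduces, stated for the underlying
algebra R; k is algebraically closed there, which is not used.) -/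
theorem result
    (k : Type u) [Field k] (n : ℕ) (hn : 0 < n)
    (R : Type u) [CommRing R] [Algebra (MvPowerSeries (Fin n) k) R] :
    ∃ (P : Type u) (_ : CommRing P) (_ : Algebra k P)
      (u : R →ₐ[MvPowerSeries (Fin n) k] MvPowerSeries (Fin n) P),
      (∀ (Q : Type u) [CommRing Q] [Algebra k Q]
          (f : R →ₐ[MvPowerSeries (Fin n) k] MvPowerSeries (Fin n) Q),
          ∃! g : P →ₐ[k] Q,
            (MvPowerSeries.map (σ := Fin n) (g : P →+* Q)).comp (u : R →+* MvPowerSeries (Fin n) P) =
              (f : R →+* MvPowerSeries (Fin n) Q)) ∧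
      ((∃ s : Set R, s.Countable ∧ Algebra.adjoin (MvPowerSeries (Fin n) k) s = ⊤) →
        ∃ t : Set P, t.Countable ∧ Algebra.adjoin k t = ⊤) := by
  refine ⟨P k n R, inferInstance, inferInstance, uHom k n R, ?_, ?_⟩
  · intro Q _ _ f
    have hcomp : ((Ideal.Quotient.liftₐ (J k n R) (g0 k n R Q f) (g0_J k n R Q f) :
        P k n R →ₐ[k] Q) : P k n R →+* Q).comp (π k n R : P0 k n R →+* P k n R) =
          (g0 k n R Q f : P0 k n R →+* Q) := by
      refine RingHom.ext fun a => ?_
      rfl
    refine ⟨Ideal.Quotient.liftₐ (J k n R) (g0 k n R Q f) (g0_J k n R Q f), ?_, ?_⟩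
    · refine RingHom.ext fun r => ?_
      rw [RingHom.comp_apply]
      change map ((Ideal.Quotient.liftₐ (J k n R) (g0 k n R Q f) (g0_J k n R Q f) :
        P k n R →ₐ[k] Q) : P k n R →+* Q)
          (map (π k n R : P0 k n R →+* P k n R) (u0 k n R r)) = f r
      rw [← RingHom.comp_apply, ← map_comp, hcomp, map_g0_u0]
    · intro g' hg'
      apply Ideal.Quotient.algHom_ext
      apply MvPolynomial.algHom_ext
      rintro ⟨r, m⟩
      have h2 := congrArg (coeff m) (RingHom.congr_fun hg' r)
      rw [RingHom.comp_apply] at h2
      change coeff m (map (g' : P k n R →+* Q)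
        (map (π k n R : P0 k n R →+* P k n R) (u0 k n R r))) = coeff m (f r) at h2
      rw [coeff_map, coeff_map, coeff_u0] at h2
      change g' (π k n R (MvPolynomial.X (r, m))) = g0 k n R Q f (MvPolynomial.X (r, m))
      rw [show g0 k n R Q f (MvPolynomial.X (r, m)) = coeff m (f r) by simp [g0]]
      exact h2
  · rintro ⟨s, hs, hst⟩
    let t : Set (P k n R) :=
      (fun rm : R × (Fin n →₀ ℕ) => π k n R (MvPolynomial.X rm)) '' (s ×ˢ Set.univ)
    refine ⟨t, (hs.prod Set.countable_univ).image _, ?_⟩
    set P' := Algebra.adjoin k t with hP'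
    let B : Subalgebra (MvPowerSeries (Fin n) k) (MvPowerSeries (Fin n) (P k n R)) :=
      { carrier := {x | ∀ m, coeff m x ∈ P'}
        mul_mem' := by
          intro x y hx hy m
          classical
          rw [coeff_mul]
          exact Subalgebra.sum_mem _ fun p _ => Subalgebra.mul_mem _ (hx _) (hy _)
        add_mem' := by
          intro x y hx hy m
          rw [map_add]
          exact Subalgebra.add_mem _ (hx m) (hy m)
        algebraMap_mem' := by
          intro c m
          change coeff m (map (algebraMap k (P k n R)) c) ∈ P'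
          rw [coeff_map]
          exact Subalgebra.algebraMap_mem _ _ }
    have hB : ∀ (r : R) (m : Fin n →₀ ℕ), coeff m (uHom k n R r) ∈ P' := by
      have hle : Algebra.adjoin (MvPowerSeries (Fin n) k) s ≤ B.comap (uHom k n R) := by
        refine Algebra.adjoin_le ?_
        intro r hr
        change ∀ m, coeff m (uHom k n R r) ∈ P'
        intro m
        refine Algebra.subset_adjoin ⟨(r, m), ⟨hr, Set.mem_univ _⟩, ?_⟩
        change π k n R (MvPolynomial.X (r, m)) = coeff m (uHom k n R r)
        rw [uHom_apply, coeff_map, coeff_u0]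
        rfl
      intro r
      have hr : r ∈ Algebra.adjoin (MvPowerSeries (Fin n) k) s := by rw [hst]; exact Algebra.mem_top
      exact hle hr
    have hX : ∀ rm : R × (Fin n →₀ ℕ), π k n R (MvPolynomial.X rm) ∈ P' := by
      rintro ⟨r, m⟩
      have h := hB r m
      rw [uHom_apply, coeff_map, coeff_u0] at h
      exact h
    have hall : ∀ p : P0 k n R, π k n R p ∈ P' := by
      intro p
      induction p using MvPolynomial.induction_on with
      | C a =>
        rw [← MvPolynomial.algebraMap_eq, AlgHom.commutes]
        exact Subalgebra.algebraMap_mem _ _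
      | add p q hp hq =>
        rw [map_add]
        exact Subalgebra.add_mem _ hp hq
      | mul_X p i hp =>
        rw [map_mul]
        exact Subalgebra.mul_mem _ hp (hX i)
    rw [eq_top_iff]
    intro x _
    obtain ⟨p, rfl⟩ := Ideal.Quotient.mk_surjective x
    exact hall p

end Groth.Agent.S15126
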