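import Groth.Statements.S15128
import Mathlib.RingTheory.LocalRing.Module
import Mathlib.RingTheory.Flat.Basic
import Mathlib.RingTheory.Flat.Tensor
import Mathlib.RingTheory.FiniteLength
import Mathlib.RingTheory.Artinian.Ring
import Mathlib.RingTheory.HopkinsLevitzki
import Mathlib.RingTheory.SimpleModule.Basic
import Mathlib.LinearAlgebra.TensorProduct.Quotient

set_option autoImplicit false
universe u v
open CAlg

namespace Groth.Agent.S15128

open TensorProduct

/-- A four-lemma for tensoring a short exact sequence `T' → T → S → 0` with a map `h : X → Y`. -/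
theorem four {A : Type u} [CommRing A] {T' T S : Type u} [AddCommGroup T'] [Module A T']
    [AddCommGroup T] [Module A T] [AddCommGroup S] [Module A S]
    {X Y : Type v} [AddCommGroup X] [Module A X] [AddCommGroup Y] [Module A Y]
    (ι : T' →ₗ[A] T) (π : T →ₗ[A] S) (hex : Function.Exact ι π) (hπ : Function.Surjective π)
    (h : X →ₗ[A] Y) (h1 : Function.Injective (h.lTensor T'))
    (h2 : Function.Injective (h.lTensor S))
    (h3 : Function.Injective (ι.rTensor Y)) : Function.Injective (h.lTensor T) := by
  rw [injective_iff_map_eq_zero]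
  intro x hx
  have e1 : π.rTensor X x = 0 := by
    apply h2
    rw [map_zero, ← LinearMap.comp_apply, LinearMap.lTensor_comp_rTensor,
      ← LinearMap.rTensor_comp_lTensor, LinearMap.comp_apply, hx, map_zero]
  obtain ⟨y, rfl⟩ := (rTensor_exact X hex hπ x).mp e1
  have e2 : h.lTensor T' y = 0 := by
    apply h3
    rw [map_zero, ← LinearMap.comp_apply, LinearMap.rTensor_comp_lTensor,
      ← LinearMap.lTensor_comp_rTensor, LinearMap.comp_apply, hx]
  rw [h1 (e2.trans (map_zero _).symm), map_zero]

/-- Injectivity of `h ⊗ k` propagates to `h ⊗ T` for every finite length `T`, when the target of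
`h` is flat. -/
theorem key {A : Type u} [CommRing A] [IsLocalRing A]
    {X Y : Type v} [AddCommGroup X] [Module A X] [AddCommGroup Y] [Module A Y] [Module.Flat A Y]
    (h : X →ₗ[A] Y) (hk : Function.Injective (h.lTensor (IsLocalRing.ResidueField A)))
    {T : Type u} [AddCommGroup T] [Module A T] (hT : IsFiniteLength A T) :
    Function.Injective (h.lTensor T) := by
  induction hT with
  | of_subsingleton => exact Function.injective_of_subsingleton _
  | @of_simple_quotient T _ _ T' hS hT' ih =>
    obtain ⟨I, hI, ⟨e⟩⟩ := isSimpleModule_iff_quot_maximal.mp hS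
    obtain rfl : I = IsLocalRing.maximalIdeal A := IsLocalRing.eq_maximalIdeal hI
    have e' : (T ⧸ T') ≃ₗ[A] IsLocalRing.ResidueField A := e
    have h2 : Function.Injective (h.lTensor (T ⧸ T')) := by
      have hcomm : (h.lTensor (IsLocalRing.ResidueField A)).comp (e'.toLinearMap.rTensor X) =
          (e'.toLinearMap.rTensor Y).comp (h.lTensor (T ⧸ T')) := by
        rw [LinearMap.lTensor_comp_rTensor, LinearMap.rTensor_comp_lTensor]
      have hinj : Function.Injective
          ((h.lTensor (IsLocalRing.ResidueField A)).comp (e'.toLinearMap.rTensor X)) :=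
        hk.comp (e'.rTensor X).injective
      rw [hcomm] at hinj
      exact Function.Injective.of_comp hinj
    exact four T'.subtype T'.mkQ (LinearMap.exact_subtype_mkQ T') T'.mkQ_surjective h ih h2
      (Module.Flat.rTensor_preserves_injective_linearMap _ T'.injective_subtype)

theorem isFiniteLength_self (A : Type u) [CommRing A] [IsArtinianRing A] : IsFiniteLength A A :=
  (isArtinianRing_iff_isFiniteLength A).mp inferInstance

theorem injective_of_lTensor_self {A : Type u} [CommRing A]
    {X Y : Type v} [AddCommGroup X] [Module A X] [AddCommGroup Y] [Module A Y]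
    (h : X →ₗ[A] Y) (hA : Function.Injective (h.lTensor A)) : Function.Injective h := by
  rw [injective_iff_map_eq_zero]
  intro p hp
  have : (1 : A) ⊗ₜ[A] p = 0 := by
    apply hA
    rw [LinearMap.lTensor_tmul, hp, tmul_zero, map_zero]
  have := congrArg (TensorProduct.lid A X) this
  simpa using this

/-- A module `Q` over a ring with nilpotent ideal `m` such that `k ⊗ Q = 0` is zero. -/
theorem subsingleton_of_tensor {A : Type u} [CommRing A] (m : Ideal A) (hm : IsNilpotent m)
    (Q : Type v) [AddCommGroup Q] [Module A Q] (hQ : Subsingleton ((A ⧸ m) ⊗[A] Q)) :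
    Subsingleton Q := by
  have h1 : Subsingleton (Q ⧸ (m • (⊤ : Submodule A Q))) :=
    (TensorProduct.quotTensorEquivQuotSMul Q m).symm.injective.subsingleton
  have h2 : m • (⊤ : Submodule A Q) = ⊤ := Submodule.Quotient.subsingleton_iff.mp h1
  obtain ⟨k, hk⟩ := hm
  have h3 : ∀ j : ℕ, m ^ j • (⊤ : Submodule A Q) = ⊤ := by
    intro j
    induction j with
    | zero => simp
    | succ j ih => rw [pow_succ, mul_smul, h2, ih]
  have h4 : (⊤ : Submodule A Q) = ⊥ := by
    rw [← h3 k, hk]
    simp
  exact (Submodule.subsingleton_iff A).mp (subsingleton_of_bot_eq_top h4.symm)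

theorem result
    (A : Type u) [CommRing A] [IsLocalRing A] [IsArtinianRing A]
    (P L : Type v) [AddCommGroup P] [Module A P] [AddCommGroup L] [Module A L]
    [Module.Flat A P] [Module.Flat A L] (h : P →ₗ[A] L) :
    (Function.Injective (h.lTensor (IsLocalRing.ResidueField A)) → Function.Injective h) ∧
    (Function.Surjective (h.lTensor (IsLocalRing.ResidueField A)) → Function.Surjective h) := by
  constructor
  · intro hk
    exact injective_of_lTensor_self h (key h hk (isFiniteLength_self A))
  · intro hk
    have hm : IsNilpotent (IsLocalRing.maximalIdeal A) := by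
      rw [← IsLocalRing.jacobson_eq_maximalIdeal ⊥ bot_ne_top]
      exact IsArtinianRing.isNilpotent_jacobson_bot
    have hQ : Subsingleton ((A ⧸ IsLocalRing.maximalIdeal A) ⊗[A] (L ⧸ LinearMap.range h)) := by
      refine ⟨fun x y => ?_⟩
      have hz : ∀ z : (A ⧸ IsLocalRing.maximalIdeal A) ⊗[A] (L ⧸ LinearMap.range h), z = 0 := by
        intro z
        obtain ⟨z', rfl⟩ := LinearMap.lTensor_surjective (A ⧸ IsLocalRing.maximalIdeal A)
          (LinearMap.range h).mkQ_surjective z
        obtain ⟨z'', rfl⟩ := hk z'
        have : (LinearMap.range h).mkQ.comp h = 0 := LinearMap.range_mkQ_comp h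
        change ((LinearMap.range h).mkQ.lTensor (IsLocalRing.ResidueField A))
          ((h.lTensor (IsLocalRing.ResidueField A)) z'') = 0
        rw [← LinearMap.comp_apply, ← LinearMap.lTensor_comp, this, LinearMap.lTensor_zero,
          LinearMap.zero_apply]
      rw [hz x, hz y]
    have := subsingleton_of_tensor _ hm _ hQ
    have hr : LinearMap.range h = ⊤ := Submodule.Quotient.subsingleton_iff.mp this
    exact LinearMap.range_eq_top.mp hr

end Groth.Agent.S15128
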