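import Groth.Statements.S15129
import Groth.Agent.S15128

set_option autoImplicit false
universe u v w
open CAlg

namespace Groth.Agent.S15129

open TensorProduct

/-- If `0 → M → N → P → 0` is exact with `P` flat, then `T ⊗ M → T ⊗ N` is injective for
every module `T`. -/
theorem lTensor_injective_of_flat_quotient {A : Type u} [CommRing A]
    {M N P : Type v} [AddCommGroup M] [Module A M] [AddCommGroup N] [Module A N]
    [AddCommGroup P] [Module A P] (f : M →ₗ[A] N) (g : N →ₗ[A] P)
    (hex : Function.Exact f g) (hsurj : Function.Surjective g) (hinj : Function.Injective f)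
    [Module.Flat A P] (T : Type w) [AddCommGroup T] [Module A T] :
    Function.Injective (f.lTensor T) := by
  let π : (T →₀ A) →ₗ[A] T := Finsupp.linearCombination A id
  have hπ : Function.Surjective π := Finsupp.linearCombination_id_surjective A T
  refine lTensor_injective_of_exact_of_exact_of_rTensor_injective
    (M₁ := LinearMap.ker π) (M₂ := T →₀ A) (M₃ := T) (f₁ := (LinearMap.ker π).subtype) (f₂ := π)
    (g₁ := f) (g₂ := g) (LinearMap.exact_subtype_ker_map π) hπ hex hsurj ?_ ?_
  · exact Module.Flat.rTensor_preserves_injective_linearMap _ (Submodule.injective_subtype _)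
  · exact Module.Flat.lTensor_preserves_injective_linearMap f hinj

theorem result
    (A : Type u) [CommRing A] [IsLocalRing A] [IsArtinianRing A]
    (M N P : Type v) [AddCommGroup M] [Module A M] [AddCommGroup N] [Module A N]
    [AddCommGroup P] [Module A P] [Module.Flat A N] (f : M →ₗ[A] N) (g : N →ₗ[A] P)
    (hf : Function.Injective f) (hg : Function.Surjective g) (hfg : Function.Exact f g) :
    (Function.Injective (f.lTensor (IsLocalRing.ResidueField A)) → Module.Flat A P) ∧
    (Module.Flat A P → Module.Flat A M ∧ Function.Injective (f.lTensor (IsLocalRing.ResidueField A))) := by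
  constructor
  · intro hk
    rw [Module.Flat.iff_lTensor_injective']
    intro I
    have hfl : IsFiniteLength A (A ⧸ I) :=
      (Groth.Agent.S15128.isFiniteLength_self A).of_surjective (f := I.mkQ) I.mkQ_surjective
    have h1 : Function.Injective (f.lTensor (A ⧸ I)) := Groth.Agent.S15128.key f hk hfl
    rw [LinearMap.lTensor_inj_iff_rTensor_inj] at h1
    exact lTensor_injective_of_exact_of_exact_of_rTensor_injective
      (f₁ := f) (f₂ := g) (g₁ := I.subtype) (g₂ := I.mkQ) hfg hg
      (LinearMap.exact_subtype_mkQ I) I.mkQ_surjective h1
      (Module.Flat.lTensor_preserves_injective_linearMap _ I.injective_subtype)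
  · intro hP
    refine ⟨?_, lTensor_injective_of_flat_quotient f g hfg hg hf _⟩
    rw [Module.Flat.iff_lTensor_injective']
    intro I
    have h1 : Function.Injective (f.lTensor I) := lTensor_injective_of_flat_quotient f g hfg hg hf I
    rw [LinearMap.lTensor_inj_iff_rTensor_inj] at h1
    rw [injective_iff_map_eq_zero]
    intro x hx
    apply h1
    apply Module.Flat.lTensor_preserves_injective_linearMap (M := N) _ I.injective_subtype
    rw [map_zero, map_zero, ← LinearMap.comp_apply, LinearMap.lTensor_comp_rTensor,
      ← LinearMap.rTensor_comp_lTensor, LinearMap.comp_apply, hx, map_zero]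

end Groth.Agent.S15129
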