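import Groth.Statements.S15130
import Groth.Agent.H57.NilInj
import Mathlib.RingTheory.Artinian.Ring

set_option autoImplicit false
universe u v
open CAlg

namespace Groth.Agent.S15130

/-- Let A be an Artinian local ring with residue field k and P → Q → R → M → 0 a complex of A-modules
with P, Q, R flat which is exact at R and at M. If the reduced complex k ⊗ P → k ⊗ Q → k ⊗ R is
exact (the rest of the reduced sequence is then automatically exact), then M is flat and the
original complex is exact at Q as well. (The published statement is for local Artinian algebras over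
an algebraically closed field of characteristic zero having that field as residue field; this row
allows any Artinian local ring.) -/
theorem result
    (A : Type u) [CommRing A] [IsLocalRing A] [IsArtinianRing A]
    (P Q R M : Type v) [AddCommGroup P] [Module A P] [AddCommGroup Q] [Module A Q]
    [AddCommGroup R] [Module A R] [AddCommGroup M] [Module A M]
    [Module.Flat A P] [Module.Flat A Q] [Module.Flat A R]
    (f : P →ₗ[A] Q) (g : Q →ₗ[A] R) (h : R →ₗ[A] M)
    (hfg : g ∘ₗ f = 0) (hgh : Function.Exact g h) (hh : Function.Surjective h)
    (hred : Function.Exact (f.lTensor (IsLocalRing.ResidueField A)) (g.lTensor (IsLocalRing.ResidueField A))) :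
    Module.Flat A M ∧ Function.Exact f g := by
  have hnil : IsNilpotent (IsLocalRing.maximalIdeal A) := by
    have h0 := IsArtinianRing.isNilpotent_jacobson_bot (R := A)
    rwa [IsLocalRing.jacobson_eq_maximalIdeal ⊥ bot_ne_top] at h0
  have hle : LinearMap.range f ≤ LinearMap.ker g := by
    rw [LinearMap.range_le_ker_iff]
    exact hfg
  have hres : Function.Injective (LinearMap.lTensor (IsLocalRing.ResidueField A)
      ((LinearMap.range f).liftQ g hle)) := by
    rw [injective_iff_map_eq_zero]
    intro z hz
    obtain ⟨y, rfl⟩ := LinearMap.lTensor_surjective (IsLocalRing.ResidueField A)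
      (Submodule.mkQ_surjective (LinearMap.range f)) z
    have h1 : LinearMap.lTensor (IsLocalRing.ResidueField A) g y = 0 := by
      rw [← hz, ← LinearMap.comp_apply, ← LinearMap.lTensor_comp, Submodule.liftQ_mkQ]
    obtain ⟨p, rfl⟩ := (hred y).mp h1
    rw [← LinearMap.comp_apply, ← LinearMap.lTensor_comp, LinearMap.range_mkQ_comp,
      LinearMap.lTensor_zero, LinearMap.zero_apply]
  obtain ⟨hinj, hflat⟩ := Groth.Agent.H57.injective_and_flat_coker_of_nilpotent hnil
    ((LinearMap.range f).liftQ g hle) hres
  constructor
  · have hr : LinearMap.range ((LinearMap.range f).liftQ g hle) = LinearMap.ker h := by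
      rw [Submodule.range_liftQ]
      exact (LinearMap.exact_iff.mp hgh).symm
    haveI := hflat
    exact Module.Flat.of_linearEquiv ((h.quotKerEquivOfSurjective hh).symm ≪≫ₗ
      Submodule.quotEquivOfEq _ _ hr.symm)
  · intro y
    constructor
    · intro hy
      have h1 : (LinearMap.range f).mkQ y = 0 := by
        apply hinj
        rw [map_zero, Submodule.mkQ_apply, Submodule.liftQ_apply]
        exact hy
      exact (Submodule.Quotient.mk_eq_zero _).mp h1
    · rintro ⟨p, rfl⟩
      exact LinearMap.congr_fun hfg p

end Groth.Agent.S15130
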