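import Groth.Statements.S15131
import Groth.Agent.H61.ArtSmoothComp

set_option autoImplicit false
universe u v
open CategoryTheory
open ArtFun

namespace Groth.Agent.S15131

/-- Let k be a field and F a functor on local Artinian k-algebras with residue field k with F(k) a
single point, satisfying (H1) (the comparison map of A₁ ×_A A₂ is surjective when A₂ → A is a small
extension) and (H2) (it is bijective when A = k and A₂ = k[ε]). If the tangent space F(k[ε]) is a
single point then F is the one-point functor: every F(A) has exactly one element. (The converse is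
clear.) -/
theorem result
    {k : Type u} [Field k] (F : ArtFun.Art k k ⥤ Type v)
    (h0 : ArtFun.H0 F) (h1 : ArtFun.Hbar F) (h2 : ArtFun.Heps F)
    (ht : Subsingleton (ArtFun.TangentSpace F)) (A : ArtFun.Art k k) :
    Nonempty (F.obj A) ∧ Subsingleton (F.obj A) := by
  constructor
  · obtain ⟨x₀⟩ := h0.1
    let σ : ArtFun.Art.base k k ⟶ A :=
      ⟨Algebra.ofId k A, AlgHom.ext fun c => A.res.commutes (show k from c)⟩
    exact ⟨F.map σ x₀⟩
  · let H : ArtFun.Art k k ⥤ Type v := (Functor.const _).obj PUnit
    let ψ : F ⟶ H := { app := fun _ => TypeCat.ofHom (fun _ => PUnit.unit), naturality := by intros; rfl }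
    have hH : ArtFun.HSq H := by
      intro B A A' p₁ p₂ f h _
      constructor
      · intro a b _
        exact Subsingleton.elim (α := PUnit) a b
      · rintro ⟨⟨a, b⟩, hab⟩
        exact ⟨PUnit.unit, Subtype.ext (Prod.ext (Subsingleton.elim (α := PUnit) _ _)
          (Subsingleton.elim (α := PUnit) _ _))⟩
    have hψ : Function.Injective (ψ.app (ArtFun.Art.dual k k)) := fun a b _ =>
      @Subsingleton.elim _ ht a b
    have hinj := Groth.Agent.H61.app_injective_of_tangent_injective ψ h0 h1 h2 hH hψ A
    exact ⟨fun a b => hinj (Subsingleton.elim (α := PUnit) _ _)⟩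

end Groth.Agent.S15131
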