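import Groth.Statements.S15133
import Groth.Agent.H2.ComplexFlatNilp

set_option autoImplicit false
universe u
open CategoryTheory
open CAlg

namespace Groth.Agent.S15133

/-- Let A be an Artinian local ring with residue field k, n ≥ 1, and 0 → I → P₀ → P₁ → ⋯ → Pₙ a complex
of A-modules with P₀, …, Pₙ flat whose reduction 0 → k ⊗ I → k ⊗ P₀ → ⋯ → k ⊗ Pₙ is exact. Then I
and coker(Pₙ₋₁ → Pₙ) are flat. The complex is written as a cochain complex C indexed by ℕ with C⁰ =
I and Cⁱ⁺¹ = Pᵢ; its terms in degrees above n + 1 play no role. (The published statement adds that I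
maps onto the kernel of k ⊗ P₀ → k ⊗ P₁, which is already part of the exactness hypothesis, and is
for local Artinian algebras over an algebraically closed field of characteristic zero having that
field as residue field; this row allows any Artinian local ring.) -/
theorem result
    (A : Type u) [CommRing A] [IsLocalRing A] [IsArtinianRing A] (n : ℕ) (hn : 0 < n)
    (C : CochainComplex (ModuleCat.{u} A) ℕ)
    (hflat : ∀ i, i ≤ n → Module.Flat A (C.X (i + 1)))
    (hred : ∀ j, j ≤ n →
      (((MonoidalCategory.tensorLeft (ModuleCat.of A (IsLocalRing.ResidueField A))).mapHomologicalComplex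
        (ComplexShape.up ℕ)).obj C).ExactAt j) :
    Module.Flat A (C.X 0) ∧ Module.Flat A (C.X (n + 1) ⧸ LinearMap.range (C.d n (n + 1)).hom) := by
  obtain ⟨k, hk⟩ : ∃ k, IsLocalRing.maximalIdeal A ^ k = ⊥ := by
    have h := IsArtinianRing.isNilpotent_jacobson_bot (R := A)
    rw [IsLocalRing.jacobson_eq_maximalIdeal ⊥ bot_ne_top] at h
    obtain ⟨k, hk⟩ := h
    exact ⟨k, by rwa [Ideal.zero_eq_bot] at hk⟩
  constructor
  · have := hflat 0 (Nat.zero_le n)
    obtain ⟨h1, h2⟩ := Groth.Agent.H2.cochain_exact_and_flat_nilp k hk C 0 0 (by simp)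
      (hred 0 (Nat.zero_le n))
    have hinj : Function.Injective (C.d 0 (0 + 1)).hom := by
      rw [← LinearMap.ker_eq_bot, LinearMap.ker_eq_bot']
      intro y hy
      obtain ⟨w, hw⟩ := h1 y hy
      rw [C.shape 0 0 (by simp)] at hw
      rw [← hw]
      rfl
    exact Groth.Agent.H2.flat_of_injective_of_flat_coker (C.d 0 (0 + 1)).hom hinj
  · have := hflat n le_rfl
    exact (Groth.Agent.H2.cochain_exact_and_flat_nilp k hk C _ n rfl (hred n le_rfl)).2

end Groth.Agent.S15133
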