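import Groth.Statements.S7168
import Mathlib
-- import your own Groth.Agent.* helpers here

set_option autoImplicit false
set_option backward.isDefEq.respectTransparency.types false
universe u
attribute [local instance] HasDerivedCategory.standard
open FlatMor

namespace Groth.Agent.S7168

open CategoryTheory

section algebra

variable {P : Type u} [CommRing P]

/-- kernel of a surjection onto a finite projective module from a finite projective module -/
theorem ker_fin_proj {X K' : Type u} [AddCommGroup X] [Module P X] [AddCommGroup K'] [Module P K']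
    [Module.Finite P X] [Module.Projective P X] [Module.Projective P K']
    (c : X →ₗ[P] K') (hc : Function.Surjective c) :
    Module.Finite P (LinearMap.ker c) ∧ Module.Projective P (LinearMap.ker c) := by
  obtain ⟨s, hs⟩ := Module.projective_lifting_property c LinearMap.id hc
  let r : X →ₗ[P] LinearMap.ker c :=
    (LinearMap.id - s ∘ₗ c).codRestrict (LinearMap.ker c) (fun x => by
      rw [LinearMap.mem_ker, LinearMap.sub_apply, map_sub, LinearMap.id_apply,
        LinearMap.comp_apply]
      have := LinearMap.congr_fun hs (c x)
      rw [LinearMap.comp_apply, LinearMap.id_apply] at this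
      rw [this, sub_self])
  have hr : r ∘ₗ (LinearMap.ker c).subtype = LinearMap.id := by
    ext ⟨x, hx⟩
    rw [LinearMap.mem_ker] at hx
    simp [r, hx]
  have hrs : Function.Surjective r := fun y => ⟨(y : X), LinearMap.congr_fun hr y⟩
  exact ⟨Module.Finite.of_surjective r hrs,
    Module.Projective.of_split (LinearMap.ker c).subtype r hr⟩

variable (E : CochainComplex (ModuleCat.{u} P) ℤ)

/-- The cycles in degree `0` of a bounded above complex of finite free modules, exact in positive
degrees, form a finite projective module. -/
theorem cycles_fin_proj (b : ℤ) (hb : ∀ i : ℤ, b < i → Subsingleton (E.X i))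
    (hff : ∀ i : ℤ, Module.Finite P (E.X i) ∧ Module.Free P (E.X i))
    (hex : ∀ i j k : ℤ, j = i + 1 → k = j + 1 → 0 < j →
      Function.Exact (E.d i j).hom (E.d j k).hom) :
    ∀ (n : ℕ) (i j : ℤ), j = i + 1 → 0 ≤ i → b ≤ i + n →
      Module.Finite P (LinearMap.ker (E.d i j).hom) ∧
        Module.Projective P (LinearMap.ker (E.d i j).hom) := by
  intro n
  induction n with
  | zero =>
    intro i j hj hi hbi
    haveI := (hff i).1
    haveI := (hff i).2
    haveI : Subsingleton (E.X j) := hb j (by omega)
    have htop : LinearMap.ker (E.d i j).hom = ⊤ := by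
      rw [LinearMap.ker_eq_top]
      apply LinearMap.ext
      intro x
      exact Subsingleton.elim _ _
    rw [htop]
    exact ⟨Module.Finite.equiv (Submodule.topEquiv (R := P) (M := E.X i)).symm,
      Module.Projective.of_equiv (Submodule.topEquiv (R := P) (M := E.X i)).symm⟩
  | succ n ih =>
    intro i j hj hi hbi
    haveI := (hff i).1
    haveI := (hff i).2
    obtain ⟨h1, h2⟩ := ih j (j + 1) rfl (by omega) (by push_cast at hbi ⊢; omega)
    have hexact := hex i j (j + 1) hj rfl (by omega)
    let c : E.X i →ₗ[P] LinearMap.ker (E.d j (j + 1)).hom :=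
      (E.d i j).hom.codRestrict _ (fun x => by
        rw [LinearMap.mem_ker]
        exact hexact.apply_apply_eq_zero x)
    have hc : Function.Surjective c := by
      rintro ⟨y, hy⟩
      rw [LinearMap.mem_ker] at hy
      obtain ⟨x, hx⟩ := (hexact y).mp hy
      exact ⟨x, Subtype.ext hx⟩
    have hker : LinearMap.ker (E.d i j).hom = LinearMap.ker c := by
      rw [LinearMap.ker_codRestrict]
    rw [hker]
    exact ker_fin_proj c hc

end algebra

section derived

variable {P : Type u} [CommRing P] (B : Type u) [AddCommGroup B] [Module P B]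
  (E : CochainComplex (ModuleCat.{u} P) ℤ)

/-- the homology of `E` agrees with that of the single complex -/
noncomputable def homIso (e : DRing.toD E ≅ Dual.inD P B) (i : ℤ) :
    E.homology i ≅
      ((CochainComplex.singleFunctor (ModuleCat.{u} P) 0).obj (ModuleCat.of P B)).homology i :=
  ((DerivedCategory.homologyFunctorFactors (ModuleCat.{u} P) i).app E).symm ≪≫
  (DerivedCategory.homologyFunctor _ i).mapIso e ≪≫
  (DerivedCategory.homologyFunctor _ i).mapIso
    ((DerivedCategory.singleFunctorIsoCompQ (ModuleCat.{u} P) 0).app (ModuleCat.of P B)) ≪≫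
  (DerivedCategory.homologyFunctorFactors (ModuleCat.{u} P) i).app _

theorem finitePresentation_of_iso (e : DRing.toD E ≅ Dual.inD P B) (b : ℤ)
    (hb : DRing.VanishesAbove E b) (hff : DRing.TermwiseFiniteFree E) :
    Module.FinitePresentation P B := by
  -- exactness away from zero
  have hexAt : ∀ j : ℤ, j ≠ 0 → E.ExactAt j := by
    intro j hj
    rw [HomologicalComplex.exactAt_iff_isZero_homology]
    exact Limits.IsZero.of_iso
      (HomologicalComplex.isZero_single_obj_homology (ComplexShape.up ℤ) 0 (ModuleCat.of P B) j hj)
      (homIso B E e j)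
  have hex : ∀ i j k : ℤ, j = i + 1 → k = j + 1 → 0 < j →
      Function.Exact (E.d i j).hom (E.d j k).hom := by
    intro i j k hj hk hpos
    have h1 := hexAt j (by omega)
    rw [HomologicalComplex.exactAt_iff' E i j k (by simp; omega) (by simp; omega),
      ShortComplex.ShortExact.moduleCat_exact_iff_function_exact] at h1
    exact h1
  have hb' : ∀ i : ℤ, b < i → Subsingleton (E.X i) := fun i hi =>
    ModuleCat.subsingleton_of_isZero (hb i hi)
  obtain ⟨hfin, hproj⟩ := cycles_fin_proj E b hb' hff hex b.toNat 0 1 rfl le_rfl (by
    have := Int.self_le_toNat b; omega)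
  -- homology in degree zero
  let S := E.sc' (-1) 0 1
  have hiso : ModuleCat.of P B ≅ S.moduleCatLeftHomologyData.H :=
    (HomologicalComplex.singleObjHomologySelfIso (ComplexShape.up ℤ) 0 (ModuleCat.of P B)).symm ≪≫
    (homIso B E e 0).symm ≪≫ E.homologyIsoSc' (-1) 0 1 (by simp) (by simp) ≪≫
    S.moduleCatHomologyIso
  haveI : Module.Finite P (LinearMap.ker S.g.hom) := hfin
  haveI : Module.Projective P (LinearMap.ker S.g.hom) := hproj
  haveI : Module.FinitePresentation P (LinearMap.ker S.g.hom) :=
    Module.finitePresentation_of_projective _ _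
  haveI : Module.Finite P S.X₁ := (hff (-1)).1
  have hfp : Module.FinitePresentation P
      (LinearMap.ker S.g.hom ⧸ LinearMap.range S.moduleCatToCycles) := by
    refine Module.finitePresentation_of_surjective
      (LinearMap.range S.moduleCatToCycles).mkQ (Submodule.mkQ_surjective _) ?_
    rw [Submodule.ker_mkQ, LinearMap.range_eq_map]
    exact (Module.Finite.fg_top).map _
  haveI : Module.FinitePresentation P ↑S.moduleCatLeftHomologyData.H := hfp
  exact Module.FinitePresentation.of_equiv hiso.toLinearEquiv.symm

end derived

open AlgebraicGeometry CategoryTheory Limits in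
/-- A pseudo-coherent morphism of schemes is locally of finite presentation. -/
theorem result {X S : Scheme.{u}} (f : X ⟶ S) (hf : MoreMor.IsPseudoCoherentMor f) :
    LocallyOfFinitePresentation f := by
  constructor
  intro U hU V hV e
  have h := hf V U hV hU e
  let _ := (f.appLE U V e).hom.toAlgebra
  obtain ⟨n, φ, hφ, hpc⟩ := h
  let _ := φ.toRingHom.toAlgebra
  obtain ⟨E, b, hb, hff, ⟨eiso⟩⟩ := hpc
  have hfp : Module.FinitePresentation (MvPolynomial (Fin n) Γ(S, U)) Γ(X, V) :=
    finitePresentation_of_iso Γ(X, V) E eiso b hb hff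
  show Algebra.FinitePresentation Γ(S, U) Γ(X, V)
  refine ⟨n, φ, hφ, ?_⟩
  have hker := Module.FinitePresentation.fg_ker
    (Algebra.linearMap (MvPolynomial (Fin n) Γ(S, U)) Γ(X, V)) (by
      intro y; obtain ⟨x, hx⟩ := hφ y; exact ⟨x, hx⟩)
  exact hker

end Groth.Agent.S7168
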