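import Groth.Statements.S1514
import Groth.Agent.H56.KoszPerf
import Groth.Agent.S7168
-- import your own Groth.Agent.* helpers here

set_option autoImplicit false
universe u
attribute [local instance] HasDerivedCategory.standard
open FlatMor

namespace Groth.Agent.S1514

open AlgebraicGeometry CategoryTheory Limits in
/-- A local complete intersection morphism (affine-locally: lci ring maps) is locally of finite
presentation, pseudo-coherent and perfect. -/
theorem result {X S : Scheme.{u}} (f : X ⟶ S)
    (hf : (∀ (U : X.Opens) (V : S.Opens) (hU : IsAffineOpen U) (hV : IsAffineOpen V) (hUV : U ≤ f ⁻¹ᵁ V),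
        letI := (f.appLE V U hUV).hom.toAlgebra
        LCI.IsLCI Γ(S, V) Γ(X, U))) :
    LocallyOfFinitePresentation f ∧ MoreMor.IsPseudoCoherentMor f ∧ MoreMor.IsPerfectMor f := by
  have hPP : Groth.Agent.H56.PcMor.PP f := by
    rw [HasRingHomProperty.iff_appLE (P := Groth.Agent.H56.PcMor.PP)]
    intro V U e
    letI := (f.appLE V.1 U.1 e).hom.toAlgebra
    exact Groth.Agent.H56.PcMor.qp_of_isLCI Γ(S, V.1) Γ(X, U.1) (hf U.1 V.1 U.2 V.2 e)
  have hP : Groth.Agent.H56.PcMor.P f := by
    rw [HasRingHomProperty.iff_appLE (P := Groth.Agent.H56.PcMor.P)]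
    intro V U e
    have h := (HasRingHomProperty.iff_appLE (P := Groth.Agent.H56.PcMor.PP)).1 hPP V U e
    exact ((Groth.Agent.H56.PcMor.qp_iff _).1 h).1
  have hpc : MoreMor.IsPseudoCoherentMor f := (Groth.Agent.H56.PcMor.isPseudoCoherentMor_iff f).2 hP
  exact ⟨Groth.Agent.S7168.result f hpc, hpc, (Groth.Agent.H56.PcMor.isPerfectMor_iff f).2 hPP⟩

end Groth.Agent.S1514
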