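import Groth.Statements.S15140
import Mathlib
import Groth.Agent.S10881
import Groth.Agent.H54.ZMT

set_option autoImplicit false
set_option linter.style.haveILetI false
set_option linter.unusedSectionVars false
set_option linter.unusedVariables false
universe u
open CategoryTheory CategoryTheory.Limits AlgebraicGeometry
open Models

namespace Groth.Agent.S15140

section Helpers

open TopologicalSpace

/-! ### Ring-level lemmas -/

section RingLemmas

variable (A B : Type u) [CommRing A] [CommRing B] [Algebra A B]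

/-- If `B_p` is free over `A_p` then `B_q` is flat over `A_p` for `q` over `p`. -/
theorem flat_of_mem_freeLocus (R T : Type u) [CommRing R] [CommRing T]
    [Algebra A R] [Algebra B T] [Algebra R T] [Algebra A T]
    [IsScalarTower A R T] [IsScalarTower A B T]
    (P : PrimeSpectrum A) [IsLocalization.AtPrime R P.asIdeal]
    (Q : PrimeSpectrum B) [IsLocalization.AtPrime T Q.asIdeal]
    (hpq : ∀ a : A, a ∉ P.asIdeal → algebraMap A B a ∉ Q.asIdeal)
    (hfree : P ∈ Module.freeLocus A B) : Module.Flat R T := by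
  rw [Module.flat_iff_of_isLocalization R P.asIdeal.primeCompl T]
  have hNq : Algebra.algebraMapSubmonoid B P.asIdeal.primeCompl ≤ Q.asIdeal.primeCompl := by
    rintro _ ⟨a, ha, rfl⟩
    exact hpq a ha
  haveI hfree' : Module.Free (Localization.AtPrime P.asIdeal)
      (Localization (Algebra.algebraMapSubmonoid B P.asIdeal.primeCompl)) :=
    (Module.mem_freeLocus_of_isLocalization P (Localization.AtPrime P.asIdeal)
      (Localization (Algebra.algebraMapSubmonoid B P.asIdeal.primeCompl))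
      (IsScalarTower.toAlgHom A B
        (Localization (Algebra.algebraMapSubmonoid B P.asIdeal.primeCompl))).toLinearMap).mp hfree
  haveI hfl1 : Module.Flat (Localization.AtPrime P.asIdeal)
      (Localization (Algebra.algebraMapSubmonoid B P.asIdeal.primeCompl)) := inferInstance
  haveI hfl2 : Module.Flat A (Localization (Algebra.algebraMapSubmonoid B P.asIdeal.primeCompl)) :=
    (Module.flat_iff_of_isLocalization (Localization.AtPrime P.asIdeal) P.asIdeal.primeCompl
      (Localization (Algebra.algebraMapSubmonoid B P.asIdeal.primeCompl))).mp hfl1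
  have hunits : ∀ y : Algebra.algebraMapSubmonoid B P.asIdeal.primeCompl,
      IsUnit (algebraMap B T (y : B)) := fun y =>
    IsLocalization.map_units T (⟨y.1, hNq y.2⟩ : Q.asIdeal.primeCompl)
  letI algLT : Algebra (Localization (Algebra.algebraMapSubmonoid B P.asIdeal.primeCompl)) T :=
    (IsLocalization.lift (M := Algebra.algebraMapSubmonoid B P.asIdeal.primeCompl)
      (S := Localization (Algebra.algebraMapSubmonoid B P.asIdeal.primeCompl))
      (g := algebraMap B T) hunits).toAlgebra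
  haveI tw1 : IsScalarTower B (Localization (Algebra.algebraMapSubmonoid B P.asIdeal.primeCompl)) T :=
    IsScalarTower.of_algebraMap_eq (fun b => (IsLocalization.lift_eq hunits b).symm)
  haveI tw2 : IsScalarTower A (Localization (Algebra.algebraMapSubmonoid B P.asIdeal.primeCompl)) T := by
    refine IsScalarTower.of_algebraMap_eq (fun a => ?_)
    rw [IsScalarTower.algebraMap_apply A B T,
      IsScalarTower.algebraMap_apply B
        (Localization (Algebra.algebraMapSubmonoid B P.asIdeal.primeCompl)) T,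
      ← IsScalarTower.algebraMap_apply A B
        (Localization (Algebra.algebraMapSubmonoid B P.asIdeal.primeCompl))]
  haveI loc2 : IsLocalization (Submonoid.map
      (algebraMap B (Localization (Algebra.algebraMapSubmonoid B P.asIdeal.primeCompl)))
      Q.asIdeal.primeCompl) T :=
    IsLocalization.isLocalization_of_submonoid_le
      (Localization (Algebra.algebraMapSubmonoid B P.asIdeal.primeCompl)) T
      (Algebra.algebraMapSubmonoid B P.asIdeal.primeCompl) Q.asIdeal.primeCompl hNq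
  haveI hfl3 : Module.Flat (Localization (Algebra.algebraMapSubmonoid B P.asIdeal.primeCompl)) T :=
    IsLocalization.flat T (Submonoid.map
      (algebraMap B (Localization (Algebra.algebraMapSubmonoid B P.asIdeal.primeCompl)))
      Q.asIdeal.primeCompl)
  exact Module.Flat.trans A (Localization (Algebra.algebraMapSubmonoid B P.asIdeal.primeCompl)) T

variable [IsDomain A] [IsDomain B] [IsNoetherianRing A] [IsIntegrallyClosed A] [Module.Finite A B]

/-- Primes of height `≤ 1` of a normal Noetherian domain lie in the free locus of a finite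
torsion-free algebra. -/
theorem mem_freeLocus_of_height_le_one (hinj : Function.Injective (algebraMap A B))
    (P : PrimeSpectrum A) (hht : P.asIdeal.height ≤ 1) : P ∈ Module.freeLocus A B := by
  rw [Module.mem_freeLocus_of_isLocalization P (Localization.AtPrime P.asIdeal)
    (Localization (Algebra.algebraMapSubmonoid B P.asIdeal.primeCompl))
    (IsScalarTower.toAlgHom A B
      (Localization (Algebra.algebraMapSubmonoid B P.asIdeal.primeCompl))).toLinearMap]
  have hle : P.asIdeal.primeCompl ≤ nonZeroDivisors A := by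
    intro a ha
    exact mem_nonZeroDivisors_of_ne_zero (fun h0 => ha (h0 ▸ P.asIdeal.zero_mem))
  have hic : IsIntegrallyClosed (Localization.AtPrime P.asIdeal) :=
    isIntegrallyClosed_of_isLocalization (Localization.AtPrime P.asIdeal) P.asIdeal.primeCompl hle
  have hN : Algebra.algebraMapSubmonoid B P.asIdeal.primeCompl ≤ nonZeroDivisors B := by
    rintro _ ⟨a, ha, rfl⟩
    refine mem_nonZeroDivisors_of_ne_zero (fun h0 => ha ?_)
    have h1 : a = 0 := hinj (h0.trans (map_zero _).symm)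
    exact h1 ▸ P.asIdeal.zero_mem
  haveI : IsDomain (Localization (Algebra.algebraMapSubmonoid B P.asIdeal.primeCompl)) :=
    IsLocalization.isDomain_of_le_nonZeroDivisors
      (Localization (Algebra.algebraMapSubmonoid B P.asIdeal.primeCompl)) hN
  have hinj' : Function.Injective (algebraMap (Localization.AtPrime P.asIdeal)
      (Localization (Algebra.algebraMapSubmonoid B P.asIdeal.primeCompl))) :=
    localizationAlgebra_injective (M := P.asIdeal.primeCompl) (Localization.AtPrime P.asIdeal)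
      (Localization (Algebra.algebraMapSubmonoid B P.asIdeal.primeCompl)) hinj
  haveI : Ring.KrullDimLE 1 (Localization.AtPrime P.asIdeal) := by
    rw [Ring.krullDimLE_iff,
      IsLocalization.AtPrime.ringKrullDim_eq_height P.asIdeal (Localization.AtPrime P.asIdeal)]
    exact_mod_cast hht
  have hd1 : Ring.DimensionLEOne (Localization.AtPrime P.asIdeal) :=
    ⟨fun hp hp' => Ring.krullDimLE_one_iff_of_noZeroDivisors.mp ‹_› _ hp hp'⟩
  have hdom : IsDomain (Localization.AtPrime P.asIdeal) := inferInstance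
  have hnoeth : IsNoetherianRing (Localization.AtPrime P.asIdeal) := inferInstance
  haveI : IsDedekindDomain (Localization.AtPrime P.asIdeal) := { hdom, hnoeth, hd1, hic with }
  haveI : Module.Flat (Localization.AtPrime P.asIdeal)
      (Localization (Algebra.algebraMapSubmonoid B P.asIdeal.primeCompl)) := by
    rw [IsDedekindDomain.flat_iff_torsion_eq_bot, eq_bot_iff]
    rintro m ⟨⟨r, hr⟩, hrm⟩
    have hr0 : r ≠ 0 := nonZeroDivisors.ne_zero hr
    have h5 : algebraMap (Localization.AtPrime P.asIdeal)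
        (Localization (Algebra.algebraMapSubmonoid B P.asIdeal.primeCompl)) r * m = 0 := by
      rw [← Algebra.smul_def]
      exact hrm
    rcases mul_eq_zero.mp h5 with h | h
    · exact absurd (hinj' (h.trans (map_zero _).symm)) hr0
    · simpa using h
  exact Module.free_of_flat_of_isLocalRing

omit [IsDomain A] [IsDomain B] [IsIntegrallyClosed A] [Module.Finite A B] [Algebra A B] in
/-- A closed subset of the spectrum of a Noetherian ring consisting of maximal ideals is finite. -/
theorem finite_of_isClosed_of_isMaximal (C : Set (PrimeSpectrum A)) (hC : IsClosed C)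
    (hmax : ∀ P ∈ C, P.asIdeal.IsMaximal) : C.Finite := by
  obtain ⟨I, rfl⟩ := (PrimeSpectrum.isClosed_iff_zeroLocus_ideal C).mp hC
  have hfin := Ideal.finite_minimalPrimes_of_isNoetherianRing A I
  refine (hfin.preimage (f := PrimeSpectrum.asIdeal)
    (fun a _ b _ h => PrimeSpectrum.ext h)).subset ?_
  intro P hP
  have hIP : I ≤ P.asIdeal := (PrimeSpectrum.mem_zeroLocus _ _).mp hP
  haveI := P.isPrime
  obtain ⟨Q, hQ, hQP⟩ := Ideal.exists_minimalPrimes_le hIP
  have hQprime : Q.IsPrime := hQ.1.1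
  have hQmem : (⟨Q, hQprime⟩ : PrimeSpectrum A) ∈ PrimeSpectrum.zeroLocus (I : Set A) :=
    (PrimeSpectrum.mem_zeroLocus _ _).mpr hQ.1.2
  have hQmax : Q.IsMaximal := hmax _ hQmem
  have hQeq : Q = P.asIdeal := hQmax.eq_of_le P.isPrime.ne_top hQP
  show P.asIdeal ∈ I.minimalPrimes
  rw [← hQeq]
  exact hQ

/-- The complement of the free locus is finite in dimension `≤ 2`. -/
theorem finite_compl_freeLocus (hinj : Function.Injective (algebraMap A B))
    (hdim : ringKrullDim A ≤ 2) : ((Module.freeLocus A B)ᶜ).Finite := by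
  haveI : Module.FinitePresentation A B := Module.finitePresentation_of_finite A B
  refine finite_of_isClosed_of_isMaximal A _ (Module.isOpen_freeLocus).isClosed_compl ?_
  intro P hP
  haveI := P.isPrime
  have h2 : ¬ P.asIdeal.height ≤ 1 := fun h => hP (mem_freeLocus_of_height_le_one A B hinj P h)
  obtain ⟨m, hm, hPm⟩ := Ideal.exists_le_maximal P.asIdeal P.isPrime.ne_top
  by_contra hnm
  have hlt : P.asIdeal < m := lt_of_le_of_ne hPm (fun h => hnm (h ▸ hm))
  haveI := hm.isPrime
  have h3 : P.asIdeal.height + 1 ≤ m.height := Ideal.height_add_one_le_of_lt_of_isPrime hlt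
  have h4 : (m.height : WithBot ℕ∞) ≤ 2 :=
    (Ideal.height_le_ringKrullDim_of_ne_top hm.ne_top).trans hdim
  have h5 : m.height ≤ 2 :=
    WithBot.coe_le_coe.mp (show ((m.height : ℕ∞) : WithBot ℕ∞) ≤ ((2 : ℕ∞) : WithBot ℕ∞) from h4)
  have hmne : m.height ≠ ⊤ := ne_top_of_le_ne_top (by simp) h5
  obtain ⟨b, hb⟩ := ENat.ne_top_iff_exists.mp hmne
  have hPne : P.asIdeal.height ≠ ⊤ :=
    ne_top_of_le_ne_top hmne (le_self_add.trans h3)
  obtain ⟨a, ha⟩ := ENat.ne_top_iff_exists.mp hPne
  rw [← ha] at h2 h3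
  rw [← hb] at h3 h5
  have h2' : ¬ a ≤ 1 := by exact_mod_cast h2
  have h3' : a + 1 ≤ b := by exact_mod_cast h3
  have h5' : b ≤ 2 := by exact_mod_cast h5
  omega

/-- Going-down gives `dim A_p ≤ dim B_q` for `q` over `p`. -/
theorem dim_le_of_goingDown (R T : Type u) [CommRing R] [CommRing T] [Algebra A R] [Algebra B T]
    (hinj : Function.Injective (algebraMap A B))
    (P : PrimeSpectrum A) [IsLocalization.AtPrime R P.asIdeal]
    (Q : PrimeSpectrum B) [IsLocalization.AtPrime T Q.asIdeal]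
    (hcomap : Q.asIdeal.comap (algebraMap A B) = P.asIdeal) :
    ringKrullDim R ≤ ringKrullDim T := by
  haveI : FaithfulSMul A B := (faithfulSMul_iff_algebraMap_injective A B).mpr hinj
  haveI : Algebra.IsIntegral A B := Algebra.IsIntegral.of_finite A B
  haveI : IsNoetherianRing B := Algebra.FiniteType.isNoetherianRing A B
  haveI : Q.asIdeal.LiesOver P.asIdeal := ⟨hcomap.symm⟩
  rw [IsLocalization.AtPrime.ringKrullDim_eq_height P.asIdeal R,
    IsLocalization.AtPrime.ringKrullDim_eq_height Q.asIdeal T,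
    Ideal.height_eq_height_add_of_liesOver_of_hasGoingDown P.asIdeal Q.asIdeal]
  exact_mod_cast le_self_add

end RingLemmas

theorem enat_le_one_of_not_two_le (c : ℕ∞) (h : ¬ (2 : ℕ∞) ≤ c) : c ≤ 1 := by
  have hlt : c < 2 := not_le.mp h
  have hne : c ≠ ⊤ := ne_top_of_lt hlt
  obtain ⟨n, rfl⟩ := ENat.ne_top_iff_exists.mp hne
  have h1 : n < 2 := by exact_mod_cast hlt
  have h2 : n ≤ 1 := by omega
  exact_mod_cast h2

/-! ### Scheme-level lemmas -/

theorem coheight_le_dim (Y : Scheme.{u}) (y : Y) :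
    (Order.coheight y : WithBot ℕ∞) ≤ topologicalKrullDim Y := by
  refine (Order.coheight_le_krullDim y).trans ?_
  unfold topologicalKrullDim
  refine Order.krullDim_le_of_strictMono (fun a : Y =>
    (⟨closure {a}, isIrreducible_singleton.closure, isClosed_closure⟩ :
      TopologicalSpace.IrreducibleCloseds Y)) ?_
  intro a b hab
  have h1 : b ⤳ a := hab.le
  refine lt_of_le_of_ne (specializes_iff_closure_subset.mp h1) ?_
  intro h
  have h3 : closure {a} = closure {b} :=
    congrArg (fun Z : TopologicalSpace.IrreducibleCloseds Y => (Z : Set Y)) h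
  exact hab.ne ((inseparable_iff_closure_eq.mpr h3).eq)

theorem isClosed_singleton_of_dim {Y : Scheme.{u}} (hdim : topologicalKrullDim Y = 2) (y : Y)
    (hy : ringKrullDim (Y.presheaf.stalk y) = 2) : IsClosed ({y} : Set Y) := by
  rw [← closure_eq_iff_isClosed]
  refine Set.Subset.antisymm ?_ subset_closure
  intro y' hy'
  have hsp : y ⤳ y' := specializes_iff_mem_closure.mpr hy'
  by_contra hne
  have hne' : y' ≠ y := hne
  have hlt : y' < y := by
    refine lt_iff_le_not_ge.mpr ⟨hsp, ?_⟩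
    intro hge
    exact hne' ((inseparable_iff_specializes_and.mpr ⟨hge, hsp⟩).eq)
  have h1 := Order.coheight_add_one_le hlt
  have h2 : (Order.coheight y' : WithBot ℕ∞) ≤ 2 := hdim ▸ coheight_le_dim Y y'
  have h3 : (Order.coheight y : WithBot ℕ∞) = 2 := by
    rw [← ringKrullDim_stalk_eq_coheight]; exact hy
  have h2' : Order.coheight y' ≤ 2 :=
    WithBot.coe_le_coe.mp (show ((Order.coheight y' : ℕ∞) : WithBot ℕ∞) ≤ ((2 : ℕ∞) : WithBot ℕ∞) from h2)
  have h3' : Order.coheight y = 2 :=
    WithBot.coe_injective (show ((Order.coheight y : ℕ∞) : WithBot ℕ∞) = ((2 : ℕ∞) : WithBot ℕ∞) from h3)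
  rw [h3'] at h1
  have h4 : (2 : ℕ∞) + 1 ≤ 2 := h1.trans h2'
  exact absurd h4 (by norm_num)

theorem dim_sections_le {Y : Scheme.{u}} {U : Y.Opens} (hU : IsAffineOpen U) :
    ringKrullDim Γ(Y, U) ≤ topologicalKrullDim Y := by
  rw [← PrimeSpectrum.topologicalKrullDim_eq_ringKrullDim]
  exact (hU.fromSpec.isOpenEmbedding.isInducing).topologicalKrullDim_le

theorem app_injective {X Y : Scheme.{u}} [IsIntegral Y] (f : X ⟶ Y)
    (hinjs : ∀ x : X, Function.Injective (f.stalkMap x).hom) (x : X) {U : Y.Opens}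
    (hx : f.base x ∈ U) : Function.Injective (f.app U).hom := by
  intro a b hab
  apply germ_injective_of_isIntegral (X := Y) (f.base x) hx
  apply hinjs x
  have h1 := Scheme.Hom.germ_stalkMap_apply f U x hx a
  have h2 := Scheme.Hom.germ_stalkMap_apply f U x hx b
  exact h1.trans ((congrArg (fun t => (X.presheaf.germ (f ⁻¹ᵁ U) x hx).hom t) hab).trans h2.symm)

/-- Stalkwise flatness over points of dimension `≤ 1` of a normal scheme. -/
theorem flat_stalk_of_dim_le_one {X Y : Scheme.{u}} [IsLocallyNoetherian Y] (f : X ⟶ Y) (x : X)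
    (hdom : IsDomain (Y.presheaf.stalk (f.base x)))
    (hic : IsIntegrallyClosed (Y.presheaf.stalk (f.base x)))
    (hXdom : IsDomain (X.presheaf.stalk x))
    (hinj : Function.Injective (f.stalkMap x).hom)
    (hdim : ringKrullDim (Y.presheaf.stalk (f.base x)) ≤ 1) : (f.stalkMap x).hom.Flat := by
  haveI : Ring.KrullDimLE 1 (Y.presheaf.stalk (f.base x)) :=
    Ring.krullDimLE_iff.mpr (by exact_mod_cast hdim)
  have hd1 : Ring.DimensionLEOne (Y.presheaf.stalk (f.base x)) :=
    ⟨fun hp hp' => Ring.krullDimLE_one_iff_of_noZeroDivisors.mp ‹_› _ hp hp'⟩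
  have hnoeth : IsNoetherianRing (Y.presheaf.stalk (f.base x)) := inferInstance
  haveI : IsDedekindDomain (Y.presheaf.stalk (f.base x)) := { hdom, hnoeth, hd1, hic with }
  letI alg : Algebra (Y.presheaf.stalk (f.base x)) (X.presheaf.stalk x) :=
    (f.stalkMap x).hom.toAlgebra
  show Module.Flat (Y.presheaf.stalk (f.base x)) (X.presheaf.stalk x)
  rw [IsDedekindDomain.flat_iff_torsion_eq_bot, eq_bot_iff]
  rintro m ⟨⟨r, hr⟩, hrm⟩
  have hr0 : r ≠ 0 := nonZeroDivisors.ne_zero hr
  have h5 : (f.stalkMap x).hom r * m = 0 := by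
    simpa [Submonoid.smul_def, Algebra.smul_def, RingHom.algebraMap_toAlgebra] using hrm
  rcases mul_eq_zero.mp h5 with h | h
  · exact absurd (hinj (h.trans (map_zero _).symm)) hr0
  · simpa using h

/-- The local package at a point `x` and an affine open `U ∋ f x`. -/
theorem key {X Y : Scheme.{u}} [IsIntegral X] [IsIntegral Y] [IsLocallyNoetherian Y]
    (f : X ⟶ Y) [IsFinite f] (hnY : Pi1.IsNormalScheme Y)
    (hinjs : ∀ x : X, Function.Injective (f.stalkMap x).hom)
    (x : X) {U : Y.Opens} (hU : IsAffineOpen U) (hx : f.base x ∈ U) :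
    letI : Algebra Γ(Y, U) Γ(X, f ⁻¹ᵁ U) := (f.app U).hom.toAlgebra
    (hU.primeIdealOf ⟨f.base x, hx⟩ ∈ Module.freeLocus Γ(Y, U) Γ(X, f ⁻¹ᵁ U) →
        (f.stalkMap x).hom.Flat) ∧
      ringKrullDim (Y.presheaf.stalk (f.base x)) ≤ ringKrullDim (X.presheaf.stalk x) := by
  have hW : IsAffineOpen (f ⁻¹ᵁ U) := hU.preimage f
  have hxW : x ∈ f ⁻¹ᵁ U := hx
  letI algAB : Algebra Γ(Y, U) Γ(X, f ⁻¹ᵁ U) := (f.app U).hom.toAlgebra
  letI algAR : Algebra Γ(Y, U) (Y.presheaf.stalk (f.base x)) :=
    Y.presheaf.algebra_section_stalk ⟨f.base x, hx⟩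
  letI algBT : Algebra Γ(X, f ⁻¹ᵁ U) (X.presheaf.stalk x) :=
    X.presheaf.algebra_section_stalk ⟨x, hxW⟩
  letI algRT : Algebra (Y.presheaf.stalk (f.base x)) (X.presheaf.stalk x) :=
    (f.stalkMap x).hom.toAlgebra
  letI algAT : Algebra Γ(Y, U) (X.presheaf.stalk x) :=
    ((f.stalkMap x).hom.comp (Y.presheaf.germ U (f.base x) hx).hom).toAlgebra
  haveI : IsScalarTower Γ(Y, U) (Y.presheaf.stalk (f.base x)) (X.presheaf.stalk x) :=
    IsScalarTower.of_algebraMap_eq (fun a => rfl)
  haveI : IsScalarTower Γ(Y, U) Γ(X, f ⁻¹ᵁ U) (X.presheaf.stalk x) :=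
    IsScalarTower.of_algebraMap_eq (fun a => Scheme.Hom.germ_stalkMap_apply f U x hx a)
  haveI : Module.Finite Γ(Y, U) Γ(X, f ⁻¹ᵁ U) := IsFinite.finite_app f U hU
  haveI locT := hW.isLocalization_stalk ⟨x, hxW⟩
  haveI locR := hU.isLocalization_stalk ⟨f.base x, hx⟩
  haveI : IsLocalHom (algebraMap (Y.presheaf.stalk (f.base x)) (X.presheaf.stalk x)) :=
    inferInstanceAs (IsLocalHom (f.stalkMap x).hom)
  haveI : Nonempty U := ⟨⟨f.base x, hx⟩⟩
  haveI : IsDomain Γ(X, f ⁻¹ᵁ U) := @IsIntegral.component_integral X _ (f ⁻¹ᵁ U) ⟨⟨x, hxW⟩⟩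
  haveI : IsNoetherianRing Γ(Y, U) := IsLocallyNoetherian.component_noetherian ⟨U, hU⟩
  haveI : IsIntegrallyClosed Γ(Y, U) :=
    Groth.Agent.H54.isIntegrallyClosed_of_isAffineOpen (fun y => (hnY y).2) hU
  have hinjAB : Function.Injective (algebraMap Γ(Y, U) Γ(X, f ⁻¹ᵁ U)) :=
    app_injective f hinjs x hx
  have hcomap : ∀ a : Γ(Y, U),
      algebraMap Γ(Y, U) Γ(X, f ⁻¹ᵁ U) a ∈ (hW.primeIdealOf ⟨x, hxW⟩).asIdeal ↔
        a ∈ (hU.primeIdealOf ⟨f.base x, hx⟩).asIdeal := by
    intro a
    have e1 := IsLocalization.AtPrime.to_map_mem_maximal_iff (X.presheaf.stalk x)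
      (hW.primeIdealOf ⟨x, hxW⟩).asIdeal (algebraMap Γ(Y, U) Γ(X, f ⁻¹ᵁ U) a)
    have e2 := IsLocalization.AtPrime.to_map_mem_maximal_iff (Y.presheaf.stalk (f.base x))
      (hU.primeIdealOf ⟨f.base x, hx⟩).asIdeal a
    rw [← e1, ← e2, ← IsScalarTower.algebraMap_apply Γ(Y, U) Γ(X, f ⁻¹ᵁ U) (X.presheaf.stalk x),
      IsScalarTower.algebraMap_apply Γ(Y, U) (Y.presheaf.stalk (f.base x)) (X.presheaf.stalk x)]
    simp only [IsLocalRing.mem_maximalIdeal, mem_nonunits_iff, isUnit_map_iff]
  refine ⟨fun hfree => ?_, ?_⟩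
  · exact flat_of_mem_freeLocus Γ(Y, U) Γ(X, f ⁻¹ᵁ U) (Y.presheaf.stalk (f.base x))
      (X.presheaf.stalk x) (hU.primeIdealOf ⟨f.base x, hx⟩) (hW.primeIdealOf ⟨x, hxW⟩)
      (fun a ha h => ha ((hcomap a).mp h)) hfree
  · exact dim_le_of_goingDown Γ(Y, U) Γ(X, f ⁻¹ᵁ U) (Y.presheaf.stalk (f.base x))
      (X.presheaf.stalk x) hinjAB (hU.primeIdealOf ⟨f.base x, hx⟩) (hW.primeIdealOf ⟨x, hxW⟩)
      (Ideal.ext (fun a => hcomap a))

end Helpers


/-- Let R be a discrete valuation ring whose fraction field has characteristic zero and let X and Y be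
relative curves over R: flat, of finite type and separated over Spec R, normal and integral, of
dimension two (pure relative dimension one; properness is not assumed). Let f : X → Y be a finite
surjective morphism over R. Then there is an open subset V ⊆ Y such that the complement of V in Y
and the complement of f⁻¹(V) in X are finite sets of points at which the local rings have Krull
dimension two (closed points of the closed fibres), and f is flat over V. -/
theorem result (R : Type u) [CommRing R] [IsDomain R]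
    [IsDiscreteValuationRing R] [CharZero (FractionRing R)]
    (X Y : Scheme.{u}) (pX : X ⟶ Spec (CommRingCat.of R)) (pY : Y ⟶ Spec (CommRingCat.of R))
    [Flat pX] [LocallyOfFiniteType pX] [QuasiCompact pX] [IsSeparated pX]
    [Flat pY] [LocallyOfFiniteType pY] [QuasiCompact pY] [IsSeparated pY]
    [IsIntegral X] [IsIntegral Y] (hnX : Pi1.IsNormalScheme X) (hnY : Pi1.IsNormalScheme Y)
    (hdX : topologicalKrullDim X = 2) (hdY : topologicalKrullDim Y = 2)
    (f : X ⟶ Y) [IsFinite f] [Surjective f] (hf : f ≫ pY = pX) :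
    ∃ V : Y.Opens, ((V : Set Y)ᶜ).Finite ∧ (∀ y : Y, y ∉ V → ringKrullDim (Y.presheaf.stalk y) = 2) ∧
      (((f ⁻¹ᵁ V : X.Opens) : Set X)ᶜ).Finite ∧ (∀ x : X, x ∉ f ⁻¹ᵁ V → ringKrullDim (X.presheaf.stalk x) = 2) ∧
      Flat (f ∣_ V) := by
  classical
  haveI hYn : IsLocallyNoetherian Y := LocallyOfFiniteType.isLocallyNoetherian pY
  haveI hXn : IsLocallyNoetherian X := LocallyOfFiniteType.isLocallyNoetherian pX
  haveI : CompactSpace Y := (quasiCompact_iff_compactSpace pY).mp inferInstance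
  have hXd : ∀ x : X, IsDomain (X.presheaf.stalk x) := fun x => (hnX x).1
  have hYd : ∀ y : Y, IsDomain (Y.presheaf.stalk y) := fun y => (hnY y).1
  have hinjs : ∀ x : X, Function.Injective (f.stalkMap x).hom := by
    refine Groth.Agent.S10881.stalkMap_injective_of_dom f hXd hYd ?_
    intro Z hZ
    rw [irreducibleComponents_eq_singleton, Set.mem_singleton_iff] at hZ
    subst hZ
    rw [Set.image_univ, (f.surjective).range_eq, closure_univ, irreducibleComponents_eq_singleton]
    rfl
  have hdimY : ∀ y : Y, ringKrullDim (Y.presheaf.stalk y) ≤ 2 := fun y => by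
    rw [ringKrullDim_stalk_eq_coheight, ← hdY]; exact coheight_le_dim Y y
  have hdimX : ∀ x : X, ringKrullDim (X.presheaf.stalk x) ≤ 2 := fun x => by
    rw [ringKrullDim_stalk_eq_coheight, ← hdX]; exact coheight_le_dim X x
  obtain ⟨Z, hZ⟩ : ∃ Z : Set Y, ∀ y, y ∈ Z ↔
      ∃ x : X, f.base x = y ∧ ¬ (f.stalkMap x).hom.Flat :=
    ⟨{y | ∃ x : X, f.base x = y ∧ ¬ (f.stalkMap x).hom.Flat}, fun y => Iff.rfl⟩
  -- points of `Z` have dimension two
  have hZdim : ∀ y ∈ Z, ringKrullDim (Y.presheaf.stalk y) = 2 := by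
    intro y hy
    obtain ⟨x, rfl, hnf⟩ := (hZ y).mp hy
    refine le_antisymm (hdimY _) ?_
    by_contra hlt
    apply hnf
    refine flat_stalk_of_dim_le_one f x (hnY _).1 (hnY _).2 (hXd x) (hinjs x) ?_
    rw [ringKrullDim_stalk_eq_coheight] at hlt ⊢
    have h' : ¬ (2 : ℕ∞) ≤ Order.coheight (f.base x) := fun h =>
      hlt (show ((2 : ℕ∞) : WithBot ℕ∞) ≤ ((Order.coheight (f.base x) : ℕ∞) : WithBot ℕ∞) from
        WithBot.coe_le_coe.mpr h)
    exact (show ((Order.coheight (f.base x) : ℕ∞) : WithBot ℕ∞) ≤ ((1 : ℕ∞) : WithBot ℕ∞) from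
      WithBot.coe_le_coe.mpr (enat_le_one_of_not_two_le _ h'))
  -- local finiteness
  have hZloc : ∀ U : Y.Opens, IsAffineOpen U → (Z ∩ (U : Set Y)).Finite := by
    intro U hU
    rcases (U : Set Y).eq_empty_or_nonempty with hUe | ⟨y0, hy0⟩
    · rw [hUe, Set.inter_empty]; exact Set.finite_empty
    obtain ⟨x0, hx0⟩ := f.surjective y0
    have hx0U : f.base x0 ∈ U := by rw [hx0]; exact hy0
    letI algAB : Algebra Γ(Y, U) Γ(X, f ⁻¹ᵁ U) := (f.app U).hom.toAlgebra
    haveI : Nonempty U := ⟨⟨y0, hy0⟩⟩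
    haveI : IsDomain Γ(X, f ⁻¹ᵁ U) := @IsIntegral.component_integral X _ (f ⁻¹ᵁ U) ⟨⟨x0, hx0U⟩⟩
    haveI : Module.Finite Γ(Y, U) Γ(X, f ⁻¹ᵁ U) := IsFinite.finite_app f U hU
    haveI : IsNoetherianRing Γ(Y, U) := IsLocallyNoetherian.component_noetherian ⟨U, hU⟩
    haveI : IsIntegrallyClosed Γ(Y, U) :=
      Groth.Agent.H54.isIntegrallyClosed_of_isAffineOpen (fun y => (hnY y).2) hU
    have hinjAB : Function.Injective (algebraMap Γ(Y, U) Γ(X, f ⁻¹ᵁ U)) :=
      app_injective f hinjs x0 hx0U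
    have hdimA : ringKrullDim Γ(Y, U) ≤ 2 := hdY ▸ dim_sections_le hU
    have hfin := finite_compl_freeLocus Γ(Y, U) Γ(X, f ⁻¹ᵁ U) hinjAB hdimA
    refine (hfin.image (fun P => hU.fromSpec.base P)).subset ?_
    rintro y ⟨hyZ, hyU⟩
    obtain ⟨x, rfl, hnf⟩ := (hZ y).mp hyZ
    refine ⟨hU.primeIdealOf ⟨f.base x, hyU⟩, ?_, hU.fromSpec_primeIdealOf ⟨f.base x, hyU⟩⟩
    intro hfree
    exact hnf ((key f hnY hinjs x hU hyU).1 hfree)
  have hZfin : Z.Finite := by
    obtain ⟨s, hs, hcov⟩ :=
      (isCompact_iff_finite_and_eq_biUnion_affineOpens (U := (⊤ : Y.Opens))).mp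
        (by rw [TopologicalSpace.Opens.coe_top]; exact isCompact_univ)
    refine (hs.biUnion (fun i _ => hZloc i.1 i.2)).subset ?_
    intro y hy
    have hy' : y ∈ (⨆ i ∈ s, (i : Y.Opens) : Y.Opens) := hcov ▸ (trivial : y ∈ (⊤ : Y.Opens))
    obtain ⟨i, hy''⟩ := TopologicalSpace.Opens.mem_iSup.mp hy'
    obtain ⟨his, hyi⟩ := TopologicalSpace.Opens.mem_iSup.mp hy''
    exact Set.mem_iUnion₂.mpr ⟨i, his, hy, hyi⟩
  have hZcl : IsClosed Z := by
    have hZeq : Z = ⋃ y ∈ Z, ({y} : Set Y) := (Set.biUnion_of_singleton Z).symm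
    rw [hZeq]
    exact hZfin.isClosed_biUnion (fun y hy => isClosed_singleton_of_dim hdY y (hZdim y hy))
  refine ⟨⟨Zᶜ, hZcl.isOpen_compl⟩, ?_, ?_, ?_, ?_, ?_⟩
  · show (Zᶜᶜ).Finite
    rw [compl_compl]
    exact hZfin
  · intro y hy
    have hyZ : y ∈ Z := by
      by_contra h
      exact hy h
    exact hZdim y hyZ
  · refine (hZfin.biUnion (fun y _ => f.finite_preimage_singleton y)).subset ?_
    intro x hx
    have hxZ : f.base x ∈ Z := by
      by_contra h
      exact hx h
    exact Set.mem_iUnion₂.mpr ⟨f.base x, hxZ, rfl⟩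
  · intro x hx
    have hxZ : f.base x ∈ Z := by
      by_contra h
      exact hx h
    obtain ⟨_, ⟨U, hU, rfl⟩, hxU, -⟩ := Y.isBasis_affineOpens.exists_subset_of_mem_open
      (Set.mem_univ (f.base x)) isOpen_univ
    exact le_antisymm (hdimX x)
      ((le_of_eq (hZdim _ hxZ).symm).trans (key f hnY hinjs x hU hxU).2)
  · refine Flat.of_stalkMap _ (fun x' => ?_)
    refine (RingHom.Flat.respectsIso.arrow_mk_iso_iff (morphismRestrictStalkMap f _ x')).mpr ?_
    by_contra hnf
    exact x'.2 ((hZ _).mpr ⟨x'.1, rfl, hnf⟩)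

end Groth.Agent.S15140
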