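import Groth.Statements.S15146
import Mathlib.RingTheory.PowerSeries.Inverse
import Mathlib.Tactic.Ring

set_option autoImplicit false
universe u
open HilbZeta

namespace Groth.Agent.S15146

/-- Let k be a field, s a natural number and R a k-subalgebra of the product of s copies of the power
series ring k[[x]], of finite codimension δ over k and local with residue field k (all components of
an element of R have the same constant term); write v_i for the x-adic order of the i-th component
of an s-tuple, and let c = (c_1, …, c_s) be the conductor exponents, so that an s-tuple f satisfies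
f·g ∈ R for every s-tuple g exactly when v_i(f) ≥ c_i for all i (over an algebraically closed field
such an R is precisely the completed local ring of a reduced curve singularity having s branches
sitting inside its normalisation, δ is its delta invariant and the conductor ideal is generated by
the x_i^{c_i}). If J is an ideal of R of finite colength which contains, for each i, an element f_i
with v_i(f_i) = l_i, then every s-tuple g with v_i(g) ≥ l_i + c_i for all i lies in R and belongs to
J. (The published statement is over an algebraically closed field; this row allows any field.) -/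
theorem result (k : Type u) [Field k] (s : ℕ)
    (R : Subalgebra k (Fin s → PowerSeries k))
    (hfin : Module.Finite k ((Fin s → PowerSeries k) ⧸ Subalgebra.toSubmodule R))
    (hloc : ∀ f ∈ R, ∀ i j : Fin s, PowerSeries.constantCoeff (f i) = PowerSeries.constantCoeff (f j))
    (c : Fin s → ℕ)
    (hc : ∀ f : Fin s → PowerSeries k,
      (∀ g : Fin s → PowerSeries k, g * f ∈ R) ↔ ∀ i, ((c i : ℕ) : ℕ∞) ≤ (f i).order)
    (J : Ideal ↥R) (hJ : Module.Finite k (↥R ⧸ J))
    (l : Fin s → ℕ) (hl : ∀ i : Fin s, ∃ f ∈ J, ((f : Fin s → PowerSeries k) i).order = ((l i : ℕ) : ℕ∞))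
    (g : Fin s → PowerSeries k) (hg : ∀ i : Fin s, ((l i + c i : ℕ) : ℕ∞) ≤ (g i).order) :
    ∃ hgR : g ∈ R, (⟨g, hgR⟩ : ↥R) ∈ J := by
  classical
  have hgR : g ∈ R := by
    have := (hc g).mpr (fun i => le_trans (by exact_mod_cast Nat.le_add_left _ _) (hg i)) 1
    simpa using this
  refine ⟨hgR, ?_⟩
  choose f hfJ hford using hl
  have key : ∀ i, ∃ h : Fin s → PowerSeries k, (∀ j, ((c j : ℕ) : ℕ∞) ≤ (h j).order) ∧
      (∀ j, j ≠ i → h j = 0) ∧ h i * (f i : Fin s → PowerSeries k) i = g i := by
    intro i
    set F := (f i : Fin s → PowerSeries k) i with hF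
    have hF0 : F ≠ 0 := by
      intro h0
      have := hford i
      rw [← hF, h0, PowerSeries.order_zero] at this
      exact ENat.top_ne_coe _ this
    have hu : IsUnit (PowerSeries.divXPowOrder F) := by
      rw [PowerSeries.isUnit_iff_constantCoeff, isUnit_iff_ne_zero]
      exact fun h => hF0 (PowerSeries.constantCoeff_divXPowOrder_eq_zero_iff.mp h)
    obtain ⟨u, hu'⟩ := hu
    have hFeq : (PowerSeries.X : PowerSeries k) ^ (l i) * (↑u : PowerSeries k) = F := by
      have := PowerSeries.X_pow_order_mul_divXPowOrder (f := F)
      rw [hford i] at this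
      simpa [hu'] using this
    obtain ⟨w, hw⟩ : PowerSeries.X ^ (l i + c i) ∣ g i := by
      rw [PowerSeries.X_pow_dvd_iff]
      intro m hm
      exact PowerSeries.coeff_of_lt_order m (lt_of_lt_of_le (by exact_mod_cast hm) (hg i))
    set ui : PowerSeries k := ((u⁻¹ : (PowerSeries k)ˣ) : PowerSeries k) with hui
    have hinv : ui * (↑u : PowerSeries k) = 1 := Units.inv_mul u
    refine ⟨Pi.single i (PowerSeries.X ^ (c i) * w * ui), ?_, ?_, ?_⟩
    · intro j
      by_cases hj : j = i
      · subst hj
        simp only [Pi.single_eq_same]
        calc ((c j : ℕ) : ℕ∞) = (PowerSeries.X ^ c j : PowerSeries k).order :=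
              (PowerSeries.order_X_pow _).symm
          _ ≤ _ := by
              rw [mul_assoc, PowerSeries.order_mul]
              exact le_self_add
      · rw [Pi.single_eq_of_ne hj, PowerSeries.order_zero]
        exact le_top
    · intro j hj
      exact Pi.single_eq_of_ne hj _
    · simp only [Pi.single_eq_same]
      rw [← hFeq, hw]
      calc PowerSeries.X ^ c i * w * ui * (PowerSeries.X ^ l i * (↑u : PowerSeries k))
          = PowerSeries.X ^ (l i + c i) * w * (ui * (↑u : PowerSeries k)) := by ring
        _ = PowerSeries.X ^ (l i + c i) * w := by rw [hinv, mul_one]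
  choose h hh1 hh2 hh3 using key
  have hhR : ∀ i, h i ∈ R := by
    intro i
    have := (hc (h i)).mpr (hh1 i) 1
    simpa using this
  have hsum : (⟨g, hgR⟩ : ↥R) = ∑ i, (⟨h i, hhR i⟩ : ↥R) * f i := by
    apply Subtype.ext
    rw [AddSubmonoidClass.coe_finsetSum]
    funext j
    simp only [Finset.sum_apply, MulMemClass.coe_mul, Pi.mul_apply]
    rw [Finset.sum_eq_single j]
    · exact (hh3 j).symm
    · intro i _ hij
      rw [hh2 i j (Ne.symm hij), zero_mul]
    · intro hj
      exact absurd (Finset.mem_univ j) hj
  rw [hsum]
  exact J.sum_mem (fun i _ => J.mul_mem_left _ (hfJ i))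

end Groth.Agent.S15146
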