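import Groth.Statements.S15148
import Groth.Agent.H75.Branches
import Mathlib.Tactic.Ring

set_option autoImplicit false
universe u
open HilbZeta

namespace Groth.Agent.S15148

/-- Let k be a field, s a natural number and R a k-subalgebra of the product of s copies of the power
series ring k[[x]], of finite codimension δ over k and local with residue field k (all components of
an element of R have the same constant term); write v_i for the x-adic order of the i-th component
of an s-tuple, and let c = (c_1, …, c_s) be the conductor exponents, so that an s-tuple f satisfies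
f·g ∈ R for every s-tuple g exactly when v_i(f) ≥ c_i for all i (over an algebraically closed field
such an R is precisely the completed local ring of a reduced curve singularity having s branches
sitting inside its normalisation, δ is its delta invariant and the conductor ideal is generated by
the x_i^{c_i}), and put C = c_1 + ⋯ + c_s. Let I be an ideal of R of finite colength d with
branch-length vector a (for every i the ideal of k[[x]] generated by the i-th components of the
elements of I is (x^{a_i})). Then −δ ≤ d − Σ a_i ≤ C − δ, and the second inequality is strict when R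
is not the whole product (the singularity is not smooth). (The published statement is over an
algebraically closed field; this row allows any field.) -/
theorem result (k : Type u) [Field k] (s : ℕ)
    (R : Subalgebra k (Fin s → PowerSeries k))
    (hfin : Module.Finite k ((Fin s → PowerSeries k) ⧸ Subalgebra.toSubmodule R))
    (hloc : ∀ f ∈ R, ∀ i j : Fin s, PowerSeries.constantCoeff (f i) = PowerSeries.constantCoeff (f j))
    (c : Fin s → ℕ)
    (hc : ∀ f : Fin s → PowerSeries k,
      (∀ g : Fin s → PowerSeries k, g * f ∈ R) ↔ ∀ i, ((c i : ℕ) : ℕ∞) ≤ (f i).order)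
    (I : Ideal ↥R) (hI : Module.Finite k (↥R ⧸ I)) (a : Fin s → ℕ)
    (ha : (∀ i : Fin s, Ideal.map ((Pi.evalAlgHom k (fun _ : Fin s => PowerSeries k) i).comp R.val) I = Ideal.span {PowerSeries.X ^ (a i)})) :
    (∑ i, a i) ≤ Module.finrank k (↥R ⧸ I) + Module.finrank k ((Fin s → PowerSeries k) ⧸ Subalgebra.toSubmodule R) ∧
    Module.finrank k (↥R ⧸ I) + Module.finrank k ((Fin s → PowerSeries k) ⧸ Subalgebra.toSubmodule R) ≤ (∑ i, a i) + ∑ i, c i ∧
    (R ≠ ⊤ → Module.finrank k (↥R ⧸ I) + Module.finrank k ((Fin s → PowerSeries k) ⧸ Subalgebra.toSubmodule R) < (∑ i, a i) + ∑ i, c i) := by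
  have hIO := Groth.Agent.H75.Branches.finite_quot_imO R I hfin hI
  have hrank := Groth.Agent.H75.Branches.finrank_quot_imO R I hIO
  have h1 : Groth.Agent.H75.Branches.imO R I ≤ Groth.Agent.H75.Branches.aa a := by
    intro x hx
    obtain ⟨y, hy, rfl⟩ := (Groth.Agent.H75.Branches.mem_imO R I).mp hx
    exact Groth.Agent.H75.Branches.mem_aa.mpr fun i =>
      Groth.Agent.H75.Branches.dvd_of_mem R (ha i) hy
  have h2 : Groth.Agent.H75.Branches.aa (fun i => a i + c i) ≤
      Groth.Agent.H75.Branches.imO R I := by
    intro f hf
    have hf' := Groth.Agent.H75.Branches.mem_aa.mp hf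
    rw [← Finset.univ_sum_single f]
    refine Submodule.sum_mem _ fun i _ => ?_
    obtain ⟨y, hy, v, hv, hyv, -⟩ := Groth.Agent.H75.Branches.exists_mem_eq_mul_unit R (ha i)
    obtain ⟨h, hh⟩ := hf' i
    have hh' : f i = PowerSeries.X ^ (a i + c i) * h := hh
    obtain ⟨w, hw⟩ := hv.exists_right_inv
    have hr : Pi.single i (PowerSeries.X ^ c i * (h * w)) ∈ R :=
      Groth.Agent.H75.Branches.single_mem R c hc i (Dvd.intro _ rfl)
    refine (Groth.Agent.H75.Branches.mem_imO R I).mpr
      ⟨⟨_, hr⟩ * y, I.mul_mem_left _ hy, ?_⟩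
    funext l
    change (Pi.single i (PowerSeries.X ^ c i * (h * w)) : Fin s → PowerSeries k) l *
      (y : Fin s → PowerSeries k) l = (Pi.single i (f i) : Fin s → PowerSeries k) l
    by_cases hl : l = i
    · rw [hl, Pi.single_eq_same, Pi.single_eq_same, hyv, hh']
      calc PowerSeries.X ^ c i * (h * w) * (PowerSeries.X ^ a i * v)
          = PowerSeries.X ^ (a i + c i) * h * (v * w) := by ring
        _ = PowerSeries.X ^ (a i + c i) * h := by rw [hw, mul_one]
    · rw [Pi.single_eq_of_ne hl, Pi.single_eq_of_ne hl, zero_mul]
  have e1 := Groth.Agent.H75.Branches.finrank_quot_le_of_le h1 hIO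
  rw [Groth.Agent.H75.Branches.finrank_quot_aa] at e1
  have e2 := Groth.Agent.H75.Branches.finrank_quot_le_of_le h2
    (Groth.Agent.H75.Branches.finite_quot_aa _)
  rw [Groth.Agent.H75.Branches.finrank_quot_aa, Finset.sum_add_distrib] at e2
  refine ⟨by omega, by omega, ?_⟩
  intro hR
  have hex : ∃ i, c i ≠ 0 := by
    by_contra hall
    push Not at hall
    apply hR
    rw [eq_top_iff]
    intro g _
    have := (hc 1).mpr (fun i => by rw [hall i]; simp) g
    rwa [mul_one] at this
  obtain ⟨i0, hi0⟩ := hex
  obtain ⟨y, hy, v, hv, hyv, hnd⟩ := Groth.Agent.H75.Branches.exists_mem_eq_mul_unit R (ha i0)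
  have hx : (y : Fin s → PowerSeries k) ∈ Groth.Agent.H75.Branches.imO R I :=
    (Groth.Agent.H75.Branches.mem_imO R I).mpr ⟨y, hy, rfl⟩
  have hx' : (y : Fin s → PowerSeries k) ∉ Groth.Agent.H75.Branches.aa (fun i => a i + c i) := by
    intro hmem
    apply hnd
    have h3 := Groth.Agent.H75.Branches.mem_aa.mp hmem i0
    exact dvd_trans (pow_dvd_pow PowerSeries.X (by omega : a i0 + 1 ≤ a i0 + c i0)) h3
  have e3 := Groth.Agent.H75.Branches.finrank_quot_lt_of_lt h2
    (Groth.Agent.H75.Branches.finite_quot_aa _) hx hx'
  rw [Groth.Agent.H75.Branches.finrank_quot_aa, Finset.sum_add_distrib] at e3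
  omega

end Groth.Agent.S15148
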