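import Groth.Statements.S15149
import Groth.Agent.H75.Branches2

set_option autoImplicit false
universe u
open HilbZeta

namespace Groth.Agent.S15149

/-- Let k be a field, s a natural number and R a k-subalgebra of the product of s copies of the power
series ring k[[x]], of finite codimension δ over k and local with residue field k (all components of
an element of R have the same constant term); write v_i for the x-adic order of the i-th component
of an s-tuple, and let c = (c_1, …, c_s) be the conductor exponents, so that an s-tuple f satisfies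
f·g ∈ R for every s-tuple g exactly when v_i(f) ≥ c_i for all i (over an algebraically closed field
such an R is precisely the completed local ring of a reduced curve singularity having s branches
sitting inside its normalisation, δ is its delta invariant and the conductor ideal is generated by
the x_i^{c_i}). Fix a branch j, a colength d and a branch-length vector a = (a_1, …, a_s) with a_j ≥
c_j, and let ξ be the s-tuple with x in the j-th place and 1 elsewhere. Call an ideal I of R of type
(d, a) when it has colength d and, for every i, the ideal of k[[x]] generated by the i-th components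
of its elements is (x^{a_i}). Then multiplication by ξ is a bijection from the ideals of type (d, a)
onto the ideals of type (d + 1, a + e_j), where a + e_j is a with its j-th entry raised by one: for
every ideal I of type (d, a) the set ξ·I is (the image of) an ideal of type (d + 1, a + e_j), and
every ideal of type (d + 1, a + e_j) is ξ·I for some ideal I of type (d, a). (The published
statement is the equality, in the Grothendieck ring of varieties, of the classes of the two
corresponding branch-length strata of the punctual Hilbert scheme; this row states the bijection on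
ideals underlying it, which is what the argument establishes; the published statement is over an
algebraically closed field, and this row allows any field.) -/
theorem result (k : Type u) [Field k] (s : ℕ)
    (R : Subalgebra k (Fin s → PowerSeries k))
    (hfin : Module.Finite k ((Fin s → PowerSeries k) ⧸ Subalgebra.toSubmodule R))
    (hloc : ∀ f ∈ R, ∀ i j : Fin s, PowerSeries.constantCoeff (f i) = PowerSeries.constantCoeff (f j))
    (c : Fin s → ℕ)
    (hc : ∀ f : Fin s → PowerSeries k,
      (∀ g : Fin s → PowerSeries k, g * f ∈ R) ↔ ∀ i, ((c i : ℕ) : ℕ∞) ≤ (f i).order)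
    (j : Fin s) (d : ℕ) (a : Fin s → ℕ) (hj : c j ≤ a j) :
    (∀ I ∈ {I : Ideal ↥R | Module.Finite k (↥R ⧸ I) ∧ Module.finrank k (↥R ⧸ I) = d ∧ (∀ i : Fin s, Ideal.map ((Pi.evalAlgHom k (fun _ : Fin s => PowerSeries k) i).comp R.val) I = Ideal.span {PowerSeries.X ^ (a i)})},
      ∃ J ∈ {I : Ideal ↥R | Module.Finite k (↥R ⧸ I) ∧ Module.finrank k (↥R ⧸ I) = d + 1 ∧ (∀ i : Fin s, Ideal.map ((Pi.evalAlgHom k (fun _ : Fin s => PowerSeries k) i).comp R.val) I = Ideal.span {PowerSeries.X ^ ((Function.update a j (a j + 1)) i)})},
        (Subtype.val '' (J : Set ↥R)) = (fun f => Pi.mulSingle j PowerSeries.X * f) '' (Subtype.val '' (I : Set ↥R))) ∧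
    (∀ J ∈ {I : Ideal ↥R | Module.Finite k (↥R ⧸ I) ∧ Module.finrank k (↥R ⧸ I) = d + 1 ∧ (∀ i : Fin s, Ideal.map ((Pi.evalAlgHom k (fun _ : Fin s => PowerSeries k) i).comp R.val) I = Ideal.span {PowerSeries.X ^ ((Function.update a j (a j + 1)) i)})},
      ∃ I ∈ {I : Ideal ↥R | Module.Finite k (↥R ⧸ I) ∧ Module.finrank k (↥R ⧸ I) = d ∧ (∀ i : Fin s, Ideal.map ((Pi.evalAlgHom k (fun _ : Fin s => PowerSeries k) i).comp R.val) I = Ideal.span {PowerSeries.X ^ (a i)})},
        (Subtype.val '' (J : Set ↥R)) = (fun f => Pi.mulSingle j PowerSeries.X * f) '' (Subtype.val '' (I : Set ↥R))) := by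
  constructor
  · rintro I ⟨hIfin, hId, hIa⟩
    have hξ : ∀ f ∈ I, Pi.mulSingle j PowerSeries.X * (f : Fin s → PowerSeries k) ∈ R :=
      fun f hf => Groth.Agent.H75.Branches.mulXi_mem_of R j c hc (a j) hj f
        (Groth.Agent.H75.Branches.dvd_of_mem R (hIa j) hf)
    have P1 : ∀ g ∈ Groth.Agent.H75.Branches.mulXi R j I, ∃ f ∈ I,
        (g : Fin s → PowerSeries k) =
          Pi.mulSingle j PowerSeries.X * (f : Fin s → PowerSeries k) := fun g hg => hg
    have P2 : ∀ f ∈ I, ∃ g ∈ Groth.Agent.H75.Branches.mulXi R j I,
        (g : Fin s → PowerSeries k) =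
          Pi.mulSingle j PowerSeries.X * (f : Fin s → PowerSeries k) :=
      fun f hf => ⟨⟨_, hξ f hf⟩, ⟨f, hf, rfl⟩, rfl⟩
    obtain ⟨hJfin, hJr⟩ := Groth.Agent.H75.Branches.finrank_pair R j I _ P1 P2 hfin hIfin
    refine ⟨Groth.Agent.H75.Branches.mulXi R j I, ⟨hJfin, by rw [hJr, hId], ?_⟩,
      Groth.Agent.H75.Branches.image_eq R j I _ P1 P2⟩
    intro i
    by_cases hij : i = j
    · rw [hij, Function.update_self, Groth.Agent.H75.Branches.map_ev_same R j I _ P1 P2, hIa j,
        Ideal.span_singleton_mul_span_singleton, ← pow_succ']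
    · rw [Function.update_of_ne hij, Groth.Agent.H75.Branches.map_ev_ne R j I _ P1 P2 hij]
      exact hIa i
  · rintro J ⟨hJfin, hJd, hJa⟩
    have hJj := hJa j
    rw [Function.update_self] at hJj
    have hB : ∀ g ∈ J, ∃ f : R, (g : Fin s → PowerSeries k) =
        Pi.mulSingle j PowerSeries.X * (f : Fin s → PowerSeries k) := fun g hg =>
      Groth.Agent.H75.Branches.exists_div R j c hc (a j) hj g
        (Groth.Agent.H75.Branches.dvd_of_mem R hJj hg)
    have P2 : ∀ f ∈ Groth.Agent.H75.Branches.divXi R j J, ∃ g ∈ J,
        (g : Fin s → PowerSeries k) =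
          Pi.mulSingle j PowerSeries.X * (f : Fin s → PowerSeries k) := fun f hf => hf
    have P1 : ∀ g ∈ J, ∃ f ∈ Groth.Agent.H75.Branches.divXi R j J,
        (g : Fin s → PowerSeries k) =
          Pi.mulSingle j PowerSeries.X * (f : Fin s → PowerSeries k) := fun g hg => by
      obtain ⟨f, hf⟩ := hB g hg
      exact ⟨f, ⟨g, hg, hf⟩, hf⟩
    obtain ⟨hIfin, hIr⟩ := Groth.Agent.H75.Branches.finrank_pair' R j _ J P1 P2 hfin hJfin
    refine ⟨Groth.Agent.H75.Branches.divXi R j J, ⟨hIfin, by omega, ?_⟩,
      Groth.Agent.H75.Branches.image_eq R j _ J P1 P2⟩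
    intro i
    by_cases hij : i = j
    · rw [hij]
      have h1 := Groth.Agent.H75.Branches.map_ev_same R j _ J P1 P2
      rw [hJj, pow_succ', ← Ideal.span_singleton_mul_span_singleton] at h1
      exact ((Ideal.span_singleton_mul_right_inj PowerSeries.X_ne_zero).mp h1).symm
    · have h1 := Groth.Agent.H75.Branches.map_ev_ne R j _ J P1 P2 hij
      rw [← h1]
      have h2 := hJa i
      rwa [Function.update_of_ne hij] at h2

end Groth.Agent.S15149
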