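import Groth.Statements.S15150
import Mathlib

set_option autoImplicit false
universe u
open HilbZeta

namespace Groth.Agent.S15150

open TensorProduct

theorem nil_pow_eq_bot (K C : Type u) [Field K] [CommRing C] [Algebra K C] [Module.Finite K C]
    (N : Ideal C) (hN : N ≤ nilradical C) : N ^ (Module.finrank K C) = ⊥ := by
  have hnoeth : IsNoetherianRing C := isNoetherian_of_tower K (inferInstance : IsNoetherian K C)
  have hjac : N ≤ Ideal.jacobson (⊥ : Ideal C) := fun x hx =>
    (Ideal.radical_le_jacobson : (⊥ : Ideal C).radical ≤ _) (hN hx)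
  have key : ∀ i : ℕ, N ^ i = ⊥ ∨
      Module.finrank K ((N ^ i).restrictScalars K) + i ≤ Module.finrank K C := by
    intro i
    induction i with
    | zero =>
      right
      rw [pow_zero, Ideal.one_eq_top, Submodule.restrictScalars_top, finrank_top]
      omega
    | succ i ih =>
      rcases ih with h | h
      · left
        rw [pow_succ, h, Ideal.bot_mul]
      · by_cases hlt : N ^ (i + 1) = N ^ i
        · left
          have hfg : (N ^ i).FG := IsNoetherian.noetherian _
          have hle : N ^ i ≤ N • N ^ i := by
            rw [smul_eq_mul, ← pow_succ', hlt]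
          have h0 := Submodule.eq_bot_of_le_smul_of_le_jacobson_bot N (N ^ i) hfg hle hjac
          rw [pow_succ, h0, Ideal.bot_mul]
        · right
          have hle : N ^ (i + 1) ≤ N ^ i := Ideal.pow_le_pow_right (Nat.le_succ i)
          have hlt' : (N ^ (i + 1)).restrictScalars K < (N ^ i).restrictScalars K := by
            refine lt_of_le_of_ne (fun x hx => hle hx) ?_
            intro heq
            exact hlt ((Submodule.restrictScalars_inj K C C).mp heq)
          have := Submodule.finrank_lt_finrank_of_lt hlt'
          omega
  rcases key (Module.finrank K C) with h | h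
  · exact h
  · have h0 : Module.finrank K ((N ^ Module.finrank K C).restrictScalars K) = 0 := by omega
    have h1 := (Submodule.finrank_eq_zero).mp h0
    rw [eq_bot_iff]
    intro x hx
    have hx' : x ∈ (N ^ Module.finrank K C).restrictScalars K := hx
    rw [h1, Submodule.mem_bot] at hx'
    rw [hx']
    exact Submodule.zero_mem _

theorem aux (A : Type u) [CommRing A] (S : Type u) [CommRing S] [Algebra A S] (π : S →ₐ[A] A)
    (I : Ideal S) (d : ℕ)
    [Module.Finite A (S ⧸ I)] [Module.Projective A (S ⧸ I)]
    (hrank : ∀ p : PrimeSpectrum A, Module.rankAtStalk (R := A) (S ⧸ I) p = d)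
    (hsupp : RingHom.ker π ≤ I.radical) (p : PrimeSpectrum A) (x : S)
    (hx : x ∈ RingHom.ker π ^ d)
    (φ : Module.Dual A (S ⧸ I)) : φ (Ideal.Quotient.mk I x) ∈ p.asIdeal := by
  classical
  let q : PrimeSpectrum p.asIdeal.ResidueField := ⟨⊥, Ideal.isPrime_bot⟩
  have hfr : Module.finrank p.asIdeal.ResidueField (p.asIdeal.ResidueField ⊗[A] (S ⧸ I)) = d := by
    have h1 := Module.rankAtStalk_baseChange (R := A) (M := S ⧸ I)
      (S := p.asIdeal.ResidueField) q
    rw [hrank] at h1
    have h2 : Module.rankAtStalk (R := p.asIdeal.ResidueField)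
        (p.asIdeal.ResidueField ⊗[A] (S ⧸ I)) q
        = Module.finrank p.asIdeal.ResidueField (p.asIdeal.ResidueField ⊗[A] (S ⧸ I)) := by
      simp
    rw [← h2]
    exact h1
  let θ : S →+* p.asIdeal.ResidueField ⊗[A] (S ⧸ I) :=
    (Algebra.TensorProduct.includeRight :
      (S ⧸ I) →ₐ[A] p.asIdeal.ResidueField ⊗[A] (S ⧸ I)).toRingHom.comp (Ideal.Quotient.mk I)
  have hθ : ∀ s, θ s = (1 : p.asIdeal.ResidueField) ⊗ₜ[A] (Ideal.Quotient.mk I s) := fun s => rfl
  have hN : Ideal.map θ (RingHom.ker π) ≤ nilradical (p.asIdeal.ResidueField ⊗[A] (S ⧸ I)) := by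
    rw [Ideal.map_le_iff_le_comap]
    intro t ht
    rw [Ideal.mem_comap, mem_nilradical]
    obtain ⟨n, hn⟩ := hsupp ht
    refine ⟨n, ?_⟩
    rw [← map_pow, hθ, (Ideal.Quotient.eq_zero_iff_mem).mpr hn, TensorProduct.tmul_zero]
  have hpow := nil_pow_eq_bot p.asIdeal.ResidueField (p.asIdeal.ResidueField ⊗[A] (S ⧸ I))
    (Ideal.map θ (RingHom.ker π)) hN
  rw [hfr] at hpow
  have hθx : θ x = 0 := by
    have h1 : θ x ∈ Ideal.map θ (RingHom.ker π ^ d) := Ideal.mem_map_of_mem θ hx
    rw [Ideal.map_pow, hpow] at h1
    exact (Submodule.mem_bot _).mp h1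
  have hL : ((TensorProduct.rid A p.asIdeal.ResidueField).toLinearMap ∘ₗ
      (φ.lTensor p.asIdeal.ResidueField)) (θ x)
      = algebraMap A p.asIdeal.ResidueField (φ (Ideal.Quotient.mk I x)) := by
    rw [hθ]
    simp [Algebra.algebraMap_eq_smul_one]
  rw [hθx, map_zero] at hL
  exact Ideal.algebraMap_residueField_eq_zero.mp hL.symm


/-- Let A be a reduced commutative ring, S an A-algebra together with an A-algebra homomorphism π : S →
A (a section of Spec S → Spec A), with kernel m, and I an ideal of S such that S/I is a finite
projective A-module of constant rank d and m is contained in the radical of I (the finite flat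
subscheme Spec S/I of degree d lies, as a set, on the section). Then m^d ⊆ I: the subscheme lies in
the (d−1)-st infinitesimal neighbourhood of the section. (The published statement is for a closed
subscheme, flat and proper of degree d over a Noetherian base, of a family of reduced curve
singularities with a section, with no reducedness assumption on the base; over the dual numbers k[ε]
the ideal (x − ε) of k[ε][x] has quotient free of rank one and radical containing x but does not
contain x, so the base is taken reduced here, and the statement is given in its affine form, to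
which the argument reduces at once; the curve hypotheses play no role and are dropped; the condition
that Spec S/I lies set-theoretically on the section, which the published argument deduces from
properness of Z inside the germ, is a hypothesis here.) -/
theorem result (A : Type u) [CommRing A] [IsReduced A]
    (S : Type u) [CommRing S] [Algebra A S] (π : S →ₐ[A] A) (I : Ideal S) (d : ℕ)
    [Module.Finite A (S ⧸ I)] [Module.Projective A (S ⧸ I)]
    (hrank : ∀ p : PrimeSpectrum A, Module.rankAtStalk (R := A) (S ⧸ I) p = d)
    (hsupp : RingHom.ker π ≤ I.radical) :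
    RingHom.ker π ^ d ≤ I := by
  classical
  intro x hx
  rw [← Ideal.Quotient.eq_zero_iff_mem]
  rw [← Module.forall_dual_apply_eq_zero_iff A]
  intro φ
  have hnil : IsNilpotent (φ (Ideal.Quotient.mk I x)) := by
    rw [← mem_nilradical, nilradical_eq_sInf, Ideal.mem_sInf]
    intro P hP
    have hPp : P.IsPrime := hP
    exact aux A S π I d hrank hsupp ⟨P, hPp⟩ x hx φ
  exact hnil.eq_zero

end Groth.Agent.S15150
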