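import Mathlib
import Groth.Statements.S15151

set_option autoImplicit false
universe u
open CategoryTheory AlgebraicGeometry
open HilbZeta

namespace Groth.Agent.S15151

/-- Let k be a field, and let f : X → Y and g : Y → Spec k[t] be morphisms of schemes with f
quasi-compact and with zero kernel ideal sheaf (Y is the scheme-theoretic image of f), such that the
composite X → Spec k[t] is flat. Then g is flat; in particular a k[t]-subalgebra of a flat
k[t]-algebra is flat. (The published statement has no quasi-compactness hypothesis on f and is over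
an algebraically closed field; this row assumes f quasi-compact and allows any field.) -/
theorem result (k : Type u) [Field k]
    (X Y : Scheme.{u}) (f : X ⟶ Y) (g : Y ⟶ Spec (CommRingCat.of (Polynomial k)))
    [QuasiCompact f] (hker : f.ker = ⊥) [Flat (f ≫ g)] : Flat g := by
  classical
  let e : Γ(Spec (CommRingCat.of (Polynomial k)), ⊤) ≃+* Polynomial k :=
    (Scheme.ΓSpecIso (CommRingCat.of (Polynomial k))).commRingCatIsoToRingEquiv
  haveI : IsDomain Γ(Spec (CommRingCat.of (Polynomial k)), ⊤) :=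
    e.toMulEquiv.isDomain (Polynomial k)
  haveI : IsPrincipalIdealRing Γ(Spec (CommRingCat.of (Polynomial k)), ⊤) :=
    IsPrincipalIdealRing.of_surjective e.symm.toRingHom e.symm.surjective
  let 𝒰 : Y.OpenCover :=
    Y.openCoverOfIsOpenCover (fun W : Y.affineOpens => W.1) (iSup_affineOpens_eq_top Y)
  haveI : ∀ i, IsAffine (𝒰.X i) := fun W => W.2
  rw [HasRingHomProperty.iff_of_source_openCover (P := @Flat) 𝒰]
  intro (W : Y.affineOpens)
  show ((W.1.ι ≫ g).appTop).hom.Flat
  set W' : Y.Opens := W.1.ι ''ᵁ ⊤ with hW'def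
  have hW' : W' = W.1 := W.1.ι_image_top
  have hW'aff : IsAffineOpen W' := hW' ▸ W.2
  show (g.appLE ⊤ W' (fun _ _ => trivial)).hom.Flat
  set ρ := (g.appLE ⊤ W' (fun _ _ => trivial)).hom with hρ
  letI : Algebra Γ(Spec (CommRingCat.of (Polynomial k)), ⊤) Γ(Y, W') := ρ.toAlgebra
  show Module.Flat Γ(Spec (CommRingCat.of (Polynomial k)), ⊤) Γ(Y, W')
  rw [Module.Flat.flat_iff_torsion_eq_bot_of_isBezout, Submodule.eq_bot_iff]
  intro σ hσ
  rw [Submodule.mem_torsion_iff] at hσ
  obtain ⟨⟨r, hr⟩, hrσ⟩ := hσ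
  have hrσ' : ρ r * σ = 0 := by
    have h : r • σ = 0 := hrσ
    rwa [Algebra.smul_def, RingHom.algebraMap_toAlgebra] at h
  have hinj : Function.Injective (f.app W').hom := by
    rw [RingHom.injective_iff_ker_eq_bot, ← Scheme.Hom.ker_apply f ⟨W', hW'aff⟩, hker]
    rfl
  apply hinj
  rw [map_zero]
  apply X.IsSheaf.section_ext
  intro x hx
  obtain ⟨_, ⟨V, hV, rfl⟩, hxV, hVW0⟩ :=
    X.isBasis_affineOpens.exists_subset_of_mem_open hx (f ⁻¹ᵁ W').isOpen
  have hVW : V ≤ f ⁻¹ᵁ W' := hVW0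
  refine ⟨V, hVW, hxV, ?_⟩
  rw [map_zero]
  have h1 : X.presheaf.map (homOfLE hVW).op ((f.app W').hom σ) = (f.appLE W' V hVW).hom σ := rfl
  rw [h1]
  have hfac := Scheme.Hom.appLE_comp_appLE f g ⊤ W' V (fun _ _ => trivial) hVW
  have hflat : ((f ≫ g).appLE ⊤ V (fun _ _ => trivial)).hom.Flat :=
    HasRingHomProperty.appLE @Flat (f ≫ g) inferInstance
      ⟨⊤, isAffineOpen_top (Spec (CommRingCat.of (Polynomial k)))⟩ ⟨V, hV⟩ _
  letI : Algebra Γ(Spec (CommRingCat.of (Polynomial k)), ⊤) Γ(X, V) :=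
    ((f ≫ g).appLE ⊤ V (fun _ _ => trivial)).hom.toAlgebra
  haveI : Module.Flat Γ(Spec (CommRingCat.of (Polynomial k)), ⊤) Γ(X, V) := hflat
  have hreg : IsSMulRegular Γ(X, V) r := Module.Flat.isSMulRegular_of_nonZeroDivisors hr
  refine hreg ?_
  show r • (f.appLE W' V hVW).hom σ = r • (0 : Γ(X, V))
  rw [smul_zero, Algebra.smul_def, RingHom.algebraMap_toAlgebra, ← hfac, CommRingCat.hom_comp,
    RingHom.comp_apply, ← map_mul, hrσ', map_zero]

end Groth.Agent.S15151
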