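import Groth.Statements.S15152
import Mathlib

set_option autoImplicit false
set_option linter.style.haveILetI false
universe u
open HilbZeta

namespace Groth.Agent.S15152

/-- Let k be a field, s a natural number and R a k-subalgebra of the product of s copies of the power
series ring k[[x]], of finite codimension δ over k and local with residue field k (all components of
an element of R have the same constant term); write v_i for the x-adic order of the i-th component
of an s-tuple, and let c = (c_1, …, c_s) be the conductor exponents, so that an s-tuple f satisfies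
f·g ∈ R for every s-tuple g exactly when v_i(f) ≥ c_i for all i (over an algebraically closed field
such an R is precisely the completed local ring of a reduced curve singularity having s branches
sitting inside its normalisation, δ is its delta invariant and the conductor ideal is generated by
the x_i^{c_i}). Let A be the k-subalgebra of the product of s polynomial rings k[x] consisting of
the tuples whose image in the power series product lies in R, and m₀ its ideal of tuples with zero
constant terms. Then: A is of finite type over k and has no idempotents besides 0 and 1; the product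
of polynomial rings is a finite A-module, and for some N every product of N elements of m₀
multiplies all of it into A; every element of R is approximated to any x-adic order by elements of
A; and for every N there is an M such that every element of A whose components are all divisible by
x^M lies in m₀^N. In words: Y = Spec A is a connected affine curve whose normalisation is the
disjoint union of s affine lines and is an isomorphism away from the origin, and the completed local
ring of Y at the origin is R, compatibly with the inclusion of the polynomial product in the power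
series product. (The published statement asserts the existence of such a curve Y and is over an
algebraically closed field; this row names Y and allows any field.) -/
theorem result (k : Type u) [Field k] (s : ℕ)
    (R : Subalgebra k (Fin s → PowerSeries k))
    (hfin : Module.Finite k ((Fin s → PowerSeries k) ⧸ Subalgebra.toSubmodule R))
    (hloc : ∀ f ∈ R, ∀ i j : Fin s, PowerSeries.constantCoeff (f i) = PowerSeries.constantCoeff (f j))
    (c : Fin s → ℕ)
    (hc : ∀ f : Fin s → PowerSeries k,
      (∀ g : Fin s → PowerSeries k, g * f ∈ R) ↔ ∀ i, ((c i : ℕ) : ℕ∞) ≤ (f i).order)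
    (A : Subalgebra k (Fin s → Polynomial k))
    (hA : ∀ g : Fin s → Polynomial k, g ∈ A ↔ (fun i => ((g i : Polynomial k) : PowerSeries k)) ∈ R) :
    Algebra.FiniteType k ↥A ∧
    (∀ e ∈ A, e * e = e → e = 0 ∨ e = 1) ∧
    Module.Finite ↥A (Fin s → Polynomial k) ∧
    (∃ N : ℕ, ∀ g : Fin N → (Fin s → Polynomial k),
      (∀ n, g n ∈ A ∧ ∀ i, (g n i).coeff 0 = 0) → ∀ p : Fin s → Polynomial k, p * ∏ n, g n ∈ A) ∧
    (∀ f ∈ R, ∀ N : ℕ, ∃ g ∈ A, ∀ i : Fin s, (N : ℕ∞) ≤ (f i - ((g i : Polynomial k) : PowerSeries k)).order) ∧
    (∀ N : ℕ, ∃ M : ℕ, ∀ g : ↥A, (∀ i : Fin s, Polynomial.X ^ M ∣ (g : Fin s → Polynomial k) i) →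
      g ∈ (Ideal.span {h : ↥A | ∀ i : Fin s, ((h : Fin s → Polynomial k) i).coeff 0 = 0}) ^ N) := by
  classical
  -- the bound on conductor exponents
  obtain ⟨C, hC, hCpos⟩ : ∃ C : ℕ, (∀ i, c i ≤ C) ∧ 0 < C :=
    ⟨Finset.univ.sup c + 1, fun i => le_trans (Finset.le_sup (Finset.mem_univ i)) (Nat.le_succ _),
      Nat.succ_pos _⟩
  -- order of a polynomial multiple of a power of X
  have hord : ∀ (n : ℕ) (q : Polynomial k), Polynomial.X ^ n ∣ q →
      ((n : ℕ) : ℕ∞) ≤ ((q : Polynomial k) : PowerSeries k).order := by
    intro n q hq
    obtain ⟨r, rfl⟩ := hq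
    apply PowerSeries.nat_le_order
    intro j hj
    rw [Polynomial.coeff_coe, Polynomial.coeff_X_pow_mul', if_neg (by omega)]
  -- key fact: tuples divisible by the conductor lie in `A`
  have K1 : ∀ q : Fin s → Polynomial k, (∀ i, Polynomial.X ^ (c i) ∣ q i) → q ∈ A := by
    intro q hq
    rw [hA]
    have h1 := (hc (fun i => ((q i : Polynomial k) : PowerSeries k))).mpr (fun i => hord (c i) (q i) (hq i)) 1
    rwa [one_mul] at h1
  have K1' : ∀ q : Fin s → Polynomial k, (∀ i, Polynomial.X ^ C ∣ q i) → q ∈ A := by
    intro q hq
    exact K1 q (fun i => (pow_dvd_pow _ (hC i)).trans (hq i))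
  -- (3) finiteness of the product of polynomial rings over `A`
  have h3 : Module.Finite ↥A (Fin s → Polynomial k) := by
    refine ⟨⟨(insert (1 : Fin s → Polynomial k)
      (Finset.image (fun ij : Fin s × Fin C => (Pi.single ij.1 (Polynomial.X ^ (ij.2 : ℕ)) : Fin s → Polynomial k))
        Finset.univ)), ?_⟩⟩
    rw [eq_top_iff]
    intro p _
    -- decompose `p`
    have hp : p = (fun i => Polynomial.X ^ C * (p i /ₘ Polynomial.X ^ C)) +
        ∑ i : Fin s, ∑ j : Fin C, ((p i %ₘ Polynomial.X ^ C).coeff j) •
          (Pi.single i (Polynomial.X ^ (j : ℕ)) : Fin s → Polynomial k) := by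
      funext i
      rw [Pi.add_apply, Finset.sum_apply]
      have h1 : ∀ i' : Fin s, (∑ j : Fin C, ((p i' %ₘ Polynomial.X ^ C).coeff j) •
          (Pi.single i' (Polynomial.X ^ (j : ℕ)) : Fin s → Polynomial k)) i =
          if i' = i then (p i %ₘ Polynomial.X ^ C) else 0 := by
        intro i'
        rw [Finset.sum_apply]
        split_ifs with hii
        · subst hii
          have hdeg : (p i' %ₘ Polynomial.X ^ C).degree < C := by
            have := Polynomial.degree_modByMonic_lt (p i') (Polynomial.monic_X_pow (R := k) C)
            rwa [Polynomial.degree_X_pow] at this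
          conv_rhs => rw [Polynomial.as_sum_range' (p i' %ₘ Polynomial.X ^ C) C
            (by
              by_cases h0 : p i' %ₘ Polynomial.X ^ C = 0
              · rw [h0, Polynomial.natDegree_zero]
                exact hCpos
              · exact (Polynomial.natDegree_lt_iff_degree_lt h0).mpr hdeg)]
          rw [Finset.sum_range]
          apply Finset.sum_congr rfl
          intro j _
          rw [Pi.smul_apply, Pi.single_eq_same, Polynomial.smul_eq_C_mul, Polynomial.C_mul_X_pow_eq_monomial]
        · apply Finset.sum_eq_zero
          intro j _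
          rw [Pi.smul_apply, Pi.single_eq_of_ne (Ne.symm hii), smul_zero]
      rw [Finset.sum_congr rfl (fun i' _ => h1 i'), Finset.sum_ite_eq' Finset.univ i, if_pos (Finset.mem_univ i)]
      rw [add_comm]
      exact (Polynomial.modByMonic_add_div (p i) (Polynomial.X ^ C)).symm
    rw [hp]
    apply Submodule.add_mem
    · have hmem : (fun i => Polynomial.X ^ C * (p i /ₘ Polynomial.X ^ C)) ∈ A :=
        K1' _ (fun i => dvd_mul_right _ _)
      have : (fun i => Polynomial.X ^ C * (p i /ₘ Polynomial.X ^ C)) =
          (⟨_, hmem⟩ : ↥A) • (1 : Fin s → Polynomial k) := by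
        change _ = (fun i => Polynomial.X ^ C * (p i /ₘ Polynomial.X ^ C)) * 1
        rw [mul_one]
      rw [this]
      apply Submodule.smul_mem
      apply Submodule.subset_span
      simp
    · apply Submodule.sum_mem
      intro i _
      apply Submodule.sum_mem
      intro j _
      have : ((p i %ₘ Polynomial.X ^ C).coeff j) •
          (Pi.single i (Polynomial.X ^ (j : ℕ)) : Fin s → Polynomial k) =
          (algebraMap k ↥A ((p i %ₘ Polynomial.X ^ C).coeff j)) •
          (Pi.single i (Polynomial.X ^ (j : ℕ)) : Fin s → Polynomial k) := by
        rw [algebraMap_smul]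
      rw [this]
      apply Submodule.smul_mem
      apply Submodule.subset_span
      rw [Finset.coe_insert, Finset.coe_image]
      right
      exact ⟨(i, j), by simp, rfl⟩
  -- (1) finite type, by Artin–Tate
  have h1 : Algebra.FiniteType k ↥A := by
    have hAC : Algebra.FiniteType k (Fin s → Polynomial k) :=
      Algebra.FiniteType.trans (S := Polynomial k) inferInstance inferInstance
    exact ⟨fg_of_fg_of_fg k ↥A (Fin s → Polynomial k) hAC.out h3.fg_top Subtype.val_injective⟩
  refine ⟨h1, ?_, h3, ?_, ?_, ?_⟩
  · -- (2) idempotents
    intro e he hee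
    have hcomp : ∀ i, e i = 0 ∨ e i = 1 := by
      intro i
      have h := congrFun hee i
      rw [Pi.mul_apply] at h
      have h' : e i * (e i - 1) = 0 := by rw [mul_sub, h, mul_one, sub_self]
      rcases mul_eq_zero.mp h' with h0 | h0
      · exact Or.inl h0
      · exact Or.inr (sub_eq_zero.mp h0)
    have hconst : ∀ i j : Fin s, (e i).coeff 0 = (e j).coeff 0 := by
      intro i j
      have := hloc _ ((hA e).mp he) i j
      simpa [← PowerSeries.coeff_zero_eq_constantCoeff_apply, Polynomial.coeff_coe] using this
    by_cases hs : ∃ i0 : Fin s, e i0 = 1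
    · obtain ⟨i0, hi0⟩ := hs
      right
      funext j
      rcases hcomp j with hj | hj
      · exfalso
        have := hconst i0 j
        rw [hi0, hj] at this
        simp at this
      · rw [hj]; rfl
    · left
      funext j
      rcases hcomp j with hj | hj
      · rw [hj]; rfl
      · exact absurd ⟨j, hj⟩ hs
  · -- (4)
    refine ⟨C, ?_⟩
    intro g hg p
    apply K1'
    intro i
    rw [Pi.mul_apply, Finset.prod_apply]
    apply dvd_mul_of_dvd_right
    have : (Polynomial.X : Polynomial k) ^ C = ∏ _n : Fin C, (Polynomial.X : Polynomial k) := by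
      rw [Finset.prod_const, Finset.card_univ, Fintype.card_fin]
    rw [this]
    apply Finset.prod_dvd_prod_of_dvd
    intro n _
    exact Polynomial.X_dvd_iff.mpr ((hg n).2 i)
  · -- (5)
    intro f hf N
    refine ⟨fun i => PowerSeries.trunc (max N C) (f i), ?_, ?_⟩
    · rw [hA]
      have hsub : (fun i => f i - ((PowerSeries.trunc (max N C) (f i) : Polynomial k) : PowerSeries k)) ∈ R := by
        have h1 := (hc (fun i => f i - ((PowerSeries.trunc (max N C) (f i) : Polynomial k) : PowerSeries k))).mpr
          (fun i => by
            apply PowerSeries.nat_le_order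
            intro j hj
            rw [map_sub, Polynomial.coeff_coe, PowerSeries.coeff_trunc,
              if_pos (by have := hC i; omega), sub_self]) 1
        rwa [one_mul] at h1
      have : (fun i => ((PowerSeries.trunc (max N C) (f i) : Polynomial k) : PowerSeries k)) =
          f - (fun i => f i - ((PowerSeries.trunc (max N C) (f i) : Polynomial k) : PowerSeries k)) := by
        funext i
        simp
      rw [this]
      exact R.sub_mem hf hsub
    · intro i
      apply PowerSeries.nat_le_order
      intro j hj
      rw [map_sub, Polynomial.coeff_coe, PowerSeries.coeff_trunc, if_pos (by omega), sub_self]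
  · -- (6)
    intro N
    cases N with
    | zero =>
      refine ⟨0, fun g _ => ?_⟩
      rw [pow_zero, Ideal.one_eq_top]
      exact Submodule.mem_top
    | succ n =>
      refine ⟨(n + 1) * (C + 1), fun g hg => ?_⟩
      choose q hq using hg
      have hu : (fun _ : Fin s => (Polynomial.X : Polynomial k) ^ (C + 1)) ∈ A :=
        K1' _ (fun i => pow_dvd_pow _ (Nat.le_succ C))
      have hg' : (fun i : Fin s => (Polynomial.X : Polynomial k) ^ (C + 1) * q i) ∈ A :=
        K1' _ (fun i => dvd_mul_of_dvd_left (pow_dvd_pow _ (Nat.le_succ C)) _)
      have hum : (⟨_, hu⟩ : ↥A) ∈ Ideal.span {h : ↥A | ∀ i : Fin s,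
          ((h : Fin s → Polynomial k) i).coeff 0 = 0} := by
        apply Ideal.subset_span
        intro i
        change ((Polynomial.X : Polynomial k) ^ (C + 1)).coeff 0 = 0
        rw [Polynomial.coeff_X_pow, if_neg (by omega)]
      have hgm : (⟨_, hg'⟩ : ↥A) ∈ Ideal.span {h : ↥A | ∀ i : Fin s,
          ((h : Fin s → Polynomial k) i).coeff 0 = 0} := by
        apply Ideal.subset_span
        intro i
        change ((Polynomial.X : Polynomial k) ^ (C + 1) * q i).coeff 0 = 0
        rw [Polynomial.coeff_X_pow_mul', if_neg (by omega)]
      have hgeq : g = (⟨_, hu⟩ : ↥A) ^ n * (⟨_, hg'⟩ : ↥A) := by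
        apply Subtype.ext
        funext i
        change (g : Fin s → Polynomial k) i =
          ((fun _ : Fin s => (Polynomial.X : Polynomial k) ^ (C + 1)) ^ n *
            (fun i : Fin s => (Polynomial.X : Polynomial k) ^ (C + 1) * q i)) i
        rw [hq i, Pi.mul_apply, Pi.pow_apply, ← mul_assoc, ← pow_mul, ← pow_add]
        congr 2
        ring
      rw [hgeq, pow_succ]
      exact Ideal.mul_mem_mul (Ideal.pow_mem_pow hum n) hgm

end Groth.Agent.S15152
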