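import Groth.Statements.S15155
import Groth.Agent.H91.SkewDet

set_option autoImplicit false
open CAlg

namespace Groth.Agent.S15155

/-- Let J be the 2m × 2m block matrix with blocks 0, I_m in the first row and −I_m, 0 in the second,
over the complex numbers. On the set of complex 2m × 2m matrices A with ᵗA · J = J · A (equivalently
ᵗA = J A J⁻¹, J being invertible), the characteristic polynomial is the square of a single
polynomial in the entries of A with coefficients in ℂ[X], and the determinant is the square of a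
single polynomial in the entries of A. -/
theorem result (m : ℕ) :
    (∃ P : MvPolynomial ((Fin m ⊕ Fin m) × (Fin m ⊕ Fin m)) (Polynomial ℂ),
      ∀ A : Matrix (Fin m ⊕ Fin m) (Fin m ⊕ Fin m) ℂ,
        A.transpose * Matrix.fromBlocks 0 1 (-1) 0 = Matrix.fromBlocks 0 1 (-1) 0 * A →
        A.charpoly = (MvPolynomial.eval (fun ij => Polynomial.C (A ij.1 ij.2)) P) ^ 2) ∧
    (∃ Q : MvPolynomial ((Fin m ⊕ Fin m) × (Fin m ⊕ Fin m)) ℂ,
      ∀ A : Matrix (Fin m ⊕ Fin m) (Fin m ⊕ Fin m) ℂ,
        A.transpose * Matrix.fromBlocks 0 1 (-1) 0 = Matrix.fromBlocks 0 1 (-1) 0 * A →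
        A.det = (MvPolynomial.eval (fun ij => A ij.1 ij.2) Q) ^ 2) := by
  classical
  obtain ⟨J, hJdef⟩ : ∃ J : Matrix (Fin m ⊕ Fin m) (Fin m ⊕ Fin m) ℂ,
      J = Matrix.fromBlocks 0 1 (-1) 0 := ⟨_, rfl⟩
  rw [← hJdef]
  have hJ : J.transpose = -J := by
    rw [hJdef, Matrix.fromBlocks_transpose, Matrix.fromBlocks_neg]
    simp
  have hJJ : J * J = -1 := by
    have h1 : (-1 : Matrix (Fin m ⊕ Fin m) (Fin m ⊕ Fin m) ℂ) = Matrix.fromBlocks (-1) 0 0 (-1) := by
      rw [← Matrix.fromBlocks_one, Matrix.fromBlocks_neg]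
      simp
    rw [h1, hJdef, Matrix.fromBlocks_multiply]
    simp
  have hdetJ : J.det ≠ 0 :=
    Matrix.det_ne_zero_of_right_inverse (B := -J) (by rw [mul_neg, hJJ, neg_neg])
  obtain ⟨jj, hjj⟩ := IsAlgClosed.exists_eq_mul_self J.det
  have hjj0 : jj ≠ 0 := by
    rintro rfl
    exact hdetJ (by rw [hjj, mul_zero])
  constructor
  · have hJ' : (J.map Polynomial.C).transpose = -(J.map Polynomial.C) := by
      ext a b
      have h1 : J b a = - J a b := congrFun (congrFun hJ a) b
      simp only [Matrix.transpose_apply, Matrix.neg_apply, Matrix.map_apply, h1, map_neg]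
    have hhalf : (2 : Polynomial ℂ) * Polynomial.C (1 / 2) = 1 := by
      rw [show (2 : Polynomial ℂ) = Polynomial.C 2 from (map_ofNat Polynomial.C 2).symm,
        ← Polynomial.C_mul]
      norm_num
    obtain ⟨P, hP⟩ := Groth.Agent.H91.SkewDet.exists_poly_sq (S := Polynomial ℂ)
      (Polynomial.C (1 / 2)) hhalf (J.map Polynomial.C) hJ' Polynomial.X (-1)
    refine ⟨MvPolynomial.C (Polynomial.C jj⁻¹) * P, fun A hA => ?_⟩
    have hA' : (A.map Polynomial.C).transpose * J.map Polynomial.C
        = J.map Polynomial.C * A.map Polynomial.C := by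
      rw [← Matrix.transpose_map, ← Matrix.map_mul, ← Matrix.map_mul, hA]
    have h1 : ((Polynomial.X : Polynomial ℂ) • J.map Polynomial.C
        + (-1 : Polynomial ℂ) • (J.map Polynomial.C * A.map Polynomial.C)).det
        = (MvPolynomial.eval (fun ij : (Fin m ⊕ Fin m) × (Fin m ⊕ Fin m) =>
            Polynomial.C (A ij.1 ij.2)) P) ^ 2 := hP (A.map Polynomial.C) hA'
    have h2 : (Polynomial.X : Polynomial ℂ) • J.map Polynomial.C
        + (-1 : Polynomial ℂ) • (J.map Polynomial.C * A.map Polynomial.C)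
        = J.map Polynomial.C * A.charmatrix := by
      rw [Matrix.charmatrix, Matrix.mul_sub, neg_one_smul, ← sub_eq_add_neg,
        Matrix.smul_eq_mul_diagonal]
      rfl
    rw [h2, Matrix.det_mul] at h1
    have h3 : (J.map Polynomial.C).det = Polynomial.C (jj * jj) := by
      rw [← hjj]
      exact (RingHom.map_det Polynomial.C J).symm
    have h4 : A.charpoly = A.charmatrix.det := rfl
    rw [map_mul, MvPolynomial.eval_C, mul_pow, ← h1, h3, ← mul_assoc, ← Polynomial.C_pow,
      ← Polynomial.C_mul, show jj⁻¹ ^ 2 * (jj * jj) = 1 by field_simp, Polynomial.C_1, one_mul,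
      h4]
  · obtain ⟨Q, hQ⟩ := Groth.Agent.H91.SkewDet.exists_poly_sq (S := ℂ) (1 / 2) (by norm_num)
      J hJ 0 1
    refine ⟨MvPolynomial.C jj⁻¹ * Q, fun A hA => ?_⟩
    have h1 := hQ A hA
    rw [zero_smul, zero_add, one_smul, Matrix.det_mul, hjj] at h1
    rw [map_mul, MvPolynomial.eval_C, mul_pow, ← h1]
    field_simp

end Groth.Agent.S15155
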