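import Groth.Statements.S15159
import Mathlib.LinearAlgebra.FiniteDimensional.Lemmas
import Mathlib.LinearAlgebra.FiniteDimensional.Basic
import Mathlib.LinearAlgebra.Dimension.Constructions
import Mathlib.Order.SupIndep
import Mathlib.Order.ModularLattice
import Mathlib.Algebra.Order.BigOperators.Group.Finset
import Mathlib.Tactic.Ring
import Mathlib.Tactic.Linarith

set_option autoImplicit false
open CAlg

namespace Groth.Agent.S15159


open Module

/-- truncation of an integer to `[-B, B]` -/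
def clamp (B : ℕ) (m : ℤ) : ℤ := max (-(B : ℤ)) (min m B)

lemma clamp_succ (B : ℕ) (m : ℤ) :
    clamp (B + 1) m = clamp B m + (if ¬ m ≤ (B : ℤ) then 1 else 0) -
      (if m ≤ -((B : ℤ) + 1) then 1 else 0) := by
  simp only [clamp, max_def, min_def, Nat.cast_add, Nat.cast_one]
  split_ifs <;> omega

lemma clamp_zero (m : ℤ) : clamp 0 m = 0 := by
  simp only [clamp, max_def, min_def, Nat.cast_zero]
  split_ifs <;> omega

lemma clamp_eq_self (B : ℕ) (m : ℤ) (h : m.natAbs ≤ B) : clamp B m = m := by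
  simp only [clamp, max_def, min_def]
  split_ifs <;> omega

section comb
variable {ι : Type} [Fintype ι] (d : ι → ℕ) (m : ι → ℤ)

/-- total multiplicity of the weights `≤ -(t+1)` -/
def Nn (t : ℕ) : ℕ := ∑ i ∈ Finset.univ.filter (fun i => m i ≤ -((t : ℤ) + 1)), d i

/-- total multiplicity of the weights `> t` -/
def Mm (t : ℕ) : ℕ := ∑ i ∈ Finset.univ.filter (fun i => ¬ m i ≤ (t : ℤ)), d i

lemma layer (B : ℕ) : ∑ i, clamp B (m i) * (d i : ℤ) =
    ∑ t ∈ Finset.range B, ((Mm d m t : ℤ) - (Nn d m t : ℤ)) := by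
  induction B with
  | zero => simp [clamp_zero]
  | succ B ih =>
    rw [Finset.sum_range_succ, ← ih]
    simp only [clamp_succ, Mm, Nn, Nat.cast_sum, Finset.sum_filter]
    rw [← Finset.sum_sub_distrib, ← Finset.sum_add_distrib]
    refine Finset.sum_congr rfl fun i _ => ?_
    split_ifs <;> ring

lemma Mm_anti (t : ℕ) : Mm d m (t + 1) ≤ Mm d m t := by
  unfold Mm
  refine Finset.sum_le_sum_of_subset fun i hi => ?_
  have h1 : ¬ m i ≤ ((t + 1 : ℕ) : ℤ) := (Finset.mem_filter.mp hi).2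
  refine Finset.mem_filter.mpr ⟨Finset.mem_univ _, ?_⟩
  change ¬ m i ≤ (t : ℤ)
  push_cast at h1
  omega

lemma Mm_top (B : ℕ) (hB : ∀ i, (m i).natAbs ≤ B) : Mm d m B = 0 := by
  unfold Mm
  refine Finset.sum_eq_zero fun i hi => ?_
  have h1 : ¬ m i ≤ (B : ℤ) := (Finset.mem_filter.mp hi).2
  have h2 := hB i
  omega

lemma eq_of_sum_zero (hsum : ∑ i, m i * (d i : ℤ) = 0) (hNM : ∀ t, Nn d m t ≤ Mm d m t)
    (B : ℕ) (hB : ∀ i, (m i).natAbs ≤ B) : ∀ t < B, Nn d m t = Mm d m t := by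
  have h1 : ∑ t ∈ Finset.range B, ((Mm d m t : ℤ) - (Nn d m t : ℤ)) = 0 := by
    rw [← layer, ← hsum]
    exact Finset.sum_congr rfl fun i _ => by rw [clamp_eq_self B (m i) (hB i)]
  have h2 := (Finset.sum_eq_zero_iff_of_nonneg (fun t _ => by have := hNM t; omega)).mp h1
  intro t ht
  have := h2 t (Finset.mem_range.mpr ht)
  omega

lemma conclude (h0N : Nn d m 0 = 0) (h0M : Mm d m 0 = 0) : ∀ i, m i ≠ 0 → d i = 0 := by
  intro i hi
  unfold Nn at h0N
  unfold Mm at h0M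
  rw [Finset.sum_eq_zero_iff] at h0N h0M
  by_cases hpos : m i ≤ 0
  · refine h0N i (Finset.mem_filter.mpr ⟨Finset.mem_univ _, ?_⟩)
    change m i ≤ -(((0 : ℕ) : ℤ) + 1)
    omega
  · refine h0M i (Finset.mem_filter.mpr ⟨Finset.mem_univ _, ?_⟩)
    change ¬ m i ≤ ((0 : ℕ) : ℤ)
    omega

lemma exists_bound : ∃ B : ℕ, 1 ≤ B ∧ ∀ i, (m i).natAbs ≤ B := by
  refine ⟨∑ i, (m i).natAbs + 1, by omega, fun i => ?_⟩
  have := Finset.single_le_sum (f := fun i => (m i).natAbs) (fun _ _ => Nat.zero_le _)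
    (Finset.mem_univ i)
  omega

lemma comb_semistable (hsum : ∑ i, m i * (d i : ℤ) = 0)
    (h : ∀ t, Nn d m t ≤ Mm d m (t + 1)) : ∀ i, m i ≠ 0 → d i = 0 := by
  obtain ⟨B, hB1, hB⟩ := exists_bound m
  have hNM : ∀ t, Nn d m t ≤ Mm d m t := fun t => (h t).trans (Mm_anti d m t)
  have heq := eq_of_sum_zero d m hsum hNM B hB
  have hconst : ∀ t, t ≤ B → Mm d m t = Mm d m 0 := by
    intro t
    induction t with
    | zero => intro _; rfl
    | succ t ih =>
      intro ht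
      have h1 := heq t (by omega)
      have h2 := h t
      have h3 := Mm_anti d m t
      have h4 := ih (by omega)
      omega
  have hM0 : Mm d m 0 = 0 := by rw [← hconst B le_rfl]; exact Mm_top d m B hB
  have hN0 : Nn d m 0 = 0 := by
    have h1 := h 0
    have h2 := Mm_anti d m 0
    omega
  exact conclude d m hN0 hM0

lemma comb_stable (hsum : ∑ i, m i * (d i : ℤ) = 0)
    (h : ∀ t, Nn d m t ≠ 0 → Nn d m t < Mm d m t) : ∀ i, m i ≠ 0 → d i = 0 := by
  obtain ⟨B, hB1, hB⟩ := exists_bound m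
  have hNM : ∀ t, Nn d m t ≤ Mm d m t := fun t => by
    by_cases h0 : Nn d m t = 0
    · omega
    · exact (h t h0).le
  have heq := eq_of_sum_zero d m hsum hNM B hB
  have h0 := heq 0 (by omega)
  have hN0 : Nn d m 0 = 0 := by
    by_contra hne
    have := h 0 hne
    omega
  exact conclude d m hN0 (by omega)

end comb

section geom
variable {W H : Type} [AddCommGroup W] [Module ℂ W] [AddCommGroup H] [Module ℂ H]
  [FiniteDimensional ℂ H]

/-- the orthogonal of a subspace -/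
def perp (q : H →ₗ[ℂ] H →ₗ[ℂ] W) (V : Submodule ℂ H) : Submodule ℂ H :=
  ⨅ (y : H) (_ : y ∈ V), LinearMap.ker (q.flip y)

lemma mem_perp {q : H →ₗ[ℂ] H →ₗ[ℂ] W} {V : Submodule ℂ H} {x : H} :
    x ∈ perp q V ↔ ∀ y ∈ V, q x y = 0 := by
  simp only [perp, Submodule.mem_iInf, LinearMap.mem_ker, LinearMap.flip_apply]

lemma exists_decomp (s : W →ₗ[ℂ] W) (q : H →ₗ[ℂ] H →ₗ[ℂ] W) (hq : ∀ x y, q x y = s (q y x))
    (V : Submodule ℂ H) (hiso : ∀ x ∈ V, ∀ y ∈ V, q x y = 0) :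
    ∃ Hs : Fin 3 → Submodule ℂ H, DirectSum.IsInternal Hs ∧ Hs 0 = V ∧
      finrank ℂ (Hs 0) + finrank ℂ (Hs 1) = finrank ℂ (perp q V) ∧
      finrank ℂ (Hs 0) + finrank ℂ (Hs 1) + finrank ℂ (Hs 2) = finrank ℂ H ∧
      (∀ x ∈ Hs 0, ∀ y ∈ Hs 1, q x y = 0) ∧ (∀ x ∈ Hs 1, ∀ y ∈ Hs 0, q x y = 0) := by
  have hVP : V ≤ perp q V := fun x hx => mem_perp.mpr fun y hy => hiso x hx y hy
  obtain ⟨C, hC⟩ := Submodule.exists_isCompl V
  obtain ⟨V'', hV''⟩ := Submodule.exists_isCompl (perp q V)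
  have hdisj : Disjoint V (C ⊓ perp q V) := hC.disjoint.mono_right inf_le_left
  have hsup : V ⊔ (C ⊓ perp q V) = perp q V := by
    rw [← sup_inf_assoc_of_le C hVP, hC.sup_eq_top, top_inf_eq]
  have hdim1 : finrank ℂ V + finrank ℂ ↥(C ⊓ perp q V) = finrank ℂ (perp q V) := by
    have := Submodule.finrank_sup_add_finrank_inf_eq V (C ⊓ perp q V)
    rw [hdisj.eq_bot, finrank_bot, add_zero, hsup] at this
    exact this.symm
  refine ⟨![V, C ⊓ perp q V, V''], ?_, rfl, hdim1, ?_, ?_, ?_⟩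
  · rw [DirectSum.isInternal_submodule_iff_iSupIndep_and_iSup_eq_top]
    constructor
    · rw [iSupIndep_fin_three]
      change Disjoint V (C ⊓ perp q V ⊔ V'') ∧ Disjoint (C ⊓ perp q V) (V'' ⊔ V) ∧
        Disjoint V'' (V ⊔ C ⊓ perp q V)
      refine ⟨?_, ?_, ?_⟩
      · exact hdisj.disjoint_sup_right_of_disjoint_sup_left (by rw [hsup]; exact hV''.disjoint)
      · rw [sup_comm]
        exact hdisj.symm.disjoint_sup_right_of_disjoint_sup_left
          (by rw [sup_comm, hsup]; exact hV''.disjoint)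
      · rw [hsup]; exact hV''.disjoint.symm
    · rw [iSup_fin_three]
      change V ⊔ C ⊓ perp q V ⊔ V'' = ⊤
      rw [hsup]; exact hV''.sup_eq_top
  · change finrank ℂ V + finrank ℂ ↥(C ⊓ perp q V) + finrank ℂ V'' = _
    rw [hdim1]; exact Submodule.finrank_add_eq_of_isCompl hV''
  · intro x hx y hy
    have hx' : x ∈ V := hx
    have hy' : y ∈ C ⊓ perp q V := hy
    rw [hq, mem_perp.mp (Submodule.mem_inf.mp hy').2 x hx', map_zero]
  · intro x hx y hy
    have hx' : x ∈ C ⊓ perp q V := hx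
    have hy' : y ∈ V := hy
    exact mem_perp.mp (Submodule.mem_inf.mp hx').2 y hy'

lemma decomp_weights (s : W →ₗ[ℂ] W) (q : H →ₗ[ℂ] H →ₗ[ℂ] W) (hq : ∀ x y, q x y = s (q y x))
    (hq0 : q ≠ 0) (V : Submodule ℂ H) (hV0 : V ≠ ⊥) (hiso : ∀ x ∈ V, ∀ y ∈ V, q x y = 0) :
    ∃ (Hs : Fin 3 → Submodule ℂ H) (m : Fin 3 → ℤ), DirectSum.IsInternal Hs ∧
      (∑ i, m i * (finrank ℂ (Hs i) : ℤ)) = 0 ∧ (∃ i, m i ≠ 0 ∧ Hs i ≠ ⊥) ∧
      ∀ i j, (∃ x ∈ Hs i, ∃ y ∈ Hs j, q x y ≠ 0) →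
        ((finrank ℂ H : ℤ) < finrank ℂ V + finrank ℂ (perp q V) → 0 < m i + m j) ∧
        ((finrank ℂ H : ℤ) ≤ finrank ℂ V + finrank ℂ (perp q V) → 0 ≤ m i + m j) := by
  obtain ⟨Hs, hint, h0, hP, hH, h01, h10⟩ := exists_decomp s q hq V hiso
  subst h0
  have h00 : ∀ x ∈ Hs 0, ∀ y ∈ Hs 0, q x y = 0 := hiso
  have hv1 : 1 ≤ finrank ℂ (Hs 0) :=
    Nat.one_le_iff_ne_zero.mpr fun h => hV0 (Submodule.finrank_eq_zero.mp h)
  let m : Fin 3 → ℤ := ![-((finrank ℂ (Hs 1) : ℤ) + finrank ℂ (Hs 2)),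
    (finrank ℂ (Hs 0) : ℤ) - finrank ℂ (Hs 2), (finrank ℂ (Hs 0) : ℤ) + finrank ℂ (Hs 1)]
  have hm0 : m 0 = -((finrank ℂ (Hs 1) : ℤ) + finrank ℂ (Hs 2)) := rfl
  have hm1 : m 1 = (finrank ℂ (Hs 0) : ℤ) - finrank ℂ (Hs 2) := rfl
  have hm2 : m 2 = (finrank ℂ (Hs 0) : ℤ) + finrank ℂ (Hs 1) := rfl
  refine ⟨Hs, m, hint, ?_, ?_, ?_⟩
  · rw [Fin.sum_univ_three, hm0, hm1, hm2]
    ring
  · by_cases hz : finrank ℂ (Hs 1) + finrank ℂ (Hs 2) = 0
    · exfalso
      have htop : Hs 0 = ⊤ := Submodule.eq_top_of_finrank_eq (by omega)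
      apply hq0
      refine LinearMap.ext fun x => LinearMap.ext fun y => ?_
      exact h00 x (htop ▸ Submodule.mem_top) y (htop ▸ Submodule.mem_top)
    · refine ⟨0, ?_, hV0⟩
      rw [hm0]
      omega
  · intro i j hne
    obtain ⟨x, hx, y, hy, hxy⟩ := hne
    have h3 : ∀ i : Fin 3, i = 0 ∨ i = 1 ∨ i = 2 := by decide
    rcases h3 i with rfl | rfl | rfl <;> rcases h3 j with rfl | rfl | rfl
    all_goals first
      | exact absurd (h00 x hx y hy) hxy
      | exact absurd (h01 x hx y hy) hxy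
      | exact absurd (h10 x hx y hy) hxy
      | (simp only [hm0, hm1, hm2]; constructor <;> intro _ <;> omega)

variable {ι : Type} [Fintype ι] (Hs : ι → Submodule ℂ H)

lemma finrank_biSup (hind : iSupIndep Hs) (S : Finset ι) :
    finrank ℂ (⨆ i ∈ S, Hs i : Submodule ℂ H) = ∑ i ∈ S, finrank ℂ (Hs i) := by
  classical
  induction S using Finset.induction_on with
  | empty => simp
  | insert a S ha ih =>
    rw [Finset.iSup_insert, Finset.sum_insert ha, ← ih]
    have hd : Disjoint (Hs a) (⨆ i ∈ S, Hs i) := hind.disjoint_biSup (y := (S : Set ι)) ha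
    have := Submodule.finrank_sup_add_finrank_inf_eq (Hs a) (⨆ i ∈ S, Hs i)
    rw [hd.eq_bot, finrank_bot, add_zero] at this
    exact this

lemma q_biSup_eq_zero (q : H →ₗ[ℂ] H →ₗ[ℂ] W) (S T : Finset ι)
    (h : ∀ i ∈ S, ∀ j ∈ T, ∀ x ∈ Hs i, ∀ y ∈ Hs j, q x y = 0) :
    ∀ x ∈ (⨆ i ∈ S, Hs i : Submodule ℂ H), ∀ y ∈ (⨆ j ∈ T, Hs j : Submodule ℂ H),
      q x y = 0 := by
  intro x hx y hy
  have h1 : (⨆ i ∈ S, Hs i : Submodule ℂ H) ≤ LinearMap.ker (q.flip y) := by
    refine iSup₂_le fun i hi x hx => ?_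
    have h2 : (⨆ j ∈ T, Hs j : Submodule ℂ H) ≤ LinearMap.ker (q x) :=
      iSup₂_le fun j hj y hy => LinearMap.mem_ker.mpr (h i hi j hj x hx y hy)
    rw [LinearMap.mem_ker, LinearMap.flip_apply]
    exact LinearMap.mem_ker.mp (h2 hy)
  have := LinearMap.mem_ker.mp (h1 hx)
  rwa [LinearMap.flip_apply] at this

lemma key [DecidableEq ι] (s : W →ₗ[ℂ] W) (q : H →ₗ[ℂ] H →ₗ[ℂ] W)
    (hq : ∀ x y, q x y = s (q y x)) (hint : DirectSum.IsInternal Hs) (S : Finset ι)
    (p : ι → Prop) [DecidablePred p] (hST : ∀ i ∈ S, p i)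
    (hvan : ∀ i ∈ S, ∀ j, p j → ∀ x ∈ Hs i, ∀ y ∈ Hs j, q x y = 0) :
    ∃ V : Submodule ℂ H, finrank ℂ V = ∑ i ∈ S, finrank ℂ (Hs i) ∧
      (∀ x ∈ V, ∀ y ∈ V, q x y = 0) ∧
      finrank ℂ H ≤ finrank ℂ (perp q V) +
        ∑ i ∈ Finset.univ.filter (fun j => ¬ p j), finrank ℂ (Hs i) := by
  have hind := hint.submodule_iSupIndep
  have hVU : (⨆ i ∈ S, Hs i : Submodule ℂ H) ≤ ⨆ j ∈ Finset.univ.filter p, Hs j :=
    biSup_mono fun i hi => Finset.mem_filter.mpr ⟨Finset.mem_univ _, hST i hi⟩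
  have hq0 : ∀ x ∈ (⨆ i ∈ S, Hs i : Submodule ℂ H),
      ∀ y ∈ (⨆ j ∈ Finset.univ.filter p, Hs j : Submodule ℂ H), q x y = 0 :=
    q_biSup_eq_zero Hs q S (Finset.univ.filter p)
      fun i hi j hj => hvan i hi j (Finset.mem_filter.mp hj).2
  refine ⟨⨆ i ∈ S, Hs i, finrank_biSup Hs hind S, fun x hx y hy => hq0 x hx y (hVU hy), ?_⟩
  have hUle : (⨆ j ∈ Finset.univ.filter p, Hs j : Submodule ℂ H) ≤ perp q (⨆ i ∈ S, Hs i) :=
    fun y hy => mem_perp.mpr fun x hx => by rw [hq, hq0 x hx y hy, map_zero]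
  have hU := finrank_biSup Hs hind (Finset.univ.filter p)
  have hH : finrank ℂ H = ∑ i, finrank ℂ (Hs i) := by
    have := finrank_biSup Hs hind Finset.univ
    have hE : (⨆ i ∈ (Finset.univ : Finset ι), Hs i : Submodule ℂ H) = ⊤ := by
      rw [← hint.submodule_iSup_eq_top]
      simp
    rw [hE, finrank_top] at this
    exact this
  have hsplit := Finset.sum_filter_add_sum_filter_not Finset.univ p (fun i => finrank ℂ (Hs i))
  have hmono := Submodule.finrank_mono hUle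
  rw [hU] at hmono
  rw [hH, ← hsplit]
  exact Nat.add_le_add_right hmono _

end geom

/-- Let W be a finite-dimensional complex vector space with an involution s, H a finite-dimensional
complex vector space and q : H → H → W a nonzero bilinear map with q(x)(y) = s(q(y)(x)). Write V^⊥ =
{x | q(x)(y) = 0 for all y ∈ V} and call V totally isotropic when q vanishes on V × V. The pair (H,
q) is semistable (dim V + dim V^⊥ ≤ dim H for every nonzero totally isotropic subspace V),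
respectively stable (strict inequality), if and only if the line of q is semistable, respectively
stable, for the action of SL(H), the latter being expressed through one-parameter subgroups: for
every decomposition H = ⊕_i H_i into subspaces with integer weights m_i such that Σ_i m_i dim H_i =
0 and some nonzero H_i has nonzero weight, there are indices i, j with q(H_i, H_j) ≠ 0 and m_i + m_j
≤ 0, respectively m_i + m_j < 0. (The published statement speaks of semistability and stability of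
the point of the projective space of such forms under SL(H); this row states the numerical condition
on one-parameter subgroups to which that is equivalent and which the published argument verifies.) -/
theorem result
    (W : Type) [AddCommGroup W] [Module ℂ W] [FiniteDimensional ℂ W]
    (s : W →ₗ[ℂ] W) (hs : s ∘ₗ s = LinearMap.id)
    (H : Type) [AddCommGroup H] [Module ℂ H] [FiniteDimensional ℂ H]
    (q : H →ₗ[ℂ] H →ₗ[ℂ] W) (hq : ∀ x y : H, q x y = s (q y x)) (hq0 : q ≠ 0) :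
    ((∀ V : Submodule ℂ H, V ≠ ⊥ → (∀ x ∈ V, ∀ y ∈ V, q x y = 0) →
        Module.finrank ℂ V + Module.finrank ℂ ↥(⨅ (y : H) (_ : y ∈ V), LinearMap.ker (q.flip y) : Submodule ℂ H) ≤ Module.finrank ℂ H) ↔
      (∀ (ι : Type) [Fintype ι] [DecidableEq ι] (Hs : ι → Submodule ℂ H) (m : ι → ℤ),
        DirectSum.IsInternal Hs → (∑ i, m i * (Module.finrank ℂ (Hs i) : ℤ)) = 0 →
        (∃ i, m i ≠ 0 ∧ Hs i ≠ ⊥) →
        ∃ i j, (∃ x ∈ Hs i, ∃ y ∈ Hs j, q x y ≠ 0) ∧ m i + m j ≤ 0)) ∧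
    ((∀ V : Submodule ℂ H, V ≠ ⊥ → (∀ x ∈ V, ∀ y ∈ V, q x y = 0) →
        Module.finrank ℂ V + Module.finrank ℂ ↥(⨅ (y : H) (_ : y ∈ V), LinearMap.ker (q.flip y) : Submodule ℂ H) < Module.finrank ℂ H) ↔
      (∀ (ι : Type) [Fintype ι] [DecidableEq ι] (Hs : ι → Submodule ℂ H) (m : ι → ℤ),
        DirectSum.IsInternal Hs → (∑ i, m i * (Module.finrank ℂ (Hs i) : ℤ)) = 0 →
        (∃ i, m i ≠ 0 ∧ Hs i ≠ ⊥) →
        ∃ i j, (∃ x ∈ Hs i, ∃ y ∈ Hs j, q x y ≠ 0) ∧ m i + m j < 0)) := by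
  refine ⟨⟨?_, ?_⟩, ⟨?_, ?_⟩⟩
  · -- semistable, forward
    intro hL ι _ _ Hs m hint hsum hnt
    by_contra hcon
    have hvan : ∀ i j, m i + m j ≤ 0 → ∀ x ∈ Hs i, ∀ y ∈ Hs j, q x y = 0 := by
      intro i j hij x hx y hy
      by_contra hne
      exact hcon ⟨i, j, ⟨x, hx, y, hy, hne⟩, hij⟩
    have hNM : ∀ t, Nn (fun i => finrank ℂ (Hs i)) m t ≤
        Mm (fun i => finrank ℂ (Hs i)) m (t + 1) := by
      intro t
      obtain ⟨V, hVd, hViso, hVH⟩ := key Hs s q hq hint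
        (Finset.univ.filter (fun i => m i ≤ -((t : ℤ) + 1))) (fun j => m j ≤ ((t + 1 : ℕ) : ℤ))
        (fun i hi => by
          have h1 : m i ≤ -((t : ℤ) + 1) := (Finset.mem_filter.mp hi).2
          change m i ≤ ((t + 1 : ℕ) : ℤ)
          push_cast; omega)
        (fun i hi j hj => hvan i j (by
          have h1 : m i ≤ -((t : ℤ) + 1) := (Finset.mem_filter.mp hi).2
          have h2 : m j ≤ ((t + 1 : ℕ) : ℤ) := hj
          push_cast at h2; omega))
      change finrank ℂ V = Nn (fun i => finrank ℂ (Hs i)) m t at hVd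
      change finrank ℂ H ≤ finrank ℂ (perp q V) + Mm (fun i => finrank ℂ (Hs i)) m (t + 1) at hVH
      by_cases hV0 : V = ⊥
      · rw [hV0, finrank_bot] at hVd; omega
      · have h3 := hL V hV0 hViso
        change finrank ℂ V + finrank ℂ (perp q V) ≤ finrank ℂ H at h3
        omega
    have hd := comb_semistable (fun i => finrank ℂ (Hs i)) m hsum hNM
    obtain ⟨i, hmi, hHi⟩ := hnt
    exact hHi (Submodule.finrank_eq_zero.mp (hd i hmi))
  · -- semistable, backward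
    intro hR V hV0 hViso
    by_contra hcon
    obtain ⟨Hs, m, hint, hsum, hnt, hpairs⟩ := decomp_weights s q hq hq0 V hV0 hViso
    obtain ⟨i, j, hne, hle⟩ := hR (Fin 3) Hs m hint hsum hnt
    have hcon' : ¬ (finrank ℂ V + finrank ℂ (perp q V) ≤ finrank ℂ H) := hcon
    have hlt : (finrank ℂ H : ℤ) < finrank ℂ V + finrank ℂ (perp q V) := by omega
    have := (hpairs i j hne).1 hlt
    omega
  · -- stable, forward
    intro hL ι _ _ Hs m hint hsum hnt
    by_contra hcon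
    have hvan : ∀ i j, m i + m j < 0 → ∀ x ∈ Hs i, ∀ y ∈ Hs j, q x y = 0 := by
      intro i j hij x hx y hy
      by_contra hne
      exact hcon ⟨i, j, ⟨x, hx, y, hy, hne⟩, hij⟩
    have hNM : ∀ t, Nn (fun i => finrank ℂ (Hs i)) m t ≠ 0 →
        Nn (fun i => finrank ℂ (Hs i)) m t < Mm (fun i => finrank ℂ (Hs i)) m t := by
      intro t hne
      obtain ⟨V, hVd, hViso, hVH⟩ := key Hs s q hq hint
        (Finset.univ.filter (fun i => m i ≤ -((t : ℤ) + 1))) (fun j => m j ≤ (t : ℤ))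
        (fun i hi => by
          have h1 : m i ≤ -((t : ℤ) + 1) := (Finset.mem_filter.mp hi).2
          change m i ≤ (t : ℤ)
          omega)
        (fun i hi j hj => hvan i j (by
          have h1 : m i ≤ -((t : ℤ) + 1) := (Finset.mem_filter.mp hi).2
          have h2 : m j ≤ (t : ℤ) := hj
          omega))
      change finrank ℂ V = Nn (fun i => finrank ℂ (Hs i)) m t at hVd
      change finrank ℂ H ≤ finrank ℂ (perp q V) + Mm (fun i => finrank ℂ (Hs i)) m t at hVH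
      have hV0 : V ≠ ⊥ := by
        intro h0
        rw [h0, finrank_bot] at hVd
        exact hne hVd.symm
      have h3 := hL V hV0 hViso
      change finrank ℂ V + finrank ℂ (perp q V) < finrank ℂ H at h3
      omega
    have hd := comb_stable (fun i => finrank ℂ (Hs i)) m hsum hNM
    obtain ⟨i, hmi, hHi⟩ := hnt
    exact hHi (Submodule.finrank_eq_zero.mp (hd i hmi))
  · -- stable, backward
    intro hR V hV0 hViso
    by_contra hcon
    obtain ⟨Hs, m, hint, hsum, hnt, hpairs⟩ := decomp_weights s q hq hq0 V hV0 hViso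
    obtain ⟨i, j, hne, hle⟩ := hR (Fin 3) Hs m hint hsum hnt
    have hcon' : ¬ (finrank ℂ V + finrank ℂ (perp q V) < finrank ℂ H) := hcon
    have hlt : (finrank ℂ H : ℤ) ≤ finrank ℂ V + finrank ℂ (perp q V) := by omega
    have := (hpairs i j hne).2 hlt
    omega

end Groth.Agent.S15159
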