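import Groth.Statements.S15162
import Mathlib.LinearAlgebra.Matrix.ToLinearEquiv
import Mathlib.LinearAlgebra.Matrix.Notation
import Mathlib.GroupTheory.OrderOfElement
import Mathlib.Tactic.LinearCombination
import Mathlib.Tactic.FinCases
import Mathlib.Tactic.Abel

set_option autoImplicit false
open Matrix
open BddFin

namespace Groth.Agent.S15162

open Matrix in
/-- An integer `2 × 2` matrix of determinant one, of finite order, with a nonzero fixed vector is
the identity. -/
theorem eq_one_of_det_one (M : Matrix (Fin 2) (Fin 2) ℤ) (hdet : M.det = 1)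
    (n : ℕ) (hn : 0 < n) (hMn : M ^ n = 1)
    (v : Fin 2 → ℤ) (hv : v ≠ 0) (hfix : M *ᵥ v = v) : M = 1 := by
  have hdet0 : (M - 1).det = 0 := by
    rw [← Matrix.exists_mulVec_eq_zero_iff]
    exact ⟨v, hv, by rw [Matrix.sub_mulVec, hfix, Matrix.one_mulVec, sub_self]⟩
  rw [Matrix.det_fin_two] at hdet hdet0
  simp only [Matrix.sub_apply, Matrix.one_apply_eq, Matrix.one_apply_ne, ne_eq, Fin.isValue,
    zero_ne_one, one_ne_zero, not_false_eq_true, sub_zero] at hdet0
  have htr : M 0 0 + M 1 1 = 2 := by linear_combination hdet - hdet0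
  set N : Matrix (Fin 2) (Fin 2) ℤ := M - 1 with hN
  have hN2 : N * N = 0 := by
    ext i j
    fin_cases i <;> fin_cases j <;>
      simp [hN, Matrix.mul_apply, Fin.sum_univ_two, Matrix.sub_apply]
    · linear_combination M 0 0 * htr - hdet
    · linear_combination M 0 1 * htr
    · linear_combination M 1 0 * htr
    · linear_combination M 1 1 * htr - hdet
  have hM : M = 1 + N := by rw [hN]; abel
  have hpow : ∀ k : ℕ, M ^ k = 1 + k • N := by
    intro k
    induction k with
    | zero => simp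
    | succ k ih =>
      rw [pow_succ, ih]
      have e : (1 + k • N) * M = (1 + k • N) * (1 + N) := by rw [← hM]
      rw [e]
      simp only [mul_add, add_mul, mul_one, one_mul, smul_mul_assoc, hN2, smul_zero,
        add_zero, succ_nsmul]
      abel
  have hnN : n • N = 0 := by
    have := hpow n
    rw [hMn] at this
    have h2 : (1 : Matrix (Fin 2) (Fin 2) ℤ) + 0 = 1 + n • N := by rw [add_zero]; exact this
    exact (add_left_cancel h2).symm
  have hN0 : N = 0 := by
    ext i j
    have := congrFun (congrFun hnN i) j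
    simp only [Matrix.smul_apply, Matrix.zero_apply, nsmul_eq_mul] at this
    rcases mul_eq_zero.mp this with h | h
    · exact absurd (by exact_mod_cast h) hn.ne'
    · exact h
  rw [hM, hN0, add_zero]


/-- Let Γ be a finite subgroup of GL_2(ℤ) acting on ℤ² by matrix multiplication. If every element of Γ
has a non-zero fixed vector in ℤ², then there is a non-zero vector of ℤ² fixed by all of Γ. -/
theorem result
    (Γ : Subgroup (Matrix.GeneralLinearGroup (Fin 2) ℤ)) [Finite Γ]
    (h : ∀ γ ∈ Γ, ∃ v : Fin 2 → ℤ, v ≠ 0 ∧ (γ : Matrix (Fin 2) (Fin 2) ℤ) *ᵥ v = v) :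
    ∃ v : Fin 2 → ℤ, v ≠ 0 ∧ ∀ γ ∈ Γ, (γ : Matrix (Fin 2) (Fin 2) ℤ) *ᵥ v = v := by
  classical
  -- elements of determinant one are trivial
  have K : ∀ γ ∈ Γ, Matrix.GeneralLinearGroup.det γ = 1 → γ = 1 := by
    intro γ hγ hdet
    obtain ⟨v, hv, hfix⟩ := h γ hγ
    obtain ⟨n, hn, hpow⟩ := (isOfFinOrder_of_finite (⟨γ, hγ⟩ : Γ)).exists_pow_eq_one
    have hpow' : γ ^ n = 1 := by
      have := congrArg Subtype.val hpow
      simpa using this
    have hMn : (γ : Matrix (Fin 2) (Fin 2) ℤ) ^ n = 1 := by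
      have := congrArg (fun g : Matrix.GeneralLinearGroup (Fin 2) ℤ =>
        (g : Matrix (Fin 2) (Fin 2) ℤ)) hpow'
      simpa using this
    have hdet' : (γ : Matrix (Fin 2) (Fin 2) ℤ).det = 1 := by
      have := congrArg (fun u : ℤˣ => (u : ℤ)) hdet
      simpa using this
    have := eq_one_of_det_one _ hdet' n hn hMn v hv hfix
    exact Units.ext this
  have K2 : ∀ γ ∈ Γ, ∀ δ ∈ Γ, Matrix.GeneralLinearGroup.det γ = -1 →
      Matrix.GeneralLinearGroup.det δ = -1 → γ = δ := by
    intro γ hγ δ hδ h1 h2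
    have hmem : γ * δ⁻¹ ∈ Γ := Γ.mul_mem hγ (Γ.inv_mem hδ)
    have hdet : Matrix.GeneralLinearGroup.det (γ * δ⁻¹) = 1 := by
      rw [map_mul, map_inv, h1, h2]
      decide
    have := K _ hmem hdet
    exact mul_inv_eq_one.mp this
  by_cases hall : ∀ γ ∈ Γ, γ = 1
  · refine ⟨![1, 0], ?_, ?_⟩
    · intro h0
      have := congrFun h0 0
      simp at this
    · intro γ hγ
      rw [hall γ hγ]
      simp
  · have hall' : ∃ γ, γ ∈ Γ ∧ γ ≠ 1 := by
      by_contra hno
      apply hall
      intro γ hγ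
      by_contra hne
      exact hno ⟨γ, hγ, hne⟩
    obtain ⟨γ0, hγ0, hne⟩ := hall'
    have hdet0 : Matrix.GeneralLinearGroup.det γ0 = -1 := by
      rcases Int.units_eq_one_or (Matrix.GeneralLinearGroup.det γ0) with h1 | h1
      · exact absurd (K γ0 hγ0 h1) hne
      · exact h1
    obtain ⟨v, hv, hfix⟩ := h γ0 hγ0
    refine ⟨v, hv, ?_⟩
    intro γ hγ
    rcases Int.units_eq_one_or (Matrix.GeneralLinearGroup.det γ) with h1 | h1
    · rw [K γ hγ h1]
      simp
    · rw [K2 γ hγ γ0 hγ0 h1 hdet0]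
      exact hfix

end Groth.Agent.S15162
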