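import Groth.Statements.S15163
import Groth.Agent.S15162
import Mathlib.LinearAlgebra.Matrix.Adjugate
import Mathlib.LinearAlgebra.Matrix.ToLinearEquiv
import Mathlib.LinearAlgebra.Matrix.Notation
import Mathlib.GroupTheory.OrderOfElement
import Mathlib.Tactic.LinearCombination
import Mathlib.Tactic.FinCases
import Mathlib.Tactic.Linarith
import Mathlib.Tactic.Ring

set_option autoImplicit false
open Matrix
open BddFin

namespace Groth.Agent.S15163


theorem abs_step (t a b δ : ℤ) (hδ : δ = 1 ∨ δ = -1) (ht : 3 ≤ |t|) (hab : |b| < |a|) :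
    |a| < |t * a - δ * b| := by
  have h1 : |t * a| = |t| * |a| := abs_mul t a
  have h2 : 3 * |a| ≤ |t| * |a| := mul_le_mul_of_nonneg_right ht (abs_nonneg a)
  have h3 : |t * a| - |δ * b| ≤ |t * a - δ * b| := abs_sub_abs_le_abs_sub _ _
  have h4 : |δ * b| = |b| := by
    rcases hδ with rfl | rfl
    · rw [one_mul]
    · rw [neg_one_mul, abs_neg]
  have h5 := abs_nonneg a
  linarith

/-- An integer `2 × 2` matrix of finite order and determinant `± 1` has trace of absolute value at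
most two. -/
theorem trace_bound (M : Matrix (Fin 2) (Fin 2) ℤ) (hdet : M.det = 1 ∨ M.det = -1)
    (n : ℕ) (hn : 0 < n) (hMn : M ^ n = 1) : |M 0 0 + M 1 1| ≤ 2 := by
  by_contra hcon
  push Not at hcon
  have ht : 3 ≤ |M 0 0 + M 1 1| := by omega
  have hCH : M * M = (M 0 0 + M 1 1 : ℤ) • M - (M.det : ℤ) • (1 : Matrix (Fin 2) (Fin 2) ℤ) := by
    rw [Matrix.det_fin_two, ← Matrix.ext_iff]
    simp only [Fin.forall_fin_two]
    refine ⟨⟨?_, ?_⟩, ⟨?_, ?_⟩⟩ <;>
    simp only [Matrix.mul_apply, Fin.sum_univ_two, Matrix.sub_apply, Matrix.smul_apply, smul_eq_mul,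
      Matrix.one_apply_eq, Matrix.one_apply_ne, ne_eq, Fin.isValue, zero_ne_one, one_ne_zero,
      not_false_eq_true] <;> ring
  have hrec : ∀ k : ℕ, M ^ (k + 2) = (M 0 0 + M 1 1 : ℤ) • M ^ (k + 1) - (M.det : ℤ) • M ^ k := by
    intro k
    rw [pow_add, pow_two, hCH, mul_sub, Matrix.mul_smul, Matrix.mul_smul, mul_one, pow_succ]
  have hT : ∀ k : ℕ, (M ^ (k + 2)) 0 0 + (M ^ (k + 2)) 1 1 =
      (M 0 0 + M 1 1) * ((M ^ (k + 1)) 0 0 + (M ^ (k + 1)) 1 1) -
        M.det * ((M ^ k) 0 0 + (M ^ k) 1 1) := by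
    intro k
    rw [hrec k]
    simp only [Matrix.sub_apply, Matrix.smul_apply, smul_eq_mul]
    ring
  have hR : ∀ k : ℕ, (2 + (k : ℤ) ≤ |(M ^ k) 0 0 + (M ^ k) 1 1|) ∧
      |(M ^ k) 0 0 + (M ^ k) 1 1| < |(M ^ (k + 1)) 0 0 + (M ^ (k + 1)) 1 1| := by
    intro k
    induction k with
    | zero =>
      have h0 : (M ^ 0) 0 0 + (M ^ 0) 1 1 = 2 := by simp
      have h1 : (M ^ (0 + 1)) 0 0 + (M ^ (0 + 1)) 1 1 = M 0 0 + M 1 1 := by simp
      rw [h0, h1, abs_of_nonneg (by norm_num : (0 : ℤ) ≤ 2)]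
      constructor
      · simp
      · omega
    | succ k ih =>
      constructor
      · push_cast
        omega
      · show |(M ^ (k + 1)) 0 0 + (M ^ (k + 1)) 1 1| < |(M ^ (k + 2)) 0 0 + (M ^ (k + 2)) 1 1|
        rw [hT k]
        exact abs_step _ _ _ _ hdet ht ih.2
  have h := (hR n).1
  rw [hMn] at h
  have h2 : ((1 : Matrix (Fin 2) (Fin 2) ℤ) 0 0 + (1 : Matrix (Fin 2) (Fin 2) ℤ) 1 1) = 2 := by simp
  rw [h2, abs_of_nonneg (by norm_num : (0 : ℤ) ≤ 2)] at h
  omega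

/-- Let Γ be a finite subgroup of GL_2(ℤ) and d > 6 an integer. Suppose some vector w of (ℤ/dℤ)², with
m·w ≠ 0 for all 0 < m < d, is fixed by the reduction modulo d of every element of Γ. Then some
non-zero vector of ℤ² is fixed by all of Γ. -/
theorem result
    (Γ : Subgroup (Matrix.GeneralLinearGroup (Fin 2) ℤ)) [Finite Γ] (d : ℕ) (hd : 6 < d)
    (w : Fin 2 → ZMod d) (hw : ∀ m : ℕ, 0 < m → m < d → m • w ≠ 0)
    (hfix : ∀ γ ∈ Γ, ((γ : Matrix (Fin 2) (Fin 2) ℤ).map (Int.castRingHom (ZMod d))) *ᵥ w = w) :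
    ∃ v : Fin 2 → ℤ, v ≠ 0 ∧ ∀ γ ∈ Γ, (γ : Matrix (Fin 2) (Fin 2) ℤ) *ᵥ v = v := by
  classical
  apply Groth.Agent.S15162.result Γ
  intro γ hγ
  by_contra hno
  obtain ⟨n, hn, hpow⟩ := (isOfFinOrder_of_finite (⟨γ, hγ⟩ : Γ)).exists_pow_eq_one
  have hpow' : γ ^ n = 1 := by
    have := congrArg Subtype.val hpow
    simpa using this
  have hMn : (γ : Matrix (Fin 2) (Fin 2) ℤ) ^ n = 1 := by
    have := congrArg (fun g : Matrix.GeneralLinearGroup (Fin 2) ℤ =>
      (g : Matrix (Fin 2) (Fin 2) ℤ)) hpow'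
    simpa using this
  have hdet : (γ : Matrix (Fin 2) (Fin 2) ℤ).det = 1 ∨ (γ : Matrix (Fin 2) (Fin 2) ℤ).det = -1 := by
    rcases Int.units_eq_one_or (Matrix.GeneralLinearGroup.det γ) with h1 | h1
    · left
      have := congrArg (fun u : ℤˣ => (u : ℤ)) h1
      simpa using this
    · right
      have := congrArg (fun u : ℤˣ => (u : ℤ)) h1
      simpa using this
  have hmod := hfix γ hγ
  obtain ⟨M, hM⟩ : ∃ M : Matrix (Fin 2) (Fin 2) ℤ, M = ↑γ := ⟨_, rfl⟩
  rw [← hM] at hMn hdet hno hmod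
  have htr := trace_bound M hdet n hn hMn
  have hD0 : (M - 1).det ≠ 0 := by
    intro h0
    obtain ⟨v, hv, hv0⟩ := Matrix.exists_mulVec_eq_zero_iff.mpr h0
    apply hno
    refine ⟨v, hv, ?_⟩
    rw [Matrix.sub_mulVec, Matrix.one_mulVec, sub_eq_zero] at hv0
    exact hv0
  have hDval : (M - 1).det = 1 - (M 0 0 + M 1 1) + M.det := by
    rw [Matrix.det_fin_two, Matrix.det_fin_two]
    simp only [Matrix.sub_apply, Matrix.one_apply_eq, Matrix.one_apply_ne, ne_eq, Fin.isValue,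
      zero_ne_one, one_ne_zero, not_false_eq_true, sub_zero]
    ring
  have e : (M - 1).map (Int.castRingHom (ZMod d)) =
      M.map (Int.castRingHom (ZMod d)) - 1 := by
    rw [← RingHom.mapMatrix_apply, map_sub, map_one, RingHom.mapMatrix_apply]
  have h1 : ((M - 1).map (Int.castRingHom (ZMod d))) *ᵥ w = 0 := by
    rw [e, Matrix.sub_mulVec, hmod, Matrix.one_mulVec, sub_self]
  have h2 : (((M - 1).det : ℤ) : ZMod d) • w = 0 := by
    have h3 := congrArg
      (fun u => (Matrix.adjugate ((M - 1).map (Int.castRingHom (ZMod d)))) *ᵥ u) h1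
    simp only [Matrix.mulVec_mulVec, Matrix.adjugate_mul, Matrix.mulVec_zero,
      Matrix.smul_mulVec, Matrix.one_mulVec] at h3
    rw [← RingHom.mapMatrix_apply, ← RingHom.map_det] at h3
    exact h3
  have hdpos : (0 : ℤ) < (d : ℤ) := by exact_mod_cast (by omega : 0 < d)
  have hr0 := Int.emod_nonneg ((M - 1).det) hdpos.ne'
  have hr1 := Int.emod_lt_of_pos ((M - 1).det) hdpos
  have hcast : ((((M - 1).det % (d : ℤ)).toNat : ℕ) : ZMod d) = (((M - 1).det : ℤ) : ZMod d) := by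
    rw [← Int.cast_natCast, Int.toNat_of_nonneg hr0, ZMod.intCast_mod]
  have hm0 : ((M - 1).det % (d : ℤ)).toNat = 0 := by
    by_contra hne
    have hpos : 0 < ((M - 1).det % (d : ℤ)).toNat := Nat.pos_of_ne_zero hne
    have hlt : ((M - 1).det % (d : ℤ)).toNat < d := by omega
    apply hw _ hpos hlt
    rw [← Nat.cast_smul_eq_nsmul (ZMod d), hcast]
    exact h2
  have hdvd : (d : ℤ) ∣ (M - 1).det := by
    apply Int.dvd_of_emod_eq_zero
    omega
  obtain ⟨hl, hu⟩ := abs_le.mp htr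
  rcases lt_or_gt_of_ne hD0 with hneg | hpos
  · have h4 : (d : ℤ) ∣ -(M - 1).det := (dvd_neg).mpr hdvd
    have h5 := Int.le_of_dvd (by omega) h4
    rcases hdet with h6 | h6 <;> omega
  · have h5 := Int.le_of_dvd hpos hdvd
    rcases hdet with h6 | h6 <;> omega

end Groth.Agent.S15163
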