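import Groth.Statements.S15164
import Mathlib.Algebra.CharP.Lemmas
import Mathlib.Tactic.LinearCombination
import Mathlib.Algebra.CharP.Algebra
import Mathlib.Algebra.Module.Equiv.Basic

set_option autoImplicit false
universe u v
open BddFin

namespace Groth.Agent.S15164

/-- Let K be a field of characteristic p > 2, V a finite-dimensional K-vector space and q a quadratic
form on V that does not represent zero (q x = 0 only for x = 0). Then the group of K-linear
automorphisms of V preserving q has no element of order p: if g preserves q and g ^ p = 1 then g =
1. (Non-degeneracy of q, also assumed in the published statement, follows from anisotropy since 2 is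
invertible, so it is not repeated here.) -/
theorem result
    (K : Type u) [Field K] (p : ℕ) [Fact p.Prime] [CharP K p] (hp : p ≠ 2)
    (V : Type v) [AddCommGroup V] [Module K V] [FiniteDimensional K V]
    (q : QuadraticForm K V) (hq : q.Anisotropic)
    (g : V ≃ₗ[K] V) (hg : ∀ x : V, q (g x) = q x) (hgp : g ^ p = 1) : g = 1 := by
  rcases subsingleton_or_nontrivial V with hsub | hnt
  · ext x
    exact Subsingleton.elim _ _
  let G : Module.End K V := g.toLinearMap
  have hGp : G ^ p = 1 := by
    have h1 := congrArg LinearEquiv.automorphismGroup.toLinearMapMonoidHom hgp
    rw [map_pow, map_one] at h1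
    exact h1
  have hGapp : ∀ x, G x = g x := fun _ => rfl
  have hinj : Function.Injective (algebraMap K (Module.End K V)) :=
    (algebraMap K (Module.End K V)).injective
  haveI : CharP (Module.End K V) p := charP_of_injective_algebraMap hinj p
  set N : Module.End K V := G - 1 with hN
  have hNp : N ^ p = 0 := by
    rw [hN, sub_pow_char_of_commute p (Commute.one_right G), hGp, one_pow, sub_self]
  have h2 : (2 : K) ≠ 0 := by
    intro h
    have h' : ((2 : ℕ) : K) = 0 := by exact_mod_cast h
    rw [CharP.cast_eq_zero_iff K p 2] at h'
    have hp2 : p = 2 := (Nat.prime_dvd_prime_iff_eq Fact.out Nat.prime_two).mp h'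
    exact hp hp2
  -- kernel and range of `N` meet trivially
  have hker : ∀ v : V, N (N v) = 0 → N v = 0 := by
    intro v hv
    set w := N v with hw
    have hGv : g v = v + w := by
      rw [hw, hN, LinearMap.sub_apply, hGapp]
      simp
    have hGw : g w = w := by
      have : G w - w = 0 := by
        have := hv
        rw [hN, LinearMap.sub_apply] at this
        simpa using this
      rw [hGapp] at this
      exact sub_eq_zero.mp this
    have e1 : q (v + w) = q v := by rw [← hGv, hg]
    have hGvw : g (v - w) = v := by
      rw [map_sub, hGv, hGw]; abel
    have e2 : q (v - w) = q v := by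
      rw [← hg (v - w), hGvw]
    have e3 : q (v + w) = q v + q w + QuadraticMap.polar q v w := QuadraticMap.map_add q v w
    have e4 : q (v - w) = q v + q w - QuadraticMap.polar q v w := by
      rw [sub_eq_add_neg, QuadraticMap.map_add q v (-w), QuadraticMap.map_neg,
        QuadraticMap.polar_neg_right]
      ring
    have e5 : 2 * q w = 0 := by
      have h3 := e1.symm.trans e3
      have h4 := e2.symm.trans e4
      linear_combination -h3 - h4
    have e6 : q w = 0 := by
      rcases mul_eq_zero.mp e5 with h | h
      · exact absurd h h2
      · exact h
    exact hq w e6
  have hN0 : ∀ k : ℕ, N ^ (k + 1) = 0 → N = 0 := by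
    intro k
    induction k with
    | zero => intro h; simpa using h
    | succ k ih =>
      intro h
      apply ih
      ext u
      have h1 : N (N ((N ^ k) u)) = 0 := by
        have := congrArg (fun f : Module.End K V => f u) h
        simp only [pow_succ', Module.End.mul_apply, LinearMap.zero_apply] at this
        exact this
      have h2 := hker _ h1
      simp only [pow_succ', Module.End.mul_apply, LinearMap.zero_apply]
      exact h2
  have hp1 : p = (p - 1) + 1 := by
    have := (Fact.out : p.Prime).pos
    omega
  have hNz : N = 0 := hN0 (p - 1) (by rw [← hp1]; exact hNp)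
  ext x
  have : G x - x = 0 := by
    have := congrArg (fun f : Module.End K V => f x) hNz
    simpa [hN] using this
  rw [hGapp] at this
  simpa using sub_eq_zero.mp this

end Groth.Agent.S15164
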