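import Groth.Statements.S15165
import Mathlib.LinearAlgebra.Eigenspace.Minpoly
import Mathlib.FieldTheory.Minpoly.Field
import Mathlib.LinearAlgebra.QuadraticForm.Basic
import Mathlib.Algebra.Polynomial.Splits
import Mathlib.Tactic.Ring
import Mathlib.Tactic.Abel
import Mathlib.Tactic.LinearCombination

set_option autoImplicit false
universe u v
open Polynomial
open BddFin

namespace Groth.Agent.S15165

theorem prod_dvd_pow {K : Type u} [Field K] (P : K[X]) (s : Multiset K)
    (h : ∀ a ∈ s, (X - C a) ∣ P) : (s.map (X - C ·)).prod ∣ P ^ (Multiset.card s) := by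
  induction s using Multiset.induction_on with
  | empty => simp
  | cons a s ih =>
    rw [Multiset.map_cons, Multiset.prod_cons, Multiset.card_cons, pow_succ']
    exact mul_dvd_mul (h a (Multiset.mem_cons_self a s))
      (ih (fun b hb => h b (Multiset.mem_cons_of_mem hb)))

/-- A unipotent isometry of an anisotropic quadratic form (char ≠ 2) is the identity. -/
theorem unipotent_isometry_eq_one {K : Type u} [Field K] (h2 : (2 : K) ≠ 0)
    {V : Type v} [AddCommGroup V] [Module K V] (q : QuadraticForm K V) (hq : q.Anisotropic)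
    (h : Module.End K V) (hh : ∀ x, q (h x) = q x) (k : ℕ) (hk : (h - 1) ^ k = 0) : h = 1 := by
  classical
  have hex : ∃ k, (h - 1) ^ k = 0 := ⟨k, hk⟩
  obtain ⟨k, hk, hmin⟩ : ∃ k, (h - 1) ^ k = 0 ∧ ∀ m < k, (h - 1) ^ m ≠ 0 :=
    ⟨Nat.find hex, Nat.find_spec hex, fun m hm => Nat.find_min hex hm⟩
  by_cases hk1 : k ≤ 1
  · have h1 : (h - 1) ^ 1 = 0 := by
      rcases Nat.le_one_iff_eq_zero_or_eq_one.mp hk1 with rfl | rfl
      · rw [pow_zero] at hk; rw [pow_one, ← mul_one (h - 1), hk, mul_zero]
      · exact hk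
    rw [pow_one] at h1
    exact sub_eq_zero.mp h1
  · exfalso
    obtain ⟨m, rfl⟩ : ∃ m, k = m + 2 := ⟨k - 2, by omega⟩
    have hne := hmin (m + 1) (by omega)
    obtain ⟨w, hw⟩ : ∃ w, ((h - 1) ^ (m + 1)) w ≠ 0 := by
      by_contra hcon
      push Not at hcon
      exact hne (LinearMap.ext hcon)
    obtain ⟨y, hy⟩ : ∃ y : V, y = ((h - 1) ^ m) w := ⟨_, rfl⟩
    obtain ⟨v, hv⟩ : ∃ v : V, v = (h - 1) y := ⟨_, rfl⟩
    have hv0 : v ≠ 0 := by
      rw [hv, hy]
      rwa [pow_succ', Module.End.mul_apply] at hw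
    have hNv : (h - 1) v = 0 := by
      have h1 : ((h - 1) ^ (m + 2)) w = 0 := by rw [hk]; rfl
      rwa [pow_succ', Module.End.mul_apply, pow_succ', Module.End.mul_apply, ← hy, ← hv] at h1
    have hhv : h v = v := by
      have h1 : (h - 1) v = h v - v := rfl
      rw [h1] at hNv
      exact sub_eq_zero.mp hNv
    have hhy : h y = y + v := by
      have h1 : (h - 1) y = h y - y := rfl
      rw [hv, h1]; abel
    have hpol : QuadraticMap.polar q (h v) (h y) = QuadraticMap.polar q v y := by
      unfold QuadraticMap.polar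
      rw [← map_add, hh, hh, hh]
    rw [hhv, hhy, QuadraticMap.polar_add_right, QuadraticMap.polar_self] at hpol
    have h3 : (2 : K) * q v = 0 := by
      have h4 : (2 : ℕ) • q v = 0 := by
        have h5 := hpol
        rw [add_eq_left] at h5
        exact h5
      rw [← h4]; simp
    rcases mul_eq_zero.mp h3 with h4 | h4
    · exact h2 h4
    · exact hv0 (hq v h4)

/-- Let K be a field of characteristic different from 2 such that K contains all roots of unity (for
every n ≥ 1 the polynomial X^n − 1 splits into linear factors over K), V a finite-dimensional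
K-vector space and q a quadratic form on V that does not represent zero. If a K-linear automorphism
g of V preserves q and has finite order (g ^ d = 1 for some d ≥ 1), then g ^ 2 = 1. (The published
statement also covers perfect fields of characteristic 2; this row is the case of characteristic ≠
2.) -/
theorem result
    (K : Type u) [Field K] (hK : ∀ n : ℕ, 0 < n → (X ^ n - 1 : K[X]).Splits) (h2 : (2 : K) ≠ 0)
    (V : Type v) [AddCommGroup V] [Module K V] [FiniteDimensional K V]
    (q : QuadraticForm K V) (hq : q.Anisotropic)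
    (g : V ≃ₗ[K] V) (hg : ∀ x : V, q (g x) = q x) (d : ℕ) (hd : 0 < d) (hgd : g ^ d = 1) :
    g ^ 2 = 1 := by
  classical
  obtain ⟨f, hf⟩ : ∃ f : Module.End K V, f = LinearEquiv.automorphismGroup.toLinearMapMonoidHom g :=
    ⟨_, rfl⟩
  have hfx : ∀ x, f x = g x := fun x => by rw [hf]; rfl
  have hfd : f ^ d = 1 := by rw [hf, ← map_pow, hgd, map_one]
  have hint : IsIntegral K f := IsIntegral.of_finite K f
  have hdvd : minpoly K f ∣ X ^ d - 1 := by
    apply minpoly.dvd
    rw [map_sub, map_pow, aeval_X, map_one, hfd, sub_self]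
  have hne : (X ^ d - 1 : K[X]) ≠ 0 := by
    have h1 : (X ^ d - 1 : K[X]).Monic := by
      have h0 := monic_X_pow_sub_C (1 : K) hd.ne'
      rwa [C_1] at h0
    exact h1.ne_zero
  have hsplit : (minpoly K f).Splits := (hK d hd).of_dvd hne hdvd
  have hmon := minpoly.monic hint
  have hroots : ∀ a ∈ (minpoly K f).roots, (X - C a) ∣ (X ^ 2 - 1 : K[X]) := by
    intro a ha
    rw [mem_roots hmon.ne_zero] at ha
    obtain ⟨v, hv⟩ := (Module.End.hasEigenvalue_of_isRoot ha).exists_hasEigenvector
    have hv1 : f v = a • v := Module.End.mem_eigenspace_iff.mp hv.1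
    have hv0 : v ≠ 0 := hv.2
    have hq1 : q v = (a * a) * q v := by
      conv_lhs => rw [← hg v, ← hfx, hv1, QuadraticMap.map_smul]
      rw [smul_eq_mul]
    have hqv : q v ≠ 0 := fun h0 => hv0 (hq v h0)
    have ha2 : a * a = 1 := by
      have h1 : (a * a - 1) * q v = 0 := by rw [sub_mul, one_mul, ← hq1, sub_self]
      rcases mul_eq_zero.mp h1 with h3 | h3
      · exact sub_eq_zero.mp h3
      · exact absurd h3 hqv
    refine ⟨X + C a, ?_⟩
    have h1 : (X - C a) * (X + C a) = X ^ 2 - C (a * a) := by rw [C_mul]; ring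
    rw [h1, ha2, C_1]
  have hprod := hsplit.eq_prod_roots_of_monic hmon
  have hdvd2 : minpoly K f ∣ (X ^ 2 - 1 : K[X]) ^ (Multiset.card (minpoly K f).roots) := by
    conv_lhs => rw [hprod]
    exact prod_dvd_pow _ _ hroots
  have hnil : (f ^ 2 - 1) ^ (Multiset.card (minpoly K f).roots) = 0 := by
    obtain ⟨r, hr⟩ := hdvd2
    have h1 := congrArg (aeval f) hr
    rw [map_mul, minpoly.aeval, zero_mul, map_pow, map_sub, map_pow, aeval_X, map_one] at h1
    exact h1
  have hiso : ∀ x, q ((f ^ 2) x) = q x := by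
    intro x
    rw [pow_two, Module.End.mul_apply, hfx, hfx, hg, hg]
  have hf2 : f ^ 2 = 1 := unipotent_isometry_eq_one h2 q hq (f ^ 2) hiso _ hnil
  ext x
  have h1 : (f ^ 2) x = x := by rw [hf2]; rfl
  rw [pow_two, Module.End.mul_apply, hfx, hfx] at h1
  rw [pow_two]
  exact h1

end Groth.Agent.S15165
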