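import Groth.Statements.S15166
import Groth.Agent.S15165
import Mathlib

set_option autoImplicit false
universe u v
open Polynomial
open BddFin

namespace Groth.Agent.S15166

theorem eig_of_inv {K : Type u} [Field K] (h2 : (2:K) ≠ 0) {V : Type v} [AddCommGroup V]
    [Module K V] (T : Module.End K V) (hT : ∀ x, T (T x) = x) (c : K) (x : V)
    (hx : x ∈ T.maxGenEigenspace c) : T x = c • x := by
  have e1 : ∀ w : V, (T - c • (1 : Module.End K V)) w = T w - c • w := fun w => by
    rw [LinearMap.sub_apply, LinearMap.smul_apply, Module.End.one_apply]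
  have hN2 : ∀ y : V, (T - c • (1 : Module.End K V)) ((T - c • (1 : Module.End K V)) y) = 0 →
      (T - c • (1 : Module.End K V)) y = 0 := by
    intro y hy
    rw [e1 ((T - c • (1 : Module.End K V)) y), e1 y] at hy
    rw [e1 y]
    have hy' : y - c • T y - c • (T y - c • y) = 0 := by
      rw [map_sub, map_smul, hT] at hy
      exact hy
    by_cases hcc : c * c = 1
    · have h1 : (c * c) • y = y := by rw [hcc, one_smul]
      have h1' : (c * c) • T y = T y := by rw [hcc, one_smul]
      have h3 : (2:K) • (T y - c • y) = 0 := by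
        linear_combination (norm := module) (-c) • hy' + c • h1 - (2:K) • h1'
      exact (smul_eq_zero.mp h3).resolve_left h2
    · have hz : T (T y - c • y) = c • (T y - c • y) := by
        rw [map_sub, map_smul, hT]
        exact sub_eq_zero.mp hy'
      have hzz : (T y - c • y) = (c * c) • (T y - c • y) := by
        calc (T y - c • y) = T (T (T y - c • y)) := (hT _).symm
          _ = T (c • (T y - c • y)) := by rw [hz]
          _ = c • T (T y - c • y) := map_smul T c _
          _ = c • c • (T y - c • y) := by rw [hz]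
          _ = (c * c) • (T y - c • y) := smul_smul c c _
      have h4 : (1 - c * c) • (T y - c • y) = 0 := by
        rw [sub_smul, one_smul, ← hzz, sub_self]
      exact (smul_eq_zero.mp h4).resolve_left (sub_ne_zero.mpr (Ne.symm hcc))
  have hk : ∀ k : ℕ, ∀ w : V, ((T - c • (1 : Module.End K V)) ^ (k + 1)) w = 0 →
      (T - c • (1 : Module.End K V)) w = 0 := by
    intro k
    induction k with
    | zero => intro w hw; rwa [zero_add, pow_one] at hw
    | succ k ih =>
      intro w hw
      apply ih
      rw [pow_succ', pow_succ', Module.End.mul_apply, Module.End.mul_apply] at hw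
      rw [pow_succ', Module.End.mul_apply]
      exact hN2 _ hw
  rw [Module.End.mem_maxGenEigenspace] at hx
  obtain ⟨k, hk'⟩ := hx
  have hNx : (T - c • (1 : Module.End K V)) x = 0 := by
    cases k with
    | zero =>
      rw [pow_zero, Module.End.one_apply] at hk'
      rw [hk', map_zero]
    | succ k => exact hk k x hk'
  rw [e1] at hNx
  exact sub_eq_zero.mp hNx

theorem card_le_of_involutions {K : Type u} [Field K] (h2 : (2:K) ≠ 0) {V : Type v}
    [AddCommGroup V] [Module K V] [FiniteDimensional K V] {ι : Type*} [Finite ι]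
    (f : ι → Module.End K V)
    (hinv : ∀ i x, f i (f i x) = x) (hcomm : ∀ i j x, f i (f j x) = f j (f i x))
    (hinj : Function.Injective f) : Nat.card ι ≤ 2 ^ Module.finrank K V := by
  classical
  have h' : ∀ i, ⨆ μ, (f i).maxGenEigenspace μ = ⊤ := by
    intro i
    rw [eq_top_iff]
    intro x _
    have hx : x = (2:K)⁻¹ • (x + f i x) + (2:K)⁻¹ • (x - f i x) := by
      rw [← smul_add, show x + f i x + (x - f i x) = (2:K) • x by rw [two_smul]; abel,
        inv_smul_smul₀ h2]
    rw [hx]
    refine Submodule.add_mem _ (Submodule.smul_mem _ _ ?_) (Submodule.smul_mem _ _ ?_)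
    · refine Submodule.mem_iSup_of_mem (1:K) ?_
      rw [Module.End.mem_maxGenEigenspace]
      refine ⟨1, ?_⟩
      rw [pow_one, LinearMap.sub_apply, LinearMap.smul_apply, Module.End.one_apply, one_smul,
        map_add, hinv]
      abel
    · refine Submodule.mem_iSup_of_mem (-1:K) ?_
      rw [Module.End.mem_maxGenEigenspace]
      refine ⟨1, ?_⟩
      rw [pow_one, LinearMap.sub_apply, LinearMap.smul_apply, Module.End.one_apply, neg_smul,
        one_smul, map_sub, hinv]
      abel
  have hc : Pairwise fun i j => Commute (f i) (f j) := by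
    intro i j _
    show f i * f j = f j * f i
    exact LinearMap.ext fun x => hcomm i j x
  have hmaps : ∀ i j (φ : K), Set.MapsTo (f i) ((f j).maxGenEigenspace φ)
      ((f j).maxGenEigenspace φ) := by
    intro i j φ
    refine Module.End.mapsTo_maxGenEigenspace_of_comm ?_ φ
    show f j * f i = f i * f j
    exact LinearMap.ext fun x => hcomm j i x
  have htop :=
    Module.End.iSup_iInf_maxGenEigenspace_eq_top_of_iSup_maxGenEigenspace_eq_top_of_commute f hc h'
  have hind := Module.End.independent_iInf_maxGenEigenspace_of_forall_mapsTo f hmaps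
  haveI : Fintype {χ : ι → K // (⨅ i, (f i).maxGenEigenspace (χ i)) ≠ ⊥} :=
    hind.fintypeNeBotOfFiniteDimensional
  have hcard : Fintype.card {χ : ι → K // (⨅ i, (f i).maxGenEigenspace (χ i)) ≠ ⊥} ≤
      Module.finrank K V := hind.subtype_ne_bot_le_finrank
  have key : ∀ (χ : ι → K) (x : V), x ∈ (⨅ i, (f i).maxGenEigenspace (χ i)) →
      ∀ i, f i x = χ i • x := by
    intro χ x hx i
    exact eig_of_inv h2 (f i) (hinv i) (χ i) x ((Submodule.mem_iInf _).mp hx i)
  have hΦ : Function.Injective (fun (i : ι)
      (χ : {χ : ι → K // (⨅ i, (f i).maxGenEigenspace (χ i)) ≠ ⊥}) => decide (χ.1 i = 1)) := by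
    intro i j hij
    apply hinj
    refine LinearMap.ext fun x => ?_
    have hx : x ∈ ⨆ χ : ι → K, ⨅ i, (f i).maxGenEigenspace (χ i) := by
      rw [htop]; exact Submodule.mem_top
    refine Submodule.iSup_induction (fun χ : ι → K => ⨅ i, (f i).maxGenEigenspace (χ i))
      (motive := fun x => f i x = f j x) hx ?_ ?_ ?_
    · intro χ y hy
      by_cases hy0 : y = 0
      · rw [hy0, map_zero, map_zero]
      · have hne : (⨅ i, (f i).maxGenEigenspace (χ i)) ≠ ⊥ :=
          (Submodule.ne_bot_iff _).mpr ⟨y, hy, hy0⟩
        have hi := key χ y hy i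
        have hj := key χ y hy j
        have hsq : ∀ l, χ l = 1 ∨ χ l = -1 := by
          intro l
          have hl := key χ y hy l
          have e : y = (χ l * χ l) • y := by
            calc y = f l (f l y) := (hinv l y).symm
              _ = f l (χ l • y) := by rw [hl]
              _ = χ l • f l y := map_smul (f l) (χ l) y
              _ = χ l • χ l • y := by rw [hl]
              _ = (χ l * χ l) • y := smul_smul _ _ _
          have e2 : (χ l * χ l - 1) • y = 0 := by rw [sub_smul, one_smul, ← e, sub_self]
          have e3 : χ l * χ l - 1 = 0 := (smul_eq_zero.mp e2).resolve_right hy0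
          have e4 : (χ l - 1) * (χ l + 1) = 0 := by rw [← e3]; ring
          rcases mul_eq_zero.mp e4 with h5 | h5
          · exact Or.inl (sub_eq_zero.mp h5)
          · exact Or.inr (eq_neg_of_add_eq_zero_left h5)
        have hdec : (χ i = 1 ↔ χ j = 1) := by
          have := congrFun hij ⟨χ, hne⟩
          exact decide_eq_decide.mp this
        have h11 : (1:K) ≠ -1 := by
          intro h6
          apply h2
          rw [← one_add_one_eq_two]
          exact eq_neg_iff_add_eq_zero.mp h6
        have hχ : χ i = χ j := by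
          rcases hsq i with h6 | h6
          · rw [h6, hdec.mp h6]
          · rcases hsq j with h7 | h7
            · have h8 := hdec.mpr h7
              rw [h8] at h6
              exact absurd h6 h11
            · rw [h6, h7]
        show f i y = f j y
        rw [hi, hj, hχ]
    · show f i 0 = f j 0
      rw [map_zero, map_zero]
    · intro a b ha hb
      show f i (a + b) = f j (a + b)
      rw [map_add, map_add, ha, hb]
  have h1 := Nat.card_le_card_of_injective _ hΦ
  calc Nat.card ι ≤ Nat.card ({χ : ι → K // (⨅ i, (f i).maxGenEigenspace (χ i)) ≠ ⊥} → Bool) := h1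
    _ = 2 ^ Fintype.card {χ : ι → K // (⨅ i, (f i).maxGenEigenspace (χ i)) ≠ ⊥} := by
        rw [Nat.card_eq_fintype_card, Fintype.card_fun, Fintype.card_bool]
    _ ≤ 2 ^ Module.finrank K V := Nat.pow_le_pow_right (by norm_num) hcard

/-- Let K be a field of characteristic different from 2 such that K contains all roots of unity (for
every n ≥ 1 the polynomial X^n − 1 splits into linear factors over K), V a finite-dimensional
K-vector space and q a quadratic form on V that does not represent zero. Then every finite subgroup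
of the group of K-linear automorphisms of V preserving q is abelian and has order at most 2 ^ (dim
V). (The published statement also covers perfect fields of characteristic 2; this row is the case of
characteristic ≠ 2.) -/
theorem result
    (K : Type u) [Field K] (hK : ∀ n : ℕ, 0 < n → (X ^ n - 1 : K[X]).Splits) (h2 : (2 : K) ≠ 0)
    (V : Type v) [AddCommGroup V] [Module K V] [FiniteDimensional K V]
    (q : QuadraticForm K V) (hq : q.Anisotropic)
    (G : Subgroup (V ≃ₗ[K] V)) [Finite G] (hG : ∀ g ∈ G, ∀ x : V, q (g x) = q x) :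
    (∀ g ∈ G, ∀ h ∈ G, g * h = h * g) ∧ Nat.card G ≤ 2 ^ Module.finrank K V := by
  have hsq : ∀ g ∈ G, g * g = 1 := by
    intro g hg
    have hpos : 0 < Nat.card G := Nat.card_pos
    have hpow : g ^ Nat.card G = 1 := by
      have h3 := pow_card_eq_one' (G := G) (x := ⟨g, hg⟩)
      have h4 : (((⟨g, hg⟩ : G) ^ Nat.card G : G) : V ≃ₗ[K] V) = ((1 : G) : V ≃ₗ[K] V) :=
        congrArg Subtype.val h3
      first
        | exact h4
        | (rw [SubgroupClass.coe_pow, OneMemClass.coe_one] at h4; exact h4)
    have h5 := Groth.Agent.S15165.result K hK h2 V q hq g (hG g hg) (Nat.card G) hpos hpow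
    rwa [pow_two] at h5
  have inv_eq : ∀ g ∈ G, g⁻¹ = g := fun g hg => inv_eq_of_mul_eq_one_left (hsq g hg)
  have hcomm : ∀ g ∈ G, ∀ h ∈ G, g * h = h * g := by
    intro g hg h hh
    calc g * h = (g * h)⁻¹ := (inv_eq (g * h) (G.mul_mem hg hh)).symm
      _ = h⁻¹ * g⁻¹ := mul_inv_rev g h
      _ = h * g := by rw [inv_eq g hg, inv_eq h hh]
  refine ⟨hcomm, ?_⟩
  refine card_le_of_involutions h2 (fun g : G => ((g : V ≃ₗ[K] V) : V →ₗ[K] V)) ?_ ?_ ?_
  · intro g x
    show (g : V ≃ₗ[K] V) ((g : V ≃ₗ[K] V) x) = x
    exact LinearEquiv.congr_fun (hsq g.1 g.2) x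
  · intro g h x
    show (g : V ≃ₗ[K] V) ((h : V ≃ₗ[K] V) x) = (h : V ≃ₗ[K] V) ((g : V ≃ₗ[K] V) x)
    exact LinearEquiv.congr_fun (hcomm g.1 g.2 h.1 h.2) x
  · intro g h hgh
    exact Subtype.ext (LinearEquiv.toLinearMap_injective hgh)

end Groth.Agent.S15166
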