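import Groth.Statements.S15168
import Groth.Agent.H75.DivAlg3
import Groth.Agent.S0188

set_option autoImplicit false
universe u v
open Polynomial
open BddFin

namespace Groth.Agent.S15168

/-- Let K be a field such that K contains all roots of unity (for every n ≥ 1 the polynomial X^n − 1
splits into linear factors over K), A a central division algebra of dimension n ^ 2 over K, and x an
element of A some power x ^ m (m ≥ 1) of which lies in K. Then x ^ n lies in K; that is, the order
of the class of x in the quotient of the unit group of A by that of K divides n. -/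
theorem result
    (K : Type u) [Field K] (hK : ∀ n : ℕ, 0 < n → (X ^ n - 1 : K[X]).Splits)
    (A : Type v) [DivisionRing A] [Algebra K A] [Algebra.IsCentral K A] [FiniteDimensional K A]
    (n : ℕ) (hn : Module.finrank K A = n ^ 2)
    (x : A) (hxm : ∃ m : ℕ, 0 < m ∧ x ^ m ∈ (algebraMap K A).range) :
    x ^ n ∈ (algebraMap K A).range := by
  classical
  obtain ⟨m, hm, k, hk⟩ := hxm
  have hn0 : n ≠ 0 := by
    rintro rfl
    have h1 : 0 < Module.finrank K A := Module.finrank_pos
    rw [hn] at h1
    simp at h1
  by_cases hx0 : x = 0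
  · rw [hx0, zero_pow hn0]
    exact Subring.zero_mem _
  have hk0 : k ≠ 0 := by
    rintro rfl
    rw [map_zero] at hk
    exact hx0 ((pow_eq_zero_iff hm.ne').mp hk.symm)
  have hint : IsIntegral K x := IsIntegral.of_finite K x
  have hirr := minpoly.irreducible hint
  have hmon := minpoly.monic hint
  have hdvd : minpoly K x ∣ X ^ m - C k := by
    apply minpoly.dvd
    rw [map_sub, map_pow, aeval_X, aeval_C, hk, sub_self]
  obtain ⟨b, hb⟩ := H75.eq_X_pow_sub_C_of_dvd hK hmon hirr hm hk0 hdvd
  obtain ⟨r, hr⟩ : ∃ r : ℕ, r = (minpoly K x).natDegree := ⟨_, rfl⟩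
  rw [← hr] at hb
  have hxr : x ^ r = algebraMap K A b := by
    have h1 := minpoly.aeval K x
    rw [hb, map_sub, map_pow, aeval_X, aeval_C] at h1
    exact sub_eq_zero.mp h1
  have hrn : r ∣ n := by
    obtain ⟨B, hxB, hBcomm, hBfin⟩ := H75.exists_comm_subalgebra_finrank (K := K) x
    haveI : IsSimpleRing B := by
      letI := divisionRingOfFiniteDimensional K B
      infer_instance
    have h1 := Groth.Agent.S0188.result K A B
    have hle : B ≤ Subalgebra.centralizer K (B : Set A) := by
      intro a ha
      rw [Subalgebra.mem_centralizer_iff]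
      intro g hg
      exact hBcomm g hg a ha
    obtain ⟨c', hc'⟩ := H75.finrank_dvd_of_le hle
    rw [hn, hc', hBfin, ← hr] at h1
    have h2 : r ^ 2 ∣ n ^ 2 := ⟨c', by rw [h1]; ring⟩
    exact (Nat.pow_dvd_pow_iff two_ne_zero).mp h2
  obtain ⟨q, hq⟩ := hrn
  rw [hq, pow_mul, hxr, ← map_pow]
  exact ⟨b ^ q, rfl⟩

end Groth.Agent.S15168
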