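import Groth.Statements.S15169
import Groth.Agent.H75.DivAlg2
import Mathlib.Algebra.CharP.Lemmas
import Mathlib.Algebra.CharP.Algebra
import Mathlib.Algebra.Algebra.Bilinear
import Mathlib.Algebra.Polynomial.Expand
import Mathlib.Tactic.Ring
import Mathlib.Tactic.Abel
import Mathlib.Tactic.IntervalCases

set_option autoImplicit false
universe u v
open BddFin

namespace Groth.Agent.S15169

/-- (1) ⇒ (2): let K be a field with char K = p > 0 and A a central division K-algebra with dim_K A = p
^ 2. If some element of A is not separable over K, then there are v, u in A with v ^ p and u ^ p in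
K and v * u - u * v = 1 which generate A as a K-algebra. -/
theorem result
    (K : Type u) [Field K] (p : ℕ) [Fact p.Prime] [CharP K p]
    (A : Type v) [DivisionRing A] [Algebra K A] [Algebra.IsCentral K A] [FiniteDimensional K A]
    (hA : Module.finrank K A = p ^ 2) (h : ∃ v : A, ¬ IsSeparable K v) :
    ∃ v u : A, v ^ p ∈ (algebraMap K A).range ∧ u ^ p ∈ (algebraMap K A).range ∧ v * u - u * v = 1 ∧
      Algebra.adjoin K {v, u} = ⊤ := by
  classical
  have hp : p.Prime := Fact.out
  obtain ⟨v, hv⟩ := h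
  have hint : IsIntegral K v := IsIntegral.of_finite K v
  have hvr : v ∉ (algebraMap K A).range := by
    rintro ⟨k, rfl⟩
    exact hv (isSeparable_algebraMap k)
  have hirr := minpoly.irreducible hint
  have hdeg := H75.natDegree_minpoly hA hvr
  have hmon := minpoly.monic hint
  have hvp : v ^ p ∈ (algebraMap K A).range := by
    rcases Polynomial.separable_or p hirr with hs | ⟨_, g, _, hg⟩
    · exact absurd hs hv
    · have hgdeg : g.natDegree = 1 := by
        have h1 := congrArg Polynomial.natDegree hg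
        rw [Polynomial.natDegree_expand, hdeg] at h1
        exact Nat.eq_of_mul_eq_mul_right hp.pos (by rw [h1, one_mul])
      have hgmon : g.Monic := by
        rw [← hg] at hmon
        exact (Polynomial.monic_expand_iff hp.pos).mp hmon
      have hgeq := hgmon.eq_X_add_C hgdeg
      have h0 := minpoly.aeval K v
      rw [← hg, hgeq] at h0
      simp only [map_add, Polynomial.expand_X, Polynomial.expand_C, Polynomial.aeval_C, map_pow,
        Polynomial.aeval_X] at h0
      exact ⟨-g.coeff 0, by rw [map_neg]; exact (eq_neg_of_add_eq_zero_left h0).symm⟩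
  have : CharP A p := charP_of_injective_algebraMap (algebraMap K A).injective p
  have : CharP (Module.End K A) p :=
    charP_of_injective_algebraMap (algebraMap K (Module.End K A)).injective p
  obtain ⟨D, hD⟩ : ∃ D : Module.End K A, D = LinearMap.mulLeft K v - LinearMap.mulRight K v :=
    ⟨_, rfl⟩
  have hDapp : ∀ x, D x = v * x - x * v := by
    intro x
    rw [hD]; rfl
  have hDp : D ^ p = 0 := by
    have hc : Commute (LinearMap.mulLeft K v) (LinearMap.mulRight K v) :=
      LinearMap.commute_mulLeft_right v v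
    rw [hD, sub_pow_char_of_commute p hc, LinearMap.pow_mulLeft, LinearMap.pow_mulRight]
    obtain ⟨k, hk⟩ := hvp
    ext x
    simp only [LinearMap.sub_apply, LinearMap.mulLeft_apply, LinearMap.mulRight_apply,
      LinearMap.zero_apply]
    rw [← hk, Algebra.commutes, sub_self]
  obtain ⟨x0, hx0⟩ := H75.exists_not_commute (K := K) hvr
  have hDx0 : D x0 ≠ 0 := by rw [hDapp]; exact sub_ne_zero.mpr hx0
  have hex : ∃ k, (D ^ k) x0 = 0 := ⟨p, by rw [hDp]; rfl⟩
  obtain ⟨k, hk, hmin⟩ : ∃ k, (D ^ k) x0 = 0 ∧ ∀ m < k, (D ^ m) x0 ≠ 0 :=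
    ⟨Nat.find hex, Nat.find_spec hex, fun m hm => Nat.find_min hex hm⟩
  have hk2 : 2 ≤ k := by
    by_contra hlt
    push Not at hlt
    interval_cases k
    · simp only [pow_zero, Module.End.one_apply] at hk
      rw [hk, map_zero] at hDx0
      exact hDx0 rfl
    · simp only [pow_one] at hk
      exact hDx0 hk
  obtain ⟨m, rfl⟩ : ∃ m, k = m + 2 := ⟨k - 2, by omega⟩
  obtain ⟨y, hy⟩ : ∃ y : A, y = (D ^ m) x0 := ⟨_, rfl⟩
  have hd1 : D y ≠ 0 := by
    have h1 := hmin (m+1) (by omega)
    rwa [pow_succ', Module.End.mul_apply, ← hy] at h1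
  have hd2 : D (D y) = 0 := by
    have h1 := hk
    rwa [pow_succ', Module.End.mul_apply, pow_succ', Module.End.mul_apply, ← hy] at h1
  obtain ⟨d, hd⟩ : ∃ d : A, d = D y := ⟨_, rfl⟩
  rw [← hd] at hd1 hd2
  have hdv : v * d = d * v := by
    rw [hDapp] at hd2; exact sub_eq_zero.mp hd2
  have hdinv : v * d⁻¹ = d⁻¹ * v := (show Commute v d from hdv).inv_right₀
  obtain ⟨u, hu⟩ : ∃ u : A, u = y * d⁻¹ := ⟨_, rfl⟩
  have hvu : v * u - u * v = 1 := by
    calc v * u - u * v = (v*y)*d⁻¹ - y*(d⁻¹*v) := by simp only [hu, mul_assoc]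
      _ = (v*y)*d⁻¹ - y*(v*d⁻¹) := by rw [hdinv]
      _ = (v*y - y*v)*d⁻¹ := by rw [sub_mul, mul_assoc y v]
      _ = d * d⁻¹ := by rw [← hDapp, ← hd]
      _ = 1 := mul_inv_cancel₀ hd1
  have h1 : v * u = u * v + 1 := by rw [← hvu]; abel
  have hcomm : ∀ n : ℕ, v * u^(n+1) = u^(n+1) * v + (n+1 : ℕ) • u^n := by
    intro n
    induction n with
    | zero => simp [h1]
    | succ n ih =>
      calc v * u^(n+1+1) = (v * u^(n+1)) * u := by rw [pow_succ u (n+1), mul_assoc]
        _ = (u^(n+1) * v + (n+1 : ℕ) • u^n) * u := by rw [ih]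
        _ = u^(n+1) * (v * u) + (n+1 : ℕ) • u^(n+1) := by
            rw [add_mul, mul_assoc, smul_mul_assoc, ← pow_succ]
        _ = u^(n+1) * (u * v + 1) + (n+1 : ℕ) • u^(n+1) := by rw [h1]
        _ = u^(n+1+1) * v + (n+1+1 : ℕ) • u^(n+1) := by
            rw [mul_add, mul_one, ← mul_assoc, ← pow_succ, succ_nsmul (u^(n+1)) (n+1)]; abel
  have hup_comm : (u^p) * v = v * (u^p) := by
    obtain ⟨n, hn⟩ : ∃ n, p = n + 1 := ⟨p - 1, by have := hp.pos; omega⟩
    have h2 := hcomm n
    rw [← hn] at h2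
    rw [h2, nsmul_eq_mul, CharP.cast_eq_zero A p, zero_mul, add_zero]
  have huv : u * v ≠ v * u := by
    intro h'
    rw [h', sub_self] at hvu
    exact zero_ne_one hvu
  refine ⟨v, u, hvp, ?_, hvu, ?_⟩
  · exact H75.mem_range_of_commute hA (pow_mul_comm' u p) hup_comm huv
  · exact H75.eq_top_of_not_commute hA _ (Algebra.subset_adjoin (Or.inl rfl))
      (Algebra.subset_adjoin (Or.inr rfl)) (fun h' => huv h'.symm)

end Groth.Agent.S15169
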