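import Groth.Statements.S1517
import Mathlib.RingTheory.SimpleRing.Basic
import Mathlib.RingTheory.TwoSidedIdeal.Operations
import Mathlib.LinearAlgebra.Finsupp.LinearCombination
import Mathlib.RingTheory.Ideal.Span

set_option autoImplicit false
universe u
open Brauer

namespace Groth.Agent.S1517

section
variable {A : Type u} [Ring A]

/-- left multiplication by an element of a right ideal, as an endomorphism of the right ideal -/
def leftMul (M : Submodule Aᵐᵒᵖ A) (m : M) : Module.End Aᵐᵒᵖ M where
  toFun x := ⟨(m : A) * (x : A), by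
    have : (m : A) * (x : A) = MulOpposite.op (x : A) • (m : A) := rfl
    rw [this]; exact M.smul_mem _ m.2⟩
  map_add' x y := by ext; simp [mul_add]
  map_smul' c x := by
    ext
    simp only [Submodule.coe_smul, RingHom.id_apply]
    change (m : A) * ((x : A) * c.unop) = ((m : A) * (x : A)) * c.unop
    rw [mul_assoc]

lemma mul_mem_right_ideal (M : Submodule Aᵐᵒᵖ A) {m : A} (hm : m ∈ M) (a : A) : m * a ∈ M := by
  have : m * a = MulOpposite.op a • m := rfl
  rw [this]; exact M.smul_mem _ hm

lemma key (M : Submodule Aᵐᵒᵖ A) (g : Module.End (Module.End Aᵐᵒᵖ M) M) (m x : M) :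
    (g ⟨(m : A) * (x : A), mul_mem_right_ideal M m.2 _⟩ : A) = (m : A) * (g x : A) := by
  have h := g.map_smul (leftMul M m) x
  have h2 := congrArg (Subtype.val) h
  exact h2

lemma one_mem_span [IsSimpleRing A] (M : Submodule Aᵐᵒᵖ A) (hM : M ≠ ⊥) :
    (1 : A) ∈ Ideal.span (M : Set A) := by
  haveI : (Ideal.span (M : Set A)).IsTwoSided := by
    refine ⟨fun {a} b ha => ?_⟩
    refine Submodule.span_induction (p := fun a _ => a * b ∈ Ideal.span (M : Set A)) ?_ ?_ ?_ ?_ ha
    · intro x hx
      exact Ideal.subset_span (mul_mem_right_ideal M hx b)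
    · simp
    · intro x y _ _ hx hy
      rw [add_mul]; exact Ideal.add_mem _ hx hy
    · intro c x _ hx
      rw [smul_eq_mul, mul_assoc]; exact Ideal.mul_mem_left _ c hx
  have hne : (Ideal.span (M : Set A)).toTwoSided ≠ ⊥ := by
    intro h
    apply hM
    rw [eq_bot_iff]
    intro x hx
    have : x ∈ (Ideal.span (M : Set A)).toTwoSided := by
      rw [Ideal.mem_toTwoSided]; exact Ideal.subset_span hx
    rw [h] at this
    simpa using this
  have := IsSimpleRing.one_mem_of_ne_bot _ hne
  rwa [Ideal.mem_toTwoSided] at this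

end

/-- Let A be a ring with no nontrivial two-sided ideals and M a nonzero right ideal, viewed as a right
A-module with endomorphism ring A'. Then every A'-linear endomorphism of M is right multiplication
by exactly one element of A; that is, the natural map from A to the bicommutant of M is a bijection. -/
theorem result (A : Type u) [Ring A] [IsSimpleRing A]
    (M : Submodule Aᵐᵒᵖ A) (hM : M ≠ ⊥)
    (g : Module.End (Module.End Aᵐᵒᵖ M) M) :
    ∃! a : A, ∀ m : M, (g m : A) = (m : A) * a := by
  have h1 := one_mem_span M hM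
  rw [Ideal.span, Finsupp.mem_span_iff_linearCombination] at h1
  obtain ⟨l, hl⟩ := h1
  rw [Finsupp.linearCombination_apply, Finsupp.sum] at hl
  simp only [smul_eq_mul] at hl
  refine ⟨∑ i ∈ l.support, l i * (g ⟨i.1, i.2⟩ : A), ?_, ?_⟩
  · intro m
    rw [Finset.mul_sum]
    have hm : m = ∑ i ∈ l.support,
        (⟨((m : A) * l i) * (i : A), mul_mem_right_ideal M (mul_mem_right_ideal M m.2 _) _⟩ : M) := by
      ext
      rw [AddSubmonoidClass.coe_finset_sum]
      simp only [mul_assoc]
      rw [← Finset.mul_sum, hl, mul_one]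
    conv_lhs => rw [hm]
    rw [map_sum, AddSubmonoidClass.coe_finset_sum]
    refine Finset.sum_congr rfl fun i _ => ?_
    have := key M g ⟨(m : A) * l i, mul_mem_right_ideal M m.2 _⟩ ⟨i.1, i.2⟩
    simp only at this
    rw [this, mul_assoc]
  · intro b hb
    -- uniqueness: M * (b - a) = 0, so b - a = 0
    set a := ∑ i ∈ l.support, l i * (g ⟨i.1, i.2⟩ : A) with ha
    have ha' : ∀ m : M, (g m : A) = (m : A) * a := by
      intro m
      rw [ha, Finset.mul_sum]
      have hm : m = ∑ i ∈ l.support,
          (⟨((m : A) * l i) * (i : A), mul_mem_right_ideal M (mul_mem_right_ideal M m.2 _) _⟩ : M) := by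
        ext
        rw [AddSubmonoidClass.coe_finset_sum]
        simp only [mul_assoc]
        rw [← Finset.mul_sum, hl, mul_one]
      conv_lhs => rw [hm]
      rw [map_sum, AddSubmonoidClass.coe_finset_sum]
      refine Finset.sum_congr rfl fun i _ => ?_
      have := key M g ⟨(m : A) * l i, mul_mem_right_ideal M m.2 _⟩ ⟨i.1, i.2⟩
      simp only at this
      rw [this, mul_assoc]
    have hz : ∀ m : M, (m : A) * (b - a) = 0 := by
      intro m
      rw [mul_sub, ← hb m, ← ha' m, sub_self]
    have : (1 : A) * (b - a) = 0 := by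
      rw [← hl, Finset.sum_mul]
      refine Finset.sum_eq_zero fun i _ => ?_
      rw [mul_assoc, hz ⟨i.1, i.2⟩, mul_zero]
    rw [one_mul, sub_eq_zero] at this
    exact this

end Groth.Agent.S1517
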