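import Groth.Statements.S15170
import Groth.Agent.H75.DivAlg2
import Mathlib.FieldTheory.Galois.Basic
import Mathlib.FieldTheory.Fixed
import Mathlib.Tactic.Ring
import Mathlib.Tactic.Abel

set_option autoImplicit false
universe u v
open BddFin

namespace Groth.Agent.S15170

/-- (2) ⇒ (3): let K be a field with char K = p > 0 and A a central division K-algebra with dim_K A = p
^ 2. If v, u in A satisfy v ^ p ∈ K, u ^ p ∈ K and v * u - u * v = 1, then some Galois extension L
of K with [L : K] = p admits a K-algebra embedding into A (so A has a Galois subfield of degree p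
over K). -/
theorem result
    (K : Type u) [Field K] (p : ℕ) [Fact p.Prime] [CharP K p]
    (A : Type v) [DivisionRing A] [Algebra K A] [Algebra.IsCentral K A] [FiniteDimensional K A]
    (hA : Module.finrank K A = p ^ 2) (v u : A) (hv : v ^ p ∈ (algebraMap K A).range)
    (hu : u ^ p ∈ (algebraMap K A).range) (hvu : v * u - u * v = 1) :
    ∃ (L : Type v) (_ : Field L) (_ : Algebra K L), IsGalois K L ∧ Module.finrank K L = p ∧
      Nonempty (L →ₐ[K] A) := by
  classical
  have hp : p.Prime := Fact.out
  have hv0 : v ≠ 0 := by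
    rintro rfl
    simp at hvu
  obtain ⟨z, hz⟩ : ∃ z : A, z = u * v := ⟨_, rfl⟩
  have hvz : v * z = (z + 1) * v := by
    have h1 : v * u = u * v + 1 := by rw [← hvu]; abel
    rw [hz, ← mul_assoc, h1]
  let φ : A →ₐ[K] A := H75.conjAlgHom v hv0
  have hφz : φ z = z + 1 := by
    change v * z * v⁻¹ = z + 1
    rw [hvz, mul_inv_cancel_right₀ hv0]
  have hzr : z ∉ (algebraMap K A).range := by
    rintro ⟨k, hk⟩
    have h1 : v * z = z * v := by rw [← hk]; exact (Algebra.commutes k v).symm
    rw [hvz, add_mul, one_mul] at h1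
    exact hv0 (by simpa using h1)
  obtain ⟨B, hB⟩ : ∃ B : Subalgebra K A, B = Algebra.adjoin K ({z} : Set A) := ⟨_, rfl⟩
  have hBcomm : ∀ x ∈ B, ∀ y ∈ B, x * y = y * x := by
    rw [hB]
    exact H75.adjoin_comm _ (by
      intro a ha b hb
      rw [Set.mem_singleton_iff] at ha hb
      rw [ha, hb])
  obtain ⟨L, _, _, e, he⟩ := H75.exists_field_model B hBcomm
  have hinj : Function.Injective e := (e : L →+* A).injective
  haveI : FiniteDimensional K L := FiniteDimensional.of_injective e.toLinearMap hinj
  have hfin : Module.finrank K L = p := by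
    rw [← H75.finrank_adjoin_singleton hA hzr, ← hB, ← he]
    exact (AlgEquiv.ofInjective e hinj).toLinearEquiv.finrank_eq
  refine ⟨L, inferInstance, inferInstance, ?_, hfin, ⟨e⟩⟩
  obtain ⟨ζ, hζ⟩ : ∃ ζ : L, e ζ = z := by
    have : z ∈ e.range := by rw [he, hB]; exact Algebra.self_mem_adjoin_singleton K z
    exact this
  have hmap : ∀ l : L, (φ.comp e) l ∈ e.range := by
    intro l
    have h1 : e l ∈ B := by rw [← he]; exact ⟨l, rfl⟩
    have h2 : B.map φ ≤ B := by
      rw [hB, AlgHom.map_adjoin, Set.image_singleton, hφz]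
      apply Algebra.adjoin_le
      intro x hx
      rw [Set.mem_singleton_iff] at hx
      rw [hx]
      exact add_mem (Algebra.self_mem_adjoin_singleton K z) (one_mem _)
    rw [he]
    exact h2 ⟨e l, h1, rfl⟩
  let g : L →ₐ[K] L :=
    (AlgEquiv.ofInjective e hinj).symm.toAlgHom.comp ((φ.comp e).codRestrict e.range hmap)
  have hg : ∀ l, e (g l) = φ (e l) := by
    intro l
    have := congrArg Subtype.val
      ((AlgEquiv.ofInjective e hinj).apply_symm_apply (((φ.comp e).codRestrict e.range hmap) l))
    exact this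
  have hgζ : g ζ = ζ + 1 := by
    apply hinj
    rw [hg, hζ, hφz, map_add, hζ, map_one]
  have hpow : ∀ i : ℕ, (g ^ i) ζ = ζ + i := by
    intro i
    induction i with
    | zero => simp
    | succ n ih =>
      rw [pow_succ', AlgHom.mul_apply, ih, map_add, hgζ, map_natCast]
      push_cast; ring
  haveI : CharP L p := charP_of_injective_algebraMap (algebraMap K L).injective p
  have hinjpow : Function.Injective (fun i : Fin p => g ^ (i : ℕ)) := by
    intro i j hij
    have hij' : (g ^ (i : ℕ)) ζ = (g ^ (j : ℕ)) ζ := by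
      have : g ^ (i : ℕ) = g ^ (j : ℕ) := hij
      rw [this]
    rw [hpow, hpow] at hij'
    have h2 : ((i : ℕ) : L) = ((j : ℕ) : L) := add_left_cancel hij'
    exact Fin.ext (CharP.natCast_injOn_Iio L p i.2 j.2 h2)
  have hcard : Fintype.card (L →ₐ[K] L) = p := by
    apply le_antisymm
    · rw [← hfin]; exact AlgHom.card_le
    · have := Fintype.card_le_of_injective _ hinjpow
      simpa using this
  apply IsGalois.of_card_aut_eq_finrank
  rw [hfin, ← hcard, Nat.card_eq_fintype_card]
  exact Fintype.card_congr (algEquivEquivAlgHom K L).toEquiv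

end Groth.Agent.S15170
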