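import Groth.Statements.S15171
import Mathlib.FieldTheory.PurelyInseparable.PerfectClosure
import Mathlib.Algebra.Central.Basic
import Mathlib.FieldTheory.PrimitiveElement
import Mathlib.FieldTheory.Normal.Basic
import Mathlib.RingTheory.AdjoinRoot
import Mathlib.FieldTheory.IntermediateField.Adjoin.Algebra
-- import your own Groth.Agent.* helpers here

set_option autoImplicit false
universe u v w
open BddFin

namespace Groth.Agent.S15171

open Polynomial IntermediateField

/-- A separable element `u` of a (possibly noncommutative) `K`-algebra, `char K = p`,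
is a polynomial in `u ^ p`. -/
lemma exists_eq_aeval_pow_of_isSeparable (K : Type u) [Field K] (p : ℕ) [Fact p.Prime] [CharP K p]
    {A : Type v} [DivisionRing A] [Algebra K A] (u : A) (hu : IsSeparable K u) :
    ∃ r : K[X], u = aeval (u ^ p) r := by
  haveI : ExpChar K p := ExpChar.prime Fact.out
  have hint : IsIntegral K u := hu.isIntegral
  set g := minpoly K u with hg
  haveI : Fact (Irreducible g) := ⟨minpoly.irreducible hint⟩
  have hgm : g.Monic := minpoly.monic hint
  set α : AdjoinRoot g := AdjoinRoot.root g with hαdef
  have hα : minpoly K α = g := by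
    rw [hαdef, AdjoinRoot.minpoly_root hgm.ne_zero, hgm.leadingCoeff, inv_one, map_one, mul_one]
  have hsep : IsSeparable K α := by
    rw [IsSeparable, hα]; exact hu
  have h1 := IntermediateField.adjoin_simple_eq_adjoin_pow_expChar_of_isSeparable K (AdjoinRoot g) hsep p
  have h2 : α ∈ K⟮α ^ p⟯ := h1 ▸ IntermediateField.mem_adjoin_simple_self K α
  have hint' : IsIntegral K (α ^ p) := (hsep.isIntegral).pow p
  rw [← IntermediateField.mem_toSubalgebra,
    IntermediateField.adjoin_simple_toSubalgebra_of_isAlgebraic hint'.isAlgebraic,
    Algebra.adjoin_singleton_eq_range_aeval] at h2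
  obtain ⟨r, hr⟩ := h2
  refine ⟨r, ?_⟩
  -- `aeval (α^p) r = mk g (r.comp (X^p))`
  have h3 : AdjoinRoot.mk g (X - r.comp (X ^ p)) = 0 := by
    have : aeval (α ^ p) r = AdjoinRoot.mk g (r.comp (X ^ p)) := by
      rw [← AdjoinRoot.aeval_eq, aeval_comp, map_pow, aeval_X]
    rw [map_sub, ← this, AdjoinRoot.mk_X]
    change α - (aeval (α ^ p)) r = 0
    have hr' : (aeval (α ^ p)) r = α := hr
    rw [hr', sub_self]
  rw [AdjoinRoot.mk_eq_zero] at h3
  obtain ⟨q, hq⟩ := h3
  have h4 : aeval u (X - r.comp (X ^ p)) = 0 := by
    rw [hq, map_mul, hg, minpoly.aeval, zero_mul]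
  rw [map_sub, aeval_X, aeval_comp, map_pow, aeval_X, sub_eq_zero] at h4
  exact h4

/-- (3) ⇒ (1): let K be a field with char K = p > 0 and A a central division K-algebra with dim_K A = p
^ 2. If some Galois extension L of K with [L : K] = p admits a K-algebra embedding into A, then some
element of A is not separable over K. -/
theorem result
    (K : Type u) [Field K] (p : ℕ) [Fact p.Prime] [CharP K p]
    (A : Type v) [DivisionRing A] [Algebra K A] [Algebra.IsCentral K A] [FiniteDimensional K A]
    (hA : Module.finrank K A = p ^ 2) (L : Type w) [Field L] [Algebra K L] [IsGalois K L]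
    (hL : Module.finrank K L = p) (ι : L →ₐ[K] A) :
    ∃ v : A, ¬ IsSeparable K v := by
  classical
  by_contra hcon
  push Not at hcon
  have hp : p.Prime := Fact.out
  haveI : FiniteDimensional K L := Module.finite_of_finrank_pos (by rw [hL]; exact hp.pos)
  obtain ⟨θ, hθ⟩ := Field.exists_primitive_element K L
  have hθint : IsIntegral K θ := Algebra.IsIntegral.isIntegral θ
  set f := minpoly K θ with hf
  have hfsep : f.Separable := Algebra.IsSeparable.isSeparable K θ
  have hfsplit : (f.map (algebraMap K L)).Splits := Normal.splits inferInstance θ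
  have hfmonic : f.Monic := minpoly.monic hθint
  set t : A := ι θ with ht
  have hιinj : Function.Injective ι := ι.toRingHom.injective
  have hadj : Algebra.adjoin K {θ} = ⊤ := by
    have := congrArg IntermediateField.toSubalgebra hθ
    rwa [IntermediateField.adjoin_simple_toSubalgebra_of_isAlgebraic hθint.isAlgebraic,
      IntermediateField.top_toSubalgebra] at this
  -- `t` is not central
  have ht_not : ¬ ∀ x : A, t * x = x * t := by
    intro hc
    have hmem : t ∈ Subalgebra.center K A := by
      rw [Subalgebra.mem_center_iff]; intro x; exact (hc x).symm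
    rw [Algebra.IsCentral.center_eq_bot] at hmem
    obtain ⟨c, hc'⟩ := Algebra.mem_bot.mp hmem
    have hθc : θ = algebraMap K L c := hιinj (by rw [← ht, ← hc', AlgHom.commutes])
    have hbot : K⟮θ⟯ = ⊥ := by
      rw [IntermediateField.adjoin_simple_eq_bot_iff, hθc]
      exact IntermediateField.algebraMap_mem ⊥ c
    rw [hbot] at hθ
    have h1 : Module.finrank K L = 1 := IntermediateField.bot_eq_top_iff_finrank_eq_one.mp hθ
    rw [hL] at h1
    exact hp.one_lt.ne' h1
  -- the ring hom `L → End_K A` by right multiplication
  let Rm : L →+* Module.End K A :=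
    { toFun := fun a => LinearMap.mulRight K (ι a)
      map_one' := by ext x; simp
      map_mul' := fun a b => by
        ext x
        simp only [LinearMap.mulRight_apply, Module.End.mul_apply]
        rw [mul_comm a b, map_mul, mul_assoc]
      map_zero' := by ext x; simp
      map_add' := fun a b => by ext x; simp [mul_add] }
  let T : Module.End K A := Algebra.lmul K A t
  have hcomm : ∀ a, Commute (Rm a) T := fun a => by
    ext x
    simp [Rm, T, mul_assoc]
  let Φ : L[X] →+* Module.End K A := Polynomial.eval₂RingHom' Rm T hcomm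
  have hΦapp : ∀ (a : L) (x : A), Φ (X - C a) x = t * x - x * ι a := by
    intro a x
    change (eval₂ Rm T (X - C a)) x = _
    rw [eval₂_sub, eval₂_X, eval₂_C]
    simp [Rm, T]
  -- `Φ` kills `f`
  have hΦf : Φ (f.map (algebraMap K L)) = 0 := by
    change eval₂ Rm T (f.map (algebraMap K L)) = 0
    rw [eval₂_map]
    have hRm : Rm.comp (algebraMap K L) = algebraMap K (Module.End K A) := by
      ext c x
      simp [Rm, Algebra.commutes, Algebra.smul_def]
    rw [hRm, ← aeval_def, aeval_algHom_apply, ht, aeval_algHom_apply, hf, minpoly.aeval, map_zero,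
      map_zero]
  -- product decomposition
  have hroots := hfsplit.eq_prod_roots_of_monic (hfmonic.map _)
  have hnodup : (f.map (algebraMap K L)).roots.Nodup := nodup_roots hfsep.map
  have hθroot : θ ∈ (f.map (algebraMap K L)).roots := by
    rw [mem_roots (hfmonic.map _).ne_zero, IsRoot, eval_map_algebraMap, hf, minpoly.aeval]
  -- injectivity of products
  have hprod_inj : ∀ s : Multiset L, (∀ a ∈ s, Function.Injective (Φ (X - C a))) →
      Function.Injective (Φ (s.map (X - C ·)).prod) := by
    intro s
    induction s using Multiset.induction_on with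
    | empty =>
      intro _
      simp only [Multiset.map_zero, Multiset.prod_zero, map_one]
      exact fun x y h => h
    | cons a s ih =>
      intro h
      simp only [Multiset.map_cons, Multiset.prod_cons, map_mul]
      exact (h a (Multiset.mem_cons_self a s)).comp
        (ih fun b hb => h b (Multiset.mem_cons_of_mem hb))
  -- get the eigenvector
  obtain ⟨a, ha_mem, u, hu0, hu⟩ : ∃ a ∈ (f.map (algebraMap K L)).roots.erase θ,
      ∃ u : A, u ≠ 0 ∧ t * u = u * ι a := by
    by_contra hno
    push Not at hno
    have hinj : ∀ a ∈ (f.map (algebraMap K L)).roots.erase θ, Function.Injective (Φ (X - C a)) := by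
      intro a ha
      rw [injective_iff_map_eq_zero]
      intro x hx
      by_contra hx0
      apply hno a ha x hx0
      rw [hΦapp, sub_eq_zero] at hx
      exact hx
    have hPinj := hprod_inj _ hinj
    apply ht_not
    intro x
    have h0 : Φ ((((f.map (algebraMap K L)).roots.erase θ).map (X - C ·)).prod * (X - C θ)) = 0 := by
      rw [mul_comm, ← Multiset.prod_cons, ← Multiset.map_cons (X - C ·), Multiset.cons_erase hθroot,
        ← hroots, hΦf]
    rw [map_mul] at h0
    have h1 : Φ ((((f.map (algebraMap K L)).roots.erase θ).map (X - C ·)).prod) (Φ (X - C θ) x) = 0 := by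
      rw [← Module.End.mul_apply, h0]; rfl
    have h2 := hPinj (h1.trans (map_zero _).symm)
    rw [hΦapp, sub_eq_zero] at h2
    exact h2
  have haθ : a ≠ θ := ((Multiset.Nodup.mem_erase_iff hnodup).mp ha_mem).1
  have haroot : a ∈ (f.map (algebraMap K L)).roots := ((Multiset.Nodup.mem_erase_iff hnodup).mp ha_mem).2
  have haev : aeval a (minpoly K θ) = 0 := by
    rw [mem_roots (hfmonic.map _).ne_zero, IsRoot, eval_map_algebraMap] at haroot
    exact haroot
  obtain ⟨σ, hσ⟩ := minpoly.exists_algEquiv_of_root' hθint.isAlgebraic haev
  -- conjugation relation for all of `L`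
  have hrel : ∀ x : L, ι x * u = u * ι (σ x) := by
    intro x
    have hx : x ∈ Algebra.adjoin K {θ} := hadj ▸ Algebra.mem_top
    induction hx using Algebra.adjoin_induction with
    | mem y hy =>
      rw [Set.mem_singleton_iff] at hy
      rw [hy, hσ]; exact hu
    | algebraMap c =>
      rw [AlgEquiv.commutes, AlgHom.commutes]
      exact Algebra.commutes c u
    | add y z _ _ hy hz => rw [map_add, map_add, map_add, add_mul, mul_add, hy, hz]
    | mul y z _ _ hy hz =>
      rw [map_mul, map_mul, map_mul, mul_assoc, hz, ← mul_assoc, hy, mul_assoc]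
  have hrel_pow : ∀ (n : ℕ) (x : L), ι x * u ^ n = u ^ n * ι ((σ ^ n) x) := by
    intro n
    induction n with
    | zero => intro x; simp
    | succ n ih =>
      intro x
      rw [pow_succ, ← mul_assoc, ih, mul_assoc, hrel, ← mul_assoc, pow_succ' σ n]
      rfl
  have hσp : σ ^ p = 1 := by
    have hcard : Nat.card (L ≃ₐ[K] L) = p := by rw [IsGalois.card_aut_eq_finrank, hL]
    rw [← hcard]; exact pow_card_eq_one'
  have hcomm_up : t * u ^ p = u ^ p * t := by
    have := hrel_pow p θ
    rwa [hσp] at this
  -- `u` is a polynomial in `u ^ p`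
  obtain ⟨r, hr⟩ := exists_eq_aeval_pow_of_isSeparable K p u (hcon u)
  have hcomm_u : t * u = u * t := by
    have hc0 : Commute t (u ^ p) := hcomm_up
    have hc : ∀ r : K[X], Commute t (aeval (u ^ p) r) := by
      intro r
      induction r using Polynomial.induction_on' with
      | add q₁ q₂ h₁ h₂ => rw [map_add]; exact h₁.add_right h₂
      | monomial n c =>
        rw [aeval_monomial]
        exact Commute.mul_right (Algebra.commutes c t).symm (hc0.pow_right n)
    have := hc r
    rw [← hr] at this
    exact this
  rw [hu] at hcomm_u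
  have h5 : ι a = t := mul_left_cancel₀ hu0 hcomm_u
  exact haθ (hιinj h5)

end Groth.Agent.S15171
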