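import Groth.Statements.S15172
import Mathlib.LinearAlgebra.Lagrange
import Mathlib.Algebra.Polynomial.BigOperators
import Mathlib.Algebra.CharP.Lemmas
import Mathlib.Tactic.LinearCombination
import Mathlib.Tactic.Ring

set_option autoImplicit false
universe u v
open Polynomial
open BddFin

namespace Groth.Agent.S15172

/-- Let L be a field of characteristic p > 0 and s a finite subset of L containing 0 and closed under
addition (a finite additive subgroup). Then the polynomial f = ∏_{a ∈ s} (X - a) is additive: f (x +
y) = f x + f y for all x, y in any commutative L-algebra (equivalently, as an identity of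
polynomials in two variables). -/
theorem result
    (L : Type u) [Field L] (p : ℕ) [Fact p.Prime] [CharP L p] (s : Finset L) (h0 : (0 : L) ∈ s)
    (hadd : ∀ a ∈ s, ∀ b ∈ s, a + b ∈ s) (R : Type v) [CommRing R] [Algebra L R] (x y : R) :
    aeval (x + y) (∏ a ∈ s, (X - C a)) = aeval x (∏ a ∈ s, (X - C a)) + aeval y (∏ a ∈ s, (X - C a)) := by
  classical
  have hp : p.Prime := Fact.out
  have hnsmul : ∀ a ∈ s, ∀ n : ℕ, n • a ∈ s := by
    intro a ha n
    induction n with
    | zero => simpa using h0
    | succ n ih => rw [succ_nsmul]; exact hadd _ ih _ ha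
  have hneg : ∀ a ∈ s, -a ∈ s := by
    intro a ha
    have h1 := hnsmul a ha (p - 1)
    have h2 : ((p - 1 : ℕ) : L) = -1 := by
      have h3 : ((p - 1 : ℕ) : L) + 1 = 0 := by
        have h4 : (((p - 1 : ℕ) + 1 : ℕ) : L) = 0 := by
          rw [Nat.sub_add_cancel hp.one_le]; exact CharP.cast_eq_zero L p
        rwa [Nat.cast_add, Nat.cast_one] at h4
      exact eq_neg_of_add_eq_zero_left h3
    rw [nsmul_eq_mul, h2, neg_one_mul] at h1
    exact h1
  have hsub : ∀ a ∈ s, ∀ b ∈ s, a - b ∈ s := fun a ha b hb => by
    rw [sub_eq_add_neg]; exact hadd a ha _ (hneg b hb)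
  set f : L[X] := ∏ a ∈ s, (X - C a) with hf
  have hfm : f.Monic := monic_prod_of_monic _ _ (fun a _ => monic_X_sub_C a)
  have hfd : f.natDegree = s.card := by
    rw [hf, natDegree_prod_of_monic _ _ (fun a _ => monic_X_sub_C a)]
    simp
  have hcard : 0 < s.card := Finset.card_pos.mpr ⟨0, h0⟩
  -- translation invariance
  have htrans : ∀ g ∈ s, f.comp (X + C g) = f := by
    intro g hg
    rw [hf, prod_comp]
    simp only [sub_comp, X_comp, C_comp]
    refine Finset.prod_nbij' (fun a => a - g) (fun a => a + g) ?_ ?_ ?_ ?_ ?_
    · intro a ha; exact hsub a ha g hg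
    · intro a ha; exact hadd a ha g hg
    · intro a _; ring
    · intro a _; ring
    · intro a _; rw [C_sub]; ring
  -- the two-variable polynomial
  set F : L[X][X] := f.map C with hF
  have hFm : F.Monic := hfm.map C
  have hFd : F.natDegree = s.card := by rw [hF, hfm.natDegree_map, hfd]
  set G : L[X][X] := F.comp (X + C X) with hG
  have hGm : G.Monic := by
    apply hFm.comp (monic_X_add_C _)
    rw [natDegree_X_add_C]; exact one_ne_zero
  have hGd : G.natDegree = s.card := by
    rw [hG, natDegree_comp, natDegree_X_add_C, mul_one, hFd]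
  set Q : L[X][X] := G - F - C f with hQ
  have hQdeg : Q.degree < s.card := by
    have h1 : (G - F).degree < s.card := by
      have hdeg : G.degree = F.degree := by
        rw [degree_eq_natDegree hGm.ne_zero, degree_eq_natDegree hFm.ne_zero, hGd, hFd]
      have := degree_sub_lt_left hdeg hGm.ne_zero (by rw [hGm.leadingCoeff, hFm.leadingCoeff])
      rwa [degree_eq_natDegree hGm.ne_zero, hGd] at this
    have h2 : (C f : L[X][X]).degree < s.card :=
      lt_of_le_of_lt degree_C_le (by exact_mod_cast hcard)
    exact lt_of_le_of_lt (degree_sub_le _ _) (max_lt h1 h2)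
  have hQ0 : Q = 0 := by
    apply eq_zero_of_degree_lt_of_eval_finset_eq_zero (s.image C)
    · rwa [Finset.card_image_of_injective _ C_injective]
    · intro z hz
      obtain ⟨g, hg, rfl⟩ := Finset.mem_image.mp hz
      have e1 : F.eval (C g) = 0 := by
        rw [hF, eval_map, eval₂_at_apply]  -- eval₂ C (C g) f = C (eval g f)
        rw [hf, eval_prod, Finset.prod_eq_zero hg (by simp), map_zero]
      have e2 : G.eval (C g) = f := by
        rw [hG, eval_comp, eval_add, eval_X, eval_C, hF, eval_map]
        have : eval₂ C (C g + X) f = f.comp (X + C g) := by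
          rw [comp, add_comm]
        rw [this, htrans g hg]
      rw [hQ, eval_sub, eval_sub, e1, e2, eval_C]; ring
  -- evaluate at (x, y)
  let Φ : L[X][X] →+* R := eval₂RingHom (aeval y).toRingHom x
  have hΦF : Φ F = aeval x f := by
    change eval₂ _ x (f.map C) = _
    rw [eval₂_map]
    have : ((aeval y).toRingHom.comp C : L →+* R) = algebraMap L R := by
      ext c; simp
    rw [this, aeval_def]
  have hΦG : Φ G = aeval (x + y) f := by
    change eval₂ _ x (F.comp (X + C X)) = _
    rw [eval₂_comp, eval₂_add, eval₂_X, eval₂_C]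
    have hy : (aeval y).toRingHom (X : L[X]) = y := by simp
    rw [hy]
    change eval₂ _ (x + y) (f.map C) = _
    rw [eval₂_map]
    have : ((aeval y).toRingHom.comp C : L →+* R) = algebraMap L R := by
      ext c; simp
    rw [this, aeval_def]
  have hΦC : Φ (C f) = aeval y f := by
    change eval₂ _ x (C f) = _
    rw [eval₂_C]; rfl
  have := congrArg Φ hQ0
  rw [hQ, map_sub, map_sub, hΦF, hΦG, hΦC, map_zero] at this
  rw [hf] at this
  linear_combination this

end Groth.Agent.S15172
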