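import Groth.Statements.S15173
import Groth.Agent.H75.DivAlg2
import Groth.Agent.H75.PrimRoot
import Mathlib.GroupTheory.Index
import Mathlib.GroupTheory.FiniteAbelian.Basic
import Mathlib.GroupTheory.Finiteness
import Mathlib.GroupTheory.QuotientGroup.Basic
import Mathlib.Algebra.CharP.Lemmas
import Mathlib.Algebra.CharP.Algebra
import Mathlib.Tactic.LinearCombination
import Mathlib.Tactic.Group

set_option autoImplicit false
universe u v
open Polynomial
open BddFin

namespace Groth.Agent.S15173

/-- Let K be a field of characteristic p > 0 such that K contains all roots of unity (for every n ≥ 1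
the polynomial X^n − 1 splits into linear factors over K), and A a finite-dimensional central
division algebra over K. If A contains an element w not in K with w ^ p in K, then the quotient of
the unit group of A by that of K has unbounded finite subgroups: for every N there is a subgroup H
of the units of A containing the units of K as a subgroup of finite index greater than N. (The
published statement assumes only that some element of A is inseparable over K and passes at once to
a purely inseparable subfield of degree p; this row assumes an element generating such a subfield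
directly, which is what the rest of the printed argument uses.) -/
theorem result
    (K : Type u) [Field K] (p : ℕ) [Fact p.Prime] [CharP K p] (hK : ∀ n : ℕ, 0 < n → (X ^ n - 1 : K[X]).Splits)
    (A : Type v) [DivisionRing A] [Algebra K A] [Algebra.IsCentral K A] [FiniteDimensional K A]
    (w : A) (hw : w ^ p ∈ (algebraMap K A).range) (hwK : w ∉ (algebraMap K A).range) (N : ℕ) :
    ∃ H : Subgroup Aˣ, (Units.map (algebraMap K A : K →* A)).range ≤ H ∧
      N < ((Units.map (algebraMap K A : K →* A)).range).relIndex H := by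
  classical
  have hp : p.Prime := Fact.out
  obtain ⟨c, hc⟩ := hw
  obtain ⟨L, _, _, e, he⟩ := Groth.Agent.H75.exists_field_model (Algebra.adjoin K ({w} : Set A))
    (Groth.Agent.H75.adjoin_comm (K := K) ({w} : Set A) (by
      intro a ha b hb
      rw [Set.mem_singleton_iff] at ha hb
      rw [ha, hb]))
  have hinj : Function.Injective e := e.toRingHom.injective
  obtain ⟨ω, hω⟩ : ∃ ω : L, e ω = w := by
    have : w ∈ e.range := by rw [he]; exact Algebra.self_mem_adjoin_singleton K w
    exact this
  haveI : CharP L p := charP_of_injective_algebraMap (algebraMap K L).injective p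
  have hωp : ω ^ p = algebraMap K L c := by
    apply hinj
    rw [map_pow, hω, e.commutes, hc]
  have hωK : ∀ a : K, ω ≠ algebraMap K L a := by
    intro a ha
    apply hwK
    exact ⟨a, by rw [← hω, ha, e.commutes]⟩
  have hy0 : ∀ t : K, ω + algebraMap K L t ≠ 0 := by
    intro t h
    apply hωK (-t)
    rw [map_neg]
    exact eq_neg_of_add_eq_zero_left h
  obtain ⟨u, hu⟩ : ∃ u : K → Lˣ, ∀ t, ((u t : Lˣ) : L) = ω + algebraMap K L t :=
    ⟨fun t => Units.mk0 (ω + algebraMap K L t) (hy0 t), fun t => rfl⟩
  obtain ⟨Z', hZ'⟩ : ∃ Z' : Subgroup Lˣ, Z' = (Units.map (algebraMap K L : K →* L)).range :=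
    ⟨_, rfl⟩
  have hup : ∀ t, (u t) ^ p ∈ Z' := by
    intro t
    have hpow : (ω + algebraMap K L t) ^ p = algebraMap K L (c + t ^ p) := by
      rw [add_pow_char, hωp, ← map_pow, ← map_add]
    have hne : c + t ^ p ≠ 0 := by
      intro h0
      rw [h0, map_zero] at hpow
      exact hy0 t (pow_eq_zero_iff hp.ne_zero |>.mp hpow)
    rw [hZ']
    refine ⟨Units.mk0 (c + t ^ p) hne, ?_⟩
    apply Units.ext
    rw [Units.val_pow_eq_pow_val, hu, hpow]
    rfl
  have hudist : ∀ t t' : K, (u t)⁻¹ * u t' ∈ Z' → t = t' := by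
    intro t t' hmem
    rw [hZ'] at hmem
    obtain ⟨a, ha⟩ := hmem
    have h1 : (ω + algebraMap K L t) * algebraMap K L (a : K) = ω + algebraMap K L t' := by
      have h2 : u t * Units.map (algebraMap K L : K →* L) a = u t' := by rw [ha]; group
      have h3 := congrArg Units.val h2
      rw [Units.val_mul, hu, hu] at h3
      exact h3
    by_cases hα : (a : K) = 1
    · rw [hα, map_one, mul_one] at h1
      exact (algebraMap K L).injective (add_left_cancel h1)
    · exfalso
      apply hωK ((t' - t * (a : K)) / ((a : K) - 1))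
      have hne : algebraMap K L ((a : K) - 1) ≠ 0 := by
        rw [Ne, _root_.map_eq_zero]
        exact sub_ne_zero.mpr hα
      rw [map_div₀, eq_div_iff hne, map_sub, map_sub, map_mul, map_one]
      linear_combination h1
  -- the primitive root
  have hnpos : 0 < p * N + 1 := by omega
  have hnK : ((p * N + 1 : ℕ) : K) ≠ 0 := by
    push_cast
    rw [CharP.cast_eq_zero K p, zero_mul, zero_add]
    exact one_ne_zero
  obtain ⟨ζ, hζ⟩ := Groth.Agent.H75.exists_isPrimitiveRoot_of_splits K (p * N + 1) hnpos hnK
    (hK _ hnpos)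
  obtain ⟨g, hg⟩ : ∃ g : Fin (p * N + 1) → Lˣ ⧸ Z',
      ∀ i, g i = QuotientGroup.mk (u (ζ ^ (i : ℕ))) := ⟨_, fun i => rfl⟩
  have hginj : Function.Injective g := by
    intro i j hij
    rw [hg, hg] at hij
    have h1 := hudist _ _ (QuotientGroup.eq.mp hij)
    exact Fin.ext (hζ.pow_inj i.2 j.2 h1)
  obtain ⟨P, hP⟩ : ∃ P : Subgroup (Lˣ ⧸ Z'), P = Subgroup.closure (Set.range g) := ⟨_, rfl⟩
  haveI : Group.FG P := (Group.fg_iff_subgroup_fg P).mpr
    ((Subgroup.fg_iff P).mpr ⟨Set.range g, hP.symm, Set.finite_range g⟩)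
  have hPp : ∀ x ∈ P, x ^ p = 1 := by
    intro x hx
    rw [hP] at hx
    induction hx using Subgroup.closure_induction with
    | mem x hx =>
      obtain ⟨i, rfl⟩ := hx
      rw [hg]
      change (QuotientGroup.mk ((u (ζ ^ (i : ℕ))) ^ p) : Lˣ ⧸ Z') = 1
      exact (QuotientGroup.eq_one_iff _).mpr (hup _)
    | one => exact one_pow p
    | mul x y _ _ hx hy =>
      calc (x * y) ^ p = x ^ p * y ^ p := mul_pow x y p
        _ = 1 * 1 := by rw [hx, hy]
        _ = 1 := mul_one (1 : Lˣ ⧸ Z')
    | inv x _ hx =>
      calc x⁻¹ ^ p = (x ^ p)⁻¹ := inv_pow x p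
        _ = 1⁻¹ := by rw [hx]
        _ = 1 := inv_one (G := Lˣ ⧸ Z')
  have htors : IsMulTorsion P := fun x =>
    isOfFinOrder_iff_pow_eq_one.mpr ⟨p, hp.pos, Subtype.ext (hPp x x.2)⟩
  have : Finite P := CommGroup.finite_of_fg_isMulTorsion _ htors
  have hcard : p * N + 1 ≤ Nat.card P := by
    have hinj' : Function.Injective (fun i : Fin (p * N + 1) =>
        (⟨g i, hP ▸ Subgroup.subset_closure ⟨i, rfl⟩⟩ : P)) := by
      intro i j hij
      exact hginj (congrArg Subtype.val hij)
    have := Nat.card_le_card_of_injective _ hinj'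
    rwa [Nat.card_fin] at this
  obtain ⟨H', hH'⟩ : ∃ H' : Subgroup Lˣ, H' = P.comap (QuotientGroup.mk' Z') := ⟨_, rfl⟩
  have hle : Z' ≤ H' := by
    intro x hx
    rw [hH', Subgroup.mem_comap]
    have : (QuotientGroup.mk' Z') x = 1 := (QuotientGroup.eq_one_iff x).mpr hx
    rw [this]
    exact P.one_mem
  have hrel : Z'.relIndex H' = Nat.card P := by
    have h1 : ((⊥ : Subgroup (Lˣ ⧸ Z')).comap (QuotientGroup.mk' Z')).relIndex H' =
        Nat.card P := by
      rw [hH', Subgroup.relIndex_comap,
        Subgroup.map_comap_eq_self_of_surjective (QuotientGroup.mk'_surjective Z'),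
        Subgroup.relIndex_bot_left]
    have h2 : (⊥ : Subgroup (Lˣ ⧸ Z')).comap (QuotientGroup.mk' Z') = Z' := by
      rw [MonoidHom.comap_bot, QuotientGroup.ker_mk']
    rw [h2] at h1
    exact h1
  obtain ⟨ι, hι⟩ : ∃ ι : Lˣ →* Aˣ, ι = Units.map (e : L →* A) := ⟨_, rfl⟩
  have hιinj : Function.Injective ι := by rw [hι]; exact Units.map_injective hinj
  have hcomp : ι.comp (Units.map (algebraMap K L : K →* L)) =
      Units.map (algebraMap K A : K →* A) := by
    rw [hι, ← Units.map_comp]
    congr 1
    exact MonoidHom.ext fun x => e.commutes x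
  have hZ : Z'.map ι = (Units.map (algebraMap K A : K →* A)).range := by
    rw [hZ', MonoidHom.map_range, hcomp]
  refine ⟨H'.map ι, ?_, ?_⟩
  · rw [← hZ]
    exact Subgroup.map_mono hle
  · rw [← hZ, Subgroup.relIndex_map_map_of_injective Z' H' hιinj, hrel]
    have : N ≤ p * N := Nat.le_mul_of_pos_left N hp.pos
    omega

end Groth.Agent.S15173
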