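import Groth.Statements.S15177
import Groth.Agent.S7986

set_option autoImplicit false
universe u v
open BddFin

namespace Groth.Agent.S15177

/-- Let K be a field and Γ a unipotent linear algebraic group over K, given here by its coordinate Hopf
algebra A (a finitely generated, formally smooth commutative Hopf algebra over K all of whose
non-zero finite-dimensional comodules have a non-zero fixed vector). Then the group Γ(K) of K-points
(K-algebra maps A → K under convolution) has no non-trivial element of finite order coprime to the
characteristic of K: an element of finite order whose order is non-zero in K is the identity. -/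
theorem result
    (K : Type u) [Field K] (A : Type v) [CommRing A] [HopfAlgebra K A] [Algebra.FiniteType K A]
    [Algebra.FormallySmooth K A] (hU : HopfRep.IsUnipotent K A)
    (g : WithConv (A →ₐ[K] K)) (hg : IsOfFinOrder g) (hcop : ((orderOf g : ℕ) : K) ≠ 0) : g = 1 := by
  obtain ⟨C, hC⟩ := Groth.Agent.H62.Coconn.exists_isCoconn_of_isUnipotent K A hU
  set ε : A →ₗ[K] K := CoalgebraStruct.counit (R := K) (A := A) with hεdef
  have hεone : ε = (1 : WithConv (A →ₐ[K] K)).ofConv.toLinearMap :=
    Groth.Agent.S7986.one_lin.symm
  have hone : ∀ c : A, (1 : WithConv (A →ₐ[K] K)).ofConv c = ε c := fun c => by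
    rw [hεone]; rfl
  have hC0 : ∀ (g : WithConv (A →ₐ[K] K)), ∀ c ∈ C 0, g.ofConv c = ε c := by
    intro g c hc
    rw [hC.zero, Submodule.mem_span_singleton] at hc
    obtain ⟨κ, rfl⟩ := hc
    rw [map_smul, map_one, map_smul]
    change κ • (1 : K) = κ • CoalgebraStruct.counit (R := K) (1 : A)
    rw [Bialgebra.counit_one]
  have hBε := Groth.Agent.S7986.conv_apply (k := K) (A := A)
  -- additivity
  have hadd : ∀ (r : ℕ) (x y : WithConv (A →ₐ[K] K)), (∀ c ∈ C r, x.ofConv c = ε c) →
      ∀ c ∈ C (r + 1), (x * y).ofConv c = x.ofConv c + y.ofConv c - ε c := by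
    intro r x y hx c hc
    have hxbar : ∀ c ∈ C r, (x.ofConv.toLinearMap - ε) c = 0 := by
      intro c hc
      rw [LinearMap.sub_apply, sub_eq_zero]
      exact hx c hc
    have hybar : ∀ c ∈ C 0, (y.ofConv.toLinearMap - ε) c = 0 := by
      intro c hc
      rw [LinearMap.sub_apply, sub_eq_zero]
      exact hC0 y c hc
    obtain ⟨h1, -⟩ := Groth.Agent.S7986.Bf_sub_eq_zero hC hxbar hybar hc
    rw [Groth.Agent.S7986.Bf_sub_sub] at h1
    have e1 : Groth.Agent.S7986.Bf x.ofConv.toLinearMap ε (CoalgebraStruct.comul (R := K) c) =
        x.ofConv c := by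
      rw [hεone, ← hBε, mul_one]
    have e2 : Groth.Agent.S7986.Bf ε y.ofConv.toLinearMap (CoalgebraStruct.comul (R := K) c) =
        y.ofConv c := by
      rw [hεone, ← hBε, one_mul]
    have e3 : Groth.Agent.S7986.Bf ε ε (CoalgebraStruct.comul (R := K) c) = ε c := by
      rw [hεone, ← hBε, one_mul]
      rfl
    rw [← hBε, e1, e2, e3] at h1
    linear_combination h1
  -- induction on the filtration
  have hP : ∀ r, ∀ c ∈ C r, g.ofConv c = ε c := by
    intro r
    induction r with
    | zero => exact hC0 g
    | succ r ih =>
      intro c hc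
      have hpow : ∀ m : ℕ, (g ^ m).ofConv c - ε c = (m : K) * (g.ofConv c - ε c) := by
        intro m
        induction m with
        | zero => rw [pow_zero, hone, sub_self, Nat.cast_zero, zero_mul]
        | succ m ihm =>
          rw [pow_succ', hadd r g (g ^ m) ih c hc, Nat.cast_succ]
          linear_combination ihm
      have h1 := hpow (orderOf g)
      rw [pow_orderOf_eq_one, hone, sub_self] at h1
      have h2 : g.ofConv c - ε c = 0 := by
        rcases mul_eq_zero.mp h1.symm with h | h
        · exact absurd h hcop
        · exact h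
      exact sub_eq_zero.mp h2
  have : g.ofConv = (1 : WithConv (A →ₐ[K] K)).ofConv := by
    apply AlgHom.ext
    intro c
    have hmem : c ∈ ⨆ r, C r := by rw [hC.top]; trivial
    obtain ⟨r, hr⟩ := (Submodule.mem_iSup_of_directed C hC.mono.directed_le).mp hmem
    rw [hP r c hr, hone]
  exact WithConv.ofConv_injective this

end Groth.Agent.S15177
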