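import Mathlib

set_option autoImplicit false

namespace Groth.Agent.S15179L

open LaurentPolynomial

section laurent

variable {L : Type*} [Field L]

theorem laurent_unit {u v : L[T;T⁻¹]} (h : u * v = 1) :
    ∃ (c : L) (n : ℤ), c ≠ 0 ∧ u = C c * T n := by
  obtain ⟨m, f, hf⟩ := exists_T_pow u
  obtain ⟨m', f', hf'⟩ := exists_T_pow v
  have h1 : f * f' = Polynomial.X ^ (m + m') := by
    apply Polynomial.toLaurent_injective
    rw [map_mul, hf, hf', Polynomial.toLaurent_X_pow, Nat.cast_add, T_add]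
    calc u * T (m:ℤ) * (v * T (m':ℤ)) = (u * v) * (T (m:ℤ) * T (m':ℤ)) := by ring
      _ = _ := by rw [h, one_mul]
  have h2 : f ∣ Polynomial.X ^ (m + m') := ⟨f', h1.symm⟩
  obtain ⟨j, _, hj⟩ := (dvd_prime_pow Polynomial.prime_X _).mp h2
  obtain ⟨w, hw⟩ := hj
  obtain ⟨r, hr, hrw⟩ := Polynomial.isUnit_iff.mp w.isUnit
  have hr0 : r ≠ 0 := hr.ne_zero
  refine ⟨r⁻¹, (j : ℤ) - m, inv_ne_zero hr0, ?_⟩
  have h3 : f = Polynomial.C r⁻¹ * Polynomial.X ^ j := by
    rw [← hw, ← hrw]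
    calc f = f * Polynomial.C (r * r⁻¹) := by rw [mul_inv_cancel₀ hr0, Polynomial.C_1, mul_one]
      _ = Polynomial.C r⁻¹ * (f * Polynomial.C r) := by rw [Polynomial.C_mul]; ring
  have h4 : u * T (m:ℤ) = C r⁻¹ * T (j:ℤ) := by
    rw [← hf, h3, map_mul, Polynomial.toLaurent_C, Polynomial.toLaurent_X_pow]
  calc u = u * T (m:ℤ) * T (-(m:ℤ)) := by
        rw [mul_assoc, ← T_add, add_neg_cancel, T_zero, mul_one]
    _ = C r⁻¹ * T ((j:ℤ) - m) := by rw [h4, mul_assoc, ← T_add, sub_eq_add_neg]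

theorem CT_inj {c c' : L} {n n' : ℤ} (hc : c ≠ 0) (h : C c * T n = C c' * T n') :
    c = c' ∧ n = n' := by
  have hc' : c' ≠ 0 := by
    rintro rfl
    have h0 : (C c * T n : L[T;T⁻¹]) = 0 := by rw [h, map_zero, zero_mul]
    have := degree_C_mul_T n c hc
    rw [h0, degree_zero] at this
    exact WithBot.bot_ne_coe this
  have hn : n = n' := by
    have h1 := degree_C_mul_T n c hc
    rw [h, degree_C_mul_T n' c' hc'] at h1
    exact (WithBot.coe_injective h1).symm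
  subst hn
  refine ⟨?_, rfl⟩
  have h2 : (C c : L[T;T⁻¹]) = C c' := by
    have := congrArg (fun p => p * T (-n)) h
    simpa [mul_T_assoc, T_zero] using this
  have h3 := congrArg (fun p => p.coeff 0) h2
  simpa using h3

theorem laurent_hom_ext (χ₁ χ₂ : L[T;T⁻¹] →+* L[T;T⁻¹]) (hC : ∀ c, χ₁ (C c) = χ₂ (C c))
    (hT : χ₁ (T 1) = χ₂ (T 1)) : χ₁ = χ₂ := by
  have hT' : χ₁ (T (-1)) = χ₂ (T (-1)) := by
    have e1 : χ₁ (T (-1)) * χ₁ (T 1) = 1 := by rw [← map_mul, ← T_add]; simp [T_zero]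
    have e2 : χ₂ (T 1) * χ₂ (T (-1)) = 1 := by rw [← map_mul, ← T_add]; simp [T_zero]
    rw [hT] at e1
    exact left_inv_eq_right_inv e1 e2
  have hTn : ∀ n : ℕ, χ₁ (T n) = χ₂ (T n) := by
    intro n
    have : (T (n:ℤ) : L[T;T⁻¹]) = T 1 ^ n := by rw [T_pow, mul_one]
    rw [this, map_pow, map_pow, hT]
  have hTn' : ∀ n : ℕ, χ₁ (T (-(n:ℤ))) = χ₂ (T (-(n:ℤ))) := by
    intro n
    have : (T (-(n:ℤ)) : L[T;T⁻¹]) = T (-1) ^ n := by rw [T_pow, mul_neg_one]
    rw [this, map_pow, map_pow, hT']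
  apply RingHom.ext
  intro p
  refine LaurentPolynomial.induction_on' p ?_ ?_
  · intro p q hp hq
    rw [map_add, map_add, hp, hq]
  · intro n a
    rw [map_mul, map_mul, hC]
    rcases Int.eq_nat_or_neg n with ⟨k, rfl | rfl⟩
    · rw [hTn]
    · rw [hTn']

theorem hom_T_neg (χ : L[T;T⁻¹] →+* L[T;T⁻¹]) {c : L} {n : ℤ} (hc : c ≠ 0)
    (h : χ (T 1) = C c * T n) : χ (T (-1)) = C c⁻¹ * T (-n) := by
  have e1 : χ (T (-1)) * (C c * T n) = 1 := by
    rw [← h, ← map_mul, ← T_add]; simp [T_zero]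
  have e2 : (C c * T n) * (C c⁻¹ * T (-n)) = 1 := by
    calc (C c * T n) * (C c⁻¹ * T (-n)) = C (c * c⁻¹) * (T n * T (-n)) := by
          rw [map_mul]; ring
      _ = 1 := by rw [mul_inv_cancel₀ hc, ← T_add, add_neg_cancel, T_zero, map_one, mul_one]
  exact left_inv_eq_right_inv e1 e2

theorem hom_T_int (χ : L[T;T⁻¹] →+* L[T;T⁻¹]) {c : L} {n : ℤ} (hc : c ≠ 0)
    (h : χ (T 1) = C c * T n) (k : ℤ) : ∃ d : L, d ≠ 0 ∧ χ (T k) = C d * T (n * k) := by
  have hpow : ∀ (e : L) (m : ℤ) (j : ℕ),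
      (C e * T m : L[T;T⁻¹]) ^ j = C (e ^ j) * T (m * j) := by
    intro e m j
    rw [mul_pow, ← map_pow, T_pow, mul_comm (j:ℤ) m]
  rcases Int.eq_nat_or_neg k with ⟨j, rfl | rfl⟩
  · refine ⟨c ^ j, pow_ne_zero _ hc, ?_⟩
    have : (T (j:ℤ) : L[T;T⁻¹]) = T 1 ^ j := by rw [T_pow, mul_one]
    rw [this, map_pow, h, hpow]
  · refine ⟨c⁻¹ ^ j, pow_ne_zero _ (inv_ne_zero hc), ?_⟩
    have : (T (-(j:ℤ)) : L[T;T⁻¹]) = T (-1) ^ j := by rw [T_pow, mul_neg_one]
    rw [this, map_pow, hom_T_neg χ hc h, hpow, neg_mul, mul_neg]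

theorem gamma_pow {G : Type*} [Group G] (γ : G → (L[T;T⁻¹] →+* L[T;T⁻¹]))
    (h1 : γ 1 = RingHom.id _) (hmul : ∀ g h, γ (g * h) = (γ g).comp (γ h))
    (hC : ∀ g c, γ g (C c) = C c) (g : G) (c : L) (hg : γ g (T 1) = C c * T 1) (k : ℕ) :
    γ (g ^ k) (T 1) = C (c ^ k) * T 1 := by
  induction k with
  | zero => simp only [pow_zero, h1, map_one, one_mul, RingHom.id_apply]
  | succ k ih =>
    rw [pow_succ g k, hmul, RingHom.comp_apply, hg, map_mul (γ (g ^ k)), hC, ih, ← mul_assoc,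
      ← map_mul C, pow_succ c k, mul_comm c]

theorem group_lemma {G : Type*} [Group G] [Finite G]
    (γ : G → (L[T;T⁻¹] →+* L[T;T⁻¹]))
    (h1 : γ 1 = RingHom.id _) (hmul : ∀ g h, γ (g * h) = (γ g).comp (γ h))
    (hC : ∀ g c, γ g (C c) = C c)
    (hinj : ∀ g, γ g = RingHom.id _ → g = 1)
    (H : ∀ g c, c ≠ 0 → γ g (T 1) = C c * T 1 → c * c = 1) :
    (∀ g : G, g ^ 2 = 1) ∧ Nat.card G ≤ 4 := by
  have hA : ∀ g, ∃ (c : L) (n : ℤ), c ≠ 0 ∧ γ g (T 1) = C c * T n := by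
    intro g
    apply laurent_unit (v := γ g (T (-1)))
    rw [← map_mul, ← T_add]; simp [T_zero]
  have hcomp : ∀ g h x, γ (g * h) x = γ g (γ h x) := by
    intro g h x; rw [hmul, RingHom.comp_apply]
  have hone : ∀ x, γ 1 x = x := by intro x; rw [h1, RingHom.id_apply]
  have hB : ∀ g (c : L) (n : ℤ), c ≠ 0 → γ g (T 1) = C c * T n → n = 1 ∨ n = -1 := by
    intro g c n hc hg
    obtain ⟨c', n', hc', hg'⟩ := hA g⁻¹
    obtain ⟨d, hd, hd'⟩ := hom_T_int (γ g⁻¹) hc' hg' n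
    have e : γ (g⁻¹ * g) (T 1) = C (c * d) * T (n' * n) := by
      calc γ (g⁻¹ * g) (T 1) = γ g⁻¹ (C c * T n) := by rw [hcomp, hg]
        _ = C c * (C d * T (n' * n)) := by rw [map_mul (γ g⁻¹), hC, hd']
        _ = C (c * d) * T (n' * n) := by rw [map_mul C, mul_assoc]
    rw [inv_mul_cancel, hone] at e
    have e' : (C 1 * T 1 : L[T;T⁻¹]) = C (c * d) * T (n' * n) := by
      rw [map_one, one_mul]; exact e
    obtain ⟨_, hnn⟩ := CT_inj one_ne_zero e'
    exact Int.eq_one_or_neg_one_of_mul_eq_one (by rw [mul_comm]; exact hnn.symm)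
  have hsq : ∀ g : G, g ^ 2 = 1 := by
    intro g
    apply hinj
    apply laurent_hom_ext
    · intro c; simp only [hC, RingHom.id_apply]
    · obtain ⟨c, n, hc, hg⟩ := hA g
      show γ (g ^ 2) (T 1) = T 1
      rw [pow_two, hcomp, hg, map_mul (γ g), hC]
      rcases hB g c n hc hg with rfl | rfl
      · rw [hg, ← mul_assoc, ← map_mul C, H g c hc hg, map_one, one_mul]
      · rw [hom_T_neg (γ g) hc hg, ← mul_assoc, ← map_mul C, mul_inv_cancel₀ hc, map_one,
          one_mul, neg_neg]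
  refine ⟨hsq, ?_⟩
  classical
  have hΘinj : ∀ g h : G, γ g (T 1) = γ h (T 1) → g = h := by
    intro g h hgh
    have e1 : γ g = γ h := laurent_hom_ext _ _ (fun c => by rw [hC, hC]) hgh
    have e2 : γ (g⁻¹ * h) = RingHom.id _ := by
      rw [hmul, ← e1, ← hmul, inv_mul_cancel, h1]
    exact inv_mul_eq_one.mp (hinj _ e2)
  obtain ⟨c₀, hc₀⟩ : ∃ c₀ : L, ∀ g c, c ≠ 0 → γ g (T 1) = C c * T (-1) →
      c = c₀ ∨ c = -c₀ := by
    by_cases hex : ∃ g₀ c₀, c₀ ≠ 0 ∧ γ g₀ (T 1) = C c₀ * T (-1)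
    · obtain ⟨g₀, c₀, hc₀, hg₀⟩ := hex
      refine ⟨c₀, fun g c hc hg => ?_⟩
      have e : γ (g₀ * g) (T 1) = C (c * c₀⁻¹) * T 1 := by
        calc γ (g₀ * g) (T 1) = γ g₀ (C c * T (-1)) := by rw [hcomp, hg]
          _ = C c * (C c₀⁻¹ * T (-(-1))) := by
              rw [map_mul (γ g₀), hC, hom_T_neg (γ g₀) hc₀ hg₀]
          _ = C (c * c₀⁻¹) * T 1 := by rw [map_mul C, mul_assoc, neg_neg]
      have h2 := H _ _ (mul_ne_zero hc (inv_ne_zero hc₀)) e
      rcases mul_self_eq_one_iff.mp h2 with h3 | h3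
      · left; exact (mul_inv_eq_one₀ hc₀).mp h3
      · right
        calc c = c * c₀⁻¹ * c₀ := by rw [mul_assoc, inv_mul_cancel₀ hc₀, mul_one]
          _ = -c₀ := by rw [h3, neg_one_mul]
    · exact ⟨1, fun g c hc hg => (hex ⟨g, c, hc, hg⟩).elim⟩
  haveI : Fintype G := Fintype.ofFinite G
  rw [Nat.card_eq_fintype_card, ← Finset.card_univ]
  refine le_trans (Finset.card_le_card_of_injOn (fun g => γ g (T 1)) ?_ ?_)
    (Finset.card_le_four (a := (C 1 * T 1 : L[T;T⁻¹])) (b := C (-1) * T 1)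
      (c := C c₀ * T (-1)) (d := C (-c₀) * T (-1)))
  · intro g _
    obtain ⟨c, n, hc, hg⟩ := hA g
    simp only [Finset.coe_insert, Finset.coe_singleton, Set.mem_insert_iff,
      Set.mem_singleton_iff, Finset.mem_coe, Finset.mem_insert, Finset.mem_singleton]
    rcases hB g c n hc hg with rfl | rfl
    · rcases mul_self_eq_one_iff.mp (H g c hc hg) with rfl | rfl
      · left; exact hg
      · right; left; exact hg
    · rcases hc₀ g c hc hg with rfl | rfl
      · right; right; left; exact hg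
      · right; right; right; exact hg
  · intro g _ h _ hgh
    exact hΘinj g h hgh

end laurent

section conj

/-- componentwise extension of a ring endomorphism to a quadratic algebra -/
def qmap {R : Type*} [CommRing R] {a b : R} (h : R →+* R) (ha : h a = a) (hb : h b = b) :
    QuadraticAlgebra R a b →+* QuadraticAlgebra R a b where
  toFun x := ⟨h x.re, h x.im⟩
  map_one' := by
    ext
    · show h 1 = 1
      exact map_one h
    · show h 0 = 0
      exact map_zero h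
  map_mul' x y := by
    ext
    · show h (x.re * y.re + a * x.im * y.im) = h x.re * h y.re + a * h x.im * h y.im
      simp only [map_add, map_mul, ha]
    · show h (x.re * y.im + x.im * y.re + b * x.im * y.im) =
        h x.re * h y.im + h x.im * h y.re + b * h x.im * h y.im
      simp only [map_add, map_mul, hb]
  map_zero' := by
    ext
    · show h 0 = 0
      exact map_zero h
    · show h 0 = 0
      exact map_zero h
  map_add' x y := by
    ext
    · show h (x.re + y.re) = h x.re + h y.re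
      exact map_add h _ _
    · show h (x.im + y.im) = h x.im + h y.im
      exact map_add h _ _

noncomputable def conjHom {B Λ : Type*} [Semiring B] [Semiring Λ] (Φ : B →+* Λ)
    (hΦ : Function.Bijective Φ) (h : B →+* B) : Λ →+* Λ :=
  (Φ.comp h).comp ((RingEquiv.ofBijective Φ hΦ).symm : Λ →+* B)

theorem conjHom_apply {B Λ : Type*} [Semiring B] [Semiring Λ] (Φ : B →+* Λ)
    (hΦ : Function.Bijective Φ) (h : B →+* B) (x : B) :
    conjHom Φ hΦ h (Φ x) = Φ (h x) := by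
  have : (RingEquiv.ofBijective Φ hΦ).symm (Φ x) = x :=
    (RingEquiv.ofBijective Φ hΦ).symm_apply_apply x
  show Φ (h ((RingEquiv.ofBijective Φ hΦ).symm (Φ x))) = Φ (h x)
  rw [this]

end conj

section abstract

variable {K : Type*} [Field K] {A : Type*} [CommRing A] (algK : K →+* A) (c₀ c₁ : K)
  [Fact (∀ r : K, r ^ 2 ≠ c₀ + c₁ * r)]

local notation "BB" => QuadraticAlgebra A (algK c₀) (algK c₁)
local notation "LL" => QuadraticAlgebra K c₀ c₁

theorem main_abstract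
    (hK : ∀ n : ℕ, 0 < n → (Polynomial.X ^ n - 1 : Polynomial K).Splits)
    (Φ : BB →+* LL[T;T⁻¹])
    (hΦ : Function.Bijective Φ)
    (hΦC : ∀ r s : K, Φ ⟨algK r, algK s⟩ = C (⟨r, s⟩ : LL))
    (z z' : BB) (hz : Φ z = T 1) (hz' : Φ z' = T (-1))
    (him : z'.im = - z.im) (hz0 : z.im ≠ 0)
    {G : Type*} [Group G] [Finite G] (ρ : G → (A →+* A)) (ρ1 : ρ 1 = RingHom.id A)
    (ρmul : ∀ g h, ρ (g * h) = (ρ g).comp (ρ h)) (ρinj : ∀ g, ρ g = RingHom.id A → g = 1)
    (ρfix : ∀ g k, ρ g (algK k) = algK k) :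
    (∀ g : G, g ^ 2 = 1) ∧ Nat.card G ≤ 4 := by
  obtain ⟨γ, hγ⟩ : ∃ γ : G → (LL[T;T⁻¹] →+* LL[T;T⁻¹]),
      ∀ g x, γ g (Φ x) = Φ (qmap (ρ g) (ρfix g c₀) (ρfix g c₁) x) :=
    ⟨fun g => conjHom Φ hΦ (qmap (ρ g) (ρfix g c₀) (ρfix g c₁)),
      fun g x => conjHom_apply Φ hΦ _ x⟩
  have h1' : γ 1 = RingHom.id _ := by
    apply RingHom.ext; intro y
    obtain ⟨x, rfl⟩ := hΦ.2 y
    rw [hγ, RingHom.id_apply]
    refine congrArg Φ ?_
    ext
    · show ρ 1 x.re = x.re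
      rw [ρ1, RingHom.id_apply]
    · show ρ 1 x.im = x.im
      rw [ρ1, RingHom.id_apply]
  have hmul' : ∀ g h, γ (g * h) = (γ g).comp (γ h) := by
    intro g h
    apply RingHom.ext; intro y
    obtain ⟨x, rfl⟩ := hΦ.2 y
    rw [RingHom.comp_apply, hγ, hγ, hγ]
    refine congrArg Φ ?_
    ext
    · show ρ (g * h) x.re = ρ g (ρ h x.re)
      rw [ρmul, RingHom.comp_apply]
    · show ρ (g * h) x.im = ρ g (ρ h x.im)
      rw [ρmul, RingHom.comp_apply]
  have hC' : ∀ g c, γ g (C c) = C c := by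
    intro g c
    have e : Φ ⟨algK c.re, algK c.im⟩ = C c := hΦC c.re c.im
    rw [← e, hγ]
    refine congrArg Φ ?_
    ext
    · show ρ g (algK c.re) = algK c.re
      exact ρfix g _
    · show ρ g (algK c.im) = algK c.im
      exact ρfix g _
  have hinj' : ∀ g, γ g = RingHom.id _ → g = 1 := by
    intro g hg
    apply ρinj
    apply RingHom.ext; intro a
    have e := RingHom.congr_fun hg (Φ ⟨a, 0⟩)
    rw [hγ, RingHom.id_apply] at e
    have e2 := hΦ.1 e
    exact congrArg QuadraticAlgebra.re e2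
  refine group_lemma γ h1' hmul' hC' hinj' ?_
  intro g c hc hg
  have hn : 0 < orderOf g := orderOf_pos g
  have hpow := gamma_pow γ h1' hmul' hC' g c hg (orderOf g)
  rw [pow_orderOf_eq_one, h1', RingHom.id_apply] at hpow
  have e' : (C 1 * T 1 : LL[T;T⁻¹]) = C (c ^ orderOf g) * T 1 := by
    rw [map_one, one_mul]; exact hpow
  obtain ⟨hcn, _⟩ := CT_inj one_ne_zero e'
  have hf0 : (Polynomial.X ^ orderOf g - 1 : Polynomial K) ≠ 0 := by
    have := Polynomial.X_pow_sub_C_ne_zero hn (1 : K)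
    rwa [map_one] at this
  have hroot : c ∈ (algebraMap K LL).range := by
    apply (hK _ hn).mem_range_of_isRoot hf0
    rw [Polynomial.IsRoot.def]
    simp [← hcn]
  obtain ⟨r, rfl⟩ := hroot
  have hr0 : r ≠ 0 := by
    rintro rfl
    exact hc (map_zero _)
  have hx1 : Φ ⟨algK r, 0⟩ = C (algebraMap K LL r) := by
    have := hΦC r 0
    rw [map_zero algK] at this
    exact this
  have hx2 : Φ ⟨algK r⁻¹, 0⟩ = C (algebraMap K LL r)⁻¹ := by
    have := hΦC r⁻¹ 0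
    rw [map_zero algK] at this
    rw [← map_inv₀]
    exact this
  have e1 : qmap (ρ g) (ρfix g c₀) (ρfix g c₁) z = (⟨algK r, 0⟩ : BB) * z := by
    apply hΦ.1
    rw [← hγ, hz, map_mul, hx1, hz]
    exact hg
  have e2 : qmap (ρ g) (ρfix g c₀) (ρfix g c₁) z' = (⟨algK r⁻¹, 0⟩ : BB) * z' := by
    apply hΦ.1
    rw [← hγ, hz', map_mul, hx2, hz']
    exact hom_T_neg (γ g) hc hg
  have f1 : ρ g z.im = algK r * z.im := by
    have h := congrArg QuadraticAlgebra.im e1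
    have h' : ρ g z.im = algK r * z.im + 0 * z.re + algK c₁ * 0 * z.im := h
    rw [h']; ring
  have f2 : ρ g z'.im = algK r⁻¹ * z'.im := by
    have h := congrArg QuadraticAlgebra.im e2
    have h' : ρ g z'.im = algK r⁻¹ * z'.im + 0 * z'.re + algK c₁ * 0 * z'.im := h
    rw [h']; ring
  have f3 : algK r * z.im = algK r⁻¹ * z.im := by
    rw [him, map_neg, mul_neg, neg_inj] at f2
    rw [← f1, f2]
  have hrr : r = r⁻¹ := by
    by_contra hne
    have hd : r - r⁻¹ ≠ 0 := sub_ne_zero.mpr hne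
    apply hz0
    have h0 : algK (r - r⁻¹) * z.im = 0 := by rw [map_sub, sub_mul, f3, sub_self]
    calc z.im = algK ((r - r⁻¹)⁻¹ * (r - r⁻¹)) * z.im := by
          rw [inv_mul_cancel₀ hd, map_one, one_mul]
      _ = algK (r - r⁻¹)⁻¹ * (algK (r - r⁻¹) * z.im) := by rw [map_mul, mul_assoc]
      _ = 0 := by rw [h0, mul_zero]
  have hr2 : r * r = 1 := by
    calc r * r = r * r⁻¹ := congrArg (fun t => r * t) hrr
      _ = 1 := mul_inv_cancel₀ hr0
  rw [← map_mul, hr2, map_one]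

end abstract

end Groth.Agent.S15179L
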