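import Mathlib
import Groth.Agent.S15179L

set_option autoImplicit false
universe u
attribute [local instance] MvPolynomial.gradedAlgebra

namespace Groth.Agent.S15179Q

section generic

variable {R : Type*} [CommRing R] (A C₀ C₁ Ω T : R)

theorem id1 (hΩ2 : Ω * Ω = C₀ + C₁ * Ω) :
    A * ((C₁ - Ω) * T - Ω) ^ 2 - A * C₁ * (((C₁ - Ω) * T - Ω) * (T - 1)) - A * C₀ * (T - 1) ^ 2
      = A * (C₁ - Ω - Ω) ^ 2 * T := by
  linear_combination (A * (T - 1) ^ 2) * hΩ2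

theorem id2 (hΩ2 : Ω * Ω = C₀ + C₁ * Ω) :
    A * ((C₁ - Ω) * T - Ω) ^ 2 + A * C₀ * (T - 1) ^ 2 +
      Ω * (A * (C₁ * (T - 1) ^ 2 -
        (((C₁ - Ω) * T - Ω) * (T - 1) + ((C₁ - Ω) * T - Ω) * (T - 1))))
      = T * (A * ((C₁ - Ω) * T - Ω) ^ 2 - A * C₁ * (((C₁ - Ω) * T - Ω) * (T - 1))
          - A * C₀ * (T - 1) ^ 2) := by
  linear_combination (-(1 + T) * A * (T - 1) ^ 2) * hΩ2

theorem id3 (hΩ2 : Ω * Ω = C₀ + C₁ * Ω) :
    (A * ((C₁ - Ω) * T - Ω) ^ 2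
      - A * C₁ * (((C₁ - Ω) * T - Ω) * (T - 1) + ((C₁ - Ω) * T - Ω) * (T - 1))
      + A * (C₁ ^ 2 + C₀) * (T - 1) ^ 2
      + Ω * (A * ((((C₁ - Ω) * T - Ω) * (T - 1) + ((C₁ - Ω) * T - Ω) * (T - 1))
          - C₁ * (T - 1) ^ 2))) * T
      = A * ((C₁ - Ω) * T - Ω) ^ 2 - A * C₁ * (((C₁ - Ω) * T - Ω) * (T - 1))
          - A * C₀ * (T - 1) ^ 2 := by
  linear_combination (-(1 + T) * A * (T - 1) ^ 2) * hΩ2

theorem id4 :
    A * (C₁ * (T - 1) ^ 2 - (((C₁ - Ω) * T - Ω) * (T - 1) + ((C₁ - Ω) * T - Ω) * (T - 1)))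
      = -(A * (C₁ - Ω - Ω)) * (T * T - 1) := by
  ring

end generic

section dehom

variable {R : Type*} [CommRing R]

theorem evP_inj {N : ℕ} {G : MvPolynomial (Fin 2) R} (hG : G.IsHomogeneous N)
    (h0 : MvPolynomial.eval₂ Polynomial.C ![Polynomial.X, 1] G = 0) : G = 0 := by
  ext m
  rw [MvPolynomial.coeff_zero]
  by_contra hm
  have hdeg : ∀ d : Fin 2 →₀ ℕ, MvPolynomial.coeff d G ≠ 0 → d 0 + d 1 = N := by
    intro d hd
    have h1 : d.degree = N := by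
      by_contra h
      exact hd (hG.coeff_eq_zero h)
    rw [Finsupp.degree_eq_sum, Fin.sum_univ_two] at h1
    exact h1
  have key := congrArg (fun p => Polynomial.coeff p (m 0)) h0
  simp only [Polynomial.coeff_zero] at key
  rw [MvPolynomial.eval₂_eq', Polynomial.finsetSum_coeff] at key
  rw [Finset.sum_eq_single m] at key
  · simp [Fin.prod_univ_two, Polynomial.coeff_C_mul, Polynomial.coeff_X_pow] at key
    exact hm key
  · intro d hd hdm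
    have hne : m 0 ≠ d 0 := by
      intro h00
      apply hdm
      have hd' := hdeg d (MvPolynomial.mem_support_iff.mp hd)
      have hm' := hdeg m hm
      ext i
      fin_cases i
      · exact h00.symm
      · show d 1 = m 1
        omega
    simp [Fin.prod_univ_two, Polynomial.coeff_C_mul, Polynomial.coeff_X_pow, hne]
  · intro hnm
    exact absurd (MvPolynomial.mem_support_iff.mpr hm) hnm

variable (w wb : R)

noncomputable def theta : MvPolynomial (Fin 2) R →+* MvPolynomial (Fin 2) R :=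
  MvPolynomial.eval₂Hom MvPolynomial.C
    ![MvPolynomial.C wb * MvPolynomial.X 0 - MvPolynomial.C w * MvPolynomial.X 1,
      MvPolynomial.X 0 - MvPolynomial.X 1]

noncomputable def theta' (δ : R) : MvPolynomial (Fin 2) R →+* MvPolynomial (Fin 2) R :=
  MvPolynomial.eval₂Hom MvPolynomial.C
    ![MvPolynomial.C δ * (MvPolynomial.X 0 - MvPolynomial.C w * MvPolynomial.X 1),
      MvPolynomial.C δ * (MvPolynomial.X 0 - MvPolynomial.C wb * MvPolynomial.X 1)]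

theorem theta_C (r : R) : theta w wb (MvPolynomial.C r) = MvPolynomial.C r := by
  simp [theta]

theorem theta_X0 : theta w wb (MvPolynomial.X 0) =
    MvPolynomial.C wb * MvPolynomial.X 0 - MvPolynomial.C w * MvPolynomial.X 1 := by
  simp [theta]

theorem theta_X1 : theta w wb (MvPolynomial.X 1) = MvPolynomial.X 0 - MvPolynomial.X 1 := by
  simp [theta]

theorem theta'_C (δ r : R) : theta' w wb δ (MvPolynomial.C r) = MvPolynomial.C r := by
  simp [theta']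

theorem theta'_X0 (δ : R) : theta' w wb δ (MvPolynomial.X 0) =
    MvPolynomial.C δ * (MvPolynomial.X 0 - MvPolynomial.C w * MvPolynomial.X 1) := by
  simp [theta']

theorem theta'_X1 (δ : R) : theta' w wb δ (MvPolynomial.X 1) =
    MvPolynomial.C δ * (MvPolynomial.X 0 - MvPolynomial.C wb * MvPolynomial.X 1) := by
  simp [theta']

theorem theta_inj (δ : R) (hδ : δ * (wb - w) = 1) : Function.Injective (theta w wb) := by
  have hC : (MvPolynomial.C δ : MvPolynomial (Fin 2) R) *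
      (MvPolynomial.C wb - MvPolynomial.C w) = 1 := by
    rw [← map_sub, ← map_mul, hδ, map_one]
  have hcomp : (theta' w wb δ).comp (theta w wb) = RingHom.id _ := by
    apply MvPolynomial.ringHom_ext
    · intro r
      rw [RingHom.comp_apply, theta_C, theta'_C, RingHom.id_apply]
    · intro i
      fin_cases i
      · show (theta' w wb δ) (theta w wb (MvPolynomial.X 0)) = MvPolynomial.X 0
        rw [theta_X0, map_sub, map_mul, map_mul, theta'_C, theta'_C, theta'_X0, theta'_X1]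
        linear_combination (MvPolynomial.X 0) * hC
      · show (theta' w wb δ) (theta w wb (MvPolynomial.X 1)) = MvPolynomial.X 1
        rw [theta_X1, map_sub, theta'_X0, theta'_X1]
        linear_combination (MvPolynomial.X 1) * hC
  intro x y hxy
  have h := congrArg (theta' w wb δ) hxy
  rw [← RingHom.comp_apply, ← RingHom.comp_apply, hcomp] at h
  exact h

theorem theta_hom {N : ℕ} {G : MvPolynomial (Fin 2) R} (hG : G.IsHomogeneous N) :
    (theta w wb G).IsHomogeneous N := by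
  have h := hG.eval₂ (MvPolynomial.C : R →+* MvPolynomial (Fin 2) R)
    ![MvPolynomial.C wb * MvPolynomial.X 0 - MvPolynomial.C w * MvPolynomial.X 1,
      MvPolynomial.X 0 - MvPolynomial.X 1]
    (n := 1) (fun r => MvPolynomial.isHomogeneous_C _ r)
    (Fin.forall_fin_two.mpr
      ⟨((MvPolynomial.isHomogeneous_X R 0).C_mul wb).sub
          ((MvPolynomial.isHomogeneous_X R 1).C_mul w),
        (MvPolynomial.isHomogeneous_X R 0).sub (MvPolynomial.isHomogeneous_X R 1)⟩)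
  rw [one_mul] at h
  exact h

end dehom

section concrete

open MvPolynomial

variable {K : Type u} [Field K] (a c₀ c₁ : K)

/-- the normalised binary quadratic form -/
noncomputable def qq : MvPolynomial (Fin 2) K :=
  C a * X 0 ^ 2 - C (a * c₁) * (X 0 * X 1) - C (a * c₀) * X 1 ^ 2

theorem qq_hom : (qq a c₀ c₁).IsHomogeneous 2 := by
  unfold qq
  refine ((MvPolynomial.isHomogeneous_C_mul_X_pow a 0 2).sub ?_).sub
    (MvPolynomial.isHomogeneous_C_mul_X_pow (a * c₀) 1 2)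
  exact ((MvPolynomial.isHomogeneous_X K 0).mul (MvPolynomial.isHomogeneous_X K 1)).C_mul (a * c₁)

local notation "𝒜" => MvPolynomial.homogeneousSubmodule (Fin 2) K
local notation "AA" => HomogeneousLocalization.Away
  (MvPolynomial.homogeneousSubmodule (Fin 2) K) (qq a c₀ c₁)

theorem qq_mem : qq a c₀ c₁ ∈ 𝒜 2 := qq_hom a c₀ c₁

theorem val_smul_one (c : K) :
    (c • (1 : AA)).val = algebraMap K (Localization.Away (qq a c₀ c₁)) c := by
  rw [HomogeneousLocalization.val_smul, HomogeneousLocalization.val_one]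
  exact (Algebra.algebraMap_eq_smul_one c).symm

/-- the structure map `K → A` -/
noncomputable def algK : K →+* AA where
  toFun c := c • (1 : AA)
  map_one' := HomogeneousLocalization.val_injective _ (by
    rw [val_smul_one, map_one, HomogeneousLocalization.val_one])
  map_mul' c d := HomogeneousLocalization.val_injective _ (by
    rw [HomogeneousLocalization.val_mul, val_smul_one, val_smul_one, val_smul_one, map_mul])
  map_zero' := HomogeneousLocalization.val_injective _ (by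
    rw [val_smul_one, map_zero, HomogeneousLocalization.val_zero])
  map_add' c d := HomogeneousLocalization.val_injective _ (by
    rw [HomogeneousLocalization.val_add, val_smul_one, val_smul_one, val_smul_one, map_add])

theorem val_algK (c : K) :
    (algK a c₀ c₁ c).val = algebraMap K (Localization.Away (qq a c₀ c₁)) c :=
  val_smul_one a c₀ c₁ c

theorem mem_u : (X 0 ^ 2 : MvPolynomial (Fin 2) K) ∈ 𝒜 (1 • 2) := by
  rw [one_nsmul]; exact MvPolynomial.isHomogeneous_X_pow 0 2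

theorem mem_v : (X 0 * X 1 : MvPolynomial (Fin 2) K) ∈ 𝒜 (1 • 2) := by
  rw [one_nsmul]
  exact (MvPolynomial.isHomogeneous_X K 0).mul (MvPolynomial.isHomogeneous_X K 1)

theorem mem_w : (X 1 ^ 2 : MvPolynomial (Fin 2) K) ∈ 𝒜 (1 • 2) := by
  rw [one_nsmul]; exact MvPolynomial.isHomogeneous_X_pow 1 2

noncomputable def uu : AA :=
  HomogeneousLocalization.Away.mk 𝒜 (qq_mem a c₀ c₁) 1 (X 0 ^ 2) mem_u
noncomputable def vv : AA :=
  HomogeneousLocalization.Away.mk 𝒜 (qq_mem a c₀ c₁) 1 (X 0 * X 1) mem_v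
noncomputable def ww : AA :=
  HomogeneousLocalization.Away.mk 𝒜 (qq_mem a c₀ c₁) 1 (X 1 ^ 2) mem_w

local notation "BB" => QuadraticAlgebra AA (algK a c₀ c₁ c₀) (algK a c₀ c₁ c₁)

noncomputable def zz : BB :=
  ⟨algK a c₀ c₁ a * uu a c₀ c₁ + algK a c₀ c₁ (a * c₀) * ww a c₀ c₁,
    algK a c₀ c₁ a * (algK a c₀ c₁ c₁ * ww a c₀ c₁ - (vv a c₀ c₁ + vv a c₀ c₁))⟩

noncomputable def zz' : BB :=
  ⟨algK a c₀ c₁ a * uu a c₀ c₁ - algK a c₀ c₁ (a * c₁) * (vv a c₀ c₁ + vv a c₀ c₁)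
      + algK a c₀ c₁ (a * (c₁ ^ 2 + c₀)) * ww a c₀ c₁,
    algK a c₀ c₁ a * ((vv a c₀ c₁ + vv a c₀ c₁) - algK a c₀ c₁ c₁ * ww a c₀ c₁)⟩

theorem zz'_im : (zz' a c₀ c₁).im = -(zz a c₀ c₁).im := by
  show algK a c₀ c₁ a * ((vv a c₀ c₁ + vv a c₀ c₁) - algK a c₀ c₁ c₁ * ww a c₀ c₁) =
    -(algK a c₀ c₁ a * (algK a c₀ c₁ c₁ * ww a c₀ c₁ - (vv a c₀ c₁ + vv a c₀ c₁)))
  ring

variable [Fact (∀ r : K, r ^ 2 ≠ c₀ + c₁ * r)]

local notation "LL" => QuadraticAlgebra K c₀ c₁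
local notation "ΛΛ" => LaurentPolynomial (QuadraticAlgebra K c₀ c₁)
local notation "CL" => (LaurentPolynomial.C :
  QuadraticAlgebra K c₀ c₁ →+* LaurentPolynomial (QuadraticAlgebra K c₀ c₁))
local notation "TT" => (LaurentPolynomial.T : ℤ → LaurentPolynomial (QuadraticAlgebra K c₀ c₁))
local notation "ωω" => (QuadraticAlgebra.omega : QuadraticAlgebra K c₀ c₁)
local notation "alg" => algebraMap K (QuadraticAlgebra K c₀ c₁)

noncomputable def Xv : ΛΛ := (CL (alg c₁) - CL ωω) * TT 1 - CL ωω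
noncomputable def Yv : ΛΛ := TT 1 - 1

noncomputable def psi0L : MvPolynomial (Fin 2) LL →+* ΛΛ :=
  eval₂Hom CL ![Xv c₀ c₁, Yv c₀ c₁]

noncomputable def psi0 : MvPolynomial (Fin 2) K →+* ΛΛ :=
  (psi0L c₀ c₁).comp (MvPolynomial.map alg)

theorem psi0L_C (r : LL) : psi0L c₀ c₁ (C r) = CL r := by simp [psi0L]
theorem psi0L_X0 : psi0L c₀ c₁ (X 0) = Xv c₀ c₁ := by simp [psi0L]
theorem psi0L_X1 : psi0L c₀ c₁ (X 1) = Yv c₀ c₁ := by simp [psi0L]
theorem psi0_C (r : K) : psi0 c₀ c₁ (C r) = CL (alg r) := by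
  simp [psi0, psi0L_C]
theorem psi0_X0 : psi0 c₀ c₁ (X 0) = Xv c₀ c₁ := by simp [psi0, psi0L_X0]
theorem psi0_X1 : psi0 c₀ c₁ (X 1) = Yv c₀ c₁ := by simp [psi0, psi0L_X1]

theorem hOm2 : CL ωω * CL ωω = CL (alg c₀) + CL (alg c₁) * CL ωω := by
  rw [← map_mul, ← map_mul, ← map_add, QuadraticAlgebra.omega_mul_omega_eq_algebraMap]

theorem psi0_qq : psi0 c₀ c₁ (qq a c₀ c₁) =
    CL (alg a) * Xv c₀ c₁ ^ 2 - CL (alg a) * CL (alg c₁) * (Xv c₀ c₁ * Yv c₀ c₁)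
      - CL (alg a) * CL (alg c₀) * Yv c₀ c₁ ^ 2 := by
  unfold qq
  simp only [map_sub, map_mul, map_pow, psi0_C, psi0_X0, psi0_X1]

theorem Qe_eq : psi0 c₀ c₁ (qq a c₀ c₁) =
    CL (alg a) * (CL (alg c₁) - CL ωω - CL ωω) ^ 2 * TT 1 := by
  rw [psi0_qq]
  unfold Xv Yv
  exact id1 _ _ _ _ _ (hOm2 c₀ c₁)

theorem dne (hd : c₁ ^ 2 + 4 * c₀ ≠ 0) : (alg c₁ - ωω - ωω : LL) ≠ 0 := by
  intro h
  have hre : c₁ - 0 - 0 = (0:K) := congrArg QuadraticAlgebra.re h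
  have him : (0:K) - 1 - 1 = 0 := congrArg QuadraticAlgebra.im h
  apply hd
  linear_combination c₁ * hre - 2 * c₀ * him

theorem isUnit_A (ha : a ≠ 0) : IsUnit (CL (alg a)) :=
  (IsUnit.mk0 _ ((map_ne_zero (alg)).mpr ha)).map CL

theorem isUnit_D (hd : c₁ ^ 2 + 4 * c₀ ≠ 0) : IsUnit (CL (alg c₁) - CL ωω - CL ωω) := by
  rw [← map_sub, ← map_sub]
  exact (IsUnit.mk0 _ (dne c₀ c₁ hd)).map CL

theorem isUnit_Qe (ha : a ≠ 0) (hd : c₁ ^ 2 + 4 * c₀ ≠ 0) :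
    IsUnit (psi0 c₀ c₁ (qq a c₀ c₁)) := by
  rw [Qe_eq]
  exact ((isUnit_A a c₀ c₁ ha).mul ((isUnit_D c₀ c₁ hd).pow 2)).mul
    (LaurentPolynomial.isUnit_T 1)

variable (hu : IsUnit (psi0 c₀ c₁ (qq a c₀ c₁)))

noncomputable def psi : AA →+* ΛΛ :=
  (IsLocalization.Away.lift (S := Localization.Away (qq a c₀ c₁)) (qq a c₀ c₁) hu).comp
    (algebraMap AA (Localization.Away (qq a c₀ c₁)))

local notation "ψ" => psi a c₀ c₁ hu

theorem psi_mk (k : ℕ) (f : MvPolynomial (Fin 2) K) (hf : f ∈ 𝒜 (k • 2)) :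
    ψ (HomogeneousLocalization.Away.mk 𝒜 (qq_mem a c₀ c₁) k f hf) *
      (psi0 c₀ c₁ (qq a c₀ c₁)) ^ k = psi0 c₀ c₁ f := by
  have h1 : (HomogeneousLocalization.Away.mk 𝒜 (qq_mem a c₀ c₁) k f hf).val *
      algebraMap (MvPolynomial (Fin 2) K) (Localization.Away (qq a c₀ c₁)) (qq a c₀ c₁ ^ k) =
      algebraMap (MvPolynomial (Fin 2) K) (Localization.Away (qq a c₀ c₁)) f := by
    rw [HomogeneousLocalization.Away.val_mk, Localization.mk_eq_mk']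
    exact IsLocalization.mk'_spec _ _ _
  have h2 := congrArg (IsLocalization.Away.lift (S := Localization.Away (qq a c₀ c₁))
    (qq a c₀ c₁) hu) h1
  rw [map_mul, IsLocalization.Away.lift_eq, IsLocalization.Away.lift_eq, map_pow] at h2
  exact h2

theorem psi_algK (c : K) : ψ (algK a c₀ c₁ c) = CL (alg c) := by
  show IsLocalization.Away.lift (S := Localization.Away (qq a c₀ c₁)) (qq a c₀ c₁) hu
    ((algK a c₀ c₁ c).val) = _
  rw [val_algK, IsScalarTower.algebraMap_apply K (MvPolynomial (Fin 2) K)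
    (Localization.Away (qq a c₀ c₁)), IsLocalization.Away.lift_eq, MvPolynomial.algebraMap_eq,
    psi0_C]

theorem psi_uu : ψ (uu a c₀ c₁) * psi0 c₀ c₁ (qq a c₀ c₁) = Xv c₀ c₁ ^ 2 := by
  have h := psi_mk a c₀ c₁ hu 1 (X 0 ^ 2) mem_u
  rw [pow_one, map_pow, psi0_X0] at h
  exact h

theorem psi_vv : ψ (vv a c₀ c₁) * psi0 c₀ c₁ (qq a c₀ c₁) = Xv c₀ c₁ * Yv c₀ c₁ := by
  have h := psi_mk a c₀ c₁ hu 1 (X 0 * X 1) mem_v
  rw [pow_one, map_mul, psi0_X0, psi0_X1] at h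
  exact h

theorem psi_ww : ψ (ww a c₀ c₁) * psi0 c₀ c₁ (qq a c₀ c₁) = Yv c₀ c₁ ^ 2 := by
  have h := psi_mk a c₀ c₁ hu 1 (X 1 ^ 2) mem_w
  rw [pow_one, map_pow, psi0_X1] at h
  exact h

/-- the comparison map `A ⊗ L → L[T, T⁻¹]` -/
noncomputable def Phi : BB →+* ΛΛ where
  toFun x := ψ x.re + CL ωω * ψ x.im
  map_one' := by
    show ψ 1 + CL ωω * ψ 0 = 1
    rw [map_one, map_zero, mul_zero, add_zero]
  map_mul' x y := by
    show ψ (x.re * y.re + algK a c₀ c₁ c₀ * x.im * y.im) +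
        CL ωω * ψ (x.re * y.im + x.im * y.re + algK a c₀ c₁ c₁ * x.im * y.im) =
      (ψ x.re + CL ωω * ψ x.im) * (ψ y.re + CL ωω * ψ y.im)
    simp only [map_add, map_mul, psi_algK]
    linear_combination (-(ψ x.im * ψ y.im)) * hOm2 c₀ c₁
  map_zero' := by
    show ψ 0 + CL ωω * ψ 0 = 0
    rw [map_zero, mul_zero, add_zero]
  map_add' x y := by
    show ψ (x.re + y.re) + CL ωω * ψ (x.im + y.im) =
      (ψ x.re + CL ωω * ψ x.im) + (ψ y.re + CL ωω * ψ y.im)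
    rw [map_add, map_add]; ring

theorem Phi_apply (x : BB) : Phi a c₀ c₁ hu x = ψ x.re + CL ωω * ψ x.im := rfl

theorem Phi_zz : Phi a c₀ c₁ hu (zz a c₀ c₁) = TT 1 := by
  have e_u := psi_uu a c₀ c₁ hu
  have e_v := psi_vv a c₀ c₁ hu
  have e_w := psi_ww a c₀ c₁ hu
  have i2 : CL (alg a) * Xv c₀ c₁ ^ 2 + CL (alg a) * CL (alg c₀) * Yv c₀ c₁ ^ 2 +
      CL ωω * (CL (alg a) * (CL (alg c₁) * Yv c₀ c₁ ^ 2 -
        (Xv c₀ c₁ * Yv c₀ c₁ + Xv c₀ c₁ * Yv c₀ c₁)))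
      = TT 1 * psi0 c₀ c₁ (qq a c₀ c₁) := by
    rw [psi0_qq]
    unfold Xv Yv
    exact id2 _ _ _ _ _ (hOm2 c₀ c₁)
  apply (hu.mul_left_inj).mp
  show (ψ (algK a c₀ c₁ a * uu a c₀ c₁ + algK a c₀ c₁ (a * c₀) * ww a c₀ c₁) +
      CL ωω * ψ (algK a c₀ c₁ a *
        (algK a c₀ c₁ c₁ * ww a c₀ c₁ - (vv a c₀ c₁ + vv a c₀ c₁)))) *
      psi0 c₀ c₁ (qq a c₀ c₁) = TT 1 * psi0 c₀ c₁ (qq a c₀ c₁)
  simp only [map_add, map_sub, map_mul, psi_algK]
  linear_combination (CL (alg a)) * e_u +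
    (CL (alg a) * CL (alg c₀) + CL ωω * CL (alg a) * CL (alg c₁)) * e_w
    - (2 * CL ωω * CL (alg a)) * e_v + i2

theorem Phi_zz' : Phi a c₀ c₁ hu (zz' a c₀ c₁) = TT (-1) := by
  have e_u := psi_uu a c₀ c₁ hu
  have e_v := psi_vv a c₀ c₁ hu
  have e_w := psi_ww a c₀ c₁ hu
  have i3 : (CL (alg a) * Xv c₀ c₁ ^ 2
      - CL (alg a) * CL (alg c₁) * (Xv c₀ c₁ * Yv c₀ c₁ + Xv c₀ c₁ * Yv c₀ c₁)
      + CL (alg a) * (CL (alg c₁) ^ 2 + CL (alg c₀)) * Yv c₀ c₁ ^ 2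
      + CL ωω * (CL (alg a) * ((Xv c₀ c₁ * Yv c₀ c₁ + Xv c₀ c₁ * Yv c₀ c₁)
          - CL (alg c₁) * Yv c₀ c₁ ^ 2))) * TT 1
      = psi0 c₀ c₁ (qq a c₀ c₁) := by
    rw [psi0_qq]
    unfold Xv Yv
    exact id3 _ _ _ _ _ (hOm2 c₀ c₁)
  have h1 : Phi a c₀ c₁ hu (zz' a c₀ c₁) * TT 1 = 1 := by
    apply (hu.mul_left_inj).mp
    show (ψ (algK a c₀ c₁ a * uu a c₀ c₁ -
          algK a c₀ c₁ (a * c₁) * (vv a c₀ c₁ + vv a c₀ c₁)
          + algK a c₀ c₁ (a * (c₁ ^ 2 + c₀)) * ww a c₀ c₁) +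
        CL ωω * ψ (algK a c₀ c₁ a *
          ((vv a c₀ c₁ + vv a c₀ c₁) - algK a c₀ c₁ c₁ * ww a c₀ c₁))) * TT 1 *
        psi0 c₀ c₁ (qq a c₀ c₁) = 1 * psi0 c₀ c₁ (qq a c₀ c₁)
    simp only [map_add, map_sub, map_mul, map_pow, psi_algK]
    linear_combination (CL (alg a) * TT 1) * e_u +
      (-(2 * CL (alg a) * CL (alg c₁)) + 2 * CL ωω * CL (alg a)) * TT 1 * e_v +
      (CL (alg a) * (CL (alg c₁) ^ 2 + CL (alg c₀)) - CL ωω * CL (alg a) * CL (alg c₁)) *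
        TT 1 * e_w + i3
  have h2 : (TT 1 * TT (-1) : ΛΛ) = 1 := by
    rw [← LaurentPolynomial.T_add]; simp [LaurentPolynomial.T_zero]
  exact left_inv_eq_right_inv h1 h2

include hu in
theorem zz_im_ne (ha : a ≠ 0) (hd : c₁ ^ 2 + 4 * c₀ ≠ 0) : (zz a c₀ c₁).im ≠ 0 := by
  intro h0
  have e_v := psi_vv a c₀ c₁ hu
  have e_w := psi_ww a c₀ c₁ hu
  have i4 : CL (alg a) * (CL (alg c₁) * Yv c₀ c₁ ^ 2 -
        (Xv c₀ c₁ * Yv c₀ c₁ + Xv c₀ c₁ * Yv c₀ c₁))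
      = -(CL (alg a) * (CL (alg c₁) - CL ωω - CL ωω)) * (TT 1 * TT 1 - 1) := by
    unfold Xv Yv
    exact id4 _ _ _ _
  have h1 : ψ ((zz a c₀ c₁).im) * psi0 c₀ c₁ (qq a c₀ c₁) =
      -(CL (alg a) * (CL (alg c₁) - CL ωω - CL ωω)) * (TT 1 * TT 1 - 1) := by
    show ψ (algK a c₀ c₁ a *
        (algK a c₀ c₁ c₁ * ww a c₀ c₁ - (vv a c₀ c₁ + vv a c₀ c₁))) *
        psi0 c₀ c₁ (qq a c₀ c₁) = _
    simp only [map_add, map_sub, map_mul, psi_algK]
    linear_combination (CL (alg a) * CL (alg c₁)) * e_w - (2 * CL (alg a)) * e_v + i4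
  rw [h0, map_zero, zero_mul] at h1
  have h2 : (CL (alg a) * (CL (alg c₁) - CL ωω - CL ωω)) * (TT 1 * TT 1 - 1) = 0 := by
    rw [neg_mul] at h1
    exact neg_eq_zero.mp h1.symm
  have h3 : (TT 1 * TT 1 - 1 : ΛΛ) = 0 :=
    (((isUnit_A a c₀ c₁ ha).mul (isUnit_D c₀ c₁ hd)).mul_right_eq_zero).mp h2
  have h4 : (CL 1 * TT (1 + 1) : ΛΛ) = CL 1 * TT 0 := by
    rw [map_one, one_mul, one_mul, LaurentPolynomial.T_zero, LaurentPolynomial.T_add]
    exact sub_eq_zero.mp h3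
  have := (S15179L.CT_inj one_ne_zero h4).2
  omega

theorem Phi_C (r s : K) :
    Phi a c₀ c₁ hu ⟨algK a c₀ c₁ r, algK a c₀ c₁ s⟩ = CL (⟨r, s⟩ : LL) := by
  show ψ (algK a c₀ c₁ r) + CL ωω * ψ (algK a c₀ c₁ s) = _
  rw [psi_algK, psi_algK, ← map_mul, ← map_add]
  congr 1
  ext
  · show r + (0 * s + c₀ * 1 * 0) = r
    ring
  · show (0:K) + (0 * 0 + 1 * s + c₁ * 1 * 0) = s
    ring

theorem Phi_surj : Function.Surjective (Phi a c₀ c₁ hu) := by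
  have hz := Phi_zz a c₀ c₁ hu
  have hz' := Phi_zz' a c₀ c₁ hu
  intro p
  refine LaurentPolynomial.induction_on' p ?_ ?_
  · rintro p q ⟨x, rfl⟩ ⟨y, rfl⟩
    exact ⟨x + y, map_add _ _ _⟩
  · intro n c
    rcases Int.eq_nat_or_neg n with ⟨k, rfl | rfl⟩
    · refine ⟨(⟨algK a c₀ c₁ c.re, algK a c₀ c₁ c.im⟩ : BB) * zz a c₀ c₁ ^ k, ?_⟩
      rw [map_mul, map_pow, hz, Phi_C, LaurentPolynomial.T_pow, mul_one]
    · refine ⟨(⟨algK a c₀ c₁ c.re, algK a c₀ c₁ c.im⟩ : BB) * zz' a c₀ c₁ ^ k, ?_⟩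
      rw [map_mul, map_pow, hz', Phi_C, LaurentPolynomial.T_pow, mul_neg_one]

theorem psi0L_factor : psi0L c₀ c₁ =
    ((Polynomial.toLaurent).comp
      (MvPolynomial.eval₂Hom Polynomial.C ![Polynomial.X, 1])).comp
        (theta ωω (alg c₁ - ωω)) := by
  apply MvPolynomial.ringHom_ext
  · intro r
    rw [psi0L_C, RingHom.comp_apply, RingHom.comp_apply, theta_C, MvPolynomial.eval₂Hom_C,
      Polynomial.toLaurent_C]
  · intro i
    fin_cases i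
    · show psi0L c₀ c₁ (X 0) = Polynomial.toLaurent
        (MvPolynomial.eval₂Hom Polynomial.C ![Polynomial.X, 1]
          (theta ωω (alg c₁ - ωω) (X 0)))
      rw [psi0L_X0, theta_X0]
      simp [Xv, Polynomial.toLaurent_C, Polynomial.toLaurent_X]
    · show psi0L c₀ c₁ (X 1) = Polynomial.toLaurent
        (MvPolynomial.eval₂Hom Polynomial.C ![Polynomial.X, 1]
          (theta ωω (alg c₁ - ωω) (X 1)))
      rw [psi0L_X1, theta_X1]
      simp [Yv, Polynomial.toLaurent_X]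

theorem psi0L_inj (hd : c₁ ^ 2 + 4 * c₀ ≠ 0) {N : ℕ} {G : MvPolynomial (Fin 2) LL}
    (hG : G.IsHomogeneous N) (h0 : psi0L c₀ c₁ G = 0) : G = 0 := by
  rw [psi0L_factor] at h0
  have h1 : MvPolynomial.eval₂ Polynomial.C ![Polynomial.X, 1]
      (theta ωω (alg c₁ - ωω) G) = 0 := by
    apply Polynomial.toLaurent_injective
    rw [map_zero]
    exact h0
  have h2 : theta ωω (alg c₁ - ωω) G = 0 := evP_inj (theta_hom _ _ hG) h1
  have hδ : (alg c₁ - ωω - ωω : LL)⁻¹ * ((alg c₁ - ωω) - ωω) = 1 :=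
    inv_mul_cancel₀ (dne c₀ c₁ hd)
  exact theta_inj ωω (alg c₁ - ωω) _ hδ (by rw [h2, map_zero])

theorem Phi_inj (hd : c₁ ^ 2 + 4 * c₀ ≠ 0) : Function.Injective (Phi a c₀ c₁ hu) := by
  rw [injective_iff_map_eq_zero]
  intro x hx
  have hq0 : qq a c₀ c₁ ≠ 0 := fun h => hu.ne_zero (by rw [h, map_zero])
  obtain ⟨k₀, f₀, hf₀, hx0⟩ :=
    HomogeneousLocalization.Away.mk_surjective 𝒜 (qq_mem a c₀ c₁) x.re
  obtain ⟨k₁, f₁, hf₁, hx1⟩ :=
    HomogeneousLocalization.Away.mk_surjective 𝒜 (qq_mem a c₀ c₁) x.im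
  have e0 := psi_mk a c₀ c₁ hu k₀ f₀ hf₀
  have e1 := psi_mk a c₀ c₁ hu k₁ f₁ hf₁
  rw [hx0] at e0
  rw [hx1] at e1
  have hx' : ψ x.re + CL ωω * ψ x.im = 0 := hx
  have key : psi0 c₀ c₁ (f₀ * qq a c₀ c₁ ^ k₁) +
      CL ωω * psi0 c₀ c₁ (f₁ * qq a c₀ c₁ ^ k₀) = 0 := by
    rw [map_mul, map_mul, map_pow, map_pow, ← e0, ← e1]
    linear_combination
      (psi0 c₀ c₁ (qq a c₀ c₁) ^ k₀ * psi0 c₀ c₁ (qq a c₀ c₁) ^ k₁) * hx'
  have hF0 : (f₀ * qq a c₀ c₁ ^ k₁).IsHomogeneous (2 * k₀ + 2 * k₁) := by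
    have h := (show f₀.IsHomogeneous (k₀ • 2) from hf₀).mul ((qq_hom a c₀ c₁).pow k₁)
    rwa [show k₀ • 2 + 2 * k₁ = 2 * k₀ + 2 * k₁ from by rw [smul_eq_mul]; ring] at h
  have hF1 : (f₁ * qq a c₀ c₁ ^ k₀).IsHomogeneous (2 * k₀ + 2 * k₁) := by
    have h := (show f₁.IsHomogeneous (k₁ • 2) from hf₁).mul ((qq_hom a c₀ c₁).pow k₀)
    rwa [show k₁ • 2 + 2 * k₀ = 2 * k₀ + 2 * k₁ from by rw [smul_eq_mul]; ring] at h
  have hG : (MvPolynomial.map alg (f₀ * qq a c₀ c₁ ^ k₁) +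
      C ωω * MvPolynomial.map alg (f₁ * qq a c₀ c₁ ^ k₀)).IsHomogeneous (2 * k₀ + 2 * k₁) :=
    (hF0.map _).add ((hF1.map _).C_mul _)
  have hG0 := psi0L_inj c₀ c₁ hd hG (by
    rw [map_add, map_mul (psi0L c₀ c₁), psi0L_C]
    exact key)
  have hcoef : ∀ m, coeff m (f₀ * qq a c₀ c₁ ^ k₁) = 0 ∧ coeff m (f₁ * qq a c₀ c₁ ^ k₀) = 0 := by
    intro m
    have h := congrArg (MvPolynomial.coeff m) hG0
    rw [coeff_add, coeff_C_mul, coeff_map, coeff_map, coeff_zero] at h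
    have hre : coeff m (f₀ * qq a c₀ c₁ ^ k₁) +
        (0 * coeff m (f₁ * qq a c₀ c₁ ^ k₀) + c₀ * 1 * 0) = 0 :=
      congrArg QuadraticAlgebra.re h
    have him : (0:K) + (0 * 0 + 1 * coeff m (f₁ * qq a c₀ c₁ ^ k₀) + c₁ * 1 * 0) = 0 :=
      congrArg QuadraticAlgebra.im h
    exact ⟨by linear_combination hre, by linear_combination him⟩
  have hf0z : f₀ = 0 := by
    have : f₀ * qq a c₀ c₁ ^ k₁ = 0 := by
      ext m; rw [coeff_zero]; exact (hcoef m).1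
    rcases mul_eq_zero.mp this with h | h
    · exact h
    · exact absurd h (pow_ne_zero _ hq0)
  have hf1z : f₁ = 0 := by
    have : f₁ * qq a c₀ c₁ ^ k₀ = 0 := by
      ext m; rw [coeff_zero]; exact (hcoef m).2
    rcases mul_eq_zero.mp this with h | h
    · exact h
    · exact absurd h (pow_ne_zero _ hq0)
  subst hf0z
  subst hf1z
  have hmk0 : ∀ k (h0 : (0 : MvPolynomial (Fin 2) K) ∈ 𝒜 (k • 2)),
      HomogeneousLocalization.Away.mk 𝒜 (qq_mem a c₀ c₁) k 0 h0 = 0 := by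
    intro k h0
    apply HomogeneousLocalization.val_injective
    rw [HomogeneousLocalization.Away.val_mk, HomogeneousLocalization.val_zero,
      Localization.mk_zero]
  ext
  · rw [← hx0, hmk0]; rfl
  · rw [← hx1, hmk0]; rfl

omit hu in
theorem main_concrete (ha : a ≠ 0) (hd : c₁ ^ 2 + 4 * c₀ ≠ 0)
    (hK : ∀ n : ℕ, 0 < n → (Polynomial.X ^ n - 1 : Polynomial K).Splits)
    (G : Subgroup (AA ≃+* AA)) [Finite G]
    (hG : ∀ g ∈ G, ∀ (k : K) (z : AA), g (k • z) = k • g z) :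
    (∀ g ∈ G, g ^ 2 = 1) ∧ Nat.card G ≤ 4 := by
  have hu := isUnit_Qe a c₀ c₁ ha hd
  have hfix : ∀ g ∈ G, ∀ k : K, g (algK a c₀ c₁ k) = algK a c₀ c₁ k := by
    intro g hg k
    show g (k • (1 : AA)) = k • (1 : AA)
    rw [hG g hg, map_one]
  have main := S15179L.main_abstract (algK a c₀ c₁) c₀ c₁ hK (Phi a c₀ c₁ hu)
    ⟨Phi_inj a c₀ c₁ hu hd, Phi_surj a c₀ c₁ hu⟩ (Phi_C a c₀ c₁ hu) (zz a c₀ c₁) (zz' a c₀ c₁)
    (Phi_zz a c₀ c₁ hu) (Phi_zz' a c₀ c₁ hu) (zz'_im a c₀ c₁) (zz_im_ne a c₀ c₁ hu ha hd)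
    (G := ↥G) (fun g => ((g : AA ≃+* AA) : AA →+* AA))
    (RingHom.ext fun x => rfl) (fun g h => RingHom.ext fun x => rfl)
    (fun g hg => Subtype.ext (RingEquiv.ext fun x => RingHom.congr_fun hg x))
    (fun g k => hfix g.1 g.2 k)
  refine ⟨fun g hg => ?_, main.2⟩
  have h := main.1 ⟨g, hg⟩
  simpa using congrArg Subtype.val h

end concrete

end Groth.Agent.S15179Q
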