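import Groth.Statements.S15179
import Mathlib
import Groth.Agent.S15179Q

set_option autoImplicit false
universe u
attribute [local instance] MvPolynomial.gradedAlgebra
open BddFin

namespace Groth.Agent.S15179


open MvPolynomial in
theorem form_eq {K : Type u} [Field K] (q : MvPolynomial (Fin 2) K) (hq : q.IsHomogeneous 2) :
    q = C (q.coeff (Finsupp.single 0 2)) * X 0 ^ 2 +
      C (q.coeff (Finsupp.single 0 1 + Finsupp.single 1 1)) * (X 0 * X 1) +
      C (q.coeff (Finsupp.single 1 2)) * X 1 ^ 2 := by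
  have hX01 : (X 0 * X 1 : MvPolynomial (Fin 2) K) =
      monomial (Finsupp.single 0 1 + Finsupp.single 1 1) 1 := by
    show monomial (Finsupp.single 0 1) (1:K) * monomial (Finsupp.single 1 1) 1 = _
    rw [monomial_mul, one_mul]
  rw [hX01, C_mul_monomial, mul_one, C_mul_X_pow_eq_monomial, C_mul_X_pow_eq_monomial]
  ext m
  rw [coeff_add, coeff_add, coeff_monomial, coeff_monomial, coeff_monomial]
  by_cases h1 : Finsupp.single 0 2 = m
  · subst h1
    have n2 : ¬ (Finsupp.single 0 1 + Finsupp.single 1 1 : Fin 2 →₀ ℕ) = Finsupp.single 0 2 := by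
      intro h; have := DFunLike.congr_fun h 1; simp at this
    have n3 : ¬ (Finsupp.single 1 2 : Fin 2 →₀ ℕ) = Finsupp.single 0 2 := by
      intro h; have := DFunLike.congr_fun h 1; simp at this
    rw [if_pos rfl, if_neg n2, if_neg n3, add_zero, add_zero]
  · by_cases h2 : (Finsupp.single 0 1 + Finsupp.single 1 1 : Fin 2 →₀ ℕ) = m
    · subst h2
      have n3 : ¬ (Finsupp.single 1 2 : Fin 2 →₀ ℕ) =
          Finsupp.single 0 1 + Finsupp.single 1 1 := by
        intro h; have := DFunLike.congr_fun h 0; simp at this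
      rw [if_neg h1, if_pos rfl, if_neg n3, zero_add, add_zero]
    · by_cases h3 : (Finsupp.single 1 2 : Fin 2 →₀ ℕ) = m
      · subst h3
        rw [if_neg h1, if_neg h2, if_pos rfl, zero_add, zero_add]
      · rw [if_neg h1, if_neg h2, if_neg h3, add_zero, add_zero]
        apply hq.coeff_eq_zero
        intro hdeg
        rw [Finsupp.degree_eq_sum, Fin.sum_univ_two] at hdeg
        have hm : m = Finsupp.single 0 (m 0) + Finsupp.single 1 (m 1) := by
          ext k; fin_cases k <;> simp
        have h3' : (m 0 = 2 ∧ m 1 = 0) ∨ (m 0 = 1 ∧ m 1 = 1) ∨ (m 0 = 0 ∧ m 1 = 2) := by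
          omega
        rcases h3' with ⟨e0, e1⟩ | ⟨e0, e1⟩ | ⟨e0, e1⟩
        · apply h1; rw [hm, e0, e1]; simp
        · apply h2; rw [hm, e0, e1]
        · apply h3; rw [hm, e0, e1]; simp

open MvPolynomial in
theorem key_form {K : Type u} [Field K] (q : MvPolynomial (Fin 2) K) (hq : q.IsHomogeneous 2)
    (hirr : Irreducible q)
    (hdisc : (q.coeff (Finsupp.single 0 1 + Finsupp.single 1 1)) ^ 2 -
      4 * q.coeff (Finsupp.single 0 2) * q.coeff (Finsupp.single 1 2) ≠ 0) :
    ∃ a c₀ c₁ : K, a ≠ 0 ∧ c₁ ^ 2 + 4 * c₀ ≠ 0 ∧ (∀ r : K, r ^ 2 ≠ c₀ + c₁ * r) ∧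
      q = S15179Q.qq a c₀ c₁ := by
  obtain ⟨a', b', c', hform, hdisc'⟩ : ∃ a' b' c' : K,
      q = C a' * X 0 ^ 2 + C b' * (X 0 * X 1) + C c' * X 1 ^ 2 ∧
      b' ^ 2 - 4 * a' * c' ≠ 0 := ⟨_, _, _, form_eq q hq, hdisc⟩
  have hcc : ∀ p : MvPolynomial (Fin 2) K, constantCoeff p = 0 → ¬ IsUnit p := by
    intro p h hu
    have := hu.map (constantCoeff (σ := Fin 2) (R := K))
    rw [h] at this
    exact not_isUnit_zero this
  have ha : a' ≠ 0 := by
    intro ha0
    have hfac : q = X 1 * (C b' * X 0 + C c' * X 1) := by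
      rw [hform, ha0, map_zero, zero_mul, zero_add]; ring
    rcases hirr.isUnit_or_isUnit hfac with h | h
    · exact hcc _ (by simp) h
    · exact hcc _ (by simp) h
  obtain ⟨c₁, h1⟩ : ∃ c₁ : K, a' * c₁ = -b' := ⟨-b' / a', by field_simp⟩
  obtain ⟨c₀, h2⟩ : ∃ c₀ : K, a' * c₀ = -c' := ⟨-c' / a', by field_simp⟩
  have hqq : q = S15179Q.qq a' c₀ c₁ := by
    rw [hform]; unfold S15179Q.qq; rw [h1, h2, map_neg, map_neg]; ring
  refine ⟨a', c₀, c₁, ha, ?_, ?_, hqq⟩
  · intro h
    apply hdisc'
    linear_combination (a' ^ 2) * h + (b' - a' * c₁) * h1 - 4 * a' * h2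
  · intro r hr
    have hr' : (C r : MvPolynomial (Fin 2) K) ^ 2 = C c₀ + C c₁ * C r := by
      rw [← map_pow, hr, map_add, map_mul]
    have hfac : q = (C a' * (X 0 - C r * X 1)) * (X 0 + C (r - c₁) * X 1) := by
      rw [hqq]; unfold S15179Q.qq
      simp only [map_mul, map_sub]
      linear_combination (C a' * X 1 ^ 2) * hr'
    rcases hirr.isUnit_or_isUnit hfac with h | h
    · exact hcc _ (by simp) h
    · exact hcc _ (by simp) h

/-- Let K be a field such that K contains all roots of unity (for every n ≥ 1 the polynomial X^n − 1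
splits into linear factors over K). Let q be an irreducible binary quadratic form over K with
non-zero discriminant, so that its zero locus in the projective line over K is a single closed point
with separable quadratic residue field over K (a pair of distinct conjugate geometric points), and
let U be the complement of that point: the affine curve whose coordinate ring is the ring of
degree-0 fractions f / q ^ k (f a binary form of degree 2k). Then for every finite group G of
K-automorphisms of U (K-linear ring automorphisms of its coordinate ring), every g ∈ G satisfies g ^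
2 = 1 and G has at most 4 elements. -/
theorem result
    (K : Type u) [Field K] (hK : ∀ n : ℕ, 0 < n → (Polynomial.X ^ n - 1 : Polynomial K).Splits)
    (q : MvPolynomial (Fin 2) K) (hq : q.IsHomogeneous 2) (hirr : Irreducible q)
    (hdisc : (q.coeff (Finsupp.single 0 1 + Finsupp.single 1 1)) ^ 2 -
      4 * q.coeff (Finsupp.single 0 2) * q.coeff (Finsupp.single 1 2) ≠ 0)
    (G : Subgroup (HomogeneousLocalization.Away (MvPolynomial.homogeneousSubmodule (Fin 2) K) q ≃+* HomogeneousLocalization.Away (MvPolynomial.homogeneousSubmodule (Fin 2) K) q)) [Finite G]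
    (hG : ∀ g ∈ G, ∀ (k : K) (z : HomogeneousLocalization.Away (MvPolynomial.homogeneousSubmodule (Fin 2) K) q), g (k • z) = k • g z) :
    (∀ g ∈ G, g ^ 2 = 1) ∧ Nat.card G ≤ 4 := by
  obtain ⟨a, c₀, c₁, ha, hd, hroot, rfl⟩ := key_form q hq hirr hdisc
  haveI : Fact (∀ r : K, r ^ 2 ≠ c₀ + c₁ * r) := ⟨hroot⟩
  exact S15179Q.main_concrete a c₀ c₁ ha hd hK G hG

end Groth.Agent.S15179
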