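import Groth.Statements.S15183
import Groth.Agent.H75.PrimRoot
import Mathlib.RingTheory.SimpleModule.WedderburnArtin
import Mathlib.Data.Matrix.Basic
import Mathlib.RingTheory.Artinian.Algebra

set_option autoImplicit false
universe u v
open Polynomial
open BddFin

namespace Groth.Agent.S15183


lemma isUnit_of_ne_zero_fin_one {D : Type*} [DivisionRing D] (M : Matrix (Fin 1) (Fin 1) D)
    (hM : M ≠ 0) : IsUnit M := by
  have h00 : M 0 0 ≠ 0 := by
    intro h
    apply hM
    ext i j
    rw [Fin.eq_zero i, Fin.eq_zero j]
    exact h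
  refine ⟨⟨M, Matrix.of fun _ _ => (M 0 0)⁻¹, ?_, ?_⟩, rfl⟩
  · ext i j
    rw [Fin.eq_zero i, Fin.eq_zero j]
    simp [Matrix.mul_apply, h00]
  · ext i j
    rw [Fin.eq_zero i, Fin.eq_zero j]
    simp [Matrix.mul_apply, h00]

/-- Let K be a field such that K contains all roots of unity (for every n ≥ 1 the polynomial X^n − 1
splits into linear factors over K), and A a finite-dimensional central simple K-algebra which is not
a division algebra (some non-zero element is not a unit). Then the quotient of the unit group of A
by that of K has elements of every finite order invertible in K: for every d ≥ 1 with d ≠ 0 in K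
there is a unit x of A with x ^ d in K and x ^ k not in K for 0 < k < d. (The published assertion is
phrased for the automorphism group of the Severi–Brauer variety of A, which is isomorphic to the
units of A modulo those of K; this row is the algebra-side statement its proof establishes.) -/
theorem result
    (K : Type u) [Field K] (hK : ∀ n : ℕ, 0 < n → (X ^ n - 1 : K[X]).Splits)
    (A : Type v) [Ring A] [Algebra K A] [Algebra.IsCentral K A] [IsSimpleRing A] [FiniteDimensional K A]
    (hA : ∃ y : A, y ≠ 0 ∧ ¬ IsUnit y) (d : ℕ) (hd : 0 < d) (hdK : (d : K) ≠ 0) :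
    ∃ x : A, IsUnit x ∧ x ^ d ∈ (algebraMap K A).range ∧
      ∀ k : ℕ, 0 < k → k < d → x ^ k ∉ (algebraMap K A).range := by
  classical
  obtain ⟨ζ, hζ⟩ := Groth.Agent.H75.exists_isPrimitiveRoot_of_splits K d hd hdK (hK d hd)
  haveI : IsArtinianRing A := IsArtinianRing.of_finite K A
  obtain ⟨n, hn, D, _, _, ⟨e⟩⟩ := IsSimpleRing.exists_algEquiv_matrix_divisionRing K A
  have hn1 : n ≠ 1 := by
    rintro rfl
    obtain ⟨y, hy0, hyu⟩ := hA
    apply hyu
    have hey : e y ≠ 0 := fun h => hy0 (by simpa using h)
    have h1 : IsUnit (e y) := isUnit_of_ne_zero_fin_one (e y) hey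
    have h2 := h1.map e.symm
    rwa [e.symm_apply_apply] at h2
  have hn0 : n ≠ 0 := hn.out
  have hn2 : 2 ≤ n := by omega
  let i0 : Fin n := ⟨0, by omega⟩
  let i1 : Fin n := ⟨1, by omega⟩
  have hi : i1 ≠ i0 := by
    intro h
    have := congrArg Fin.val h
    simp [i0, i1] at this
  let v : Fin n → D := fun i => if i = i0 then algebraMap K D ζ else 1
  have hvk : ∀ k : ℕ, v ^ k = fun i => if i = i0 then algebraMap K D (ζ ^ k) else 1 := by
    intro k
    funext i
    simp only [Pi.pow_apply, v]
    split_ifs
    · rw [map_pow]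
    · rw [one_pow]
  have hxk : ∀ k : ℕ, (e.symm (Matrix.diagonal v)) ^ k =
      e.symm (Matrix.diagonal fun i => if i = i0 then algebraMap K D (ζ ^ k) else 1) := by
    intro k
    rw [← map_pow, Matrix.diagonal_pow, hvk]
  refine ⟨e.symm (Matrix.diagonal v), ?_, ?_, ?_⟩
  · refine IsUnit.of_pow_eq_one (n := d) ?_ hd.ne'
    rw [hxk, hζ.pow_eq_one]
    have : (Matrix.diagonal fun i : Fin n => if i = i0 then algebraMap K D 1 else (1 : D)) = 1 := by
      rw [← Matrix.diagonal_one]
      congr 1
      funext i
      split_ifs <;> simp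
    rw [this, map_one]
  · refine ⟨1, ?_⟩
    rw [hxk, hζ.pow_eq_one, map_one]
    have : (Matrix.diagonal fun i : Fin n => if i = i0 then algebraMap K D 1 else (1 : D)) = 1 := by
      rw [← Matrix.diagonal_one]
      congr 1
      funext i
      split_ifs <;> simp
    rw [this, map_one]
  · intro k hk0 hkd hmem
    obtain ⟨c, hc⟩ := hmem
    rw [hxk] at hc
    have h1 : e ((algebraMap K A) c) =
        Matrix.diagonal fun i => if i = i0 then algebraMap K D (ζ ^ k) else 1 := by
      rw [hc, e.apply_symm_apply]
    rw [e.commutes, Matrix.algebraMap_eq_diagonal] at h1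
    have h2 := Matrix.diagonal_injective h1
    have h3 : algebraMap K D c = algebraMap K D (ζ ^ k) := by
      have := congrFun h2 i0
      simpa using this
    have h4 : algebraMap K D c = 1 := by
      have := congrFun h2 i1
      simpa [hi] using this
    have hc1 : c = 1 := by
      apply (algebraMap K D).injective
      rw [h4, map_one]
    have hz : ζ ^ k = 1 := by
      apply (algebraMap K D).injective
      rw [← h3, hc1]
    exact hζ.pow_ne_one_of_pos_of_lt hk0.ne' hkd hz

end Groth.Agent.S15183
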