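import Groth.Statements.S15184
import Groth.Agent.H75.DivAlg
import Mathlib.Tactic.Module
import Mathlib.Tactic.NoncommRing
import Mathlib.Tactic.FieldSimp
import Mathlib.Tactic.Ring
import Mathlib.Tactic.Abel

set_option autoImplicit false
universe u v
open BddFin

namespace Groth.Agent.S15184

open Polynomial

/-- normalise a noncommutative polynomial identity with commutative scalars -/
macro "nc_poly" : tactic => `(tactic|
  ((try simp only [pow_succ, pow_zero, one_mul, mul_one, mul_add, add_mul, mul_sub, sub_mul,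
    smul_mul_assoc, mul_smul_comm, mul_assoc, mul_zero, zero_mul, neg_mul, mul_neg,
    smul_add, smul_sub, smul_neg]) <;> module))

section RingLemmas

variable {K : Type u} [Field K] {A : Type v} [Ring A] [Algebra K A]

theorem aeval_monic_two (q : K[X]) (hq : q.Monic) (hd : q.natDegree = 2) (x : A) :
    aeval x q = x*x + q.coeff 1 • x + q.coeff 0 • (1:A) := by
  conv_lhs => rw [hq.as_sum, hd]
  simp only [Finset.sum_range_succ, Finset.sum_range_zero, map_add, map_mul, map_pow, aeval_C,
    aeval_X, pow_zero, pow_one, Algebra.algebraMap_eq_smul_one, smul_mul_assoc, one_mul, zero_add,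
    mul_one]
  nc_poly

theorem aeval_monic_three (q : K[X]) (hq : q.Monic) (hd : q.natDegree = 3) (x : A) :
    aeval x q = x*x*x + q.coeff 2 • (x*x) + q.coeff 1 • x + q.coeff 0 • (1:A) := by
  conv_lhs => rw [hq.as_sum, hd]
  simp only [Finset.sum_range_succ, Finset.sum_range_zero, map_add, map_mul, map_pow, aeval_C,
    aeval_X, pow_zero, pow_one, Algebra.algebraMap_eq_smul_one, smul_mul_assoc, one_mul, zero_add,
    mul_one]
  nc_poly

/-- Wedderburn: `f = g * (X - a)`, and `g` vanishes at `e b e⁻¹` for `e = b - a`. -/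
theorem wedderburn_quot (a b d e : A) (T S N : K) (he : e = b - a) (h1 : d * e = e * b)
    (fa : a*a*a - T•(a*a) + S•a - N•(1:A) = 0) (fb : b*b*b - T•(b*b) + S•b - N•(1:A) = 0) :
    (a*a + a*d + d*d - T•(a+d) + S•(1:A)) * e = 0 := by
  have h2 : d * (d * e) = e * b * b := by rw [h1, ← mul_assoc, h1]
  calc (a*a + a*d + d*d - T•(a+d) + S•(1:A)) * e
      = a*a*e + a*(d*e) + d*(d*e) - T•(a*e + d*e) + S•e := by nc_poly
    _ = a*a*e + a*(e*b) + e*b*b - T•(a*e + e*b) + S•e := by rw [h2, h1]
    _ = (b*b*b - T•(b*b) + S•b - N•(1:A)) - (a*a*a - T•(a*a) + S•a - N•(1:A)) := by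
        rw [he]; nc_poly
    _ = 0 := by rw [fa, fb, sub_zero]

theorem wedderburn_rel (a d : A) (T S : K)
    (hE : a*a + a*d + d*d - T•(a+d) + S•(1:A) = 0) :
    (a*d - d*a)*d = (T•(1:A) - a - d)*(a*d - d*a) ∧
    (a*d - d*a)*a = d*(a*d - d*a) ∧
    (a*d - d*a)*(T•(1:A) - a - d) = a*(a*d - d*a) := by
  have i1 : (a*d - d*a)*d - (T•(1:A) - a - d)*(a*d - d*a)
      = a*(a*a + a*d + d*d - T•(a+d) + S•(1:A)) - (a*a + a*d + d*d - T•(a+d) + S•(1:A))*a := by
    nc_poly
  have i2 : (a*d - d*a)*a - d*(a*d - d*a)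
      = ((a*a + a*d + d*d - T•(a+d) + S•(1:A))*d - d*(a*a + a*d + d*d - T•(a+d) + S•(1:A)))
        - ((a*d - d*a)*d - (T•(1:A) - a - d)*(a*d - d*a)) := by
    nc_poly
  have i3 : (a*d - d*a)*(T•(1:A) - a - d) - a*(a*d - d*a)
      = -((a*d - d*a)*a - d*(a*d - d*a)) - ((a*d - d*a)*d - (T•(1:A) - a - d)*(a*d - d*a)) := by
    nc_poly
  rw [hE, mul_zero, zero_mul, sub_zero] at i1
  rw [hE, i1, mul_zero, zero_mul, sub_zero, sub_zero] at i2
  rw [i1, i2, neg_zero, sub_zero] at i3
  exact ⟨sub_eq_zero.mp i1, sub_eq_zero.mp i2, sub_eq_zero.mp i3⟩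

theorem cube_commute (c a d a₃ : A) (h1 : c*d = a₃*c) (h2 : c*a = d*c) (h3 : c*a₃ = a*c) :
    c*c*c*a = a*(c*c*c) := by
  calc c*c*c*a = c*c*(c*a) := by simp only [mul_assoc]
    _ = c*c*(d*c) := by rw [h2]
    _ = c*(c*d)*c := by simp only [mul_assoc]
    _ = c*(a₃*c)*c := by rw [h1]
    _ = (c*a₃)*c*c := by simp only [mul_assoc]
    _ = a*c*c*c := by rw [h3]
    _ = a*(c*c*c) := by simp only [mul_assoc]

end RingLemmas

section DivLemmas

variable {K : Type u} [Field K] {A : Type v} [DivisionRing A] [Algebra K A]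

theorem conj_mul (u x z : A) (hu : u ≠ 0) : (u*x*u⁻¹)*(u*z*u⁻¹) = u*(x*z)*u⁻¹ := by
  simp only [mul_assoc, inv_mul_cancel_left₀ hu]

theorem conj_quad (u x z : A) (hu : u ≠ 0) (T S : K) :
    u*(x*x + x*z + z*z - T•(x+z) + S•(1:A))*u⁻¹
      = (u*x*u⁻¹)*(u*x*u⁻¹) + (u*x*u⁻¹)*(u*z*u⁻¹) + (u*z*u⁻¹)*(u*z*u⁻¹)
        - T•(u*x*u⁻¹ + u*z*u⁻¹) + S•(1:A) := by
  rw [conj_mul _ _ _ hu, conj_mul _ _ _ hu, conj_mul _ _ _ hu]
  simp only [mul_sub, mul_add, sub_mul, add_mul, mul_smul_comm, smul_mul_assoc, mul_one,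
    mul_inv_cancel₀ hu, smul_add]

theorem conj_cubic (u x : A) (hu : u ≠ 0) (T S N : K) :
    u*(x*x*x - T•(x*x) + S•x - N•(1:A))*u⁻¹
      = (u*x*u⁻¹)*(u*x*u⁻¹)*(u*x*u⁻¹) - T•((u*x*u⁻¹)*(u*x*u⁻¹)) + S•(u*x*u⁻¹) - N•(1:A) := by
  rw [conj_mul _ _ _ hu, conj_mul _ _ _ hu]
  simp only [mul_sub, mul_add, sub_mul, add_mul, mul_smul_comm, smul_mul_assoc, mul_one,
    mul_inv_cancel₀ hu]

variable [Algebra.IsCentral K A] [FiniteDimensional K A]

theorem exists_sq_two [CharP K 2] (hA : Module.finrank K A = 2 ^ 2) :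
    ∃ v : A, v ∉ (algebraMap K A).range ∧ v*v ∈ (algebraMap K A).range := by
  have : Fact (Nat.Prime 2) := ⟨Nat.prime_two⟩
  obtain ⟨a, ha⟩ := H75.exists_not_mem_range (K := K) (A := A) (p := 2) hA
  have hint : IsIntegral K a := IsIntegral.of_finite K a
  have hdeg := H75.natDegree_minpoly (p := 2) hA ha
  have hmon := minpoly.monic hint
  have h2 : (2 : K) = 0 := by exact_mod_cast CharP.cast_eq_zero K 2
  have hq : a*a + (minpoly K a).coeff 1 • a + (minpoly K a).coeff 0 • (1:A) = 0 := by
    rw [← aeval_monic_two _ hmon hdeg a, minpoly.aeval]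
  generalize (minpoly K a).coeff 1 = α at hq
  generalize (minpoly K a).coeff 0 = β at hq
  by_cases hα : α = 0
  · refine ⟨a, ha, ⟨-β, ?_⟩⟩
    rw [hα, zero_smul, add_zero] at hq
    rw [Algebra.algebraMap_eq_smul_one, neg_smul]
    exact (eq_neg_of_add_eq_zero_left hq).symm
  · obtain ⟨w, hw⟩ : ∃ w : A, w = (-α⁻¹) • a := ⟨_, rfl⟩
    obtain ⟨γ, hγ⟩ : ∃ γ : K, γ = -(β * α⁻¹ * α⁻¹) := ⟨_, rfl⟩
    have haa : a*a = -(α • a) - β•(1:A) := by
      rw [← sub_eq_zero, ← hq]; abel
    have hww : w * w = w + γ • (1:A) := by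
      have e0 : w * w = (α⁻¹*α⁻¹)•(a*a) := by
        rw [hw, smul_mul_smul_comm, neg_mul_neg]
      rw [e0, haa, hw, hγ, smul_sub, smul_neg, smul_smul, smul_smul,
        show α⁻¹*α⁻¹*α = α⁻¹ by field_simp, neg_smul, neg_smul,
        show α⁻¹*α⁻¹*β = β*α⁻¹*α⁻¹ by ring, sub_eq_add_neg]
    have hwr : w ∉ (algebraMap K A).range := by
      rintro ⟨k, hk⟩
      apply ha
      refine ⟨-α * k, ?_⟩
      rw [map_mul, hk, hw, ← Algebra.smul_def, smul_smul]
      simp [hα]
    obtain ⟨x, hx⟩ := H75.exists_not_commute (K := K) hwr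
    obtain ⟨y, hy⟩ : ∃ y : A, y = w*x - x*w := ⟨_, rfl⟩
    have hy0 : y ≠ 0 := by rw [hy]; exact sub_ne_zero.mpr hx
    have i1 : w*y - y*w = (w*w)*x + x*(w*w) - (2:K)•(w*x*w) := by rw [hy]; nc_poly
    have i2 : (w + γ•(1:A))*x + x*(w + γ•(1:A)) - (2:K)•(w*x*w)
        = (w*x - x*w) + (2:K)•(x*w + γ•x - w*x*w) := by nc_poly
    rw [hww, i2, h2, zero_smul, add_zero, ← hy] at i1
    have hyw : y * w = w * y - y := by
      have h := i1
      rw [sub_eq_iff_eq_add] at h
      rw [h]; abel
    have hsq : (y*y)*w = w*(y*y) := by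
      calc y*y*w = y*(y*w) := mul_assoc _ _ _
        _ = y*(w*y - y) := by rw [hyw]
        _ = (y*w)*y - y*y := by nc_poly
        _ = (w*y - y)*y - y*y := by rw [hyw]
        _ = w*(y*y) - (2:K)•(y*y) := by nc_poly
        _ = w*(y*y) := by rw [h2, zero_smul, sub_zero]
    have hyw' : y * w ≠ w * y := by
      intro h
      rw [hyw] at h
      exact hy0 (by simpa using h)
    refine ⟨y, ?_, ?_⟩
    · rintro ⟨k, hk⟩
      apply hyw'
      rw [← hk, Algebra.commutes]
    · exact H75.mem_range_of_commute (p := 2) hA (mul_assoc _ _ _) hsq hyw'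

theorem exists_cube_three [CharP K 3] (hA : Module.finrank K A = 3 ^ 2) :
    ∃ v : A, v ∉ (algebraMap K A).range ∧ v*v*v ∈ (algebraMap K A).range := by
  have : Fact (Nat.Prime 3) := ⟨Nat.prime_three⟩
  obtain ⟨a, ha⟩ := H75.exists_not_mem_range (K := K) (A := A) (p := 3) hA
  have hint : IsIntegral K a := IsIntegral.of_finite K a
  have hdeg := H75.natDegree_minpoly (p := 3) hA ha
  have hmon := minpoly.monic hint
  have h3 : (3 : K) = 0 := by exact_mod_cast CharP.cast_eq_zero K 3
  obtain ⟨T, S, N, fa⟩ : ∃ T S N : K, a*a*a - T•(a*a) + S•a - N•(1:A) = 0 := by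
    refine ⟨-(minpoly K a).coeff 2, (minpoly K a).coeff 1, -(minpoly K a).coeff 0, ?_⟩
    have := aeval_monic_three _ hmon hdeg a
    rw [minpoly.aeval] at this
    rw [this]; nc_poly
  obtain ⟨y, hy⟩ := H75.exists_not_commute (K := K) ha
  have hy0 : y ≠ 0 := by rintro rfl; simp at hy
  obtain ⟨b, hb⟩ : ∃ b : A, b = y * a * y⁻¹ := ⟨_, rfl⟩
  have hby : b * y = y * a := by rw [hb, inv_mul_cancel_right₀ hy0]
  have fb : b*b*b - T•(b*b) + S•b - N•(1:A) = 0 := by
    have := conj_cubic y a hy0 T S N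
    rw [fa, mul_zero, zero_mul, ← hb] at this
    exact this.symm
  obtain ⟨e, he⟩ : ∃ e : A, e = b - a := ⟨_, rfl⟩
  have he0 : e ≠ 0 := by
    rw [he]; intro h
    apply hy
    have hba : b = a := sub_eq_zero.mp h
    rw [hba] at hby
    exact hby
  obtain ⟨d, hd⟩ : ∃ d : A, d = e * b * e⁻¹ := ⟨_, rfl⟩
  have h1 : d * e = e * b := by rw [hd, inv_mul_cancel_right₀ he0]
  have hE : a*a + a*d + d*d - T•(a+d) + S•(1:A) = 0 := by
    have := wedderburn_quot a b d e T S N he h1 fa fb
    exact (mul_eq_zero.mp this).resolve_right he0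
  obtain ⟨r1, r2, r3⟩ := wedderburn_rel a d T S hE
  by_cases hc : a*d - d*a = 0
  · have had : a*d = d*a := sub_eq_zero.mp hc
    obtain ⟨u, hu⟩ : ∃ u : A, u = e * y := ⟨_, rfl⟩
    have hu0 : u ≠ 0 := by rw [hu]; exact mul_ne_zero he0 hy0
    have hua : u * a = d * u := by
      calc u * a = e * (y * a) := by rw [hu, mul_assoc]
        _ = e * (b * y) := by rw [hby]
        _ = (e * b) * y := by rw [mul_assoc]
        _ = (d * e) * y := by rw [h1]
        _ = d * u := by rw [hu, mul_assoc]
    by_cases hda : d = a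
    · rw [hda] at hua
      have hu' : u = y * a - a * y := by rw [hu, he, sub_mul, hby]
      have hinv : a * u⁻¹ = u⁻¹ * a := by
        have hcm : Commute a u := hua.symm
        exact hcm.inv_right₀
      obtain ⟨y', hy'⟩ : ∃ y' : A, y' = u⁻¹ * y := ⟨_, rfl⟩
      have hya : y' * a = a * y' + 1 := by
        calc y' * a = u⁻¹ * (y * a) := by rw [hy', mul_assoc]
          _ = u⁻¹ * (u + a * y) := by rw [hu']; congr 1; abel
          _ = 1 + u⁻¹ * a * y := by rw [mul_add, inv_mul_cancel₀ hu0, mul_assoc]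
          _ = 1 + a * u⁻¹ * y := by rw [hinv]
          _ = a * y' + 1 := by rw [hy', mul_assoc, add_comm]
      have hcube : (a*a*a) * y' = y' * (a*a*a) := by
        symm
        calc y' * (a*a*a) = (y'*a)*a*a := by simp only [mul_assoc]
          _ = (a*y' + 1)*a*a := by rw [hya]
          _ = a*(y'*a)*a + a*a := by nc_poly
          _ = a*(a*y'+1)*a + a*a := by rw [hya]
          _ = a*a*(y'*a) + (2:K)•(a*a) := by nc_poly
          _ = a*a*(a*y'+1) + (2:K)•(a*a) := by rw [hya]
          _ = a*a*a*y' + (3:K)•(a*a) := by nc_poly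
          _ = a*a*a*y' := by rw [h3, zero_smul, add_zero]
      refine ⟨a, ha, ?_⟩
      refine H75.mem_range_of_commute (p := 3) hA (y := a) (z := y') ?_ hcube ?_
      · simp only [mul_assoc]
      · intro h
        rw [hya] at h
        have : (1 : A) = 0 := by simpa using h.symm
        exact one_ne_zero this
    · have hdr : d ∉ (algebraMap K A).range := by
        rintro ⟨k, hk⟩
        apply hda
        have : u * a = u * d := by rw [hua, ← hk, Algebra.commutes]
        exact (mul_left_cancel₀ hu0 this).symm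
      obtain ⟨t, ht⟩ : ∃ t : A, t = u * d * u⁻¹ := ⟨_, rfl⟩
      have hd' : d = u * a * u⁻¹ := by rw [hua, mul_inv_cancel_right₀ hu0]
      have htd : d * t = t * d := by
        calc d * t = (u*a*u⁻¹)*(u*d*u⁻¹) := by rw [ht, ← hd']
          _ = u*(a*d)*u⁻¹ := conj_mul _ _ _ hu0
          _ = u*(d*a)*u⁻¹ := by rw [had]
          _ = (u*d*u⁻¹)*(u*a*u⁻¹) := (conj_mul _ _ _ hu0).symm
          _ = t * d := by rw [ht, ← hd']
      have hat : a * t = t * a := H75.commute_of_commute (p := 3) hA hdr had.symm htd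
      have hE' : d*d + d*t + t*t - T•(d+t) + S•(1:A) = 0 := by
        have := conj_quad u a d hu0 T S
        rw [hE, mul_zero, zero_mul, ← hd', ← ht] at this
        exact this.symm
      have hprod : (a - t)*(a + t + d - T•(1:A)) = 0 := by
        have : (a - t)*(a + t + d - T•(1:A))
            = ((a*a + a*d + d*d - T•(a+d) + S•(1:A)) - (d*d + d*t + t*t - T•(d+t) + S•(1:A)))
              + (a*t - t*a) + (d*t - t*d) := by nc_poly
        rw [this, hE, hE', hat, htd]; simp
      have hau : a * u ≠ u * a := by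
        intro h'
        apply hda
        have : d * u = a * u := by rw [← hua, h']
        exact mul_right_cancel₀ hu0 this
      have hur : u ∉ (algebraMap K A).range := by
        rintro ⟨k, hk⟩
        apply hau
        rw [← hk, Algebra.commutes]
      rcases mul_eq_zero.mp hprod with h | h
      · exfalso
        have hta : t = a := (sub_eq_zero.mp h).symm
        have hud : u * d = a * u := by
          rw [← hta, ht, inv_mul_cancel_right₀ hu0]
        have hs1 : a + d ∈ (algebraMap K A).range := by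
          refine H75.mem_range_of_commute (p := 3) hA (y := a) (z := u) ?_ ?_ hau
          · rw [add_mul, mul_add, had]
          · rw [add_mul, mul_add, hua, hud, add_comm]
        have hs2 : a * d ∈ (algebraMap K A).range := by
          refine H75.mem_range_of_commute (p := 3) hA (y := a) (z := u) ?_ ?_ hau
          · calc (a*d)*a = a*(d*a) := mul_assoc _ _ _
              _ = a*(a*d) := by rw [had]
          · symm
            calc u*(a*d) = (u*a)*d := (mul_assoc _ _ _).symm
              _ = (d*u)*d := by rw [hua]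
              _ = d*(u*d) := mul_assoc _ _ _
              _ = d*(a*u) := by rw [hud]
              _ = (d*a)*u := (mul_assoc _ _ _).symm
              _ = (a*d)*u := by rw [had]
        obtain ⟨k1, hk1⟩ := hs1
        obtain ⟨k2, hk2⟩ := hs2
        have hq : a*a - (a+d)*a + a*d = 0 := by rw [add_mul, had]; abel
        have hlin : (C (-k1) * X + C k2 : K[X]).degree < ((2 : ℕ) : WithBot ℕ) :=
          lt_of_le_of_lt degree_linear_le (by norm_num)
        have hqm : (X^2 + (C (-k1) * X + C k2) : K[X]).Monic := monic_X_pow_add hlin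
        have hq0 : aeval a (X^2 + (C (-k1) * X + C k2) : K[X]) = 0 := by
          simp only [map_add, map_mul, map_pow, aeval_X, aeval_C, map_neg, hk1, hk2]
          rw [← hq]; noncomm_ring
        have hle := natDegree_le_natDegree (minpoly.min K a hqm hq0)
        have hnd : (X^2 + (C (-k1) * X + C k2) : K[X]).natDegree = 2 := by
          rw [natDegree_add_eq_left_of_degree_lt (by rw [degree_X_pow]; exact hlin),
            natDegree_X_pow]
        rw [hnd, hdeg] at hle
        omega
      · have hta3 : t = T•(1:A) - a - d := by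
          have := sub_eq_zero.mp h
          rw [← this]; abel
        have hud : u * d = (T•(1:A) - a - d) * u := by
          rw [← hta3, ht, inv_mul_cancel_right₀ hu0]
        have hua3 : u * (T•(1:A) - a - d) = a * u := by
          rw [mul_sub, mul_sub, hua, hud]
          simp only [mul_smul_comm, mul_one, sub_mul, smul_mul_assoc, one_mul]
          abel
        have hcube : u*u*u*a = a*(u*u*u) := cube_commute u a d _ hud hua hua3
        refine ⟨u, hur, ?_⟩
        refine H75.mem_range_of_commute (p := 3) hA (y := u) (z := a) ?_ hcube ?_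
        · simp only [mul_assoc]
        · exact fun h' => hau h'.symm
  · have hcr : a*d - d*a ∉ (algebraMap K A).range := by
      rintro ⟨k, hk⟩
      apply hc
      have h' : (a*d - d*a) * a = (a*d - d*a) * d := by
        rw [r2, ← hk, Algebra.commutes]
      have := mul_left_cancel₀ hc h'
      rw [this]; exact sub_self _
    refine ⟨a*d - d*a, hcr, ?_⟩
    refine H75.mem_range_of_commute (p := 3) hA (y := a) (z := d) ?_ ?_ ?_
    · exact cube_commute _ a d _ r1 r2 r3
    · exact cube_commute _ d _ a r3 r1 r2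
    · exact fun h' => hc (sub_eq_zero.mpr h')

end DivLemmas


/-- Let K be a field with char K = p > 0 and A a central division K-algebra with dim_K A = p ^ 2. If p =
2 or p = 3, then some element of A is not separable over K. -/
theorem result
    (K : Type u) [Field K] (p : ℕ) [Fact p.Prime] [CharP K p]
    (A : Type v) [DivisionRing A] [Algebra K A] [Algebra.IsCentral K A] [FiniteDimensional K A]
    (hA : Module.finrank K A = p ^ 2) (hp : p = 2 ∨ p = 3) :
    ∃ v : A, ¬ IsSeparable K v := by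
  rcases hp with rfl | rfl
  · obtain ⟨v, hv1, hv2⟩ := exists_sq_two (K := K) hA
    exact ⟨v, H75.not_isSeparable_of_pow_mem hA hv1 (by rw [pow_two]; exact hv2)⟩
  · obtain ⟨v, hv1, hv2⟩ := exists_cube_three (K := K) hA
    exact ⟨v, H75.not_isSeparable_of_pow_mem hA hv1 (by
      rw [show v ^ 3 = v*v*v by simp only [pow_succ, pow_zero, one_mul]]; exact hv2)⟩

end Groth.Agent.S15184
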