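import Groth.Statements.S15185
import Groth.Agent.S15168
import Mathlib.Algebra.CharP.Lemmas
import Mathlib.Algebra.CharP.Algebra
import Mathlib.LinearAlgebra.Dimension.Constructions
import Mathlib.LinearAlgebra.Matrix.Determinant.Basic
import Mathlib.RingTheory.Coprime.Lemmas

set_option autoImplicit false
universe u v
open Polynomial
open BddFin

namespace Groth.Agent.S15185

/-- Let K be a field of characteristic p > 0 such that K contains all roots of unity (for every n ≥ 1
the polynomial X^n − 1 splits into linear factors over K), A a central division algebra of dimension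
n ^ 2 over K, and write n = n' · p ^ m with n' prime to p; let N be the reduced norm of A. Consider
the kernel of the homomorphism from the units of A modulo those of K to Kˣ/(Kˣ)^(p^m) induced by N.
Every element of finite order of that kernel has order dividing n': if x ≠ 0 in A has x ^ r in K for
some r ≥ 1 and N x is a (p ^ m)-th power of a non-zero element of K, then x ^ n' lies in K. -/
theorem result
    (K : Type u) [Field K] (p : ℕ) [Fact p.Prime] [CharP K p] (hK : ∀ n : ℕ, 0 < n → (X ^ n - 1 : K[X]).Splits)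
    (A : Type v) [DivisionRing A] [Algebra K A] [Algebra.IsCentral K A] [FiniteDimensional K A]
    (n n' m : ℕ) (hA : Module.finrank K A = n ^ 2) (hn : n = n' * p ^ m) (hn' : ¬ p ∣ n')
    (N : A →* K) (hN : CSAGal.IsRedNorm K A N)
    (x : A) (hx : x ≠ 0) (hxr : ∃ r : ℕ, 0 < r ∧ x ^ r ∈ (algebraMap K A).range)
    (hNx : ∃ b : K, b ≠ 0 ∧ N x = b ^ (p ^ m)) :
    x ^ n' ∈ (algebraMap K A).range := by
  classical
  have hp : p.Prime := Fact.out
  obtain ⟨a, ha⟩ := Groth.Agent.S15168.result K hK A n hA x hxr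
  obtain ⟨b, hb0, hNb⟩ := hNx
  obtain ⟨K', _, _, _, n₁, φ, hφ⟩ := hN
  have hn₁ : n = n₁ := by
    have h1 : Module.finrank K' (TensorProduct K K' A) = n ^ 2 := by
      rw [Module.finrank_baseChange, hA]
    have h2 : Module.finrank K' (Matrix (Fin n₁) (Fin n₁) K') = n₁ ^ 2 := by
      rw [Module.finrank_matrix]; simp [pow_two]
    have h3 := φ.toLinearEquiv.finrank_eq
    rw [h1, h2] at h3
    exact Nat.pow_left_injective two_ne_zero h3
  have ha0 : a ≠ 0 := by
    rintro rfl
    rw [map_zero] at ha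
    exact hx (pow_eq_zero_iff (by
      rintro rfl
      have h1 : 0 < Module.finrank K A := Module.finrank_pos
      rw [hA] at h1; simp at h1) |>.mp ha.symm)
  have e1 : (1 : K') ⊗ₜ[K] (x ^ n) = algebraMap K' (TensorProduct K K' A) (algebraMap K K' a) := by
    rw [Algebra.TensorProduct.algebraMap_apply, Algebra.algebraMap_self_apply, ← ha,
      Algebra.algebraMap_eq_smul_one (A := A) a, Algebra.algebraMap_eq_smul_one (A := K') a,
      TensorProduct.smul_tmul]
  have hdet : (N x) ^ n = a ^ n := by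
    apply (algebraMap K K').injective
    rw [map_pow, hφ x, ← Matrix.det_pow, ← map_pow, Algebra.TensorProduct.tmul_pow, one_pow, e1,
      AlgEquiv.commutes, Algebra.algebraMap_eq_smul_one, Matrix.det_smul, Matrix.det_one, mul_one,
      Fintype.card_fin, ← hn₁, map_pow]
  -- cancel Frobenius
  rw [hNb, hn, ← pow_mul, mul_comm (p ^ m) _, mul_assoc, pow_mul, pow_mul a] at hdet
  have hfrob : (b ^ n') ^ (p ^ m) = a ^ n' := by
    have h1 : ((b ^ n') ^ (p ^ m) - a ^ n') ^ (p ^ m) = 0 := by
      rw [sub_pow_char_pow, ← pow_mul, hdet, sub_self]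
    exact sub_eq_zero.mp (pow_eq_zero_iff (pow_pos hp.pos m).ne' |>.mp h1)
  -- Bezout
  have hcop : Nat.Coprime n' (p ^ m) :=
    Nat.Coprime.pow_right m ((hp.coprime_iff_not_dvd).mpr hn').symm
  obtain ⟨α, β, hαβ⟩ := (Nat.isCoprime_iff_coprime.mpr hcop)
  obtain ⟨c, hc⟩ : ∃ c : K, a = c ^ (p ^ m) := by
    refine ⟨(b ^ n') ^ α * a ^ β, ?_⟩
    have h1 : a = a ^ (α * (n' : ℤ) + β * ((p ^ m : ℕ) : ℤ)) := by rw [hαβ, zpow_one]
    have h2 : a ^ (α * (n' : ℤ)) = ((b ^ n') ^ α) ^ (p ^ m) := by
      rw [mul_comm, zpow_mul, zpow_natCast, ← hfrob, ← zpow_natCast (b ^ n') (p ^ m), ← zpow_mul,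
        mul_comm, zpow_mul, zpow_natCast]
    have h3 : a ^ (β * ((p ^ m : ℕ) : ℤ)) = (a ^ β) ^ (p ^ m) := by
      rw [zpow_mul, zpow_natCast]
    rw [mul_pow, ← h2, ← h3, ← zpow_add₀ ha0]
    exact h1
  have : CharP A p := charP_of_injective_algebraMap (algebraMap K A).injective p
  have hy : (x ^ n' - algebraMap K A c) ^ (p ^ m) = 0 := by
    rw [sub_pow_char_pow_of_commute p m (Algebra.commutes c (x ^ n')).symm, ← pow_mul, ← hn, ← ha, hc,
      map_pow, sub_self]
  have hy' := sub_eq_zero.mp (pow_eq_zero_iff (pow_pos hp.pos m).ne' |>.mp hy)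
  exact ⟨c, hy'.symm⟩

end Groth.Agent.S15185
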