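import Groth.Statements.S15224
import Mathlib.Tactic
-- import your own Groth.Agent.* helpers here

set_option autoImplicit false
open Finset
open W4c2rk2extmaps

namespace Groth.Agent.S15224

/-- In a commutative ℚ-algebra R let y be an element and put c_k = y^k / k! for every k. Then for k ≥ 2,
Σ_{i=1}^{k-1} (-1)^(i-1) c_i c_(k-i) + (-1)^(k-1) c_k = c_k. (The published statement concerns the
Chern classes of a specific vector bundle on a Jacobian, which are of the form c_k = (4θ)^k / k!;
the printed argument establishes the identity for every sequence of this form in a commutative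
ℚ-algebra, which is the form stated here.) -/
theorem result (R : Type*) [CommRing R] [Algebra ℚ R] (y : R)
    (c : ℕ → R) (hc : ∀ k : ℕ, c k = ((Nat.factorial k : ℚ)⁻¹) • y ^ k)
    (k : ℕ) (hk : 2 ≤ k) :
    (∑ i ∈ Finset.Ico 1 k, (-1 : R) ^ (i - 1) * c i * c (k - i)) + (-1 : R) ^ (k - 1) * c k = c k := by
  have hk0 : k ≠ 0 := by omega
  have hkf : (k.factorial : ℚ) ≠ 0 := by exact_mod_cast k.factorial_ne_zero
  -- the alternating sum identity over ℚ
  have alt : ∑ i ∈ Finset.range (k + 1), ((-1 : ℚ) ^ i * (k.choose i : ℚ)) = 0 := by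
    have h := Int.alternating_sum_range_choose (n := k)
    rw [if_neg hk0] at h
    have h' := congrArg (fun z : ℤ => (z : ℚ)) h
    simpa using h'
  have hneg : ∀ i : ℕ, 1 ≤ i → (-1 : ℚ) ^ (i - 1) = -((-1 : ℚ) ^ i) := by
    intro i hi
    obtain ⟨j, rfl⟩ : ∃ j, i = j + 1 := ⟨i - 1, by omega⟩
    simp [pow_succ]
  have altQ : (∑ i ∈ Finset.Ico 1 k, (-1 : ℚ) ^ (i - 1) * ((k.choose i : ℚ) / k.factorial))
      + (-1 : ℚ) ^ (k - 1) * (k.factorial : ℚ)⁻¹ = (k.factorial : ℚ)⁻¹ := by
    rw [Finset.range_eq_Ico, Finset.sum_Ico_succ_top (by omega : 0 ≤ k),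
      Finset.sum_eq_sum_Ico_succ_bot (by omega : 0 < k)] at alt
    simp only [pow_zero, Nat.choose_zero_right, Nat.cast_one, mul_one, Nat.choose_self, zero_add] at alt
    have e1 : ∑ i ∈ Finset.Ico 1 k, (-1 : ℚ) ^ (i - 1) * ((k.choose i : ℚ) / k.factorial)
        = -(∑ i ∈ Finset.Ico 1 k, (-1 : ℚ) ^ i * (k.choose i : ℚ)) / k.factorial := by
      rw [neg_div, Finset.sum_div, ← Finset.sum_neg_distrib]
      refine Finset.sum_congr rfl fun i hi => ?_
      rw [Finset.mem_Ico] at hi
      rw [hneg i hi.1]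
      ring
    rw [e1, hneg k (by omega)]
    field_simp
    linear_combination (-1 : ℚ) * alt
  have key : ∀ i ∈ Finset.Ico 1 k, (-1 : R) ^ (i - 1) * c i * c (k - i) =
      algebraMap ℚ R ((-1) ^ (i - 1) * ((k.choose i : ℚ) / k.factorial)) * y ^ k := by
    intro i hi
    rw [Finset.mem_Ico] at hi
    rw [hc i, hc (k - i), Algebra.smul_def, Algebra.smul_def]
    have hik : i ≤ k := hi.2.le
    have hif : (i.factorial : ℚ) ≠ 0 := by exact_mod_cast i.factorial_ne_zero
    have hkif : ((k - i).factorial : ℚ) ≠ 0 := by exact_mod_cast (k - i).factorial_ne_zero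
    have hch : (k.choose i : ℚ) ≠ 0 := by exact_mod_cast (Nat.choose_pos hik).ne'
    have h3 : (k.choose i : ℚ) / k.factorial = (i.factorial : ℚ)⁻¹ * ((k - i).factorial : ℚ)⁻¹ := by
      have := Nat.choose_mul_factorial_mul_factorial hik
      have h4 : (k.factorial : ℚ) = (k.choose i : ℚ) * i.factorial * (k - i).factorial := by
        exact_mod_cast this.symm
      rw [h4]
      field_simp
    rw [h3]
    have hy : y ^ k = y ^ i * y ^ (k - i) := by rw [← pow_add]; congr 1; omega
    rw [hy]
    simp only [map_mul, map_pow, map_neg, map_one]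
    ring
  rw [Finset.sum_congr rfl key, ← Finset.sum_mul, ← map_sum, hc k, Algebra.smul_def]
  have hlast : (-1 : R) ^ (k - 1) * ((algebraMap ℚ R) ((k.factorial : ℚ)⁻¹) * y ^ k)
      = algebraMap ℚ R ((-1) ^ (k - 1) * (k.factorial : ℚ)⁻¹) * y ^ k := by
    simp only [map_mul, map_pow, map_neg, map_one]
    ring
  rw [hlast, ← add_mul, ← map_add, altQ]

end Groth.Agent.S15224
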