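import Groth.Statements.S15229
import Mathlib.Tactic
import Groth.Agent.S15224
-- import your own Groth.Agent.* helpers here

set_option autoImplicit false
open Finset
open W4c2rk2extmaps

namespace Groth.Agent.S15229

/-- In a commutative ℚ-algebra R let θ, η be elements and g a natural number, and put c_k = (4θ)^k / k!.
Suppose θ^(g+1) = 0 and that η satisfies the relation η^(g+1) = Σ_{i=1}^{g+1} (-1)^(i-1) c_i
η^(g+1-i). Then η^(g+k) θ^(g-k) = c_k η^g θ^(g-k) for every 1 ≤ k ≤ g. (The published statement
concerns the first Chern class η of the tautological line bundle on a projective bundle P(U) over a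
g-dimensional Jacobian, with c_k the Chern classes of U, which are (4θ)^k / k!; there θ^(g+1)
vanishes for dimension reasons and the displayed relation is the projective-bundle relation, and the
printed argument derives the identity from exactly these three inputs, which is the form stated
here.) -/
theorem result (R : Type*) [CommRing R] [Algebra ℚ R]
    (θ η : R) (g : ℕ) (c : ℕ → R) (hc : ∀ k : ℕ, c k = ((Nat.factorial k : ℚ)⁻¹) • ((4 : R) * θ) ^ k)
    (hθ : θ ^ (g + 1) = 0)
    (hrel : η ^ (g + 1) = ∑ i ∈ Finset.Ico 1 (g + 2), (-1 : R) ^ (i - 1) * c i * η ^ (g + 1 - i))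
    (k : ℕ) (hk1 : 1 ≤ k) (hkg : k ≤ g) :
    η ^ (g + k) * θ ^ (g - k) = c k * η ^ g * θ ^ (g - k) := by
  have hc0 : c 0 = 1 := by rw [hc 0]; simp
  have hca : ∀ i, c i = algebraMap ℚ R ((Nat.factorial i : ℚ)⁻¹ * 4 ^ i) * θ ^ i := by
    intro i
    rw [hc i, Algebra.smul_def, mul_pow, map_mul, map_pow, map_ofNat]
    ring
  have main : ∀ k : ℕ, k ≤ g → η ^ (g + k) * θ ^ (g - k) = c k * η ^ g * θ ^ (g - k) := by
    intro k
    induction k using Nat.strong_induction_on with
    | _ k ih =>
      intro hkg
      rcases Nat.eq_zero_or_pos k with rfl | hkpos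
      · simp [hc0]
      · have hvan : ∀ i, k < i → c i * θ ^ (g - k) = 0 := by
          intro i hi
          rw [hca i, mul_assoc, ← pow_add]
          have e : i + (g - k) = (g + 1) + (i + (g - k) - (g + 1)) := by omega
          rw [e, pow_add, hθ, zero_mul, mul_zero]
        have hterm : ∀ i, 1 ≤ i → i ≤ k →
            c i * η ^ (g + 1 - i) * η ^ (k - 1) * θ ^ (g - k) =
              c i * c (k - i) * (η ^ g * θ ^ (g - k)) := by
          intro i hi1 hik
          have ih' := ih (k - i) (by omega) (by omega)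
          have e1 : η ^ (g + 1 - i) * η ^ (k - 1) = η ^ (g + (k - i)) := by
            rw [← pow_add]; congr 1; omega
          have e2 : θ ^ i * θ ^ (g - k) = θ ^ (g - (k - i)) := by
            rw [← pow_add]; congr 1; omega
          calc c i * η ^ (g + 1 - i) * η ^ (k - 1) * θ ^ (g - k)
              = algebraMap ℚ R ((Nat.factorial i : ℚ)⁻¹ * 4 ^ i) *
                  (η ^ (g + (k - i)) * (θ ^ i * θ ^ (g - k))) := by rw [hca i, ← e1]; ring
            _ = algebraMap ℚ R ((Nat.factorial i : ℚ)⁻¹ * 4 ^ i) *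
                  (η ^ (g + (k - i)) * θ ^ (g - (k - i))) := by rw [e2]
            _ = algebraMap ℚ R ((Nat.factorial i : ℚ)⁻¹ * 4 ^ i) *
                  (c (k - i) * η ^ g * θ ^ (g - (k - i))) := by rw [ih']
            _ = algebraMap ℚ R ((Nat.factorial i : ℚ)⁻¹ * 4 ^ i) *
                  (c (k - i) * η ^ g * (θ ^ i * θ ^ (g - k))) := by rw [e2]
            _ = c i * c (k - i) * (η ^ g * θ ^ (g - k)) := by rw [hca i]; ring
        have hsplit : η ^ (g + k) * θ ^ (g - k) = η ^ (g + 1) * η ^ (k - 1) * θ ^ (g - k) := by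
          rw [← pow_add]; congr 2; omega
        rw [hsplit, hrel, Finset.sum_mul, Finset.sum_mul,
          ← Finset.sum_Ico_consecutive _ (by omega : 1 ≤ k + 1) (by omega : k + 1 ≤ g + 2)]
        have hz : ∑ i ∈ Finset.Ico (k + 1) (g + 2),
            (-1 : R) ^ (i - 1) * c i * η ^ (g + 1 - i) * η ^ (k - 1) * θ ^ (g - k) = 0 := by
          refine Finset.sum_eq_zero fun i hi => ?_
          rw [Finset.mem_Ico] at hi
          have e : (-1 : R) ^ (i - 1) * c i * η ^ (g + 1 - i) * η ^ (k - 1) * θ ^ (g - k) =
              (-1 : R) ^ (i - 1) * η ^ (g + 1 - i) * η ^ (k - 1) * (c i * θ ^ (g - k)) := by ring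
          rw [e, hvan i (by omega), mul_zero]
        rw [hz, add_zero]
        have hfirst : ∑ i ∈ Finset.Ico 1 (k + 1),
            (-1 : R) ^ (i - 1) * c i * η ^ (g + 1 - i) * η ^ (k - 1) * θ ^ (g - k) =
            ∑ i ∈ Finset.Ico 1 (k + 1), (-1 : R) ^ (i - 1) * c i * c (k - i) * (η ^ g * θ ^ (g - k)) := by
          refine Finset.sum_congr rfl fun i hi => ?_
          rw [Finset.mem_Ico] at hi
          have := hterm i hi.1 (by omega)
          linear_combination (-1 : R) ^ (i - 1) * this
        rw [hfirst, ← Finset.sum_mul]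
        have hsum : ∑ i ∈ Finset.Ico 1 (k + 1), (-1 : R) ^ (i - 1) * c i * c (k - i) = c k := by
          rw [Finset.sum_Ico_succ_top hkpos, Nat.sub_self, hc0, mul_one]
          rcases (by omega : k = 1 ∨ 2 ≤ k) with rfl | hk2
          · simp
          · exact Groth.Agent.S15224.result R ((4 : R) * θ) c hc k hk2
        rw [hsum]
        ring
  exact main k hkg

end Groth.Agent.S15229
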