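import Groth.Statements.S15231
import Groth.Agent.H53.TorDev

set_option autoImplicit false
universe u
open CategoryTheory CategoryTheory.Limits
attribute [local instance] HasDerivedCategory.standard
open DRing

namespace Groth.Agent.S15231


open MonoidalCategory DerivedCategory Groth.Agent.H31 Groth.Agent.H35.TorAmp Groth.Agent.H35.FlatBC
  Groth.Agent.H53.LBaseChange Groth.Agent.H53.TorDev in
/-- `R ⧸ m` is the residue field regarded as an `R`-module. -/
noncomputable def quotEquiv (R : Type u) [CommRing R] [IsLocalRing R] :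
    (R ⧸ IsLocalRing.maximalIdeal R) ≃ₗ[R] (Bmod (IsLocalRing.residue R)) where
  toFun x := x
  invFun x := x
  map_add' _ _ := rfl
  map_smul' r x := by
    obtain ⟨s, rfl⟩ := Ideal.Quotient.mk_surjective x
    rfl
  left_inv _ := rfl
  right_inv _ := rfl

open MonoidalCategory DerivedCategory Groth.Agent.H31 Groth.Agent.H35.TorAmp Groth.Agent.H35.FlatBC
  Groth.Agent.H53.LBaseChange Groth.Agent.H53.TorDev in
theorem key (R : Type u) [CommRing R] [IsLocalRing R] (P' : Cx R) (hfl : TermwiseFlat P') (i : ℤ)
    (hκ : (CohIII.tensorObj P' (Bmod (IsLocalRing.residue R))).ExactAt i)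
    (N : Type u) [AddCommGroup N] [Module R N] (hN : IsFiniteLength R N) :
    (CohIII.tensorObj P' (ModuleCat.of R N)).ExactAt i := by
  induction hN with
  | of_subsingleton => exact exactAt_of_subsingleton P' _ i
  | @of_simple_quotient M _ _ N' hs _ ih =>
    obtain ⟨I, hI, ⟨e⟩⟩ := isSimpleModule_iff_quot_maximal.1 hs
    obtain rfl : I = IsLocalRing.maximalIdeal R := IsLocalRing.eq_maximalIdeal hI
    have e' : ModuleCat.of R (M ⧸ N') ≅ Bmod (IsLocalRing.residue R) :=
      (e ≪≫ₗ quotEquiv R).toModuleIso
    have h3 : (CohIII.tensorObj P' (ModuleCat.of R (M ⧸ N'))).ExactAt i :=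
      exactAt_of_iso_cx (tensorObjIso P' e'.symm) i hκ
    exact exactAt_of_shortExact P' hfl (subSC M N') (subSC_shortExact M N') i ih h3

/-- Let R be a Noetherian local commutative ring with residue field κ, let P be any object of D(R) and
a, b integers. Suppose that H^i(P ⊗^L_R κ) = 0 for every i outside [a, b] (over the field κ this
says exactly that P ⊗^L_R κ has tor amplitude in [a, b] as an object of D(κ)). Then for every
R-module N of finite length, H^i(P ⊗^L_R N) = 0 for every i outside [a, b]. The derived base change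
to κ and the derived tensor products with R-modules are the total left derived functors on D(R),
assumed to exist for every R-module (as they do). -/
theorem result (R : Type u) [CommRing R] [IsNoetherianRing R]
    [IsLocalRing R] [DRing.HasLBaseChange (IsLocalRing.residue R)] [∀ M : ModuleCat.{u} R, DRing.HasLTensor R M]
    (P : Dual.D R) (a b : ℤ)
    (h : ∀ i : ℤ, (i < a ∨ b < i) →
      Subsingleton (Dual.HD (IsLocalRing.ResidueField R) ((DRing.LBaseChange (IsLocalRing.residue R)).obj P) i))
    (N : Type u) [AddCommGroup N] [Module R N] (hN : IsFiniteLength R N) (i : ℤ) (hi : i < a ∨ b < i) :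
    Subsingleton (Dual.HD R ((DRing.LTensor R (ModuleCat.of R N)).obj P) i) := by
  have eK' := DerivedCategory.Q.objObjPreimageIso P
  obtain ⟨P', f, hPK, hPfl, hf, -⟩ :=
    Groth.Agent.H31.KFlatRing.exists_isKFlat_resolution (DerivedCategory.Q.objPreimage P)
  have eP : DRing.toD P' ≅ P := asIso (DerivedCategory.Q.map f) ≪≫ eK'
  have hκ : (CohIII.tensorObj P' (Groth.Agent.H53.LBaseChange.Bmod (IsLocalRing.residue R))).ExactAt i := by
    apply Groth.Agent.H53.TorDev.exactAt_tensorObj_Bmod_of_exactAt_extCx
    rw [Groth.Agent.H35.TorAmp.exactAt_iff_isZero_H]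
    have h1 := h i hi
    have h2 : IsZero ((DerivedCategory.homologyFunctor (ModuleCat.{u} (IsLocalRing.ResidueField R)) i).obj
        ((DRing.LBaseChange (IsLocalRing.residue R)).obj P)) := ModuleCat.isZero_of_subsingleton _
    exact h2.of_iso ((DerivedCategory.homologyFunctor _ i).mapIso
      (Groth.Agent.H53.LBaseChange.objIso' (IsLocalRing.residue R) P' hPK eP))
  apply ModuleCat.subsingleton_of_isZero
  rw [Groth.Agent.S6945.isZero_H_iff _ P' hPK eP i]
  exact key R P' hPfl i hκ N hN

end Groth.Agent.S15231
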