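import Groth.Statements.S15232
import Groth.Agent.H35.FibreCrit

set_option autoImplicit false
universe u
open CategoryTheory CategoryTheory.Limits
attribute [local instance] HasDerivedCategory.standard
open DRing

namespace Groth.Agent.S15232

/-- Let R be a Noetherian commutative ring and I an ideal contained in the Jacobson radical of R, and
assume the derived base change D(R) → D(R/I) exists. Let P be a pseudo-coherent object of D(R) and
a, b integers. If P ⊗^L_R R/I has tor amplitude in [a, b] as an object of D(R/I), then P has tor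
amplitude in [a, b] as an object of D(R). Tor amplitude is taken in the flat-representative form
(isomorphic in the derived category to a complex of flat modules vanishing outside [a, b]). -/
theorem result (R : Type u) [CommRing R] [IsNoetherianRing R]
    (I : Ideal R) (hI : I ≤ Ideal.jacobson (⊥ : Ideal R)) [DRing.HasLBaseChange (Ideal.Quotient.mk I)]
    (P : Dual.D R) (hP : DRing.IsPseudoCoherent' R P) (a b : ℤ)
    (h : DRing.HasTorAmplitudeIn (R ⧸ I) a b ((DRing.LBaseChange (Ideal.Quotient.mk I)).obj P)) :
    DRing.HasTorAmplitudeIn R a b P := by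
  obtain ⟨F, c, hF, hff, ⟨e⟩⟩ := hP
  have hfree : ∀ i, Module.Free R (F.X i) := fun i => (hff i).2
  have hfl := Groth.Agent.H35.TorAmp.free_flat F hfree
  have hFK : DRing.IsKFlat R F :=
    Groth.Agent.H31.KFlatRing.isKFlat_of_bounded_above_flat F c hF hfl
  have hT : Groth.Agent.H35.TorAmp.TorVanish a b
      ((Groth.Agent.H35.FlatBC.extCx (Ideal.Quotient.mk I)).obj F) :=
    Groth.Agent.H35.LBC.torVanish_of_hasTorAmplitudeIn h _
      (Groth.Agent.H35.KFlatBC.isKFlat_extCx (Ideal.Quotient.mk I) F hFK)
      (Groth.Agent.H53.LBaseChange.objIso' (Ideal.Quotient.mk I) F hFK e)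
  have hamp : DRing.HasTorAmplitudeIn R a b (DRing.toD F) := by
    refine Groth.Agent.H35.LBC.hasTorAmplitudeIn_of_fibres F c hF hff a b (fun J hJ i hi => ?_)
    have hIJ : I ≤ J := hI.trans (sInf_le ⟨bot_le, hJ⟩)
    have h1 : ((Groth.Agent.H35.FlatBC.extCx (Ideal.Quotient.factor hIJ)).obj
        ((Groth.Agent.H35.FlatBC.extCx (Ideal.Quotient.mk I)).obj F)).ExactAt i := by
      rw [Groth.Agent.H35.LBC.exactAt_ext_iff_tensor]
      exact hT _ i hi
    have h2 := h1.of_iso (Groth.Agent.H35.LBC.extCxCompIso (Ideal.Quotient.mk I)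
      (Ideal.Quotient.factor hIJ) F)
    rw [Ideal.Quotient.factor_comp_mk] at h2
    exact h2
  exact Groth.Agent.H35.TorAmp.hasTorAmplitudeIn_of_iso e hamp

end Groth.Agent.S15232
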