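import Groth.Statements.S15233
import Mathlib.CategoryTheory.Sites.LocallyBijective
import Mathlib.CategoryTheory.Sites.Abelian
import Mathlib.Algebra.Category.Grp.Zero
import Mathlib.Algebra.Category.Grp.Abelian
-- import your own Groth.Agent.* helpers here

set_option autoImplicit false
universe u
open CategoryTheory CategoryTheory.Limits Opposite
open CohSite

namespace Groth.Agent.S15233

/-- Let C be a small category with a Grothendieck topology J, and let B be a class of objects forming a
prebasis: for every object V and every covering sieve S of V, the arrows of S whose domain lies in B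
generate a covering sieve of V. If F is a presheaf of abelian groups on C such that F(U) = 0 for
every object U in B, then the sheafification of F is zero. -/
theorem result {C : Type u} [SmallCategory C] (J : GrothendieckTopology C)
    (B : ObjectProperty C)
    (hB : ∀ (V : C) (S : Sieve V), S ∈ J V →
      Sieve.generate (fun (U : C) => {g : U ⟶ V | S.arrows g ∧ B U}) ∈ J V)
    (F : Cᵒᵖ ⥤ AddCommGrpCat.{u}) (hF : ∀ U : C, B U → IsZero (F.obj (op U))) :
    IsZero ((presheafToSheaf J AddCommGrpCat.{u}).obj F) := by
  classical
  let Z : Cᵒᵖ ⥤ AddCommGrpCat.{u} := (Functor.const Cᵒᵖ).obj (AddCommGrpCat.of PUnit.{u + 1})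
  have hZobj : ∀ X, IsZero (Z.obj X) := fun X =>
    AddCommGrpCat.isZero_of_subsingleton (AddCommGrpCat.of PUnit.{u + 1})
  have hZ : IsZero Z := Functor.isZero _ hZobj
  let φ : F ⟶ Z := hZ.from_ F
  have hinj : Presheaf.IsLocallyInjective J φ := by
    constructor
    intro X x y _
    have h := hB X.unop ⊤ (J.top_mem _)
    refine J.superset_covering ?_ h
    rintro Y f ⟨U, g, i, ⟨_, hU⟩, rfl⟩
    have hsub : Subsingleton (F.obj (op U)) := AddCommGrpCat.subsingleton_of_isZero (hF U hU)
    change F.map (g ≫ i).op x = F.map (g ≫ i).op y
    rw [op_comp, F.map_comp]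
    simp only [ConcreteCategory.comp_apply]
    congr 1
    exact Subsingleton.elim _ _
  have hsurj : Presheaf.IsLocallySurjective J φ := by
    apply Presheaf.isLocallySurjective_of_surjective
    intro U s
    have hsub : Subsingleton (Z.obj U) := AddCommGrpCat.subsingleton_of_isZero (hZobj U)
    exact ⟨0, Subsingleton.elim _ _⟩
  have hW : J.W φ := J.W_of_isLocallyBijective φ
  rw [GrothendieckTopology.W_iff] at hW
  have hz : IsZero ((presheafToSheaf J AddCommGrpCat.{u}).obj Z) :=
    (presheafToSheaf J AddCommGrpCat.{u}).map_isZero hZ
  exact hz.of_iso (asIso ((presheafToSheaf J AddCommGrpCat.{u}).map φ))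

end Groth.Agent.S15233
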