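import Groth.Statements.S15235
import Mathlib.Tactic
-- import your own Groth.Agent.* helpers here

set_option autoImplicit false
universe u
open CategoryTheory Opposite
open HomAlg3

namespace Groth.Agent.S15235

variable (F : ℕᵒᵖ ⥤ Type u)

/-- transition map -/
def t (n m : ℕ) (h : m ≤ n) : F.obj (op n) → F.obj (op m) := F.map (homOfLE h).op

lemma t_eq {n m : ℕ} (f : op n ⟶ op m) (h : m ≤ n) (x : F.obj (op n)) : F.map f x = t F n m h x := by
  have : f = (homOfLE h).op := Subsingleton.elim _ _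
  rw [this]; rfl

lemma t_self (n : ℕ) (x : F.obj (op n)) : t F n n le_rfl x = x := by
  have : (homOfLE (le_refl n)).op = 𝟙 (op n) := Subsingleton.elim _ _
  simp [t]

lemma t_comp {n m l : ℕ} (h1 : m ≤ n) (h2 : l ≤ m) (x : F.obj (op n)) :
    t F m l h2 (t F n m h1 x) = t F n l (h2.trans h1) x := by
  unfold t
  rw [← Functor.map_comp_apply]
  congr 1

variable (j₀ : ℕ)

lemma surj_of (hs : ∀ j, j₀ ≤ j → Function.Surjective (t F (j + 1) j (Nat.le_succ j)))
    (m : ℕ) (hm : j₀ ≤ m) (d : ℕ) : Function.Surjective (t F (m + d) m (Nat.le_add_right m d)) := by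
  induction d with
  | zero => intro x; exact ⟨x, t_self F m x⟩
  | succ d ih =>
    intro x
    obtain ⟨y, hy⟩ := ih x
    obtain ⟨z, hz⟩ := hs (m + d) (by omega) y
    refine ⟨z, ?_⟩
    rw [← hy, ← hz, t_comp]
    rfl

lemma surj_of' (hs : ∀ j, j₀ ≤ j → Function.Surjective (t F (j + 1) j (Nat.le_succ j)))
    (m l : ℕ) (hm : j₀ ≤ m) (hml : m ≤ l) : Function.Surjective (t F l m hml) := by
  obtain ⟨d, rfl⟩ := Nat.exists_eq_add_of_le hml
  exact surj_of F j₀ hs m hm d

lemma ml (hs : ∀ j, j₀ ≤ j → Function.Surjective (t F (j + 1) j (Nat.le_succ j))) :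
    F.IsMittagLeffler := by
  rintro ⟨n⟩
  refine ⟨op (max n j₀), (homOfLE (le_max_left n j₀)).op, ?_⟩
  rintro ⟨l⟩ g
  have hnl : n ≤ l := g.unop.le
  rintro x ⟨y, rfl⟩
  rw [t_eq F _ (le_max_left n j₀)]
  rcases le_total l (max n j₀) with h | h
  · refine ⟨t F _ l h y, ?_⟩
    rw [t_eq F g hnl, t_comp]
  · obtain ⟨z, rfl⟩ := surj_of' F j₀ hs (max n j₀) l (le_max_right _ _) h y
    refine ⟨z, ?_⟩
    rw [t_eq F g hnl, t_comp]

/-- chosen lifts -/
noncomputable def lift (hs : ∀ j, j₀ ≤ j → Function.Surjective (t F (j + 1) j (Nat.le_succ j)))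
    (x : F.obj (op j₀)) : (n : ℕ) → F.obj (op (j₀ + n))
  | 0 => x
  | n + 1 => (hs (j₀ + n) (Nat.le_add_right _ _) (lift hs x n)).choose

lemma lift_succ (hs : ∀ j, j₀ ≤ j → Function.Surjective (t F (j + 1) j (Nat.le_succ j)))
    (x : F.obj (op j₀)) (n : ℕ) :
    t F (j₀ + n + 1) (j₀ + n) (Nat.le_succ _) (lift F j₀ hs x (n + 1)) = lift F j₀ hs x n :=
  (hs (j₀ + n) (Nat.le_add_right _ _) (lift F j₀ hs x n)).choose_spec

lemma lift_compat (hs : ∀ j, j₀ ≤ j → Function.Surjective (t F (j + 1) j (Nat.le_succ j)))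
    (x : F.obj (op j₀)) (b a : ℕ) (hba : b ≤ a) :
    t F (j₀ + a) (j₀ + b) (Nat.add_le_add_left hba j₀) (lift F j₀ hs x a) = lift F j₀ hs x b := by
  induction a, hba using Nat.le_induction with
  | base => exact t_self F _ _
  | succ a hba ih =>
    rw [← ih, ← lift_succ F j₀ hs x a, t_comp]
    rfl

lemma eval_surj (hs : ∀ j, j₀ ≤ j → Function.Surjective (t F (j + 1) j (Nat.le_succ j))) :
    Function.Surjective (fun s : F.sections => s.1 (op j₀)) := by
  intro x
  refine ⟨⟨fun m => t F (j₀ + m.unop) m.unop (Nat.le_add_left _ _) (lift F j₀ hs x m.unop), ?_⟩, ?_⟩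
  · rintro ⟨a⟩ ⟨b⟩ f
    have hba : b ≤ a := f.unop.le
    simp only
    rw [t_eq F f hba, t_comp, ← lift_compat F j₀ hs x b a hba, t_comp]
  · simp only
    have := lift_compat F j₀ hs x 0 j₀ (Nat.zero_le _)
    exact this

lemma eval_inj (hi : ∀ j, j₀ ≤ j → Function.Injective (t F (j + 1) j (Nat.le_succ j))) :
    Function.Injective (fun s : F.sections => s.1 (op j₀)) := by
  intro s s' h
  simp only at h
  have key : ∀ d, s.1 (op (j₀ + d)) = s'.1 (op (j₀ + d)) := by
    intro d
    induction d with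
    | zero => exact h
    | succ d ih =>
      apply hi (j₀ + d) (Nat.le_add_right _ _)
      have e1 := s.2 (homOfLE (Nat.le_succ (j₀ + d))).op
      have e2 := s'.2 (homOfLE (Nat.le_succ (j₀ + d))).op
      exact (e1.trans ih).trans e2.symm
  apply Subtype.ext
  funext m
  obtain ⟨m⟩ := m
  have e1 := s.2 (homOfLE (Nat.le_add_left m j₀)).op
  have e2 := s'.2 (homOfLE (Nat.le_add_left m j₀)).op
  rw [← e1, ← e2, key m]



/-- Let (G_j) be an inverse system of abelian groups indexed by the natural numbers, with transition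
maps G_{j+1} → G_j, and let j₀ be a natural number such that the transition map G_{j+1} → G_j is
surjective for every j ≥ j₀. Then: (a) the system satisfies the Mittag-Leffler condition; (b) the
evaluation map from the inverse limit (realised as the set of compatible families) to G_{j₀} is
surjective; (c) if in addition the transition maps G_{j+1} → G_j are injective for every j ≥ j₀,
that evaluation map is bijective. (The published statement indexes the system by the negative
integers and assumes j₀ ≥ 1; this row indexes it by the natural numbers and allows j₀ = 0, which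
changes nothing.) -/
theorem result (G : ℕᵒᵖ ⥤ AddCommGrpCat.{u})
    (j₀ : ℕ) (hs : ∀ j : ℕ, j₀ ≤ j → Function.Surjective (G.map (homOfLE (Nat.le_succ j)).op).hom) :
    (G ⋙ forget AddCommGrpCat.{u}).IsMittagLeffler ∧
      Function.Surjective (fun s : (G ⋙ forget AddCommGrpCat.{u}).sections => s.1 (op j₀)) ∧
      ((∀ j : ℕ, j₀ ≤ j → Function.Injective (G.map (homOfLE (Nat.le_succ j)).op).hom) →
        Function.Bijective (fun s : (G ⋙ forget AddCommGrpCat.{u}).sections => s.1 (op j₀))) := by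
  have hs' : ∀ j, j₀ ≤ j → Function.Surjective
      (t (G ⋙ forget AddCommGrpCat.{u}) (j + 1) j (Nat.le_succ j)) := fun j hj => hs j hj
  refine ⟨ml _ j₀ hs', eval_surj _ j₀ hs', fun hi => ⟨?_, eval_surj _ j₀ hs'⟩⟩
  have hi' : ∀ j, j₀ ≤ j → Function.Injective
      (t (G ⋙ forget AddCommGrpCat.{u}) (j + 1) j (Nat.le_succ j)) := fun j hj => hi j hj
  exact eval_inj _ j₀ hi'

end Groth.Agent.S15235
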