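import Groth.Statements.S15245
import Mathlib

set_option autoImplicit false
universe u
open CategoryTheory AlgebraicGeometry
open RedSub

namespace Groth.Agent.S15245

section Count

theorem perm_apply_inv {α : Type} (f : Equiv.Perm α) (x : α) : f (f⁻¹ x) = x :=
  f.apply_symm_apply x

theorem perm_inv_apply {α : Type} (f : Equiv.Perm α) (x : α) : f⁻¹ (f x) = x :=
  f.symm_apply_apply x

theorem card_split {X : Type} [Fintype X] (p q : X → Prop) [DecidablePred p] [DecidablePred q] :
    (Finset.univ.filter p).card = (Finset.univ.filter (fun a => p a ∧ q a)).card +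
      (Finset.univ.filter (fun a => p a ∧ ¬ q a)).card := by
  rw [← Finset.card_filter_add_card_filter_not (s := Finset.univ.filter p) q,
    Finset.filter_filter, Finset.filter_filter]

theorem card_eq_of_invol {X : Type} [Fintype X] (f g : X → X) (p q : X → Prop)
    [DecidablePred p] [DecidablePred q]
    (hf : ∀ a, p a → q (f a)) (hg : ∀ a, q a → p (g a)) (gf : ∀ a, g (f a) = a)
    (fg : ∀ a, f (g a) = a) :
    (Finset.univ.filter p).card = (Finset.univ.filter q).card := by
  refine Finset.card_bij' (fun a _ => f a) (fun a _ => g a) ?_ ?_ (fun a _ => gf a)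
    (fun a _ => fg a)
  · intro a ha
    simp only [Finset.mem_filter, Finset.mem_univ, true_and] at ha ⊢
    exact hf a ha
  · intro a ha
    simp only [Finset.mem_filter, Finset.mem_univ, true_and] at ha ⊢
    exact hg a ha

theorem count_lemma {X : Type} [Fintype X] [DecidableEq X] (T ng : X → X) (h H n : X → ℤ) (hc : ℤ)
    (β : X)
    (TT : ∀ a, T (T a) = a) (ngng : ∀ a, ng (ng a) = a) (Tng : ∀ a, T (ng a) = ng (T a))
    (h_ne : ∀ a, h a ≠ 0) (H_ne : ∀ a, H a ≠ 0)
    (h_ng : ∀ a, h (ng a) = - h a) (H_ng : ∀ a, H (ng a) = - H a)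
    (hT : ∀ a, h (T a) = h a - n a * h β) (HT : ∀ a, H (T a) = H a - n a * hc)
    (hc_pos : 0 < hc) (hTβ : T β = ng β) (hHβ : H β = hc) :
    (Finset.univ.filter (fun a => 0 < h a ∧ H a < 0)).card <
      (Finset.univ.filter (fun a => 0 < h a ∧ H (T a) < 0)).card ↔ 0 < h β := by
  classical
  let ι : X → X := fun a => ng (T a)
  have ιι : ∀ a, ι (ι a) = a := fun a => by
    show ng (T (ng (T a))) = a
    rw [Tng, ngng, TT]
  have ιinj : Function.Injective ι := Function.LeftInverse.injective ιι
  have hι : ∀ a, h (ι a) = - h (T a) := fun a => h_ng (T a)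
  have Hι : ∀ a, H (ι a) = - H (T a) := fun a => H_ng (T a)
  have hTι : ∀ a, h (T (ι a)) = - h a := fun a => by
    show h (T (ng (T a))) = - h a
    rw [Tng, TT, h_ng]
  have HTι : ∀ a, H (T (ι a)) = - H a := fun a => by
    show H (T (ng (T a))) = - H a
    rw [Tng, TT, H_ng]
  have cA := card_split (fun a => 0 < h a ∧ H a < 0) (fun a => 0 < h (T a))
  have cB := card_split (fun a => 0 < h a ∧ H (T a) < 0) (fun a => 0 < h (T a))
  have cP := card_split (fun a => 0 < h a ∧ ¬ 0 < h (T a)) (fun a => H a < 0)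
  beta_reduce at cA cB cP
  have e1 : (Finset.univ.filter (fun a => (0 < h a ∧ H (T a) < 0) ∧ 0 < h (T a))).card =
      (Finset.univ.filter (fun a => (0 < h a ∧ H a < 0) ∧ 0 < h (T a))).card := by
    refine card_eq_of_invol T T _ _ ?_ ?_ TT TT
    · intro a ha
      exact ⟨⟨ha.2, ha.1.2⟩, by rw [TT]; exact ha.1.1⟩
    · intro a ha
      exact ⟨⟨ha.2, by rw [TT]; exact ha.1.2⟩, by rw [TT]; exact ha.1.1⟩
  have e2 : (Finset.univ.filter (fun a => (0 < h a ∧ H (T a) < 0) ∧ ¬ 0 < h (T a))).card =
      (Finset.univ.filter (fun a => (0 < h a ∧ ¬ 0 < h (T a)) ∧ ¬ H a < 0)).card := by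
    refine card_eq_of_invol ι ι _ _ ?_ ?_ ιι ιι
    · intro a ha
      have hlt : h (T a) < 0 := lt_of_le_of_ne (not_lt.mp ha.2) (h_ne _)
      refine ⟨⟨?_, ?_⟩, ?_⟩
      · rw [hι]; linarith
      · rw [hTι]; exact not_lt.mpr (by linarith [ha.1.1])
      · rw [Hι]; exact not_lt.mpr (by linarith [ha.1.2])
    · intro a ha
      have hlt : h (T a) < 0 := lt_of_le_of_ne (not_lt.mp ha.1.2) (h_ne _)
      have hHpos : 0 < H a := lt_of_le_of_ne (not_lt.mp ha.2) (H_ne _).symm
      refine ⟨⟨?_, ?_⟩, ?_⟩
      · rw [hι]; linarith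
      · rw [HTι]; linarith
      · rw [hTι]; exact not_lt.mpr (by linarith [ha.1.1])
  have e3 : (Finset.univ.filter (fun a => (0 < h a ∧ H a < 0) ∧ ¬ 0 < h (T a))).card =
      (Finset.univ.filter (fun a => (0 < h a ∧ ¬ 0 < h (T a)) ∧ H a < 0)).card :=
    card_eq_of_invol id id _ _ (fun a ha => ⟨⟨ha.1.1, ha.2⟩, ha.1.2⟩)
      (fun a ha => ⟨⟨ha.1.1, ha.2⟩, ha.1.2⟩) (fun _ => rfl) (fun _ => rfl)
  -- the two sets
  set S' := Finset.univ.filter (fun a => (0 < h a ∧ ¬ 0 < h (T a)) ∧ H a < 0) with hS'
  set P₂ := Finset.univ.filter (fun a => 0 < h a ∧ ¬ 0 < h (T a)) with hP₂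
  have memS' : ∀ a, a ∈ S' ↔ (0 < h a ∧ ¬ 0 < h (T a)) ∧ H a < 0 := fun a => by
    simp only [hS', Finset.mem_filter, Finset.mem_univ, true_and]
  have memP₂ : ∀ a, a ∈ P₂ ↔ 0 < h a ∧ ¬ 0 < h (T a) := fun a => by
    simp only [hP₂, Finset.mem_filter, Finset.mem_univ, true_and]
  have ιP₂ : ∀ a, a ∈ P₂ → ι a ∈ P₂ := fun a ha => by
    rw [memP₂] at ha ⊢
    have hlt : h (T a) < 0 := lt_of_le_of_ne (not_lt.mp ha.2) (h_ne _)
    refine ⟨by rw [hι]; linarith, ?_⟩
    rw [hTι]; exact not_lt.mpr (by linarith [ha.1])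
  have sumH : ∀ a, a ∈ P₂ → H a + H (ι a) = n a * hc ∧ 0 < n a * h β := fun a ha => by
    rw [memP₂] at ha
    have hlt : h (T a) < 0 := lt_of_le_of_ne (not_lt.mp ha.2) (h_ne _)
    refine ⟨by rw [Hι, HT]; ring, ?_⟩
    have := hT a
    linarith [ha.1]
  have b1 : 0 < h β → 2 * S'.card + 1 ≤ P₂.card := by
    intro hβ
    have pos : ∀ a, a ∈ P₂ → 0 < H a + H (ι a) := fun a ha => by
      obtain ⟨e, hn⟩ := sumH a ha
      have hn' : 0 < n a := (mul_pos_iff_of_pos_right hβ).mp hn
      rw [e]; exact mul_pos hn' hc_pos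
    have S'P₂ : ∀ a, a ∈ S' → a ∈ P₂ := fun a ha => (memP₂ a).mpr ((memS' a).mp ha).1
    have hdisj : Disjoint S' (S'.image ι) := by
      rw [Finset.disjoint_left]
      intro x hx hx'
      obtain ⟨a, ha, rfl⟩ := Finset.mem_image.mp hx'
      have h1 := ((memS' _).mp hx).2
      have h2 := ((memS' _).mp ha).2
      have h3 := pos a (S'P₂ a ha)
      linarith
    have hβP : β ∈ P₂ := by
      rw [memP₂]
      refine ⟨hβ, ?_⟩
      rw [hTβ, h_ng]; exact not_lt.mpr (by linarith)
    have hβS : β ∉ S' := fun hβS => by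
      have := ((memS' _).mp hβS).2
      rw [hHβ] at this; linarith
    have ιβ : ι β = β := by
      show ng (T β) = β
      rw [hTβ, ngng]
    have hβU : β ∉ S' ∪ S'.image ι := by
      intro hmem
      rcases Finset.mem_union.mp hmem with h1 | h1
      · exact hβS h1
      · obtain ⟨a, ha, hab⟩ := Finset.mem_image.mp h1
        have : a = β := by
          have := congrArg ι hab
          rw [ιι, ιβ] at this
          exact this
        exact hβS (this ▸ ha)
    have hsub : insert β (S' ∪ S'.image ι) ⊆ P₂ := by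
      intro x hx
      rcases Finset.mem_insert.mp hx with rfl | hx
      · exact hβP
      · rcases Finset.mem_union.mp hx with h1 | h1
        · exact S'P₂ x h1
        · obtain ⟨a, ha, rfl⟩ := Finset.mem_image.mp h1
          exact ιP₂ a (S'P₂ a ha)
    have hcard := Finset.card_le_card hsub
    rw [Finset.card_insert_of_notMem hβU, Finset.card_union_of_disjoint hdisj,
      Finset.card_image_of_injective _ ιinj] at hcard
    omega
  have b2 : h β < 0 → P₂.card ≤ 2 * S'.card := by
    intro hβ
    have neg : ∀ a, a ∈ P₂ → H a + H (ι a) < 0 := fun a ha => by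
      obtain ⟨e, hn⟩ := sumH a ha
      have hn' : n a < 0 := by
        by_contra hcon
        rw [not_lt] at hcon
        nlinarith
      rw [e]; exact mul_neg_of_neg_of_pos hn' hc_pos
    have hsub : P₂ ⊆ S' ∪ S'.image ι := by
      intro a ha
      by_cases hHa : H a < 0
      · exact Finset.mem_union_left _ ((memS' a).mpr ⟨(memP₂ a).mp ha, hHa⟩)
      · refine Finset.mem_union_right _ (Finset.mem_image.mpr ⟨ι a, ?_, ιι a⟩)
        refine (memS' _).mpr ⟨(memP₂ _).mp (ιP₂ a ha), ?_⟩
        have := neg a ha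
        linarith [not_lt.mp hHa]
    have hcard := (Finset.card_le_card hsub).trans (Finset.card_union_le _ _)
    have := Finset.card_image_le (s := S') (f := ι)
    omega
  constructor
  · intro hlt
    by_contra hcon
    have hβ : h β < 0 := lt_of_le_of_ne (not_lt.mp hcon) (h_ne β)
    have := b2 hβ
    omega
  · intro hpos
    have := b1 hpos
    omega

end Count

section Root

variable {idx M N : Type} [AddCommGroup M] [AddCommGroup N] (P : RootPairing idx ℤ M N)

/-- permutations of the index set induced by a linear automorphism -/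
def Lin (σ : Equiv.Perm idx) : Prop :=
  ∃ L : M ≃ₗ[ℤ] M, ∀ a, P.root (σ a) = L (P.root a)

theorem lin_refl (i : idx) : Lin P (P.reflectionPerm i) :=
  ⟨P.reflection i, fun a => P.root_reflectionPerm i a⟩

theorem lin_one : Lin P 1 := ⟨LinearEquiv.refl ℤ M, fun _ => rfl⟩

theorem lin_mul {σ τ : Equiv.Perm idx} (hσ : Lin P σ) (hτ : Lin P τ) : Lin P (σ * τ) := by
  obtain ⟨L, hL⟩ := hσ
  obtain ⟨L', hL'⟩ := hτ
  refine ⟨L'.trans L, fun a => ?_⟩
  rw [Equiv.Perm.mul_apply, hL, hL']
  rfl

theorem lin_inv {σ : Equiv.Perm idx} (hσ : Lin P σ) : Lin P σ⁻¹ := by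
  obtain ⟨L, hL⟩ := hσ
  refine ⟨L.symm, fun a => ?_⟩
  have := hL (σ⁻¹ a)
  rw [perm_apply_inv] at this
  rw [this, LinearEquiv.symm_apply_apply]

theorem lin_word (l : List idx) : Lin P (RedSub.wordPerm P l) := by
  induction l with
  | nil => exact lin_one P
  | cons i l ih =>
    have : RedSub.wordPerm P (i :: l) = P.reflectionPerm i * RedSub.wordPerm P l := by
      simp [RedSub.wordPerm]
    rw [this]
    exact lin_mul P (lin_refl P i) ih

/-- the index of the negative of a root -/
def ng (a : idx) : idx := P.reflectionPerm a a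

theorem root_ng (a : idx) : P.root (ng P a) = - P.root a := by
  unfold ng
  rw [P.root_reflectionPerm, P.reflection_apply_self]

theorem ng_ng (a : idx) : ng P (ng P a) = a := by
  apply P.root.injective
  rw [root_ng, root_ng, neg_neg]

theorem lin_ng {σ : Equiv.Perm idx} (hσ : Lin P σ) (a : idx) : σ (ng P a) = ng P (σ a) := by
  obtain ⟨L, hL⟩ := hσ
  apply P.root.injective
  rw [hL, root_ng, map_neg, root_ng, hL]

variable (b : P.Base)

theorem height_ng (a : idx) : b.height (ng P a) = - b.height a := by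
  have hk : P.root (ng P a) = P.root a + (-2 : ℤ) • P.root a := by
    rw [root_ng]; module
  have := b.height_add_zsmul hk
  rw [this, smul_eq_mul]; ring

theorem mem_closure_sum (m : M)
    (hm : m ∈ AddSubmonoid.closure (P.root '' (b.support : Set idx))) :
    ∃ f : idx → ℕ, m = ∑ j ∈ b.support, f j • P.root j := by
  classical
  refine AddSubmonoid.closure_induction ?_ ⟨0, by simp⟩ ?_ hm
  · rintro - ⟨j, hj, rfl⟩
    refine ⟨Pi.single j 1, ?_⟩
    rw [Finset.sum_eq_single_of_mem j (Finset.mem_coe.mp hj)]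
    · simp
    · intro k _ hkj
      simp [hkj]
  · rintro x y _ _ ⟨f, hf⟩ ⟨g, hg⟩
    exact ⟨f + g, by simp [hf, hg, add_smul, Finset.sum_add_distrib]⟩

theorem height_nonneg_of_mem (a : idx)
    (ha : P.root a ∈ AddSubmonoid.closure (P.root '' (b.support : Set idx))) :
    0 ≤ b.height a := by
  obtain ⟨f, hf⟩ := mem_closure_sum P b _ ha
  have e : P.root a = ∑ j ∈ b.support, ((f j : ℕ) : ℤ) • P.root j := by
    rw [hf]; simp [natCast_zsmul]
  rw [RootPairing.Base.height_eq_sum e]
  exact Finset.sum_nonneg (fun j _ => Int.natCast_nonneg _)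

theorem height_nonpos_of_neg_mem (a : idx)
    (ha : - P.root a ∈ AddSubmonoid.closure (P.root '' (b.support : Set idx))) :
    b.height a ≤ 0 := by
  obtain ⟨f, hf⟩ := mem_closure_sum P b _ ha
  have e : P.root a = ∑ j ∈ b.support, (-((f j : ℕ) : ℤ)) • P.root j := by
    rw [← neg_neg (P.root a), hf]; simp [neg_smul, natCast_zsmul, Finset.sum_neg_distrib]
  rw [RootPairing.Base.height_eq_sum e]
  exact Finset.sum_nonpos (fun j _ => neg_nonpos.mpr (Int.natCast_nonneg _))

theorem pos_iff (a : idx) : a ∈ RedSub.posRoots P b ↔ 0 < b.height a := by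
  constructor
  · intro ha
    exact lt_of_le_of_ne (height_nonneg_of_mem P b a ha) (b.height_ne_zero a).symm
  · intro ha
    rcases b.root_mem_or_neg_mem a with h | h
    · exact h
    · have := height_nonpos_of_neg_mem P b a h
      omega

theorem neg_iff (a : idx) : a ∈ RedSub.negRoots P b ↔ b.height a < 0 := by
  constructor
  · intro ha
    exact lt_of_le_of_ne (height_nonpos_of_neg_mem P b a ha) (b.height_ne_zero a)
  · intro ha
    rcases b.root_mem_or_neg_mem a with h | h
    · have := height_nonneg_of_mem P b a h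
      omega
    · exact h

end Root

/-- Let Φ be a finite reduced root system (a reduced root pairing over ℤ on a finite index set) with a
base b, w an element of its Weyl group, given as the product of the reflections along a word l and
acting on the roots, and γ a positive root. Writing ℓ(u) for the number of positive roots a with
u(a) negative, one has ℓ(w) < ℓ(σ_γ w) if and only if w⁻¹(γ) is positive. (Here the length is taken
as the number of inverted positive roots.) -/
theorem result {idx M N : Type}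
    [AddCommGroup M] [AddCommGroup N] [Finite idx]
    (P : RootPairing idx ℤ M N) [P.IsReduced] (b : P.Base) (l : List idx) (c : idx)
    (hc : c ∈ RedSub.posRoots P b) :
    Set.ncard {a : idx | a ∈ RedSub.posRoots P b ∧ RedSub.wordPerm P l a ∈ RedSub.negRoots P b} <
        Set.ncard {a : idx | a ∈ RedSub.posRoots P b ∧
          (P.reflectionPerm c * RedSub.wordPerm P l) a ∈ RedSub.negRoots P b} ↔
      (RedSub.wordPerm P l)⁻¹ c ∈ RedSub.posRoots P b := by
  classical
  haveI : Fintype idx := Fintype.ofFinite idx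
  obtain ⟨w, hw⟩ : ∃ w : Equiv.Perm idx, w = RedSub.wordPerm P l := ⟨_, rfl⟩
  rw [← hw]
  have hwL : Lin P w := hw ▸ lin_word P l
  have hwiL : Lin P w⁻¹ := lin_inv P hwL
  have hsL : Lin P (P.reflectionPerm c) := lin_refl P c
  obtain ⟨W, hW⟩ := hwL
  have hwL : Lin P w := ⟨W, hW⟩
  have hWi : ∀ y, P.root (w⁻¹ y) = W.symm (P.root y) := fun y => by
    have := hW (w⁻¹ y)
    rw [perm_apply_inv] at this
    rw [this, LinearEquiv.symm_apply_apply]
  obtain ⟨T, hTdef⟩ : ∃ T : idx → idx, ∀ a, T a = w⁻¹ (P.reflectionPerm c (w a)) := ⟨_, fun _ => rfl⟩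
  have TT : ∀ a, T (T a) = a := fun a => by
    rw [hTdef, hTdef, perm_apply_inv, P.reflectionPerm_self, perm_inv_apply]
  have Tng : ∀ a, T (ng P a) = ng P (T a) := fun a => by
    rw [hTdef, hTdef, lin_ng P hwL, lin_ng P hsL, lin_ng P hwiL]
  have wT : ∀ a, w (T a) = P.reflectionPerm c (w a) := fun a => by
    rw [hTdef, perm_apply_inv]
  have R1 : ∀ a, P.root (T a) = P.root a + (-(P.pairing (w a) c)) • P.root (w⁻¹ c) := fun a => by
    calc P.root (T a) = W.symm (P.root (P.reflectionPerm c (w a))) := by rw [hTdef, hWi]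
      _ = W.symm (P.root (w a) - P.pairing (w a) c • P.root c) := by
          rw [P.root_reflectionPerm, P.reflection_apply_root]
      _ = W.symm (W (P.root a)) - P.pairing (w a) c • W.symm (P.root c) := by
          rw [map_sub, map_smul, hW]
      _ = P.root a + (-(P.pairing (w a) c)) • P.root (w⁻¹ c) := by
          rw [LinearEquiv.symm_apply_apply, hWi c, neg_smul, sub_eq_add_neg]
  have hT : ∀ a, b.height (T a) = b.height a - P.pairing (w a) c * b.height (w⁻¹ c) := fun a => by
    have := b.height_add_zsmul (R1 a)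
    rw [this, smul_eq_mul]; ring
  have R2 : ∀ x, P.root (P.reflectionPerm c x) = P.root x + (-(P.pairing x c)) • P.root c :=
    fun x => by
      rw [P.root_reflectionPerm, P.reflection_apply_root, neg_smul, sub_eq_add_neg]
  have HT : ∀ a, b.height (w (T a)) = b.height (w a) - P.pairing (w a) c * b.height c := fun a => by
    have := b.height_add_zsmul (R2 (w a))
    rw [wT, this, smul_eq_mul]; ring
  have hc_pos : 0 < b.height c := (pos_iff P b c).mp hc
  have hTβ : T (w⁻¹ c) = ng P (w⁻¹ c) := by
    rw [hTdef, perm_apply_inv]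
    have : P.reflectionPerm c c = ng P c := rfl
    rw [this, lin_ng P hwiL]
  have hHβ : b.height (w (w⁻¹ c)) = b.height c := by
    rw [perm_apply_inv]
  have key := count_lemma (X := idx) T (ng P) (fun a => b.height a) (fun a => b.height (w a))
    (fun a => P.pairing (w a) c) (b.height c) (w⁻¹ c) TT (ng_ng P) Tng
    (fun a => b.height_ne_zero a) (fun a => b.height_ne_zero (w a))
    (fun a => height_ng P b a)
    (fun a => by
      show b.height (w (ng P a)) = - b.height (w a)
      rw [lin_ng P hwL, height_ng])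
    hT HT hc_pos hTβ hHβ
  have e1 : {a : idx | a ∈ RedSub.posRoots P b ∧ w a ∈ RedSub.negRoots P b} =
      ↑(Finset.univ.filter (fun a => 0 < b.height a ∧ b.height (w a) < 0)) := by
    ext a
    simp only [Set.mem_setOf_eq, pos_iff, neg_iff, Finset.coe_filter, Finset.mem_univ, true_and]
  have e2 : {a : idx | a ∈ RedSub.posRoots P b ∧
        (P.reflectionPerm c * w) a ∈ RedSub.negRoots P b} =
      ↑(Finset.univ.filter (fun a => 0 < b.height a ∧ b.height (w (T a)) < 0)) := by
    ext a
    simp only [Set.mem_setOf_eq, pos_iff, neg_iff, Finset.coe_filter, Finset.mem_univ, true_and,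
      Equiv.Perm.mul_apply, wT]
  rw [e1, e2, Set.ncard_coe_finset, Set.ncard_coe_finset, pos_iff]
  exact key

end Groth.Agent.S15245
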