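import Groth.Statements.S15250
import Groth.Agent.H32.AlgStackFp

set_option autoImplicit false
open CategoryTheory AlgebraicGeometry
universe u
open AlgSt

namespace Groth.Agent.S15250

/-- For algebraic stacks: let S be a scheme and f : 𝒳 → 𝒴 a 1-morphism of stacks in groupoids over the
category of schemes over S. If 𝒴 is an algebraic stack and for every scheme U over S and every
1-morphism g : U → 𝒴 the 2-fibre product U ×_𝒴 𝒳 is an algebraic stack, then 𝒳 is an algebraic
stack. All stacks here are for the étale topology on schemes over S; an algebraic stack is a stack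
in groupoids whose diagonal is representable by algebraic spaces and which has a smooth surjective
atlas from a scheme. (The published statement asks the fibre-product condition only for affine
schemes U and uses algebraic stacks whose diagonal is moreover separated and quasi-compact; this row
asks the condition for every scheme U over S and uses algebraic stacks with no condition on the
diagonal beyond representability by algebraic spaces.) -/
theorem result {S : Scheme.{u}} {𝒳 𝒴 : AlgSt.Cat S}
    (h𝒳 : Stk.IsStack (QuotSh.J Scheme.etalePrecoverage S) 𝒳)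
    (h𝒴 : AlgSt.IsAlgStack Scheme.etalePrecoverage 𝒴) (f : 𝒳 ⥤ᵇ 𝒴)
    (hf : ∀ (U : Over S) (g : FibCat.overCat U ⥤ᵇ 𝒴),
      AlgSt.IsAlgStack Scheme.etalePrecoverage (FibCat.fp g f)) :
    AlgSt.IsAlgStack Scheme.etalePrecoverage 𝒳 := by
  open FibCat Stk Groth.Agent.H32.FibProd Groth.Agent.H32.Fp2 Groth.Agent.H32.Fp3
    Groth.Agent.H32.Fp4 Groth.Agent.H32.SpBridge Groth.Agent.H32.PFacts
    Groth.Agent.H32.AlgStackEquiv Groth.Agent.H32.AtlasRep Groth.Agent.H32.SpComp
    Groth.Agent.H32.StackOps Groth.Agent.H32.Repr in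
  have iX : FibCat.IsFibGrpd 𝒳.p := h𝒳.1
  have iY : FibCat.IsFibGrpd 𝒴.p := h𝒴.isStack.1
  refine ⟨h𝒳, ?_, ?_⟩
  · -- the diagonal: every `x : U ⟶ 𝒳` factors as a section `U ⟶ U ×_𝒴 𝒳` followed by the projection
    refine (Groth.Agent.S12765.result iX).mpr (fun U x => ?_)
    have iU := Groth.Agent.S6411.over_isFibGrpd U
    have hg : AlgSt.RepByAlgSp1 (BasedFunctor.comp x f) :=
      (Groth.Agent.S12765.result iY).mp h𝒴.diag U _
    have hpr : AlgSt.RepByAlgSp1 (fpSnd (BasedFunctor.comp x f) f) := repByAlgSp1_fpSnd _ f hg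
    let s : FibCat.overCat U ⥤ᵇ fp (BasedFunctor.comp x f) f :=
      fpLift (F := BasedFunctor.comp x f) (G := f) (BasedFunctor.id _) x (Iso.refl _)
    have hfp : IsFibGrpd (fp (BasedFunctor.comp x f) f).p := fp_isFibGrpd _ _ iU iX iY
    have hs : AlgSt.RepByAlgSp1 s :=
      (Groth.Agent.S12765.result hfp).mp (hf U (BasedFunctor.comp x f)).diag U s
    exact repByAlgSp1_comp iU hfp iX s _ hs hpr
  · -- the atlas: compose an atlas of `V ×_𝒴 𝒳` with the projection to `𝒳`
    obtain ⟨V, y, hy1, hy2⟩ := h𝒴.atlas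
    obtain ⟨W, w, hw1, hw2⟩ := (hf V y).atlas
    have iV := Groth.Agent.S6411.over_isFibGrpd V
    have iW := Groth.Agent.S6411.over_isFibGrpd W
    have hfp : IsFibGrpd (fp y f).p := fp_isFibGrpd _ _ iV iX iY
    exact ⟨W, BasedFunctor.comp w (fpSnd y f),
      with_comp good_smooth iW hfp iX w _ hw1 (repByAlgSpWith_fpSnd _ y f hy1),
      with_comp good_surjective iW hfp iX w _ hw2 (repByAlgSpWith_fpSnd _ y f hy2)⟩

end Groth.Agent.S15250
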