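import Groth.Statements.S15251
import Groth.Agent.H32.AlgStackFp
import Groth.Agent.H88.GoodEtale
import Groth.Agent.S15250

set_option autoImplicit false
open CategoryTheory AlgebraicGeometry
universe u
open AlgSt

namespace Groth.Agent.S15251

/-- Let S be a scheme and f : 𝒳 → 𝒴 a 1-morphism of stacks in groupoids over the category of schemes
over S. If 𝒴 is a Deligne–Mumford stack and for every scheme U over S and every 1-morphism g : U → 𝒴
the 2-fibre product U ×_𝒴 𝒳 is a Deligne–Mumford stack, then 𝒳 is a Deligne–Mumford stack. All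
stacks here are for the étale topology on schemes over S; an algebraic stack is a stack in groupoids
whose diagonal is representable by algebraic spaces and which has a smooth surjective atlas from a
scheme, and a Deligne–Mumford stack is an algebraic stack with an étale surjective atlas from a
scheme. (The published statement asks the fibre-product condition only for affine schemes U and uses
Deligne–Mumford stacks whose diagonal is moreover separated and quasi-compact; this row asks the
condition for every scheme U over S and uses Deligne–Mumford stacks with no condition on the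
diagonal beyond representability by algebraic spaces.) -/
theorem result {S : Scheme.{u}} {𝒳 𝒴 : AlgSt.Cat S}
    (h𝒳 : Stk.IsStack (QuotSh.J Scheme.etalePrecoverage S) 𝒳)
    (h𝒴 : AlgSt.IsDM Scheme.etalePrecoverage 𝒴) (f : 𝒳 ⥤ᵇ 𝒴)
    (hf : ∀ (U : Over S) (g : FibCat.overCat U ⥤ᵇ 𝒴),
      AlgSt.IsDM Scheme.etalePrecoverage (FibCat.fp g f)) :
    AlgSt.IsDM Scheme.etalePrecoverage 𝒳 := by
  open FibCat Stk Groth.Agent.H32.FibProd Groth.Agent.H32.Fp2 Groth.Agent.H32.Fp3
    Groth.Agent.H32.Fp4 Groth.Agent.H32.SpBridge Groth.Agent.H32.PFacts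
    Groth.Agent.H32.AlgStackEquiv Groth.Agent.H32.AtlasRep Groth.Agent.H32.SpComp
    Groth.Agent.H32.StackOps Groth.Agent.H32.Repr Groth.Agent.H88.GoodEtale in
  have iX : FibCat.IsFibGrpd 𝒳.p := h𝒳.1
  have iY : FibCat.IsFibGrpd 𝒴.p := h𝒴.1.isStack.1
  refine ⟨Groth.Agent.S15250.result h𝒳 h𝒴.1 f (fun U g => (hf U g).1), ?_⟩
  -- the étale atlas: compose an étale atlas of `V ×_𝒴 𝒳` with the projection to `𝒳`
  obtain ⟨V, y, hy1, hy2⟩ := h𝒴.2
  obtain ⟨W, w, hw1, hw2⟩ := (hf V y).2
  have iV := Groth.Agent.S6411.over_isFibGrpd V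
  have iW := Groth.Agent.S6411.over_isFibGrpd W
  have hfp : IsFibGrpd (fp y f).p := fp_isFibGrpd _ _ iV iX iY
  exact ⟨W, BasedFunctor.comp w (fpSnd y f),
    with_comp good_etale iW hfp iX w _ hw1 (repByAlgSpWith_fpSnd _ y f hy1),
    with_comp good_surjective iW hfp iX w _ hw2 (repByAlgSpWith_fpSnd _ y f hy2)⟩

end Groth.Agent.S15251
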