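import Groth.Statements.S1527
import Groth.Agent.H18.SuppZero

open Groth.Agent.H18.SuppZero

set_option autoImplicit false
universe u
open CategoryTheory CategoryTheory.Limits AlgebraicGeometry
open Variety

namespace Groth.Agent.S1527

/-- On a proper scheme over a field, a coherent module whose support has dimension at most zero is
globally generated (a quotient of a free module). -/
theorem result (k : Type u) [Field k] (X : Scheme.{u}) [X.Over (Spec (CommRingCat.of k))] [IsProper (X ↘ (Spec (CommRingCat.of k)))]
    (F : X.Modules) (hF : Coh.IsCoh F) (hsupp : topologicalKrullDim (CohB1.support F) ≤ 0) :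
    Curv2.IsGloballyGenerated F := by
  have : SheafOfModules.IsFiniteType (R := X.ringCatSheaf) F := hF.2
  have : IsLocallyNoetherian X :=
    LocallyOfFiniteType.isLocallyNoetherian (X ↘ Spec (CommRingCat.of k))
  have : CompactSpace X :=
    QuasiCompact.compactSpace_of_compactSpace (X ↘ Spec (CommRingCat.of k))
  have : IsNoetherian X := {}
  have hcl : IsClosed (CohB1.support F) := Groth.Agent.H8.isClosed_support_of_isFiniteType F
  obtain ⟨hfin, ht1⟩ := finite_t1_of_dim_le_zero (T := CohB1.support F) hsupp
  have hpt : ∀ y : X, ¬ Subsingleton ↑(F.presheaf.stalk y) → IsClosed ({y} : Set X) := by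
    intro y hy
    have hy' : y ∈ CohB1.support F := hy
    have h1 : IsClosed ({⟨y, hy'⟩} : Set (CohB1.support F)) := isClosed_singleton
    have h2 := hcl.isClosedEmbedding_subtypeVal.isClosedMap _ h1
    rwa [Set.image_singleton] at h2
  have hSfin : (CohB1.support F).Finite := Set.finite_coe_iff.mp hfin
  exact isGloballyGenerated_of_finite_closed_support F hSfin hpt

end Groth.Agent.S1527
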