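import Groth.Statements.S15285

set_option autoImplicit false
universe v v' u u'
open PicCat

namespace Groth.Agent.S15285

open CategoryTheory MonoidalCategory in
/-- Let C and D be Picard categories (monoidal groupoids in which tensoring on either side with any
object is an equivalence of categories) and F : C ⥤ D a lax monoidal functor. If F induces a
bijection on isomorphism classes of objects (it is essentially surjective, and F X ≅ F Y only when X
≅ Y) and a bijection on endomorphisms of the unit object, then F is an equivalence of categories. -/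
theorem result
    {C : Type u} [Category.{v} C] [MonoidalCategory C] [IsGroupoid C]
    {D : Type u'} [Category.{v'} D] [MonoidalCategory D] [IsGroupoid D]
    (hC : ∀ X : C, (tensorLeft X).IsEquivalence ∧ (tensorRight X).IsEquivalence)
    (hD : ∀ X : D, (tensorLeft X).IsEquivalence ∧ (tensorRight X).IsEquivalence)
    (F : C ⥤ D) [F.LaxMonoidal] [F.EssSurj]
    (h0 : ∀ X Y : C, Nonempty (F.obj X ≅ F.obj Y) → Nonempty (X ≅ Y))
    (h1 : Function.Bijective (fun φ : 𝟙_ C ⟶ 𝟙_ C => F.map φ)) :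
    F.IsEquivalence := by
  have hμ : ∀ (X : C) (a : 𝟙_ C ⟶ 𝟙_ C),
      F.map (a ▷ X) = inv (Functor.LaxMonoidal.μ F (𝟙_ C) X) ≫ (F.map a ▷ F.obj X) ≫
        Functor.LaxMonoidal.μ F (𝟙_ C) X := by
    intro X a
    rw [Functor.LaxMonoidal.μ_natural_left, IsIso.inv_hom_id_assoc]
  have hfaith : F.Faithful := by
    refine ⟨fun {X Y} φ ψ h => ?_⟩
    have := (hC X).2
    obtain ⟨a, ha⟩ := (tensorRight X).map_surjective ((λ_ X).hom ≫ (φ ≫ inv ψ) ≫ (λ_ X).inv)
    have ha' : a ▷ X = (λ_ X).hom ≫ (φ ≫ inv ψ) ≫ (λ_ X).inv := ha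
    have hFα : F.map (φ ≫ inv ψ) = 𝟙 _ := by
      rw [F.map_comp, F.map_inv, h, IsIso.hom_inv_id]
    have h2 : F.map (a ▷ X) = 𝟙 _ := by
      rw [ha', F.map_comp, F.map_comp, hFα, Category.id_comp, ← F.map_comp, Iso.hom_inv_id,
        F.map_id]
    have h3 : F.map a ▷ F.obj X = 𝟙 _ := by
      have h := hμ X a
      rw [h2] at h
      have h' : Functor.LaxMonoidal.μ F (𝟙_ C) X =
          (F.map a ▷ F.obj X) ≫ Functor.LaxMonoidal.μ F (𝟙_ C) X := by
        have := congrArg (fun t => Functor.LaxMonoidal.μ F (𝟙_ C) X ≫ t) h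
        simpa using this
      exact (cancel_mono (Functor.LaxMonoidal.μ F (𝟙_ C) X)).mp (by rw [← h', Category.id_comp])
    have := (hD (F.obj X)).2
    have h4 : F.map a = 𝟙 _ := by
      apply (tensorRight (F.obj X)).map_injective
      rw [Functor.map_id]
      exact h3
    have h5 : a = 𝟙 _ := h1.1 (by
      change F.map a = F.map (𝟙 _)
      rw [h4, F.map_id])
    rw [h5, id_whiskerRight] at ha'
    have h6 : φ ≫ inv ψ = 𝟙 X := by
      have := congrArg (fun t => (λ_ X).inv ≫ t ≫ (λ_ X).hom) ha'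
      simpa using this.symm
    have := congrArg (fun t => t ≫ ψ) h6
    simpa using this
  have hfull : F.Full := by
    refine ⟨fun {X Y} g => ?_⟩
    obtain ⟨φ₀⟩ := h0 X Y ⟨asIso g⟩
    have := (hD (F.obj X)).2
    obtain ⟨b, hb⟩ := (tensorRight (F.obj X)).map_surjective
      (Functor.LaxMonoidal.μ F (𝟙_ C) X ≫ F.map (λ_ X).hom ≫ (g ≫ inv (F.map φ₀.hom)) ≫
        F.map (λ_ X).inv ≫ inv (Functor.LaxMonoidal.μ F (𝟙_ C) X))
    have hb' : b ▷ F.obj X = Functor.LaxMonoidal.μ F (𝟙_ C) X ≫ F.map (λ_ X).hom ≫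
        (g ≫ inv (F.map φ₀.hom)) ≫ F.map (λ_ X).inv ≫ inv (Functor.LaxMonoidal.μ F (𝟙_ C) X) := hb
    obtain ⟨a, ha⟩ := h1.2 b
    have ha' : F.map a = b := ha
    refine ⟨((λ_ X).inv ≫ (a ▷ X) ≫ (λ_ X).hom) ≫ φ₀.hom, ?_⟩
    rw [F.map_comp, F.map_comp, F.map_comp, hμ, ha', hb']
    simp only [Category.assoc, IsIso.inv_hom_id, IsIso.inv_hom_id_assoc, Category.comp_id]
    rw [← F.map_comp_assoc, Iso.inv_hom_id, F.map_id, Category.id_comp, ← F.map_comp_assoc]
    simp
  exact { faithful := hfaith, full := hfull, essSurj := inferInstance }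

end Groth.Agent.S15285
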