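import Groth.Statements.S15286

set_option autoImplicit false
universe v v' u u'
open PicCat

namespace Groth.Agent.S15286

open CategoryTheory MonoidalCategory

section act

variable {D : Type u'} [Category.{v'} D] [MonoidalCategory D]

/-- the action of an endomorphism of the unit on an object. -/
def act (c : 𝟙_ D ⟶ 𝟙_ D) (Z : D) : Z ⟶ Z := (λ_ Z).inv ≫ (c ▷ Z) ≫ (λ_ Z).hom

theorem act_naturality (c : 𝟙_ D ⟶ 𝟙_ D) {Z Z' : D} (f : Z ⟶ Z') : act c Z ≫ f = f ≫ act c Z' := by
  unfold act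
  rw [Category.assoc, Category.assoc, ← leftUnitor_naturality, ← whisker_exchange_assoc,
    ← leftUnitor_inv_naturality_assoc]

theorem act_comp (c c' : 𝟙_ D ⟶ 𝟙_ D) (Z : D) : act (c ≫ c') Z = act c Z ≫ act c' Z := by
  unfold act
  simp

theorem act_id (Z : D) : act (𝟙 (𝟙_ D)) Z = 𝟙 Z := by
  unfold act
  simp

theorem act_whiskerRight (c : 𝟙_ D ⟶ 𝟙_ D) (Z Z' : D) : act c (Z ⊗ Z') = act c Z ▷ Z' := by
  unfold act
  simp

theorem act_whiskerLeft [BraidedCategory D] (c : 𝟙_ D ⟶ 𝟙_ D) (Z Z' : D) :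
    act c (Z ⊗ Z') = Z ◁ act c Z' := by
  have h1 : act c (Z ⊗ Z') = (β_ Z Z').hom ≫ act c (Z' ⊗ Z) ≫ (β_ Z Z').inv := by
    rw [← Category.assoc, ← act_naturality, Category.assoc, Iso.hom_inv_id, Category.comp_id]
  rw [h1, act_whiskerRight, ← BraidedCategory.braiding_naturality_right_assoc, Iso.hom_inv_id,
    Category.comp_id]

theorem act_tensor [BraidedCategory D] (c c' : 𝟙_ D ⟶ 𝟙_ D) (Z Z' : D) :
    act c Z ⊗ₘ act c' Z' = act (c ≫ c') (Z ⊗ Z') := by
  rw [tensorHom_def, act_comp, act_whiskerRight, act_whiskerLeft]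

theorem act_injective (Z : D) [(tensorRight Z).Faithful] {c c' : 𝟙_ D ⟶ 𝟙_ D}
    (h : act c Z = act c' Z) : c = c' := by
  apply (tensorRight Z).map_injective
  change c ▷ Z = c' ▷ Z
  unfold act at h
  have := congrArg (fun t => (λ_ Z).hom ≫ t ≫ (λ_ Z).inv) h
  simpa using this

theorem act_surjective (Z : D) [(tensorRight Z).Full] (δ : Z ⟶ Z) : ∃ c, act c Z = δ := by
  obtain ⟨c, hc⟩ := (tensorRight Z).map_surjective ((λ_ Z).hom ≫ δ ≫ (λ_ Z).inv)
  have hc' : c ▷ Z = (λ_ Z).hom ≫ δ ≫ (λ_ Z).inv := hc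
  refine ⟨c, ?_⟩
  unfold act
  rw [hc']
  simp

end act

open CategoryTheory MonoidalCategory in
/-- Let C be a Picard category, D a commutative (braided) Picard category, F, G : C ⥤ D lax monoidal
functors and θ₀ : F ⟶ G a monoidal natural transformation. Identify an endomorphism φ of the unit of
D with the automorphism λ⁻¹ ≫ (φ ▷ Z) ≫ λ of any object Z. Then the monoidal natural transformations
F ⟶ G form a torsor under the monoid homomorphisms χ from the monoid of isomorphism classes of C to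
End(𝟙_D): every monoidal θ : F ⟶ G is X ↦ θ₀_X ≫ (action of χ[X] on G X) for a unique such χ, and
for every χ this formula defines a monoidal natural transformation. (The published statement allows
D non-commutative; for a non-braided monoidal groupoid the classes so obtained are crossed rather
than plain homomorphisms, so D is taken braided here.) -/
theorem result
    {C : Type u} [Category.{v} C] [MonoidalCategory C] [IsGroupoid C]
    {D : Type u'} [Category.{v'} D] [MonoidalCategory D] [BraidedCategory D] [IsGroupoid D]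
    (hC : ∀ X : C, (tensorLeft X).IsEquivalence ∧ (tensorRight X).IsEquivalence)
    (hD : ∀ X : D, (tensorLeft X).IsEquivalence ∧ (tensorRight X).IsEquivalence)
    (F G : C ⥤ D) [F.LaxMonoidal] [G.LaxMonoidal] (θ₀ : F ⟶ G) [NatTrans.IsMonoidal θ₀] :
    (∀ θ : F ⟶ G, NatTrans.IsMonoidal θ →
      ∃! χ : Skeleton C →* End (𝟙_ D), ∀ X : C,
        θ.app X = θ₀.app X ≫ (λ_ (G.obj X)).inv ≫
          ((χ (toSkeleton X) : 𝟙_ D ⟶ 𝟙_ D) ▷ G.obj X) ≫ (λ_ (G.obj X)).hom) ∧
    (∀ χ : Skeleton C →* End (𝟙_ D), ∃ θ : F ⟶ G, NatTrans.IsMonoidal θ ∧ ∀ X : C,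
        θ.app X = θ₀.app X ≫ (λ_ (G.obj X)).inv ≫
          ((χ (toSkeleton X) : 𝟙_ D ⟶ 𝟙_ D) ▷ G.obj X) ≫ (λ_ (G.obj X)).hom) := by
  have hfaithD : ∀ Z : D, (tensorRight Z).Faithful := fun Z => by
    have := (hD Z).2
    infer_instance
  have hfullD : ∀ Z : D, (tensorRight Z).Full := fun Z => by
    have := (hD Z).2
    infer_instance
  have comm : ∀ a b : 𝟙_ D ⟶ 𝟙_ D, a ≫ b = b ≫ a := by
    intro a b
    have := hfaithD (𝟙_ D)
    apply act_injective (𝟙_ D)
    rw [act_comp, act_comp, act_naturality]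
  constructor
  · intro θ hθ
    have hc : ∀ X : C, ∃ c : 𝟙_ D ⟶ 𝟙_ D, θ.app X = θ₀.app X ≫ act c (G.obj X) := by
      intro X
      have := hfullD (G.obj X)
      obtain ⟨c, hc⟩ := act_surjective (G.obj X) (inv (θ₀.app X) ≫ θ.app X)
      exact ⟨c, by rw [hc, IsIso.hom_inv_id_assoc]⟩
    choose c hc using hc
    have c_iso : ∀ {X Y : C} (φ : X ⟶ Y), c X = c Y := by
      intro X Y φ
      have := hfaithD (G.obj Y)
      apply act_injective (G.obj Y)
      have n := θ.naturality φ
      have n₀ := θ₀.naturality φ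
      rw [hc X, hc Y] at n
      have key : (F.map φ ≫ θ₀.app Y) ≫ act (c X) (G.obj Y) =
          (F.map φ ≫ θ₀.app Y) ≫ act (c Y) (G.obj Y) := by
        calc (F.map φ ≫ θ₀.app Y) ≫ act (c X) (G.obj Y)
            = (θ₀.app X ≫ G.map φ) ≫ act (c X) (G.obj Y) := by rw [n₀]
          _ = θ₀.app X ≫ (act (c X) (G.obj X) ≫ G.map φ) := by
              rw [Category.assoc, act_naturality]
          _ = (θ₀.app X ≫ act (c X) (G.obj X)) ≫ G.map φ := (Category.assoc _ _ _).symm
          _ = F.map φ ≫ θ₀.app Y ≫ act (c Y) (G.obj Y) := n.symm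
          _ = (F.map φ ≫ θ₀.app Y) ≫ act (c Y) (G.obj Y) := (Category.assoc _ _ _).symm
      exact (cancel_epi (F.map φ ≫ θ₀.app Y)).mp key
    have c_one : c (𝟙_ C) = 𝟙 _ := by
      have := hfaithD (G.obj (𝟙_ C))
      apply act_injective (G.obj (𝟙_ C))
      rw [act_id]
      have u := NatTrans.IsMonoidal.unit (τ := θ)
      have u₀ := NatTrans.IsMonoidal.unit (τ := θ₀)
      rw [hc, ← Category.assoc, u₀] at u
      exact (cancel_epi (Functor.LaxMonoidal.ε G)).mp (by rw [u, Category.comp_id])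
    have c_mul : ∀ X Y : C, c (X ⊗ Y) = c X ≫ c Y := by
      intro X Y
      have := hfaithD (G.obj (X ⊗ Y))
      apply act_injective (G.obj (X ⊗ Y))
      have t := NatTrans.IsMonoidal.tensor (τ := θ) X Y
      have t₀ := NatTrans.IsMonoidal.tensor (τ := θ₀) X Y
      rw [hc X, hc Y, hc (X ⊗ Y), ← tensorHom_comp_tensorHom, act_tensor, Category.assoc,
        act_naturality, ← Category.assoc (θ₀.app X ⊗ₘ θ₀.app Y), ← t₀, Category.assoc] at t
      exact (cancel_epi (Functor.LaxMonoidal.μ F X Y ≫ θ₀.app (X ⊗ Y))).mp (by simpa using t)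
    let χ : Skeleton C →* End (𝟙_ D) :=
      { toFun := fun s => c ((fromSkeleton C).obj s)
        map_one' := by
          change c ((fromSkeleton C).obj (toSkeleton (𝟙_ C))) = 𝟙 _
          rw [c_iso (fromSkeletonToSkeletonIso (𝟙_ C)).hom, c_one]
        map_mul' := fun s t => by
          change c ((fromSkeleton C).obj (toSkeleton (((fromSkeleton C).obj s) ⊗
            ((fromSkeleton C).obj t)))) = c ((fromSkeleton C).obj t) ≫ c ((fromSkeleton C).obj s)
          rw [c_iso (fromSkeletonToSkeletonIso _).hom, c_mul, comm] }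
    have hχ : ∀ X, χ (toSkeleton X) = c X := fun X => c_iso (fromSkeletonToSkeletonIso X).hom
    refine ⟨χ, fun X => ?_, fun χ' hχ' => ?_⟩
    · rw [hχ]
      exact hc X
    · apply MonoidHom.ext
      intro s
      have hs : toSkeleton ((fromSkeleton C).obj s) = s := toSkeleton_fromSkeleton_obj s
      rw [← hs, hχ]
      have := hfaithD (G.obj ((fromSkeleton C).obj s))
      apply act_injective (G.obj ((fromSkeleton C).obj s))
      have e1 := hχ' ((fromSkeleton C).obj s)
      have e2 := hc ((fromSkeleton C).obj s)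
      rw [e2] at e1
      exact ((cancel_epi (θ₀.app _)).mp e1).symm
  · intro χ
    have hiso : ∀ {X Y : C} (φ : X ⟶ Y), toSkeleton X = toSkeleton Y :=
      fun φ => congr_toSkeleton_of_iso (asIso φ)
    let θ : F ⟶ G :=
      { app := fun X => θ₀.app X ≫ act (χ (toSkeleton X)) (G.obj X)
        naturality := fun X Y φ => by
          rw [← Category.assoc, θ₀.naturality φ, Category.assoc, Category.assoc, hiso φ,
            act_naturality] }
    have hθ : NatTrans.IsMonoidal θ :=
      { unit := by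
          change Functor.LaxMonoidal.ε F ≫ θ₀.app (𝟙_ C) ≫
            act (χ (toSkeleton (𝟙_ C))) (G.obj (𝟙_ C)) = Functor.LaxMonoidal.ε G
          have h1 : χ (toSkeleton (𝟙_ C)) = 𝟙 (𝟙_ D) := by
            rw [← Skeleton.one_eq, map_one]
            rfl
          rw [h1, act_id, Category.comp_id]
          exact NatTrans.IsMonoidal.unit
        tensor := fun X Y => by
          change Functor.LaxMonoidal.μ F X Y ≫ θ₀.app (X ⊗ Y) ≫
            act (χ (toSkeleton (X ⊗ Y))) (G.obj (X ⊗ Y)) =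
            ((θ₀.app X ≫ act (χ (toSkeleton X)) (G.obj X)) ⊗ₘ
              (θ₀.app Y ≫ act (χ (toSkeleton Y)) (G.obj Y))) ≫ Functor.LaxMonoidal.μ G X Y
          have h2 : (χ (toSkeleton (X ⊗ Y)) : 𝟙_ D ⟶ 𝟙_ D) =
              (χ (toSkeleton X) : 𝟙_ D ⟶ 𝟙_ D) ≫ (χ (toSkeleton Y) : 𝟙_ D ⟶ 𝟙_ D) := by
            rw [Skeleton.toSkeleton_tensorObj, map_mul, End.mul_def, comm]
          rw [h2, ← tensorHom_comp_tensorHom, act_tensor, Category.assoc, act_naturality,
            ← Category.assoc, ← Category.assoc, NatTrans.IsMonoidal.tensor] }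
    exact ⟨θ, hθ, fun X => rfl⟩

end Groth.Agent.S15286
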