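import Groth.Statements.S15287
import Groth.Agent.H18.FinPtsTwist
import Groth.Agent.H18.TensorAssoc

open Groth.Agent.H18 Groth.Agent.H18.TensorGen Groth.Agent.H18.TensorPowIso

set_option autoImplicit false
universe u
open CategoryTheory AlgebraicGeometry
open PicF

namespace Groth.Agent.S15287

/-- Let Y be a scheme proper over a field k carrying an ample invertible O_Y-module A, let L be an
invertible O_Y-module and y_1, …, y_m finitely many points of Y. Then there is N₀ such that for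
every N ≥ N₀ the module L ⊗ A^{⊗ N} has a global section generating it at every y_i (each y_i lies
in the largest open over which the section is a basis). (The published statement takes Y projective
over k and A very ample; this row takes Y proper over k and A ample.) -/
theorem result
    (k : Type u) [Field k] (Y : Scheme.{u}) (f : Y ⟶ Spec (CommRingCat.of k)) [IsProper f]
    (A : Y.Modules) (hA : CohB1.IsAmple A) (L : Y.Modules) (hL : PicF.IsInvertible L)
    (ι : Type) [Finite ι] (y : ι → ↥Y) :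
    ∃ N₀ : ℕ, ∀ N : ℕ, N₀ ≤ N →
      ∃ s : Coh.structureModule Y ⟶ CohB1.tensorMod L (CohB1.tensorPow A N),
        ∀ i : ι, y i ∈ CohB1.genLocus (CohB1.tensorMod L (CohB1.tensorPow A N)) s := by
  have hinv := hA.1
  have hc : CompactSpace Y := hA.2.1
  have hqs := AmpleBasis.quasiSeparatedSpace_of_isAmple hA
  obtain ⟨n₁, t, hPt, -, haff⟩ := FinPtsAmple.exists_pow_section_affine_of_finite hA ⊤
    (Set.range y) (Set.finite_range y) (fun _ _ => trivial)
  have hd := isInvertible_tensorPow hinv (n₁ + 1)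
  have hex : ∀ r : ℕ, ∃ N : ℕ, ∀ m : ℕ, N ≤ m →
      ∃ σ : Coh.structureModule Y ⟶ CohB1.tensorMod (CohB1.tensorMod L (CohB1.tensorPow A r))
        (CohB1.tensorPow (CohB1.tensorPow A (n₁ + 1)) m),
        Set.range y ⊆ CohB1.genLocus _ σ :=
    fun r => FinPtsTwist.exists_sections_twists hd t haff
      (isInvertible_tensorMod hL (isInvertible_tensorPow hinv r)) _ (Set.finite_range y) hPt
  choose Nr hNr using hex
  refine ⟨(n₁ + 1) * (Finset.range (n₁ + 1)).sup Nr, fun N hN => ?_⟩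
  have hr : N % (n₁ + 1) < n₁ + 1 := Nat.mod_lt _ (Nat.succ_pos _)
  have hm : Nr (N % (n₁ + 1)) ≤ N / (n₁ + 1) := by
    have h1 : Nr (N % (n₁ + 1)) ≤ (Finset.range (n₁ + 1)).sup Nr :=
      Finset.le_sup (Finset.mem_range.mpr hr)
    have h2 : (Finset.range (n₁ + 1)).sup Nr ≤ N / (n₁ + 1) :=
      (Nat.le_div_iff_mul_le (Nat.succ_pos _)).mpr (by rw [mul_comm]; exact hN)
    exact h1.trans h2
  obtain ⟨σ, hσ⟩ := hNr (N % (n₁ + 1)) (N / (n₁ + 1)) hm
  obtain ⟨a1⟩ := TensorAssoc.nonempty_tensorMod_assoc L (CohB1.tensorPow A (N % (n₁ + 1)))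
    (CohB1.tensorPow (CohB1.tensorPow A (n₁ + 1)) (N / (n₁ + 1)))
    (isInvertible_tensorPow hinv _) (isInvertible_tensorPow hd _)
  obtain ⟨e₁⟩ := nonempty_tensorPow_tensorPow hinv (n₁ + 1) (N / (n₁ + 1))
  obtain ⟨e₂⟩ := TensorModIso.nonempty_tensorMod_congr
    (Iso.refl (CohB1.tensorPow A (N % (n₁ + 1)))) e₁
  obtain ⟨e₃⟩ := nonempty_tensorPow_add hinv (N % (n₁ + 1)) ((n₁ + 1) * (N / (n₁ + 1)))
  obtain ⟨c⟩ := nonempty_tensorPow_congr A (Nat.mod_add_div N (n₁ + 1))
  obtain ⟨φ⟩ := TensorModIso.nonempty_tensorMod_congr (Iso.refl L) (e₂ ≪≫ e₃ ≪≫ c)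
  refine ⟨σ ≫ (a1 ≪≫ φ).hom, fun i => ?_⟩
  rw [TwistAmple.genLocus_comp_iso]
  exact hσ ⟨i, rfl⟩

end Groth.Agent.S15287
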