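import Groth.Statements.S15295
import Groth.Agent.H76.DeRhamGen
import Groth.Agent.H76.ExtPowBaseChange
-- import your own Groth.Agent.* helpers here

set_option autoImplicit false
universe u
open DeRham

namespace Groth.Agent.S15295

open exteriorPower TensorProduct in
/-- The de Rham complex commutes with base change. Let R → A and R → S be ring maps and B = S ⊗_R A (an
R-algebra over A and S with the pushout property), and let ψ be the induced map of de Rham complexes
from the p-forms of A over R to the p-forms of B over S (additive maps sending b₀ db₁ ∧ … ∧ db_p to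
g(b₀) d(g b₁) ∧ … ∧ d(g b_p), g : A → B the structure map). Then in each degree p the S-linear
extension S ⊗_R ⋀^p Ω_{A/R} → ⋀^p Ω_{B/S}, s ⊗ x ↦ s · ψ_p(x), is bijective. (This row states the
degreewise bijectivity, with the base change written S ⊗_R − rather than − ⊗_R S; the compatibility
of ψ with the differentials, which makes this an isomorphism of complexes, holds for any square of
ring maps.) -/
theorem result (R S A B : Type u) [CommRing R] [CommRing S] [CommRing A] [CommRing B]
    [Algebra R S] [Algebra R A] [Algebra R B] [Algebra A B] [Algebra S B]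
    [IsScalarTower R A B] [IsScalarTower R S B] [Algebra.IsPushout R S A B]
    (ψ : ∀ p : ℕ, ↥(⋀[A]^p (Ω[A⁄R])) →+ ↥(⋀[B]^p (Ω[B⁄S])))
    (hψ : DeRham.IsCxMap (KaehlerDifferential.D R A) (KaehlerDifferential.D S B) (algebraMap A B) ψ)
    (p : ℕ) (Φ : S ⊗[R] ↥(⋀[A]^p (Ω[A⁄R])) →+ ↥(⋀[B]^p (Ω[B⁄S])))
    (hΦ : ∀ (s : S) (x : ↥(⋀[A]^p (Ω[A⁄R]))), Φ (s ⊗ₜ[R] x) = s • ψ p x) :
    Function.Bijective Φ := by
  classical
  have hα : Function.Bijective (Groth.Agent.H76.extPowBC A B (Ω[A⁄R]) p) :=
    Groth.Agent.H76.extPowBC_bijective A B (Ω[A⁄R]) p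
  have hμ : Function.Bijective
      (exteriorPower.map p (KaehlerDifferential.tensorKaehlerEquiv R S A B).toLinearMap) := by
    refine Function.bijective_iff_has_inverse.2
      ⟨exteriorPower.map p (KaehlerDifferential.tensorKaehlerEquiv R S A B).symm.toLinearMap,
        fun x => ?_, fun x => ?_⟩
    · rw [← LinearMap.comp_apply, ← exteriorPower.map_comp]
      have : (KaehlerDifferential.tensorKaehlerEquiv R S A B).symm.toLinearMap ∘ₗ
          (KaehlerDifferential.tensorKaehlerEquiv R S A B).toLinearMap = LinearMap.id :=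
        LinearMap.ext fun z => (KaehlerDifferential.tensorKaehlerEquiv R S A B).symm_apply_apply z
      rw [this, exteriorPower.map_id, LinearMap.id_apply]
    · rw [← LinearMap.comp_apply, ← exteriorPower.map_comp]
      have : (KaehlerDifferential.tensorKaehlerEquiv R S A B).toLinearMap ∘ₗ
          (KaehlerDifferential.tensorKaehlerEquiv R S A B).symm.toLinearMap = LinearMap.id :=
        LinearMap.ext fun z => (KaehlerDifferential.tensorKaehlerEquiv R S A B).apply_symm_apply z
      rw [this, exteriorPower.map_id, LinearMap.id_apply]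
  let Ψ : S ⊗[R] ↥(⋀[A]^p (Ω[A⁄R])) → ↥(⋀[B]^p (Ω[B⁄S])) := fun z =>
    exteriorPower.map p (KaehlerDifferential.tensorKaehlerEquiv R S A B).toLinearMap
      (Groth.Agent.H76.extPowBC A B (Ω[A⁄R]) p
        ((Algebra.IsPushout.cancelBaseChange R S A B ↥(⋀[A]^p (Ω[A⁄R]))).symm z))
  have hΨbij : Function.Bijective Ψ :=
    hμ.comp (hα.comp (Algebra.IsPushout.cancelBaseChange R S A B
      ↥(⋀[A]^p (Ω[A⁄R]))).symm.bijective)
  have hΨadd : ∀ z w, Ψ (z + w) = Ψ z + Ψ w := fun z w => by simp only [Ψ, map_add]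
  have hΨ0 : Ψ 0 = 0 := by simp only [Ψ, map_zero]
  have hΨtmul : ∀ (s : S) (x : ↥(⋀[A]^p (Ω[A⁄R]))), Ψ (s ⊗ₜ[R] x) = s • ψ p x := by
    intro s x
    refine Groth.Agent.H76.gen_induction p (fun x => Ψ (s ⊗ₜ[R] x) = s • ψ p x) ?_ ?_ ?_ x
    · show Ψ (s ⊗ₜ[R] (0 : ↥(⋀[A]^p (Ω[A⁄R])))) = s • ψ p 0
      rw [TensorProduct.tmul_zero, hΨ0, map_zero, smul_zero]
    · intro x y hx hy
      show Ψ (s ⊗ₜ[R] (x + y)) = s • ψ p (x + y)
      rw [TensorProduct.tmul_add, hΨadd, hx, hy, map_add, smul_add]
    · intro b₀ b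
      show exteriorPower.map p (KaehlerDifferential.tensorKaehlerEquiv R S A B).toLinearMap
        (Groth.Agent.H76.extPowBC A B (Ω[A⁄R]) p
          ((Algebra.IsPushout.cancelBaseChange R S A B ↥(⋀[A]^p (Ω[A⁄R]))).symm
            (s ⊗ₜ[R] DeRham.gen (KaehlerDifferential.D R A) p b₀ b))) =
        s • ψ p (DeRham.gen (KaehlerDifferential.D R A) p b₀ b)
      rw [hψ p b₀ b, Algebra.IsPushout.cancelBaseChange_symm_tmul,
        Groth.Agent.H76.extPowBC_tmul]
      unfold DeRham.gen
      have e0 : Groth.Agent.H76.extPowToBaseChange A B (Ω[A⁄R]) p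
          (b₀ • ιMulti A p (fun i => KaehlerDifferential.D R A (b i))) =
          algebraMap A B b₀ • ιMulti B p
            (fun i => (1 : B) ⊗ₜ[A] KaehlerDifferential.D R A (b i)) := by
        rw [map_smul, Groth.Agent.H76.extPowToBaseChange_ιMulti, algebraMap_smul]
      rw [e0, map_smul, map_smul, exteriorPower.map_apply_ιMulti, algebraMap_smul]
      congr 3
      funext i
      show KaehlerDifferential.tensorKaehlerEquiv R S A B
        ((1 : B) ⊗ₜ[A] KaehlerDifferential.D R A (b i)) = _
      rw [KaehlerDifferential.tensorKaehlerEquiv_tmul_D, one_smul]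
  have hall : ∀ z, Φ z = Ψ z := by
    intro z
    induction z using TensorProduct.induction_on with
    | zero => rw [map_zero, hΨ0]
    | tmul s x => rw [hΦ, hΨtmul]
    | add z w hz hw => rw [map_add, hΨadd, hz, hw]
  have hfun : (Φ : S ⊗[R] ↥(⋀[A]^p (Ω[A⁄R])) → ↥(⋀[B]^p (Ω[B⁄S]))) = Ψ := funext hall
  rw [hfun]
  exact hΨbij

end Groth.Agent.S15295
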