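import Groth.Statements.S15296
import Groth.Agent.H76.DeRhamGen
import Groth.Agent.H76.ExtPowKer
-- import your own Groth.Agent.* helpers here

set_option autoImplicit false
universe u
open DeRham

namespace Groth.Agent.S15296

open exteriorPower Groth.Agent.H76

section
variable {R A : Type u} [CommRing R] [CommRing A] [Algebra R A]
  (dA : ∀ p : ℕ, ↥(⋀[A]^p (Ω[A⁄R])) →ₗ[R] ↥(⋀[A]^(p + 1) (Ω[A⁄R])))
  (hR : DeRham.IsRule (KaehlerDifferential.D R A) dA)

include hR in
lemma leibniz (p : ℕ) (x : ↥(⋀[A]^p (Ω[A⁄R]))) : ∀ (a : A),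
    ((dA p (a • x) : ↥(⋀[A]^(p + 1) (Ω[A⁄R]))) : ExteriorAlgebra A (Ω[A⁄R])) =
      ExteriorAlgebra.ι A (KaehlerDifferential.D R A a) * (x : ExteriorAlgebra A (Ω[A⁄R])) +
        a • ((dA p x : ↥(⋀[A]^(p + 1) (Ω[A⁄R]))) : ExteriorAlgebra A (Ω[A⁄R])) := by
  refine gen_induction p (fun x => ∀ (a : A),
    ((dA p (a • x) : ↥(⋀[A]^(p + 1) (Ω[A⁄R]))) : ExteriorAlgebra A (Ω[A⁄R])) =
      ExteriorAlgebra.ι A (KaehlerDifferential.D R A a) * (x : ExteriorAlgebra A (Ω[A⁄R])) +
        a • ((dA p x : ↥(⋀[A]^(p + 1) (Ω[A⁄R]))) : ExteriorAlgebra A (Ω[A⁄R]))) ?_ ?_ ?_ x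
  · intro a
    simp
  · intro x y hx hy a
    rw [smul_add, map_add, map_add, Submodule.coe_add, Submodule.coe_add, Submodule.coe_add,
      hx a, hy a, mul_add, smul_add]
    abel
  · intro b₀ b a
    have e1 : a • DeRham.gen (KaehlerDifferential.D R A) p b₀ b =
        DeRham.gen (KaehlerDifferential.D R A) p (a * b₀) b := by
      unfold DeRham.gen; rw [smul_smul]
    have e2 : ((DeRham.gen (KaehlerDifferential.D R A) p b₀ b : ↥(⋀[A]^p (Ω[A⁄R]))) :
        ExteriorAlgebra A (Ω[A⁄R])) =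
        b₀ • ExteriorAlgebra.ιMulti A p (fun i => KaehlerDifferential.D R A (b i)) := by
      unfold DeRham.gen; rw [Submodule.coe_smul, ιMulti_apply_coe]
    rw [e1, hR p (a * b₀) b, hR p b₀ b, coe_ιMulti_cons, coe_ιMulti_cons, e2, Derivation.leibniz,
      map_add, map_smul, map_smul, add_mul, smul_mul_assoc, smul_mul_assoc, mul_smul_comm]
    exact add_comm _ _

include hR in
lemma d_cons (p : ℕ) (b : Fin p → A) (ω : Ω[A⁄R]) :
    ((dA (p + 1) (ιMulti A (p + 1) (Fin.cons ω (fun i => KaehlerDifferential.D R A (b i)) :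
        Fin (p + 1) → Ω[A⁄R])) : ↥(⋀[A]^(p + 1 + 1) (Ω[A⁄R]))) : ExteriorAlgebra A (Ω[A⁄R])) =
      ((dA 1 ((oneEquiv A (Ω[A⁄R])).symm ω) : ↥(⋀[A]^(1 + 1) (Ω[A⁄R]))) :
          ExteriorAlgebra A (Ω[A⁄R])) *
        ExteriorAlgebra.ιMulti A p (fun i => KaehlerDifferential.D R A (b i)) := by
  have hω : ω ∈ Submodule.span A (Set.range (KaehlerDifferential.D R A)) := by
    rw [KaehlerDifferential.span_range_derivation]; trivial
  induction hω using Submodule.span_induction with
  | mem y hy =>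
    obtain ⟨e, rfl⟩ := hy
    have h1 : dA (p + 1) (ιMulti A (p + 1) (Fin.cons (KaehlerDifferential.D R A e)
        (fun i => KaehlerDifferential.D R A (b i)) : Fin (p + 1) → Ω[A⁄R])) = 0 := by
      rw [ιMulti_cons_eq_gen, hR (p + 1) 1 (Fin.cons e b)]
      exact (ιMulti A (p + 1 + 1)).map_coord_zero 0
        (by rw [Fin.cons_zero, Derivation.map_one_eq_zero])
    have h2 : dA 1 ((oneEquiv A (Ω[A⁄R])).symm (KaehlerDifferential.D R A e)) = 0 := by
      have : (oneEquiv A (Ω[A⁄R])).symm (KaehlerDifferential.D R A e) =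
          DeRham.gen (KaehlerDifferential.D R A) 1 1 (fun _ => e) := by
        rw [oneEquiv_symm_eq]; unfold DeRham.gen; rw [one_smul]
      rw [this, hR 1 1 (fun _ => e)]
      exact (ιMulti A (1 + 1)).map_coord_zero 0
        (by rw [Fin.cons_zero, Derivation.map_one_eq_zero])
    rw [h1, h2]; simp
  | zero =>
    have h1 : ιMulti A (p + 1) (Fin.cons (0 : Ω[A⁄R])
        (fun i => KaehlerDifferential.D R A (b i)) : Fin (p + 1) → Ω[A⁄R]) = 0 :=
      (ιMulti A (p + 1)).map_coord_zero 0 (Fin.cons_zero _ _)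
    rw [h1, map_zero, map_zero, map_zero]; simp
  | add x y _ _ hx hy =>
    have e1 : ιMulti A (p + 1) (Fin.cons (x + y)
        (fun i => KaehlerDifferential.D R A (b i)) : Fin (p + 1) → Ω[A⁄R]) =
        ιMulti A (p + 1) (Fin.cons x (fun i => KaehlerDifferential.D R A (b i)) :
          Fin (p + 1) → Ω[A⁄R]) +
        ιMulti A (p + 1) (Fin.cons y (fun i => KaehlerDifferential.D R A (b i)) :
          Fin (p + 1) → Ω[A⁄R]) := by
      rw [← consLin_apply, map_add, consLin_apply, consLin_apply]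
    rw [e1, map_add, map_add, map_add, Submodule.coe_add, Submodule.coe_add, add_mul, hx, hy]
  | smul r x _ hx =>
    have e1 : ιMulti A (p + 1) (Fin.cons (r • x)
        (fun i => KaehlerDifferential.D R A (b i)) : Fin (p + 1) → Ω[A⁄R]) =
        r • ιMulti A (p + 1) (Fin.cons x (fun i => KaehlerDifferential.D R A (b i)) :
          Fin (p + 1) → Ω[A⁄R]) := by
      rw [← consLin_apply, map_smul, consLin_apply]
    have e2 : (oneEquiv A (Ω[A⁄R])).symm (r • x) = r • (oneEquiv A (Ω[A⁄R])).symm x :=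
      map_smul _ _ _
    rw [e1, e2, leibniz dA hR, leibniz dA hR, coe_ιMulti_cons, hx, coe_oneEquiv_symm, add_mul,
      smul_mul_assoc, mul_assoc]

include hR in
lemma map_d_smul_cons_eq_zero {Ω' : Type u} [AddCommGroup Ω'] [Module A Ω']
    (π : Ω[A⁄R] →ₗ[A] Ω') (p : ℕ) (b : Fin p → A) (ω : Ω[A⁄R]) (h1 : π ω = 0)
    (h2 : exteriorPower.map 2 π (dA 1 ((oneEquiv A (Ω[A⁄R])).symm ω)) = 0) (a : A) :
    exteriorPower.map (p + 1 + 1) π (dA (p + 1) (a • ιMulti A (p + 1)
      (Fin.cons ω (fun i => KaehlerDifferential.D R A (b i)) : Fin (p + 1) → Ω[A⁄R]))) = 0 := by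
  have key : ExteriorAlgebra.map π
      ((dA 1 ((oneEquiv A (Ω[A⁄R])).symm ω) : ↥(⋀[A]^(1 + 1) (Ω[A⁄R]))) :
        ExteriorAlgebra A (Ω[A⁄R])) = 0 := by
    rw [← coe_map (1 + 1) π]
    exact congrArg Subtype.val h2
  apply Subtype.ext
  rw [coe_map, leibniz dA hR, coe_ιMulti_cons, d_cons dA hR]
  simp only [map_add, map_mul, map_smul, ExteriorAlgebra.map_apply_ι, h1, key]
  simp

end


open exteriorPower in
/-- Let R → A be a ring map, π a surjective A-linear map from the Kähler differentials of A over R onto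
an A-module Ω', δ = π ∘ d the induced derivation A → Ω', and d_A a de Rham differential of the
Kähler differentials. Suppose the kernel of π is generated over A by elements ω with π(ω) = 0 whose
differential d_A(ω) is killed by the second exterior power of π. Then the exterior powers of Ω' over
A carry a de Rham differential for δ: a family of R-linear maps d from p-forms to (p+1)-forms with
d(f₀ δf₁ ∧ … ∧ δf_p) = δf₀ ∧ δf₁ ∧ … ∧ δf_p and d ∘ d = 0; moreover d is compatible with d_A through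
the exterior powers of π. -/
theorem result (R A Ω' : Type u) [CommRing R] [CommRing A] [Algebra R A]
    [AddCommGroup Ω'] [Module A Ω'] [Module R Ω'] [IsScalarTower R A Ω']
    (π : Ω[A⁄R] →ₗ[A] Ω') (hπ : Function.Surjective π)
    (dA : ∀ p : ℕ, ↥(⋀[A]^p (Ω[A⁄R])) →ₗ[R] ↥(⋀[A]^(p + 1) (Ω[A⁄R])))
    (hdA : DeRham.IsDiff (KaehlerDifferential.D R A) dA)
    (hker : LinearMap.ker π ≤ Submodule.span A {ω : Ω[A⁄R] | π ω = 0 ∧
      exteriorPower.map 2 π (dA 1 ((exteriorPower.oneEquiv A (Ω[A⁄R])).symm ω)) = 0}) :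
    ∃ d : ∀ p : ℕ, ↥(⋀[A]^p Ω') →ₗ[R] ↥(⋀[A]^(p + 1) Ω'),
      DeRham.IsDiff (π.compDer (KaehlerDifferential.D R A)) d ∧
        ∀ (p : ℕ) (x : ↥(⋀[A]^p (Ω[A⁄R]))),
          d p (exteriorPower.map p π x) = exteriorPower.map (p + 1) π (dA p x) := by
  obtain ⟨hR, hdd⟩ := hdA
  have hK : ∀ (p : ℕ) (x : ↥(⋀[A]^p (Ω[A⁄R]))), exteriorPower.map p π x = 0 →
      exteriorPower.map (p + 1) π (dA p x) = 0 := by
    intro p
    cases p with
    | zero =>
      intro x hx
      have h := LinearMap.congr_fun (zeroEquiv_naturality π) x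
      have h' : zeroEquiv A (Ω[A⁄R]) x = zeroEquiv A Ω' (exteriorPower.map 0 π x) := h.symm
      rw [hx, map_zero] at h'
      have h0 : x = 0 := (LinearEquiv.map_eq_zero_iff _).1 h'
      rw [h0, map_zero, map_zero]
    | succ p =>
      intro x hx
      have hx'' := ker_map_le_span p π hπ _ hker _
        (KaehlerDifferential.span_range_derivation R A) (LinearMap.mem_ker.2 hx)
      clear hx
      suffices h : ∀ r : A, exteriorPower.map (p + 1 + 1) π (dA (p + 1) (r • x)) = 0 by
        simpa using h 1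
      induction hx'' using Submodule.span_induction with
      | mem y hy =>
        obtain ⟨ω, ⟨hω1, hω2⟩, m, hm, rfl⟩ := hy
        intro r
        have hch : ∀ i, ∃ c : A, KaehlerDifferential.D R A c = m i := fun i => hm ⟨i, rfl⟩
        choose b hb using hch
        have : m = fun i => KaehlerDifferential.D R A (b i) := funext fun i => (hb i).symm
        rw [this]
        exact map_d_smul_cons_eq_zero dA hR π p b ω hω1 hω2 r
      | zero => intro r; simp
      | add y z _ _ hy hz => intro r; rw [smul_add, map_add, map_add, hy r, hz r, add_zero]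
      | smul s y _ hy => intro r; rw [smul_smul]; exact hy (r * s)
  have hsurj : ∀ p, Function.Surjective (exteriorPower.map p π) :=
    fun p => exteriorPower.map_surjective hπ
  have hex : ∀ p, ∃ dp : ↥(⋀[A]^p Ω') →ₗ[R] ↥(⋀[A]^(p + 1) Ω'),
      ∀ x, dp (exteriorPower.map p π x) = exteriorPower.map (p + 1) π (dA p x) := by
    intro p
    let f : ↥(⋀[A]^p (Ω[A⁄R])) →ₗ[R] ↥(⋀[A]^p Ω') := (exteriorPower.map p π).restrictScalars R
    have hf : Function.Surjective f := hsurj p
    let g : ↥(⋀[A]^p (Ω[A⁄R])) →ₗ[R] ↥(⋀[A]^(p + 1) Ω') :=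
      ((exteriorPower.map (p + 1) π).restrictScalars R) ∘ₗ dA p
    have hfg : LinearMap.ker f ≤ LinearMap.ker g :=
      fun x hx => LinearMap.mem_ker.2 (hK p x (LinearMap.mem_ker.1 hx))
    refine ⟨((LinearMap.ker f).liftQ g hfg) ∘ₗ (f.quotKerEquivOfSurjective hf).symm.toLinearMap,
      fun x => ?_⟩
    have h1 : (f.quotKerEquivOfSurjective hf).symm (f x) = Submodule.Quotient.mk x := by
      rw [LinearEquiv.symm_apply_eq, LinearMap.quotKerEquivOfSurjective_apply_mk]
    show (LinearMap.ker f).liftQ g hfg ((f.quotKerEquivOfSurjective hf).symm (f x)) = g x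
    rw [h1, Submodule.liftQ_apply]
  choose d hd using hex
  refine ⟨d, ⟨?_, ?_⟩, hd⟩
  · intro p b₀ b
    have e : DeRham.gen (π.compDer (KaehlerDifferential.D R A)) p b₀ b =
        exteriorPower.map p π (DeRham.gen (KaehlerDifferential.D R A) p b₀ b) := by
      unfold DeRham.gen
      rw [map_smul, exteriorPower.map_apply_ιMulti]
      rfl
    rw [e, hd, hR p b₀ b, exteriorPower.map_apply_ιMulti]
    congr 1
    funext i
    refine Fin.cases ?_ (fun j => ?_) i
    · rfl
    · rfl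
  · intro p
    refine LinearMap.ext fun y => ?_
    obtain ⟨x, rfl⟩ := hsurj p y
    have h := LinearMap.congr_fun (hdd p) x
    rw [LinearMap.comp_apply] at h
    rw [LinearMap.comp_apply, hd, hd, h, LinearMap.zero_apply, LinearMap.zero_apply, map_zero]

end Groth.Agent.S15296
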