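import Groth.Statements.S15297
import Groth.Agent.H76.DeRhamGen
-- import your own Groth.Agent.* helpers here

set_option autoImplicit false
universe u
open DeRham

namespace Groth.Agent.S15297

open exteriorPower in
/-- Let R → A be a ring map and d a de Rham differential of the Kähler differentials of A over R. Then
each d from p-forms to (p+1)-forms, an R-linear map between A-modules, is a differential operator of
order at most 1 relative to R → A: every commutator of d with multiplication by an element of A is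
A-linear. -/
theorem result (R A : Type u) [CommRing R] [CommRing A] [Algebra R A]
    (d : ∀ p : ℕ, ↥(⋀[A]^p (Ω[A⁄R])) →ₗ[R] ↥(⋀[A]^(p + 1) (Ω[A⁄R])))
    (hd : DeRham.IsDiff (KaehlerDifferential.D R A) d) (p : ℕ) :
    Diff16.IsDiffOpLE R A ↥(⋀[A]^p (Ω[A⁄R])) ↥(⋀[A]^(p + 1) (Ω[A⁄R])) 1 (d p) := by
  intro a
  -- key computation on generators
  have key : ∀ (b₀ : A) (β : Fin p → A),
      Diff16.commutator R A _ _ (d p) a (DeRham.gen (KaehlerDifferential.D R A) p b₀ β) =
        b₀ • ιMulti A (p + 1) (Fin.cons (KaehlerDifferential.D R A a)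
          (fun i => KaehlerDifferential.D R A (β i)) : Fin (p + 1) → Ω[A⁄R]) := by
    intro b₀ β
    have e1 : a • DeRham.gen (KaehlerDifferential.D R A) p b₀ β =
        DeRham.gen (KaehlerDifferential.D R A) p (a * b₀) β := by
      unfold DeRham.gen; rw [smul_smul]
    simp only [Diff16.commutator, LinearMap.sub_apply, LinearMap.comp_apply,
      LinearMap.restrictScalars_apply, LinearMap.lsmul_apply]
    rw [e1, hd.1 p (a * b₀) β, hd.1 p b₀ β, Derivation.leibniz]
    have h1 : ∀ (x y : Ω[A⁄R]) (m : Fin p → Ω[A⁄R]),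
        ιMulti A (p + 1) (Fin.cons (x + y) m : Fin (p + 1) → Ω[A⁄R]) =
          ιMulti A (p + 1) (Fin.cons x m : Fin (p + 1) → Ω[A⁄R]) +
            ιMulti A (p + 1) (Fin.cons y m : Fin (p + 1) → Ω[A⁄R]) :=
      fun x y m => (ιMulti A (p + 1)).toMultilinearMap.cons_add m x y
    have h2 : ∀ (r : A) (x : Ω[A⁄R]) (m : Fin p → Ω[A⁄R]),
        ιMulti A (p + 1) (Fin.cons (r • x) m : Fin (p + 1) → Ω[A⁄R]) =
          r • ιMulti A (p + 1) (Fin.cons x m : Fin (p + 1) → Ω[A⁄R]) :=
      fun r x m => (ιMulti A (p + 1)).toMultilinearMap.cons_smul m r x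
    rw [h1, h2, h2]
    abel
  intro c m
  refine Groth.Agent.H76.gen_induction p
    (fun m => ∀ c : A, Diff16.commutator R A _ _ (d p) a (c • m) =
      c • Diff16.commutator R A _ _ (d p) a m) ?_ ?_ ?_ m c
  · intro c; simp
  · intro x y hx hy c
    rw [smul_add, map_add, map_add, hx c, hy c, smul_add]
  · intro b₀ β c
    have e1 : c • DeRham.gen (KaehlerDifferential.D R A) p b₀ β =
        DeRham.gen (KaehlerDifferential.D R A) p (c * b₀) β := by
      unfold DeRham.gen; rw [smul_smul]
    rw [e1, key, key, smul_smul]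

end Groth.Agent.S15297
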