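import Groth.Statements.S15298
import Groth.Agent.H87.PowEval
import Mathlib.RingTheory.Smooth.AdicCompletion

set_option autoImplicit false
universe u
open CAlg

namespace Groth.Agent.S15298

/-- Let k be a field, A a Noetherian k-algebra and x a non-zero-divisor of A such that A is separated
and complete for the (x)-adic topology, and assume that B = A/xA is formally smooth over k. Then A
is a power series ring over B in the variable x: there is a k-algebra isomorphism e : B[[T]] ≅ A
with e(T) = x whose reduction modulo x is the constant-coefficient map, i.e. e(f) ≡ f(0) mod x for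
every power series f. -/
theorem result (k A : Type u) [Field k]
    [CommRing A] [Algebra k A] [IsNoetherianRing A] (x : A) (hx : x ∈ nonZeroDivisors A)
    [IsAdicComplete (Ideal.span {x}) A] [Algebra.FormallySmooth k (A ⧸ Ideal.span {x})] :
    ∃ e : PowerSeries (A ⧸ Ideal.span {x}) ≃ₐ[k] A,
      e PowerSeries.X = x ∧
      ∀ f : PowerSeries (A ⧸ Ideal.span {x}),
        Ideal.Quotient.mk (Ideal.span {x}) (e f) = PowerSeries.constantCoeff f := by
  classical
  set J : Ideal A := Ideal.span {x} with hJ
  obtain ⟨σ, hσ⟩ := Algebra.FormallySmooth.exists_mkₐ_comp_eq_of_isAdicComplete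
    (R := k) (A := A ⧸ J) (S := A) (I := J) (AlgHom.id k (A ⧸ J))
  have hσ' : ∀ b : A ⧸ J, Ideal.Quotient.mk J (σ b) = b := fun b => by
    have := congr($hσ b)
    simpa using this
  have hxJ : x ∈ J := Ideal.subset_span rfl
  obtain ⟨e, he1, he2⟩ := Groth.Agent.H87.PowEval.exists_evalₐ J σ x hxJ
  have hdec : ∀ f : PowerSeries (A ⧸ J),
      e f = e (PowerSeries.mk fun p => PowerSeries.coeff (p + 1) f) * x +
        σ (PowerSeries.constantCoeff f) := by
    intro f
    conv_lhs => rw [PowerSeries.eq_shift_mul_X_add_const f]
    rw [map_add, map_mul, he2, he1]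
  have hmk : ∀ f : PowerSeries (A ⧸ J),
      Ideal.Quotient.mk J (e f) = PowerSeries.constantCoeff f := by
    intro f
    rw [hdec f, map_add, map_mul, hσ', Ideal.Quotient.eq_zero_iff_mem.2 hxJ, mul_zero, zero_add]
  have hinj : ∀ (n : ℕ) (f : PowerSeries (A ⧸ J)), e f = 0 → PowerSeries.coeff n f = 0 := by
    intro n
    induction n with
    | zero =>
      intro f hf
      rw [PowerSeries.coeff_zero_eq_constantCoeff_apply, ← hmk f, hf, map_zero]
    | succ n ih =>
      intro f hf
      have h0 : PowerSeries.constantCoeff f = 0 := by rw [← hmk f, hf, map_zero]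
      have h1 := hdec f
      rw [hf, h0, map_zero, add_zero] at h1
      have h2 := (mul_right_mem_nonZeroDivisors_eq_zero_iff hx).1 h1.symm
      have h3 := ih _ h2
      rwa [PowerSeries.coeff_mk] at h3
  have hstep : ∀ a : A, ∃ c : A, c * x = a - σ (Ideal.Quotient.mk J a) := by
    intro a
    have : a - σ (Ideal.Quotient.mk J a) ∈ J := by
      rw [← Ideal.Quotient.eq_zero_iff_mem, map_sub, hσ', sub_self]
    exact Ideal.mem_span_singleton'.1 this
  choose step hstepx using hstep
  have happrox : ∀ (n : ℕ) (a : A),
      e (PowerSeries.mk fun i => Ideal.Quotient.mk J (step^[i] a)) - a ∈ J ^ n := by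
    intro n
    induction n with
    | zero => intro a; rw [pow_zero, Ideal.one_eq_top]; exact Submodule.mem_top
    | succ n ih =>
      intro a
      have h1 := hdec (PowerSeries.mk fun i => Ideal.Quotient.mk J (step^[i] a))
      have h2 : (PowerSeries.mk fun p => PowerSeries.coeff (p + 1)
          (PowerSeries.mk fun i => Ideal.Quotient.mk J (step^[i] a))) =
          PowerSeries.mk fun i => Ideal.Quotient.mk J (step^[i] (step a)) := by
        ext p
        rw [PowerSeries.coeff_mk, PowerSeries.coeff_mk, PowerSeries.coeff_mk,
          Function.iterate_succ_apply]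
      have h3 : PowerSeries.constantCoeff
          (PowerSeries.mk fun i => Ideal.Quotient.mk J (step^[i] a)) = Ideal.Quotient.mk J a := by
        rw [← PowerSeries.coeff_zero_eq_constantCoeff_apply, PowerSeries.coeff_mk]
        rfl
      rw [h2, h3] at h1
      have h4 : e (PowerSeries.mk fun i => Ideal.Quotient.mk J (step^[i] a)) - a =
          (e (PowerSeries.mk fun i => Ideal.Quotient.mk J (step^[i] (step a))) - step a) * x := by
        rw [h1, sub_mul, hstepx a]; ring
      rw [h4, pow_succ]
      exact Ideal.mul_mem_mul (ih (step a)) hxJ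
  have haus : ∀ z : A, (∀ n, z ∈ J ^ n) → z = 0 := fun z hz =>
    IsHausdorff.haus (inferInstance : IsHausdorff J A) z (fun n => by
      rw [SModEq.zero, smul_eq_mul, Ideal.mul_top]; exact hz n)
  have hbij : Function.Bijective e := by
    constructor
    · rw [injective_iff_map_eq_zero]
      intro f hf
      ext n
      rw [hinj n f hf, map_zero]
    · intro a
      exact ⟨_, sub_eq_zero.1 (haus _ (fun n => happrox n a))⟩
  exact ⟨AlgEquiv.ofBijective e hbij, he2, hmk⟩

end Groth.Agent.S15298
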