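import Groth.Statements.S15299
import Mathlib
-- import your own Groth.Agent.* helpers here

set_option autoImplicit false
universe u
open Omega

namespace Groth.Agent.S15299

open MvPolynomial

abbrev PP (k : Type u) [Field k] (n : ℕ) := MvPolynomial (Fin n) k
abbrev OO (k : Type u) [Field k] (n : ℕ) := KaehlerDifferential k (MvPolynomial (Fin n) k)
abbrev EE (k : Type u) [Field k] (n : ℕ) :=
  ExteriorAlgebra (MvPolynomial (Fin n) k) (KaehlerDifferential k (MvPolynomial (Fin n) k))
noncomputable abbrev LL (k : Type u) [Field k] (n : ℕ) (p : ℕ) : Submodule (PP k n) (EE k n) :=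
  ExteriorAlgebra.exteriorPower (MvPolynomial (Fin n) k) p
    (KaehlerDifferential k (MvPolynomial (Fin n) k))

section Helpers
variable {k : Type u} [Field k] {n : ℕ}

theorem der_sum_apply {ι : Type*} (s : Finset ι) (D : ι → Derivation k (PP k n) (PP k n))
    (a : PP k n) : (∑ i ∈ s, D i) a = ∑ i ∈ s, D i a := by
  classical
  induction s using Finset.induction_on with
  | empty => simp
  | insert i s hi ih => rw [Finset.sum_insert hi, Finset.sum_insert hi, Derivation.add_apply, ih]

/-- the Euler derivation `∑ xᵢ ∂ᵢ` -/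
noncomputable def eulD (k : Type u) [Field k] (n : ℕ) : Derivation k (PP k n) (PP k n) :=
  ∑ i : Fin n, (X i : PP k n) • (pderiv i : Derivation k (PP k n) (PP k n))

theorem eul_apply (a : PP k n) : eulD k n a = ∑ i : Fin n, X i * pderiv i a := by
  unfold eulD
  rw [der_sum_apply]
  rfl

/-- total degree of an exponent vector -/
def wt (m : Fin n →₀ ℕ) : ℕ := ∑ i, m i

theorem eul_monomial (m : Fin n →₀ ℕ) (r : k) :
    eulD k n (monomial m r) = ((wt m : ℕ) : k) • monomial m r := by
  rw [eul_apply]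
  simp_rw [X_mul_pderiv_monomial]
  rw [← Finset.sum_smul, Nat.cast_smul_eq_nsmul]
  rfl

theorem eul_X (j : Fin n) : eulD k n (X j) = X j := by
  classical
  rw [eul_apply]
  simp [pderiv_X, Pi.single_apply]

theorem coeff_eul (a : PP k n) (m : Fin n →₀ ℕ) :
    coeff m (eulD k n a) = ((wt m : ℕ) : k) * coeff m a := by
  classical
  refine MvPolynomial.induction_on' a ?_ ?_
  · intro m' r
    rw [eul_monomial, coeff_smul, coeff_monomial, smul_eq_mul]
    split_ifs with h
    · subst h; rfl
    · simp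
  · intro a b ha hb
    rw [map_add, coeff_add, coeff_add, ha, hb, mul_add]

theorem const_of_eul_eq_zero [CharZero k] (a : PP k n) (h : eulD k n a = 0) :
    ∃ c : k, a = C c := by
  classical
  refine ⟨coeff 0 a, ?_⟩
  ext m
  rw [coeff_C]
  split_ifs with hm
  · rw [← hm]
  · have h1 := coeff_eul a m
    rw [h, coeff_zero] at h1
    have h2 : ((wt m : ℕ) : k) ≠ 0 := by
      rw [Nat.cast_ne_zero]
      intro h0
      apply hm
      have h0' : ∑ i, m i = 0 := h0
      ext i
      have := (Finset.sum_eq_zero_iff.1 h0') i (Finset.mem_univ i)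
      simpa using this.symm
    rcases mul_eq_zero.1 h1.symm with h3 | h3
    · exact absurd h3 h2
    · exact h3

noncomputable def xi (k : Type u) [Field k] (n : ℕ) : OO k n →ₗ[PP k n] PP k n :=
  (eulD k n).liftKaehlerDifferential

theorem xi_D (a : PP k n) : xi k n (KaehlerDifferential.D k (PP k n) a) = eulD k n a :=
  Derivation.liftKaehlerDifferential_comp_D _ a

/-- contraction with the Euler vector field -/
noncomputable def cL (k : Type u) [Field k] (n : ℕ) : EE k n →ₗ[PP k n] EE k n :=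
  CliffordAlgebra.contractLeft (Q := (0 : QuadraticForm (PP k n) (OO k n))) (xi k n)

theorem cL_ι_mul (ω : OO k n) (η : EE k n) :
    cL k n (ExteriorAlgebra.ι (PP k n) ω * η) =
      algebraMap (PP k n) (EE k n) (xi k n ω) * η - ExteriorAlgebra.ι (PP k n) ω * cL k n η := by
  rw [← Algebra.smul_def]
  exact CliffordAlgebra.contractLeft_ι_mul (xi k n) ω η

theorem cL_algebraMap_mul (a : PP k n) (η : EE k n) :
    cL k n (algebraMap (PP k n) (EE k n) a * η) = algebraMap (PP k n) (EE k n) a * cL k n η :=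
  CliffordAlgebra.contractLeft_algebraMap_mul (xi k n) a η

theorem cL_algebraMap (a : PP k n) : cL k n (algebraMap (PP k n) (EE k n) a) = 0 :=
  CliffordAlgebra.contractLeft_algebraMap _ (xi k n) a

theorem cL_one : cL k n (1 : EE k n) = 0 :=
  CliffordAlgebra.contractLeft_one _ (xi k n)

structure IsDR (d : EE k n →ₗ[k] EE k n) : Prop where
  h0 : ∀ a : PP k n, d (algebraMap (PP k n) (EE k n) a) =
    ExteriorAlgebra.ι (PP k n) (KaehlerDifferential.D k (PP k n) a)
  hdeg : ∀ (p : ℕ) (ω : EE k n), ω ∈ LL k n p → d ω ∈ LL k n (p + 1)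
  hder : ∀ (p : ℕ) (ω η : EE k n), ω ∈ LL k n p → d (ω * η) = d ω * η + (-1) ^ p * ω * d η
  hdd : ∀ ω, d (d ω) = 0

theorem algebraMap_mem_zero (a : PP k n) : algebraMap (PP k n) (EE k n) a ∈ LL k n 0 := by
  show _ ∈ LinearMap.range (ExteriorAlgebra.ι (PP k n) : OO k n →ₗ[PP k n] EE k n) ^ 0
  rw [pow_zero]
  exact Submodule.algebraMap_mem a

theorem ι_mem_one (ω : OO k n) : ExteriorAlgebra.ι (PP k n) ω ∈ LL k n 1 := by
  show _ ∈ LinearMap.range (ExteriorAlgebra.ι (PP k n) : OO k n →ₗ[PP k n] EE k n) ^ 1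
  rw [pow_one]
  exact ⟨ω, rfl⟩

theorem ι_mul_mem {p : ℕ} (ω : OO k n) {y : EE k n} (hy : y ∈ LL k n p) :
    ExteriorAlgebra.ι (PP k n) ω * y ∈ LL k n (p + 1) := by
  show _ ∈ LinearMap.range (ExteriorAlgebra.ι (PP k n) : OO k n →ₗ[PP k n] EE k n) ^ (p + 1)
  rw [pow_succ']
  exact Submodule.mul_mem_mul ⟨ω, rfl⟩ hy

theorem algebraMap_ksmul (c : k) (a : PP k n) :
    algebraMap (PP k n) (EE k n) (c • a) = c • algebraMap (PP k n) (EE k n) a := by
  rw [Algebra.smul_def c a, map_mul, ← IsScalarTower.algebraMap_apply k (PP k n) (EE k n),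
    ← Algebra.smul_def]

variable {d : EE k n →ₗ[k] EE k n}

theorem d_algebraMap_mul (hd : IsDR d) (a : PP k n) (η : EE k n) :
    d (algebraMap (PP k n) (EE k n) a * η) =
      ExteriorAlgebra.ι (PP k n) (KaehlerDifferential.D k (PP k n) a) * η +
        algebraMap (PP k n) (EE k n) a * d η := by
  rw [hd.hder 0 _ _ (algebraMap_mem_zero a), hd.h0, pow_zero, one_mul]

theorem d_ιD_mul (hd : IsDR d) (x : PP k n) (η : EE k n) :
    d (ExteriorAlgebra.ι (PP k n) (KaehlerDifferential.D k (PP k n) x) * η) =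
      -(ExteriorAlgebra.ι (PP k n) (KaehlerDifferential.D k (PP k n) x) * d η) := by
  have hde : d (ExteriorAlgebra.ι (PP k n) (KaehlerDifferential.D k (PP k n) x)) = 0 := by
    rw [← hd.h0, hd.hdd]
  rw [hd.hder 1 _ _ (ι_mem_one _), hde, zero_mul, zero_add, pow_one, neg_one_mul, neg_mul]

/-- the Lie derivative along the Euler field, via Cartan's formula -/
noncomputable def Lm (d : EE k n →ₗ[k] EE k n) : EE k n →ₗ[k] EE k n :=
  d ∘ₗ ((cL k n).restrictScalars k) + ((cL k n).restrictScalars k) ∘ₗ d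

theorem Lm_apply (d : EE k n →ₗ[k] EE k n) (η : EE k n) :
    Lm d η = d (cL k n η) + cL k n (d η) := rfl

theorem Lm_algebraMap_mul (hd : IsDR d) (a : PP k n) (η : EE k n) :
    Lm d (algebraMap (PP k n) (EE k n) a * η) =
      algebraMap (PP k n) (EE k n) (eulD k n a) * η + algebraMap (PP k n) (EE k n) a * Lm d η := by
  rw [Lm_apply, Lm_apply, cL_algebraMap_mul, d_algebraMap_mul hd, d_algebraMap_mul hd, map_add,
    cL_ι_mul, cL_algebraMap_mul, xi_D, mul_add]
  abel

theorem Lm_ιD_mul (hd : IsDR d) (x : PP k n) (η : EE k n) :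
    Lm d (ExteriorAlgebra.ι (PP k n) (KaehlerDifferential.D k (PP k n) x) * η) =
      ExteriorAlgebra.ι (PP k n) (KaehlerDifferential.D k (PP k n) (eulD k n x)) * η +
        ExteriorAlgebra.ι (PP k n) (KaehlerDifferential.D k (PP k n) x) * Lm d η := by
  rw [Lm_apply, Lm_apply, cL_ι_mul, xi_D, map_sub, d_algebraMap_mul hd, d_ιD_mul hd, d_ιD_mul hd,
    map_neg, cL_ι_mul, xi_D, mul_add]
  abel

theorem Lm_one (hd : IsDR d) : Lm d 1 = 0 := by
  have h1 : d 1 = 0 := by
    rw [← map_one (algebraMap (PP k n) (EE k n)), hd.h0, Derivation.map_one_eq_zero, map_zero]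
  rw [Lm_apply, h1, map_zero, cL_one, map_zero, add_zero]

theorem Lm_d (hd : IsDR d) (η : EE k n) : Lm d (d η) = d (Lm d η) := by
  rw [Lm_apply, Lm_apply, hd.hdd, map_zero, add_zero, map_add, hd.hdd, zero_add]

/-- forms of degree `p` and polynomial weight `w` -/
noncomputable def V (d : EE k n →ₗ[k] EE k n) (p w : ℕ) : Submodule k (EE k n) :=
  (LL k n p).restrictScalars k ⊓ Module.End.eigenspace (Lm d) (((w + p : ℕ)) : k)

theorem mem_V {p w : ℕ} {η : EE k n} :
    η ∈ V d p w ↔ η ∈ LL k n p ∧ Lm d η = (((w + p : ℕ)) : k) • η := by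
  unfold V
  rw [Submodule.mem_inf, Submodule.restrictScalars_mem, Module.End.mem_eigenspace_iff]

noncomputable abbrev W (d : EE k n →ₗ[k] EE k n) (p : ℕ) : Submodule k (EE k n) := ⨆ w : ℕ, V d p w

theorem algebraMap_mul_mem_W (hd : IsDR d) (a : PP k n) {p : ℕ} {y : EE k n} (hy : y ∈ W d p) :
    algebraMap (PP k n) (EE k n) a * y ∈ W d p := by
  refine MvPolynomial.induction_on' a ?_ ?_
  · intro m r
    refine Submodule.iSup_induction (V d p)
      (motive := fun y => algebraMap (PP k n) (EE k n) (monomial m r) * y ∈ W d p) hy ?_ ?_ ?_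
    · intro w y hy
      obtain ⟨hy1, hy2⟩ := mem_V.1 hy
      refine Submodule.mem_iSup_of_mem (w + wt m) (mem_V.2 ⟨?_, ?_⟩)
      · rw [← Algebra.smul_def]; exact Submodule.smul_mem _ _ hy1
      · rw [Lm_algebraMap_mul hd, eul_monomial, hy2, algebraMap_ksmul, smul_mul_assoc,
          mul_smul_comm, ← add_smul]
        congr 1
        push_cast; ring
    · rw [mul_zero]; exact zero_mem _
    · intro y z hy hz; rw [mul_add]; exact add_mem hy hz
  · intro a b ha hb
    rw [map_add, add_mul]
    exact add_mem ha hb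

theorem ιDX_mul_mem_W (hd : IsDR d) (j : Fin n) {p : ℕ} {y : EE k n} (hy : y ∈ W d p) :
    ExteriorAlgebra.ι (PP k n) (KaehlerDifferential.D k (PP k n) (X j)) * y ∈ W d (p + 1) := by
  have key : ∀ (c c' : k) (z : EE k n), c' = 1 + c → z + c • z = c' • z := by
    intro c c' z h; rw [h, add_smul, one_smul]
  refine Submodule.iSup_induction (V d p)
    (motive := fun y => ExteriorAlgebra.ι (PP k n) (KaehlerDifferential.D k (PP k n) (X j)) * y ∈
      W d (p + 1)) hy ?_ ?_ ?_
  · intro w y hy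
    obtain ⟨hy1, hy2⟩ := mem_V.1 hy
    refine Submodule.mem_iSup_of_mem w (mem_V.2 ⟨ι_mul_mem _ hy1, ?_⟩)
    rw [Lm_ιD_mul hd, eul_X, hy2, mul_smul_comm]
    exact key _ _ _ (by push_cast; ring)
  · rw [mul_zero]; exact zero_mem _
  · intro y z hy hz; rw [mul_add]; exact add_mem hy hz

theorem mem_W_of_mem (hd : IsDR d) : ∀ (p : ℕ) (x : EE k n), x ∈ LL k n p → x ∈ W d p := by
  intro p x hx
  induction hx using Submodule.pow_induction_on_left' with
  | algebraMap a =>
    have h1 : (1 : EE k n) ∈ W d 0 := by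
      refine Submodule.mem_iSup_of_mem 0 (mem_V.2 ⟨?_, ?_⟩)
      · have := algebraMap_mem_zero (k := k) (n := n) 1
        rwa [map_one] at this
      · rw [Lm_one hd]; simp
    have := algebraMap_mul_mem_W hd a h1
    rwa [mul_one] at this
  | add x y i hx hy ihx ihy => exact add_mem ihx ihy
  | mem_mul m hm i x hx ih =>
    obtain ⟨ω, rfl⟩ := hm
    have hω : ω ∈ Submodule.span (PP k n)
        (Set.range (KaehlerDifferential.mvPolynomialBasis k (Fin n))) := by
      rw [Module.Basis.span_eq]; trivial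
    induction hω using Submodule.span_induction with
    | mem v hv =>
      obtain ⟨j, rfl⟩ := hv
      rw [KaehlerDifferential.mvPolynomialBasis_apply]
      exact ιDX_mul_mem_W hd j ih
    | zero => rw [map_zero, zero_mul]; exact zero_mem _
    | add u v _ _ hu hv => rw [map_add, add_mul]; exact add_mem hu hv
    | smul a u _ hu =>
      rw [map_smul, Algebra.smul_def, mul_assoc]
      exact algebraMap_mul_mem_W hd a hu

theorem cL_mem : ∀ (p : ℕ) (x : EE k n), x ∈ LL k n p →
    (p = 0 → cL k n x = 0) ∧ (∀ q, p = q + 1 → cL k n x ∈ LL k n q) := by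
  intro p x hx
  induction hx using Submodule.pow_induction_on_left' with
  | algebraMap a => exact ⟨fun _ => cL_algebraMap a, fun q hq => absurd hq (by omega)⟩
  | add x y i hx hy ihx ihy =>
    refine ⟨fun h => by rw [map_add, ihx.1 h, ihy.1 h, add_zero], fun q hq => ?_⟩
    rw [map_add]; exact add_mem (ihx.2 q hq) (ihy.2 q hq)
  | mem_mul m hm i x hx ih =>
    obtain ⟨ω, rfl⟩ := hm
    refine ⟨fun h => absurd h (Nat.succ_ne_zero i), fun q hq => ?_⟩
    have hqi : q = i := by omega
    subst hqi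
    rw [cL_ι_mul]
    refine sub_mem ?_ ?_
    · rw [← Algebra.smul_def]; exact Submodule.smul_mem _ _ hx
    · rcases Nat.eq_zero_or_pos q with h0 | hpos
      · rw [ih.1 h0, mul_zero]; exact zero_mem _
      · obtain ⟨i', rfl⟩ : ∃ i', q = i' + 1 := ⟨q - 1, by omega⟩
        exact ι_mul_mem ω (ih.2 i' rfl)

theorem eig_sum_zero (L : EE k n →ₗ[k] EE k n) (μ : ℕ → k) (hμ : Function.Injective μ) :
    ∀ (s : Finset ℕ) (y : ℕ → EE k n), (∀ w, L (y w) = μ w • y w) → ∑ w ∈ s, y w = 0 →
      ∀ w ∈ s, y w = 0 := by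
  intro s
  induction s using Finset.induction_on with
  | empty => intro y _ _ w hw; simp at hw
  | insert a s ha ih =>
    intro y hy hsum w hw
    rw [Finset.sum_insert ha] at hsum
    have h1 : ∑ w ∈ s, (μ w - μ a) • y w = 0 := by
      have h2 : L (y a + ∑ w ∈ s, y w) = 0 := by rw [hsum, map_zero]
      rw [map_add, map_sum, hy a] at h2
      have h3 : μ a • (y a + ∑ w ∈ s, y w) = 0 := by rw [hsum, smul_zero]
      rw [smul_add, Finset.smul_sum] at h3
      have h4 : ∑ w ∈ s, L (y w) - ∑ w ∈ s, μ a • y w = 0 := by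
        have := congrArg₂ (fun u v => u - v) h2 h3
        simpa using this
      rw [← Finset.sum_sub_distrib] at h4
      refine Eq.trans (Finset.sum_congr rfl fun w _ => ?_) h4
      rw [hy w, sub_smul]
    have h5 := ih (fun w => (μ w - μ a) • y w)
      (fun w => by rw [map_smul, hy w, smul_comm]) h1
    have hs : ∀ w ∈ s, y w = 0 := by
      intro w hw
      have := h5 w hw
      rcases smul_eq_zero.1 this with h | h
      · exact absurd (hμ (sub_eq_zero.1 h)) (fun h' => ha (h' ▸ hw))
      · exact h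
    rcases Finset.mem_insert.1 hw with rfl | hw'
    · rw [Finset.sum_eq_zero hs, add_zero] at hsum; exact hsum
    · exact hs w hw'

end Helpers


/-- Let k be a field of characteristic zero, A = k[x_1, …, x_n] and Ω = Ω_{A/k}. Let d be a k-linear
endomorphism of the exterior algebra ⋀_A Ω which agrees with the universal derivation on A, sends
⋀^p Ω into ⋀^(p+1) Ω, is a graded derivation and satisfies d ∘ d = 0 (these properties characterise
the de Rham differential). Then the de Rham complex 0 → k → A → Ω → ⋀^2 Ω → ⋯ → ⋀^n Ω → 0 is exact: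
an element of A with d a = 0 is a constant, and every d-closed element of ⋀^(p+1) Ω is d of some
element of ⋀^p Ω. -/
theorem result (k : Type u) [Field k] [CharZero k] (n : ℕ)
    (d : ExteriorAlgebra (MvPolynomial (Fin n) k) (KaehlerDifferential k (MvPolynomial (Fin n) k)) →ₗ[k]
      ExteriorAlgebra (MvPolynomial (Fin n) k) (KaehlerDifferential k (MvPolynomial (Fin n) k)))
    (h0 : ∀ a : MvPolynomial (Fin n) k,
      d (algebraMap (MvPolynomial (Fin n) k) _ a) =
        ExteriorAlgebra.ι (MvPolynomial (Fin n) k) (KaehlerDifferential.D k (MvPolynomial (Fin n) k) a))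
    (hdeg : ∀ (p : ℕ) (ω : ExteriorAlgebra (MvPolynomial (Fin n) k) (KaehlerDifferential k (MvPolynomial (Fin n) k))),
      ω ∈ ExteriorAlgebra.exteriorPower (MvPolynomial (Fin n) k) p (KaehlerDifferential k (MvPolynomial (Fin n) k)) →
        d ω ∈ ExteriorAlgebra.exteriorPower (MvPolynomial (Fin n) k) (p + 1) (KaehlerDifferential k (MvPolynomial (Fin n) k)))
    (hder : ∀ (p : ℕ) (ω η : ExteriorAlgebra (MvPolynomial (Fin n) k) (KaehlerDifferential k (MvPolynomial (Fin n) k))),
      ω ∈ ExteriorAlgebra.exteriorPower (MvPolynomial (Fin n) k) p (KaehlerDifferential k (MvPolynomial (Fin n) k)) →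
        d (ω * η) = d ω * η + (-1) ^ p * ω * d η)
    (hdd : ∀ ω, d (d ω) = 0) :
    (∀ a : MvPolynomial (Fin n) k, d (algebraMap (MvPolynomial (Fin n) k) _ a) = 0 →
        ∃ c : k, a = MvPolynomial.C c) ∧
    ∀ (p : ℕ) (ω : ExteriorAlgebra (MvPolynomial (Fin n) k) (KaehlerDifferential k (MvPolynomial (Fin n) k))),
      ω ∈ ExteriorAlgebra.exteriorPower (MvPolynomial (Fin n) k) (p + 1) (KaehlerDifferential k (MvPolynomial (Fin n) k)) →
        d ω = 0 →
          ∃ θ ∈ ExteriorAlgebra.exteriorPower (MvPolynomial (Fin n) k) p (KaehlerDifferential k (MvPolynomial (Fin n) k)),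
            d θ = ω := by
  have hd : IsDR d := ⟨h0, hdeg, hder, hdd⟩
  refine ⟨?_, ?_⟩
  · intro a ha
    rw [h0, ExteriorAlgebra.ι_eq_zero_iff] at ha
    apply const_of_eul_eq_zero
    rw [← xi_D, ha, map_zero]
  · intro p ω hω hclosed
    have hW := mem_W_of_mem hd (p + 1) ω hω
    obtain ⟨f, hf, hsum⟩ := (Submodule.mem_iSup_iff_exists_finsupp _ _).1 hW
    have hfV : ∀ w, f w ∈ LL k n (p + 1) ∧ Lm d (f w) = (((w + (p + 1) : ℕ)) : k) • f w :=
      fun w => mem_V.1 (hf w)
    obtain ⟨μ, hμdef⟩ : ∃ μ : ℕ → k, ∀ w, μ w = (((w + (p + 1) : ℕ)) : k) := ⟨_, fun _ => rfl⟩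
    have hμinj : Function.Injective μ := by
      intro a b hab
      rw [hμdef, hμdef] at hab
      have : (a + (p + 1) : ℕ) = b + (p + 1) := Nat.cast_injective hab
      omega
    have hμne : ∀ w, μ w ≠ 0 := fun w => by
      rw [hμdef]; exact Nat.cast_ne_zero.2 (by omega)
    have hsum' : ∑ w ∈ f.support, f w = ω := hsum
    have hdf : ∀ w ∈ f.support, d (f w) = 0 := by
      refine eig_sum_zero (Lm d) μ hμinj f.support (fun w => d (f w)) (fun w => ?_) ?_
      · rw [Lm_d hd, (hfV w).2, map_smul, hμdef]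
      · rw [← map_sum, hsum', hclosed]
    refine ⟨∑ w ∈ f.support, (μ w)⁻¹ • cL k n (f w), ?_, ?_⟩
    · refine Submodule.sum_mem _ fun w _ => ?_
      exact Submodule.smul_of_tower_mem _ _ ((cL_mem (p + 1) (f w) (hfV w).1).2 p rfl)
    · rw [map_sum, ← hsum']
      refine Finset.sum_congr rfl fun w hw => ?_
      rw [map_smul]
      have h1 : d (cL k n (f w)) = μ w • f w := by
        have := (hfV w).2
        rw [Lm_apply, hdf w hw, map_zero, add_zero] at this
        rw [this, hμdef]
      rw [h1, smul_smul, inv_mul_cancel₀ (hμne w), one_smul]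

end Groth.Agent.S15299
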