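import Groth.Statements.S15301
-- import your own Groth.Agent.* helpers here
import Groth.Agent.H5.Rlim.Tower

set_option autoImplicit false
universe u
open HomAlg3

namespace Groth.Agent.S15301

open CategoryTheory CategoryTheory.Limits TopologicalSpace Opposite in
/-- For the functor of sections over an open U, let (F_n)_n be a tower of sheaves of abelian groups on a
topological space X, indexed by the natural numbers, with limit sheaf lim F_n, and let B be a basis
of opens of X such that for every V in B (a) every transition map F_{n+1}(V) → F_n(V) is surjective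
and (b) every H^i(V, F_n) with i > 0 vanishes. Then for every open U and every i = j + 1 ≥ 1 there
is a short exact sequence 0 → lim¹_n H^j(U, F_n) → H^i(U, lim F_n) → lim_n H^i(U, F_n) → 0: every
family of classes in the H^i(U, F_n) compatible under the transition maps comes from a class on lim
F_n, and the kernel of H^i(U, lim F_n) → ∏_n H^i(U, F_n) is isomorphic to lim¹ of the tower (H^j(U,
F_n))_n (existence of an isomorphism only). In particular the comparison map is injective as soon as
that lim¹ vanishes. (The published statement is for any functor T on abelian sheaves commuting with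
products, such as Γ, Γ_Y, f_*; this row is the case T = Γ(U, −).) -/
theorem result {X : TopCat.{u}} (F : ℕᵒᵖ ⥤ CohTop.Ab X)
    (B : Set (Opens X)) (hB : Opens.IsBasis B)
    (hsurj : ∀ V ∈ B, ∀ n : ℕ,
      Function.Surjective ((F.map (homOfLE (Nat.le_succ n)).op).hom.app (op V)).hom)
    (hvan : ∀ V ∈ B, ∀ (n i : ℕ), 0 < i → Subsingleton (CohTop.HU (F.obj (op n)) i V))
    (U : Opens X) (i j : ℕ) (hij : j + 1 = i) :
    (∀ ξ : ∀ n : ℕ, CohTop.HU (F.obj (op n)) i U,
      (∀ n, CohTop.HUmap (F.map (homOfLE (Nat.le_succ n)).op) i U (ξ (n + 1)) = ξ n) →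
        ∃ η : CohTop.HU (limit F) i U, ∀ n, CohTop.HUmap (limit.π F (op n)) i U η = ξ n) ∧
    Nonempty ((AddMonoidHom.pi fun n : ℕ => CohTop.HUmap (limit.π F (op n)) i U).ker ≃+
      Formal2.limOne (fun n : ℕ => CohTop.HU (F.obj (op n)) j U)
        (fun n : ℕ => CohTop.HUmap (F.map (homOfLE (Nat.le_succ n)).op) j U)) := by
  letI : HasDerivedCategory.{u} (Sheaf (Opens.grothendieckTopology X) AddCommGrpCat.{u}) :=
    Groth.Agent.H33.BrownD.hasDerivedCategorySmall _
  haveI := Groth.Agent.H5.Rlim.hasProduct_nat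
    (fun n => (Groth.Agent.H5.Rlim.s0 (Opens.grothendieckTopology X)).obj (F.obj (op n)))
  have hB' : ∀ U : Opens X, ∃ (ι : Type u) (Y : ι → Opens X) (f : ∀ i, Y i ⟶ U),
      Sieve.ofArrows Y f ∈ Opens.grothendieckTopology X U ∧ ∀ i, Y i ∈ B := by
    intro U
    refine ⟨{V : Opens X // V ∈ B ∧ V ≤ U}, fun i => i.1, fun i => homOfLE i.2.2, ?_, fun i => i.2.1⟩
    intro x hx
    obtain ⟨W, hW, hxW, hWU⟩ := Opens.isBasis_iff_nbhd.1 hB hx
    exact ⟨W, homOfLE hWU, ⟨W, 𝟙 W, homOfLE hWU, ⟨(⟨W, hW, hWU⟩ : {V : Opens X // V ∈ B ∧ V ≤ U})⟩,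
      Category.id_comp _⟩, hxW⟩
  have hL := Groth.Agent.H5.Rlim.main_tower F B hB'
    (fun V hV p n => hvan V hV n (p + 1) (by omega))
    (fun V hV => Groth.Agent.H5.Rlim.limOneIsZero_of_surjective _ _ (fun n => hsurj V hV n))
  exact Groth.Agent.H5.Rlim.ext_tower F hL (CohCx.freeSheaf _ U) i j hij

end Groth.Agent.S15301
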