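import Groth.Statements.S15302
import Mathlib

set_option autoImplicit false
universe v u
open HomAlg3

namespace Groth.Agent.S15302


open CategoryTheory CategoryTheory.Limits

noncomputable section

variable {C : Type u} [Category.{v} C] [Abelian C]

lemma split_iso {X Y : C} (f : X ⟶ Y) (s : Y ⟶ X) (h : s ≫ f = 𝟙 Y) :
    ∃ (K : C) (e : X ≅ Y ⊞ K), f = e.hom ≫ biprod.fst := by
  have hk : (𝟙 X - f ≫ s) ≫ f = 0 := by
    rw [Preadditive.sub_comp, Category.id_comp, Category.assoc, h, Category.comp_id, sub_self]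
  refine ⟨kernel f, ⟨biprod.lift f (kernel.lift f (𝟙 X - f ≫ s) hk),
    biprod.desc s (kernel.ι f), ?_, ?_⟩, ?_⟩
  · rw [biprod.lift_desc, kernel.lift_ι]; abel
  · apply biprod.hom_ext
    · apply biprod.hom_ext'
      · simp [h]
      · simp
    · apply biprod.hom_ext'
      · rw [← cancel_mono (kernel.ι f)]
        simp [reassoc_of% h]
      · rw [← cancel_mono (kernel.ι f)]
        simp
  · simp

variable (I : CochainComplex C ℕ)

/-- terms of the contractible complex -/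
def CX : ℕ → C
  | 0 => I.X 0
  | (p+1) => I.X (p+1) ⊞ I.X p

/-- differential -/
def Cd : ∀ p, CX I p ⟶ CX I (p+1)
  | 0 => (biprod.inr : I.X 0 ⟶ I.X 1 ⊞ I.X 0)
  | (p+1) => (biprod.fst ≫ biprod.inr : I.X (p+1) ⊞ I.X p ⟶ I.X (p+2) ⊞ I.X (p+1))

lemma Cd_sq (p : ℕ) : Cd I p ≫ Cd I (p+1) = 0 := by
  cases p with
  | zero =>
    show (biprod.inr : I.X 0 ⟶ I.X 1 ⊞ I.X 0) ≫
      (biprod.fst ≫ biprod.inr : I.X 1 ⊞ I.X 0 ⟶ I.X 2 ⊞ I.X 1) = 0
    rw [biprod.inr_fst_assoc, zero_comp]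
  | succ p =>
    show (biprod.fst ≫ biprod.inr : I.X (p+1) ⊞ I.X p ⟶ I.X (p+2) ⊞ I.X (p+1)) ≫
      (biprod.fst ≫ biprod.inr : I.X (p+2) ⊞ I.X (p+1) ⟶ I.X (p+3) ⊞ I.X (p+2)) = 0
    rw [Category.assoc, biprod.inr_fst_assoc, zero_comp, comp_zero]

/-- the contractible complex -/
def Cc : CochainComplex C ℕ := CochainComplex.of (CX I) (Cd I) (Cd_sq I)

lemma Cc_d (p : ℕ) : (Cc I).d p (p+1) = Cd I p := CochainComplex.of_d (CX I) (Cd I) p

/-- components of the map to `I` -/
def γf : ∀ p, CX I p ⟶ I.X p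
  | 0 => 𝟙 _
  | (p+1) => biprod.desc (𝟙 _) (I.d p (p+1))

lemma γ_comm (p : ℕ) : γf I p ≫ I.d p (p+1) = Cd I p ≫ γf I (p+1) := by
  cases p with
  | zero =>
    show 𝟙 (I.X 0) ≫ I.d 0 1 = (biprod.inr : I.X 0 ⟶ I.X 1 ⊞ I.X 0) ≫ biprod.desc (𝟙 _) (I.d 0 1)
    rw [biprod.inr_desc, Category.id_comp]
  | succ p =>
    show biprod.desc (𝟙 _) (I.d p (p+1)) ≫ I.d (p+1) (p+2) =
      (biprod.fst ≫ biprod.inr : I.X (p+1) ⊞ I.X p ⟶ I.X (p+2) ⊞ I.X (p+1)) ≫
        biprod.desc (𝟙 _) (I.d (p+1) (p+2))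
    apply biprod.hom_ext' <;> simp

/-- the map to `I` -/
def γ : Cc I ⟶ I where
  f p := γf I p
  comm' i j hij := by
    obtain rfl : i + 1 = j := hij
    rw [Cc_d]
    exact (γ_comm I i)

/-- section of γ -/
def σf : ∀ p, I.X p ⟶ CX I p
  | 0 => 𝟙 _
  | (_+1) => biprod.inl

lemma σ_γ (p : ℕ) : σf I p ≫ γf I p = 𝟙 _ := by
  cases p with
  | zero => exact Category.id_comp _
  | succ p => exact biprod.inl_desc _ _


/-- section of γ, typed into `Cc` -/
def σ' (p : ℕ) : I.X p ⟶ (Cc I).X p := σf I p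

lemma σ'_γ (p : ℕ) : σ' I p ≫ (γ I).f p = 𝟙 _ := σ_γ I p

omit I in
lemma exact_aux {X₁ X₃ A B : C} (a : X₁ ⟶ B) (b : A ⟶ X₃) [Epi a] [Mono b]
    (w : (a ≫ (biprod.inr : B ⟶ A ⊞ B)) ≫ (biprod.fst ≫ b) = 0) :
    (ShortComplex.mk (a ≫ (biprod.inr : B ⟶ A ⊞ B)) (biprod.fst ≫ b) w).Exact := by
  let S₂ : ShortComplex C := ShortComplex.mk (biprod.inr : B ⟶ A ⊞ B) biprod.fst (by simp)
  let S' : ShortComplex C := ShortComplex.mk (a ≫ (biprod.inr : B ⟶ A ⊞ B)) biprod.fst (by simp)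
  have h₂ : S₂.Exact :=
    (ShortComplex.Splitting.mk (S := S₂) biprod.snd biprod.inl (by simp [S₂]) (by simp [S₂])
      (by simp only [S₂]; rw [add_comm]; exact biprod.total)).exact
  let φ : S' ⟶ S₂ := { τ₁ := a, τ₂ := 𝟙 _, τ₃ := 𝟙 _ }
  have : Epi φ.τ₁ := inferInstanceAs (Epi a)
  have : IsIso φ.τ₂ := inferInstanceAs (IsIso (𝟙 _))
  have : Mono φ.τ₃ := inferInstanceAs (Mono (𝟙 _))
  have h' : S'.Exact := (ShortComplex.exact_iff_of_epi_of_isIso_of_mono φ).2 h₂
  let ψ : S' ⟶ ShortComplex.mk (a ≫ (biprod.inr : B ⟶ A ⊞ B)) (biprod.fst ≫ b) w :=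
    { τ₁ := 𝟙 _, τ₂ := 𝟙 _, τ₃ := b }
  have : Epi ψ.τ₁ := inferInstanceAs (Epi (𝟙 _))
  have : IsIso ψ.τ₂ := inferInstanceAs (IsIso (𝟙 _))
  have : Mono ψ.τ₃ := inferInstanceAs (Mono b)
  exact (ShortComplex.exact_iff_of_epi_of_isIso_of_mono ψ).1 h'

lemma Cc_exactAt (n : ℕ) : (Cc I).ExactAt n := by
  match n with
  | 0 =>
    rw [(Cc I).exactAt_iff' 0 0 1 (by simp) (by simp)]
    rw [ShortComplex.exact_iff_mono _ ((Cc I).shape 0 0 (by simp))]
    show Mono ((Cc I).d 0 1)
    rw [Cc_d]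
    exact inferInstanceAs (Mono (biprod.inr : I.X 0 ⟶ I.X 1 ⊞ I.X 0))
  | 1 =>
    rw [(Cc I).exactAt_iff' 0 1 2 (by simp) (by simp)]
    have h := exact_aux (𝟙 (I.X 0)) (biprod.inr : I.X 1 ⟶ I.X 2 ⊞ I.X 1) (by simp)
    refine ShortComplex.exact_of_iso ?_ h
    refine ShortComplex.isoMk (Iso.refl _) (Iso.refl _) (Iso.refl _) ?_ ?_
    · refine (Category.id_comp _).trans ((Cc_d I 0).trans ?_)
      exact ((Category.comp_id _).trans (Category.id_comp _)).symm
    · exact (Category.id_comp _).trans ((Cc_d I 1).trans (Category.comp_id _).symm)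
  | (p+2) =>
    rw [(Cc I).exactAt_iff' (p+1) (p+2) (p+3) (by simp) (by simp)]
    have h := exact_aux (biprod.fst : I.X (p+1) ⊞ I.X p ⟶ I.X (p+1))
      (biprod.inr : I.X (p+2) ⟶ I.X (p+3) ⊞ I.X (p+2)) (by simp)
    refine ShortComplex.exact_of_iso ?_ h
    refine ShortComplex.isoMk (Iso.refl _) (Iso.refl _) (Iso.refl _) ?_ ?_
    · exact (Category.id_comp _).trans ((Cc_d I (p+1)).trans (Category.comp_id _).symm)
    · exact (Category.id_comp _).trans ((Cc_d I (p+2)).trans (Category.comp_id _).symm)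


omit I in
lemma quasiIso_inl (K L : CochainComplex C ℕ) (hL : ∀ n, L.ExactAt n) :
    QuasiIso (biprod.inl : K ⟶ K ⊞ L) := by
  rw [quasiIso_iff]
  intro n
  rw [quasiIsoAt_iff_isIso_homologyMap]
  have hz : IsZero (L.homology n) := (hL n).isZero_homology
  refine ⟨HomologicalComplex.homologyMap (biprod.fst : K ⊞ L ⟶ K) n, ?_, ?_⟩
  · rw [← HomologicalComplex.homologyMap_comp, biprod.inl_fst, HomologicalComplex.homologyMap_id]
  · rw [← HomologicalComplex.homologyMap_comp]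
    have h1 : (biprod.fst : K ⊞ L ⟶ K) ≫ biprod.inl = 𝟙 _ - biprod.snd ≫ biprod.inr := by
      rw [← biprod.total (X := K) (Y := L)]; abel
    rw [h1, HomologicalComplex.homologyMap_sub, HomologicalComplex.homologyMap_id,
      HomologicalComplex.homologyMap_comp]
    have h2 : HomologicalComplex.homologyMap (biprod.snd : K ⊞ L ⟶ L) n = 0 := hz.eq_of_tgt _ _
    rw [h2, zero_comp, sub_zero]

theorem main [EnoughInjectives C] {G F : C} (α : G ⟶ F) (I : InjectiveResolution F) :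
    ∃ (J : InjectiveResolution G) (β : J.cocomplex ⟶ I.cocomplex),
      J.ι ≫ β = (CochainComplex.single₀ C).map α ≫ I.ι ∧
      ∀ p : ℕ, ∃ (K : C) (e : J.cocomplex.X p ≅ I.cocomplex.X p ⊞ K),
        β.f p = e.hom ≫ biprod.fst := by
  let J₀ : InjectiveResolution G := InjectiveResolution.of G
  let β₀ : J₀.cocomplex ⟶ I.cocomplex := InjectiveResolution.desc α I J₀
  have hβ₀ : J₀.ι ≫ β₀ = (CochainComplex.single₀ C).map α ≫ I.ι :=
    InjectiveResolution.desc_commutes α I J₀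
  let Cx := Cc I.cocomplex
  let T := J₀.cocomplex ⊞ Cx
  have hinl : QuasiIso (biprod.inl : J₀.cocomplex ⟶ T) :=
    quasiIso_inl _ _ (Cc_exactAt I.cocomplex)
  have hinjC : ∀ n, Injective (Cx.X n) := by
    intro n
    cases n with
    | zero => exact inferInstanceAs (Injective (I.cocomplex.X 0))
    | succ p => exact inferInstanceAs (Injective (I.cocomplex.X (p+1) ⊞ I.cocomplex.X p))
  let J : InjectiveResolution G :=
    { cocomplex := T
      injective := fun n => Injective.of_iso (HomologicalComplex.biprodXIso J₀.cocomplex Cx n).symm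
        inferInstance
      ι := J₀.ι ≫ biprod.inl
      quasiIso := inferInstance }
  refine ⟨J, biprod.desc β₀ (γ I.cocomplex), ?_, ?_⟩
  · show (J₀.ι ≫ biprod.inl) ≫ biprod.desc β₀ (γ I.cocomplex) = _
    rw [Category.assoc, biprod.inl_desc, hβ₀]
  · intro p
    apply split_iso _ (σ' I.cocomplex p ≫ (biprod.inr : Cx ⟶ T).f p)
    rw [Category.assoc, ← HomologicalComplex.comp_f, biprod.inr_desc]
    exact σ'_γ I.cocomplex p

end



open CategoryTheory CategoryTheory.Limits in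
/-- In an abelian category with enough injectives, let α : G ⟶ F be a morphism and I an injective
resolution of F. Then G has an injective resolution J together with a morphism of cochain complexes
β : J ⟶ I lying over α (the augmentations commute with α and β) such that for every p there are an
object K^p and an isomorphism J^p ≅ I^p ⊕ K^p identifying β^p with the projection onto the first
factor (so K^p is injective as well). (The published statement is for abelian sheaves on a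
topological space; its proof uses only an embedding of G into an injective object and cokernels, so
the row is stated in any abelian category with enough injectives.) -/
theorem result {C : Type u} [Category.{v} C] [Abelian C]
    [EnoughInjectives C] {G F : C} (α : G ⟶ F) (I : InjectiveResolution F) :
    ∃ (J : InjectiveResolution G) (β : J.cocomplex ⟶ I.cocomplex),
      J.ι ≫ β = (CochainComplex.single₀ C).map α ≫ I.ι ∧
      ∀ p : ℕ, ∃ (K : C) (e : J.cocomplex.X p ≅ I.cocomplex.X p ⊞ K), β.f p = e.hom ≫ biprod.fst := by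
  exact main α I

end Groth.Agent.S15302
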