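import Groth.Statements.S15307
import Mathlib.Tactic
import Mathlib.Algebra.Category.Grp.EpiMono
import Mathlib.Algebra.Homology.ShortComplex.Ab
-- import your own Groth.Agent.* helpers here

set_option autoImplicit false
universe u
open HomAlg3

namespace Groth.Agent.S15307

open CategoryTheory CategoryTheory.Limits Opposite

/-- transition map -/
def tr (T : ℕᵒᵖ ⥤ AddCommGrpCat.{u}) (n : ℕ) : T.obj (op (n + 1)) ⟶ T.obj (op n) :=
  T.map (homOfLE (Nat.le_succ n)).op

lemma map_eq_of_le (T : ℕᵒᵖ ⥤ AddCommGrpCat.{u}) {a b : ℕ} (f g : op a ⟶ op b) :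
    T.map f = T.map g := by
  rw [Subsingleton.elim f g]

lemma tr_nat {T T' : ℕᵒᵖ ⥤ AddCommGrpCat.{u}} (d : T ⟶ T') (n : ℕ) (a : T.obj (op (n + 1))) :
    d.app (op n) (tr T n a) = tr T' n (d.app (op (n + 1)) a) :=
  NatTrans.naturality_apply d (homOfLE (Nat.le_succ n)).op a

lemma compat_of_succ (T : ℕᵒᵖ ⥤ AddCommGrpCat.{u}) (y : ∀ n, T.obj (op n))
    (hy : ∀ n, tr T n (y (n + 1)) = y n) (b a : ℕ) (hba : b ≤ a) :
    T.map (homOfLE hba).op (y a) = y b := by
  induction a, hba using Nat.le_induction with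
  | base =>
    have : (homOfLE (le_refl b)).op = 𝟙 (op b) := Subsingleton.elim _ _
    rw [this]; simp
  | succ a hba ih =>
    have : (homOfLE (hba.trans (Nat.le_succ a))).op =
        (homOfLE (Nat.le_succ a)).op ≫ (homOfLE hba).op := Subsingleton.elim _ _
    rw [this, T.map_comp, ConcreteCategory.comp_apply]
    have h2 := hy a
    unfold tr at h2
    rw [h2, ih]

lemma exists_limit_elem (T : ℕᵒᵖ ⥤ AddCommGrpCat.{u}) (y : ∀ n, T.obj (op n))
    (hy : ∀ n, tr T n (y (n + 1)) = y n) :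
    ∃ Y : ↑(limit T), ∀ n, limit.π T (op n) Y = y n := by
  have hc := isLimitOfPreserves (forget AddCommGrpCat.{u}) (limit.isLimit T)
  let s : (T ⋙ forget AddCommGrpCat.{u}).sections := ⟨fun m => y m.unop, by
    rintro ⟨a⟩ ⟨b⟩ f
    have hba : b ≤ a := f.unop.le
    have := compat_of_succ T y hy b a hba
    rw [← map_eq_of_le T f (homOfLE hba).op] at this
    exact this⟩
  refine ⟨(Types.isLimitEquivSections hc).symm s, fun n => ?_⟩
  exact Types.isLimitEquivSections_symm_apply hc s (op n)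

/-- product tower -/
def P (T : ℕᵒᵖ ⥤ AddCommGrpCat.{u}) : ℕᵒᵖ ⥤ AddCommGrpCat.{u} where
  obj n := AddCommGrpCat.of (∀ k : ℕ, PLift (k ≤ n.unop) → T.obj (op k))
  map {n m} f := AddCommGrpCat.ofHom
    { toFun := fun g k h => g k ⟨h.down.trans f.unop.le⟩
      map_zero' := rfl
      map_add' := fun _ _ => rfl }
  map_id := by intros; rfl
  map_comp := by intros; rfl

/-- diagonal embedding -/
def ι (T : ℕᵒᵖ ⥤ AddCommGrpCat.{u}) : T ⟶ P T where
  app n := AddCommGrpCat.ofHom
    { toFun := fun a k h => T.map (homOfLE h.down).op a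
      map_zero' := by funext k h; simp
      map_add' := fun a b => by funext k h; simp }
  naturality := by
    rintro ⟨n⟩ ⟨m⟩ f
    ext a
    funext k h
    show T.map (homOfLE h.down).op (T.map f a) = T.map (homOfLE (h.down.trans f.unop.le)).op a
    rw [← ConcreteCategory.comp_apply, ← T.map_comp]
    rw [map_eq_of_le T (f ≫ (homOfLE h.down).op) (homOfLE (h.down.trans f.unop.le)).op]

instance mono_ι (T : ℕᵒᵖ ⥤ AddCommGrpCat.{u}) : Mono (ι T) := by
  have : ∀ n, Mono ((ι T).app n) := by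
    rintro ⟨n⟩
    rw [AddCommGrpCat.mono_iff_injective]
    intro a b hab
    have h1 := congrFun (congrFun hab n) ⟨le_rfl⟩
    have h2 : ∀ c : T.obj (op n), (ι T).app (op n) c n ⟨le_rfl⟩ = c := by
      intro c
      show T.map (homOfLE (le_refl n)).op c = c
      have : (homOfLE (le_refl n)).op = 𝟙 (op n) := Subsingleton.elim _ _
      rw [this]; simp
    rw [h2, h2] at h1
    exact h1
  exact NatTrans.mono_of_mono_app _

lemma P_surj (T : ℕᵒᵖ ⥤ AddCommGrpCat.{u}) (n : ℕ) : Function.Surjective (tr (P T) n) := by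
  intro g
  classical
  refine ⟨(fun k _ => if h' : k ≤ n then g k ⟨h'⟩ else 0 :
    ∀ k : ℕ, PLift (k ≤ n + 1) → T.obj (op k)), ?_⟩
  funext k h
  show (if h' : k ≤ n then g k ⟨h'⟩ else 0) = g k h
  rw [dif_pos h.down]

lemma surj_of_injective (J : ℕᵒᵖ ⥤ AddCommGrpCat.{u}) [Injective J] (n : ℕ) :
    Function.Surjective (tr J n) := by
  let r : P J ⟶ J := Injective.factorThru (𝟙 J) (ι J)
  have hr : ι J ≫ r = 𝟙 J := Injective.comp_factorThru _ _
  intro x
  obtain ⟨g', hg'⟩ := P_surj J n ((ι J).app (op n) x)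
  refine ⟨r.app (op (n + 1)) g', ?_⟩
  have h1 : r.app (op n) ((ι J).app (op n) x) = x := by
    have := congr_app hr (op n)
    simpa using ConcreteCategory.congr_hom this x
  have nat := NatTrans.naturality_apply r (homOfLE (Nat.le_succ n)).op g'
  unfold tr at hg' ⊢
  rw [← nat, hg', h1]

lemma exists_telescope (T : ℕᵒᵖ ⥤ AddCommGrpCat.{u}) (hs : ∀ n, Function.Surjective (tr T n))
    (w : ∀ n, T.obj (op n)) :
    ∃ v : ∀ n, T.obj (op n), ∀ n, v n - tr T n (v (n + 1)) = w n := by
  let v : ∀ n, T.obj (op n) := fun n =>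
    Nat.rec (motive := fun n => T.obj (op n)) 0 (fun n vn => (hs n (vn - w n)).choose) n
  refine ⟨v, fun n => ?_⟩
  have : tr T n (v (n + 1)) = v n - w n := (hs n (v n - w n)).choose_spec
  rw [this]; abel

lemma exact_eval {A : ℕᵒᵖ ⥤ AddCommGrpCat.{u}} [EnoughInjectives (ℕᵒᵖ ⥤ AddCommGrpCat.{u})]
    (I : InjectiveResolution A) (j n : ℕ)
    (z : (I.cocomplex.X (j + 1)).obj (op n))
    (hz : (I.cocomplex.d (j + 1) (j + 2)).app (op n) z = 0) :
    ∃ y : (I.cocomplex.X j).obj (op n), (I.cocomplex.d j (j + 1)).app (op n) y = z := by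
  have h := (I.exact_succ j).map ((evaluation ℕᵒᵖ AddCommGrpCat.{u}).obj (op n))
  rw [ShortComplex.ab_exact_iff] at h
  exact h z hz

lemma main_lemma (T0 T1 T2 T3 : ℕᵒᵖ ⥤ AddCommGrpCat.{u}) (d0 : T0 ⟶ T1) (d1 : T1 ⟶ T2)
    (d2 : T2 ⟶ T3) (h01 : d0 ≫ d1 = 0)
    (ex1 : ∀ n (z : T1.obj (op n)), d1.app (op n) z = 0 → ∃ y, d0.app (op n) y = z)
    (ex2 : ∀ n (z : T2.obj (op n)), d2.app (op n) z = 0 → ∃ y, d1.app (op n) y = z)
    (hs : ∀ n, Function.Surjective (tr T0 n))
    (x : ↑(limit T2)) (hx : (limMap d2) x = 0) : ∃ y : ↑(limit T1), limMap d1 y = x := by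
  have hxn : ∀ n, d2.app (op n) (limit.π T2 (op n) x) = 0 := by
    intro n
    have := ConcreteCategory.congr_hom (limMap_π d2 (op n)) x
    simp only [ConcreteCategory.comp_apply] at this
    rw [← this, hx, map_zero]
  have hxc : ∀ n, tr T2 n (limit.π T2 (op (n + 1)) x) = limit.π T2 (op n) x := by
    intro n
    have := ConcreteCategory.congr_hom (limit.w T2 (homOfLE (Nat.le_succ n)).op) x
    simp only [ConcreteCategory.comp_apply] at this
    exact this
  choose y hy using fun n => ex2 n _ (hxn n)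
  have hz : ∀ n, d1.app (op n) (y n - tr T1 n (y (n + 1))) = 0 := by
    intro n
    rw [map_sub, tr_nat, hy, hy, hxc n, sub_self]
  choose w hw using fun n => ex1 n _ (hz n)
  obtain ⟨v, hv⟩ := exists_telescope T0 hs w
  have hy' : ∀ n, tr T1 n (y (n + 1) - d0.app (op (n + 1)) (v (n + 1))) =
      y n - d0.app (op n) (v n) := by
    intro n
    have e1 : tr T0 n (v (n + 1)) = v n - w n := by rw [← hv n]; abel
    rw [map_sub, ← tr_nat, e1, map_sub, hw]
    abel
  obtain ⟨Y, hY⟩ := exists_limit_elem T1 (fun n => y n - d0.app (op n) (v n)) hy'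
  refine ⟨Y, ?_⟩
  apply Concrete.limit_ext
  rintro ⟨n⟩
  have := ConcreteCategory.congr_hom (limMap_π d1 (op n)) Y
  simp only [ConcreteCategory.comp_apply] at this
  rw [this, hY, map_sub, hy]
  have h0 : d1.app (op n) (d0.app (op n) (v n)) = 0 := by
    have := ConcreteCategory.congr_hom (congr_app h01 (op n)) (v n)
    simpa using this
  rw [h0, sub_zero]



open CategoryTheory CategoryTheory.Limits in
/-- For abelian groups, for an inverse system (A_n) of abelian groups indexed by the natural numbers,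
the right derived functors lim^(i) A_n of the inverse limit vanish for every i ≥ 2. (The two
instance hypotheses, enough injectives in the category of towers of abelian groups and additivity of
the limit functor, always hold. The published statement is made in an axiomatic setting that also
covers quasi-coherent sheaves; this row is the case of abelian groups.) -/
theorem result
    [EnoughInjectives (ℕᵒᵖ ⥤ AddCommGrpCat.{u})]
    [(lim : (ℕᵒᵖ ⥤ AddCommGrpCat.{u}) ⥤ AddCommGrpCat.{u}).Additive]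
    (A : ℕᵒᵖ ⥤ AddCommGrpCat.{u}) (i : ℕ) (hi : 2 ≤ i) :
    IsZero (((lim : (ℕᵒᵖ ⥤ AddCommGrpCat.{u}) ⥤ AddCommGrpCat.{u}).rightDerived i).obj A) := by
  obtain ⟨k, rfl⟩ : ∃ k, i = k + 2 := ⟨i - 2, by omega⟩
  have I : InjectiveResolution A := (HasInjectiveResolution.out (Z := A)).some
  refine IsZero.of_iso ?_ (I.isoRightDerivedObj lim (k + 2))
  change IsZero (((lim.mapHomologicalComplex _).obj I.cocomplex).homology (k + 2))
  rw [← HomologicalComplex.exactAt_iff_isZero_homology,
    HomologicalComplex.exactAt_iff' _ (k + 1) (k + 2) (k + 3) (by simp) (by simp),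
    ShortComplex.ab_exact_iff]
  intro x hx
  exact main_lemma _ _ _ _ (I.cocomplex.d k (k + 1)) (I.cocomplex.d (k + 1) (k + 2))
    (I.cocomplex.d (k + 2) (k + 3)) (I.cocomplex.d_comp_d _ _ _) (exact_eval I k)
    (exact_eval I (k + 1)) (surj_of_injective _) x hx

end Groth.Agent.S15307
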