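import Groth.Statements.S15315
import Mathlib.Tactic
-- import your own Groth.Agent.* helpers here

set_option autoImplicit false
universe u
open ArLef

namespace Groth.Agent.S15315

/-- For a Noetherian commutative ring A, elements a, b with a a non-zero-divisor on A/(b), and an ideal
I, one has length(A/(aI + bA)) = length(A/(a, b)) + length(A/(I + bA)) as extended natural numbers;
in particular when two of the three quotients have finite length so does the third. -/
theorem result (A : Type u) [CommRing A] [IsNoetherianRing A] (a b : A) (I : Ideal A)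
    (ha : IsSMulRegular (A ⧸ Ideal.span ({b} : Set A)) a) :
    Module.length A (A ⧸ (Ideal.span {a} * I ⊔ Ideal.span {b})) =
      Module.length A (A ⧸ Ideal.span ({a, b} : Set A)) + Module.length A (A ⧸ (I ⊔ Ideal.span {b})) := by
  set J : Ideal A := Ideal.span {a} * I ⊔ Ideal.span {b} with hJ
  set K : Ideal A := I ⊔ Ideal.span {b} with hK
  set L : Ideal A := Ideal.span ({a, b} : Set A) with hL
  have hbJ : b ∈ J := Ideal.mem_sup_right (Ideal.mem_span_singleton_self b)
  have hKJ : K ≤ Submodule.comap (LinearMap.lsmul A A a) J := by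
    intro x hx
    rw [Submodule.mem_comap, LinearMap.lsmul_apply, smul_eq_mul]
    obtain ⟨i, hi, v, hv, rfl⟩ := Submodule.mem_sup.mp hx
    rw [mul_add]
    refine J.add_mem (Ideal.mem_sup_left (Ideal.mul_mem_mul (Ideal.mem_span_singleton_self a) hi)) ?_
    obtain ⟨c, rfl⟩ := Ideal.mem_span_singleton'.mp hv
    exact Ideal.mem_sup_right (Ideal.mul_mem_left _ _ (Ideal.mul_mem_left _ _ (Ideal.mem_span_singleton_self b)))
  have hJL : J ≤ Submodule.comap (LinearMap.id : A →ₗ[A] A) L := by
    intro x hx
    rw [Submodule.mem_comap, LinearMap.id_apply]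
    obtain ⟨u, hu, v, hv, rfl⟩ := Submodule.mem_sup.mp hx
    refine L.add_mem ?_ ?_
    · obtain ⟨z, _, rfl⟩ := Ideal.mem_span_singleton_mul.mp hu
      exact Ideal.mul_mem_right _ _ (Ideal.subset_span (by simp))
    · obtain ⟨c, rfl⟩ := Ideal.mem_span_singleton'.mp hv
      exact Ideal.mul_mem_left _ _ (Ideal.subset_span (by simp))
  let f : (A ⧸ K) →ₗ[A] (A ⧸ J) := Submodule.mapQ K J (LinearMap.lsmul A A a) hKJ
  let g : (A ⧸ J) →ₗ[A] (A ⧸ L) := Submodule.mapQ J L LinearMap.id hJL
  have hf : Function.Injective f := by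
    rw [← LinearMap.ker_eq_bot, LinearMap.ker_eq_bot']
    intro m hm
    obtain ⟨y, rfl⟩ := Submodule.Quotient.mk_surjective _ m
    rw [Submodule.mapQ_apply, LinearMap.lsmul_apply, smul_eq_mul, Submodule.Quotient.mk_eq_zero] at hm
    rw [Submodule.Quotient.mk_eq_zero]
    obtain ⟨u, hu, v, hv, huv⟩ := Submodule.mem_sup.mp hm
    obtain ⟨i, hi, rfl⟩ := Ideal.mem_span_singleton_mul.mp hu
    -- a * (y - i) ∈ (b)
    have h1 : a * (y - i) ∈ Ideal.span ({b} : Set A) := by
      have : a * (y - i) = v := by rw [mul_sub, ← huv]; ring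
      rw [this]; exact hv
    have h2 : (Ideal.Quotient.mk (Ideal.span ({b} : Set A))) (y - i) = 0 := by
      apply ha
      simp only [smul_zero]
      rw [← Ideal.Quotient.eq_zero_iff_mem] at h1
      rw [Algebra.smul_def]
      simpa using h1
    rw [Ideal.Quotient.eq_zero_iff_mem] at h2
    have : y = i + (y - i) := by ring
    rw [this]
    exact K.add_mem (Ideal.mem_sup_left hi) (Ideal.mem_sup_right h2)
  have hg : Function.Surjective g := by
    intro m
    obtain ⟨y, rfl⟩ := Submodule.Quotient.mk_surjective _ m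
    exact ⟨Submodule.Quotient.mk y, by simp [g]⟩
  have H : Function.Exact f g := by
    intro m
    obtain ⟨y, rfl⟩ := Submodule.Quotient.mk_surjective _ m
    constructor
    · intro h
      rw [Submodule.mapQ_apply, LinearMap.id_apply, Submodule.Quotient.mk_eq_zero] at h
      obtain ⟨r, s, rfl⟩ := Ideal.mem_span_pair.mp h
      refine ⟨Submodule.Quotient.mk r, ?_⟩
      rw [Submodule.mapQ_apply, LinearMap.lsmul_apply, smul_eq_mul, eq_comm,
        ← sub_eq_zero, ← Submodule.Quotient.mk_sub, Submodule.Quotient.mk_eq_zero]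
      have : r * a + s * b - a * r = s * b := by ring
      rw [this]
      exact Ideal.mul_mem_left _ _ hbJ
    · rintro ⟨n, hn⟩
      obtain ⟨r, rfl⟩ := Submodule.Quotient.mk_surjective _ n
      rw [← hn, Submodule.mapQ_apply, Submodule.mapQ_apply, LinearMap.id_apply, LinearMap.lsmul_apply,
        smul_eq_mul, Submodule.Quotient.mk_eq_zero]
      exact Ideal.mul_mem_right _ _ (Ideal.subset_span (by simp))
  rw [Module.length_eq_add_of_exact f g hf hg H, add_comm]

end Groth.Agent.S15315
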