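import Groth.Statements.S15316
import Mathlib
import Groth.Agent.H76.NodeAlg
-- import your own Groth.Agent.* helpers here

set_option autoImplicit false
universe u
open ArLef ArLef.NodeAlg

namespace Groth.Agent.S15316

open Groth.Agent.H76.NodeAlg

theorem unit_of_prime_mul {R : Type*} [CommRing R] [IsLocalRing R] (p α : R)
    (hreg : ∀ x, p * x = 0 → x = 0) (hp : ¬ IsUnit p) (hs : Prime (p * α)) : IsUnit α := by
  rcases hs.dvd_or_dvd (dvd_refl (p * α)) with ⟨c, hc⟩ | ⟨c, hc⟩
  · have h1 : p * (1 - α * c) = 0 := by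
      have : p * (1 - α * c) = p - p * α * c := by ring
      rw [this, ← hc, sub_self]
    have h2 := hreg _ h1
    rw [sub_eq_zero] at h2
    exact ⟨⟨α, c, h2.symm, by rw [mul_comm]; exact h2.symm⟩, rfl⟩
  · have hu : IsUnit (1 - p * c) := by
      apply IsLocalRing.isUnit_one_sub_self_of_mem_nonunits
      exact fun h => hp (isUnit_of_mul_isUnit_left h)
    have h1 : α * (1 - p * c) = 0 := by
      have : α * (1 - p * c) = α - p * α * c := by ring
      rw [this, ← hc, sub_self]
    have hα : α = 0 := (hu.mul_left_eq_zero).mp h1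
    exact absurd (by rw [hα, mul_zero]) hs.ne_zero


/-- Let B be a discrete valuation ring with uniformizer π and N = B[[t, e]]/(te - π) the complete local
ring of a semi-stable arithmetic surface at a singular point of the closed fibre. A ring
automorphism σ of N with σ(π) associated to π (for instance a B-algebra automorphism, or one lying
over an automorphism of B) either stabilizes the two branches, σ(t) = α t and σ(e) = β e for units
α, β, or switches them, σ(t) = α e and σ(e) = β t for units α, β. (The published setting has B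
complete with algebraically closed residue field and σ linear over B or over an automorphism of B;
the argument uses only that σ(π) generates (π).) -/
theorem result (B : Type u) [CommRing B] [IsDomain B] [IsDiscreteValuationRing B] (π : B) (hπ : Irreducible π)
    (σ : ArLef.NodeAlg B π ≃+* ArLef.NodeAlg B π)
    (hσ : Associated (σ (algebraMap B (ArLef.NodeAlg B π) π)) (algebraMap B (ArLef.NodeAlg B π) π)) :
    (∃ α β : (ArLef.NodeAlg B π)ˣ, σ (ArLef.NodeAlg.t π) = (α : ArLef.NodeAlg B π) * ArLef.NodeAlg.t π ∧ σ (ArLef.NodeAlg.e π) = (β : ArLef.NodeAlg B π) * ArLef.NodeAlg.e π) ∨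
      (∃ α β : (ArLef.NodeAlg B π)ˣ, σ (ArLef.NodeAlg.t π) = (α : ArLef.NodeAlg B π) * ArLef.NodeAlg.e π ∧ σ (ArLef.NodeAlg.e π) = (β : ArLef.NodeAlg B π) * ArLef.NodeAlg.t π) := by
  classical
  have ha : π ∈ IsLocalRing.maximalIdeal B := by
    rw [IsLocalRing.mem_maximalIdeal, mem_nonunits_iff]; exact hπ.1
  have hm : IsLocalRing.maximalIdeal B = Ideal.span {π} := hπ.maximalIdeal_eq
  have hπ0 : π ≠ 0 := hπ.ne_zero
  haveI : IsLocalRing (ArLef.NodeAlg B π) := isLocalRing ha
  have hT : Prime (gen π 0) := gen_prime ha zero_ne_one' hm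
  have hE : Prime (gen π 1) := gen_prime ha one_ne_zero' hm
  have hTE : ¬ gen π 0 ∣ gen π 1 := gen_not_dvd ha zero_ne_one' hm
  have hET : ¬ gen π 1 ∣ gen π 0 := gen_not_dvd ha one_ne_zero' hm
  have hregT : ∀ x, gen π 0 * x = 0 → x = 0 := gen_regular ha hπ0 0
  have hregE : ∀ x, gen π 1 * x = 0 → x = 0 := gen_regular ha hπ0 1
  have hσT : Prime (σ (gen π 0)) := (MulEquiv.prime_iff σ).mpr hT
  have hσE : Prime (σ (gen π 1)) := (MulEquiv.prime_iff σ).mpr hE
  obtain ⟨u, hu⟩ := hσ
  rw [← gen_mul π, map_mul] at hu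
  have hTu : ¬ gen π 0 ∣ (u : ArLef.NodeAlg B π) :=
    gen_not_dvd_unit ha zero_ne_one' hm u.isUnit
  have hEu : ¬ gen π 1 ∣ (u : ArLef.NodeAlg B π) :=
    gen_not_dvd_unit ha one_ne_zero' hm u.isUnit
  have hT1 : gen π 0 ∣ σ (gen π 0) * σ (gen π 1) :=
    (hT.dvd_or_dvd (Dvd.intro _ hu.symm)).resolve_right hTu
  have hE1 : gen π 1 ∣ σ (gen π 0) * σ (gen π 1) :=
    (hE.dvd_or_dvd (Dvd.intro_left _ hu.symm)).resolve_right hEu
  change (∃ α β : (ArLef.NodeAlg B π)ˣ, σ (gen π 0) = (α : ArLef.NodeAlg B π) * gen π 0 ∧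
      σ (gen π 1) = (β : ArLef.NodeAlg B π) * gen π 1) ∨
    (∃ α β : (ArLef.NodeAlg B π)ˣ, σ (gen π 0) = (α : ArLef.NodeAlg B π) * gen π 1 ∧
      σ (gen π 1) = (β : ArLef.NodeAlg B π) * gen π 0)
  rcases hT.dvd_or_dvd hT1 with ⟨α, hα⟩ | ⟨β, hβ⟩
  · have hαu : IsUnit α :=
      unit_of_prime_mul (gen π 0) α hregT hT.not_isUnit (by rw [← hα]; exact hσT)
    have hE2 : gen π 1 ∣ σ (gen π 1) := by
      rcases hE.dvd_or_dvd hE1 with h | h
      · exfalso
        rw [hα] at h
        rcases hE.dvd_or_dvd h with h' | h'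
        · exact hET h'
        · exact gen_not_dvd_unit ha one_ne_zero' hm hαu h'
      · exact h
    obtain ⟨β, hβ⟩ := hE2
    have hβu : IsUnit β :=
      unit_of_prime_mul (gen π 1) β hregE hE.not_isUnit (by rw [← hβ]; exact hσE)
    left
    obtain ⟨α', rfl⟩ := hαu
    obtain ⟨β', rfl⟩ := hβu
    exact ⟨α', β', by rw [hα, mul_comm], by rw [hβ, mul_comm]⟩
  · have hβu : IsUnit β :=
      unit_of_prime_mul (gen π 0) β hregT hT.not_isUnit (by rw [← hβ]; exact hσE)
    have hE2 : gen π 1 ∣ σ (gen π 0) := by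
      rcases hE.dvd_or_dvd hE1 with h | h
      · exact h
      · exfalso
        rw [hβ] at h
        rcases hE.dvd_or_dvd h with h' | h'
        · exact hET h'
        · exact gen_not_dvd_unit ha one_ne_zero' hm hβu h'
    obtain ⟨α, hα⟩ := hE2
    have hαu : IsUnit α :=
      unit_of_prime_mul (gen π 1) α hregE hE.not_isUnit (by rw [← hα]; exact hσT)
    right
    obtain ⟨α', rfl⟩ := hαu
    obtain ⟨β', rfl⟩ := hβu
    exact ⟨α', β', by rw [hα, mul_comm], by rw [hβ, mul_comm]⟩

end Groth.Agent.S15316
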