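import Groth.Statements.S15317
import Mathlib
import Groth.Agent.H76.NodeAlg
-- import your own Groth.Agent.* helpers here

set_option autoImplicit false
universe u
open ArLef ArLef.NodeAlg

namespace Groth.Agent.S15317

open Groth.Agent.H76.NodeAlg


/-- Let B be a discrete valuation ring with uniformizer π, N = B[[t, e]]/(te - π), and σ a non-trivial
B-algebra automorphism of N stabilizing both branches of the closed fibre (σ(t) associated to t,
σ(e) associated to e). Then the fixed-point ideal of σ, generated by all σ(r) - r, is g·(t, e) for a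
non-zero g: the divisorial part of the fixed locus is cut out by g and its residual part is the
reduced closed point, of multiplicity one. (Stated in the complete local ring, where the published
argument takes place; the published setting has B complete with algebraically closed residue field.) -/
theorem result (B : Type u) [CommRing B] [IsDomain B] [IsDiscreteValuationRing B] (π : B) (hπ : Irreducible π)
    (σ : ArLef.NodeAlg B π ≃ₐ[B] ArLef.NodeAlg B π) (hσ : σ ≠ AlgEquiv.refl)
    (ht : Associated (σ (ArLef.NodeAlg.t π)) (ArLef.NodeAlg.t π))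
    (he : Associated (σ (ArLef.NodeAlg.e π)) (ArLef.NodeAlg.e π)) :
    ∃ g : ArLef.NodeAlg B π, g ≠ 0 ∧
      ArLef.fixIdeal σ = Ideal.span {g} * Ideal.span ({ArLef.NodeAlg.t π, ArLef.NodeAlg.e π} : Set (ArLef.NodeAlg B π)) := by
  classical
  have ha : π ∈ IsLocalRing.maximalIdeal B := by
    rw [IsLocalRing.mem_maximalIdeal, mem_nonunits_iff]; exact hπ.1
  have hm : IsLocalRing.maximalIdeal B = Ideal.span {π} := hπ.maximalIdeal_eq
  have hπ0 : π ≠ 0 := hπ.ne_zero
  have hregT : ∀ x, gen π 0 * x = 0 → x = 0 := gen_regular ha hπ0 0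
  have hregE : ∀ x, gen π 1 * x = 0 → x = 0 := gen_regular ha hπ0 1
  obtain ⟨u, hu⟩ := ht
  obtain ⟨v, hv⟩ := he
  have hu' : σ (gen π 0) * (u : ArLef.NodeAlg B π) = gen π 0 := hu
  have hv' : σ (gen π 1) * (v : ArLef.NodeAlg B π) = gen π 1 := hv
  obtain ⟨α, hα⟩ : ∃ α : (ArLef.NodeAlg B π)ˣ,
      σ (gen π 0) = (α : ArLef.NodeAlg B π) * gen π 0 := by
    refine ⟨u⁻¹, ?_⟩
    calc σ (gen π 0) = σ (gen π 0) * ((u : ArLef.NodeAlg B π) * ((u⁻¹ : (ArLef.NodeAlg B π)ˣ) :
          ArLef.NodeAlg B π)) := by rw [Units.mul_inv, mul_one]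
      _ = ((u⁻¹ : (ArLef.NodeAlg B π)ˣ) : ArLef.NodeAlg B π) *
          (σ (gen π 0) * (u : ArLef.NodeAlg B π)) := by ring
      _ = _ := by rw [hu']
  obtain ⟨β, hβ⟩ : ∃ β : (ArLef.NodeAlg B π)ˣ,
      σ (gen π 1) = (β : ArLef.NodeAlg B π) * gen π 1 := by
    refine ⟨v⁻¹, ?_⟩
    calc σ (gen π 1) = σ (gen π 1) * ((v : ArLef.NodeAlg B π) * ((v⁻¹ : (ArLef.NodeAlg B π)ˣ) :
          ArLef.NodeAlg B π)) := by rw [Units.mul_inv, mul_one]
      _ = ((v⁻¹ : (ArLef.NodeAlg B π)ˣ) : ArLef.NodeAlg B π) *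
          (σ (gen π 1) * (v : ArLef.NodeAlg B π)) := by ring
      _ = _ := by rw [hv']
  have hαβ : (α : ArLef.NodeAlg B π) * (β : ArLef.NodeAlg B π) = 1 := by
    have h1 : σ (gen π 0 * gen π 1) = gen π 0 * gen π 1 := by
      rw [gen_mul π]; exact σ.commutes π
    rw [map_mul, hα, hβ] at h1
    have h2 : gen π 0 * (gen π 1 * ((α : ArLef.NodeAlg B π) * β - 1)) = 0 := by
      have : gen π 0 * (gen π 1 * ((α : ArLef.NodeAlg B π) * β - 1)) =
          (α : ArLef.NodeAlg B π) * gen π 0 * (β * gen π 1) - gen π 0 * gen π 1 := by ring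
      rw [this, h1, sub_self]
    exact sub_eq_zero.mp (hregE _ (hregT _ h2))
  have hsub : ∀ r, σ r - r ∈ ArLef.fixIdeal σ := fun r =>
    show σ r - r ∈ Ideal.span _ from Ideal.subset_span ⟨r, rfl⟩
  have hfix := fixIdeal_algEquiv ha σ
  change ∃ g : ArLef.NodeAlg B π, g ≠ 0 ∧
      ArLef.fixIdeal σ = Ideal.span {g} * Ideal.span {gen π 0, gen π 1}
  refine ⟨(α : ArLef.NodeAlg B π) - 1, ?_, ?_⟩
  · intro hg
    apply hσ
    have hα1 : (α : ArLef.NodeAlg B π) = 1 := sub_eq_zero.mp hg
    have hβ1 : (β : ArLef.NodeAlg B π) = 1 := by rw [hα1, one_mul] at hαβ; exact hαβ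
    have hbot : ArLef.fixIdeal σ = ⊥ := by
      rw [hfix, hα, hβ, hα1, hβ1, one_mul, one_mul, sub_self, sub_self]
      simp
    apply AlgEquiv.ext
    intro r
    have h1 : σ r - r ∈ ArLef.fixIdeal σ := hsub r
    rw [hbot, Ideal.mem_bot, sub_eq_zero] at h1
    exact h1
  · rw [hfix]
    apply le_antisymm
    · refine Ideal.span_le.mpr ?_
      rintro w (rfl | rfl)
      · rw [hα]
        have : (α : ArLef.NodeAlg B π) * gen π 0 - gen π 0 =
            ((α : ArLef.NodeAlg B π) - 1) * gen π 0 := by ring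
        rw [this]
        exact Ideal.mul_mem_mul (Ideal.mem_span_singleton_self _) (Ideal.subset_span (by simp))
      · rw [hβ]
        have : (β : ArLef.NodeAlg B π) * gen π 1 - gen π 1 =
            (-(β : ArLef.NodeAlg B π)) * (((α : ArLef.NodeAlg B π) - 1) * gen π 1) := by
          linear_combination (gen π 1) * hαβ
        rw [this]
        exact Ideal.mul_mem_left _ _
          (Ideal.mul_mem_mul (Ideal.mem_span_singleton_self _) (Ideal.subset_span (by simp)))
    · rw [Ideal.mul_le]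
      intro r hr s hs
      obtain ⟨c, rfl⟩ := Ideal.mem_span_singleton'.mp hr
      obtain ⟨d, f, rfl⟩ := Ideal.mem_span_pair.mp hs
      rw [hα, hβ]
      refine Ideal.mem_span_pair.mpr ⟨c * d, -(c * f * α), ?_⟩
      linear_combination (-(c * f * gen π 1)) * hαβ

end Groth.Agent.S15317
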