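import Groth.Statements.S15318
import Mathlib
import Groth.Agent.H76.NodeAlg
-- import your own Groth.Agent.* helpers here

set_option autoImplicit false
universe u
open ArLef ArLef.NodeAlg

namespace Groth.Agent.S15318

open Groth.Agent.H76.NodeAlg


/-- Let B be a discrete valuation ring with uniformizer π, N = B[[t, e]]/(te - π), and σ a B-algebra
automorphism of N switching the two branches of the closed fibre (σ(t) associated to e, σ(e)
associated to t). Then the fixed-point ideal of σ is principal, generated by an element h of order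
one (h is not in (t, e)²), and π is a non-zero-divisor modulo h: the fixed locus is a horizontal
regular divisor through the point with empty residual part. (Stated in the complete local ring,
where the published argument takes place; the published setting has B complete with algebraically
closed residue field.) -/
theorem result (B : Type u) [CommRing B] [IsDomain B] [IsDiscreteValuationRing B] (π : B) (hπ : Irreducible π)
    (σ : ArLef.NodeAlg B π ≃ₐ[B] ArLef.NodeAlg B π)
    (ht : Associated (σ (ArLef.NodeAlg.t π)) (ArLef.NodeAlg.e π))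
    (he : Associated (σ (ArLef.NodeAlg.e π)) (ArLef.NodeAlg.t π)) :
    ∃ h : ArLef.NodeAlg B π, ArLef.fixIdeal σ = Ideal.span {h} ∧
      h ∉ (Ideal.span ({ArLef.NodeAlg.t π, ArLef.NodeAlg.e π} : Set (ArLef.NodeAlg B π))) ^ 2 ∧
      IsSMulRegular (ArLef.NodeAlg B π ⧸ Ideal.span ({h} : Set (ArLef.NodeAlg B π))) π := by
  classical
  have ha : π ∈ IsLocalRing.maximalIdeal B := by
    rw [IsLocalRing.mem_maximalIdeal, mem_nonunits_iff]; exact hπ.1
  have hm : IsLocalRing.maximalIdeal B = Ideal.span {π} := hπ.maximalIdeal_eq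
  have hπ0 : π ≠ 0 := hπ.ne_zero
  have hT : Prime (gen π 0) := gen_prime ha zero_ne_one' hm
  have hE : Prime (gen π 1) := gen_prime ha one_ne_zero' hm
  have hTE : ¬ gen π 0 ∣ gen π 1 := gen_not_dvd ha zero_ne_one' hm
  have hET : ¬ gen π 1 ∣ gen π 0 := gen_not_dvd ha one_ne_zero' hm
  have hregT : ∀ x, gen π 0 * x = 0 → x = 0 := gen_regular ha hπ0 0
  have hregE : ∀ x, gen π 1 * x = 0 → x = 0 := gen_regular ha hπ0 1
  obtain ⟨u, hu⟩ := ht
  obtain ⟨v, hv⟩ := he
  have hu' : σ (gen π 0) * (u : ArLef.NodeAlg B π) = gen π 1 := hu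
  have hv' : σ (gen π 1) * (v : ArLef.NodeAlg B π) = gen π 0 := hv
  obtain ⟨α, hα⟩ : ∃ α : (ArLef.NodeAlg B π)ˣ,
      σ (gen π 0) = (α : ArLef.NodeAlg B π) * gen π 1 := by
    refine ⟨u⁻¹, ?_⟩
    calc σ (gen π 0) = σ (gen π 0) * ((u : ArLef.NodeAlg B π) * ((u⁻¹ : (ArLef.NodeAlg B π)ˣ) :
          ArLef.NodeAlg B π)) := by rw [Units.mul_inv, mul_one]
      _ = ((u⁻¹ : (ArLef.NodeAlg B π)ˣ) : ArLef.NodeAlg B π) *
          (σ (gen π 0) * (u : ArLef.NodeAlg B π)) := by ring
      _ = _ := by rw [hu']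
  obtain ⟨β, hβ⟩ : ∃ β : (ArLef.NodeAlg B π)ˣ,
      σ (gen π 1) = (β : ArLef.NodeAlg B π) * gen π 0 := by
    refine ⟨v⁻¹, ?_⟩
    calc σ (gen π 1) = σ (gen π 1) * ((v : ArLef.NodeAlg B π) * ((v⁻¹ : (ArLef.NodeAlg B π)ˣ) :
          ArLef.NodeAlg B π)) := by rw [Units.mul_inv, mul_one]
      _ = ((v⁻¹ : (ArLef.NodeAlg B π)ˣ) : ArLef.NodeAlg B π) *
          (σ (gen π 1) * (v : ArLef.NodeAlg B π)) := by ring
      _ = _ := by rw [hv']
  have hαβ : (α : ArLef.NodeAlg B π) * (β : ArLef.NodeAlg B π) = 1 := by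
    have h1 : σ (gen π 0 * gen π 1) = gen π 0 * gen π 1 := by
      rw [gen_mul π]; exact σ.commutes π
    rw [map_mul, hα, hβ] at h1
    have h2 : gen π 0 * (gen π 1 * ((α : ArLef.NodeAlg B π) * β - 1)) = 0 := by
      have : gen π 0 * (gen π 1 * ((α : ArLef.NodeAlg B π) * β - 1)) =
          (α : ArLef.NodeAlg B π) * gen π 1 * (β * gen π 0) - gen π 0 * gen π 1 := by ring
      rw [this, h1, sub_self]
    exact sub_eq_zero.mp (hregE _ (hregT _ h2))
  have hfix := fixIdeal_algEquiv ha σ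
  obtain ⟨h, hh⟩ : ∃ h : ArLef.NodeAlg B π, h = σ (gen π 0) - gen π 0 := ⟨_, rfl⟩
  have hh' : h = (α : ArLef.NodeAlg B π) * gen π 1 - gen π 0 := by rw [hh, hα]
  have hTh : ¬ gen π 0 ∣ h := by
    intro hd
    have h1 : gen π 0 ∣ (α : ArLef.NodeAlg B π) * gen π 1 := by
      have := dvd_add hd (dvd_refl (gen π 0))
      rwa [hh', sub_add_cancel] at this
    rcases hT.dvd_or_dvd h1 with h' | h'
    · exact gen_not_dvd_unit ha zero_ne_one' hm α.isUnit h'
    · exact hTE h'
  have hEh : ¬ gen π 1 ∣ h := by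
    intro hd
    have h1 : gen π 1 ∣ (α : ArLef.NodeAlg B π) * gen π 1 := Dvd.intro_left _ rfl
    have := dvd_sub h1 hd
    rw [hh', sub_sub_cancel] at this
    exact hET this
  change ∃ h : ArLef.NodeAlg B π, ArLef.fixIdeal σ = Ideal.span {h} ∧
      h ∉ (Ideal.span ({gen π 0, gen π 1} : Set (ArLef.NodeAlg B π))) ^ 2 ∧
      IsSMulRegular (ArLef.NodeAlg B π ⧸ Ideal.span ({h} : Set (ArLef.NodeAlg B π))) π
  refine ⟨h, ?_, ?_, ?_⟩
  · rw [hfix, ← hh]
    apply le_antisymm
    · refine Ideal.span_le.mpr ?_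
      rintro w (hw | hw)
      · rw [hw]; exact Ideal.mem_span_singleton_self h
      · rw [Set.mem_singleton_iff] at hw
        rw [hw]
        refine Ideal.mem_span_singleton'.mpr ⟨-(β : ArLef.NodeAlg B π), ?_⟩
        rw [hβ, hh']
        linear_combination (-(gen π 1)) * hαβ
    · exact Ideal.span_mono (by simp)
  · intro hmem
    have hle : Ideal.span {gen π 0, gen π 1} ≤
        Ideal.comap (q ha 1) (Ideal.span {PowerSeries.X}) := by
      refine Ideal.span_le.mpr ?_
      rintro w (rfl | rfl)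
      · rw [SetLike.mem_coe, Ideal.mem_comap, q_gen_ne ha zero_ne_one']; exact Ideal.zero_mem _
      · rw [SetLike.mem_coe, Ideal.mem_comap, q_gen_same]
        exact Ideal.mem_span_singleton_self _
    have h2 : q ha 1 h ∈ (Ideal.span
        {(PowerSeries.X : PowerSeries (IsLocalRing.ResidueField B))}) ^ 2 :=
      Ideal.le_comap_pow _ 2 (Ideal.pow_right_mono hle 2 hmem)
    rw [Ideal.span_singleton_pow, Ideal.mem_span_singleton, hh', map_sub, map_mul, q_gen_same,
      q_gen_ne ha zero_ne_one', sub_zero] at h2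
    obtain ⟨c, hc⟩ := h2
    have h3 : q ha 1 (α : ArLef.NodeAlg B π) = PowerSeries.X * c := by
      apply mul_right_cancel₀ (PowerSeries.X_ne_zero (R := IsLocalRing.ResidueField B))
      rw [hc]; ring
    have h4 : IsUnit (q ha 1 (α : ArLef.NodeAlg B π)) := α.isUnit.map (q ha 1)
    rw [h3] at h4
    exact PowerSeries.X_prime.not_unit (isUnit_of_mul_isUnit_left h4)
  · rw [isSMulRegular_iff_right_eq_zero_of_smul]
    intro m hm0
    obtain ⟨x, rfl⟩ := Submodule.Quotient.mk_surjective _ m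
    rw [← Submodule.Quotient.mk_smul, Submodule.Quotient.mk_eq_zero] at hm0
    have hm1 : gen π 0 * gen π 1 * x ∈ Ideal.span {h} := by
      have e1 : gen π 0 * gen π 1 * x = π • x := by
        rw [gen_mul π]; exact (Algebra.smul_def π x).symm
      rw [e1]; exact hm0
    rw [Submodule.Quotient.mk_eq_zero]
    obtain ⟨z, hz⟩ := Ideal.mem_span_singleton'.mp hm1
    have h1 : gen π 0 ∣ z * h := ⟨gen π 1 * x, by rw [hz]; ring⟩
    obtain ⟨z', rfl⟩ := (hT.dvd_or_dvd h1).resolve_right hTh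
    have h2 : gen π 1 * x = z' * h := by
      apply gen_cancel ha hπ0 0
      rw [← mul_assoc, ← hz]; ring
    have h3 : gen π 1 ∣ z' * h := ⟨x, h2.symm⟩
    obtain ⟨z'', rfl⟩ := (hE.dvd_or_dvd h3).resolve_right hEh
    have h4 : x = z'' * h := by
      apply gen_cancel ha hπ0 1
      rw [h2]; ring
    rw [h4]
    exact Ideal.mem_span_singleton'.mpr ⟨z'', rfl⟩

end Groth.Agent.S15318
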