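import Groth.Statements.S15319
import Mathlib

set_option autoImplicit false
set_option linter.style.haveILetI false
set_option linter.unusedSectionVars false
universe u
open ArLef ArLef.NodeAlg

namespace Groth.Agent.S15319

section Helpers

/-- the defining ideal of the node algebra -/
noncomputable abbrev nodeIdeal (B : Type u) [CommRing B] (π : B) : Ideal (MvPowerSeries (Fin 2) B) :=
  Ideal.span {(MvPowerSeries.X 0 * MvPowerSeries.X 1 - MvPowerSeries.C π : MvPowerSeries (Fin 2) B)}

theorem pi_pow_notMem {B : Type u} [CommRing B] [IsDomain B] (π : B) (hπ0 : π ≠ 0)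
    (hπu : ¬ IsUnit π) (j : ℕ) :
    (MvPowerSeries.C π : MvPowerSeries (Fin 2) B) ^ j ∉ nodeIdeal B π := by
  classical
  intro hmem
  obtain ⟨G, hG⟩ := Ideal.mem_span_singleton'.mp hmem
  obtain ⟨d, hd⟩ : ∃ d : Fin 2 →₀ ℕ, d = Finsupp.single 0 1 + Finsupp.single 1 1 := ⟨_, rfl⟩
  have hX : (MvPowerSeries.X 0 * MvPowerSeries.X 1 : MvPowerSeries (Fin 2) B)
      = MvPowerSeries.monomial d (1 : B) := by
    rw [MvPowerSeries.X_def, MvPowerSeries.X_def, MvPowerSeries.monomial_mul_monomial, mul_one, hd]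
  rw [hX, mul_sub, ← map_pow] at hG
  have hd0 : ∀ n : ℕ, n • d + d ≠ 0 := by
    intro n h
    have := DFunLike.congr_fun h 0
    simp [hd] at this
  have hrec : ∀ n : ℕ, MvPowerSeries.coeff (n • d) G = MvPowerSeries.coeff (n • d + d) G * π := by
    intro n
    have hc := congrArg (MvPowerSeries.coeff (n • d + d)) hG
    rw [map_sub, MvPowerSeries.coeff_add_mul_monomial, MvPowerSeries.coeff_mul_C,
      MvPowerSeries.coeff_C, if_neg (hd0 n), mul_one] at hc
    exact sub_eq_zero.mp hc
  have h0 : MvPowerSeries.coeff 0 G * π = -π ^ j := by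
    have hc := congrArg (MvPowerSeries.coeff (0 : Fin 2 →₀ ℕ)) hG
    rw [map_sub, MvPowerSeries.coeff_mul_monomial, MvPowerSeries.coeff_mul_C,
      MvPowerSeries.coeff_C, if_pos rfl] at hc
    have hnle : ¬ d ≤ 0 := by
      intro h
      have := Finsupp.le_def.mp h 0
      simp [hd] at this
    rw [if_neg hnle] at hc
    linear_combination -hc
  have hall : ∀ n : ℕ, MvPowerSeries.coeff (n • d) G * π ^ (n + 1) = -π ^ j := by
    intro n
    induction n with
    | zero => simpa using h0
    | succ n ih =>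
      have := hrec n
      rw [succ_nsmul]
      rw [this] at ih
      linear_combination ih
  have hj := hall j
  have : π ^ j * (MvPowerSeries.coeff (j • d) G * π + 1) = 0 := by
    linear_combination hj
  rcases mul_eq_zero.mp this with h | h
  · exact pow_ne_zero j hπ0 h
  · apply hπu
    exact IsUnit.of_mul_eq_one (-(MvPowerSeries.coeff (j • d) G)) (by linear_combination -h)

theorem main (B : Type u) [CommRing B] [IsDomain B] [IsDiscreteValuationRing B] (π : B)
    (hπ : Irreducible π)
    (j : ℕ) (hj : 1 ≤ j) (γ : B) (hγ : IsUnit γ)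
    (σ : ArLef.NodeAlg B π ≃+* ArLef.NodeAlg B π)
    (hσ : σ (algebraMap B (ArLef.NodeAlg B π) π)
      = algebraMap B (ArLef.NodeAlg B π) (π + γ * π ^ j)) :
    ¬ ArLef.fixIdeal σ ≤ Ideal.span
      ({algebraMap B (ArLef.NodeAlg B π) (π ^ j)} : Set (ArLef.NodeAlg B π)) := by
  intro hle
  have hmk : ∀ b : B, algebraMap B (ArLef.NodeAlg B π) b
      = Ideal.Quotient.mk (nodeIdeal B π) (MvPowerSeries.C b) := by
    intro b; rfl
  have hte : ArLef.NodeAlg.t π * ArLef.NodeAlg.e π = algebraMap B (ArLef.NodeAlg B π) π := by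
    rw [hmk, ← sub_eq_zero]
    show Ideal.Quotient.mk (nodeIdeal B π) (MvPowerSeries.X 0)
      * Ideal.Quotient.mk (nodeIdeal B π) (MvPowerSeries.X 1)
      - Ideal.Quotient.mk (nodeIdeal B π) (MvPowerSeries.C π) = 0
    rw [← map_mul, ← map_sub, Ideal.Quotient.eq_zero_iff_mem]
    exact Ideal.subset_span rfl
  obtain ⟨P, hP⟩ : ∃ P, P = algebraMap B (ArLef.NodeAlg B π) (π ^ j) := ⟨_, rfl⟩
  rw [← hP] at hle
  have ht : σ (ArLef.NodeAlg.t π) - ArLef.NodeAlg.t π ∈ ArLef.fixIdeal σ :=
    Ideal.subset_span ⟨_, rfl⟩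
  have he : σ (ArLef.NodeAlg.e π) - ArLef.NodeAlg.e π ∈ ArLef.fixIdeal σ :=
    Ideal.subset_span ⟨_, rfl⟩
  obtain ⟨a, ha⟩ := Ideal.mem_span_singleton'.mp (hle ht)
  obtain ⟨b, hb⟩ := Ideal.mem_span_singleton'.mp (hle he)
  have hσπ : σ (algebraMap B (ArLef.NodeAlg B π) π)
      = σ (ArLef.NodeAlg.t π) * σ (ArLef.NodeAlg.e π) := by rw [← hte, map_mul]
  have hrhs : algebraMap B (ArLef.NodeAlg B π) (π + γ * π ^ j)
      = algebraMap B (ArLef.NodeAlg B π) π + algebraMap B (ArLef.NodeAlg B π) γ * P := by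
    rw [map_add, map_mul, hP]
  have key : P * (a * ArLef.NodeAlg.e π + ArLef.NodeAlg.t π * b + a * b * P
      - algebraMap B (ArLef.NodeAlg B π) γ) = 0 := by
    have h1 : σ (ArLef.NodeAlg.t π) = ArLef.NodeAlg.t π + a * P := by linear_combination -ha
    have h2 : σ (ArLef.NodeAlg.e π) = ArLef.NodeAlg.e π + b * P := by linear_combination -hb
    have h3 := hσ
    rw [hσπ, hrhs, h1, h2] at h3
    linear_combination h3 - hte
  obtain ⟨A', rfl⟩ := Ideal.Quotient.mk_surjective a
  obtain ⟨B', rfl⟩ := Ideal.Quotient.mk_surjective b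
  obtain ⟨Z, hZ⟩ : ∃ Z : MvPowerSeries (Fin 2) B, Z = A' * MvPowerSeries.X 1
      + MvPowerSeries.X 0 * B' + A' * B' * MvPowerSeries.C (π ^ j) - MvPowerSeries.C γ := ⟨_, rfl⟩
  have hZmk : Ideal.Quotient.mk (nodeIdeal B π) Z
      = Ideal.Quotient.mk (nodeIdeal B π) A' * ArLef.NodeAlg.e π
        + ArLef.NodeAlg.t π * Ideal.Quotient.mk (nodeIdeal B π) B'
        + Ideal.Quotient.mk (nodeIdeal B π) A' * Ideal.Quotient.mk (nodeIdeal B π) B' * P
        - algebraMap B (ArLef.NodeAlg B π) γ := by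
    rw [hZ, hP, hmk, hmk]
    simp only [map_add, map_sub, map_mul]
  have hZu : IsUnit Z := by
    rw [MvPowerSeries.isUnit_iff_constantCoeff, hZ]
    simp only [map_add, map_sub, map_mul, MvPowerSeries.constantCoeff_X,
      MvPowerSeries.constantCoeff_C, mul_zero, zero_mul, zero_add, add_zero]
    have hπm : π ∈ IsLocalRing.maximalIdeal B :=
      (IsLocalRing.mem_maximalIdeal π).mpr hπ.not_isUnit
    have hxm : MvPowerSeries.constantCoeff A' * MvPowerSeries.constantCoeff B' * π ^ j
        ∈ IsLocalRing.maximalIdeal B :=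
      Ideal.mul_mem_left _ _ (Ideal.pow_mem_of_mem _ hπm j (by omega))
    by_contra hnu
    have hnm : MvPowerSeries.constantCoeff A' * MvPowerSeries.constantCoeff B' * π ^ j - γ
        ∈ IsLocalRing.maximalIdeal B := (IsLocalRing.mem_maximalIdeal _).mpr hnu
    have hγm : γ ∈ IsLocalRing.maximalIdeal B := by
      have := Ideal.sub_mem _ hxm hnm
      simpa using this
    exact (IsLocalRing.mem_maximalIdeal γ).mp hγm hγ
  have hzu : IsUnit (Ideal.Quotient.mk (nodeIdeal B π) Z) :=
    hZu.map (Ideal.Quotient.mk (nodeIdeal B π))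
  rw [hZmk] at hzu
  have hP0 : P = 0 := (IsUnit.mul_left_eq_zero hzu).mp key
  have hmem : (MvPowerSeries.C π : MvPowerSeries (Fin 2) B) ^ j ∈ nodeIdeal B π := by
    rw [← Ideal.Quotient.eq_zero_iff_mem, map_pow, ← hmk, ← map_pow, ← hP]
    exact hP0
  exact pi_pow_notMem π hπ.ne_zero hπ.not_isUnit j hmem

end Helpers

/-- Let B be a discrete valuation ring with uniformizer π, N = B[[t, e]]/(te - π) the complete local
ring of a semi-stable arithmetic surface over B at a singular point of the closed fibre, and σ a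
ring automorphism of N sending π to π + γ π^j with γ a unit of B and j ≥ 1 (σ lies over an
automorphism τ of B with v(τ(π) - π) = j). Then the fixed-point ideal of σ is not contained in (π^j)
= (t^j e^j): the two branches through the point cannot both occur with multiplicity j in the
divisorial part of the fixed locus. (The published setting has B complete with algebraically closed
residue field.) -/
theorem result (B : Type u) [CommRing B] [IsDomain B] [IsDiscreteValuationRing B] (π : B) (hπ : Irreducible π)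
    (j : ℕ) (hj : 1 ≤ j) (γ : B) (hγ : IsUnit γ)
    (σ : ArLef.NodeAlg B π ≃+* ArLef.NodeAlg B π)
    (hσ : σ (algebraMap B (ArLef.NodeAlg B π) π) = algebraMap B (ArLef.NodeAlg B π) (π + γ * π ^ j)) :
    ¬ ArLef.fixIdeal σ ≤ Ideal.span ({algebraMap B (ArLef.NodeAlg B π) (π ^ j)} : Set (ArLef.NodeAlg B π)) := by
  exact main B π hπ j hj γ hγ σ hσ

end Groth.Agent.S15319
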