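import Groth.Statements.S15320
import Mathlib
import Groth.Agent.H76.NodeAlg
-- import your own Groth.Agent.* helpers here

set_option autoImplicit false
universe u
open ArLef ArLef.NodeAlg

namespace Groth.Agent.S15320

open Groth.Agent.H76.NodeAlg


/-- Let B be a discrete valuation ring with uniformizer π, N = B[[t, e]]/(te - π) the complete local
ring of a semi-stable arithmetic surface over B at a singular point x of the closed fibre, and σ a
ring automorphism of N over an automorphism τ of B with v(τ(π) - π) = j ≥ 1, that is σ(π) = π + γ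
π^j with γ a unit of B, and with σ(b) - b ∈ π^j N for every b ∈ B (automatic when B is totally
ramified over the fixed ring of τ, as in the published setting, where the residue field is
algebraically closed). If σ switches the two branches through x (σ(t) associated to e and σ(e) to
t), then the fixed-point ideal I of σ is contained in no proper principal ideal (x is not on the
divisorial part of the fixed locus) and N/I has length 2j - 1 (the multiplicity of x in the residual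
fixed-point scheme). -/
theorem result (B : Type u) [CommRing B] [IsDomain B] [IsDiscreteValuationRing B] (π : B) (hπ : Irreducible π)
    (j : ℕ) (hj : 1 ≤ j) (γ : B) (hγ : IsUnit γ)
    (σ : ArLef.NodeAlg B π ≃+* ArLef.NodeAlg B π)
    (hσB : ∀ b : B, σ (algebraMap B (ArLef.NodeAlg B π) b) - algebraMap B (ArLef.NodeAlg B π) b ∈
      Ideal.span ({algebraMap B (ArLef.NodeAlg B π) (π ^ j)} : Set (ArLef.NodeAlg B π)))
    (hσπ : σ (algebraMap B (ArLef.NodeAlg B π) π) = algebraMap B (ArLef.NodeAlg B π) (π + γ * π ^ j))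
    (ht : Associated (σ (ArLef.NodeAlg.t π)) (ArLef.NodeAlg.e π)) (he : Associated (σ (ArLef.NodeAlg.e π)) (ArLef.NodeAlg.t π)) :
    (∀ g : ArLef.NodeAlg B π, ArLef.fixIdeal σ ≤ Ideal.span ({g} : Set (ArLef.NodeAlg B π)) → IsUnit g) ∧
      Module.length (ArLef.NodeAlg B π) (ArLef.NodeAlg B π ⧸ ArLef.fixIdeal σ) = ((2 * j - 1 : ℕ) : ℕ∞) := by
  classical
  have ha : π ∈ IsLocalRing.maximalIdeal B := by
    rw [IsLocalRing.mem_maximalIdeal, mem_nonunits_iff]; exact hπ.1
  have hm : IsLocalRing.maximalIdeal B = Ideal.span {π} := hπ.maximalIdeal_eq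
  have hπ0 : π ≠ 0 := hπ.ne_zero
  have hT : Prime (gen π 0) := gen_prime ha zero_ne_one' hm
  have hE : Prime (gen π 1) := gen_prime ha one_ne_zero' hm
  have hTE : ¬ gen π 0 ∣ gen π 1 := gen_not_dvd ha zero_ne_one' hm
  have hET : ¬ gen π 1 ∣ gen π 0 := gen_not_dvd ha one_ne_zero' hm
  have hregT : ∀ x, gen π 0 * x = 0 → x = 0 := gen_regular ha hπ0 0
  have hregE : ∀ x, gen π 1 * x = 0 → x = 0 := gen_regular ha hπ0 1
  obtain ⟨u, hu⟩ := ht
  obtain ⟨v, hv⟩ := he
  have hu' : σ (gen π 0) * (u : ArLef.NodeAlg B π) = gen π 1 := hu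
  have hv' : σ (gen π 1) * (v : ArLef.NodeAlg B π) = gen π 0 := hv
  obtain ⟨α, hα⟩ : ∃ α : (ArLef.NodeAlg B π)ˣ,
      σ (gen π 0) = (α : ArLef.NodeAlg B π) * gen π 1 := by
    refine ⟨u⁻¹, ?_⟩
    calc σ (gen π 0) = σ (gen π 0) * ((u : ArLef.NodeAlg B π) * ((u⁻¹ : (ArLef.NodeAlg B π)ˣ) :
          ArLef.NodeAlg B π)) := by rw [Units.mul_inv, mul_one]
      _ = ((u⁻¹ : (ArLef.NodeAlg B π)ˣ) : ArLef.NodeAlg B π) *
          (σ (gen π 0) * (u : ArLef.NodeAlg B π)) := by ring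
      _ = _ := by rw [hu']
  obtain ⟨β, hβ⟩ : ∃ β : (ArLef.NodeAlg B π)ˣ,
      σ (gen π 1) = (β : ArLef.NodeAlg B π) * gen π 0 := by
    refine ⟨v⁻¹, ?_⟩
    calc σ (gen π 1) = σ (gen π 1) * ((v : ArLef.NodeAlg B π) * ((v⁻¹ : (ArLef.NodeAlg B π)ˣ) :
          ArLef.NodeAlg B π)) := by rw [Units.mul_inv, mul_one]
      _ = ((v⁻¹ : (ArLef.NodeAlg B π)ˣ) : ArLef.NodeAlg B π) *
          (σ (gen π 1) * (v : ArLef.NodeAlg B π)) := by ring
      _ = _ := by rw [hv']
  obtain ⟨j', rfl⟩ : ∃ j', j = j' + 1 := ⟨j - 1, by omega⟩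
  have hPTE : gen π 0 * gen π 1 = algebraMap B (ArLef.NodeAlg B π) π := gen_mul π
  have hαβ : (α : ArLef.NodeAlg B π) * (β : ArLef.NodeAlg B π) =
      1 + algebraMap B (ArLef.NodeAlg B π) γ * (gen π 0 * gen π 1) ^ j' := by
    have h1 : σ (gen π 0 * gen π 1) = gen π 0 * gen π 1 +
        algebraMap B (ArLef.NodeAlg B π) γ * (gen π 0 * gen π 1) ^ (j' + 1) := by
      rw [hPTE, hσπ, map_add, map_mul, map_pow]
    rw [map_mul, hα, hβ] at h1
    have h2 : gen π 0 * (gen π 1 * ((α : ArLef.NodeAlg B π) * β - 1 -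
        algebraMap B (ArLef.NodeAlg B π) γ * (gen π 0 * gen π 1) ^ j')) = 0 := by
      have : gen π 0 * (gen π 1 * ((α : ArLef.NodeAlg B π) * β - 1 -
          algebraMap B (ArLef.NodeAlg B π) γ * (gen π 0 * gen π 1) ^ j')) =
          (α : ArLef.NodeAlg B π) * gen π 1 * (β * gen π 0) - (gen π 0 * gen π 1 +
            algebraMap B (ArLef.NodeAlg B π) γ * (gen π 0 * gen π 1) ^ (j' + 1)) := by ring
      rw [this, h1, sub_self]
    have h3 := hregE _ (hregT _ h2)
    linear_combination h3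
  obtain ⟨h, hh⟩ : ∃ h : ArLef.NodeAlg B π, h = σ (gen π 0) - gen π 0 := ⟨_, rfl⟩
  have hh' : h = (α : ArLef.NodeAlg B π) * gen π 1 - gen π 0 := by rw [hh, hα]
  have hTh : ¬ gen π 0 ∣ h := by
    intro hd
    have h1 : gen π 0 ∣ (α : ArLef.NodeAlg B π) * gen π 1 := by
      have := dvd_add hd (dvd_refl (gen π 0))
      rwa [hh', sub_add_cancel] at this
    rcases hT.dvd_or_dvd h1 with h' | h'
    · exact gen_not_dvd_unit ha zero_ne_one' hm α.isUnit h'
    · exact hTE h'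
  have hEh : ¬ gen π 1 ∣ h := by
    intro hd
    have h1 : gen π 1 ∣ (α : ArLef.NodeAlg B π) * gen π 1 := Dvd.intro_left _ rfl
    have := dvd_sub h1 hd
    rw [hh', sub_sub_cancel] at this
    exact hET this
  have hcong : ∀ n : ℕ, h ∣ (gen π 0 * gen π 1) ^ n -
      ((α : ArLef.NodeAlg B π) * gen π 1 ^ 2) ^ n := by
    intro n
    refine dvd_trans ⟨-(gen π 1), ?_⟩ (sub_dvd_pow_sub_pow _ _ n)
    rw [hh']; ring
  obtain ⟨J, hJ⟩ : ∃ J : Ideal (ArLef.NodeAlg B π),
      J = Ideal.span {h} ⊔ Ideal.span {gen π 1 ^ (2 * j' + 1)} := ⟨_, rfl⟩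
  have hJl : ∀ x, h ∣ x → x ∈ J := by
    intro x hx; rw [hJ]; exact Ideal.mem_sup_left (Ideal.mem_span_singleton.mpr hx)
  have hJr : ∀ x, x * gen π 1 ^ (2 * j' + 1) ∈ J := by
    intro x; rw [hJ]
    exact Ideal.mem_sup_right (Ideal.mul_mem_left _ _ (Ideal.mem_span_singleton_self _))
  have hhJ : h ∈ J := hJl h (dvd_refl h)
  have hQJ : (gen π 0 * gen π 1) ^ j' * gen π 1 ∈ J := by
    obtain ⟨c, hc⟩ := hcong j'
    have h1 : (gen π 0 * gen π 1) ^ j' = h * c + ((α : ArLef.NodeAlg B π) * gen π 1 ^ 2) ^ j' := by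
      rw [← hc]; ring
    have h2 : (gen π 0 * gen π 1) ^ j' * gen π 1 =
        h * (c * gen π 1) + (α : ArLef.NodeAlg B π) ^ j' * gen π 1 ^ (2 * j' + 1) := by
      rw [h1]; ring
    rw [h2]
    exact J.add_mem (hJl _ ⟨_, rfl⟩) (hJr _)
  have hPJ : (gen π 0 * gen π 1) ^ (j' + 1) ∈ J := by
    have : (gen π 0 * gen π 1) ^ (j' + 1) =
        gen π 0 * ((gen π 0 * gen π 1) ^ j' * gen π 1) := by ring
    rw [this]; exact J.mul_mem_left _ hQJ
  have hsub : ∀ r, σ r - r ∈ ArLef.fixIdeal σ := fun r =>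
    show σ r - r ∈ Ideal.span _ from Ideal.subset_span ⟨r, rfl⟩
  have hσE : σ (gen π 1) - gen π 1 = -(β : ArLef.NodeAlg B π) * h +
      algebraMap B (ArLef.NodeAlg B π) γ * ((gen π 0 * gen π 1) ^ j' * gen π 1) := by
    rw [hβ, hh']
    linear_combination (gen π 1) * hαβ
  have hle : ArLef.fixIdeal σ ≤ J := by
    refine fixIdeal_le ha σ J ?_ ?_ ?_
    · intro b
      have h1 := hσB b
      rw [map_pow, ← hPTE, Ideal.mem_span_singleton'] at h1
      obtain ⟨c, hc⟩ := h1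
      rw [← hc]; exact J.mul_mem_left _ hPJ
    · rw [← hh]; exact hhJ
    · rw [hσE]
      exact J.add_mem (J.mul_mem_left _ hhJ) (J.mul_mem_left _ hQJ)
  have hge : J ≤ ArLef.fixIdeal σ := by
    have hhF : h ∈ ArLef.fixIdeal σ := by rw [hh]; exact hsub _
    have hQF : (gen π 0 * gen π 1) ^ j' * gen π 1 ∈ ArLef.fixIdeal σ := by
      have h1 : algebraMap B (ArLef.NodeAlg B π) γ * ((gen π 0 * gen π 1) ^ j' * gen π 1) ∈
          ArLef.fixIdeal σ := by
        have : algebraMap B (ArLef.NodeAlg B π) γ * ((gen π 0 * gen π 1) ^ j' * gen π 1) =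
            (σ (gen π 1) - gen π 1) + (β : ArLef.NodeAlg B π) * h := by
          rw [hσE]; ring
        rw [this]; exact Ideal.add_mem _ (hsub _) (Ideal.mul_mem_left _ _ hhF)
      obtain ⟨γ', hγ'⟩ := hγ.map (algebraMap B (ArLef.NodeAlg B π))
      have : (gen π 0 * gen π 1) ^ j' * gen π 1 = ((γ'⁻¹ : (ArLef.NodeAlg B π)ˣ) :
          ArLef.NodeAlg B π) * (algebraMap B (ArLef.NodeAlg B π) γ *
            ((gen π 0 * gen π 1) ^ j' * gen π 1)) := by
        rw [← hγ', ← mul_assoc, Units.inv_mul, one_mul]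
      rw [this]; exact Ideal.mul_mem_left _ _ h1
    rw [hJ]
    refine sup_le ?_ ?_
    · rw [Ideal.span_le, Set.singleton_subset_iff]; exact hhF
    · rw [Ideal.span_le, Set.singleton_subset_iff]
      obtain ⟨c, hc⟩ := hcong j'
      have h1 : (gen π 0 * gen π 1) ^ j' =
          h * c + ((α : ArLef.NodeAlg B π) * gen π 1 ^ 2) ^ j' := by
        rw [← hc]; ring
      have h2 : (α : ArLef.NodeAlg B π) ^ j' * gen π 1 ^ (2 * j' + 1) =
          (gen π 0 * gen π 1) ^ j' * gen π 1 - h * (c * gen π 1) := by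
        rw [h1]; ring
      have h3 : gen π 1 ^ (2 * j' + 1) = (((α⁻¹ : (ArLef.NodeAlg B π)ˣ) : ArLef.NodeAlg B π)) ^ j' *
          ((α : ArLef.NodeAlg B π) ^ j' * gen π 1 ^ (2 * j' + 1)) := by
        rw [← mul_assoc, ← mul_pow, Units.inv_mul, one_pow, one_mul]
      rw [SetLike.mem_coe, h3, h2]
      exact Ideal.mul_mem_left _ _ (Ideal.sub_mem _ hQF (Ideal.mul_mem_right _ _ hhF))
  have hfix : ArLef.fixIdeal σ = J := le_antisymm hle hge
  have hregh : ∀ x, gen π 1 * x ∈ Ideal.span {h} → x ∈ Ideal.span {h} := by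
    intro x hx
    obtain ⟨z, hz⟩ := Ideal.mem_span_singleton'.mp hx
    have h1 : gen π 1 ∣ z * h := ⟨x, hz⟩
    obtain ⟨z', rfl⟩ := (hE.dvd_or_dvd h1).resolve_right hEh
    have : x = z' * h := by
      apply gen_cancel ha hπ0 1
      rw [← hz]; ring
    rw [this]; exact Ideal.mem_span_singleton'.mpr ⟨z', rfl⟩
  have hchain := length_chain (Ideal.span {h}) (gen π 1) hregh (2 * j' + 1)
  have hsup : Ideal.span {h} ⊔ Ideal.span {gen π 1} = Ideal.span {gen π 0, gen π 1} := by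
    apply le_antisymm
    · refine sup_le ?_ ?_
      · rw [Ideal.span_le, Set.singleton_subset_iff, SetLike.mem_coe, hh']
        exact Ideal.mem_span_pair.mpr ⟨-1, α, by ring⟩
      · exact Ideal.span_mono (by simp)
    · refine Ideal.span_le.mpr ?_
      rintro w (hw | hw)
      · rw [hw]
        refine (mem_sup_span _ _ _).mpr
          ⟨-h, neg_mem (Ideal.mem_span_singleton_self h), α, ?_⟩
        rw [hh']; ring
      · rw [Set.mem_singleton_iff] at hw
        rw [hw]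
        exact Ideal.mem_sup_right (Ideal.mem_span_singleton_self _)
  constructor
  · intro g hg
    rw [hfix] at hg
    have h1 : g ∣ h := Ideal.mem_span_singleton.mp (hg hhJ)
    have h2 : g ∣ (gen π 0 * gen π 1) ^ (j' + 1) := Ideal.mem_span_singleton.mp (hg hPJ)
    have hTg : ¬ gen π 0 ∣ g := fun hd => hTh (dvd_trans hd h1)
    have hEg : ¬ gen π 1 ∣ g := fun hd => hEh (dvd_trans hd h1)
    rw [mul_pow] at h2
    have h3 : g ∣ gen π 1 ^ (j' + 1) :=
      dvd_of_dvd_pow_mul (gen π 0) g hT (fun x y => gen_cancel ha hπ0 0) hTg _ _ h2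
    have h4 : g ∣ 1 :=
      dvd_of_dvd_pow_mul (gen π 1) g hE (fun x y => gen_cancel ha hπ0 1) hEg (j' + 1) 1
        (by rwa [mul_one])
    exact isUnit_of_dvd_one h4
  · have h5 : 2 * (j' + 1) - 1 = 2 * j' + 1 := by omega
    rw [h5, hfix, hJ, hchain, hsup, length_quot_gens ha hm, mul_one]

end Groth.Agent.S15320
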