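import Groth.Statements.S15321
import Mathlib
-- import your own Groth.Agent.* helpers here

set_option autoImplicit false
universe u
open ArLef

namespace Groth.Agent.S15321

set_option linter.unusedSectionVars false

theorem mem_sup_span {R : Type*} [CommRing R] (I : Ideal R) (b x : R) :
    x ∈ I ⊔ Ideal.span {b} ↔ ∃ i ∈ I, ∃ y, x = i + y * b := by
  rw [Submodule.mem_sup]
  constructor
  · rintro ⟨i, hi, z, hz, rfl⟩
    obtain ⟨y, rfl⟩ := Ideal.mem_span_singleton'.mp hz
    exact ⟨i, hi, y, rfl⟩
  · rintro ⟨i, hi, y, rfl⟩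
    exact ⟨i, hi, y * b, Ideal.mem_span_singleton'.mpr ⟨y, rfl⟩, rfl⟩

theorem length_step {R : Type*} [CommRing R] (K1 Kn Kn1 : Ideal R) (c : R)
    (h1 : ∀ x ∈ K1, c * x ∈ Kn1) (h2 : ∀ x, c * x ∈ Kn1 → x ∈ K1) (h3 : Kn1 ≤ Kn)
    (h4 : ∀ x ∈ Kn, ∃ z, x - c * z ∈ Kn1) (h5 : ∀ z, c * z ∈ Kn) :
    Module.length R (R ⧸ Kn1) = Module.length R (R ⧸ K1) + Module.length R (R ⧸ Kn) := by
  obtain ⟨fm, hfm⟩ : ∃ fm : (R ⧸ K1) →ₗ[R] (R ⧸ Kn1),
      ∀ x : R, fm (Submodule.Quotient.mk x) = Submodule.Quotient.mk (c * x) :=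
    ⟨Submodule.mapQ K1 Kn1 (LinearMap.mulLeft R c) (fun x hx => h1 x hx), fun x => rfl⟩
  obtain ⟨g, hg⟩ : ∃ g : (R ⧸ Kn1) →ₗ[R] (R ⧸ Kn),
      ∀ x : R, g (Submodule.Quotient.mk x) = Submodule.Quotient.mk x :=
    ⟨Submodule.mapQ Kn1 Kn LinearMap.id (fun x hx => h3 hx), fun x => rfl⟩
  have hinj : Function.Injective fm := by
    rw [injective_iff_map_eq_zero]
    intro z hz
    obtain ⟨x, rfl⟩ := Submodule.Quotient.mk_surjective _ z
    rw [hfm, Submodule.Quotient.mk_eq_zero] at hz
    rw [Submodule.Quotient.mk_eq_zero]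
    exact h2 x hz
  have hsurj : Function.Surjective g := by
    intro y
    obtain ⟨x, rfl⟩ := Submodule.Quotient.mk_surjective _ y
    exact ⟨Submodule.Quotient.mk x, hg x⟩
  have hex : Function.Exact fm g := by
    intro y
    obtain ⟨x, rfl⟩ := Submodule.Quotient.mk_surjective _ y
    rw [hg, Submodule.Quotient.mk_eq_zero]
    constructor
    · intro hx
      obtain ⟨z, hz⟩ := h4 x hx
      refine ⟨Submodule.Quotient.mk z, ?_⟩
      rw [hfm, Submodule.Quotient.eq]
      have : c * z - x = -(x - c * z) := by ring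
      rw [this]; exact Kn1.neg_mem hz
    · rintro ⟨w, hw⟩
      obtain ⟨z, rfl⟩ := Submodule.Quotient.mk_surjective _ w
      rw [hfm, Submodule.Quotient.eq] at hw
      have hx' : x = c * z - (c * z - x) := by ring
      rw [hx']
      exact Kn.sub_mem (h5 z) (h3 hw)
  exact Module.length_eq_add_of_exact fm g hinj hsurj hex

theorem length_chain {R : Type*} [CommRing R] (I : Ideal R) (a : R)
    (hreg : ∀ x, a * x ∈ I → x ∈ I) (n : ℕ) :
    Module.length R (R ⧸ (I ⊔ Ideal.span {a ^ n})) =
      (n : ℕ∞) * Module.length R (R ⧸ (I ⊔ Ideal.span {a})) := by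
  have hregn : ∀ (n : ℕ) (x : R), a ^ n * x ∈ I → x ∈ I := by
    intro n
    induction n with
    | zero => intro x hx; simpa using hx
    | succ n ih =>
      intro x hx
      apply ih
      apply hreg
      have : a * (a ^ n * x) = a ^ (n+1) * x := by ring
      rw [this]; exact hx
  induction n with
  | zero =>
    have htop : (I ⊔ Ideal.span {a ^ 0}) = ⊤ := by
      rw [pow_zero, Ideal.span_singleton_one, sup_top_eq]
    have hs : Subsingleton (R ⧸ (I ⊔ Ideal.span {a ^ 0})) :=
      Ideal.Quotient.subsingleton_iff.mpr htop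
    rw [Module.length_eq_zero_iff.mpr hs, Nat.cast_zero, zero_mul]
  | succ n ih =>
    have h1 : ∀ x ∈ I ⊔ Ideal.span {a}, a ^ n * x ∈ I ⊔ Ideal.span {a ^ (n+1)} := by
      intro x hx
      obtain ⟨i, hi, y, rfl⟩ := (mem_sup_span I a x).mp hx
      exact (mem_sup_span I (a^(n+1)) _).mpr ⟨a ^ n * i, I.mul_mem_left _ hi, y, by ring⟩
    have h2 : ∀ x, a ^ n * x ∈ I ⊔ Ideal.span {a ^ (n+1)} → x ∈ I ⊔ Ideal.span {a} := by
      intro x hx
      obtain ⟨i, hi, y, hy⟩ := (mem_sup_span I (a^(n+1)) _).mp hx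
      have h3 : a ^ n * (x - y * a) ∈ I := by
        have : a ^ n * (x - y * a) = i := by
          rw [mul_sub, hy]; ring
        rw [this]; exact hi
      exact (mem_sup_span I a x).mpr ⟨x - y * a, hregn n _ h3, y, by ring⟩
    have h3 : I ⊔ Ideal.span {a ^ (n+1)} ≤ I ⊔ Ideal.span {a ^ n} := by
      refine sup_le le_sup_left (Ideal.span_le.mpr (Set.singleton_subset_iff.mpr ?_))
      exact (mem_sup_span I (a^n) _).mpr ⟨0, I.zero_mem, a, by ring⟩
    have h4 : ∀ x ∈ I ⊔ Ideal.span {a ^ n}, ∃ z, x - a ^ n * z ∈ I ⊔ Ideal.span {a ^ (n+1)} := by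
      intro x hx
      obtain ⟨i, hi, z, rfl⟩ := (mem_sup_span I (a^n) x).mp hx
      refine ⟨z, ?_⟩
      have : i + z * a ^ n - a ^ n * z = i := by ring
      rw [this]
      exact Ideal.mem_sup_left hi
    have h5 : ∀ z, a ^ n * z ∈ I ⊔ Ideal.span {a ^ n} := by
      intro z
      exact (mem_sup_span I (a^n) _).mpr ⟨0, I.zero_mem, z, by ring⟩
    rw [length_step _ _ _ _ h1 h2 h3 h4 h5, ih, Nat.cast_succ, add_mul, one_mul, add_comm]

theorem C_dvd_iff {B : Type*} [CommRing B] [IsDomain B] [IsDiscreteValuationRing B] {π : B}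
    (hπ : Irreducible π) (g : PowerSeries B) :
    PowerSeries.C π ∣ g ↔ PowerSeries.map (IsLocalRing.residue B) g = 0 := by
  constructor
  · rintro ⟨h, rfl⟩
    rw [map_mul, PowerSeries.map_C]
    have : IsLocalRing.residue B π = 0 := by
      rw [IsLocalRing.residue_eq_zero_iff, hπ.maximalIdeal_eq]
      exact Ideal.mem_span_singleton_self π
    rw [this, map_zero, zero_mul]
  · intro h
    have hc : ∀ n, ∃ c, PowerSeries.coeff n g = π * c := by
      intro n
      have h0 : IsLocalRing.residue B (PowerSeries.coeff n g) = 0 := by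
        have := congrArg (PowerSeries.coeff n) h
        rwa [PowerSeries.coeff_map, map_zero] at this
      rw [IsLocalRing.residue_eq_zero_iff, hπ.maximalIdeal_eq, Ideal.mem_span_singleton] at h0
      exact h0
    choose c hc using hc
    refine ⟨PowerSeries.mk c, ?_⟩
    ext n
    rw [PowerSeries.coeff_C_mul, PowerSeries.coeff_mk, hc]


/-- In the case of a smooth point with the closed fibre outside the divisorial part, let B be a discrete
valuation ring with uniformizer π and residue field k, B[[t]] the complete local ring of a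
semi-stable arithmetic surface over B at a point x where the closed fibre is smooth, and σ a ring
automorphism of B[[t]] over an automorphism τ of B with v(τ(π) - π) = j ≥ 1, that is σ(π) = π + γ
π^j with γ a unit, and σ(b) - b ∈ π^j B[[t]] for all b ∈ B (automatic for B totally ramified over
the fixed ring of τ, as in the published setting). If π does not divide f = σ(t) - t (the closed
fibre is not in the divisorial part of the fixed locus near x), then the length of B[[t]] modulo the
fixed-point ideal of σ is j m, where m, the length of k[[t]]/(f mod π), is the multiplicity of x as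
a fixed point of σ on the closed fibre. -/
theorem result (B : Type u) [CommRing B] [IsDomain B] [IsDiscreteValuationRing B] (π : B) (hπ : Irreducible π)
    (j : ℕ) (hj : 1 ≤ j) (γ : B) (hγ : IsUnit γ)
    (σ : PowerSeries B ≃+* PowerSeries B)
    (hσB : ∀ b : B, σ (algebraMap B (PowerSeries B) b) - algebraMap B (PowerSeries B) b ∈
      Ideal.span ({algebraMap B (PowerSeries B) (π ^ j)} : Set (PowerSeries B)))
    (hσπ : σ (algebraMap B (PowerSeries B) π) = algebraMap B (PowerSeries B) (π + γ * π ^ j))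
    (h0 : ¬ (algebraMap B (PowerSeries B) π ∣ σ PowerSeries.X - PowerSeries.X)) :
    Module.length (PowerSeries B) (PowerSeries B ⧸ ArLef.fixIdeal σ) =
      (j : ℕ∞) * Module.length (PowerSeries (IsLocalRing.ResidueField B)) (PowerSeries (IsLocalRing.ResidueField B) ⧸
        Ideal.span ({PowerSeries.map (IsLocalRing.residue B) (σ PowerSeries.X - PowerSeries.X)} : Set (PowerSeries (IsLocalRing.ResidueField B)))) := by
  classical
  have hC : ∀ b : B, algebraMap B (PowerSeries B) b = PowerSeries.C b := fun b => rfl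
  set f : PowerSeries B := σ PowerSeries.X - PowerSeries.X with hf
  rw [hC] at h0
  have hDvd := fun g => C_dvd_iff hπ g
  have hres : IsLocalRing.residue B π = 0 := by
    rw [IsLocalRing.residue_eq_zero_iff, hπ.maximalIdeal_eq]
    exact Ideal.mem_span_singleton_self π
  have hφf : PowerSeries.map (IsLocalRing.residue B) f ≠ 0 := fun h => h0 ((hDvd f).mpr h)
  have hφsurj : Function.Surjective (PowerSeries.map (IsLocalRing.residue B)) := by
    intro v
    refine ⟨PowerSeries.mk fun n =>
      (IsLocalRing.residue_surjective (PowerSeries.coeff n v)).choose, ?_⟩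
    ext n
    rw [PowerSeries.coeff_map, PowerSeries.coeff_mk]
    exact (IsLocalRing.residue_surjective (PowerSeries.coeff n v)).choose_spec
  have hπ0 : PowerSeries.C π ≠ 0 := by
    intro h
    have h1 := congrArg PowerSeries.constantCoeff h
    rw [PowerSeries.constantCoeff_C, map_zero] at h1
    exact hπ.ne_zero h1
  have hprime : ∀ x y : PowerSeries B, PowerSeries.C π ∣ x * y →
      PowerSeries.C π ∣ x ∨ PowerSeries.C π ∣ y := by
    intro x y h
    have h' := (hDvd (x * y)).mp h
    rw [map_mul, mul_eq_zero] at h'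
    exact h'.imp (hDvd x).mpr (hDvd y).mpr
  have hreg : ∀ x, PowerSeries.C π * x ∈ Ideal.span {f} → x ∈ Ideal.span {f} := by
    intro x hx
    obtain ⟨y, hy⟩ := Ideal.mem_span_singleton'.mp hx
    have h1 : PowerSeries.C π ∣ y * f := ⟨x, hy⟩
    rcases hprime y f h1 with h2 | h2
    · obtain ⟨y', rfl⟩ := h2
      have : x = y' * f := by
        apply mul_left_cancel₀ hπ0
        rw [← hy]; ring
      rw [this]; exact Ideal.mem_span_singleton'.mpr ⟨y', rfl⟩
    · exact absurd h2 h0
  have hchain := length_chain (Ideal.span {f}) (PowerSeries.C π) hreg j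
  obtain ⟨m, u, hu⟩ := IsDiscreteValuationRing.eq_unit_mul_pow_irreducible hφf
    (PowerSeries.X_prime.irreducible)
  obtain ⟨g, hg⟩ := hφsurj ((u⁻¹ : (PowerSeries (IsLocalRing.ResidueField B))ˣ) :
    PowerSeries (IsLocalRing.ResidueField B))
  have hXm : PowerSeries.C π ∣ PowerSeries.X ^ m - f * g := by
    rw [hDvd, map_sub, map_mul, map_pow, PowerSeries.map_X, hg, hu]
    rw [mul_right_comm, Units.mul_inv, one_mul, sub_self]
  have hXN : (PowerSeries.X : PowerSeries B) ^ (m * j) ∈
      Ideal.span {f} ⊔ Ideal.span {PowerSeries.C π ^ j} := by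
    obtain ⟨w, hw⟩ := hXm
    have hX : (PowerSeries.X : PowerSeries B) ^ m = f * g + PowerSeries.C π * w := by
      rw [← hw]; ring
    obtain ⟨q, hq⟩ := sub_dvd_pow_sub_pow (f * g + PowerSeries.C π * w) (PowerSeries.C π * w) j
    rw [pow_mul, hX]
    refine (mem_sup_span _ _ _).mpr ⟨(f * g) * q, ?_, w ^ j, ?_⟩
    · exact Ideal.mem_span_singleton'.mpr ⟨g * q, by ring⟩
    · have : (f * g + PowerSeries.C π * w) ^ j =
          (f * g + PowerSeries.C π * w - PowerSeries.C π * w) * q + (PowerSeries.C π * w)^j := by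
        rw [← hq]; ring
      rw [this]; ring
  set J : Ideal (PowerSeries B) := Ideal.span {f} ⊔ Ideal.span {PowerSeries.C π ^ j} with hJ
  have hfJ : f ∈ J := Ideal.mem_sup_left (Ideal.mem_span_singleton_self f)
  have hadd : ∀ r s, σ r - r ∈ J → σ s - s ∈ J → σ (r + s) - (r + s) ∈ J := by
    intro r s hr hs
    have : σ (r + s) - (r + s) = (σ r - r) + (σ s - s) := by rw [map_add]; ring
    rw [this]; exact J.add_mem hr hs
  have hmul : ∀ r s, σ r - r ∈ J → σ s - s ∈ J → σ (r * s) - r * s ∈ J := by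
    intro r s hr hs
    have : σ (r * s) - r * s = σ r * (σ s - s) + (σ r - r) * s := by rw [map_mul]; ring
    rw [this]; exact J.add_mem (J.mul_mem_left _ hs) (J.mul_mem_right _ hr)
  have hCmem : ∀ b : B, σ (PowerSeries.C b) - PowerSeries.C b ∈ J := by
    intro b
    have h1 := hσB b
    simp only [hC, map_pow] at h1
    exact Ideal.mem_sup_right h1
  have hpow : ∀ N : ℕ, σ (PowerSeries.X ^ N) - PowerSeries.X ^ N ∈ J := by
    intro N
    induction N with
    | zero => simp
    | succ N ih => rw [pow_succ]; exact hmul _ _ ih hfJ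
  have hσXN : ∀ r', σ (PowerSeries.X ^ (m*j) * r') - PowerSeries.X ^ (m*j) * r' ∈ J := by
    intro r'
    have h1 : σ PowerSeries.X = PowerSeries.X + f := by rw [hf]; ring
    obtain ⟨q, hq⟩ := sub_dvd_pow_sub_pow (PowerSeries.X + f) PowerSeries.X (m*j)
    have h2 : (PowerSeries.X + f) ^ (m*j) ∈ J := by
      have h3 : (PowerSeries.X + f) ^ (m*j) =
          (PowerSeries.X + f - PowerSeries.X) * q + PowerSeries.X ^ (m*j) := by
        rw [← hq]; ring
      rw [h3]
      refine J.add_mem ?_ hXN
      have h4 : (PowerSeries.X + f - PowerSeries.X) * q = q * f := by ring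
      rw [h4]; exact J.mul_mem_left _ hfJ
    rw [map_mul, map_pow, h1]
    exact J.sub_mem (J.mul_mem_right _ h2) (J.mul_mem_right _ hXN)
  have hdecomp : ∀ (N : ℕ) (r : PowerSeries B), ∃ s r', σ s - s ∈ J ∧
      r = s + PowerSeries.X ^ N * r' := by
    intro N
    induction N with
    | zero => intro r; exact ⟨0, r, by simp, by simp⟩
    | succ N ih =>
      intro r
      obtain ⟨s, r', hs, rfl⟩ := ih r
      refine ⟨s + PowerSeries.X ^ N * PowerSeries.C (PowerSeries.constantCoeff r'),
        PowerSeries.mk fun p => PowerSeries.coeff (p + 1) r', ?_, ?_⟩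
      · exact hadd _ _ hs (hmul _ _ (hpow N) (hCmem _))
      · conv_lhs => rw [PowerSeries.eq_X_mul_shift_add_const r']
        ring
  have hall : ∀ r, σ r - r ∈ J := by
    intro r
    obtain ⟨s, r', hs, rfl⟩ := hdecomp (m*j) r
    exact hadd _ _ hs (hσXN r')
  have hsub : ∀ r, σ r - r ∈ ArLef.fixIdeal σ := fun r =>
    show σ r - r ∈ Ideal.span _ from Ideal.subset_span ⟨r, rfl⟩
  have hfix : ArLef.fixIdeal σ = J := by
    apply le_antisymm
    · unfold ArLef.fixIdeal
      rw [Ideal.span_le]
      rintro _ ⟨r, rfl⟩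
      exact hall r
    · refine sup_le ?_ ?_
      · rw [Ideal.span_le, Set.singleton_subset_iff]; exact hsub PowerSeries.X
      · rw [Ideal.span_le, Set.singleton_subset_iff]
        obtain ⟨u', rfl⟩ := hγ
        have h1 := hsub (PowerSeries.C π)
        have h2 : σ (PowerSeries.C π) - PowerSeries.C π =
            PowerSeries.C (u' : B) * PowerSeries.C π ^ j := by
          have h3 := hσπ
          simp only [hC] at h3
          rw [h3, map_add, map_mul, map_pow]; ring
        have h3 : PowerSeries.C π ^ j = PowerSeries.C ((u'⁻¹ : Bˣ) : B) *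
            (σ (PowerSeries.C π) - PowerSeries.C π) := by
          rw [h2, ← mul_assoc, ← map_mul, Units.inv_mul, map_one, one_mul]
        rw [h3]; exact Ideal.mul_mem_left _ _ h1
  rw [hfix, hchain]
  congr 1
  letI alg : Algebra (PowerSeries B) (PowerSeries (IsLocalRing.ResidueField B)) :=
    (PowerSeries.map (IsLocalRing.residue B)).toAlgebra
  have hsurj' : Function.Surjective
      (algebraMap (PowerSeries B) (PowerSeries (IsLocalRing.ResidueField B))) := hφsurj
  rw [← Module.length_eq_of_surjective (S := PowerSeries B)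
    (R := PowerSeries (IsLocalRing.ResidueField B))
    (M := PowerSeries (IsLocalRing.ResidueField B) ⧸
      Ideal.span {PowerSeries.map (IsLocalRing.residue B) f}) hsurj']
  let ψ : PowerSeries B →ₗ[PowerSeries B] (PowerSeries (IsLocalRing.ResidueField B) ⧸
      Ideal.span {PowerSeries.map (IsLocalRing.residue B) f}) :=
    ((Submodule.mkQ (Ideal.span {PowerSeries.map (IsLocalRing.residue B) f})).restrictScalars
      (PowerSeries B)).comp
      (Algebra.linearMap (PowerSeries B) (PowerSeries (IsLocalRing.ResidueField B)))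
  have hψ : ∀ x, ψ x = Submodule.Quotient.mk (PowerSeries.map (IsLocalRing.residue B) x) :=
    fun x => rfl
  have hψsurj : Function.Surjective ψ := by
    intro y
    obtain ⟨v, rfl⟩ := Submodule.Quotient.mk_surjective _ y
    obtain ⟨x, rfl⟩ := hφsurj v
    exact ⟨x, hψ x⟩
  have hker : Ideal.span {f} ⊔ Ideal.span {PowerSeries.C π} = LinearMap.ker ψ := by
    ext x
    rw [LinearMap.mem_ker, hψ, Submodule.Quotient.mk_eq_zero, Ideal.mem_span_singleton',
      mem_sup_span]
    constructor
    · rintro ⟨i, hi, y, rfl⟩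
      obtain ⟨z, rfl⟩ := Ideal.mem_span_singleton'.mp hi
      refine ⟨PowerSeries.map (IsLocalRing.residue B) z, ?_⟩
      rw [map_add, map_mul, map_mul, PowerSeries.map_C, hres, map_zero, mul_zero, add_zero]
    · rintro ⟨yb, hy⟩
      obtain ⟨y, rfl⟩ := hφsurj yb
      have h1 : PowerSeries.C π ∣ x - y * f := by
        rw [hDvd, map_sub, map_mul, hy, sub_self]
      obtain ⟨w, hw⟩ := h1
      exact ⟨y * f, Ideal.mem_span_singleton'.mpr ⟨y, rfl⟩, w, by rw [mul_comm w, ← hw]; ring⟩
  exact ((Submodule.quotEquivOfEq _ _ hker).trans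
    (LinearMap.quotKerEquivOfSurjective ψ hψsurj)).length_eq

end Groth.Agent.S15321
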