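import Groth.Statements.S15322
import Mathlib.AlgebraicGeometry.Morphisms.IsIso
-- import your own Groth.Agent.* helpers here

set_option autoImplicit false
universe u
open CategoryTheory AlgebraicGeometry
open ArLef

namespace Groth.Agent.S15322

set_option backward.isDefEq.respectTransparency false in
lemma isOpenImmersion_equalizer_ι_left {S : Scheme.{u}} {X Y : Over S}
    [IsOpenImmersion (Limits.pullback.diagonal Y.hom)]
    (f g : X ⟶ Y) : IsOpenImmersion (Limits.equalizer.ι f g).left := by
  refine MorphismProperty.of_isPullback (P := @IsOpenImmersion)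
    ((Limits.isPullback_equalizer_prod f g).map (Over.forget _)).flip ?_
  rw [← MorphismProperty.cancel_right_of_respectsIso @IsOpenImmersion _
    (Over.prodLeftIsoPullback Y Y).hom]
  convert! (inferInstance : IsOpenImmersion (Limits.pullback.diagonal Y.hom))
  ext1 <;> simp [← Over.comp_left]



/-- Let f : D → C be a morphism, τ an automorphism of C and σ an automorphism of D with σ f = f τ; call
σ a good lifting of τ when the fixed-point scheme of σ is the full preimage of that of τ, i.e. every
morphism z : Z → D with z f τ = z f has z σ = z. If f is etale, separated and surjective with D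
connected and the fixed-point scheme of τ is non-empty (some point of C, with its residue field, is
fixed by τ), then τ has at most one good lifting. (The published statement is for a finite etale
cover of smooth projective irreducible curves over a field and a non-trivial τ; the argument uses
only the hypotheses stated here.) -/
theorem result {C D : Scheme.{u}} (f : D ⟶ C) [Etale f] [IsSeparated f] [Surjective f]
    [ConnectedSpace D] (τ : C ≅ C) (σ σ' : D ≅ D)
    (hσ : σ.hom ≫ f = f ≫ τ.hom) (hσ' : σ'.hom ≫ f = f ≫ τ.hom)
    (good : ∀ (Z : Scheme.{u}) (z : Z ⟶ D), z ≫ f ≫ τ.hom = z ≫ f → z ≫ σ.hom = z)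
    (good' : ∀ (Z : Scheme.{u}) (z : Z ⟶ D), z ≫ f ≫ τ.hom = z ≫ f → z ≫ σ'.hom = z)
    (x : C) (hx : C.fromSpecResidueField x ≫ τ.hom = C.fromSpecResidueField x) :
    σ = σ' := by
  obtain ⟨d, rfl⟩ := f.surjective x
  let X' : Over C := Over.mk (f ≫ τ.hom)
  let Y' : Over C := Over.mk f
  let s : X' ⟶ Y' := Over.homMk σ.hom hσ
  let s' : X' ⟶ Y' := Over.homMk σ'.hom hσ'
  have hsep : IsSeparated Y'.hom := ‹_›
  have hopen : IsOpenImmersion (Limits.pullback.diagonal Y'.hom) :=
    inferInstanceAs (IsOpenImmersion (Limits.pullback.diagonal f))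
  have h1 : IsOpenImmersion (Limits.equalizer.ι s s').left := isOpenImmersion_equalizer_ι_left s s'
  have h2 : IsClosedImmersion (Limits.equalizer.ι s s').left := inferInstance
  -- the point
  let z : Spec (D.residueField d) ⟶ D := D.fromSpecResidueField d
  have hz : z ≫ f ≫ τ.hom = z ≫ f := by
    have e := Scheme.Hom.SpecMap_residueFieldMap_fromSpecResidueField f d
    rw [← Category.assoc, ← e, Category.assoc, hx]
  have hz1 := good _ z hz
  have hz2 := good' _ z hz
  let Z' : Over C := Over.mk (z ≫ f ≫ τ.hom)
  let z' : Z' ⟶ X' := Over.homMk z rfl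
  have hzz : z' ≫ s = z' ≫ s' := by
    ext1
    simp only [Over.comp_left]
    exact hz1.trans hz2.symm
  -- range of the equalizer inclusion is clopen and nonempty
  have hpc : PreconnectedSpace ↥X'.left := inferInstanceAs (PreconnectedSpace D)
  have hrange : Set.range (Limits.equalizer.ι s s').left = Set.univ := by
    apply IsClopen.eq_univ
    · exact ⟨(Scheme.Hom.isClosedEmbedding _).isClosed_range,
        (Scheme.Hom.isOpenEmbedding _).isOpen_range⟩
    · obtain ⟨pt⟩ : Nonempty (Spec (D.residueField d)) := inferInstance
      refine ⟨z pt, (Limits.equalizer.lift z' hzz).left pt, ?_⟩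
      rw [← Scheme.Hom.comp_apply, ← Over.comp_left, Limits.equalizer.lift_ι]
      rfl
  have hsurj : Surjective (Limits.equalizer.ι s s').left := ⟨Set.range_eq_univ.mp hrange⟩
  have hiso : IsIso (Limits.equalizer.ι s s').left :=
    (isIso_iff_isOpenImmersion_and_surjective _).mpr ⟨h1, hsurj⟩
  apply Iso.ext
  rw [← cancel_epi (Limits.equalizer.ι s s').left]
  exact congr($(Limits.equalizer.condition s s').left)

end Groth.Agent.S15322
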