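import Groth.Statements.S15323
import Mathlib
import Groth.Agent.H76.NodeAlg
-- import your own Groth.Agent.* helpers here

set_option autoImplicit false
universe u
open ArLef ArLef.NodeAlg

namespace Groth.Agent.S15323

open Groth.Agent.H76.NodeAlg

theorem lemA {R : Type*} [CommRing R] (p e' b : R) (hp : Prime p) (hpe : ¬ p ∣ e') :
    Module.length R (R ⧸ Ideal.span {p, b * e'}) =
      Module.length R (R ⧸ Ideal.span {p, b}) + Module.length R (R ⧸ Ideal.span {p, e'}) := by
  apply length_step _ _ _ e'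
  · intro x hx
    obtain ⟨c, d, rfl⟩ := Ideal.mem_span_pair.mp hx
    exact Ideal.mem_span_pair.mpr ⟨e' * c, d, by ring⟩
  · intro x hx
    obtain ⟨c, d, hcd⟩ := Ideal.mem_span_pair.mp hx
    have h1 : p ∣ e' * (x - d * b) := ⟨c, by rw [mul_sub, ← hcd]; ring⟩
    obtain ⟨w, hw⟩ := (hp.dvd_or_dvd h1).resolve_left hpe
    exact Ideal.mem_span_pair.mpr ⟨w, d, by rw [sub_eq_iff_eq_add] at hw; rw [hw]; ring⟩
  · refine Ideal.span_le.mpr ?_
    rintro w (rfl | rfl)
    · exact Ideal.subset_span (by simp)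
    · exact Ideal.mem_span_pair.mpr ⟨0, b, by ring⟩
  · intro x hx
    obtain ⟨c, d, rfl⟩ := Ideal.mem_span_pair.mp hx
    exact ⟨d, Ideal.mem_span_pair.mpr ⟨c, 0, by ring⟩⟩
  · intro z
    exact Ideal.mem_span_pair.mpr ⟨0, z, by ring⟩

theorem Pdvd {R : Type*} [CommRing R] (T E a : R) (hT : Prime T) (hE : Prime E)
    (cT : ∀ x y, T * x = T * y → x = y) (cE : ∀ x y, E * x = E * y → x = y)
    (hTa : ¬ T ∣ a) (hEa : ¬ E ∣ a) (n : ℕ) (z r : R) (h : (T * E) ^ n * z = a * r) :
    ∃ r', z = a * r' := by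
  induction n generalizing r with
  | zero => exact ⟨r, by simpa using h⟩
  | succ n ih =>
    have h1 : T ∣ a * r := ⟨E * ((T * E) ^ n * z), by rw [← h]; ring⟩
    obtain ⟨r₁, rfl⟩ := (hT.dvd_or_dvd h1).resolve_left hTa
    have h2 : E * ((T * E) ^ n * z) = a * r₁ := cT _ _ (by linear_combination h)
    have h3 : E ∣ a * r₁ := ⟨(T * E) ^ n * z, h2.symm⟩
    obtain ⟨r₂, rfl⟩ := (hE.dvd_or_dvd h3).resolve_left hEa
    have h4 : (T * E) ^ n * z = a * r₂ := cE _ _ (by linear_combination h2)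
    exact ih r₂ h4

theorem lenG {R : Type*} [CommRing R] (T E a b γ : R) (j' : ℕ)
    (hT : Prime T) (hE : Prime E) (hTE : ¬ T ∣ E) (hET : ¬ E ∣ T)
    (cT : ∀ x y, T * x = T * y → x = y) (cE : ∀ x y, E * x = E * y → x = y)
    (hone : Module.length R (R ⧸ Ideal.span {T, E}) = 1)
    (hα : IsUnit (1 + a)) (hβ : IsUnit (1 + b))
    (hrel : a + b + a * b = γ * (T * E) ^ j')
    (htb : ¬ T ∣ b) (hea : ¬ E ∣ a) :
    Module.length R (R ⧸ (Ideal.span {a * T, b * E} ⊔ Ideal.span {(T * E) ^ (j' + 1)})) =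
      ((j' + 1 : ℕ) : ℕ∞) * (Module.length R (R ⧸ Ideal.span {T, b}) +
        Module.length R (R ⧸ Ideal.span {E, a})) + 1 := by
  have hTbE : ∀ w, T ∣ w * (b * E) → T ∣ w := by
    intro w h
    rcases hT.dvd_or_dvd h with h1 | h1
    · exact h1
    · rcases hT.dvd_or_dvd h1 with h2 | h2
      · exact absurd h2 htb
      · exact absurd h2 hTE
  have hEaT : ∀ v, E ∣ v * (a * T) → E ∣ v := by
    intro v h
    rcases hE.dvd_or_dvd h with h1 | h1
    · exact h1
    · rcases hE.dvd_or_dvd h1 with h2 | h2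
      · exact absurd h2 hea
      · exact absurd h2 hET
  obtain ⟨αu, hαu⟩ := hα
  obtain ⟨βu, hβu⟩ := hβ
  obtain ⟨ai, hai⟩ : ∃ ai : R, ai * (1 + a) = 1 :=
    ⟨((αu⁻¹ : Rˣ) : R), by rw [← hαu]; exact Units.inv_mul αu⟩
  obtain ⟨bi, hbi⟩ : ∃ bi : R, bi * (1 + b) = 1 :=
    ⟨((βu⁻¹ : Rˣ) : R), by rw [← hβu]; exact Units.inv_mul βu⟩
  have hTa : 1 ≤ j' → ¬ T ∣ a := by
    intro hj hd
    apply htb
    obtain ⟨d, rfl⟩ : ∃ d, j' = d + 1 := ⟨j' - 1, by omega⟩
    have hb : b = γ * (T * E) ^ (d + 1) - a * (1 + b) := by linear_combination hrel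
    rw [hb]
    exact dvd_sub (Dvd.intro (γ * T ^ d * E ^ (d + 1)) (by ring)) (Dvd.dvd.mul_right hd _)
  -- base
  have hB : Module.length R (R ⧸ (Ideal.span {a * T, b * E} ⊔ Ideal.span {(T * E) ^ (0 + 1)})) =
      Module.length R (R ⧸ Ideal.span {E, a}) +
        (Module.length R (R ⧸ Ideal.span {T, b}) + 1) := by
    have e1 : Module.length R (R ⧸ (Ideal.span {a * T, b * E} ⊔ Ideal.span {(T * E) ^ (0 + 1)})) =
        Module.length R (R ⧸ Ideal.span {a, E}) + Module.length R (R ⧸ Ideal.span {T, b * E}) := by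
      apply length_step _ _ _ T
      · intro x hx
        obtain ⟨u, v, rfl⟩ := Ideal.mem_span_pair.mp hx
        exact (mem_sup_span _ _ _).mpr
          ⟨u * (a * T), Ideal.mem_span_pair.mpr ⟨u, 0, by ring⟩, v, by ring⟩
      · intro x hx
        obtain ⟨y, hy, u, hxu⟩ := (mem_sup_span _ _ _).mp hx
        obtain ⟨v, w, rfl⟩ := Ideal.mem_span_pair.mp hy
        have h1 : E ∣ T * (x - v * a - u * E) := ⟨w * b, by linear_combination hxu⟩
        obtain ⟨z, hz⟩ := (hE.dvd_or_dvd h1).resolve_left hET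
        exact Ideal.mem_span_pair.mpr ⟨v, u + z, by linear_combination (-1 : R) * hz⟩
      · refine sup_le (Ideal.span_le.mpr ?_) (Ideal.span_le.mpr (Set.singleton_subset_iff.mpr ?_))
        · rintro w (hw | hw)
          · rw [hw]; exact Ideal.mem_span_pair.mpr ⟨a, 0, by ring⟩
          · rw [Set.mem_singleton_iff] at hw
            rw [hw]; exact Ideal.mem_span_pair.mpr ⟨0, 1, by ring⟩
        · exact Ideal.mem_span_pair.mpr ⟨E, 0, by ring⟩
      · intro x hx
        obtain ⟨u, w, rfl⟩ := Ideal.mem_span_pair.mp hx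
        exact ⟨u, Ideal.mem_sup_left (Ideal.mem_span_pair.mpr ⟨0, w, by ring⟩)⟩
      · intro z
        exact Ideal.mem_span_pair.mpr ⟨z, 0, by ring⟩
    rw [e1, lemA T E b hT hTE, hone, Ideal.span_pair_comm (x := a) (y := E)]
  -- the middle quotient
  have hD : 1 ≤ j' → Module.length R (R ⧸ Ideal.span {T * E, a}) =
      Module.length R (R ⧸ Ideal.span {E, a}) + Module.length R (R ⧸ Ideal.span {T, b}) := by
    intro hj
    have hTa' := hTa hj
    have e2 : Module.length R (R ⧸ Ideal.span {T * E, a}) =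
        Module.length R (R ⧸ Ideal.span {E, a}) + Module.length R (R ⧸ Ideal.span {T, a}) := by
      apply length_step _ _ _ T
      · intro x hx
        obtain ⟨u, w, rfl⟩ := Ideal.mem_span_pair.mp hx
        exact Ideal.mem_span_pair.mpr ⟨u, T * w, by ring⟩
      · intro x hx
        obtain ⟨u, w, huw⟩ := Ideal.mem_span_pair.mp hx
        have h1 : T ∣ w * a := ⟨x - u * E, by linear_combination huw⟩
        obtain ⟨w₁, rfl⟩ := (hT.dvd_or_dvd h1).resolve_right hTa'
        have hx' : x - u * E = w₁ * a := cT _ _ (by linear_combination (-1 : R) * huw)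
        exact Ideal.mem_span_pair.mpr ⟨u, w₁, by linear_combination (-1 : R) * hx'⟩
      · refine Ideal.span_le.mpr ?_
        rintro w (hw | hw)
        · rw [hw]; exact Ideal.mem_span_pair.mpr ⟨E, 0, by ring⟩
        · rw [Set.mem_singleton_iff] at hw
          rw [hw]; exact Ideal.mem_span_pair.mpr ⟨0, 1, by ring⟩
      · intro x hx
        obtain ⟨u, w, rfl⟩ := Ideal.mem_span_pair.mp hx
        exact ⟨u, Ideal.mem_span_pair.mpr ⟨0, w, by ring⟩⟩
      · intro z
        exact Ideal.mem_span_pair.mpr ⟨z, 0, by ring⟩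
    have e3 : Ideal.span {T, a} = Ideal.span {T, b} := by
      obtain ⟨d, rfl⟩ : ∃ d, j' = d + 1 := ⟨j' - 1, by omega⟩
      apply le_antisymm
      · refine Ideal.span_le.mpr ?_
        rintro w (hw | hw)
        · rw [hw]; exact Ideal.mem_span_pair.mpr ⟨1, 0, by ring⟩
        · rw [Set.mem_singleton_iff] at hw
          rw [hw]
          exact Ideal.mem_span_pair.mpr ⟨bi * γ * T ^ d * E ^ (d + 1), -bi,
            by linear_combination (-bi) * hrel + a * hbi⟩
      · refine Ideal.span_le.mpr ?_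
        rintro w (hw | hw)
        · rw [hw]; exact Ideal.mem_span_pair.mpr ⟨1, 0, by ring⟩
        · rw [Set.mem_singleton_iff] at hw
          rw [hw]
          exact Ideal.mem_span_pair.mpr ⟨ai * γ * T ^ d * E ^ (d + 1), -ai,
            by linear_combination (-ai) * hrel + b * hai⟩
    rw [e2, e3]
  -- the step
  have hC : ∀ i' : ℕ, i' + 1 ≤ j' →
      Module.length R (R ⧸ (Ideal.span {a * T, b * E} ⊔ Ideal.span {(T * E) ^ (i' + 1 + 1)})) =
      Module.length R (R ⧸ Ideal.span {T * E, a}) +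
        Module.length R (R ⧸ (Ideal.span {a * T, b * E} ⊔ Ideal.span {(T * E) ^ (i' + 1)})) := by
    intro i' hi
    have hTa' : ¬ T ∣ a := hTa (by omega)
    apply length_step _ _ _ ((T * E) ^ (i' + 1))
    · intro x hx
      obtain ⟨u, w, rfl⟩ := Ideal.mem_span_pair.mp hx
      exact (mem_sup_span _ _ _).mpr ⟨(w * (T * E) ^ i' * E) * (a * T),
        Ideal.mem_span_pair.mpr ⟨w * (T * E) ^ i' * E, 0, by ring⟩, u, by ring⟩
    · intro x hx
      obtain ⟨y, hy, u, hxu⟩ := (mem_sup_span _ _ _).mp hx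
      obtain ⟨v, w, rfl⟩ := Ideal.mem_span_pair.mp hy
      have h1 : T ∣ w * (b * E) :=
        ⟨(T * E) ^ i' * E * x - v * a - u * (T * E) ^ (i' + 1) * E,
          by linear_combination (-1 : R) * hxu⟩
      obtain ⟨w₁, rfl⟩ := hTbE w h1
      have h2 : E ∣ v * (a * T) :=
        ⟨(T * E) ^ i' * T * x - w₁ * b * T - u * (T * E) ^ (i' + 1) * T,
          by linear_combination (-1 : R) * hxu⟩
      obtain ⟨v₁, rfl⟩ := hEaT v h2
      have h3 : (T * E) ^ i' * x = a * v₁ + b * w₁ + u * (T * E) ^ (i' + 1) := by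
        apply cE; apply cT
        linear_combination hxu
      have hb : b = ai * (γ * (T * E) ^ j' - a) := by
        linear_combination ai * hrel - b * hai
      obtain ⟨d, hd⟩ : ∃ d, j' = i' + 1 + d := ⟨j' - (i' + 1), by omega⟩
      rw [hd] at hb
      have hpow : (T * E) ^ (i' + 1 + d) = (T * E) ^ i' * (T * E) ^ (d + 1) := by ring
      rw [hpow] at hb
      have h4 : (T * E) ^ i' * (x - ai * γ * w₁ * (T * E) ^ (d + 1) - u * (T * E)) =
          a * (v₁ - ai * w₁) := by
        linear_combination h3 + w₁ * hb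
      obtain ⟨r', hr'⟩ := Pdvd T E a hT hE cT cE hTa' hea i' _ _ h4
      exact Ideal.mem_span_pair.mpr ⟨ai * γ * w₁ * (T * E) ^ d + u, r',
        by linear_combination (-1 : R) * hr'⟩
    · refine sup_le le_sup_left (Ideal.span_le.mpr (Set.singleton_subset_iff.mpr ?_))
      exact Ideal.mem_sup_right (Ideal.mem_span_singleton'.mpr ⟨T * E, by ring⟩)
    · intro x hx
      obtain ⟨y, hy, u, rfl⟩ := (mem_sup_span _ _ _).mp hx
      refine ⟨u, ?_⟩
      have : y + u * (T * E) ^ (i' + 1) - (T * E) ^ (i' + 1) * u = y := by ring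
      rw [this]; exact Ideal.mem_sup_left hy
    · intro z
      exact Ideal.mem_sup_right (Ideal.mem_span_singleton'.mpr ⟨z, by ring⟩)
  have hE' : ∀ i' : ℕ, i' ≤ j' →
      Module.length R (R ⧸ (Ideal.span {a * T, b * E} ⊔ Ideal.span {(T * E) ^ (i' + 1)})) =
      ((i' + 1 : ℕ) : ℕ∞) * (Module.length R (R ⧸ Ideal.span {T, b}) +
        Module.length R (R ⧸ Ideal.span {E, a})) + 1 := by
    intro i'
    induction i' with
    | zero => intro _; rw [hB]; push_cast; ring
    | succ n ih =>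
      intro hn
      rw [hC n hn, hD (by omega), ih (by omega)]
      push_cast; ring
  exact hE' j' le_rfl


/-- In the cases where the branches through the point do not lie in the divisorial part of the fixed
locus, let B be a discrete valuation ring with uniformizer π, N = B[[t, e]]/(te - π) the complete
local ring of a semi-stable arithmetic surface over B at a singular point x of the closed fibre, and
σ a ring automorphism of N with σ(π) = π + γ π^j (γ a unit of B, j ≥ 1) and σ(b) - b ∈ π^j N for all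
b ∈ B (σ lies over an automorphism τ of B with v(τ(π) - π) = j, B totally ramified over the fixed
ring as in the published setting). Suppose σ fixes the branches, σ(t) = α t and σ(e) = β e with
units α, β, and that t does not divide β - 1 and e does not divide α - 1. Then the length of N
modulo the fixed-point ideal of σ (the multiplicity of x in the residual fixed-point scheme) is j
(s₁ + s₂) + 1, where s₁ = length N/(t, β - 1) and s₂ = length N/(e, α - 1) are the fixed-point
multiplicities of σ at x along the two branches, each lowered by one. -/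
theorem result (B : Type u) [CommRing B] [IsDomain B] [IsDiscreteValuationRing B] (π : B) (hπ : Irreducible π)
    (j : ℕ) (hj : 1 ≤ j) (γ : B) (hγ : IsUnit γ)
    (σ : ArLef.NodeAlg B π ≃+* ArLef.NodeAlg B π)
    (hσB : ∀ b : B, σ (algebraMap B (ArLef.NodeAlg B π) b) - algebraMap B (ArLef.NodeAlg B π) b ∈
      Ideal.span ({algebraMap B (ArLef.NodeAlg B π) (π ^ j)} : Set (ArLef.NodeAlg B π)))
    (hσπ : σ (algebraMap B (ArLef.NodeAlg B π) π) = algebraMap B (ArLef.NodeAlg B π) (π + γ * π ^ j))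
    (α β : (ArLef.NodeAlg B π)ˣ) (ht : σ (ArLef.NodeAlg.t π) = (α : ArLef.NodeAlg B π) * ArLef.NodeAlg.t π) (he : σ (ArLef.NodeAlg.e π) = (β : ArLef.NodeAlg B π) * ArLef.NodeAlg.e π)
    (htb : ¬ (ArLef.NodeAlg.t π ∣ (β : ArLef.NodeAlg B π) - 1)) (hea : ¬ (ArLef.NodeAlg.e π ∣ (α : ArLef.NodeAlg B π) - 1)) :
    Module.length (ArLef.NodeAlg B π) (ArLef.NodeAlg B π ⧸ ArLef.fixIdeal σ) =
      (j : ℕ∞) * (Module.length (ArLef.NodeAlg B π) (ArLef.NodeAlg B π ⧸ Ideal.span ({ArLef.NodeAlg.t π, (β : ArLef.NodeAlg B π) - 1} : Set (ArLef.NodeAlg B π))) +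
        Module.length (ArLef.NodeAlg B π) (ArLef.NodeAlg B π ⧸ Ideal.span ({ArLef.NodeAlg.e π, (α : ArLef.NodeAlg B π) - 1} : Set (ArLef.NodeAlg B π)))) + 1 := by
  classical
  have ha : π ∈ IsLocalRing.maximalIdeal B := by
    rw [IsLocalRing.mem_maximalIdeal, mem_nonunits_iff]; exact hπ.1
  have hm : IsLocalRing.maximalIdeal B = Ideal.span {π} := hπ.maximalIdeal_eq
  have hπ0 : π ≠ 0 := hπ.ne_zero
  have hT : Prime (gen π 0) := gen_prime ha zero_ne_one' hm
  have hE : Prime (gen π 1) := gen_prime ha one_ne_zero' hm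
  have hTE : ¬ gen π 0 ∣ gen π 1 := gen_not_dvd ha zero_ne_one' hm
  have hET : ¬ gen π 1 ∣ gen π 0 := gen_not_dvd ha one_ne_zero' hm
  have hregT : ∀ x, gen π 0 * x = 0 → x = 0 := gen_regular ha hπ0 0
  have hregE : ∀ x, gen π 1 * x = 0 → x = 0 := gen_regular ha hπ0 1
  have ht' : σ (gen π 0) = (α : ArLef.NodeAlg B π) * gen π 0 := ht
  have he' : σ (gen π 1) = (β : ArLef.NodeAlg B π) * gen π 1 := he
  obtain ⟨j', rfl⟩ : ∃ j', j = j' + 1 := ⟨j - 1, by omega⟩
  have hPTE : gen π 0 * gen π 1 = algebraMap B (ArLef.NodeAlg B π) π := gen_mul π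
  have h1 : σ (gen π 0 * gen π 1) = gen π 0 * gen π 1 +
      algebraMap B (ArLef.NodeAlg B π) γ * (gen π 0 * gen π 1) ^ (j' + 1) := by
    rw [hPTE, hσπ, map_add, map_mul, map_pow]
  have hαβ : (α : ArLef.NodeAlg B π) * (β : ArLef.NodeAlg B π) =
      1 + algebraMap B (ArLef.NodeAlg B π) γ * (gen π 0 * gen π 1) ^ j' := by
    have h1' := h1
    rw [map_mul, ht', he'] at h1'
    have h2 : gen π 0 * (gen π 1 * ((α : ArLef.NodeAlg B π) * β - 1 -
        algebraMap B (ArLef.NodeAlg B π) γ * (gen π 0 * gen π 1) ^ j')) = 0 := by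
      have : gen π 0 * (gen π 1 * ((α : ArLef.NodeAlg B π) * β - 1 -
          algebraMap B (ArLef.NodeAlg B π) γ * (gen π 0 * gen π 1) ^ j')) =
          (α : ArLef.NodeAlg B π) * gen π 0 * (β * gen π 1) - (gen π 0 * gen π 1 +
            algebraMap B (ArLef.NodeAlg B π) γ * (gen π 0 * gen π 1) ^ (j' + 1)) := by ring
      rw [this, h1', sub_self]
    have h3 := hregE _ (hregT _ h2)
    linear_combination h3
  have hrel : ((α : ArLef.NodeAlg B π) - 1) + ((β : ArLef.NodeAlg B π) - 1) +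
      ((α : ArLef.NodeAlg B π) - 1) * ((β : ArLef.NodeAlg B π) - 1) =
      algebraMap B (ArLef.NodeAlg B π) γ * (gen π 0 * gen π 1) ^ j' := by
    linear_combination hαβ
  have hsub : ∀ r, σ r - r ∈ ArLef.fixIdeal σ := fun r =>
    show σ r - r ∈ Ideal.span _ from Ideal.subset_span ⟨r, rfl⟩
  have e0 : σ (gen π 0) - gen π 0 = ((α : ArLef.NodeAlg B π) - 1) * gen π 0 := by
    rw [ht']; ring
  have e1 : σ (gen π 1) - gen π 1 = ((β : ArLef.NodeAlg B π) - 1) * gen π 1 := by
    rw [he']; ring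
  have hfix : ArLef.fixIdeal σ = Ideal.span {((α : ArLef.NodeAlg B π) - 1) * gen π 0,
      ((β : ArLef.NodeAlg B π) - 1) * gen π 1} ⊔ Ideal.span {(gen π 0 * gen π 1) ^ (j' + 1)} := by
    apply le_antisymm
    · refine fixIdeal_le ha σ _ ?_ ?_ ?_
      · intro b
        have h2 := hσB b
        rw [map_pow, ← hPTE, Ideal.mem_span_singleton'] at h2
        obtain ⟨c, hc⟩ := h2
        rw [← hc]
        exact Ideal.mem_sup_right (Ideal.mul_mem_left _ _ (Ideal.mem_span_singleton_self _))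
      · rw [e0]; exact Ideal.mem_sup_left (Ideal.subset_span (by simp))
      · rw [e1]; exact Ideal.mem_sup_left (Ideal.subset_span (by simp))
    · refine sup_le (Ideal.span_le.mpr ?_) (Ideal.span_le.mpr (Set.singleton_subset_iff.mpr ?_))
      · rintro w (hw | hw)
        · rw [hw, ← e0]; exact hsub _
        · rw [Set.mem_singleton_iff] at hw
          rw [hw, ← e1]; exact hsub _
      · obtain ⟨γ', hγ'⟩ := hγ.map (algebraMap B (ArLef.NodeAlg B π))
        have h2 : (gen π 0 * gen π 1) ^ (j' + 1) = ((γ'⁻¹ : (ArLef.NodeAlg B π)ˣ) :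
            ArLef.NodeAlg B π) * (σ (gen π 0 * gen π 1) - gen π 0 * gen π 1) := by
          rw [h1, add_sub_cancel_left, ← hγ', ← mul_assoc, Units.inv_mul, one_mul]
        rw [SetLike.mem_coe, h2]
        exact Ideal.mul_mem_left _ _ (hsub _)
  change Module.length (ArLef.NodeAlg B π) (ArLef.NodeAlg B π ⧸ ArLef.fixIdeal σ) =
      ((j' + 1 : ℕ) : ℕ∞) * (Module.length (ArLef.NodeAlg B π) (ArLef.NodeAlg B π ⧸
        Ideal.span {gen π 0, (β : ArLef.NodeAlg B π) - 1}) +
      Module.length (ArLef.NodeAlg B π) (ArLef.NodeAlg B π ⧸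
        Ideal.span {gen π 1, (α : ArLef.NodeAlg B π) - 1})) + 1
  rw [hfix]
  exact lenG (gen π 0) (gen π 1) ((α : ArLef.NodeAlg B π) - 1) ((β : ArLef.NodeAlg B π) - 1)
    (algebraMap B (ArLef.NodeAlg B π) γ) j' hT hE hTE hET
    (fun x y => gen_cancel ha hπ0 0) (fun x y => gen_cancel ha hπ0 1) (length_quot_gens ha hm)
    (by rw [add_sub_cancel]; exact α.isUnit) (by rw [add_sub_cancel]; exact β.isUnit)
    hrel htb hea

end Groth.Agent.S15323
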