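import Groth.Statements.S15325
import Mathlib
import Groth.Agent.H76.NodeAlg
-- import your own Groth.Agent.* helpers here

set_option autoImplicit false
universe u
open ArLef ArLef.NodeAlg

namespace Groth.Agent.S15325

open Groth.Agent.H76.NodeAlg

theorem sup_pair {R : Type*} [CommRing R] (x y z : R) (hx : x ∈ Ideal.span {z}) :
    Ideal.span {x, y} ⊔ Ideal.span {z} = Ideal.span {z, y} := by
  apply le_antisymm
  · refine sup_le (Ideal.span_le.mpr ?_) (Ideal.span_mono (by simp))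
    rintro w (rfl | rfl)
    · exact Ideal.span_mono (by simp) hx
    · exact Ideal.subset_span (by simp)
  · refine Ideal.span_le.mpr ?_
    rintro w (rfl | rfl)
    · exact Ideal.mem_sup_right (Ideal.subset_span rfl)
    · exact Ideal.mem_sup_left (Ideal.subset_span (by simp))

theorem lemA {R : Type*} [CommRing R] (p e' b : R) (hp : Prime p) (hpe : ¬ p ∣ e') :
    Module.length R (R ⧸ Ideal.span {p, b * e'}) =
      Module.length R (R ⧸ Ideal.span {p, b}) + Module.length R (R ⧸ Ideal.span {p, e'}) := by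
  apply length_step _ _ _ e'
  · intro x hx
    obtain ⟨c, d, rfl⟩ := Ideal.mem_span_pair.mp hx
    exact Ideal.mem_span_pair.mpr ⟨e' * c, d, by ring⟩
  · intro x hx
    obtain ⟨c, d, hcd⟩ := Ideal.mem_span_pair.mp hx
    have h1 : p ∣ e' * (x - d * b) := ⟨c, by rw [mul_sub, ← hcd]; ring⟩
    obtain ⟨w, hw⟩ := (hp.dvd_or_dvd h1).resolve_left hpe
    exact Ideal.mem_span_pair.mpr ⟨w, d, by rw [sub_eq_iff_eq_add] at hw; rw [hw]; ring⟩
  · refine Ideal.span_le.mpr ?_
    rintro w (rfl | rfl)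
    · exact Ideal.subset_span (by simp)
    · exact Ideal.mem_span_pair.mpr ⟨0, b, by ring⟩
  · intro x hx
    obtain ⟨c, d, rfl⟩ := Ideal.mem_span_pair.mp hx
    exact ⟨d, Ideal.mem_span_pair.mpr ⟨c, 0, by ring⟩⟩
  · intro z
    exact Ideal.mem_span_pair.mpr ⟨0, z, by ring⟩

theorem lemC {R : Type*} [CommRing R] (p e' a b : R) (he : Prime e') (hep : ¬ e' ∣ p)
    (hz : p * e' = 0) :
    Module.length R (R ⧸ Ideal.span {a * p, b * e'}) =
      Module.length R (R ⧸ Ideal.span {a, e'}) + Module.length R (R ⧸ Ideal.span {p, b * e'}) := by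
  apply length_step _ _ _ p
  · intro x hx
    obtain ⟨c, d, rfl⟩ := Ideal.mem_span_pair.mp hx
    have : p * (c * a + d * e') = c * (a * p) + d * (p * e') := by ring
    rw [this, hz, mul_zero, add_zero]
    exact Ideal.mem_span_pair.mpr ⟨c, 0, by ring⟩
  · intro x hx
    obtain ⟨c, d, hcd⟩ := Ideal.mem_span_pair.mp hx
    have h1 : e' ∣ p * (x - c * a) := ⟨d * b, by rw [mul_sub, ← hcd]; ring⟩
    obtain ⟨w, hw⟩ := (he.dvd_or_dvd h1).resolve_left hep
    exact Ideal.mem_span_pair.mpr ⟨c, w, by rw [sub_eq_iff_eq_add] at hw; rw [hw]; ring⟩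
  · refine Ideal.span_le.mpr ?_
    rintro w (rfl | rfl)
    · exact Ideal.mem_span_pair.mpr ⟨a, 0, by ring⟩
    · exact Ideal.subset_span (by simp)
  · intro x hx
    obtain ⟨c, d, rfl⟩ := Ideal.mem_span_pair.mp hx
    exact ⟨c, Ideal.mem_span_pair.mpr ⟨0, d, by ring⟩⟩
  · intro z
    exact Ideal.mem_span_pair.mpr ⟨z, 0, by ring⟩


/-- Let k be a field, A = k[[t, e]]/(te) the complete local ring of a nodal curve at a node x, and σ a
k-algebra automorphism of A fixing the two branches, σ(t) = α t and σ(e) = β e with units α, β.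
Writing I for the fixed-point ideal of σ (generated by all σ(r) - r), the fixed-point multiplicity
length(A/I) of σ at x and the fixed-point multiplicities length(A/(I + (t))), length(A/(I + (e))) of
the automorphisms induced on the two branches satisfy length(A/I) + 1 = length(A/(I + (t))) +
length(A/(I + (e))), as extended natural numbers (both sides are infinite when σ fixes a branch
pointwise). (The published setting has k algebraically closed.) -/
theorem result (k : Type u) [Field k]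
    (σ : ArLef.NodeAlg k 0 ≃ₐ[k] ArLef.NodeAlg k 0) (α β : (ArLef.NodeAlg k 0)ˣ)
    (ht : σ (ArLef.NodeAlg.t (0 : k)) = (α : ArLef.NodeAlg k 0) * ArLef.NodeAlg.t (0 : k)) (he : σ (ArLef.NodeAlg.e (0 : k)) = (β : ArLef.NodeAlg k 0) * ArLef.NodeAlg.e (0 : k)) :
    Module.length (ArLef.NodeAlg k 0) (ArLef.NodeAlg k 0 ⧸ ArLef.fixIdeal σ) + 1 =
      Module.length (ArLef.NodeAlg k 0) (ArLef.NodeAlg k 0 ⧸ (ArLef.fixIdeal σ ⊔ Ideal.span ({ArLef.NodeAlg.t (0 : k)} : Set (ArLef.NodeAlg k 0)))) +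
        Module.length (ArLef.NodeAlg k 0) (ArLef.NodeAlg k 0 ⧸ (ArLef.fixIdeal σ ⊔ Ideal.span ({ArLef.NodeAlg.e (0 : k)} : Set (ArLef.NodeAlg k 0)))) := by
  classical
  have ha : (0 : k) ∈ IsLocalRing.maximalIdeal k := Ideal.zero_mem _
  have hm : IsLocalRing.maximalIdeal k = Ideal.span {(0:k)} := by
    rw [IsLocalRing.maximalIdeal_eq_bot, Ideal.span_singleton_eq_bot.mpr rfl]
  have hT : Prime (gen (0:k) 0) := gen_prime ha zero_ne_one' hm
  have hE : Prime (gen (0:k) 1) := gen_prime ha one_ne_zero' hm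
  have hTE : ¬ gen (0:k) 0 ∣ gen (0:k) 1 := gen_not_dvd ha zero_ne_one' hm
  have hET : ¬ gen (0:k) 1 ∣ gen (0:k) 0 := gen_not_dvd ha one_ne_zero' hm
  have hzero : gen (0:k) 0 * gen (0:k) 1 = 0 := by rw [gen_mul, map_zero]
  have ht' : σ (gen (0:k) 0) = (α : ArLef.NodeAlg k 0) * gen (0:k) 0 := ht
  have he' : σ (gen (0:k) 1) = (β : ArLef.NodeAlg k 0) * gen (0:k) 1 := he
  have hsub : ∀ r, σ r - r ∈ ArLef.fixIdeal σ := fun r =>
    show σ r - r ∈ Ideal.span _ from Ideal.subset_span ⟨r, rfl⟩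
  have e0 : σ (gen (0:k) 0) - gen (0:k) 0 = ((α : ArLef.NodeAlg k 0) - 1) * gen (0:k) 0 := by
    rw [ht']; ring
  have e1 : σ (gen (0:k) 1) - gen (0:k) 1 = ((β : ArLef.NodeAlg k 0) - 1) * gen (0:k) 1 := by
    rw [he']; ring
  have hfix : ArLef.fixIdeal σ = Ideal.span {((α : ArLef.NodeAlg k 0) - 1) * gen (0:k) 0,
      ((β : ArLef.NodeAlg k 0) - 1) * gen (0:k) 1} := by
    apply le_antisymm
    · have := fixIdeal_le ha (σ : ArLef.NodeAlg k 0 ≃+* ArLef.NodeAlg k 0)
        (Ideal.span {((α : ArLef.NodeAlg k 0) - 1) * gen (0:k) 0,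
          ((β : ArLef.NodeAlg k 0) - 1) * gen (0:k) 1}) ?_ ?_ ?_
      · exact this
      · intro b
        have h1 : σ (algebraMap k (ArLef.NodeAlg k 0) b) = algebraMap k (ArLef.NodeAlg k 0) b :=
          σ.commutes b
        change σ (algebraMap k (ArLef.NodeAlg k 0) b) - algebraMap k (ArLef.NodeAlg k 0) b ∈ _
        rw [h1, sub_self]; exact Ideal.zero_mem _
      · change σ (gen (0:k) 0) - gen (0:k) 0 ∈ _
        rw [e0]; exact Ideal.subset_span (by simp)
      · change σ (gen (0:k) 1) - gen (0:k) 1 ∈ _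
        rw [e1]; exact Ideal.subset_span (by simp)
    · refine Ideal.span_le.mpr ?_
      rintro w (rfl | rfl)
      · rw [← e0]; exact hsub _
      · rw [← e1]; exact hsub _
  have hsupT : Ideal.span {((α : ArLef.NodeAlg k 0) - 1) * gen (0:k) 0,
      ((β : ArLef.NodeAlg k 0) - 1) * gen (0:k) 1} ⊔ Ideal.span {gen (0:k) 0} =
      Ideal.span {gen (0:k) 0, ((β : ArLef.NodeAlg k 0) - 1) * gen (0:k) 1} :=
    sup_pair _ _ _ (Ideal.mem_span_singleton'.mpr ⟨_, rfl⟩)
  have hsupE : Ideal.span {((α : ArLef.NodeAlg k 0) - 1) * gen (0:k) 0,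
      ((β : ArLef.NodeAlg k 0) - 1) * gen (0:k) 1} ⊔ Ideal.span {gen (0:k) 1} =
      Ideal.span {gen (0:k) 1, ((α : ArLef.NodeAlg k 0) - 1) * gen (0:k) 0} := by
    rw [Ideal.span_pair_comm]
    exact sup_pair _ _ _ (Ideal.mem_span_singleton'.mpr ⟨_, rfl⟩)
  have hone : Module.length (ArLef.NodeAlg k 0)
      (ArLef.NodeAlg k 0 ⧸ Ideal.span {gen (0:k) 0, gen (0:k) 1}) = 1 := length_quot_gens ha hm
  have hone' : Module.length (ArLef.NodeAlg k 0)
      (ArLef.NodeAlg k 0 ⧸ Ideal.span {gen (0:k) 1, gen (0:k) 0}) = 1 := by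
    rw [Ideal.span_pair_comm]; exact hone
  change Module.length (ArLef.NodeAlg k 0) (ArLef.NodeAlg k 0 ⧸ ArLef.fixIdeal σ) + 1 =
    Module.length (ArLef.NodeAlg k 0)
      (ArLef.NodeAlg k 0 ⧸ (ArLef.fixIdeal σ ⊔ Ideal.span {gen (0:k) 0})) +
    Module.length (ArLef.NodeAlg k 0)
      (ArLef.NodeAlg k 0 ⧸ (ArLef.fixIdeal σ ⊔ Ideal.span {gen (0:k) 1}))
  rw [hfix, hsupT, hsupE, lemC _ _ _ _ hE hET hzero, lemA _ _ _ hT hTE, lemA _ _ _ hE hET,
    hone, hone', Ideal.span_pair_comm (x := gen (0:k) 1)]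
  rw [add_comm (Module.length (ArLef.NodeAlg k 0) (ArLef.NodeAlg k 0 ⧸
    Ideal.span {(α : ArLef.NodeAlg k 0) - 1, gen (0:k) 1})), add_assoc, add_assoc]

end Groth.Agent.S15325
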