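import Groth.Statements.S15326
import Mathlib.Tactic
-- import your own Groth.Agent.* helpers here

set_option autoImplicit false
universe u
open ArLef

namespace Groth.Agent.S15326

/-- Let A be a commutative ring, t an element generating a prime ideal (a local equation of an
irreducible component C of the closed fibre), v an element outside (t) with π = vt the uniformizer,
and σ a ring automorphism of A with σ(vt) = vt whose fixed-point ideal is contained in (t^i) for
some i ≥ 1 (C has multiplicity at least i in the fixed locus). Then σ(t) - t lies in t^(i+1) A_(t),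
the localization at the prime (t): σ - 1 vanishes on (t)/(t^(i+1)) at the generic point of C. -/
theorem result (A : Type u) [CommRing A] (t v : A)
    [ht : (Ideal.span ({t} : Set A)).IsPrime] (hv : v ∉ Ideal.span ({t} : Set A))
    (σ : A ≃+* A) (hσ : σ (v * t) = v * t) (i : ℕ) (hi : 1 ≤ i)
    (hI : ArLef.fixIdeal σ ≤ Ideal.span ({t ^ i} : Set A)) :
    algebraMap A (Localization.AtPrime (Ideal.span ({t} : Set A))) (σ t - t) ∈
      Ideal.span ({algebraMap A (Localization.AtPrime (Ideal.span ({t} : Set A))) (t ^ (i + 1))} :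
        Set (Localization.AtPrime (Ideal.span ({t} : Set A)))) := by
  obtain ⟨j, rfl⟩ : ∃ j, i = j + 1 := ⟨i - 1, by omega⟩
  have h1 : σ t - t ∈ Ideal.span ({t ^ (j + 1)} : Set A) :=
    hI (Ideal.subset_span ⟨t, rfl⟩)
  have h2 : σ v - v ∈ Ideal.span ({t ^ (j + 1)} : Set A) :=
    hI (Ideal.subset_span ⟨v, rfl⟩)
  obtain ⟨a, ha⟩ := Ideal.mem_span_singleton'.mp h1
  obtain ⟨b, hb⟩ := Ideal.mem_span_singleton'.mp h2
  have hσ' : σ v * σ t = v * t := by rw [← map_mul]; exact hσ
  have key : v * (σ t - t) = -(b + a * b * t ^ j) * t ^ (j + 1 + 1) := by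
    have e1 : σ t = t + a * t ^ (j + 1) := by rw [ha]; ring
    have e2 : σ v = v + b * t ^ (j + 1) := by rw [hb]; ring
    rw [e1, e2] at hσ'
    rw [← ha]
    linear_combination hσ'
  have hu : IsUnit (algebraMap A (Localization.AtPrime (Ideal.span ({t} : Set A))) v) :=
    IsLocalization.map_units (Localization.AtPrime (Ideal.span ({t} : Set A)))
      (⟨v, hv⟩ : (Ideal.span ({t} : Set A)).primeCompl)
  rw [Ideal.mem_span_singleton']
  refine ⟨↑hu.unit⁻¹ * algebraMap A _ (-(b + a * b * t ^ j)), ?_⟩
  apply hu.mul_left_cancel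
  rw [← map_mul, key, map_mul, mul_assoc, ← mul_assoc (algebraMap A _ v), hu.mul_val_inv, one_mul]

end Groth.Agent.S15326
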