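import Groth.Statements.S15327
import Mathlib.Tactic
import Mathlib.LinearAlgebra.Matrix.DotProduct
-- import your own Groth.Agent.* helpers here

set_option autoImplicit false
open ArLef ArLef.BlowupGraph

namespace Groth.Agent.S15327

section

variable {n : ℕ} (G : ArLef.BlowupGraph n)

lemma tt_of_lt {k p : Fin n} (h : p < k) : G.tt k p = 0 := by
  unfold ArLef.BlowupGraph.tt
  rw [ArLef.BlowupGraph.ttN]
  simp [Fin.lt_def.mp h]

lemma parN_val (m : Fin n) : G.parN m.1 = (G.par m).map Fin.valEmbedding := by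
  unfold ArLef.BlowupGraph.parN
  rw [dif_pos m.2]

lemma tt_rec (k m : Fin n) :
    G.tt k m = (if m = k then 1 else 0) + ∑ p ∈ G.par m, G.tt k p := by
  have hsum : ∑ p ∈ (G.parN m.1).attach, G.ttN k.1 p.1 = ∑ p ∈ G.par m, G.tt k p := by
    rw [Finset.sum_attach (G.parN m.1) (fun p => G.ttN k.1 p), parN_val, Finset.sum_map]
    rfl
  rcases lt_trichotomy m k with h | h | h
  · rw [tt_of_lt G h, if_neg (ne_of_lt h)]
    rw [Finset.sum_eq_zero]
    · simp
    · intro p hp
      exact tt_of_lt G (lt_trans (G.par_lt m p hp) h)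
  · subst h
    have : G.tt m m = 1 := by
      unfold ArLef.BlowupGraph.tt
      rw [ArLef.BlowupGraph.ttN]
      simp
    rw [this, if_pos rfl, Finset.sum_eq_zero]
    · simp
    · intro p hp
      exact tt_of_lt G (G.par_lt m p hp)
  · have h1 : ¬ m.1 < k.1 := by have := Fin.lt_def.mp h; omega
    have h2 : ¬ m.1 = k.1 := by have := Fin.lt_def.mp h; omega
    have h3 : ¬ m = k := fun e => h2 (congrArg Fin.val e)
    rw [if_neg h3, zero_add, ← hsum]
    unfold ArLef.BlowupGraph.tt
    rw [ArLef.BlowupGraph.ttN]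
    rw [if_neg h1, if_neg h2]

/-- stage-`s` adjacency to `q` -/
def A (q : Fin n) (s : ℕ) (p : Fin n) : Prop :=
  (p ∈ G.par q ∧ ∀ m, q < m → m.val < s → G.par m ≠ {p, q}) ∨
  (q ∈ G.par p ∧ p.val < s ∧ ∀ m, p < m → m.val < s → G.par m ≠ {q, p})

lemma A_ne {q : Fin n} {s : ℕ} {p : Fin n} (h : A G q s p) : p ≠ q := by
  rcases h with ⟨h1, -⟩ | ⟨h1, -, -⟩
  · exact ne_of_lt (G.par_lt _ _ h1)
  · exact (ne_of_lt (G.par_lt _ _ h1)).symm

lemma A_succ_of_not_mem {q : Fin n} {s : ℕ} (hs : s < n) (hq : q ∉ G.par ⟨s, hs⟩) (p : Fin n) :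
    A G q (s + 1) p ↔ A G q s p := by
  have hm : ∀ m' : Fin n, m'.val < s + 1 → ¬ m'.val < s → m' = ⟨s, hs⟩ := by
    intro m' h1 h2; apply Fin.ext; simp; omega
  unfold A
  constructor
  · rintro (⟨h1, h2⟩ | ⟨h1, h2, h3⟩)
    · exact Or.inl ⟨h1, fun m' hm' hlt => h2 m' hm' (by omega)⟩
    · have hps : p.val < s := by
        by_contra hc
        have := hm p h2 hc
        subst this
        exact hq h1
      exact Or.inr ⟨h1, hps, fun m' hm' hlt => h3 m' hm' (by omega)⟩
  · rintro (⟨h1, h2⟩ | ⟨h1, h2, h3⟩)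
    · refine Or.inl ⟨h1, fun m' hm' hlt => ?_⟩
      by_cases hc : m'.val < s
      · exact h2 m' hm' hc
      · rw [hm m' hlt hc]
        intro e
        apply hq; rw [e]; simp
    · refine Or.inr ⟨h1, by omega, fun m' hm' hlt => ?_⟩
      by_cases hc : m'.val < s
      · exact h3 m' hm' hc
      · rw [hm m' hlt hc]
        intro e
        apply hq; rw [e]; simp

lemma A_succ_of_mem {q : Fin n} {s : ℕ} (hs : s < n) (hqs : q.val + 1 ≤ s)
    (hq : q ∈ G.par ⟨s, hs⟩) (p : Fin n) :
    A G q (s + 1) p ↔ (A G q s p ∧ G.par ⟨s, hs⟩ ≠ {p, q}) ∨ p = ⟨s, hs⟩ := by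
  have hm : ∀ m' : Fin n, m'.val < s + 1 → ¬ m'.val < s → m' = ⟨s, hs⟩ := by
    intro m' h1 h2; apply Fin.ext; simp; omega
  have hqm : q < (⟨s, hs⟩ : Fin n) := by rw [Fin.lt_def]; simp; omega
  unfold A
  constructor
  · rintro (⟨h1, h2⟩ | ⟨h1, h2, h3⟩)
    · exact Or.inl ⟨Or.inl ⟨h1, fun m' hm' hlt => h2 m' hm' (by omega)⟩, h2 _ hqm (by simp)⟩
    · by_cases hp : p = ⟨s, hs⟩
      · exact Or.inr hp
      · have hps : p.val < s := by
          by_contra hc
          exact hp (hm p h2 hc)
        refine Or.inl ⟨Or.inr ⟨h1, hps, fun m' hm' hlt => h3 m' hm' (by omega)⟩, ?_⟩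
        rw [Finset.pair_comm]
        exact h3 _ (by rw [Fin.lt_def]; simpa using hps) (by simp)
  · rintro (⟨(⟨h1, h2⟩ | ⟨h1, h2, h3⟩), hne⟩ | rfl)
    · refine Or.inl ⟨h1, fun m' hm' hlt => ?_⟩
      by_cases hc : m'.val < s
      · exact h2 m' hm' hc
      · rw [hm m' hlt hc]; exact hne
    · refine Or.inr ⟨h1, by omega, fun m' hm' hlt => ?_⟩
      by_cases hc : m'.val < s
      · exact h3 m' hm' hc
      · rw [hm m' hlt hc, Finset.pair_comm]; exact hne
    · refine Or.inr ⟨hq, by simp, fun m' hm' hlt => ?_⟩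
      exfalso
      rw [Fin.lt_def] at hm'
      simp at hm'
      omega

lemma not_A_self_stage {q : Fin n} {s : ℕ} (hs : s < n) (hqs : q.val + 1 ≤ s) :
    ¬ A G q s ⟨s, hs⟩ := by
  rintro (⟨h1, -⟩ | ⟨-, h2, -⟩)
  · have := Fin.lt_def.mp (G.par_lt _ _ h1)
    simp at this
    omega
  · simp at h2

open Classical in
lemma filter_removed {q : Fin n} {s : ℕ} (hs : s < n)
    (hq : q ∈ G.par ⟨s, hs⟩) :
    (Finset.univ.filter (fun p => A G q s p ∧ G.par ⟨s, hs⟩ = {p, q})) = (G.par ⟨s, hs⟩).erase q := by
  ext p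
  simp only [Finset.mem_filter, Finset.mem_univ, true_and, Finset.mem_erase]
  constructor
  · rintro ⟨hA, he⟩
    refine ⟨A_ne G hA, ?_⟩
    rw [he]; simp
  · rintro ⟨hpq, hp⟩
    have hpair : G.par ⟨s, hs⟩ = {p, q} := by
      symm
      apply Finset.eq_of_subset_of_card_le
      · intro x hx
        simp only [Finset.mem_insert, Finset.mem_singleton] at hx
        rcases hx with rfl | rfl
        · exact hp
        · exact hq
      · rw [Finset.card_pair hpq]
        exact G.card_le_two _
    refine ⟨?_, hpair⟩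
    rcases lt_or_gt_of_ne hpq with h | h
    · obtain ⟨h1, h2⟩ := G.meet_of_two _ p q hp hq h
      exact Or.inl ⟨h1, fun m' hm' hlt => h2 m' hm' (by rw [Fin.lt_def]; simpa using hlt)⟩
    · obtain ⟨h1, h2⟩ := G.meet_of_two _ q p hq hp h
      refine Or.inr ⟨h1, ?_, fun m' hm' hlt => h2 m' hm' (by rw [Fin.lt_def]; simpa using hlt)⟩
      have := Fin.lt_def.mp (G.par_lt _ _ hp)
      simpa using this

open Classical in
lemma inv (k q : Fin n) (s : ℕ) (hs1 : q.val + 1 ≤ s) (hs2 : s ≤ n) :
    ∑ p ∈ Finset.univ.filter (fun p => A G q s p), G.tt k p =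
      G.tt k q * (1 + ((Finset.univ.filter (fun m : Fin n => q ∈ G.par m ∧ m.val < s)).card : ℤ))
        - (if q = k then 1 else 0) + (if q ∈ G.par k ∧ k.val < s then 1 else 0) := by
  induction s, hs1 using Nat.le_induction with
  | base =>
    have e1 : Finset.univ.filter (fun p => A G q (q.val + 1) p) = G.par q := by
      ext p
      simp only [Finset.mem_filter, Finset.mem_univ, true_and]
      constructor
      · rintro (⟨h1, -⟩ | ⟨h1, h2, -⟩)
        · exact h1
        · have := Fin.lt_def.mp (G.par_lt _ _ h1); omega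
      · intro h
        exact Or.inl ⟨h, fun m hm hlt => by have := Fin.lt_def.mp hm; omega⟩
    have e2 : Finset.univ.filter (fun m : Fin n => q ∈ G.par m ∧ m.val < q.val + 1) = ∅ := by
      ext m
      simp only [Finset.mem_filter, Finset.mem_univ, true_and, Finset.notMem_empty, iff_false]
      rintro ⟨h1, h2⟩
      have := Fin.lt_def.mp (G.par_lt _ _ h1); omega
    have e3 : ¬ (q ∈ G.par k ∧ k.val < q.val + 1) := by
      rintro ⟨h1, h2⟩
      have := Fin.lt_def.mp (G.par_lt _ _ h1); omega
    rw [e1, e2, if_neg e3]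
    have := tt_rec G k q
    simp only [Finset.card_empty, Nat.cast_zero, add_zero, mul_one]
    linarith
  | succ s hs1 ih =>
    have hs : s < n := by omega
    have ih := ih (by omega)
    by_cases hq : q ∈ G.par ⟨s, hs⟩
    · have e1 : Finset.univ.filter (fun p => A G q (s + 1) p) =
          insert (⟨s, hs⟩ : Fin n)
            ((Finset.univ.filter (fun p => A G q s p)).filter (fun p => ¬ G.par ⟨s, hs⟩ = {p, q})) := by
        ext p
        simp only [Finset.mem_filter, Finset.mem_univ, true_and, Finset.mem_insert,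
          A_succ_of_mem G hs hs1 hq p]
        tauto
      have hnot : (⟨s, hs⟩ : Fin n) ∉
          (Finset.univ.filter (fun p => A G q s p)).filter (fun p => ¬ G.par ⟨s, hs⟩ = {p, q}) := by
        simp only [Finset.mem_filter, Finset.mem_univ, true_and, not_and]
        intro h
        exact absurd h (not_A_self_stage G hs hs1)
      have e2 := Finset.sum_filter_add_sum_filter_not (Finset.univ.filter (fun p => A G q s p))
        (fun p => G.par ⟨s, hs⟩ = {p, q}) (fun p => G.tt k p)
      rw [Finset.filter_filter, filter_removed G hs hq] at e2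
      have e3 := Finset.add_sum_erase (G.par ⟨s, hs⟩) (fun p => G.tt k p) hq
      have e4 := tt_rec G k ⟨s, hs⟩
      have e5 : Finset.univ.filter (fun m : Fin n => q ∈ G.par m ∧ m.val < s + 1) =
          insert (⟨s, hs⟩ : Fin n) (Finset.univ.filter (fun m : Fin n => q ∈ G.par m ∧ m.val < s)) := by
        ext m'
        simp only [Finset.mem_filter, Finset.mem_univ, true_and, Finset.mem_insert]
        constructor
        · rintro ⟨h1, h2⟩
          by_cases hc : m'.val < s
          · exact Or.inr ⟨h1, hc⟩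
          · left; apply Fin.ext; simp; omega
        · rintro (rfl | ⟨h1, h2⟩)
          · exact ⟨hq, by simp⟩
          · exact ⟨h1, by omega⟩
      have hnot2 : (⟨s, hs⟩ : Fin n) ∉
          Finset.univ.filter (fun m : Fin n => q ∈ G.par m ∧ m.val < s) := by
        simp
      have e6 : (if q ∈ G.par k ∧ k.val < s + 1 then (1 : ℤ) else 0) =
          (if q ∈ G.par k ∧ k.val < s then 1 else 0) + (if (⟨s, hs⟩ : Fin n) = k then 1 else 0) := by
        by_cases hk : (⟨s, hs⟩ : Fin n) = k
        · subst hk
          simp [hq]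
        · have hk' : k.val ≠ s := fun e => hk (Fin.ext e.symm)
          have : (k.val < s + 1) ↔ k.val < s := by omega
          simp only [this, if_neg hk, add_zero]
      rw [e1, Finset.sum_insert hnot, e5, Finset.card_insert_of_notMem hnot2, e6]
      push_cast
      linarith
    · have e1 : Finset.univ.filter (fun p => A G q (s + 1) p) =
          Finset.univ.filter (fun p => A G q s p) := by
        ext p
        simp only [Finset.mem_filter, Finset.mem_univ, true_and, A_succ_of_not_mem G hs hq p]
      have e5 : Finset.univ.filter (fun m : Fin n => q ∈ G.par m ∧ m.val < s + 1) =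
          Finset.univ.filter (fun m : Fin n => q ∈ G.par m ∧ m.val < s) := by
        ext m'
        simp only [Finset.mem_filter, Finset.mem_univ, true_and]
        constructor
        · rintro ⟨h1, h2⟩
          refine ⟨h1, ?_⟩
          by_contra hc
          have : m' = ⟨s, hs⟩ := by apply Fin.ext; simp; omega
          subst this
          exact hq h1
        · rintro ⟨h1, h2⟩
          exact ⟨h1, by omega⟩
      have e6 : (q ∈ G.par k ∧ k.val < s + 1) ↔ (q ∈ G.par k ∧ k.val < s) := by
        constructor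
        · rintro ⟨h1, h2⟩
          refine ⟨h1, ?_⟩
          by_contra hc
          have : k = ⟨s, hs⟩ := by apply Fin.ext; simp; omega
          subst this
          exact hq h1
        · rintro ⟨h1, h2⟩
          exact ⟨h1, by omega⟩
      rw [e1, e5, ih]
      simp only [e6]

lemma A_top (q p : Fin n) : A G q n p ↔ G.Adj p q := by
  unfold A ArLef.BlowupGraph.Adj
  simp only [Fin.is_lt, forall_true_left, true_and]

lemma core (k q : Fin n) :
    G.tt k q * G.selfInt q + ∑ p ∈ Finset.univ.filter (fun p => G.Adj p q), G.tt k p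
      = (if q = k then -1 else 0) + (if q ∈ G.par k then 1 else 0) := by
  classical
  have h := inv G k q n (by have := q.2; omega) le_rfl
  have e1 : ∑ p ∈ Finset.univ.filter (fun p => G.Adj p q), G.tt k p =
      ∑ p ∈ Finset.univ.filter (fun p => A G q n p), G.tt k p := by
    apply Finset.sum_congr _ (fun _ _ => rfl)
    ext p
    simp only [Finset.mem_filter, Finset.mem_univ, true_and, A_top]
  have e2 : Finset.univ.filter (fun m : Fin n => q ∈ G.par m ∧ m.val < n) =
      Finset.univ.filter (fun m : Fin n => q ∈ G.par m) := by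
    ext m
    simp
  rw [e1, h, e2]
  unfold ArLef.BlowupGraph.selfInt
  simp only [Fin.is_lt, and_true]
  split_ifs <;> ring_nf

open Matrix

/-- total transform coefficients as a rational matrix -/
def C : Matrix (Fin n) (Fin n) ℚ := fun k m => (G.tt k m : ℚ)

/-- intersection numbers of total transforms with components -/
def Dm : Matrix (Fin n) (Fin n) ℚ :=
  fun k q => (if q = k then -1 else 0) + (if q ∈ G.par k then 1 else 0)

lemma not_adj_self (q : Fin n) : ¬ G.Adj q q := by
  rintro (⟨h, -⟩ | ⟨h, -⟩) <;> exact lt_irrefl _ (G.par_lt _ _ h)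

lemma mat_eq (p q : Fin n) :
    G.mat p q = (if p = q then (G.selfInt q : ℚ) else 0) + (if G.Adj p q then 1 else 0) := by
  unfold ArLef.BlowupGraph.mat
  by_cases h : p = q
  · subst h; simp [not_adj_self]
  · simp [h]

lemma C_mul_mat : C G * G.mat = Dm G := by
  ext k q
  rw [Matrix.mul_apply]
  have h := core G k q
  have : ∑ p, C G k p * G.mat p q =
      ((G.tt k q * G.selfInt q + ∑ p ∈ Finset.univ.filter (fun p => G.Adj p q), G.tt k p : ℤ) : ℚ) := by
    push_cast
    simp only [mat_eq, mul_add, Finset.sum_add_distrib, mul_ite, mul_one, mul_zero,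
      Finset.sum_ite_eq', Finset.mem_univ, if_true, Finset.sum_filter, C]
  rw [this, h]
  unfold Dm
  push_cast
  rfl

lemma Dm_mul_Ct : Dm G * (C G)ᵀ = -1 := by
  ext k l
  rw [Matrix.mul_apply]
  have h2 : (G.tt l k : ℚ) = (if k = l then 1 else 0) + ∑ p ∈ G.par k, (G.tt l p : ℚ) := by
    exact_mod_cast tt_rec G l k
  simp only [Dm, Matrix.transpose_apply, C, add_mul, Finset.sum_add_distrib, ite_mul, neg_mul,
    one_mul, zero_mul, Finset.sum_ite_eq', Finset.mem_univ, if_true]
  rw [← Finset.sum_filter, Finset.filter_mem_eq_inter, Finset.univ_inter, Matrix.neg_apply,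
    Matrix.one_apply, h2]
  ring

lemma mat_mul_N : G.mat * ((C G)ᵀ * C G) = -1 := by
  have h : C G * (G.mat * (C G)ᵀ) = -1 := by rw [← Matrix.mul_assoc, C_mul_mat, Dm_mul_Ct]
  have h1 : C G * (-(G.mat * (C G)ᵀ)) = 1 := by rw [Matrix.mul_neg, h, neg_neg]
  have h2 : (-(G.mat * (C G)ᵀ)) * C G = 1 := mul_eq_one_comm.mp h1
  rw [← Matrix.mul_assoc]
  rw [Matrix.neg_mul] at h2
  exact neg_eq_iff_eq_neg.mp h2

lemma N_mul_mat : ((C G)ᵀ * C G) * G.mat = -1 := by
  have h := mat_mul_N G
  have h1 : (-G.mat) * ((C G)ᵀ * C G) = 1 := by rw [Matrix.neg_mul, h, neg_neg]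
  have h2 := mul_eq_one_comm.mp h1
  rw [Matrix.mul_neg] at h2
  exact neg_eq_iff_eq_neg.mp h2

lemma isUnit_sub (I : Finset (Fin n)) :
    IsUnit (G.mat.submatrix (fun x : I => x.1) (fun x : I => x.1)).det := by
  rw [← Matrix.isUnit_iff_isUnit_det, ← Matrix.mulVec_injective_iff_isUnit]
  intro v w hvw
  have hz : (G.mat.submatrix (fun x : I => x.1) (fun x : I => x.1)).mulVec (v - w) = 0 := by
    rw [Matrix.mulVec_sub, hvw, sub_self]
  suffices h : v - w = 0 from sub_eq_zero.mp h
  generalize v - w = u at hz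
  classical
  let x : Fin n → ℚ := fun a => if h : a ∈ I then u ⟨a, h⟩ else 0
  have hy : ∀ a : I, G.mat.mulVec x a.1 = 0 := by
    intro a
    have := congrFun hz a
    simp only [Matrix.mulVec, dotProduct, Matrix.submatrix_apply, Pi.zero_apply] at this
    show ∑ b, G.mat a.1 b * x b = 0
    rw [← this, ← Finset.sum_subset (Finset.subset_univ I)
      (fun b _ hb => by simp [x, hb]), ← Finset.sum_coe_sort I]
    apply Finset.sum_congr rfl
    intro b _
    simp [x]
  have hxy : x ⬝ᵥ G.mat.mulVec x = 0 := by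
    apply Finset.sum_eq_zero
    intro a _
    by_cases h : a ∈ I
    · rw [hy ⟨a, h⟩, mul_zero]
    · simp [x, h]
  have hNy : ((C G)ᵀ * C G).mulVec (G.mat.mulVec x) = -x := by
    rw [Matrix.mulVec_mulVec, N_mul_mat, Matrix.neg_mulVec, Matrix.one_mulVec]
  have hCy : (C G).mulVec (G.mat.mulVec x) = 0 := by
    rw [← dotProduct_self_eq_zero]
    have : (C G).mulVec (G.mat.mulVec x) ⬝ᵥ (C G).mulVec (G.mat.mulVec x) =
        ((C G)ᵀ * C G).mulVec (G.mat.mulVec x) ⬝ᵥ G.mat.mulVec x := by
      rw [Matrix.dotProduct_mulVec, ← Matrix.mulVec_transpose, Matrix.mulVec_mulVec]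
    rw [this, hNy, neg_dotProduct, hxy, neg_zero]
  have hx : x = 0 := by
    have : ((C G)ᵀ * C G).mulVec (G.mat.mulVec x) = 0 := by
      rw [← Matrix.mulVec_mulVec, hCy, Matrix.mulVec_zero]
    rw [hNy] at this
    exact neg_eq_zero.mp this
  funext a
  have := congrFun hx a.1
  simpa [x, a.2] using this

lemma mult_cast (i j : Fin n) : ((G.mult i j : ℤ) : ℚ) = ((C G)ᵀ * C G) i j := by
  unfold ArLef.BlowupGraph.mult
  rw [Matrix.mul_apply]
  push_cast
  rfl

lemma inner (I : Finset (Fin n)) (i i' : Fin n) (hi : i ∉ I) :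
    ∑ j ∈ Finset.univ.filter (fun j => j ∉ I), (G.mult i j : ℚ) * G.pairing I i' j =
      if i' = i then -1 else 0 := by
  classical
  have hinv : (G.mat.submatrix (fun x : I => x.1) (fun x : I => x.1))⁻¹ *
      (G.mat.submatrix (fun x : I => x.1) (fun x : I => x.1)) = 1 :=
    Matrix.nonsing_inv_mul _ (isUnit_sub G I)
  set MI := G.mat.submatrix (fun x : I => x.1) (fun x : I => x.1) with hMI
  let nv : Fin n → ℚ := fun c => ((C G)ᵀ * C G) c i
  have hsymm : ∀ j, (G.mult i j : ℚ) = nv j := by
    intro j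
    rw [mult_cast]
    show ((C G)ᵀ * C G) i j = ((C G)ᵀ * C G) j i
    simp only [Matrix.mul_apply, Matrix.transpose_apply]
    apply Finset.sum_congr rfl
    intro k _
    ring
  have ha : ∀ b, ∑ j, G.mat b j * nv j = if b = i then -1 else 0 := by
    intro b
    have := congrFun (congrFun (mat_mul_N G) b) i
    rw [Matrix.mul_apply] at this
    rw [this, Matrix.neg_apply, Matrix.one_apply]
    split_ifs <;> simp
  have hb : ∀ b, ∑ j, G.mat b j * nv j =
      (∑ j ∈ Finset.univ.filter (fun j => j ∉ I), G.mat b j * nv j) +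
        ∑ c : I, G.mat b c.1 * nv c.1 := by
    intro b
    rw [Finset.sum_coe_sort I (fun c => G.mat b c * nv c)]
    rw [← Finset.sum_filter_add_sum_filter_not Finset.univ (fun j => j ∈ I)]
    rw [Finset.filter_mem_eq_inter, Finset.univ_inter, add_comm]
  let R : Fin n → ℚ := fun b => ∑ j ∈ Finset.univ.filter (fun j => j ∉ I), G.mat b j * nv j
  have hR : ∀ b : I, R b.1 = - ∑ c : I, MI b c * nv c.1 := by
    intro b
    have h1 := ha b.1
    rw [hb b.1] at h1
    have hne : b.1 ≠ i := fun e => hi (e ▸ b.2)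
    rw [if_neg hne] at h1
    have h2 : R b.1 + ∑ c : I, G.mat b.1 c.1 * nv c.1 = 0 := h1
    have h3 : ∑ c : I, MI b c * nv c.1 = ∑ c : I, G.mat b.1 c.1 * nv c.1 := rfl
    linarith
  have he : ∀ a : I, ∑ b : I, MI⁻¹ a b * R b.1 = - nv a.1 := by
    intro a
    have h1 : (fun b : I => R b.1) = -(MI.mulVec (fun c : I => nv c.1)) := by
      funext b
      rw [hR b]
      rfl
    have h2 : MI⁻¹.mulVec (fun b : I => R b.1) = -(fun c : I => nv c.1) := by
      rw [h1, Matrix.mulVec_neg, Matrix.mulVec_mulVec, hinv, Matrix.one_mulVec]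
    exact congrFun h2 a
  have hexp : ∑ j ∈ Finset.univ.filter (fun j => j ∉ I), (G.mult i j : ℚ) * G.pairing I i' j =
      R i' - ∑ a : I, G.mat i' a.1 * ∑ b : I, MI⁻¹ a b * R b.1 := by
    unfold ArLef.BlowupGraph.pairing
    simp only [hsymm, mul_sub, Finset.sum_sub_distrib]
    congr 1
    · apply Finset.sum_congr rfl
      intro j _
      ring
    · simp only [Finset.mul_sum, R]
      rw [Finset.sum_comm]
      apply Finset.sum_congr rfl
      intro a _
      rw [Finset.sum_comm]
      apply Finset.sum_congr rfl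
      intro b _
      apply Finset.sum_congr rfl
      intro j _
      ring
  rw [hexp]
  simp only [he]
  have h5 := ha i'
  rw [hb i'] at h5
  rw [← h5]
  simp only [mul_neg, Finset.sum_neg_distrib, sub_neg_eq_add]
  rfl

end


/-- Let Φ be the labelled dual graph of the exceptional curves of n successive blow-ups of closed points
starting from a regular surface with algebraically closed residue fields (vertices = exceptional
curves in order of creation, labels = intersection numbers), I any set of vertices (the curves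
contracted to a normal surface) and σ a permutation of the vertices preserving all intersection
numbers and the set I. Let e_{ij} be the multiplicity of E_i × E_j in the fibre square of the
composite blow-down (the sum over k of c^k_i c^k_j, c^k the total transform of the k-th exceptional
curve) and (E_i · E_j)_I Mumford's rational intersection number of the images after contracting I.
Then the sum over i, j outside I of e_{ij} (σ E_i · E_j)_I equals minus the number of σ-fixed
vertices outside I. (Stated for the dual graphs realized with all residue fields equal to the base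
field, which is the case the published argument realizes geometrically.) -/
theorem result (n : ℕ) (G : ArLef.BlowupGraph n) (I : Finset (Fin n))
    (σ : Equiv.Perm (Fin n)) (hσ : ∀ i j : Fin n, G.mat (σ i) (σ j) = G.mat i j)
    (hσI : ∀ i : Fin n, σ i ∈ I ↔ i ∈ I) :
    G.lNum I σ = ArLef.BlowupGraph.rNum I σ := by
  unfold ArLef.BlowupGraph.lNum ArLef.BlowupGraph.rNum
  have h : ∀ i ∈ Finset.univ.filter (fun i => i ∉ I),
      ∑ j ∈ Finset.univ.filter (fun j => j ∉ I), (G.mult i j : ℚ) * G.pairing I (σ i) j =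
        if σ i = i then -1 else 0 := by
    intro i hi
    exact inner G I i (σ i) (by simpa using hi)
  rw [Finset.sum_congr rfl h]
  rw [Finset.sum_ite, Finset.sum_const, Finset.sum_const_zero, add_zero, Finset.filter_filter]
  simp

end Groth.Agent.S15327
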