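import Groth.Statements.S1534
import Groth.Agent.H74.H0Top
import Groth.Agent.H9.SchemeDimStalk
import Groth.Agent.H29.CM
import Groth.Agent.H29.Depth
import Mathlib

set_option autoImplicit false
universe u
open CategoryTheory CategoryTheory.Limits AlgebraicGeometry
open Curves

namespace Groth.Agent.S1534

theorem zero_or_isUnit (k : Type u) [Field k] (X : Scheme.{u}) [X.Over (Spec (CommRingCat.of k))]
    (h0 : Module.finrank k (Coh.HH X (Coh.structureModule X) 0) = 1) (s : Γ(X, ⊤)) :
    s = 0 ∨ IsUnit s := by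
  obtain ⟨c, hc⟩ := Groth.Agent.H74.H0Top.toGlobal_surjective X k h0 s
  by_cases hc0 : c = 0
  · left
    rw [← hc, hc0]
    exact map_zero _
  · right
    rw [← hc]
    exact (IsUnit.mk0 c hc0).map _

theorem exists_glue_two (X : Scheme.{u}) (U V W : X.Opens) (hW : W = U ⊔ V) (hU : U ≤ W)
    (hV : V ≤ W) (a : Γ(X, U)) (b : Γ(X, V))
    (hab : (X.presheaf.map (homOfLE (inf_le_left : U ⊓ V ≤ U)).op).hom a =
      (X.presheaf.map (homOfLE (inf_le_right : U ⊓ V ≤ V)).op).hom b) :
    ∃ t : Γ(X, W), (X.presheaf.map (homOfLE hU).op).hom t = a ∧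
      (X.presheaf.map (homOfLE hV).op).hom t = b := by
  subst hW
  have hmem : ((a, b) : Γ(X, U) × Γ(X, V)) ∈ RingHom.eqLocus
      (RingHom.comp (X.sheaf.obj.map (homOfLE inf_le_left : U ⊓ V ⟶ U).op).hom
        (RingHom.fst (X.sheaf.obj.obj <| Opposite.op U) (X.sheaf.obj.obj <| Opposite.op V)))
      (RingHom.comp (X.sheaf.obj.map (homOfLE inf_le_right : U ⊓ V ⟶ V).op).hom
        (RingHom.snd (X.sheaf.obj.obj <| Opposite.op U) (X.sheaf.obj.obj <| Opposite.op V))) := hab
  refine ⟨(X.sheaf.objSupIsoProdEqLocus U V).inv ⟨(a, b), hmem⟩, ?_, ?_⟩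
  · exact TopCat.Sheaf.objSupIsoProdEqLocus_inv_fst X.sheaf U V ⟨(a, b), hmem⟩
  · exact TopCat.Sheaf.objSupIsoProdEqLocus_inv_snd X.sheaf U V ⟨(a, b), hmem⟩

theorem opens_eq_bot_of_one_eq_zero (X : Scheme.{u}) (U : X.Opens) (h : (1 : Γ(X, U)) = 0) :
    U = ⊥ := by
  rw [eq_bot_iff]
  intro y hy
  exfalso
  have h1 : (X.presheaf.germ U y hy).hom 1 = (X.presheaf.germ U y hy).hom 0 := by rw [h]
  rw [map_one, map_zero] at h1
  exact one_ne_zero h1

theorem connected_of_F (X : Scheme.{u}) [Nonempty X] (hF : ∀ s : Γ(X, ⊤), s = 0 ∨ IsUnit s) :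
    ConnectedSpace X := by
  haveI : PreconnectedSpace X := by
    rw [preconnectedSpace_iff_clopen]
    intro S hS
    let U : X.Opens := ⟨S, hS.isOpen⟩
    let V : X.Opens := ⟨Sᶜ, hS.compl.isOpen⟩
    have hUV : U ⊓ V = ⊥ := by
      rw [eq_bot_iff]
      intro y hy
      exact hy.2 hy.1
    have hsup : (⊤ : X.Opens) = U ⊔ V := by
      refine le_antisymm ?_ le_top
      intro z _
      rw [TopologicalSpace.Opens.mem_sup]
      by_cases hz : z ∈ S
      · exact Or.inl hz
      · exact Or.inr hz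
    haveI : Subsingleton Γ(X, U ⊓ V) := by rw [hUV]; infer_instance
    obtain ⟨t, ht1, ht2⟩ :=
      exists_glue_two X U V ⊤ hsup le_top le_top 1 0 (Subsingleton.elim _ _)
    rcases hF t with h | h
    · left
      have h10 : (1 : Γ(X, U)) = 0 := by rw [← ht1, h, map_zero]
      have hU := opens_eq_bot_of_one_eq_zero X U h10
      have hUe : (U : Set X) = ∅ := by rw [hU]; exact TopologicalSpace.Opens.coe_bot
      exact hUe
    · right
      have hu : IsUnit (0 : Γ(X, V)) := by rw [← ht2]; exact h.map _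
      have h10 : (1 : Γ(X, V)) = 0 := (isUnit_zero_iff.mp hu).symm
      have hV := opens_eq_bot_of_one_eq_zero X V h10
      have hVe : (V : Set X) = ∅ := by rw [hV]; exact TopologicalSpace.Opens.coe_bot
      exact Set.compl_empty_iff.mp hVe
  exact { toPreconnectedSpace := inferInstance, toNonempty := inferInstance }

theorem nonempty_of_dim (T : Type u) [TopologicalSpace T] (hdim : topologicalKrullDim T = 1) :
    Nonempty T := by
  by_contra hne
  rw [not_nonempty_iff] at hne
  haveI : IsEmpty (TopologicalSpace.IrreducibleCloseds T) :=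
    ⟨fun Z => hne.elim Z.isIrreducible'.nonempty.some⟩
  have hb : topologicalKrullDim T = ⊥ := by
    unfold topologicalKrullDim
    exact Order.krullDim_eq_bot
  rw [hb] at hdim
  exact absurd hdim WithBot.bot_ne_one

theorem not_subsingleton_of_dim (T : Type u) [TopologicalSpace T]
    (hdim : topologicalKrullDim T = 1) : ¬ Subsingleton T := by
  intro hs
  haveI : Subsingleton (TopologicalSpace.IrreducibleCloseds T) := by
    refine ⟨fun A B => TopologicalSpace.IrreducibleCloseds.ext ?_⟩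
    exact (Subsingleton.eq_univ_of_nonempty A.isIrreducible'.nonempty).trans
      (Subsingleton.eq_univ_of_nonempty B.isIrreducible'.nonempty).symm
  have hle : topologicalKrullDim T ≤ 0 := by
    unfold topologicalKrullDim
    exact Order.krullDim_nonpos_of_subsingleton
  rw [hdim] at hle
  exact absurd hle (not_le.mpr zero_lt_one)

theorem isClosed_singleton_of_dim (X : Scheme.{u}) (hdim : topologicalKrullDim X = 1) (x : X)
    (hx : ringKrullDim (X.presheaf.stalk x) = 1) : IsClosed ({x} : Set X) := by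
  apply isClosed_of_closure_subset
  intro x' hx'
  by_contra hne
  have hspec : x ⤳ x' := specializes_iff_mem_closure.mpr hx'
  have hle : x' ≤ x := hspec
  have hnle : ¬ x ≤ x' := fun (h : x' ⤳ x) =>
    hne (Set.mem_singleton_iff.mpr (h.antisymm hspec).eq)
  have hlt : x' < x := lt_of_le_not_ge hle hnle
  have h1 : ((Order.coheight x : ℕ∞) : WithBot ℕ∞) = 1 := by
    rw [← AlgebraicGeometry.ringKrullDim_stalk_eq_coheight]; exact hx
  have h1' : Order.coheight x = 1 := by exact_mod_cast h1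
  have h2 : Order.coheight x + 1 ≤ Order.coheight x' := Order.coheight_add_one_le hlt
  have h3 : ((Order.coheight x' : ℕ∞) : WithBot ℕ∞) ≤ 1 := by
    rw [← AlgebraicGeometry.ringKrullDim_stalk_eq_coheight, ← hdim]
    exact Groth.Agent.H9.FibDim.ringKrullDim_stalk_le X x'
  have h3' : Order.coheight x' ≤ 1 := by exact_mod_cast h3
  rw [h1'] at h2
  have h4 : (1 + 1 : ℕ∞) ≤ 1 := h2.trans h3'
  exact absurd h4 (by decide)

theorem isCM_of_dim_le_one (A : Type u) [CommRing A] [IsLocalRing A] [IsNoetherianRing A]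
    (hd : ringKrullDim A ≤ 1)
    (h : ringKrullDim A = 1 → IsLocalRing.maximalIdeal A ∉ associatedPrimes A A) :
    LocCoh.IsCohenMacaulayLocalRing A := by
  refine { supportDim_eq_depth := ?_ }
  rw [Module.supportDim_self_eq_ringKrullDim]
  apply le_antisymm
  · by_cases h1 : ringKrullDim A = 1
    · rw [h1]
      have hne : LocCoh.depth A A ≠ 0 := by
        intro h0
        have h2 := ((Groth.Agent.H29.depth_eq_zero_iff A A).mp h0).2
        exact h h1
          ((Groth.Agent.H29.forall_not_isSMulRegular_iff_mem_associatedPrimes A A).mp h2)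
      have h1le : (1 : ℕ∞) ≤ LocCoh.depth A A := Order.one_le_iff_ne_zero.mpr hne
      exact_mod_cast h1le
    · have hlt : ringKrullDim A < 1 := lt_of_le_of_ne hd h1
      have hlt' : ringKrullDim A < ((0 : ℕ) : WithBot ℕ∞) + 1 := by simpa using hlt
      have hle0 : ringKrullDim A ≤ ((0 : ℕ) : WithBot ℕ∞) := ENat.WithBot.lt_add_one_iff.mp hlt'
      refine hle0.trans ?_
      have h0le : (0 : ℕ∞) ≤ LocCoh.depth A A := zero_le
      exact_mod_cast h0le
  · rw [← Module.supportDim_self_eq_ringKrullDim]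
    exact Groth.Agent.H29.CM.depth_le_supportDim (A := A) (M := A)

theorem stalk_eq_zero_of_maximalIdeal_mul (X : Scheme.{u}) [IsLocallyNoetherian X]
    (hF : ∀ s : Γ(X, ⊤), s = 0 ∨ IsUnit s) (x : X) (hx : IsClosed ({x} : Set X))
    (hy : ∃ y : X, y ≠ x) (a : X.presheaf.stalk x)
    (ha : ∀ t ∈ IsLocalRing.maximalIdeal (X.presheaf.stalk x), t * a = 0) : a = 0 := by
  obtain ⟨_, ⟨W, hW, rfl⟩, hxW, -⟩ :=
    X.isBasis_affineOpens.exists_subset_of_mem_open (Set.mem_univ x) isOpen_univ
  have hxW' : x ∈ W := hxW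
  have hW' : IsAffineOpen W := hW
  haveI : IsNoetherianRing Γ(X, W) := IsLocallyNoetherian.component_noetherian ⟨W, hW⟩
  letI alg : Algebra Γ(X, W) (X.presheaf.stalk x) :=
    TopCat.Presheaf.algebra_section_stalk X.presheaf (⟨x, hxW'⟩ : W)
  haveI hloc : IsLocalization.AtPrime (X.presheaf.stalk x)
      (hW'.primeIdealOf ⟨x, hxW'⟩).asIdeal := hW'.isLocalization_stalk ⟨x, hxW'⟩
  set P : Ideal Γ(X, W) := (hW'.primeIdealOf ⟨x, hxW'⟩).asIdeal with hPdef
  obtain ⟨⟨a', s₀⟩, rfl⟩ := IsLocalization.mk'_surjective P.primeCompl a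
  have hspec : IsLocalization.mk' (X.presheaf.stalk x) a' s₀ *
      algebraMap Γ(X, W) (X.presheaf.stalk x) (s₀ : Γ(X, W)) =
      algebraMap Γ(X, W) (X.presheaf.stalk x) a' := IsLocalization.mk'_spec _ a' s₀
  have hs₀ : IsUnit (algebraMap Γ(X, W) (X.presheaf.stalk x) (s₀ : Γ(X, W))) :=
    IsLocalization.map_units _ s₀
  have hmemP : ∀ g : Γ(X, W), g ∈ P ↔
      algebraMap Γ(X, W) (X.presheaf.stalk x) g ∈
        IsLocalRing.maximalIdeal (X.presheaf.stalk x) := by
    intro g
    rw [IsLocalRing.mem_maximalIdeal, mem_nonunits_iff,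
      IsLocalization.AtPrime.isUnit_to_map_iff (X.presheaf.stalk x) P g]
    exact (not_not).symm
  have hg0 : ∀ g ∈ P, algebraMap Γ(X, W) (X.presheaf.stalk x) (g * a') = 0 := by
    intro g hg
    have h1 := ha _ ((hmemP g).mp hg)
    rw [map_mul, ← hspec, ← mul_assoc, h1, zero_mul]
  have hm : ∀ g ∈ P, ∃ m : Γ(X, W), m ∈ P.primeCompl ∧ m * (g * a') = 0 := by
    intro g hg
    obtain ⟨m, hm⟩ :=
      (IsLocalization.map_eq_zero_iff P.primeCompl (X.presheaf.stalk x) (g * a')).mp (hg0 g hg)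
    exact ⟨m, m.2, hm⟩
  choose! m hmP hm0 using hm
  obtain ⟨T, hT⟩ := (IsNoetherian.noetherian P : Submodule.FG P)
  have hTP : ∀ g ∈ T, g ∈ P := by
    intro g hg
    rw [← hT]
    exact Submodule.subset_span hg
  obtain ⟨s, hs⟩ : ∃ s : Γ(X, W), s = ∏ g ∈ T, m g := ⟨_, rfl⟩
  have hsP : s ∈ P.primeCompl := by
    rw [hs]
    exact Submonoid.prod_mem _ (fun g hg => hmP g (hTP g hg))
  obtain ⟨a₁, ha₁⟩ : ∃ a₁ : Γ(X, W), a₁ = s * a' := ⟨_, rfl⟩
  have hTa : ∀ g ∈ T, g * a₁ = 0 := by
    intro g hg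
    obtain ⟨c, hc⟩ := Finset.dvd_prod_of_mem m hg
    rw [ha₁, hs, hc]
    calc g * (m g * c * a') = c * (m g * (g * a')) := by ring
      _ = 0 := by rw [hm0 g (hTP g hg), mul_zero]
  have hPa' : ∀ g ∈ Submodule.span Γ(X, W) (T : Set Γ(X, W)), g * a₁ = 0 := by
    intro g hg
    induction hg using Submodule.span_induction with
    | mem g hg => exact hTa g hg
    | zero => exact zero_mul _
    | add g h _ _ hg hh => rw [add_mul, hg, hh, add_zero]
    | smul r g _ hg => rw [smul_eq_mul, mul_assoc, hg, mul_zero]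
  have hPa : ∀ g ∈ P, g * a₁ = 0 := fun g hg => hPa' g (by rw [hT]; exact hg)
  let V : X.Opens := ⟨({x} : Set X)ᶜ, hx.isOpen_compl⟩
  have hxV : x ∉ V := fun h => h rfl
  have hres : (X.presheaf.map (homOfLE (inf_le_left : W ⊓ V ≤ W)).op).hom a₁ = 0 := by
    refine TopCat.Presheaf.section_ext X.sheaf (W ⊓ V) _ _ ?_
    intro y hy
    have hyW : y ∈ W := hy.1
    have hyV : y ∈ V := hy.2
    obtain ⟨f, hfV, hyf⟩ := hW'.exists_basicOpen_le (⟨y, hyV⟩ : V) hyW
    have hfx : x ∉ X.basicOpen f := fun h => hxV (hfV h)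
    have hfP : f ∈ P := by
      by_contra hfP
      have hu : IsUnit (algebraMap Γ(X, W) (X.presheaf.stalk x) f) :=
        (IsLocalization.AtPrime.isUnit_to_map_iff (X.presheaf.stalk x) P f).mpr hfP
      exact hfx ((X.mem_basicOpen f x hxW').mpr hu)
    have hfy : IsUnit ((X.presheaf.germ W y hyW).hom f) := (X.mem_basicOpen f y hyW).mp hyf
    have h0 : (X.presheaf.germ W y hyW).hom f * (X.presheaf.germ W y hyW).hom a₁ = 0 := by
      rw [← map_mul, hPa f hfP, map_zero]
    have h1 : (X.presheaf.germ W y hyW).hom a₁ = 0 := hfy.mul_right_eq_zero.mp h0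
    have e1 := TopCat.Presheaf.germ_res_apply X.presheaf
      (homOfLE (inf_le_left : W ⊓ V ≤ W)) y hy a₁
    have e2 : (X.presheaf.germ (W ⊓ V) y hy).hom 0 = 0 := map_zero _
    exact (e1.trans h1).trans e2.symm
  have hsup : (⊤ : X.Opens) = W ⊔ V := by
    refine le_antisymm ?_ le_top
    intro z _
    rw [TopologicalSpace.Opens.mem_sup]
    by_cases hz : z = x
    · left; rw [hz]; exact hxW'
    · right; exact hz
  obtain ⟨t, ht1, ht2⟩ := exists_glue_two X W V ⊤ hsup le_top le_top a₁ 0
    (hres.trans (map_zero _).symm)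
  rcases hF t with h | h
  · have ha₁0 : a₁ = 0 := by rw [← ht1, h, map_zero]
    have h2 : algebraMap Γ(X, W) (X.presheaf.stalk x) s *
        algebraMap Γ(X, W) (X.presheaf.stalk x) a' = 0 := by
      rw [← map_mul, ← ha₁, ha₁0, map_zero]
    have hsu : IsUnit (algebraMap Γ(X, W) (X.presheaf.stalk x) s) :=
      IsLocalization.map_units _ (⟨s, hsP⟩ : P.primeCompl)
    have h3 : algebraMap Γ(X, W) (X.presheaf.stalk x) a' = 0 := hsu.mul_right_eq_zero.mp h2
    rw [h3] at hspec
    exact hs₀.mul_left_eq_zero.mp hspec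
  · exfalso
    obtain ⟨y, hyx⟩ := hy
    have hu : IsUnit (0 : Γ(X, V)) := by rw [← ht2]; exact h.map _
    have h10 : (1 : Γ(X, V)) = 0 := (isUnit_zero_iff.mp hu).symm
    have hV := opens_eq_bot_of_one_eq_zero X V h10
    have hyV : y ∈ V := hyx
    rw [hV] at hyV
    exact TopologicalSpace.Opens.mem_bot.mp hyV

theorem one_le_dim_component (T : Type u) [TopologicalSpace T] [T0Space T]
    [TopologicalSpace.NoetherianSpace T] [PreconnectedSpace T] (hns : ¬ Subsingleton T)
    (Z : Set T) (hZ : Z ∈ irreducibleComponents T) : 1 ≤ topologicalKrullDim Z := by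
  have hnotsub : ¬ Z.Subsingleton := by
    intro hsub
    obtain ⟨o, ho, ⟨z, hz⟩, hoZ⟩ :=
      TopologicalSpace.NoetherianSpace.exists_isOpen_nonempty_subset_irreducibleComponent Z hZ
    have hoeq : o = Z := by
      refine Set.Subset.antisymm hoZ (fun w hw => ?_)
      rw [hsub hw (hoZ hz)]
      exact hz
    have hclopen : IsClopen Z := ⟨isClosed_of_mem_irreducibleComponents Z hZ, hoeq ▸ ho⟩
    rcases isClopen_iff.mp hclopen with h | h
    · exact hZ.1.nonempty.ne_empty h
    · refine hns ⟨fun p q => hsub ?_ ?_⟩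
      · rw [h]; exact Set.mem_univ p
      · rw [h]; exact Set.mem_univ q
  obtain ⟨z₁, hz₁, z₂, hz₂, hne⟩ : ∃ z₁ ∈ Z, ∃ z₂ ∈ Z, z₁ ≠ z₂ := by
    by_contra hcon
    push Not at hcon
    exact hnotsub (fun a ha b hb => hcon a ha b hb)
  haveI : IrreducibleSpace Z := Subtype.irreducibleSpace hZ.1
  let p₁ : Z := ⟨z₁, hz₁⟩
  let p₂ : Z := ⟨z₂, hz₂⟩
  have hp : p₁ ≠ p₂ := fun h => hne (congrArg Subtype.val h)
  have hex : ∃ p : Z, closure ({p} : Set Z) ≠ Set.univ := by
    by_contra hcon
    push Not at hcon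
    have h12 : p₁ ⤳ p₂ := specializes_iff_mem_closure.mpr (by rw [hcon p₁]; exact Set.mem_univ _)
    have h21 : p₂ ⤳ p₁ := specializes_iff_mem_closure.mpr (by rw [hcon p₂]; exact Set.mem_univ _)
    exact hp (h12.antisymm h21).eq
  obtain ⟨p, hpne⟩ := hex
  unfold topologicalKrullDim
  rw [Order.one_le_krullDim_iff]
  refine ⟨⟨closure {p}, isIrreducible_singleton.closure, isClosed_closure⟩,
    ⟨Set.univ, IrreducibleSpace.isIrreducible_univ Z, isClosed_univ⟩, ?_⟩
  refine lt_of_le_of_ne (fun w _ => Set.mem_univ w) (fun h => hpne ?_)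
  exact congrArg (fun C : TopologicalSpace.IrreducibleCloseds Z => (C : Set Z)) h

/-- A proper scheme of dimension one over a field k whose global functions are k is connected, all of
its local rings are Cohen–Macaulay, and every irreducible component has dimension one. -/
theorem result (k : Type u) [Field k] (X : Scheme.{u}) [X.Over (Spec (CommRingCat.of k))]
    [IsProper (X ↘ (Spec (CommRingCat.of k)))] (hdim : topologicalKrullDim X = 1) (h0 : Module.finrank k (Coh.HH X (Coh.structureModule X) 0) = 1) :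
    ConnectedSpace X ∧ (∀ x : X, LocCoh.IsCohenMacaulayLocalRing (X.presheaf.stalk x)) ∧
      ∀ Z ∈ irreducibleComponents (X : Type u), topologicalKrullDim Z = 1 := by
  haveI : IsLocallyNoetherian X :=
    LocallyOfFiniteType.isLocallyNoetherian (X ↘ (Spec (CommRingCat.of k)))
  haveI : CompactSpace X :=
    QuasiCompact.compactSpace_of_compactSpace (X ↘ (Spec (CommRingCat.of k)))
  haveI : IsNoetherian X := { toIsLocallyNoetherian := inferInstance, toCompactSpace := inferInstance }
  have hF := zero_or_isUnit k X h0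
  haveI : Nonempty X := nonempty_of_dim X hdim
  have hnotsub : ¬ Subsingleton X := not_subsingleton_of_dim X hdim
  haveI hconn : ConnectedSpace X := connected_of_F X hF
  refine ⟨hconn, ?_, ?_⟩
  · intro x
    have hy : ∃ y : X, y ≠ x := by
      by_contra hall
      push Not at hall
      exact hnotsub ⟨fun p q => (hall p).trans (hall q).symm⟩
    apply isCM_of_dim_le_one
    · rw [← hdim]
      exact Groth.Agent.H9.FibDim.ringKrullDim_stalk_le X x
    · intro h1 hmem
      have hcl := isClosed_singleton_of_dim X hdim x h1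
      obtain ⟨hprime, a, ha⟩ := (isAssociatedPrime_iff).mp hmem
      have hkill : ∀ t ∈ IsLocalRing.maximalIdeal (X.presheaf.stalk x), t * a = 0 := by
        intro t ht
        rw [ha, Submodule.mem_colon_singleton] at ht
        simpa using ht
      have ha0 : a = 0 := stalk_eq_zero_of_maximalIdeal_mul X hF x hcl hy a hkill
      have h1m : (1 : X.presheaf.stalk x) ∈ IsLocalRing.maximalIdeal (X.presheaf.stalk x) := by
        rw [ha, Submodule.mem_colon_singleton, ha0, smul_zero]
        exact Submodule.zero_mem _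
      exact (IsLocalRing.maximalIdeal.isMaximal _).ne_top ((Ideal.eq_top_iff_one _).mpr h1m)
  · intro Z hZ
    refine le_antisymm ?_ (one_le_dim_component X hnotsub Z hZ)
    rw [← hdim]
    exact topologicalKrullDim_subspace_le X Z

end Groth.Agent.S1534
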