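import Groth.Statements.S15345
import Groth.Agent.H73.ReflSpec

set_option autoImplicit false
universe u
open CategoryTheory CategoryTheory.Limits AlgebraicGeometry
open Mor

namespace Groth.Agent.S15345

/-- Let f : Y ⟶ X be a morphism of schemes, X quasi-separated. If for every morphism X' ⟶ X locally of
finite type the projection Y ×_X X' ⟶ X' reflects specializations (the image of y₁ specializing to
the image of y₀ forces y₁ to specialize to y₀), then the same holds for every morphism X' ⟶ X. (The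
published statement assumes moreover that f is a monomorphism; this row does not.) -/
theorem result {X Y : Scheme.{u}} [QuasiSeparatedSpace ↥X]
    (f : Y ⟶ X)
    (h : ∀ (X' : Scheme.{u}) (g : X' ⟶ X) [LocallyOfFiniteType g] (y₀ y₁ : ↥(pullback f g)),
      (pullback.snd f g).base y₁ ⤳ (pullback.snd f g).base y₀ → y₁ ⤳ y₀) :
    ∀ (X' : Scheme.{u}) (g : X' ⟶ X) (y₀ y₁ : ↥(pullback f g)),
        (pullback.snd f g).base y₁ ⤳ (pullback.snd f g).base y₀ → y₁ ⤳ y₀ := by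
  classical
  intro X' g y₀ y₁ hsp
  have hR : Groth.Agent.H73.ReflSpec.ReflectsLFT f := fun X'' g'' _ a b hab => h X'' g'' a b hab
  -- affine opens
  have hcond : ∀ y : ↥(pullback f g), f (pullback.fst f g y) = g (pullback.snd f g y) := fun y => by
    rw [← Scheme.Hom.comp_apply, ← Scheme.Hom.comp_apply, pullback.condition]
  obtain ⟨_, ⟨U, hU, rfl⟩, hxU, -⟩ := X.isBasis_affineOpens.exists_subset_of_mem_open
    (Set.mem_univ (g (pullback.snd f g y₀))) isOpen_univ
  obtain ⟨_, ⟨V', hV', rfl⟩, hxV', hV'U⟩ := X'.isBasis_affineOpens.exists_subset_of_mem_open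
    (show pullback.snd f g y₀ ∈ g ⁻¹ᵁ U from hxU) (g ⁻¹ᵁ U).2
  obtain ⟨_, ⟨V, hV, rfl⟩, hxV, hVU⟩ := Y.isBasis_affineOpens.exists_subset_of_mem_open
    (show pullback.fst f g y₀ ∈ f ⁻¹ᵁ U from by
      change f (pullback.fst f g y₀) ∈ U; rw [hcond]; exact hxU) (f ⁻¹ᵁ U).2
  have hx₁V' : pullback.snd f g y₁ ∈ V' := hsp.mem_open V'.2 hxV'
  letI algC : Algebra Γ(X, U) Γ(Y, V) := (f.appLE U V hVU).hom.toAlgebra
  letI algB : Algebra Γ(X, U) Γ(X', V') := (g.appLE U V' hV'U).hom.toAlgebra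
  let iU : Spec (.of Γ(X, U)) ⟶ X := hU.fromSpec
  let iV : Spec (.of Γ(Y, V)) ⟶ Y := hV.fromSpec
  let iV' : Spec (.of Γ(X', V')) ⟶ X' := hV'.fromSpec
  haveI : IsOpenImmersion iU := hU.isOpenImmersion_fromSpec
  haveI : IsOpenImmersion iV := hV.isOpenImmersion_fromSpec
  haveI : IsOpenImmersion iV' := hV'.isOpenImmersion_fromSpec
  have e₁ : Spec.map (CommRingCat.ofHom (algebraMap Γ(X, U) Γ(Y, V))) ≫ iU = iV ≫ f :=
    IsAffineOpen.SpecMap_appLE_fromSpec f hU hV hVU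
  have e₂ : Spec.map (CommRingCat.ofHom (algebraMap Γ(X, U) Γ(X', V'))) ≫ iU = iV' ≫ g :=
    IsAffineOpen.SpecMap_appLE_fromSpec g hU hV' hV'U
  have hrU : Set.range iU = U := hU.range_fromSpec
  have hrV : Set.range iV = V := hV.range_fromSpec
  have hrV' : Set.range iV' = V' := hV'.range_fromSpec
  -- step (i): `fst y₁ ∈ V`
  have hx₁V : pullback.fst f g y₁ ∈ V := by
    have hu₀ : g (pullback.snd f g y₀) ∈ Set.range iU := by rw [hrU]; exact hxU
    have hu₁ : g (pullback.snd f g y₁) ∈ Set.range iU := by rw [hrU]; exact hV'U hx₁V'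
    obtain ⟨u₀, hu₀⟩ := hu₀
    obtain ⟨u₁, hu₁⟩ := hu₁
    have hu : u₁ ⤳ u₀ := by
      rw [← iU.isOpenEmbedding.isInducing.specializes_iff, hu₀, hu₁]
      exact hsp.map g.continuous
    obtain ⟨w₀, hw₀, hw₀'⟩ := Scheme.Pullback.exists_preimage_pullback (f := f) (g := iU)
      (pullback.fst f g y₀) u₀ (by rw [hcond, hu₀])
    obtain ⟨w₁, hw₁, hw₁'⟩ := Scheme.Pullback.exists_preimage_pullback (f := f) (g := iU)
      (pullback.fst f g y₁) u₁ (by rw [hcond, hu₁])
    have hw : w₁ ⤳ w₀ := h _ iU w₀ w₁ (by rw [hw₀', hw₁']; exact hu)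
    have := hw.map (pullback.fst f iU).continuous
    rw [hw₀, hw₁] at this
    exact this.mem_open V.2 hxV
  -- the open immersion `J`
  let J := pullback.map (Spec.map (CommRingCat.ofHom (algebraMap Γ(X, U) Γ(Y, V))))
    (Spec.map (CommRingCat.ofHom (algebraMap Γ(X, U) Γ(X', V')))) f g iV iV' iU e₁ e₂
  have hrJ : ∀ y : ↥(pullback f g), pullback.fst f g y ∈ V → pullback.snd f g y ∈ V' →
      y ∈ Set.range J := by
    intro y h1 h2
    rw [Scheme.Pullback.range_map]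
    exact ⟨by rw [hrV]; exact h1, by rw [hrV']; exact h2⟩
  obtain ⟨z₀, hz₀⟩ := hrJ y₀ hxV hxV'
  obtain ⟨z₁, hz₁⟩ := hrJ y₁ hx₁V hx₁V'
  have hJsnd : ∀ z, iV' ((pullback.snd (Spec.map (CommRingCat.ofHom (algebraMap Γ(X, U) Γ(Y, V))))
      (Spec.map (CommRingCat.ofHom (algebraMap Γ(X, U) Γ(X', V'))))) z) =
      pullback.snd f g (J z) := by
    intro z
    rw [← Scheme.Hom.comp_apply, ← Scheme.Hom.comp_apply]
    congr 2
    simp only [J, pullback.lift_snd]
  have hz : (pullback.snd (Spec.map (CommRingCat.ofHom (algebraMap Γ(X, U) Γ(Y, V))))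
      (Spec.map (CommRingCat.ofHom (algebraMap Γ(X, U) Γ(X', V'))))) z₁ ⤳
      (pullback.snd (Spec.map (CommRingCat.ofHom (algebraMap Γ(X, U) Γ(Y, V))))
      (Spec.map (CommRingCat.ofHom (algebraMap Γ(X, U) Γ(X', V'))))) z₀ := by
    rw [← iV'.isOpenEmbedding.isInducing.specializes_iff, hJsnd, hJsnd, hz₀, hz₁]
    exact hsp
  have hzz := Groth.Agent.H73.ReflSpec.specializes_of_reflectsLFT f hR Γ(X, U) Γ(Y, V) Γ(X', V')
    iU iV e₁ z₀ z₁ hz
  rw [← hz₀, ← hz₁]
  exact hzz.map J.continuous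

end Groth.Agent.S15345
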