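import Groth.Statements.S15346
import Groth.Agent.S15345
import Groth.Agent.S4450
import Groth.Agent.H73.MonoQC

set_option autoImplicit false
universe u
open CategoryTheory CategoryTheory.Limits AlgebraicGeometry
open Mor

namespace Groth.Agent.S15346

open IsLocalRing in
theorem exists_field_lift {X Y : Scheme.{u}} (f : Y ⟶ X) [Mono f] (K : Type u) [Field K]
    (s : Spec (CommRingCat.of K) ⟶ X) (y : Y) (h : f y = s (closedPoint K)) :
    ∃ l : Spec (CommRingCat.of K) ⟶ Y, l ≫ f = s := by
  have hiso : IsIso (f.residueFieldMap y) := by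
    rw [ConcreteCategory.isIso_iff_bijective]
    exact ⟨(f.residueFieldMap y).hom.injective, Groth.Agent.S15344.residueFieldMap_surjective f y⟩
  let ρ : Y.residueField y ⟶ CommRingCat.of K :=
    inv (f.residueFieldMap y) ≫ (X.residueFieldCongr h).hom ≫
      Scheme.descResidueField (Scheme.stalkClosedPointTo s)
  refine ⟨Spec.map ρ ≫ Y.fromSpecResidueField y, ?_⟩
  rw [Category.assoc, ← Scheme.Hom.SpecMap_residueFieldMap_fromSpecResidueField,
    ← Spec.map_comp_assoc]
  have e : f.residueFieldMap y ≫ ρ = (X.residueFieldCongr h).hom ≫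
      Scheme.descResidueField (Scheme.stalkClosedPointTo s) := by
    simp only [ρ, IsIso.hom_inv_id_assoc]
  rw [e, Spec.map_comp_assoc, Scheme.residueFieldCongr_fromSpecResidueField,
    Scheme.descResidueField_stalkClosedPointTo_fromSpecResidueField]


/-- Let X be a locally Noetherian scheme and f : Y ⟶ X a monomorphism. Suppose that for every discrete
valuation ring A with fraction field K and every commutative square Spec K ⟶ Y, Spec A ⟶ X over f
such that some morphism from the spectrum of the residue field of A to Y lies over Spec A ⟶ X, the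
square admits a lift Spec A ⟶ Y. Then after every base change X' ⟶ X the projection Y ×_X X' ⟶ X'
reflects specializations. -/
theorem result {X Y : Scheme.{u}} [IsLocallyNoetherian X]
    (f : Y ⟶ X) [Mono f]
    (h : ∀ S : ValuativeCommSq f, IsDiscreteValuationRing S.R →
        (∃ l₀ : Spec (CommRingCat.of (IsLocalRing.ResidueField S.R)) ⟶ Y,
            l₀ ≫ f = Spec.map (CommRingCat.ofHom (IsLocalRing.residue S.R)) ≫ S.i₂) →
          S.commSq.HasLift) :
    ∀ (X' : Scheme.{u}) (g : X' ⟶ X) (y₀ y₁ : ↥(pullback f g)),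
        (pullback.snd f g).base y₁ ⤳ (pullback.snd f g).base y₀ → y₁ ⤳ y₀ := by
  haveI : QuasiSeparatedSpace ↥X := inferInstance
  apply Groth.Agent.S15345.result f
  intro X' g _ y₀ y₁ hsp
  haveI : IsLocallyNoetherian X' := LocallyOfFiniteType.isLocallyNoetherian g
  let P := pullback f g
  let p : P ⟶ X' := pullback.snd f g
  let q : P ⟶ Y := pullback.fst f g
  by_cases hne : p y₀ = p y₁
  · have : y₀ = y₁ := p.injective hne
    rw [this]
  -- DVR dominating
  obtain ⟨A, hA, hDVR, hcl, hcomm⟩ :=
    Groth.Agent.S4450.result (𝟙 X') (p y₁) (p y₀) hsp hne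
  rw [Category.comp_id] at hcomm
  -- generic lift
  obtain ⟨l₁, hl₁⟩ := exists_field_lift p (X'.residueField (p y₁))
    (X'.fromSpecResidueField (p y₁)) y₁
    (Scheme.fromSpecResidueField_apply (p y₁) _).symm
  let i₁ : Spec (.of (X'.residueField (p y₁))) ⟶ Y := l₁ ≫ q
  let i₂ : Spec (.of A) ⟶ X := hA ≫ g
  have sq : CommSq i₁ (Spec.map (CommRingCat.ofHom (algebraMap A (X'.residueField (p y₁))))) f i₂ := by
    constructor
    show (l₁ ≫ q) ≫ f = _ ≫ (hA ≫ g)
    rw [Category.assoc, pullback.condition, ← Category.assoc, hl₁, ← Category.assoc]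
    congr 1
    exact hcomm.symm
  let S : ValuativeCommSq f :=
    { R := A, K := X'.residueField (p y₁), i₁ := i₁, i₂ := i₂, commSq := sq }
  -- residue lift
  obtain ⟨l₀, hl₀⟩ := exists_field_lift f (IsLocalRing.ResidueField A)
    (Spec.map (CommRingCat.ofHom (IsLocalRing.residue A)) ≫ i₂) (q y₀) (by
      let pt0 : ↥(Spec (CommRingCat.of (IsLocalRing.ResidueField A))) :=
        IsLocalRing.closedPoint (IsLocalRing.ResidueField A)
      let ptA : ↥(Spec (CommRingCat.of A)) := IsLocalRing.closedPoint A
      show f (q y₀) = (Spec.map (CommRingCat.ofHom (IsLocalRing.residue A)) ≫ i₂) pt0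
      rw [Scheme.Hom.comp_apply]
      have h3 : Spec.map (CommRingCat.ofHom (IsLocalRing.residue A)) pt0 = ptA :=
        IsLocalRing.comap_closedPoint (IsLocalRing.residue A)
      rw [h3]
      show f (q y₀) = (hA ≫ g) ptA
      rw [Scheme.Hom.comp_apply]
      have hcl' : hA ptA = p y₀ := hcl
      rw [hcl', ← Scheme.Hom.comp_apply, ← Scheme.Hom.comp_apply]
      exact congrArg (fun φ : P ⟶ X => φ y₀) pullback.condition)
  obtain ⟨⟨l, fac_left, fac_right⟩⟩ := (h S hDVR ⟨l₀, hl₀⟩).exists_lift
  change Spec.map (CommRingCat.ofHom (algebraMap A (X'.residueField (p y₁)))) ≫ l = i₁ at fac_left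
  change l ≫ f = i₂ at fac_right
  let l' : Spec (.of A) ⟶ P := pullback.lift l hA fac_right
  have hl'1 : Spec.map (CommRingCat.ofHom (algebraMap A (X'.residueField (p y₁)))) ≫ l' = l₁ := by
    apply pullback.hom_ext
    · rw [Category.assoc, pullback.lift_fst, fac_left]
    · rw [Category.assoc, pullback.lift_snd]
      exact hcomm.trans hl₁.symm
  let ptK : ↥(Spec (CommRingCat.of (X'.residueField (p y₁)))) := IsLocalRing.closedPoint (X'.residueField (p y₁))
  let ptA : ↥(Spec (CommRingCat.of A)) := IsLocalRing.closedPoint A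
  have e1 : l' (Spec.map (CommRingCat.ofHom (algebraMap A (X'.residueField (p y₁)))) ptK) = y₁ := by
    rw [← Scheme.Hom.comp_apply, hl'1]
    apply p.injective
    rw [← Scheme.Hom.comp_apply, hl₁]
    exact Scheme.fromSpecResidueField_apply (p y₁) ptK
  have e2 : l' ptA = y₀ := by
    apply p.injective
    have h1 : p (l' ptA) = (l' ≫ p) ptA := (Scheme.Hom.comp_apply l' p ptA).symm
    have h2 : l' ≫ p = hA := pullback.lift_snd _ _ _
    rw [h1, h2]
    exact hcl
  rw [← e1, ← e2]
  exact (IsLocalRing.specializes_closedPoint _).map l'.continuous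

end Groth.Agent.S15346
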