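import Groth.Statements.S15347
import Groth.Agent.S15344

set_option autoImplicit false
universe u
open CategoryTheory CategoryTheory.Limits AlgebraicGeometry
open Mor

namespace Groth.Agent.S15347

/-- Let f : Y ⟶ X be an immersion of schemes. Then: for every valuation ring A with fraction field K and
every commutative square Spec K ⟶ Y, Spec A ⟶ X over f such that some morphism from the spectrum of
the residue field of A to Y lies over Spec A ⟶ X, the square admits a lift; and for every integral
domain A and every morphism s : Spec A ⟶ X such that the points of a dense subset of Spec A lift to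
Y (the residue field of each such point maps to Y over s), there is a nonempty open subscheme U of
Spec A with a morphism U ⟶ Y over s. (The published statement is for a representable, locally
finitely presented morphism of algebraic stacks with locally Noetherian target and a quasi-compact
immersion, and also lists that f is a monomorphism; this row is the case of schemes, for any
immersion and any target.) -/
theorem result {X Y : Scheme.{u}} (f : Y ⟶ X) [IsImmersion f] :
    (∀ S : ValuativeCommSq f,
        (∃ l₀ : Spec (CommRingCat.of (IsLocalRing.ResidueField S.R)) ⟶ Y,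
            l₀ ≫ f = Spec.map (CommRingCat.ofHom (IsLocalRing.residue S.R)) ≫ S.i₂) →
          S.commSq.HasLift) ∧
      ∀ (A : Type u) [CommRing A] [IsDomain A] (s : Spec (CommRingCat.of A) ⟶ X) (D : Set ↥(Spec (CommRingCat.of A))),
        Dense D →
        (∀ p ∈ D, ∃ l : Spec ((Spec (CommRingCat.of A)).residueField p) ⟶ Y,
            l ≫ f = (Spec (CommRingCat.of A)).fromSpecResidueField p ≫ s) →
          ∃ U : (Spec (CommRingCat.of A)).Opens, (U : Set ↥(Spec (CommRingCat.of A))).Nonempty ∧
            ∃ l : (U : Scheme.{u}) ⟶ Y, l ≫ f = U.ι ≫ s := by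
  haveI : Mono f := inferInstance
  refine ⟨?_, ?_⟩
  · rintro S ⟨l₀, hl₀⟩
    refine Groth.Agent.S15344.lift_of_reflects f ?_ S l₀ hl₀
    intro X' g y₀ y₁ hsp
    haveI : IsImmersion (pullback.snd f g) := inferInstance
    exact (pullback.snd f g).isEmbedding.isInducing.specializes_iff.mp hsp
  · intro A _ _ s D hD hlift
    let p : pullback f s ⟶ Spec (CommRingCat.of A) := pullback.snd f s
    haveI : IsImmersion p := inferInstanceAs (IsImmersion (pullback.snd f s))
    have hDp : D ⊆ Set.range p := by
      intro d hd
      obtain ⟨l, hl⟩ := hlift d hd
      let l' : Spec ((Spec (CommRingCat.of A)).residueField d) ⟶ pullback f s :=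
        pullback.lift l ((Spec (CommRingCat.of A)).fromSpecResidueField d) hl
      let pt : ↥(Spec ((Spec (CommRingCat.of A)).residueField d)) :=
        IsLocalRing.closedPoint ((Spec (CommRingCat.of A)).residueField d)
      refine ⟨l' pt, ?_⟩
      rw [← Scheme.Hom.comp_apply]
      have : l' ≫ p = (Spec (CommRingCat.of A)).fromSpecResidueField d := pullback.lift_snd _ _ _
      rw [this]
      exact Scheme.fromSpecResidueField_apply d pt
    have hdense : Dense (Set.range p) := hD.mono hDp
    let U : (Spec (CommRingCat.of A)).Opens := p.coborderRange
    have hι : p.liftCoborder ≫ U.ι = p := p.liftCoborder_ι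
    have hιw : ∀ w, U.ι (p.liftCoborder w) = p w := fun w =>
      congrArg (fun φ : pullback f s ⟶ Spec (CommRingCat.of A) => φ w) hι
    haveI : Surjective p.liftCoborder := by
      constructor
      have hcl : IsClosed (Set.range p.liftCoborder) := p.liftCoborder.isClosedEmbedding.isClosed_range
      have hd : Dense (Set.range p.liftCoborder) := by
        intro u
        rw [mem_closure_iff]
        intro o ho huo
        have ho' : IsOpen (U.ι '' o) := U.ι.isOpenEmbedding.isOpenMap _ ho
        obtain ⟨z, ⟨u', hu'o, hu'z⟩, ⟨w, hw⟩⟩ :=
          hdense.inter_open_nonempty _ ho' ⟨U.ι u, u, huo, rfl⟩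
        refine ⟨u', hu'o, w, ?_⟩
        apply U.ι.isOpenEmbedding.injective
        rw [hu'z, ← hw, hιw]
      rw [← Set.range_eq_univ, ← hcl.closure_eq]
      exact hd.closure_eq
    haveI : IsIntegral (Spec (CommRingCat.of A)) := inferInstance
    haveI : IsReduced (U : Scheme.{u}) := inferInstance
    haveI : IsIso p.liftCoborder := isIso_of_isClosedImmersion_of_surjective p.liftCoborder
    refine ⟨U, ?_, inv p.liftCoborder ≫ pullback.fst f s, ?_⟩
    · haveI : Nonempty ↥(Spec (CommRingCat.of A)) := inferInstance
      obtain ⟨d, hd⟩ := hD.nonempty
      obtain ⟨w, hw⟩ := hDp hd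
      refine ⟨d, ?_⟩
      rw [← hw, ← hιw]
      exact (p.liftCoborder w).2
    · rw [Category.assoc, pullback.condition, ← Category.assoc]
      congr 1
      rw [IsIso.inv_comp_eq]
      exact hι.symm

end Groth.Agent.S15347
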