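import Groth.Statements.S15348
import Groth.Agent.S15349
import Groth.Agent.S15346
import Groth.Agent.H73.ChainVal
import Groth.Agent.H73.LocClosed

set_option autoImplicit false
universe u
open CategoryTheory CategoryTheory.Limits AlgebraicGeometry
open Mor

namespace Groth.Agent.S15348

/-- Let X be a locally Noetherian scheme and f : Y ⟶ X a monomorphism locally of finite presentation.
Assume: for every discrete valuation ring A with fraction field K and every commutative square Spec
K ⟶ Y, Spec A ⟶ X over f such that some morphism from the spectrum of the residue field of A to Y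
lies over Spec A ⟶ X, the square admits a lift; and for every integral domain A and every morphism s
: Spec A ⟶ X such that the points of a dense subset of Spec A lift to Y (the residue field of each
such point maps to Y over s), some nonempty open subscheme of Spec A maps to Y over s. Then f is an
immersion (f is then also quasi-compact; that is not part of this statement). (The published
statement is for a representable morphism of algebraic stacks; this row is the case of schemes.) -/
theorem result {X Y : Scheme.{u}} [IsLocallyNoetherian X]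
    (f : Y ⟶ X) [LocallyOfFinitePresentation f] [Mono f]
    (hb : ∀ S : ValuativeCommSq f, IsDiscreteValuationRing S.R →
        (∃ l₀ : Spec (CommRingCat.of (IsLocalRing.ResidueField S.R)) ⟶ Y,
            l₀ ≫ f = Spec.map (CommRingCat.ofHom (IsLocalRing.residue S.R)) ≫ S.i₂) →
          S.commSq.HasLift)
    (hc : ∀ (A : Type u) [CommRing A] [IsDomain A] (s : Spec (CommRingCat.of A) ⟶ X) (D : Set ↥(Spec (CommRingCat.of A))),
        Dense D →
        (∀ p ∈ D, ∃ l : Spec ((Spec (CommRingCat.of A)).residueField p) ⟶ Y,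
            l ≫ f = (Spec (CommRingCat.of A)).fromSpecResidueField p ≫ s) →
          ∃ U : (Spec (CommRingCat.of A)).Opens, (U : Set ↥(Spec (CommRingCat.of A))).Nonempty ∧
            ∃ l : (U : Scheme.{u}) ⟶ Y, l ≫ f = U.ι ≫ s) :
    IsImmersion f := by
  haveI : QuasiCompact f := Groth.Agent.S15349.result f hc
  have hrefl := Groth.Agent.S15346.result f hb
  have hb' : ∀ S : ValuativeCommSq f,
      (∃ l₀ : Spec (CommRingCat.of (IsLocalRing.ResidueField S.R)) ⟶ Y,
          l₀ ≫ f = Spec.map (CommRingCat.ofHom (IsLocalRing.residue S.R)) ≫ S.i₂) →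
        S.commSq.HasLift :=
    fun S ⟨l₀, hl₀⟩ => Groth.Agent.S15344.lift_of_reflects f hrefl S l₀ hl₀
  let E : Set X := Set.range f
  have hEc : Topology.IsLocallyConstructible E := by
    have := f.isLocallyConstructible_image (s := Set.univ) Topology.IsLocallyConstructible.univ
    rwa [Set.image_univ] at this
  -- residue lifts at closed points mapping into `E`
  have hres : ∀ (R : Type u) [CommRing R] [IsLocalRing R] (s : Spec (CommRingCat.of R) ⟶ X) (y : Y),
      f y = s (IsLocalRing.closedPoint R) →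
      ∃ l₀ : Spec (CommRingCat.of (IsLocalRing.ResidueField R)) ⟶ Y,
        l₀ ≫ f = Spec.map (CommRingCat.ofHom (IsLocalRing.residue R)) ≫ s := by
    intro R _ _ s y hy
    apply Groth.Agent.S15346.exists_field_lift f (IsLocalRing.ResidueField R)
      (Spec.map (CommRingCat.ofHom (IsLocalRing.residue R)) ≫ s) y
    let pt0 : ↥(Spec (CommRingCat.of (IsLocalRing.ResidueField R))) :=
      IsLocalRing.closedPoint (IsLocalRing.ResidueField R)
    let ptR : ↥(Spec (CommRingCat.of R)) := IsLocalRing.closedPoint R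
    show f y = (Spec.map (CommRingCat.ofHom (IsLocalRing.residue R)) ≫ s) pt0
    rw [Scheme.Hom.comp_apply]
    have h3 : Spec.map (CommRingCat.ofHom (IsLocalRing.residue R)) pt0 = ptR :=
      IsLocalRing.comap_closedPoint (IsLocalRing.residue R)
    rw [h3]
    exact hy
  have hgen : ∀ e x' x : X, e ∈ E → x ∈ E → e ⤳ x' → x' ⤳ x → x' ∈ E := by
    rintro _ x' _ ⟨ye, rfl⟩ ⟨y, rfl⟩ h₁ h₂
    obtain ⟨V, h, hgen, hcl, q, hq⟩ :=
      Groth.Agent.H73.ChainVal.exists_valuationSubring_chain h₁ h₂
    obtain ⟨l₁, hl₁⟩ := Groth.Agent.S15346.exists_field_lift f (X.residueField (f ye))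
      (X.fromSpecResidueField (f ye)) ye (Scheme.fromSpecResidueField_apply (f ye) _).symm
    have sq : CommSq l₁ (Spec.map (CommRingCat.ofHom (algebraMap V (X.residueField (f ye))))) f h :=
      ⟨by rw [hl₁]; exact hgen.symm⟩
    let S : ValuativeCommSq f :=
      { R := V, K := X.residueField (f ye), i₁ := l₁, i₂ := h, commSq := sq }
    obtain ⟨l₀, hl₀⟩ := hres V h y hcl.symm
    obtain ⟨⟨l, fac_left, fac_right⟩⟩ := (hb' S ⟨l₀, hl₀⟩).exists_lift
    change l ≫ f = h at fac_right
    refine ⟨l q, ?_⟩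
    rw [← Scheme.Hom.comp_apply, fac_right, hq]
  have hF : IsClosed (closure E \ E) := Groth.Agent.H73.LocClosed.isClosed_closure_diff hEc hgen
  let Vo : X.Opens := ⟨(closure E \ E)ᶜ, hF.isOpen_compl⟩
  have hV : Set.range f ⊆ Vo := fun x hx hxF => hxF.2 hx
  let f' : Y ⟶ Vo := IsOpenImmersion.lift Vo.ι f (by rw [Scheme.Opens.range_ι]; exact hV)
  have hf' : f' ≫ Vo.ι = f := IsOpenImmersion.lift_fac _ _ _
  haveI : Mono f' := mono_of_mono_fac hf'
  haveI : QuasiCompact (f' ≫ Vo.ι) := by rw [hf']; infer_instance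
  haveI : QuasiCompact f' := QuasiCompact.of_comp f' Vo.ι
  haveI : LocallyOfFiniteType (f' ≫ Vo.ι) := by rw [hf']; infer_instance
  haveI : LocallyOfFiniteType f' := locallyOfFiniteType_of_comp f' Vo.ι
  have hex : ValuativeCriterion.Existence f' := by
    intro S
    have sq' : CommSq S.i₁ (Spec.map (CommRingCat.ofHom (algebraMap S.R S.K))) f (S.i₂ ≫ Vo.ι) :=
      ⟨by rw [← hf', ← Category.assoc, S.commSq.w, Category.assoc]⟩
    let S' : ValuativeCommSq f :=
      { R := S.R, K := S.K, i₁ := S.i₁, i₂ := S.i₂ ≫ Vo.ι, commSq := sq' }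
    let ptK : ↥(Spec (CommRingCat.of S.K)) := IsLocalRing.closedPoint S.K
    let ptR : ↥(Spec (CommRingCat.of S.R)) := IsLocalRing.closedPoint S.R
    let g : ↥(Spec (CommRingCat.of S.R)) := Spec.map (CommRingCat.ofHom (algebraMap S.R S.K)) ptK
    have hg : (S.i₂ ≫ Vo.ι) g ∈ E := by
      refine ⟨S.i₁ ptK, ?_⟩
      rw [← Scheme.Hom.comp_apply, sq'.w, Scheme.Hom.comp_apply]
    have hsp : (S.i₂ ≫ Vo.ι) g ⤳ (S.i₂ ≫ Vo.ι) ptR :=
      (IsLocalRing.specializes_closedPoint g).map (S.i₂ ≫ Vo.ι).continuous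
    have hcl : (S.i₂ ≫ Vo.ι) ptR ∈ closure E :=
      hsp.mem_closed isClosed_closure (subset_closure hg)
    have hVo : (S.i₂ ≫ Vo.ι) ptR ∈ Vo := by
      rw [Scheme.Hom.comp_apply]
      exact (S.i₂ ptR).2
    have hE : (S.i₂ ≫ Vo.ι) ptR ∈ E := by
      by_contra hnE
      exact hVo ⟨hcl, hnE⟩
    obtain ⟨y, hy⟩ := hE
    obtain ⟨l₀, hl₀⟩ := hres S.R (S.i₂ ≫ Vo.ι) y hy
    obtain ⟨⟨l, fac_left, fac_right⟩⟩ := (hb' S' ⟨l₀, hl₀⟩).exists_lift
    change Spec.map (CommRingCat.ofHom (algebraMap S.R S.K)) ≫ l = S.i₁ at fac_left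
    change l ≫ f = S.i₂ ≫ Vo.ι at fac_right
    refine ⟨⟨{ l := l, fac_left := fac_left, fac_right := ?_ }⟩⟩
    rw [← cancel_mono Vo.ι, Category.assoc, hf', fac_right]
  haveI : UniversallyClosed f' := UniversallyClosed.of_valuativeCriterion f' hex
  haveI : IsProper f' := {}
  haveI : IsClosedImmersion f' :=
    (IsClosedImmersion.iff_isProper_and_mono f').mpr ⟨inferInstance, inferInstance⟩
  rw [← hf']
  infer_instance

end Groth.Agent.S15348
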