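import Groth.Statements.S15352
import Groth.Agent.H93.GrpAff
import Groth.Agent.H93.GrpOpen
import Groth.Agent.S0355

set_option autoImplicit false
universe u
open CategoryTheory CategoryTheory.Limits MonoidalCategory CartesianMonoidalCategory MonObj GrpObj AlgebraicGeometry
open GrpSch

namespace Groth.Agent.S15352

/-- Let k be an algebraically closed field, G a group scheme locally of finite type over k, G⁰ ⊆ G the
connected component of the unit point, and U a nonempty open subscheme of G contained in G⁰. Then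
every point of G⁰ is in the image of the morphism U ×_k U ⟶ G, (g, h) ↦ g·h⁻¹. (The published
statement writes U as an open of G mapping to G⁰ × G⁰; this row makes the containment U ⊆ G⁰
explicit.) -/
theorem result (k : Type u) [Field k] [IsAlgClosed k]
    (G : Over (Spec (CommRingCat.of k))) [GrpObj G] [LocallyOfFiniteType G.hom] (U : G.left.Opens)
    (hne : (U : Set ↥G.left).Nonempty)
    (hU : (U : Set ↥G.left) ⊆ connectedComponent (η[G].left.base (IsLocalRing.closedPoint k))) :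
    connectedComponent (η[G].left.base (IsLocalRing.closedPoint k)) ⊆ Set.range
      ((((Over.homMk U.ι rfl : Over.mk (U.ι ≫ G.hom) ⟶ G) ⊗ₘ
          ((Over.homMk U.ι rfl : Over.mk (U.ι ≫ G.hom) ⟶ G) ≫ ι[G])) ≫ μ[G]).left.base) := by
  classical
  intro g hg
  have hJ : JacobsonSpace G.left := LocallyOfFiniteType.jacobsonSpace G.hom
  obtain ⟨e, he⟩ : ∃ e : G.left, e = η[G].left (IsLocalRing.closedPoint k) := ⟨_, rfl⟩
  have hirr : IsIrreducible (connectedComponent e) := by
    rw [he]; exact (Groth.Agent.S0355.result k G).1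
  have hU' : (U : Set G.left) ⊆ connectedComponent e := by rw [he]; exact hU
  have hg' : g ∈ connectedComponent e := by rw [he]; exact hg
  have hisoι : IsIso ι[G] := ⟨⟨ι[G], GrpObj.inv_comp_inv G, GrpObj.inv_comp_inv G⟩⟩
  have hisoιl : IsIso ι[G].left := by
    show IsIso ((Over.forget _).map ι[G]); infer_instance
  have hBopen : IsOpen (⇑ι[G].left '' (U : Set G.left)) :=
    (ι[G].left).isOpenEmbedding.isOpenMap _ U.isOpen
  have hR := Groth.Agent.H93.GrpOpen.range_tensorHom_mul G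
    (Over.homMk U.ι rfl : Over.mk (U.ι ≫ G.hom) ⟶ G)
    ((Over.homMk U.ι rfl : Over.mk (U.ι ≫ G.hom) ⟶ G) ≫ ι[G])
  have h1 : Set.range ⇑(Over.homMk U.ι rfl : Over.mk (U.ι ≫ G.hom) ⟶ G).left =
      (U : Set G.left) := by
    show Set.range ⇑U.ι = (U : Set G.left)
    exact Scheme.Opens.range_ι U
  have h2 : Set.range ⇑((Over.homMk U.ι rfl : Over.mk (U.ι ≫ G.hom) ⟶ G) ≫ ι[G]).left =
      ⇑ι[G].left '' (U : Set G.left) := by
    rw [Over.comp_left, Groth.Agent.H93.GrpOpen.range_comp', h1]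
  rw [h1, h2] at hR
  obtain ⟨R, hRdef⟩ : ∃ R : Set G.left, R = Groth.Agent.H93.GrpOpen.mulSet G (U : Set G.left)
      (⇑ι[G].left '' (U : Set G.left)) := ⟨_, rfl⟩
  have hRopen : IsOpen R := by
    rw [hRdef]; exact Groth.Agent.H93.GrpOpen.isOpen_mulSet G U.isOpen hBopen
  suffices hgR : g ∈ R by
    rw [hRdef] at hgR
    have : g ∈ Set.range ⇑(((Over.homMk U.ι rfl : Over.mk (U.ι ≫ G.hom) ⟶ G) ⊗ₘ
          ((Over.homMk U.ι rfl : Over.mk (U.ι ≫ G.hom) ⟶ G) ≫ ι[G])) ≫ μ[G]).left := by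
      rw [hR]; exact hgR
    exact this
  -- closed point claim
  have claim : ∀ x : G.left, IsClosed ({x} : Set G.left) → x ∈ connectedComponent e → x ∈ R := by
    intro x hxcl hx
    obtain ⟨a, ha⟩ := Groth.Agent.H93.GrpAff.exists_rational G x hxcl
    obtain ⟨φ, hφ⟩ : ∃ φ : G ≅ G, ∀ y : 𝟙_ (Over (Spec (CommRingCat.of k))) ⟶ G,
        y ≫ φ.hom = a * y :=
      ⟨Groth.Agent.H93.GrpAff.mulLeftIso G a, Groth.Agent.H93.GrpAff.comp_mulLeftIso G a⟩
    have hφe : φ.hom.left e = x := by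
      have h3 : η[G] ≫ φ.hom = a := by
        rw [hφ, ← Groth.Agent.H93.GrpAff.one_eq_eta, _root_.mul_one]
      have h4 := Groth.Agent.H93.GrpAff.iso_pt G φ.hom η[G]
      rw [h3, ha] at h4
      rw [he]; exact h4
    have hfopen : IsOpenMap ⇑φ.hom.left := (φ.hom.left).isOpenEmbedding.isOpenMap
    have hVopen : IsOpen (⇑φ.hom.left '' (U : Set G.left)) := hfopen _ U.isOpen
    have hVsub : ⇑φ.hom.left '' (U : Set G.left) ⊆ connectedComponent e := by
      have h5 := (φ.hom.left).continuous.image_connectedComponent_subset e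
      rw [hφe, ← connectedComponent_eq hx] at h5
      exact (Set.image_mono hU').trans h5
    have hne1 : (connectedComponent e ∩ (U : Set G.left)).Nonempty := by
      obtain ⟨w, hw⟩ := hne; exact ⟨w, hU' hw, hw⟩
    have hne2 : (connectedComponent e ∩ ⇑φ.hom.left '' (U : Set G.left)).Nonempty := by
      obtain ⟨w, hw⟩ := hne; exact ⟨φ.hom.left w, hVsub ⟨w, hw, rfl⟩, ⟨w, hw, rfl⟩⟩
    obtain ⟨w, -, hw⟩ := hirr.2 _ _ U.isOpen hVopen hne1 hne2
    obtain ⟨y, hyW, hycl⟩ := nonempty_inter_closedPoints ⟨w, hw⟩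
      (U.isOpen.inter hVopen).isLocallyClosed
    obtain ⟨u, hu⟩ := Groth.Agent.H93.GrpAff.exists_rational G y hycl
    obtain ⟨z, hzU, hzy⟩ := hyW.2
    have hinv : u ≫ φ.inv = a⁻¹ * u := by
      rw [Iso.comp_inv_eq, hφ, _root_.mul_inv_cancel_left]
    have hz : Groth.Agent.H93.GrpAff.pt G (a⁻¹ * u) = z := by
      have h6 := Groth.Agent.H93.GrpAff.iso_pt G φ.inv u
      rw [hinv, hu, ← hzy] at h6
      rw [← h6, ← Scheme.Hom.comp_apply, ← Over.comp_left, Iso.hom_inv_id]
      rfl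
    have hau : u * (a⁻¹ * u)⁻¹ = a := by
      rw [_root_.mul_inv_rev, _root_.inv_inv, _root_.mul_inv_cancel_left]
    obtain ⟨v, hv⟩ : ∃ v : 𝟙_ (Over (Spec (CommRingCat.of k))) ⟶ G, v = a⁻¹ * u := ⟨_, rfl⟩
    rw [← hv] at hz hau
    rw [hRdef]
    refine ⟨(lift u (v ≫ ι[G])).left (IsLocalRing.closedPoint k), ⟨?_, ?_⟩, ?_⟩
    · show (fst G G).left ((lift u (v ≫ ι[G])).left (IsLocalRing.closedPoint k)) ∈ U
      rw [← Scheme.Hom.comp_apply, ← Over.comp_left, lift_fst]
      have : Groth.Agent.H93.GrpAff.pt G u ∈ U := by rw [hu]; exact hyW.1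
      exact this
    · show (snd G G).left ((lift u (v ≫ ι[G])).left (IsLocalRing.closedPoint k)) ∈
        ⇑ι[G].left '' (U : Set G.left)
      rw [← Scheme.Hom.comp_apply, ← Over.comp_left, lift_snd, Over.comp_left,
        Scheme.Hom.comp_apply]
      refine ⟨Groth.Agent.H93.GrpAff.pt G v, ?_, rfl⟩
      rw [hz]; exact hzU
    · rw [← Scheme.Hom.comp_apply, ← Over.comp_left]
      have h7 : lift u (v ≫ ι[G]) ≫ μ[G] = a := by
        calc lift u (v ≫ ι[G]) ≫ μ[G] = u * v⁻¹ := rfl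
          _ = a := hau
      rw [h7]; exact ha
  by_contra hgR
  have hcl : closure ({g} : Set G.left) ⊆ Rᶜ :=
    closure_minimal (Set.singleton_subset_iff.mpr hgR) hRopen.isClosed_compl
  have hcl2 : closure ({g} : Set G.left) ⊆ connectedComponent e :=
    closure_minimal (Set.singleton_subset_iff.mpr hg') isClosed_connectedComponent
  obtain ⟨x, hx1, hx2⟩ := nonempty_inter_closedPoints (Z := closure ({g} : Set G.left))
    ⟨g, subset_closure (Set.mem_singleton g)⟩ isClosed_closure.isLocallyClosed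
  exact hcl hx1 (claim x hx2 (hcl2 hx1))

end Groth.Agent.S15352
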