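import Groth.Statements.S15353
import Mathlib.RingTheory.Idempotents
import Mathlib.RingTheory.Nakayama
import Mathlib.LinearAlgebra.TensorProduct.Pi
import Mathlib.LinearAlgebra.TensorProduct.RightExactness
import Mathlib.RingTheory.TensorProduct.Basic
import Mathlib.RingTheory.TensorProduct.Finite
import Mathlib.LinearAlgebra.Matrix.ToLin
import Mathlib.RingTheory.Finiteness.Cardinality
-- import your own Groth.Agent.* helpers here

set_option autoImplicit false
universe u
open CAlg

namespace Groth.Agent.S15353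

section
open TensorProduct

variable {A' A : Type u} [CommRing A'] [CommRing A]

lemma mem_smul_top_of_tmul_eq_zero [Algebra A' A] (hf : Function.Surjective (algebraMap A' A))
    (Q : Type u) [AddCommGroup Q] [Module A' Q] (z : Q) (hz : (1 : A) ⊗ₜ[A'] z = 0) :
    z ∈ (RingHom.ker (algebraMap A' A)) • (⊤ : Submodule A' Q) := by
  have hex : Function.Exact (RingHom.ker (algebraMap A' A)).subtype (Algebra.linearMap A' A) := by
    intro a
    constructor
    · intro h
      exact ⟨⟨a, h⟩, rfl⟩
    · rintro ⟨⟨b, hb⟩, rfl⟩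
      exact hb
  have hex2 := rTensor_exact Q hex hf
  have h1 : (Algebra.linearMap A' A).rTensor Q ((1 : A') ⊗ₜ[A'] z) = 0 := by
    rw [LinearMap.rTensor_tmul]
    simpa using hz
  obtain ⟨w, hw⟩ := (hex2 _).mp h1
  have key : ∀ w : ↥(RingHom.ker (algebraMap A' A)) ⊗[A'] Q,
      TensorProduct.lid A' Q ((RingHom.ker (algebraMap A' A)).subtype.rTensor Q w) ∈
        (RingHom.ker (algebraMap A' A)) • (⊤ : Submodule A' Q) := by
    intro w
    induction w using TensorProduct.induction_on with
    | zero => simp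
    | tmul i q =>
      simp only [LinearMap.rTensor_tmul, Submodule.subtype_apply, TensorProduct.lid_tmul]
      exact Submodule.smul_mem_smul i.2 trivial
    | add a b ha hb =>
      rw [map_add, map_add]
      exact Submodule.add_mem _ ha hb
  have h2 : z = TensorProduct.lid A' Q ((RingHom.ker (algebraMap A' A)).subtype.rTensor Q w) := by
    rw [hw]; simp
  rw [h2]
  exact key w

/-- Lemma L: a finite projective module whose reduction modulo a nilpotent ideal is free of rank one is
free of rank one. -/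
lemma nonempty_equiv_of_baseChange_free [Algebra A' A]
    (hf : Function.Surjective (algebraMap A' A))
    (hker : IsNilpotent (RingHom.ker (algebraMap A' A)))
    (Q : Type u) [AddCommGroup Q] [Module A' Q] [Module.Finite A' Q] [Module.Projective A' Q]
    (e : A ⊗[A'] Q ≃ₗ[A] A) : Nonempty (Q ≃ₗ[A'] A') := by
  obtain ⟨m, hm⟩ := hker
  have hnil : ∀ x ∈ RingHom.ker (algebraMap A' A), x ^ m = 0 := by
    intro x hx
    have h1 : x ^ m ∈ (RingHom.ker (algebraMap A' A)) ^ m := Ideal.pow_mem_pow hx m
    rw [hm] at h1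
    simpa using h1
  have hjac : RingHom.ker (algebraMap A' A) ≤ Ideal.jacobson ⊥ := by
    intro x hx
    apply Ideal.radical_le_jacobson
    exact ⟨m, by rw [hnil x hx]; exact Ideal.zero_mem _⟩
  obtain ⟨t, ht⟩ := e.surjective 1
  obtain ⟨x, rfl⟩ := TensorProduct.mk_surjective A' Q A hf t
  rw [TensorProduct.mk_apply] at ht
  let g : A' →ₗ[A'] Q := LinearMap.toSpanSingleton A' Q x
  have hgx : ∀ a : A', g a = a • x := fun a => rfl
  have hsm : ∀ a : A', e ((1 : A) ⊗ₜ[A'] (a • x)) = algebraMap A' A a := by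
    intro a
    rw [TensorProduct.tmul_smul, ← algebraMap_smul A a ((1 : A) ⊗ₜ[A'] x), map_smul, ht,
      smul_eq_mul, mul_one]
  have hsurj : Function.Surjective g := by
    rw [← LinearMap.range_eq_top, ← top_le_iff]
    apply Submodule.le_of_le_smul_of_le_jacobson_bot Module.Finite.fg_top hjac
    intro q _
    obtain ⟨a, ha⟩ := hf (e ((1 : A) ⊗ₜ[A'] q))
    have hz : (1 : A) ⊗ₜ[A'] (q - a • x) = 0 := by
      apply e.injective
      rw [map_zero, TensorProduct.tmul_sub, map_sub, hsm, ha, sub_self]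
    have hmem := mem_smul_top_of_tmul_eq_zero hf Q (q - a • x) hz
    have : q = a • x + (q - a • x) := by abel
    rw [this]
    exact Submodule.add_mem_sup ⟨a, rfl⟩ hmem
  obtain ⟨σ, hσ⟩ := Module.projective_lifting_property g LinearMap.id hsurj
  have hσ' : ∀ q, g (σ q) = q := fun q => LinearMap.congr_fun hσ q
  have hinj : Function.Injective g := by
    rw [injective_iff_map_eq_zero]
    intro k hk
    -- ker g ⊆ I
    have hkerI : ∀ k' : A', g k' = 0 → k' ∈ RingHom.ker (algebraMap A' A) := by
      intro k' hk'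
      rw [RingHom.mem_ker]
      have h1 : e ((1 : A) ⊗ₜ[A'] (k' • x)) = 0 := by
        rw [← hgx, hk', TensorProduct.tmul_zero, map_zero]
      rw [hsm] at h1
      exact h1
    let κ₀ : A' := 1 - σ x
    have hκ₀ : g κ₀ = 0 := by
      show g (1 - σ x) = 0
      rw [map_sub, hσ', hgx, one_smul, sub_self]
    have hκI : κ₀ ∈ RingHom.ker (algebraMap A' A) := hkerI κ₀ hκ₀
    have h1 : k * σ x = 0 := by
      have : σ (g k) = 0 := by rw [hk, map_zero]
      rw [hgx, map_smul, smul_eq_mul] at this
      exact this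
    have h2 : k = k * κ₀ := by
      show k = k * (1 - σ x)
      rw [mul_sub, mul_one, h1, sub_zero]
    have h3 : ∀ j : ℕ, k = k * κ₀ ^ j := by
      intro j
      induction j with
      | zero => simp
      | succ j ih => rw [pow_succ, ← mul_assoc, ← ih, ← h2]
    rw [h3 m, hnil κ₀ hκI, mul_zero]
  exact ⟨(LinearEquiv.ofBijective g ⟨hinj, hsurj⟩).symm⟩

lemma isNilpotent_of_mem_ker_mapMatrix [Algebra A' A]
    (hker : IsNilpotent (RingHom.ker (algebraMap A' A))) (n : ℕ)
    (X : Matrix (Fin n) (Fin n) A')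
    (hX : X ∈ RingHom.ker ((algebraMap A' A).mapMatrix :
      Matrix (Fin n) (Fin n) A' →+* Matrix (Fin n) (Fin n) A)) :
    IsNilpotent X := by
  obtain ⟨m, hm⟩ := hker
  have hXI : ∀ i j, X i j ∈ RingHom.ker (algebraMap A' A) := by
    intro i j
    rw [RingHom.mem_ker] at hX ⊢
    have := congrFun (congrFun hX i) j
    simpa using this
  have hpow : ∀ k : ℕ, ∀ i j, (X ^ k) i j ∈ (RingHom.ker (algebraMap A' A)) ^ k := by
    intro k
    induction k with
    | zero => intro i j; simp
    | succ k ih =>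
      intro i j
      rw [pow_succ X k, Matrix.mul_apply, pow_succ (RingHom.ker (algebraMap A' A)) k]
      exact Ideal.sum_mem _ fun l _ => Ideal.mul_mem_mul (ih i l) (hXI l j)
  refine ⟨m, ?_⟩
  ext i j
  have := hpow m i j
  rw [hm] at this
  simpa using this


lemma mem_range_mapMatrix [Algebra A' A]
    (hf : Function.Surjective (algebraMap A' A)) (n : ℕ) (E : Matrix (Fin n) (Fin n) A) :
    E ∈ ((algebraMap A' A).mapMatrix :
      Matrix (Fin n) (Fin n) A' →+* Matrix (Fin n) (Fin n) A).range := by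
  refine ⟨Matrix.of fun i j => Function.surjInv hf (E i j), ?_⟩
  ext i j
  rw [RingHom.mapMatrix_apply, Matrix.map_apply, Matrix.of_apply, Function.surjInv_eq hf]

lemma exists_idem_lift [Algebra A' A]
    (hf : Function.Surjective (algebraMap A' A))
    (hker : IsNilpotent (RingHom.ker (algebraMap A' A))) (n : ℕ)
    (E : Matrix (Fin n) (Fin n) A) (hE : IsIdempotentElem E) :
    ∃ E' : Matrix (Fin n) (Fin n) A', IsIdempotentElem E' ∧ E'.map (algebraMap A' A) = E := by
  obtain ⟨E', hE', hFE'⟩ := exists_isIdempotentElem_eq_of_ker_isNilpotent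
    ((algebraMap A' A).mapMatrix : Matrix (Fin n) (Fin n) A' →+* Matrix (Fin n) (Fin n) A)
    (isNilpotent_of_mem_ker_mapMatrix hker n) E (mem_range_mapMatrix hf n E) hE
  exact ⟨E', hE', hFE'⟩

lemma tau_baseChange [Algebra A' A] (n : ℕ) (E' : Matrix (Fin n) (Fin n) A')
    (t : A ⊗[A'] (Fin n → A')) :
    TensorProduct.piScalarRight A' A A (Fin n) ((Matrix.toLin' E').baseChange A t) =
      Matrix.toLin' (E'.map (algebraMap A' A)) (TensorProduct.piScalarRight A' A A (Fin n) t) := by
  induction t using TensorProduct.induction_on with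
  | zero => simp
  | add a b ha hb => simp only [map_add, ha, hb]
  | tmul a u =>
    rw [LinearMap.baseChange_tmul]
    ext i
    simp only [TensorProduct.piScalarRight_apply, TensorProduct.piScalarRightHom_tmul,
      Matrix.toLin'_apply, Matrix.mulVec, dotProduct, Matrix.map_apply, Algebra.smul_def,
      map_sum, map_mul, Finset.sum_mul, mul_assoc]

lemma nonempty_baseChange_range_equiv [Algebra A' A] (n : ℕ) (E' : Matrix (Fin n) (Fin n) A')
    (hE' : IsIdempotentElem E')
    (N : Type u) [AddCommGroup N] [Module A N]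
    (π : (Fin n → A) →ₗ[A] N) (s : N →ₗ[A] (Fin n → A)) (hs : ∀ y, π (s y) = y)
    (hE : ∀ v, Matrix.toLin' (E'.map (algebraMap A' A)) v = s (π v)) :
    Nonempty (A ⊗[A'] (LinearMap.range (Matrix.toLin' E')) ≃ₗ[A] N) := by
  have hε'' : ∀ v, Matrix.toLin' E' (Matrix.toLin' E' v) = Matrix.toLin' E' v := by
    intro v
    rw [← LinearMap.comp_apply, ← Matrix.toLin'_mul, hE'.eq]
  let τ : A ⊗[A'] (Fin n → A') ≃ₗ[A] (Fin n → A) := TensorProduct.piScalarRight A' A A (Fin n)
  let ι : A ⊗[A'] (LinearMap.range (Matrix.toLin' E')) →ₗ[A] A ⊗[A'] (Fin n → A') :=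
    (LinearMap.range (Matrix.toLin' E')).subtype.baseChange A
  let ρ : A ⊗[A'] (Fin n → A') →ₗ[A] A ⊗[A'] (LinearMap.range (Matrix.toLin' E')) :=
    (Matrix.toLin' E').rangeRestrict.baseChange A
  have hρι : ∀ t, ρ (ι t) = t := by
    intro t
    have h1 : (Matrix.toLin' E').rangeRestrict ∘ₗ (LinearMap.range (Matrix.toLin' E')).subtype
        = LinearMap.id := by
      refine LinearMap.ext fun w => ?_
      obtain ⟨w, v, rfl⟩ := w
      apply Subtype.ext
      exact hε'' v
    have h2 : ρ ∘ₗ ι = LinearMap.id := by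
      show (Matrix.toLin' E').rangeRestrict.baseChange A ∘ₗ
        (LinearMap.range (Matrix.toLin' E')).subtype.baseChange A = LinearMap.id
      rw [← LinearMap.baseChange_comp, h1, LinearMap.baseChange_id]
    exact LinearMap.congr_fun h2 t
  have hιρ : ∀ t, ι (ρ t) = (Matrix.toLin' E').baseChange A t := by
    intro t
    have h1 : (LinearMap.range (Matrix.toLin' E')).subtype ∘ₗ (Matrix.toLin' E').rangeRestrict
        = Matrix.toLin' E' := LinearMap.ext fun v => rfl
    have h2 : ι ∘ₗ ρ = (Matrix.toLin' E').baseChange A := by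
      show (LinearMap.range (Matrix.toLin' E')).subtype.baseChange A ∘ₗ
        (Matrix.toLin' E').rangeRestrict.baseChange A = (Matrix.toLin' E').baseChange A
      rw [← LinearMap.baseChange_comp, h1]
    exact LinearMap.congr_fun h2 t
  have hC : ∀ t, τ ((Matrix.toLin' E').baseChange A t) = s (π (τ t)) := by
    intro t
    rw [← hE]
    exact tau_baseChange n E' t
  refine ⟨LinearEquiv.ofLinearMap (π ∘ₗ τ.toLinearMap ∘ₗ ι) (ρ ∘ₗ τ.symm.toLinearMap ∘ₗ s) ?_ ?_⟩
  · refine LinearMap.ext fun y => ?_
    simp only [LinearMap.comp_apply, LinearEquiv.coe_coe, LinearMap.id_apply]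
    rw [hιρ, hC, LinearEquiv.apply_symm_apply, hs, hs]
  · refine LinearMap.ext fun t => ?_
    simp only [LinearMap.comp_apply, LinearEquiv.coe_coe, LinearMap.id_apply]
    rw [← hC, LinearEquiv.symm_apply_apply, ← hιρ, hρι, hρι]

lemma exists_lift_projective [Algebra A' A]
    (hf : Function.Surjective (algebraMap A' A))
    (hker : IsNilpotent (RingHom.ker (algebraMap A' A)))
    (N : Type u) [AddCommGroup N] [Module A N] [Module.Finite A N] [Module.Projective A N] :
    ∃ (n : ℕ) (M' : Submodule A' (Fin n → A')),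
      Module.Finite A' M' ∧ Module.Projective A' M' ∧ Nonempty (A ⊗[A'] M' ≃ₗ[A] N) := by
  classical
  obtain ⟨n, π, hπ⟩ := Module.Finite.exists_fin' A N
  obtain ⟨s, hs⟩ := Module.projective_lifting_property π LinearMap.id hπ
  have hs' : ∀ y, π (s y) = y := fun y => LinearMap.congr_fun hs y
  have hidem : IsIdempotentElem (LinearMap.toMatrix' (s ∘ₗ π)) := by
    show LinearMap.toMatrix' (s ∘ₗ π) * LinearMap.toMatrix' (s ∘ₗ π) = LinearMap.toMatrix' (s ∘ₗ π)
    rw [← LinearMap.toMatrix'_comp]
    congr 1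
    refine LinearMap.ext fun v => ?_
    simp only [LinearMap.comp_apply, hs']
  obtain ⟨E', hE', hFE'⟩ := exists_idem_lift hf hker n (LinearMap.toMatrix' (s ∘ₗ π)) hidem
  have hε'' : ∀ v, Matrix.toLin' E' (Matrix.toLin' E' v) = Matrix.toLin' E' v := by
    intro v
    rw [← LinearMap.comp_apply, ← Matrix.toLin'_mul, hE'.eq]
  refine ⟨n, LinearMap.range (Matrix.toLin' E'), ?_, ?_, ?_⟩
  · exact Module.Finite.range (Matrix.toLin' E')
  · refine Module.Projective.of_split (LinearMap.range (Matrix.toLin' E')).subtype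
      (Matrix.toLin' E').rangeRestrict ?_
    refine LinearMap.ext fun w => ?_
    obtain ⟨w, v, rfl⟩ := w
    apply Subtype.ext
    exact hε'' v
  · refine nonempty_baseChange_range_equiv n E' hE' N π s hs' ?_
    intro v
    rw [hFE', Matrix.toLin'_toMatrix']
    rfl

theorem pic_mapAlgebra_bijective [Algebra A' A]
    (hf : Function.Surjective (algebraMap A' A))
    (hker : IsNilpotent (RingHom.ker (algebraMap A' A))) :
    Function.Bijective (CommRing.Pic.mapAlgebra A' A) := by
  constructor
  · rw [injective_iff_map_eq_one]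
    intro M hM
    rw [CommRing.Pic.mapAlgebra_apply, CommRing.Pic.mk_eq_one_iff] at hM
    obtain ⟨e⟩ := hM
    obtain ⟨e'⟩ := nonempty_equiv_of_baseChange_free hf hker M e
    rw [← CommRing.Pic.mk_eq_self (M := M)]
    exact CommRing.Pic.mk_eq_one_iff.mpr ⟨e'⟩
  · intro N
    obtain ⟨n₁, M₁, hfin₁, hproj₁, ⟨e₁⟩⟩ := exists_lift_projective hf hker N
    obtain ⟨n₂, M₂, hfin₂, hproj₂, ⟨e₂⟩⟩ := exists_lift_projective hf hker (Module.Dual A N)
    have eQ : A ⊗[A'] (M₁ ⊗[A'] M₂) ≃ₗ[A] A :=
      (TensorProduct.AlgebraTensorModule.distribBaseChange A' A M₁ M₂) ≪≫ₗ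
        TensorProduct.congr e₁ e₂ ≪≫ₗ TensorProduct.comm A N (Module.Dual A N) ≪≫ₗ
        Module.Invertible.linearEquiv A N
    obtain ⟨eQ'⟩ := nonempty_equiv_of_baseChange_free hf hker (M₁ ⊗[A'] M₂) eQ
    have : Module.Invertible A' M₁ := Module.Invertible.left eQ'
    refine ⟨CommRing.Pic.mk A' M₁, ?_⟩
    rw [CommRing.Pic.mapAlgebra_apply, CommRing.Pic.mk_eq_iff]
    exact ⟨TensorProduct.AlgebraTensorModule.congr (.refl A A)
      (CommRing.Pic.mk.linearEquiv A' M₁) ≪≫ₗ e₁⟩

end


/-- Let f : A' → A be a surjective ring homomorphism whose kernel is a nilpotent ideal. Then the induced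
homomorphism of Picard groups Pic(A') → Pic(A), base change of invertible modules along f, is
bijective. -/
theorem result {A' A : Type u} [CommRing A'] [CommRing A]
    (f : A' →+* A) (hf : Function.Surjective f) (hker : IsNilpotent (RingHom.ker f)) :
    Function.Bijective (CommRing.Pic.mapRingHom f) := by
  let _ := f.toAlgebra
  exact pic_mapAlgebra_bijective (A' := A') (A := A) hf hker

end Groth.Agent.S15353
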