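import Groth.Statements.S15354
-- import your own Groth.Agent.* helpers here

set_option autoImplicit false
universe u
open CategoryTheory CategoryTheory.Limits AlgebraicGeometry
open Mor

namespace Groth.Agent.S15354

/-- Let f : Y ⟶ X be a morphism of schemes, A a valuation ring with fraction field K and residue field
k, and ξ, η : Spec A ⟶ Y two A-points of Y over the same A-point of X. If ξ and η restrict to the
same K-point and to the same k-point of Y, then ξ = η. (The published statement is an equivalence,
for algebraic spaces locally of finite presentation over a Noetherian scheme, between local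
separatedness of f and conditions (a), (b); this row is the necessity of (a) in the case of schemes,
where no hypothesis on f is needed.) -/
theorem result {X Y : Scheme.{u}} (f : Y ⟶ X)
    (A : Type u) [CommRing A] [IsDomain A] [ValuationRing A] (K : Type u) [Field K] [Algebra A K]
    [IsFractionRing A K] (ξ η : Spec (CommRingCat.of A) ⟶ Y) (hf : ξ ≫ f = η ≫ f)
    (hK : Spec.map (CommRingCat.ofHom (algebraMap A K)) ≫ ξ = Spec.map (CommRingCat.ofHom (algebraMap A K)) ≫ η)
    (hk : Spec.map (CommRingCat.ofHom (IsLocalRing.residue A)) ≫ ξ =
      Spec.map (CommRingCat.ofHom (IsLocalRing.residue A)) ≫ η) :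
    ξ = η := by
  have hpt : ξ (IsLocalRing.closedPoint (CommRingCat.of A)) = η (IsLocalRing.closedPoint (CommRingCat.of A)) := by
    obtain ⟨s⟩ : Nonempty (Spec (CommRingCat.of (IsLocalRing.ResidueField A))) := inferInstance
    have hs : (Spec.map (CommRingCat.ofHom (IsLocalRing.residue A))) s = IsLocalRing.closedPoint (CommRingCat.of A) :=
      IsLocalRing.PrimeSpectrum.comap_residue _ s
    have h := congrArg (fun g : Spec (CommRingCat.of (IsLocalRing.ResidueField A)) ⟶ Y => g s) hk
    simp only [Scheme.Hom.comp_apply] at h
    rw [hs] at h
    exact h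
  have hmono : Mono (CommRingCat.ofHom (algebraMap A K)) :=
    ConcreteCategory.mono_of_injective _ (IsFractionRing.injective A K)
  have hsp : η (IsLocalRing.closedPoint (CommRingCat.of A)) ⤳ ξ (IsLocalRing.closedPoint (CommRingCat.of A)) :=
    (Inseparable.of_eq hpt).ge
  have e := Scheme.SpecMap_stalkSpecializes_fromSpecStalk hsp
  have key : Scheme.stalkClosedPointTo ξ =
      Y.presheaf.stalkSpecializes hsp ≫ Scheme.stalkClosedPointTo η := by
    rw [← cancel_mono (CommRingCat.ofHom (algebraMap A K))]
    apply Spec.map_injective
    rw [← cancel_mono (Y.fromSpecStalk (ξ (IsLocalRing.closedPoint (CommRingCat.of A))))]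
    rw [Spec.map_comp, Spec.map_comp, Spec.map_comp, Category.assoc, Category.assoc, Category.assoc]
    rw [Scheme.Spec_stalkClosedPointTo_fromSpecStalk, hK, e, Scheme.Spec_stalkClosedPointTo_fromSpecStalk]
  rw [← Scheme.Spec_stalkClosedPointTo_fromSpecStalk ξ, ← Scheme.Spec_stalkClosedPointTo_fromSpecStalk η,
    key, Spec.map_comp, Category.assoc, e]

end Groth.Agent.S15354
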