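import Groth.Statements.S15355
import Mathlib.AlgebraicGeometry.Morphisms.Separated
import Mathlib.AlgebraicGeometry.ResidueField
-- import your own Groth.Agent.* helpers here

set_option autoImplicit false
universe u
open CategoryTheory CategoryTheory.Limits AlgebraicGeometry
open Mor

namespace Groth.Agent.S15355

/-- Let f : Y ⟶ X be a morphism of schemes, A an integral domain and ξ, η : Spec A ⟶ Y two A-points of Y
over the same A-point of X. If ξ and η induce the same κ(p)-point of Y at every point p of some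
dense subset of Spec A, then ξ and η agree on a nonempty open subscheme of Spec A. (The published
statement is an equivalence, for algebraic spaces locally of finite presentation over a Noetherian
scheme, between local separatedness of f and conditions (a), (b); this row is the necessity of (b)
in the case of schemes, where no hypothesis on f is needed.) -/
theorem result {X Y : Scheme.{u}} (f : Y ⟶ X)
    (A : Type u) [CommRing A] [IsDomain A] (ξ η : Spec (CommRingCat.of A) ⟶ Y) (hf : ξ ≫ f = η ≫ f)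
    (D : Set ↥(Spec (CommRingCat.of A))) (hD : Dense D)
    (hpt : ∀ p ∈ D, (Spec (CommRingCat.of A)).fromSpecResidueField p ≫ ξ =
      (Spec (CommRingCat.of A)).fromSpecResidueField p ≫ η) :
    ∃ U : (Spec (CommRingCat.of A)).Opens, (U : Set ↥(Spec (CommRingCat.of A))).Nonempty ∧ U.ι ≫ ξ = U.ι ≫ η := by
  obtain ⟨s₀⟩ : Nonempty ↥(Spec (CommRingCat.of A)) := inferInstance
  obtain ⟨V, hV, hs₀V, -⟩ := TopologicalSpace.Opens.isBasis_iff_nbhd.mp Y.isBasis_affineOpens
    (TopologicalSpace.Opens.mem_top (ξ s₀))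
  have hopen : IsOpen ((ξ ⁻¹ᵁ V : (Spec (CommRingCat.of A)).Opens) : Set ↥(Spec (CommRingCat.of A))) :=
    (ξ ⁻¹ᵁ V).isOpen
  obtain ⟨p, hpV, hpD⟩ := hD.inter_open_nonempty _ hopen ⟨s₀, hs₀V⟩
  have hp : ξ p = η p := by
    obtain ⟨pt⟩ : Nonempty ↥(Spec ((Spec (CommRingCat.of A)).residueField p)) := inferInstance
    have h := congrArg (fun g : Spec ((Spec (CommRingCat.of A)).residueField p) ⟶ Y => g pt) (hpt p hpD)
    simpa [Scheme.Hom.comp_apply, Scheme.fromSpecResidueField_apply] using h
  set U : (Spec (CommRingCat.of A)).Opens := ξ ⁻¹ᵁ V ⊓ η ⁻¹ᵁ V with hU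
  have hpU : p ∈ U := ⟨hpV, by show η p ∈ V; rw [← hp]; exact hpV⟩
  refine ⟨U, ⟨p, hpU⟩, ?_⟩
  have e1 : U ≤ ξ ⁻¹ᵁ V := inf_le_left
  have e2 : U ≤ η ⁻¹ᵁ V := inf_le_right
  rw [← Scheme.Hom.resLE_comp_ι ξ e1, ← Scheme.Hom.resLE_comp_ι η e2]
  congr 1
  have : IsAffine (Scheme.Opens.toScheme V) := hV
  apply ext_of_fromSpecResidueField_eq _ _ (terminal.from _) (U.ι ⁻¹' D)
    (hD.preimage U.ι.isOpenEmbedding.isOpenMap)
  · intro x hx
    rw [← cancel_mono (Scheme.Opens.ι V), Category.assoc, Category.assoc, Scheme.Hom.resLE_comp_ι,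
      Scheme.Hom.resLE_comp_ι,
      ← Scheme.Hom.SpecMap_residueFieldMap_fromSpecResidueField_assoc,
      ← Scheme.Hom.SpecMap_residueFieldMap_fromSpecResidueField_assoc, hpt _ hx]
  · exact terminal.hom_ext _ _

end Groth.Agent.S15355
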