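import Groth.Statements.S1536
import Mathlib
import Groth.Agent.H68.GeomConnAlg
import Groth.Agent.H74.H0Top

set_option autoImplicit false
universe u
open CategoryTheory CategoryTheory.Limits AlgebraicGeometry
open Variety

namespace Groth.Agent.S1536

open Groth.Agent.H68.GeomConnAlg TensorProduct Groth.Agent.H74.H0Top

theorem finrank_eq_one {k R : Type u} [Field k] [CommRing R] [Algebra k R]
    [Algebra.IsIntegral k R] (Kb : Type u) [Field Kb] [IsAlgClosed Kb] [Algebra k Kb]
    (h : ConnRing (Kb ⊗[k] R)) (hred : IsReduced (Kb ⊗[k] R)) : Module.finrank k R = 1 := by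
  haveI := h.1
  have dichD : ∀ x : Kb ⊗[k] R, IsUnit x ∨ x = 0 := fun x =>
    (isUnit_or_isNilpotent h.2 x (Algebra.IsIntegral.isIntegral (R := Kb) x)).imp id
      (fun hn => hn.eq_zero)
  haveI : IsDomain (Kb ⊗[k] R) := by
    haveI : NoZeroDivisors (Kb ⊗[k] R) := ⟨fun {a b} hab => by
      rcases dichD a with ha | ha
      · right
        exact ha.mul_right_eq_zero.mp hab
      · left
        exact ha⟩
    exact NoZeroDivisors.to_isDomain _
  have hbij := IsAlgClosed.algebraMap_bijective_of_isIntegral (k := Kb) (K := Kb ⊗[k] R)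
  have h1 : Module.finrank Kb (Kb ⊗[k] R) = 1 := by
    refine (finrank_eq_one_iff_of_nonzero' (1 : Kb ⊗[k] R) one_ne_zero).mpr fun w => ?_
    obtain ⟨c, hc⟩ := hbij.2 w
    exact ⟨c, by rw [Algebra.smul_def, mul_one, hc]⟩
  rwa [Module.finrank_baseChange] at h1


/-- For a proper scheme X over a field k which is geometrically reduced and geometrically connected,
H^0(X, O_X) is one-dimensional over k, i.e. the global functions are the constants. -/
theorem result (k : Type u) [Field k] (X : Scheme.{u}) [X.Over (Spec (CommRingCat.of k))] [IsProper (X ↘ (Spec (CommRingCat.of k)))]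
    [GeometricallyReduced (X ↘ (Spec (CommRingCat.of k)))] [GeometricallyConnected (X ↘ (Spec (CommRingCat.of k)))] :
    Module.finrank k (Coh.HH X (Coh.structureModule X) 0) = 1 := by
  have hFint : (strMap (X ↘ Spec (CommRingCat.of k))).hom.IsIntegral :=
    strMap_isIntegral (X ↘ Spec (CommRingCat.of k))
  letI : Algebra k Γ(X, ⊤) := (strMap (X ↘ Spec (CommRingCat.of k))).hom.toAlgebra
  haveI : Algebra.IsIntegral k Γ(X, ⊤) := ⟨hFint⟩
  let φ : CommRingCat.of k ⟶ CommRingCat.of (AlgebraicClosure k) :=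
    CommRingCat.ofHom (algebraMap k (AlgebraicClosure k))
  have hc : GeometricallyConnected (X ↘ Spec (CommRingCat.of k)) := inferInstance
  have hr : GeometricallyReduced (X ↘ Spec (CommRingCat.of k)) := inferInstance
  rw [geometricallyConnected_iff, geometrically_iff_of_isClosedUnderIsomorphisms] at hc
  rw [geometricallyReduced_iff, geometrically_iff_of_isClosedUnderIsomorphisms] at hr
  haveI : ConnectedSpace ↥(pullback (X ↘ Spec (CommRingCat.of k)) (Spec.map φ)) := hc _ _
  haveI : IsReduced (pullback (X ↘ Spec (CommRingCat.of k)) (Spec.map φ)) := hr _ _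
  have hconn := connRing_of_connectedSpace (pullback (X ↘ Spec (CommRingCat.of k)) (Spec.map φ))
  obtain ⟨e⟩ := exists_tensor_equiv (X ↘ Spec (CommRingCat.of k)) φ
  letI : Algebra k (AlgebraicClosure k) := φ.hom.toAlgebra
  have hD : ConnRing ((AlgebraicClosure k) ⊗[k] Γ(X, ⊤)) := hconn.of_ringEquiv e.symm
  have hred : IsReduced ((AlgebraicClosure k) ⊗[k] Γ(X, ⊤)) := isReduced_of_injective e e.injective
  have h1 : Module.finrank k Γ(X, ⊤) = 1 := finrank_eq_one (AlgebraicClosure k) hD hred
  haveI : Nontrivial Γ(X, ⊤) := by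
    by_contra hne
    haveI : Subsingleton Γ(X, ⊤) := not_nontrivial_iff_subsingleton.mp hne
    have := Module.finrank_zero_of_subsingleton (R := k) (M := Γ(X, ⊤))
    omega
  have hsurj : ∀ s : Γ(X, ⊤), ∃ c : k, algebraMap k Γ(X, ⊤) c = s := by
    intro s
    obtain ⟨c, hc⟩ := (finrank_eq_one_iff_of_nonzero' (1 : Γ(X, ⊤)) one_ne_zero).mp h1 s
    exact ⟨c, by rw [Algebra.algebraMap_eq_smul_one]; exact hc⟩
  set u := (e' X).symm 1 with hu
  have hu1 : e' X u = 1 := (e' X).apply_symm_apply 1
  have hne : u ≠ 0 := by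
    intro h
    rw [h, e'_zero] at hu1
    exact (zero_ne_one (α := Γ(X, ⊤))) hu1
  refine (finrank_eq_one_iff_of_nonzero' u hne).mpr fun w => ?_
  obtain ⟨c, hc⟩ := hsurj (e' X w)
  refine ⟨c, (e' X).injective ?_⟩
  have : e' X (c • u) = Coh.toGlobal (X ↘ Spec (CommRingCat.of k)) c * e' X u := e'_smul X _ u
  rw [this, hu1, mul_one]
  exact hc

end Groth.Agent.S1536
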