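import Groth.Statements.S15362
import Groth.Agent.H86.FrobSL3
import Mathlib.RingTheory.IntegralClosure.IsIntegral.Basic

set_option autoImplicit false
universe u v w
open CAlg

namespace Groth.Agent.S15362

/-- For an algebraically closed field L of characteristic p > 0, a commutative L-algebra R integral over
L, and a finitely presented R-module M carrying an additive endomorphism φ with φ(r·m) = r^p·φ(m)
for r ∈ R, m ∈ M, the map m ↦ φ(m) − m is onto. (R is taken of exponential characteristic p so that
its Frobenius is a ring endomorphism; for a non-zero L-algebra this is automatic.) -/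
theorem result (p : ℕ) [Fact p.Prime]
    (L : Type u) [Field L] [IsAlgClosed L] [CharP L p]
    (R : Type v) [CommRing R] [Algebra L R] [Algebra.IsIntegral L R] [ExpChar R p]
    (M : Type w) [AddCommGroup M] [Module R M] [Module.FinitePresentation R M]
    (φ : M →ₛₗ[frobenius R p] M) :
    Function.Surjective fun m : M => φ m - m := by
  classical
  intro m
  have hp : p.Prime := Fact.out
  letI : Module L M := Module.compHom M (algebraMap L R)
  haveI : IsScalarTower L R M := IsScalarTower.of_algebraMap_smul fun _ _ => rfl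
  haveI : Module.Finite R M := inferInstance
  obtain ⟨n, s, hs⟩ := Module.Finite.exists_fin (R := R) (M := M)
  have hmem : ∀ x : M, ∃ c : Fin n → R, ∑ j, c j • s j = x := fun x =>
    (Submodule.mem_span_range_iff_exists_fun R).mp (by rw [hs]; trivial)
  choose r hr using fun i => hmem (φ (s i))
  obtain ⟨c, hc⟩ := hmem m
  let S : Set R := Set.range (fun ij : Fin n × Fin n => r ij.1 ij.2) ∪ Set.range c
  have hSfin : S.Finite := (Set.finite_range _).union (Set.finite_range _)
  let R₀ : Subalgebra L R := Algebra.adjoin L S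
  have hfg : (Subalgebra.toSubmodule R₀).FG :=
    fg_adjoin_of_finite hSfin fun x _ => Algebra.IsIntegral.isIntegral x
  obtain ⟨T, hT⟩ := hfg
  have hTR₀ : ∀ t ∈ T, t ∈ R₀ := fun t ht => by
    have : t ∈ Submodule.span L (T : Set R) := Submodule.subset_span ht
    rw [hT] at this; exact this
  have hrmem : ∀ i j, r i j ∈ R₀ := fun i j =>
    Algebra.subset_adjoin (Or.inl ⟨(i, j), rfl⟩)
  have hcmem : ∀ j, c j ∈ R₀ := fun j => Algebra.subset_adjoin (Or.inr ⟨j, rfl⟩)
  let G : Set M := (fun ti : R × Fin n => ti.1 • s ti.2) '' ((T : Set R) ×ˢ (Set.univ : Set (Fin n)))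
  have hGfin : G.Finite := ((T.finite_toSet).prod Set.finite_univ).image _
  let W : Submodule L M := Submodule.span L G
  haveI : FiniteDimensional L W := FiniteDimensional.span_of_finite L hGfin
  -- closure: `a ∈ R₀ → a • s i ∈ W`
  have hclos : ∀ a ∈ R₀, ∀ i, a • s i ∈ W := by
    intro a ha i
    have ha' : a ∈ Submodule.span L (T : Set R) := by rw [hT]; exact ha
    let f : R →ₗ[L] M := (LinearMap.toSpanSingleton R M (s i)).restrictScalars L
    have hf : ∀ x, f x = x • s i := fun x => rfl
    have := Submodule.mem_map_of_mem (f := f) ha'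
    rw [Submodule.map_span] at this
    rw [← hf a]
    refine Submodule.span_mono ?_ this
    rintro _ ⟨t, ht, rfl⟩
    exact ⟨(t, i), ⟨ht, Set.mem_univ _⟩, rfl⟩
  have hsemi : ∀ (l : L) (x : M), φ (l • x) = l ^ p • φ x := by
    intro l x
    show φ (algebraMap L R l • x) = algebraMap L R (l ^ p) • φ x
    rw [φ.map_smulₛₗ, frobenius_def, map_pow]
  have hφW : ∀ x ∈ W, φ x ∈ W := by
    intro x hx
    induction hx using Submodule.span_induction with
    | mem y hy =>
      obtain ⟨⟨t, i⟩, ⟨ht, -⟩, rfl⟩ := hy
      show φ (t • s i) ∈ W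
      rw [φ.map_smulₛₗ, frobenius_def, ← hr i, Finset.smul_sum]
      refine Submodule.sum_mem _ fun j _ => ?_
      rw [smul_smul]
      exact hclos _ (R₀.mul_mem (R₀.pow_mem (hTR₀ t ht) p) (hrmem i j)) j
    | zero => rw [map_zero]; exact W.zero_mem
    | add y z _ _ hy hz => rw [map_add]; exact W.add_mem hy hz
    | smul l y _ hy => rw [hsemi]; exact W.smul_mem _ hy
  have hmW : m ∈ W := by
    rw [← hc]
    exact Submodule.sum_mem _ fun j _ => hclos _ (hcmem j) j
  let φW : ↥W →+ ↥W :=
    { toFun := fun x => ⟨φ x, hφW _ x.2⟩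
      map_zero' := by apply Subtype.ext; simp
      map_add' := fun x y => by apply Subtype.ext; simp }
  have hφW' : ∀ (a : L) (x : ↥W), φW (a • x) = a ^ p • φW x := by
    intro a x; apply Subtype.ext
    show φ ((a • x : ↥W) : M) = a ^ p • φ (x : M)
    rw [Submodule.coe_smul, hsemi]
  obtain ⟨u, hu⟩ := Groth.Agent.H86.FrobSL.sub_id_surjective φW hφW' hp.two_le
    (CharP.cast_eq_zero L p) ⟨m, hmW⟩
  exact ⟨u, congrArg Subtype.val hu⟩

end Groth.Agent.S15362
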