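import Groth.Statements.S15365
import Mathlib

set_option autoImplicit false
universe u
open scoped BigOperators
open CAlg

namespace Groth.Agent.S15365

open MvPolynomial Algebra

section general

universe t w
variable {R : Type u} {S : Type u} {ι : Type w} {σ : Type t} [CommRing R] [CommRing S] [Algebra R S]
variable [Finite σ]

theorem aevalDifferential_apply [Fintype σ] (P : PreSubmersivePresentation R S ι σ) (a : σ → S) :
    P.aevalDifferential a =
      ∑ j, a j • (fun i : σ => aeval P.val (pderiv (P.map i) (P.relation j))) := by
  classical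
  simp [PreSubmersivePresentation.aevalDifferential, Module.Basis.constr_apply_fintype]

theorem cotangentComplexAux_mem_range (P : PreSubmersivePresentation R S ι σ)
    (x : P.toExtension.Cotangent) :
    P.cotangentComplexAux x ∈ LinearMap.range P.aevalDifferential := by
  classical
  cases nonempty_fintype σ
  obtain ⟨(x : P.ker), rfl⟩ := Extension.Cotangent.mk_surjective x
  have hx : x.val ∈ Ideal.span (Set.range P.relation) := by
    rw [P.span_range_relation_eq_ker]
    exact x.property
  obtain ⟨c, hc⟩ := Finsupp.mem_ideal_span_range_iff_exists_finsupp.mp hx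
  refine ⟨fun j => aeval P.val (c j), ?_⟩
  ext i
  rw [P.cotangentComplexAux_apply, aevalDifferential_apply, ← hc]
  simp only [Finsupp.sum, map_sum, Derivation.leibniz, smul_eq_mul, map_add, map_mul,
    Presentation.aeval_val_relation, zero_mul, add_zero, Finset.sum_apply, Pi.smul_apply]
  rw [Finset.sum_subset (Finset.subset_univ c.support)]
  intro j _ hj
  rw [Finsupp.notMem_support_iff.mp hj]
  simp

theorem cotangentComplexAux_surjective_of_subsingleton (P : PreSubmersivePresentation R S ι σ)
    [Subsingleton (Ω[S⁄R])] : Function.Surjective P.cotangentComplexAux := by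
  classical
  intro g
  let f : ι →₀ S := Finsupp.mapDomain P.map (Finsupp.equivFunOnFinite.symm g)
  let y : P.toExtension.CotangentSpace := P.cotangentSpaceBasis.repr.symm f
  have hy : P.toExtension.toKaehler y = 0 := Subsingleton.elim _ _
  obtain ⟨x, hx⟩ := (P.toExtension.exact_cotangentComplex_toKaehler y).mp hy
  refine ⟨x, ?_⟩
  simp only [PreSubmersivePresentation.cotangentComplexAux, LinearMap.coe_comp,
    LinearEquiv.coe_coe, Function.comp_apply, hx]
  ext i
  simp only [y, LinearEquiv.apply_symm_apply, Finsupp.lcomapDomain_apply,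
    Finsupp.linearEquivFunOnFinite_apply, Finsupp.comapDomain_apply, f]
  rw [Finsupp.mapDomain_apply P.map_inj]
  rfl

theorem isUnit_jacobian_of_subsingleton (P : PreSubmersivePresentation R S ι σ)
    [Subsingleton (Ω[S⁄R])] : IsUnit P.jacobian := by
  classical
  cases nonempty_fintype σ
  rw [P.isUnit_jacobian_iff_aevalDifferential_bijective]
  have hs : Function.Surjective P.aevalDifferential := by
    intro g
    obtain ⟨x, rfl⟩ := cotangentComplexAux_surjective_of_subsingleton P g
    exact cotangentComplexAux_mem_range P x
  exact ⟨OrzechProperty.injective_of_surjective_endomorphism _ hs, hs⟩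

end general

/-- Let A be a commutative ring of characteristic p > 0 and (h_{ij})_{1 ≤ i,j ≤ n} a square matrix over
A, the matrix of a commutative p-Lie algebra (L, φ) with L free with basis e_1, …, e_n and φ(e_j) =
Σ_i h_{ij} e_i. The associated finite group scheme Spec A[X_1, …, X_n]/(X_j^p − Σ_i h_{ij} X_i)_{1 ≤
j ≤ n} is étale over A if and only if the matrix (h_{ij}) is invertible, i.e. its determinant is a
unit of A. Only the algebra structure enters this assertion. -/
theorem result (p : ℕ) [Fact p.Prime]
    (A : Type u) [CommRing A] [CharP A p] (n : ℕ) (h : Matrix (Fin n) (Fin n) A) :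
    Algebra.Etale A (MvPolynomial (Fin n) A ⧸ Ideal.span (Set.range fun j : Fin n =>
        (MvPolynomial.X j : MvPolynomial (Fin n) A) ^ p -
          ∑ i : Fin n, MvPolynomial.C (h i j) * MvPolynomial.X i)) ↔
      IsUnit h.det := by
  classical
  let v : Fin n → MvPolynomial (Fin n) A := fun j : Fin n =>
        (MvPolynomial.X j : MvPolynomial (Fin n) A) ^ p -
          ∑ i : Fin n, MvPolynomial.C (h i j) * MvPolynomial.X i
  change Algebra.Etale A (MvPolynomial (Fin n) A ⧸ Ideal.span (Set.range v)) ↔ _
  let P : PreSubmersivePresentation A (MvPolynomial (Fin n) A ⧸ Ideal.span (Set.range v))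
      (Fin n) (Fin n) :=
    PreSubmersivePresentation.naive (v := v) id Function.injective_id
  have hp0 : ((p : ℕ) : MvPolynomial (Fin n) A) = 0 := CharP.cast_eq_zero _ p
  have hJ : P.jacobiMatrix = -(h.map (C : A →+* MvPolynomial (Fin n) A)) := by
    ext i j
    rw [PreSubmersivePresentation.jacobiMatrix_naive]
    simp only [v, _root_.id, map_sub, map_sum, Derivation.leibniz_pow, Derivation.leibniz, pderiv_C,
      pderiv_X, nsmul_eq_mul, hp0, zero_mul, smul_eq_mul, Matrix.neg_apply, Matrix.map_apply,
      zero_sub]
    rw [Finset.sum_eq_single i]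
    · simp
    · intro b _ hb
      simp [hb.symm]
    · intro hi
      exact absurd (Finset.mem_univ i) hi
  have hjac : P.jacobian = algebraMap A _ ((-1) ^ n * h.det) := by
    rw [P.jacobian_eq_jacobiMatrix_det, hJ, Matrix.det_neg, Fintype.card_fin,
      ← RingHom.mapMatrix_apply, ← RingHom.map_det, map_mul, map_pow, map_neg, map_one]
    rw [map_mul (algebraMap A _), map_pow, map_neg, map_one]
    rfl
  -- retraction
  have hle : Ideal.span (Set.range v) ≤
      RingHom.ker (aeval (fun _ : Fin n => (0 : A)) : MvPolynomial (Fin n) A →ₐ[A] A) := by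
    rw [Ideal.span_le]
    rintro _ ⟨j, rfl⟩
    have hp : p ≠ 0 := (Fact.out : p.Prime).ne_zero
    simp [v, RingHom.mem_ker, hp]
  let ρ : (MvPolynomial (Fin n) A ⧸ Ideal.span (Set.range v)) →ₐ[A] A :=
    Ideal.Quotient.liftₐ _ (aeval (fun _ : Fin n => (0 : A))) (fun a ha => hle ha)
  have hunit : IsUnit ((-1 : A) ^ n * h.det) ↔ IsUnit h.det := by
    constructor
    · intro hu
      exact isUnit_of_mul_isUnit_right hu
    · intro hu
      exact ((isUnit_one.neg).pow n).mul hu
  constructor
  · intro hE
    have hU : IsUnit P.jacobian := isUnit_jacobian_of_subsingleton P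
    rw [hjac] at hU
    have := hU.map ρ
    rw [AlgHom.commutes, Algebra.algebraMap_self, RingHom.id_apply] at this
    exact hunit.mp this
  · intro hu
    have hU : IsUnit P.jacobian := by
      rw [hjac]
      exact (hunit.mpr hu).map _
    let P' : SubmersivePresentation A (MvPolynomial (Fin n) A ⧸ Ideal.span (Set.range v))
        (Fin n) (Fin n) := ⟨P, hU⟩
    have : IsStandardSmoothOfRelativeDimension 0 A
        (MvPolynomial (Fin n) A ⧸ Ideal.span (Set.range v)) :=
      P'.isStandardSmoothOfRelativeDimension (by simp [Presentation.dimension])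
    infer_instance

end Groth.Agent.S15365
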