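import Groth.Statements.S15366
import Mathlib
import Groth.Agent.H25.CohenDVR

set_option autoImplicit false
universe u
open CAlg

namespace Groth.Agent.S15366

set_option maxHeartbeats 800000
set_option linter.style.haveILetI false
set_option linter.unusedVariables false
open IsLocalRing


/-- Let k be an algebraically closed field of characteristic p > 0, R = k[[t₁, t₂]], and O = R_{(t₁)}
the local ring of Spec R at the generic point x of the divisor t₁ = 0 (a discrete valuation ring,
with uniformizer t₁ and residue field k((t₂))). Then O embeds, by an injective local k-algebra map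
φ, into some complete discrete valuation ring A containing k whose residue field is algebraically
closed and in which φ(t₁) is still a uniformizer. The prime ideal (t₁) is passed as an ideal P equal
to it together with its primality. -/
theorem result
    (p : ℕ) [Fact p.Prime] (k : Type u) [Field k] [IsAlgClosed k] [CharP k p]
    (P : Ideal (MvPowerSeries (Fin 2) k))
    (hP : P = Ideal.span {(MvPowerSeries.X 0 : MvPowerSeries (Fin 2) k)}) [P.IsPrime] :
    ∃ (A : Type u) (_ : CommRing A) (_ : IsDomain A) (_ : IsDiscreteValuationRing A) (_ : Algebra k A)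
      (φ : Localization.AtPrime P →ₐ[k] A),
      IsAdicComplete (IsLocalRing.maximalIdeal A) A ∧ IsAlgClosed (IsLocalRing.ResidueField A) ∧
        Function.Injective φ ∧ IsLocalHom φ.toRingHom ∧
          Irreducible (φ (algebraMap (MvPowerSeries (Fin 2) k) (Localization.AtPrime P)
            (MvPowerSeries.X 0))) := by
  haveI : IsDomain (MvPowerSeries (Fin 2) k) := NoZeroDivisors.to_isDomain _
  haveI : IsNoetherianRing (Localization.AtPrime P) :=
    IsLocalization.isNoetherianRing P.primeCompl (Localization.AtPrime P) inferInstance
  haveI : IsDomain (Localization.AtPrime P) :=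
    IsLocalization.isDomain_localization P.primeCompl_le_nonZeroDivisors
  letI algOK : Algebra (Localization.AtPrime P) (AlgebraicClosure (ResidueField (Localization.AtPrime P))) :=
    ((algebraMap (ResidueField (Localization.AtPrime P))
      (AlgebraicClosure (ResidueField (Localization.AtPrime P)))).comp
      (residue (Localization.AtPrime P))).toAlgebra
  have hAK : ∀ x ∈ maximalIdeal (Localization.AtPrime P),
      algebraMap (Localization.AtPrime P)
        (AlgebraicClosure (ResidueField (Localization.AtPrime P))) x = 0 := fun x hx => by
    change algebraMap (ResidueField (Localization.AtPrime P)) _ (residue _ x) = 0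
    rw [(residue_eq_zero_iff x).mpr hx, map_zero]
  have hX0 : (MvPowerSeries.X 0 : MvPowerSeries (Fin 2) k) ≠ 0 := by
    intro h
    have := congrArg (MvPowerSeries.coeff (Finsupp.single (0 : Fin 2) 1)) h
    simp at this
  have hπ0 : algebraMap (MvPowerSeries (Fin 2) k) (Localization.AtPrime P) (MvPowerSeries.X 0) ≠ 0 := by
    have hinj := IsLocalization.injective (Localization.AtPrime P) P.primeCompl_le_nonZeroDivisors
    intro h
    apply hX0
    apply hinj
    rw [h, map_zero]
  have hπ : ∀ x : Localization.AtPrime P,
      algebraMap (MvPowerSeries (Fin 2) k) (Localization.AtPrime P) (MvPowerSeries.X 0) * x = 0 →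
        x = 0 := fun x hx => (mul_eq_zero.mp hx).resolve_left hπ0
  have hmaxA : maximalIdeal (Localization.AtPrime P) = Ideal.span
      {algebraMap (MvPowerSeries (Fin 2) k) (Localization.AtPrime P) (MvPowerSeries.X 0)} := by
    rw [← IsLocalization.AtPrime.map_eq_maximalIdeal P (Localization.AtPrime P)]
    refine (congrArg (Ideal.map (algebraMap (MvPowerSeries (Fin 2) k)
      (Localization.AtPrime P))) hP).trans ?_
    rw [Ideal.map_span, Set.image_singleton]
  obtain ⟨Λ, _, _, hdom, hdvr, hcomp, hmaxΛ, hflat, e, -⟩ :=
    Groth.Agent.H25.CohenDVR.exists_complete_dvr (A := Localization.AtPrime P) _ hπ hmaxA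
      (AlgebraicClosure (ResidueField (Localization.AtPrime P))) hAK
  letI algkΛ : Algebra k Λ :=
    ((algebraMap (Localization.AtPrime P) Λ).comp (algebraMap k (Localization.AtPrime P))).toAlgebra
  haveI : IsScalarTower k (Localization.AtPrime P) Λ := IsScalarTower.of_algebraMap_eq (fun x => rfl)
  have hlocal : IsLocalHom (algebraMap (Localization.AtPrime P) Λ) := by
    refine ((local_hom_TFAE (algebraMap (Localization.AtPrime P) Λ)).out 0 2).mpr ?_
    rw [hmaxA, Ideal.map_span, Set.image_singleton, hmaxΛ]
  refine ⟨Λ, inferInstance, hdom, hdvr, algkΛ, IsScalarTower.toAlgHom k (Localization.AtPrime P) Λ,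
    hcomp, ?_, ?_, ?_, ?_⟩
  · exact IsAlgClosed.of_ringEquiv _ _ e.symm
  · haveI : Module.Flat (Localization.AtPrime P) Λ := hflat
    haveI := hlocal
    haveI : Module.FaithfullyFlat (Localization.AtPrime P) Λ :=
      Module.FaithfullyFlat.of_flat_of_isLocalHom
    exact FaithfulSMul.algebraMap_injective (Localization.AtPrime P) Λ
  · exact hlocal
  · change Irreducible (algebraMap (Localization.AtPrime P) Λ _)
    rw [IsDiscreteValuationRing.irreducible_iff_uniformizer]
    exact hmaxΛ

end Groth.Agent.S15366
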