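import Groth.Statements.S15367
import Mathlib
import Groth.Agent.S15368
-- import your own Groth.Agent.* helpers here

set_option autoImplicit false
universe u v
open TensorProduct
open CAlg

namespace Groth.Agent.S15367

theorem exists_gens (R : Type u) [CommRing R] [IsLocalRing R] (X : Type v) [AddCommGroup X]
    [Module R X] [Module.Finite R X] :
    ∃ f : Fin (Module.finrank (IsLocalRing.ResidueField R) (IsLocalRing.ResidueField R ⊗[R] X)) → X,
      Submodule.span R (Set.range f) = ⊤ := by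
  classical
  set k := IsLocalRing.ResidueField R with hk
  set d := Module.finrank k (k ⊗[R] X) with hd
  let b : Module.Basis (Fin d) k (k ⊗[R] X) := Module.finBasis k (k ⊗[R] X)
  have hsurj : Function.Surjective (TensorProduct.mk R k X 1) :=
    TensorProduct.mk_surjective R X k IsLocalRing.residue_surjective
  choose f hf using fun i => hsurj (b i)
  exact ⟨f, IsLocalRing.span_eq_top_of_tmul_eq_basis f b hf⟩

theorem finrank_le_of_injective (R : Type u) [CommRing R] [IsDomain R] [IsDiscreteValuationRing R]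
    (ϖ : R) (hϖ : Irreducible ϖ) (n : ℕ) (X : Type v) [AddCommGroup X] [Module R X] (s : ℕ)
    (Φ : X →ₗ[R] (Fin s → R ⧸ Ideal.span {ϖ ^ n})) (hΦ : Function.Injective Φ) :
    Module.finrank (IsLocalRing.ResidueField R) (IsLocalRing.ResidueField R ⊗[R] X) ≤ s := by
  classical
  set k := IsLocalRing.ResidueField R with hk
  set P := (Fin s → R ⧸ Ideal.span {ϖ ^ n}) with hP
  have hPkill : ∀ x : P, ϖ ^ n • x = 0 := by
    intro x
    funext j
    obtain ⟨r, hr⟩ := Ideal.Quotient.mk_surjective (x j)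
    change ϖ ^ n • x j = 0
    rw [← hr, Algebra.smul_def, Ideal.Quotient.algebraMap_eq, ← map_mul,
      Ideal.Quotient.eq_zero_iff_mem]
    exact Ideal.mul_mem_right _ _ (Ideal.mem_span_singleton_self _)
  let e : X ≃ₗ[R] LinearMap.range Φ := LinearEquiv.ofInjective Φ hΦ
  have h1 : Module.finrank k (k ⊗[R] X) = Module.finrank k (k ⊗[R] LinearMap.range Φ) :=
    (LinearEquiv.baseChange R k X (LinearMap.range Φ) e).finrank_eq
  have h2 : Module.finrank k (k ⊗[R] LinearMap.range Φ) ≤ Module.finrank k (k ⊗[R] P) :=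
    Groth.Agent.S15368.result R ϖ hϖ n P hPkill (LinearMap.range Φ)
  let π : (Fin s → R) →ₗ[R] P :=
    LinearMap.pi (fun j => (Ideal.Quotient.mkₐ R (Ideal.span {ϖ ^ n})).toLinearMap.comp
      (LinearMap.proj j))
  have hπ : Function.Surjective π := by
    intro x
    choose r hr using fun j => Ideal.Quotient.mk_surjective (x j)
    exact ⟨r, funext fun j => hr j⟩
  have h3 : Module.finrank k (k ⊗[R] P) ≤ s := by
    calc Module.finrank k (k ⊗[R] P) ≤ Module.finrank k (k ⊗[R] (Fin s → R)) :=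
          LinearMap.finrank_le_finrank_of_surjective
            (f := π.baseChange k) (LinearMap.lTensor_surjective k hπ)
      _ = Module.finrank R (Fin s → R) := Module.finrank_baseChange
      _ = s := Module.finrank_fin_fun R
  rw [h1]
  exact h2.trans h3

theorem separation (R : Type u) [CommRing R] [IsDomain R] [IsDiscreteValuationRing R]
    (ϖ : R) (hϖ : Irreducible ϖ) (n : ℕ) (M : Type v) [AddCommGroup M] [Module R M]
    [Module.Finite R M] (hM : ∀ m : M, ϖ ^ n • m = 0) (m : M) (hm : m ≠ 0) :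
    ∃ φ : M →ₗ[R] (R ⧸ Ideal.span {ϖ ^ n}), φ m ≠ 0 := by
  classical
  have hϖn : ϖ ^ n ≠ 0 := pow_ne_zero n hϖ.ne_zero
  have htors : Module.IsTorsion R M := fun {x} =>
    ⟨⟨ϖ ^ n, mem_nonZeroDivisors_of_ne_zero hϖn⟩, hM x⟩
  obtain ⟨ι, _, p, hp, e, ⟨E⟩⟩ := Module.equiv_directSum_of_isTorsion htors
  have hEm : E m ≠ 0 := (LinearEquiv.map_ne_zero_iff E).mpr hm
  obtain ⟨i, hi⟩ : ∃ i, DirectSum.component R ι _ i (E m) ≠ 0 := by
    by_contra hcon
    push Not at hcon
    apply hEm
    apply DirectSum.ext_component R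
    intro i
    rw [hcon i, map_zero]
  have hassoc : Associated (p i ^ e i) (ϖ ^ e i) :=
    (IsDiscreteValuationRing.associated_of_irreducible R (hp i) hϖ).pow_pow
  -- e i ≤ n
  have hei : e i ≤ n := by
    set x0 : DirectSum ι (fun i => R ⧸ R ∙ p i ^ e i) :=
      DirectSum.lof R ι (fun i => R ⧸ R ∙ p i ^ e i) i (Submodule.Quotient.mk 1) with hx0
    have h1 : ϖ ^ n • E.symm x0 = 0 := hM _
    have h2 : ϖ ^ n • x0 = 0 := by
      have := congrArg E h1
      rwa [map_smul, LinearEquiv.apply_symm_apply, map_zero] at this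
    have h3 := congrArg (DirectSum.component R ι _ i) h2
    rw [map_smul, map_zero, hx0, DirectSum.component.lof_self, ← Submodule.Quotient.mk_smul,
      Submodule.Quotient.mk_eq_zero, smul_eq_mul, mul_one, Submodule.mem_span_singleton] at h3
    obtain ⟨c, hc⟩ := h3
    have h4 : p i ^ e i ∣ ϖ ^ n := ⟨c, by rw [← hc, smul_eq_mul, mul_comm]⟩
    have h5 : ϖ ^ e i ∣ ϖ ^ n := hassoc.dvd_iff_dvd_left.mp h4
    exact (pow_dvd_pow_iff hϖ.ne_zero hϖ.not_isUnit).mp h5
  -- the embedding R/(p^e) → R/(ϖ^n)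
  let ψ0 : R →ₗ[R] (R ⧸ Ideal.span {ϖ ^ n}) :=
    (Ideal.Quotient.mkₐ R (Ideal.span {ϖ ^ n})).toLinearMap.comp
      (LinearMap.lsmul R R (ϖ ^ (n - e i)))
  have hψ0 : ∀ x, ψ0 x = Ideal.Quotient.mk (Ideal.span {ϖ ^ n}) (ϖ ^ (n - e i) * x) := fun x => rfl
  have hker : (R ∙ p i ^ e i) ≤ LinearMap.ker ψ0 := by
    rw [Submodule.span_le, Set.singleton_subset_iff, SetLike.mem_coe, LinearMap.mem_ker, hψ0,
      Ideal.Quotient.eq_zero_iff_mem, Ideal.mem_span_singleton]
    have : ϖ ^ n = ϖ ^ (n - e i) * ϖ ^ e i := by rw [← pow_add, Nat.sub_add_cancel hei]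
    rw [this]
    exact mul_dvd_mul_left _ hassoc.symm.dvd
  let ψ : (R ⧸ R ∙ p i ^ e i) →ₗ[R] (R ⧸ Ideal.span {ϖ ^ n}) := Submodule.liftQ _ ψ0 hker
  have hψinj : ∀ y, ψ y = 0 → y = 0 := by
    intro y hy
    induction y using Submodule.Quotient.induction_on with
    | H x =>
      have h1 : ψ (Submodule.Quotient.mk x) = ψ0 x := Submodule.liftQ_apply _ _ _
      rw [h1, hψ0, Ideal.Quotient.eq_zero_iff_mem, Ideal.mem_span_singleton] at hy
      have : ϖ ^ n = ϖ ^ (n - e i) * ϖ ^ e i := by rw [← pow_add, Nat.sub_add_cancel hei]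
      rw [this] at hy
      have h2 : ϖ ^ e i ∣ x :=
        (mul_dvd_mul_iff_left (pow_ne_zero _ hϖ.ne_zero)).mp hy
      have h3 : p i ^ e i ∣ x := hassoc.dvd_iff_dvd_left.mpr h2
      rw [Submodule.Quotient.mk_eq_zero, Submodule.mem_span_singleton]
      obtain ⟨c, hc⟩ := h3
      exact ⟨c, by rw [hc, smul_eq_mul, mul_comm]⟩
  refine ⟨ψ.comp ((DirectSum.component R ι _ i).comp E.toLinearMap), ?_⟩
  intro h0
  exact hi (hψinj _ h0)


/-- Let R be a discrete valuation ring with uniformizer π and residue field k, n ≥ 0, and M₀ a finitely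
generated module over R/πⁿR, viewed as an R-module killed by πⁿ; put M₀* = Hom_R(M₀, R/πⁿR). Then
dim_k(M₀*/πM₀*) = dim_k(M₀/πM₀). The published lemma is stated for a finitely presented module over
the quotient of the ring of integers of an algebraic closure of K by the elements of valuation ≥ t,
with its dual into that quotient ring, and the published proof reduces it by descent to exactly this
statement over the valuation ring of a finite extension of K; the row states that step. -/
theorem result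
    (R : Type u) [CommRing R] [IsDomain R] [IsDiscreteValuationRing R] (ϖ : R) (hϖ : Irreducible ϖ) (n : ℕ)
    (M : Type v) [AddCommGroup M] [Module R M] [Module.Finite R M] (hM : ∀ m : M, ϖ ^ n • m = 0) :
    Module.finrank (IsLocalRing.ResidueField R)
        (IsLocalRing.ResidueField R ⊗[R] (M →ₗ[R] (R ⧸ Ideal.span {ϖ ^ n}))) =
      Module.finrank (IsLocalRing.ResidueField R) (IsLocalRing.ResidueField R ⊗[R] M) := by
  classical
  set k := IsLocalRing.ResidueField R with hk
  set Q := R ⧸ Ideal.span {ϖ ^ n} with hQ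
  -- generators of M
  obtain ⟨f, hf⟩ := exists_gens R M
  let ρ : (M →ₗ[R] Q) →ₗ[R] (Fin (Module.finrank k (k ⊗[R] M)) → Q) := LinearMap.pi (fun i => LinearMap.applyₗ (f i))
  have hρ : Function.Injective ρ := by
    rw [injective_iff_map_eq_zero]
    intro φ hφ
    apply LinearMap.ext_on hf
    rintro _ ⟨i, rfl⟩
    exact congrFun hφ i
  have hA : Module.finrank k (k ⊗[R] (M →ₗ[R] Q)) ≤ Module.finrank k (k ⊗[R] M) :=
    finrank_le_of_injective R ϖ hϖ n (M →ₗ[R] Q) _ ρ hρ
  haveI : Module.Finite R (M →ₗ[R] Q) := Module.Finite.of_injective ρ hρ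
  obtain ⟨g, hg⟩ := exists_gens R (M →ₗ[R] Q)
  let Φ : M →ₗ[R] (Fin (Module.finrank k (k ⊗[R] (M →ₗ[R] Q))) → Q) := LinearMap.pi (fun j => g j)
  have hΦ : Function.Injective Φ := by
    rw [injective_iff_map_eq_zero]
    intro m hm
    by_contra hne
    obtain ⟨φ, hφ⟩ := separation R ϖ hϖ n M hM m hne
    apply hφ
    have hmem : φ ∈ Submodule.span R (Set.range g) := by rw [hg]; trivial
    refine Submodule.span_induction ?_ ?_ ?_ ?_ hmem
    · rintro _ ⟨j, rfl⟩
      exact congrFun hm j
    · rfl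
    · intro a b _ _ ha hb
      rw [LinearMap.add_apply, ha, hb, add_zero]
    · intro r a _ ha
      rw [LinearMap.smul_apply, ha, smul_zero]
  have hB : Module.finrank k (k ⊗[R] M) ≤ Module.finrank k (k ⊗[R] (M →ₗ[R] Q)) :=
    finrank_le_of_injective R ϖ hϖ n M _ Φ hΦ
  exact le_antisymm hA hB


end Groth.Agent.S15367
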