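import Groth.Statements.S1537
import Groth.Agent.H38.PrimaryConn

set_option autoImplicit false
universe u
open CategoryTheory CategoryTheory.Limits AlgebraicGeometry
open Variety

namespace Groth.Agent.S1537

/-- A connected k-scheme is geometrically connected as soon as it has a point whose residue field
contains no element integral over k other than the elements of k. -/
theorem result (k : Type u) [Field k] (X : Scheme.{u}) [X.Over (Spec (CommRingCat.of k))] [ConnectedSpace X]
    (x : X) (hx : ∀ a : X.residueField x, (Curv2.resMap k X x).IsIntegralElem a → a ∈ (Curv2.resMap k X x).range) :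
    GeometricallyConnected (X ↘ (Spec (CommRingCat.of k))) := by
  letI := (Curv2.resMap k X x).toAlgebra
  have hφ : Spec.map (CommRingCat.ofHom (algebraMap k (X.residueField x))) =
      X.fromSpecResidueField x ≫ (X ↘ Spec (CommRingCat.of k)) :=
    Groth.Agent.H38.PrimaryConn.specMap_resMap (X ↘ Spec (CommRingCat.of k)) x
  refine Groth.Agent.H38.PrimaryConn.geomConn_of_fieldPoint (X ↘ Spec (CommRingCat.of k))
    (X.residueField x) (X.fromSpecResidueField x) hφ.symm ?_
  intro α hα
  have h1 : IsIntegral k α := hα.isIntegral
  exact hx α h1

end Groth.Agent.S1537
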