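import Groth.Statements.S15383
import Groth.Agent.H73.GmPts
import Groth.Agent.H73.NU_SEP
import Groth.Agent.H73.NU_NAT
import Groth.Agent.H76.NU.Free
-- import your own Groth.Agent.* helpers here

set_option autoImplicit false
universe u
open GmDual

namespace Groth.Agent.S15383

open CategoryTheory CategoryTheory.Limits AlgebraicGeometry Opposite in
theorem key (X X' : Scheme.{u}) (f : X' ⟶ X) [IsFinite f] [Flat f]
    [AlgebraicGeometry.IsNoetherian X]
    (N N' : CGrpSh3.pushGm Scheme.fppfPrecoverage f ⟶ CGrpSh2.Gm Scheme.fppfPrecoverage X)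
    (hN : CGrpSh3.IsNormMap Scheme.fppfPrecoverage f N) (hN' : CGrpSh3.IsNormMap Scheme.fppfPrecoverage f N')
    (T : Over X) (t' : (Over.pullback f).obj T ⟶ Red.Gm X') :
    CGrpSh3.normPt Scheme.fppfPrecoverage f N T t' = CGrpSh3.normPt Scheme.fppfPrecoverage f N' T t' := by
  apply Groth.Agent.H73.GmPts.gm_ext
  apply Groth.Agent.H73.NU_SEP.eq_of_locally_eq
  intro t
  obtain ⟨U₀, hU₀, htU₀⟩ : ∃ U₀ : T.left.Opens, IsAffineOpen U₀ ∧ t ∈ U₀ := by
    obtain ⟨_, ⟨U₀, hU₀, rfl⟩, htU₀, -⟩ :=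
      T.left.isBasis_affineOpens.exists_subset_of_mem_open (Set.mem_univ t) isOpen_univ
    exact ⟨U₀, hU₀, htU₀⟩
  have hT₀aff : IsAffine (Over.mk (U₀.ι ≫ T.hom)).left := hU₀
  obtain ⟨a, hta, alg, hfin, hfree, halg⟩ :=
    Groth.Agent.H76.NU.exists_basicOpen_free f (Over.mk (U₀.ι ≫ T.hom)) ⟨t, htU₀⟩
  have hT₁aff : IsAffine (Over.mk (((Over.mk (U₀.ι ≫ T.hom)).left.basicOpen a).ι ≫
      (Over.mk (U₀.ι ≫ T.hom)).hom)).left :=
    (isAffineOpen_top (Over.mk (U₀.ι ≫ T.hom)).left).basicOpen a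
  let J : Over.mk (((Over.mk (U₀.ι ≫ T.hom)).left.basicOpen a).ι ≫ (Over.mk (U₀.ι ≫ T.hom)).hom) ⟶ T :=
    Over.homMk (((Over.mk (U₀.ι ≫ T.hom)).left.basicOpen a).ι ≫ U₀.ι) (by simp)
  refine ⟨_, J.left, ?_, ?_, ?_⟩
  · change IsOpenImmersion (((Over.mk (U₀.ι ≫ T.hom)).left.basicOpen a).ι ≫ U₀.ι)
    infer_instance
  · refine ⟨⟨⟨t, htU₀⟩, hta⟩, rfl⟩
  · rw [← Groth.Agent.H73.GmPts.gmFn_comp, ← Groth.Agent.H73.GmPts.gmFn_comp,
      Groth.Agent.H73.NU_NAT.normPt_naturality, Groth.Agent.H73.NU_NAT.normPt_naturality]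
    rw [@hN _ hT₁aff alg hfin hfree halg _, @hN' _ hT₁aff alg hfin hfree halg _]


open CategoryTheory AlgebraicGeometry in
/-- Let f : X' ⟶ X be a finite flat morphism of Noetherian schemes (so finite locally free). A morphism
of abelian sheaves N : f_* 𝔾_{m,X'} ⟶ 𝔾_{m,X} on the big fppf site of X is called a norm map of f
when, on every affine test scheme T over X for which the functions of T ×_X X' form a finite free
algebra over those of T, it sends an invertible function on T ×_X X' to the determinant of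
multiplication by it. Two norm maps of f are equal: a norm map is determined by its affine-local
description by determinants. -/
theorem result (X X' : Scheme.{u}) (f : X' ⟶ X) [IsFinite f] [Flat f]
    [AlgebraicGeometry.IsNoetherian X]
    (N N' : CGrpSh3.pushGm Scheme.fppfPrecoverage f ⟶ CGrpSh2.Gm Scheme.fppfPrecoverage X)
    (hN : CGrpSh3.IsNormMap Scheme.fppfPrecoverage f N) (hN' : CGrpSh3.IsNormMap Scheme.fppfPrecoverage f N') :
    N = N' := by
  apply Sheaf.hom_ext
  apply NatTrans.ext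
  funext T
  apply AddCommGrpCat.hom_ext
  apply AddMonoidHom.ext
  intro x
  have h := key X X' f N N' hN hN' T.unop x.down.toMul
  rw [CGrpSh3.normPt_def, CGrpSh3.normPt_def] at h
  apply ULift.ext
  exact congrArg Additive.ofMul h

end Groth.Agent.S15383
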