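import Groth.Statements.S15391
import Mathlib

set_option autoImplicit false
universe u
open TensorProduct
open TorFree

namespace Groth.Agent.S15391

open TensorProduct in
theorem exists_smul_eq_zero_of_minimal (R : Type u) [CommRing R] [IsReduced R] (p : Ideal R)
    [p.IsPrime] (hp : p ∈ minimalPrimes R) (M : Type u) [AddCommGroup M] [Module R M] (t : M)
    (ht : (1 : p.ResidueField) ⊗ₜ[R] t = 0) : ∃ s : R, s ∉ p ∧ s • t = 0 := by
  have hmax : IsLocalRing.maximalIdeal (Localization.AtPrime p) = ⊥ := by
    have h1 := IsLocalization.AtPrime.radical_map_of_mem_minimalPrimes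
      (A := Localization.AtPrime p) p ⊥ hp
    rw [Ideal.map_bot, IsLocalization.AtPrime.map_eq_maximalIdeal p (Localization.AtPrime p)] at h1
    rw [← h1]
    exact nilradical_eq_zero (Localization.AtPrime p)
  have hinj : Function.Injective (algebraMap (Localization.AtPrime p) p.ResidueField) := by
    rw [RingHom.injective_iff_ker_eq_bot]
    show RingHom.ker (IsLocalRing.residue (Localization.AtPrime p)) = ⊥
    rw [IsLocalRing.ker_residue, hmax]
  have hsurj : Function.Surjective (algebraMap (Localization.AtPrime p) p.ResidueField) :=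
    IsLocalRing.residue_surjective
  let e : Localization.AtPrime p ≃ₗ[R] p.ResidueField :=
    LinearEquiv.ofBijective
      ((Algebra.linearMap (Localization.AtPrime p) p.ResidueField).restrictScalars R) ⟨hinj, hsurj⟩
  have h1 : (1 : Localization.AtPrime p) ⊗ₜ[R] t = 0 := by
    apply (TensorProduct.congr e (LinearEquiv.refl R M)).injective
    rw [TensorProduct.congr_tmul, map_zero]
    have : e 1 = 1 := map_one (algebraMap (Localization.AtPrime p) p.ResidueField)
    rw [this]; exact ht
  have h2 := (IsLocalizedModule.eq_zero_iff p.primeCompl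
    (TensorProduct.mk R (Localization.AtPrime p) M 1)).1 h1
  obtain ⟨s, hs⟩ := h2
  exact ⟨s.1, s.2, hs⟩

/-- Let R be a reduced Noetherian commutative ring, M a finitely generated torsion-free R-module (no
non-zero element of M is annihilated by a non-zero-divisor of R), and t an element of M whose image
1 ⊗ t in the fibre κ(p) ⊗_R M vanishes for every prime ideal p of R, κ(p) being the residue field at
p. Then t = 0. This is the affine form of the claim that a global section of a coherent torsion-free
module on a reduced Noetherian scheme which vanishes in every fibre is zero. -/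
theorem result (R : Type u) [CommRing R] [IsReduced R] [IsNoetherianRing R]
    (M : Type u) [AddCommGroup M] [Module R M] [Module.Finite R M] [Module.IsTorsionFree R M]
    (t : M) (ht : ∀ p : PrimeSpectrum R, (1 : p.asIdeal.ResidueField) ⊗ₜ[R] t = (0 : p.asIdeal.ResidueField ⊗[R] M)) :
    t = 0 := by

  classical
  have hfin := minimalPrimes.finite_of_isNoetherianRing R
  have hs : ∀ p ∈ minimalPrimes R, ∃ s : R, s ∉ p ∧ s • t = 0 := by
    intro p hp
    have := hp.1.1
    exact exists_smul_eq_zero_of_minimal R p hp M t (ht ⟨p, hp.1.1⟩)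
  let I : Ideal R := LinearMap.ker (LinearMap.toSpanSingleton R M t)
  have hI : ∀ a, a ∈ I ↔ a • t = 0 := fun a => by
    simp [I, LinearMap.mem_ker, LinearMap.toSpanSingleton_apply]
  have hex : ∃ a ∈ I, ∀ p ∈ minimalPrimes R, a ∉ p := by
    by_contra hcon
    push Not at hcon
    have hsub : (I : Set R) ⊆ ⋃ p ∈ (↑hfin.toFinset : Set (Ideal R)), ((id p : Ideal R) : Set R) := by
      intro a ha
      obtain ⟨p, hp, hap⟩ := hcon a ha
      simp only [Set.mem_iUnion]
      exact ⟨p, by simpa using hp, hap⟩
    rw [Ideal.subset_union_prime (f := id) ⊥ ⊥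
      (fun p hp _ _ => ((hfin.mem_toFinset.1 hp)).1.1)] at hsub
    obtain ⟨p, hp, hle⟩ := hsub
    have hp' := hfin.mem_toFinset.1 hp
    obtain ⟨s, hsp, hst⟩ := hs p hp'
    exact hsp (hle ((hI s).2 hst))
  obtain ⟨a, haI, hap⟩ := hex
  have hreg : IsRegular a := by
    rw [isRegular_iff_mem_nonZeroDivisors, mem_nonZeroDivisors_iff_left]
    intro x hx
    have hx' : x ∈ sInf (minimalPrimes R) := by
      rw [Ideal.mem_sInf]
      intro p hp
      have : a * x ∈ p := by rw [hx]; exact p.zero_mem
      exact (hp.1.1.mem_or_mem this).resolve_left (hap p hp)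
    have hrad : sInf (minimalPrimes R) = (⊥ : Ideal R) := by
      show sInf ((⊥ : Ideal R).minimalPrimes) = ⊥
      rw [Ideal.sInf_minimalPrimes]; exact nilradical_eq_zero R
    rw [hrad] at hx'
    exact hx'
  have hsm := Module.IsTorsionFree.isSMulRegular (M := M) hreg
  apply hsm
  show a • t = a • 0
  rw [smul_zero]; exact (hI a).1 haI

end Groth.Agent.S15391
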