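import Groth.Statements.S1540
import Groth.Agent.H38.GenericFibre

set_option autoImplicit false
universe u
open CategoryTheory CategoryTheory.Limits AlgebraicGeometry
attribute [local instance] Curv2.resAlgebra Curv2.stalkAlgebra
open Variety

namespace Groth.Agent.S1540

/-- An irreducible scheme X over k with generic point ξ is geometrically irreducible if and only if the
separable algebraic closure of k in the residue field of ξ is k itself. -/
theorem result (k : Type u) [Field k] (X : Scheme.{u}) [X.Over (Spec (CommRingCat.of k))] [IrreducibleSpace X] :
    GeometricallyIrreducible (X ↘ (Spec (CommRingCat.of k))) ↔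
      ∀ a : X.residueField (genericPoint X), IsSeparable k a → a ∈ Set.range (algebraMap k (X.residueField (genericPoint X))) := by
  classical
  have key : ∀ (K : Type u) [Field K] [Algebra k K],
      IrreducibleSpace ↥(pullback (X ↘ (Spec (CommRingCat.of k)))
        (Spec.map (CommRingCat.ofHom (algebraMap k K)))) ↔
      IrreducibleSpace (PrimeSpectrum
        (TensorProduct k K (X.residueField (genericPoint X)))) := by
    intro K _ _
    rw [Groth.Agent.H38.GenericFibre.irreducibleSpace_pullback_iff_generic
      (X ↘ (Spec (CommRingCat.of k))) K]
    exact (PrimeSpectrum.homeomorphOfRingEquiv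
      (Algebra.TensorProduct.comm k (X.residueField (genericPoint X)) K).toRingEquiv).irreducibleSpace_iff
  rw [← Groth.Agent.S2150.result]
  constructor
  · intro h K _ _
    have h1 := (geometrically_iff_of_commRing_of_isClosedUnderIsomorphisms).mp h.1 K
    exact (key K).mp h1
  · intro h
    refine ⟨geometrically_iff_of_commRing_of_isClosedUnderIsomorphisms.mpr fun K _ _ => ?_⟩
    exact (key K).mpr (h K)

end Groth.Agent.S1540
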