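import Groth.Statements.S15411
import Mathlib

set_option autoImplicit false
universe u
open scoped TensorProduct
open Hopf

namespace Groth.Agent.S15411

section eq
variable {K : Type u} [Field K] {ιv ιe : Type u} [Finite ιv]
  {Kv : ιv → Type u} [∀ i, CommRing (Kv i)] [∀ i, Algebra K (Kv i)]
  {Ke : ιe → Type u} [∀ k, CommRing (Ke k)] [∀ k, Algebra K (Ke k)]
  {l r : ιe → ιv} {ρl : ∀ k, Kv (l k) →ₐ[K] Ke k} {ρr : ∀ k, Kv (r k) →ₐ[K] Ke k}

theorem repr_nat {S S' : Type u} [CommRing S] [Algebra K S] [CommRing S'] [Algebra K S']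
    (ρ : S →ₐ[K] S') {M : Type u} [AddCommGroup M] [Module K M] {J : Type u}
    (b : Module.Basis J K M) (z : S ⊗[K] M) (j : J) :
    (b.baseChange S').repr (ρ.toLinearMap.rTensor M z) j = ρ ((b.baseChange S).repr z j) := by
  induction z using TensorProduct.induction_on with
  | zero => simp
  | tmul s m => simp
  | add x y hx hy => simp only [map_add, Finsupp.add_apply, hx, hy]

theorem injK
    (hlim : ∀ x : (∀ i, Kv i), (∀ k, ρl k (x (l k)) = ρr k (x (r k))) →
      ∃! a : K, ∀ i, algebraMap K (Kv i) a = x i)
    (a a' : K) (h : ∀ i, algebraMap K (Kv i) a = algebraMap K (Kv i) a') : a = a' := by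
  obtain ⟨c, _, hc⟩ := hlim (fun i => algebraMap K (Kv i) a') (fun k => by simp)
  rw [hc a h, hc a' (fun _ => rfl)]

theorem injM
    (hlim : ∀ x : (∀ i, Kv i), (∀ k, ρl k (x (l k)) = ρr k (x (r k))) →
      ∃! a : K, ∀ i, algebraMap K (Kv i) a = x i)
    (M : Type u) [AddCommGroup M] [Module K M] (m m' : M)
    (h : ∀ i, (1 : Kv i) ⊗ₜ[K] m = (1 : Kv i) ⊗ₜ[K] m') : m = m' := by
  let b := Module.Free.chooseBasis K M
  apply b.repr.injective
  ext j
  apply injK hlim
  intro i
  have := congrArg (fun z => (b.baseChange (Kv i)).repr z j) (h i)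
  simp only [Module.Basis.baseChange_repr_tmul] at this
  rw [Algebra.algebraMap_eq_smul_one, Algebra.algebraMap_eq_smul_one]
  exact this

theorem eqM
    (hlim : ∀ x : (∀ i, Kv i), (∀ k, ρl k (x (l k)) = ρr k (x (r k))) →
      ∃! a : K, ∀ i, algebraMap K (Kv i) a = x i)
    (M : Type u) [AddCommGroup M] [Module K M] (y : ∀ i, Kv i ⊗[K] M)
    (hy : ∀ k, (ρl k).toLinearMap.rTensor M (y (l k)) = (ρr k).toLinearMap.rTensor M (y (r k))) :
    ∃ m : M, ∀ i, (1 : Kv i) ⊗ₜ[K] m = y i := by
  classical
  let b := Module.Free.chooseBasis K M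
  have hx : ∀ j, ∀ k, ρl k ((b.baseChange (Kv (l k))).repr (y (l k)) j) =
      ρr k ((b.baseChange (Kv (r k))).repr (y (r k)) j) := by
    intro j k
    rw [← repr_nat, ← repr_nat, hy k]
  choose a ha using fun j => (hlim (fun i => (b.baseChange (Kv i)).repr (y i) j) (hx j))
  have hfin : (Function.support a).Finite := by
    refine Set.Finite.subset (Set.finite_iUnion
      (fun i : ιv => Finsupp.finite_support ((b.baseChange (Kv i)).repr (y i)))) ?_
    intro j hj
    by_contra hcon
    rw [Set.mem_iUnion] at hcon
    push_neg at hcon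
    apply hj
    refine ((ha j).2 0 (fun i => ?_)).symm
    have := hcon i
    rw [Function.mem_support, not_not] at this
    rw [map_zero, this]
  refine ⟨b.repr.symm (Finsupp.ofSupportFinite a hfin), fun i => ?_⟩
  apply (b.baseChange (Kv i)).repr.injective
  ext j
  rw [Module.Basis.baseChange_repr_tmul, LinearEquiv.apply_symm_apply, Finsupp.ofSupportFinite_coe,
    ← (ha j).1 i, Algebra.algebraMap_eq_smul_one]

end eq

theorem map_eq_rTensor {K S S' A : Type u} [Field K] [CommRing S] [Algebra K S] [CommRing S']
    [Algebra K S'] [CommRing A] [Algebra K A] (ρ : S →ₐ[K] S') (z : S ⊗[K] A) :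
    Algebra.TensorProduct.map ρ (AlgHom.id K A) z = ρ.toLinearMap.rTensor A z := by
  induction z using TensorProduct.induction_on with
  | zero => simp
  | tmul s m => simp
  | add x y hx hy => simp only [map_add, hx, hy]

theorem comul_one_tmul {K : Type u} [Field K] (S : Type u) [CommRing S] [Algebra K S]
    (N : Type u) [AddCommGroup N] [Module K N] [Coalgebra K N] (n : N) :
    Coalgebra.comul (R := S) ((1 : S) ⊗ₜ[K] n) =
      TensorProduct.AlgebraTensorModule.distribBaseChange K S N N
        ((1 : S) ⊗ₜ[K] Coalgebra.comul (R := K) n) := by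
  rw [TensorProduct.comul_tmul, CommSemiring.comul_apply]
  generalize Coalgebra.comul (R := K) n = z
  induction z using TensorProduct.induction_on with
  | zero => simp
  | tmul a a' => rfl
  | add x y hx hy => simp only [TensorProduct.tmul_add, map_add, hx, hy]

/-- Let K be a field and let finitely many commutative K-algebras be given in two layers, K_i for each
vertex i and K_k for each edge k, with K-algebra maps from K_{l k} and from K_{r k} into K_k for
every edge k, such that K is the equalizer of the system: every family (x_i) whose two images in K_k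
agree for every k comes from exactly one element of K. Let A and B be commutative K-bialgebras
(coordinate rings of affine group or monoid schemes over K) and let u_i : K_i ⊗ B ≅ K_i ⊗ A be
isomorphisms of K_i-bialgebras such that, for every edge k, the base changes of u_{l k} and u_{r k}
to K_k agree. Then there is exactly one isomorphism of K-bialgebras v : B ≅ A inducing every u_i,
that is with u_i (1 ⊗ b) = 1 ⊗ v b. (The published statement is for the system obtained from a
finite inverse factorization system of fields by base change to a finite separable extension K, and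
for linear algebraic groups; this row keeps from that setting only what the argument uses: K is a
field and is the equalizer of the finite system, and the group schemes are affine.) -/
theorem result
    (K : Type u) [Field K] (ιv ιe : Type u) [Finite ιv] [Finite ιe]
    (Kv : ιv → Type u) [∀ i, CommRing (Kv i)] [∀ i, Algebra K (Kv i)]
    (Ke : ιe → Type u) [∀ k, CommRing (Ke k)] [∀ k, Algebra K (Ke k)]
    (l r : ιe → ιv) (ρl : ∀ k, Kv (l k) →ₐ[K] Ke k) (ρr : ∀ k, Kv (r k) →ₐ[K] Ke k)
    (hlim : ∀ x : (∀ i, Kv i), (∀ k, ρl k (x (l k)) = ρr k (x (r k))) →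
      ∃! a : K, ∀ i, algebraMap K (Kv i) a = x i)
    (A B : Type u) [CommRing A] [CommRing B] [Bialgebra K A] [Bialgebra K B]
    (u : ∀ i, (Kv i ⊗[K] B) ≃ₐc[Kv i] (Kv i ⊗[K] A))
    (hu : ∀ (k : ιe) (b : B),
      Algebra.TensorProduct.map (ρl k) (AlgHom.id K A) (u (l k) (1 ⊗ₜ[K] b)) =
        Algebra.TensorProduct.map (ρr k) (AlgHom.id K A) (u (r k) (1 ⊗ₜ[K] b))) :
    ∃! v : B ≃ₐc[K] A, ∀ (i : ιv) (b : B), u i (1 ⊗ₜ[K] b) = 1 ⊗ₜ[K] v b := by
  classical
  have hyA : ∀ b : B, ∀ k, (ρl k).toLinearMap.rTensor A (u (l k) (1 ⊗ₜ[K] b)) =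
      (ρr k).toLinearMap.rTensor A (u (r k) (1 ⊗ₜ[K] b)) := by
    intro b k
    rw [← map_eq_rTensor, ← map_eq_rTensor]
    exact hu k b
  choose v hv using fun b => eqM hlim A (fun i => u i (1 ⊗ₜ[K] b)) (hyA b)
  have inj := injM hlim A
  have hsmul : ∀ (i : ιv) (c : K) (z : Kv i ⊗[K] B), u i (c • z) = c • u i z := by
    intro i c z
    rw [← algebraMap_smul (Kv i) c z, map_smul, algebraMap_smul]
  let vAlg : B →ₐ[K] A :=
    { toFun := v
      map_one' := inj _ _ (fun i => by
        rw [hv]; simp only [← Algebra.TensorProduct.one_def, map_one])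
      map_mul' := fun b b' => inj _ _ (fun i => by
        have h1 : (1 : Kv i) ⊗ₜ[K] (b * b') = (1 ⊗ₜ b) * (1 ⊗ₜ b') := by
          rw [Algebra.TensorProduct.tmul_mul_tmul, mul_one]
        rw [hv, h1, map_mul, ← hv, ← hv, Algebra.TensorProduct.tmul_mul_tmul, mul_one])
      map_zero' := inj _ _ (fun i => by
        rw [hv, TensorProduct.tmul_zero, map_zero, TensorProduct.tmul_zero])
      map_add' := fun b b' => inj _ _ (fun i => by
        rw [hv, TensorProduct.tmul_add, map_add, ← hv, ← hv, TensorProduct.tmul_add])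
      commutes' := fun c => inj _ _ (fun i => by
        rw [hv]
        simp only [Algebra.algebraMap_eq_smul_one, TensorProduct.tmul_smul, hsmul,
          ← Algebra.TensorProduct.one_def, map_one]) }
  have hvAlg : ∀ b, vAlg b = v b := fun b => rfl
  -- counit
  have hcounit : ∀ b, Coalgebra.counit (R := K) (v b) = Coalgebra.counit (R := K) b := by
    intro b
    apply injK hlim
    intro i
    have h1 := CoalgHomClass.counit_comp_apply (u i) ((1 : Kv i) ⊗ₜ[K] b)
    rw [← hv] at h1
    simp only [TensorProduct.counit_tmul, CommSemiring.counit_apply] at h1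
    rw [Algebra.algebraMap_eq_smul_one, Algebra.algebraMap_eq_smul_one]
    exact h1
  -- comul
  have hcomul : ∀ b, Algebra.TensorProduct.map vAlg vAlg (Coalgebra.comul (R := K) b) =
      Coalgebra.comul (R := K) (v b) := by
    intro b
    apply injM hlim (A ⊗[K] A)
    intro i
    apply (TensorProduct.AlgebraTensorModule.distribBaseChange K (Kv i) A A).injective
    rw [← comul_one_tmul (Kv i) A (v b), hv, ← CoalgHomClass.map_comp_comul_apply (u i),
      comul_one_tmul (Kv i) B b]
    generalize Coalgebra.comul (R := K) b = w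
    induction w using TensorProduct.induction_on with
    | zero => simp
    | tmul b₁ b₂ =>
      simp only [Algebra.TensorProduct.map_tmul,
        TensorProduct.AlgebraTensorModule.distribBaseChange_tmul, TensorProduct.map_tmul, hvAlg]
      rw [hv, hv]
      rfl
    | add x y hx hy => simp only [TensorProduct.tmul_add, map_add, hx, hy]
  -- bijectivity
  obtain ⟨i₀, hi₀⟩ : ∃ i, Nontrivial (Kv i) := by
    by_contra hcon
    push_neg at hcon
    have : (0 : K) = 1 := injK hlim 0 1 (fun i => by
      have := hcon i
      exact Subsingleton.elim _ _)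
    exact zero_ne_one this
  have hu0 : ∀ z, (vAlg.toLinearMap.lTensor (Kv i₀)) z = u i₀ z := by
    intro z
    induction z using TensorProduct.induction_on with
    | zero => simp
    | tmul s b =>
      have h1 : s ⊗ₜ[K] b = s • ((1 : Kv i₀) ⊗ₜ[K] b) := by
        rw [TensorProduct.smul_tmul', smul_eq_mul, mul_one]
      rw [LinearMap.lTensor_tmul, h1, map_smul, ← hv, TensorProduct.smul_tmul', smul_eq_mul, mul_one]
      rfl
    | add x y hx hy => simp only [map_add, hx, hy]
  have hbij : Function.Bijective vAlg := by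
    have h1 : Function.Bijective (vAlg.toLinearMap.lTensor (Kv i₀)) := by
      have : ⇑(vAlg.toLinearMap.lTensor (Kv i₀)) = ⇑(u i₀) := funext hu0
      rw [this]
      exact EquivLike.bijective (u i₀)
    exact (Module.FaithfullyFlat.lTensor_bijective_iff_bijective K (Kv i₀) vAlg.toLinearMap).mp h1
  let vB : B →ₐc[K] A := BialgHom.ofAlgHom vAlg (AlgHom.ext fun b => hcounit b)
    (AlgHom.ext fun b => hcomul b)
  refine ⟨BialgEquiv.ofBijective vB hbij, fun i b => (hv b i).symm, fun v' hv' => ?_⟩
  refine BialgEquiv.ext fun b => inj _ _ (fun i => ?_)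
  rw [← hv' i b]
  exact (hv b i).symm

end Groth.Agent.S15411
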