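import Groth.Statements.S15415
import Mathlib
import Groth.Agent.H86.RedNormUniq
import Groth.Agent.H79.GalDescent
import Groth.Agent.S13692

set_option autoImplicit false
universe u v w
open scoped TensorProduct
attribute [local instance] CSAGal.tensorAction GpH1.unitsAction
open GalCoh

namespace Groth.Agent.S15415

/-- For a central simple algebra over a field, the first Galois cohomology set of its norm-one group is
identified with the nonzero scalars modulo the reduced norms of units, by the boundary map of the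
sequence norm-one units → units → nonzero scalars. Finite-level form: let k be a field, K a finite
Galois extension of k whose Galois group acts on K ⊗_k A through the first factor, A a
finite-dimensional central simple k-algebra split by K, N the reduced norm of A over k and N_K the
reduced norm of K ⊗_k A over K. Then (i) every 1-cocycle a with values in the units of K ⊗_k A of
reduced norm one is of the form a σ = b⁻¹ · σ(b) for a unit b whose reduced norm is an element c of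
kˣ; and (ii) for units b, b' of K ⊗_k A with reduced norms c, c' in kˣ, the cocycles σ ↦ b⁻¹σ(b) and
σ ↦ b'⁻¹σ(b') are cohomologous through a unit of reduced norm one if and only if c' = N(x) · c for
some unit x of A. (Since K splits A the reduced norm N_K takes every value in kˣ, so (i) and (ii)
say that c ↦ class of b⁻¹σ(b), N_K b = c, is a well-defined bijection from kˣ/N(Aˣ) onto the
cohomology set of the norm-one units. The published statement is for the absolute Galois group of a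
field of characteristic different from 2, an assumption playing no role here; this row is the
finite-level form over a splitting field.) -/
theorem result
    (k : Type u) [Field k] (K : Type v) [Field K] [Algebra k K] [FiniteDimensional k K] [IsGalois k K]
    (A : Type w) [Ring A] [Algebra k A] [Algebra.IsCentral k A] [IsSimpleRing A] [FiniteDimensional k A]
    (hA : Curves.Splits k A K)
    (N : A →* k) (hN : CSAGal.IsRedNorm k A N)
    (NK : (K ⊗[k] A) →* K) (hNK : CSAGal.IsRedNorm K (K ⊗[k] A) NK) :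
    (∀ a : GpH1.OneCocycle (K ≃ₐ[k] K) (K ⊗[k] A)ˣ, (∀ σ, NK (a σ : K ⊗[k] A) = 1) →
        ∃ (c : kˣ) (b : (K ⊗[k] A)ˣ), NK (b : K ⊗[k] A) = algebraMap k K (c : k) ∧
          ∀ σ : K ≃ₐ[k] K, a σ = b⁻¹ * σ • b) ∧
    (∀ (c c' : kˣ) (b b' : (K ⊗[k] A)ˣ),
        NK (b : K ⊗[k] A) = algebraMap k K (c : k) → NK (b' : K ⊗[k] A) = algebraMap k K (c' : k) →
        ((∃ s : (K ⊗[k] A)ˣ, NK (s : K ⊗[k] A) = 1 ∧
            ∀ σ : K ≃ₐ[k] K, b'⁻¹ * σ • b' = s⁻¹ * (b⁻¹ * σ • b) * σ • s) ↔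
          ∃ x : Aˣ, (c' : k) = N (x : A) * (c : k))) := by
  classical
  obtain ⟨n, hn, ⟨χ⟩⟩ := hA
  have hF2 : ∀ a : A, NK ((1 : K) ⊗ₜ[k] a) = algebraMap k K (N a) := fun a =>
    Groth.Agent.H86.RedNormUniq.redNorm_one_tmul hN hNK χ a
  have hF1 : ∀ (σ : K ≃ₐ[k] K) (x : K ⊗[k] A), NK (σ • x) = σ (NK x) := fun σ x =>
    Groth.Agent.H86.RedNormUniq.redNorm_smul hNK χ σ x
  have hcoe : ∀ (σ : K ≃ₐ[k] K) (u : (K ⊗[k] A)ˣ),
      ((σ • u : (K ⊗[k] A)ˣ) : K ⊗[k] A) = σ • (u : K ⊗[k] A) := fun σ u => rfl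
  have hfix : ∀ u : (K ⊗[k] A)ˣ, (∀ σ : K ≃ₐ[k] K, σ • u = u) →
      ∃ y : Aˣ, (u : K ⊗[k] A) = (1 : K) ⊗ₜ[k] (y : A) := by
    intro u hu
    have hu1 : ∀ σ : K ≃ₐ[k] K, σ • (u : K ⊗[k] A) = u := fun σ => congrArg Units.val (hu σ)
    have hu2 : ∀ σ : K ≃ₐ[k] K,
        σ • ((u⁻¹ : (K ⊗[k] A)ˣ) : K ⊗[k] A) = (u⁻¹ : (K ⊗[k] A)ˣ) := by
      intro σ
      have h : σ • u⁻¹ = u⁻¹ := by rw [smul_inv', hu σ]
      exact congrArg Units.val h
    obtain ⟨y, hy⟩ := Groth.Agent.H79.GalDescent.fixed_eq_one_tmul (u : K ⊗[k] A) hu1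
    obtain ⟨y', hy'⟩ := Groth.Agent.H79.GalDescent.fixed_eq_one_tmul
      ((u⁻¹ : (K ⊗[k] A)ˣ) : K ⊗[k] A) hu2
    have hinj := Groth.Agent.H79.GalDescent.one_tmul_injective (k := k) (K := K) (W := A)
    have h1 : y * y' = 1 := by
      apply hinj
      show (1 : K) ⊗ₜ[k] (y * y') = (1 : K) ⊗ₜ[k] (1 : A)
      have h : (1 : K) ⊗ₜ[k] (y * y') = ((1 : K) ⊗ₜ[k] y) * ((1 : K) ⊗ₜ[k] y') := by
        rw [Algebra.TensorProduct.tmul_mul_tmul, one_mul]
      rw [h, ← hy, ← hy', Units.mul_inv]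
      rfl
    have h2 : y' * y = 1 := by
      apply hinj
      show (1 : K) ⊗ₜ[k] (y' * y) = (1 : K) ⊗ₜ[k] (1 : A)
      have h : (1 : K) ⊗ₜ[k] (y' * y) = ((1 : K) ⊗ₜ[k] y') * ((1 : K) ⊗ₜ[k] y) := by
        rw [Algebra.TensorProduct.tmul_mul_tmul, one_mul]
      rw [h, ← hy, ← hy', Units.inv_mul]
      rfl
    exact ⟨⟨y, y', h1, h2⟩, hy⟩
  refine ⟨?_, ?_⟩
  · intro a ha
    have htriv := Groth.Agent.S13692.result k K A a.cl
    rw [GpH1.H1.pt, GpH1.OneCocycle.cl_eq_cl_iff] at htriv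
    obtain ⟨b, hb⟩ := htriv
    have hb' : ∀ σ : K ≃ₐ[k] K, a σ = b⁻¹ * σ • b := by
      intro σ
      have h := hb σ
      have ht : (GpH1.OneCocycle.trivial : GpH1.OneCocycle (K ≃ₐ[k] K) (K ⊗[k] A)ˣ) σ = 1 := rfl
      rw [ht, mul_one] at h
      exact h
    have h2 : NK ((b⁻¹ : (K ⊗[k] A)ˣ) : K ⊗[k] A) * NK (b : K ⊗[k] A) = 1 := by
      rw [← map_mul, Units.inv_mul, map_one]
    have hfixN : ∀ σ : K ≃ₐ[k] K, σ (NK (b : K ⊗[k] A)) = NK (b : K ⊗[k] A) := by
      intro σ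
      have h1 := ha σ
      rw [hb' σ, Units.val_mul, map_mul, hcoe, hF1] at h1
      exact mul_left_cancel₀ (left_ne_zero_of_mul_eq_one h2) (h1.trans h2.symm)
    obtain ⟨c0, hc0⟩ := (IsGalois.mem_range_algebraMap_iff_fixed _).mpr hfixN
    have hc0ne : c0 ≠ 0 := by
      intro h
      rw [h, map_zero] at hc0
      exact (right_ne_zero_of_mul_eq_one h2) hc0.symm
    exact ⟨Units.mk0 c0 hc0ne, b, hc0.symm, hb'⟩
  · intro c c' b b' hb hb'
    constructor
    · rintro ⟨s, hs1, hs⟩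
      have ht : ∀ σ : K ≃ₐ[k] K, σ • (b * s * b'⁻¹) = b * s * b'⁻¹ := by
        intro σ
        rw [smul_mul', smul_mul', smul_inv']
        have h := hs σ
        have h' : σ • b * σ • s = b * s * (b'⁻¹ * σ • b') := by
          rw [h]
          group
        calc σ • b * σ • s * (σ • b')⁻¹ = b * s * (b'⁻¹ * σ • b') * (σ • b')⁻¹ := by rw [h']
          _ = b * s * b'⁻¹ := by group
      obtain ⟨y, hy⟩ := hfix _ ht
      have hN1 : NK ((b * s * b'⁻¹ : (K ⊗[k] A)ˣ) : K ⊗[k] A) = algebraMap k K (N y) := by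
        rw [hy, hF2]
      have hN2 : NK ((b * s * b'⁻¹ : (K ⊗[k] A)ˣ) : K ⊗[k] A) * algebraMap k K c' =
          algebraMap k K c := by
        rw [Units.val_mul, Units.val_mul, map_mul, map_mul, hb, hs1, mul_one, mul_assoc, ← hb',
          ← map_mul, Units.inv_mul, map_one, mul_one]
      have h3 : N y * c' = c := by
        apply (algebraMap k K).injective
        rw [map_mul, ← hN1, hN2]
      refine ⟨y⁻¹, ?_⟩
      have h4 : N ((y⁻¹ : Aˣ) : A) * N (y : A) = 1 := by
        rw [← map_mul, Units.inv_mul, map_one]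
      rw [← h3, ← mul_assoc, h4, one_mul]
    · rintro ⟨x, hx⟩
      obtain ⟨ux, hux0⟩ : ∃ ux : (K ⊗[k] A)ˣ, (ux : K ⊗[k] A) = (1 : K) ⊗ₜ[k] (x : A) :=
        ⟨Units.map (Algebra.TensorProduct.includeRight : A →ₐ[k] K ⊗[k] A).toMonoidHom x, rfl⟩
      have hux : ∀ σ : K ≃ₐ[k] K, σ • ux = ux := by
        intro σ
        apply Units.ext
        rw [hcoe, hux0, TensorProduct.smul_tmul', smul_one]
      have hNux : NK (ux : K ⊗[k] A) = algebraMap k K (N x) := by rw [hux0, hF2]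
      refine ⟨b⁻¹ * ux⁻¹ * b', ?_, ?_⟩
      · rw [Units.val_mul, Units.val_mul, map_mul, map_mul, hb']
        have e1 : NK ((b⁻¹ : (K ⊗[k] A)ˣ) : K ⊗[k] A) * algebraMap k K c = 1 := by
          rw [← hb, ← map_mul, Units.inv_mul, map_one]
        have e2 : NK ((ux⁻¹ : (K ⊗[k] A)ˣ) : K ⊗[k] A) * algebraMap k K (N x) = 1 := by
          rw [← hNux, ← map_mul, Units.inv_mul, map_one]
        rw [hx, map_mul]
        calc NK ((b⁻¹ : (K ⊗[k] A)ˣ) : K ⊗[k] A) * NK ((ux⁻¹ : (K ⊗[k] A)ˣ) : K ⊗[k] A) *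
              (algebraMap k K (N x) * algebraMap k K c)
            = (NK ((b⁻¹ : (K ⊗[k] A)ˣ) : K ⊗[k] A) * algebraMap k K c) *
              (NK ((ux⁻¹ : (K ⊗[k] A)ˣ) : K ⊗[k] A) * algebraMap k K (N x)) := by ring
          _ = 1 := by rw [e1, e2, one_mul]
      · intro σ
        rw [smul_mul', smul_mul', smul_inv', smul_inv', hux σ]
        group

end Groth.Agent.S15415
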