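import Groth.Statements.S15418
import Groth.Agent.H98.GrPoly

set_option autoImplicit false
universe u
open GrSyz

namespace Groth.Agent.S15418


open Groth.Agent.H98.GrCat Groth.Agent.H98.GrConv

/-- Let k be a field, S = k[x_0, …, x_r] graded by degree, 𝔪 = (x_0, …, x_r), M a finitely generated
ℤ-graded S-module, F a minimal graded free resolution of M by finite-rank free modules with
homogeneous bases (all matrix entries in 𝔪), and d an integer; graded local cohomology is computed
from any *injective resolution of M in the graded category. Then every term F_i is generated in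
degrees at most d + i if and only if M is d-regular: H^0_𝔪(M) has no nonzero piece in degrees above
d and H^i_𝔪(M) vanishes in degree d − i + 1 for every i > 0. (Stated for an arbitrary minimal
resolution in place of the regularity of M.) -/
theorem result (k : Type u) [Field k] (r : ℕ)
    (M : Type u) [AddCommGroup M] [Module k M] [Module (MvPolynomial (Fin (r + 1)) k) M]
    [IsScalarTower k (MvPolynomial (Fin (r + 1)) k) M] [Module.Finite (MvPolynomial (Fin (r + 1)) k) M]
    (ℳ : ℤ → Submodule k M) [DirectSum.Decomposition ℳ] [SetLike.GradedSMul (GrSyz.stdGr k (Fin (r + 1))) ℳ]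
    (F : GrSyz.FreeRes (GrSyz.stdGr k (Fin (r + 1))) ℳ) (hF : F.IsMinimal (GrSyz.irrel (GrSyz.stdGr k (Fin (r + 1)))).toIdeal)
    (E : GrLC.StarInjRes (GrSyz.stdGr k (Fin (r + 1))) ℳ) (d : ℤ) :
    F.IsGenLE d ↔ (GrLC.endDeg (E.Hgr (GrSyz.irrel (GrSyz.stdGr k (Fin (r + 1)))) 0) ≤ ((d : WithTop ℤ) : WithBot (WithTop ℤ)) ∧
      ∀ i : ℕ, 0 < i → E.Hcomp (GrSyz.irrel (GrSyz.stdGr k (Fin (r + 1)))) i (d - (i : ℤ) + 1) = ⊥) := by
  rw [eg_main k r M ℳ F hF d]
  constructor
  · intro h
    refine ⟨?_, fun i hi => ?_⟩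
    · rw [endDeg_le_iff]
      intro e he
      exact (Hgr_eq_bot_iff_vn E _ 0 e).2 (h 0 e (by push_cast; omega) _)
    · exact (Hcomp_eq_bot_iff_vn E _ i _).2 (h i _ (by omega) _)
  · rintro ⟨h0, hi⟩
    have hreg1 : ∀ i' : ℕ, 1 ≤ i' → HV (Pm k r) (GrLC.GMod.of (PA k r) M (toAS ℳ)) i'
        (d + 1 - (i' : ℤ)) := by
      intro i' hi'
      have e : d + 1 - (i' : ℤ) = d - (i' : ℤ) + 1 := by ring
      rw [e]
      exact hv_of_vn _ ((Hcomp_eq_bot_iff_vn E _ i' _).1 (hi i' hi'))
    intro i j hj
    cases i with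
    | zero =>
      have h1 := (endDeg_le_iff _ d).1 h0 j (by push_cast at hj; omega)
      exact hv_of_vn _ ((Hgr_eq_bot_iff_vn E _ 0 j).1 h1)
    | succ i =>
      have hprop := hv_propagate (Pm k r) (stdGr_hhom k (Fin (r + 1)))
        (GrLC.GMod.of (PA k r) M (toAS ℳ)) d 1 le_rfl hreg1 (i + 1) (by omega)
        (j + ((i + 1 : ℕ) : ℤ)) (by omega)
      rw [add_sub_cancel_right] at hprop
      exact hprop

end Groth.Agent.S15418
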