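import Groth.Statements.S15419
import Groth.Agent.H98.GrStd

set_option autoImplicit false
universe u
open GrLC

namespace Groth.Agent.S15419


open Groth.Agent.H98.GrCat Groth.Agent.H98.GrConv

/-- Let k be a field, S = k[x_0, …, x_r] graded by degree, 𝔪 = (x_0, …, x_r), M a finitely generated
ℤ-graded S-module and x a linear form (x ∈ S_1) that is quasi-regular on M: the submodule of
elements of M killed by x has finite length. Let N = M/xM, given as a graded module with a
surjective degree-preserving S-linear map π : M → N whose kernel is xM; graded local cohomology of M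
and of N is computed from *injective resolutions in the graded category. If M is weakly d-regular,
that is H^i_𝔪(M) vanishes in degree d − i + 1 for every i > 0, then N is weakly d-regular. -/
theorem result (k : Type u) [Field k] (r : ℕ)
    (M : Type u) [AddCommGroup M] [Module k M] [Module (MvPolynomial (Fin (r + 1)) k) M]
    [IsScalarTower k (MvPolynomial (Fin (r + 1)) k) M] [Module.Finite (MvPolynomial (Fin (r + 1)) k) M]
    (ℳ : ℤ → Submodule k M) [DirectSum.Decomposition ℳ] [SetLike.GradedSMul (GrSyz.stdGr k (Fin (r + 1))) ℳ]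
    (x : MvPolynomial (Fin (r + 1)) k) (hx : x ∈ GrSyz.stdGr k (Fin (r + 1)) 1)
    (hq : IsFiniteLength (MvPolynomial (Fin (r + 1)) k) ↥(Submodule.torsionBy (MvPolynomial (Fin (r + 1)) k) M x))
    (N : Type u) [AddCommGroup N] [Module k N] [Module (MvPolynomial (Fin (r + 1)) k) N]
    [IsScalarTower k (MvPolynomial (Fin (r + 1)) k) N] [Module.Finite (MvPolynomial (Fin (r + 1)) k) N]
    (𝒩 : ℤ → Submodule k N) [DirectSum.Decomposition 𝒩] [SetLike.GradedSMul (GrSyz.stdGr k (Fin (r + 1))) 𝒩]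
    (π : M →ₗ[MvPolynomial (Fin (r + 1)) k] N) (hπ : Function.Surjective π) (hπg : GrLC.IsGrHom ℳ 𝒩 π)
    (hker : LinearMap.ker π = LinearMap.range (x • (LinearMap.id : M →ₗ[MvPolynomial (Fin (r + 1)) k] M)))
    (E : GrLC.StarInjRes (GrSyz.stdGr k (Fin (r + 1))) ℳ) (E' : GrLC.StarInjRes (GrSyz.stdGr k (Fin (r + 1))) 𝒩) (d : ℤ)
    (hM : ∀ i : ℕ, 0 < i → E.Hcomp (GrSyz.irrel (GrSyz.stdGr k (Fin (r + 1)))) i (d - (i : ℤ) + 1) = ⊥) (i : ℕ) (hi : 0 < i) :
    E'.Hcomp (GrSyz.irrel (GrSyz.stdGr k (Fin (r + 1)))) i (d - (i : ℤ) + 1) = ⊥ := by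
  obtain ⟨hQR1, -⟩ := std_qr k r M ℳ x hx hq N 𝒩 π hπ hπg hker
  have hMV : ∀ j : ℕ, 0 < j →
      HV (convI (GrSyz.irrel (GrSyz.stdGr k (Fin (r + 1)))))
        (GrLC.GMod.of (toAS (GrSyz.stdGr k (Fin (r + 1)))) M (toAS ℳ)) j (d - (j : ℤ) + 1) :=
    fun j hj => hv_of_vn _ ((Hcomp_eq_bot_iff_vn E _ j _).1 (hM j hj))
  have h2 := hMV (i + 1) (by omega)
  have e : d - ((i + 1 : ℕ) : ℤ) + 1 = d - (i : ℤ) + 1 + -1 := by
    push_cast
    ring
  rw [e] at h2
  have h1 := hQR1 i (d - (i : ℤ) + 1) (hMV i hi) h2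
  refine (Hcomp_eq_bot_iff_vn E' _ i _).2 ?_
  exact h1 _

end Groth.Agent.S15419
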