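import Groth.Statements.S15420
import Groth.Agent.H98.GrStd

set_option autoImplicit false
universe u
open GrLC

namespace Groth.Agent.S15420


open Groth.Agent.H98.GrCat Groth.Agent.H98.GrConv

/-- Let k be a field, S = k[x_0, …, x_r] graded by degree, 𝔪 = (x_0, …, x_r), M a finitely generated
ℤ-graded S-module, x ∈ S_1 a linear form quasi-regular on M (the elements of M killed by x form a
submodule of finite length), and N = M/xM, given as a graded module with a surjective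
degree-preserving S-linear map π : M → N with kernel xM; graded local cohomology is computed from
*injective resolutions in the graded category. Call a module d-regular when H^0_𝔪 of it has no
nonzero piece in degrees above d and H^i_𝔪 of it vanishes in degree d − i + 1 for every i > 0. Then
M is d-regular if and only if N is d-regular and H^0_𝔪(M) has no nonzero piece in degrees above d. -/
theorem result (k : Type u) [Field k] (r : ℕ)
    (M : Type u) [AddCommGroup M] [Module k M] [Module (MvPolynomial (Fin (r + 1)) k) M]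
    [IsScalarTower k (MvPolynomial (Fin (r + 1)) k) M] [Module.Finite (MvPolynomial (Fin (r + 1)) k) M]
    (ℳ : ℤ → Submodule k M) [DirectSum.Decomposition ℳ] [SetLike.GradedSMul (GrSyz.stdGr k (Fin (r + 1))) ℳ]
    (x : MvPolynomial (Fin (r + 1)) k) (hx : x ∈ GrSyz.stdGr k (Fin (r + 1)) 1)
    (hq : IsFiniteLength (MvPolynomial (Fin (r + 1)) k) ↥(Submodule.torsionBy (MvPolynomial (Fin (r + 1)) k) M x))
    (N : Type u) [AddCommGroup N] [Module k N] [Module (MvPolynomial (Fin (r + 1)) k) N]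
    [IsScalarTower k (MvPolynomial (Fin (r + 1)) k) N] [Module.Finite (MvPolynomial (Fin (r + 1)) k) N]
    (𝒩 : ℤ → Submodule k N) [DirectSum.Decomposition 𝒩] [SetLike.GradedSMul (GrSyz.stdGr k (Fin (r + 1))) 𝒩]
    (π : M →ₗ[MvPolynomial (Fin (r + 1)) k] N) (hπ : Function.Surjective π) (hπg : GrLC.IsGrHom ℳ 𝒩 π)
    (hker : LinearMap.ker π = LinearMap.range (x • (LinearMap.id : M →ₗ[MvPolynomial (Fin (r + 1)) k] M)))
    (E : GrLC.StarInjRes (GrSyz.stdGr k (Fin (r + 1))) ℳ) (E' : GrLC.StarInjRes (GrSyz.stdGr k (Fin (r + 1))) 𝒩) (d : ℤ) :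
    (GrLC.endDeg (E.Hgr (GrSyz.irrel (GrSyz.stdGr k (Fin (r + 1)))) 0) ≤ ((d : WithTop ℤ) : WithBot (WithTop ℤ)) ∧ ∀ i : ℕ, 0 < i → E.Hcomp (GrSyz.irrel (GrSyz.stdGr k (Fin (r + 1)))) i (d - (i : ℤ) + 1) = ⊥) ↔
      ((GrLC.endDeg (E'.Hgr (GrSyz.irrel (GrSyz.stdGr k (Fin (r + 1)))) 0) ≤ ((d : WithTop ℤ) : WithBot (WithTop ℤ)) ∧ ∀ i : ℕ, 0 < i → E'.Hcomp (GrSyz.irrel (GrSyz.stdGr k (Fin (r + 1)))) i (d - (i : ℤ) + 1) = ⊥) ∧
        GrLC.endDeg (E.Hgr (GrSyz.irrel (GrSyz.stdGr k (Fin (r + 1)))) 0) ≤ ((d : WithTop ℤ) : WithBot (WithTop ℤ))) := by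
  classical
  obtain ⟨hQR1, hQR2⟩ := std_qr k r M ℳ x hx hq N 𝒩 π hπ hπg hker
  have hcM : ∀ (i : ℕ) (n : ℤ), E.Hcomp (GrSyz.irrel (GrSyz.stdGr k (Fin (r + 1)))) i n = ⊥ ↔
      HV (convI (GrSyz.irrel (GrSyz.stdGr k (Fin (r + 1)))))
        (GrLC.GMod.of (toAS (GrSyz.stdGr k (Fin (r + 1)))) M (toAS ℳ)) i n :=
    fun i n => (Hcomp_eq_bot_iff_vn E _ i n).trans ⟨fun h => hv_of_vn _ h, fun h => h _⟩
  have hgM : ∀ n : ℤ, E.Hgr (GrSyz.irrel (GrSyz.stdGr k (Fin (r + 1)))) 0 n = ⊥ ↔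
      HV (convI (GrSyz.irrel (GrSyz.stdGr k (Fin (r + 1)))))
        (GrLC.GMod.of (toAS (GrSyz.stdGr k (Fin (r + 1)))) M (toAS ℳ)) 0 n :=
    fun n => (Hgr_eq_bot_iff_vn E _ 0 n).trans ⟨fun h => hv_of_vn _ h, fun h => h _⟩
  have hcN : ∀ (i : ℕ) (n : ℤ), E'.Hcomp (GrSyz.irrel (GrSyz.stdGr k (Fin (r + 1)))) i n = ⊥ ↔
      HV (convI (GrSyz.irrel (GrSyz.stdGr k (Fin (r + 1)))))
        (GrLC.GMod.of (toAS (GrSyz.stdGr k (Fin (r + 1)))) N (toAS 𝒩)) i n :=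
    fun i n => (Hcomp_eq_bot_iff_vn E' _ i n).trans ⟨fun h => hv_of_vn _ h, fun h => h _⟩
  have hgN : ∀ n : ℤ, E'.Hgr (GrSyz.irrel (GrSyz.stdGr k (Fin (r + 1)))) 0 n = ⊥ ↔
      HV (convI (GrSyz.irrel (GrSyz.stdGr k (Fin (r + 1)))))
        (GrLC.GMod.of (toAS (GrSyz.stdGr k (Fin (r + 1)))) N (toAS 𝒩)) 0 n :=
    fun n => (Hgr_eq_bot_iff_vn E' _ 0 n).trans ⟨fun h => hv_of_vn _ h, fun h => h _⟩
  have hfv : ∀ j : ℕ, ∃ r₀ : ℤ, ∀ n : ℤ, r₀ ≤ n →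
      HV (convI (GrSyz.irrel (GrSyz.stdGr k (Fin (r + 1)))))
        (GrLC.GMod.of (toAS (GrSyz.stdGr k (Fin (r + 1)))) M (toAS ℳ)) j n := by
    intro j
    obtain ⟨-, r₀, hr₀⟩ := fv (toAS (GrSyz.stdGr k (Fin (r + 1)))) (stdGr_neg k (Fin (r + 1)))
      (convI (GrSyz.irrel (GrSyz.stdGr k (Fin (r + 1))))) (convI_irrel _) j M (toAS ℳ) (convRes E)
    exact ⟨r₀, fun n hn => hv_of_vn _ (hr₀ n hn)⟩
  have key := dreg_iff (convI (GrSyz.irrel (GrSyz.stdGr k (Fin (r + 1)))))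
    (stdGr_hhom k (Fin (r + 1))) _ _ hQR1 hQR2 hfv d
  rw [endDeg_le_iff, endDeg_le_iff]
  constructor
  · rintro ⟨h0, hi⟩
    obtain ⟨⟨hN0, hNi⟩, hM0⟩ := key.1 ⟨fun e he => (hgM e).1 (h0 e he),
      fun i hi' => (hcM i _).1 (hi i hi')⟩
    exact ⟨⟨fun e he => (hgN e).2 (hN0 e he), fun i hi' => (hcN i _).2 (hNi i hi')⟩,
      fun e he => (hgM e).2 (hM0 e he)⟩
  · rintro ⟨⟨h0, hi⟩, hM0⟩
    obtain ⟨hM0', hMi⟩ := key.2 ⟨⟨fun e he => (hgN e).1 (h0 e he),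
      fun i hi' => (hcN i _).1 (hi i hi')⟩, fun e he => (hgM e).1 (hM0 e he)⟩
    exact ⟨fun e he => (hgM e).2 (hM0' e he), fun i hi' => (hcM i _).2 (hMi i hi')⟩

end Groth.Agent.S15420
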