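import Groth.Statements.S15421
import Groth.Agent.H98.GrReg

set_option autoImplicit false
universe u
open GrSyz

namespace Groth.Agent.S15421


open Groth.Agent.H98.GrCat Groth.Agent.H98.GrConv

/-- Let k be a field, S = k[x_0, …, x_r] graded by degree, 𝔪 = (x_0, …, x_r), M a finitely generated
ℤ-graded S-module, x ∈ S_1 a linear form quasi-regular on M (the elements of M killed by x form a
submodule of finite length) and N = M/xM, given as a graded module with a surjective
degree-preserving S-linear map π : M → N with kernel xM. Then reg M = max(end H^0_𝔪(M), reg N),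
where reg is the Castelnuovo–Mumford regularity in the sense of minimal graded free resolutions (as
an extended integer, −∞ for the zero module) and end H^0_𝔪(M) is the largest degree of a nonzero
piece of the graded local cohomology H^0_𝔪(M), computed from any *injective resolution of M in the
graded category. (The published statement takes x quasi-regular without repeating that it is a
linear form; a linear form is meant, as in the proposition it rests on.) -/
theorem result (k : Type u) [Field k] (r : ℕ)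
    (M : Type u) [AddCommGroup M] [Module k M] [Module (MvPolynomial (Fin (r + 1)) k) M]
    [IsScalarTower k (MvPolynomial (Fin (r + 1)) k) M] [Module.Finite (MvPolynomial (Fin (r + 1)) k) M]
    (ℳ : ℤ → Submodule k M) [DirectSum.Decomposition ℳ] [SetLike.GradedSMul (GrSyz.stdGr k (Fin (r + 1))) ℳ]
    (x : MvPolynomial (Fin (r + 1)) k) (hx : x ∈ GrSyz.stdGr k (Fin (r + 1)) 1)
    (hq : IsFiniteLength (MvPolynomial (Fin (r + 1)) k) ↥(Submodule.torsionBy (MvPolynomial (Fin (r + 1)) k) M x))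
    (N : Type u) [AddCommGroup N] [Module k N] [Module (MvPolynomial (Fin (r + 1)) k) N]
    [IsScalarTower k (MvPolynomial (Fin (r + 1)) k) N] [Module.Finite (MvPolynomial (Fin (r + 1)) k) N]
    (𝒩 : ℤ → Submodule k N) [DirectSum.Decomposition 𝒩] [SetLike.GradedSMul (GrSyz.stdGr k (Fin (r + 1))) 𝒩]
    (π : M →ₗ[MvPolynomial (Fin (r + 1)) k] N) (hπ : Function.Surjective π) (hπg : GrLC.IsGrHom ℳ 𝒩 π)
    (hker : LinearMap.ker π = LinearMap.range (x • (LinearMap.id : M →ₗ[MvPolynomial (Fin (r + 1)) k] M)))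
    (E : GrLC.StarInjRes (GrSyz.stdGr k (Fin (r + 1))) ℳ) :
    GrSyz.reg (GrSyz.stdGr k (Fin (r + 1))) ℳ (GrSyz.irrel (GrSyz.stdGr k (Fin (r + 1)))).toIdeal =
      GrLC.endDeg (E.Hgr (GrSyz.irrel (GrSyz.stdGr k (Fin (r + 1)))) 0) ⊔ GrSyz.reg (GrSyz.stdGr k (Fin (r + 1))) 𝒩 (GrSyz.irrel (GrSyz.stdGr k (Fin (r + 1)))).toIdeal := by
  classical
  obtain ⟨hQR1, hQR2⟩ := std_qr k r M ℳ x hx hq N 𝒩 π hπ hπg hker
  have hfv : ∀ j : ℕ, ∃ r₀ : ℤ, ∀ n : ℤ, r₀ ≤ n →
      HV (convI (GrSyz.irrel (GrSyz.stdGr k (Fin (r + 1)))))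
        (GrLC.GMod.of (toAS (GrSyz.stdGr k (Fin (r + 1)))) M (toAS ℳ)) j n := by
    intro j
    obtain ⟨-, r₀, hr₀⟩ := fv (toAS (GrSyz.stdGr k (Fin (r + 1)))) (stdGr_neg k (Fin (r + 1)))
      (convI (GrSyz.irrel (GrSyz.stdGr k (Fin (r + 1))))) (convI_irrel _) j M (toAS ℳ) (convRes E)
    exact ⟨r₀, fun n hn => hv_of_vn _ (hr₀ n hn)⟩
  apply wb_eq_of_forall
  intro d
  have key := dreg_iff (convI (GrSyz.irrel (GrSyz.stdGr k (Fin (r + 1)))))
    (stdGr_hhom k (Fin (r + 1))) _ _ hQR1 hQR2 hfv d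
  refine ((reg_le_iff k r M ℳ d).trans ((hv_diag_iff k r _ d).trans key)).trans ?_
  rw [sup_le_iff, reg_le_iff k r N 𝒩 d, hv_diag_iff, endDeg_le_iff]
  constructor
  · rintro ⟨hN, hM0⟩
    exact ⟨fun e he => (hv_iff_hgr k r M ℳ E 0 e).1 (hM0 e he), hN⟩
  · rintro ⟨hM0, hN⟩
    exact ⟨hN, fun e he => (hv_iff_hgr k r M ℳ E 0 e).2 (hM0 e he)⟩

end Groth.Agent.S15421
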