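import Groth.Statements.S15423
import Groth.Agent.H77.GrSyzUniq

set_option autoImplicit false
universe u
open GrSyz

namespace Groth.Agent.S15423

theorem iInf_int_eq (S : WithBot (WithTop ℤ)) :
    ⨅ (r : ℤ) (_ : S ≤ ((r : WithTop ℤ) : WithBot (WithTop ℤ))),
      ((r : WithTop ℤ) : WithBot (WithTop ℤ)) = S := by
  apply le_antisymm
  · induction S using WithBot.recBotCoe with
    | bot =>
      rw [le_bot_iff]
      by_contra hne
      obtain ⟨y, hy⟩ := WithBot.ne_bot_iff_exists.1 hne
      have hle : ∀ r : ℤ, (y : WithBot (WithTop ℤ)) ≤ ((r : WithTop ℤ) : WithBot (WithTop ℤ)) := by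
        intro r; rw [hy]; exact le_trans (iInf_le _ r) (iInf_le _ bot_le)
      induction y using WithTop.recTopCoe with
      | top =>
        have := hle 0
        rw [WithBot.coe_le_coe] at this
        exact absurd this (by simp)
      | coe z =>
        have := hle (z - 1)
        rw [WithBot.coe_le_coe, WithTop.coe_le_coe] at this
        omega
    | coe y =>
      induction y using WithTop.recTopCoe with
      | top => rw [WithBot.coe_top]; exact le_top
      | coe z => exact le_trans (iInf_le _ z) (iInf_le _ le_rfl)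
  · exact le_iInf₂ (fun r h => h)

/-- Let k be a field, S = k[x_0, …, x_r] graded by degree, 𝔪 = (x_0, …, x_r), M a finitely generated
ℤ-graded S-module and F a minimal graded free resolution of M by finite-rank free modules with
homogeneous bases (all matrix entries in 𝔪). Then the Castelnuovo–Mumford regularity of M (an
extended integer) is the supremum over i ≥ 0 of t_i − i, where t_i is the largest degree of a basis
vector of F_i, that is the largest nonzero degree of Tor_i^S(M, k) (−∞ when F_i = 0). In particular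
the value does not depend on the minimal resolution chosen. -/
theorem result (k : Type u) [Field k] (r : ℕ)
    (M : Type u) [AddCommGroup M] [Module k M] [Module (MvPolynomial (Fin (r + 1)) k) M]
    [IsScalarTower k (MvPolynomial (Fin (r + 1)) k) M] [Module.Finite (MvPolynomial (Fin (r + 1)) k) M]
    (ℳ : ℤ → Submodule k M) [DirectSum.Decomposition ℳ] [SetLike.GradedSMul (GrSyz.stdGr k (Fin (r + 1))) ℳ]
    (F : GrSyz.FreeRes (GrSyz.stdGr k (Fin (r + 1))) ℳ) (hF : F.IsMinimal (GrSyz.irrel (GrSyz.stdGr k (Fin (r + 1)))).toIdeal) :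
    GrSyz.reg (GrSyz.stdGr k (Fin (r + 1))) ℳ (GrSyz.irrel (GrSyz.stdGr k (Fin (r + 1)))).toIdeal =
      ⨆ i : ℕ, WithBot.map (fun t : ℤ => ((t - (i : ℤ) : ℤ) : WithTop ℤ)) (F.maxGenDeg i) := by
  classical
  have hI : (GrSyz.irrel (GrSyz.stdGr k (Fin (r + 1)))).toIdeal ≠ ⊤ :=
    Groth.Agent.H77.GrSyzUniq.irrel_ne_top
  have hdeg : ∀ n : ℤ, n ≠ 0 → ∀ x ∈ GrSyz.stdGr k (Fin (r + 1)) n,
      x ∈ (GrSyz.irrel (GrSyz.stdGr k (Fin (r + 1)))).toIdeal :=
    fun n hn x hx => Groth.Agent.H77.GrSyzUniq.mem_irrel_of_mem_stdGr hn hx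
  have ha : ∀ s : ℤ, GrSyz.IsRegLE (GrSyz.stdGr k (Fin (r + 1))) ℳ
      (GrSyz.irrel (GrSyz.stdGr k (Fin (r + 1)))).toIdeal s ↔ F.IsGenLE s := by
    intro s
    constructor
    · rintro ⟨F', hF', hgen⟩ i b
      have hpos : 0 < F.betti i (F.deg i b) := by
        unfold GrSyz.FreeRes.betti
        exact Finset.card_pos.2 ⟨b, by simp⟩
      have hle := Groth.Agent.H77.GrSyzUniq.betti_le_of_isMinimal F F' hI hdeg hF i (F.deg i b)
      have hpos' : 0 < F'.betti i (F.deg i b) := lt_of_lt_of_le hpos hle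
      unfold GrSyz.FreeRes.betti at hpos'
      obtain ⟨b', hb'⟩ := Finset.card_pos.1 hpos'
      have : F'.deg i b' = F.deg i b := (Finset.mem_filter.1 hb').2
      rw [← this]; exact hgen i b'
    · intro h; exact ⟨F, hF, h⟩
  have hb : ∀ s : ℤ, F.IsGenLE s ↔
      (⨆ i : ℕ, WithBot.map (fun t : ℤ => ((t - (i : ℤ) : ℤ) : WithTop ℤ)) (F.maxGenDeg i)) ≤
        ((s : WithTop ℤ) : WithBot (WithTop ℤ)) := by
    intro s
    rw [iSup_le_iff]
    refine forall_congr' (fun i => ?_)
    have h1 : ∀ m : WithBot ℤ,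
        (WithBot.map (fun t : ℤ => ((t - (i : ℤ) : ℤ) : WithTop ℤ)) m ≤
          ((s : WithTop ℤ) : WithBot (WithTop ℤ)) ↔ m ≤ ((s + i : ℤ) : WithBot ℤ)) := by
      intro m
      induction m using WithBot.recBotCoe with
      | bot => simp
      | coe t =>
        rw [WithBot.map_coe, WithBot.coe_le_coe, WithTop.coe_le_coe, WithBot.coe_le_coe]
        omega
    rw [h1, GrSyz.FreeRes.maxGenDeg, Finset.sup_le_iff]
    constructor
    · intro h b _
      exact WithBot.coe_le_coe.2 (h b)
    · intro h b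
      exact WithBot.coe_le_coe.1 (h b (Finset.mem_univ b))
  rw [GrSyz.reg]
  rw [show (⨅ (s : ℤ) (_ : GrSyz.IsRegLE (GrSyz.stdGr k (Fin (r + 1))) ℳ
      (GrSyz.irrel (GrSyz.stdGr k (Fin (r + 1)))).toIdeal s),
        ((s : WithTop ℤ) : WithBot (WithTop ℤ))) =
      ⨅ (s : ℤ) (_ : (⨆ i : ℕ, WithBot.map (fun t : ℤ => ((t - (i : ℤ) : ℤ) : WithTop ℤ))
        (F.maxGenDeg i)) ≤ ((s : WithTop ℤ) : WithBot (WithTop ℤ))),
        ((s : WithTop ℤ) : WithBot (WithTop ℤ)) from
    iInf_congr (fun s => iInf_congr_Prop ((ha s).trans (hb s)) (fun _ => rfl))]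
  exact iInf_int_eq _

end Groth.Agent.S15423
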