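import Groth.Statements.S15427
import Groth.Agent.H77.GrSyzLib

set_option autoImplicit false
universe u
open GrSyz

namespace Groth.Agent.S15427

/-- Let k be a field, S = k[x_0, …, x_r] graded by degree, 𝔪 = (x_0, …, x_r), M a finitely generated
ℤ-graded S-module and F a graded free resolution of M by free modules of finite rank with chosen
homogeneous bases, written as matrices d_i : F_{i+1} → F_i together with the images aug b ∈ M of the
basis of F_0. Then F is a minimal complex (every matrix entry lies in 𝔪) if and only if every map of
the resolution carries its basis to an irredundant (minimal) family of generators of its image: for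
each b, aug b is not in the S-span of the remaining aug b', and for each i and each column of d_i,
that column is not in the S-span of the remaining columns. -/
theorem result (k : Type u) [Field k] (r : ℕ)
    (M : Type u) [AddCommGroup M] [Module k M] [Module (MvPolynomial (Fin (r + 1)) k) M]
    [IsScalarTower k (MvPolynomial (Fin (r + 1)) k) M] [Module.Finite (MvPolynomial (Fin (r + 1)) k) M]
    (ℳ : ℤ → Submodule k M) [DirectSum.Decomposition ℳ] [SetLike.GradedSMul (GrSyz.stdGr k (Fin (r + 1))) ℳ]
    (F : GrSyz.FreeRes (GrSyz.stdGr k (Fin (r + 1))) ℳ) :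
    F.IsMinimal (GrSyz.irrel (GrSyz.stdGr k (Fin (r + 1)))).toIdeal ↔
      ((∀ b : Fin (F.rk 0), F.aug b ∉ Submodule.span (MvPolynomial (Fin (r + 1)) k) (F.aug '' {b' | b' ≠ b})) ∧
        ∀ (i : ℕ) (b : Fin (F.rk (i + 1))),
          (fun a => F.d i a b) ∉ Submodule.span (MvPolynomial (Fin (r + 1)) k) ((fun b' a => F.d i a b') '' {b' | b' ≠ b})) := by

  open Groth.Agent.H77.GrSyzLib in
  constructor
  · intro hF
    refine ⟨?_, ?_⟩
    · refine notMem_span_image_of (I := (GrSyz.irrel (GrSyz.stdGr k (Fin (r + 1)))).toIdeal)
        one_notMem_irrel F.aug ?_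
      intro v hv b
      refine mem_of_mem_ker_augLin F hF ?_ b
      rw [LinearMap.mem_ker, Fintype.linearCombination_apply]
      exact hv
    · intro i
      refine notMem_span_image_of (I := (GrSyz.irrel (GrSyz.stdGr k (Fin (r + 1)))).toIdeal)
        one_notMem_irrel (fun b' a => F.d i a b') ?_
      intro v hv b
      refine mem_of_mem_ker_dLin F hF i ?_ b
      rw [LinearMap.mem_ker, ← sum_smul_col]
      exact hv
  · rintro ⟨h1, h2⟩ i a b
    by_contra hnot
    have hu : IsUnit (F.d i a b) := isUnit_of_notMem_irrel (F.d_mem i a b) hnot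
    cases i with
    | zero =>
      have hw : (fun a' => F.d 0 a' b) ∈ LinearMap.ker F.augLin := by
        rw [F.exact_zero]
        exact ⟨Pi.single b 1, dLin_single F 0 b⟩
      rw [LinearMap.mem_ker, Fintype.linearCombination_apply] at hw
      exact h1 a (mem_span_image_of_isUnit F.aug (fun a' => F.d 0 a' b) hw a hu)
    | succ j =>
      have hw : (fun a' => F.d (j + 1) a' b) ∈ LinearMap.ker (F.dLin j) := by
        rw [F.exact_succ j]
        exact ⟨Pi.single b 1, dLin_single F (j + 1) b⟩
      rw [LinearMap.mem_ker, ← sum_smul_col] at hw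
      exact h2 j a (mem_span_image_of_isUnit (fun b' a'' => F.d j a'' b')
        (fun a' => F.d (j + 1) a' b) hw a hu)

end Groth.Agent.S15427
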