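import Groth.Statements.S15429
import Groth.Agent.H77.GrSyzStrand
import Groth.Agent.S15428

set_option autoImplicit false
universe u
open GrSyz

namespace Groth.Agent.S15429

/-- Let k be a field, S = k[x_0, …, x_r] graded by degree and M a ℤ-graded S-module with a finite graded
free resolution 0 → F_m → … → F_0 → M → 0 by free modules of finite rank with homogeneous bases, the
basis vectors of F_i having degrees a_{i,b}. Then there is a polynomial P with rational
coefficients, the Hilbert polynomial of M, with dim_k M_d = P(d) for every integer d such that d ≥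
a_{i,b} − r for all i and b. -/
theorem result (k : Type u) [Field k] (r : ℕ)
    (M : Type u) [AddCommGroup M] [Module k M] [Module (MvPolynomial (Fin (r + 1)) k) M]
    [IsScalarTower k (MvPolynomial (Fin (r + 1)) k) M] [Module.Finite (MvPolynomial (Fin (r + 1)) k) M]
    (ℳ : ℤ → Submodule k M) [DirectSum.Decomposition ℳ] [SetLike.GradedSMul (GrSyz.stdGr k (Fin (r + 1))) ℳ]
    (F : GrSyz.FreeRes (GrSyz.stdGr k (Fin (r + 1))) ℳ) (m : ℕ) (hF : F.HasLengthLE m) :
    ∃ P : Polynomial ℚ, ∀ d : ℤ, (∀ (i : ℕ) (b : Fin (F.rk i)), F.deg i b - (r : ℤ) ≤ d) →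
      ((Module.finrank k ↥(ℳ d) : ℤ) : ℚ) = P.eval (d : ℚ) := by

  open Groth.Agent.H77.GrSyzStrand Polynomial in
  refine ⟨∑ i ∈ Finset.range (m + 1), C ((-1 : ℚ) ^ i) * ∑ b : Fin (F.rk i),
    C (1 / (r.factorial : ℚ)) * (ascPochhammer ℚ r).comp (X - C ((F.deg i b : ℤ) : ℚ) + 1), ?_⟩
  intro d hd
  rw [Groth.Agent.S15428.result k r M ℳ F m hF d]
  simp only [eval_finsetSum, eval_mul, eval_C, eval_comp, eval_add, eval_sub, eval_X, eval_one]
  push_cast
  refine Finset.sum_congr rfl (fun i _ => ?_)
  congr 1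
  refine Finset.sum_congr rfl (fun b _ => ?_)
  have := choose_eq_eval r (F.deg i b) d (hd i b)
  push_cast at this
  exact this

end Groth.Agent.S15429
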