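import Groth.Statements.S15431
import Groth.Agent.H77.GrSyzLib

set_option autoImplicit false
universe u
open GrSyz

namespace Groth.Agent.S15431

/-- Let k be a field, S = k[x_0, …, x_r] graded by degree, 𝔪 = (x_0, …, x_r), M a finitely generated
ℤ-graded S-module and F a minimal graded free resolution of M by free modules of finite rank with
homogeneous bases (all matrix entries in 𝔪), so that its basis degrees give the graded Betti
numbers. If for some i the graded Betti numbers β_{i,j} vanish for all j < d, that is every basis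
vector of F_i has degree at least d, then β_{i+1,j+1} = 0 for all j < d: every basis vector of
F_{i+1} has degree at least d + 1. -/
theorem result (k : Type u) [Field k] (r : ℕ)
    (M : Type u) [AddCommGroup M] [Module k M] [Module (MvPolynomial (Fin (r + 1)) k) M]
    [IsScalarTower k (MvPolynomial (Fin (r + 1)) k) M] [Module.Finite (MvPolynomial (Fin (r + 1)) k) M]
    (ℳ : ℤ → Submodule k M) [DirectSum.Decomposition ℳ] [SetLike.GradedSMul (GrSyz.stdGr k (Fin (r + 1))) ℳ]
    (F : GrSyz.FreeRes (GrSyz.stdGr k (Fin (r + 1))) ℳ) (hF : F.IsMinimal (GrSyz.irrel (GrSyz.stdGr k (Fin (r + 1)))).toIdeal) (i : ℕ) (d : ℤ)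
    (h : ∀ a : Fin (F.rk i), d ≤ F.deg i a) (b : Fin (F.rk (i + 1))) :
    d + 1 ≤ F.deg (i + 1) b := by

  open Groth.Agent.H77.GrSyzLib in
  have key : ∃ a, F.d i a b ≠ 0 := by
    by_contra hne
    push Not at hne
    have hker : (Pi.single b 1 : Fin (F.rk (i + 1)) → MvPolynomial (Fin (r + 1)) k) ∈
        LinearMap.ker (F.dLin i) := by
      rw [LinearMap.mem_ker, dLin_single]
      funext a
      exact hne a
    have h1 := mem_of_mem_ker_dLin F hF i hker b
    rw [Pi.single_eq_same] at h1
    exact one_notMem_irrel h1
  obtain ⟨a, ha⟩ := key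
  have h1 := Groth.Agent.H77.GrSyzLib.pos_of_mem_irrel (F.d_mem i a b) (hF i a b) ha
  have h2 := h a
  omega

end Groth.Agent.S15431
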