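import Groth.Statements.S15432
import Groth.Agent.H77.GrSyzHB

set_option autoImplicit false
universe u
open GrSyz

namespace Groth.Agent.S15432

/-- Let k be a field, Z a nonempty finite set of nonzero vectors of k^3, regarded as points of the
projective plane, I ⊆ S = k[x_0, x_1, x_2] the homogeneous vanishing ideal of Z (a polynomial lies
in I exactly when each of its homogeneous components vanishes at every vector of Z), M = S/I given
as a ℤ-graded S-module with a surjective degree-preserving S-linear map π : S → M with kernel I, and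
F a minimal graded free resolution of M of length at most 2 whose terms F_1 and F_2 have ranks t + 1
and t, with basis degrees a_1 ≥ … ≥ a_{t+1} for F_1 and b_1 ≥ … ≥ b_t for F_2 (non-increasing along
the chosen bases), so that the (i, j) entry of the matrix F_2 → F_1 has degree b_j − a_i. Put e_i =
b_i − a_i and f_i = b_i − a_{i+1}. Then e_i ≥ 1 and f_i ≥ 1 for every i, and Σ_i a_i = Σ_j b_j
(equivalently a_i = Σ_{j < i} e_j + Σ_{j ≥ i} f_j for every i). (The ordering of both bases is the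
standing assumption under which the published statement is made; this row carries it as the
hypotheses on the basis degrees. The further inequalities f_i ≥ e_i and f_i ≥ e_{i+1} follow at once
from the ordering and are not restated.) -/
theorem result (k : Type u) [Field k]
    (Z : Finset (Fin 3 → k)) (hZ : ∀ p ∈ Z, p ≠ 0) (hZne : Z.Nonempty) (I : Ideal (MvPolynomial (Fin 3) k))
    (hI : ∀ f : MvPolynomial (Fin 3) k, f ∈ I ↔
      ∀ p ∈ Z, ∀ j : ℕ, MvPolynomial.eval p (MvPolynomial.homogeneousComponent j f) = 0)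
    (M : Type u) [AddCommGroup M] [Module k M] [Module (MvPolynomial (Fin 3) k) M] [IsScalarTower k (MvPolynomial (Fin 3) k) M]
    (ℳ : ℤ → Submodule k M) [DirectSum.Decomposition ℳ] [SetLike.GradedSMul (GrSyz.stdGr k (Fin 3)) ℳ]
    (π : MvPolynomial (Fin 3) k →ₗ[MvPolynomial (Fin 3) k] M) (hπ : Function.Surjective π)
    (hπg : GrLC.IsGrHom (GrSyz.stdGr k (Fin 3)) ℳ π) (hker : LinearMap.ker π = I)
    (F : GrSyz.FreeRes (GrSyz.stdGr k (Fin 3)) ℳ) (hF : F.IsMinimal (GrSyz.irrel (GrSyz.stdGr k (Fin 3))).toIdeal) (hlen : F.HasLengthLE 2)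
    (t : ℕ) (h1 : F.rk 1 = t + 1) (h2 : F.rk 2 = t)
    (ha : ∀ i j : Fin (t + 1), i ≤ j → F.deg 1 (Fin.cast h1.symm j) ≤ F.deg 1 (Fin.cast h1.symm i))
    (hb : ∀ i j : Fin t, i ≤ j → F.deg 2 (Fin.cast h2.symm j) ≤ F.deg 2 (Fin.cast h2.symm i)) :
    (∀ i : Fin t, 1 ≤ F.deg 2 (Fin.cast h2.symm i) - F.deg 1 (Fin.cast h1.symm i.castSucc) ∧
        1 ≤ F.deg 2 (Fin.cast h2.symm i) - F.deg 1 (Fin.cast h1.symm i.succ)) ∧
      ∑ i : Fin (t + 1), F.deg 1 (Fin.cast h1.symm i) = ∑ j : Fin t, F.deg 2 (Fin.cast h2.symm j) := by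
  classical
  have hπg' : ∀ n a, a ∈ GrSyz.stdGr k (Fin 3) n → π a ∈ ℳ n := hπg
  -- the Hilbert function is bounded
  have hkerp : ∀ d p, p ∈ GrSyz.stdGr k (Fin 3) d →
      (∀ z ∈ Z, MvPolynomial.eval z p = 0) → π p = 0 := by
    intro d p hp hz
    have hpI : p ∈ I := by
      rw [hI]
      intro z hzZ j
      by_cases hd : d < 0
      · rw [Groth.Agent.H77.GrSyzUniq.eq_zero_of_mem_stdGr_neg hp hd]; simp
      · obtain ⟨m, rfl⟩ := Int.eq_ofNat_of_zero_le (not_lt.1 hd)
        have hh := Groth.Agent.H77.GrSyzHB.isHomogeneous_of_mem_stdGr hp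
        rw [MvPolynomial.homogeneousComponent_of_mem
          ((MvPolynomial.mem_homogeneousSubmodule m p).2 hh)]
        split_ifs
        · exact hz z hzZ
        · simp
    rw [← hker] at hpI
    exact hpI
  have hbound : ∀ d, Module.finrank k (ℳ d) ≤ Z.card :=
    Groth.Agent.H77.GrSyzHB.finrank_piece_le_card (r := 2) Z π hπg' hπ hkerp
  obtain ⟨hα, hB⟩ := Groth.Agent.H77.GrSyzHB.euler_identities F hlen Z.card hbound
  have hrk0 : F.rk 0 = 1 := by
    rw [h1, h2] at hα
    push_cast at hα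
    omega
  have hsub : Subsingleton (Fin (F.rk 0)) := by rw [hrk0]; infer_instance
  -- pieces of negative degree vanish
  have hneg : ∀ d : ℤ, d < 0 → ∀ x ∈ ℳ d, x = 0 := by
    intro d hd x hx
    obtain ⟨p, hp, rfl⟩ := Groth.Agent.H77.GrSyzHB.exists_preimage_mem π hπg' hπ hx
    rw [Groth.Agent.H77.GrSyzUniq.eq_zero_of_mem_stdGr_neg hp hd, map_zero]
  have haug_ne : ∀ b : Fin (F.rk 0), F.aug b ≠ 0 := by
    intro b hb0
    have hv : (Pi.single b 1 : Fin (F.rk 0) → MvPolynomial (Fin 3) k) ∈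
        LinearMap.ker F.augLin := by
      rw [LinearMap.mem_ker, Fintype.linearCombination_apply_single, one_smul]; exact hb0
    have := Groth.Agent.H77.GrSyzLib.mem_of_mem_ker_augLin F hF hv b
    rw [Pi.single_eq_same] at this
    exact Groth.Agent.H77.GrSyzLib.one_notMem_irrel this
  have hdeg_nonneg : ∀ b : Fin (F.rk 0), 0 ≤ F.deg 0 b := by
    intro b
    by_contra hlt
    exact haug_ne b (hneg _ (not_le.1 hlt) _ (F.aug_mem b))
  have hone_mem : π 1 ∈ ℳ 0 := hπg' 0 1 (SetLike.GradedOne.one_mem)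
  have hone_ne : π 1 ≠ 0 := by
    intro h0
    have h1I : (1 : MvPolynomial (Fin 3) k) ∈ I := by rw [← hker]; exact h0
    obtain ⟨z, hz⟩ := hZne
    have := (hI 1).1 h1I z hz 0
    rw [MvPolynomial.homogeneousComponent_zero] at this
    simp at this
  have hdeg_nonpos : ∃ b : Fin (F.rk 0), F.deg 0 b ≤ 0 := by
    obtain ⟨v, hv, hvx⟩ := Groth.Agent.H77.GrSyzStrand.strand_aug_surj F 0 hone_mem
    have hvne : v ≠ 0 := by
      intro h; rw [h, map_zero] at hvx; exact hone_ne hvx.symm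
    obtain ⟨b, hb⟩ := Function.ne_iff.1 hvne
    refine ⟨b, ?_⟩
    by_contra hlt
    have hmem := (Groth.Agent.H77.GrSyzStrand.mem_strand F).1 hv b
    exact hb (Groth.Agent.H77.GrSyzUniq.eq_zero_of_mem_stdGr_neg hmem (by omega))
  have hA0 : ∑ b, F.deg 0 b = 0 := by
    obtain ⟨b, hb⟩ := hdeg_nonpos
    rw [Fintype.sum_subsingleton _ b]
    exact le_antisymm hb (hdeg_nonneg b)
  -- antitone degrees in terms of the native index types
  have ha' : ∀ l l' : Fin (F.rk 1), l ≤ l' → F.deg 1 l' ≤ F.deg 1 l := by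
    intro l l' hll'
    have := ha (Fin.cast h1 l) (Fin.cast h1 l') hll'
    have e : ∀ l : Fin (F.rk 1), Fin.cast h1.symm (Fin.cast h1 l) = l := fun l => Fin.ext rfl
    rw [e, e] at this
    exact this
  have hb' : ∀ j j' : Fin (F.rk 2), j ≤ j' → F.deg 2 j' ≤ F.deg 2 j := by
    intro j j' hjj'
    have := hb (Fin.cast h2 j) (Fin.cast h2 j') hjj'
    have e : ∀ l : Fin (F.rk 2), Fin.cast h2.symm (Fin.cast h2 l) = l := fun l => Fin.ext rfl
    rw [e, e] at this
    exact this
  have hinj : Function.Injective (F.dLin (0 + 1)) := by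
    rw [← LinearMap.ker_eq_bot, F.exact_succ (0 + 1), LinearMap.range_eq_bot]
    have hemp : IsEmpty (Fin (F.rk (0 + 1 + 1 + 1))) := by
      rw [hlen (0 + 1 + 1 + 1) (by norm_num)]; infer_instance
    apply LinearMap.ext
    intro v
    rw [Subsingleton.elim v 0, map_zero, map_zero]
  refine ⟨fun i => ⟨?_, ?_⟩, ?_⟩
  · refine Groth.Agent.H77.GrSyzHB.hb_deg F hF 0 hinj (Fin.cast h2.symm i)
      (Fin.cast h1.symm i.castSucc) ha' hb' ?_
    have e1 : F.rk (0 + 1) = t + 1 := h1
    have e2 : F.rk (0 + 1 + 1) = t := h2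
    have hi := i.2
    show F.rk (0 + 1) - 1 - (i.castSucc : Fin (t + 1)).val ≤ F.rk (0 + 1 + 1) - i.val
    have e3 : (i.castSucc : Fin (t + 1)).val = i.val := rfl
    rw [e3]
    omega
  · refine Groth.Agent.H77.GrSyzHB.hb_deg F hF 0 hinj (Fin.cast h2.symm i)
      (Fin.cast h1.symm i.succ) ha' hb' ?_
    have e1 : F.rk (0 + 1) = t + 1 := h1
    have e2 : F.rk (0 + 1 + 1) = t := h2
    have hi := i.2
    show F.rk (0 + 1) - 1 - (i.succ : Fin (t + 1)).val ≤ F.rk (0 + 1 + 1) - i.val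
    have e3 : (i.succ : Fin (t + 1)).val = i.val + 1 := rfl
    rw [e3]
    omega
  · have s1 : ∑ i : Fin (t + 1), F.deg 1 (Fin.cast h1.symm i) = ∑ l : Fin (F.rk 1), F.deg 1 l :=
      Fintype.sum_equiv (finCongr h1.symm) _ _ (fun i => rfl)
    have s2 : ∑ j : Fin t, F.deg 2 (Fin.cast h2.symm j) = ∑ l : Fin (F.rk 2), F.deg 2 l :=
      Fintype.sum_equiv (finCongr h2.symm) _ _ (fun i => rfl)
    rw [s1, s2]
    rw [hA0] at hB
    linarith

end Groth.Agent.S15432
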