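import Groth.Statements.S15433
import Groth.Agent.S15425
import Groth.Agent.H98.GrLen
import Groth.Agent.H98.GrNak
import Groth.Agent.H98.GrVan
import Groth.Agent.H98.GrArt
import Groth.Agent.H77.GrSyzLib

set_option autoImplicit false
universe u
open GrSyz

namespace Groth.Agent.S15433


open Groth.Agent.H98.GrCat Groth.Agent.H98.GrConv Groth.Agent.H98.GrLen DirectSum

section Helpers

variable (k : Type u) [Field k] (r : ℕ)

/-- if all forms of degree `j ≥ 0` lie in an ideal, so do all forms of degree `j + 1` -/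
theorem ideal_step (I : Ideal (MvPolynomial (Fin (r + 1)) k)) (j : ℤ) (hj : 0 ≤ j)
    (h : ∀ p ∈ GrSyz.stdGr k (Fin (r + 1)) j, p ∈ I) :
    ∀ p ∈ GrSyz.stdGr k (Fin (r + 1)) (j + 1), p ∈ I := by
  classical
  intro p hp
  have hp' : p.IsWeightedHomogeneous (fun _ : Fin (r + 1) => (1 : ℤ)) (j + 1) := hp
  rw [← MvPolynomial.support_sum_monomial_coeff p]
  refine Ideal.sum_mem _ (fun d hd => ?_)
  have hc : MvPolynomial.coeff d p ≠ 0 := MvPolynomial.mem_support_iff.1 hd
  have hw : Finsupp.weight (fun _ : Fin (r + 1) => (1 : ℤ)) d = j + 1 := hp' hc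
  generalize MvPolynomial.coeff d p = c
  have hd0 : d ≠ 0 := by
    intro h0
    rw [h0, map_zero] at hw
    omega
  obtain ⟨v, hv⟩ : ∃ v, d v ≠ 0 := by
    by_contra hall
    push Not at hall
    exact hd0 (Finsupp.ext hall)
  have hle : Finsupp.single v 1 ≤ d := by
    rw [Finsupp.single_le_iff]
    exact Nat.one_le_iff_ne_zero.2 hv
  obtain ⟨d', rfl⟩ : ∃ d', d = d' + Finsupp.single v 1 :=
    ⟨d - Finsupp.single v 1, (tsub_add_cancel_of_le hle).symm⟩
  have hw' : Finsupp.weight (fun _ : Fin (r + 1) => (1 : ℤ)) d' = j := by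
    rw [map_add, Finsupp.weight_single, one_smul] at hw
    linarith
  rw [MvPolynomial.monomial_add_single, pow_one]
  exact I.mul_mem_right _ (h _ (MvPolynomial.isWeightedHomogeneous_monomial _ _ _ hw'))

variable {k r}
variable {M : Type u} [AddCommGroup M] [Module k M] [Module (MvPolynomial (Fin (r + 1)) k) M]
  [IsScalarTower k (MvPolynomial (Fin (r + 1)) k) M]
  (ℳ : ℤ → Submodule k M) [DirectSum.Decomposition ℳ]
  [SetLike.GradedSMul (GrSyz.stdGr k (Fin (r + 1))) ℳ]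

omit [IsScalarTower k (MvPolynomial (Fin (r + 1)) k) M] in
/-- component of `y • x` for homogeneous `y` -/
theorem comp_smul' {c : ℤ} {y : MvPolynomial (Fin (r + 1)) k}
    (hy : y ∈ GrSyz.stdGr k (Fin (r + 1)) c) (j : ℤ) (x : M) :
    ((decompose ℳ (y • x) j : ℳ j) : M) = y • ((decompose ℳ x (j - c) : ℳ (j - c)) : M) := by
  classical
  induction x using DirectSum.Decomposition.inductionOn ℳ with
  | zero => simp
  | @homogeneous i x =>
    have hmem : y • (x : M) ∈ ℳ (c + i) := SetLike.GradedSMul.smul_mem hy x.2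
    by_cases h : i = j - c
    · subst h
      have h2 : c + (j - c) = j := by abel
      rw [h2] at hmem
      rw [decompose_of_mem_same ℳ hmem, decompose_of_mem_same ℳ x.2]
    · have h' : c + i ≠ j := fun h2 => h (by rw [← h2]; abel)
      rw [decompose_of_mem_ne ℳ hmem h', decompose_of_mem_ne ℳ x.2 h, smul_zero]
  | add x y' hx hy' =>
    simp only [smul_add, decompose_add, DirectSum.add_apply, AddMemClass.coe_add, hx, hy']

omit [IsScalarTower k (MvPolynomial (Fin (r + 1)) k) M]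
  [SetLike.GradedSMul (GrSyz.stdGr k (Fin (r + 1))) ℳ] in
/-- homogeneous preimages under a surjective homogeneous map from the polynomial ring -/
theorem exists_homog_pre (τ : MvPolynomial (Fin (r + 1)) k →ₗ[MvPolynomial (Fin (r + 1)) k] M)
    (hτ : Function.Surjective τ) (hτg : GrLC.IsGrHom (GrSyz.stdGr k (Fin (r + 1))) ℳ τ)
    (j : ℤ) (z : M) (hz : z ∈ ℳ j) : ∃ p ∈ GrSyz.stdGr k (Fin (r + 1)) j, τ p = z := by
  obtain ⟨p₀, rfl⟩ := hτ z
  refine ⟨((decompose (GrSyz.stdGr k (Fin (r + 1))) p₀ j :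
    GrSyz.stdGr k (Fin (r + 1)) j) : MvPolynomial (Fin (r + 1)) k), SetLike.coe_mem _, ?_⟩
  rw [← Groth.Agent.H98.grHom_comp (GrSyz.stdGr k (Fin (r + 1))) ℳ hτg p₀ j,
    decompose_of_mem_same ℳ hz]

omit [IsScalarTower k (MvPolynomial (Fin (r + 1)) k) M]
  [SetLike.GradedSMul (GrSyz.stdGr k (Fin (r + 1))) ℳ] in
theorem piece_neg (τ : MvPolynomial (Fin (r + 1)) k →ₗ[MvPolynomial (Fin (r + 1)) k] M)
    (hτ : Function.Surjective τ) (hτg : GrLC.IsGrHom (GrSyz.stdGr k (Fin (r + 1))) ℳ τ)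
    (j : ℤ) (hj : j < 0) : ℳ j = ⊥ := by
  rw [eq_bot_iff]
  intro z hz
  obtain ⟨p, hp, rfl⟩ := exists_homog_pre ℳ τ hτ hτg j z hz
  have h0 : p ∈ toAS (GrSyz.stdGr k (Fin (r + 1))) j := hp
  rw [stdGr_neg k (Fin (r + 1)) j hj, AddSubgroup.mem_bot] at h0
  rw [h0, map_zero]
  exact zero_mem _

omit [IsScalarTower k (MvPolynomial (Fin (r + 1)) k) M]
  [SetLike.GradedSMul (GrSyz.stdGr k (Fin (r + 1))) ℳ] in
theorem piece_step (τ : MvPolynomial (Fin (r + 1)) k →ₗ[MvPolynomial (Fin (r + 1)) k] M)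
    (hτ : Function.Surjective τ) (hτg : GrLC.IsGrHom (GrSyz.stdGr k (Fin (r + 1))) ℳ τ)
    (j : ℤ) (hj : 0 ≤ j) (h : ℳ j = ⊥) : ℳ (j + 1) = ⊥ := by
  rw [eq_bot_iff]
  intro z hz
  obtain ⟨p, hp, rfl⟩ := exists_homog_pre ℳ τ hτ hτg (j + 1) z hz
  have h1 : p ∈ LinearMap.ker τ := by
    refine ideal_step k r (LinearMap.ker τ) j hj (fun q hq => ?_) p hp
    have h2 : τ q ∈ ℳ j := hτg j q hq
    rw [h, Submodule.mem_bot] at h2
    exact h2
  rw [LinearMap.mem_ker.1 h1]
  exact zero_mem _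

omit [IsScalarTower k (MvPolynomial (Fin (r + 1)) k) M]
  [SetLike.GradedSMul (GrSyz.stdGr k (Fin (r + 1))) ℳ] in
theorem pieces_ne_bot (τ : MvPolynomial (Fin (r + 1)) k →ₗ[MvPolynomial (Fin (r + 1)) k] M)
    (hτ : Function.Surjective τ) (hτg : GrLC.IsGrHom (GrSyz.stdGr k (Fin (r + 1))) ℳ τ)
    (n : ℤ) (hn : ℳ n ≠ ⊥) : 0 ≤ n ∧ ∀ j, 0 ≤ j → j ≤ n → ℳ j ≠ ⊥ := by
  refine ⟨?_, fun j hj hjn hbot => ?_⟩
  · by_contra hlt
    exact hn (piece_neg ℳ τ hτ hτg n (by omega))
  · have hall : ∀ i : ℕ, ℳ (j + i) = ⊥ := by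
      intro i
      induction i with
      | zero => simpa using hbot
      | succ i ih =>
        have := piece_step ℳ τ hτ hτg (j + i) (by omega) ih
        rw [show j + ((i + 1 : ℕ) : ℤ) = j + i + 1 by push_cast; ring]
        exact this
    apply hn
    have := hall (n - j).toNat
    rwa [show j + ((n - j).toNat : ℤ) = n by omega] at this


/-- forms of degree zero are constants -/
theorem deg_zero_eq_C (q : MvPolynomial (Fin (r + 1)) k)
    (hq : q ∈ GrSyz.stdGr k (Fin (r + 1)) 0) : ∃ c : k, q = MvPolynomial.C c := by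
  classical
  have hq' : q.IsWeightedHomogeneous (fun _ : Fin (r + 1) => (1 : ℤ)) 0 := hq
  refine ⟨MvPolynomial.coeff 0 q, ?_⟩
  ext d
  rw [MvPolynomial.coeff_C]
  by_cases hd : 0 = d
  · rw [if_pos hd, hd]
  · rw [if_neg hd]
    by_contra hne
    exact hd (Groth.Agent.H77.GrSyzLib.weight_one_eq_zero (hq' hne)).symm

/-- the degree-one component of an element of `(ys)M`, for linear forms `ys` -/
theorem comp_one_mem (π : MvPolynomial (Fin (r + 1)) k →ₗ[MvPolynomial (Fin (r + 1)) k] M)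
    (hπ : Function.Surjective π) (hπg : GrLC.IsGrHom (GrSyz.stdGr k (Fin (r + 1))) ℳ π)
    (ys : List (MvPolynomial (Fin (r + 1)) k))
    (hys : ∀ y ∈ ys, y ∈ GrSyz.stdGr k (Fin (r + 1)) 1) :
    ∀ u ∈ Ideal.ofList ys • (⊤ : Submodule (MvPolynomial (Fin (r + 1)) k) M),
      ((decompose ℳ u 1 : ℳ 1) : M) ∈
        (Submodule.span k {y | y ∈ ys}).map (π.restrictScalars k) := by
  induction ys with
  | nil =>
    intro u hu
    rw [Ideal.ofList_nil, Submodule.bot_smul, Submodule.mem_bot] at hu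
    rw [hu, decompose_zero, DirectSum.zero_apply, ZeroMemClass.coe_zero]
    exact zero_mem _
  | cons y ys' ih =>
    intro u hu
    rw [Ideal.ofList_cons, Submodule.sup_smul, Submodule.mem_sup] at hu
    obtain ⟨u₁, hu₁, u₂, hu₂, rfl⟩ := hu
    rw [Submodule.ideal_span_singleton_smul] at hu₁
    obtain ⟨w, -, rfl⟩ := (Submodule.mem_smul_pointwise_iff_exists _ _ _).1 hu₁
    rw [decompose_add, DirectSum.add_apply, AddMemClass.coe_add]
    refine add_mem ?_ ?_
    · have hy1 : y ∈ GrSyz.stdGr k (Fin (r + 1)) 1 := hys y (List.mem_cons_self ..)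
      rw [comp_smul' ℳ hy1 1 w, sub_self]
      obtain ⟨q, hq, hqw⟩ := exists_homog_pre ℳ π hπ hπg 0 _
        (SetLike.coe_mem (decompose ℳ w 0))
      obtain ⟨c, rfl⟩ := deg_zero_eq_C q hq
      rw [← hqw, ← map_smul, smul_eq_mul, mul_comm, ← MvPolynomial.smul_eq_C_mul]
      exact ⟨c • y, Submodule.smul_mem _ c (Submodule.subset_span (List.mem_cons_self ..)), rfl⟩
    · have h := ih (fun y' hy' => hys y' (List.mem_cons_of_mem _ hy')) u₂ hu₂
      exact Submodule.map_mono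
        (Submodule.span_mono (fun y' hy' => List.mem_cons_of_mem _ hy')) h

/-- the dimension of the degree-one piece of `M/(ys)M` -/
theorem length_piece_one (π : MvPolynomial (Fin (r + 1)) k →ₗ[MvPolynomial (Fin (r + 1)) k] M)
    (hπ : Function.Surjective π) (hπg : GrLC.IsGrHom (GrSyz.stdGr k (Fin (r + 1))) ℳ π)
    (hlin : ∀ x : MvPolynomial (Fin (r + 1)) k, x ∈ GrSyz.stdGr k (Fin (r + 1)) 1 → π x = 0 →
      x = 0)
    (ys : List (MvPolynomial (Fin (r + 1)) k))
    (hys : ∀ y ∈ ys, y ∈ GrSyz.stdGr k (Fin (r + 1)) 1)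
    {N : Type u} [AddCommGroup N] [Module k N] [Module (MvPolynomial (Fin (r + 1)) k) N]
    [IsScalarTower k (MvPolynomial (Fin (r + 1)) k) N]
    (𝒩 : ℤ → Submodule k N) [DirectSum.Decomposition 𝒩]
    (σ : M →ₗ[MvPolynomial (Fin (r + 1)) k] N) (hσ : Function.Surjective σ)
    (hσg : GrLC.IsGrHom ℳ 𝒩 σ)
    (hker : LinearMap.ker σ = Ideal.ofList ys • (⊤ : Submodule (MvPolynomial (Fin (r + 1)) k) M)) :
    ((r + 1 : ℕ) : ℕ∞) ≤ (ys.length : ℕ∞) + Module.length k (𝒩 1) := by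
  classical
  obtain ⟨τ₁, hτ₁⟩ : ∃ τ₁ : (GrSyz.stdGr k (Fin (r + 1)) 1) →ₗ[k] (𝒩 1),
      ∀ x, ((τ₁ x : 𝒩 1) : N) = σ (π (x : MvPolynomial (Fin (r + 1)) k)) :=
    ⟨((σ.comp π).restrictScalars k).restrict (fun x hx => hσg 1 _ (hπg 1 x hx)), fun _ => rfl⟩
  have hsurj : Function.Surjective τ₁ := by
    intro z
    obtain ⟨m', hm', hm'z⟩ : ∃ m' ∈ ℳ 1, σ m' = (z : N) := by
      obtain ⟨m₀, hm₀⟩ := hσ (z : N)
      refine ⟨((decompose ℳ m₀ 1 : ℳ 1) : M), SetLike.coe_mem _, ?_⟩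
      rw [← Groth.Agent.H98.grHom_comp ℳ 𝒩 hσg m₀ 1, hm₀, decompose_of_mem_same 𝒩 z.2]
    obtain ⟨p, hp, hpm⟩ := exists_homog_pre ℳ π hπ hπg 1 m' hm'
    refine ⟨⟨p, hp⟩, Subtype.ext ?_⟩
    rw [hτ₁, hpm, hm'z]
  have h1 : Module.length k (GrSyz.stdGr k (Fin (r + 1)) 1) =
      Module.length k (LinearMap.ker τ₁) + Module.length k (𝒩 1) :=
    Module.length_eq_add_of_exact (LinearMap.ker τ₁).subtype τ₁ (Submodule.subtype_injective _)
      hsurj (LinearMap.exact_subtype_ker_map τ₁)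
  -- the kernel lies in the span of `ys`
  have hYle : Submodule.span k {y | y ∈ ys} ≤ GrSyz.stdGr k (Fin (r + 1)) 1 :=
    Submodule.span_le.2 (fun y hy => hys y hy)
  have hmem : ∀ x : LinearMap.ker τ₁,
      ((x : GrSyz.stdGr k (Fin (r + 1)) 1) : MvPolynomial (Fin (r + 1)) k) ∈
        Submodule.span k {y | y ∈ ys} := by
    intro x
    have hx0 : σ (π ((x : GrSyz.stdGr k (Fin (r + 1)) 1) : MvPolynomial (Fin (r + 1)) k)) = 0 := by
      rw [← hτ₁, LinearMap.mem_ker.1 x.2]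
      rfl
    have hx1 : π ((x : GrSyz.stdGr k (Fin (r + 1)) 1) : MvPolynomial (Fin (r + 1)) k) ∈
        Ideal.ofList ys • (⊤ : Submodule (MvPolynomial (Fin (r + 1)) k) M) := by
      rw [← hker]
      exact LinearMap.mem_ker.2 hx0
    have hx2 := comp_one_mem ℳ π hπ hπg ys hys _ hx1
    rw [decompose_of_mem_same ℳ (hπg 1 _ x.1.2)] at hx2
    obtain ⟨y₀, hy₀, hy₀x⟩ := hx2
    have hy₀x' : π y₀ = π ((x : GrSyz.stdGr k (Fin (r + 1)) 1) :
        MvPolynomial (Fin (r + 1)) k) := hy₀x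
    have h0 := hlin (((x : GrSyz.stdGr k (Fin (r + 1)) 1) : MvPolynomial (Fin (r + 1)) k) - y₀)
      (sub_mem x.1.2 (hYle hy₀)) (by rw [map_sub, hy₀x', sub_self])
    rw [sub_eq_zero.1 h0]
    exact hy₀
  have h2 : Module.length k (LinearMap.ker τ₁) ≤ (ys.length : ℕ∞) := by
    obtain ⟨g, hg⟩ : ∃ g : LinearMap.ker τ₁ →ₗ[k] Submodule.span k {y | y ∈ ys},
        ∀ x, ((g x : Submodule.span k {y | y ∈ ys}) : MvPolynomial (Fin (r + 1)) k) =
          ((x : GrSyz.stdGr k (Fin (r + 1)) 1) : MvPolynomial (Fin (r + 1)) k) :=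
      ⟨LinearMap.codRestrict _ (((GrSyz.stdGr k (Fin (r + 1)) 1).subtype).comp
        (LinearMap.ker τ₁).subtype) hmem, fun _ => rfl⟩
    have hginj : Function.Injective g := by
      intro a b hab
      apply Subtype.ext
      apply Subtype.ext
      rw [← hg, ← hg, hab]
    refine le_trans (Module.length_le_of_injective g hginj) ?_
    have hfin : ({y | y ∈ ys} : Set (MvPolynomial (Fin (r + 1)) k)).Finite := ys.finite_toSet
    haveI : Module.Finite k (Submodule.span k {y | y ∈ ys}) :=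
      FiniteDimensional.span_of_finite k hfin
    rw [Module.length_eq_finrank]
    have hset : ({y | y ∈ ys} : Set (MvPolynomial (Fin (r + 1)) k)) = ↑ys.toFinset := by
      ext y
      simp
    have h3 : Module.finrank k (Submodule.span k {y | y ∈ ys}) ≤ ys.toFinset.card := by
      rw [hset]
      exact finrank_span_finset_le_card ys.toFinset
    exact_mod_cast le_trans h3 (List.toFinset_card_le ys)
  have h3 : ((r + 1 : ℕ) : ℕ∞) ≤ Module.length k (GrSyz.stdGr k (Fin (r + 1)) 1) := by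
    obtain ⟨v, hv⟩ : ∃ v : Fin (r + 1) → GrSyz.stdGr k (Fin (r + 1)) 1,
        ∀ i, ((v i : GrSyz.stdGr k (Fin (r + 1)) 1) : MvPolynomial (Fin (r + 1)) k) =
          MvPolynomial.X i :=
      ⟨fun i => ⟨MvPolynomial.X i,
        MvPolynomial.isWeightedHomogeneous_X k (fun _ : Fin (r + 1) => (1 : ℤ)) i⟩, fun _ => rfl⟩
    have hli : LinearIndependent k v := by
      apply LinearIndependent.of_comp (GrSyz.stdGr k (Fin (r + 1)) 1).subtype
      have : (GrSyz.stdGr k (Fin (r + 1)) 1).subtype ∘ v =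
          (MvPolynomial.X : Fin (r + 1) → MvPolynomial (Fin (r + 1)) k) := funext hv
      rw [this]
      exact MvPolynomial.linearIndependent_X (Fin (r + 1)) k
    have hinj := linearIndependent_iff_injective_fintypeLinearCombination.1 hli
    have h4 := Module.length_le_of_injective (Fintype.linearCombination k v) hinj
    rwa [Module.length_eq_finrank, Module.finrank_fin_fun] at h4
  calc ((r + 1 : ℕ) : ℕ∞) ≤ Module.length k (GrSyz.stdGr k (Fin (r + 1)) 1) := h3
    _ = Module.length k (LinearMap.ker τ₁) + Module.length k (𝒩 1) := h1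
    _ ≤ (ys.length : ℕ∞) + Module.length k (𝒩 1) := add_le_add h2 le_rfl

end Helpers

/-- Let k be a field, S = k[x_0, …, x_r] graded by degree, 𝔪 = (x_0, …, x_r), and M = S/I a graded
quotient of S, given with a surjective degree-preserving S-linear map π : S → M whose kernel I
contains no nonzero linear form. Let y_0, …, y_t be linear forms forming a weakly regular sequence
on M (each a non-zerodivisor modulo the previous ones) and N = M/(y_0, …, y_t)M, given as a graded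
module with a surjective degree-preserving S-linear map σ : M → N with kernel (y_0, …, y_t)M, and
suppose N has finite length ℓ. Then reg M + (r − t) ≤ ℓ, reg being the Castelnuovo–Mumford
regularity of M in the sense of minimal graded free resolutions. (The published statement is reg S_X
≤ deg X − codim X for an arithmetically Cohen–Macaulay subvariety X of P^r not contained in a
hyperplane; this row is the algebraic statement its proof establishes, with S_X any graded quotient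
of S by an ideal without linear forms, the maximal regular sequence of linear forms given, deg X
replaced by the length of S_X/(y_0, …, y_t)S_X and codim X by r − t, which agree with the degree and
the codimension in that situation.) -/
theorem result (k : Type u) [Field k] (r : ℕ)
    (M : Type u) [AddCommGroup M] [Module k M] [Module (MvPolynomial (Fin (r + 1)) k) M]
    [IsScalarTower k (MvPolynomial (Fin (r + 1)) k) M] [Module.Finite (MvPolynomial (Fin (r + 1)) k) M]
    (ℳ : ℤ → Submodule k M) [DirectSum.Decomposition ℳ] [SetLike.GradedSMul (GrSyz.stdGr k (Fin (r + 1))) ℳ]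
    (π : MvPolynomial (Fin (r + 1)) k →ₗ[MvPolynomial (Fin (r + 1)) k] M) (hπ : Function.Surjective π)
    (hπg : GrLC.IsGrHom (GrSyz.stdGr k (Fin (r + 1))) ℳ π)
    (hlin : ∀ x : MvPolynomial (Fin (r + 1)) k, x ∈ GrSyz.stdGr k (Fin (r + 1)) 1 → π x = 0 → x = 0)
    (ys : List (MvPolynomial (Fin (r + 1)) k)) (hys : ∀ y ∈ ys, y ∈ GrSyz.stdGr k (Fin (r + 1)) 1)
    (hreg : RingTheory.Sequence.IsWeaklyRegular M ys)
    (N : Type u) [AddCommGroup N] [Module k N] [Module (MvPolynomial (Fin (r + 1)) k) N]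
    [IsScalarTower k (MvPolynomial (Fin (r + 1)) k) N]
    (𝒩 : ℤ → Submodule k N) [DirectSum.Decomposition 𝒩] [SetLike.GradedSMul (GrSyz.stdGr k (Fin (r + 1))) 𝒩]
    (σ : M →ₗ[MvPolynomial (Fin (r + 1)) k] N) (hσ : Function.Surjective σ) (hσg : GrLC.IsGrHom ℳ 𝒩 σ)
    (hker : LinearMap.ker σ = Ideal.ofList ys • (⊤ : Submodule (MvPolynomial (Fin (r + 1)) k) M))
    (ℓ : ℕ) (hℓ : Module.length (MvPolynomial (Fin (r + 1)) k) N = (ℓ : ℕ∞)) :
    GrSyz.reg (GrSyz.stdGr k (Fin (r + 1))) ℳ (GrSyz.irrel (GrSyz.stdGr k (Fin (r + 1)))).toIdeal + ((((r : ℤ) + 1 - (ys.length : ℤ) : ℤ) : WithTop ℤ) : WithBot (WithTop ℤ)) ≤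
      (((ℓ : ℤ) : WithTop ℤ) : WithBot (WithTop ℤ)) := by
  classical
  have hfin : Module.Finite (MvPolynomial (Fin (r + 1)) k) N := Module.Finite.of_surjective σ hσ
  have hN : IsFiniteLength (MvPolynomial (Fin (r + 1)) k) N := by
    rw [← Module.length_ne_top_iff, hℓ]
    exact ENat.natCast_ne_top _
  rw [Groth.Agent.S15425.result k r M ℳ ys hys hreg N 𝒩 σ hσ hσg hker hN]
  rw [endDeg_add_le_iff]
  intro e he
  by_contra hne
  have hne' : 𝒩 e ≠ ⊥ := by
    intro h
    apply hne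
    show (𝒩 e).toAddSubgroup = ⊥
    rw [h]
    rfl
  obtain ⟨τ, hτ⟩ : ∃ τ : MvPolynomial (Fin (r + 1)) k →ₗ[MvPolynomial (Fin (r + 1)) k] N,
      ∀ p, τ p = σ (π p) := ⟨σ.comp π, fun _ => rfl⟩
  have hτs : Function.Surjective τ := by
    intro z
    obtain ⟨m', rfl⟩ := hσ z
    obtain ⟨p, rfl⟩ := hπ m'
    exact ⟨p, hτ p⟩
  have hτg : GrLC.IsGrHom (GrSyz.stdGr k (Fin (r + 1))) 𝒩 τ := by
    intro j p hp
    rw [hτ]
    exact hσg j _ (hπg j p hp)
  obtain ⟨he0, hall⟩ := pieces_ne_bot 𝒩 τ hτs hτg e hne'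
  have hD := length_piece_one ℳ π hπ hπg hlin ys hys 𝒩 σ hσ hσg hker
  obtain ⟨e', he'1, he'2, he'3⟩ : ∃ e' : ℤ, e ≤ e' ∧ 1 ≤ e' ∧ (e' = e ∨ (e < 1 ∧ e' = 1)) := by
    by_cases h1 : 1 ≤ e
    · exact ⟨e, le_rfl, h1, Or.inl rfl⟩
    · exact ⟨1, by omega, le_rfl, Or.inr ⟨by omega, rfl⟩⟩
  have hB := sum_length_le 𝒩 (Finset.Icc 0 e')
  -- the length over `S` dominates the length over `k`
  have hA : Module.length k N ≤ Module.length (MvPolynomial (Fin (r + 1)) k) N := by
    have hm : ∀ s : MvPolynomial (Fin (r + 1)) k, ∃ c : k,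
        s - algebraMap k (MvPolynomial (Fin (r + 1)) k) c ∈ (Pm k r).toIdeal := by
      intro s
      refine ⟨MvPolynomial.coeff 0 s, ?_⟩
      rw [pm_eq_span_X, ← Set.image_univ, MvPolynomial.mem_ideal_span_X_image]
      intro d hd
      have hc := MvPolynomial.mem_support_iff.1 hd
      have hd0 : d ≠ 0 := by
        intro h0
        apply hc
        rw [h0, MvPolynomial.coeff_sub, MvPolynomial.algebraMap_eq, MvPolynomial.coeff_C,
          if_pos rfl, sub_self]
      by_contra hall'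
      apply hd0
      ext j
      by_contra hj
      exact hall' ⟨j, Set.mem_univ _, hj⟩
    haveI : IsArtinian (MvPolynomial (Fin (r + 1)) k) N :=
      (isFiniteLength_iff_isNoetherian_isArtinian.1 hN).2
    obtain ⟨n₀, hn₀⟩ := exists_piece_eq_bot_of_isArtinian (PA k r) (toAS 𝒩)
      (fun n hn => stdGr_neg k (Fin (r + 1)) n hn)
    obtain ⟨c, hc⟩ := mem_torsionSub_of_eventually_bot (PA k r) (toAS 𝒩)
      (fun n hn => stdGr_neg k (Fin (r + 1)) n hn) (Pm k r) (stdGr_hhom k (Fin (r + 1)))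
      n₀ hn₀ (τ 1)
    refine length_le_of_pow (Pm k r).toIdeal hm c N (fun s hs z => ?_)
    obtain ⟨p, rfl⟩ := hτs z
    have hp : τ p = p • τ 1 := by rw [← map_smul, smul_eq_mul, mul_one]
    rw [hp, smul_comm, hc s hs, smul_zero]
  have h1mem : (1 : ℤ) ∈ Finset.Icc 0 e' := Finset.mem_Icc.2 ⟨by omega, he'2⟩
  have hsum : Module.length k (𝒩 1) + ((e'.toNat : ℕ) : ℕ∞) ≤
      ∑ j ∈ Finset.Icc 0 e', Module.length k (𝒩 j) := by
    rw [← Finset.add_sum_erase _ _ h1mem]
    refine add_le_add le_rfl ?_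
    have hcard : ((Finset.Icc 0 e').erase 1).card = e'.toNat := by
      rw [Finset.card_erase_of_mem h1mem, Int.card_Icc]
      omega
    have h5 := Finset.card_nsmul_le_sum ((Finset.Icc 0 e').erase 1)
      (fun j => Module.length k (𝒩 j)) 1 (fun j hj => by
        have hj1 : j ≠ 1 := Finset.ne_of_mem_erase hj
        have hj2 := Finset.mem_Icc.1 (Finset.mem_of_mem_erase hj)
        have hjne : 𝒩 j ≠ ⊥ := hall j hj2.1 (by omega)
        haveI : Nontrivial (𝒩 j) := Submodule.nontrivial_iff_ne_bot.2 hjne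
        exact Order.one_le_iff_pos.2 Module.length_pos)
    rwa [nsmul_one, hcard] at h5
  have hfinal : Module.length k (𝒩 1) + ((e'.toNat : ℕ) : ℕ∞) ≤ (ℓ : ℕ∞) := by
    rw [← hℓ]
    exact le_trans hsum (le_trans hB hA)
  obtain ⟨a, ha⟩ : ∃ a : ℕ, Module.length k (𝒩 1) = (a : ℕ∞) := by
    have hne_top : Module.length k (𝒩 1) ≠ ⊤ :=
      ne_top_of_le_ne_top (ENat.natCast_ne_top ℓ) (le_trans le_self_add hfinal)
    exact ⟨_, (ENat.natCast_toNat hne_top).symm⟩
  rw [ha] at hD hfinal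
  have hD' : r + 1 ≤ ys.length + a := by exact_mod_cast hD
  have hf' : a + e'.toNat ≤ ℓ := by exact_mod_cast hfinal
  omega

end Groth.Agent.S15433
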