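import Groth.Statements.S15437
import Groth.Agent.S15428

set_option autoImplicit false
universe u
open GrSyz

namespace Groth.Agent.S15437

/-- Let k be a field, S = k[x_0, …, x_r] graded by degree and M a ℤ-graded S-module with a finite graded
free resolution F of length at most m by free modules of finite rank with homogeneous bases; write
β_{i,j} for the number of basis vectors of F_i of degree j (the graded Betti numbers when F is
minimal) and B_j = Σ_{i ≤ m} (−1)^i β_{i,j}. Then for every integer d, dim_k M_d = Σ_j B_j C(r + d −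
j, r), where a binomial with d < j counts as zero and only finitely many j contribute; and the B_j
are recovered from the Hilbert function by B_j = dim_k M_j − Σ_{n < j} B_n C(r + j − n, r). (Stated
for any finite graded free resolution; the published statement takes the minimal one.) -/
theorem result (k : Type u) [Field k] (r : ℕ)
    (M : Type u) [AddCommGroup M] [Module k M] [Module (MvPolynomial (Fin (r + 1)) k) M]
    [IsScalarTower k (MvPolynomial (Fin (r + 1)) k) M] [Module.Finite (MvPolynomial (Fin (r + 1)) k) M]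
    (ℳ : ℤ → Submodule k M) [DirectSum.Decomposition ℳ] [SetLike.GradedSMul (GrSyz.stdGr k (Fin (r + 1))) ℳ]
    (F : GrSyz.FreeRes (GrSyz.stdGr k (Fin (r + 1))) ℳ) (m : ℕ) (hF : F.HasLengthLE m) :
    (∀ d : ℤ, (Module.finrank k ↥(ℳ d) : ℤ) =
        ∑ᶠ j : ℤ, (∑ i ∈ Finset.range (m + 1), (-1 : ℤ) ^ i * (F.betti i j : ℤ)) *
          (if j ≤ d then ((Nat.choose (r + (d - j).toNat) r : ℕ) : ℤ) else 0)) ∧
      ∀ j : ℤ, (∑ i ∈ Finset.range (m + 1), (-1 : ℤ) ^ i * (F.betti i j : ℤ)) =
        (Module.finrank k ↥(ℳ j) : ℤ) -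
          ∑ᶠ n : ℤ, (if n < j then (∑ i ∈ Finset.range (m + 1), (-1 : ℤ) ^ i * (F.betti i n : ℤ)) * ((Nat.choose (r + (j - n).toNat) r : ℕ) : ℤ) else 0) := by

  classical
  obtain ⟨B, hB⟩ : ∃ B : ℤ → ℤ, ∀ j, B j =
      ∑ i ∈ Finset.range (m + 1), (-1 : ℤ) ^ i * (F.betti i j : ℤ) := ⟨_, fun _ => rfl⟩
  simp only [← hB]
  obtain ⟨T, hT⟩ : ∃ T : Finset ℤ,
      T = (Finset.range (m + 1)).biUnion (fun i => Finset.univ.image (F.deg i)) := ⟨_, rfl⟩
  have hmemT : ∀ i ∈ Finset.range (m + 1), ∀ b : Fin (F.rk i), F.deg i b ∈ T := by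
    intro i hi b
    rw [hT]
    exact Finset.mem_biUnion.2 ⟨i, hi, Finset.mem_image_of_mem _ (Finset.mem_univ b)⟩
  have hB0 : ∀ j, j ∉ T → B j = 0 := by
    intro j hj
    rw [hB]
    apply Finset.sum_eq_zero
    intro i hi
    have : F.betti i j = 0 := by
      rw [GrSyz.FreeRes.betti, Finset.card_eq_zero, Finset.filter_eq_empty_iff]
      intro b _ hb
      exact hj (hb ▸ hmemT i hi b)
    rw [this]; simp
  have hfib : ∀ i ∈ Finset.range (m + 1), ∀ g : ℤ → ℤ,
      ∑ b : Fin (F.rk i), g (F.deg i b) = ∑ j ∈ T, (F.betti i j : ℤ) * g j := by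
    intro i hi g
    rw [← Finset.sum_fiberwise_of_maps_to' (s := Finset.univ) (t := T) (g := F.deg i)
      (fun b _ => hmemT i hi b) g]
    refine Finset.sum_congr rfl (fun j _ => ?_)
    rw [Finset.sum_const, nsmul_eq_mul]
    rfl
  have part1 : ∀ (d : ℤ) (T' : Finset ℤ), T ⊆ T' → (Module.finrank k ↥(ℳ d) : ℤ) =
      ∑ j ∈ T', B j * (if j ≤ d then ((Nat.choose (r + (d - j).toNat) r : ℕ) : ℤ) else 0) := by
    intro d T' hTT'
    rw [Groth.Agent.S15428.result k r M ℳ F m hF d]
    have hsub : ∑ j ∈ T', B j * (if j ≤ d then ((Nat.choose (r + (d - j).toNat) r : ℕ) : ℤ) else 0) =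
        ∑ j ∈ T, B j * (if j ≤ d then ((Nat.choose (r + (d - j).toNat) r : ℕ) : ℤ) else 0) := by
      symm
      apply Finset.sum_subset hTT'
      intro j _ hj
      rw [hB0 j hj, zero_mul]
    rw [hsub]
    simp only [hB, Finset.sum_mul]
    rw [Finset.sum_comm]
    refine Finset.sum_congr rfl (fun i hi => ?_)
    rw [hfib i hi (fun j => if j ≤ d then ((Nat.choose (r + (d - j).toNat) r : ℕ) : ℤ) else 0),
      Finset.mul_sum]
    refine Finset.sum_congr rfl (fun j _ => by ring)
  refine ⟨?_, ?_⟩
  · intro d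
    rw [finsum_eq_sum_of_support_subset (s := T) _ ?_]
    · exact part1 d T (Finset.Subset.refl _)
    · intro j hj
      rw [Function.mem_support] at hj
      by_contra hjT
      apply hj
      rw [hB0 j (fun h => hjT (Finset.mem_coe.2 h)), zero_mul]
  · intro j
    have h1 := part1 j (insert j T) (Finset.subset_insert _ _)
    rw [finsum_eq_sum_of_support_subset (s := insert j T) _ ?_]
    · have hterm : ∀ n ∈ insert j T,
          B n * (if n ≤ j then ((Nat.choose (r + (j - n).toNat) r : ℕ) : ℤ) else 0) =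
            (if n = j then B j else 0) +
              (if n < j then B n * ((Nat.choose (r + (j - n).toNat) r : ℕ) : ℤ) else 0) := by
        intro n _
        rcases lt_trichotomy n j with h | h | h
        · rw [if_pos h.le, if_neg h.ne, if_pos h, zero_add]
        · subst h
          simp
        · rw [if_neg (not_le.2 h), if_neg h.ne', if_neg (not_lt.2 h.le)]
          simp
      rw [h1, Finset.sum_congr rfl hterm, Finset.sum_add_distrib, Finset.sum_ite_eq',
        if_pos (Finset.mem_insert_self _ _)]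
      ring
    · intro n hn
      rw [Function.mem_support] at hn
      by_contra hnT
      apply hn
      have hnT' : n ∉ T := fun h => hnT (Finset.mem_coe.2 (Finset.mem_insert_of_mem h))
      rw [hB0 n hnT', zero_mul, ite_self]

end Groth.Agent.S15437
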