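import Groth.Statements.S1544
import Groth.Agent.H38.GeomRedPoints

set_option autoImplicit false
universe u
open CategoryTheory CategoryTheory.Limits AlgebraicGeometry
attribute [local instance] Curv2.resAlgebra Curv2.stalkAlgebra
open Variety

namespace Groth.Agent.S1544

/-- For an integral scheme over k, geometric reducedness of the scheme is equivalent to geometric
reducedness over k of the function field (the local ring at the generic point), i.e. a separable
extension of k in the sense of commutative algebra. The source states this for varieties;
integrality is what the proof uses. -/
theorem result (k : Type u) [Field k] (X : Scheme.{u}) [X.Over (Spec (CommRingCat.of k))] [IsIntegral X] :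
    GeometricallyReduced (X ↘ (Spec (CommRingCat.of k))) ↔ Algebra.IsGeometricallyReduced k X.functionField := by
  constructor
  · intro hg
    show Algebra.IsGeometricallyReduced k (X.presheaf.stalk (genericPoint X))
    rw [← Groth.Agent.H25.StalkBC.isGeomReducedAt_iff_stalk]
    intro K _ _ x' _
    haveI : IsReduced (Curv2.bc k X K) :=
      GeometricallyReduced.geometrically_isReduced (f := X ↘ Spec (CommRingCat.of k))
        (Spec.map (CommRingCat.ofHom (algebraMap k K))) _ _ (IsPullback.of_hasPullback _ _)
    infer_instance
  · intro hg
    apply Groth.Agent.H38.GeomRedPoints.geometricallyReduced_of_generic_points k X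
    intro Z hZ η hη
    rw [irreducibleComponents_eq_singleton, Set.mem_singleton_iff] at hZ
    subst hZ
    have : η = genericPoint X := (genericPoint_spec X).eq hη |>.symm
    rw [this, Groth.Agent.H25.StalkBC.isGeomReducedAt_iff_stalk]
    exact hg

end Groth.Agent.S1544
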