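import Groth.Statements.S15442
-- import your own Groth.Agent.* helpers here

set_option autoImplicit false
universe u v
open CategoryTheory AlgebraicGeometry
open WeilCoh

namespace Groth.Agent.S15442

/-- Let H^* be a Weil cohomology theory, with coefficient field K of characteristic zero, on nonsingular
connected projective varieties over the algebraically closed field k, and X such a variety. Then the
structure morphism K → H^0(X) is an isomorphism: c ↦ c · 1 is a bijection from K onto the degree-0
part of the cohomology ring. -/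
theorem result (k : Type u) [Field k] [IsAlgClosed k] (K : Type v) [Field K] [CharZero K]
    (T : WeilCoh.Theory k K) (X : WeilCoh.Var k) :
    Function.Bijective (fun c : K =>
      (⟨c • (1 : T.H X), (T.gr X 0).smul_mem c (SetLike.one_mem_graded (T.gr X))⟩ : ↥(T.gr X 0))) := by
  have e : ↥(T.gr X (2 * (WeilCoh.dim X.obj.left : ℤ))) ≃ₗ[K] K :=
    LinearEquiv.ofBijective _ (T.tr_bijective X)
  have h2 : Module.finrank K ↥(T.gr X (2 * (WeilCoh.dim X.obj.left : ℤ))) = 1 := by
    rw [e.finrank_eq, Module.finrank_self]
  haveI := T.duality X 0 (2 * (WeilCoh.dim X.obj.left : ℤ)) (by simp)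
  have h0 : Module.finrank K ↥(T.gr X 0) = 1 := by
    rw [Module.finrank_of_isPerfPair (WeilCoh.pairing K (T.gr X 0)
      (T.gr X (2 * (WeilCoh.dim X.obj.left : ℤ))) (T.tr X)), h2]
  have hnt : Nontrivial (T.H X) := by
    have : Nontrivial ↥(T.gr X (2 * (WeilCoh.dim X.obj.left : ℤ))) := e.toEquiv.nontrivial
    obtain ⟨a, b, hab⟩ := this
    exact ⟨a, b, fun h => hab (Subtype.ext h)⟩
  let φ : K →ₗ[K] ↥(T.gr X 0) :=
    { toFun := fun c => ⟨c • (1 : T.H X), (T.gr X 0).smul_mem c (SetLike.one_mem_graded (T.gr X))⟩
      map_add' := fun a b => Subtype.ext (add_smul a b (1 : T.H X))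
      map_smul' := fun a b => Subtype.ext (by simp [mul_smul]) }
  have hinj : Function.Injective φ := by
    intro a b hab
    have h1 : a • (1 : T.H X) = b • (1 : T.H X) := congrArg Subtype.val hab
    rw [← Algebra.algebraMap_eq_smul_one, ← Algebra.algebraMap_eq_smul_one] at h1
    exact (algebraMap K (T.H X)).injective h1
  have hsurj : Function.Surjective φ :=
    (LinearMap.injective_iff_surjective_of_finrank_eq_finrank
      (by rw [h0, Module.finrank_self])).1 hinj
  exact ⟨hinj, hsurj⟩

end Groth.Agent.S15442
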