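import Groth.Statements.S15448
import Groth.Agent.H77.WeilDim

set_option autoImplicit false
universe u v
open CategoryTheory AlgebraicGeometry
open WeilCoh

namespace Groth.Agent.S15448

/-- For a Weil cohomology theory H^* (coefficients in K of characteristic zero, on nonsingular connected
projective varieties over an algebraically closed field k), a morphism f : X → Y of such varieties
and an irreducible closed subvariety Z ⊆ X, f_*(cl(Z)) = deg(Z/f(Z)) · cl(f(Z)). Here Z is given by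
its generic point ξ, f(Z) is the closed irreducible subset with generic point f(ξ), and deg(Z/f(Z))
is the degree of κ(ξ) over κ(f(ξ)), equal to 0 when this extension is infinite, i.e. when dim f(Z) <
dim Z; both sides are read in the total cohomology ring of Y. -/
theorem result (k : Type u) [Field k] [IsAlgClosed k] (K : Type v) [Field K] [CharZero K]
    (T : WeilCoh.Theory k K) (X Y : WeilCoh.Var k) (f : X ⟶ Y)
    (ξ : ↥X.obj.left) :
    (T.push f (2 * (WeilCoh.codim X.obj.left ξ : ℤ)) ⟨T.cl X ξ, T.cl_mem X ξ⟩ : T.H Y) =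
      ((WeilCoh.sm f).residueDegree ξ : K) • T.cl Y (WeilCoh.sm f ξ) := by
  classical
  have hcod := Groth.Agent.H77.codim_cast X ξ
  have hpush_mem : (T.push f (2 * (WeilCoh.codim X.obj.left ξ : ℤ)) ⟨T.cl X ξ, T.cl_mem X ξ⟩ : T.H Y) ∈
      T.gr Y (2 * (WeilCoh.codim X.obj.left ξ : ℤ) + 2 * (dim Y.obj.left : ℤ) -
        2 * (dim X.obj.left : ℤ)) :=
    (T.push f (2 * (WeilCoh.codim X.obj.left ξ : ℤ)) ⟨T.cl X ξ, T.cl_mem X ξ⟩).2
  have hd' : (2 * (WeilCoh.codim X.obj.left ξ : ℤ) + 2 * (dim Y.obj.left : ℤ) -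
        2 * (dim X.obj.left : ℤ)) + 2 * (pdim X.obj.left ξ : ℤ) = 2 * (dim Y.obj.left : ℤ) := by
    rw [hcod]; ring
  have hj : 2 * (pdim X.obj.left ξ : ℤ) =
      2 * (dim X.obj.left : ℤ) - 2 * (WeilCoh.codim X.obj.left ξ : ℤ) := by
    rw [hcod]; ring
  by_cases h0 : (WeilCoh.sm f).residueDegree ξ = 0
  · rw [h0]
    simp only [Nat.cast_zero, zero_smul]
    refine Groth.Agent.H77.eq_of_forall_tr_mul_eq' T Y _ (2 * (pdim X.obj.left ξ : ℤ)) hd' _ 0
      hpush_mem (zero_mem _) ?_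
    intro b hb
    rw [Groth.Agent.H77.tr_push_mul' T f _ _ b (2 * (pdim X.obj.left ξ : ℤ)) hj hb]
    simp only
    rw [T.cl_push f ξ b hb, h0]
    simp
  · have hp := Groth.Agent.H77.pdim_map_eq_of_residueDegree_ne_zero f ξ h0
    have hclY : T.cl Y (WeilCoh.sm f ξ) ∈ T.gr Y (2 * (WeilCoh.codim X.obj.left ξ : ℤ) +
        2 * (dim Y.obj.left : ℤ) - 2 * (dim X.obj.left : ℤ)) := by
      refine Groth.Agent.H77.mem_gr_of_eq T Y ?_ (T.cl_mem Y (WeilCoh.sm f ξ))
      rw [Groth.Agent.H77.codim_cast Y, hp, hcod]; ring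
    refine Groth.Agent.H77.eq_of_forall_tr_mul_eq' T Y _ (2 * (pdim X.obj.left ξ : ℤ)) hd' _ _
      hpush_mem (Submodule.smul_mem _ _ hclY) ?_
    intro b hb
    rw [Groth.Agent.H77.tr_push_mul' T f _ _ b (2 * (pdim X.obj.left ξ : ℤ)) hj hb]
    simp only
    rw [T.cl_push f ξ b hb, smul_mul_assoc, map_smul, smul_eq_mul]

end Groth.Agent.S15448
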