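import Groth.Statements.S15449
import Groth.Agent.H77.Weil
import Mathlib.Tactic.Ring
import Mathlib.Tactic.Linarith

set_option autoImplicit false
universe u v
open CategoryTheory AlgebraicGeometry
open WeilCoh

namespace Groth.Agent.S15449

/-- For a Weil cohomology theory H^* (coefficients in K of characteristic zero, on nonsingular connected
projective varieties over an algebraically closed field k), such varieties X and Y with product X ×
Y and projections p, q, and α ∈ H^i(Y): p_*(q^*(α)) = Tr_Y(α) (as a multiple of 1 ∈ H^0(X)) if i = 2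
dim Y, and p_*(q^*(α)) = 0 otherwise. The product is any object Q with morphisms p : Q → X, q : Q →
Y forming a cartesian square over Spec k; both sides are read in the total cohomology ring of X. -/
theorem result (k : Type u) [Field k] [IsAlgClosed k] (K : Type v) [Field K] [CharZero K]
    (T : WeilCoh.Theory k K) (X Y Q : WeilCoh.Var k) (p : Q ⟶ X) (q : Q ⟶ Y)
    (hQ : WeilCoh.IsProd p q) (i : ℤ) (a : ↥(T.gr Y i)) :
    (i = 2 * (WeilCoh.dim Y.obj.left : ℤ) →
      (T.push p i ⟨T.pull q a, T.pull_mem q i a a.2⟩ : T.H X) = algebraMap K (T.H X) (T.tr Y a)) ∧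
    (i ≠ 2 * (WeilCoh.dim Y.obj.left : ℤ) →
      (T.push p i ⟨T.pull q a, T.pull_mem q i a a.2⟩ : T.H X) = 0) := by
  open Groth.Agent.H77 in
  have hd := dim_eq_add_of_isProd T p q hQ
  have hdz : (WeilCoh.dim Q.obj.left : ℤ) = (WeilCoh.dim X.obj.left : ℤ) + (WeilCoh.dim Y.obj.left : ℤ) := by
    rw [hd]; push_cast; ring
  constructor
  · intro hi
    have hmem0 : algebraMap K (T.H X) (T.tr Y a) ∈ T.gr X 0 := by
      rw [Algebra.algebraMap_eq_smul_one]
      exact Submodule.smul_mem _ _ (SetLike.one_mem_graded (T.gr X))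
    refine eq_of_forall_tr_mul_eq' T X 0 (2 * (WeilCoh.dim X.obj.left : ℤ)) (by ring) _ _
      (mem_gr_of_eq T X (by rw [hdz, hi]; ring) (Subtype.property _)) hmem0 ?_
    intro b hb
    rw [tr_push_mul' T p i _ b (2 * (WeilCoh.dim X.obj.left : ℤ)) (by rw [hdz, hi]; ring) hb]
    have hc := T.gradedComm Q i (2 * (WeilCoh.dim X.obj.left : ℤ)) (T.pull q a) (T.pull p b)
      (T.pull_mem q i a a.2) (T.pull_mem p _ b hb)
    have hsign : ((-1 : K) ^ (i.natAbs * (2 * (WeilCoh.dim X.obj.left : ℤ)).natAbs)) = 1 := by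
      apply Even.neg_one_pow
      apply Even.mul_right
      rw [hi, Int.natAbs_mul]
      exact Even.mul_right (by decide) _
    rw [hsign, one_smul] at hc
    show T.tr Q (T.pull q (a : T.H Y) * T.pull p b) = _
    rw [hc, T.tr_prod p q hQ b a hb (hi ▸ a.2), Algebra.algebraMap_eq_smul_one, smul_mul_assoc,
      one_mul, map_smul, smul_eq_mul, mul_comm]
  · intro hi
    rcases lt_or_gt_of_ne hi with h | h
    · exact eq_zero_of_mem_gr T X _ (Or.inl (by rw [hdz]; linarith)) _ (Subtype.property _)
    · have ha : (a : T.H Y) = 0 := eq_zero_of_mem_gr T Y i (Or.inr h) _ a.2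
      have h0 : (⟨T.pull q a, T.pull_mem q i a a.2⟩ : T.gr Q i) = 0 :=
        Subtype.ext (by simp [ha])
      rw [h0, map_zero]
      rfl

end Groth.Agent.S15449
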