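import Groth.Statements.S15454
import Groth.Agent.H74.WF.Geo3
import Groth.Agent.H66.WF_LIN1
import Groth.Agent.H66.WF_ALT
import Groth.Agent.H75.WF_LIN3
-- import your own Groth.Agent.* helpers here

set_option autoImplicit false
universe u v
open CategoryTheory AlgebraicGeometry
open WeilCoh

namespace Groth.Agent.S15454

/-- Let k₀ be a finite field with q elements, k an algebraically closed field containing k₀, H^* a Weil
cohomology theory, with coefficient field K of characteristic zero, on nonsingular connected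
projective varieties over k, X a scheme of finite type over k₀ whose base change X̄ = X ×_{k₀} k is
such a variety (as it is when X is nonsingular, projective and geometrically connected), and F =
Frob_{X,q} × id the k-endomorphism of X̄ induced by the q-Frobenius of X; let n = dim X̄ and B_i =
dim_K H^i(X̄). Then det(F^* | H^{2n−i}(X̄)) = q^{n B_i} / det(F^* | H^i(X̄)), stated as det(F^* |
H^{2n−i}(X̄)) · det(F^* | H^i(X̄)) = q^{n B_i}, for every integer i (both sides are 1 outside 0 ≤ i
≤ 2n). The q-Frobenius of X is pinned as the endomorphism that is the identity on points and the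
q-th power on sections, X̄ as a cartesian square over Spec k → Spec k₀, and F by its compatibility
with the projection to X. -/
theorem result (k₀ : Type u) [Field k₀] [Finite k₀] (k : Type u) [Field k] [IsAlgClosed k] [Algebra k₀ k]
    (K : Type v) [Field K] [CharZero K] (T : WeilCoh.Theory k K)
    {X : Scheme.{u}} (f : X ⟶ Spec (CommRingCat.of k₀)) [LocallyOfFiniteType f] [QuasiCompact f]
    (FX : X ⟶ X) (hFb : FX.base = 𝟙 _) (hle : ∀ U : X.Opens, U ≤ FX ⁻¹ᵁ U)
    (hFapp : ∀ (U : X.Opens) (s : Γ(X, U)), (FX.appLE U U (hle U)).hom s = s ^ Nat.card k₀)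
    (Xb : WeilCoh.Var k) (π : Xb.obj.left ⟶ X)
    (hπ : IsPullback π Xb.obj.hom f (Spec.map (CommRingCat.ofHom (algebraMap k₀ k))))
    (F : Xb ⟶ Xb) (hF : WeilCoh.sm F ≫ π = π ≫ FX) (i : ℤ) :
    LinearMap.det (T.pullDeg F (2 * (WeilCoh.dim Xb.obj.left : ℤ) - i)) * LinearMap.det (T.pullDeg F i) =
      (Nat.card k₀ : K) ^ (WeilCoh.dim Xb.obj.left * Module.finrank K ↥(T.gr Xb i)) := by
  have hB := T.duality Xb i (2 * (WeilCoh.dim Xb.obj.left : ℤ) - i) (by ring)
  have key : ∀ (v : T.gr Xb i) (w : T.gr Xb (2 * (WeilCoh.dim Xb.obj.left : ℤ) - i)),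
      WeilCoh.pairing K (T.gr Xb i) (T.gr Xb (2 * (WeilCoh.dim Xb.obj.left : ℤ) - i)) (T.tr Xb)
        (T.pullDeg F i v) (T.pullDeg F (2 * (WeilCoh.dim Xb.obj.left : ℤ) - i) w) =
      ((Nat.card k₀ : K) ^ WeilCoh.dim Xb.obj.left) *
        WeilCoh.pairing K (T.gr Xb i) (T.gr Xb (2 * (WeilCoh.dim Xb.obj.left : ℤ) - i)) (T.tr Xb)
          v w := by
    intro v w
    rw [Groth.Agent.H77.pairing_apply, Groth.Agent.H77.pairing_apply]
    show T.tr Xb (T.pull F (v : T.H Xb) * T.pull F (w : T.H Xb)) = _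
    rw [← map_mul]
    refine Groth.Agent.H74.WF.tr_pull_frob hFb hle hFapp hπ hF T _ ?_
    exact Groth.Agent.H77.mem_gr_of_eq T Xb (by ring) (SetLike.GradedMul.mul_mem v.2 w.2)
  rw [Groth.Agent.H66.WF_LIN1.det_mul_det_of_pairing _ hB _ _ _ key, pow_mul]

end Groth.Agent.S15454
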