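import Groth.Statements.S15456
import Groth.Agent.H74.WF.Geo3
import Groth.Agent.H66.WF_LIN1
import Groth.Agent.H66.WF_ALT
import Groth.Agent.H75.WF_LIN3
import Groth.Agent.S15454
import Groth.Agent.S15455
-- import your own Groth.Agent.* helpers here

set_option autoImplicit false
universe u v
open CategoryTheory AlgebraicGeometry
open WeilCoh

namespace Groth.Agent.S15456

/-- Let k₀ be a finite field with q elements, k an algebraically closed field containing k₀, H^* a Weil
cohomology theory, with coefficient field K of characteristic zero, on nonsingular connected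
projective varieties over k, X a scheme of finite type over k₀ whose base change X̄ = X ×_{k₀} k is
such a variety (as it is when X is nonsingular, projective and geometrically connected), and F =
Frob_{X,q} × id the k-endomorphism of X̄ induced by the q-Frobenius of X; let n = dim X̄ and E =
(Δ²) the self-intersection of the diagonal of X̄, which equals Σ_i (−1)^i dim_K H^i(X̄). Then Z(X,
1/(q^n t)) = ± q^{nE/2} t^E Z(X, t). Stated in the field K(t) of rational functions for Z(t) = P_1
P_3 ⋯ P_{2n−1} / (P_0 P_2 ⋯ P_{2n}), P_i(t) = det(Id − t F^* | H^i(X̄)) (the reverse of the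
characteristic polynomial), which is the zeta function of X by its cohomological factorisation; E is
written as the alternating sum of the dimensions, nE is even, and the sign is left unspecified as in
the published statement. The q-Frobenius of X is pinned as the endomorphism that is the identity on
points and the q-th power on sections, X̄ as a cartesian square over Spec k → Spec k₀, and F by its
compatibility with the projection to X. -/
theorem result (k₀ : Type u) [Field k₀] [Finite k₀] (k : Type u) [Field k] [IsAlgClosed k] [Algebra k₀ k]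
    (K : Type v) [Field K] [CharZero K] (T : WeilCoh.Theory k K)
    {X : Scheme.{u}} (f : X ⟶ Spec (CommRingCat.of k₀)) [LocallyOfFiniteType f] [QuasiCompact f]
    (FX : X ⟶ X) (hFb : FX.base = 𝟙 _) (hle : ∀ U : X.Opens, U ≤ FX ⁻¹ᵁ U)
    (hFapp : ∀ (U : X.Opens) (s : Γ(X, U)), (FX.appLE U U (hle U)).hom s = s ^ Nat.card k₀)
    (Xb : WeilCoh.Var k) (π : Xb.obj.left ⟶ X)
    (hπ : IsPullback π Xb.obj.hom f (Spec.map (CommRingCat.ofHom (algebraMap k₀ k))))
    (F : Xb ⟶ Xb) (hF : WeilCoh.sm F ≫ π = π ≫ FX) :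
    ∃ ε : K, (ε = 1 ∨ ε = -1) ∧
      Polynomial.aeval ((RatFunc.X : RatFunc K)⁻¹ * RatFunc.C ((Nat.card k₀ : K) ^ WeilCoh.dim Xb.obj.left)⁻¹)
          (∏ i ∈ Finset.range (WeilCoh.dim Xb.obj.left),
            (LinearMap.charpoly (T.pullDeg F ((2 * i + 1 : ℕ) : ℤ))).reverse) /
        Polynomial.aeval ((RatFunc.X : RatFunc K)⁻¹ * RatFunc.C ((Nat.card k₀ : K) ^ WeilCoh.dim Xb.obj.left)⁻¹)
          (∏ i ∈ Finset.range (WeilCoh.dim Xb.obj.left + 1),
            (LinearMap.charpoly (T.pullDeg F ((2 * i : ℕ) : ℤ))).reverse) =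
      RatFunc.C ε * RatFunc.C (Nat.card k₀ : K) ^ ((WeilCoh.dim Xb.obj.left : ℤ) * (∑ i ∈ Finset.range (2 * WeilCoh.dim Xb.obj.left + 1), (-1 : ℤ) ^ i * (Module.finrank K ↥(T.gr Xb (i : ℤ)) : ℤ)) / 2) *
        (RatFunc.X : RatFunc K) ^ (∑ i ∈ Finset.range (2 * WeilCoh.dim Xb.obj.left + 1), (-1 : ℤ) ^ i * (Module.finrank K ↥(T.gr Xb (i : ℤ)) : ℤ)) *
        (algebraMap (Polynomial K) (RatFunc K)
          (∏ i ∈ Finset.range (WeilCoh.dim Xb.obj.left),
            (LinearMap.charpoly (T.pullDeg F ((2 * i + 1 : ℕ) : ℤ))).reverse) /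
         algebraMap (Polynomial K) (RatFunc K)
          (∏ i ∈ Finset.range (WeilCoh.dim Xb.obj.left + 1),
            (LinearMap.charpoly (T.pullDeg F ((2 * i : ℕ) : ℤ))).reverse)) := by
  classical
  set n := WeilCoh.dim Xb.obj.left with hn
  have hq : (Nat.card k₀ : K) ≠ 0 := Nat.cast_ne_zero.mpr Nat.card_pos.ne'
  have hcongr_det : ∀ j j' : ℤ, j = j' →
      LinearMap.det (T.pullDeg F j) = LinearMap.det (T.pullDeg F j') := by
    intro j j' h; subst h; rfl
  have hcongr_rev : ∀ j j' : ℤ, j = j' →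
      (LinearMap.charpoly (T.pullDeg F j)).reverse = (LinearMap.charpoly (T.pullDeg F j')).reverse := by
    intro j j' h; subst h; rfl
  have hcongr_rk : ∀ j j' : ℤ, j = j' →
      Module.finrank K ↥(T.gr Xb j) = Module.finrank K ↥(T.gr Xb j') := by
    intro j j' h; subst h; rfl
  have hcast : ∀ i : ℕ, i ≤ 2 * n → (((2 * n - i : ℕ)) : ℤ) = 2 * (n : ℤ) - (i : ℤ) := by
    intro i hi; rw [Nat.cast_sub hi]; push_cast; ring
  refine Groth.Agent.H75.WF_LIN3.functional_equation n (Nat.card k₀ : K) hq
    (fun i => Module.finrank K ↥(T.gr Xb (i : ℤ)))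
    (fun i => LinearMap.det (T.pullDeg F (i : ℤ)))
    (fun i => LinearMap.charpoly (T.pullDeg F (i : ℤ)))
    (fun i => LinearMap.charpoly_monic _) (fun i => LinearMap.charpoly_natDegree _) ?_ ?_ ?_ ?_
  · intro i hi
    have hB := T.duality Xb (i : ℤ) (2 * (n : ℤ) - (i : ℤ)) (by ring)
    have := Groth.Agent.H66.WF_LIN1.finrank_eq_of_pairing _ hB
    show Module.finrank K ↥(T.gr Xb ((2 * n - i : ℕ) : ℤ)) = _
    rw [hcongr_rk _ _ (hcast i hi)]
    exact this
  · intro i hi
    have := Groth.Agent.S15454.result k₀ k K T f FX hFb hle hFapp Xb π hπ F hF (i : ℤ)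
    show LinearMap.det (T.pullDeg F ((2 * n - i : ℕ) : ℤ)) * _ = _
    rw [hcongr_det _ _ (hcast i hi), ← pow_mul]
    exact this
  · intro i hi
    have := Groth.Agent.S15455.result k₀ k K T f FX hFb hle hFapp Xb π hπ F hF (i : ℤ)
    show _ • (LinearMap.charpoly (T.pullDeg F ((2 * n - i : ℕ) : ℤ))).reverse = _
    rw [hcongr_rev _ _ (hcast i hi)]
    exact this
  · rcases Nat.even_or_odd n with he | ho
    · exact he.mul_right _
    · refine Even.mul_left ?_ _
      have hB := T.duality Xb (n : ℤ) (n : ℤ) (by ring)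
      refine Groth.Agent.H66.WF_ALT.even_finrank_of_skew _ hB ?_
      intro v w
      rw [Groth.Agent.H77.pairing_apply, Groth.Agent.H77.pairing_apply]
      have hc := T.gradedComm Xb (n : ℤ) (n : ℤ) (v : T.H Xb) (w : T.H Xb) v.2 w.2
      have hodd : Odd ((n : ℤ).natAbs * (n : ℤ).natAbs) := by
        rw [Int.natAbs_natCast]; exact ho.mul ho
      rw [hc, hodd.neg_one_pow, neg_one_smul, map_neg]

end Groth.Agent.S15456
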