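import Groth.Statements.S15464
import Groth.Agent.H77.WeilThy

set_option autoImplicit false
universe u v
open CategoryTheory AlgebraicGeometry
open WeilCoh

namespace Groth.Agent.S15464

/-- Let H be a Weil cohomology theory with coefficients in a field K of characteristic zero on
nonsingular connected projective varieties over an algebraically closed field k, f : X → Y a
morphism of such varieties, P = X × Y with its projections p to X and q to Y, and j : X → P the
graph of f (the section of p with q ∘ j = f). Then for every cohomology class β on Y, homogeneous of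
degree i, one has f^*(β) = p_*(cl(Γ_f) · q^*(β)) in H(X), where cl(Γ_f) is the class of the graph,
the closed irreducible subset of P with generic point j(η_X), and p_* is the push-forward (Gysin
map) along p. Push-forward is taken degree by degree, on the homogeneous component of degree 2
codim_P(Γ_f) + i containing cl(Γ_f) · q^*(β); the identity is stated in the total cohomology ring of
X, and the case of an inhomogeneous β follows by additivity. -/
theorem result (k : Type u) [Field k] [IsAlgClosed k]
    (K : Type v) [Field K] [CharZero K] (T : WeilCoh.Theory k K) (X Y P : WeilCoh.Var k)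
    [IrreducibleSpace ↥X.obj.left] (f : X ⟶ Y) (p : P ⟶ X) (q : P ⟶ Y)
    (hP : WeilCoh.IsProd p q) (j : X ⟶ P) (hjp : j ≫ p = 𝟙 X) (hjq : j ≫ q = f)
    (i : ℤ) (β : ↥(T.gr Y i)) :
    (T.push p (2 * (WeilCoh.codim P.obj.left (WeilCoh.sm j (genericPoint ↥X.obj.left)) : ℤ) + i)
        ⟨T.cl P (WeilCoh.sm j (genericPoint ↥X.obj.left)) * T.pull q (β : T.H Y),
          SetLike.mul_mem_graded (T.cl_mem P (WeilCoh.sm j (genericPoint ↥X.obj.left)))
            (T.pull_mem q i β β.2)⟩ : T.H X) = T.pull f (β : T.H Y) := by
  have hN := Groth.Agent.H77.dim_eq_add_of_isProd T p q hP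
  have hdim : WeilCoh.dim X.obj.left ≤ WeilCoh.dim P.obj.left := by omega
  have hpd : WeilCoh.pdim P.obj.left (WeilCoh.sm j (genericPoint ↥X.obj.left)) = WeilCoh.dim X.obj.left :=
    Groth.Agent.H77.pdim_image_genericPoint (WeilCoh.sm j)
      (Groth.Agent.H77.isClosedEmbedding_of_section j p hjp)
  have hc : (WeilCoh.codim P.obj.left (WeilCoh.sm j (genericPoint ↥X.obj.left)) : ℤ) =
      (WeilCoh.dim P.obj.left : ℤ) - WeilCoh.dim X.obj.left := by
    unfold WeilCoh.codim
    rw [hpd]
    push_cast [Nat.cast_sub hdim]
    ring
  refine Groth.Agent.H77.eq_of_forall_tr_mul_eq' T X i (2 * (WeilCoh.dim X.obj.left : ℤ) - i) (by omega)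
    _ _ (Groth.Agent.H77.mem_gr_of_eq T X (by omega) (Subtype.property _)) (T.pull_mem f i β β.2)
    (fun b hb => ?_)
  rw [Groth.Agent.H77.tr_push_mul' T p _ _ b (2 * (WeilCoh.dim X.obj.left : ℤ) - i) (by omega) hb]
  simp only []
  rw [mul_assoc, ← Groth.Agent.H77.tr_pull_section T j p hjp hdim, map_mul,
    ← AlgHom.comp_apply, ← AlgHom.comp_apply, ← T.pull_comp, ← T.pull_comp, hjq, hjp, T.pull_id]
  rfl

end Groth.Agent.S15464
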