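import Groth.Statements.S15465
import Mathlib

set_option autoImplicit false
universe v u
open HomAlg

namespace Groth.Agent.S15465

open CategoryTheory CategoryTheory.Limits in
/-- In an abelian category let 0 → A₂ → B₂ → C₂ → 0 (maps i₂, π₂), 0 → A₁ → A₂ → A₃ → 0 (maps i₁, p₁)
and 0 → C₁ → C₂ → C₃ → 0 (maps j, q) be short exact sequences, let α = i₁ ≫ i₂ : A₁ → B₂ and β = π₂
≫ q : B₂ → C₃, and let K = ker β / im α be the homology object of the complex A₁ → B₂ → C₃. Let f :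
A₃ → K be the map induced by i₂ (the unique map whose composite with p₁ is the homology class of the
cycle i₂) and g : K → C₁ the map induced by π₂ (the unique map whose composite with j is the map K →
C₂ induced by π₂). Then 0 → A₃ → K → C₁ → 0, with maps f and g, is a short exact sequence. (The
hypotheses w, h₂, h₃ are consequences of i₂ ≫ π₂ = 0, carried so that the maps can be named; the
published statement assumes in addition that the category has enough injective objects, which plays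
no role in this assertion.) -/
theorem result
    {C : Type u} [Category.{v} C] [Abelian C] {A₁ A₂ A₃ B₂ C₁ C₂ C₃ : C}
    (i₁ : A₁ ⟶ A₂) (p₁ : A₂ ⟶ A₃) (wA : i₁ ≫ p₁ = 0) (hA : (ShortComplex.mk i₁ p₁ wA).ShortExact)
    (i₂ : A₂ ⟶ B₂) (π₂ : B₂ ⟶ C₂) (wB : i₂ ≫ π₂ = 0) (hB : (ShortComplex.mk i₂ π₂ wB).ShortExact)
    (j : C₁ ⟶ C₂) (q : C₂ ⟶ C₃) (wC : j ≫ q = 0) (hC : (ShortComplex.mk j q wC).ShortExact)
    (w : (i₁ ≫ i₂) ≫ (π₂ ≫ q) = 0) (h₂ : i₂ ≫ (π₂ ≫ q) = 0) (h₃ : (i₁ ≫ i₂) ≫ π₂ = 0)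
    (f : A₃ ⟶ (CategoryTheory.ShortComplex.mk (i₁ ≫ i₂) (π₂ ≫ q) w).homology)
    (g : (CategoryTheory.ShortComplex.mk (i₁ ≫ i₂) (π₂ ≫ q) w).homology ⟶ C₁)
    (hf : p₁ ≫ f = (CategoryTheory.ShortComplex.mk (i₁ ≫ i₂) (π₂ ≫ q) w).liftCycles i₂ h₂ ≫ (CategoryTheory.ShortComplex.mk (i₁ ≫ i₂) (π₂ ≫ q) w).homologyπ)
    (hg : g ≫ j = (CategoryTheory.ShortComplex.mk (i₁ ≫ i₂) (π₂ ≫ q) w).homologyι ≫ (CategoryTheory.ShortComplex.mk (i₁ ≫ i₂) (π₂ ≫ q) w).descOpcycles π₂ h₃) :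
    ∃ wfg : f ≫ g = 0, (ShortComplex.mk f g wfg).ShortExact := by

  open CategoryTheory CategoryTheory.Limits in
  have : Mono i₁ := hA.mono_f
  have : Epi p₁ := hA.epi_g
  have : Mono i₂ := hB.mono_f
  have : Epi π₂ := hB.epi_g
  have : Mono j := hC.mono_f
  have : Epi q := hC.epi_g
  obtain ⟨S, hS⟩ : ∃ S : ShortComplex C, S = ShortComplex.mk (i₁ ≫ i₂) (π₂ ≫ q) w := ⟨_, rfl⟩
  subst hS
  have key : ∀ {T : C} (b : T ⟶ B₂) (hb : b ≫ (π₂ ≫ q) = 0),
      ((ShortComplex.mk (i₁ ≫ i₂) (π₂ ≫ q) w).liftCycles b hb ≫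
        (ShortComplex.mk (i₁ ≫ i₂) (π₂ ≫ q) w).homologyπ) ≫ g ≫ j = b ≫ π₂ := by
    intro T b hb
    rw [hg, Category.assoc, ShortComplex.homology_π_ι_assoc, ShortComplex.liftCycles_i_assoc,
      ShortComplex.p_descOpcycles]
  have wfg : f ≫ g = 0 := by
    rw [← cancel_epi p₁, ← cancel_mono j, comp_zero, zero_comp]
    have hassoc : (p₁ ≫ f ≫ g) ≫ j = (p₁ ≫ f) ≫ g ≫ j := by simp only [Category.assoc]
    rw [hassoc, hf, key i₂ h₂]
    exact wB
  refine ⟨wfg, ShortComplex.ShortExact.mk' ?_ ?_ ?_⟩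
  · rw [ShortComplex.exact_iff_exact_up_to_refinements]
    intro T k hk
    obtain ⟨T', π, hπ, b, hb, hkb⟩ :=
      (ShortComplex.mk (i₁ ≫ i₂) (π₂ ≫ q) w).eq_liftCycles_homologyπ_up_to_refinements k
    have hk' : k ≫ g = 0 := hk
    have hbπ₂ : b ≫ π₂ = 0 := by
      rw [← key b hb, ← hkb, Category.assoc, reassoc_of% hk', zero_comp, comp_zero]
    have ha : hB.exact.lift b hbπ₂ ≫ i₂ = b := hB.exact.lift_f b hbπ₂
    refine ⟨T', π, hπ, hB.exact.lift b hbπ₂ ≫ p₁, ?_⟩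
    show π ≫ k = (hB.exact.lift b hbπ₂ ≫ p₁) ≫ f
    rw [hkb, Category.assoc, hf, ← Category.assoc]
    congr 1
    rw [← cancel_mono (ShortComplex.mk (i₁ ≫ i₂) (π₂ ≫ q) w).iCycles, ShortComplex.liftCycles_i,
      Category.assoc, ShortComplex.liftCycles_i, ha]
  · show Mono f
    rw [Preadditive.mono_iff_cancel_zero]
    intro T x hx
    obtain ⟨T', π, hπ, y, hy⟩ := surjective_up_to_refinements_of_epi p₁ x
    have hyb : (y ≫ i₂) ≫ (π₂ ≫ q) = 0 := by rw [Category.assoc, h₂, comp_zero]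
    have hlift : y ≫ (ShortComplex.mk (i₁ ≫ i₂) (π₂ ≫ q) w).liftCycles i₂ h₂ =
        (ShortComplex.mk (i₁ ≫ i₂) (π₂ ≫ q) w).liftCycles (y ≫ i₂) hyb := by
      rw [← cancel_mono (ShortComplex.mk (i₁ ≫ i₂) (π₂ ≫ q) w).iCycles, Category.assoc,
        ShortComplex.liftCycles_i, ShortComplex.liftCycles_i]
    have h1 : (ShortComplex.mk (i₁ ≫ i₂) (π₂ ≫ q) w).liftCycles (y ≫ i₂) hyb ≫
        (ShortComplex.mk (i₁ ≫ i₂) (π₂ ≫ q) w).homologyπ = 0 := by
      rw [← hlift, Category.assoc, ← hf, ← Category.assoc, ← hy, Category.assoc, hx, comp_zero]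
    rw [ShortComplex.liftCycles_comp_homologyπ_eq_zero_iff_up_to_refinements] at h1
    obtain ⟨T'', π', hπ', z, hz⟩ := h1
    have hz' : π' ≫ y ≫ i₂ = z ≫ i₁ ≫ i₂ := hz
    have h2 : π' ≫ y = z ≫ i₁ := by
      rw [← cancel_mono i₂, Category.assoc, Category.assoc]; exact hz'
    rw [← cancel_epi π, ← cancel_epi π', comp_zero, comp_zero, hy, ← Category.assoc, h2,
      Category.assoc, wA, comp_zero]
  · show Epi g
    rw [epi_iff_surjective_up_to_refinements]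
    intro T c
    obtain ⟨T', π, hπ, b, hb⟩ := surjective_up_to_refinements_of_epi π₂ (c ≫ j)
    have hbβ : b ≫ π₂ ≫ q = 0 := by
      rw [← Category.assoc, ← hb, Category.assoc, Category.assoc, wC, comp_zero, comp_zero]
    refine ⟨T', π, hπ, (ShortComplex.mk (i₁ ≫ i₂) (π₂ ≫ q) w).liftCycles b hbβ ≫
      (ShortComplex.mk (i₁ ≫ i₂) (π₂ ≫ q) w).homologyπ, ?_⟩
    rw [← cancel_mono j, Category.assoc, Category.assoc, key b hbβ]
    exact hb

end Groth.Agent.S15465
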