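import Groth.Statements.S15466
import Mathlib

set_option autoImplicit false
universe v u
open HomAlg

namespace Groth.Agent.S15466

open CategoryTheory CategoryTheory.Limits

set_option linter.style.haveILetI false
section
set_option backward.isDefEq.respectTransparency false
set_option backward.isDefEq.respectTransparency.types false

variable {C : Type u} [Category.{v} C] [Abelian C]

lemma toCycles_exact (T : ShortComplex C) :
    (ShortComplex.mk T.toCycles T.homologyπ T.toCycles_comp_homologyπ).Exact :=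
  ShortComplex.exact_of_g_is_cokernel _ T.homologyIsCokernel

lemma mono_toCycles (T : ShortComplex C) [Mono T.f] : Mono T.toCycles :=
  mono_of_mono_fac T.toCycles_i

/-- factor through `toCycles` -/
lemma exists_lift_toCycles (T : ShortComplex C) [Mono T.f] {W : C} (k : W ⟶ T.cycles)
    (hk : k ≫ T.homologyπ = 0) : ∃ l : W ⟶ T.X₁, l ≫ T.toCycles = k := by
  haveI := mono_toCycles T
  exact ⟨(toCycles_exact T).lift k hk, (toCycles_exact T).lift_f k hk⟩

lemma shortExact_of_isPullback {T : ShortComplex C} [Mono T.f] {P C₁ : C}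
    {x : P ⟶ C₁} {t : P ⟶ T.cycles} {s : C₁ ⟶ T.homology}
    (hP : IsPullback x t s T.homologyπ) (a : T.X₁ ⟶ P)
    (hax : a ≫ x = 0) (hat : a ≫ t = T.toCycles) :
    (ShortComplex.mk a x hax).ShortExact := by
  haveI := mono_toCycles T
  haveI : Mono a := mono_of_mono_fac hat
  haveI : Epi x := Abelian.epi_fst_of_isLimit _ _ hP.isLimit
  refine ShortComplex.ShortExact.mk' ?_ ‹_› ‹_›
  rw [ShortComplex.exact_iff_exact_up_to_refinements]
  intro W k hk
  dsimp at k hk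
  obtain ⟨l, hl⟩ := exists_lift_toCycles T (k ≫ t) (by
    rw [Category.assoc, ← hP.w, ← Category.assoc, hk, zero_comp])
  refine ⟨W, 𝟙 W, inferInstance, l, ?_⟩
  dsimp
  rw [Category.id_comp]
  apply hP.hom_ext
  · rw [hk, Category.assoc, hax, comp_zero]
  · rw [Category.assoc, hat, hl]

lemma phi_eq {T : ShortComplex C} {P C₁ : C}
    {x : P ⟶ C₁} {t : P ⟶ T.cycles} {s : C₁ ⟶ T.homology} [Mono s] [Mono t]
    (hP : IsPullback x t s T.homologyπ) :
    (Subobject.map T.iCycles).obj ((Subobject.pullback T.homologyπ).obj (imageSubobject s)) =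
      Subobject.mk (t ≫ T.iCycles) := by
  rw [imageSubobject_mono, Subobject.pullback_obj_mk hP, Subobject.map_mk]

/-- Abstract data: `T` a short complex with mono `f`, and `g : H(T) ⟶ C₁` compatible. -/
lemma ker_g {T : ShortComplex C} {A₂ A₃ C₁ C₂ : C} (p₁ : A₂ ⟶ A₃)
    (i₂ : A₂ ⟶ T.X₂) (π₂ : T.X₂ ⟶ C₂) (wB : i₂ ≫ π₂ = 0)
    (hB : (ShortComplex.mk i₂ π₂ wB).ShortExact) (j : C₁ ⟶ C₂)
    (h₂ : i₂ ≫ T.g = 0)
    (f : A₃ ⟶ T.homology) (g : T.homology ⟶ C₁)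
    (hf : p₁ ≫ f = T.liftCycles i₂ h₂ ≫ T.homologyπ)
    (hπg : T.homologyπ ≫ g ≫ j = T.iCycles ≫ π₂)
    {W : C} (k : W ⟶ T.homology) (hk : k ≫ g = 0) :
    ∃ (W' : C) (e : W' ⟶ W) (_ : Epi e) (l : W' ⟶ A₂), e ≫ k = l ≫ p₁ ≫ f := by
  obtain ⟨W', e, he, k', hk'⟩ := surjective_up_to_refinements_of_epi T.homologyπ k
  haveI : Mono i₂ := hB.mono_f
  have h0 : (k' ≫ T.iCycles) ≫ π₂ = 0 := by
    rw [Category.assoc, ← hπg, ← Category.assoc, ← hk', Category.assoc,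
      ← Category.assoc k, hk, zero_comp, comp_zero]
  refine ⟨W', e, he, hB.exact.lift (k' ≫ T.iCycles) h0, ?_⟩
  rw [hk', hf, ← Category.assoc]
  congr 1
  rw [← cancel_mono T.iCycles, Category.assoc, ShortComplex.liftCycles_i]
  exact (hB.exact.lift_f (k' ≫ T.iCycles) h0).symm

lemma backward {T : ShortComplex C} [Mono T.f] {A₂ A₃ C₁ C₂ P : C}
    (i₁ : T.X₁ ⟶ A₂) (p₁ : A₂ ⟶ A₃) (wA : i₁ ≫ p₁ = 0)
    (hA : (ShortComplex.mk i₁ p₁ wA).ShortExact)
    (i₂ : A₂ ⟶ T.X₂) (π₂ : T.X₂ ⟶ C₂) (wB : i₂ ≫ π₂ = 0)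
    (hB : (ShortComplex.mk i₂ π₂ wB).ShortExact) (j : C₁ ⟶ C₂) [Mono j]
    (hα : i₁ ≫ i₂ = T.f) [Epi T.g]
    (h₂ : i₂ ≫ T.g = 0)
    (f : A₃ ⟶ T.homology) (g : T.homology ⟶ C₁)
    (hf : p₁ ≫ f = T.liftCycles i₂ h₂ ≫ T.homologyπ)
    (hπg : T.homologyπ ≫ g ≫ j = T.iCycles ≫ π₂)
    {x : P ⟶ C₁} {t : P ⟶ T.cycles} {s : C₁ ⟶ T.homology}
    (hP : IsPullback x t s T.homologyπ) (hs : s ≫ g = 𝟙 C₁)
    (m : P ⟶ T.X₂) [Mono m] (hm : t ≫ T.iCycles = m) :
    ∃ (a : T.X₁ ⟶ P) (c : P ⟶ C₁) (wac : a ≫ c = 0)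
      (a' : A₃ ⟶ cokernel m) (c' : cokernel m ⟶ T.X₃) (wac' : a' ≫ c' = 0),
      a ≫ m = T.f ∧ c ≫ j = m ≫ π₂ ∧ (ShortComplex.mk a c wac).ShortExact ∧
      p₁ ≫ a' = i₂ ≫ cokernel.π m ∧ cokernel.π m ≫ c' = T.g ∧
      (ShortComplex.mk a' c' wac').ShortExact := by
  have hxe : x = t ≫ T.homologyπ ≫ g := by
    rw [← Category.assoc, ← hP.w, Category.assoc, hs, Category.comp_id]
  let a : T.X₁ ⟶ P := hP.lift 0 T.toCycles (by rw [zero_comp, T.toCycles_comp_homologyπ])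
  have hax : a ≫ x = 0 := hP.lift_fst _ _ _
  have hat : a ≫ t = T.toCycles := hP.lift_snd _ _ _
  have hSE := shortExact_of_isPullback hP a hax hat
  have ham : a ≫ m = T.f := by rw [← hm, ← Category.assoc, hat]; exact T.toCycles_i
  have hmβ : m ≫ T.g = 0 := by rw [← hm, Category.assoc, T.iCycles_g, comp_zero]
  have hxj : x ≫ j = m ≫ π₂ := by
    rw [hxe, Category.assoc, Category.assoc, hπg, ← hm, Category.assoc]
  haveI : Epi p₁ := hA.epi_g
  haveI : Mono i₂ := hB.mono_f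
  let a' : A₃ ⟶ cokernel m := hA.gIsCokernel.desc (CokernelCofork.ofπ (i₂ ≫ cokernel.π m) (by
    dsimp
    rw [← Category.assoc, hα, ← ham, Category.assoc, cokernel.condition, comp_zero]))
  have ha' : p₁ ≫ a' = i₂ ≫ cokernel.π m := hA.gIsCokernel.fac _ WalkingParallelPair.one
  let c' : cokernel m ⟶ T.X₃ := cokernel.desc m T.g hmβ
  have hc' : cokernel.π m ≫ c' = T.g := cokernel.π_desc _ _ _
  have wac' : a' ≫ c' = 0 := by
    rw [← cancel_epi p₁, ← Category.assoc, ha', Category.assoc, hc', h₂, comp_zero]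
  refine ⟨a, x, hax, a', c', wac', ham, hxj, hSE, ha', hc', ?_⟩
  haveI : Epi c' := epi_of_epi_fac hc'
  have hEx := ShortComplex.exact_cokernel m
  haveI : Mono a := hSE.mono_f
  haveI : Mono a' := by
    refine Preadditive.mono_of_cancel_zero _ (fun {W} z hz => ?_)
    obtain ⟨W', e, he, y, hy⟩ := surjective_up_to_refinements_of_epi p₁ z
    have h1 : (y ≫ i₂) ≫ cokernel.π m = 0 := by
      rw [Category.assoc, ← ha', ← Category.assoc, ← hy, Category.assoc, hz, comp_zero]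
    have hu : hEx.lift (y ≫ i₂) h1 ≫ m = y ≫ i₂ := hEx.lift_f _ _
    have hux : hEx.lift (y ≫ i₂) h1 ≫ x = 0 := by
      rw [← cancel_mono j, Category.assoc, hxj, ← Category.assoc, hu, Category.assoc, wB,
        comp_zero, zero_comp]
    have hl : hSE.exact.lift _ hux ≫ a = hEx.lift (y ≫ i₂) h1 := hSE.exact.lift_f _ _
    have hy2 : y = hSE.exact.lift _ hux ≫ i₁ := by
      rw [← cancel_mono i₂, Category.assoc, hα, ← ham, ← Category.assoc, hl, hu]
    rw [← cancel_epi e, hy, hy2, Category.assoc, wA, comp_zero, comp_zero]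
  refine ShortComplex.ShortExact.mk' ?_ ‹_› ‹_›
  rw [ShortComplex.exact_iff_exact_up_to_refinements]
  intro W z hz
  dsimp at z hz
  obtain ⟨W₁, e₁, he₁, y, hy⟩ := surjective_up_to_refinements_of_epi (cokernel.π m) z
  have hyβ : y ≫ T.g = 0 := by
    rw [← hc', ← Category.assoc, ← hy, Category.assoc, hz, comp_zero]
  have hy' : T.liftCycles y hyβ ≫ T.iCycles = y := T.liftCycles_i _ _
  obtain ⟨W₂, e₂, he₂, k₂, hk₂⟩ := ker_g p₁ i₂ π₂ wB hB j h₂ f g hf hπg
    (T.liftCycles y hyβ ≫ T.homologyπ - T.liftCycles y hyβ ≫ T.homologyπ ≫ g ≫ s) (by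
      rw [Preadditive.sub_comp]
      simp only [Category.assoc, hs, Category.comp_id, sub_self])
  rw [hf] at hk₂
  have hu : hP.lift (e₂ ≫ T.liftCycles y hyβ ≫ T.homologyπ ≫ g)
      (e₂ ≫ T.liftCycles y hyβ - k₂ ≫ T.liftCycles i₂ h₂) (by
        rw [Preadditive.sub_comp, Category.assoc k₂, ← hk₂, Preadditive.comp_sub]
        simp only [Category.assoc]
        abel) ≫ t = e₂ ≫ T.liftCycles y hyβ - k₂ ≫ T.liftCycles i₂ h₂ := hP.lift_snd _ _ _
  refine ⟨W₂, e₂ ≫ e₁, epi_comp _ _, k₂ ≫ p₁, ?_⟩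
  dsimp
  rw [Category.assoc, hy, Category.assoc, ha']
  have h3 : e₂ ≫ y = hP.lift (e₂ ≫ T.liftCycles y hyβ ≫ T.homologyπ ≫ g)
      (e₂ ≫ T.liftCycles y hyβ - k₂ ≫ T.liftCycles i₂ h₂) (by
        rw [Preadditive.sub_comp, Category.assoc k₂, ← hk₂, Preadditive.comp_sub]
        simp only [Category.assoc]
        abel) ≫ m + k₂ ≫ i₂ := by
    rw [← hm, ← Category.assoc _ t, hu, Preadditive.sub_comp, Category.assoc, Category.assoc,
      T.liftCycles_i, T.liftCycles_i]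
    abel
  rw [← Category.assoc, h3, Preadditive.add_comp, Category.assoc, cokernel.condition, comp_zero,
    zero_add, Category.assoc]

lemma forward {T : ShortComplex C} [Mono T.f] {C₁ C₂ P : C}
    (π₂ : T.X₂ ⟶ C₂) (j : C₁ ⟶ C₂) [Mono j]
    (g : T.homology ⟶ C₁)
    (hπg : T.homologyπ ≫ g ≫ j = T.iCycles ≫ π₂)
    (m : P ⟶ T.X₂) [Mono m] (a : T.X₁ ⟶ P) (c : P ⟶ C₁) (wac : a ≫ c = 0)
    (hSE : (ShortComplex.mk a c wac).ShortExact) (ham : a ≫ m = T.f) (hcj : c ≫ j = m ≫ π₂)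
    (hmβ : m ≫ T.g = 0) :
    ∃ (s : C₁ ⟶ T.homology), s ≫ g = 𝟙 C₁ ∧ ∃ (t : P ⟶ T.cycles), t ≫ T.iCycles = m ∧
      IsPullback c t s T.homologyπ := by
  have ht : T.liftCycles m hmβ ≫ T.iCycles = m := T.liftCycles_i _ _
  have hat : a ≫ T.liftCycles m hmβ = T.toCycles := by
    rw [← cancel_mono T.iCycles, Category.assoc, ht, ham, T.toCycles_i]
  haveI : Epi c := hSE.epi_g
  haveI : Mono a := hSE.mono_f
  let s : C₁ ⟶ T.homology := hSE.gIsCokernel.desc
    (CokernelCofork.ofπ (T.liftCycles m hmβ ≫ T.homologyπ) (by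
      dsimp
      rw [← Category.assoc, hat, T.toCycles_comp_homologyπ]))
  have hcs : c ≫ s = T.liftCycles m hmβ ≫ T.homologyπ :=
    hSE.gIsCokernel.fac _ WalkingParallelPair.one
  have hs : s ≫ g = 𝟙 C₁ := by
    rw [← cancel_epi c, ← cancel_mono j, Category.assoc, Category.assoc, ← Category.assoc c, hcs,
      Category.assoc, hπg, ← Category.assoc, ht, Category.comp_id, hcj]
  refine ⟨s, hs, T.liftCycles m hmβ, ht, ?_⟩
  haveI : Mono (T.liftCycles m hmβ) := mono_of_mono_fac ht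
  haveI : Mono (pullback.lift c (T.liftCycles m hmβ) hcs) :=
    mono_of_mono_fac (pullback.lift_snd _ _ _)
  haveI : Epi (pullback.lift c (T.liftCycles m hmβ) hcs) := by
    rw [epi_iff_surjective_up_to_refinements]
    intro W z
    obtain ⟨W', e, he, u', hu'⟩ :=
      surjective_up_to_refinements_of_epi c (z ≫ pullback.fst _ _)
    obtain ⟨l, hl⟩ := exists_lift_toCycles T
      (e ≫ z ≫ pullback.snd _ _ - u' ≫ T.liftCycles m hmβ) (by
        have h9 : (e ≫ z ≫ pullback.snd s T.homologyπ) ≫ T.homologyπ =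
            (e ≫ z ≫ pullback.fst s T.homologyπ) ≫ s := by
          simp only [Category.assoc, pullback.condition]
        rw [Preadditive.sub_comp, h9, hu', Category.assoc, Category.assoc, hcs, sub_self])
    refine ⟨W', e, he, u' + l ≫ a, ?_⟩
    apply pullback.hom_ext
    · rw [Category.assoc, hu', Category.assoc, pullback.lift_fst, Preadditive.add_comp,
        Category.assoc, wac, comp_zero, add_zero]
    · rw [Category.assoc, Category.assoc, pullback.lift_snd, Preadditive.add_comp,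
        Category.assoc, hat, hl]
      abel
  haveI : IsIso (pullback.lift c (T.liftCycles m hmβ) hcs) := isIso_of_mono_of_epi _
  exact IsPullback.of_iso_pullback ⟨hcs⟩ (asIso (pullback.lift c (T.liftCycles m hmβ) hcs))
    (pullback.lift_fst _ _ _) (pullback.lift_snd _ _ _)

lemma inj_aux {T : ShortComplex C} {C₁ : C} (g : T.homology ⟶ C₁)
    (s s' : C₁ ⟶ T.homology) (hs : s ≫ g = 𝟙 C₁) (hs' : s' ≫ g = 𝟙 C₁)
    (h : (Subobject.map T.iCycles).obj ((Subobject.pullback T.homologyπ).obj (imageSubobject s)) =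
      (Subobject.map T.iCycles).obj ((Subobject.pullback T.homologyπ).obj (imageSubobject s'))) :
    s = s' := by
  haveI : Mono s := mono_of_mono_fac (h := 𝟙 C₁) hs
  haveI : Mono s' := mono_of_mono_fac (h := 𝟙 C₁) hs'
  rw [phi_eq (IsPullback.of_hasPullback s T.homologyπ),
    phi_eq (IsPullback.of_hasPullback s' T.homologyπ)] at h
  have hψ : Subobject.ofMkLEMk _ _ h.le ≫ (pullback.snd s' T.homologyπ ≫ T.iCycles) =
      pullback.snd s T.homologyπ ≫ T.iCycles := Subobject.ofMkLEMk_comp h.le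
  have hψ2 : Subobject.ofMkLEMk _ _ h.le ≫ pullback.snd s' T.homologyπ =
      pullback.snd s T.homologyπ := by
    rw [← cancel_mono T.iCycles, Category.assoc, hψ]
  have h1 : pullback.fst s T.homologyπ = pullback.snd s T.homologyπ ≫ T.homologyπ ≫ g := by
    rw [← Category.assoc, ← pullback.condition, Category.assoc, hs, Category.comp_id]
  have h1' : pullback.fst s' T.homologyπ = pullback.snd s' T.homologyπ ≫ T.homologyπ ≫ g := by
    rw [← Category.assoc, ← pullback.condition, Category.assoc, hs', Category.comp_id]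
  have h2 : Subobject.ofMkLEMk _ _ h.le ≫ pullback.fst s' T.homologyπ =
      pullback.fst s T.homologyπ := by
    rw [h1', ← Category.assoc, hψ2, ← h1]
  haveI : Epi (pullback.fst s T.homologyπ) := Abelian.epi_pullback_of_epi_g _ _
  rw [← cancel_epi (pullback.fst s T.homologyπ), pullback.condition, ← hψ2, Category.assoc,
    ← pullback.condition, ← Category.assoc, h2]

end

open CategoryTheory CategoryTheory.Limits in
/-- In an abelian category let 0 → A₂ → B₂ → C₂ → 0 (maps i₂, π₂), 0 → A₁ → A₂ → A₃ → 0 (maps i₁, p₁)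
and 0 → C₁ → C₂ → C₃ → 0 (maps j, q) be short exact sequences, α = i₁ ≫ i₂, β = π₂ ≫ q, K = ker β /
im α, and let f : A₃ → K and g : K → C₁ be the maps induced by i₂ and π₂ (pinned by their defining
squares), so that 0 → A₃ → K → C₁ → 0 is short exact. Sending a section s of g to the subobject B₁
of B₂ obtained by pulling the image of s back along ker β → K and then including ker β into B₂ is a
bijection from the sections of g (equivalently, the splittings of that sequence) onto the subobjects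
B₁ of B₂ that complete the data to a 3 × 3 diagram with exact rows and columns: there are maps A₁ →
B₁ → C₁ over i₁ ≫ i₂ and under π₂ forming a short exact sequence, and maps A₃ → B₂/B₁ → C₃ under i₂
and over π₂ ≫ q forming a short exact sequence. (The hypotheses w, h₂, h₃ are consequences of i₂ ≫
π₂ = 0, carried so that the maps can be named; the published statement assumes in addition that the
category has enough injective objects, which plays no role here.) -/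
theorem result
    {C : Type u} [Category.{v} C] [Abelian C] {A₁ A₂ A₃ B₂ C₁ C₂ C₃ : C}
    (i₁ : A₁ ⟶ A₂) (p₁ : A₂ ⟶ A₃) (wA : i₁ ≫ p₁ = 0) (hA : (ShortComplex.mk i₁ p₁ wA).ShortExact)
    (i₂ : A₂ ⟶ B₂) (π₂ : B₂ ⟶ C₂) (wB : i₂ ≫ π₂ = 0) (hB : (ShortComplex.mk i₂ π₂ wB).ShortExact)
    (j : C₁ ⟶ C₂) (q : C₂ ⟶ C₃) (wC : j ≫ q = 0) (hC : (ShortComplex.mk j q wC).ShortExact)
    (w : (i₁ ≫ i₂) ≫ (π₂ ≫ q) = 0) (h₂ : i₂ ≫ (π₂ ≫ q) = 0) (h₃ : (i₁ ≫ i₂) ≫ π₂ = 0)
    (f : A₃ ⟶ (CategoryTheory.ShortComplex.mk (i₁ ≫ i₂) (π₂ ≫ q) w).homology)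
    (g : (CategoryTheory.ShortComplex.mk (i₁ ≫ i₂) (π₂ ≫ q) w).homology ⟶ C₁)
    (hf : p₁ ≫ f = (CategoryTheory.ShortComplex.mk (i₁ ≫ i₂) (π₂ ≫ q) w).liftCycles i₂ h₂ ≫ (CategoryTheory.ShortComplex.mk (i₁ ≫ i₂) (π₂ ≫ q) w).homologyπ)
    (hg : g ≫ j = (CategoryTheory.ShortComplex.mk (i₁ ≫ i₂) (π₂ ≫ q) w).homologyι ≫ (CategoryTheory.ShortComplex.mk (i₁ ≫ i₂) (π₂ ≫ q) w).descOpcycles π₂ h₃) :
    (∀ B₁ : Subobject B₂,
      (∃ (a : A₁ ⟶ (B₁ : C)) (c : (B₁ : C) ⟶ C₁) (wac : a ≫ c = 0)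
         (a' : A₃ ⟶ cokernel B₁.arrow) (c' : cokernel B₁.arrow ⟶ C₃) (wac' : a' ≫ c' = 0),
         a ≫ B₁.arrow = i₁ ≫ i₂ ∧ c ≫ j = B₁.arrow ≫ π₂ ∧ (ShortComplex.mk a c wac).ShortExact ∧
         p₁ ≫ a' = i₂ ≫ cokernel.π B₁.arrow ∧ cokernel.π B₁.arrow ≫ c' = π₂ ≫ q ∧
         (ShortComplex.mk a' c' wac').ShortExact) ↔
      ∃ s : C₁ ⟶ (CategoryTheory.ShortComplex.mk (i₁ ≫ i₂) (π₂ ≫ q) w).homology, s ≫ g = 𝟙 C₁ ∧
        (Subobject.map (CategoryTheory.ShortComplex.mk (i₁ ≫ i₂) (π₂ ≫ q) w).iCycles).obj ((Subobject.pullback (CategoryTheory.ShortComplex.mk (i₁ ≫ i₂) (π₂ ≫ q) w).homologyπ).obj (imageSubobject s)) = B₁) ∧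
    (∀ s s' : C₁ ⟶ (CategoryTheory.ShortComplex.mk (i₁ ≫ i₂) (π₂ ≫ q) w).homology, s ≫ g = 𝟙 C₁ → s' ≫ g = 𝟙 C₁ →
      (Subobject.map (CategoryTheory.ShortComplex.mk (i₁ ≫ i₂) (π₂ ≫ q) w).iCycles).obj ((Subobject.pullback (CategoryTheory.ShortComplex.mk (i₁ ≫ i₂) (π₂ ≫ q) w).homologyπ).obj (imageSubobject s)) = (Subobject.map (CategoryTheory.ShortComplex.mk (i₁ ≫ i₂) (π₂ ≫ q) w).iCycles).obj ((Subobject.pullback (CategoryTheory.ShortComplex.mk (i₁ ≫ i₂) (π₂ ≫ q) w).homologyπ).obj (imageSubobject s')) → s = s') := by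
  haveI : Mono i₁ := hA.mono_f
  haveI : Mono i₂ := hB.mono_f
  haveI : Mono j := hC.mono_f
  haveI : Epi π₂ := hB.epi_g
  haveI : Epi q := hC.epi_g
  haveI : Mono (CategoryTheory.ShortComplex.mk (i₁ ≫ i₂) (π₂ ≫ q) w).f := by
    dsimp; infer_instance
  haveI : Epi (CategoryTheory.ShortComplex.mk (i₁ ≫ i₂) (π₂ ≫ q) w).g := by
    dsimp; infer_instance
  have hπg : (CategoryTheory.ShortComplex.mk (i₁ ≫ i₂) (π₂ ≫ q) w).homologyπ ≫ g ≫ j =
      (CategoryTheory.ShortComplex.mk (i₁ ≫ i₂) (π₂ ≫ q) w).iCycles ≫ π₂ := by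
    rw [hg, ShortComplex.homology_π_ι_assoc, ShortComplex.p_descOpcycles]
  refine ⟨fun B₁ => ⟨?_, ?_⟩, fun s s' hs hs' h => inj_aux g s s' hs hs' h⟩
  · rintro ⟨a, c, wac, a', c', wac', ham, hcj, hSE, ha', hc', hSE'⟩
    have hmβ : B₁.arrow ≫ (π₂ ≫ q) = 0 := by
      rw [← hc', cokernel.condition_assoc, zero_comp]
    obtain ⟨s, hs, t, ht, hP⟩ := forward (T := CategoryTheory.ShortComplex.mk (i₁ ≫ i₂) (π₂ ≫ q) w)
      π₂ j g hπg B₁.arrow a c wac hSE ham hcj hmβ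
    refine ⟨s, hs, ?_⟩
    haveI : Mono s := mono_of_mono_fac (h := 𝟙 C₁) hs
    haveI : Mono t := mono_of_mono_fac ht
    rw [phi_eq hP]
    exact Subobject.mk_eq_of_comm _ (Iso.refl _) (by simp [ht])
  · rintro ⟨s, hs, rfl⟩
    haveI : Mono s := mono_of_mono_fac (h := 𝟙 C₁) hs
    have hΦ := phi_eq (IsPullback.of_hasPullback s
      (CategoryTheory.ShortComplex.mk (i₁ ≫ i₂) (π₂ ≫ q) w).homologyπ)
    have he : Subobject.ofLEMk _ _ hΦ.le ≫ (pullback.snd s
      (CategoryTheory.ShortComplex.mk (i₁ ≫ i₂) (π₂ ≫ q) w).homologyπ ≫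
      (CategoryTheory.ShortComplex.mk (i₁ ≫ i₂) (π₂ ≫ q) w).iCycles) = Subobject.arrow _ :=
      Subobject.ofLEMk_comp hΦ.le
    have hP := IsPullback.of_iso_pullback
      (fst := (Subobject.isoOfEqMk _ _ hΦ).hom ≫ pullback.fst s
        (CategoryTheory.ShortComplex.mk (i₁ ≫ i₂) (π₂ ≫ q) w).homologyπ)
      (snd := (Subobject.isoOfEqMk _ _ hΦ).hom ≫ pullback.snd s
        (CategoryTheory.ShortComplex.mk (i₁ ≫ i₂) (π₂ ≫ q) w).homologyπ)
      ⟨by rw [Category.assoc, Category.assoc, pullback.condition]⟩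
      (Subobject.isoOfEqMk _ _ hΦ) rfl rfl
    exact backward (T := CategoryTheory.ShortComplex.mk (i₁ ≫ i₂) (π₂ ≫ q) w)
      i₁ p₁ wA hA i₂ π₂ wB hB j rfl h₂ f g hf hπg hP hs _ (by
        rw [Category.assoc]; exact he)

end Groth.Agent.S15466
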