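import Groth.Statements.S1547
import Groth.Agent.H37.GeomSepClosed

set_option autoImplicit false
universe u
open CategoryTheory CategoryTheory.Limits AlgebraicGeometry
open Variety

namespace Groth.Agent.S1547

/-- Let k be a separably closed field, X a scheme over k and K any field extension of k. Then taking
images along the projection X_K → X is injective on irreducible components: two irreducible
components of X_K with the same image in X are equal. (Together with surjectivity on irreducible
components, stated separately, this gives a bijection of irreducible components.) -/
theorem result (k : Type u) [Field k] (X : Scheme.{u}) [X.Over (Spec (CommRingCat.of k))] [IsSepClosed k] (K : Type u) [Field K] [Algebra k K]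
    (T T' : Set (Curv2.bc k X K : Type u)) (hT : T ∈ irreducibleComponents (Curv2.bc k X K : Type u))
    (hT' : T' ∈ irreducibleComponents (Curv2.bc k X K : Type u))
    (h : (Curv2.bcFst k X K).base '' T = (Curv2.bcFst k X K).base '' T') : T = T' := by
  haveI hgi : GeometricallyIrreducible (Curv2.bcFst k X K) :=
    MorphismProperty.pullback_fst (P := @GeometricallyIrreducible) _ _
      (Groth.Agent.H37.geomIrr_specMap_of_isSepClosed (k := k) (K := K))
  haveI huo : UniversallyOpen (Curv2.bcFst k X K) :=
    MorphismProperty.pullback_fst (P := @UniversallyOpen) _ _
      (Groth.Agent.H37.univOpen_specMap_field (k := k) (K := K))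
  have hinj := ((Curv2.bcFst k X K).irreducibleComponentsEquiv
    (Curv2.bcFst k X K).isOpenMap).injective
  have heq : (Curv2.bcFst k X K).irreducibleComponentsEquiv (Curv2.bcFst k X K).isOpenMap ⟨T, hT⟩ =
      (Curv2.bcFst k X K).irreducibleComponentsEquiv (Curv2.bcFst k X K).isOpenMap ⟨T', hT'⟩ := by
    apply Subtype.ext
    simpa using h
  exact congrArg Subtype.val (hinj heq)

end Groth.Agent.S1547
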