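import Groth.Statements.S15487
import Groth.Agent.S12817
import Groth.Agent.H32.FibProd

set_option autoImplicit false
universe u
open CategoryTheory AlgebraicGeometry
open IsoNat

namespace Groth.Agent.S15487

open FibCat Groth.Agent.H32.FibProd

theorem cls_eq_of_hom {S : Scheme.{u}} {𝒵 : AlgSt.Cat S} (h𝒵 : IsFibGrpd 𝒵.p) {T : Over S}
    (z₁ z₂ : 𝒵.p.Fiber T) (m : z₁.1 ⟶ z₂.1) (hm : 𝒵.p.IsHomLift (𝟙 T) m) :
    IsoNat.cls z₁ = IsoNat.cls z₂ := by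
  haveI : IsIso m := isIso_of_isFibGrpd 𝒵.p h𝒵 (𝟙 T) m
  have hinv : 𝒵.p.IsHomLift (𝟙 T) (inv m) := inferInstance
  refine Quotient.sound ⟨⟨⟨m, hm⟩, ⟨inv m, hinv⟩, ?_, ?_⟩⟩
  · apply Functor.Fiber.hom_ext
    change m ≫ inv m = 𝟙 _
    simp
  · apply Functor.Fiber.hom_ext
    change inv m ≫ m = 𝟙 _
    simp

theorem exists_base₂ {C : Type*} [Category C] {𝒵 : Type*} [Category 𝒵] (p : 𝒵 ⥤ C) {r t : 𝒵}
    (a : r ⟶ t) {V W : C} (hr : p.obj r = V) (ht : p.obj t = W) :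
    ∃ g : V ⟶ W, p.IsHomLift g a := by
  subst hr ht
  exact ⟨p.map a, inferInstance⟩

theorem hom_of_cls_eq {S : Scheme.{u}} {𝒵 : AlgSt.Cat S} {T : Over S}
    (z₁ z₂ : 𝒵.p.Fiber T) (h : IsoNat.cls z₁ = IsoNat.cls z₂) : Nonempty (z₁.1 ⟶ z₂.1) := by
  have h' : IsIsomorphic z₁ z₂ := Quotient.exact h
  obtain ⟨e⟩ := h'
  exact ⟨e.hom.1⟩

/-- Surjectivity of a morphism of algebraic stacks is detected by the induced map of presheaves of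
isomorphism classes. Let f : 𝒳 → 𝒴 and f' : 𝒳' → 𝒴' be morphisms of algebraic stacks over a
quasi-separated scheme S with isomorphisms of the presheaves of isomorphism classes of 𝒳 with 𝒳' and
of 𝒴 with 𝒴' under which the induced maps correspond. If f induces a surjective map on spaces of
points, so does f'. Here an algebraic stack over a quasi-separated scheme S means a stack in
groupoids for the fppf topology with a smooth surjective atlas from a scheme, whose diagonal is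
representable by separated quasi-compact morphisms of algebraic spaces and whose inertia is locally
of finite presentation over it. -/
theorem result
    (S : Scheme.{u}) [QuasiSeparatedSpace S]
    (𝒳 𝒴 : AlgSt.Cat S)
    (h𝒳 : AlgSt.IsAlgStack Scheme.fppfPrecoverage 𝒳)
    (h𝒳d : AlgSt.RepByAlgSpWith (AlgSp.IsSeparatedMor ⊓ AlgSp.IsQuasiCompactMor)
      (FibCat.diag (FibCat.toSelf 𝒳)))
    (h𝒳i : AlgSt.RepByAlgSpWith (AlgSp.LocP @LocallyOfFinitePresentation)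
      (FibCat.inertiaToBase (FibCat.toSelf 𝒳)))
    (h𝒴 : AlgSt.IsAlgStack Scheme.fppfPrecoverage 𝒴)
    (h𝒴d : AlgSt.RepByAlgSpWith (AlgSp.IsSeparatedMor ⊓ AlgSp.IsQuasiCompactMor)
      (FibCat.diag (FibCat.toSelf 𝒴)))
    (h𝒴i : AlgSt.RepByAlgSpWith (AlgSp.LocP @LocallyOfFinitePresentation)
      (FibCat.inertiaToBase (FibCat.toSelf 𝒴)))
    (𝒳' 𝒴' : AlgSt.Cat S)
    (h𝒳' : AlgSt.IsAlgStack Scheme.fppfPrecoverage 𝒳')
    (h𝒳'd : AlgSt.RepByAlgSpWith (AlgSp.IsSeparatedMor ⊓ AlgSp.IsQuasiCompactMor)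
      (FibCat.diag (FibCat.toSelf 𝒳')))
    (h𝒳'i : AlgSt.RepByAlgSpWith (AlgSp.LocP @LocallyOfFinitePresentation)
      (FibCat.inertiaToBase (FibCat.toSelf 𝒳')))
    (h𝒴' : AlgSt.IsAlgStack Scheme.fppfPrecoverage 𝒴')
    (h𝒴'd : AlgSt.RepByAlgSpWith (AlgSp.IsSeparatedMor ⊓ AlgSp.IsQuasiCompactMor)
      (FibCat.diag (FibCat.toSelf 𝒴')))
    (h𝒴'i : AlgSt.RepByAlgSpWith (AlgSp.LocP @LocallyOfFinitePresentation)
      (FibCat.inertiaToBase (FibCat.toSelf 𝒴')))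
    (f : 𝒳 ⥤ᵇ 𝒴) (f' : 𝒳' ⥤ᵇ 𝒴') (φ : IsoNat.FIsoSq f f')
    (hf : AlgSt.IsSurjective f) :
    AlgSt.IsSurjective f' := by
  have hX := h𝒳.isStack.1
  have hY := h𝒴.isStack.1
  have hRel := Groth.Agent.S12817.result 𝒴 hY
  intro q'
  obtain ⟨p', rfl⟩ := AlgSt.Points.mk_surjective q'
  obtain ⟨yfib, hy⟩ := Quotient.exists_rep
    ((φ.tgt.toEquiv (Over.mk p'.str)).symm (IsoNat.cls (⟨p'.obj, p'.lies⟩ : 𝒴'.p.Fiber (Over.mk p'.str))))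
  have hy' : φ.tgt.toEquiv (Over.mk p'.str) (IsoNat.cls yfib) =
      IsoNat.cls (⟨p'.obj, p'.lies⟩ : 𝒴'.p.Fiber (Over.mk p'.str)) := by
    have h0 : IsoNat.cls yfib = (φ.tgt.toEquiv (Over.mk p'.str)).symm
        (IsoNat.cls (⟨p'.obj, p'.lies⟩ : 𝒴'.p.Fiber (Over.mk p'.str))) := hy
    rw [h0, Equiv.apply_symm_apply]
  obtain ⟨q0, hq0⟩ := hf (AlgSt.Points.mk
    { K := p'.K, field := p'.field, str := p'.str, obj := yfib.1, lies := yfib.2 })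
  obtain ⟨q, rfl⟩ := AlgSt.Points.mk_surjective q0
  have hrel : AlgSt.FPt.Rel (q.map f)
      { K := p'.K, field := p'.field, str := p'.str, obj := yfib.1, lies := yfib.2 } := by
    have h0 : Quot.mk (@AlgSt.FPt.Rel S 𝒴) (q.map f) = Quot.mk (@AlgSt.FPt.Rel S 𝒴)
        { K := p'.K, field := p'.field, str := p'.str, obj := yfib.1, lies := yfib.2 } := hq0
    exact hRel.eqvGen_iff.mp (Quot.eq.mp h0)
  obtain ⟨r, a, b, -⟩ := hrel
  change r.obj ⟶ f.obj q.obj at a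
  change r.obj ⟶ yfib.1 at b
  obtain ⟨g₁, ha⟩ := exists_base₂ 𝒴.p a r.lies (f.w_obj q.obj)
  obtain ⟨xΩ, l, hl⟩ := hX.exists_lift g₁
  have hxΩ : 𝒳.p.obj xΩ = Over.mk r.str := IsHomLift.domain_eq 𝒳.p g₁ l
  have hfl : 𝒴.p.IsHomLift g₁ (f.map l) := (BasedFunctor.isHomLift_iff f g₁ l).mpr hl
  haveI := sc_of_isFibGrpd 𝒴.p hY g₁ a
  have hε : 𝒴.p.IsHomLift (𝟙 (Over.mk r.str)) (Functor.IsStronglyCartesian.map 𝒴.p
      g₁ a (Category.id_comp _).symm (f.map l)) := inferInstance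
  have e1 : IsoNat.mapCls f (Over.mk r.str) (IsoNat.cls (⟨xΩ, hxΩ⟩ : 𝒳.p.Fiber (Over.mk r.str))) =
      IsoNat.cls (⟨r.obj, r.lies⟩ : 𝒴.p.Fiber (Over.mk r.str)) :=
    cls_eq_of_hom hY ((IsoNat.fibFun f (Over.mk r.str)).obj ⟨xΩ, hxΩ⟩) ⟨r.obj, r.lies⟩ _ hε
  obtain ⟨xpfib, hx'⟩ := Quotient.exists_rep
    (φ.src.toEquiv (Over.mk r.str) (IsoNat.cls (⟨xΩ, hxΩ⟩ : 𝒳.p.Fiber (Over.mk r.str))))
  have hx'' : IsoNat.cls xpfib =
      φ.src.toEquiv (Over.mk r.str) (IsoNat.cls (⟨xΩ, hxΩ⟩ : 𝒳.p.Fiber (Over.mk r.str))) := hx'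
  have e2 := φ.comm (Over.mk r.str) (IsoNat.cls (⟨xΩ, hxΩ⟩ : 𝒳.p.Fiber (Over.mk r.str)))
  rw [e1, ← hx''] at e2
  obtain ⟨g₂, hb⟩ := exists_base₂ 𝒴.p b r.lies yfib.2
  obtain ⟨ytΩ, yt, b', hb', h1, h2⟩ := φ.tgt.natural g₂ ⟨r.obj, r.lies⟩ yfib b hb
  obtain ⟨m₁⟩ := hom_of_cls_eq yt ⟨p'.obj, p'.lies⟩ (h2.symm.trans hy')
  obtain ⟨m₂⟩ := hom_of_cls_eq ((IsoNat.fibFun f' (Over.mk r.str)).obj xpfib) ytΩ
    (e2.symm.trans h1)
  let q'' : AlgSt.FPt 𝒳' :=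
    { K := r.K, field := r.field, str := r.str, obj := xpfib.1, lies := xpfib.2 }
  refine ⟨AlgSt.Points.mk q'', ?_⟩
  exact AlgSt.Points.sound ⟨q''.map f', 𝟙 _, m₂ ≫ b' ≫ m₁, trivial⟩

end Groth.Agent.S15487
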