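import Groth.Statements.S1548
import Groth.Agent.H38.BaseChangeAffine

set_option autoImplicit false
universe u
open CategoryTheory CategoryTheory.Limits AlgebraicGeometry
open Variety

namespace Groth.Agent.S1548

/-- Let k be a field of characteristic p > 0. If the base change X_{k'} is reduced whenever k' is a
finite purely inseparable extension of k, then X is geometrically reduced over k. -/
theorem result (k : Type u) [Field k] (p : ℕ) [Fact p.Prime] [CharP k p]
    (X : Scheme.{u}) [X.Over (Spec (CommRingCat.of k))]
    (h : ∀ (k' : Type u) [Field k'] [Algebra k k'] [FiniteDimensional k k'] [IsPurelyInseparable k k'], IsReduced (Curv2.bc k X k')) :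
    GeometricallyReduced (X ↘ (Spec (CommRingCat.of k))) := by
  classical
  refine ⟨geometrically_iff_of_commRing_of_isClosedUnderIsomorphisms.mpr fun K _ _ => ?_⟩
  refine (Groth.Agent.H38.BaseChangeAffine.isReduced_pullback_iff
    (X ↘ (Spec (CommRingCat.of k))) K).mpr fun i => ?_
  letI := Groth.Agent.H38.BaseChangeAffine.chartAlgebra (X ↘ (Spec (CommRingCat.of k))) i
  have h0 : ∀ (k' : Type u) [Field k'] [Algebra k k'] [FiniteDimensional k k']
      [IsPurelyInseparable k k'],
      _root_.IsReduced (TensorProduct k k' (X.affineOpenCover.X i)) := by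
    intro k' _ _ _ _
    have h1 : _root_.IsReduced (TensorProduct k (X.affineOpenCover.X i) k') :=
      (Groth.Agent.H38.BaseChangeAffine.isReduced_pullback_iff
        (X ↘ (Spec (CommRingCat.of k))) k').mp (h k') i
    exact isReduced_of_injective
      (Algebra.TensorProduct.comm k k' (X.affineOpenCover.X i)).toRingEquiv.toRingHom
      (Algebra.TensorProduct.comm k k' (X.affineOpenCover.X i)).injective
  have h3 := (Groth.Agent.H25.GeomRed.tfae_geometricallyReduced (k := k)
    (S := X.affineOpenCover.X i)).out 0 2
  have h2 := h3.mp h0 K
  exact isReduced_of_injective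
    (Algebra.TensorProduct.comm k (X.affineOpenCover.X i) K).toRingEquiv.toRingHom
    (Algebra.TensorProduct.comm k (X.affineOpenCover.X i) K).injective

end Groth.Agent.S1548
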