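import Groth.Statements.S15488
import Mathlib.Data.ZMod.QuotientGroup
import Mathlib.LinearAlgebra.Projection
import Mathlib.LinearAlgebra.Dimension.Constructions
import Mathlib.LinearAlgebra.FreeModule.StrongRankCondition
import Mathlib.GroupTheory.Coset.Card
import Mathlib.Tactic.Group

set_option autoImplicit false
universe u
open IsoNat

namespace Groth.Agent.S15488

/-- Let A be a nontrivial commutative ring, G a finite group, g an element of G of order ν and l an
element of A with l ^ ν = 1. In the free A-module of functions G → A (the regular representation, g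
acting by translation v ↦ v(g·)), the submodule of v with v(g h) = l v(h) for all h is a direct
summand, free of rank |G| / ν (stated as: free, rank · ν = |G|, and a complementary submodule
exists). (The published statement is over an arbitrary ring and also covers Hom(A^N, −) of the
regular representation, which follows; nontriviality of A is needed for the rank to be meaningful.) -/
theorem result
    (A : Type u) [CommRing A] [Nontrivial A] (G : Type u) [Group G] [Finite G]
    (g : G) (l : A) (hl : l ^ orderOf g = 1) :
    Module.Free A (LinearMap.ker (LinearMap.funLeft A A (fun h : G => g * h) - l • LinearMap.id)) ∧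
      Module.finrank A (LinearMap.ker (LinearMap.funLeft A A (fun h : G => g * h) - l • LinearMap.id)) * orderOf g = Nat.card G ∧
      ∃ E' : Submodule A (G → A), IsCompl (LinearMap.ker (LinearMap.funLeft A A (fun h : G => g * h) - l • LinearMap.id)) E' := by
  classical
  have hν : 0 < orderOf g := orderOf_pos g
  -- membership
  have memE : ∀ v : G → A, v ∈ LinearMap.ker (LinearMap.funLeft A A (fun h : G => g * h) -
      l • LinearMap.id) ↔ ∀ h, v (g * h) = l * v h := by
    intro v
    rw [LinearMap.mem_ker, LinearMap.sub_apply, sub_eq_zero, funext_iff]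
    exact Iff.rfl
  -- powers of l
  have lpow : ∀ a b : ℕ, a ≡ b [MOD orderOf g] → l ^ a = l ^ b := by
    intro a b hab
    rw [pow_eq_pow_mod a hl, pow_eq_pow_mod b hl, hab]
  let q : G → Quotient (QuotientGroup.rightRel (Subgroup.zpowers g)) :=
    Quotient.mk (QuotientGroup.rightRel (Subgroup.zpowers g))
  have hq : ∀ h, q (g * h) = q h := by
    intro h
    apply Quotient.sound
    show QuotientGroup.rightRel (Subgroup.zpowers g) (g * h) h
    rw [QuotientGroup.rightRel_apply]
    have : h * (g * h)⁻¹ = g⁻¹ := by group
    rw [this]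
    exact (Subgroup.zpowers g).inv_mem (Subgroup.mem_zpowers g)
  have hex : ∀ h : G, ∃ i : ℕ, h = g ^ i * (q h).out := by
    intro h
    have h1 : QuotientGroup.rightRel (Subgroup.zpowers g) (q h).out h := Quotient.mk_out h
    rw [QuotientGroup.rightRel_apply, mem_zpowers_iff_mem_range_orderOf, Finset.mem_image] at h1
    obtain ⟨i, -, hi⟩ := h1
    exact ⟨i, eq_mul_of_mul_inv_eq hi.symm⟩
  choose idx hidx using hex
  have hidx_g : ∀ h, l ^ idx (g * h) = l * l ^ idx h := by
    intro h
    have h1 := hidx (g * h)
    rw [hq h] at h1
    have h2 : g * h = g ^ (idx h + 1) * (q h).out := by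
      conv_lhs => rw [hidx h]
      rw [pow_succ', mul_assoc]
    have h3 : g ^ idx (g * h) = g ^ (idx h + 1) := mul_right_cancel (h1.symm.trans h2)
    rw [lpow _ _ (pow_eq_pow_iff_modEq.mp h3), pow_succ']
  have hidx_out : ∀ x : Quotient (QuotientGroup.rightRel (Subgroup.zpowers g)),
      l ^ idx x.out = 1 := by
    intro x
    have h1 := hidx x.out
    have h2 : q x.out = x := Quotient.out_eq x
    rw [h2] at h1
    have h3 : g ^ idx x.out = g ^ 0 := by
      rw [pow_zero]
      exact (mul_eq_right.mp h1.symm)
    rw [lpow _ _ (pow_eq_pow_iff_modEq.mp h3), pow_zero]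
  have hpowE : ∀ v : G → A, (∀ h, v (g * h) = l * v h) → ∀ (i : ℕ) (h : G),
      v (g ^ i * h) = l ^ i * v h := by
    intro v hv i
    induction i with
    | zero => intro h; rw [pow_zero, one_mul, pow_zero, one_mul]
    | succ i ih =>
      intro h
      rw [pow_succ', mul_assoc, hv, ih, pow_succ', mul_assoc]
  let ext : (Quotient (QuotientGroup.rightRel (Subgroup.zpowers g)) → A) →ₗ[A] (G → A) :=
    { toFun := fun w h => l ^ idx h * w (q h)
      map_add' := fun w w' => by
        funext h
        show l ^ idx h * (w (q h) + w' (q h)) = l ^ idx h * w (q h) + l ^ idx h * w' (q h)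
        rw [mul_add]
      map_smul' := fun c w => by
        funext h
        show l ^ idx h * (c * w (q h)) = c * (l ^ idx h * w (q h))
        rw [mul_left_comm] }
  have hext : ∀ w h, ext w h = l ^ idx h * w (q h) := fun w h => rfl
  let res : (G → A) →ₗ[A] (Quotient (QuotientGroup.rightRel (Subgroup.zpowers g)) → A) :=
    LinearMap.funLeft A A (fun x : Quotient (QuotientGroup.rightRel (Subgroup.zpowers g)) => x.out)
  have hres : ∀ v x, res v x = v x.out := fun v x => rfl
  have claim1 : ∀ w, ext w ∈ LinearMap.ker (LinearMap.funLeft A A (fun h : G => g * h) -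
      l • LinearMap.id) := by
    intro w
    rw [memE]
    intro h
    rw [hext, hext, hq, hidx_g, mul_assoc]
  have claim2 : ∀ w, res (ext w) = w := by
    intro w
    funext x
    rw [hres, hext, hidx_out, one_mul]
    exact congrArg w (Quotient.out_eq x)
  have claim3 : ∀ v, v ∈ LinearMap.ker (LinearMap.funLeft A A (fun h : G => g * h) -
      l • LinearMap.id) → ext (res v) = v := by
    intro v hv
    rw [memE] at hv
    funext h
    rw [hext, hres, ← hpowE v hv, ← hidx h]
  let Φ₀ : (Quotient (QuotientGroup.rightRel (Subgroup.zpowers g)) → A) →ₗ[A]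
      ↥(LinearMap.ker (LinearMap.funLeft A A (fun h : G => g * h) - l • LinearMap.id)) :=
    ext.codRestrict _ claim1
  have hΦinj : Function.Injective Φ₀ := by
    intro w w' hww
    have h1 : ext w = ext w' := congrArg Subtype.val hww
    rw [← claim2 w, ← claim2 w', h1]
  have hΦsurj : Function.Surjective Φ₀ := by
    intro ⟨v, hv⟩
    exact ⟨res v, Subtype.ext (claim3 v hv)⟩
  let Φ := LinearEquiv.ofBijective Φ₀ ⟨hΦinj, hΦsurj⟩
  haveI : Fintype (Quotient (QuotientGroup.rightRel (Subgroup.zpowers g))) := Fintype.ofFinite _
  refine ⟨Module.Free.of_equiv Φ, ?_, ?_⟩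
  · rw [← LinearEquiv.finrank_eq Φ, Module.finrank_fintype_fun_eq_card, ← Nat.card_eq_fintype_card,
      Nat.card_congr (QuotientGroup.quotientRightRelEquivQuotientLeftRel (Subgroup.zpowers g)),
      Subgroup.card_eq_card_quotient_mul_card_subgroup (Subgroup.zpowers g), Nat.card_zpowers]
  · let f : (G → A) →ₗ[A]
        ↥(LinearMap.ker (LinearMap.funLeft A A (fun h : G => g * h) - l • LinearMap.id)) :=
      (ext ∘ₗ res).codRestrict _ (fun v => claim1 (res v))
    have hf : ∀ x : ↥(LinearMap.ker (LinearMap.funLeft A A (fun h : G => g * h) -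
        l • LinearMap.id)), f x = x := by
      intro x
      exact Subtype.ext (claim3 x.1 x.2)
    exact ⟨LinearMap.ker f, LinearMap.isCompl_of_proj hf⟩

end Groth.Agent.S15488
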