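import Groth.Statements.S1549
import Groth.Agent.H38.GeomRedDense
import Groth.Agent.S1628

set_option autoImplicit false
universe u
open CategoryTheory CategoryTheory.Limits AlgebraicGeometry
open Variety

namespace Groth.Agent.S1549

/-- For a reduced scheme locally of finite type over k, being geometrically reduced is equivalent to
having a dense open subscheme that is smooth over k. -/
theorem result (k : Type u) [Field k] (X : Scheme.{u}) [X.Over (Spec (CommRingCat.of k))] [IsReduced X] [LocallyOfFiniteType (X ↘ (Spec (CommRingCat.of k)))] :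
    GeometricallyReduced (X ↘ (Spec (CommRingCat.of k))) ↔ ∃ U : X.Opens, Dense (U : Set X) ∧ Smooth (U.ι ≫ (X ↘ (Spec (CommRingCat.of k)))) := by
  haveI : IsLocallyNoetherian X :=
    LocallyOfFiniteType.isLocallyNoetherian (X ↘ Spec (CommRingCat.of k))
  constructor
  · intro h
    refine ⟨(X ↘ Spec (CommRingCat.of k)).smoothLocus,
      Groth.Agent.H38.GeomRedDense.dense_smoothLocus_of_geometricallyReduced k _, ?_⟩
    rw [← Scheme.Hom.smoothLocus_eq_top_iff, ← Scheme.Hom.preimage_smoothLocus_eq]
    ext x
    refine ⟨fun _ => trivial, fun _ => ?_⟩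
    exact x.2
  · rintro ⟨U, hUd, hUs⟩
    letI : (U : Scheme.{u}).Over (Spec (CommRingCat.of k)) :=
      ⟨U.ι ≫ (X ↘ Spec (CommRingCat.of k))⟩
    haveI : Smooth ((U : Scheme.{u}) ↘ Spec (CommRingCat.of k)) := hUs
    have hg := (Groth.Agent.S1628.result k U).1
    exact Groth.Agent.H38.GeomRedDense.geometricallyReduced_of_dense_openImmersion k X U.ι
      (by rw [Scheme.Opens.range_ι]; exact hUd) hg

end Groth.Agent.S1549
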