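import Groth.Statements.S15491


set_option autoImplicit false
universe v u
open CategoryTheory CategoryTheory.Functor
open IsoNat

namespace Groth.Agent.S15491

open CategoryTheory.Limits CategoryTheory.Limits.CategoricalPullback

section
variable {A B A' B' A'' B'' : Type u} [Category.{v} A] [Category.{v} B] [Category.{v} A']
    [Category.{v} B'] [Category.{v} A''] [Category.{v} B'']
    (t : A ⥤ B) (l : A ⥤ A') (r : B ⥤ B') (t' : A' ⥤ B') (l' : A' ⥤ A'') (r' : B' ⥤ B'')
    (t'' : A'' ⥤ B'') (e₁ : t ⋙ r ≅ l ⋙ t') (e₂ : t' ⋙ r' ≅ l' ⋙ t'')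

/-- The canonical functor between 2-fibre products induced by the lower square. -/
def Psi : r ⊡ t' ⥤ (r ⋙ r') ⊡ t'' where
  obj X := ⟨X.fst, l'.obj X.snd, r'.mapIso X.iso ≪≫ e₂.app X.snd⟩
  map {X Y} f := ⟨f.fst, l'.map f.snd, by
    have h1 := f.w
    have h2 := e₂.hom.naturality f.snd
    dsimp at h2 ⊢
    rw [← Functor.map_comp_assoc, h1, Functor.map_comp_assoc, Category.assoc, h2]⟩
  map_id := by intros; ext <;> simp
  map_comp := by intros; ext <;> simp

/-- The comparison functor of the lower square. -/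
abbrev Phi2 : A' ⥤ r' ⊡ t'' :=
  (CatCommSqOver.toFunctorToCategoricalPullback r' t'' A').obj ⟨t', l', e₂⟩

instance Psi_faithful [(Phi2 t' l' r' t'' e₂).Faithful] : (Psi r t' l' r' t'' e₂).Faithful where
  map_injective {X Y} f g hfg := by
    have h1 : f.fst = g.fst :=
      congrArg (fun m : (Psi r t' l' r' t'' e₂).obj X ⟶ (Psi r t' l' r' t'' e₂).obj Y => m.fst) hfg
    have h2 : l'.map f.snd = l'.map g.snd :=
      congrArg (fun m : (Psi r t' l' r' t'' e₂).obj X ⟶ (Psi r t' l' r' t'' e₂).obj Y => m.snd) hfg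
    ext
    · exact h1
    · apply (Phi2 t' l' r' t'' e₂).map_injective
      ext
      · have hf := f.w
        have hg := g.w
        rw [h1] at hf
        have : X.iso.hom ≫ t'.map f.snd = X.iso.hom ≫ t'.map g.snd := by rw [← hf, ← hg]
        exact (cancel_epi X.iso.hom).mp this
      · exact h2

instance Psi_full [(Phi2 t' l' r' t'' e₂).Full] : (Psi r t' l' r' t'' e₂).Full where
  map_surjective {X Y} g := by
    let u : X.fst ⟶ Y.fst := g.fst
    let w' : l'.obj X.snd ⟶ l'.obj Y.snd := g.snd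
    have hw : r'.map (r.map u) ≫ r'.map Y.iso.hom ≫ e₂.hom.app Y.snd =
        (r'.map X.iso.hom ≫ e₂.hom.app X.snd) ≫ t''.map w' := g.w
    let x : t'.obj X.snd ⟶ t'.obj Y.snd := X.iso.inv ≫ r.map u ≫ Y.iso.hom
    have hx : r'.map x ≫ e₂.hom.app Y.snd = e₂.hom.app X.snd ≫ t''.map w' := by
      dsimp only [x]
      rw [Functor.map_comp, Functor.map_comp, Category.assoc, Category.assoc, hw,
        Category.assoc, ← Functor.map_comp_assoc, Iso.inv_hom_id, Functor.map_id, Category.id_comp]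
    let m : (Phi2 t' l' r' t'' e₂).obj X.snd ⟶ (Phi2 t' l' r' t'' e₂).obj Y.snd :=
      ⟨x, w', hx⟩
    obtain ⟨v, hv⟩ := (Phi2 t' l' r' t'' e₂).map_surjective m
    have hv1 : t'.map v = x :=
      congrArg (fun k : (Phi2 t' l' r' t'' e₂).obj X.snd ⟶ (Phi2 t' l' r' t'' e₂).obj Y.snd =>
        k.fst) hv
    have hv2 : l'.map v = w' :=
      congrArg (fun k : (Phi2 t' l' r' t'' e₂).obj X.snd ⟶ (Phi2 t' l' r' t'' e₂).obj Y.snd =>
        k.snd) hv
    refine ⟨⟨u, v, ?_⟩, ?_⟩
    · rw [hv1]; dsimp only [x]; rw [Iso.hom_inv_id_assoc]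
    · ext
      · rfl
      · exact hv2

instance Psi_essSurj [(Phi2 t' l' r' t'' e₂).EssSurj] : (Psi r t' l' r' t'' e₂).EssSurj where
  mem_essImage Y := by
    let Y' : r' ⊡ t'' := ⟨r.obj Y.fst, Y.snd, Y.iso⟩
    let a' := (Phi2 t' l' r' t'' e₂).objPreimage Y'
    let θ : (Phi2 t' l' r' t'' e₂).obj a' ≅ Y' := (Phi2 t' l' r' t'' e₂).objObjPreimageIso Y'
    let θ₁ : t'.obj a' ≅ r.obj Y.fst := (π₁ r' t'').mapIso θ
    let θ₂ : l'.obj a' ≅ Y.snd := (π₂ r' t'').mapIso θ
    have hθ : r'.map θ₁.hom ≫ Y.iso.hom = e₂.hom.app a' ≫ t''.map θ₂.hom := θ.hom.w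
    refine ⟨⟨Y.fst, a', θ₁.symm⟩, ⟨CategoricalPullback.mkIso (Iso.refl _) θ₂ ?_⟩⟩
    dsimp [Psi]
    rw [Functor.map_id, Functor.map_id, Category.id_comp, Category.assoc, ← hθ,
      ← Functor.map_comp_assoc, Iso.inv_hom_id, Functor.map_id, Category.id_comp]

instance Psi_isEquivalence [(Phi2 t' l' r' t'' e₂).IsEquivalence] :
    (Psi r t' l' r' t'' e₂).IsEquivalence where

/-- The comparison functor of the outer rectangle factors through `Psi`. -/
def compIso :
    (CatCommSqOver.toFunctorToCategoricalPullback (r ⋙ r') t'' A).obj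
      ⟨t, l ⋙ l', (Functor.associator t r r').symm ≪≫ isoWhiskerRight e₁ r' ≪≫
        Functor.associator l t' r' ≪≫ isoWhiskerLeft l e₂ ≪≫ (Functor.associator l l' t'').symm⟩ ≅
    (CatCommSqOver.toFunctorToCategoricalPullback r t' A).obj ⟨t, l, e₁⟩ ⋙ Psi r t' l' r' t'' e₂ :=
  NatIso.ofComponents (fun a => CategoricalPullback.mkIso (Iso.refl (t.obj a))
      (Iso.refl (l'.obj (l.obj a)))
    (by
      show (r ⋙ r').map (𝟙 (t.obj a)) ≫ (r'.map (e₁.hom.app a) ≫ e₂.hom.app (l.obj a)) =
        (((Functor.associator t r r').symm ≪≫ isoWhiskerRight e₁ r' ≪≫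
          Functor.associator l t' r' ≪≫ isoWhiskerLeft l e₂ ≪≫
          (Functor.associator l l' t'').symm).hom.app a) ≫ t''.map (𝟙 (l'.obj (l.obj a)))
      simp))
    (by
      intro X Y f
      ext
      · exact (Category.comp_id (t.map f)).trans (Category.id_comp (t.map f)).symm
      · exact (Category.comp_id (l'.map (l.map f))).trans (Category.id_comp (l'.map (l.map f))).symm)

end


/-- Pasting of 2-cartesian squares, stated in the 2-category of categories. Consider functors t : A → B,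
t' : A' → B', t'' : A'' → B'' and l : A → A', r : B → B', l' : A' → A'', r' : B' → B'' with natural
isomorphisms e₁ : t ⋙ r ≅ l ⋙ t' and e₂ : t' ⋙ r' ≅ l' ⋙ t''. If the lower square (t', l', r', t'',
e₂) is 2-cartesian (its comparison functor to the 2-fibre product is an equivalence), then the upper
square (t, l, r, t', e₁) is 2-cartesian if and only if the outer rectangle (t, l ⋙ l', r ⋙ r', t'')
with the pasted isomorphism is. (The published statement is for an arbitrary 2-category whose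
2-morphisms are invertible; this row is the case of categories, functors and natural isomorphisms.) -/
theorem result
    {A B A' B' A'' B'' : Type u} [Category.{v} A] [Category.{v} B] [Category.{v} A'] [Category.{v} B']
    [Category.{v} A''] [Category.{v} B'']
    (t : A ⥤ B) (l : A ⥤ A') (r : B ⥤ B') (t' : A' ⥤ B') (l' : A' ⥤ A'') (r' : B' ⥤ B'') (t'' : A'' ⥤ B'')
    (e₁ : t ⋙ r ≅ l ⋙ t') (e₂ : t' ⋙ r' ≅ l' ⋙ t'')
    (h₂ : FibCat.IsTwoCart t' l' r' t'' e₂) :
    FibCat.IsTwoCart t l r t' e₁ ↔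
      FibCat.IsTwoCart t (l ⋙ l') (r ⋙ r') t''
        ((Functor.associator t r r').symm ≪≫ isoWhiskerRight e₁ r' ≪≫ Functor.associator l t' r' ≪≫
          isoWhiskerLeft l e₂ ≪≫ (Functor.associator l l' t'').symm) := by
  unfold FibCat.IsTwoCart at h₂ ⊢
  haveI : (Phi2 t' l' r' t'' e₂).IsEquivalence := h₂
  have e := compIso t l r t' l' r' t'' e₁ e₂
  constructor
  · intro h
    haveI := h
    exact Functor.isEquivalence_of_iso e.symm
  · intro h
    haveI := h
    haveI : ((CatCommSqOver.toFunctorToCategoricalPullback r t' A).obj ⟨t, l, e₁⟩ ⋙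
        Psi r t' l' r' t'' e₂).IsEquivalence := Functor.isEquivalence_of_iso e
    exact Functor.isEquivalence_of_comp_right _ (Psi r t' l' r' t'' e₂)

end Groth.Agent.S15491
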