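import Groth.Statements.S15492
import Groth.Agent.H32.OpenSub3

set_option autoImplicit false
universe u
open CategoryTheory AlgebraicGeometry
open IsoNat

namespace Groth.Agent.S15492

/-- Open subfunctors of the presheaf of isomorphism classes come from open substacks. Let 𝒴 be an
algebraic stack over a quasi-separated scheme S and W a subfunctor of its presheaf of isomorphism
classes — a set W(T) of isomorphism classes over each T, stable under pullback — which is open: for
every object x over T there is an open subscheme V of T such that a pullback of x along g : T' → T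
has class in W(T') exactly when g factors through V. Then the strictly full subcategory of 𝒴 on the
objects whose class lies in W is an open substack (the converse direction, that an open substack
gives an open subfunctor, is immediate from the definitions, and the two constructions are mutually
inverse). Here an algebraic stack over a quasi-separated scheme S means a stack in groupoids for the
fppf topology with a smooth surjective atlas from a scheme, whose diagonal is representable by
separated quasi-compact morphisms of algebraic spaces and whose inertia is locally of finite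
presentation over it. (The published statement is for an arbitrary stack; this row takes 𝒴
algebraic.) -/
theorem result
    (S : Scheme.{u}) [QuasiSeparatedSpace S]
    (𝒴 : AlgSt.Cat S)
    (h𝒴 : AlgSt.IsAlgStack Scheme.fppfPrecoverage 𝒴)
    (h𝒴d : AlgSt.RepByAlgSpWith (AlgSp.IsSeparatedMor ⊓ AlgSp.IsQuasiCompactMor)
      (FibCat.diag (FibCat.toSelf 𝒴)))
    (h𝒴i : AlgSt.RepByAlgSpWith (AlgSp.LocP @LocallyOfFinitePresentation)
      (FibCat.inertiaToBase (FibCat.toSelf 𝒴)))
    (W : ∀ T : Over S, Set (IsoNat.IsoCl 𝒴 T))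
    (hWpull : ∀ (T' T : Over S) (g : T' ⟶ T) (x' : 𝒴.p.Fiber T') (x : 𝒴.p.Fiber T) (a : x'.1 ⟶ x.1),
      𝒴.p.IsHomLift g a → IsoNat.cls x ∈ W T → IsoNat.cls x' ∈ W T')
    (hWopen : ∀ (T : Over S) (x : 𝒴.p.Fiber T), ∃ V : T.left.Opens,
      ∀ (T' : Over S) (g : T' ⟶ T) (x' : 𝒴.p.Fiber T') (a : x'.1 ⟶ x.1), 𝒴.p.IsHomLift g a →
        (IsoNat.cls x' ∈ W T' ↔ ∃ g' : T'.left ⟶ ↑V, g' ≫ V.ι = g.left)) :
    AlgSt.IsOpenSubstack 𝒴 (fun η => IsoNat.cls (⟨η, rfl⟩ : 𝒴.p.Fiber (𝒴.p.obj η)) ∈ W (𝒴.p.obj η))
      Scheme.fppfPrecoverage := by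
  open Groth.Agent.H32.OpenSub3 Groth.Agent.H32.SubStk in
  have key : ∀ (η : 𝒴.obj) (T : Over S) (hη : 𝒴.p.obj η = T),
      (IsoNat.cls (⟨η, rfl⟩ : 𝒴.p.Fiber (𝒴.p.obj η)) ∈ W (𝒴.p.obj η)) ↔
        IsoNat.cls (⟨η, hη⟩ : 𝒴.p.Fiber T) ∈ W T := by
    intro η T hη
    subst hη
    rfl
  refine isOpenSubstack_of_charts h𝒴 ?_ ?_
  · intro x' x φ hx
    exact hWpull _ _ (𝒴.p.map φ) ⟨x', rfl⟩ ⟨x, rfl⟩ φ inferInstance hx
  · intro U y
    obtain ⟨V, hV⟩ := hWopen U ⟨y.obj (Groth.Agent.H32.Split.T U), y.w_obj _⟩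
    obtain ⟨Vo, j, hjoi, hmono, hfac⟩ := exists_over_of_opens V
    refine ⟨Vo, j, hjoi, hmono, fun a => ?_⟩
    rw [← hfac a, key (y.obj a) a.left (y.w_obj a)]
    let k : a ⟶ Groth.Agent.H32.Split.T U := Over.homMk a.hom (Category.comp_id _)
    have hk : (FibCat.overCat U).p.IsHomLift a.hom k :=
      IsHomLift.of_fac' (FibCat.overCat U).p _ _ rfl rfl (by
        change a.hom = eqToHom rfl ≫ a.hom ≫ eqToHom rfl
        simp)
    have hyk : 𝒴.p.IsHomLift a.hom (y.map k) := (BasedFunctor.isHomLift_iff y a.hom k).2 hk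
    exact hV a.left a.hom ⟨y.obj a, y.w_obj a⟩ (y.map k) hyk

end Groth.Agent.S15492
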