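import Groth.Statements.S15494
import Mathlib


set_option autoImplicit false
universe u v
open Dieud

namespace Groth.Agent.S15494

/-- Let W be a commutative ring with a ring endomorphism σ, p a natural number, M a W-module and F an
additive self-map of M with F (w • m) = σ w • F m. Let d ≥ 1, c ≥ 1, h = d + c, and let e_1, …, e_h,
… be vectors of M on which F acts through a display matrix in normal form: F e_i = e_{i+1} for 1 ≤ i
< d; F e_d = Σ_{i=1}^{d} a_{i,d} e_i + e_{d+1}; F e_j = Σ_{i=1}^{d} p a_{i,j} e_i + p e_{j+1} for d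
< j < h; F e_h = Σ_{i=1}^{d} p a_{i,h} e_i. Then F^h e_1 = Σ_{i=1}^{d} Σ_{j=d}^{h} p^{j-d}
σ^{h-j}(a_{i,j}) F^{h+i-j-1} e_1. (The published statement is for the Dieudonné module of a
p-divisible group of dimension d and height h over the Witt ring of a field of characteristic p,
with σ the Frobenius and e_1, …, e_h a basis; this row keeps only the relations which the printed
computation uses, so W, σ, p and the vectors are arbitrary.) -/
theorem result
    (W : Type u) [CommRing W] (σ : W →+* W) (p : ℕ)
    (M : Type v) [AddCommGroup M] [Module W M]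
    (F : M →+ M) (hF : ∀ (w : W) (m : M), F (w • m) = σ w • F m)
    (d c : ℕ) (hd : 0 < d) (hc : 0 < c)
    (a : ℕ → ℕ → W) (e : ℕ → M)
    (h1 : ∀ i : ℕ, 1 ≤ i → i < d → F (e i) = e (i + 1))
    (h2 : F (e d) = (∑ i ∈ Finset.Icc 1 d, a i d • e i) + e (d + 1))
    (h3 : ∀ j : ℕ, d < j → j < d + c →
      F (e j) = (∑ i ∈ Finset.Icc 1 d, ((p : W) * a i j) • e i) + (p : W) • e (j + 1))
    (h4 : F (e (d + c)) = ∑ i ∈ Finset.Icc 1 d, ((p : W) * a i (d + c)) • e i) :
    (⇑F)^[d + c] (e 1) = ∑ i ∈ Finset.Icc 1 d, ∑ j ∈ Finset.Icc d (d + c),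
      ((p : W) ^ (j - d) * (⇑σ)^[d + c - j] (a i j)) • (⇑F)^[d + c + i - j - 1] (e 1) := by

  have hσp : ∀ s : ℕ, σ ((p : W) ^ s) = (p : W) ^ s := fun s => by rw [map_pow, map_natCast]
  have he : ∀ n, n < d → (⇑F)^[n] (e 1) = e (n + 1) := by
    intro n
    induction n with
    | zero => intro _; rfl
    | succ n ih =>
      intro hn
      rw [Function.iterate_succ_apply', ih (by omega), h1 (n + 1) (by omega) hn]
  have he' : ∀ i, 1 ≤ i → i ≤ d → (⇑F)^[i - 1] (e 1) = e i := by
    intro i h1i hid
    have := he (i - 1) (by omega)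
    rwa [show i - 1 + 1 = i by omega] at this
  obtain ⟨R, hR⟩ : ∃ R : ℕ → M, ∀ t, R t = ∑ i ∈ Finset.Icc 1 d, ∑ s ∈ Finset.range (t + 1),
      ((p : W) ^ s * (⇑σ)^[t - s] (a i (s + d))) • (⇑F)^[t - s + i - 1] (e 1) := ⟨_, fun _ => rfl⟩
  have hstep : ∀ t, F (R t) + ∑ i ∈ Finset.Icc 1 d, ((p : W) ^ (t + 1) * a i (t + 1 + d)) • e i =
      R (t + 1) := by
    intro t
    rw [hR, hR, map_sum, ← Finset.sum_add_distrib]
    refine Finset.sum_congr rfl (fun i hi => ?_)
    rw [Finset.mem_Icc] at hi
    rw [map_sum, Finset.sum_range_succ (n := t + 1)]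
    congr 1
    · refine Finset.sum_congr rfl (fun s hs => ?_)
      rw [Finset.mem_range] at hs
      rw [hF, map_mul, hσp, ← Function.iterate_succ_apply' (⇑σ), ← Function.iterate_succ_apply' (⇑F)]
      have e1 : (t - s).succ = t + 1 - s := by omega
      have e2 : (t - s + i - 1).succ = t + 1 - s + i - 1 := by omega
      rw [e1, e2]
    · have e3 : t + 1 - (t + 1) = 0 := by omega
      rw [e3, Function.iterate_zero, id, zero_add, he' i hi.1 hi.2]
  have hA : ∀ t, t < c → (⇑F)^[d + t] (e 1) = R t + (p : W) ^ t • e (d + t + 1) := by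
    intro t
    induction t with
    | zero =>
      intro _
      have hd' : d = (d - 1) + 1 := by omega
      have h0 : (⇑F)^[d + 0] (e 1) = F (e d) := by
        rw [add_zero]
        conv_lhs => rw [hd', Function.iterate_succ_apply', he (d - 1) (by omega)]
        rw [← hd']
      rw [h0, h2, hR]
      simp only [zero_add, Finset.range_one, Finset.sum_singleton, pow_zero, one_mul,
        Nat.sub_zero, Function.iterate_zero, id, one_smul, add_zero]
      congr 1
      refine Finset.sum_congr rfl (fun i hi => ?_)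
      rw [Finset.mem_Icc] at hi
      rw [he' i hi.1 hi.2]
    | succ t ih =>
      intro ht
      have ih' := ih (by omega)
      have h3' := h3 (d + t + 1) (by omega) (by omega)
      have e5 : d + (t + 1) = (d + t) + 1 := by omega
      rw [e5, Function.iterate_succ_apply', ih', map_add, hF, hσp, h3', ← hstep t]
      rw [smul_add, Finset.smul_sum, smul_smul, ← pow_succ, add_assoc]
      rw [add_assoc (F (R t))]
      congr 2
      refine Finset.sum_congr rfl (fun i _ => ?_)
      rw [smul_smul, ← mul_assoc, ← pow_succ]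
      congr 3
      omega
  have hB : (⇑F)^[d + c] (e 1) = R c := by
    obtain ⟨t, rfl⟩ : ∃ t, c = t + 1 := ⟨c - 1, by omega⟩
    have ih' := hA t (by omega)
    have e5 : d + (t + 1) = (d + t) + 1 := by omega
    have h4' : F (e (d + t + 1)) = ∑ i ∈ Finset.Icc 1 d, ((p : W) * a i (d + t + 1)) • e i := by
      rw [e5] at h4; exact h4
    rw [e5, Function.iterate_succ_apply', ih', map_add, hF, hσp, h4', ← hstep t]
    rw [Finset.smul_sum]
    congr 1
    refine Finset.sum_congr rfl (fun i _ => ?_)
    rw [smul_smul, ← mul_assoc, ← pow_succ, show t + 1 + d = d + t + 1 by omega]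
  rw [hB, hR]
  refine Finset.sum_congr rfl (fun i hi => ?_)
  rw [Finset.mem_Icc] at hi
  refine Finset.sum_bij (fun s _ => s + d) ?_ ?_ ?_ ?_
  · intro s hs
    rw [Finset.mem_range] at hs
    rw [Finset.mem_Icc]
    omega
  · intro s₁ _ s₂ _ h
    exact Nat.add_right_cancel h
  · intro j hj
    rw [Finset.mem_Icc] at hj
    exact ⟨j - d, by rw [Finset.mem_range]; omega, by omega⟩
  · intro s hs
    rw [Finset.mem_range] at hs
    have e1 : s + d - d = s := by omega
    have e2 : d + c - (s + d) = c - s := by omega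
    have e3 : d + c + i - (s + d) - 1 = c - s + i - 1 := by omega
    rw [e1, e2, e3]

end Groth.Agent.S15494
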