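import Groth.Statements.S15495
import Mathlib.Tactic.Ring
import Mathlib.Algebra.Ring.GeomSum
import Mathlib.RingTheory.Ideal.Quotient.Operations

set_option autoImplicit false
universe u
open CAlg

namespace Groth.Agent.S15495

/-- If `p ∈ I`, `y ∈ I` and `y ∈ I ^ j` then `(1 + y) ^ p - 1 ∈ I ^ (j + 1)`. -/
theorem one_add_pow_sub_one_mem {R : Type u} [CommRing R] (I : Ideal R) (p : ℕ)
    (hp : (p : R) ∈ I) (j : ℕ) (y : R) (hy1 : y ∈ I) (hy : y ∈ I ^ j) :
    (1 + y) ^ p - 1 ∈ I ^ (j + 1) := by
  have h1 : (1 + y) ^ p - 1 = y * ∑ i ∈ Finset.range p, (1 + y) ^ i := by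
    have := mul_geom_sum (1 + y) p
    rw [← this]
    congr 1
    ring
  have h2 : ∑ i ∈ Finset.range p, (1 + y) ^ i ∈ I := by
    rw [← Ideal.Quotient.eq_zero_iff_mem, map_sum]
    have hy0 : (Ideal.Quotient.mk I) y = 0 := Ideal.Quotient.eq_zero_iff_mem.2 hy1
    have hp0 : ((p : R ⧸ I)) = 0 := by
      have := Ideal.Quotient.eq_zero_iff_mem.2 hp
      simpa using this
    simp [map_pow, map_add, hy0, hp0]
  rw [h1, pow_succ]
  exact Ideal.mul_mem_mul hy h2

/-- In an Artinian local ring R whose maximal ideal m contains the prime number p, the multiplicative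
group 1 + m is annihilated under some power of p: there is n with (1 + x)^(p^n) = 1 for every x in
m. (The published text makes this assertion inside a proof, for Artinian local algebras over the
Witt ring of a perfect field of characteristic p; only p ∈ m and the nilpotence of m are used.) -/
theorem result
    (R : Type u) [CommRing R] [IsLocalRing R] [IsArtinianRing R]
    (p : ℕ) (hp : p.Prime) (hpm : (p : R) ∈ IsLocalRing.maximalIdeal R) :
    ∃ n : ℕ, ∀ x ∈ IsLocalRing.maximalIdeal R, (1 + x) ^ (p ^ n) = 1 := by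
  set m := IsLocalRing.maximalIdeal R with hm
  obtain ⟨N, hN⟩ : IsNilpotent m := by
    have := IsArtinianRing.isNilpotent_jacobson_bot (R := R)
    rwa [IsLocalRing.jacobson_eq_maximalIdeal ⊥ bot_ne_top] at this
  have key : ∀ k : ℕ, ∀ x ∈ m, (1 + x) ^ (p ^ k) - 1 ∈ m ^ (k + 1) := by
    intro k
    induction k with
    | zero => intro x hx; simpa using hx
    | succ k ih =>
      intro x hx
      have hy := ih x hx
      have hy1 : (1 + x) ^ (p ^ k) - 1 ∈ m := Ideal.pow_le_self (by omega) hy
      have := one_add_pow_sub_one_mem m p hpm (k + 1) _ hy1 hy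
      have e1 : (1 + x) ^ p ^ (k + 1) = (1 + ((1 + x) ^ p ^ k - 1)) ^ p := by
        rw [pow_succ p k, pow_mul]
        congr 1
        ring
      rw [e1]
      exact this
  refine ⟨N, fun x hx => ?_⟩
  have h := key N x hx
  have hle : m ^ (N + 1) ≤ m ^ N := Ideal.pow_le_pow_right (by omega)
  have h0 := hle h
  rw [hN] at h0
  have : (1 + x) ^ (p ^ N) - 1 = 0 := by simpa using h0
  exact sub_eq_zero.mp this

end Groth.Agent.S15495
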