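import Groth.Statements.S15498
import Mathlib

set_option autoImplicit false
open NewtonPoly

namespace Groth.Agent.S15498

theorem sum_rev (m : ℕ) : 2 * ∑ j ∈ Finset.range (m + 1), (m - j) = m * (m + 1) := by
  induction m with
  | zero => simp
  | succ m ih =>
    rw [Finset.sum_range_succ']
    have e : ∀ j, m + 1 - (j + 1) = m - j := fun j => Nat.add_sub_add_right m 1 j
    simp only [e, Nat.sub_zero]
    rw [Nat.mul_add, ih]
    ring

/-- Let m, n ≥ 1 be coprime, h = m + n, δ the segment from (0,0) to (h,m) (the isoclinic Newton polygon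
of slope m/h) and ρ the ordinary polygon with n slopes 0 followed with m slopes 1, so ρ(i) = max(0,
i − n). The integer points (i,j), 0 ≤ i ≤ h, on or above ρ and strictly below δ — that is max(0, i −
n) ≤ j and j·h < i·m — are (m−1)(n−1)/2 + (m+n−1) in number (which equals mn − r for r =
(m−1)(n−1)/2). (The published text works under m ≥ n > 0 coprime; the inequality m ≥ n is not used
and not assumed.) -/
theorem result
    (m n : ℕ) (hm : 0 < m) (hn : 0 < n) (hmn : Nat.Coprime m n) :
    ((Finset.range (m + n + 1) ×ˢ Finset.range (m + 1)).filter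
      (fun ij : ℕ × ℕ => ij.1 ≤ ij.2 + n ∧ ij.2 * (m + n) < ij.1 * m)).card
      = (m - 1) * (n - 1) / 2 + (m + n - 1) := by

  classical
  obtain ⟨h, hh⟩ : ∃ h, h = m + n := ⟨_, rfl⟩
  have hcop : Nat.Coprime h m := by
    rw [hh]
    simpa [Nat.coprime_comm] using hmn
  obtain ⟨U, hU⟩ : ∃ U : Finset (ℕ × ℕ), U = Finset.range (h + 1) ×ˢ Finset.range (m + 1) :=
    ⟨_, rfl⟩
  have hUmem : ∀ x : ℕ × ℕ, x ∈ U ↔ x.1 ≤ h ∧ x.2 ≤ m := by
    intro x
    rw [hU, Finset.mem_product, Finset.mem_range, Finset.mem_range, Nat.lt_succ_iff,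
      Nat.lt_succ_iff]
  obtain ⟨Sb, hSb⟩ : ∃ S : Finset (ℕ × ℕ), S = U.filter (fun ij => ij.2 * h < ij.1 * m) :=
    ⟨_, rfl⟩
  obtain ⟨Sa, hSa⟩ : ∃ S : Finset (ℕ × ℕ), S = U.filter (fun ij => ij.1 * m < ij.2 * h) :=
    ⟨_, rfl⟩
  obtain ⟨Sd, hSd⟩ : ∃ S : Finset (ℕ × ℕ), S = U.filter (fun ij => ij.2 * h = ij.1 * m) :=
    ⟨_, rfl⟩
  obtain ⟨T, hT⟩ : ∃ S : Finset (ℕ × ℕ), S = U.filter (fun ij => ij.2 + n < ij.1) := ⟨_, rfl⟩
  have hUcard : U.card = (h + 1) * (m + 1) := by
    rw [hU, Finset.card_product, Finset.card_range, Finset.card_range]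
  -- trichotomy
  have htri : U.card = Sb.card + Sa.card + Sd.card := by
    rw [hSb, hSa, hSd, Finset.card_filter, Finset.card_filter, Finset.card_filter,
      ← Finset.sum_add_distrib, ← Finset.sum_add_distrib, Finset.card_eq_sum_ones]
    refine Finset.sum_congr rfl (fun x _ => ?_)
    split_ifs <;> omega
  -- symmetry
  have hsym : Sb.card = Sa.card := by
    refine Finset.card_nbij' (fun x => (h - x.1, m - x.2)) (fun x => (h - x.1, m - x.2))
      ?_ ?_ ?_ ?_
    · intro x hx
      rw [hSb, Finset.mem_coe, Finset.mem_filter, hUmem] at hx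
      rw [hSa, Finset.mem_coe, Finset.mem_filter, hUmem]
      obtain ⟨⟨h1, h2⟩, h3⟩ := hx
      refine ⟨⟨Nat.sub_le _ _, Nat.sub_le _ _⟩, ?_⟩
      show (h - x.1) * m < (m - x.2) * h
      have e1 : x.1 * m + (h - x.1) * m = h * m := by rw [← Nat.add_mul]; congr 1; omega
      have e2 : x.2 * h + (m - x.2) * h = m * h := by rw [← Nat.add_mul]; congr 1; omega
      have e3 : h * m = m * h := Nat.mul_comm _ _
      omega
    · intro x hx
      rw [hSa, Finset.mem_coe, Finset.mem_filter, hUmem] at hx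
      rw [hSb, Finset.mem_coe, Finset.mem_filter, hUmem]
      obtain ⟨⟨h1, h2⟩, h3⟩ := hx
      refine ⟨⟨Nat.sub_le _ _, Nat.sub_le _ _⟩, ?_⟩
      show (m - x.2) * h < (h - x.1) * m
      have e1 : x.1 * m + (h - x.1) * m = h * m := by rw [← Nat.add_mul]; congr 1; omega
      have e2 : x.2 * h + (m - x.2) * h = m * h := by rw [← Nat.add_mul]; congr 1; omega
      have e3 : h * m = m * h := Nat.mul_comm _ _
      omega
    · intro x hx
      rw [hSb, Finset.mem_coe, Finset.mem_filter, hUmem] at hx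
      obtain ⟨⟨h1, h2⟩, h3⟩ := hx
      ext
      · show h - (h - x.1) = x.1
        omega
      · show m - (m - x.2) = x.2
        omega
    · intro x hx
      rw [hSa, Finset.mem_coe, Finset.mem_filter, hUmem] at hx
      obtain ⟨⟨h1, h2⟩, h3⟩ := hx
      ext
      · show h - (h - x.1) = x.1
        omega
      · show m - (m - x.2) = x.2
        omega
  -- diagonal
  have hh0 : 0 < h := by omega
  have hdiag : Sd = {((0 : ℕ), (0 : ℕ)), (h, m)} := by
    ext x
    rw [hSd, Finset.mem_filter, hUmem, Finset.mem_insert, Finset.mem_singleton]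
    constructor
    · rintro ⟨⟨h1, h2⟩, h3⟩
      have hdvd : h ∣ x.1 := by
        refine hcop.dvd_of_dvd_mul_right ?_
        exact ⟨x.2, by rw [← h3, Nat.mul_comm]⟩
      obtain ⟨c, hc⟩ := hdvd
      have hc1 : c = 0 ∨ c = 1 := by
        rcases Nat.lt_or_ge c 2 with hlt | hge
        · omega
        · exfalso
          have : h * 2 ≤ h * c := Nat.mul_le_mul_left h hge
          omega
      rcases hc1 with rfl | rfl
      · left
        have hx1 : x.1 = 0 := by rw [hc, Nat.mul_zero]
        have hx2 : x.2 = 0 := by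
          rw [hx1, Nat.zero_mul] at h3
          rcases Nat.mul_eq_zero.mp h3 with h4 | h4
          · exact h4
          · omega
        exact Prod.ext hx1 hx2
      · right
        have hx1 : x.1 = h := by rw [hc, Nat.mul_one]
        have hx2 : x.2 = m := by
          rw [hx1, Nat.mul_comm h m] at h3
          exact Nat.eq_of_mul_eq_mul_right hh0 h3
        exact Prod.ext hx1 hx2
    · rintro (rfl | rfl)
      · exact ⟨⟨Nat.zero_le _, Nat.zero_le _⟩, by simp⟩
      · exact ⟨⟨le_refl _, le_refl _⟩, Nat.mul_comm _ _⟩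
  have hSdcard : Sd.card = 2 := by
    rw [hdiag, Finset.card_pair]
    intro hne
    have := congrArg Prod.fst hne
    simp at this
    omega
  -- split Sb
  have hsplit : Sb.card = ((Finset.range (m + n + 1) ×ˢ Finset.range (m + 1)).filter
      (fun ij : ℕ × ℕ => ij.1 ≤ ij.2 + n ∧ ij.2 * (m + n) < ij.1 * m)).card + T.card := by
    rw [← hh, ← hU]
    have := Finset.card_filter_add_card_filter_not (s := Sb) (fun ij : ℕ × ℕ => ij.1 ≤ ij.2 + n)
    rw [← this]
    congr 2
    · rw [hSb, Finset.filter_filter]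
      refine Finset.filter_congr (fun x _ => ?_)
      exact and_comm
    · rw [hSb, hT, Finset.filter_filter]
      refine Finset.filter_congr (fun x hx => ?_)
      rw [hUmem] at hx
      constructor
      · rintro ⟨_, h2⟩
        omega
      · intro h2
        refine ⟨?_, by omega⟩
        have h3 : (x.2 + n + 1) * m ≤ x.1 * m := Nat.mul_le_mul_right m h2
        have h4 : x.2 * n ≤ m * n := Nat.mul_le_mul_right n hx.2
        rw [hh]
        nlinarith
  -- count T
  have hTcard : 2 * T.card = m * (m + 1) := by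
    rw [← sum_rev m]
    congr 1
    rw [hT, hU, Finset.card_filter, Finset.sum_product, Finset.sum_comm]
    refine Finset.sum_congr rfl (fun j hj => ?_)
    rw [Finset.mem_range, Nat.lt_succ_iff] at hj
    rw [← Finset.card_filter]
    have : (Finset.range (h + 1)).filter (fun i => j + n < i) = Finset.Ioc (j + n) h := by
      ext i
      rw [Finset.mem_filter, Finset.mem_range, Finset.mem_Ioc, Nat.lt_succ_iff]
      exact and_comm
    rw [this, Nat.card_Ioc]
    omega
  -- arithmetic
  obtain ⟨A, hA⟩ : ∃ A, A = ((Finset.range (m + n + 1) ×ˢ Finset.range (m + 1)).filter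
      (fun ij : ℕ × ℕ => ij.1 ≤ ij.2 + n ∧ ij.2 * (m + n) < ij.1 * m)).card := ⟨_, rfl⟩
  rw [← hA] at hsplit ⊢
  have hfin : 2 * A + 2 = m * n + m + n + 1 := by
    have e1 : (h + 1) * (m + 1) = 2 * (A + T.card) + 2 := by
      rw [← hUcard, htri, ← hsym, hSdcard, hsplit]; ring
    rw [hh] at e1
    nlinarith
  obtain ⟨a, rfl⟩ : ∃ a, m = a + 1 := ⟨m - 1, by omega⟩
  obtain ⟨b, rfl⟩ : ∃ b, n = b + 1 := ⟨n - 1, by omega⟩
  simp only [Nat.add_sub_cancel]
  have e2 : 2 * A = a * b + 2 * a + 2 * b + 2 := by nlinarith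
  obtain ⟨P, hP⟩ : ∃ P, P = a * b := ⟨_, rfl⟩
  rw [← hP] at e2 ⊢
  omega

end Groth.Agent.S15498
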