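import Groth.Statements.S1550
import Mathlib
import Groth.Agent.H68.SepPt

set_option autoImplicit false
universe u
open CategoryTheory CategoryTheory.Limits AlgebraicGeometry
attribute [local instance] Curv2.resAlgebra
open Variety

namespace Groth.Agent.S1550


/-- If X is smooth over a field k, then the set of closed points of X whose residue field is finite
separable over k is dense in X. -/
theorem result (k : Type u) [Field k] (X : Scheme.{u}) [X.Over (Spec (CommRingCat.of k))] [Smooth (X ↘ (Spec (CommRingCat.of k)))] :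
    Dense {x : X | IsClosed ({x} : Set X) ∧ FiniteDimensional k (X.residueField x) ∧ Algebra.IsSeparable k (X.residueField x)} := by
  rw [dense_iff_inter_open]
  rintro U hU ⟨x₀, hx₀⟩
  obtain ⟨_, ⟨V, hV, rfl⟩, hxV, hVU⟩ := X.isBasis_affineOpens.exists_subset_of_mem_open hx₀ hU
  have hV : IsAffineOpen V := hV
  have e : V ≤ (X ↘ Spec (CommRingCat.of k)) ⁻¹ᵁ ⊤ := le_top
  let ψ : k →+* Γ(X, V) :=
    ((X ↘ Spec (CommRingCat.of k)).appLE ⊤ V e).hom.comp
      (Scheme.ΓSpecIso (CommRingCat.of k)).inv.hom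
  have hψ : ψ.Smooth := by
    have h1 := (X ↘ Spec (CommRingCat.of k)).smooth_appLE
      (isAffineOpen_top (Spec (CommRingCat.of k))) hV e
    have h2 : ((Scheme.ΓSpecIso (CommRingCat.of k)).inv.hom).Smooth :=
      RingHom.Smooth.of_bijective (ConcreteCategory.bijective_of_isIso _)
    exact h2.comp h1
  letI : Algebra k Γ(X, V) := ψ.toAlgebra
  haveI : Algebra.Smooth k Γ(X, V) := hψ
  haveI : Nontrivial Γ(X, V) :=
    PrimeSpectrum.nonempty_iff_nontrivial.mp ⟨hV.primeIdealOf ⟨x₀, hxV⟩⟩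
  obtain ⟨m, hm, hfin, hsep⟩ := Groth.Agent.H68.SepPt.exists_max_sep k Γ(X, V)
  let y : PrimeSpectrum Γ(X, V) := ⟨m, hm.isPrime⟩
  have hxV' : hV.fromSpec y ∈ V := by
    rw [← SetLike.mem_coe, ← hV.range_fromSpec]
    exact ⟨y, rfl⟩
  refine ⟨hV.fromSpec y, hVU hxV', ?_, ?_⟩
  · haveI : JacobsonSpace X := LocallyOfFiniteType.jacobsonSpace (X ↘ Spec (CommRingCat.of k))
    have h1 : y ∈ closedPoints (Spec Γ(X, V)) :=
      (PrimeSpectrum.isClosed_singleton_iff_isMaximal y).mpr hm
    rw [← hV.fromSpec.isOpenEmbedding.preimage_closedPoints] at h1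
    exact h1
  · letI alg : Algebra Γ(X, V) (X.presheaf.stalk (hV.fromSpec y)) :=
      X.presheaf.algebra_section_stalk ⟨hV.fromSpec y, hxV'⟩
    haveI loc : IsLocalization.AtPrime (X.presheaf.stalk (hV.fromSpec y)) m :=
      hV.isLocalization_stalk' y hxV'
    let e₀ : (Γ(X, V) ⧸ m) ≃+* X.residueField (hV.fromSpec y) :=
      IsLocalization.AtPrime.equivQuotMaximalIdeal m (X.presheaf.stalk (hV.fromSpec y))
    have he₀ : ∀ a : k, e₀ (algebraMap k (Γ(X, V) ⧸ m) a) =
        algebraMap k (X.residueField (hV.fromSpec y)) a := by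
      intro a
      show (X.residue (hV.fromSpec y)).hom
        ((X.presheaf.germ V (hV.fromSpec y) hxV').hom (ψ a)) =
        Curv2.resMap k X (hV.fromSpec y) a
      simp only [ψ, Curv2.resMap, Curv2.stalkMap, Coh.toGlobal, RingHom.comp_apply,
        Scheme.Hom.appLE, CommRingCat.hom_comp]
      congr 1
      exact TopCat.Presheaf.germ_res_apply X.presheaf (homOfLE e) (hV.fromSpec y) hxV' _
    let e' : (Γ(X, V) ⧸ m) ≃ₐ[k] X.residueField (hV.fromSpec y) :=
      AlgEquiv.ofRingEquiv (f := e₀) he₀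
    exact ⟨Module.Finite.equiv e'.toLinearEquiv, AlgEquiv.Algebra.isSeparable e'⟩

end Groth.Agent.S1550
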