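import Groth.Statements.S15501
import Mathlib

set_option autoImplicit false
open CategoryTheory CategoryTheory.Limits AlgebraicGeometry
open An

namespace Groth.Agent.S15501

theorem range_fst_of_isPullback {P X Y S : Scheme.{0}} {fst : P ⟶ X} {snd : P ⟶ Y} {f : X ⟶ S}
    {g : Y ⟶ S} (h : IsPullback fst snd f g) : Set.range fst = f ⁻¹' Set.range g := by
  ext x
  constructor
  · rintro ⟨a, rfl⟩
    refine ⟨snd a, ?_⟩
    rw [← Scheme.Hom.comp_apply, ← Scheme.Hom.comp_apply, h.w]
  · rintro ⟨y, hy⟩
    obtain ⟨z, hz1, -⟩ := Scheme.Pullback.exists_preimage_pullback (f := f) (g := g) x y hy.symm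
    refine ⟨h.isoPullback.inv z, ?_⟩
    rw [← Scheme.Hom.comp_apply, h.isoPullback_inv_fst, hz1]

theorem range_geomPoint {S : Scheme.{0}} (s : S) :
    Set.range (Spec.map (CommRingCat.ofHom (algebraMap (S.residueField s)
      (AlgebraicClosure (S.residueField s)))) ≫ S.fromSpecResidueField s) = {s} := by
  ext t
  rw [Set.mem_singleton_iff]
  constructor
  · rintro ⟨y, rfl⟩
    rw [Scheme.Hom.comp_apply]
    have : (S.fromSpecResidueField s) ((Spec.map (CommRingCat.ofHom (algebraMap (S.residueField s)
      (AlgebraicClosure (S.residueField s))))) y) ∈ Set.range (S.fromSpecResidueField s) :=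
      ⟨_, rfl⟩
    rw [Scheme.range_fromSpecResidueField] at this
    exact this
  · rintro rfl
    refine ⟨default, ?_⟩
    rw [Scheme.Hom.comp_apply]
    have : (S.fromSpecResidueField t) ((Spec.map (CommRingCat.ofHom (algebraMap (S.residueField t)
      (AlgebraicClosure (S.residueField t))))) default) ∈ Set.range (S.fromSpecResidueField t) :=
      ⟨_, rfl⟩
    rw [Scheme.range_fromSpecResidueField] at this
    exact this

/-- The base change of an elementary fibration f : X → S of smooth complex varieties along any morphism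
u : S' → S of smooth complex varieties is an elementary fibration X ×_S S' → S', elementary
fibration being taken in the following sense: f factors as an open immersion j : X → X̄ followed by
f̄ : X̄ → S, where f̄ is smooth and is a closed subscheme of some projective space over S with
geometrically irreducible fibres of dimension one, the complement of j(X) is the image of a closed
immersion Y → X̄ with Y finite, etale and surjective over S, and j(X) is dense in every fibre of f̄
(for smooth complex varieties the last clause is automatic, and this is the usual notion: a smooth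
projective family of irreducible curves minus a finite etale multisection). (The published statement
also treats rational and coordinatised elementary fibrations; this row states only the plain case.) -/
theorem result (X S S' : Scheme.{0})
    [X.Over An.SC] [Smooth (X ↘ An.SC)] [IsSeparated (X ↘ An.SC)] [QuasiCompact (X ↘ An.SC)]
    [S.Over An.SC] [Smooth (S ↘ An.SC)] [IsSeparated (S ↘ An.SC)] [QuasiCompact (S ↘ An.SC)]
    [S'.Over An.SC] [Smooth (S' ↘ An.SC)] [IsSeparated (S' ↘ An.SC)] [QuasiCompact (S' ↘ An.SC)]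
    (f : X ⟶ S) [f.IsOver An.SC] (u : S' ⟶ S) [u.IsOver An.SC]
    (hf : An.IsElementaryFibration f) :
    An.IsElementaryFibration (pullback.snd f u) := by

  obtain ⟨Xb, Y, j, fb, i, hjf, hj, hi, hrange, hdense, hsm, hproj, hfib, hfin, het, hsurj⟩ := hf
  obtain ⟨j', hj'1, hj'2⟩ : ∃ j' : pullback f u ⟶ pullback fb u,
      j' ≫ pullback.fst fb u = pullback.fst f u ≫ j ∧ j' ≫ pullback.snd fb u = pullback.snd f u :=
    ⟨pullback.lift (pullback.fst f u ≫ j) (pullback.snd f u)
      (by rw [Category.assoc, hjf, pullback.condition]), pullback.lift_fst _ _ _,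
      pullback.lift_snd _ _ _⟩
  obtain ⟨i', hi'1, hi'2⟩ : ∃ i' : pullback (i ≫ fb) u ⟶ pullback fb u,
      i' ≫ pullback.fst fb u = pullback.fst (i ≫ fb) u ≫ i ∧
        i' ≫ pullback.snd fb u = pullback.snd (i ≫ fb) u :=
    ⟨pullback.lift (pullback.fst (i ≫ fb) u ≫ i) (pullback.snd (i ≫ fb) u)
      (by rw [Category.assoc, pullback.condition]), pullback.lift_fst _ _ _,
      pullback.lift_snd _ _ _⟩
  have hsqj : IsPullback j' (pullback.fst f u) (pullback.fst fb u) j := by
    refine IsPullback.of_right ?_ hj'1 (IsPullback.of_hasPullback fb u).flip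
    rw [hj'2, hjf]
    exact (IsPullback.of_hasPullback f u).flip
  have hsqi : IsPullback i' (pullback.fst (i ≫ fb) u) (pullback.fst fb u) i := by
    refine IsPullback.of_right ?_ hi'1 (IsPullback.of_hasPullback fb u).flip
    rw [hi'2]
    exact (IsPullback.of_hasPullback (i ≫ fb) u).flip
  have hj'o : IsOpenImmersion j' :=
    MorphismProperty.of_isPullback (P := @IsOpenImmersion) hsqj.flip hj
  have hi'c : IsClosedImmersion i' :=
    MorphismProperty.of_isPullback (P := @IsClosedImmersion) hsqi.flip hi
  -- geometric fibres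
  have hfib' : ∀ (Ω : Type) [Field Ω] [IsAlgClosed Ω]
      (σ : Spec (CommRingCat.of Ω) ⟶ S'),
      IrreducibleSpace ↥(pullback (pullback.snd fb u) σ) ∧
        topologicalKrullDim ↥(pullback (pullback.snd fb u) σ) = 1 := by
    intro Ω _ _ σ
    obtain ⟨h1, h2⟩ := hfib Ω (σ ≫ u)
    have e := Scheme.homeoOfIso (pullbackLeftPullbackSndIso fb u σ)
    refine ⟨e.irreducibleSpace_iff.mpr h1, ?_⟩
    rw [IsHomeomorph.topologicalKrullDim_eq _ e.isHomeomorph, h2]
  refine ⟨pullback fb u, pullback (i ≫ fb) u, j', pullback.snd fb u, i', hj'2, hj'o, hi'c,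
    ?_, ?_, ?_, ?_, hfib', ?_, ?_, ?_⟩
  · -- ranges
    have r1 : Set.range j' = (pullback.fst fb u) ⁻¹' Set.range j := range_fst_of_isPullback hsqj
    have r2 : Set.range i' = (pullback.fst fb u) ⁻¹' Set.range i := range_fst_of_isPullback hsqi
    show Set.range j' = (Set.range i')ᶜ
    rw [r1, r2, ← Set.preimage_compl]
    congr 1
  · -- density in fibres
    intro s'
    obtain ⟨σ', hσ'⟩ : ∃ σ' : Spec (CommRingCat.of (AlgebraicClosure (S'.residueField s'))) ⟶ S',
        Set.range σ' = {s'} := ⟨_, range_geomPoint s'⟩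
    obtain ⟨hirr, -⟩ := hfib' (AlgebraicClosure (S'.residueField s')) σ'
    have hF : Set.range (pullback.fst (pullback.snd fb u) σ') =
        (pullback.snd fb u) ⁻¹' {s'} := by
      rw [Scheme.Pullback.range_fst, hσ']
    have hFirr : IsIrreducible ((pullback.snd fb u) ⁻¹' {s'} : Set ↥(pullback fb u)) := by
      rw [← hF, ← Set.image_univ]
      exact (IrreducibleSpace.isIrreducible_univ _).image _
        (pullback.fst (pullback.snd fb u) σ').continuous.continuousOn
    have hopen : IsOpen (Set.range j') := j'.isOpenEmbedding.isOpen_range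
    have hne : (((pullback.snd fb u) ⁻¹' {s'} : Set ↥(pullback fb u)) ∩ Set.range j').Nonempty := by
      obtain ⟨a, ha⟩ := hFirr.nonempty
      have ha' : (pullback.snd fb u) a = s' := ha
      have hx : fb ((pullback.fst fb u) a) = u s' := by
        rw [← Scheme.Hom.comp_apply, pullback.condition, Scheme.Hom.comp_apply, ha']
      have hcl := hdense (u s') hx
      have hne' : (Set.range j ∩ fb ⁻¹' {u s'}).Nonempty := by
        by_contra hemp
        rw [Set.not_nonempty_iff_eq_empty] at hemp
        have hemp' : Set.range j.base ∩ fb.base ⁻¹' {u s'} = ∅ := hemp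
        rw [hemp', closure_empty] at hcl
        exact hcl
      obtain ⟨_, ⟨x, rfl⟩, hx2⟩ := hne'
      have hx2' : fb (j x) = u s' := hx2
      have hfx : f x = u s' := by rw [← hjf, Scheme.Hom.comp_apply, hx2']
      obtain ⟨z, hz1, hz2⟩ := Scheme.Pullback.exists_preimage_pullback (f := f) (g := u) x s' hfx
      refine ⟨j' z, ?_, ⟨z, rfl⟩⟩
      show (pullback.snd fb u) (j' z) = s'
      rw [← Scheme.Hom.comp_apply, hj'2, hz2]
    have := subset_closure_inter_of_isPreirreducible_of_isOpen hFirr.isPreirreducible hopen hne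
    rw [Set.inter_comm] at this
    exact this
  · infer_instance
  · -- strongly projective
    obtain ⟨n, c, hc, hcb⟩ := hproj
    have htS : u ≫ specULiftZIsTerminal.from S = specULiftZIsTerminal.from S' :=
      specULiftZIsTerminal.hom_ext _ _
    obtain ⟨m, hm1, hm2⟩ : ∃ m : pullback (CohB1.ProjSpace.toSpec n (ULift.{0} ℤ)) (specULiftZIsTerminal.from S') ⟶
        pullback (CohB1.ProjSpace.toSpec n (ULift.{0} ℤ)) (specULiftZIsTerminal.from S),
        m ≫ pullback.fst (CohB1.ProjSpace.toSpec n (ULift.{0} ℤ)) (specULiftZIsTerminal.from S) =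
          pullback.fst (CohB1.ProjSpace.toSpec n (ULift.{0} ℤ)) (specULiftZIsTerminal.from S') ∧
        m ≫ pullback.snd (CohB1.ProjSpace.toSpec n (ULift.{0} ℤ)) (specULiftZIsTerminal.from S) =
          pullback.snd (CohB1.ProjSpace.toSpec n (ULift.{0} ℤ)) (specULiftZIsTerminal.from S') ≫ u :=
      ⟨pullback.lift (pullback.fst (CohB1.ProjSpace.toSpec n (ULift.{0} ℤ)) (specULiftZIsTerminal.from S'))
        (pullback.snd (CohB1.ProjSpace.toSpec n (ULift.{0} ℤ)) (specULiftZIsTerminal.from S') ≫ u)
        (by rw [pullback.condition, Category.assoc, htS]), pullback.lift_fst _ _ _,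
        pullback.lift_snd _ _ _⟩
    have hsqP : IsPullback (pullback.snd (CohB1.ProjSpace.toSpec n (ULift.{0} ℤ)) (specULiftZIsTerminal.from S')) m u
        (pullback.snd (CohB1.ProjSpace.toSpec n (ULift.{0} ℤ)) (specULiftZIsTerminal.from S)) := by
      refine IsPullback.of_bot ?_ hm2.symm (IsPullback.of_hasPullback (CohB1.ProjSpace.toSpec n (ULift.{0} ℤ)) _).flip
      rw [hm1, htS]
      exact (IsPullback.of_hasPullback (CohB1.ProjSpace.toSpec n (ULift.{0} ℤ)) _).flip
    obtain ⟨c0, hc0⟩ : ∃ c0 : Xb ⟶ pullback (CohB1.ProjSpace.toSpec n (ULift.{0} ℤ)) (specULiftZIsTerminal.from S), c0 = c := ⟨c, rfl⟩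
    have hc' : c0 ≫ pullback.snd (CohB1.ProjSpace.toSpec n (ULift.{0} ℤ)) (specULiftZIsTerminal.from S) = fb := by
      rw [hc0]; exact hcb
    have hc0c : IsClosedImmersion c0 := by rw [hc0]; exact hc
    obtain ⟨c', hc'1, hc'2⟩ : ∃ c' : pullback fb u ⟶ pullback (CohB1.ProjSpace.toSpec n (ULift.{0} ℤ)) (specULiftZIsTerminal.from S'),
        c' ≫ pullback.snd (CohB1.ProjSpace.toSpec n (ULift.{0} ℤ)) (specULiftZIsTerminal.from S') = pullback.snd fb u ∧
        c' ≫ m = pullback.fst fb u ≫ c0 :=
      ⟨hsqP.lift (pullback.snd fb u) (pullback.fst fb u ≫ c0)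
        (by rw [Category.assoc, hc', pullback.condition]), hsqP.lift_fst _ _ _,
        hsqP.lift_snd _ _ _⟩
    have hsqc : IsPullback c' (pullback.fst fb u) m c0 := by
      refine IsPullback.of_right ?_ hc'2 hsqP
      rw [hc'1, hc']
      exact (IsPullback.of_hasPullback fb u).flip
    have hc'c : IsClosedImmersion c' :=
      MorphismProperty.of_isPullback (P := @IsClosedImmersion) hsqc.flip hc0c
    exact ⟨n, c', hc'c, hc'1⟩
  · rw [hi'2]; infer_instance
  · rw [hi'2]; infer_instance
  · rw [hi'2]
    have : Surjective (i ≫ fb) := ⟨hsurj⟩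
    exact (inferInstance : Surjective (pullback.snd (i ≫ fb) u)).surj

end Groth.Agent.S15501
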