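import Groth.Statements.S15504
import Mathlib

set_option autoImplicit false
universe u v
open FrobAlg

namespace Groth.Agent.S15504

theorem artinian_of_torsion {R : Type*} [CommRing R] [IsNoetherianRing R] [Ring.KrullDimLE 1 R]
    {M : Type*} [AddCommGroup M] [Module R M] [Module.Finite R M] (hM : Module.IsTorsion R M) :
    IsArtinian R M := by
  obtain ⟨a, ha1, ha2⟩ := Submodule.annihilator_top_inter_nonZeroDivisors hM
  have hfl := isFiniteLength_quotient_span_singleton R ha2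
  have hart : IsArtinian R (R ⧸ Ideal.span {a}) :=
    (isFiniteLength_iff_isNoetherian_isArtinian.mp hfl).2
  obtain ⟨n, s, hs⟩ := Module.Finite.exists_fin (R := R) (M := M)
  have hkill : ∀ m : M, a • m = 0 := fun m =>
    (Submodule.mem_annihilator.mp ha1) m Submodule.mem_top
  have hle : ∀ i, Ideal.span {a} ≤ LinearMap.ker (LinearMap.toSpanSingleton R M (s i)) := by
    intro i
    rw [Ideal.span_le]
    intro x hx
    rw [Set.mem_singleton_iff] at hx
    rw [hx]
    simp [LinearMap.mem_ker, LinearMap.toSpanSingleton_apply, hkill]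
  let g : (Fin n → R ⧸ Ideal.span {a}) →ₗ[R] M :=
    ∑ i, (Submodule.liftQ (Ideal.span {a}) (LinearMap.toSpanSingleton R M (s i)) (hle i)) ∘ₗ
      (LinearMap.proj i)
  have hg : Function.Surjective g := by
    rw [← LinearMap.range_eq_top, eq_top_iff, ← hs, Submodule.span_le]
    rintro _ ⟨i, rfl⟩
    refine ⟨Pi.single i 1, ?_⟩
    simp only [g, LinearMap.sum_apply, LinearMap.comp_apply, LinearMap.proj_apply]
    rw [Finset.sum_eq_single i]
    · rw [Pi.single_eq_same]
      show Submodule.liftQ _ _ _ (Submodule.Quotient.mk 1) = _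
      rw [Submodule.liftQ_apply, LinearMap.toSpanSingleton_apply, one_smul]
    · intro j _ hj
      rw [Pi.single_eq_of_ne hj, map_zero]
    · intro h; exact (h (Finset.mem_univ i)).elim
  exact isArtinian_of_surjective _ g hg

section
variable {W : Type*} [CommRing W] {τ : W →+* W} {M : Type*} [AddCommGroup M] [Module W M]

theorem iter_zero (φ : M →ₛₗ[τ] M) (n : ℕ) : (⇑φ)^[n] 0 = 0 := by
  induction n with
  | zero => rfl
  | succ n ih => rw [Function.iterate_succ_apply', ih, map_zero]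

theorem iter_add (φ : M →ₛₗ[τ] M) (n : ℕ) (x y : M) :
    (⇑φ)^[n] (x + y) = (⇑φ)^[n] x + (⇑φ)^[n] y := by
  induction n with
  | zero => rfl
  | succ n ih =>
    rw [Function.iterate_succ_apply', Function.iterate_succ_apply', Function.iterate_succ_apply',
      ih, map_add]

theorem iter_sub (φ : M →ₛₗ[τ] M) (n : ℕ) (x y : M) :
    (⇑φ)^[n] (x - y) = (⇑φ)^[n] x - (⇑φ)^[n] y := by
  induction n with
  | zero => rfl
  | succ n ih =>
    rw [Function.iterate_succ_apply', Function.iterate_succ_apply', Function.iterate_succ_apply',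
      ih, map_sub]

theorem iter_smul (φ : M →ₛₗ[τ] M) (n : ℕ) (a : W) (x : M) :
    (⇑φ)^[n] (a • x) = (⇑τ)^[n] a • (⇑φ)^[n] x := by
  induction n with
  | zero => rfl
  | succ n ih =>
    rw [Function.iterate_succ_apply', ih, φ.map_smulₛₗ, ← Function.iterate_succ_apply' (⇑τ),
      ← Function.iterate_succ_apply' (⇑φ)]

/-- kernel of the `n`-th iterate -/
def K (φ : M →ₛₗ[τ] M) (n : ℕ) : Submodule W M where
  carrier := {x | (⇑φ)^[n] x = 0}
  add_mem' := by
    intro x y hx hy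
    have hx' : (⇑φ)^[n] x = 0 := hx
    have hy' : (⇑φ)^[n] y = 0 := hy
    show (⇑φ)^[n] (x + y) = 0
    rw [iter_add, hx', hy', add_zero]
  zero_mem' := iter_zero φ n
  smul_mem' := by
    intro a x hx
    have hx' : (⇑φ)^[n] x = 0 := hx
    show (⇑φ)^[n] (a • x) = 0
    rw [iter_smul, hx', smul_zero]

/-- range of the `n`-th iterate -/
def R (hτ : Function.Surjective τ) (φ : M →ₛₗ[τ] M) (n : ℕ) : Submodule W M where
  carrier := Set.range ((⇑φ)^[n])
  add_mem' := by
    rintro _ _ ⟨x, rfl⟩ ⟨y, rfl⟩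
    exact ⟨x + y, iter_add φ n x y⟩
  zero_mem' := ⟨0, iter_zero φ n⟩
  smul_mem' := by
    rintro a _ ⟨x, rfl⟩
    obtain ⟨b, hb⟩ := (hτ.iterate n) a
    exact ⟨b • x, by rw [iter_smul, hb]⟩

theorem mem_K (φ : M →ₛₗ[τ] M) (n : ℕ) (x : M) : x ∈ K φ n ↔ (⇑φ)^[n] x = 0 := Iff.rfl

theorem mem_R (hτ : Function.Surjective τ) (φ : M →ₛₗ[τ] M) (n : ℕ) (y : M) :
    y ∈ R hτ φ n ↔ ∃ x, (⇑φ)^[n] x = y := Iff.rfl

theorem fitting (hτ : Function.Surjective τ) [IsNoetherian W M] [IsArtinian W M]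
    (φ : M →ₛₗ[τ] M) :
    ∃ Ms Mn : Submodule W M, IsCompl Ms Mn ∧ Set.MapsTo φ Ms Ms ∧ Set.MapsTo φ Mn Mn ∧
      Set.BijOn φ Ms Ms ∧ ∃ r : ℕ, ∀ x ∈ Mn, (⇑φ)^[r] x = 0 := by
  have hKmono : Monotone (K φ) := by
    intro n m hnm x hx
    obtain ⟨d, rfl⟩ := Nat.exists_eq_add_of_le hnm
    rw [mem_K] at hx ⊢
    rw [Nat.add_comm, Function.iterate_add_apply, hx, iter_zero]
  have hRanti : ∀ n m, n ≤ m → R hτ φ m ≤ R hτ φ n := by
    intro n m hnm y hy
    obtain ⟨d, rfl⟩ := Nat.exists_eq_add_of_le hnm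
    obtain ⟨x, rfl⟩ := hy
    exact ⟨(⇑φ)^[d] x, (Function.iterate_add_apply _ n d x).symm⟩
  obtain ⟨n1, hn1⟩ := monotone_stabilizes_iff_noetherian.mpr
    (inferInstance : IsNoetherian W M) ⟨K φ, hKmono⟩
  obtain ⟨n2, hn2⟩ := IsArtinian.monotone_stabilizes (R := W) (M := M)
    ⟨fun n => OrderDual.toDual (R hτ φ n), fun n m hnm => hRanti n m hnm⟩
  obtain ⟨r, hr⟩ : ∃ r, r = max n1 n2 + 1 := ⟨_, rfl⟩
  have hK : ∀ m, r ≤ m → K φ r = K φ m := by
    intro m hm
    have e1 : K φ n1 = K φ r := hn1 r (by omega)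
    have e2 : K φ n1 = K φ m := hn1 m (by omega)
    rw [← e1, e2]
  have hR : ∀ m, r ≤ m → R hτ φ r = R hτ φ m := by
    intro m hm
    have e1 : R hτ φ n2 = R hτ φ r := hn2 r (by omega)
    have e2 : R hτ φ n2 = R hτ φ m := hn2 m (by omega)
    rw [← e1, e2]
  have hK1 : K φ 1 ≤ K φ r := hKmono (by omega)
  have hdisj : ∀ x, x ∈ R hτ φ r → x ∈ K φ r → x = 0 := by
    intro x hxR hxK
    obtain ⟨y, rfl⟩ := hxR
    rw [mem_K, ← Function.iterate_add_apply] at hxK
    have hy : y ∈ K φ (r + r) := hxK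
    rw [← hK (r + r) (by omega)] at hy
    exact hy
  refine ⟨R hτ φ r, K φ r, ⟨?_, ?_⟩, ?_, ?_, ⟨?_, ?_, ?_⟩, r, fun x hx => hx⟩
  · rw [Submodule.disjoint_def]
    exact hdisj
  · rw [codisjoint_iff, eq_top_iff]
    intro x _
    have h1 : (⇑φ)^[r] x ∈ R hτ φ r := ⟨x, rfl⟩
    rw [hR (r + r) (by omega)] at h1
    obtain ⟨z, hz⟩ := h1
    rw [Function.iterate_add_apply] at hz
    rw [Submodule.mem_sup]
    refine ⟨(⇑φ)^[r] z, ⟨z, rfl⟩, x - (⇑φ)^[r] z, ?_, by abel⟩
    rw [mem_K, iter_sub, hz, sub_self]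
  · rintro _ ⟨y, rfl⟩
    refine ⟨φ y, ?_⟩
    rw [← Function.iterate_succ_apply, Function.iterate_succ_apply']
  · intro x hx
    have hx' : (⇑φ)^[r] x = 0 := hx
    show (⇑φ)^[r] (φ x) = 0
    rw [← Function.iterate_succ_apply, Function.iterate_succ_apply', hx', map_zero]
  · rintro _ ⟨y, rfl⟩
    refine ⟨φ y, ?_⟩
    rw [← Function.iterate_succ_apply, Function.iterate_succ_apply']
  · intro x hx x' hx' hxx
    have h1 : x - x' ∈ R hτ φ r := Submodule.sub_mem _ hx hx'
    have h2 : x - x' ∈ K φ 1 := by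
      rw [mem_K, Function.iterate_one, map_sub, hxx, sub_self]
    exact sub_eq_zero.mp (hdisj _ h1 (hK1 h2))
  · intro y hy
    have hy' : y ∈ R hτ φ r := hy
    rw [hR (r + 1) (by omega)] at hy'
    obtain ⟨z, hz⟩ := hy'
    rw [Function.iterate_succ_apply'] at hz
    exact ⟨(⇑φ)^[r] z, ⟨z, rfl⟩, hz⟩

end

/-- Let k be an algebraically closed field of characteristic p, W = W(k) the ring of p-typical Witt
vectors, M a finitely generated torsion W-module and φ a p⁻¹-linear endomorphism of M (additive,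
with φ(a·m) = σ⁻¹(a)·φ(m) for the Frobenius automorphism σ of W). Then M = M_s ⊕ M_n for two
φ-stable submodules, with φ bijective on M_s and nilpotent on M_n (one iterate of φ kills M_n). -/
theorem result (p : ℕ) [Fact p.Prime]
    (k : Type u) [Field k] [CharP k p] [IsAlgClosed k]
    (M : Type v) [AddCommGroup M] [Module (WittVector p k) M] [Module.Finite (WittVector p k) M]
    (hM : Module.IsTorsion (WittVector p k) M)
    (φ : M →ₛₗ[((WittVector.frobeniusEquiv p k).symm : WittVector p k →+* WittVector p k)] M) :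
    ∃ Ms Mn : Submodule (WittVector p k) M, IsCompl Ms Mn ∧
      Set.MapsTo φ Ms Ms ∧ Set.MapsTo φ Mn Mn ∧ Set.BijOn φ Ms Ms ∧
      ∃ r : ℕ, ∀ x ∈ Mn, (⇑φ)^[r] x = 0 := by

  have hτ : Function.Surjective
      ((WittVector.frobeniusEquiv p k).symm : WittVector p k →+* WittVector p k) :=
    (WittVector.frobeniusEquiv p k).symm.surjective
  have hart : IsArtinian (WittVector p k) M := artinian_of_torsion hM
  exact fitting hτ φ

end Groth.Agent.S15504
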