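import Groth.Statements.S15505
import Mathlib.FieldTheory.Finite.Basic

set_option autoImplicit false
universe u v w
open FrobAlg

namespace Groth.Agent.S15505

theorem fixed_iff_mem_range (p : ℕ) [Fact p.Prime] (k : Type u) [Field k] [CharP k p]
    [IsAlgClosed k] (a : k) :
    (frobeniusEquiv k p).symm a = a ↔ ∃ c : ZMod p, ZMod.castHom (dvd_refl p) k c = a := by
  rw [RingEquiv.symm_apply_eq, frobeniusEquiv_def]
  constructor
  · intro h
    have h1 : a ∈ (⊥ : Subfield k) := (Subfield.mem_bot_iff_pow_eq_self k p).2 h.symm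
    have h2 : (⊥ : Subfield k) ≤ (ZMod.castHom (dvd_refl p) k).fieldRange := bot_le
    exact h2 h1
  · rintro ⟨c, rfl⟩
    rw [← map_pow, ZMod.pow_card]

/-- Let k be an algebraically closed field of characteristic p, V a k-vector space, φ a p⁻¹-linear
endomorphism of V (additive, φ(a·v) = a^{1/p}·φ(v)) and b a finite basis of V consisting of vectors
fixed by φ. Then the vectors fixed by φ are exactly the combinations of the b_i with coefficients in
the prime field: v is fixed if and only if v = Σ c_i·b_i with all c_i in the image of ℤ/p. -/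
theorem result (p : ℕ) [Fact p.Prime]
    (k : Type u) [Field k] [CharP k p] [IsAlgClosed k]
    (V : Type v) [AddCommGroup V] [Module k V]
    (φ : V →ₛₗ[((frobeniusEquiv k p).symm : k →+* k)] V)
    {ι : Type w} [Fintype ι] (b : Module.Basis ι k V) (hb : ∀ i, φ (b i) = b i) (v : V) :
    φ v = v ↔ ∃ c : ι → ZMod p, v = ∑ i, (ZMod.castHom (dvd_refl p) k (c i)) • b i := by
  have hφ : ∀ a : ι → k, φ (∑ i, a i • b i) = ∑ i, (frobeniusEquiv k p).symm (a i) • b i := by
    intro a
    rw [map_sum]
    refine Finset.sum_congr rfl fun i _ => ?_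
    rw [map_smulₛₗ, hb]
    rfl
  constructor
  · intro h
    have hv : v = ∑ i, (b.repr v i) • b i := (b.sum_repr v).symm
    have h' : ∑ i, (frobeniusEquiv k p).symm (b.repr v i) • b i = ∑ i, (b.repr v i) • b i := by
      rw [← hφ, ← hv, h]
    have h2 : ∀ i, (frobeniusEquiv k p).symm (b.repr v i) = b.repr v i := by
      intro i
      have := congrArg (fun x => (b.repr x : ι → k)) h'
      simp only [Module.Basis.repr_sum_self] at this
      exact congrFun this i
    choose c hc using fun i => (fixed_iff_mem_range p k _).1 (h2 i)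
    refine ⟨c, ?_⟩
    conv_lhs => rw [hv]
    refine Finset.sum_congr rfl fun i _ => ?_
    rw [hc i]
  · rintro ⟨c, rfl⟩
    rw [hφ]
    refine Finset.sum_congr rfl fun i _ => ?_
    rw [(fixed_iff_mem_range p k _).2 ⟨c i, rfl⟩]

end Groth.Agent.S15505
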