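import Groth.Statements.S15506
import Mathlib

set_option autoImplicit false
universe u
open CategoryTheory AlgebraicGeometry
open EtBase

namespace Groth.Agent.S15506

theorem exists_factor {A K Ω : Type*} [CommRing A] [CommRing K] [CommRing Ω] (ι : K →+* Ω)
    (hι : Function.Injective ι) (ψ : A →+* Ω) (hψ : ∀ a, ψ a ∈ Set.range ι) :
    ∃ ψ' : A →+* K, ι.comp ψ' = ψ := by
  choose g hg using hψ
  refine ⟨{ toFun := g, map_one' := ?_, map_mul' := ?_, map_zero' := ?_, map_add' := ?_ }, ?_⟩
  · exact hι (by rw [hg, map_one, map_one])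
  · intro a b; exact hι (by rw [hg, map_mul, map_mul, hg, hg])
  · exact hι (by rw [hg, map_zero, map_zero])
  · intro a b; exact hι (by rw [hg, map_add, map_add, hg, hg])
  · ext a; exact hg a

theorem mem_range_of_isIntegral {K Ω : Type*} [Field K] [Field Ω] [Algebra K Ω] [IsAlgClosed K]
    (x : Ω) (hx : IsIntegral K x) : x ∈ Set.range (algebraMap K Ω) :=
  minpoly.mem_range_of_degree_eq_one K x
    (IsAlgClosed.degree_eq_one_of_irreducible K (minpoly.irreducible hx))

open AlgebraicGeometry CategoryTheory in
theorem epi_spec_field (K Ω : Type u) [Field K] [Field Ω] [Algebra K Ω] :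
    Epi (Spec.map (CommRingCat.ofHom (algebraMap K Ω))) := by
  have hflat : Flat (Spec.map (CommRingCat.ofHom (algebraMap K Ω))) := by
    rw [HasRingHomProperty.Spec_iff (P := @Flat)]
    show (algebraMap K Ω).Flat
    rw [RingHom.flat_algebraMap_iff]
    infer_instance
  have hsurj : Surjective (Spec.map (CommRingCat.ofHom (algebraMap K Ω))) :=
    ⟨fun y => ⟨default, Subsingleton.elim _ _⟩⟩
  exact Flat.epi_of_flat_of_surjective _

/-- Let k be a field, K an algebraic closure of k (an algebraically closed field algebraic over k), Ω a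
field containing K, and Z a scheme étale over Spec k. Composition with Spec Ω → Spec K is a
bijection from the k-morphisms Spec K → Z onto the k-morphisms Spec Ω → Z: two k-morphisms Spec K →
Z that agree on Spec Ω are equal, and every k-morphism Spec Ω → Z factors through Spec K. (The
published statement is the case where k has characteristic zero with a chosen embedding of its
algebraic closure into the complex numbers, Ω = ℂ, and Z is the scheme of isomorphisms between two
K3 surfaces over k, known there to be étale over k; this row states the fact about an arbitrary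
étale k-scheme that the argument establishes.) -/
theorem result
    (k K Ω : Type u) [Field k] [Field K] [Field Ω] [Algebra k K] [IsAlgClosed K] [Algebra.IsAlgebraic k K]
    [Algebra K Ω] [Algebra k Ω] [IsScalarTower k K Ω]
    (Z : Scheme.{u}) (f : Z ⟶ Spec (CommRingCat.of k)) [AlgebraicGeometry.Etale f] :
    (∀ g₁ g₂ : Spec (CommRingCat.of K) ⟶ Z,
        g₁ ≫ f = Spec.map (CommRingCat.ofHom (algebraMap k K)) →
        g₂ ≫ f = Spec.map (CommRingCat.ofHom (algebraMap k K)) →
        Spec.map (CommRingCat.ofHom (algebraMap K Ω)) ≫ g₁ = Spec.map (CommRingCat.ofHom (algebraMap K Ω)) ≫ g₂ →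
        g₁ = g₂) ∧
    (∀ h : Spec (CommRingCat.of Ω) ⟶ Z, h ≫ f = Spec.map (CommRingCat.ofHom (algebraMap k Ω)) →
        ∃ g : Spec (CommRingCat.of K) ⟶ Z, g ≫ f = Spec.map (CommRingCat.ofHom (algebraMap k K)) ∧
          Spec.map (CommRingCat.ofHom (algebraMap K Ω)) ≫ g = h) := by

  constructor
  · intro g₁ g₂ _ _ h12
    have := epi_spec_field K Ω
    exact (cancel_epi _).mp h12
  · intro h hh
    obtain ⟨_, ⟨U, hU, rfl⟩, hzU, -⟩ :=
      Z.isBasis_affineOpens.exists_subset_of_mem_open (Set.mem_univ (h default)) isOpen_univ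
    have hU' : IsAffineOpen U := hU
    have hrange : Set.range h ⊆ Set.range hU'.fromSpec := by
      rw [hU'.range_fromSpec]
      rintro _ ⟨y, rfl⟩
      rw [Subsingleton.elim y default]
      exact hzU
    obtain ⟨h', hh'⟩ : ∃ h' : Spec (CommRingCat.of Ω) ⟶ Spec Γ(Z, U), h' ≫ hU'.fromSpec = h :=
      ⟨IsOpenImmersion.lift hU'.fromSpec h hrange, IsOpenImmersion.lift_fac _ _ _⟩
    obtain ⟨ψ, rfl⟩ : ∃ ψ, Spec.map ψ = h' := ⟨_, Spec.map_preimage _⟩
    obtain ⟨φ, hφ⟩ : ∃ φ, Spec.map φ = hU'.fromSpec ≫ f := ⟨_, Spec.map_preimage _⟩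
    have het : Etale (Spec.map φ) := by rw [hφ]; infer_instance
    have hφet : φ.hom.Etale := (HasRingHomProperty.Spec_iff (P := @Etale)).mp het
    have hcomp : φ ≫ ψ = CommRingCat.ofHom (algebraMap k Ω) := by
      apply Spec.map_injective
      rw [Spec.map_comp, hφ, ← Category.assoc, hh', hh]
    have hcomp' : ∀ x : k, ψ.hom (φ.hom x) = algebraMap k Ω x := by
      intro x
      have := congrArg (fun t => t.hom x) hcomp
      simpa using this
    algebraize [φ.hom]
    have hfin : Module.Finite k Γ(Z, U) := Algebra.FormallyUnramified.finite_of_free k Γ(Z, U)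
    have hint : Algebra.IsIntegral k Γ(Z, U) := Algebra.IsIntegral.of_finite k Γ(Z, U)
    have hmem : ∀ a : Γ(Z, U), ψ.hom a ∈ Set.range (algebraMap K Ω) := by
      intro a
      have h1 : IsIntegral k a := Algebra.IsIntegral.isIntegral a
      have h2 : IsIntegral k (ψ.hom a) := by
        refine h1.map_of_comp_eq (RingHom.id k) ψ.hom ?_
        ext x
        simp only [RingHom.comp_apply, RingHom.id_apply]
        exact (hcomp' x).symm
      exact mem_range_of_isIntegral _ h2.tower_top
    obtain ⟨ψ', hψ'⟩ := exists_factor (algebraMap K Ω) (algebraMap K Ω).injective ψ.hom hmem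
    have hψ'' : CommRingCat.ofHom ψ' ≫ CommRingCat.ofHom (algebraMap K Ω) = ψ := by
      ext a
      exact congrArg (fun t => t a) hψ'
    refine ⟨Spec.map (CommRingCat.ofHom ψ') ≫ hU'.fromSpec, ?_, ?_⟩
    · rw [Category.assoc, ← hφ, ← Spec.map_comp]
      congr 1
      ext x
      apply (algebraMap K Ω).injective
      have e1 : algebraMap K Ω (ψ' (φ.hom x)) = ψ.hom (φ.hom x) :=
        congrArg (fun t => t (φ.hom x)) hψ'
      show algebraMap K Ω (ψ' (φ.hom x)) = algebraMap K Ω (algebraMap k K x)
      rw [e1, hcomp' x, ← IsScalarTower.algebraMap_apply]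
    · rw [← Category.assoc, ← Spec.map_comp, hψ'', hh']

end Groth.Agent.S15506
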