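import Groth.Statements.S15512
import Groth.Agent.H72.PdExt

set_option autoImplicit false
universe u
open CategoryTheory
open CAlg

namespace Groth.Agent.S15512

open Groth.Agent.H72.PdLocal Groth.Agent.H72.PdExt

/-- Let A be a Noetherian ring which is regular (its localization at every maximal ideal is a regular
local ring) and of finite Krull dimension, M a finitely generated A-module and d a natural number.
If Ext^i_A(M, A) vanishes for every i > d, then the projective dimension of M is at most d. -/
theorem result (A : Type u) [CommRing A]
    [IsNoetherianRing A] (hreg : ∀ m : MaximalSpectrum A, IsRegularLocalRing (Localization.AtPrime m.asIdeal))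
    (hdim : ringKrullDim A < ⊤) (M : Type u) [AddCommGroup M] [Module A M] [Module.Finite A M] (d : ℕ)
    (h : ∀ i : ℕ, d < i → Subsingleton (Abelian.Ext (ModuleCat.of A M) (ModuleCat.of A A) i)) :
    HasProjectiveDimensionLT (ModuleCat.of A M) (d + 1) := by
  obtain ⟨N, hN⟩ := exists_pdLT_of_forall_maximal A M (fun p hp => by
    have hr : IsRegularLocalRing (Localization.AtPrime p.asIdeal) := hreg ⟨p.asIdeal, hp⟩
    exact ⟨_, pdLT_of_isRegularLocalRing (Localization.AtPrime p.asIdeal)
      (LocalizedModule p.asIdeal.primeCompl M)⟩)
  exact pdLT_of_forall_ext_ring M d N hN h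

end Groth.Agent.S15512
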