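import Groth.Statements.S15514
import Groth.Agent.H53.FinLocFreeSlice
import Groth.Agent.H53.SheafDual
import Groth.Agent.H30.ExtAdj
import Groth.Agent.H28.LpullLoc2
import Groth.Agent.H40.FlatBridge

set_option autoImplicit false
universe u
open CategoryTheory CategoryTheory.Limits AlgebraicGeometry
open Coherent

namespace Groth.Agent.S15514

attribute [local instance] HasDerivedCategory.standard in
/-- `Ext` is invariant under isomorphisms in the second variable. -/
noncomputable def extPostAddEquiv {A : Type*} [Category A] [Abelian A] [HasExt.{u} A] (M : A) {Y Y' : A}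
    (e : Y ≅ Y') (n : ℕ) : Abelian.Ext.{u} M Y n ≃+ Abelian.Ext.{u} M Y' n :=
  (Abelian.Ext.homAddEquiv (X := M) (Y := Y) (n := n)).trans <|
    (Groth.Agent.H30.ExtAdj.postAddEquiv ((DerivedCategory.singleFunctor A 0).obj M)
      ((shiftFunctor (DerivedCategory A) (n : ℤ)).mapIso
        ((DerivedCategory.singleFunctor A 0).mapIso e))).trans
    (Abelian.Ext.homAddEquiv (X := M) (Y := Y') (n := n)).symm


/-- Let X be a scheme, E a finite locally free O_X-module with dual E^∨ = Hom_{O_X}(E, O_X), and F, G
arbitrary O_X-modules. Then for every i the group Ext^i_{O_X}(F ⊗ E, G), computed in the category of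
all O_X-modules, is isomorphic to Ext^i_{O_X}(F, G ⊗ E^∨). (Existence of an additive isomorphism
only; the published identification is the natural one, and the published statement is for an
arbitrary ringed space. The published statement says only that E is locally free; finite rank, which
its proof uses, is assumed here. The internal Hom functor of E and the Ext groups of O_X-modules are
the stated instance hypotheses, both true.) -/
theorem result (X : Scheme.{u}) (E : X.Modules)
    (hE : FlatMod.IsFinLocFree E) (F G : X.Modules) [ModSite.HasSheafHom (O := X.sheaf) E]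
    [HasExt.{u} X.Modules] (i : ℕ) :
    Nonempty (Abelian.Ext (CohB1.tensorMod F E) G i ≃+
      Abelian.Ext F (CohB1.tensorMod G ((ModSite.sheafHom (O := X.sheaf) E).obj (Coh.structureModule X))) i) := by
  have hEF := Groth.Agent.H53.FinLocFreeSlice.locFinFree_of_isFinLocFree E hE
  have hflat : ModSite.IsFlat (O := X.sheaf) E :=
    Groth.Agent.H40.FlatBridge.isFlat_of_stalkFlat E
      (Groth.Agent.H28.LpullLoc.isFlat_of_isFinLocFree hE)
  haveI : PreservesFiniteLimits ((ModSite.tensorBi X.sheaf).flip.obj E) := hflat.1
  haveI : PreservesFiniteColimits ((ModSite.tensorBi X.sheaf).flip.obj E) := hflat.2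
  haveI : PreservesFiniteColimits (ModSite.sheafHom (O := X.sheaf) E) :=
    Groth.Agent.H53.SheafHomExact.preservesFiniteColimits_sheafHom (O := X.sheaf) E hEF
  haveI : PreservesFiniteLimits (ModSite.sheafHom (O := X.sheaf) E) := by
    have := (ModSite.sheafHomAdj (O := X.sheaf) E).rightAdjoint_preservesLimits
    infer_instance
  haveI : HasExt.{u} (ModSite.Mod X.sheaf) := ‹HasExt.{u} X.Modules›
  let a := Groth.Agent.H30.ExtAdj.extAddEquiv (ModSite.sheafHomAdj (O := X.sheaf) E) F G i
  obtain ⟨b⟩ := Groth.Agent.H53.SheafDual.nonempty_sheafHom_iso_tensor_dual (O := X.sheaf) E G hEF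
  exact ⟨a.trans (extPostAddEquiv (A := ModSite.Mod X.sheaf) F b i)⟩

end Groth.Agent.S15514
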