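import Groth.Statements.S15524
import Mathlib

set_option autoImplicit false
open Finset
open Zeta

namespace Groth.Agent.S15524

theorem key {ι : Type*} [Fintype ι] (β : ι → ℂ) (r C : ℝ) (hr : 0 < r)
    (h : ∀ N : ℕ, 1 ≤ N → ‖∑ j, β j ^ N‖ ≤ C * r ^ N) (i0 : ι) : ‖β i0‖ ≤ r := by
  classical
  by_contra hlt
  push Not at hlt
  obtain ⟨T, hT⟩ : ∃ T : Finset ℂ, T = (Finset.univ.image β).erase (β i0) := ⟨_, rfl⟩
  obtain ⟨P, hP⟩ : ∃ P : Polynomial ℂ, P = ∏ γ ∈ T, (Polynomial.X - Polynomial.C γ) := ⟨_, rfl⟩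
  have hP0 : P.eval (β i0) ≠ 0 := by
    rw [hP, Polynomial.eval_prod]
    refine Finset.prod_ne_zero_iff.mpr (fun γ hγ => ?_)
    rw [Polynomial.eval_sub, Polynomial.eval_X, Polynomial.eval_C, sub_ne_zero]
    rw [hT] at hγ
    exact fun h => (Finset.ne_of_mem_erase hγ) h.symm
  have hPz : ∀ j, β j ≠ β i0 → P.eval (β j) = 0 := by
    intro j hj
    rw [hP, Polynomial.eval_prod]
    refine Finset.prod_eq_zero (i := β j) ?_ ?_
    · rw [hT]
      exact Finset.mem_erase.mpr ⟨hj, Finset.mem_image_of_mem β (Finset.mem_univ j)⟩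
    · simp
  obtain ⟨m, hm⟩ : ∃ m : ℕ, m = (Finset.univ.filter (fun j => β j = β i0)).card := ⟨_, rfl⟩
  have hm1 : 1 ≤ m := by
    rw [hm]
    exact Finset.card_pos.mpr ⟨i0, by simp⟩
  have hid : ∀ N : ℕ, ∑ k ∈ Finset.range (P.natDegree + 1), P.coeff k * ∑ j, β j ^ (N + k)
      = (m : ℂ) * (β i0 ^ N * P.eval (β i0)) := by
    intro N
    calc ∑ k ∈ Finset.range (P.natDegree + 1), P.coeff k * ∑ j, β j ^ (N + k)
        = ∑ j, β j ^ N * P.eval (β j) := by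
          simp_rw [Finset.mul_sum]
          rw [Finset.sum_comm]
          refine Finset.sum_congr rfl (fun j _ => ?_)
          rw [Polynomial.eval_eq_sum_range, Finset.mul_sum]
          refine Finset.sum_congr rfl (fun k _ => ?_)
          rw [pow_add]; ring
      _ = ∑ j, if β j = β i0 then β i0 ^ N * P.eval (β i0) else 0 := by
          refine Finset.sum_congr rfl (fun j _ => ?_)
          split_ifs with hj
          · rw [hj]
          · rw [hPz j hj, mul_zero]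
      _ = (m : ℂ) * (β i0 ^ N * P.eval (β i0)) := by
          rw [← Finset.sum_filter, Finset.sum_const, nsmul_eq_mul, hm]
  obtain ⟨D, hD⟩ : ∃ D : ℝ, D = ∑ k ∈ Finset.range (P.natDegree + 1), ‖P.coeff k‖ * (C * r ^ k) :=
    ⟨_, rfl⟩
  obtain ⟨c, hc⟩ : ∃ c : ℝ, c = (m : ℝ) * ‖P.eval (β i0)‖ := ⟨_, rfl⟩
  have hc0 : 0 < c := by
    rw [hc]
    have : (0:ℝ) < m := by exact_mod_cast hm1
    exact mul_pos this (norm_pos_iff.mpr hP0)
  have hbound : ∀ N : ℕ, 1 ≤ N → ‖β i0‖ ^ N * c ≤ D * r ^ N := by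
    intro N hN
    have e1 : ‖β i0‖ ^ N * c = ‖(m : ℂ) * (β i0 ^ N * P.eval (β i0))‖ := by
      rw [norm_mul, norm_mul, norm_pow, Complex.norm_natCast, hc]; ring
    rw [e1, ← hid N]
    refine (norm_sum_le _ _).trans ?_
    rw [hD, Finset.sum_mul]
    refine Finset.sum_le_sum (fun k _ => ?_)
    rw [norm_mul]
    have h1 := h (N + k) (by omega)
    calc ‖P.coeff k‖ * ‖∑ j, β j ^ (N + k)‖ ≤ ‖P.coeff k‖ * (C * r ^ (N + k)) :=
          mul_le_mul_of_nonneg_left h1 (norm_nonneg _)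
      _ = ‖P.coeff k‖ * (C * r ^ k) * r ^ N := by rw [pow_add]; ring
  have hρ : 1 < ‖β i0‖ / r := (one_lt_div hr).mpr hlt
  obtain ⟨n, hn⟩ := pow_unbounded_of_one_lt (D / c) hρ
  have h2 : (‖β i0‖ / r) ^ (n + 1) ≤ D / c := by
    rw [div_pow, div_le_div_iff₀ (pow_pos hr _) hc0]
    exact hbound (n + 1) (by omega)
  have h3 : (‖β i0‖ / r) ^ n ≤ (‖β i0‖ / r) ^ (n + 1) :=
    pow_le_pow_right₀ hρ.le (Nat.le_succ n)
  linarith

/-- Let q ≥ 1 and let α_1, …, α_{2g} be complex numbers permuted by α ↦ q/α, i.e. α_{σ(i)} α_i = q for a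
permutation σ of the indices; these play the role of the inverse roots of the numerator of the zeta
function of a curve over a field with q elements, for which #X(F_{q^N}) = q^N + 1 − Σ_i α_i^N. If
for some d ≥ 1 and real C one has |Σ_i α_i^{dN}| ≤ C q^{dN/2} for every N ≥ 1, then |α_i|^2 = q for
every i (the Riemann hypothesis for the curve). -/
theorem result {g : ℕ} (q : ℕ) (hq : 0 < q)
    (α : Fin (2 * g) → ℂ) (σ : Equiv.Perm (Fin (2 * g))) (hσ : ∀ i, α (σ i) * α i = q)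
    (d : ℕ) (hd : 0 < d) (C : ℝ)
    (hC : ∀ N : ℕ, 1 ≤ N → ‖∑ i, α i ^ (d * N)‖ ≤ C * (q : ℝ) ^ ((d : ℝ) * N / 2))
    (i : Fin (2 * g)) : ‖α i‖ ^ 2 = q := by

  have hq0 : (0:ℝ) < q := by exact_mod_cast hq
  have hr : 0 < (Real.sqrt q) ^ d := pow_pos (Real.sqrt_pos.mpr hq0) d
  have hpow : ∀ N : ℕ, (q : ℝ) ^ ((d : ℝ) * N / 2) = ((Real.sqrt q) ^ d) ^ N := by
    intro N
    rw [Real.sqrt_eq_rpow, ← Real.rpow_natCast, ← Real.rpow_natCast, ← Real.rpow_mul hq0.le,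
      ← Real.rpow_mul hq0.le]
    congr 1; ring
  have hall : ∀ j, ‖α j‖ ^ 2 ≤ q := by
    intro j
    have hk := key (fun j => α j ^ d) ((Real.sqrt q) ^ d) C hr (fun N hN => by
      have h0 := hC N hN
      rw [hpow N] at h0
      have e : ∀ j, (α j ^ d) ^ N = α j ^ (d * N) := fun j => (pow_mul _ _ _).symm
      simp only [e]
      exact h0) j
    simp only [norm_pow] at hk
    have h2 : ‖α j‖ ≤ Real.sqrt q := le_of_pow_le_pow_left₀ hd.ne' (Real.sqrt_nonneg _) hk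
    calc ‖α j‖ ^ 2 ≤ (Real.sqrt q) ^ 2 := pow_le_pow_left₀ (norm_nonneg _) h2 2
      _ = q := Real.sq_sqrt hq0.le
  have h1 := hall i
  have h2 := hall (σ i)
  have h3 : ‖α (σ i)‖ * ‖α i‖ = q := by
    rw [← norm_mul, hσ i, Complex.norm_natCast]
  have h4 : (q:ℝ) * q ≤ q * ‖α i‖ ^ 2 := by
    calc (q:ℝ) * q = (‖α (σ i)‖ * ‖α i‖) ^ 2 := by rw [h3]; ring
      _ = ‖α (σ i)‖ ^ 2 * ‖α i‖ ^ 2 := by ring
      _ ≤ q * ‖α i‖ ^ 2 := mul_le_mul_of_nonneg_right h2 (by positivity)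
  have h5 : (q:ℝ) ≤ ‖α i‖ ^ 2 := le_of_mul_le_mul_left h4 hq0
  exact le_antisymm h1 h5

end Groth.Agent.S15524
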