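import Groth.Statements.S15525
import Mathlib.Algebra.Polynomial.Reverse
import Mathlib.LinearAlgebra.Matrix.Charpoly.Coeff
import Mathlib.Analysis.Complex.Polynomial.Basic
import Mathlib.Tactic.Ring

set_option autoImplicit false
universe u
open Zeta

namespace Groth.Agent.S15525

open Polynomial in
theorem hrev1 : (1 : ℂ[X]).reverse = 1 := by
  have h1 : (1 : ℂ[X]) = C 1 := by simp
  rw [h1, reverse_C]

open Polynomial in
theorem hrevX : (X : ℂ[X]).reverse = 1 := by
  have := reverse_mul_X (1 : ℂ[X])
  rw [one_mul] at this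
  rw [this, hrev1]

open Polynomial in
theorem hrev (a : ℂ) : (X - C a : ℂ[X]).reverse = 1 - C a * X := by
  have h : (X - C a : ℂ[X]) = X + C (-a) := by rw [C_neg, sub_eq_add_neg]
  rw [h, reverse_add_C, hrevX]
  simp only [natDegree_X, pow_one, C_neg]
  ring

open Polynomial in
theorem hinv (a : ℂ) (ha : ‖a‖ = 1) : a⁻¹ = (starRingEnd ℂ) a := by
  rw [Complex.inv_def, Complex.normSq_eq_norm_sq, ha]
  simp

open Polynomial in
theorem aux_prod (s : Multiset ℂ) (hs : ∀ z ∈ s, ‖z‖ = 1) :
    C ((-1 : ℂ) ^ Multiset.card s * (s.prod)⁻¹) * (s.map (fun a => X - C a)).prod.reverse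
      = ((s.map (fun a => X - C a)).prod).map (starRingEnd ℂ) := by
  induction s using Multiset.induction_on with
  | empty => simp [hrev1]
  | cons a s ih =>
    have ha : ‖a‖ = 1 := hs a (Multiset.mem_cons_self a s)
    have hs' : ∀ z ∈ s, ‖z‖ = 1 := fun z hz => hs z (Multiset.mem_cons_of_mem hz)
    have ha0 : a ≠ 0 := by
      intro h
      rw [h] at ha
      simp at ha
    rw [Multiset.map_cons, Multiset.prod_cons, Multiset.card_cons, Multiset.prod_cons,
      reverse_mul_of_domain, Polynomial.map_mul, ← ih hs', hrev]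
    simp only [Polynomial.map_sub, map_X, map_C, ← hinv a ha]
    have h2 : (X - C a⁻¹ : ℂ[X]) = C (-a⁻¹) * (1 - C a * X) := by
      rw [mul_sub, mul_one, ← mul_assoc, ← C_mul, neg_mul, inv_mul_cancel₀ ha0]
      simp
      ring
    rw [h2, mul_inv, pow_succ]
    simp only [C_mul, C_neg, C_pow, C_1]
    ring

theorem conj_mul_self (Q : Polynomial ℂ) :
    (Q * Q.map (starRingEnd ℂ)).map (starRingEnd ℂ) = Q * Q.map (starRingEnd ℂ) := by
  have h2 : (Q.map (starRingEnd ℂ)).map (starRingEnd ℂ) = Q := by
    rw [Polynomial.map_map]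
    have : (starRingEnd ℂ).comp (starRingEnd ℂ) = RingHom.id ℂ := by
      ext x <;> simp
    rw [this, Polynomial.map_id]
  rw [Polynomial.map_mul, h2, mul_comm]

/-- Let L be a field with a ring embedding ι into ℂ and M an r × r matrix over L all of whose
eigenvalues, the complex roots of its characteristic polynomial mapped along ι, have absolute value
1. Then every coefficient of the characteristic polynomial of the block-diagonal matrix with blocks
M and the inverse transpose of M is mapped by ι into ℝ. This is the pointwise content of the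
assertion that for a lisse sheaf F pure of weight 0 the sum of F and its dual is real, the Frobenius
of the dual acting by the inverse transpose. -/
theorem result (L : Type u) [Field L] (ι : L →+* ℂ)
    {r : ℕ} (M : Matrix (Fin r) (Fin r) L)
    (hM : ∀ z ∈ ((Matrix.charpoly M).map ι).roots, ‖z‖ = 1) (n : ℕ) :
    (ι ((Matrix.fromBlocks M 0 0 (M⁻¹).transpose).charpoly.coeff n)).im = 0 := by
  classical
  set Q := M.charpoly.map ι with hQ
  have hQm : Q.Monic := (Matrix.charpoly_monic M).map ι
  have hQs : Q.Splits := IsAlgClosed.splits Q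
  have hQp : Q = (Q.roots.map (fun a => Polynomial.X - Polynomial.C a)).prod :=
    hQs.eq_prod_roots_of_monic hQm
  have hdeg : Q.natDegree = r := by
    rw [hQ, (Matrix.charpoly_monic M).natDegree_map, Matrix.charpoly_natDegree_eq_dim,
      Fintype.card_fin]
  have hcard : Multiset.card Q.roots = r := by
    rw [← hQs.natDegree_eq_card_roots, hdeg]
  have hdetι : ι M.det = Q.roots.prod := by
    have h0 : ι (M.charpoly.coeff 0) = Q.coeff 0 := by rw [hQ, Polynomial.coeff_map]
    rw [Matrix.det_eq_sign_charpoly_coeff, map_mul, map_pow, map_neg, map_one, h0,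
      hQs.coeff_zero_eq_prod_roots_of_monic hQm, hdeg, Fintype.card_fin, ← mul_assoc, ← pow_add,
      Even.neg_one_pow ⟨r, rfl⟩, one_mul]
  have hprod0 : Q.roots.prod ≠ 0 := by
    apply Multiset.prod_ne_zero
    intro h0
    have := hM 0 h0
    simp at this
  have hdet : M.det ≠ 0 := fun h => hprod0 (by rw [← hdetι, h, map_zero])
  have hMunit : IsUnit M := (Matrix.isUnit_iff_isUnit_det M).2 (isUnit_iff_ne_zero.2 hdet)
  have hP : (Matrix.fromBlocks M 0 0 (M⁻¹).transpose).charpoly = M.charpoly * (M⁻¹).charpoly := by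
    rw [Matrix.charpoly_fromBlocks_zero₁₂, Matrix.charpoly_transpose]
  have hrevmap : (M.charpoly.reverse).map ι = Q.reverse := by
    unfold Polynomial.reverse
    rw [← Polynomial.reflect_map, ← hQ, hdeg, Matrix.charpoly_natDegree_eq_dim, Fintype.card_fin]
  have hinvmap : (M⁻¹).charpoly.map ι = Q.map (starRingEnd ℂ) := by
    rw [Matrix.charpoly_inv M hMunit, ← Matrix.reverse_charpoly, Polynomial.map_mul,
      Polynomial.map_mul, Polynomial.map_pow, Polynomial.map_neg, Polynomial.map_one,
      Polynomial.map_C, Ring.inverse_eq_inv', map_inv₀, hdetι, Fintype.card_fin, hrevmap]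
    have := aux_prod Q.roots hM
    rw [hcard, ← hQp] at this
    rw [← this, Polynomial.C_mul, Polynomial.C_pow, Polynomial.C_neg, Polynomial.C_1]
  have hPmap : (Matrix.fromBlocks M 0 0 (M⁻¹).transpose).charpoly.map ι
      = Q * Q.map (starRingEnd ℂ) := by
    rw [hP, Polynomial.map_mul, hinvmap]
  have hconj := conj_mul_self Q
  have hc : ι ((Matrix.fromBlocks M 0 0 (M⁻¹).transpose).charpoly.coeff n)
      = (Q * Q.map (starRingEnd ℂ)).coeff n := by
    rw [← hPmap, Polynomial.coeff_map]
  rw [hc, ← Complex.conj_eq_iff_im, ← Polynomial.coeff_map, hconj]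

end Groth.Agent.S15525
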