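import Groth.Statements.S15526
import Mathlib.Tactic.Ring
import Mathlib.Tactic.Linarith
import Mathlib.Tactic.FinCases

set_option autoImplicit false
universe u
open MvPolynomial
open CAlg

namespace Groth.Agent.S15526

section
variable {A : Type u} [CommRing A] {R : Type u} [CommRing R] [Algebra R A]

/-- Abstract version: in an `R`-algebra with elements `x y z` such that `y z = 1` and
`x^(2g+1) = y^2 - ∑_{j ≤ 2g} c_j x^j`, the span of `x^i y^n`, `x^i z^n` (`i ≤ 2g`) is stable under
multiplication by `x`, `y`, `z`. -/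
theorem stable (g : ℕ) (x y z : A) (c : ℕ → R) (hyz : y * z = 1)
    (hx : x ^ (2 * g + 1) = y ^ 2 - ∑ j ∈ Finset.range (2 * g + 1), c j • x ^ j)
    (S : Submodule R A)
    (hS : S = Submodule.span R {a : A | ∃ i n : ℕ, i ≤ 2 * g ∧ (a = x ^ i * y ^ n ∨ a = x ^ i * z ^ n)}) :
    (∀ s ∈ S, x * s ∈ S) ∧ (∀ s ∈ S, y * s ∈ S) ∧ (∀ s ∈ S, z * s ∈ S) := by
  have hy : ∀ i n : ℕ, i ≤ 2 * g → x ^ i * y ^ n ∈ S := fun i n hi => by
    rw [hS]; exact Submodule.subset_span ⟨i, n, hi, Or.inl rfl⟩
  have hz : ∀ i n : ℕ, i ≤ 2 * g → x ^ i * z ^ n ∈ S := fun i n hi => by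
    rw [hS]; exact Submodule.subset_span ⟨i, n, hi, Or.inr rfl⟩
  have hzy : z * y = 1 := by rw [mul_comm]; exact hyz
  -- a general principle: to check stability it suffices to check generators
  have hgen : ∀ a : A, (∀ i n : ℕ, i ≤ 2 * g → a * (x ^ i * y ^ n) ∈ S) →
      (∀ i n : ℕ, i ≤ 2 * g → a * (x ^ i * z ^ n) ∈ S) → ∀ s ∈ S, a * s ∈ S := by
    intro a h1 h2 s hs
    rw [hS] at hs
    induction hs using Submodule.span_induction with
    | mem s hs =>
      obtain ⟨i, n, hi, rfl | rfl⟩ := hs
      · exact h1 i n hi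
      · exact h2 i n hi
    | zero => rw [mul_zero]; exact Submodule.zero_mem _
    | add s t _ _ hs ht => rw [mul_add]; exact Submodule.add_mem _ hs ht
    | smul r s _ hs => rw [mul_smul_comm]; exact Submodule.smul_mem _ _ hs
  refine ⟨hgen x ?_ ?_, hgen y ?_ ?_, hgen z ?_ ?_⟩
  · intro i n hi
    rcases Nat.lt_or_ge i (2 * g) with h | h
    · have : x * (x ^ i * y ^ n) = x ^ (i + 1) * y ^ n := by ring
      rw [this]; exact hy _ _ (by omega)
    · have hi' : i = 2 * g := by omega
      subst hi'
      have : x * (x ^ (2 * g) * y ^ n) = x ^ (2 * g + 1) * y ^ n := by ring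
      rw [this, hx, sub_mul, Finset.sum_mul]
      refine Submodule.sub_mem _ ?_ (Submodule.sum_mem _ fun j hj => ?_)
      · have : y ^ 2 * y ^ n = x ^ 0 * y ^ (n + 2) := by ring
        rw [this]; exact hy _ _ (by omega)
      · rw [smul_mul_assoc]
        exact Submodule.smul_mem _ _ (hy _ _ (by have := Finset.mem_range.mp hj; omega))
  · intro i n hi
    rcases Nat.lt_or_ge i (2 * g) with h | h
    · have : x * (x ^ i * z ^ n) = x ^ (i + 1) * z ^ n := by ring
      rw [this]; exact hz _ _ (by omega)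
    · have hi' : i = 2 * g := by omega
      subst hi'
      have : x * (x ^ (2 * g) * z ^ n) = x ^ (2 * g + 1) * z ^ n := by ring
      rw [this, hx, sub_mul, Finset.sum_mul]
      refine Submodule.sub_mem _ ?_ (Submodule.sum_mem _ fun j hj => ?_)
      · rcases n with _ | _ | n
        · have : y ^ 2 * z ^ 0 = x ^ 0 * y ^ 2 := by ring
          rw [this]; exact hy _ _ (by omega)
        · have : y ^ 2 * z ^ (0 + 1) = x ^ 0 * y ^ 1 * (y * z) := by ring
          rw [this, hyz, mul_one]; exact hy _ _ (by omega)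
        · have : y ^ 2 * z ^ (n + 1 + 1) = x ^ 0 * z ^ n * (y * z) ^ 2 := by ring
          rw [this, hyz, one_pow, mul_one]; exact hz _ _ (by omega)
      · rw [smul_mul_assoc]
        exact Submodule.smul_mem _ _ (hz _ _ (by have := Finset.mem_range.mp hj; omega))
  · intro i n hi
    have : y * (x ^ i * y ^ n) = x ^ i * y ^ (n + 1) := by ring
    rw [this]; exact hy _ _ hi
  · intro i n hi
    rcases n with _ | n
    · have : y * (x ^ i * z ^ 0) = x ^ i * y ^ 1 := by ring
      rw [this]; exact hy _ _ hi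
    · have : y * (x ^ i * z ^ (n + 1)) = x ^ i * z ^ n * (y * z) := by ring
      rw [this, hyz, mul_one]; exact hz _ _ hi
  · intro i n hi
    rcases n with _ | n
    · have : z * (x ^ i * y ^ 0) = x ^ i * z ^ 1 := by ring
      rw [this]; exact hz _ _ hi
    · have : z * (x ^ i * y ^ (n + 1)) = x ^ i * y ^ n * (y * z) := by ring
      rw [this, hyz, mul_one]; exact hy _ _ hi
  · intro i n hi
    have : z * (x ^ i * z ^ n) = x ^ i * z ^ (n + 1) := by ring
    rw [this]; exact hz _ _ hi

end

/-- Let R be a commutative ring, P ∈ R[x] a monic polynomial of degree 2g + 1, and A = R[x, y, z]/(y^2 −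
P(x), yz − 1). Then every element of A is a finite sum Σ_n Q_n(x) y^n over integers n, negative
powers of y meaning powers of z, with each Q_n ∈ R[x] of degree at most 2g: the R-submodule of A
spanned by the classes of x^i y^n and x^i z^n with i ≤ 2g and n ≥ 0 is all of A. (The published
statement takes for R the ring of Witt vectors of a finite field and for P a lift of a separable
polynomial; the argument uses only that P is monic of degree 2g + 1.) -/
theorem result (R : Type u) [CommRing R] (g : ℕ)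
    (P : Polynomial R) (hP : P.Monic) (hdeg : P.natDegree = 2 * g + 1) :
    Submodule.span R {a : MvPolynomial (Fin 3) R ⧸
        Ideal.span ({X 1 ^ 2 - Polynomial.aeval (X 0 : MvPolynomial (Fin 3) R) P, X 1 * X 2 - 1} :
          Set (MvPolynomial (Fin 3) R)) |
        ∃ i n : ℕ, i ≤ 2 * g ∧
          (a = Ideal.Quotient.mk _ (X 0 ^ i * X 1 ^ n) ∨ a = Ideal.Quotient.mk _ (X 0 ^ i * X 2 ^ n))} =
      ⊤ := by
  set I : Ideal (MvPolynomial (Fin 3) R) :=
    Ideal.span ({X 1 ^ 2 - Polynomial.aeval (X 0 : MvPolynomial (Fin 3) R) P, X 1 * X 2 - 1} :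
          Set (MvPolynomial (Fin 3) R)) with hI
  set x : MvPolynomial (Fin 3) R ⧸ I := Ideal.Quotient.mk I (X 0) with hxdef
  set y : MvPolynomial (Fin 3) R ⧸ I := Ideal.Quotient.mk I (X 1) with hydef
  set z : MvPolynomial (Fin 3) R ⧸ I := Ideal.Quotient.mk I (X 2) with hzdef
  have hyz : y * z = 1 := by
    have h : (X 1 * X 2 - 1 : MvPolynomial (Fin 3) R) ∈ I :=
      Ideal.subset_span (by simp)
    have := Ideal.Quotient.eq_zero_iff_mem.mpr h
    rw [map_sub, map_mul, map_one, sub_eq_zero] at this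
    exact this
  have hy2 : y ^ 2 = Polynomial.aeval x P := by
    have h : (X 1 ^ 2 - Polynomial.aeval (X 0 : MvPolynomial (Fin 3) R) P : MvPolynomial (Fin 3) R) ∈ I :=
      Ideal.subset_span (by simp)
    have := Ideal.Quotient.eq_zero_iff_mem.mpr h
    rw [map_sub, map_pow, sub_eq_zero] at this
    rw [this]
    have := Polynomial.aeval_algHom_apply (Ideal.Quotient.mkₐ R I) (X 0 : MvPolynomial (Fin 3) R) P
    simpa using this.symm
  have hx : x ^ (2 * g + 1) = y ^ 2 - ∑ j ∈ Finset.range (2 * g + 1), (P.coeff j) • x ^ j := by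
    rw [hy2]
    have h := hP.as_sum
    rw [hdeg] at h
    have h2 := congrArg (Polynomial.aeval x) h
    rw [h2]
    have h3 : ∀ j : ℕ, P.coeff j • x ^ j = algebraMap R (MvPolynomial (Fin 3) R ⧸ I) (P.coeff j) * x ^ j :=
      fun j => Algebra.smul_def (P.coeff j) (x ^ j)
    simp only [h3]
    simp [map_sum]
  have key := stable g x y z (fun j => P.coeff j) hyz hx _ rfl
  set S := Submodule.span R {a : MvPolynomial (Fin 3) R ⧸ I | ∃ i n : ℕ, i ≤ 2 * g ∧ (a = x ^ i * y ^ n ∨ a = x ^ i * z ^ n)} with hS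
  have hmul : ∀ f : MvPolynomial (Fin 3) R, ∀ s ∈ S, Ideal.Quotient.mk I f * s ∈ S := by
    intro f
    induction f using MvPolynomial.induction_on with
    | C r =>
      intro s hs
      have : Ideal.Quotient.mk I (C r) * s = r • s := (Algebra.smul_def r s).symm
      rw [this]; exact Submodule.smul_mem _ _ hs
    | add p q hp hq =>
      intro s hs
      rw [map_add, add_mul]; exact Submodule.add_mem _ (hp s hs) (hq s hs)
    | mul_X p i hp =>
      intro s hs
      rw [map_mul, mul_assoc]
      apply hp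
      fin_cases i
      · exact key.1 s hs
      · exact key.2.1 s hs
      · exact key.2.2 s hs
  have hone : (1 : MvPolynomial (Fin 3) R ⧸ I) ∈ S := by
    apply Submodule.subset_span
    exact ⟨0, 0, Nat.zero_le _, Or.inl (by simp)⟩
  have htop : S = ⊤ := by
    rw [eq_top_iff]
    rintro a -
    obtain ⟨f, rfl⟩ := Ideal.Quotient.mk_surjective a
    have := hmul f 1 hone
    rwa [mul_one] at this
  convert htop using 4
  simp [hxdef, hydef, hzdef]

end Groth.Agent.S15526
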