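import Groth.Statements.S1553
import Groth.Agent.H9.DimFormulaRel
import Groth.Agent.H9.FibreGeneric

set_option linter.style.haveILetI false

set_option autoImplicit false
universe u
open CategoryTheory CategoryTheory.Limits AlgebraicGeometry
open Variety

namespace Groth.Agent.S1553

open AlgebraicGeometry CategoryTheory Groth.Agent.H9.FibreFormula
  Groth.Agent.H9.DimFormulaScheme Groth.Agent.H54 Groth.Agent.H9.FibreGeneric
  Groth.Agent.H9.DimFormulaRel

theorem result' {X Y : Scheme.{u}} (f : X ⟶ Y) [LocallyOfFiniteType f]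
    (x : X) [IsNoetherianRing (Y.presheaf.stalk (f.base x))] (d : ℕ)
    (hgen : ∀ Z ∈ irreducibleComponents (X : Type u), x ∈ Z → ∀ η : X, IsGenericPoint η Z →
      f.base η ≠ f.base x ∧ FlatMor.fibreDimAt f η = d) :
    FlatMor.fibreDimAt f x + 1 ≤ (d : WithBot ℕ∞) + ringKrullDim (Y.presheaf.stalk (f.base x)) := by
  obtain ⟨ζ, n, hζx, hfζ, hn, hle⟩ := exists_fibre_generization f x
  obtain ⟨ξ, hξζ, hξ⟩ := exists_generic_specializes ζ
  have hξx : ξ ⤳ x := hξζ.trans hζx
  obtain ⟨hne, hd⟩ := hgen (closure {ξ}) hξ (specializes_iff_mem_closure.mp hξx) ξ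
    isGenericPoint_closure
  obtain ⟨E, hE⟩ := exists_trdeg_eq_nat f ξ
  have hmax : ∀ x' : X, x' ⤳ ξ → x' = ξ := fun x' hx' => eq_of_specializes_generic hξ hx'
  have hdE : (d : WithBot ℕ∞) = (E : WithBot ℕ∞) := by
    rw [← hd, fibreDimAt_eq_trdeg_of_forall f ξ hmax E hE]
  haveI : IsNoetherianRing (Y.presheaf.stalk (f.base ζ)) := by rw [hfζ]; infer_instance
  have hneq : ξ ≠ ζ := fun h => hne (by rw [h, hfζ])
  have key := (rel_ineq f ζ ξ hξζ n E hn hE).2.1 hneq
  rw [hfζ] at key
  calc FlatMor.fibreDimAt f x + 1 ≤ (n : WithBot ℕ∞) + 1 := by gcongr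
    _ ≤ ringKrullDim (Y.presheaf.stalk (f.base x)) + E := key
    _ = (d : WithBot ℕ∞) + ringKrullDim (Y.presheaf.stalk (f.base x)) := by
        rw [hdE, add_comm]


/-- Let f : X → Y be locally of finite type, x a point with image y such that the local ring of Y at y
is Noetherian, and d a natural number such that at the generic points η of the irreducible
components of X passing through x we have f(η) ≠ y and local fibre dimension d. Then the local
dimension at x of the fibre over y is at most d + dim O_{Y,y} - 1 (written additively). -/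
theorem result {X Y : Scheme.{u}} (f : X ⟶ Y) [LocallyOfFiniteType f]
    (x : X) [IsNoetherianRing (Y.presheaf.stalk (f.base x))] (d : ℕ)
    (hgen : ∀ Z ∈ irreducibleComponents (X : Type u), x ∈ Z → ∀ η : X, IsGenericPoint η Z →
      f.base η ≠ f.base x ∧ FlatMor.fibreDimAt f η = d) :
    FlatMor.fibreDimAt f x + 1 ≤ (d : WithBot ℕ∞) + ringKrullDim (Y.presheaf.stalk (f.base x)) := by
  exact result' f x d hgen

end Groth.Agent.S1553
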