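import Groth.Statements.S15533
import Groth.Agent.H63.GeomRegAtSmooth
import Groth.Agent.H63.SmoothRegular2
import Groth.Agent.H44.MacLaneAll
import Groth.Agent.H44.Cartier
import Groth.Agent.H23.RegularLocal
import Mathlib

set_option autoImplicit false
universe u
open OmegaSh

namespace Groth.Agent.S15533

open CategoryTheory AlgebraicGeometry Opposite

/-- A finite formally smooth field extension is separable. -/
theorem isSeparable_of_formallySmooth (k F : Type u) [Field k] [Field F] [Algebra k F]
    [FiniteDimensional k F] [Algebra.FormallySmooth k F] : Algebra.IsSeparable k F := by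
  haveI : Algebra.EssFiniteType k F := inferInstance
  obtain ⟨hΩ, hH, heq⟩ := Groth.Agent.H44.Cartier.cartier k F
  haveI := hΩ
  haveI : Subsingleton (Algebra.H1Cotangent k F) :=
    Algebra.FormallySmooth.subsingleton_h1Cotangent
  have hH0 : Module.finrank F (Algebra.H1Cotangent k F) = 0 := Module.finrank_zero_of_subsingleton
  haveI : Algebra.IsAlgebraic k F := Algebra.IsAlgebraic.of_finite k F
  rw [hH0, trdeg_eq_zero] at heq
  simp at heq
  haveI : Subsingleton Ω[F⁄k] := Module.finrank_zero_iff.mp heq
  haveI : Algebra.FormallyUnramified k F := ⟨inferInstance⟩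
  exact Algebra.FormallyUnramified.isSeparable k F

/-- An integral element of a formally smooth domain over a field has separable minimal
polynomial. -/
theorem separable_minpoly_of_formallySmooth (k B : Type u) [Field k] [CommRing B] [IsDomain B]
    [Algebra k B] [Algebra.FormallySmooth k B] (a : B) (ha : IsIntegral k a) :
    (minpoly k a).Separable := by
  let E := FractionRing B
  haveI : Algebra.FormallySmooth B E :=
    Algebra.FormallySmooth.of_isLocalization (R := B) (Rₘ := FractionRing B) (nonZeroDivisors B)
  haveI : Algebra.FormallySmooth k E := Algebra.FormallySmooth.comp k B E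
  haveI : Algebra.IsGeometricallyReduced k E :=
    Groth.Agent.H44.MacLane.formallySmooth_iff_isGeometricallyReduced.mp inferInstance
  let a' : E := algebraMap B E a
  have ha' : IsIntegral k a' := ha.algebraMap
  let F := IntermediateField.adjoin k {a'}
  haveI : Algebra.IsGeometricallyReduced k F :=
    Algebra.IsGeometricallyReduced.of_injective F.val F.val.injective
  haveI : Algebra.FormallySmooth k F :=
    Groth.Agent.H44.MacLane.formallySmooth_iff_isGeometricallyReduced.mpr inferInstance
  haveI : FiniteDimensional k F := IntermediateField.adjoin.finiteDimensional ha'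
  haveI : Algebra.IsSeparable k F := isSeparable_of_formallySmooth k F
  have h1 : (minpoly k (IntermediateField.AdjoinSimple.gen k a')).Separable :=
    Algebra.IsSeparable.isSeparable k _
  rw [IntermediateField.minpoly_gen] at h1
  rwa [minpoly.algebraMap_eq (IsFractionRing.injective B E)] at h1

open CategoryTheory AlgebraicGeometry in
/-- For a field k and a smooth proper k-scheme X with structure morphism f, the derivation d : O_X →
Ω_{X/k} of f vanishes on global functions: d(s) = 0 in Γ(X, Ω_{X/k}) for every s ∈ Γ(X, O_X). -/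
theorem result (k : Type u) [Field k] (X : Scheme.{u})
    (f : X ⟶ Spec (CommRingCat.of k)) [IsProper f] [Smooth f] (s : Γ(X, ⊤)) :
    (OmegaSh.dOmega f).app ⊤ s = 0 := by
  classical
  -- the `k`-algebra structure on global functions
  let F0 : CommRingCat.of k ⟶ Γ(X, ⊤) := (Scheme.ΓSpecIso (CommRingCat.of k)).inv ≫ f.appTop
  have hF0int : F0.hom.IsIntegral := by
    apply RingHom.isIntegral_respectsIso.2
      (e := (Scheme.ΓSpecIso _).symm.commRingCatIsoToRingEquiv)
    exact isIntegral_appTop_of_universallyClosed f
  letI algΓ : Algebra k Γ(X, ⊤) := F0.hom.toAlgebra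
  haveI : Algebra.IsIntegral k Γ(X, ⊤) := ⟨hF0int⟩
  letI : X.Over (Spec (CommRingCat.of k)) := ⟨f⟩
  haveI : Smooth (X ↘ Spec (CommRingCat.of k)) := ‹Smooth f›
  -- pointwise: a separable irreducible polynomial killing `s` near `x`
  have key : ∀ x : X, ∃ P : Polynomial k, P.Monic ∧ Irreducible P ∧ P.Separable ∧
      ∃ U : X.Opens, x ∈ U ∧
        X.presheaf.map (homOfLE le_top : U ⟶ ⊤).op (Polynomial.aeval s P) = 0 := by
    intro x
    let B := X.presheaf.stalk x
    letI algB : Algebra k B := (Curv2.stalkMap k X x).toAlgebra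
    haveI : Algebra.FormallySmooth k B :=
      (Groth.Agent.H63.GeomRegAtSmooth.mem_smoothLocus_iff k X x).mp
        (by rw [Scheme.Hom.smoothLocus_eq_top]; trivial)
    haveI : IsRegularLocalRing B :=
      Groth.Agent.H63.SmoothRegular.isRegularLocalRing_stalk_of_smooth f x
    haveI : IsDomain B := Groth.Agent.H23.isDomain_of_isRegularLocalRing B
    let g : Γ(X, ⊤) →ₐ[k] B :=
      { (X.presheaf.germ ⊤ x trivial).hom with commutes' := fun c => rfl }
    have hs_int : IsIntegral k (g s) := (Algebra.IsIntegral.isIntegral s).map g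
    have hsep := separable_minpoly_of_formallySmooth k B (g s) hs_int
    refine ⟨minpoly k (g s), minpoly.monic hs_int, minpoly.irreducible hs_int, hsep, ?_⟩
    have h0 : g (Polynomial.aeval s (minpoly k (g s))) = 0 := by
      rw [← Polynomial.aeval_algHom_apply, minpoly.aeval]
    have h0' : X.presheaf.germ ⊤ x trivial (Polynomial.aeval s (minpoly k (g s))) =
        X.presheaf.germ ⊤ x trivial 0 := by
      rw [map_zero]; exact h0
    obtain ⟨W, hxW, iU, iV, hW⟩ :=
      TopCat.Presheaf.germ_eq X.presheaf (U := ⊤) (V := ⊤) x trivial trivial _ _ h0'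
    refine ⟨W, hxW, ?_⟩
    rw [Subsingleton.elim (homOfLE le_top) iU, hW, map_zero]
  haveI : CompactSpace X := QuasiCompact.compactSpace_of_compactSpace f
  choose P hPm hPi hPs U hxU hU using key
  obtain ⟨t, ht⟩ := isCompact_univ.elim_finite_subcover (fun x => (U x : Set X))
    (fun x => (U x).isOpen) (fun x _ => Set.mem_iUnion.mpr ⟨x, hxU x⟩)
  let Q : Polynomial k := ∏ p ∈ t.image P, p
  have hQsep : Q.Separable := by
    apply Polynomial.separable_prod'
    · intro p hp q hq hpq
      obtain ⟨x, _, rfl⟩ := Finset.mem_image.mp hp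
      obtain ⟨y, _, rfl⟩ := Finset.mem_image.mp hq
      refine ((hPi x).coprime_iff_not_dvd).mpr fun hdvd => hpq ?_
      exact Polynomial.eq_of_monic_of_associated (hPm x) (hPm y)
        ((hPi x).associated_of_dvd (hPi y) hdvd)
    · intro p hp
      obtain ⟨x, _, rfl⟩ := Finset.mem_image.mp hp
      exact hPs x
  have hQ0 : Polynomial.aeval s Q = 0 := by
    refine TopCat.Sheaf.eq_of_locally_eq' X.sheaf (fun i : t => U i.1) ⊤
      (fun i => homOfLE le_top) ?_ _ _ ?_
    · intro y _
      obtain ⟨i, hi⟩ := Set.mem_iUnion.mp (ht (Set.mem_univ y))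
      obtain ⟨hit, hyi⟩ := Set.mem_iUnion.mp hi
      exact TopologicalSpace.Opens.mem_iSup.mpr ⟨⟨i, hit⟩, hyi⟩
    · intro i
      obtain ⟨R, hR⟩ : P i.1 ∣ Q :=
        Finset.dvd_prod_of_mem id (Finset.mem_image_of_mem P i.2)
      have h1 : Polynomial.aeval s Q = Polynomial.aeval s (P i.1) * Polynomial.aeval s R := by
        rw [hR, map_mul]
      have h2 : X.presheaf.map (homOfLE le_top : U i.1 ⟶ ⊤).op (Polynomial.aeval s Q) = 0 := by
        rw [h1]
        have h5 := (X.presheaf.map (homOfLE le_top : U i.1 ⟶ ⊤).op).hom.map_mul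
          (Polynomial.aeval s (P i.1)) (Polynomial.aeval s R)
        refine h5.trans ?_
        have h3 : (X.presheaf.map (homOfLE le_top : U i.1 ⟶ ⊤).op).hom
            (Polynomial.aeval s (P i.1)) = 0 := hU i.1
        rw [h3, zero_mul]
      have h4 : X.presheaf.map (homOfLE le_top : U i.1 ⟶ ⊤).op (0 : Γ(X, ⊤)) = 0 :=
        (X.presheaf.map (homOfLE le_top : U i.1 ⟶ ⊤).op).hom.map_zero
      exact h2.trans h4.symm
  -- the derivation, as a `k`-derivation of the ring of global functions
  let D := OmegaSh.dOmega f
  let M := Γ(Omega.sheaf f, ⊤)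
  letI : Module k M := Module.compHom M (algebraMap k Γ(X, ⊤))
  let Dk : Derivation k Γ(X, ⊤) M :=
    { toFun := fun a => D.app ⊤ a
      map_add' := fun a b => map_add (D.app ⊤) a b
      map_smul' := fun c a => by
        have h1 := D.d_mul (X := op ⊤) (algebraMap k Γ(X, ⊤) c) a
        have h0 : D.d (X := op ⊤) (algebraMap k Γ(X, ⊤) c) = 0 :=
          D.d_app (X := op ⊤) ((Scheme.ΓSpecIso (CommRingCat.of k)).inv.hom c)
        rw [h0, smul_zero, add_zero] at h1
        rw [Algebra.smul_def]
        exact h1
      map_one_eq_zero' := D.d_one _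
      leibniz' := fun a b => D.d_mul (X := op ⊤) a b }
  have hD : Dk (Polynomial.aeval s Q) =
      Polynomial.aeval s (Polynomial.derivative Q) • Dk s := Dk.map_aeval Q s
  rw [hQ0, map_zero] at hD
  obtain ⟨a, b, hab⟩ := hQsep
  have h1 : Polynomial.aeval s b * Polynomial.aeval s (Polynomial.derivative Q) = 1 := by
    have := congrArg (Polynomial.aeval s) hab
    simpa [hQ0] using this
  have hfin : Dk s = 0 := by
    calc Dk s = (1 : Γ(X, ⊤)) • Dk s := (one_smul _ _).symm
      _ = (Polynomial.aeval s b * Polynomial.aeval s (Polynomial.derivative Q)) • Dk s := by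
          rw [h1]
      _ = Polynomial.aeval s b • (Polynomial.aeval s (Polynomial.derivative Q) • Dk s) :=
          mul_smul _ _ _
      _ = 0 := by rw [← hD, smul_zero]
  exact hfin

end Groth.Agent.S15533
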