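import Groth.Statements.S18616
import Mathlib
-- import your own Groth.Agent.* helpers here

set_option autoImplicit false
universe u
open DeRham

namespace Groth.Agent.S18616

set_option linter.unusedSectionVars false
set_option linter.style.haveILetI false
open exteriorPower

section General

variable {R : Type u} {A M : Type u} [CommRing R] [CommRing A] [Algebra R A]
  [AddCommGroup M] [Module A M] [Module R M] [IsScalarTower R A M]

lemma gen_ind (δ : Derivation R A M) (hgen : Submodule.span A (Set.range δ) = ⊤) (p : ℕ)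
    (C : ↥(⋀[A]^p M) → Prop) (h0 : C 0) (hadd : ∀ x y, C x → C y → C (x + y))
    (hg : ∀ (b₀ : A) (b : Fin p → A), C (DeRham.gen δ p b₀ b)) : ∀ x, C x := by
  intro x
  have hx : x ∈ Submodule.span A
      (ιMulti A p '' {a : Fin p → M | Set.range a ⊆ Set.range δ}) := by
    rw [ιMulti_span_of_span A p M hgen]
    trivial
  suffices h : ∀ r : A, C (r • x) by simpa using h 1
  induction hx using Submodule.span_induction with
  | mem y hy =>
    obtain ⟨a, ha, rfl⟩ := hy
    intro r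
    have hch : ∀ i, ∃ b : A, δ b = a i := fun i => ha ⟨i, rfl⟩
    choose b hb using hch
    have : a = fun i => δ (b i) := funext fun i => (hb i).symm
    rw [this]
    exact hg r b
  | zero => intro r; simpa using h0
  | add y z _ _ hy hz => intro r; rw [smul_add]; exact hadd _ _ (hy r) (hz r)
  | smul s y _ hy => intro r; rw [smul_smul]; exact hy (r * s)

lemma ιMulti_cons' (p : ℕ) (m : M) (v : Fin p → M) :
    ExteriorAlgebra.ιMulti A (p + 1) (Fin.cons m v : Fin (p + 1) → M) =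
      ExteriorAlgebra.ι A m * ExteriorAlgebra.ιMulti A p v := by
  rw [ExteriorAlgebra.ιMulti_succ_apply, Fin.cons_zero]
  have : Matrix.vecTail (Fin.cons m v : Fin (p + 1) → M) = v := by
    funext i; simp [Matrix.vecTail]
  rw [this]

lemma coe_gen (δ : Derivation R A M) (p : ℕ) (b₀ : A) (b : Fin p → A) :
    ((DeRham.gen δ p b₀ b : ↥(⋀[A]^p M)) : ExteriorAlgebra A M) =
      b₀ • ExteriorAlgebra.ιMulti A p (fun i => δ (b i)) := rfl

lemma ι_swap (m m' : M) (P : ExteriorAlgebra A M) :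
    ExteriorAlgebra.ι A m * (ExteriorAlgebra.ι A m' * P) =
      -(ExteriorAlgebra.ι A m' * (ExteriorAlgebra.ι A m * P)) := by
  rw [← mul_assoc, ← mul_assoc,
    eq_neg_of_add_eq_zero_left (ExteriorAlgebra.ι_add_mul_swap m m'), neg_mul]

/-- left wedge with a one-form, between exterior powers -/
noncomputable def wedgeL (m : M) (p : ℕ) (ω : ↥(⋀[A]^p M)) : ↥(⋀[A]^(p + 1) M) :=
  ⟨ExteriorAlgebra.ι A m * (ω : ExteriorAlgebra A M), by
    show _ ∈ LinearMap.range (ExteriorAlgebra.ι A : M →ₗ[A] ExteriorAlgebra A M) ^ (p + 1)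
    rw [pow_succ']
    exact Submodule.mul_mem_mul ⟨m, rfl⟩ ω.2⟩

lemma coe_wedgeL (m : M) (p : ℕ) (ω : ↥(⋀[A]^p M)) :
    ((wedgeL m p ω : ↥(⋀[A]^(p + 1) M)) : ExteriorAlgebra A M) =
      ExteriorAlgebra.ι A m * (ω : ExteriorAlgebra A M) := rfl

variable {δ : Derivation R A M} {d : ∀ p : ℕ, ↥(⋀[A]^p M) →ₗ[R] ↥(⋀[A]^(p + 1) M)}

lemma coe_rule (hr : DeRham.IsRule δ d) (p : ℕ) (b₀ : A) (b : Fin p → A) :
    ((d p (DeRham.gen δ p b₀ b) : ↥(⋀[A]^(p + 1) M)) : ExteriorAlgebra A M) =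
      ExteriorAlgebra.ι A (δ b₀) * ExteriorAlgebra.ιMulti A p (fun i => δ (b i)) := by
  rw [hr p b₀ b, ιMulti_apply_coe, ιMulti_cons']

lemma R1 (hr : DeRham.IsRule δ d) (hgen : Submodule.span A (Set.range δ) = ⊤) (p : ℕ) (a : A)
    (ω : ↥(⋀[A]^p M)) :
    ((d p (a • ω) : ↥(⋀[A]^(p + 1) M)) : ExteriorAlgebra A M) =
      ExteriorAlgebra.ι A (δ a) * (ω : ExteriorAlgebra A M) +
        algebraMap A (ExteriorAlgebra A M) a *
          ((d p ω : ↥(⋀[A]^(p + 1) M)) : ExteriorAlgebra A M) := by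
  refine gen_ind δ hgen p (fun ω => ((d p (a • ω) : ↥(⋀[A]^(p + 1) M)) : ExteriorAlgebra A M) =
      ExteriorAlgebra.ι A (δ a) * (ω : ExteriorAlgebra A M) +
        algebraMap A (ExteriorAlgebra A M) a *
          ((d p ω : ↥(⋀[A]^(p + 1) M)) : ExteriorAlgebra A M)) ?_ ?_ ?_ ω
  · simp
  · intro x y hx hy
    simp only [smul_add, map_add, Submodule.coe_add, mul_add, hx, hy]
    abel
  · intro b₀ b
    have h1 : a • DeRham.gen δ p b₀ b = DeRham.gen δ p (a * b₀) b := by
      unfold DeRham.gen; rw [smul_smul]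
    rw [h1, coe_rule hr, coe_rule hr, coe_gen, Derivation.leibniz, map_add, map_smul, map_smul,
      add_mul, smul_mul_assoc, smul_mul_assoc, mul_smul_comm, ← Algebra.smul_def, add_comm]

lemma R2 (hr : DeRham.IsRule δ d) (hgen : Submodule.span A (Set.range δ) = ⊤) (p : ℕ) (x : A)
    (ω : ↥(⋀[A]^p M)) :
    ((d (p + 1) (wedgeL (δ x) p ω) : ↥(⋀[A]^(p + 1 + 1) M)) : ExteriorAlgebra A M) =
      -(ExteriorAlgebra.ι A (δ x) * ((d p ω : ↥(⋀[A]^(p + 1) M)) : ExteriorAlgebra A M)) := by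
  refine gen_ind δ hgen p (fun ω =>
    ((d (p + 1) (wedgeL (δ x) p ω) : ↥(⋀[A]^(p + 1 + 1) M)) : ExteriorAlgebra A M) =
      -(ExteriorAlgebra.ι A (δ x) * ((d p ω : ↥(⋀[A]^(p + 1) M)) : ExteriorAlgebra A M)))
    ?_ ?_ ?_ ω
  · have : wedgeL (δ x) p (0 : ↥(⋀[A]^p M)) = 0 := Subtype.ext (by simp [coe_wedgeL])
    simp [this]
  · intro y z hy hz
    have : wedgeL (δ x) p (y + z) = wedgeL (δ x) p y + wedgeL (δ x) p z :=
      Subtype.ext (by simp [coe_wedgeL, mul_add])
    simp only [this, map_add, Submodule.coe_add, mul_add, hy, hz, neg_add]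
  · intro b₀ b
    have h2 : (fun i => δ ((Fin.cons x b : Fin (p + 1) → A) i)) =
        (Fin.cons (δ x) (fun i => δ (b i)) : Fin (p + 1) → M) := by
      funext i
      refine Fin.cases ?_ (fun j => ?_) i
      · simp
      · simp
    have h1 : wedgeL (δ x) p (DeRham.gen δ p b₀ b) = DeRham.gen δ (p + 1) b₀ (Fin.cons x b) := by
      apply Subtype.ext
      rw [coe_wedgeL, coe_gen, coe_gen, h2, ιMulti_cons', mul_smul_comm]
    rw [h1, coe_rule hr, coe_rule hr, h2, ιMulti_cons']
    exact ι_swap _ _ _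

/-- the global differential assembled from the family -/
noncomputable def gD (d : ∀ p : ℕ, ↥(⋀[A]^p M) →ₗ[R] ↥(⋀[A]^(p + 1) M)) :
    ExteriorAlgebra A M →+ ExteriorAlgebra A M :=
  (DirectSum.toAddMonoid (fun p : ℕ =>
    ((⋀[A]^(p + 1) M).subtype.toAddMonoidHom).comp (d p).toAddMonoidHom)).comp
    (DirectSum.decomposeAddEquiv (fun i : ℕ => ⋀[A]^i M)).toAddMonoidHom

lemma gD_of_mem {p : ℕ} {x : ExteriorAlgebra A M} (hx : x ∈ ⋀[A]^p M) :
    gD d x = ((d p ⟨x, hx⟩ : ↥(⋀[A]^(p + 1) M)) : ExteriorAlgebra A M) := by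
  have h1 : gD d x = DirectSum.toAddMonoid (fun p : ℕ =>
      ((⋀[A]^(p + 1) M).subtype.toAddMonoidHom).comp (d p).toAddMonoidHom)
      (DirectSum.decompose (fun i : ℕ => ⋀[A]^i M) x) := rfl
  rw [h1, DirectSum.decompose_of_mem (fun i : ℕ => ⋀[A]^i M) hx, DirectSum.toAddMonoid_of]
  rfl

lemma gD_coe {p : ℕ} (ω : ↥(⋀[A]^p M)) :
    gD d (ω : ExteriorAlgebra A M) = ((d p ω : ↥(⋀[A]^(p + 1) M)) : ExteriorAlgebra A M) :=
  gD_of_mem ω.2

lemma gD_algebraMap_mul (hr : DeRham.IsRule δ d) (hgen : Submodule.span A (Set.range δ) = ⊤)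
    (a : A) (η : ExteriorAlgebra A M) :
    gD d (algebraMap A _ a * η) = ExteriorAlgebra.ι A (δ a) * η + algebraMap A _ a * gD d η := by
  refine DirectSum.Decomposition.inductionOn (fun i : ℕ => ⋀[A]^i M) ?_ ?_ ?_ η
  · simp
  · intro p ω
    have h : algebraMap A (ExteriorAlgebra A M) a * (ω : ExteriorAlgebra A M) =
        ((a • ω : ↥(⋀[A]^p M)) : ExteriorAlgebra A M) := by
      rw [Submodule.coe_smul, Algebra.smul_def]
    rw [h, gD_coe, gD_coe]
    exact R1 hr hgen p a ω
  · intro x y hx hy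
    rw [mul_add, map_add, map_add, hx, hy, mul_add, mul_add]
    abel

lemma gD_ιδ_mul (hr : DeRham.IsRule δ d) (hgen : Submodule.span A (Set.range δ) = ⊤)
    (x : A) (η : ExteriorAlgebra A M) :
    gD d (ExteriorAlgebra.ι A (δ x) * η) = -(ExteriorAlgebra.ι A (δ x) * gD d η) := by
  refine DirectSum.Decomposition.inductionOn (fun i : ℕ => ⋀[A]^i M) ?_ ?_ ?_ η
  · simp
  · intro p ω
    rw [← coe_wedgeL, gD_coe, gD_coe]
    exact R2 hr hgen p x ω
  · intro y z hy hz
    rw [mul_add, map_add, map_add, hy, hz, mul_add, neg_add]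

lemma gD_gD (hdd : ∀ p : ℕ, d (p + 1) ∘ₗ d p = 0) (η : ExteriorAlgebra A M) :
    gD d (gD d η) = 0 := by
  refine DirectSum.Decomposition.inductionOn (fun i : ℕ => ⋀[A]^i M) ?_ ?_ ?_ η
  · simp
  · intro p ω
    rw [gD_coe, gD_coe]
    have := LinearMap.congr_fun (hdd p) ω
    rw [LinearMap.comp_apply] at this
    rw [this]
    rfl
  · intro y z hy hz
    rw [map_add, map_add, hy, hz, add_zero]

lemma gD_algebraMap (hr : DeRham.IsRule δ d) (a : A) :
    gD d (algebraMap A (ExteriorAlgebra A M) a) = ExteriorAlgebra.ι A (δ a) := by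
  have hco : ((DeRham.gen δ 0 a Fin.elim0 : ↥(⋀[A]^0 M)) : ExteriorAlgebra A M) =
      algebraMap A (ExteriorAlgebra A M) a := by
    rw [coe_gen, ExteriorAlgebra.ιMulti_zero_apply, Algebra.algebraMap_eq_smul_one]
  rw [← hco, gD_coe, coe_rule hr, ExteriorAlgebra.ιMulti_zero_apply, mul_one]

lemma gD_mem {p : ℕ} {x : ExteriorAlgebra A M} (hx : x ∈ ⋀[A]^p M) :
    gD d x ∈ ⋀[A]^(p + 1) M := by
  rw [gD_of_mem hx]
  exact Subtype.property _

/-- the package of properties of a global de Rham differential used for the homotopy -/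
structure GD (δ : Derivation R A M) (ξ : M →ₗ[A] A) (Eul : A → A)
    (D : ExteriorAlgebra A M →+ ExteriorAlgebra A M) : Prop where
  hA : ∀ (a : A) (η : ExteriorAlgebra A M), D (algebraMap A _ a * η) =
    ExteriorAlgebra.ι A (δ a) * η + algebraMap A _ a * D η
  hI : ∀ (x : A) (η : ExteriorAlgebra A M), D (ExteriorAlgebra.ι A (δ x) * η) =
    -(ExteriorAlgebra.ι A (δ x) * D η)
  hDD : ∀ η, D (D η) = 0
  h0 : ∀ a : A, D (algebraMap A _ a) = ExteriorAlgebra.ι A (δ a)
  hξ : ∀ a : A, ξ (δ a) = Eul a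

/-- contraction with `ξ` -/
noncomputable def cLg (ξ : M →ₗ[A] A) : ExteriorAlgebra A M →ₗ[A] ExteriorAlgebra A M :=
  CliffordAlgebra.contractLeft (Q := (0 : QuadraticForm A M)) ξ

lemma cLg_ι_mul (ξ : M →ₗ[A] A) (m : M) (η : ExteriorAlgebra A M) :
    cLg ξ (ExteriorAlgebra.ι A m * η) =
      algebraMap A (ExteriorAlgebra A M) (ξ m) * η - ExteriorAlgebra.ι A m * cLg ξ η := by
  rw [← Algebra.smul_def]
  exact CliffordAlgebra.contractLeft_ι_mul ξ m η

lemma cLg_algebraMap_mul (ξ : M →ₗ[A] A) (a : A) (η : ExteriorAlgebra A M) :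
    cLg ξ (algebraMap A (ExteriorAlgebra A M) a * η) =
      algebraMap A (ExteriorAlgebra A M) a * cLg ξ η :=
  CliffordAlgebra.contractLeft_algebraMap_mul ξ a η

lemma cLg_algebraMap (ξ : M →ₗ[A] A) (a : A) :
    cLg ξ (algebraMap A (ExteriorAlgebra A M) a) = 0 :=
  CliffordAlgebra.contractLeft_algebraMap _ ξ a

lemma cLg_one (ξ : M →ₗ[A] A) : cLg ξ (1 : ExteriorAlgebra A M) = 0 :=
  CliffordAlgebra.contractLeft_one _ ξ

lemma cLg_mem (ξ : M →ₗ[A] A) : ∀ (p : ℕ) (x : ExteriorAlgebra A M), x ∈ ⋀[A]^p M →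
    (p = 0 → cLg ξ x = 0) ∧ (∀ q, p = q + 1 → cLg ξ x ∈ ⋀[A]^q M) := by
  intro p x hx
  induction hx using Submodule.pow_induction_on_left' with
  | algebraMap a => exact ⟨fun _ => cLg_algebraMap ξ a, fun q hq => absurd hq (by omega)⟩
  | add x y i hx hy ihx ihy =>
    refine ⟨fun h => by rw [map_add, ihx.1 h, ihy.1 h, add_zero], fun q hq => ?_⟩
    rw [map_add]; exact add_mem (ihx.2 q hq) (ihy.2 q hq)
  | mem_mul m hm i x hx ih =>
    obtain ⟨ω, rfl⟩ := hm
    refine ⟨fun h => absurd h (Nat.succ_ne_zero i), fun q hq => ?_⟩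
    have hqi : q = i := by omega
    subst hqi
    rw [cLg_ι_mul]
    refine sub_mem ?_ ?_
    · rw [← Algebra.smul_def]; exact Submodule.smul_mem _ _ hx
    · rcases Nat.eq_zero_or_pos q with h0 | hpos
      · rw [ih.1 h0, mul_zero]; exact zero_mem _
      · obtain ⟨i', rfl⟩ : ∃ i', q = i' + 1 := ⟨q - 1, by omega⟩
        have h3 := ih.2 i' rfl
        show _ ∈ LinearMap.range (ExteriorAlgebra.ι A : M →ₗ[A] ExteriorAlgebra A M) ^ (i' + 1)
        rw [pow_succ']
        exact Submodule.mul_mem_mul ⟨ω, rfl⟩ h3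

/-- Cartan's formula operator -/
noncomputable def Lg (ξ : M →ₗ[A] A) (D : ExteriorAlgebra A M →+ ExteriorAlgebra A M) :
    ExteriorAlgebra A M →+ ExteriorAlgebra A M :=
  D.comp (cLg ξ).toAddMonoidHom + (cLg ξ).toAddMonoidHom.comp D

lemma Lg_apply (ξ : M →ₗ[A] A) (D : ExteriorAlgebra A M →+ ExteriorAlgebra A M)
    (η : ExteriorAlgebra A M) : Lg ξ D η = D (cLg ξ η) + cLg ξ (D η) := rfl

variable {ξ : M →ₗ[A] A} {Eul : A → A} {D : ExteriorAlgebra A M →+ ExteriorAlgebra A M}

lemma Lg_algebraMap_mul (G : GD δ ξ Eul D) (a : A) (η : ExteriorAlgebra A M) :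
    Lg ξ D (algebraMap A _ a * η) =
      algebraMap A (ExteriorAlgebra A M) (Eul a) * η + algebraMap A _ a * Lg ξ D η := by
  rw [Lg_apply, Lg_apply, cLg_algebraMap_mul, G.hA, G.hA, map_add, cLg_ι_mul,
    cLg_algebraMap_mul, G.hξ, mul_add]
  abel

lemma Lg_ιδ_mul (G : GD δ ξ Eul D) (x : A) (η : ExteriorAlgebra A M) :
    Lg ξ D (ExteriorAlgebra.ι A (δ x) * η) =
      ExteriorAlgebra.ι A (δ (Eul x)) * η + ExteriorAlgebra.ι A (δ x) * Lg ξ D η := by
  rw [Lg_apply, Lg_apply, cLg_ι_mul, G.hξ, map_sub, G.hA, G.hI, G.hI,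
    map_neg, cLg_ι_mul, G.hξ, mul_add]
  abel

lemma Lg_one (G : GD δ ξ Eul D) : Lg ξ D 1 = 0 := by
  have h1 : D 1 = 0 := by
    rw [← map_one (algebraMap A (ExteriorAlgebra A M)), G.h0, Derivation.map_one_eq_zero, map_zero]
  rw [Lg_apply, h1, map_zero, cLg_one, map_zero, add_zero]

lemma Lg_D (G : GD δ ξ Eul D) (η : ExteriorAlgebra A M) : Lg ξ D (D η) = D (Lg ξ D η) := by
  rw [Lg_apply, Lg_apply, G.hDD, map_zero, add_zero, map_add, G.hDD, zero_add]

end General

section PS
open MvPowerSeries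

variable {k : Type u} [Field k] {σ : Type u} [Fintype σ] [LinearOrder σ]

/-- contraction form of the Euler vector field -/
noncomputable def xiP (k : Type u) [Field k] (σ : Type u) [Fintype σ] :
    (σ → MvPowerSeries σ k) →ₗ[MvPowerSeries σ k] MvPowerSeries σ k :=
  ∑ i : σ, (X i : MvPowerSeries σ k) •
    (LinearMap.proj i : (σ → MvPowerSeries σ k) →ₗ[MvPowerSeries σ k] MvPowerSeries σ k)

lemma xiP_apply (v : σ → MvPowerSeries σ k) : xiP k σ v = ∑ i, X i * v i := by
  simp [xiP, LinearMap.sum_apply]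

/-- Euler operator on power series -/
noncomputable def EulP (a : MvPowerSeries σ k) : MvPowerSeries σ k :=
  ∑ i : σ, X i * pderiv k i a

lemma coeff_X_mul_pderiv (i : σ) (a : MvPowerSeries σ k) (m : σ →₀ ℕ) :
    coeff m (X i * pderiv k i a) = (m i : k) * coeff m a := by
  classical
  rw [show (X i : MvPowerSeries σ k) = monomial (Finsupp.single i 1) 1 from rfl,
    coeff_monomial_mul]
  split_ifs with h
  · have h1 : 1 ≤ m i := Finsupp.single_le_iff.1 h
    rw [one_mul, coeff_pderiv, tsub_add_cancel_of_le h]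
    have h2 : (((m - Finsupp.single i 1 : σ →₀ ℕ) i : ℕ) : k) + 1 = (m i : k) := by
      rw [Finsupp.tsub_apply, Finsupp.single_eq_same]
      have : m i - 1 + 1 = m i := Nat.sub_add_cancel h1
      rw [← Nat.cast_add_one, this]
    rw [h2, mul_comm]
  · have h1 : m i = 0 := by
      by_contra hne
      exact h (Finsupp.single_le_iff.2 (Nat.one_le_iff_ne_zero.2 hne))
    rw [h1]; simp

lemma coeff_EulP (a : MvPowerSeries σ k) (m : σ →₀ ℕ) :
    coeff m (EulP a) = ((∑ i, m i : ℕ) : k) * coeff m a := by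
  unfold EulP
  rw [map_sum]
  simp_rw [coeff_X_mul_pderiv]
  rw [← Finset.sum_mul, Nat.cast_sum]

lemma EulP_X (j : σ) : EulP (X j : MvPowerSeries σ k) = X j := by
  unfold EulP
  simp [pderiv_X, Pi.single_apply]

lemma EulP_add (a b : MvPowerSeries σ k) : EulP (a + b) = EulP a + EulP b := by
  unfold EulP
  simp [mul_add, Finset.sum_add_distrib]

/-- `T_q = Euler + q` -/
noncomputable def TP (q : ℕ) (a : MvPowerSeries σ k) : MvPowerSeries σ k :=
  EulP a + (q : MvPowerSeries σ k) * a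

lemma coeff_TP (q : ℕ) (a : MvPowerSeries σ k) (m : σ →₀ ℕ) :
    coeff m (TP q a) = (((∑ i, m i) + q : ℕ) : k) * coeff m a := by
  unfold TP
  rw [map_add, ← nsmul_eq_mul, map_nsmul, coeff_EulP, nsmul_eq_mul, ← add_mul, ← Nat.cast_add]

lemma TP_add (q : ℕ) (a b : MvPowerSeries σ k) : TP q (a + b) = TP q a + TP q b := by
  unfold TP
  rw [EulP_add, mul_add]
  abel

lemma TP_zero (q : ℕ) : TP q (0 : MvPowerSeries σ k) = 0 := by
  ext m
  rw [coeff_TP]
  simp

/-- inverse of `T_q` -/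
noncomputable def SP (q : ℕ) (a : MvPowerSeries σ k) : MvPowerSeries σ k :=
  fun m => ((((∑ i, m i) + q : ℕ) : k))⁻¹ * coeff m a

lemma coeff_SP (q : ℕ) (a : MvPowerSeries σ k) (m : σ →₀ ℕ) :
    coeff m (SP q a) = ((((∑ i, m i) + q : ℕ) : k))⁻¹ * coeff m a := rfl

lemma SP_zero (q : ℕ) : SP q (0 : MvPowerSeries σ k) = 0 := by
  ext m
  rw [coeff_SP]
  simp

lemma TP_SP [CharZero k] {q : ℕ} (hq : 0 < q) (a : MvPowerSeries σ k) : TP q (SP q a) = a := by
  ext m
  rw [coeff_TP, coeff_SP, ← mul_assoc, mul_inv_cancel₀, one_mul]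
  exact Nat.cast_ne_zero.2 (by omega)

lemma TP_inj [CharZero k] {q : ℕ} (hq : 0 < q) (a : MvPowerSeries σ k) (h : TP q a = 0) :
    a = 0 := by
  ext m
  have h1 := congrArg (coeff m) h
  rw [coeff_TP, map_zero] at h1
  rcases mul_eq_zero.1 h1 with h2 | h2
  · exact absurd h2 (Nat.cast_ne_zero.2 (by omega))
  · rw [h2, map_zero]

variable {δ : Derivation k (MvPowerSeries σ k) (σ → MvPowerSeries σ k)}

lemma δ_X (hδ : ∀ (f : MvPowerSeries σ k) (i : σ), δ f i = MvPowerSeries.pderiv k i f) (i : σ) :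
    δ (X i) = Pi.single i 1 := by
  funext j
  rw [hδ, pderiv_X, Pi.single_apply, Pi.single_apply]
  simp [eq_comm]

/-- the wedge of coordinate differentials along a sequence of indices -/
noncomputable def eV (δ : Derivation k (MvPowerSeries σ k) (σ → MvPowerSeries σ k)) {q : ℕ}
    (v : Fin q → σ) : ExteriorAlgebra (MvPowerSeries σ k) (σ → MvPowerSeries σ k) :=
  ExteriorAlgebra.ιMulti (MvPowerSeries σ k) q (fun i => δ (X (v i)))

variable {ξ : (σ → MvPowerSeries σ k) →ₗ[MvPowerSeries σ k] MvPowerSeries σ k}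
  {Eul : MvPowerSeries σ k → MvPowerSeries σ k}
  {D : ExteriorAlgebra (MvPowerSeries σ k) (σ → MvPowerSeries σ k) →+
    ExteriorAlgebra (MvPowerSeries σ k) (σ → MvPowerSeries σ k)}

lemma Lg_eV (G : GD δ ξ Eul D) (hX : ∀ j : σ, Eul (X j) = X j) :
    ∀ (q : ℕ) (v : Fin q → σ), Lg ξ D (eV δ v) =
      (q : ExteriorAlgebra (MvPowerSeries σ k) (σ → MvPowerSeries σ k)) * eV δ v
  | 0, v => by
    rw [eV, ExteriorAlgebra.ιMulti_zero_apply, Lg_one G, Nat.cast_zero, zero_mul]
  | q + 1, v => by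
    have h1 : eV δ v = ExteriorAlgebra.ι (MvPowerSeries σ k) (δ (X (v 0))) *
        eV δ (fun i => v i.succ) := by
      unfold eV
      rw [ExteriorAlgebra.ιMulti_succ_apply]
      rfl
    have hc : ∀ (e η : ExteriorAlgebra (MvPowerSeries σ k) (σ → MvPowerSeries σ k)),
        e * ((q : ExteriorAlgebra (MvPowerSeries σ k) (σ → MvPowerSeries σ k)) * η) =
          (q : ExteriorAlgebra (MvPowerSeries σ k) (σ → MvPowerSeries σ k)) * (e * η) := by
      intro e η
      rw [← mul_assoc, ← Nat.cast_comm, mul_assoc]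
    rw [h1, Lg_ιδ_mul G, hX, Lg_eV G hX q, hc, Nat.cast_succ, add_mul, one_mul, add_comm]

lemma Lg_a_eV (G : GD δ ξ Eul D) (hX : ∀ j : σ, Eul (X j) = X j) (a : MvPowerSeries σ k)
    {q : ℕ} (v : Fin q → σ) :
    Lg ξ D (algebraMap _ _ a * eV δ v) =
      algebraMap (MvPowerSeries σ k) (ExteriorAlgebra (MvPowerSeries σ k) (σ → MvPowerSeries σ k))
        (Eul a + (q : MvPowerSeries σ k) * a) * eV δ v := by
  rw [Lg_algebraMap_mul G, Lg_eV G hX, map_add, map_mul, map_natCast, add_mul]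
  congr 1
  rw [← mul_assoc, Nat.cast_comm]

end PS


open exteriorPower in
/-- The formal Poincaré lemma. The published statement is that for a complete separated linearly
topologized commutative algebra K over a field k of characteristic zero the inclusion of the
separated de Rham complex of K into that of K[[t_1, ..., t_n]] is a quasi-isomorphism; this row is
the case K = k in positive degrees. Concretely: k is a field of characteristic 0, σ is finite, A =
k[[σ]]; the separated differentials are modelled by the free A-module of functions σ → A (the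
coordinate dt_i being the i-th basis vector) with the derivation δ whose components are the formal
partial derivatives, so that δ(A) generates it; d is any family of k-linear maps between consecutive
exterior powers of this module over A satisfying the de Rham rule with d ∘ d = 0. Then for every p ≥
1 the closed p-forms are exact. (Degree zero, that a power series with all partial derivatives zero
is constant, is omitted.) -/
theorem result (k : Type u) [Field k] [CharZero k]
    (σ : Type u) [Finite σ]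
    (δ : Derivation k (MvPowerSeries σ k) (σ → MvPowerSeries σ k))
    (hδ : ∀ (f : MvPowerSeries σ k) (i : σ), δ f i = MvPowerSeries.pderiv k i f)
    (hgen : Submodule.span (MvPowerSeries σ k) (Set.range δ) = ⊤)
    (d : ∀ p : ℕ, ↥(⋀[MvPowerSeries σ k]^p (σ → MvPowerSeries σ k)) →ₗ[k]
      ↥(⋀[MvPowerSeries σ k]^(p + 1) (σ → MvPowerSeries σ k)))
    (hd : DeRham.IsDiff δ d) (p : ℕ) :
    DeRham.cocycles d (p + 1) ≤ DeRham.coboundaries d (p + 1) := by
  haveI : Fintype σ := Fintype.ofFinite σ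
  letI : LinearOrder σ := IsWellOrder.linearOrder WellOrderingRel
  have hXe : ∀ j : σ, EulP (MvPowerSeries.X j : MvPowerSeries σ k) = MvPowerSeries.X j := EulP_X
  have G : GD δ (xiP k σ) EulP (gD d) :=
    { hA := gD_algebraMap_mul hd.1 hgen
      hI := gD_ιδ_mul hd.1 hgen
      hDD := gD_gD hd.2
      h0 := gD_algebraMap hd.1
      hξ := fun a => by
        rw [xiP_apply]
        unfold EulP
        exact Finset.sum_congr rfl fun i _ => by rw [hδ] }
  have hb : ∀ i : σ, Pi.basisFun (MvPowerSeries σ k) σ i = δ (MvPowerSeries.X i) := by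
    intro i; rw [Pi.basisFun_apply, δ_X hδ]
  have key : ∀ q : ℕ, 0 < q →
      (∀ ω : ↥(⋀[MvPowerSeries σ k]^q (σ → MvPowerSeries σ k)),
        ∃ η : ↥(⋀[MvPowerSeries σ k]^q (σ → MvPowerSeries σ k)),
          Lg (xiP k σ) (gD d) (η : ExteriorAlgebra (MvPowerSeries σ k) (σ → MvPowerSeries σ k)) =
            (ω : ExteriorAlgebra (MvPowerSeries σ k) (σ → MvPowerSeries σ k))) ∧
      (∀ ω : ↥(⋀[MvPowerSeries σ k]^q (σ → MvPowerSeries σ k)),
        Lg (xiP k σ) (gD d) (ω : ExteriorAlgebra (MvPowerSeries σ k) (σ → MvPowerSeries σ k)) = 0 →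
          ω = 0) := by
    intro q hq
    obtain ⟨B, hB⟩ : ∃ B : Module.Basis (Set.powersetCard σ q) (MvPowerSeries σ k)
        ↥(⋀[MvPowerSeries σ k]^q (σ → MvPowerSeries σ k)),
        B = (Pi.basisFun (MvPowerSeries σ k) σ).exteriorPower q := ⟨_, rfl⟩
    have hBs : ∀ s : Set.powersetCard σ q,
        ((B s : ↥(⋀[MvPowerSeries σ k]^q (σ → MvPowerSeries σ k))) :
          ExteriorAlgebra (MvPowerSeries σ k) (σ → MvPowerSeries σ k)) =
          eV δ (fun i => (Set.powersetCard.ofFinEmbEquiv.symm s) i) := by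
      intro s
      rw [hB, exteriorPower.basis_apply]
      show ExteriorAlgebra.ιMulti _ q (fun i => Pi.basisFun (MvPowerSeries σ k) σ
        ((Set.powersetCard.ofFinEmbEquiv.symm s) i)) = _
      unfold eV
      congr 1
      funext i
      exact hb _
    have hΦ : ∀ c : Set.powersetCard σ q →₀ MvPowerSeries σ k,
        ((Finsupp.linearCombination (MvPowerSeries σ k) B c :
          ↥(⋀[MvPowerSeries σ k]^q (σ → MvPowerSeries σ k))) :
          ExteriorAlgebra (MvPowerSeries σ k) (σ → MvPowerSeries σ k)) =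
          c.sum (fun s a => algebraMap (MvPowerSeries σ k)
            (ExteriorAlgebra (MvPowerSeries σ k) (σ → MvPowerSeries σ k)) a *
              eV δ (fun i => (Set.powersetCard.ofFinEmbEquiv.symm s) i)) := by
      intro c
      rw [Finsupp.linearCombination_apply]
      unfold Finsupp.sum
      rw [Submodule.coe_sum]
      refine Finset.sum_congr rfl fun s _ => ?_
      rw [Submodule.coe_smul, hBs, Algebra.smul_def]
    have hLΦ : ∀ c : Set.powersetCard σ q →₀ MvPowerSeries σ k,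
        Lg (xiP k σ) (gD d) ((Finsupp.linearCombination (MvPowerSeries σ k) B c :
          ↥(⋀[MvPowerSeries σ k]^q (σ → MvPowerSeries σ k))) :
          ExteriorAlgebra (MvPowerSeries σ k) (σ → MvPowerSeries σ k)) =
          ((Finsupp.linearCombination (MvPowerSeries σ k) B (c.mapRange (TP q) (TP_zero q)) :
            ↥(⋀[MvPowerSeries σ k]^q (σ → MvPowerSeries σ k))) :
            ExteriorAlgebra (MvPowerSeries σ k) (σ → MvPowerSeries σ k)) := by
      intro c
      rw [hΦ, hΦ, Finsupp.sum_mapRange_index (fun s => by rw [map_zero, zero_mul])]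
      unfold Finsupp.sum
      rw [map_sum]
      refine Finset.sum_congr rfl fun s _ => ?_
      exact Lg_a_eV G hXe (c s) _
    refine ⟨fun ω => ?_, fun ω hω => ?_⟩
    · refine ⟨Finsupp.linearCombination (MvPowerSeries σ k) B
        ((B.repr ω).mapRange (SP q) (SP_zero q)), ?_⟩
      rw [hLΦ]
      have : ((B.repr ω).mapRange (SP q) (SP_zero q)).mapRange (TP q) (TP_zero q) = B.repr ω := by
        ext s : 1
        simp only [Finsupp.mapRange_apply]
        exact TP_SP hq _
      rw [this, B.linearCombination_repr]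
    · have h1 := hLΦ (B.repr ω)
      rw [B.linearCombination_repr, hω] at h1
      have h2 : Finsupp.linearCombination (MvPowerSeries σ k) B
          ((B.repr ω).mapRange (TP q) (TP_zero q)) = 0 := Subtype.ext h1.symm
      have h3 : (B.repr ω).mapRange (TP q) (TP_zero q) = 0 := by
        have := B.repr_linearCombination ((B.repr ω).mapRange (TP q) (TP_zero q))
        rw [h2, map_zero] at this
        exact this.symm
      have h4 : B.repr ω = 0 := by
        ext s : 1
        have := DFunLike.congr_fun h3 s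
        rw [Finsupp.mapRange_apply] at this
        exact TP_inj hq _ this
      exact B.repr.map_eq_zero_iff.1 h4
  intro ω hω
  have hω' : d (p + 1) ω = 0 := hω
  obtain ⟨η, hη⟩ := (key (p + 1) (Nat.succ_pos p)).1 ω
  have hDη : gD d (η : ExteriorAlgebra (MvPowerSeries σ k) (σ → MvPowerSeries σ k)) = 0 := by
    have h1 : Lg (xiP k σ) (gD d)
        (gD d (η : ExteriorAlgebra (MvPowerSeries σ k) (σ → MvPowerSeries σ k))) = 0 := by
      rw [Lg_D G, hη, gD_coe, hω']; rfl
    rw [gD_coe] at h1 ⊢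
    have := (key (p + 1 + 1) (Nat.succ_pos _)).2 (d (p + 1) η) h1
    rw [this]; rfl
  have hmem := ((cLg_mem (xiP k σ) (p + 1)
    (η : ExteriorAlgebra (MvPowerSeries σ k) (σ → MvPowerSeries σ k)) η.2).2 p rfl)
  show ω ∈ LinearMap.range (d p)
  refine ⟨⟨cLg (xiP k σ) (η : ExteriorAlgebra (MvPowerSeries σ k) (σ → MvPowerSeries σ k)), hmem⟩,
    ?_⟩
  apply Subtype.ext
  rw [← gD_coe]
  show gD d (cLg (xiP k σ) (η : ExteriorAlgebra (MvPowerSeries σ k) (σ → MvPowerSeries σ k))) = ↑ω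
  rw [← hη, Lg_apply, hDη, map_zero, add_zero]

end Groth.Agent.S18616
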