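import Groth.Statements.S15536
import Mathlib
import Groth.Agent.S18616
import Groth.Agent.S15293
import Groth.Agent.S15294
-- import your own Groth.Agent.* helpers here

set_option autoImplicit false
universe u
open DeRham

namespace Groth.Agent.S15536

set_option linter.unusedSectionVars false
set_option linter.style.haveILetI false
open exteriorPower Polynomial

lemma exists_ev0 (R A : Type u) [CommRing R] [CommRing A] [Algebra R A] :
    ∃ φ : ∀ p : ℕ, ↥(⋀[A[X]]^p (Ω[A[X]⁄R])) →+ ↥(⋀[A]^p (Ω[A⁄R])),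
      (∀ (p : ℕ) (b₀ : A[X]) (b : Fin p → A[X]),
        φ p (DeRham.gen (KaehlerDifferential.D R A[X]) p b₀ b) =
          DeRham.gen (KaehlerDifferential.D R A) p (b₀.eval 0) (fun i => (b i).eval 0)) ∧
      (∀ (d : ∀ p : ℕ, ↥(⋀[A]^p (Ω[A⁄R])) →ₗ[R] ↥(⋀[A]^(p + 1) (Ω[A⁄R])))
        (_ : DeRham.IsDiff (KaehlerDifferential.D R A) d)
        (d' : ∀ p : ℕ, ↥(⋀[A[X]]^p (Ω[A[X]⁄R])) →ₗ[R] ↥(⋀[A[X]]^(p + 1) (Ω[A[X]⁄R])))
        (_ : DeRham.IsDiff (KaehlerDifferential.D R A[X]) d') (p : ℕ)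
        (z : ↥(⋀[A[X]]^p (Ω[A[X]⁄R]))), φ (p + 1) (d' p z) = d p (φ p z)) := by
  letI : Algebra A[X] A := (Polynomial.evalRingHom (0 : A)).toAlgebra
  haveI : IsScalarTower R A[X] A := IsScalarTower.of_algebraMap_eq (fun r => by
    show algebraMap R A r = Polynomial.eval 0 (algebraMap R A[X] r)
    rw [Polynomial.algebraMap_apply, Polynomial.eval_C])
  obtain ⟨φ, hφ⟩ := S15293.result R R A[X] A
  exact ⟨φ, fun p b₀ b => hφ p b₀ b,
    fun d hd d' hd' p z => S15294.result R R A[X] A d' hd' d hd φ hφ p z⟩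

lemma nat_comm_mul {S : Type*} [Ring S] (n : ℕ) (e η : S) :
    e * ((n : S) * η) = (n : S) * (e * η) := by
  rw [← mul_assoc, ← Nat.cast_comm, mul_assoc]

lemma addhom_natmul {S : Type*} [Ring S] (D : S →+ S) (n : ℕ) (η : S) :
    D ((n : S) * η) = (n : S) * D η := by
  rw [← nsmul_eq_mul n η, map_nsmul, nsmul_eq_mul]

lemma eig_sum_zero' {V : Type*} [AddCommGroup V] (L : V →+ V)
    (hT : ∀ (z : ℤ) (η : V), z ≠ 0 → z • η = 0 → η = 0) :
    ∀ (s : Finset ℕ) (y : ℕ → V), (∀ w, L (y w) = (w : ℤ) • y w) → ∑ w ∈ s, y w = 0 →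
      ∀ w ∈ s, y w = 0 := by
  intro s
  induction s using Finset.induction_on with
  | empty => intro y _ _ w hw; simp at hw
  | insert a s ha ih =>
    intro y hy hsum w hw
    rw [Finset.sum_insert ha] at hsum
    have h1 : ∑ w ∈ s, ((w : ℤ) - (a : ℤ)) • y w = 0 := by
      have h2 : L (y a + ∑ w ∈ s, y w) = 0 := by rw [hsum, map_zero]
      rw [map_add, map_sum, hy a] at h2
      have h3 : (a : ℤ) • (y a + ∑ w ∈ s, y w) = 0 := by rw [hsum, smul_zero]
      rw [smul_add, Finset.smul_sum] at h3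
      have h4 : ∑ w ∈ s, L (y w) - ∑ w ∈ s, (a : ℤ) • y w = 0 := by
        have := congrArg₂ (fun u v => u - v) h2 h3
        simpa using this
      rw [← Finset.sum_sub_distrib] at h4
      refine Eq.trans (Finset.sum_congr rfl fun w _ => ?_) h4
      rw [hy w, sub_smul]
    have h5 := ih (fun w => ((w : ℤ) - (a : ℤ)) • y w)
      (fun w => by rw [map_zsmul, hy w, smul_comm]) h1
    have hs : ∀ w ∈ s, y w = 0 := by
      intro w hw
      refine hT _ _ ?_ (h5 w hw)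
      rw [sub_ne_zero]
      intro h'
      have : w = a := by exact_mod_cast h'
      exact ha (this ▸ hw)
    rcases Finset.mem_insert.1 hw with rfl | hw'
    · rw [Finset.sum_eq_zero hs, add_zero] at hsum; exact hsum
    · exact hs w hw'

section Gen
variable {R : Type u} {A M : Type u} [CommRing R] [CommRing A] [Algebra R A]
  [AddCommGroup M] [Module A M] [Module R M] [IsScalarTower R A M]

lemma wedgeL_gen (δ : Derivation R A M) (x : A) (p : ℕ) (b₀ : A) (b : Fin p → A) :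
    S18616.wedgeL (δ x) p (DeRham.gen δ p b₀ b) = DeRham.gen δ (p + 1) b₀ (Fin.cons x b) := by
  have h2 : (fun i => δ ((Fin.cons x b : Fin (p + 1) → A) i)) =
      (Fin.cons (δ x) (fun i => δ (b i)) : Fin (p + 1) → M) := by
    funext i
    refine Fin.cases ?_ (fun j => ?_) i
    · simp
    · simp
  apply Subtype.ext
  rw [S18616.coe_wedgeL, S18616.coe_gen, S18616.coe_gen, h2, S18616.ιMulti_cons', mul_smul_comm]

lemma wedgeL_zero (m : M) (p : ℕ) : S18616.wedgeL m p (0 : ↥(⋀[A]^p M)) = 0 :=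
  Subtype.ext (by simp [S18616.coe_wedgeL])

lemma wedgeL_add (m : M) (p : ℕ) (y z : ↥(⋀[A]^p M)) :
    S18616.wedgeL m p (y + z) = S18616.wedgeL m p y + S18616.wedgeL m p z :=
  Subtype.ext (by simp [S18616.coe_wedgeL, mul_add])

end Gen

section Main
variable {R A : Type u} [CommRing R] [CommRing A] [Algebra R A]

/-- the vertical Euler derivation `X ∂/∂X` -/
noncomputable def θ (R A : Type u) [CommRing R] [CommRing A] [Algebra R A] :
    Derivation R A[X] A[X] :=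
  (Polynomial.X : A[X]) • ((Polynomial.derivative' : Derivation A A[X] A[X]).restrictScalars R)

lemma θ_apply (b : A[X]) : θ R A b = X * derivative b := rfl

lemma θ_monomial (j : ℕ) (a : A) : θ R A (monomial j a) = j • monomial j a := by
  rw [θ_apply, derivative_monomial]
  rcases j with _ | j
  · simp
  · rw [Nat.add_sub_cancel, X_mul_monomial, Polynomial.smul_monomial, nsmul_eq_mul, mul_comm]

lemma GD' (d' : ∀ p : ℕ, ↥(⋀[A[X]]^p (Ω[A[X]⁄R])) →ₗ[R] ↥(⋀[A[X]]^(p + 1) (Ω[A[X]⁄R])))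
    (hd' : DeRham.IsDiff (KaehlerDifferential.D R A[X]) d') :
    S18616.GD (KaehlerDifferential.D R A[X]) (θ R A).liftKaehlerDifferential (⇑(θ R A))
      (S18616.gD d') :=
  { hA := S18616.gD_algebraMap_mul hd'.1 (KaehlerDifferential.span_range_derivation R A[X])
    hI := S18616.gD_ιδ_mul hd'.1 (KaehlerDifferential.span_range_derivation R A[X])
    hDD := S18616.gD_gD hd'.2
    h0 := S18616.gD_algebraMap hd'.1
    hξ := fun a => Derivation.liftKaehlerDifferential_comp_D _ a }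

lemma torsion_free [Algebra ℚ R] (z : ℤ) (η : ExteriorAlgebra A[X] (Ω[A[X]⁄R])) (hz : z ≠ 0)
    (h : z • η = 0) : η = 0 := by
  have hr : algebraMap ℚ R ((z : ℚ)⁻¹) * (z : R) = 1 := by
    rw [← map_intCast (algebraMap ℚ R) z, ← map_mul, inv_mul_cancel₀ (Int.cast_ne_zero.2 hz),
      map_one]
  rw [← one_smul R η, ← hr, mul_smul, Int.cast_smul_eq_zsmul, h, smul_zero]

variable (ψ : ∀ p : ℕ, ↥(⋀[A]^p (Ω[A⁄R])) →+ ↥(⋀[A[X]]^p (Ω[A[X]⁄R])))
  (hψ : DeRham.IsCxMap (KaehlerDifferential.D R A) (KaehlerDifferential.D R A[X])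
    (algebraMap A A[X]) ψ)
  (d' : ∀ p : ℕ, ↥(⋀[A[X]]^p (Ω[A[X]⁄R])) →ₗ[R] ↥(⋀[A[X]]^(p + 1) (Ω[A[X]⁄R])))

include hψ in
lemma ψ_smul (p : ℕ) (a : A) (x : ↥(⋀[A]^p (Ω[A⁄R]))) :
    ψ p (a • x) = (algebraMap A A[X] a) • ψ p x := by
  refine S18616.gen_ind (KaehlerDifferential.D R A)
    (KaehlerDifferential.span_range_derivation R A) p
    (fun x => ψ p (a • x) = (algebraMap A A[X] a) • ψ p x) ?_ ?_ ?_ x
  · simp
  · intro x y hx hy
    rw [smul_add, map_add, map_add, hx, hy, smul_add]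
  · intro b₀ b
    have h1 : a • DeRham.gen (KaehlerDifferential.D R A) p b₀ b =
        DeRham.gen (KaehlerDifferential.D R A) p (a * b₀) b := by
      unfold DeRham.gen; rw [smul_smul]
    rw [h1, hψ, hψ, map_mul]
    unfold DeRham.gen
    rw [smul_smul]

include hψ in
lemma ψ_wedge (p : ℕ) (a : A) (x : ↥(⋀[A]^p (Ω[A⁄R]))) :
    ψ (p + 1) (S18616.wedgeL (KaehlerDifferential.D R A a) p x) =
      S18616.wedgeL (KaehlerDifferential.D R A[X] (algebraMap A A[X] a)) p (ψ p x) := by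
  refine S18616.gen_ind (KaehlerDifferential.D R A)
    (KaehlerDifferential.span_range_derivation R A) p
    (fun x => ψ (p + 1) (S18616.wedgeL (KaehlerDifferential.D R A a) p x) =
      S18616.wedgeL (KaehlerDifferential.D R A[X] (algebraMap A A[X] a)) p (ψ p x)) ?_ ?_ ?_ x
  · rw [wedgeL_zero, map_zero, map_zero, wedgeL_zero]
  · intro x y hx hy
    rw [wedgeL_add, map_add, map_add, hx, hy, wedgeL_add]
  · intro b₀ b
    rw [wedgeL_gen, hψ, hψ, wedgeL_gen]
    congr 1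
    funext i
    refine Fin.cases ?_ (fun j => ?_) i
    · simp
    · simp

/-- weight spaces (as additive subgroups) -/
noncomputable def Zg (p w : ℕ) : AddSubgroup (ExteriorAlgebra A[X] (Ω[A[X]⁄R])) where
  carrier := {η | η ∈ ⋀[A[X]]^p (Ω[A[X]⁄R]) ∧
    S18616.Lg (θ R A).liftKaehlerDifferential (S18616.gD d') η =
      (w : ExteriorAlgebra A[X] (Ω[A[X]⁄R])) * η ∧
    (w = 0 → ∃ x, η = ((ψ p x : ↥(⋀[A[X]]^p (Ω[A[X]⁄R]))) :
      ExteriorAlgebra A[X] (Ω[A[X]⁄R])))}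
  add_mem' := by
    rintro a b ⟨ha1, ha2, ha3⟩ ⟨hb1, hb2, hb3⟩
    refine ⟨add_mem ha1 hb1, by rw [map_add, ha2, hb2, mul_add], fun h => ?_⟩
    obtain ⟨x, rfl⟩ := ha3 h
    obtain ⟨y, rfl⟩ := hb3 h
    exact ⟨x + y, by rw [map_add, Submodule.coe_add]⟩
  zero_mem' := ⟨zero_mem _, by rw [map_zero, mul_zero],
    fun _ => ⟨0, by rw [map_zero, Submodule.coe_zero]⟩⟩
  neg_mem' := by
    rintro a ⟨ha1, ha2, ha3⟩
    refine ⟨neg_mem ha1, by rw [map_neg, ha2, mul_neg], fun h => ?_⟩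
    obtain ⟨x, rfl⟩ := ha3 h
    exact ⟨-x, by rw [map_neg, Submodule.coe_neg]⟩

/-- weight spaces as `ℤ`-submodules -/
noncomputable def Z (p w : ℕ) : Submodule ℤ (ExteriorAlgebra A[X] (Ω[A[X]⁄R])) :=
  AddSubgroup.toIntSubmodule (Zg ψ d' p w)

lemma mem_Z {p w : ℕ} {η : ExteriorAlgebra A[X] (Ω[A[X]⁄R])} :
    η ∈ Z ψ d' p w ↔ (η ∈ ⋀[A[X]]^p (Ω[A[X]⁄R]) ∧
    S18616.Lg (θ R A).liftKaehlerDifferential (S18616.gD d') η =
      (w : ExteriorAlgebra A[X] (Ω[A[X]⁄R])) * η ∧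
    (w = 0 → ∃ x, η = ((ψ p x : ↥(⋀[A[X]]^p (Ω[A[X]⁄R]))) :
      ExteriorAlgebra A[X] (Ω[A[X]⁄R])))) := Iff.rfl

variable {ψ d'}
variable (G : S18616.GD (KaehlerDifferential.D R A[X]) (θ R A).liftKaehlerDifferential (⇑(θ R A))
      (S18616.gD d'))

include hψ G in
lemma Z_mono_mul (j : ℕ) (a : A) {p w : ℕ} {y : ExteriorAlgebra A[X] (Ω[A[X]⁄R])}
    (hy : y ∈ Z ψ d' p w) :
    algebraMap A[X] (ExteriorAlgebra A[X] (Ω[A[X]⁄R])) (monomial j a) * y ∈ Z ψ d' p (w + j) := by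
  obtain ⟨h1, h2, h3⟩ := (mem_Z ψ d').1 hy
  refine (mem_Z ψ d').2 ⟨?_, ?_, ?_⟩
  · rw [← Algebra.smul_def]; exact Submodule.smul_mem _ _ h1
  · rw [S18616.Lg_algebraMap_mul G, h2, θ_monomial, map_nsmul, nsmul_eq_mul, mul_assoc,
      nat_comm_mul, ← add_mul, Nat.cast_add, add_comm]
  · intro h
    have hw : w = 0 := by omega
    have hj : j = 0 := by omega
    subst hw hj
    obtain ⟨x, rfl⟩ := h3 rfl
    refine ⟨a • x, ?_⟩
    rw [ψ_smul ψ hψ, Submodule.coe_smul, Algebra.smul_def, monomial_zero_left, C_eq_algebraMap]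

include hψ G in
lemma Z_mono_wedge (j : ℕ) (a : A) {p w : ℕ} {y : ExteriorAlgebra A[X] (Ω[A[X]⁄R])}
    (hy : y ∈ Z ψ d' p w) :
    ExteriorAlgebra.ι A[X] (KaehlerDifferential.D R A[X] (monomial j a)) * y ∈
      Z ψ d' (p + 1) (w + j) := by
  obtain ⟨h1, h2, h3⟩ := (mem_Z ψ d').1 hy
  refine (mem_Z ψ d').2 ⟨?_, ?_, ?_⟩
  · show _ ∈ LinearMap.range (ExteriorAlgebra.ι A[X] :
      (Ω[A[X]⁄R]) →ₗ[A[X]] ExteriorAlgebra A[X] (Ω[A[X]⁄R])) ^ (p + 1)
    rw [pow_succ']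
    exact Submodule.mul_mem_mul ⟨_, rfl⟩ h1
  · rw [S18616.Lg_ιδ_mul G, h2, θ_monomial, map_nsmul, map_nsmul, nsmul_eq_mul, mul_assoc,
      nat_comm_mul, ← add_mul, Nat.cast_add, add_comm]
  · intro h
    have hw : w = 0 := by omega
    have hj : j = 0 := by omega
    subst hw hj
    obtain ⟨x, rfl⟩ := h3 rfl
    refine ⟨S18616.wedgeL (KaehlerDifferential.D R A a) p x, ?_⟩
    rw [ψ_wedge ψ hψ, S18616.coe_wedgeL, monomial_zero_left, C_eq_algebraMap]

include hψ G in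
lemma Tot_mul (b : A[X]) {p : ℕ} {y : ExteriorAlgebra A[X] (Ω[A[X]⁄R])}
    (hy : y ∈ ⨆ w, Z ψ d' p w) :
    algebraMap A[X] (ExteriorAlgebra A[X] (Ω[A[X]⁄R])) b * y ∈ ⨆ w, Z ψ d' p w := by
  induction b using Polynomial.induction_on' with
  | add q r hq hr => rw [map_add, add_mul]; exact add_mem hq hr
  | monomial j a =>
    refine Submodule.iSup_induction (fun w => Z ψ d' p w)
      (motive := fun y => algebraMap A[X] (ExteriorAlgebra A[X] (Ω[A[X]⁄R])) (monomial j a) * y ∈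
        ⨆ w, Z ψ d' p w) hy ?_ ?_ ?_
    · intro w y hy
      exact Submodule.mem_iSup_of_mem (w + j) (Z_mono_mul hψ G j a hy)
    · rw [mul_zero]; exact zero_mem _
    · intro y z hy hz; rw [mul_add]; exact add_mem hy hz

include hψ G in
lemma Tot_wedge (b : A[X]) {p : ℕ} {y : ExteriorAlgebra A[X] (Ω[A[X]⁄R])}
    (hy : y ∈ ⨆ w, Z ψ d' p w) :
    ExteriorAlgebra.ι A[X] (KaehlerDifferential.D R A[X] b) * y ∈ ⨆ w, Z ψ d' (p + 1) w := by
  induction b using Polynomial.induction_on' with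
  | add q r hq hr => rw [map_add, map_add, add_mul]; exact add_mem hq hr
  | monomial j a =>
    refine Submodule.iSup_induction (fun w => Z ψ d' p w)
      (motive := fun y => ExteriorAlgebra.ι A[X] (KaehlerDifferential.D R A[X] (monomial j a)) * y ∈
        ⨆ w, Z ψ d' (p + 1) w) hy ?_ ?_ ?_
    · intro w y hy
      exact Submodule.mem_iSup_of_mem (w + j) (Z_mono_wedge hψ G j a hy)
    · rw [mul_zero]; exact zero_mem _
    · intro y z hy hz; rw [mul_add]; exact add_mem hy hz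

include hψ G in
lemma mem_Tot : ∀ (p : ℕ) (x : ExteriorAlgebra A[X] (Ω[A[X]⁄R])),
    x ∈ ⋀[A[X]]^p (Ω[A[X]⁄R]) → x ∈ ⨆ w, Z ψ d' p w := by
  intro p x hx
  induction hx using Submodule.pow_induction_on_left' with
  | algebraMap b =>
    have h1 : (1 : ExteriorAlgebra A[X] (Ω[A[X]⁄R])) ∈ ⨆ w, Z ψ d' 0 w := by
      refine Submodule.mem_iSup_of_mem 0 ((mem_Z ψ d').2 ⟨?_, ?_, fun _ =>
        ⟨DeRham.gen (KaehlerDifferential.D R A) 0 1 Fin.elim0, ?_⟩⟩)
      · show _ ∈ LinearMap.range (ExteriorAlgebra.ι A[X] :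
          (Ω[A[X]⁄R]) →ₗ[A[X]] ExteriorAlgebra A[X] (Ω[A[X]⁄R])) ^ 0
        rw [pow_zero]
        have := Submodule.algebraMap_mem (R := A[X]) (A := ExteriorAlgebra A[X] (Ω[A[X]⁄R])) 1
        rwa [map_one] at this
      · rw [S18616.Lg_one G, Nat.cast_zero, zero_mul]
      · rw [hψ, S18616.coe_gen, ExteriorAlgebra.ιMulti_zero_apply, map_one, one_smul]
    have := Tot_mul hψ G b h1
    rwa [mul_one] at this
  | add x y i hx hy ihx ihy => exact add_mem ihx ihy
  | mem_mul m hm i x hx ih =>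
    obtain ⟨ω, rfl⟩ := hm
    have hω : ω ∈ Submodule.span A[X] (Set.range (KaehlerDifferential.D R A[X])) := by
      rw [KaehlerDifferential.span_range_derivation]; trivial
    induction hω using Submodule.span_induction with
    | mem v hv =>
      obtain ⟨b, rfl⟩ := hv
      exact Tot_wedge hψ G b ih
    | zero => rw [map_zero, zero_mul]; exact zero_mem _
    | add u v _ _ hu hv => rw [map_add, add_mul]; exact add_mem hu hv
    | smul a u _ hu =>
      rw [map_smul, Algebra.smul_def, mul_assoc]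
      exact Tot_mul hψ G a hu

end Main


open exteriorPower Polynomial in
/-- For a commutative ℚ-algebra R, an R-algebra A, de Rham differentials d on ⋀^• Ω_{A/R} and d' on ⋀^•
Ω_{A[t]/R}, and the map of de Rham complexes ψ induced by the inclusion A → A[t] (pinned by its
values on the elements b₀ db₁ ∧ … ∧ db_p and commuting with d, d'), the map ψ is a
quasi-isomorphism: in every degree i, each d'-closed form on A[t] is the sum of ψ_i of a d-closed
form on A and a d'-exact form, and a d-closed form on A whose image under ψ_i is d'-exact is d-exact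
(in degree 0, exact means zero). -/
theorem result (R A : Type u) [CommRing R]
    [CommRing A] [Algebra R A] [Algebra ℚ R]
    (d : ∀ p : ℕ, ↥(⋀[A]^p (Ω[A⁄R])) →ₗ[R] ↥(⋀[A]^(p + 1) (Ω[A⁄R])))
    (hd : DeRham.IsDiff (KaehlerDifferential.D R A) d)
    (d' : ∀ p : ℕ, ↥(⋀[A[X]]^p (Ω[A[X]⁄R])) →ₗ[R] ↥(⋀[A[X]]^(p + 1) (Ω[A[X]⁄R])))
    (hd' : DeRham.IsDiff (KaehlerDifferential.D R A[X]) d')
    (ψ : ∀ p : ℕ, ↥(⋀[A]^p (Ω[A⁄R])) →+ ↥(⋀[A[X]]^p (Ω[A[X]⁄R])))
    (hψ : DeRham.IsCxMap (KaehlerDifferential.D R A) (KaehlerDifferential.D R A[X]) (algebraMap A A[X]) ψ)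
    (hcomm : ∀ (p : ℕ) (x : ↥(⋀[A]^p (Ω[A⁄R]))), ψ (p + 1) (d p x) = d' p (ψ p x)) (i : ℕ) :
    (∀ y ∈ DeRham.cocycles d' i, ∃ x ∈ DeRham.cocycles d i, y - ψ i x ∈ DeRham.coboundaries d' i) ∧
      (∀ x ∈ DeRham.cocycles d i, ψ i x ∈ DeRham.coboundaries d' i → x ∈ DeRham.coboundaries d i) := by
  obtain ⟨φ, hφ, hφd⟩ := exists_ev0 R A
  have hφψ : ∀ (p : ℕ) (x : ↥(⋀[A]^p (Ω[A⁄R]))), φ p (ψ p x) = x := by
    intro p x
    refine S18616.gen_ind (KaehlerDifferential.D R A)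
      (KaehlerDifferential.span_range_derivation R A) p (fun x => φ p (ψ p x) = x) ?_ ?_ ?_ x
    · simp
    · intro x y hx hy; rw [map_add, map_add, hx, hy]
    · intro b₀ b
      rw [hψ, hφ]
      simp [← Polynomial.C_eq_algebraMap]
  refine ⟨?_, ?_⟩
  · intro y hy
    have hy' : d' i y = 0 := hy
    have G := GD' d' hd'
    have hT := torsion_free (R := R) (A := A)
    have hmem := mem_Tot hψ G i (y : ExteriorAlgebra A[X] (Ω[A[X]⁄R])) y.2
    obtain ⟨f, hf, hsum⟩ := (Submodule.mem_iSup_iff_exists_finsupp _ _).1 hmem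
    have hsum' : ∑ w ∈ f.support, f w = (y : ExteriorAlgebra A[X] (Ω[A[X]⁄R])) := hsum
    have hfZ := fun w => (mem_Z ψ d').1 (hf w)
    have hD : ∀ w ∈ f.support, S18616.gD d' (f w) = 0 := by
      refine eig_sum_zero' (S18616.Lg (θ R A).liftKaehlerDifferential (S18616.gD d')) hT
        f.support (fun w => S18616.gD d' (f w)) (fun w => ?_) ?_
      · rw [S18616.Lg_D G, (hfZ w).2.1, addhom_natmul, zsmul_eq_mul, Int.cast_natCast]
      · rw [← map_sum, hsum', S18616.gD_coe, hy']; rfl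
    obtain ⟨x₀, hx₀⟩ := (hfZ 0).2.2 rfl
    have hD0 : S18616.gD d' (f 0) = 0 := by
      by_cases h0 : 0 ∈ f.support
      · exact hD 0 h0
      · rw [Finsupp.notMem_support_iff.1 h0, map_zero]
    have hx₀c : d i x₀ = 0 := by
      have h1 : ψ (i + 1) (d i x₀) = 0 := by
        apply Subtype.ext
        rw [hcomm, ← S18616.gD_coe, ← hx₀, hD0]; rfl
      have := hφψ (i + 1) (d i x₀)
      rw [h1, map_zero] at this
      exact this.symm
    refine ⟨x₀, hx₀c, ?_⟩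
    rcases i with _ | i'
    · show y - ψ 0 x₀ ∈ (⊥ : Submodule R _)
      rw [Submodule.mem_bot, sub_eq_zero]
      apply Subtype.ext
      rw [← hx₀, ← hsum']
      refine Finset.sum_eq_single 0 (fun w hw hw0 => ?_)
        (fun h0 => Finsupp.notMem_support_iff.1 h0)
      have h1 := (hfZ w).2.1
      rw [S18616.Lg_apply, hD w hw, map_zero, add_zero,
        ((S18616.cLg_mem _ 0 (f w) (hfZ w).1).1 rfl), map_zero] at h1
      refine hT (w : ℤ) (f w) (by exact_mod_cast hw0) ?_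
      rw [zsmul_eq_mul, Int.cast_natCast, ← h1]
    · show y - ψ (i' + 1) x₀ ∈ LinearMap.range (d' i')
      obtain ⟨g, hg⟩ : ∃ g : ℕ → ↥(⋀[A[X]]^i' (Ω[A[X]⁄R])), ∀ w,
          ((g w : ↥(⋀[A[X]]^i' (Ω[A[X]⁄R]))) : ExteriorAlgebra A[X] (Ω[A[X]⁄R])) =
            S18616.cLg (θ R A).liftKaehlerDifferential (f w) :=
        ⟨fun w => ⟨S18616.cLg (θ R A).liftKaehlerDifferential (f w),
          ((S18616.cLg_mem _ (i' + 1) (f w) (hfZ w).1).2 i' rfl)⟩, fun w => rfl⟩
      refine ⟨∑ w ∈ f.support.erase 0, (algebraMap ℚ R ((w : ℚ)⁻¹)) • g w, ?_⟩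
      apply Subtype.ext
      rw [map_sum, Submodule.coe_sum, Submodule.coe_sub, ← hx₀, ← hsum']
      have hterm : ∀ w ∈ f.support.erase 0,
          ((d' i' ((algebraMap ℚ R ((w : ℚ)⁻¹)) • g w) : ↥(⋀[A[X]]^(i' + 1) (Ω[A[X]⁄R]))) :
            ExteriorAlgebra A[X] (Ω[A[X]⁄R])) = f w := by
        intro w hw
        obtain ⟨hw0, hws⟩ := Finset.mem_erase.1 hw
        rw [map_smul, Submodule.coe_smul_of_tower, ← S18616.gD_coe, hg]
        have h1 := (hfZ w).2.1
        rw [S18616.Lg_apply, hD w hws, map_zero, add_zero] at h1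
        rw [h1, ← nsmul_eq_mul, ← Nat.cast_smul_eq_nsmul R, ← mul_smul,
          ← map_natCast (algebraMap ℚ R) w, ← map_mul,
          inv_mul_cancel₀ (Nat.cast_ne_zero.2 hw0), map_one, one_smul]
      rw [Finset.sum_congr rfl hterm]
      by_cases h0 : 0 ∈ f.support
      · rw [← Finset.add_sum_erase _ _ h0, add_sub_cancel_left]
      · rw [Finset.erase_eq_of_notMem h0, Finsupp.notMem_support_iff.1 h0, sub_zero]
  · intro x hx hx2
    rcases i with _ | i'
    · have h0 : ψ 0 x = 0 := (Submodule.mem_bot R).1 hx2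
      have := hφψ 0 x
      rw [h0, map_zero] at this
      show x ∈ (⊥ : Submodule R _)
      rw [Submodule.mem_bot]; exact this.symm
    · obtain ⟨z, hz⟩ := hx2
      show x ∈ LinearMap.range (d i')
      refine ⟨φ i' z, ?_⟩
      rw [← hφd d hd d' hd' i' z, hz, hφψ]

end Groth.Agent.S15536
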