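import Groth.Statements.S15546
import Mathlib


set_option autoImplicit false
open scoped TensorProduct
universe u
open Unram

namespace Groth.Agent.S15546

/-- Let E be a finite extension of a field k which is not separable over k, and K an algebraic closure
of k. Then E ⊗_k K has a nonzero nilpotent element. -/
theorem result (k E K : Type u) [Field k] [Field E]
    [Algebra k E] [FiniteDimensional k E] [Field K] [Algebra k K] [IsAlgClosure k K]
    (h : ¬ Algebra.IsSeparable k E) : ∃ x : E ⊗[k] K, x ≠ 0 ∧ IsNilpotent x := by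

  classical
  open Polynomial in
  have h' : ∃ a : E, ¬ (minpoly k a).Separable := by
    by_contra hall
    push Not at hall
    exact h ⟨fun x => hall x⟩
  obtain ⟨a, ha⟩ := h'
  have hint : IsIntegral k a := Algebra.IsIntegral.isIntegral a
  have hf0 : minpoly k a ≠ 0 := minpoly.ne_zero hint
  have hfK0 : (minpoly k a).map (algebraMap k K) ≠ 0 := Polynomial.map_ne_zero hf0
  have hnsep : ¬ ((minpoly k a).map (algebraMap k K)).Separable := by
    rwa [Polynomial.separable_map]
  have : IsAlgClosed K := IsAlgClosure.isAlgClosed k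
  have hnsq : ¬ Squarefree ((minpoly k a).map (algebraMap k K)) :=
    fun hsq => hnsep (PerfectField.separable_iff_squarefree.2 hsq)
  rw [Squarefree] at hnsq
  push Not at hnsq
  obtain ⟨g, ⟨hh, hfg⟩, hgu⟩ := hnsq
  -- work in K ⊗ E
  have hθ : Polynomial.aeval ((1 : K) ⊗ₜ[k] a) ((minpoly k a).map (algebraMap k K)) = 0 := by
    rw [Polynomial.aeval_map_algebraMap]
    have : ((1 : K) ⊗ₜ[k] a) = (Algebra.TensorProduct.includeRight : E →ₐ[k] K ⊗[k] E) a := rfl
    rw [this, Polynomial.aeval_algHom_apply, minpoly.aeval, map_zero]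
  have hgh0 : g * hh ≠ 0 := by
    intro h0
    apply hfK0
    rw [hfg, mul_assoc, h0, mul_zero]
  have hdeg : (g * hh).natDegree < (minpoly k a).natDegree := by
    have hg0 : g ≠ 0 := fun h0 => hgh0 (by rw [h0, zero_mul])
    have hgd : 0 < g.natDegree := by
      rw [Nat.pos_iff_ne_zero]
      intro hd
      apply hgu
      rw [Polynomial.isUnit_iff_degree_eq_zero]
      rw [Polynomial.degree_eq_natDegree hg0, hd]; rfl
    have h1 : ((minpoly k a).map (algebraMap k K)).natDegree = g.natDegree + (g * hh).natDegree := by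
      rw [hfg, mul_assoc, Polynomial.natDegree_mul hg0 hgh0]
    rw [Polynomial.natDegree_map] at h1
    omega
  have hy0 : Polynomial.aeval ((1 : K) ⊗ₜ[k] a) (g * hh) ≠ 0 := by
    intro hy
    apply hgh0
    have hli := Module.Flat.linearIndependent_one_tmul (S := K) (linearIndependent_pow (K := k) a)
    rw [Fintype.linearIndependent_iff] at hli
    have hsum : ∑ i : Fin (minpoly k a).natDegree,
        (g * hh).coeff (i : ℕ) • ((1 : K) ⊗ₜ[k] (a ^ (i : ℕ))) = 0 := by
      rw [← hy]
      conv_rhs => rw [Polynomial.as_sum_range' (g * hh) _ hdeg, map_sum]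
      rw [Finset.sum_range]
      refine Finset.sum_congr rfl (fun i _ => ?_)
      rw [Polynomial.aeval_monomial, Algebra.TensorProduct.tmul_pow, one_pow, Algebra.smul_def]
    have hcoeff := hli _ hsum
    ext i
    rw [Polynomial.coeff_zero]
    by_cases hi : i < (minpoly k a).natDegree
    · exact hcoeff ⟨i, hi⟩
    · exact Polynomial.coeff_eq_zero_of_natDegree_lt (by omega)
  have hy2 : Polynomial.aeval ((1 : K) ⊗ₜ[k] a) (g * hh) *
      Polynomial.aeval ((1 : K) ⊗ₜ[k] a) (g * hh) = 0 := by
    rw [← map_mul]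
    have : g * hh * (g * hh) = (minpoly k a).map (algebraMap k K) * hh := by rw [hfg]; ring
    rw [this, map_mul, hθ, zero_mul]
  refine ⟨(Algebra.TensorProduct.comm k K E) (Polynomial.aeval ((1 : K) ⊗ₜ[k] a) (g * hh)), ?_, ?_⟩
  · intro h0
    exact hy0 ((Algebra.TensorProduct.comm k K E).injective (by rw [h0, map_zero]))
  · refine ⟨2, ?_⟩
    rw [pow_two, ← map_mul, hy2, map_zero]

end Groth.Agent.S15546
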