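import Groth.Statements.S15548
import Groth.Agent.H82.TorNat

set_option autoImplicit false
universe u
open CategoryTheory
open CAlg

namespace Groth.Agent.S15548

/-- Let R be a Noetherian commutative ring, I an ideal of R and M a finitely generated R-module. Then
for every natural number n there is m ≥ n such that the map Tor_1^R(M, R/I^m) → Tor_1^R(M, R/I^n)
induced by the projection R/I^m → R/I^n is the zero map. Here Tor_1^R(M, -) is the first left
derived functor of M ⊗_R - (derived in the second variable). -/
theorem result (R : Type u) [CommRing R] [IsNoetherianRing R] (I : Ideal R)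
    (M : Type u) [AddCommGroup M] [Module R M] [Module.Finite R M] (n : ℕ) :
    ∃ m : ℕ, n ≤ m ∧ ∀ h : I ^ m ≤ I ^ n,
      ((CategoryTheory.Tor (ModuleCat.{u} R) 1).obj (ModuleCat.of R M)).map
        (ModuleCat.ofHom (Submodule.factor h)) = 0 := by
  obtain ⟨m, hnm, H⟩ := Groth.Agent.H82.TorNat.exists_pow_kernel_dies I M n
  refine ⟨m, hnm, fun h => ?_⟩
  have hexm := LinearMap.exact_subtype_mkQ (I ^ m : Submodule R R)
  have hexn := LinearMap.exact_subtype_mkQ (I ^ n : Submodule R R)
  have hSm := Groth.Agent.H82.TorFlat.shortExact_of (A := R) _ _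
    (Submodule.injective_subtype (I ^ m : Submodule R R)) (Submodule.mkQ_surjective _) hexm
  have hSn := Groth.Agent.H82.TorFlat.shortExact_of (A := R) _ _
    (Submodule.injective_subtype (I ^ n : Submodule R R)) (Submodule.mkQ_surjective _) hexn
  let φ : ModuleCat.shortComplexOfCompEqZero (Submodule.subtype (I ^ m : Submodule R R))
        (Submodule.mkQ (I ^ m : Submodule R R)) hexm.linearMap_comp_eq_zero ⟶
      ModuleCat.shortComplexOfCompEqZero (Submodule.subtype (I ^ n : Submodule R R))
        (Submodule.mkQ (I ^ n : Submodule R R)) hexn.linearMap_comp_eq_zero :=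
    { τ₁ := ModuleCat.ofHom (Submodule.inclusion h)
      τ₂ := 𝟙 _
      τ₃ := ModuleCat.ofHom (Submodule.factor h)
      comm₁₂ := ModuleCat.hom_ext (LinearMap.ext fun x => rfl)
      comm₂₃ := ModuleCat.hom_ext (LinearMap.ext fun x => rfl) }
  haveI : Projective (ModuleCat.of R R) :=
    (IsProjective.iff_projective (R := R) _).1 inferInstance
  have hproj : Limits.IsZero (((Tor (ModuleCat.{u} R) 1).obj (ModuleCat.of R M)).obj
      (ModuleCat.of R R)) :=
    Groth.Agent.H82.TorLib.vanish_tor (ModuleCat.of R M) 0 (ModuleCat.of R R) inferInstance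
  exact Groth.Agent.H82.TorNat.tor_map_zero_of_whisker (ModuleCat.of R M) hSm hSn φ hproj
    (fun z hz => H h z hz)

end Groth.Agent.S15548
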