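import Groth.Statements.S15549
import Mathlib

set_option autoImplicit false
universe u
open CategoryTheory AlgebraicGeometry
open LocCoh

namespace Groth.Agent.S15549

section
variable {R σ : Type u} [CommRing R] [SetLike σ R] [AddSubgroupClass σ R] (𝒜 : ℕ → σ) [GradedRing 𝒜]
  {M τ : Type u} [AddCommGroup M] [Module R M] [SetLike τ M] [AddSubgroupClass τ M] (ℳ : ℕ → τ)
  [SetLike.GradedSMul 𝒜 ℳ] [DirectSum.Decomposition ℳ]

theorem proj_smul_eq_zero (i : ℕ) (m : ℳ i) (a : R) (ha : a • (m : M) = 0) (j : ℕ) :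
    (DirectSum.decompose 𝒜 a j : R) • (m : M) = 0 := by
  classical
  obtain ⟨π, hπ⟩ : ∃ π : M →+ M, ∀ x, π x = (DirectSum.decompose ℳ x (j + i) : M) :=
    ⟨(AddSubgroupClass.subtype (ℳ (j + i))).comp
      ((DFinsupp.evalAddMonoidHom (j + i)).comp (DirectSum.decomposeAddEquiv ℳ).toAddMonoidHom),
      fun x => rfl⟩
  have hsum : ∑ k ∈ (DirectSum.decompose 𝒜 a).support,
      (DirectSum.decompose 𝒜 a k : R) • (m : M) = 0 := by
    rw [← Finset.sum_smul, DirectSum.sum_support_decompose, ha]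
  have h2 := congrArg π hsum
  rw [map_sum, map_zero] at h2
  have hk : ∀ k, π ((DirectSum.decompose 𝒜 a k : R) • (m : M)) =
      if k = j then (DirectSum.decompose 𝒜 a j : R) • (m : M) else 0 := by
    intro k
    have hmem : (DirectSum.decompose 𝒜 a k : R) • (m : M) ∈ ℳ (k + i) :=
      SetLike.GradedSMul.smul_mem (DirectSum.decompose 𝒜 a k).2 m.2
    rw [hπ]
    split_ifs with hkj
    · subst hkj; exact DirectSum.decompose_of_mem_same ℳ hmem
    · exact DirectSum.decompose_of_mem_ne ℳ hmem (by omega)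
  simp only [hk] at h2
  rw [Finset.sum_ite_eq'] at h2
  split_ifs at h2 with hj
  · exact h2
  · have : DirectSum.decompose 𝒜 a j = 0 := DFinsupp.notMem_support_iff.mp hj
    rw [this]; simp

theorem alpha_eq_zero_iff (i : ℕ) (m : ℳ i) :
    GrMod.alpha 𝒜 ℳ i m = 0 ↔
      ∀ x : ProjectiveSpectrum 𝒜, ∃ s : R, s ∉ x.asHomogeneousIdeal ∧ s • (m : M) = 0 := by
  constructor
  · intro h x
    have h1 : GrMod.globalOf 𝒜 ℳ m = 0 := h
    have h2 : ((((GrMod.globalOf 𝒜 ℳ m).1 ⟨x, trivial⟩ : GrMod.tildeAt 𝒜 ℳ i x)) :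
        GrMod.LocMod 𝒜 (M := M) x) = 0 := by
      rw [h1]; rfl
    rw [GrMod.globalOf_apply_coe, ← LocalizedModule.zero_mk (1 : x.asHomogeneousIdeal.toIdeal.primeCompl),
      LocalizedModule.mk_eq] at h2
    obtain ⟨u, hu⟩ := h2
    refine ⟨u, u.2, ?_⟩
    have hu' : u • (m : M) = 0 := by simpa using hu
    rw [Submonoid.smul_def] at hu'
    exact hu'
  · intro h
    show GrMod.globalOf 𝒜 ℳ m = 0
    refine Subtype.ext (funext fun x => Subtype.ext ?_)
    change LocalizedModule.mk (m : M) 1 = (0 : GrMod.LocMod 𝒜 (M := M) x.1)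
    obtain ⟨s, hs, hsm⟩ := h x.1
    rw [← LocalizedModule.zero_mk (1 : x.1.asHomogeneousIdeal.toIdeal.primeCompl),
      LocalizedModule.mk_eq]
    exact ⟨⟨s, hs⟩, by simp [Submonoid.smul_def, hsm]⟩

end

/-- Let R be a Noetherian commutative ring, positively graded by additive subgroups R_d, with irrelevant
ideal R_+ and X = Proj R, and let M be a graded R-module which is the direct sum of its pieces M_i,
i ≥ 0 (non-negatively graded here). For every i and every m ∈ M_i, the global section of M(i)~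
defined by m (the value m/1 at every point) is zero if and only if some power of R_+ annihilates m.
Equivalently, degree by degree, the kernel of the canonical map from M to the direct sum over all n
of Γ(X, M(n)~) is the R_+-power-torsion submodule H^0_{R_+}(M). -/
theorem result {R σ : Type u} [CommRing R] [IsNoetherianRing R] [SetLike σ R] [AddSubgroupClass σ R]
    (𝒜 : ℕ → σ) [GradedRing 𝒜] {M τ : Type u} [AddCommGroup M] [Module R M] [SetLike τ M] [AddSubgroupClass τ M]
    (ℳ : ℕ → τ) [SetLike.GradedSMul 𝒜 ℳ] [DirectSum.Decomposition ℳ]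
    (i : ℕ) (m : ℳ i) :
    GrMod.alpha 𝒜 ℳ i m = 0 ↔
      ∃ k : ℕ, ∀ r : R, r ∈ (HomogeneousIdeal.irrelevant 𝒜).toIdeal ^ k → r • (m : M) = 0 := by

  rw [alpha_eq_zero_iff]
  obtain ⟨I, hI⟩ : ∃ I : Ideal R, ∀ a, a ∈ I ↔ a • (m : M) = 0 :=
    ⟨LinearMap.ker (LinearMap.toSpanSingleton R M (m : M)), fun a => by
      rw [LinearMap.mem_ker, LinearMap.toSpanSingleton_apply]⟩
  have hIhom : Ideal.IsHomogeneous 𝒜 I := by
    intro j a ha
    rw [hI] at ha ⊢
    exact proj_smul_eq_zero 𝒜 ℳ i m a ha j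
  constructor
  · intro h
    have hle : (HomogeneousIdeal.irrelevant 𝒜).toIdeal ≤ I.radical := by
      rw [hIhom.radical_eq]
      refine le_sInf ?_
      rintro J ⟨hJhom, hIJ, hJp⟩
      by_contra hnle
      obtain ⟨s, hs1, hs2⟩ := h ⟨⟨J, hJhom⟩, hJp, hnle⟩
      exact hs1 (hIJ ((hI s).mpr hs2))
    obtain ⟨k, hk⟩ := Ideal.exists_pow_le_of_le_radical_of_fg hle (IsNoetherian.noetherian _)
    exact ⟨k, fun r hr => (hI r).mp (hk hr)⟩
  · rintro ⟨k, hk⟩ x
    obtain ⟨a, ha1, ha2⟩ := SetLike.not_le_iff_exists.mp x.not_irrelevant_le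
    refine ⟨a ^ k, ?_, hk _ (Ideal.pow_mem_pow ha1 k)⟩
    intro hmem
    exact ha2 (x.isPrime.mem_of_pow_mem k hmem)

end Groth.Agent.S15549
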