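import Groth.Statements.S15560
import Groth.Agent.H77.Kron

set_option autoImplicit false
universe u v w
open KronMod

namespace Groth.Agent.S15560

/-- Let f be a Kronecker module with n arrows over a field K, from a space V of dimension d₋₁ > 0 to a
space W of dimension d₀ > 0. If n·d₋₁ < d₀ or n·d₀ < d₋₁, then f is not semistable; that is, there
are no semistable Kronecker modules of dimension vector (d₋₁, d₀). (The published statement assumes
K algebraically closed of characteristic zero and n ≥ 2; this row allows any field K and any number
n of arrows.) -/
theorem result (K : Type u) [Field K] (V : Type v) (W : Type w)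
    [AddCommGroup V] [Module K V] [FiniteDimensional K V]
    [AddCommGroup W] [Module K W] [FiniteDimensional K W]
    (n : ℕ) (f : Fin n → (V →ₗ[K] W))
    (hV : 0 < Module.finrank K V) (hW : 0 < Module.finrank K W)
    (h : n * Module.finrank K V < Module.finrank K W ∨ n * Module.finrank K W < Module.finrank K V) :
    ¬ KronMod.IsSemistable f := by
  open Groth.Agent.H77 Module in
  rintro ⟨_, hss⟩
  rcases h with h | h
  · -- `V' = ⊤`, `W' = range (sumMap f)`
    have hle := finrank_range_sumMap_le f
    have hne : LinearMap.range (sumMap f) ≠ ⊤ := by
      intro e
      rw [e, finrank_top] at hle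
      omega
    have := hss ⊤ _ (isSubrep_top_range f)
      (fun h' => top_ne_bot_of_finrank_pos V hV h'.1) (fun h' => hne h'.2)
    rw [finrank_top] at this
    have h3 : finrank K W ≤ finrank K (LinearMap.range (sumMap f)) := by
      rw [mul_comm] at this
      exact Nat.le_of_mul_le_mul_left this hV
    omega
  · have hle := finrank_le_ker_piMap f
    have hpos : 0 < finrank K (LinearMap.ker (piMap f)) := by omega
    have hne : LinearMap.ker (piMap f) ≠ ⊥ := by
      intro e
      rw [e, finrank_bot] at hpos
      omega
    have := hss _ ⊥ (isSubrep_ker_bot f)
      (fun h' => hne h'.1) (fun h' => top_ne_bot_of_finrank_pos W hW h'.2.symm)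
    rw [finrank_bot, mul_zero] at this
    have h3 : 0 < finrank K W * finrank K (LinearMap.ker (piMap f)) := Nat.mul_pos hW hpos
    omega

end Groth.Agent.S15560
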