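import Groth.Statements.S15564
import Mathlib.LinearAlgebra.FiniteDimensional.Basic
import Mathlib.LinearAlgebra.FiniteDimensional.Lemmas
import Mathlib.Tactic.Ring

set_option autoImplicit false
universe u v w
open KronMod

namespace Groth.Agent.S15564

theorem aux (K : Type u) [Field K] (V : Type v) (W : Type w)
    [AddCommGroup V] [Module K V] [FiniteDimensional K V]
    [AddCommGroup W] [Module K W] [FiniteDimensional K W]
    (n : ℕ) (f : Fin n → (V →ₗ[K] W))
    (hV : Module.finrank K V = 1) (hW : Module.finrank K W = 1) :
    (KronMod.IsSemistable f → f ≠ 0) ∧ (f ≠ 0 → KronMod.IsStable f) := by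
  have hVnt : (⊤ : Submodule K V) ≠ ⊥ := by
    intro h
    have h1 : Module.finrank K (⊤ : Submodule K V) = 1 := by rw [finrank_top]; exact hV
    rw [h, finrank_bot] at h1
    exact zero_ne_one h1
  have hWnt : (⊥ : Submodule K W) ≠ ⊤ := by
    intro h
    have h1 : Module.finrank K (⊤ : Submodule K W) = 1 := by rw [finrank_top]; exact hW
    rw [← h, finrank_bot] at h1
    exact zero_ne_one h1
  constructor
  · rintro ⟨_, h⟩ rfl
    have := h ⊤ ⊥ (fun j => by simp) (fun h => hVnt h.1) (fun h => hWnt h.2)
    rw [finrank_top, finrank_bot, hV, hW] at this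
    omega
  · intro hf
    refine ⟨by omega, fun V' W' hsub h1 h2 => ?_⟩
    rw [hV, hW, one_mul, one_mul]
    have hV' : Module.finrank K V' ≤ 1 := hV ▸ Submodule.finrank_le V'
    have hW' : Module.finrank K W' ≤ 1 := hW ▸ Submodule.finrank_le W'
    by_cases hW0 : Module.finrank K W' = 0
    · exfalso
      have hWb : W' = ⊥ := Submodule.finrank_eq_zero.mp hW0
      have hVb : V' ≠ ⊥ := fun h => h1 ⟨h, hWb⟩
      have hVt : V' = ⊤ := by
        apply Submodule.eq_top_of_finrank_eq
        have : Module.finrank K V' ≠ 0 := fun h => hVb (Submodule.finrank_eq_zero.mp h)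
        omega
      apply hf
      funext j
      ext x
      have := hsub j
      rw [hVt, hWb, le_bot_iff, Submodule.map_top, LinearMap.range_eq_bot] at this
      simp [this]
    · have hW1 : Module.finrank K W' = 1 := by omega
      have hWt : W' = ⊤ := Submodule.eq_top_of_finrank_eq (by omega)
      have hVt : V' ≠ ⊤ := fun h => h2 ⟨h, hWt⟩
      have : Module.finrank K V' ≠ 1 := fun h => hVt (Submodule.eq_top_of_finrank_eq (by omega))
      omega

/-- For a Kronecker module f with n arrows over a field K between one-dimensional spaces V and W,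
semistability, stability and f ≠ 0 are equivalent: the semistable locus and the stable locus of
dimension vector (1, 1) are both the complement of the zero module. (The published statement assumes
K algebraically closed of characteristic zero and n ≥ 2; this row allows any field K and any n.) -/
theorem result (K : Type u) [Field K] (V : Type v) (W : Type w)
    [AddCommGroup V] [Module K V] [FiniteDimensional K V]
    [AddCommGroup W] [Module K W] [FiniteDimensional K W]
    (n : ℕ) (f : Fin n → (V →ₗ[K] W))
    (hV : Module.finrank K V = 1) (hW : Module.finrank K W = 1) :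
    (KronMod.IsSemistable f ↔ f ≠ 0) ∧ (KronMod.IsStable f ↔ f ≠ 0) := by
  obtain ⟨h1, h2⟩ := aux K V W n f hV hW
  refine ⟨⟨h1, fun hf => ?_⟩, ⟨fun hs => h1 ?_, h2⟩⟩
  · obtain ⟨a, b⟩ := h2 hf
    exact ⟨a, fun V' W' x y z => (b V' W' x y z).le⟩
  · obtain ⟨a, b⟩ := hs
    exact ⟨a, fun V' W' x y z => (b V' W' x y z).le⟩

end Groth.Agent.S15564
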