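import Groth.Statements.S15568
import Mathlib

set_option autoImplicit false
universe u
open QuiverStab

namespace Groth.Agent.S15568

/-- the linear form `θ ↦ θ · d'`. -/
noncomputable def L {I : Type u} [Fintype I] (d' : I → ℕ) (θ : I → ℝ) : ℝ := ∑ i, θ i * (d' i : ℝ)

theorem L_comb {I : Type u} [Fintype I] (d' : I → ℕ) (θ₁ θ₂ : I → ℝ) (a b : ℝ) :
    L d' (a • θ₁ + b • θ₂) = a * L d' θ₁ + b * L d' θ₂ := by
  unfold L
  simp only [Pi.add_apply, Pi.smul_apply, smul_eq_mul, add_mul, mul_assoc, Finset.sum_add_distrib,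
    Finset.mul_sum]

theorem L_continuous {I : Type u} [Fintype I] (d' : I → ℕ) : Continuous (L d') := by
  unfold L
  exact continuous_finsetSum _ (fun i _ => (continuous_apply i).mul continuous_const)

theorem comb_ne_zero {x y a b : ℝ} (ha : 0 ≤ a) (hb : 0 ≤ b) (hab : a + b = 1)
    (hs : SignType.sign x = SignType.sign y) (hx : x ≠ 0) : a * x + b * y ≠ 0 := by
  rcases lt_or_gt_of_ne hx with hneg | hpos
  · have hy : y < 0 := by
      rw [← sign_eq_neg_one_iff, ← hs, sign_eq_neg_one_iff]; exact hneg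
    have hm : max x y < 0 := max_lt hneg hy
    have : a * x + b * y ≤ max x y := by
      calc a * x + b * y ≤ a * max x y + b * max x y :=
            add_le_add (mul_le_mul_of_nonneg_left (le_max_left _ _) ha)
              (mul_le_mul_of_nonneg_left (le_max_right _ _) hb)
        _ = max x y := by rw [← add_mul, hab, one_mul]
    linarith
  · have hy : 0 < y := by
      rw [← sign_eq_one_iff, ← hs, sign_eq_one_iff]; exact hpos
    have hm : 0 < min x y := lt_min hpos hy
    have : min x y ≤ a * x + b * y := by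
      calc min x y = a * min x y + b * min x y := by rw [← add_mul, hab, one_mul]
        _ ≤ a * x + b * y :=
            add_le_add (mul_le_mul_of_nonneg_left (min_le_left _ _) ha)
              (mul_le_mul_of_nonneg_left (min_le_right _ _) hb)
    linarith

/-- Walls and chambers for stability weights of a quiver. Let I be the finite vertex set, d ∈ ℕ^I a
dimension vector, and call two weights θ₁, θ₂ ∈ ℝ^I orthogonal to d numerically equivalent when, for
every d′ ≤ d in ℕ^I, the numbers θ₁·d′ and θ₂·d′ are both positive, both negative or both zero. The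
walls are the hyperplanes W(d′) = {θ ⊥ d : θ·d′ = 0} of d^⊥ for d′ ≤ d such that d is not a multiple
of d′. Then θ₁ and θ₂ are numerically equivalent if and only if there is a set J₁ of such d′ for
which θ₁ and θ₂ lie in the same connected component of the locally closed subset of d^⊥ consisting
of the weights lying on W(d₁) for every d₁ ∈ J₁ and off W(d₂) for every other wall W(d₂). (Only the
quiver's vertex set enters; multiples are taken with natural-number factors.) -/
theorem result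
    (I : Type u) [Fintype I] (d : I → ℕ) (θ₁ θ₂ : I → ℝ)
    (h₁ : ∑ i, θ₁ i * (d i : ℝ) = 0) (h₂ : ∑ i, θ₂ i * (d i : ℝ) = 0) :
    (∀ d' : I → ℕ, d' ≤ d →
        SignType.sign (∑ i, θ₁ i * (d' i : ℝ)) = SignType.sign (∑ i, θ₂ i * (d' i : ℝ))) ↔
    ∃ J₁ : Set (I → ℕ), J₁ ⊆ {d' | d' ≤ d ∧ ¬ ∃ m : ℕ, d = m • d'} ∧
      θ₂ ∈ connectedComponentIn
        {θ : I → ℝ | ∑ i, θ i * (d i : ℝ) = 0 ∧ (∀ d₁ ∈ J₁, ∑ i, θ i * (d₁ i : ℝ) = 0) ∧
          ∀ d₂ : I → ℕ, d₂ ≤ d → (¬ ∃ m : ℕ, d = m • d₂) → d₂ ∉ J₁ →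
            ∑ i, θ i * (d₂ i : ℝ) ≠ 0} θ₁ := by

  classical
  have hL : ∀ (d' : I → ℕ) (θ : I → ℝ), ∑ i, θ i * (d' i : ℝ) = L d' θ := fun _ _ => rfl
  simp only [hL] at h₁ h₂ ⊢
  constructor
  · intro hsign
    obtain ⟨J₁, hJ₁⟩ : ∃ J₁ : Set (I → ℕ),
        J₁ = {d' | d' ≤ d ∧ (¬ ∃ m : ℕ, d = m • d') ∧ L d' θ₁ = 0} := ⟨_, rfl⟩
    have hJmem : ∀ d', d' ∈ J₁ ↔ d' ≤ d ∧ (¬ ∃ m : ℕ, d = m • d') ∧ L d' θ₁ = 0 := by
      intro d'; rw [hJ₁]; exact Iff.rfl
    refine ⟨J₁, fun d' hd' => ⟨((hJmem d').mp hd').1, ((hJmem d').mp hd').2.1⟩, ?_⟩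
    have hseg : segment ℝ θ₁ θ₂ ⊆ {θ : I → ℝ | L d θ = 0 ∧ (∀ d₁ ∈ J₁, L d₁ θ = 0) ∧
        ∀ d₂ : I → ℕ, d₂ ≤ d → (¬ ∃ m : ℕ, d = m • d₂) → d₂ ∉ J₁ → L d₂ θ ≠ 0} := by
      rintro z ⟨a, b, ha, hb, hab, rfl⟩
      refine ⟨?_, ?_, ?_⟩
      · rw [L_comb, h₁, h₂, mul_zero, mul_zero, add_zero]
      · intro d₁ hd₁
        have h1 := ((hJmem d₁).mp hd₁).2.2
        have h2 : L d₁ θ₂ = 0 := by
          have := hsign d₁ ((hJmem d₁).mp hd₁).1
          rw [h1, sign_zero] at this
          exact sign_eq_zero_iff.mp this.symm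
        rw [L_comb, h1, h2, mul_zero, mul_zero, add_zero]
      · intro d₂ hd₂ hwall hnJ
        rw [L_comb]
        refine comb_ne_zero ha hb hab (hsign d₂ hd₂) ?_
        intro h0
        exact hnJ ((hJmem d₂).mpr ⟨hd₂, hwall, h0⟩)
    exact (convex_segment θ₁ θ₂).isPreconnected.subset_connectedComponentIn
      (left_mem_segment ℝ θ₁ θ₂) hseg (right_mem_segment ℝ θ₁ θ₂)
  · rintro ⟨J₁, hJ₁, hmem⟩ d' hd'
    obtain ⟨F, hF⟩ : ∃ F : Set (I → ℝ), F = {θ : I → ℝ | L d θ = 0 ∧ (∀ d₁ ∈ J₁, L d₁ θ = 0) ∧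
        ∀ d₂ : I → ℕ, d₂ ≤ d → (¬ ∃ m : ℕ, d = m • d₂) → d₂ ∉ J₁ → L d₂ θ ≠ 0} := ⟨_, rfl⟩
    rw [← hF] at hmem
    have hθ₁ : θ₁ ∈ F := by
      by_contra hn
      rw [connectedComponentIn_eq_empty hn] at hmem
      exact hmem
    have hθ₂ : θ₂ ∈ F := connectedComponentIn_subset F θ₁ hmem
    by_cases hm : ∃ m : ℕ, d = m • d'
    · obtain ⟨m, hm⟩ := hm
      have hz : ∀ θ : I → ℝ, L d θ = 0 → L d' θ = 0 := by
        intro θ hθ
        rcases Nat.eq_zero_or_pos m with rfl | hpos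
        · have hd0 : d = 0 := by rw [hm, zero_smul]
          have hd'0 : d' = 0 := by
            rw [hd0] at hd'
            exact le_antisymm hd' (fun i => Nat.zero_le _)
          rw [hd'0]
          unfold L
          simp
        · have e : L d θ = (m : ℝ) * L d' θ := by
            unfold L
            rw [Finset.mul_sum]
            refine Finset.sum_congr rfl (fun i _ => ?_)
            rw [hm]
            simp only [Pi.smul_apply, smul_eq_mul, Nat.cast_mul]
            ring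
          rw [e] at hθ
          have hm0 : (m : ℝ) ≠ 0 := by exact_mod_cast hpos.ne'
          exact (mul_eq_zero.mp hθ).resolve_left hm0
      rw [hz θ₁ h₁, hz θ₂ h₂]
    · by_cases hdJ : d' ∈ J₁
      · rw [hF] at hθ₁ hθ₂
        rw [hθ₁.2.1 d' hdJ, hθ₂.2.1 d' hdJ]
      · have hcont : ContinuousOn (fun θ : I → ℝ => SignType.sign (L d' θ))
            (connectedComponentIn F θ₁) := by
          intro θ hθ
          have hθF : θ ∈ F := connectedComponentIn_subset F θ₁ hθ
          rw [hF] at hθF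
          have hne : L d' θ ≠ 0 := hθF.2.2 d' hd' hm hdJ
          exact ((continuousAt_sign_of_ne_zero hne).comp
            (L_continuous d').continuousAt).continuousWithinAt
        exact isPreconnected_connectedComponentIn.constant hcont
          (mem_connectedComponentIn hθ₁) hmem

end Groth.Agent.S15568
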