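import Groth.Statements.S15579
import Groth.Prelude.Def_W4c2azumayainvolQEt
import Mathlib

set_option autoImplicit false
universe u v
open RInv

namespace Groth.Agent.S15579

/-- For a local ring `S` with maximal ideal `m` and a quadratic etale `S`-algebra `R`, the Jacobson
radical of `R` is `mR`. -/
theorem result (S : Type u) (R : Type v) [CommRing S]
    [CommRing R] [Algebra S R] [IsLocalRing S] (hq : RInv.IsQuadEtale S R) :
    Ring.jacobson R = (IsLocalRing.maximalIdeal S).map (algebraMap S R) := by
  obtain ⟨hfin, hproj, hunr, hrank⟩ := hq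
  haveI := hfin
  haveI := hunr
  apply le_antisymm
  · intro x hx
    have hrad := Algebra.FormallyUnramified.isRadical_map_isMaximal (A := S) R
      (IsLocalRing.maximalIdeal S)
    rw [← hrad.radical, Ideal.radical_eq_sInf, Ideal.mem_sInf]
    rintro P ⟨hle, hP⟩
    haveI := hP
    have hcomap : IsLocalRing.maximalIdeal S = P.comap (algebraMap S R) :=
      (IsLocalRing.maximalIdeal.isMaximal S).eq_of_le (Ideal.comap_ne_top _ hP.ne_top)
        (Ideal.map_le_iff_le_comap.mp hle)
    have hmax : (P.comap (algebraMap S R)).IsMaximal := hcomap ▸ IsLocalRing.maximalIdeal.isMaximal S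
    have hPmax : P.IsMaximal := Ideal.isMaximal_of_isIntegral_of_isMaximal_comap P hmax
    rw [← Ideal.jacobson_bot] at hx
    exact (Ideal.mem_sInf.mp hx) ⟨bot_le, hPmax⟩
  · rw [← Ideal.jacobson_bot]
    refine le_sInf ?_
    rintro M ⟨-, hM⟩
    haveI := hM
    have : (M.comap (algebraMap S R)).IsMaximal := Ideal.isMaximal_comap_of_isIntegral_of_isMaximal M
    rw [Ideal.map_le_iff_le_comap, IsLocalRing.eq_maximalIdeal this]

end Groth.Agent.S15579
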