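import Groth.Statements.S15580
import Groth.Agent.H77.RInv

set_option autoImplicit false
universe u v
open RInv

namespace Groth.Agent.S15580

/-- Let `S` be a local ring, `R` a quadratic etale `S`-algebra and `lam` an involution of `R` with fixed
ring `S`. Then every unit `r` of `R` with `lam r * r = 1` can be written `a⁻¹ * lam a` for a unit
`a` of `R`. -/
theorem result (S : Type u) (R : Type v) [CommRing S] [CommRing R]
    [Algebra S R] (lam : R ≃+* R) (hlam : Function.Involutive lam) (hS : RInv.IsFixedRing S R lam)
    [IsLocalRing S] (hq : RInv.IsQuadEtale S R) (r : Rˣ) (hr : lam r * r = 1) :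
    ∃ a : Rˣ, (r : R) = (a⁻¹ : Rˣ) * lam a := by

  open Groth.Agent.H77 in
  obtain ⟨e, he⟩ := exists_isUnit_sub_of_isQuadEtale lam hlam hS hq
  have hlamr : lam (r : R) * r = 1 := hr
  have ha : ∀ c : R, lam (c + lam c * lam (r : R)) = (c + lam c * lam (r : R)) * r := by
    intro c
    rw [map_add, map_mul, hlam c, hlam (r : R)]
    linear_combination (- lam c) * hlamr
  by_cases hex : ∃ c : R, IsUnit (c + lam c * lam (r : R))
  · obtain ⟨c, hc⟩ := hex
    refine ⟨hc.unit, ?_⟩
    have h1 : lam (hc.unit : R) = (hc.unit : R) * r := ha c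
    rw [h1, ← mul_assoc, Units.inv_mul, one_mul]
  · exfalso
    push Not at hex
    rcases subsingleton_or_nontrivial R with hsub | hnt
    · exact hex 0 (isUnit_of_subsingleton _)
    obtain ⟨M, hM⟩ := Ideal.exists_maximal R
    have hmem : ∀ c : R, c + lam c * lam (r : R) ∈ M := by
      intro c
      have h1 := mul_lam_mem_jacobson_of_not_isUnit lam hlam hS _ (hex c)
      rw [← Ideal.jacobson_bot] at h1
      have h2 : (c + lam c * lam (r : R)) * lam (c + lam c * lam (r : R)) ∈ M := by
        have := Ideal.jacobson_mono (bot_le : (⊥ : Ideal R) ≤ M) h1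
        rwa [Ideal.jacobson_eq_self_of_isMaximal] at this
      rcases hM.isPrime.mem_or_mem h2 with h3 | h3
      · exact h3
      · rw [ha c] at h3
        have := M.mul_mem_right (↑r⁻¹ : R) h3
        rwa [mul_assoc, Units.mul_inv, mul_one] at this
    have h1 := hmem 1
    have h2 := hmem e
    have h3 : (lam e - e) * lam (r : R) ∈ M := by
      have : (lam e - e) * lam (r : R) =
          (e + lam e * lam (r : R)) - e * (1 + lam 1 * lam (r : R)) := by
        rw [map_one]; ring
      rw [this]
      exact M.sub_mem h2 (M.mul_mem_left e h1)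
    have hu : IsUnit ((lam e - e) * lam (r : R)) := by
      have hu1 : IsUnit (lam e - e) := by
        have : lam e - e = -(e - lam e) := by ring
        rw [this]; exact he.neg
      have hu2 : IsUnit (lam (r : R)) := (r.isUnit).map lam
      exact hu1.mul hu2
    exact hM.ne_top (Ideal.eq_top_of_isUnit_mem _ h3 hu)

end Groth.Agent.S15580
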