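import Groth.Statements.S15581
import Groth.Agent.H77.RInv

set_option autoImplicit false
universe u v
open RInv

namespace Groth.Agent.S15581

/-- Let `A` be a commutative ring with an involution `lam` whose fixed ring `B` is local with `2`
invertible. Then `Jac(A)^2 ⊆ Jac(B) A`. -/
theorem result (B : Type u) (A : Type v) [CommRing B]
    [CommRing A] [Algebra B A] (lam : A ≃+* A) (hlam : Function.Involutive lam)
    (hB : RInv.IsFixedRing B A lam) [IsLocalRing B] (h2 : IsUnit (2 : B)) :
    (Ring.jacobson A) ^ 2 ≤ (IsLocalRing.maximalIdeal B).map (algebraMap B A) := by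
  haveI : Nontrivial A := hB.1.nontrivial
  have hstab : ∀ x ∈ Ring.jacobson A, lam x ∈ Ring.jacobson A := by
    intro x hx
    rw [← Ideal.jacobson_bot, Ideal.mem_jacobson_bot] at hx ⊢
    intro y
    have := (hx (lam y)).map lam
    simpa [hlam y] using this
  have hBm : ∀ b : B, algebraMap B A b ∈ Ring.jacobson A → b ∈ IsLocalRing.maximalIdeal B := by
    intro b hb
    rw [IsLocalRing.mem_maximalIdeal]
    intro hu
    have : Ring.jacobson A = ⊤ := Ideal.eq_top_of_isUnit_mem _ hb (hu.map _)
    rw [← Ideal.jacobson_bot, Ideal.jacobson_eq_top_iff] at this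
    exact bot_ne_top this
  obtain ⟨c, hc⟩ := h2.exists_right_inv
  have hc' : 2 * algebraMap B A c = 1 := by
    have := congrArg (algebraMap B A) hc
    rwa [map_mul, map_ofNat, map_one] at this
  have hlc : lam (algebraMap B A c) = algebraMap B A c := Groth.Agent.H77.lam_algebraMap lam hB c
  -- decomposition of an element of the radical
  have key : ∀ x ∈ Ring.jacobson A, ∃ a : B, a ∈ IsLocalRing.maximalIdeal B ∧
      ∃ x' : A, x' ∈ Ring.jacobson A ∧ lam x' = - x' ∧ x = algebraMap B A a + x' := by
    intro x hx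
    have hfix : lam ((x + lam x) * algebraMap B A c) = (x + lam x) * algebraMap B A c := by
      rw [map_mul, hlc, Groth.Agent.H77.tr_fixed lam hlam]
    obtain ⟨a, ha⟩ := Groth.Agent.H77.exists_of_fixed lam hB hfix
    refine ⟨a, hBm a (by rw [ha]; exact Ideal.mul_mem_right _ _ (add_mem hx (hstab x hx))),
      (x - lam x) * algebraMap B A c,
      Ideal.mul_mem_right _ _ (sub_mem hx (hstab x hx)), ?_, ?_⟩
    · rw [map_mul, hlc, map_sub, hlam x]; ring
    · rw [ha]; linear_combination (-x) * hc'
  rw [pow_two, Ideal.mul_le]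
  intro x hx y hy
  obtain ⟨a, ham, x', hx', hlx', rfl⟩ := key x hx
  obtain ⟨b, hbm, y', hy', hly', rfl⟩ := key y hy
  have hfix : lam (x' * y') = x' * y' := by rw [map_mul, hlx', hly']; ring
  obtain ⟨e, he⟩ := Groth.Agent.H77.exists_of_fixed lam hB hfix
  have hem : e ∈ IsLocalRing.maximalIdeal B := hBm e (by rw [he]; exact Ideal.mul_mem_right _ _ hx')
  have : (algebraMap B A a + x') * (algebraMap B A b + y') =
      algebraMap B A a * (algebraMap B A b + y') + algebraMap B A b * x' + algebraMap B A e := by
    rw [he]; ring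
  rw [this]
  exact add_mem (add_mem (Ideal.mul_mem_right _ _ (Ideal.mem_map_of_mem _ ham))
    (Ideal.mul_mem_right _ _ (Ideal.mem_map_of_mem _ hbm))) (Ideal.mem_map_of_mem _ hem)

end Groth.Agent.S15581
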