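import Groth.Statements.S15582
import Mathlib

set_option autoImplicit false
universe u
open CategoryTheory TopologicalSpace
open CohTop

namespace Groth.Agent.S15582

open TopologicalSpace Opposite in
theorem map_thin {X : TopCat.{u}} (G : TopCat.Presheaf (Type u) X) {A B : Opens X} (f g : A ⟶ B)
    (t : ToType (G.obj (op B))) : G.map f.op t = G.map g.op t := by
  rw [Subsingleton.elim f g]

open TopologicalSpace Opposite in
theorem map_map' {X : TopCat.{u}} (G : TopCat.Presheaf (Type u) X) {A B C : Opens X} (f : A ⟶ B)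
    (g : B ⟶ C) (t : ToType (G.obj (op C))) :
    G.map f.op (G.map g.op t) = G.map (f ≫ g).op t := by
  rw [← ConcreteCategory.comp_apply, ← G.map_comp]; rfl

open TopologicalSpace Opposite in
theorem eq_of_bot {X : TopCat.{u}} (F : TopCat.Sheaf (Type u) X) (Z : Opens X) (hZ : Z = ⊥)
    (a b : ToType (F.1.obj (op Z))) : a = b := by
  refine F.eq_of_locally_eq' (fun _ : PEmpty.{1} => (⊥ : Opens X)) Z (fun i => i.elim) ?_ a b
    (fun i => i.elim)
  rw [hZ]; exact bot_le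

open TopologicalSpace Opposite in
theorem lemA {X : TopCat.{u}} (F G : TopCat.Sheaf (Type u) X) (φ : F ⟶ G)
    (hφ' : ∀ (U : Opens ↑X) (t : ToType (G.obj.obj (op U))), ∀ x ∈ U,
      ∃ V, ∃ (h : V ≤ U), (∃ s, (ConcreteCategory.hom (φ.hom.app (op V))) s =
        TopCat.Presheaf.restrictOpen t V h) ∧ x ∈ V)
    (W : Opens X) (t : ToType (G.obj.obj (op W))) (S : Set X) (hSW : S ⊆ W)
    (U : X → Set X) (hU : ∀ x ∈ S, IsOpen (U x) ∧ x ∈ U x) (hdis : S.PairwiseDisjoint U) :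
    ∃ (O : Opens X) (h : O ≤ W), S ⊆ O ∧ ∃ s, (ConcreteCategory.hom (φ.hom.app (op O))) s =
      TopCat.Presheaf.restrictOpen t O h := by
  classical
  choose Vx hVle hVs hxV using fun (x : S) => hφ' W t x.1 (hSW x.2)
  choose s hs using hVs
  obtain ⟨O, hO⟩ : ∃ O : S → Opens X, ∀ x, O x = Vx x ⊓ ⟨U x.1, (hU x.1 x.2).1⟩ := ⟨_, fun _ => rfl⟩
  have hOle : ∀ x, O x ≤ Vx x := fun x => by rw [hO]; exact inf_le_left
  have hOU : ∀ x, (O x : Set X) ⊆ U x.1 := fun x z hz => by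
    rw [hO] at hz; exact hz.2
  obtain ⟨sf, hsf⟩ : ∃ sf : ∀ x : S, ToType (F.1.obj (op (O x))),
      ∀ x, sf x = F.1.map (homOfLE (hOle x)).op (s x) := ⟨_, fun _ => rfl⟩
  have hdisj : ∀ x x' : S, x ≠ x' → O x ⊓ O x' = ⊥ := by
    intro x x' hne
    have hd := hdis x.2 x'.2 (fun h => hne (Subtype.ext h))
    rw [eq_bot_iff]
    intro z hz
    exact (Set.disjoint_left.mp hd (hOU x hz.1) (hOU x' hz.2)).elim
  have hcompat : TopCat.Presheaf.IsCompatible F.1 O sf := by
    intro x x'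
    by_cases hxx : x = x'
    · subst hxx
      exact map_thin F.1 _ _ _
    · exact eq_of_bot F _ (hdisj x x' hxx) _ _
  obtain ⟨sg, hsg, -⟩ := F.existsUnique_gluing O sf hcompat
  have hle : iSup O ≤ W := iSup_le (fun x => (hOle x).trans (hVle x))
  refine ⟨iSup O, hle, ?_, sg, ?_⟩
  · intro x hx
    refine Opens.mem_iSup.mpr ⟨⟨x, hx⟩, ?_⟩
    rw [hO]
    exact ⟨hxV ⟨x, hx⟩, (hU x hx).2⟩
  · refine G.eq_of_locally_eq O _ _ (fun x => ?_)
    have h1 := hsg x
    rw [← NatTrans.naturality_apply, h1, hsf, NatTrans.naturality_apply, hs]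
    show G.1.map _ (G.1.map (homOfLE (hVle x)).op t) = G.1.map _ (G.1.map (homOfLE hle).op t)
    rw [map_map', map_map']
    exact map_thin G.1 _ _ _

/-- Let `π : X → Y` be a continuous map such that every open set containing a fibre `π⁻¹(y)` contains
the preimage of an open neighbourhood of `y`, and such that every fibre is finite with its points
separated by pairwise disjoint open sets of `X`. Then the direct image of sheaves of sets along `π`
preserves epimorphisms. -/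
theorem result
    {X Y : TopCat.{u}} (π : X ⟶ Y)
    (h1 : ∀ (y : Y) (U : Set X), IsOpen U → π ⁻¹' {y} ⊆ U →
      ∃ V : Set Y, IsOpen V ∧ y ∈ V ∧ π ⁻¹' V ⊆ U)
    (h2 : ∀ y : Y, (π ⁻¹' {y}).Finite ∧ ∃ U : X → Set X,
      (∀ x ∈ π ⁻¹' {y}, IsOpen (U x) ∧ x ∈ U x) ∧ (π ⁻¹' {y}).PairwiseDisjoint U) :
    (TopCat.Sheaf.pushforward (Type u) π).PreservesEpimorphisms := by

  constructor
  intro F G φ hφ
  have hφ1 : CategoryTheory.Sheaf.IsLocallySurjective φ :=
    (CategoryTheory.Sheaf.isLocallySurjective_iff_epi (J := Opens.grothendieckTopology X) φ).mpr hφ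
  refine (CategoryTheory.Sheaf.isLocallySurjective_iff_epi (J := Opens.grothendieckTopology Y) _).mp ?_
  have hφ' := (TopCat.Presheaf.isLocallySurjective_iff φ.hom).mp hφ1
  refine (TopCat.Presheaf.isLocallySurjective_iff _).mpr ?_
  intro V t y hy
  obtain ⟨hfin, U, hU, hdis⟩ := h2 y
  have hSW : π ⁻¹' {y} ⊆ ((TopologicalSpace.Opens.map π).obj V : Set X) := by
    intro x hx
    have hx' : π x = y := hx
    show π x ∈ V
    rw [hx']; exact hy
  obtain ⟨O, hOW, hSO, s, hs⟩ := lemA F G φ hφ' ((TopologicalSpace.Opens.map π).obj V) t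
    (π ⁻¹' {y}) hSW U hU hdis
  obtain ⟨V', hV'o, hyV', hV'O⟩ := h1 y O O.2 hSO
  have hle : (TopologicalSpace.Opens.map π).obj (V ⊓ ⟨V', hV'o⟩) ≤ O := by
    intro x hx
    exact hV'O hx.2
  refine ⟨V ⊓ ⟨V', hV'o⟩, inf_le_left, ⟨F.1.map (homOfLE hle).op s, ?_⟩, ⟨hy, hyV'⟩⟩
  show (ConcreteCategory.hom (φ.hom.app _)) _ = G.1.map
    ((TopologicalSpace.Opens.map π).map (homOfLE (inf_le_left : V ⊓ ⟨V', hV'o⟩ ≤ V))).op t
  rw [NatTrans.naturality_apply, hs]
  show G.1.map _ (G.1.map (homOfLE hOW).op t) = _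
  rw [map_map']
  exact map_thin G.1 _ _ _

end Groth.Agent.S15582
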