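import Groth.Statements.S15583
import Groth.Agent.H77.Herm

set_option autoImplicit false
universe u v
open RInv

namespace Groth.Agent.S15583

open Groth.Agent.H77

/-- Let `A` be a commutative ring with an involution `lam` whose fixed ring `B` is local, let `ε = ±1`,
and let `h` be an invertible `n × n` matrix over `A` that is `(ε, lam)`-hermitian: `h` equals `ε`
times the transpose of `lam` applied entrywise to `h`. If `lam` is not the identity modulo the
Jacobson radical of `A`, or `ε ≠ -1` modulo that radical, or `n` is odd, then `h` is congruent to a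
diagonal matrix: there is an invertible `v` with `(lam v)ᵀ h v` diagonal. -/
theorem result (B : Type u) (A : Type v) [CommRing B] [CommRing A]
    [Algebra B A] (lam : A ≃+* A) (hlam : Function.Involutive lam) (hB : RInv.IsFixedRing B A lam)
    [IsLocalRing B] (n : ℕ) (ε : A) (hε : ε = 1 ∨ ε = -1) (h : Matrix (Fin n) (Fin n) A)
    (hh : IsUnit h) (herm : ε • (h.map lam).transpose = h)
    (hcase : (∃ a : A, lam a - a ∉ Ring.jacobson A) ∨ ε + 1 ∉ Ring.jacobson A ∨ Odd n) :
    ∃ v : Matrix (Fin n) (Fin n) A, IsUnit v ∧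
      ∃ d : Fin n → A, (v.map lam).transpose * h * v = Matrix.diagonal d := by
  classical
  have hH : Herm.IsHerm lam ε h := herm
  have key : ∃ (G' : Matrix (Fin n) (Fin n) A) (d : Fin n → A),
      Herm.Cong lam h G' ∧ G' = Matrix.diagonal d := by
    by_cases hnl : (∃ a : A, lam a - a ∉ Ring.jacobson A) ∨ ε + 1 ∉ Ring.jacobson A
    · have step : ∀ (G : Matrix (Fin n) (Fin n) A), Herm.IsHerm lam ε G → IsUnit G →
          ∀ (S : Finset (Fin n)), Herm.Inv S G → ∀ r, r ∉ S → IsUnit (G r r) →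
          ∃ G' S', Herm.Cong lam G G' ∧ S ⊂ S' ∧ Herm.Inv S' G' ∧
            (S' = Finset.univ ∨ ∃ i, i ∉ S' ∧ IsUnit (G' i i)) :=
        fun G hG hGu S hI r hr hu => Herm.nlStep lam hlam hB hε hnl hG hGu hI hr hu
      obtain ⟨G0, hc0, hgood⟩ : ∃ G0, Herm.Cong lam h G0 ∧
          ((∅ : Finset (Fin n)) = Finset.univ ∨
            ∃ i, i ∉ (∅ : Finset (Fin n)) ∧ IsUnit (G0 i i)) := by
        by_cases hne : Nonempty (Fin n)
        · obtain ⟨i⟩ := hne
          obtain ⟨G', hc, -, i', hi', hu⟩ := Herm.fix lam hlam hB hε hnl hH hh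
            (Herm.inv_empty h) i (Finset.notMem_empty i)
          exact ⟨G', hc, Or.inr ⟨i', hi', hu⟩⟩
        · refine ⟨h, Herm.Cong.refl lam h, Or.inl ?_⟩
          rw [not_nonempty_iff] at hne
          exact Finset.univ_eq_empty.symm
      obtain ⟨G', d, hc, hd⟩ := Herm.main lam hlam step _ ∅ le_rfl G0 (hc0.herm lam hlam hH)
        (hc0.isUnit lam hh) (Herm.inv_empty G0) hgood
      exact ⟨G', d, hc0.trans lam hc, hd⟩
    · push Not at hnl
      obtain ⟨hid, hε1⟩ := hnl
      have hodd : Odd n := by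
        rcases hcase with ⟨a, ha⟩ | h2 | h3
        · exact absurd (hid a) ha
        · exact absurd hε1 h2
        · exact h3
      have : IsLocalRing A := isLocalRing_of_forall_mem_jacobson lam hlam hB hid
      have step : ∀ (G : Matrix (Fin n) (Fin n) A), Herm.IsHerm lam ε G → IsUnit G →
          ∀ (S : Finset (Fin n)), Herm.Inv S G → ∀ r, r ∉ S → IsUnit (G r r) →
          ∃ G' S', Herm.Cong lam G G' ∧ S ⊂ S' ∧ Herm.Inv S' G' ∧
            (S' = Finset.univ ∨ ∃ i, i ∉ S' ∧ IsUnit (G' i i)) :=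
        fun G hG hGu S hI r hr hu => Herm.locStep lam hlam hε hG hGu hI hr hu
      obtain ⟨i, hiu⟩ := Herm.exists_unit_diag_of_odd lam (by rwa [Fintype.card_fin]) hε1 hid
        hH hh
      exact Herm.main lam hlam step _ ∅ le_rfl h hH hh (Herm.inv_empty h)
        (Or.inr ⟨i, Finset.notMem_empty i, hiu⟩)
  obtain ⟨G', d, ⟨v, hv, hG'⟩, hd⟩ := key
  exact ⟨v, hv, d, by rw [← hd, hG']; rfl⟩

end Groth.Agent.S15583
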