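import Groth.Statements.S15584
import Groth.Agent.H77.SkewHerm

set_option autoImplicit false
universe u v
open RInv

namespace Groth.Agent.S15584

open Groth.Agent.H77

/-- Let `A` be a commutative ring with an involution `lam` whose fixed ring `B` is local; assume `lam`
is the identity modulo the Jacobson radical of `A`, that `2` is invertible in `A`, and that `h` is
an invertible `n × n` matrix with `h = -(lam h)ᵀ`. Then `n` is even and there is an invertible `v`
such that `(lam v)ᵀ h v` is a block sum of `2 × 2` blocks on the index pairs `{2k, 2k+1}`, each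
congruent to `[[0,1],[-1,0]]` modulo the Jacobson radical. (The published statement writes the
congruence with the plain transpose `vᵀ h v`; its proof computes the Gram matrix of the hermitian
form `(x, y) ↦ (lam x)ᵀ h y` in a new basis, which is `(lam v)ᵀ h v`, and that is what is stated
here.) -/
theorem result (B : Type u) (A : Type v) [CommRing B] [CommRing A]
    [Algebra B A] (lam : A ≃+* A) (hlam : Function.Involutive lam) (hB : RInv.IsFixedRing B A lam)
    [IsLocalRing B] (n : ℕ) (hid : ∀ a : A, lam a - a ∈ Ring.jacobson A) (h2 : IsUnit (2 : A))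
    (h : Matrix (Fin n) (Fin n) A) (hh : IsUnit h) (herm : -(h.map lam).transpose = h) :
    Even n ∧ ∃ v : Matrix (Fin n) (Fin n) A, IsUnit v ∧
      ∀ i j : Fin n,
        (i.val / 2 ≠ j.val / 2 → ((v.map lam).transpose * h * v) i j = 0) ∧
        (i.val / 2 = j.val / 2 → (Even i.val ↔ Even j.val) →
          ((v.map lam).transpose * h * v) i j ∈ Ring.jacobson A) ∧
        (i.val / 2 = j.val / 2 → Even i.val → ¬ Even j.val →
          ((v.map lam).transpose * h * v) i j - 1 ∈ Ring.jacobson A) ∧
        (i.val / 2 = j.val / 2 → ¬ Even i.val → Even j.val →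
          ((v.map lam).transpose * h * v) i j + 1 ∈ Ring.jacobson A) := by
  classical
  have hloc : IsLocalRing A := isLocalRing_of_forall_mem_jacobson lam hlam hB hid
  have hH : Herm.IsHerm lam (-1) h := by
    show (-1 : A) • (h.map lam).transpose = h
    rw [neg_one_smul]; exact herm
  obtain ⟨G, hc, hI⟩ := Herm.phase1 lam hlam hid h2 hH hh (n / 2) (by omega)
  have hG := hc.herm lam hlam hH
  have hGu := hc.isUnit lam hh
  have hdiagJ := Herm.skew_diag_mem lam hid h2 hG
  have hnJ : ∀ x : A, x ∈ Ring.jacobson A → ¬ IsUnit x :=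
    fun x hx => not_isUnit_of_mem_jacobson x hx
  obtain ⟨Y, hY⟩ := Herm.row_sum hGu
  have hev : Even n := by
    by_contra hodd
    rw [Nat.not_even_iff_odd] at hodd
    have hn : n = 2 * (n / 2) + 1 := by obtain ⟨m, hm⟩ := hodd; omega
    obtain ⟨e, he⟩ : ∃ e : Fin n, e.val = 2 * (n / 2) := ⟨⟨2 * (n / 2), by omega⟩, rfl⟩
    have h1 : ∑ j, G e j * Y j e ∈ Ring.jacobson A := by
      apply Ideal.sum_mem
      intro j _
      by_cases hje : j = e
      · rw [hje]; exact Ideal.mul_mem_right _ _ (hdiagJ e)
      · have hjlt : j.val < 2 * (n / 2) := by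
          have h3 : j.val ≠ 2 * (n / 2) := fun h => hje (Fin.ext (by rw [h, he]))
          have := j.isLt
          omega
        have : G e j = 0 := hI e j (Or.inr (by show j.val / 2 < n / 2; omega))
          (by show e.val / 2 ≠ j.val / 2; omega)
        rw [this, zero_mul]; exact zero_mem _
    rw [hY e] at h1
    exact hnJ 1 h1 isUnit_one
  obtain ⟨m, hm⟩ := hev
  have hblk : ∀ a b : Fin n, a.val / 2 ≠ b.val / 2 → G a b = 0 := by
    intro a b hab
    exact hI a b (Or.inl (by show a.val / 2 < n / 2; have := a.isLt; omega)) hab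
  have hunit : ∀ a b : Fin n, a.val / 2 = b.val / 2 → Even a.val → ¬ Even b.val →
      IsUnit (G a b) := by
    intro a b hab ha hb
    obtain ⟨j, -, hju⟩ := Herm.sum_unit_local (s := Finset.univ)
      (f := fun j => G a j * Y j a) (by rw [hY a]; exact isUnit_one)
    have hju' : IsUnit (G a j) := isUnit_of_mul_isUnit_left hju
    have hja : j ≠ a := by rintro rfl; exact hnJ _ (hdiagJ j) hju'
    have hpj : a.val / 2 = j.val / 2 := by
      by_contra hne
      rw [hblk a j hne] at hju'; exact not_isUnit_zero hju'
    have : j = b := by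
      apply Fin.ext
      have h1 : j.val ≠ a.val := fun h => hja (Fin.ext h)
      rw [Nat.even_iff] at ha hb
      omega
    rw [← this]; exact hju'
  have hex : ∀ b : Fin n, ∃ t : A, IsUnit t ∧ (Even b.val → t = 1) ∧
      (∀ a : Fin n, a.val / 2 = b.val / 2 → Even a.val → ¬ Even b.val → G a b * t = 1) := by
    intro b
    by_cases hb : Even b.val
    · exact ⟨1, isUnit_one, fun _ => rfl, fun a _ _ hb' => absurd hb hb'⟩
    · have hb1 : b.val % 2 = 1 := by rw [Nat.even_iff] at hb; omega
      obtain ⟨a0, ha0v⟩ : ∃ a0 : Fin n, a0.val = b.val - 1 :=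
        ⟨⟨b.val - 1, by have := b.isLt; omega⟩, rfl⟩
      have ha0 : IsUnit (G a0 b) := hunit a0 b (by omega)
        (by rw [Nat.even_iff]; omega) hb
      obtain ⟨t, ht⟩ := ha0.exists_right_inv
      refine ⟨t, IsUnit.of_mul_eq_one (G a0 b) (by rw [mul_comm]; exact ht),
        fun h => absurd h hb, ?_⟩
      intro a hab ha _
      have : a = a0 := by
        apply Fin.ext
        rw [Nat.even_iff] at ha; omega
      rw [this]; exact ht
  choose t htu ht1 htinv using hex
  have hcD : Herm.Cong lam G (Herm.ct lam (Matrix.diagonal t) * G * Matrix.diagonal t) :=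
    ⟨_, Herm.isUnit_diagonal htu, rfl⟩
  have hG'' := (hc.trans lam hcD).herm lam hlam hH
  obtain ⟨v, hv, hvG⟩ := hc.trans lam hcD
  refine ⟨⟨m, hm⟩, v, hv, ?_⟩
  have hvG' : (v.map lam).transpose * h * v =
      Herm.ct lam (Matrix.diagonal t) * G * Matrix.diagonal t := hvG.symm
  rw [hvG']
  intro i j
  have hentry := Herm.cong_diagonal_apply lam t G
  refine ⟨?_, ?_, ?_, ?_⟩
  · intro hne
    rw [hentry, hblk i j hne]; ring
  · intro hq hpar
    have : i = j := by
      apply Fin.ext
      rw [Nat.even_iff, Nat.even_iff] at hpar; omega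
    rw [this, hentry]
    exact Ideal.mul_mem_right _ _ (Ideal.mul_mem_left _ _ (hdiagJ j))
  · intro hq hi hj
    rw [hentry, ht1 i hi, map_one, one_mul, htinv j i hq hi hj, sub_self]
    exact zero_mem _
  · intro hq hi hj
    rw [hG''.apply lam i j, hentry, ht1 j hj, map_one, one_mul, htinv i j hq.symm hj hi, map_one]
    have : (-1 : A) * 1 + 1 = 0 := by ring
    rw [this]; exact zero_mem _

end Groth.Agent.S15584
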