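import Groth.Statements.S15585
import Groth.Agent.H77.RInv2

set_option autoImplicit false
universe u v
open RInv

namespace Groth.Agent.S15585

/-- For a local ring `S` (maximal ideal `m`, residue field `k`) and a quadratic etale `S`-algebra `R`,
the ring `R/mR` is a field that is a separable extension of `k` of degree 2, or else it is
isomorphic as a `k`-algebra to `k × k`. -/
theorem result (S : Type u) (R : Type v) [CommRing S]
    [CommRing R] [Algebra S R] [IsLocalRing S] (hq : RInv.IsQuadEtale S R) :
    (IsField (R ⧸ (IsLocalRing.maximalIdeal S).map (algebraMap S R)) ∧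
      Module.finrank (S ⧸ IsLocalRing.maximalIdeal S)
        (R ⧸ (IsLocalRing.maximalIdeal S).map (algebraMap S R)) = 2 ∧
      Algebra.IsSeparable (S ⧸ IsLocalRing.maximalIdeal S)
        (R ⧸ (IsLocalRing.maximalIdeal S).map (algebraMap S R))) ∨
    Nonempty ((R ⧸ (IsLocalRing.maximalIdeal S).map (algebraMap S R)) ≃ₐ[S ⧸ IsLocalRing.maximalIdeal S]
      ((S ⧸ IsLocalRing.maximalIdeal S) × (S ⧸ IsLocalRing.maximalIdeal S))) := by

  obtain ⟨B, hB0⟩ := Groth.Agent.H77.exists_basis_one hq
  have : Module.Finite S R := hq.1
  have : Module.Free S R := Module.Free.of_basis B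
  have : Algebra.FormallyUnramified S R := hq.2.2.1
  let : Field (S ⧸ IsLocalRing.maximalIdeal S) := Ideal.Quotient.field _
  have hB0' : (IsLocalRing.basisQuotient B) 0 = 1 := by
    rw [IsLocalRing.basisQuotient_apply, hB0, map_one]
  exact Groth.Agent.H77.field_or_prod (IsLocalRing.basisQuotient B) hB0'

end Groth.Agent.S15585
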