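import Groth.Statements.S15586
import Groth.Prelude.Def_W4c2azumayainvolQEt
import Mathlib

set_option autoImplicit false
universe u v w
open scoped TensorProduct
open RInv

namespace Groth.Agent.S15586

section
variable {S : Type u} {R : Type v} {S' : Type w}
    [CommRing S] [CommRing R] [Algebra S R] [CommRing S'] [Algebra S S']

/-- The key exactness statement: `S' ⊗ S → S' ⊗ R` is injective with image the kernel of `id ⊗ (lam - 1)`. -/
theorem key (lam : R ≃ₐ[S] R) (hlam : Function.Involutive lam)
    (hS : RInv.IsFixedRing S R lam.toRingEquiv)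
    (h : Module.Flat S S' ∨ IsUnit (2 : S)) :
    Function.Injective ((Algebra.linearMap S R).lTensor S') ∧
      ∀ z : S' ⊗[S] R, (lam.toLinearMap).lTensor S' z = z →
        z ∈ LinearMap.range ((Algebra.linearMap S R).lTensor S') := by
  have hinj : Function.Injective (Algebra.linearMap S R) := hS.1
  have hex : Function.Exact (Algebra.linearMap S R)
      (lam.toLinearMap - LinearMap.id : R →ₗ[S] R) := by
    intro y
    rw [LinearMap.sub_apply, LinearMap.id_apply, sub_eq_zero]
    exact hS.2 y
  rcases h with hflat | h2
  · refine ⟨Module.Flat.lTensor_preserves_injective_linearMap _ hinj, fun z hz => ?_⟩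
    have := Module.Flat.lTensor_exact S' hex
    obtain ⟨w, hw⟩ := (this z).mp (by
      rw [LinearMap.lTensor_sub, LinearMap.sub_apply, LinearMap.lTensor_id,
        LinearMap.id_apply, hz, sub_self])
    exact ⟨w, hw⟩
  · obtain ⟨c, hc⟩ := h2.exists_right_inv
    -- the averaging map
    let avg : R →ₗ[S] R := c • (LinearMap.id + lam.toLinearMap)
    have havg_mem : ∀ x, avg x ∈ LinearMap.range (Algebra.linearMap S R) := by
      intro x
      have hfix : lam (avg x) = avg x := by
        simp only [avg, LinearMap.smul_apply, LinearMap.add_apply, LinearMap.id_apply,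
          AlgEquiv.toLinearMap_apply, map_smul, map_add, hlam x]
        rw [add_comm]
      exact (hS.2 (avg x)).mp hfix
    let F := LinearEquiv.ofInjective (Algebra.linearMap S R) hinj
    let π : R →ₗ[S] S := F.symm.toLinearMap ∘ₗ (avg.codRestrict _ havg_mem)
    have hιπ : (Algebra.linearMap S R) ∘ₗ π = avg := by
      ext x
      simp only [π, LinearMap.comp_apply, LinearEquiv.coe_coe]
      have := F.apply_symm_apply (avg.codRestrict _ havg_mem x)
      exact congrArg Subtype.val this
    have havg_ι : ∀ s : S, avg (Algebra.linearMap S R s) = Algebra.linearMap S R s := by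
      intro s
      simp only [avg, LinearMap.smul_apply, LinearMap.add_apply, LinearMap.id_apply,
        AlgEquiv.toLinearMap_apply, Algebra.linearMap_apply, AlgEquiv.commutes]
      rw [← two_smul S, smul_smul, mul_comm, hc, one_smul]
    have hπι : π ∘ₗ (Algebra.linearMap S R) = LinearMap.id := by
      refine LinearMap.ext (fun s => hinj ?_)
      rw [LinearMap.comp_apply, LinearMap.id_apply]
      have h1 := LinearMap.congr_fun hιπ (Algebra.linearMap S R s)
      rw [LinearMap.comp_apply, havg_ι] at h1
      exact h1
    constructor
    · have : (π.lTensor S') ∘ₗ ((Algebra.linearMap S R).lTensor S') = LinearMap.id := by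
        rw [← LinearMap.lTensor_comp, hπι, LinearMap.lTensor_id]
      exact Function.LeftInverse.injective (g := π.lTensor S') (fun x => LinearMap.congr_fun this x)
    · intro z hz
      refine ⟨π.lTensor S' z, ?_⟩
      rw [← LinearMap.comp_apply, ← LinearMap.lTensor_comp, hιπ]
      simp only [avg, LinearMap.lTensor_smul, LinearMap.lTensor_add, LinearMap.lTensor_id,
        LinearMap.smul_apply, LinearMap.add_apply, LinearMap.id_apply, hz]
      rw [← two_smul S, smul_smul, mul_comm, hc, one_smul]

end


/-- Let `R` be a commutative ring with an involution `lam` and fixed ring `S`, and let `S'` be a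
commutative `S`-algebra. If `S'` is flat over `S`, or if `2` is invertible in `S`, then `S'` is the
fixed ring of the base-changed involution `id ⊗ lam` of `S' ⊗_S R`: the structure map `S' → S' ⊗_S
R` is injective with image the fixed elements. (In general the fixed ring does not commute with base
change.) -/
theorem result (S : Type u) (R : Type v) (S' : Type w)
    [CommRing S] [CommRing R] [Algebra S R] [CommRing S'] [Algebra S S']
    (lam : R ≃ₐ[S] R) (hlam : Function.Involutive lam)
    (hS : RInv.IsFixedRing S R lam.toRingEquiv)
    (h : Module.Flat S S' ∨ IsUnit (2 : S)) :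
    RInv.IsFixedRing S' (S' ⊗[S] R)
      (Algebra.TensorProduct.congr (AlgEquiv.refl : S' ≃ₐ[S] S') lam).toRingEquiv := by
  have hΛ : ∀ z : S' ⊗[S] R,
      (Algebra.TensorProduct.congr (AlgEquiv.refl : S' ≃ₐ[S] S') lam).toRingEquiv z =
        (lam.toLinearMap).lTensor S' z := by
    intro z
    induction z using TensorProduct.induction_on with
    | zero => simp
    | tmul a b => simp
    | add x y hx hy => rw [map_add, map_add, hx, hy]
  obtain ⟨hinj, hex⟩ := key lam hlam hS h
  have halg : ∀ s' : S', algebraMap S' (S' ⊗[S] R) s' =
      (Algebra.linearMap S R).lTensor S' ((TensorProduct.rid S S').symm s') := by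
    intro s'
    rw [TensorProduct.rid_symm_apply, LinearMap.lTensor_tmul, Algebra.linearMap_apply, map_one,
      Algebra.TensorProduct.algebraMap_apply]
    rfl
  refine ⟨?_, fun z => ⟨fun hz => ?_, ?_⟩⟩
  · intro a b hab
    rw [halg, halg] at hab
    exact (TensorProduct.rid S S').symm.injective (hinj hab)
  · rw [hΛ] at hz
    obtain ⟨w, hw⟩ := hex z hz
    refine ⟨TensorProduct.rid S S' w, ?_⟩
    rw [halg, LinearEquiv.symm_apply_apply, hw]
  · rintro ⟨s', rfl⟩
    rw [hΛ, Algebra.TensorProduct.algebraMap_apply, LinearMap.lTensor_tmul]
    simp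

end Groth.Agent.S15586
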