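import Groth.Statements.S15588
import Groth.Agent.H77.RInv3

set_option autoImplicit false
universe u v
open scoped TensorProduct
open RInv

namespace Groth.Agent.S15588

/-- Let `R` be a commutative ring with an involution `lam` and fixed ring `S`, let `W ⊆ Spec S` be the
branch locus (the primes `p` with `S_p ⊗_S R` not quadratic etale over `S_p`) and `I` its vanishing
ideal. Then `lam` is the identity on `R/rad(IR)`, i.e. on the reduced closed subscheme `π⁻¹(W)` of
`Spec R`: `lam r - r ∈ rad(IR)` for all `r`. Affine-local form of the statement for a good quotient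
of schemes by an involution. -/
theorem result (S : Type u) (R : Type v) [CommRing S] [CommRing R]
    [Algebra S R] (lam : R ≃+* R) (hlam : Function.Involutive lam) (hS : RInv.IsFixedRing S R lam)
    (W : Set (PrimeSpectrum S))
    (hW : W = {p : PrimeSpectrum S | ¬ RInv.IsQuadEtale (Localization.AtPrime p.asIdeal) (Localization.AtPrime p.asIdeal ⊗[S] R)})
    (r : R) :
    lam r - r ∈ ((PrimeSpectrum.vanishingIdeal W).map (algebraMap S R)).radical := by

  rw [Ideal.radical_eq_sInf, Ideal.mem_sInf]
  rintro Q ⟨hQle, hQp⟩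
  obtain ⟨pQ, hpQ⟩ : ∃ pQ : PrimeSpectrum S, pQ.asIdeal = Q.comap (algebraMap S R) :=
    ⟨⟨Q.comap (algebraMap S R), inferInstance⟩, rfl⟩
  have hIle : PrimeSpectrum.vanishingIdeal W ≤ pQ.asIdeal := by
    intro s hs
    rw [hpQ]
    exact hQle (Ideal.mem_map_of_mem _ hs)
  by_cases hmem : pQ ∈ W
  · rw [hW] at hmem
    obtain ⟨q, hq1, hq2, hq3, hq4⟩ := Groth.Agent.H77.branch_forward lam
      (Localization.AtPrime pQ.asIdeal) pQ.asIdeal hlam hS hmem
    have : Q = q := hq3 Q hQp hpQ.symm
    rw [this]; exact hq4 r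
  · exfalso
    have hQE : RInv.IsQuadEtale (Localization.AtPrime pQ.asIdeal)
        (Localization.AtPrime pQ.asIdeal ⊗[S] R) := by
      rw [hW] at hmem
      by_contra hc
      exact hmem hc
    obtain ⟨m, hm1, hm2⟩ := Groth.Agent.H77.exists_notMem_of_isQuadEtale lam
      (Localization.AtPrime pQ.asIdeal) pQ.asIdeal hlam hS hQE
    apply hm1
    apply hIle
    rw [PrimeSpectrum.mem_vanishingIdeal]
    intro p'' hp''
    rw [hW] at hp''
    exact hm2 p''.asIdeal hp''

end Groth.Agent.S15588
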