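import Groth.Statements.S15589
import Groth.Agent.H77.RInv3
import Groth.Agent.S15588

set_option autoImplicit false
universe u v
open scoped TensorProduct
open RInv

namespace Groth.Agent.S15589

/-- Let `R` be a commutative ring with an involution `lam` and fixed ring `S`, `W ⊆ Spec S` the branch
locus (primes `p` with `S_p ⊗_S R` not quadratic etale over `S_p`), `I` its vanishing ideal and `J =
rad(IR)`. Then `Spec(R/J) → Spec(S/I)` is a homeomorphism; if `2` is a unit of `S`, the ring map
`S/I → R/J` is moreover bijective, so the reduced preimage of the branch locus maps isomorphically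
onto it. Affine-local form of the statement for a good quotient of schemes by an involution (the
hypothesis `I ≤ J ∩ S` holds automatically and only serves to write down the map). -/
theorem result (S : Type u) (R : Type v) [CommRing S] [CommRing R]
    [Algebra S R] (lam : R ≃+* R) (hlam : Function.Involutive lam) (hS : RInv.IsFixedRing S R lam)
    (W : Set (PrimeSpectrum S))
    (hW : W = {p : PrimeSpectrum S | ¬ RInv.IsQuadEtale (Localization.AtPrime p.asIdeal) (Localization.AtPrime p.asIdeal ⊗[S] R)})
    (J : Ideal R) (hJ : J = ((PrimeSpectrum.vanishingIdeal W).map (algebraMap S R)).radical)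
    (hIJ : PrimeSpectrum.vanishingIdeal W ≤ J.comap (algebraMap S R)) :
    IsHomeomorph (PrimeSpectrum.comap (Ideal.quotientMap J (algebraMap S R) hIJ)) ∧
      (IsUnit (2 : S) → Function.Bijective (Ideal.quotientMap J (algebraMap S R) hIJ)) := by

  have hF1 : ∀ r : R, lam r - r ∈ J := by
    intro r
    rw [hJ]
    exact Groth.Agent.S15588.result S R lam hlam hS W hW r
  have hF2 : ∀ s : S, algebraMap S R s ∈ J → s ∈ PrimeSpectrum.vanishingIdeal W := by
    intro s hs
    rw [PrimeSpectrum.mem_vanishingIdeal]
    intro p hp
    rw [hW] at hp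
    obtain ⟨q, hq1, hq2, -, -⟩ := Groth.Agent.H77.branch_forward lam
      (Localization.AtPrime p.asIdeal) p.asIdeal hlam hS hp
    have hle : J ≤ q := by
      rw [hJ]
      refine hq1.isRadical.radical_le_iff.mpr ?_
      rw [Ideal.map_le_iff_le_comap, hq2]
      intro x hx
      exact (PrimeSpectrum.mem_vanishingIdeal _ _).mp hx p (by rw [hW]; exact hp)
    have : s ∈ q.comap (algebraMap S R) := hle hs
    rwa [hq2] at this
  have hinj : Function.Injective (Ideal.quotientMap J (algebraMap S R) hIJ) := by
    rw [injective_iff_map_eq_zero]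
    intro x hx
    obtain ⟨s, rfl⟩ := Ideal.Quotient.mk_surjective x
    rw [Ideal.quotientMap_mk, Ideal.Quotient.eq_zero_iff_mem] at hx
    exact Ideal.Quotient.eq_zero_iff_mem.mpr (hF2 s hx)
  constructor
  · refine PrimeSpectrum.isHomeomorph_comap _ ?_ ?_
    · intro x
      obtain ⟨r, rfl⟩ := Ideal.Quotient.mk_surjective x
      obtain ⟨n, hn⟩ := Groth.Agent.H77.exists_of_fixed lam hS (Groth.Agent.H77.nm_fixed lam hlam r)
      refine ⟨2, by norm_num, Ideal.Quotient.mk _ n, ?_⟩
      rw [Ideal.quotientMap_mk, hn, ← map_pow, Ideal.Quotient.eq]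
      have : r * lam r - r ^ 2 = r * (lam r - r) := by ring
      rw [this]
      exact Ideal.mul_mem_left _ _ (hF1 r)
    · rw [(RingHom.injective_iff_ker_eq_bot _).mp hinj]
      exact bot_le
  · intro h2
    refine ⟨hinj, ?_⟩
    intro x
    obtain ⟨r, rfl⟩ := Ideal.Quotient.mk_surjective x
    obtain ⟨t, ht⟩ := Groth.Agent.H77.exists_of_fixed lam hS (Groth.Agent.H77.tr_fixed lam hlam r)
    obtain ⟨c, hc⟩ := h2.exists_right_inv
    refine ⟨Ideal.Quotient.mk _ (c * t), ?_⟩
    rw [Ideal.quotientMap_mk, Ideal.Quotient.eq]
    have hc' : (2 : R) * algebraMap S R c = 1 := by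
      rw [← map_ofNat (algebraMap S R) 2, ← map_mul, hc, map_one]
    have : algebraMap S R (c * t) - r = algebraMap S R c * (lam r - r) := by
      rw [map_mul, ht]
      calc algebraMap S R c * (r + lam r) - r
          = algebraMap S R c * (r + lam r) - (2 * algebraMap S R c) * r := by rw [hc', one_mul]
        _ = algebraMap S R c * (lam r - r) := by ring
    rw [this]
    exact Ideal.mul_mem_left _ _ (hF1 r)

end Groth.Agent.S15589
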