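import Groth.Statements.S15590
import Mathlib.RingTheory.Flat.FaithfullyFlat.Algebra
import Mathlib.RingTheory.Localization.FractionRing
import Mathlib.RingTheory.IntegralClosure.IntegrallyClosed
import Mathlib.RingTheory.Ideal.GoingUp
import Mathlib.Tactic

set_option autoImplicit false
set_option maxHeartbeats 400000
universe u v
open CAlg

namespace Groth.Agent.S15590

/-- Let A → B be an injective homomorphism of commutative rings which makes B a finite flat A-module,
and suppose B is a Dedekind domain (Noetherian, integrally closed, of Krull dimension at most one; a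
field is allowed). Then A is a Dedekind domain. -/
theorem result (A : Type u) (B : Type v)
    [CommRing A] [CommRing B] [Algebra A B] [IsDedekindDomain B]
    (hinj : Function.Injective (algebraMap A B)) [Module.Finite A B] [Module.Flat A B] :
    IsDedekindDomain A := by
  classical
  have : IsDomain A := hinj.isDomain (algebraMap A B)
  have : FaithfulSMul A B := (faithfulSMul_iff_algebraMap_injective A B).mpr hinj
  have : Algebra.IsIntegral A B := Algebra.IsIntegral.of_finite A B
  have : Module.FaithfullyFlat A B := Module.FaithfullyFlat.of_isIntegral_of_isDomain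
  rw [isDedekindDomain_iff A (FractionRing A)]
  refine ⟨inferInstance, ?_, ?_, ?_⟩
  · -- Noetherian
    have hmono : StrictMono (Ideal.map (algebraMap A B)) :=
      Monotone.strictMono_of_injective (fun _ _ h => Ideal.map_mono h)
        Ideal.map_injective_of_faithfullyFlat
    have : WellFoundedGT (Ideal B) := (isNoetherian_iff'.mp inferInstance)
    exact isNoetherian_iff'.mpr hmono.wellFoundedGT
  · -- dimension ≤ 1
    refine ⟨fun {p} hp0 hp => ?_⟩
    have := hp
    obtain ⟨Q, hQ, hQp⟩ := Ideal.exists_ideal_over_prime_of_isIntegral_of_isDomain p (S := B)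
      (by simp [(RingHom.injective_iff_ker_eq_bot _).mp hinj])
    have hQ0 : Q ≠ ⊥ := by
      rintro rfl
      apply hp0
      rw [← hQp, ← RingHom.ker_eq_comap_bot, (RingHom.injective_iff_ker_eq_bot _).mp hinj]
    have : Q.IsMaximal := hQ.isMaximal hQ0
    rw [← hQp]
    exact Ideal.isMaximal_comap_of_isIntegral_of_isMaximal Q
  · -- integrally closed
    intro x hx
    let L := FractionRing B
    have hinjL : Function.Injective (algebraMap A L) := by
      rw [IsScalarTower.algebraMap_eq A B L]
      exact (IsFractionRing.injective B L).comp hinj
    have : FaithfulSMul A L := (faithfulSMul_iff_algebraMap_injective A L).mpr hinjL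
    letI : Algebra (FractionRing A) L := FractionRing.liftAlgebra A L
    have : IsScalarTower A (FractionRing A) L := FractionRing.isScalarTower_liftAlgebra A L
    have h1 : IsIntegral A (algebraMap (FractionRing A) L x) :=
      hx.map (IsScalarTower.toAlgHom A (FractionRing A) L)
    have h2 : IsIntegral B (algebraMap (FractionRing A) L x) := h1.tower_top
    obtain ⟨b, hb⟩ := IsIntegrallyClosed.algebraMap_eq_of_integral h2
    obtain ⟨a, s, hs, rfl⟩ := IsFractionRing.div_surjective (A := A) x
    have hs0 : algebraMap A (FractionRing A) s ≠ 0 :=
      IsFractionRing.to_map_ne_zero_of_mem_nonZeroDivisors hs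
    have hsL : algebraMap A L s ≠ 0 := by
      intro h0
      have := hinjL (h0.trans (map_zero _).symm)
      exact nonZeroDivisors.ne_zero hs this
    have key : algebraMap B L (b * algebraMap A B s) = algebraMap B L (algebraMap A B a) := by
      rw [map_mul, hb, map_div₀, ← IsScalarTower.algebraMap_apply A (FractionRing A) L,
        ← IsScalarTower.algebraMap_apply A (FractionRing A) L,
        ← IsScalarTower.algebraMap_apply A B L, ← IsScalarTower.algebraMap_apply A B L]
      exact div_mul_cancel₀ _ hsL
    have key' : b * algebraMap A B s = algebraMap A B a := IsFractionRing.injective B L key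
    have hmem : a ∈ (Ideal.map (algebraMap A B) (Ideal.span {s})).comap (algebraMap A B) := by
      rw [Ideal.mem_comap, Ideal.map_span, Set.image_singleton, Ideal.mem_span_singleton]
      exact ⟨b, by rw [← key', mul_comm]⟩
    rw [Ideal.comap_map_eq_self_of_faithfullyFlat, Ideal.mem_span_singleton] at hmem
    obtain ⟨a', rfl⟩ := hmem
    refine ⟨a', ?_⟩
    rw [map_mul]
    field_simp

end Groth.Agent.S15590
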