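import Groth.Statements.S15594
import Mathlib.LinearAlgebra.TensorProduct.Basis
import Mathlib.LinearAlgebra.Basis.VectorSpace
import Mathlib.Tactic

set_option autoImplicit false
set_option maxHeartbeats 400000
universe u
open TensorProduct
open AGF

namespace Groth.Agent.S15594

/-- Affine form. Let k ⊆ K be a field extension, A a commutative k-algebra and S a set of k-algebra
homomorphisms A → k (rational points of Spec A). The ideal ⋂_{σ ∈ S} ker σ cuts out the Zariski
closure of S with its reduced structure, and its extension to K ⊗_k A equals ⋂_{σ ∈ S} ker σ_K,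
where σ_K : K ⊗_k A → K is the K-algebra map induced by σ. In words: the closure of a set of
rational points is formed compatibly with extension of the ground field. (The published statement is
for schemes locally of finite type; this affine row assumes no finiteness, which the argument does
not use.) -/
theorem result (k K A : Type u) [Field k] [Field K] [Algebra k K]
    [CommRing A] [Algebra k A] (S : Set (A →ₐ[k] k)) :
    Ideal.map (Algebra.TensorProduct.includeRight : A →ₐ[k] K ⊗[k] A) (⨅ σ ∈ S, RingHom.ker σ) =
      ⨅ σ ∈ S, RingHom.ker ((Algebra.TensorProduct.rid k K K).toAlgHom.comp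
        (Algebra.TensorProduct.map (AlgHom.id K K) σ)) := by
  classical
  apply le_antisymm
  · rw [Ideal.map_le_iff_le_comap]
    intro a ha
    simp only [Ideal.mem_comap, Ideal.mem_iInf, RingHom.mem_ker]
    intro σ hσ
    have h0 : σ a = 0 := by
      have := Ideal.mem_iInf.mp ha σ
      rw [Ideal.mem_iInf] at this
      exact this hσ
    simp [h0]
  · intro x hx
    let b := Module.Basis.ofVectorSpace k K
    obtain ⟨c, rfl⟩ := TensorProduct.eq_repr_basis_left b x
    have hc : ∀ i, c i ∈ (⨅ σ ∈ S, RingHom.ker σ : Ideal A) := by
      intro i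
      rw [Ideal.mem_iInf]; intro σ; rw [Ideal.mem_iInf]; intro hσ
      rw [RingHom.mem_ker]
      have h0 := (Ideal.mem_iInf.mp (Ideal.mem_iInf.mp hx σ) hσ)
      rw [RingHom.mem_ker] at h0
      have h1 : ∑ i ∈ c.support, σ (c i) • b i = 0 := by
        simpa [Finsupp.sum, map_sum, Algebra.smul_def, mul_comm] using h0
      have h2 := linearIndependent_iff'.mp b.linearIndependent c.support (fun i => σ (c i)) h1
      by_cases hi : i ∈ c.support
      · exact h2 i hi
      · simp [Finsupp.notMem_support_iff.mp hi]
    rw [Finsupp.sum]
    apply Ideal.sum_mem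
    intro i _
    have h3 : b i ⊗ₜ[k] c i = (b i ⊗ₜ[k] (1:A)) *
        ((Algebra.TensorProduct.includeRight : A →ₐ[k] K ⊗[k] A) (c i)) := by
      simp [Algebra.TensorProduct.tmul_mul_tmul]
    rw [h3]
    exact Ideal.mul_mem_left _ _ (Ideal.mem_map_of_mem _ (hc i))

end Groth.Agent.S15594
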