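import Groth.Statements.S15596
import Groth.Agent.H93.GrpAff

set_option autoImplicit false
universe u
open CategoryTheory MonoidalCategory CartesianMonoidalCategory MonObj GrpObj AlgebraicGeometry
open AlgGrp

namespace Groth.Agent.S15596

/-- Let k be an algebraically closed field, H a smooth k-group scheme of finite type, and U a dense open
subset of H. Then every k-rational point h of H is of the form u₂ · u₁⁻¹ for k-rational points u₁,
u₂ of H whose underlying points lie in U. -/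
theorem result (k : Type u) [Field k] [IsAlgClosed k]
    (H : Over (Spec (CommRingCat.of k))) [GrpObj H] [Smooth H.hom] [QuasiCompact H.hom]
    (U : H.left.Opens) (hU : Dense (U : Set ↥H.left)) (h : 𝟙_ (Over (Spec (CommRingCat.of k))) ⟶ H) :
    ∃ u₁ u₂ : 𝟙_ (Over (Spec (CommRingCat.of k))) ⟶ H,
      u₁.left.base (IsLocalRing.closedPoint k) ∈ U ∧ u₂.left.base (IsLocalRing.closedPoint k) ∈ U ∧
        h = u₂ * u₁⁻¹ := by
  classical
  have hLFT : LocallyOfFiniteType H.hom := inferInstance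
  have hJ : JacobsonSpace H.left := LocallyOfFiniteType.jacobsonSpace H.hom
  have hne : Nonempty H.left := ⟨Groth.Agent.H93.GrpAff.pt H h⟩
  let φ := Groth.Agent.H93.GrpAff.mulLeftIso H h
  have hopen : IsOpenMap (φ.inv.left : H.left ⟶ H.left).base :=
    (φ.inv.left).isOpenEmbedding.isOpenMap
  have hV : Dense ((φ.inv.left : H.left ⟶ H.left).base ⁻¹' (U : Set H.left)) :=
    hU.preimage hopen
  have hVo : IsOpen ((φ.inv.left : H.left ⟶ H.left).base ⁻¹' (U : Set H.left)) :=
    U.isOpen.preimage (φ.inv.left).continuous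
  have hW : Dense ((U : Set H.left) ∩ (φ.inv.left : H.left ⟶ H.left).base ⁻¹' (U : Set H.left)) :=
    hU.inter_of_isOpen_left hV U.isOpen
  obtain ⟨w, hw⟩ := hW.nonempty
  obtain ⟨x, hxW, hxcl⟩ := nonempty_inter_closedPoints ⟨w, hw⟩ (U.isOpen.inter hVo).isLocallyClosed
  obtain ⟨u₂, hu₂⟩ := Groth.Agent.H93.GrpAff.exists_rational H x hxcl
  have hinv : u₂ ≫ φ.inv = h⁻¹ * u₂ := by
    rw [Iso.comp_inv_eq]
    rw [Groth.Agent.H93.GrpAff.comp_mulLeftIso, _root_.mul_inv_cancel_left]
  refine ⟨h⁻¹ * u₂, u₂, ?_, ?_, ?_⟩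
  · have h1 : φ.inv.left (Groth.Agent.H93.GrpAff.pt H u₂) =
        Groth.Agent.H93.GrpAff.pt H (u₂ ≫ φ.inv) := Groth.Agent.H93.GrpAff.iso_pt H φ.inv u₂
    rw [hinv, hu₂] at h1
    have h2 : φ.inv.left x ∈ U := hxW.2
    rw [h1] at h2
    exact h2
  · have h2 : x ∈ U := hxW.1
    rw [← hu₂] at h2
    exact h2
  · rw [_root_.mul_inv_rev, _root_.inv_inv, _root_.mul_inv_cancel_left]

end Groth.Agent.S15596
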