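import Groth.Statements.S1560
import Groth.Agent.H63.StalkBaseChange
import Groth.Agent.H38.GeomRedField

set_option autoImplicit false
universe u
open CategoryTheory CategoryTheory.Limits AlgebraicGeometry
open Variety

namespace Groth.Agent.S1560

/-- Let X be a scheme over a perfect field k and x a point whose local ring is reduced. Then X is
geometrically reduced at x. -/
theorem result (k : Type u) [Field k] (X : Scheme.{u}) [X.Over (Spec (CommRingCat.of k))] [PerfectField k] (x : X)
    [IsReduced (X.presheaf.stalk x)] : Curv2.IsGeomReducedAt k X x := by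
  intro k' _ _ x' hx'
  letI algk := Groth.Agent.H63.StalkBaseChange.stalkAlgebra (X ↘ Spec (CommRingCat.of k)) x
  obtain ⟨Q, hQ, -, ⟨e⟩⟩ := Groth.Agent.H63.StalkBaseChange.exists_prime_ringEquiv_stalk (K := k')
    (X ↘ Spec (CommRingCat.of k)) (Curv2.bcFst k X k') (Curv2.bcSnd k X k')
    (IsPullback.of_hasPullback _ _) x' x hx'
  haveI h2 : IsReduced (TensorProduct k k' (X.presheaf.stalk x)) :=
    Groth.Agent.H38.GeomRedField.forall_isReduced_tensor_of_perfectField (k := k)
      (S := X.presheaf.stalk x) k'
  haveI h3 : IsReduced (Localization.AtPrime Q) :=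
    isReduced_localizationPreserves Q.primeCompl (Localization.AtPrime Q) h2
  exact isReduced_of_injective e.symm.toRingHom e.symm.injective

end Groth.Agent.S1560
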