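import Groth.Statements.S15605
import Mathlib

set_option autoImplicit false
universe u
open TensorProduct
open AGF

namespace Groth.Agent.S15605


theorem key (k B B' : Type u) [Field k] [CommRing B] [Algebra k B] [CommRing B'] [Algebra k B']
    (T : Set (B →ₐ[k] k)) (T' : Set (B' →ₐ[k] k))
    (hT : ∀ b : B, (∀ τ ∈ T, τ b = 0) → b = 0) (hT' : ∀ b : B', (∀ τ ∈ T', τ b = 0) → b = 0)
    (y : B ⊗[k] B')
    (hy : ∀ τ ∈ T, ∀ τ' ∈ T', ((Algebra.TensorProduct.lmul' (S := k) k).comp
        (Algebra.TensorProduct.map τ τ')) y = 0) : y = 0 := by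
  classical
  let 𝒞 := Module.Free.chooseBasis k B'
  have hc0 : TensorProduct.equivFinsuppOfBasisRight 𝒞 y = 0 := by
    ext j
    rw [Finsupp.zero_apply]
    apply hT
    intro τ hτ
    have h1 : ∀ z : B ⊗[k] B', 𝒞.repr ((TensorProduct.lid k B') (τ.toLinearMap.rTensor B' z)) j
        = τ (TensorProduct.equivFinsuppOfBasisRight 𝒞 z j) := by
      intro z
      induction z using TensorProduct.induction_on with
      | zero => simp
      | tmul b b' =>
        rw [TensorProduct.equivFinsuppOfBasisRight_apply_tmul_apply]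
        simp [mul_comm]
      | add z w hz hw => simp only [map_add, Finsupp.add_apply, hz, hw]
    have h2 : ∀ z : B ⊗[k] B', ∀ τ' : B' →ₐ[k] k,
        τ' ((TensorProduct.lid k B') (τ.toLinearMap.rTensor B' z))
          = ((Algebra.TensorProduct.lmul' (S := k) k).comp
              (Algebra.TensorProduct.map τ τ')) z := by
      intro z τ'
      induction z using TensorProduct.induction_on with
      | zero => simp
      | tmul b b' => simp
      | add z w hz hw => simp only [map_add, hz, hw]
    have h3 : (TensorProduct.lid k B') (τ.toLinearMap.rTensor B' y) = 0 := by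
      apply hT'
      intro τ' hτ'
      rw [h2]
      exact hy τ hτ τ' hτ'
    rw [← h1 y, h3]
    simp
  exact (TensorProduct.equivFinsuppOfBasisRight 𝒞).injective (by rw [hc0, map_zero])


/-- Affine form. Let k be a field, A and A' finitely generated commutative k-algebras and S, S' sets of
k-algebra homomorphisms A → k, A' → k. The closure of a set of rational points of Spec A is cut out
by the intersection of their kernels. Compatibility of these closures with products: in A ⊗_k A',
the intersection over (σ, σ') ∈ S × S' of the kernels of σ ⊗ σ' : A ⊗_k A' → k equals the ideal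
generated by the images of ⋂_{σ} ker σ and of ⋂_{σ'} ker σ'. -/
theorem result (k A A' : Type u) [Field k] [CommRing A] [Algebra k A]
    [Algebra.FiniteType k A] [CommRing A'] [Algebra k A'] [Algebra.FiniteType k A']
    (S : Set (A →ₐ[k] k)) (S' : Set (A' →ₐ[k] k)) :
    (⨅ σ ∈ S, ⨅ σ' ∈ S', RingHom.ker ((Algebra.TensorProduct.lmul' (S := k) k).comp
        (Algebra.TensorProduct.map σ σ'))) =
      Ideal.map (Algebra.TensorProduct.includeLeft : A →ₐ[k] A ⊗[k] A') (⨅ σ ∈ S, RingHom.ker σ) ⊔
        Ideal.map (Algebra.TensorProduct.includeRight : A' →ₐ[k] A ⊗[k] A') (⨅ σ' ∈ S', RingHom.ker σ') := by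
  classical
  apply le_antisymm
  · intro x hx
    set I : Ideal A := ⨅ σ ∈ S, RingHom.ker σ with hI
    set I' : Ideal A' := ⨅ σ' ∈ S', RingHom.ker σ' with hI'
    have hker := Algebra.TensorProduct.map_ker (Ideal.Quotient.mkₐ k I) (Ideal.Quotient.mkₐ k I')
      (Ideal.Quotient.mkₐ_surjective k I) (Ideal.Quotient.mkₐ_surjective k I')
    have e1 : RingHom.ker (Ideal.Quotient.mkₐ k I) = I := Ideal.Quotient.mkₐ_ker k I
    have e2 : RingHom.ker (Ideal.Quotient.mkₐ k I') = I' := Ideal.Quotient.mkₐ_ker k I'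
    rw [e1, e2] at hker
    rw [← hker, RingHom.mem_ker]
    have hxx : ∀ σ ∈ S, ∀ σ' ∈ S', ((Algebra.TensorProduct.lmul' (S := k) k).comp
        (Algebra.TensorProduct.map σ σ')) x = 0 := by
      intro σ hσ σ' hσ'
      have h1 := (Ideal.mem_iInf.mp hx) σ
      have h2 := (Ideal.mem_iInf.mp h1) hσ
      have h3 := (Ideal.mem_iInf.mp h2) σ'
      have h4 := (Ideal.mem_iInf.mp h3) hσ'
      exact (RingHom.mem_ker).mp h4
    refine key k (A ⧸ I) (A' ⧸ I') {τ | τ.comp (Ideal.Quotient.mkₐ k I) ∈ S}
      {τ' | τ'.comp (Ideal.Quotient.mkₐ k I') ∈ S'} ?_ ?_ _ ?_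
    · intro b hb
      obtain ⟨a, rfl⟩ := Ideal.Quotient.mkₐ_surjective k I b
      have ha : a ∈ I := by
        rw [hI]
        refine Ideal.mem_iInf.mpr fun σ => Ideal.mem_iInf.mpr fun hσ => ?_
        rw [RingHom.mem_ker]
        have hle : ∀ a : A, a ∈ I → σ a = 0 := by
          intro a ha
          have h1 := (Ideal.mem_iInf.mp (hI ▸ ha)) σ
          have h2 := (Ideal.mem_iInf.mp h1) hσ
          exact (RingHom.mem_ker).mp h2
        have hcomp := Ideal.Quotient.liftₐ_comp I σ hle
        have := hb (Ideal.Quotient.liftₐ I σ hle) (by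
          change (Ideal.Quotient.liftₐ I σ hle).comp (Ideal.Quotient.mkₐ k I) ∈ S
          rw [hcomp]; exact hσ)
        rw [← this]
        exact (congrArg (fun φ : A →ₐ[k] k => φ a) hcomp).symm
      exact (Ideal.Quotient.eq_zero_iff_mem).mpr ha
    · intro b hb
      obtain ⟨a, rfl⟩ := Ideal.Quotient.mkₐ_surjective k I' b
      have ha : a ∈ I' := by
        rw [hI']
        refine Ideal.mem_iInf.mpr fun σ => Ideal.mem_iInf.mpr fun hσ => ?_
        rw [RingHom.mem_ker]
        have hle : ∀ a : A', a ∈ I' → σ a = 0 := by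
          intro a ha
          have h1 := (Ideal.mem_iInf.mp (hI' ▸ ha)) σ
          have h2 := (Ideal.mem_iInf.mp h1) hσ
          exact (RingHom.mem_ker).mp h2
        have hcomp := Ideal.Quotient.liftₐ_comp I' σ hle
        have := hb (Ideal.Quotient.liftₐ I' σ hle) (by
          change (Ideal.Quotient.liftₐ I' σ hle).comp (Ideal.Quotient.mkₐ k I') ∈ S'
          rw [hcomp]; exact hσ)
        rw [← this]
        exact (congrArg (fun φ : A' →ₐ[k] k => φ a) hcomp).symm
      exact (Ideal.Quotient.eq_zero_iff_mem).mpr ha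
    · intro τ hτ τ' hτ'
      have := hxx _ hτ _ hτ'
      rw [Algebra.TensorProduct.map_comp] at this
      exact this
  · refine sup_le ?_ ?_
    · rw [Ideal.map_le_iff_le_comap]
      intro a ha
      rw [Ideal.mem_comap]
      refine Ideal.mem_iInf.mpr fun σ => Ideal.mem_iInf.mpr fun hσ => Ideal.mem_iInf.mpr fun σ' =>
        Ideal.mem_iInf.mpr fun hσ' => ?_
      rw [RingHom.mem_ker]
      have h1 := (Ideal.mem_iInf.mp ha) σ
      have h2 := (Ideal.mem_iInf.mp h1) hσ
      have h3 : σ a = 0 := (RingHom.mem_ker).mp h2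
      simp [h3]
    · rw [Ideal.map_le_iff_le_comap]
      intro a ha
      rw [Ideal.mem_comap]
      refine Ideal.mem_iInf.mpr fun σ => Ideal.mem_iInf.mpr fun hσ => Ideal.mem_iInf.mpr fun σ' =>
        Ideal.mem_iInf.mpr fun hσ' => ?_
      rw [RingHom.mem_ker]
      have h1 := (Ideal.mem_iInf.mp ha) σ'
      have h2 := (Ideal.mem_iInf.mp h1) hσ'
      have h3 : σ' a = 0 := (RingHom.mem_ker).mp h2
      simp [h3]

end Groth.Agent.S15605
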