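import Groth.Statements.S15609
import Groth.Agent.H40.TanKer

set_option autoImplicit false
universe u
open CategoryTheory MonoidalCategory CartesianMonoidalCategory MonObj GrpObj AlgebraicGeometry
open AlgGrp

namespace Groth.Agent.S15609

section Ker
variable {k : Type u} [Field k] {G G' : Over (Spec (CommRingCat.of k))} [GrpObj G] [GrpObj G']
  (f : G ⟶ G') [IsMonHom f]

/-- kernel scheme -/
noncomputable abbrev P : Scheme.{u} := Limits.pullback f.left η[G'].left
noncomputable abbrev pfst : P f ⟶ G.left := Limits.pullback.fst f.left η[G'].left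
noncomputable abbrev psnd : P f ⟶ (𝟙_ (Over (Spec (CommRingCat.of k)))).left :=
  Limits.pullback.snd f.left η[G'].left

theorem unit_comp_hom : η[G'].left ≫ G'.hom = 𝟙 _ := Over.w η[G']

theorem psnd_eq : psnd f = pfst f ≫ G.hom := by
  calc psnd f = psnd f ≫ η[G'].left ≫ G'.hom := by rw [unit_comp_hom, Category.comp_id]
    _ = pfst f ≫ f.left ≫ G'.hom := by
      rw [← Category.assoc, ← Limits.pullback.condition, Category.assoc]
    _ = pfst f ≫ G.hom := by rw [Over.w f]

noncomputable def u : (𝟙_ (Over (Spec (CommRingCat.of k)))).left ⟶ P f :=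
  Limits.pullback.lift η[G].left (𝟙 _) (by
    rw [Category.id_comp, ← Over.comp_left, IsMonHom.one_hom])

theorem u_fst : u f ≫ pfst f = η[G].left := Limits.pullback.lift_fst _ _ _
theorem u_snd : u f ≫ psnd f = 𝟙 _ := Limits.pullback.lift_snd _ _ _

theorem eq_of_fst_eq {T : Scheme.{u}} (a : T ⟶ P f)
    (h : a ≫ pfst f = (a ≫ psnd f) ≫ η[G].left) : a = (a ≫ psnd f) ≫ u f := by
  apply Limits.pullback.hom_ext
  · rw [Category.assoc, u_fst]; exact h
  · rw [Category.assoc, u_snd, Category.comp_id]

theorem factor_of_alg {R : Type u} [CommRing R] [Algebra k R]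
    (c : Spec (CommRingCat.of R) ⟶ P f)
    (hc : c ≫ psnd f = Spec.map (CommRingCat.ofHom (algebraMap k R)))
    (hinj : ∀ g : Over.mk (Spec.map (CommRingCat.ofHom (algebraMap k R))) ⟶ G,
      g.left = c ≫ pfst f → g ≫ f = toUnit _ ≫ η[G'] → g = toUnit _ ≫ η[G]) :
    c = (c ≫ psnd f) ≫ u f := by
  let g : Over.mk (Spec.map (CommRingCat.ofHom (algebraMap k R))) ⟶ G :=
    Over.homMk (c ≫ pfst f) (by
      rw [Category.assoc, ← psnd_eq, hc]; rfl)
  have hg : g ≫ f = toUnit _ ≫ η[G'] := by
    apply Over.OverMorphism.ext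
    rw [Over.comp_left, Over.comp_left, Over.toUnit_left]
    change (c ≫ pfst f) ≫ f.left = Spec.map (CommRingCat.ofHom (algebraMap k R)) ≫ η[G'].left
    rw [Category.assoc, Limits.pullback.condition, ← Category.assoc, hc]
  have h1 := congrArg (fun m => m.left) (hinj g rfl hg)
  apply eq_of_fst_eq
  rw [hc]
  simpa [g] using h1

theorem exists_unit_eq
    (hgeom : ∀ (K : Type u) [Field K] [IsAlgClosed K] [Algebra k K],
      Function.Injective (fun g : (Over.mk (Spec.map (CommRingCat.ofHom (algebraMap k K)))) ⟶ G => g ≫ f))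
    (x : P f) : ∃ s, (u f).base s = x := by
  let K := AlgebraicClosure ((P f).residueField x)
  let c : Spec (CommRingCat.of K) ⟶ P f :=
    Spec.map (CommRingCat.ofHom (algebraMap ((P f).residueField x) K)) ≫
      (P f).fromSpecResidueField x
  let ρ : CommRingCat.of k ⟶ CommRingCat.of K :=
    Spec.preimage (c ≫ psnd f : Spec (CommRingCat.of K) ⟶ Spec (CommRingCat.of k))
  letI : Algebra k K := ρ.hom.toAlgebra
  have hc : c ≫ psnd f = Spec.map (CommRingCat.ofHom (algebraMap k K)) :=
    (Spec.map_preimage (c ≫ psnd f : Spec (CommRingCat.of K) ⟶ Spec (CommRingCat.of k))).symm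
  have key := factor_of_alg f c hc (fun g _ hg => by
    apply hgeom K
    change g ≫ f = (toUnit _ ≫ η[G]) ≫ f
    rw [hg, Category.assoc, IsMonHom.one_hom])
  obtain ⟨pt⟩ : Nonempty (Spec (CommRingCat.of K)) := inferInstance
  refine ⟨(c ≫ psnd f).base pt, ?_⟩
  have h2 : c.base pt = x := by
    simp only [c, Scheme.Hom.comp_base, TopCat.hom_comp, ContinuousMap.comp_apply]
    exact Scheme.fromSpecResidueField_apply _ _
  calc (u f).base ((c ≫ psnd f).base pt) = ((c ≫ psnd f) ≫ u f).base pt := rfl
    _ = c.base pt := by rw [← key]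
    _ = x := h2

theorem subsingleton_P
    (hgeom : ∀ (K : Type u) [Field K] [IsAlgClosed K] [Algebra k K],
      Function.Injective (fun g : (Over.mk (Spec.map (CommRingCat.ofHom (algebraMap k K)))) ⟶ G => g ≫ f)) :
    Subsingleton (P f) := by
  haveI : Subsingleton ((𝟙_ (Over (Spec (CommRingCat.of k)))).left) :=
    show Subsingleton (PrimeSpectrum k) from inferInstance
  constructor
  intro x y
  obtain ⟨s, rfl⟩ := exists_unit_eq f hgeom x
  obtain ⟨t, rfl⟩ := exists_unit_eq f hgeom y
  rw [Subsingleton.elim s t]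

theorem isAffine_of_subsingleton (X : Scheme.{u}) [Subsingleton X] [Nonempty X] : IsAffine X := by
  obtain ⟨x⟩ := ‹Nonempty X›
  obtain ⟨R, j, hj, y, hy⟩ := Scheme.exists_Spec_apply_eq x
  haveI : Epi j.base := by
    rw [TopCat.epi_iff_surjective]
    intro z
    exact ⟨y, by rw [hy]; exact Subsingleton.elim _ _⟩
  haveI : IsIso j := IsOpenImmersion.isIso j
  exact IsAffine.of_isIso (inv j)

end Ker

section Main
variable {k : Type u} [Field k] {G G' : Over (Spec (CommRingCat.of k))} [GrpObj G] [GrpObj G']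
  [LocallyOfFiniteType G.hom] (f : G ⟶ G') [IsMonHom f]

theorem snd_u_eq_id (hsub : Subsingleton (P f))
    (htan : ∀ g : (Over.mk (Spec.map (CommRingCat.ofHom (algebraMap k (DualNumber k))))) ⟶ G,
      (∀ x : 𝟙_ (Over (Spec (CommRingCat.of k))) ⟶
        (Over.mk (Spec.map (CommRingCat.ofHom (algebraMap k (DualNumber k))))), x ≫ g = η[G]) →
        g ≫ f = toUnit _ ≫ η[G'] → g = toUnit _ ≫ η[G]) :
    psnd f ≫ u f = 𝟙 (P f) := by
  haveI : Nonempty ((𝟙_ (Over (Spec (CommRingCat.of k)))).left) :=
    show Nonempty (PrimeSpectrum k) from inferInstance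
  haveI : Nonempty (P f) := ⟨(u f).base (Classical.arbitrary _)⟩
  haveI : IsAffine (P f) := isAffine_of_subsingleton _
  let B : Type u := Γ(P f, ⊤)
  let e : P f ≅ Spec (CommRingCat.of B) := (P f).isoSpec
  let ρ : CommRingCat.of k ⟶ CommRingCat.of B :=
    Spec.preimage (e.inv ≫ psnd f : Spec (CommRingCat.of B) ⟶ Spec (CommRingCat.of k))
  have hρ' : Spec.map ρ = e.inv ≫ psnd f := Spec.map_preimage _
  letI : Algebra k B := ρ.hom.toAlgebra
  have hρ : Spec.map (CommRingCat.ofHom (algebraMap k B)) = e.inv ≫ psnd f := hρ'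
  -- finite type
  haveI : LocallyOfFiniteType f.left := by
    haveI : LocallyOfFiniteType (f.left ≫ G'.hom) := by rw [Over.w f]; infer_instance
    exact locallyOfFiniteType_of_comp f.left G'.hom
  haveI : LocallyOfFiniteType (psnd f) :=
    MorphismProperty.pullback_snd (P := @LocallyOfFiniteType) _ _ inferInstance
  haveI : LocallyOfFiniteType (Spec.map (CommRingCat.ofHom (algebraMap k B))) := by
    rw [hρ]; infer_instance
  have hft : RingHom.FiniteType (algebraMap k B) :=
    (HasRingHomProperty.Spec_iff (P := @LocallyOfFiniteType)).1 inferInstance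
  haveI : Algebra.FiniteType k B := RingHom.finiteType_algebraMap.1 hft
  -- the unit point
  let βc : CommRingCat.of B ⟶ CommRingCat.of k :=
    Spec.preimage (u f ≫ e.hom : Spec (CommRingCat.of k) ⟶ Spec (CommRingCat.of B))
  have hβc : Spec.map βc = u f ≫ e.hom := Spec.map_preimage _
  -- retractions of ρ give algebra maps
  have mkAlg : ∀ gc : CommRingCat.of B ⟶ CommRingCat.of k, ρ ≫ gc = 𝟙 _ →
      ∃ ga : B →ₐ[k] k, ∀ b, ga b = gc.hom b := by
    intro gc h
    refine ⟨{ gc.hom with commutes' := fun r => ?_ }, fun b => rfl⟩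
    exact congrArg (fun m => m.hom r) h
  have hret : ∀ y : (𝟙_ (Over (Spec (CommRingCat.of k)))).left ⟶ P f, y ≫ psnd f = 𝟙 _ →
      ρ ≫ Spec.preimage (y ≫ e.hom : Spec (CommRingCat.of k) ⟶ Spec (CommRingCat.of B)) = 𝟙 _ := by
    intro y hy
    apply Spec.map_injective
    rw [Spec.map_comp, Spec.map_preimage, hρ', Spec.map_id, Category.assoc,
      Iso.hom_inv_id_assoc, hy]
    rfl
  obtain ⟨β, hβ⟩ := mkAlg βc (hret (u f) (u_snd f))
  -- unique prime
  have hprime : ∀ p q : Ideal B, p.IsPrime → q.IsPrime → p = q := by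
    intro p q hp hq
    have hinj : Function.Injective e.inv.base := e.inv.isOpenEmbedding.injective
    have h1 : e.inv.base (⟨p, hp⟩ : PrimeSpectrum B) = e.inv.base (⟨q, hq⟩ : PrimeSpectrum B) :=
      Subsingleton.elim _ _
    exact congrArg PrimeSpectrum.asIdeal (hinj h1)
  -- uniqueness of k-points
  have huniq : ∀ y : (𝟙_ (Over (Spec (CommRingCat.of k)))).left ⟶ P f, y ≫ psnd f = 𝟙 _ →
      y = u f := by
    intro y hy
    obtain ⟨ga, hga⟩ := mkAlg _ (hret y hy)
    have hgb := Groth.Agent.H40.TanKer.algHom_unique hprime β ga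
    have h2 : Spec.preimage (y ≫ e.hom : Spec (CommRingCat.of k) ⟶ Spec (CommRingCat.of B)) = βc := by
      apply CommRingCat.hom_ext
      apply RingHom.ext
      intro b
      rw [← hga, ← hβ, hgb]
    have h3 := congrArg Spec.map h2
    rw [Spec.map_preimage, hβc] at h3
    exact (cancel_mono e.hom).1 h3
  -- tangent hypothesis
  have htanB : ∀ φ : B →ₐ[k] DualNumber k, φ = (Algebra.ofId k (DualNumber k)).comp β := by
    intro φ
    let c : Spec (CommRingCat.of (DualNumber k)) ⟶ P f :=
      Spec.map (CommRingCat.ofHom φ.toRingHom) ≫ e.inv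
    have hc : c ≫ psnd f = Spec.map (CommRingCat.ofHom (algebraMap k (DualNumber k))) := by
      simp only [c, Category.assoc]
      rw [← hρ, ← Spec.map_comp, ← CommRingCat.ofHom_comp]
      congr 2
      exact φ.comp_algebraMap
    have key := factor_of_alg f c hc (fun g hgl hg => htan g (fun x => by
      apply Over.OverMorphism.ext
      rw [Over.comp_left, hgl]
      have hy : x.left ≫ c = u f := by
        apply huniq
        rw [Category.assoc, hc]
        exact Over.w x
      rw [← Category.assoc, hy, u_fst]) hg)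
    have h3 : Spec.map (CommRingCat.ofHom φ.toRingHom) =
        Spec.map (βc ≫ CommRingCat.ofHom (algebraMap k (DualNumber k))) := by
      rw [Spec.map_comp, hβc, ← hc, ← Category.assoc, ← key]
      simp [c]
    have h4 := Spec.map_injective h3
    ext b : 1
    have h5 := congrArg (fun m => m.hom b) h4
    simp only [AlgHom.comp_apply, Algebra.ofId_apply, hβ]
    exact h5
  have hid : ∀ b : B, algebraMap k B (β b) = b :=
    Groth.Agent.H40.TanKer.algebraMap_comp_eq_id β hprime htanB
  have hβρ : βc ≫ ρ = 𝟙 _ := by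
    apply CommRingCat.hom_ext
    apply RingHom.ext
    intro b
    have := hid b
    rw [hβ] at this
    exact this
  calc psnd f ≫ u f = e.hom ≫ ((e.inv ≫ psnd f) ≫ (u f ≫ e.hom)) ≫ e.inv := by simp
    _ = e.hom ≫ (Spec.map ρ ≫ Spec.map βc) ≫ e.inv := by rw [hρ', hβc]
    _ = 𝟙 _ := by rw [← Spec.map_comp, hβρ, Spec.map_id]; simp

end Main

/-- The implication (ii) ⇒ (i). Let k be a field and f : G ⟶ G' a homomorphism of k-group schemes of
finite type. Suppose that f is injective on K-points for every algebraically closed field K over k,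
and that f is injective on tangent spaces at the identity: every point of G with values in the dual
numbers k[ε] which restricts to the identity at ε = 0 and is sent by f to the identity point of G'
is itself the identity point. Then f has trivial kernel: it is a monomorphism. (The published
statement assumes G smooth; this implication does not use it.) -/
theorem result (k : Type u) [Field k]
    (G G' : Over (Spec (CommRingCat.of k))) [GrpObj G] [GrpObj G'] [LocallyOfFiniteType G.hom] [QuasiCompact G.hom]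
    [LocallyOfFiniteType G'.hom] [QuasiCompact G'.hom] (f : G ⟶ G') [IsMonHom f]
    (hgeom : ∀ (K : Type u) [Field K] [IsAlgClosed K] [Algebra k K],
      Function.Injective (fun g : (Over.mk (Spec.map (CommRingCat.ofHom (algebraMap k K)))) ⟶ G => g ≫ f))
    (htan : ∀ g : (Over.mk (Spec.map (CommRingCat.ofHom (algebraMap k (DualNumber k))))) ⟶ G,
      (∀ x : 𝟙_ (Over (Spec (CommRingCat.of k))) ⟶ (Over.mk (Spec.map (CommRingCat.ofHom (algebraMap k (DualNumber k))))), x ≫ g = η[G]) →
        g ≫ f = toUnit _ ≫ η[G'] → g = toUnit _ ≫ η[G]) :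
    Mono f := by
  have hsub := subsingleton_P f hgeom
  have hid := snd_u_eq_id f hsub htan
  constructor
  intro T g₁ g₂ hg
  have hn : (g₁ * g₂⁻¹) ≫ f = toUnit _ ≫ η[G'] := by
    rw [MonObj.mul_comp, GrpObj.inv_comp, hg, mul_inv_cancel, Hom.one_def]
  have h1 : g₁ * g₂⁻¹ = toUnit _ ≫ η[G] := by
    let a : T.left ⟶ P f := Limits.pullback.lift (g₁ * g₂⁻¹).left (toUnit T).left (by
      rw [← Over.comp_left, hn, Over.comp_left])
    apply Over.OverMorphism.ext
    rw [Over.comp_left]
    calc (g₁ * g₂⁻¹).left = a ≫ pfst f := (Limits.pullback.lift_fst _ _ _).symm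
      _ = a ≫ (psnd f ≫ u f) ≫ pfst f := by rw [hid, Category.id_comp]
      _ = (toUnit T).left ≫ η[G].left := by
        rw [Category.assoc, u_fst, ← Category.assoc, Limits.pullback.lift_snd]
  rw [← Hom.one_def, mul_inv_eq_one] at h1
  exact h1

end Groth.Agent.S15609
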