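import Groth.Statements.S1561
import Groth.Agent.H63.GeomRegAtSmooth
import Groth.Agent.H79.SmoothReg2
import Groth.Agent.S10887

set_option autoImplicit false
universe u
open CategoryTheory CategoryTheory.Limits AlgebraicGeometry
open Variety

namespace Groth.Agent.S1561

open TopologicalSpace Topology

/-- Over a perfect field, a point of a scheme locally of finite presentation is a smooth point iff
its local ring is regular. -/
theorem mem_smoothLocus_iff_regular (k : Type u) [Field k] [PerfectField k] (X : Scheme.{u})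
    [X.Over (Spec (CommRingCat.of k))]
    [LocallyOfFinitePresentation (X ↘ (Spec (CommRingCat.of k)))] (x : X) :
    x ∈ (X ↘ (Spec (CommRingCat.of k))).smoothLocus ↔
      IsRegularLocalRing (X.presheaf.stalk x) := by
  rw [Groth.Agent.H63.GeomRegAtSmooth.mem_smoothLocus_iff]
  letI : Algebra k (X.presheaf.stalk x) := (Curv2.stalkMap k X x).toAlgebra
  haveI hess : Algebra.EssFiniteType k (X.presheaf.stalk x) :=
    Groth.Agent.H63.GeomRegAtSmooth.essFiniteType_stalkMap k X x
  show Algebra.FormallySmooth k (X.presheaf.stalk x) ↔ _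
  haveI : Algebra.IsGeometricallyReduced k (IsLocalRing.ResidueField (X.presheaf.stalk x)) :=
    Groth.Agent.H44.MacLane.isGeometricallyReduced_of_perfectField
  exact Groth.Agent.H79.SmoothReg.formallySmooth_iff_isRegularLocalRing k _
    (Groth.Agent.H44.MacLane.formallySmooth_iff_isGeometricallyReduced.mpr inferInstance)

/-- Every point of a reduced scheme has a generization whose local ring is a field. -/
theorem exists_generization_isField_stalk {X : Scheme.{u}} [IsReduced X] (x : X) :
    ∃ ξ : X, ξ ⤳ x ∧ IsField (X.presheaf.stalk ξ) := by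
  obtain ⟨P, hP, -⟩ := Ideal.exists_minimalPrimes_le
    (bot_le : (⊥ : Ideal (X.presheaf.stalk x)) ≤ IsLocalRing.maximalIdeal (X.presheaf.stalk x))
  haveI hPprime : P.IsPrime := hP.1.1
  have hξx : X.fromSpecStalk x (⟨P, hPprime⟩ : PrimeSpectrum (X.presheaf.stalk x)) ⤳ x := by
    have : X.fromSpecStalk x (⟨P, hPprime⟩ : PrimeSpectrum (X.presheaf.stalk x)) ∈
        Set.range (X.fromSpecStalk x) := ⟨_, rfl⟩
    rwa [Scheme.range_fromSpecStalk] at this
  have hmax : ∀ ξ' : X,
      ξ' ⤳ X.fromSpecStalk x (⟨P, hPprime⟩ : PrimeSpectrum (X.presheaf.stalk x)) →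
      ξ' = X.fromSpecStalk x (⟨P, hPprime⟩ : PrimeSpectrum (X.presheaf.stalk x)) := by
    intro ξ' h
    have h' : ξ' ∈ Set.range (X.fromSpecStalk x) := by
      rw [Scheme.range_fromSpecStalk]
      exact h.trans hξx
    obtain ⟨p', hp'⟩ := h'
    have h2 : p' ⤳ (⟨P, hPprime⟩ : PrimeSpectrum (X.presheaf.stalk x)) := by
      rw [← (X.fromSpecStalk x).isEmbedding.isInducing.specializes_iff, hp']
      exact h
    have h3 : p'.asIdeal ≤ P := (PrimeSpectrum.le_iff_specializes p' ⟨P, hPprime⟩).mpr h2
    have h4 : P ≤ p'.asIdeal := hP.2 ⟨p'.isPrime, bot_le⟩ h3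
    have h5 : p' = ⟨P, hPprime⟩ := PrimeSpectrum.ext (le_antisymm h3 h4)
    rw [← hp', h5]
  refine ⟨_, hξx, ?_⟩
  haveI := Groth.Agent.S10887.subsingleton_spec_stalk _ hmax
  haveI : Ring.KrullDimLE 0 (X.presheaf.stalk
      (X.fromSpecStalk x (⟨P, hPprime⟩ : PrimeSpectrum (X.presheaf.stalk x)))) :=
    Ring.KrullDimLE.mk₀ (fun I hI => by
      have h1 := Subsingleton.elim (⟨I, hI⟩ : PrimeSpectrum (X.presheaf.stalk
        (X.fromSpecStalk x (⟨P, hPprime⟩ : PrimeSpectrum (X.presheaf.stalk x)))))
        (IsLocalRing.closedPoint _)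
      have hI' : I = IsLocalRing.maximalIdeal _ := congrArg PrimeSpectrum.asIdeal h1
      rw [hI']
      infer_instance)
  exact Ring.KrullDimLE.isField_of_isReduced

/-- Let X be reduced and locally of finite type over a perfect field k. Then a point lies in the smooth
locus of X → Spec k exactly when its local ring is regular, and this locus is dense in X. -/
theorem result (k : Type u) [Field k] (X : Scheme.{u}) [X.Over (Spec (CommRingCat.of k))] [PerfectField k] [IsReduced X]
    [LocallyOfFinitePresentation (X ↘ (Spec (CommRingCat.of k)))] :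
    (∀ x : X, x ∈ (X ↘ (Spec (CommRingCat.of k))).smoothLocus ↔ IsRegularLocalRing (X.presheaf.stalk x)) ∧
      Dense ((X ↘ (Spec (CommRingCat.of k))).smoothLocus : Set X) := by
  refine ⟨fun x => mem_smoothLocus_iff_regular k X x, ?_⟩
  rw [dense_iff_inter_open]
  intro W hW hne
  obtain ⟨x, hxW⟩ := hne
  obtain ⟨ξ, hξx, hfield⟩ := exists_generization_isField_stalk x
  haveI := hfield.isDomain
  haveI := hfield.isPrincipalIdealRing
  have hreg : IsRegularLocalRing (X.presheaf.stalk ξ) := inferInstance
  exact ⟨ξ, hξx.mem_open hW hxW, (mem_smoothLocus_iff_regular k X ξ).mpr hreg⟩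

end Groth.Agent.S1561
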