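import Groth.Statements.S15610
import Groth.Agent.H78.SpecConnected

set_option autoImplicit false
set_option maxHeartbeats 400000
universe u
open SchFin SchFin.RSpace

namespace Groth.Agent.S15610

open SchFin in
/-- A schematic finite space is well-connected (the prime spectrum of its ring of global sections is
connected and the prime spectrum of the ring of each point is connected) if and only if its poset of
points is non-empty and connected and the prime spectrum of the ring of each point is connected. -/
theorem result (X : RSpace.{u})
    (hX : X.IsSchematic) : X.IsWellConnected ↔ (X.IsTopConnected ∧ X.IsPwConnected) := by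
  classical
  unfold RSpace.IsWellConnected
  refine and_congr_left fun hpw => ?_
  have hpw' : ∀ p : X.pt, Nontrivial (X.ring p) ∧
      ∀ e : X.ring p, IsIdempotentElem e → e = 0 ∨ e = 1 :=
    fun p => (Groth.Agent.H78.connectedSpace_primeSpectrum_iff _).mp (hpw p)
  have hnt : ∀ p : X.pt, (0 : X.ring p) ≠ 1 := fun p => by
    have := (hpw' p).1; exact zero_ne_one
  unfold RSpace.IsConnected RSpace.IsTopConnected
  rw [Groth.Agent.H78.connectedSpace_primeSpectrum_iff]
  constructor
  · rintro ⟨hΓnt, hΓid⟩
    have hne : Nonempty X.pt := by
      by_contra hempty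
      rw [not_nonempty_iff] at hempty
      have : IsEmpty (↥(Set.univ : Set X.pt)) := ⟨fun q => hempty.false q.1⟩
      obtain ⟨a, b, hab⟩ := hΓnt
      exact hab (Subtype.ext (funext fun q => (IsEmpty.false q).elim))
    refine ⟨hne, fun p q => ?_⟩
    -- the indicator of the component of p
    have hcompat : ∀ (a b : X.pt), a ≤ b →
        (Relation.EqvGen (fun a b : X.pt => a ≤ b) p a ↔
          Relation.EqvGen (fun a b : X.pt => a ≤ b) p b) := fun a b hab =>
      ⟨fun h => h.trans _ _ _ (Relation.EqvGen.rel _ _ hab),
       fun h => h.trans _ _ _ (Relation.EqvGen.symm _ _ (Relation.EqvGen.rel _ _ hab))⟩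
    let e : X.sectRing Set.univ := ⟨fun a =>
      if Relation.EqvGen (fun a b : X.pt => a ≤ b) p a.1 then 1 else 0, by
        intro a b hab
        by_cases h : Relation.EqvGen (fun a b : X.pt => a ≤ b) p a.1
        · have h' := (hcompat a.1 b.1 hab).mp h
          simp only [if_pos h, if_pos h', map_one]
        · have h' : ¬ Relation.EqvGen (fun a b : X.pt => a ≤ b) p b.1 :=
            fun hb => h ((hcompat a.1 b.1 hab).mpr hb)
          simp only [if_neg h, if_neg h', map_zero]⟩
    have he : IsIdempotentElem e := by
      apply Subtype.ext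
      funext a
      show (if Relation.EqvGen (fun a b : X.pt => a ≤ b) p a.1 then (1 : X.ring a.1) else 0) *
          (if Relation.EqvGen (fun a b : X.pt => a ≤ b) p a.1 then (1 : X.ring a.1) else 0) =
          (if Relation.EqvGen (fun a b : X.pt => a ≤ b) p a.1 then (1 : X.ring a.1) else 0)
      split_ifs <;> simp
    have hp : e.1 ⟨p, trivial⟩ = 1 := if_pos (Relation.EqvGen.refl p)
    rcases hΓid e he with h0 | h1
    · exfalso
      have : e.1 ⟨p, trivial⟩ = 0 := by rw [h0]; rfl
      rw [hp] at this
      exact hnt p this.symm
    · have : e.1 ⟨q, trivial⟩ = 1 := by rw [h1]; rfl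
      by_contra hq
      have h2 : e.1 ⟨q, trivial⟩ = 0 := if_neg hq
      rw [h2] at this
      exact hnt q this
  · rintro ⟨⟨p0⟩, hconn⟩
    refine ⟨⟨0, 1, fun h => hnt p0 ?_⟩, fun e he => ?_⟩
    · exact congrArg (fun s : X.sectRing Set.univ => s.1 ⟨p0, trivial⟩) h
    · have hid : ∀ a : (Set.univ : Set X.pt), e.1 a = 0 ∨ e.1 a = 1 := fun a =>
        (hpw' a.1).2 (e.1 a) (congrArg (fun s : X.sectRing Set.univ => s.1 a) he)
      have hstep : ∀ a b : X.pt, a ≤ b → (e.1 ⟨a, trivial⟩ = 0 ↔ e.1 ⟨b, trivial⟩ = 0) := by
        intro a b hab
        have hres := e.2 ⟨a, trivial⟩ ⟨b, trivial⟩ hab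
        constructor
        · intro h; rw [← hres, h, map_zero]
        · intro h
          rcases hid ⟨a, trivial⟩ with h0 | h1
          · exact h0
          · exfalso
            rw [h1, map_one, h] at hres
            exact hnt b hres.symm
      have hall : ∀ a b : X.pt, Relation.EqvGen (fun a b : X.pt => a ≤ b) a b →
          (e.1 ⟨a, trivial⟩ = 0 ↔ e.1 ⟨b, trivial⟩ = 0) := by
        intro a b hab
        induction hab with
        | rel a b h => exact hstep a b h
        | refl a => exact Iff.rfl
        | symm a b _ ih => exact ih.symm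
        | trans a b c _ _ ih1 ih2 => exact ih1.trans ih2
      rcases hid ⟨p0, trivial⟩ with h0 | h1
      · left
        apply Subtype.ext
        funext a
        exact (hall p0 a.1 (hconn p0 a.1)).mp h0
      · right
        apply Subtype.ext
        funext a
        rcases hid a with ha0 | ha1
        · exfalso
          have := (hall p0 a.1 (hconn p0 a.1)).mpr ha0
          rw [h1] at this
          exact hnt p0 this.symm
        · exact ha1

end Groth.Agent.S15610
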