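import Groth.Statements.S15613
import Groth.Agent.H78.SF

set_option autoImplicit false
set_option maxHeartbeats 400000
universe u
open SchFin SchFin.GeomPt

namespace Groth.Agent.S15613

open SchFin in
/-- For a geometric point of a schematic finite space with values in an algebraically closed field,
hitting the point x with ring map from the ring of x to the field, the kernel of that ring map does
not lift to any point strictly above x: no prime of the ring of such a point contracts to it along
the restriction map. -/
theorem result (X : RSpace.{u}) (hX : X.IsSchematic) {Ω : Type u} [Field Ω]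
    [IsAlgClosed Ω] (ξ : GeomPt X Ω) {x' : X.pt} (hx : ξ.base < x') (P : Ideal (X.ring x')) [P.IsPrime] :
    P.comap (X.res hx.le) ≠ RingHom.ker ξ.toField := by
  intro hP
  letI : Algebra (X.ring ξ.base) (X.ring x') := (X.res hx.le).toAlgebra
  letI : Algebra (X.ring ξ.base) Ω := ξ.toField.toAlgebra
  have hsub : Subsingleton (TensorProduct (X.ring ξ.base) (X.ring x') Ω) :=
    Groth.Agent.H78.SF.geom_tensor_subsingleton ξ hx
  haveI hprime : (RingHom.ker ξ.toField).IsPrime := RingHom.ker_isPrime _
  have hmem : (⟨RingHom.ker ξ.toField, hprime⟩ : PrimeSpectrum (X.ring ξ.base)) ∈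
      Set.range (PrimeSpectrum.comap (algebraMap (X.ring ξ.base) (X.ring x'))) :=
    ⟨⟨P, inferInstance⟩, PrimeSpectrum.ext hP⟩
  have hnt : Nontrivial (TensorProduct (X.ring ξ.base) (RingHom.ker ξ.toField).ResidueField (X.ring x')) :=
    (PrimeSpectrum.nontrivial_iff_mem_rangeComap ⟨RingHom.ker ξ.toField, hprime⟩).mpr hmem
  let lft : (RingHom.ker ξ.toField).ResidueField →+* Ω :=
    Ideal.ResidueField.lift (RingHom.ker ξ.toField) ξ.toField le_rfl (by
      intro a ha
      show IsUnit (ξ.toField a)
      exact isUnit_iff_ne_zero.mpr (fun h0 => ha (RingHom.mem_ker.mpr h0)))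
  letI : Algebra (RingHom.ker ξ.toField).ResidueField Ω := lft.toAlgebra
  haveI : IsScalarTower (X.ring ξ.base) (RingHom.ker ξ.toField).ResidueField Ω :=
    IsScalarTower.of_algebraMap_eq (fun a => (Ideal.ResidueField.lift_algebraMap _ _ _ _ a).symm)
  have e := TensorProduct.AlgebraTensorModule.cancelBaseChange (X.ring ξ.base)
    (RingHom.ker ξ.toField).ResidueField (RingHom.ker ξ.toField).ResidueField Ω (X.ring x')
  haveI : Nontrivial (TensorProduct (RingHom.ker ξ.toField).ResidueField Ω
      (TensorProduct (X.ring ξ.base) (RingHom.ker ξ.toField).ResidueField (X.ring x'))) :=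
    inferInstance
  have hsub' : Subsingleton (TensorProduct (X.ring ξ.base) Ω (X.ring x')) :=
    (TensorProduct.comm (X.ring ξ.base) Ω (X.ring x')).toEquiv.subsingleton
  have hsub'' : Subsingleton (TensorProduct (RingHom.ker ξ.toField).ResidueField Ω
      (TensorProduct (X.ring ξ.base) (RingHom.ker ξ.toField).ResidueField (X.ring x'))) :=
    e.toEquiv.subsingleton
  exact false_of_nontrivial_of_subsingleton (TensorProduct (RingHom.ker ξ.toField).ResidueField Ω
      (TensorProduct (X.ring ξ.base) (RingHom.ker ξ.toField).ResidueField (X.ring x')))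

end Groth.Agent.S15613
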