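import Groth.Statements.S15625
import Groth.Agent.H78.SF7

set_option autoImplicit false
set_option maxHeartbeats 400000
universe u
open SchFin SchFin.FEt

namespace Groth.Agent.S15625

open SchFin CategoryTheory in
/-- Over a schematic finite space, every morphism of étale covers factors, inside the category of étale
covers, as a morphism that is surjective at every point followed by one that is injective at every
point (in particular as an epimorphism followed by a monomorphism; the middle object is the quotient
by the kernel). -/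
theorem result (X : RSpace.{u}) (hX : X.IsSchematic) {A B : FEt X}
    (f : A ⟶ B) :
    ∃ (Q : FEt X) (g : A ⟶ Q) (h : Q ⟶ B), g ≫ h = f ∧ (∀ p : X.pt, Function.Surjective (g.hom.app p)) ∧
      ∀ p : X.pt, Function.Injective (h.hom.app p) := by
  obtain ⟨E, hE⟩ := Groth.Agent.H78.SF.exists_kerFam hX.1 A.property B.property f.hom
  have hcancel : ∀ p, 1 - E.compl.e p = E.e p := fun p => sub_sub_cancel 1 (E.e p)
  have hker : ∀ p, ∀ a ∈ Ideal.span {1 - E.compl.e p}, f.hom.app p a = 0 := by
    intro p a ha
    rw [hcancel p, ← hE p] at ha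
    exact ha
  let Q : FEt X := ⟨Groth.Agent.H78.SF.pieceAlg A.obj E.compl,
    Groth.Agent.H78.SF.pieceAlg_isEtCover A.obj A.property E.compl⟩
  let g : A ⟶ Q := ObjectProperty.homMk (Groth.Agent.H78.SF.toPiece A.obj E.compl)
  let h : Q ⟶ B := ObjectProperty.homMk
    ⟨fun p => Ideal.Quotient.liftₐ _ (f.hom.app p) (hker p), fun {p q} hpq b => by
      obtain ⟨a, rfl⟩ := Ideal.Quotient.mk_surjective b
      exact f.hom.compat hpq a⟩
  refine ⟨Q, g, h, ?_, fun p => Groth.Agent.H78.SF.toPiece_surjective _ _ p, fun p => ?_⟩
  · apply ObjectProperty.hom_ext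
    apply Alg.hom_ext
    intro p
    apply AlgHom.ext
    intro a
    rfl
  · rw [injective_iff_map_eq_zero]
    intro b hb
    obtain ⟨a, rfl⟩ := Ideal.Quotient.mk_surjective b
    have h1 : f.hom.app p a = 0 := hb
    have h2 : a ∈ Ideal.span {1 - E.compl.e p} := by
      rw [hcancel p, ← hE p]; exact h1
    exact Ideal.Quotient.eq_zero_iff_mem.mpr h2

end Groth.Agent.S15625
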