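import Groth.Statements.S15629
import Groth.Agent.H78.SF15

set_option autoImplicit false
set_option maxHeartbeats 400000
universe u
open SchFin SchFin.FEt

namespace Groth.Agent.S15629

open SchFin CategoryTheory CategoryTheory.Limits in
/-- Over a well-connected schematic finite space, the category of étale covers has, for every finite
group G, limits of diagrams indexed by the one-object category of G; that is, for every action of G
on an étale cover A there is an étale cover (the invariants of A, pointwise) through which exactly
the G-invariant morphisms into A factor. (The published statement speaks of contravariant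
categorical quotients by finite subgroups of the automorphism group; an action through a group
homomorphism has the same invariants as its image.) (This row carries as a hypothesis the local
triviality of étale covers — for every étale cover A there are a quasi-coherent algebra B, finite
and faithfully flat at every point, and a natural number n with B_p ⊗ A_p isomorphic to B_p^n as a
B_p-algebra at every point p — which holds for well-connected schematic spaces, the published proof
of that fact going by way of an equivalence of quasi-coherent modules along qc-isomorphisms recalled
without proof; the published statement does not carry it.) -/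
theorem result (X : RSpace.{u}) (hX : X.IsSchematic) (hwc : X.IsWellConnected)
    (hlt : ∀ A : FEt X, ∃ (B : Alg X) (n : ℕ), B.IsCovering ∧
      ∀ p : X.pt, Nonempty (TensorProduct (X.ring p) (B.carrier p) (A.obj.carrier p) ≃ₐ[B.carrier p] (Fin n → B.carrier p)))
    (G : Type u) [Group G] [Finite G] : HasLimitsOfShape (SingleObj G) (FEt X) := by
  refine ⟨fun K => ?_⟩
  let ρ : G → ((K.obj (SingleObj.star G)).obj ⟶ (K.obj (SingleObj.star G)).obj) :=
    fun g => (K.map (show SingleObj.star G ⟶ SingleObj.star G from g)).hom
  have hE := Groth.Agent.H78.SF.invAlg_isEtCover hX.1 hwc.2 (K.obj (SingleObj.star G)) ρ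
    (hlt (K.obj (SingleObj.star G)))
  let E : FEt X := ⟨Groth.Agent.H78.SF.invAlg (K.obj (SingleObj.star G)).obj ρ, hE⟩
  let incl : E ⟶ K.obj (SingleObj.star G) :=
    ObjectProperty.homMk (Groth.Agent.H78.SF.invIncl (K.obj (SingleObj.star G)).obj ρ)
  have hinv : ∀ g : G, incl ≫ K.map (show SingleObj.star G ⟶ SingleObj.star G from g) = incl := by
    intro g
    apply ObjectProperty.hom_ext
    exact Groth.Agent.H78.SF.invIncl_comp (K.obj (SingleObj.star G)).obj ρ g
  have hnat : ∀ (a b : SingleObj G) (g : a ⟶ b),
      ((Functor.const (SingleObj G)).obj E).map g ≫ incl = incl ≫ K.map g := by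
    intro a b g
    exact (Category.id_comp incl).trans (hinv g).symm
  refine HasLimit.mk ⟨{ pt := E, π := { app := fun _ => incl, naturality := hnat } }, ?_⟩
  have hs : ∀ (s : Cone K) (g : G), (s.π.app (SingleObj.star G)).hom ≫ ρ g =
      (s.π.app (SingleObj.star G)).hom := by
    intro s g
    have h1 : 𝟙 s.pt ≫ s.π.app (SingleObj.star G) = s.π.app (SingleObj.star G) ≫
        K.map (show SingleObj.star G ⟶ SingleObj.star G from g) :=
      s.π.naturality (show SingleObj.star G ⟶ SingleObj.star G from g)
    have h2 := (Category.id_comp (s.π.app (SingleObj.star G))).symm.trans h1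
    exact (congrArg (fun k => k.hom) h2).symm
  refine
    { lift := fun s => ObjectProperty.homMk
        (Groth.Agent.H78.SF.invLift ρ (s.π.app (SingleObj.star G)).hom (hs s))
      fac := fun s j => ?_
      uniq := fun s m h => ?_ }
  · apply ObjectProperty.hom_ext
    exact Groth.Agent.H78.SF.invLift_incl ρ (s.π.app (SingleObj.star G)).hom (hs s)
  · apply ObjectProperty.hom_ext
    apply Groth.Agent.H78.SF.invIncl_cancel ρ
    exact (congrArg (fun k => k.hom) (h (SingleObj.star G))).trans
      (Groth.Agent.H78.SF.invLift_incl ρ (s.π.app (SingleObj.star G)).hom (hs s)).symm

end Groth.Agent.S15629
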