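import Groth.Statements.S1563
import Groth.Agent.H63.StalkBaseChange
import Groth.Agent.H8.FlatBaseChange
import Groth.Agent.S0565

set_option autoImplicit false
universe u
open CategoryTheory CategoryTheory.Limits AlgebraicGeometry
open Variety

namespace Groth.Agent.S1563

/-- Geometric regularity descends along a morphism f of locally Noetherian k-schemes which is flat at
the point x (the map of local rings at x is flat): if X has it at x then Y has it at f(x). -/
theorem result (k : Type u) [Field k] (X Y : Scheme.{u}) [X.Over (Spec (CommRingCat.of k))] [Y.Over (Spec (CommRingCat.of k))]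
    [IsLocallyNoetherian X] [IsLocallyNoetherian Y] (f : X ⟶ Y) (hf : f ≫ (Y ↘ (Spec (CommRingCat.of k))) = X ↘ (Spec (CommRingCat.of k)))
    (x : X) (hflat : (f.stalkMap x).hom.Flat) (hx : Curv2.IsGeomRegularAt k X x) :
    Curv2.IsGeomRegularAt k Y (f.base x) := by
  intro K _ _ hfg y' hy'
  haveI : Algebra.EssFiniteType k K := IntermediateField.fg_top_iff.mp hfg
  let ι : Spec (CommRingCat.of K) ⟶ Spec (CommRingCat.of k) :=
    Spec.map (CommRingCat.ofHom (algebraMap k K))
  -- the base change of `f`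
  let fK : Curv2.bc k X K ⟶ Curv2.bc k Y K :=
    Limits.pullback.map (X ↘ Spec (CommRingCat.of k)) ι (Y ↘ Spec (CommRingCat.of k)) ι f (𝟙 _) (𝟙 _)
      (by rw [hf, Category.comp_id]) (by rw [Category.comp_id, Category.id_comp])
  have hfK1 : fK ≫ Curv2.bcFst k Y K = Curv2.bcFst k X K ≫ f := Limits.pullback.lift_fst _ _ _
  have hfK2 : fK ≫ Curv2.bcSnd k Y K = Curv2.bcSnd k X K :=
    (Limits.pullback.lift_snd _ _ _).trans (Category.comp_id _)
  have hc : IsPullback fK (Curv2.bcFst k X K) (Curv2.bcFst k Y K) f := by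
    refine IsPullback.of_right ?_ hfK1
      (IsPullback.of_hasPullback (Y ↘ Spec (CommRingCat.of k)) ι).flip
    rw [hfK2, hf]
    exact (IsPullback.of_hasPullback (X ↘ Spec (CommRingCat.of k)) ι).flip
  obtain ⟨x', hx'1, hx'2⟩ : ∃ p : ↥(Curv2.bc k X K), fK.base p = y' ∧
      (Curv2.bcFst k X K).base p = x := by
    obtain ⟨z, hz₁, hz₂⟩ := Scheme.Pullback.exists_preimage_pullback y' x hy'
    refine ⟨hc.isoPullback.inv.base z, ?_, ?_⟩
    · rw [← Scheme.Hom.comp_apply, hc.isoPullback_inv_fst, hz₁]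
    · rw [← Scheme.Hom.comp_apply, hc.isoPullback_inv_snd, hz₂]
  subst hx'2
  subst hx'1
  haveI hreg : IsRegularLocalRing ((Curv2.bc k X K).presheaf.stalk x') := hx K hfg x' rfl
  have hfl : (fK.stalkMap x').hom.Flat :=
    Groth.Agent.H8.flat_stalkMap_baseChange hc x' hflat
  -- Noetherianity of the local ring of `Y_K`
  letI algk := Groth.Agent.H63.StalkBaseChange.stalkAlgebra (Y ↘ Spec (CommRingCat.of k))
    (f.base ((Curv2.bcFst k X K).base x'))
  obtain ⟨Q, hQ, -, ⟨e⟩⟩ := Groth.Agent.H63.StalkBaseChange.exists_prime_ringEquiv_stalk (K := K)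
    (Y ↘ Spec (CommRingCat.of k)) (Curv2.bcFst k Y K) (Curv2.bcSnd k Y K)
    (IsPullback.of_hasPullback _ _) (fK.base x') (f.base ((Curv2.bcFst k X K).base x')) hy'
  haveI hN1 : IsNoetherianRing (TensorProduct k
      (Y.presheaf.stalk (f.base ((Curv2.bcFst k X K).base x'))) K) :=
    Algebra.EssFiniteType.isNoetherianRing
      (Y.presheaf.stalk (f.base ((Curv2.bcFst k X K).base x'))) _
  haveI hN2 : IsNoetherianRing (TensorProduct k K
      (Y.presheaf.stalk (f.base ((Curv2.bcFst k X K).base x')))) :=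
    isNoetherianRing_of_ringEquiv _ (Algebra.TensorProduct.comm k _ K).toRingEquiv
  haveI hN3 : IsNoetherianRing (Localization.AtPrime Q) := inferInstance
  haveI hN : IsNoetherianRing ((Curv2.bc k Y K).presheaf.stalk (fK.base x')) :=
    isNoetherianRing_of_ringEquiv _ e
  letI := (fK.stalkMap x').hom.toAlgebra
  haveI : IsLocalHom (algebraMap ((Curv2.bc k Y K).presheaf.stalk (fK.base x'))
      ((Curv2.bc k X K).presheaf.stalk x')) :=
    inferInstanceAs (IsLocalHom (fK.stalkMap x').hom)
  haveI : Module.Flat ((Curv2.bc k Y K).presheaf.stalk (fK.base x'))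
      ((Curv2.bc k X K).presheaf.stalk x') := hfl
  exact Groth.Agent.S0565.result _ ((Curv2.bc k X K).presheaf.stalk x')

end Groth.Agent.S1563
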