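import Groth.Statements.S15631
import Groth.Agent.H78.SF11
import Groth.Agent.S15630

set_option autoImplicit false
set_option maxHeartbeats 400000
universe u
open SchFin SchFin.GeomPt

namespace Groth.Agent.S15631

open SchFin CategoryTheory in
/-- For a well-connected schematic finite space and a geometric point with values in an algebraically
closed field, the fibre functor at that point (an étale cover A goes to the prime spectrum of Ω ⊗
A_x, x the point hit), on the opposite of the category of étale covers, reflects isomorphisms. (This
row carries as a hypothesis the local triviality of étale covers — for every étale cover A there are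
a quasi-coherent algebra B, finite and faithfully flat at every point, and a natural number n with
B_p ⊗ A_p isomorphic to B_p^n as a B_p-algebra at every point p — which holds for well-connected
schematic spaces, the published proof of that fact going by way of an equivalence of quasi-coherent
modules along qc-isomorphisms recalled without proof; the published statement does not carry it.) -/
theorem result (X : RSpace.{u}) (hX : X.IsSchematic)
    (hwc : X.IsWellConnected)
    (hlt : ∀ A : FEt X, ∃ (B : Alg X) (n : ℕ), B.IsCovering ∧
      ∀ p : X.pt, Nonempty (TensorProduct (X.ring p) (B.carrier p) (A.obj.carrier p) ≃ₐ[B.carrier p] (Fin n → B.carrier p)))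
    {Ω : Type u} [Field Ω] [IsAlgClosed Ω] (ξ : GeomPt X Ω) : ξ.fibFunctor.ReflectsIsomorphisms := by
  refine ⟨fun {A B} f hiso => ?_⟩
  have hfin : X.IsFinSp := hX.1
  have hbij : Function.Bijective (ξ.fibMap f.unop.hom) := by
    have hl : Function.LeftInverse (fun y => (asIso (ξ.fibFunctor.map f)).inv y)
        (fun x => (asIso (ξ.fibFunctor.map f)).hom x) :=
      fun x => FintypeCat.hom_inv_id_apply (asIso (ξ.fibFunctor.map f)) x
    have hr : Function.RightInverse (fun y => (asIso (ξ.fibFunctor.map f)).inv y)
        (fun x => (asIso (ξ.fibFunctor.map f)).hom x) :=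
      fun y => FintypeCat.inv_hom_id_apply (asIso (ξ.fibFunctor.map f)) y
    have hb : Function.Bijective (fun x => (asIso (ξ.fibFunctor.map f)).hom x) :=
      ⟨hl.injective, hr.surjective⟩
    exact hb
  have hinj := Groth.Agent.H78.SF.injective_of_fibMap_surjective hfin hwc ξ f.unop hbij.2
  obtain ⟨nA, hnA⟩ := Groth.Agent.H78.SF.exists_rank_const hfin hwc A.unop.obj A.unop.property
  obtain ⟨nB, hnB⟩ := Groth.Agent.H78.SF.exists_rank_const hfin hwc B.unop.obj B.unop.property
  have hcA := Groth.Agent.H78.SF.card_fib_eq ξ A.unop.obj A.unop.property nA (hnA ξ.base)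
  have hcB := Groth.Agent.H78.SF.card_fib_eq ξ B.unop.obj B.unop.property nB (hnB ξ.base)
  have hcard : Nat.card (ξ.Fib A.unop.obj) = Nat.card (ξ.Fib B.unop.obj) :=
    Nat.card_eq_of_bijective _ hbij
  have hnn : nA = nB := by rw [← hcA, ← hcB, hcard]
  haveI : IsIso f.unop := Groth.Agent.S15630.result X hX hwc hlt f.unop hinj
    (fun p P => by rw [hnB p P, hnA p P, hnn])
  exact (isIso_unop_iff f).mp inferInstance

end Groth.Agent.S15631
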