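import Groth.Statements.S15632
import Groth.Agent.H78.SF16
import Groth.Agent.S15631

set_option autoImplicit false
set_option maxHeartbeats 400000
universe u
open SchFin SchFin.GeomPt

namespace Groth.Agent.S15632

open SchFin CategoryTheory in
/-- For a well-connected schematic finite space and a geometric point with values in an algebraically
closed field, the opposite of the category of étale covers, with the fibre functor at that point (an
étale cover A goes to the prime spectrum of Ω ⊗ A_x, x the point hit), is a Galois category: a
pre-Galois category for which that functor is a fibre functor. (The published statement assumes the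
space only connected and reduces to the well-connected case through a pointwise construction and a
comparison of geometric points resting on a result recalled without proof; this row takes the space
well-connected. It carries two hypotheses the published statement does not: the local triviality of
étale covers — for every étale cover A, a quasi-coherent algebra B, finite and faithfully flat at
every point, and n with B_p ⊗ A_p isomorphic to B_p^n as B_p-algebras at every point — and the
pointwise surjectivity of epimorphisms of étale covers; both hold for every such space, each being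
proved in the published text by way of a result on quasi-coherent modules recalled without proof.) -/
theorem result (X : RSpace.{u}) (hX : X.IsSchematic)
    (hwc : X.IsWellConnected)
    (hlt : ∀ A : FEt X, ∃ (B : Alg X) (n : ℕ), B.IsCovering ∧
      ∀ p : X.pt, Nonempty (TensorProduct (X.ring p) (B.carrier p) (A.obj.carrier p) ≃ₐ[B.carrier p] (Fin n → B.carrier p)))
    (hepi : ∀ (A B : FEt X) (f : A ⟶ B), Epi f → ∀ p : X.pt, Function.Surjective (f.hom.app p))
    {Ω : Type u} [Field Ω] [IsAlgClosed Ω] (ξ : GeomPt X Ω) :
    ∃ h : PreGaloisCategory (FEt X)ᵒᵖ, @PreGaloisCategory.FiberFunctor (FEt X)ᵒᵖ _ h ξ.fibFunctor := by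
  haveI : Limits.HasTerminal (FEt X) := (Groth.Agent.S15622.result X hX).1
  haveI : Limits.HasBinaryProducts (FEt X) := (Groth.Agent.S15622.result X hX).2
  haveI : Limits.HasFiniteProducts (FEt X) := hasFiniteProducts_of_has_binary_and_terminal
  haveI : Limits.HasInitial (FEt X) := Groth.Agent.H78.SF.hasInitial_FEt X
  haveI : Limits.HasPushouts (FEt X) := Groth.Agent.H78.SF.hasPushouts_FEt hX.1
  have hq : ∀ (G : Type u) [Group G] [Finite G] (K : SingleObj G ⥤ (FEt X)ᵒᵖ),
      ∃ c : Limits.Cocone K, Nonempty (Limits.IsColimit c) ∧
        Nonempty (Limits.IsColimit (ξ.fibFunctor.mapCocone c)) :=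
    fun G _ _ K => Groth.Agent.H78.SF.quot_colimit hX.1 hwc.2 hlt ξ G K
  have h : PreGaloisCategory (FEt X)ᵒᵖ :=
    { hasTerminal := inferInstance
      hasPullbacks := inferInstance
      hasFiniteCoproducts := inferInstance
      hasQuotientsByFiniteGroups := fun G _ _ => ⟨fun K => by
        obtain ⟨c, ⟨hc⟩, _⟩ := hq G K
        exact Limits.HasColimit.mk ⟨c, hc⟩⟩
      monoInducesIsoOnDirectSummand := fun {Xo Yo} i _ =>
        Groth.Agent.H78.SF.mono_summand hX hepi i }
  refine ⟨h, ?_⟩
  exact
    { preservesTerminalObjects := Groth.Agent.H78.SF.pres_terminal ξ
      preservesPullbacks := Groth.Agent.H78.SF.pres_pullbacks hX.1 ξ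
      preservesFiniteCoproducts := Groth.Agent.H78.SF.pres_finCoprod hX ξ
      preservesEpis := Groth.Agent.H78.SF.pres_epi hX ξ
      preservesQuotientsByFiniteGroups := fun G _ _ => ⟨fun {K} => by
        obtain ⟨c, ⟨hc⟩, ⟨hc'⟩⟩ := hq G K
        exact Limits.preservesColimit_of_preserves_colimit_cocone hc hc'⟩
      reflectsIsos := Groth.Agent.S15631.result X hX hwc hlt ξ }

end Groth.Agent.S15632
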