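import Groth.Statements.S1569
import Groth.Agent.H8.Divisor
import Mathlib.RingTheory.DiscreteValuationRing.TFAE
import Mathlib.RingTheory.Filtration
import Mathlib.AlgebraicGeometry.IdealSheaf.Subscheme
import Mathlib.AlgebraicGeometry.Properties

set_option autoImplicit false
universe u
open CategoryTheory CategoryTheory.Limits AlgebraicGeometry
open Divisors

namespace Groth.Agent.S1569


/-- A Noetherian local ring whose maximal ideal is generated by a nonzerodivisor is a DVR. -/
theorem isDomain_and_dvr_of_maximalIdeal_eq_span {A : Type*} [CommRing A] [IsLocalRing A]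
    [IsNoetherianRing A] (g : A) (hg : g ∈ nonZeroDivisors A)
    (hm : IsLocalRing.maximalIdeal A = Ideal.span {g}) :
    ∃ _ : IsDomain A, IsDiscreteValuationRing A := by
  have hgk : ∀ k : ℕ, g ^ k ≠ 0 := fun k => nonZeroDivisors.ne_zero (pow_mem hg k)
  have hmk : ∀ k : ℕ, IsLocalRing.maximalIdeal A ^ k = Ideal.span {g ^ k} := fun k => by
    rw [hm, Ideal.span_singleton_pow]
  have key : ∀ x : A, x ≠ 0 → ∃ (n : ℕ) (u : A), IsUnit u ∧ x = u * g ^ n := by
    intro x hx
    have hinf := Ideal.iInf_pow_eq_bot_of_isLocalRing (IsLocalRing.maximalIdeal A)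
      (Ideal.IsPrime.ne_top inferInstance)
    have hex : ∃ n, x ∉ IsLocalRing.maximalIdeal A ^ n := by
      by_contra hcon
      push_neg at hcon
      have : x ∈ ⨅ i : ℕ, IsLocalRing.maximalIdeal A ^ i := (Ideal.mem_iInf).mpr hcon
      rw [hinf, Ideal.mem_bot] at this
      exact hx this
    classical
    have hn : x ∉ IsLocalRing.maximalIdeal A ^ (Nat.find hex) := Nat.find_spec hex
    have hn0 : Nat.find hex ≠ 0 := by
      intro h0
      rw [h0, pow_zero, Ideal.one_eq_top] at hn
      exact hn Submodule.mem_top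
    obtain ⟨k, hk⟩ := Nat.exists_eq_succ_of_ne_zero hn0
    have hk' : x ∈ IsLocalRing.maximalIdeal A ^ k := by
      by_contra hcon
      exact Nat.find_min hex (by omega : k < Nat.find hex) hcon
    rw [hmk, Ideal.mem_span_singleton'] at hk'
    obtain ⟨u, hu⟩ := hk'
    refine ⟨k, u, ?_, hu.symm⟩
    by_contra hnu
    have hum : u ∈ IsLocalRing.maximalIdeal A := (IsLocalRing.mem_maximalIdeal u).mpr hnu
    rw [hm, Ideal.mem_span_singleton'] at hum
    obtain ⟨v, hv⟩ := hum
    apply hn
    rw [hk, hmk, Ideal.mem_span_singleton']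
    exact ⟨v, by rw [← hu, ← hv, pow_succ]; ring⟩
  haveI : NoZeroDivisors A := ⟨fun {x y} hxy => by
    by_contra hcon
    push_neg at hcon
    obtain ⟨a, u, hu, hx⟩ := key x hcon.1
    obtain ⟨b, v, hv, hy⟩ := key y hcon.2
    have h1 : (u * v) * g ^ (a + b) = 0 := by rw [← hxy, hx, hy, pow_add]; ring
    have h2 : g ^ (a + b) = 0 := (hu.mul hv).mul_right_eq_zero.mp h1
    exact hgk _ h2⟩
  haveI : IsDomain A := NoZeroDivisors.to_isDomain A
  refine ⟨inferInstance, ?_⟩
  have hnf : ¬ IsField A := by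
    intro hf
    have h0 : IsLocalRing.maximalIdeal A = ⊥ := IsLocalRing.isField_iff_maximalIdeal_eq.mp hf
    rw [hm, Ideal.span_singleton_eq_bot] at h0
    exact hgk 1 (by simpa using h0)
  have h5 : (IsLocalRing.maximalIdeal A).IsPrincipal := ⟨⟨g, hm⟩⟩
  exact ((IsDiscreteValuationRing.TFAE A hnf).out 0 4).mpr h5

/-- On a Noetherian scheme, an effective Cartier divisor which is integral as a closed subscheme has a
discrete valuation ring as the local ring of the ambient scheme at its generic point. -/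
theorem result (X : Scheme.{u}) [IsNoetherian X]
    (D : X.IdealSheafData) (hD : BlowUp.IsEffCartierIdeal D) [IsIntegral D.subscheme]
    (ξ : X) (hξ : IsGenericPoint ξ (D.support : Set X)) :
    ∃ _ : IsDomain (X.presheaf.stalk ξ), IsDiscreteValuationRing (X.presheaf.stalk ξ) := by
  obtain ⟨U, hξU, f, hf, hI⟩ := hD ξ
  have hξD : ξ ∈ D.support := hξ.mem
  have hgen : ∀ y ∈ D.support, y ⤳ ξ → y = ξ := by
    intro y hy hyξ
    have h2 : ξ ⤳ y := hξ.specializes hy
    exact (hyξ.antisymm h2).eq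
  have hmin := Groth.Agent.H8.primeIdealOf_mem_minimalPrimes D U ξ hξU hξD hgen
  have hne : D.ideal U ≠ ⊤ := fun h => by
    have := hmin.1.2
    rw [h, top_le_iff] at this
    exact hmin.1.1.ne_top this
  have hIprime : (D.ideal U).IsPrime := by
    haveI : Nontrivial (Γ(X, U.1) ⧸ D.ideal U) := Ideal.Quotient.nontrivial_iff.mpr hne
    haveI : Nonempty ↥(Spec (CommRingCat.of (Γ(X, U.1) ⧸ D.ideal U))) :=
      inferInstanceAs (Nonempty (PrimeSpectrum (Γ(X, U.1) ⧸ D.ideal U)))
    have hne' : Nonempty ↥(Spec (D.subschemeCover.X U)) := this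
    have h1 : IsIntegral (Spec (D.subschemeCover.X U)) :=
      @isIntegral_of_isOpenImmersion _ _ (D.subschemeCover.f U) (D.subschemeCover.map_prop U)
        inferInstance hne'
    have h2 : IsDomain (Γ(X, U.1) ⧸ D.ideal U) :=
      (affine_isIntegral_iff (.of (Γ(X, U.1) ⧸ D.ideal U))).mp h1
    exact (Ideal.Quotient.isDomain_iff_prime _).mp h2
  have hpI : (U.2.primeIdealOf ⟨ξ, hξU⟩).asIdeal = D.ideal U := by
    rw [Ideal.minimalPrimes_eq_subsingleton_self] at hmin
    exact hmin
  letI := X.presheaf.algebra_section_stalk ⟨ξ, hξU⟩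
  haveI := U.2.isLocalization_stalk ⟨ξ, hξU⟩
  haveI : IsNoetherianRing Γ(X, U.1) := IsLocallyNoetherian.component_noetherian U
  haveI : IsNoetherianRing (X.presheaf.stalk ξ) :=
    IsLocalization.isNoetherianRing (U.2.primeIdealOf ⟨ξ, hξU⟩).asIdeal.primeCompl _ inferInstance
  refine isDomain_and_dvr_of_maximalIdeal_eq_span
    (algebraMap Γ(X, U.1) (X.presheaf.stalk ξ) f) ?_ ?_
  · exact IsLocalization.map_nonZeroDivisors_le
      (U.2.primeIdealOf ⟨ξ, hξU⟩).asIdeal.primeCompl _ (Submonoid.mem_map_of_mem _ hf)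
  · rw [← IsLocalization.AtPrime.map_eq_maximalIdeal (U.2.primeIdealOf ⟨ξ, hξU⟩).asIdeal
      (X.presheaf.stalk ξ), hpI, hI, Ideal.map_span, Set.image_singleton]

end Groth.Agent.S1569
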