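import Groth.Statements.S15695
import Mathlib

set_option autoImplicit false
set_option linter.style.haveILetI false
set_option linter.unusedSectionVars false
set_option linter.unusedVariables false
universe u
open CategoryTheory AlgebraicGeometry
open RatVar

namespace Groth.Agent.S15695

section Helpers

open IsLocalRing

/-- Pure algebra: spreading out a lift over the local ring of the generic point. -/
theorem ring_core (k : Type u) [Field k] (n : ℕ) (B : Type u) [CommRing B] [IsDomain B]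
    [Algebra k B] (π : MvPolynomial (Fin n) k →+* B)
    (hπk : ∀ c : k, π (algebraMap k (MvPolynomial (Fin n) k) c) = algebraMap k B c)
    (hπ : Function.Surjective π)
    (p : Ideal (MvPolynomial (Fin n) k)) [p.IsPrime] (hp : ∀ x, x ∈ p ↔ π x = 0)
    (ψ : B →+* Localization.AtPrime p)
    (hψk : ∀ c : k, ψ (algebraMap k B c) = algebraMap k (Localization.AtPrime p) c)
    (hψr : ∀ β : MvPolynomial (Fin n) k,
      residue (Localization.AtPrime p) (ψ (π β)) =
        residue (Localization.AtPrime p)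
          (algebraMap (MvPolynomial (Fin n) k) (Localization.AtPrime p) β)) :
    ∃ (h : MvPolynomial (Fin n) k) (ψh : B →+* Localization.Away h), π h ≠ 0 ∧
      (∀ c : k, ψh (algebraMap k B c) = algebraMap k (Localization.Away h) c) ∧
      ∀ b : B, IsLocalization.Away.map (Localization.Away h) (Localization.Away (π h)) π h
        (ψh b) = algebraMap B (Localization.Away (π h)) b := by
  classical
  obtain ⟨d, hd⟩ := IsLocalization.exist_integer_multiples_of_finite p.primeCompl
    (fun i : Fin n => ψ (π (MvPolynomial.X i)))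
  have hd' : ∀ i : Fin n, ∃ γ : MvPolynomial (Fin n) k,
      algebraMap (MvPolynomial (Fin n) k) (Localization.AtPrime p) γ =
        (d : MvPolynomial (Fin n) k) • ψ (π (MvPolynomial.X i)) :=
    fun i => RingHom.mem_rangeS.mp (hd i)
  choose γ hγ using hd'
  obtain ⟨h, hhd⟩ : ∃ h : MvPolynomial (Fin n) k, h = (d : MvPolynomial (Fin n) k) := ⟨_, rfl⟩
  have hhp : h ∉ p := by
    rw [hhd]
    exact d.2
  have hπh : π h ≠ 0 := fun h0 => hhp ((hp h).mpr h0)
  have hunit : IsUnit (algebraMap (MvPolynomial (Fin n) k) (Localization.AtPrime p) h) := by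
    rw [hhd]
    exact IsLocalization.map_units (Localization.AtPrime p) d
  obtain ⟨hS, hhS⟩ : ∃ s : Submonoid.powers h, (s : MvPolynomial (Fin n) k) = h :=
    ⟨⟨h, Submonoid.mem_powers h⟩, rfl⟩
  have e2 : ∀ i, IsLocalization.mk' (Localization.Away h) (γ i) hS *
      algebraMap (MvPolynomial (Fin n) k) (Localization.Away h) h =
      algebraMap (MvPolynomial (Fin n) k) (Localization.Away h) (γ i) := by
    intro i
    have := IsLocalization.mk'_spec (Localization.Away h) (γ i) hS
    rwa [hhS] at this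
  obtain ⟨Ψ, hΨ⟩ : ∃ Ψ : MvPolynomial (Fin n) k →ₐ[k] Localization.Away h,
      ∀ i, Ψ (MvPolynomial.X i) = IsLocalization.mk' (Localization.Away h) (γ i) hS :=
    ⟨MvPolynomial.aeval (fun i => IsLocalization.mk' (Localization.Away h) (γ i) hS),
      fun i => MvPolynomial.aeval_X _ i⟩
  have hlu : ∀ y : Submonoid.powers h,
      IsUnit (algebraMap (MvPolynomial (Fin n) k) (Localization.AtPrime p)
        (y : MvPolynomial (Fin n) k)) := by
    rintro ⟨_, m, rfl⟩
    rw [map_pow]
    exact hunit.pow m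
  obtain ⟨lam, hlam⟩ : ∃ lam : Localization.Away h →+* Localization.AtPrime p,
      ∀ x, lam (algebraMap (MvPolynomial (Fin n) k) (Localization.Away h) x) =
        algebraMap (MvPolynomial (Fin n) k) (Localization.AtPrime p) x :=
    ⟨IsLocalization.lift hlu, fun x => IsLocalization.lift_eq hlu x⟩
  have hlam_inj : Function.Injective lam := by
    rw [injective_iff_map_eq_zero]
    intro x hx
    obtain ⟨⟨a, s⟩, rfl⟩ := IsLocalization.mk'_surjective (Submonoid.powers h) x
    have h1 : algebraMap (MvPolynomial (Fin n) k) (Localization.AtPrime p) a = 0 := by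
      rw [← hlam, ← IsLocalization.mk'_spec (Localization.Away h) a s, map_mul, hx, zero_mul]
    have h2 : a = 0 := by
      have hinj := IsLocalization.injective (Localization.AtPrime p)
        (Ideal.primeCompl_le_nonZeroDivisors p)
      exact hinj (by rw [h1, map_zero])
    show IsLocalization.mk' (Localization.Away h) a s = 0
    rw [h2, IsLocalization.mk'_zero]
  have hkey : lam.comp (Ψ : MvPolynomial (Fin n) k →+* Localization.Away h) = ψ.comp π := by
    apply MvPolynomial.ringHom_ext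
    · intro c
      have l1 : lam (Ψ (algebraMap k (MvPolynomial (Fin n) k) c)) =
          algebraMap k (Localization.AtPrime p) c := by
        rw [AlgHom.commutes,
          IsScalarTower.algebraMap_apply k (MvPolynomial (Fin n) k) (Localization.Away h), hlam,
          ← IsScalarTower.algebraMap_apply]
      have l2 : ψ (π (algebraMap k (MvPolynomial (Fin n) k) c)) =
          algebraMap k (Localization.AtPrime p) c := by
        rw [hπk, hψk]
      exact l1.trans l2.symm
    · intro i
      show lam (Ψ (MvPolynomial.X i)) = ψ (π (MvPolynomial.X i))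
      rw [hΨ]
      have e3 : lam (IsLocalization.mk' (Localization.Away h) (γ i) hS) *
          algebraMap (MvPolynomial (Fin n) k) (Localization.AtPrime p) h =
          algebraMap (MvPolynomial (Fin n) k) (Localization.AtPrime p) (γ i) := by
        rw [← hlam h, ← map_mul, e2, hlam]
      have e4 : ψ (π (MvPolynomial.X i)) *
          algebraMap (MvPolynomial (Fin n) k) (Localization.AtPrime p) h =
          algebraMap (MvPolynomial (Fin n) k) (Localization.AtPrime p) (γ i) := by
        rw [hγ i, hhd, Algebra.smul_def, mul_comm]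
      exact hunit.mul_right_cancel (e3.trans e4.symm)
  have hkey' : ∀ β, lam (Ψ β) = ψ (π β) := fun β => congrArg (fun φ => φ β) hkey
  have hker : RingHom.ker π ≤
      RingHom.ker (Ψ : MvPolynomial (Fin n) k →+* Localization.Away h) := by
    intro β hβ
    rw [RingHom.mem_ker] at hβ ⊢
    apply hlam_inj
    rw [map_zero]
    exact (hkey' β).trans (by rw [hβ, map_zero])
  obtain ⟨ψh, hψh⟩ : ∃ ψh : B →+* Localization.Away h, ∀ β, ψh (π β) = Ψ β :=
    ⟨RingHom.liftOfSurjective π hπ ⟨(Ψ : MvPolynomial (Fin n) k →+* Localization.Away h), hker⟩,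
      fun β => RingHom.liftOfSurjective_comp_apply π hπ ⟨_, hker⟩ β⟩
  have hπγ : ∀ i, π (γ i) = π (MvPolynomial.X i) * π h := by
    intro i
    have hres : residue (Localization.AtPrime p)
        (algebraMap (MvPolynomial (Fin n) k) (Localization.AtPrime p) (γ i)) =
        residue (Localization.AtPrime p)
          (algebraMap (MvPolynomial (Fin n) k) (Localization.AtPrime p)
            (MvPolynomial.X i * h)) := by
      rw [hγ i, ← hhd, Algebra.smul_def]
      simp only [map_mul]
      rw [hψr, mul_comm]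
    have hmem : algebraMap (MvPolynomial (Fin n) k) (Localization.AtPrime p)
        (γ i - MvPolynomial.X i * h) ∈ maximalIdeal (Localization.AtPrime p) := by
      rw [← residue_eq_zero_iff, map_sub, map_sub, hres, sub_self]
    have hmem2 : γ i - MvPolynomial.X i * h ∈ p :=
      (IsLocalization.AtPrime.to_map_mem_maximal_iff (Localization.AtPrime p) p _).mp hmem
    have h0 := (hp _).mp hmem2
    rw [map_sub, map_mul, sub_eq_zero] at h0
    exact h0
  obtain ⟨πh, hπh_def, hπh_eq⟩ : ∃ πh : Localization.Away h →+* Localization.Away (π h),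
      πh = IsLocalization.Away.map (Localization.Away h) (Localization.Away (π h)) π h ∧
      ∀ x, πh (algebraMap (MvPolynomial (Fin n) k) (Localization.Away h) x) =
        algebraMap B (Localization.Away (π h)) (π x) :=
    ⟨_, rfl, fun x => IsLocalization.map_eq _ x⟩
  refine ⟨h, ψh, hπh, ?_, ?_⟩
  · intro c
    rw [← hπk, hψh, AlgHom.commutes]
  · intro b
    obtain ⟨β, rfl⟩ := hπ b
    rw [hψh, ← hπh_def]
    have hcomp : πh.comp (Ψ : MvPolynomial (Fin n) k →+* Localization.Away h) =
        (algebraMap B (Localization.Away (π h))).comp π := by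
      apply MvPolynomial.ringHom_ext
      · intro c
        show πh (Ψ (algebraMap k (MvPolynomial (Fin n) k) c)) =
          algebraMap B (Localization.Away (π h)) (π (algebraMap k (MvPolynomial (Fin n) k) c))
        rw [AlgHom.commutes,
          IsScalarTower.algebraMap_apply k (MvPolynomial (Fin n) k) (Localization.Away h), hπh_eq]
      · intro i
        show πh (Ψ (MvPolynomial.X i)) = algebraMap B (Localization.Away (π h)) (π (MvPolynomial.X i))
        rw [hΨ]
        have hu2 : IsUnit (algebraMap B (Localization.Away (π h)) (π h)) :=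
          IsLocalization.Away.algebraMap_isUnit (π h)
        have e5 : πh (IsLocalization.mk' (Localization.Away h) (γ i) hS) *
            algebraMap B (Localization.Away (π h)) (π h) =
            algebraMap B (Localization.Away (π h)) (π (γ i)) := by
          rw [← hπh_eq h, ← map_mul, e2, hπh_eq]
        have e6 : algebraMap B (Localization.Away (π h)) (π (MvPolynomial.X i)) *
            algebraMap B (Localization.Away (π h)) (π h) =
            algebraMap B (Localization.Away (π h)) (π (γ i)) := by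
          rw [← map_mul, hπγ i]
        exact hu2.mul_right_cancel (e5.trans e6.symm)
    exact congrArg (fun φ => φ β) hcomp

/-- Abstract scheme-level retraction construction. -/
theorem retract_core {X T S U' T₀ : Scheme.{u}} (f : X ⟶ S) (str : T ⟶ S)
    (j : U' ⟶ X) [IsOpenImmersion j] (tι : T₀ ⟶ T) [IsOpenImmersion tι]
    (a₀ : U' ⟶ T₀) (b₀ : T₀ ⟶ X) (hab : a₀ ≫ b₀ = j)
    (h1 : a₀ ≫ tι ≫ str = j ≫ f) (h2 : b₀ ≫ f = tι ≫ str) [Nonempty U'] :
    ∃ (U : X.Opens) (Y : T.Opens) (a : (U : Scheme.{u}) ⟶ (Y : Scheme.{u}))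
      (b : (Y : Scheme.{u}) ⟶ (U : Scheme.{u})),
      (U : Set X).Nonempty ∧ a ≫ b = 𝟙 _ ∧ a ≫ Y.ι ≫ str = U.ι ≫ f ∧
        b ≫ U.ι ≫ f = Y.ι ≫ str := by
  obtain ⟨Y₀, hY₀⟩ : ∃ Y₀ : T₀.Opens, Y₀ = b₀ ⁻¹ᵁ j.opensRange := ⟨_, rfl⟩
  have hmemY₀ : ∀ t : T₀, t ∈ Y₀ ↔ b₀ t ∈ j.opensRange := by
    intro t
    rw [hY₀]
    rfl
  have hra : Set.range a₀ ⊆ Set.range Y₀.ι := by
    rw [Scheme.Opens.range_ι]
    rintro _ ⟨u, rfl⟩
    refine (hmemY₀ _).mpr ?_
    have h3 : b₀ (a₀ u) = j u := by
      rw [← hab]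
      rfl
    rw [h3]
    exact ⟨u, rfl⟩
  obtain ⟨a', ha'⟩ : ∃ a' : U' ⟶ (Y₀ : Scheme.{u}), a' ≫ Y₀.ι = a₀ :=
    ⟨IsOpenImmersion.lift Y₀.ι a₀ hra, IsOpenImmersion.lift_fac _ _ _⟩
  have hrb : Set.range (Y₀.ι ≫ b₀) ⊆ Set.range j := by
    rintro _ ⟨y, rfl⟩
    have hy : Y₀.ι y ∈ Set.range Y₀.ι := ⟨y, rfl⟩
    rw [Scheme.Opens.range_ι] at hy
    exact (hmemY₀ _).mp hy
  obtain ⟨b', hb'⟩ : ∃ b' : (Y₀ : Scheme.{u}) ⟶ U', b' ≫ j = Y₀.ι ≫ b₀ :=
    ⟨IsOpenImmersion.lift j (Y₀.ι ≫ b₀) hrb, IsOpenImmersion.lift_fac _ _ _⟩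
  have hab' : a' ≫ b' = 𝟙 U' := by
    rw [← cancel_mono j, Category.assoc, hb', ← Category.assoc, ha', hab, Category.id_comp]
  obtain ⟨jY, hjY⟩ : ∃ jY : (Y₀ : Scheme.{u}) ⟶ T, jY = Y₀.ι ≫ tι := ⟨_, rfl⟩
  haveI : IsOpenImmersion jY := by
    rw [hjY]
    infer_instance
  have hθU : j.isoOpensRange.hom ≫ j.opensRange.ι = j := Scheme.Hom.isoOpensRange_hom_ι j
  have hθY : jY.isoOpensRange.hom ≫ jY.opensRange.ι = jY := Scheme.Hom.isoOpensRange_hom_ι jY
  have hθU' : j.isoOpensRange.inv ≫ j = j.opensRange.ι := (Iso.inv_comp_eq _).mpr hθU.symm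
  have hθY' : jY.isoOpensRange.inv ≫ jY = jY.opensRange.ι := (Iso.inv_comp_eq _).mpr hθY.symm
  refine ⟨j.opensRange, jY.opensRange, j.isoOpensRange.inv ≫ a' ≫ jY.isoOpensRange.hom,
    jY.isoOpensRange.inv ≫ b' ≫ j.isoOpensRange.hom, ?_, ?_, ?_, ?_⟩
  · obtain ⟨u⟩ := ‹Nonempty U'›
    exact ⟨j u, ⟨u, rfl⟩⟩
  · simp only [Category.assoc, Iso.hom_inv_id_assoc]
    rw [← Category.assoc a', hab', Category.id_comp, Iso.inv_hom_id]
  · simp only [Category.assoc]
    rw [← Category.assoc jY.isoOpensRange.hom, hθY, hjY, Category.assoc,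
      ← Category.assoc a', ha', h1, ← Category.assoc, hθU']
  · simp only [Category.assoc]
    rw [← Category.assoc j.isoOpensRange.hom, hθU, ← Category.assoc b', hb', Category.assoc, h2,
      ← Category.assoc Y₀.ι, ← hjY, ← Category.assoc, hθY']

/-- (i) ⇒ (ii). -/
theorem lift_of_retract (k : Type u) [Field k] {X : Scheme.{u}}
    (f : X ⟶ Spec (CommRingCat.of k))
    (U : X.Opens) (n : ℕ) (Y : (Spec (CommRingCat.of (MvPolynomial (Fin n) k))).Opens)
    (a : (U : Scheme.{u}) ⟶ (Y : Scheme.{u})) (b : (Y : Scheme.{u}) ⟶ (U : Scheme.{u}))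
    (hab : a ≫ b = 𝟙 (U : Scheme.{u}))
    (ha : a ≫ Y.ι ≫ Spec.map (CommRingCat.ofHom (algebraMap k (MvPolynomial (Fin n) k))) =
      U.ι ≫ f)
    (hb : b ≫ U.ι ≫ f =
      Y.ι ≫ Spec.map (CommRingCat.ofHom (algebraMap k (MvPolynomial (Fin n) k))))
    (A : Type u) [CommRing A] [IsLocalRing A] [Algebra k A]
    (g : Spec (CommRingCat.of (IsLocalRing.ResidueField A)) ⟶ (U : Scheme.{u}))
    (hg : g ≫ U.ι ≫ f =
      Spec.map (CommRingCat.ofHom ((IsLocalRing.residue A).comp (algebraMap k A)))) :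
    ∃ g' : Spec (CommRingCat.of A) ⟶ (U : Scheme.{u}),
      Spec.map (CommRingCat.ofHom (IsLocalRing.residue A)) ≫ g' = g ∧
      g' ≫ U.ι ≫ f = Spec.map (CommRingCat.ofHom (algebraMap k A)) := by
  obtain ⟨φ, hφ⟩ : ∃ φ : CommRingCat.of (MvPolynomial (Fin n) k) ⟶
      CommRingCat.of (IsLocalRing.ResidueField A), Spec.map φ = g ≫ a ≫ Y.ι :=
    ⟨Spec.preimage _, Spec.map_preimage _⟩
  have hφk : ∀ c : k, φ.hom (algebraMap k (MvPolynomial (Fin n) k) c) =
      IsLocalRing.residue A (algebraMap k A c) := by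
    intro c
    have e1 : Spec.map φ ≫
        Spec.map (CommRingCat.ofHom (algebraMap k (MvPolynomial (Fin n) k))) =
        Spec.map (CommRingCat.ofHom ((IsLocalRing.residue A).comp (algebraMap k A))) := by
      rw [hφ, Category.assoc, Category.assoc, ha, hg]
    rw [← Spec.map_comp] at e1
    have e2 := Spec.map_injective e1
    exact congrArg (fun q => q.hom c) e2
  choose α hα using fun i : Fin n =>
    IsLocalRing.residue_surjective (R := A) (φ.hom (MvPolynomial.X i))
  obtain ⟨Φ, hΦX⟩ : ∃ Φ : MvPolynomial (Fin n) k →ₐ[k] A, ∀ i, Φ (MvPolynomial.X i) = α i :=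
    ⟨MvPolynomial.aeval α, fun i => MvPolynomial.aeval_X _ i⟩
  have hΦ : (IsLocalRing.residue A).comp (Φ : MvPolynomial (Fin n) k →+* A) = φ.hom := by
    apply MvPolynomial.ringHom_ext
    · intro c
      show IsLocalRing.residue A (Φ (algebraMap k (MvPolynomial (Fin n) k) c)) =
        φ.hom (algebraMap k (MvPolynomial (Fin n) k) c)
      rw [AlgHom.commutes, hφk]
    · intro i
      show IsLocalRing.residue A (Φ (MvPolynomial.X i)) = φ.hom (MvPolynomial.X i)
      rw [hΦX, hα]
  obtain ⟨H, hH⟩ : ∃ H : Spec (CommRingCat.of A) ⟶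
      Spec (CommRingCat.of (MvPolynomial (Fin n) k)),
      H = Spec.map (CommRingCat.ofHom (Φ : MvPolynomial (Fin n) k →+* A)) := ⟨_, rfl⟩
  have hresH : Spec.map (CommRingCat.ofHom (IsLocalRing.residue A)) ≫ H = g ≫ a ≫ Y.ι := by
    rw [hH, ← Spec.map_comp, ← hφ]
    congr 1
    apply CommRingCat.hom_ext
    exact hΦ
  have hHY : Set.range H ⊆ Set.range Y.ι := by
    rw [Scheme.Opens.range_ι]
    have hcp : H (IsLocalRing.closedPoint A) ∈ Y := by
      obtain ⟨pt⟩ : Nonempty (Spec (CommRingCat.of (IsLocalRing.ResidueField A))) :=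
        inferInstance
      have e1 : (Spec.map (CommRingCat.ofHom (IsLocalRing.residue A))) pt =
          IsLocalRing.closedPoint A := IsLocalRing.PrimeSpectrum.comap_residue A pt
      have e2 : H ((Spec.map (CommRingCat.ofHom (IsLocalRing.residue A))) pt) =
          (g ≫ a ≫ Y.ι) pt := by
        rw [← hresH]
        rfl
      rw [← e1, e2]
      have hmem : (g ≫ a ≫ Y.ι) pt ∈ Set.range Y.ι := ⟨(g ≫ a) pt, rfl⟩
      rwa [Scheme.Opens.range_ι] at hmem
    have htop : H ⁻¹ᵁ Y = ⊤ := Scheme.preimage_eq_top_of_closedPoint_mem H hcp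
    rintro _ ⟨z, rfl⟩
    have hz : z ∈ H ⁻¹ᵁ Y := by
      rw [htop]
      trivial
    exact hz
  obtain ⟨H', hH'⟩ : ∃ H' : Spec (CommRingCat.of A) ⟶ (Y : Scheme.{u}), H' ≫ Y.ι = H :=
    ⟨IsOpenImmersion.lift Y.ι H hHY, IsOpenImmersion.lift_fac _ _ _⟩
  have hresH' : Spec.map (CommRingCat.ofHom (IsLocalRing.residue A)) ≫ H' = g ≫ a := by
    rw [← cancel_mono Y.ι, Category.assoc, hH', hresH, Category.assoc]
  refine ⟨H' ≫ b, ?_, ?_⟩
  · rw [← Category.assoc, hresH', Category.assoc, hab, Category.comp_id]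
  · rw [Category.assoc, hb, ← Category.assoc, hH', hH, ← Spec.map_comp]
    congr 1
    apply CommRingCat.hom_ext
    apply RingHom.ext
    intro c
    exact Φ.commutes c

/-- (ii) ⇒ (i). -/
theorem retract_of_lift (k : Type u) [Field k] (X : Scheme.{u})
    (f : X ⟶ Spec (CommRingCat.of k)) [IsIntegral X] [LocallyOfFiniteType f]
    (V : X.Opens) (hVne : (V : Set X).Nonempty)
    (hlift : ∀ (A : Type u) [CommRing A] [IsLocalRing A] [Algebra k A]
        (g : Spec (CommRingCat.of (IsLocalRing.ResidueField A)) ⟶ (V : Scheme.{u})),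
        g ≫ V.ι ≫ f =
          Spec.map (CommRingCat.ofHom ((IsLocalRing.residue A).comp (algebraMap k A))) →
        ∃ g' : Spec (CommRingCat.of A) ⟶ (V : Scheme.{u}),
          Spec.map (CommRingCat.ofHom (IsLocalRing.residue A)) ≫ g' = g ∧
          g' ≫ V.ι ≫ f = Spec.map (CommRingCat.ofHom (algebraMap k A))) :
    ∃ (U : X.Opens) (n : ℕ) (Y : (Spec (CommRingCat.of (MvPolynomial (Fin n) k))).Opens)
        (a : (U : Scheme.{u}) ⟶ (Y : Scheme.{u})) (b : (Y : Scheme.{u}) ⟶ (U : Scheme.{u})),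
        (U : Set X).Nonempty ∧ a ≫ b = 𝟙 (U : Scheme.{u}) ∧
        a ≫ Y.ι ≫ Spec.map (CommRingCat.ofHom (algebraMap k (MvPolynomial (Fin n) k))) =
          U.ι ≫ f ∧
        b ≫ U.ι ≫ f =
          Y.ι ≫ Spec.map (CommRingCat.ofHom (algebraMap k (MvPolynomial (Fin n) k))) := by
  obtain ⟨x, hxV⟩ := hVne
  obtain ⟨_, ⟨W, hW0, rfl⟩, hxW, hWV⟩ :=
    X.isBasis_affineOpens.exists_subset_of_mem_open hxV V.isOpen
  have hW : IsAffineOpen W := hW0
  haveI : Nonempty W := ⟨⟨x, hxW⟩⟩
  haveI := hW.isOpenImmersion_fromSpec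
  obtain ⟨ρ, hρ⟩ : ∃ ρ : CommRingCat.of k ⟶ Γ(X, W), Spec.map ρ = hW.fromSpec ≫ f :=
    ⟨Spec.preimage _, Spec.map_preimage _⟩
  letI : Algebra k Γ(X, W) := ρ.hom.toAlgebra
  have hft : Algebra.FiniteType k Γ(X, W) := by
    have h1 : LocallyOfFiniteType (hW.fromSpec ≫ f) := inferInstance
    rw [← hρ, HasRingHomProperty.Spec_iff (P := @LocallyOfFiniteType)] at h1
    exact h1
  obtain ⟨n, π₀, hπ₀⟩ := Algebra.FiniteType.iff_quotient_mvPolynomial''.mp hft
  obtain ⟨π, hππ₀⟩ : ∃ π : MvPolynomial (Fin n) k →+* Γ(X, W),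
      π = (π₀ : MvPolynomial (Fin n) k →+* Γ(X, W)) := ⟨_, rfl⟩
  have hπk : ∀ c : k, π (algebraMap k (MvPolynomial (Fin n) k) c) = algebraMap k Γ(X, W) c := by
    intro c
    rw [hππ₀]
    exact π₀.commutes c
  have hπ : Function.Surjective π := by
    rw [hππ₀]
    exact hπ₀
  obtain ⟨p, hpdef⟩ : ∃ p : Ideal (MvPolynomial (Fin n) k), p = RingHom.ker π := ⟨_, rfl⟩
  haveI : p.IsPrime := by
    rw [hpdef]
    exact RingHom.ker_isPrime π
  have hp : ∀ x, x ∈ p ↔ π x = 0 := by
    intro x
    rw [hpdef, RingHom.mem_ker]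
  have hkerθ : RingHom.ker π ≤ RingHom.ker ((IsLocalRing.residue (Localization.AtPrime p)).comp
      (algebraMap (MvPolynomial (Fin n) k) (Localization.AtPrime p))) := by
    intro β hβ
    rw [RingHom.mem_ker] at hβ ⊢
    rw [RingHom.comp_apply, IsLocalRing.residue_eq_zero_iff,
      IsLocalization.AtPrime.to_map_mem_maximal_iff (Localization.AtPrime p) p]
    exact (hp β).mpr hβ
  obtain ⟨θ, hθ⟩ : ∃ θ : Γ(X, W) →+* IsLocalRing.ResidueField (Localization.AtPrime p),
      ∀ β, θ (π β) = IsLocalRing.residue (Localization.AtPrime p)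
        (algebraMap (MvPolynomial (Fin n) k) (Localization.AtPrime p) β) :=
    ⟨RingHom.liftOfSurjective π hπ ⟨_, hkerθ⟩,
      fun β => RingHom.liftOfSurjective_comp_apply π hπ ⟨_, hkerθ⟩ β⟩
  have hrg : Set.range (Spec.map (CommRingCat.ofHom θ) ≫ hW.fromSpec) ⊆ Set.range V.ι := by
    rw [Scheme.Opens.range_ι]
    rintro _ ⟨z, rfl⟩
    apply hWV
    have hmem : hW.fromSpec ((Spec.map (CommRingCat.ofHom θ)) z) ∈ Set.range hW.fromSpec :=
      ⟨_, rfl⟩
    rw [hW.range_fromSpec] at hmem
    exact hmem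
  obtain ⟨g, hg⟩ : ∃ g : Spec (CommRingCat.of
      (IsLocalRing.ResidueField (Localization.AtPrime p))) ⟶ (V : Scheme.{u}),
      g ≫ V.ι = Spec.map (CommRingCat.ofHom θ) ≫ hW.fromSpec :=
    ⟨IsOpenImmersion.lift V.ι _ hrg, IsOpenImmersion.lift_fac _ _ _⟩
  have hgk : g ≫ V.ι ≫ f = Spec.map (CommRingCat.ofHom
      ((IsLocalRing.residue (Localization.AtPrime p)).comp
        (algebraMap k (Localization.AtPrime p)))) := by
    rw [← Category.assoc, hg, Category.assoc, ← hρ, ← Spec.map_comp]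
    congr 1
    apply CommRingCat.hom_ext
    apply RingHom.ext
    intro c
    show θ (ρ.hom c) = IsLocalRing.residue (Localization.AtPrime p)
      (algebraMap k (Localization.AtPrime p) c)
    have e1 : ρ.hom c = π (algebraMap k (MvPolynomial (Fin n) k) c) := (hπk c).symm
    rw [e1, hθ, ← IsScalarTower.algebraMap_apply]
  obtain ⟨g', hg'1, hg'2⟩ := hlift (Localization.AtPrime p) g hgk
  have hrg' : Set.range (g' ≫ V.ι) ⊆ Set.range hW.fromSpec := by
    rw [hW.range_fromSpec]
    have hcp : (g' ≫ V.ι) (IsLocalRing.closedPoint (Localization.AtPrime p)) ∈ W := by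
      obtain ⟨pt⟩ : Nonempty (Spec (CommRingCat.of
          (IsLocalRing.ResidueField (Localization.AtPrime p)))) := inferInstance
      have e1 : (Spec.map (CommRingCat.ofHom
          (IsLocalRing.residue (Localization.AtPrime p)))) pt =
          IsLocalRing.closedPoint (Localization.AtPrime p) :=
        IsLocalRing.PrimeSpectrum.comap_residue _ pt
      have e2 : (g' ≫ V.ι) ((Spec.map (CommRingCat.ofHom
          (IsLocalRing.residue (Localization.AtPrime p)))) pt) =
          (Spec.map (CommRingCat.ofHom θ) ≫ hW.fromSpec) pt := by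
        rw [← hg, ← hg'1]
        rfl
      rw [← e1, e2]
      have hmem : (Spec.map (CommRingCat.ofHom θ) ≫ hW.fromSpec) pt ∈
          Set.range hW.fromSpec := ⟨_, rfl⟩
      rwa [hW.range_fromSpec] at hmem
    have htop : (g' ≫ V.ι) ⁻¹ᵁ W = ⊤ :=
      Scheme.preimage_eq_top_of_closedPoint_mem (g' ≫ V.ι) hcp
    rintro _ ⟨z, rfl⟩
    have hz : z ∈ (g' ≫ V.ι) ⁻¹ᵁ W := by
      rw [htop]
      trivial
    exact hz
  obtain ⟨G, hG⟩ : ∃ G : Spec (CommRingCat.of (Localization.AtPrime p)) ⟶ Spec Γ(X, W),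
      G ≫ hW.fromSpec = g' ≫ V.ι :=
    ⟨IsOpenImmersion.lift hW.fromSpec _ hrg', IsOpenImmersion.lift_fac _ _ _⟩
  obtain ⟨ψ', hψ'⟩ : ∃ ψ' : Γ(X, W) ⟶ CommRingCat.of (Localization.AtPrime p),
      Spec.map ψ' = G := ⟨Spec.preimage G, Spec.map_preimage G⟩
  have hψθ : ψ' ≫ CommRingCat.ofHom (IsLocalRing.residue (Localization.AtPrime p)) =
      CommRingCat.ofHom θ := by
    apply Spec.map_injective
    rw [Spec.map_comp, hψ', ← cancel_mono hW.fromSpec, Category.assoc, hG, ← Category.assoc,
      hg'1, hg]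
  have hψk' : ρ ≫ ψ' = CommRingCat.ofHom (algebraMap k (Localization.AtPrime p)) := by
    apply Spec.map_injective
    rw [Spec.map_comp, hψ', hρ, ← Category.assoc, hG, Category.assoc, hg'2]
  obtain ⟨h, ψh, hπh, hψhk, hretr⟩ := ring_core k n Γ(X, W) π hπk hπ p hp ψ'.hom
    (fun c => congrArg (fun q => q.hom c) hψk')
    (fun β => (congrArg (fun q => q.hom (π β)) hψθ).trans (hθ β))
  obtain ⟨πh, hπh_def, hπh_eq⟩ : ∃ πh : Localization.Away h →+* Localization.Away (π h),
      πh = IsLocalization.Away.map (Localization.Away h) (Localization.Away (π h)) π h ∧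
      ∀ x, πh (algebraMap (MvPolynomial (Fin n) k) (Localization.Away h) x) =
        algebraMap Γ(X, W) (Localization.Away (π h)) (π x) :=
    ⟨_, rfl, fun x => IsLocalization.map_eq _ x⟩
  rw [← hπh_def] at hretr
  haveI : Nontrivial (Localization.Away (π h)) :=
    (IsLocalization.injective (Localization.Away (π h))
      (powers_le_nonZeroDivisors_of_noZeroDivisors hπh)).nontrivial
  haveI : Nonempty (Spec (CommRingCat.of (Localization.Away (π h)))) :=
    inferInstanceAs (Nonempty (PrimeSpectrum (Localization.Away (π h))))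
  have eab : CommRingCat.ofHom ψh ≫ CommRingCat.ofHom πh =
      CommRingCat.ofHom (algebraMap Γ(X, W) (Localization.Away (π h))) := by
    apply CommRingCat.hom_ext
    apply RingHom.ext
    intro b
    exact hretr b
  obtain ⟨U, Y, a, b, hU, hab, ha, hb⟩ := retract_core f
    (Spec.map (CommRingCat.ofHom (algebraMap k (MvPolynomial (Fin n) k))))
    (Spec.map (CommRingCat.ofHom (algebraMap Γ(X, W) (Localization.Away (π h)))) ≫ hW.fromSpec)
    (Spec.map (CommRingCat.ofHom (algebraMap (MvPolynomial (Fin n) k) (Localization.Away h))))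
    (Spec.map (CommRingCat.ofHom πh))
    (Spec.map (CommRingCat.ofHom ψh) ≫ hW.fromSpec)
    (by rw [← Category.assoc, ← Spec.map_comp, eab])
    (by
      rw [Category.assoc, ← hρ]
      simp only [← Spec.map_comp]
      congr 1
      apply CommRingCat.hom_ext
      apply RingHom.ext
      intro c
      show πh (algebraMap (MvPolynomial (Fin n) k) (Localization.Away h)
        (algebraMap k (MvPolynomial (Fin n) k) c)) =
        algebraMap Γ(X, W) (Localization.Away (π h)) (ρ.hom c)
      rw [hπh_eq, hπk]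
      rfl)
    (by
      rw [Category.assoc, ← hρ]
      simp only [← Spec.map_comp]
      congr 1
      apply CommRingCat.hom_ext
      apply RingHom.ext
      intro c
      show ψh (ρ.hom c) = algebraMap (MvPolynomial (Fin n) k) (Localization.Away h)
        (algebraMap k (MvPolynomial (Fin n) k) c)
      rw [← IsScalarTower.algebraMap_apply]
      exact hψhk c)
  exact ⟨U, n, Y, a, b, hU, hab, ha, hb⟩

end Helpers


/-- Let X be an integral scheme of finite type over a field k. The following are equivalent. (i) There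
are a non-empty open subscheme U of X, an open subscheme Y of an affine space Spec k[x_1, ..., x_n]
and k-morphisms U → Y → U whose composite is the identity of U. (ii) There is a non-empty open
subscheme V of X such that for every local k-algebra A with residue field κ, every k-morphism Spec κ
→ V lifts along Spec κ → Spec A to a k-morphism Spec A → V. (Local k-algebras are taken in the
universe of k.) -/
theorem result (k : Type u) [Field k] (X : Scheme.{u})
    (f : X ⟶ Spec (CommRingCat.of k)) [IsIntegral X] [LocallyOfFiniteType f] [QuasiCompact f] :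
    (∃ (U : X.Opens) (n : ℕ) (Y : (Spec (CommRingCat.of (MvPolynomial (Fin n) k))).Opens)
        (a : (U : Scheme.{u}) ⟶ (Y : Scheme.{u})) (b : (Y : Scheme.{u}) ⟶ (U : Scheme.{u})),
        (U : Set X).Nonempty ∧ a ≫ b = 𝟙 (U : Scheme.{u}) ∧
        a ≫ Y.ι ≫ Spec.map (CommRingCat.ofHom (algebraMap k (MvPolynomial (Fin n) k))) = U.ι ≫ f ∧
        b ≫ U.ι ≫ f = Y.ι ≫ Spec.map (CommRingCat.ofHom (algebraMap k (MvPolynomial (Fin n) k)))) ↔
    (∃ V : X.Opens, (V : Set X).Nonempty ∧
      ∀ (A : Type u) [CommRing A] [IsLocalRing A] [Algebra k A]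
        (g : Spec (CommRingCat.of (IsLocalRing.ResidueField A)) ⟶ (V : Scheme.{u})),
        g ≫ V.ι ≫ f = Spec.map (CommRingCat.ofHom ((IsLocalRing.residue A).comp (algebraMap k A))) →
        ∃ g' : Spec (CommRingCat.of A) ⟶ (V : Scheme.{u}),
          Spec.map (CommRingCat.ofHom (IsLocalRing.residue A)) ≫ g' = g ∧
          g' ≫ V.ι ≫ f = Spec.map (CommRingCat.ofHom (algebraMap k A))) := by
  constructor
  · rintro ⟨U, n, Y, a, b, hUne, hab, ha, hb⟩
    refine ⟨U, hUne, ?_⟩
    intro A _ _ _ g hg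
    exact lift_of_retract k f U n Y a b hab ha hb A g hg
  · rintro ⟨V, hVne, hlift⟩
    exact retract_of_lift k X f V hVne hlift

end Groth.Agent.S15695
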