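import Groth.Statements.S15697
import Groth.Agent.H80.NoName

set_option autoImplicit false
universe u
open InvFld

namespace Groth.Agent.S15697

/-- Let k be a characteristic-zero field and suppose a finite group acts k-linearly on
finite-dimensional k-vector spaces V and W, faithfully on V. Then k(V ⊕ W)^G is purely
transcendental over k(V)^G, of transcendence degree dim W. Stated with V = k^n, W = k^m inside L =
k(x_1, ..., x_n, y_1, ..., y_m): G is a finite group of k-algebra automorphisms of L sending each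
x_i into the k-span of the x's and each y_j into the k-span of the y's, such that an element of G
fixing every x_i is trivial; F is the intersection of k(x_1, ..., x_n) with the fixed field of G;
then there are y'_1, ..., y'_m in L, algebraically independent over F, with F(y'_1, ..., y'_m) equal
to the fixed field of G. -/
theorem result (k : Type u) [Field k] [CharZero k] (n m : ℕ)
    (G : Subgroup (InvFld.Fld (Fin n ⊕ Fin m) k ≃ₐ[k] InvFld.Fld (Fin n ⊕ Fin m) k)) [Finite G]
    (hx : ∀ σ ∈ G, ∀ i : Fin n, σ (InvFld.X (Sum.inl i)) ∈ Submodule.span k (Set.range fun j : Fin n => (InvFld.X (Sum.inl j) : InvFld.Fld (Fin n ⊕ Fin m) k)))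
    (hy : ∀ σ ∈ G, ∀ i : Fin m, σ (InvFld.X (Sum.inr i)) ∈ Submodule.span k (Set.range fun j : Fin m => (InvFld.X (Sum.inr j) : InvFld.Fld (Fin n ⊕ Fin m) k)))
    (hfaith : ∀ σ ∈ G, (∀ i : Fin n, σ (InvFld.X (Sum.inl i)) = InvFld.X (Sum.inl i)) → σ = 1) :
    ∃ t : Fin m → InvFld.Fld (Fin n ⊕ Fin m) k,
      AlgebraicIndependent (↥(IntermediateField.adjoin k (Set.range fun j : Fin n => (InvFld.X (Sum.inl j) : InvFld.Fld (Fin n ⊕ Fin m) k)) ⊓ IntermediateField.fixedField G)) t ∧
      IntermediateField.restrictScalars k (IntermediateField.adjoin (↥(IntermediateField.adjoin k (Set.range fun j : Fin n => (InvFld.X (Sum.inl j) : InvFld.Fld (Fin n ⊕ Fin m) k)) ⊓ IntermediateField.fixedField G)) (Set.range t)) =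
        IntermediateField.fixedField G := by
  classical
  have hxK : ∀ j : Fin n, (InvFld.X (Sum.inl j) : InvFld.Fld (Fin n ⊕ Fin m) k) ∈
      IntermediateField.adjoin k (Set.range fun j : Fin n =>
        (InvFld.X (Sum.inl j) : InvFld.Fld (Fin n ⊕ Fin m) k)) :=
    fun j => IntermediateField.subset_adjoin _ _ ⟨j, rfl⟩
  have hspanK : ∀ v ∈ Submodule.span k (Set.range fun j : Fin n =>
      (InvFld.X (Sum.inl j) : InvFld.Fld (Fin n ⊕ Fin m) k)),
      v ∈ IntermediateField.adjoin k (Set.range fun j : Fin n =>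
        (InvFld.X (Sum.inl j) : InvFld.Fld (Fin n ⊕ Fin m) k)) := by
    intro v hv
    have : Submodule.span k (Set.range fun j : Fin n =>
        (InvFld.X (Sum.inl j) : InvFld.Fld (Fin n ⊕ Fin m) k)) ≤
        Subalgebra.toSubmodule (IntermediateField.adjoin k (Set.range fun j : Fin n =>
          (InvFld.X (Sum.inl j) : InvFld.Fld (Fin n ⊕ Fin m) k))).toSubalgebra :=
      Submodule.span_le.mpr (by rintro _ ⟨j, rfl⟩; exact hxK j)
    exact this hv
  have h1 : ∀ σ ∈ G, ∀ c ∈ IntermediateField.adjoin k (Set.range fun j : Fin n =>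
      (InvFld.X (Sum.inl j) : InvFld.Fld (Fin n ⊕ Fin m) k)),
      σ c ∈ IntermediateField.adjoin k (Set.range fun j : Fin n =>
        (InvFld.X (Sum.inl j) : InvFld.Fld (Fin n ⊕ Fin m) k)) := by
    intro σ hσ c hc
    induction hc using IntermediateField.adjoin_induction with
    | mem x hx' => obtain ⟨j, rfl⟩ := hx'; exact hspanK _ (hx σ hσ j)
    | algebraMap a => rw [AlgEquiv.commutes]; exact IntermediateField.algebraMap_mem _ a
    | add a b _ _ ha hb => rw [map_add]; exact add_mem ha hb
    | inv a _ ha => rw [map_inv₀]; exact inv_mem ha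
    | mul a b _ _ ha hb => rw [map_mul]; exact mul_mem ha hb
  have h2 : ∀ σ ∈ G, (∀ c ∈ IntermediateField.adjoin k (Set.range fun j : Fin n =>
      (InvFld.X (Sum.inl j) : InvFld.Fld (Fin n ⊕ Fin m) k)), σ c = c) → σ = 1 :=
    fun σ hσ hfix => hfaith σ hσ (fun i => hfix _ (hxK i))
  have h3 : ∀ σ ∈ G, ∀ j : Fin m, σ (InvFld.X (Sum.inr j)) ∈
      Submodule.span ↥(IntermediateField.adjoin k (Set.range fun j : Fin n =>
        (InvFld.X (Sum.inl j) : InvFld.Fld (Fin n ⊕ Fin m) k)))
        (Set.range fun j : Fin m => (InvFld.X (Sum.inr j) : InvFld.Fld (Fin n ⊕ Fin m) k)) :=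
    fun σ hσ j => Submodule.span_subset_span k _ _ (hy σ hσ j)
  haveI : CharZero (InvFld.Fld (Fin n ⊕ Fin m) k) :=
    charZero_of_injective_algebraMap (algebraMap k (InvFld.Fld (Fin n ⊕ Fin m) k)).injective
  have hcard : (Nat.card G : InvFld.Fld (Fin n ⊕ Fin m) k) ≠ 0 :=
    Nat.cast_ne_zero.mpr Nat.card_pos.ne'
  have hX : AlgebraicIndependent k (fun i : Fin n ⊕ Fin m =>
      (InvFld.X i : InvFld.Fld (Fin n ⊕ Fin m) k)) :=
    (MvPolynomial.algebraicIndependent_X (Fin n ⊕ Fin m) k).map'
      (f := IsScalarTower.toAlgHom k (MvPolynomial (Fin n ⊕ Fin m) k)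
        (InvFld.Fld (Fin n ⊕ Fin m) k)) (IsFractionRing.injective _ _)
  have hswap : AlgebraicIndependent k (Sum.elim
      (fun j : Fin m => (InvFld.X (Sum.inr j) : InvFld.Fld (Fin n ⊕ Fin m) k))
      (fun j : Fin n => (InvFld.X (Sum.inl j) : InvFld.Fld (Fin n ⊕ Fin m) k))) := by
    have := hX.comp Sum.swap Sum.swap_leftInverse.injective
    convert this using 1
    funext i; cases i <;> rfl
  have hD := (AlgebraicIndependent.sumElim_iff.mp hswap).2
  have hyalg : AlgebraicIndependent ↥(IntermediateField.adjoin k (Set.range fun j : Fin n =>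
      (InvFld.X (Sum.inl j) : InvFld.Fld (Fin n ⊕ Fin m) k)))
      (fun j : Fin m => (InvFld.X (Sum.inr j) : InvFld.Fld (Fin n ⊕ Fin m) k)) := by
    open scoped IntermediateField.algebraAdjoinAdjoin in
    exact hD.extendScalars ↥(IntermediateField.adjoin k (Set.range fun j : Fin n =>
      (InvFld.X (Sum.inl j) : InvFld.Fld (Fin n ⊕ Fin m) k)))
  have h5 : IntermediateField.adjoin ↥(IntermediateField.adjoin k (Set.range fun j : Fin n =>
      (InvFld.X (Sum.inl j) : InvFld.Fld (Fin n ⊕ Fin m) k)))
      (Set.range fun j : Fin m => (InvFld.X (Sum.inr j) : InvFld.Fld (Fin n ⊕ Fin m) k)) = ⊤ := by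
    rw [eq_top_iff]
    rintro z -
    have hpoly : ∀ p : MvPolynomial (Fin n ⊕ Fin m) k,
        algebraMap _ (InvFld.Fld (Fin n ⊕ Fin m) k) p ∈
        IntermediateField.adjoin ↥(IntermediateField.adjoin k (Set.range fun j : Fin n =>
          (InvFld.X (Sum.inl j) : InvFld.Fld (Fin n ⊕ Fin m) k)))
          (Set.range fun j : Fin m =>
            (InvFld.X (Sum.inr j) : InvFld.Fld (Fin n ⊕ Fin m) k)) := by
      intro p
      induction p using MvPolynomial.induction_on with
      | C a =>
        have : algebraMap (MvPolynomial (Fin n ⊕ Fin m) k) (InvFld.Fld (Fin n ⊕ Fin m) k)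
            (MvPolynomial.C a) =
            algebraMap ↥(IntermediateField.adjoin k (Set.range fun j : Fin n =>
              (InvFld.X (Sum.inl j) : InvFld.Fld (Fin n ⊕ Fin m) k)))
              (InvFld.Fld (Fin n ⊕ Fin m) k) (algebraMap k _ a) := by
          rw [← IsScalarTower.algebraMap_apply k _ (InvFld.Fld (Fin n ⊕ Fin m) k),
            ← MvPolynomial.algebraMap_eq,
            ← IsScalarTower.algebraMap_apply k (MvPolynomial _ k) (InvFld.Fld (Fin n ⊕ Fin m) k)]
        rw [this]; exact IntermediateField.algebraMap_mem _ _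
      | add p q hp hq => rw [map_add]; exact add_mem hp hq
      | mul_X p i hp =>
        rw [map_mul]
        refine mul_mem hp ?_
        cases i with
        | inl j =>
          exact IntermediateField.algebraMap_mem _
            (⟨_, hxK j⟩ : ↥(IntermediateField.adjoin k (Set.range fun j : Fin n =>
              (InvFld.X (Sum.inl j) : InvFld.Fld (Fin n ⊕ Fin m) k))))
        | inr j => exact IntermediateField.subset_adjoin _ _ ⟨j, rfl⟩
    obtain ⟨a, b, _, rfl⟩ := IsFractionRing.div_surjective (A := MvPolynomial (Fin n ⊕ Fin m) k) z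
    exact div_mem (hpoly a) (hpoly b)
  exact Groth.Agent.H80.NoName.noname _ G _ h1 h2 h3 hcard hyalg h5

end Groth.Agent.S15697
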