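import Groth.Statements.S15699
import Mathlib

set_option autoImplicit false
set_option linter.style.haveILetI false
set_option linter.unusedSectionVars false
set_option linter.unusedVariables false
universe u
open CategoryTheory CategoryTheory.Limits AlgebraicGeometry
open RatVar

namespace Groth.Agent.S15699

section Helpers

theorem finite_of_finiteType_away (k : Type u) [Field k] (σ : Type u)
    (h : MvPolynomial σ k) (hh : h ≠ 0)
    (hft : Algebra.FiniteType k (Localization.Away h)) : Finite σ := by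
  classical
  obtain ⟨G, hG⟩ := hft.out
  have hsurj : ∀ g : Localization.Away h, ∃ x : MvPolynomial σ k × Submonoid.powers h,
      g * algebraMap (MvPolynomial σ k) (Localization.Away h) (x.2 : MvPolynomial σ k) =
        algebraMap (MvPolynomial σ k) (Localization.Away h) x.1 :=
    fun g => IsLocalization.surj (Submonoid.powers h) g
  choose pf hpf using hsurj
  have hJ : ∀ i : σ, i ∈ h.vars ∪ G.biUnion (fun g => (pf g).1.vars) := by
    intro i₀
    by_contra hi₀
    have hi₀h : i₀ ∉ h.vars := fun hm => hi₀ (Finset.mem_union_left _ hm)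
    have hi₀G : ∀ g ∈ G, i₀ ∉ (pf g).1.vars := fun g hg hm =>
      hi₀ (Finset.mem_union_right _ (Finset.mem_biUnion.mpr ⟨g, hg, hm⟩))
    obtain ⟨φ, hφdef⟩ : ∃ φ : MvPolynomial σ k →ₐ[k] MvPolynomial σ k,
        φ = MvPolynomial.aeval (fun i => if i = i₀ then 0 else MvPolynomial.X i) := ⟨_, rfl⟩
    have hφfix : ∀ q : MvPolynomial σ k, i₀ ∉ q.vars → φ q = q := by
      intro q hq
      have h1 : φ q = MvPolynomial.aeval (MvPolynomial.X : σ → MvPolynomial σ k) q := by
        rw [hφdef]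
        refine MvPolynomial.eval₂Hom_congr' rfl (fun i hi _ => ?_) rfl
        have hne : i ≠ i₀ := fun e => hq (e ▸ hi)
        rw [if_neg hne]
      rw [h1, MvPolynomial.aeval_X_left_apply]
    have hφh : φ h = h := hφfix h hi₀h
    have hφpow : ∀ s : Submonoid.powers h, φ (s : MvPolynomial σ k) = s := by
      rintro ⟨_, m, rfl⟩
      show φ (h ^ m) = h ^ m
      rw [map_pow, hφh]
    have hcomap : Submonoid.powers h ≤ (Submonoid.powers h).comap φ.toRingHom := by
      intro s hs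
      show φ s ∈ Submonoid.powers h
      rw [hφpow ⟨s, hs⟩]
      exact hs
    obtain ⟨Φr, hΦr⟩ : ∃ Φr : Localization.Away h →+* Localization.Away h,
        ∀ q, Φr (algebraMap (MvPolynomial σ k) (Localization.Away h) q) =
          algebraMap (MvPolynomial σ k) (Localization.Away h) (φ q) :=
      ⟨IsLocalization.map (Localization.Away h) φ.toRingHom hcomap,
        fun q => IsLocalization.map_eq hcomap q⟩
    obtain ⟨Φ, hΦ⟩ : ∃ Φ : Localization.Away h →ₐ[k] Localization.Away h, ∀ x, Φ x = Φr x :=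
      ⟨{ Φr with
          commutes' := fun a => by
            show Φr (algebraMap k (Localization.Away h) a) = algebraMap k _ a
            rw [IsScalarTower.algebraMap_apply k (MvPolynomial σ k) (Localization.Away h), hΦr,
              φ.commutes] }, fun x => rfl⟩
    have hΦid : Φ = AlgHom.id k _ := by
      apply AlgHom.ext_of_adjoin_eq_top hG
      intro g hg
      have hg' : g ∈ G := hg
      show Φ g = g
      rw [hΦ]
      have e1 := hpf g
      have e2 : Φr g * algebraMap (MvPolynomial σ k) (Localization.Away h)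
          ((pf g).2 : MvPolynomial σ k) =
          algebraMap (MvPolynomial σ k) (Localization.Away h) (pf g).1 := by
        have := congrArg Φr e1
        rw [map_mul, hΦr, hΦr, hφpow, hφfix _ (hi₀G g hg')] at this
        exact this
      have hu : IsUnit (algebraMap (MvPolynomial σ k) (Localization.Away h)
          ((pf g).2 : MvPolynomial σ k)) := IsLocalization.map_units _ (pf g).2
      exact hu.mul_right_cancel (e2.trans e1.symm)
    have h0 : algebraMap (MvPolynomial σ k) (Localization.Away h) (MvPolynomial.X i₀) = 0 := by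
      have h1 : Φ (algebraMap (MvPolynomial σ k) (Localization.Away h) (MvPolynomial.X i₀)) =
          algebraMap (MvPolynomial σ k) (Localization.Away h) (MvPolynomial.X i₀) := by
        rw [hΦid]
        rfl
      rw [hΦ, hΦr] at h1
      have h2 : φ (MvPolynomial.X i₀) = 0 := by
        rw [hφdef, MvPolynomial.aeval_X, if_pos rfl]
      rw [h2, map_zero] at h1
      exact h1.symm
    have hinj : Function.Injective (algebraMap (MvPolynomial σ k) (Localization.Away h)) :=
      IsLocalization.injective _ (Submonoid.powers_le.mpr (mem_nonZeroDivisors_of_ne_zero hh))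
    exact MvPolynomial.X_ne_zero i₀ (hinj (h0.trans (map_zero _).symm))
  exact Set.finite_univ_iff.mp
    ((Finset.finite_toSet (h.vars ∪ G.biUnion (fun g => (pf g).1.vars))).subset
      (fun i _ => hJ i))

/-- Abstract retraction construction. -/
theorem core {S X P T W' : Scheme.{u}} (f : X ⟶ S) (p : P ⟶ X) (str : T ⟶ S)
    (W : P.Opens) (e : (W : Scheme.{u}) ≅ W') (ι' : W' ⟶ T) [IsOpenImmersion ι']
    (hover : e.hom ≫ ι' ≫ str = W.ι ≫ p ≫ f)
    (w' : S ⟶ T) (hw' : w' ≫ str = 𝟙 S) (hw'r : Set.range w' ⊆ Set.range ι')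
    (hsec : ∀ w : S ⟶ P, w ≫ p ≫ f = 𝟙 S → ∃ s : X ⟶ P, s ≫ p = 𝟙 X ∧ (w ≫ p) ≫ s = w)
    [Nonempty S] :
    ∃ (U : X.Opens) (Y' : T.Opens) (a : (U : Scheme.{u}) ⟶ (Y' : Scheme.{u}))
      (b : (Y' : Scheme.{u}) ⟶ (U : Scheme.{u})),
      (U : Set X).Nonempty ∧ a ≫ b = 𝟙 _ ∧ a ≫ Y'.ι ≫ str = U.ι ≫ f ∧
        b ≫ U.ι ≫ f = Y'.ι ≫ str := by
  obtain ⟨wW', hwW'⟩ : ∃ wW' : S ⟶ W', wW' ≫ ι' = w' :=
    ⟨IsOpenImmersion.lift ι' w' hw'r, IsOpenImmersion.lift_fac ι' w' hw'r⟩
  obtain ⟨w, hwdef⟩ : ∃ w : S ⟶ P, w = wW' ≫ e.inv ≫ W.ι := ⟨_, rfl⟩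
  have hw : w ≫ p ≫ f = 𝟙 S := by
    rw [hwdef, Category.assoc, Category.assoc, ← hover, e.inv_hom_id_assoc, ← Category.assoc,
      hwW', hw']
  obtain ⟨s, hs1, hs2⟩ := hsec w hw
  obtain ⟨α, hα⟩ : ∃ α : ((s ⁻¹ᵁ W : X.Opens) : Scheme.{u}) ⟶ W', α = (s ∣_ W) ≫ e.hom := ⟨_, rfl⟩
  obtain ⟨β₀, hβ₀⟩ : ∃ β₀ : W' ⟶ X, β₀ = e.inv ≫ W.ι ≫ p := ⟨_, rfl⟩
  have hαβ : α ≫ β₀ = (s ⁻¹ᵁ W).ι := by
    rw [hα, hβ₀, Category.assoc, e.hom_inv_id_assoc, ← Category.assoc, morphismRestrict_ι,
      Category.assoc, hs1, Category.comp_id]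
  have hβf : β₀ ≫ f = ι' ≫ str := by
    rw [hβ₀, Category.assoc, Category.assoc, ← hover, e.inv_hom_id_assoc]
  have hrange : Set.range α ⊆ Set.range (β₀ ⁻¹ᵁ (s ⁻¹ᵁ W)).ι := by
    rw [Scheme.Opens.range_ι]
    rintro _ ⟨u, rfl⟩
    show β₀.base (α.base u) ∈ (s ⁻¹ᵁ W)
    have h1 : β₀.base (α.base u) = (s ⁻¹ᵁ W).ι.base u := by rw [← hαβ]; rfl
    rw [h1]
    exact u.2
  obtain ⟨a₀, ha₀⟩ : ∃ a₀ : ((s ⁻¹ᵁ W : X.Opens) : Scheme.{u}) ⟶ ((β₀ ⁻¹ᵁ (s ⁻¹ᵁ W) : W'.Opens) : Scheme.{u}),
      a₀ ≫ (β₀ ⁻¹ᵁ (s ⁻¹ᵁ W)).ι = α :=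
    ⟨IsOpenImmersion.lift _ α hrange, IsOpenImmersion.lift_fac _ _ _⟩
  obtain ⟨ι'', hι''⟩ : ∃ ι'' : ((β₀ ⁻¹ᵁ (s ⁻¹ᵁ W) : W'.Opens) : Scheme.{u}) ⟶ T,
      ι'' = (β₀ ⁻¹ᵁ (s ⁻¹ᵁ W)).ι ≫ ι' := ⟨_, rfl⟩
  haveI : IsOpenImmersion ι'' := by rw [hι'']; infer_instance
  have hθ : ι''.isoOpensRange.hom ≫ ι''.opensRange.ι = ι'' := Scheme.Hom.isoOpensRange_hom_ι ι''
  refine ⟨s ⁻¹ᵁ W, ι''.opensRange, a₀ ≫ ι''.isoOpensRange.hom,
    ι''.isoOpensRange.inv ≫ (β₀ ∣_ (s ⁻¹ᵁ W)), ?_, ?_, ?_, ?_⟩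
  · obtain ⟨pt⟩ := ‹Nonempty S›
    refine ⟨(w ≫ p).base pt, ?_⟩
    show s.base ((w ≫ p).base pt) ∈ W
    have h1 : s.base ((w ≫ p).base pt) = w.base pt :=
      congrArg (fun q : S ⟶ P => q.base pt) hs2
    rw [h1]
    have h2 : w.base pt ∈ Set.range W.ι := ⟨(wW' ≫ e.inv).base pt, by rw [hwdef]; rfl⟩
    rw [Scheme.Opens.range_ι] at h2
    exact h2
  · rw [← cancel_mono (s ⁻¹ᵁ W).ι]
    simp only [Category.assoc, Iso.hom_inv_id_assoc]
    rw [morphismRestrict_ι, ← Category.assoc, ha₀, hαβ, Category.id_comp]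
  · rw [Category.assoc, ← Category.assoc ι''.isoOpensRange.hom, hθ, hι'', Category.assoc,
      ← Category.assoc a₀, ha₀, hα, Category.assoc, hover, ← Category.assoc, morphismRestrict_ι,
      Category.assoc, ← Category.assoc s, hs1, Category.id_comp]
  · have h4 : ι''.isoOpensRange.inv ≫ ι'' = ι''.opensRange.ι := (Iso.inv_comp_eq _).mpr hθ.symm
    rw [Category.assoc, ← Category.assoc (β₀ ∣_ (s ⁻¹ᵁ W)), morphismRestrict_ι, Category.assoc,
      hβf, ← Category.assoc (β₀ ⁻¹ᵁ (s ⁻¹ᵁ W)).ι, ← hι'', ← Category.assoc, h4]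

/-- A nonempty open of affine space over an infinite field contains a rational point. -/
theorem exists_kpoint (k : Type u) [Field k] [Infinite k] (m : ℕ)
    (O : (Spec (CommRingCat.of (MvPolynomial (Fin m) k))).Opens)
    (hO : (O : Set (Spec (CommRingCat.of (MvPolynomial (Fin m) k)))).Nonempty) :
    ∃ w' : Spec (CommRingCat.of k) ⟶ Spec (CommRingCat.of (MvPolynomial (Fin m) k)),
      w' ≫ Spec.map (CommRingCat.ofHom (algebraMap k (MvPolynomial (Fin m) k))) = 𝟙 _ ∧
        Set.range w' ⊆ (O : Set (Spec (CommRingCat.of (MvPolynomial (Fin m) k)))) := by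
  obtain ⟨x, hx⟩ := hO
  obtain ⟨_, ⟨_, ⟨h, rfl⟩, rfl⟩, hxh, hsub⟩ :=
    (PrimeSpectrum.isBasis_basic_opens (R := MvPolynomial (Fin m) k)).exists_subset_of_mem_open hx
      O.isOpen
  have hh : h ≠ 0 := by
    rintro rfl
    rw [PrimeSpectrum.basicOpen_zero] at hxh
    exact hxh
  obtain ⟨c, hc⟩ : ∃ c : Fin m → k, MvPolynomial.eval c h ≠ 0 := by
    by_contra H
    push Not at H
    exact hh (MvPolynomial.funext (fun c => by rw [H c, map_zero]))
  refine ⟨Spec.map (CommRingCat.ofHom (MvPolynomial.eval c)), ?_, ?_⟩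
  · rw [← Spec.map_comp, ← CommRingCat.ofHom_comp]
    have : (MvPolynomial.eval c).comp (algebraMap k (MvPolynomial (Fin m) k)) = RingHom.id k := by
      ext a
      simp
    rw [this]
    exact Spec.map_id _
  · rintro _ ⟨pt, rfl⟩
    apply hsub
    show h ∉ Ideal.comap (MvPolynomial.eval c) pt.asIdeal
    intro hmem
    rw [Ideal.mem_comap] at hmem
    exact pt.isPrime.ne_top (Ideal.eq_top_of_isUnit_mem _ hmem (IsUnit.mk0 _ hc))

/-- A nonempty open subscheme of `Spec k[σ]` locally of finite type over `k` forces `σ` finite. -/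
theorem finite_of_open_lft (k : Type u) [Field k] (n : Type u) {Z : Scheme.{u}}
    (ι : Z ⟶ Spec (CommRingCat.of (MvPolynomial n k))) [IsOpenImmersion ι] [Nonempty Z]
    [LocallyOfFiniteType (ι ≫ Spec.map (CommRingCat.ofHom
      (MvPolynomial.C : k →+* MvPolynomial n k)))] :
    Finite n := by
  obtain ⟨z⟩ := ‹Nonempty Z›
  have hx : ι.base z ∈ (ι.opensRange : Set _) := ⟨z, rfl⟩
  obtain ⟨_, ⟨_, ⟨h, rfl⟩, rfl⟩, hxh, hsub⟩ :=
    (PrimeSpectrum.isBasis_basic_opens (R := MvPolynomial n k)).exists_subset_of_mem_open hx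
      ι.opensRange.isOpen
  have hh : h ≠ 0 := by
    rintro rfl
    rw [PrimeSpectrum.basicOpen_zero] at hxh
    exact hxh
  obtain ⟨d, hd⟩ : ∃ d : Spec (CommRingCat.of (Localization.Away h)) ⟶
      Spec (CommRingCat.of (MvPolynomial n k)),
      d = Spec.map (CommRingCat.ofHom (algebraMap (MvPolynomial n k) (Localization.Away h))) :=
    ⟨_, rfl⟩
  haveI : IsOpenImmersion d := by rw [hd]; infer_instance
  have hrange : Set.range d ⊆ Set.range ι := by
    rintro _ ⟨y, rfl⟩
    apply hsub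
    have h1 := PrimeSpectrum.localization_away_comap_range (Localization.Away h) h
    rw [Set.ext_iff] at h1
    refine (h1 _).mp ⟨y, ?_⟩
    rw [hd]
    rfl
  obtain ⟨l, hl⟩ : ∃ l : Spec (CommRingCat.of (Localization.Away h)) ⟶ Z, l ≫ ι = d :=
    ⟨IsOpenImmersion.lift ι d hrange, IsOpenImmersion.lift_fac _ _ _⟩
  haveI : LocallyOfFiniteType (l ≫ ι) := by rw [hl]; infer_instance
  haveI : LocallyOfFiniteType l := locallyOfFiniteType_of_comp l ι
  have hft : LocallyOfFiniteType (l ≫ ι ≫ Spec.map (CommRingCat.ofHom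
      (MvPolynomial.C : k →+* MvPolynomial n k))) := inferInstance
  rw [← Category.assoc, hl, hd, ← Spec.map_comp,
    HasRingHomProperty.Spec_iff (P := @LocallyOfFiniteType)] at hft
  have hft' : Algebra.FiniteType k (Localization.Away h) := by
    rw [← RingHom.finiteType_algebraMap]
    exact hft
  exact finite_of_finiteType_away k n h hh hft'

end Helpers


/-- A direct factor of a k-rational variety is retract rational over k. Here k is an infinite field, X
and Y are integral schemes of finite type over k whose fibre product over k is integral and rational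
over k (birational over k, through dense open subschemes, to an affine space over k); the conclusion
is that some non-empty open subscheme U of X admits k-morphisms U → Y' → U with composite the
identity, Y' an open subscheme of an affine space Spec k[x_1, ..., x_n]. (The published statement
allows any field k; the argument picks a k-rational point of the given open set, so k is taken
infinite here.) -/
theorem result (k : Type u) [Field k] [Infinite k]
    (X Y : Scheme.{u}) (f : X ⟶ Spec (CommRingCat.of k)) (g : Y ⟶ Spec (CommRingCat.of k))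
    [IsIntegral X] [LocallyOfFiniteType f] [QuasiCompact f]
    [IsIntegral Y] [LocallyOfFiniteType g] [QuasiCompact g] [IsIntegral (pullback f g)]
    [Scheme.IsRationalOver (pullback.fst f g ≫ f)] :
    ∃ (U : X.Opens) (n : ℕ) (Y' : (Spec (CommRingCat.of (MvPolynomial (Fin n) k))).Opens)
        (a : (U : Scheme.{u}) ⟶ (Y' : Scheme.{u})) (b : (Y' : Scheme.{u}) ⟶ (U : Scheme.{u})),
        (U : Set X).Nonempty ∧ a ≫ b = 𝟙 (U : Scheme.{u}) ∧
        a ≫ Y'.ι ≫ Spec.map (CommRingCat.ofHom (algebraMap k (MvPolynomial (Fin n) k))) = U.ι ≫ f ∧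
        b ≫ U.ι ≫ f = Y'.ι ≫ Spec.map (CommRingCat.ofHom (algebraMap k (MvPolynomial (Fin n) k))) := by
  obtain ⟨n, φ, hφ⟩ :=
    Scheme.IsRationalOver.exists_birationalOver_affineSpace (pullback.fst f g ≫ f)
  have hstr : 𝔸(n; Spec (CommRingCat.of k)) ↘ Spec (CommRingCat.of k) =
      (AffineSpace.SpecIso n (CommRingCat.of k)).hom ≫
        Spec.map (CommRingCat.ofHom (MvPolynomial.C : k →+* MvPolynomial n k)) := by
    have h0 := AffineSpace.SpecIso_inv_over (n := n) (CommRingCat.of k)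
    rw [← h0, Iso.hom_inv_id_assoc]
  have hover0 : φ.iso.hom ≫ φ.target.ι ≫ 𝔸(n; Spec (CommRingCat.of k)) ↘ Spec (CommRingCat.of k) =
      φ.source.ι ≫ pullback.fst f g ≫ f := hφ
  haveI : Nonempty (φ.target : Scheme.{u}) := by
    obtain ⟨x, hx⟩ := φ.dense_target.nonempty
    exact ⟨⟨x, hx⟩⟩
  -- finiteness of n
  haveI hfin : Finite n := by
    haveI : LocallyOfFiniteType ((φ.target.ι ≫ (AffineSpace.SpecIso n (CommRingCat.of k)).hom) ≫
        Spec.map (CommRingCat.ofHom (MvPolynomial.C : k →+* MvPolynomial n k))) := by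
      have e1 : (φ.target.ι ≫ (AffineSpace.SpecIso n (CommRingCat.of k)).hom) ≫
          Spec.map (CommRingCat.ofHom (MvPolynomial.C : k →+* MvPolynomial n k)) =
          φ.iso.inv ≫ φ.source.ι ≫ pullback.fst f g ≫ f := by
        rw [Category.assoc, ← hstr, ← hover0, Iso.inv_hom_id_assoc]
      rw [e1]
      infer_instance
    exact finite_of_open_lft k n (φ.target.ι ≫ (AffineSpace.SpecIso n (CommRingCat.of k)).hom)
  obtain ⟨m, ⟨em⟩⟩ := Finite.exists_equiv_fin n
  obtain ⟨r, hr⟩ : ∃ r : MvPolynomial n k ≃ₐ[k] MvPolynomial (Fin m) k,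
      r = MvPolynomial.renameEquiv k em := ⟨_, rfl⟩
  obtain ⟨Fh, hFh⟩ : ∃ Fh : Spec (CommRingCat.of (MvPolynomial n k)) ⟶
      Spec (CommRingCat.of (MvPolynomial (Fin m) k)),
      Fh = Spec.map (CommRingCat.ofHom (r.symm : MvPolynomial (Fin m) k →+* MvPolynomial n k)) :=
    ⟨_, rfl⟩
  haveI : IsIso Fh := by
    refine ⟨⟨Spec.map (CommRingCat.ofHom (r : MvPolynomial n k →+* MvPolynomial (Fin m) k)), ?_, ?_⟩⟩
    · rw [hFh, ← Spec.map_comp, ← CommRingCat.ofHom_comp]
      have : (r.symm : MvPolynomial (Fin m) k →+* MvPolynomial n k).comp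
          (r : MvPolynomial n k →+* MvPolynomial (Fin m) k) = RingHom.id _ := by
        apply RingHom.ext
        intro x
        exact r.symm_apply_apply x
      rw [this]
      exact Spec.map_id _
    · rw [hFh, ← Spec.map_comp, ← CommRingCat.ofHom_comp]
      have : (r : MvPolynomial n k →+* MvPolynomial (Fin m) k).comp
          (r.symm : MvPolynomial (Fin m) k →+* MvPolynomial n k) = RingHom.id _ := by
        apply RingHom.ext
        intro x
        exact r.apply_symm_apply x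
      rw [this]
      exact Spec.map_id _
  have hFover : Fh ≫ Spec.map (CommRingCat.ofHom (algebraMap k (MvPolynomial (Fin m) k))) =
      Spec.map (CommRingCat.ofHom (MvPolynomial.C : k →+* MvPolynomial n k)) := by
    rw [hFh, ← Spec.map_comp, ← CommRingCat.ofHom_comp]
    congr 2
    apply RingHom.ext
    intro a
    show r.symm (algebraMap k _ a) = MvPolynomial.C a
    rw [AlgEquiv.commutes]
    rfl
  obtain ⟨ι', hι'⟩ : ∃ ι' : (φ.target : Scheme.{u}) ⟶ Spec (CommRingCat.of (MvPolynomial (Fin m) k)),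
      ι' = φ.target.ι ≫ (AffineSpace.SpecIso n (CommRingCat.of k)).hom ≫ Fh := ⟨_, rfl⟩
  haveI : IsOpenImmersion ι' := by rw [hι']; infer_instance
  have hover : φ.iso.hom ≫ ι' ≫ Spec.map (CommRingCat.ofHom (algebraMap k (MvPolynomial (Fin m) k))) =
      φ.source.ι ≫ pullback.fst f g ≫ f := by
    rw [hι', Category.assoc, Category.assoc, hFover, ← hstr, hover0]
  obtain ⟨z⟩ := ‹Nonempty (φ.target : Scheme.{u})›
  obtain ⟨w', hw'1, hw'2⟩ := exists_kpoint k m ι'.opensRange ⟨ι'.base z, ⟨z, rfl⟩⟩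
  haveI : Nonempty (Spec (CommRingCat.of k)) :=
    ⟨(⟨⊥, Ideal.isPrime_bot⟩ : PrimeSpectrum k)⟩
  have hsec : ∀ w : Spec (CommRingCat.of k) ⟶ pullback f g, w ≫ pullback.fst f g ≫ f = 𝟙 _ →
      ∃ s : X ⟶ pullback f g, s ≫ pullback.fst f g = 𝟙 X ∧ (w ≫ pullback.fst f g) ≫ s = w := by
    intro w hw
    have hcond : 𝟙 X ≫ f = (f ≫ w ≫ pullback.snd f g) ≫ g := by
      rw [Category.id_comp, Category.assoc, Category.assoc, ← pullback.condition, hw,
        Category.comp_id]
    refine ⟨pullback.lift (𝟙 X) (f ≫ w ≫ pullback.snd f g) hcond, pullback.lift_fst _ _ _, ?_⟩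
    apply pullback.hom_ext
    · rw [Category.assoc, pullback.lift_fst, Category.comp_id]
    · rw [Category.assoc, pullback.lift_snd, Category.assoc, ← Category.assoc w,
        ← Category.assoc (w ≫ pullback.fst f g), Category.assoc w, hw, Category.id_comp]
  obtain ⟨U, Y', a, b, hne, hab, ha, hb⟩ := core f (pullback.fst f g)
    (Spec.map (CommRingCat.ofHom (algebraMap k (MvPolynomial (Fin m) k))))
    φ.source φ.iso ι' hover w' hw'1 hw'2 hsec
  exact ⟨U, m, Y', a, b, hne, hab, ha, hb⟩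

end Groth.Agent.S15699
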