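import Groth.Statements.S1570
import Mathlib.AlgebraicGeometry.IdealSheaf.Basic
import Mathlib.AlgebraicGeometry.Noetherian
import Mathlib.RingTheory.Localization.AtPrime.Basic
import Mathlib.RingTheory.Localization.Away.Basic

set_option autoImplicit false
universe u
open CategoryTheory CategoryTheory.Limits AlgebraicGeometry
open Divisors

namespace Groth.Agent.S1570

/-- Spreading out a principal nonzerodivisor generator from the localisation at a prime. -/
theorem exists_spread {A : Type*} [CommRing A] [IsNoetherianRing A] (I : Ideal A) (p : Ideal A)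
    [p.IsPrime] {B : Type*} [CommRing B] [Algebra A B] [IsLocalization.AtPrime B p] (g : B)
    (hg : g ∈ nonZeroDivisors B) (h : I.map (algebraMap A B) = Ideal.span {g}) :
    ∃ a ∉ p, ∃ f ∈ I, (∀ y, f * y = 0 → a * y = 0) ∧ (∀ i ∈ I, ∃ b, a * i = b * f) := by
  -- Step 1
  have hgI : g ∈ I.map (algebraMap A B) := by rw [h]; exact Ideal.mem_span_singleton_self g
  obtain ⟨⟨⟨f, hfI⟩, ⟨s, hs⟩⟩, hfs⟩ := (IsLocalization.mem_map_algebraMap_iff p.primeCompl B).mp hgI
  simp only at hfs
  have hsu : IsUnit (algebraMap A B s) := IsLocalization.map_units B (⟨s, hs⟩ : p.primeCompl)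
  have hf0 : algebraMap A B f ∈ nonZeroDivisors B := by
    rw [← hfs]
    exact mul_mem hg hsu.mem_nonZeroDivisors
  have hspan : I.map (algebraMap A B) = Ideal.span {algebraMap A B f} := by
    rw [h, ← hfs]
    exact (Ideal.span_singleton_mul_right_unit hsu g).symm
  -- Step 3
  have h3 : ∀ i ∈ I, ∃ w ∉ p, ∃ b, w * i = b * f := by
    intro i hi
    have : algebraMap A B i ∈ Ideal.span {algebraMap A B f} := by
      rw [← hspan]; exact Ideal.mem_map_of_mem _ hi
    obtain ⟨c, hc⟩ := Ideal.mem_span_singleton'.mp this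
    obtain ⟨b, ⟨t, ht⟩, rfl⟩ := IsLocalization.exists_mk'_eq p.primeCompl c
    have h4 : algebraMap A B (t * i) = algebraMap A B (b * f) := by
      have h5 : algebraMap A B t * IsLocalization.mk' B b (⟨t, ht⟩ : p.primeCompl) =
          algebraMap A B b := IsLocalization.mk'_spec' B b (⟨t, ht⟩ : p.primeCompl)
      rw [map_mul, map_mul, ← hc, ← mul_assoc, h5]
    obtain ⟨⟨u, hu⟩, hu'⟩ := (IsLocalization.eq_iff_exists p.primeCompl B).mp h4
    refine ⟨u * t, ?_, u * b, ?_⟩
    · exact fun hmem => (Ideal.IsPrime.mem_or_mem inferInstance hmem).elim hu ht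
    · simp only at hu'
      rw [mul_assoc, hu', mul_assoc]
  have h4 : ∀ y, f * y = 0 → ∃ v ∉ p, v * y = 0 := by
    intro y hy
    have : algebraMap A B y * algebraMap A B f = 0 := by
      rw [← map_mul, mul_comm, hy, map_zero]
    have h0 : algebraMap A B y = 0 := hf0.2 _ this
    obtain ⟨⟨v, hv⟩, hv'⟩ := (IsLocalization.map_eq_zero_iff p.primeCompl B y).mp h0
    exact ⟨v, hv, hv'⟩
  have h3' : ∀ i : A, ∃ w ∉ p, i ∈ I → ∃ b, w * i = b * f := by
    intro i
    by_cases hi : i ∈ I
    · obtain ⟨w, hw, hb⟩ := h3 i hi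
      exact ⟨w, hw, fun _ => hb⟩
    · exact ⟨1, (Ideal.ne_top_iff_one p).mp (Ideal.IsPrime.ne_top inferInstance), fun h => absurd h hi⟩
  have h4' : ∀ y : A, ∃ v ∉ p, f * y = 0 → v * y = 0 := by
    intro y
    by_cases hy : f * y = 0
    · obtain ⟨v, hv, hvy⟩ := h4 y hy
      exact ⟨v, hv, fun _ => hvy⟩
    · exact ⟨1, (Ideal.ne_top_iff_one p).mp (Ideal.IsPrime.ne_top inferInstance), fun h => absurd h hy⟩
  choose w hw hwb using h3'
  choose v hv hvy using h4'
  obtain ⟨S, hS⟩ := (IsNoetherian.noetherian I : I.FG)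
  let J : Ideal A := LinearMap.ker (LinearMap.mulLeft A f)
  have hJ : ∀ y, y ∈ J ↔ f * y = 0 := fun y => by
    simp [J, LinearMap.mem_ker]
  obtain ⟨T, hT⟩ := (IsNoetherian.noetherian J : J.FG)
  have ha1 : (∏ i ∈ S, w i) ∈ p.primeCompl := Submonoid.prod_mem _ (fun i _ => hw i)
  have ha2 : (∏ j ∈ T, v j) ∈ p.primeCompl := Submonoid.prod_mem _ (fun j _ => hv j)
  refine ⟨(∏ i ∈ S, w i) * (∏ j ∈ T, v j), (mul_mem ha1 ha2 : _ ∈ p.primeCompl), f, hfI, ?_, ?_⟩
  · intro y hy
    have hle : Submodule.span A (T : Set A) ≤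
        LinearMap.ker (LinearMap.mulLeft A ((∏ i ∈ S, w i) * (∏ j ∈ T, v j))) := by
      rw [Submodule.span_le]
      intro y hyT
      have hfy : f * y = 0 := by
        apply (hJ y).mp
        rw [← hT]; exact Submodule.subset_span hyT
      obtain ⟨c, hc⟩ := Finset.dvd_prod_of_mem v hyT
      simp only [SetLike.mem_coe, LinearMap.mem_ker, LinearMap.mulLeft_apply]
      rw [hc]
      calc (∏ i ∈ S, w i) * (v y * c) * y = (∏ i ∈ S, w i) * c * (v y * y) := by ring
        _ = 0 := by rw [hvy y hfy, mul_zero]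
    have hyJ : y ∈ Submodule.span A (T : Set A) := by rw [hT]; exact (hJ y).mpr hy
    have := hle hyJ
    rwa [LinearMap.mem_ker, LinearMap.mulLeft_apply] at this
  · intro i hi
    have hle : Submodule.span A (S : Set A) ≤
        Submodule.comap (LinearMap.mulLeft A ((∏ i ∈ S, w i) * (∏ j ∈ T, v j)))
          (Ideal.span {f}) := by
      rw [Submodule.span_le]
      intro i hiS
      have hiI : i ∈ I := by rw [← hS]; exact Submodule.subset_span hiS
      obtain ⟨b, hb⟩ := hwb i hiI
      obtain ⟨c, hc⟩ := Finset.dvd_prod_of_mem w hiS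
      simp only [SetLike.mem_coe, Submodule.mem_comap, LinearMap.mulLeft_apply]
      rw [hc, Ideal.mem_span_singleton']
      refine ⟨c * (∏ j ∈ T, v j) * b, ?_⟩
      calc c * (∏ j ∈ T, v j) * b * f = c * (∏ j ∈ T, v j) * (b * f) := by ring
        _ = c * (∏ j ∈ T, v j) * (w i * i) := by rw [hb]
        _ = w i * c * (∏ j ∈ T, v j) * i := by ring
    have hiS : i ∈ Submodule.span A (S : Set A) := by rw [hS]; exact hi
    have := hle hiS
    simp only [Submodule.mem_comap, LinearMap.mulLeft_apply] at this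
    obtain ⟨b, hb⟩ := Ideal.mem_span_singleton'.mp this
    exact ⟨b, hb.symm⟩

theorem away_of_spread {A : Type*} [CommRing A] (I : Ideal A) (a f : A) (hfI : f ∈ I)
    (h1 : ∀ y, f * y = 0 → a * y = 0) (h2 : ∀ i ∈ I, ∃ b, a * i = b * f)
    {C : Type*} [CommRing C] [Algebra A C] [IsLocalization.Away a C] :
    algebraMap A C f ∈ nonZeroDivisors C ∧
      I.map (algebraMap A C) = Ideal.span {algebraMap A C f} := by
  have hau : IsUnit (algebraMap A C a) := IsLocalization.Away.algebraMap_isUnit a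
  constructor
  · rw [mem_nonZeroDivisors_iff_left]
    intro z hz
    obtain ⟨y, ⟨t, ht⟩, rfl⟩ := IsLocalization.exists_mk'_eq (Submonoid.powers a) z
    rw [IsLocalization.mk'_eq_zero_iff]
    have h3 : algebraMap A C (f * y) = 0 := by
      have := congrArg (· * algebraMap A C t) hz
      simp only [zero_mul, mul_assoc] at this
      rw [IsLocalization.mk'_spec] at this
      rw [map_mul]; exact this
    obtain ⟨⟨m, hm⟩, hm'⟩ := (IsLocalization.map_eq_zero_iff (Submonoid.powers a) C _).mp h3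
    simp only at hm'
    have h4 : a * (m * y) = 0 := h1 _ (by rw [← hm']; ring)
    refine ⟨⟨a * m, ?_⟩, by simp only; rw [mul_assoc]; exact h4⟩
    exact mul_mem (Submonoid.mem_powers a) hm
  · apply le_antisymm
    · rw [Ideal.map_le_iff_le_comap]
      intro i hi
      obtain ⟨b, hb⟩ := h2 i hi
      rw [Ideal.mem_comap, Ideal.mem_span_singleton']
      refine ⟨hau.unit⁻¹ * algebraMap A C b, ?_⟩
      have : algebraMap A C a * algebraMap A C i = algebraMap A C b * algebraMap A C f := by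
        rw [← map_mul, ← map_mul, hb]
      rw [mul_assoc, ← this, ← mul_assoc]
      simp
    · rw [Ideal.span_singleton_le_iff_mem]
      exact Ideal.mem_map_of_mem _ hfI


/-- Let X be locally Noetherian and D a closed subscheme with ideal sheaf I. If for every point x of D
the ideal generated by I in the local ring at x is generated by one nonzerodivisor, then D is an
effective Cartier divisor. -/
theorem result (X : Scheme.{u}) [IsLocallyNoetherian X]
    (D : X.IdealSheafData)
    (h : ∀ x ∈ D.support, ∀ (U : X.affineOpens) (hx : x ∈ (U : X.Opens)),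
      ∃ g : X.presheaf.stalk x, g ∈ nonZeroDivisors (X.presheaf.stalk x) ∧
        (D.ideal U).map (X.presheaf.germ U x hx).hom = Ideal.span {g}) :
    BlowUp.IsEffCartierIdeal D := by
  intro x
  obtain ⟨U, hxU⟩ : ∃ U : X.affineOpens, x ∈ U.1 := by
    obtain ⟨_, ⟨V, hV, rfl⟩, hxV, -⟩ := X.isBasis_affineOpens.exists_subset_of_mem_open
      (Set.mem_univ x) isOpen_univ
    exact ⟨⟨V, hV⟩, hxV⟩
  letI := X.presheaf.algebra_section_stalk ⟨x, hxU⟩
  haveI := U.2.isLocalization_stalk ⟨x, hxU⟩
  haveI : IsNoetherianRing Γ(X, U.1) := IsLocallyNoetherian.component_noetherian U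
  have hmemBasic : ∀ a : Γ(X, U.1), a ∉ (U.2.primeIdealOf ⟨x, hxU⟩).asIdeal →
      x ∈ X.basicOpen a := by
    intro a ha
    rw [Scheme.mem_basicOpen _ _ _ hxU]
    exact (IsLocalization.AtPrime.isUnit_to_map_iff (X.presheaf.stalk x)
      (U.2.primeIdealOf ⟨x, hxU⟩).asIdeal a).mpr ha
  by_cases hxD : x ∈ D.support
  · obtain ⟨g, hg, hgI⟩ := h x hxD U hxU
    obtain ⟨a, hap, f, hfI, h1, h2⟩ := exists_spread (D.ideal U)
      (U.2.primeIdealOf ⟨x, hxU⟩).asIdeal g hg hgI
    haveI := U.2.isLocalization_basicOpen a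
    obtain ⟨h3, h4⟩ := away_of_spread (D.ideal U) a f hfI h1 h2 (C := Γ(X, X.basicOpen a))
    refine ⟨X.affineBasicOpen a, hmemBasic a hap,
      algebraMap Γ(X, U.1) Γ(X, X.basicOpen a) f, h3, ?_⟩
    rw [← D.map_ideal_basicOpen U a]
    exact h4
  · have hnle : ¬ (D.ideal U ≤ (U.2.primeIdealOf ⟨x, hxU⟩).asIdeal) := by
      intro hle
      apply hxD
      rw [Scheme.IdealSheafData.mem_support_iff_of_mem hxU]
      have hpx : U.2.fromSpec (U.2.primeIdealOf ⟨x, hxU⟩) = x :=
        U.2.fromSpec_primeIdealOf ⟨x, hxU⟩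
      have h2 : U.2.primeIdealOf ⟨x, hxU⟩ ∈
          U.2.fromSpec ⁻¹' X.zeroLocus (U := U.1) (D.ideal U) := by
        rw [U.2.fromSpec_preimage_zeroLocus]
        exact hle
      rw [← hpx]
      exact h2
    obtain ⟨a, haI, hap⟩ := SetLike.not_le_iff_exists.mp hnle
    haveI := U.2.isLocalization_basicOpen a
    refine ⟨X.affineBasicOpen a, hmemBasic a hap, 1, one_mem _, ?_⟩
    rw [← D.map_ideal_basicOpen U a, Ideal.span_singleton_one]
    exact Ideal.eq_top_of_isUnit_mem _ (Ideal.mem_map_of_mem _ haI)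
      (IsLocalization.Away.algebraMap_isUnit (S := Γ(X, X.basicOpen a)) a)

end Groth.Agent.S1570
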