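import Groth.Statements.S15701
import Mathlib

set_option autoImplicit false
set_option linter.style.haveILetI false
set_option linter.unusedSectionVars false
set_option linter.unusedVariables false
universe u
open CategoryTheory AlgebraicGeometry
open RatVar

namespace Groth.Agent.S15701

section Helpers
open CategoryTheory AlgebraicGeometry TopologicalSpace Limits

/-- the fixed locus of an endomorphism, as a set. -/
noncomputable def fixedLocus {X : Scheme.{u}} (a : X ⟶ X) : Set X :=
  Set.range (equalizer.ι a (𝟙 X))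

theorem isClosed_fixedLocus {X : Scheme.{u}} [X.IsSeparated] (a : X ⟶ X) :
    IsClosed (fixedLocus a) :=
  (equalizer.ι a (𝟙 X)).isClosedEmbedding.isClosed_range

theorem eq_id_of_fixedLocus_eq_univ {X S : Scheme.{u}} [IsReduced X] (s : X ⟶ S)
    [IsSeparated s] (a : X ⟶ X) (ha : a ≫ s = s) (h : fixedLocus a = Set.univ) : a = 𝟙 X := by
  haveI : Surjective (equalizer.ι a (𝟙 X)) := ⟨fun x => by
    have : x ∈ fixedLocus a := h ▸ Set.mem_univ x
    exact this⟩
  exact ext_of_isDominant_of_isSeparated s (by rw [ha, Category.id_comp])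
    (equalizer.ι a (𝟙 X)) (equalizer.condition a (𝟙 X))

theorem mem_fixedLocus_of_comp_eq {X T : Scheme.{u}} (a : X ⟶ X) (x : T ⟶ X) (hx : x ≫ a = x)
    (p : T) : x p ∈ fixedLocus a := by
  refine ⟨equalizer.lift x (by rw [hx, Category.comp_id]) p, ?_⟩
  rw [← Scheme.Hom.comp_apply, equalizer.lift_ι]

theorem map_mem_fixedLocus {X : Scheme.{u}} (a b c : X ⟶ X) (h : b ≫ c = a ≫ b) (x : X)
    (hx : x ∈ fixedLocus a) : b x ∈ fixedLocus c := by
  obtain ⟨e, rfl⟩ := hx
  refine ⟨equalizer.lift (equalizer.ι a (𝟙 X) ≫ b) ?_ e, ?_⟩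
  · rw [Category.assoc, h, ← Category.assoc, equalizer.condition a (𝟙 X)]
    simp
  · rw [← Scheme.Hom.comp_apply, equalizer.lift_ι, Scheme.Hom.comp_apply]

theorem conj_hom {X : Scheme.{u}} {G : Type u} [Group G] (ρ : G →* Aut X) (h g : G) :
    (ρ h).hom ≫ (ρ (h * g * h⁻¹)).hom = (ρ g).hom ≫ (ρ h).hom := by
  rw [map_mul, map_mul, map_inv]
  have e : (ρ h * ρ g * (ρ h)⁻¹).hom = (ρ h).inv ≫ (ρ g).hom ≫ (ρ h).hom := rfl
  rw [e]
  exact Iso.hom_inv_id_assoc (show X ≅ X from ρ h) _

theorem inv_hom_apply {X : Scheme.{u}} {G : Type u} [Group G] (ρ : G →* Aut X) (h : G) (x : X) :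
    (ρ h⁻¹).hom ((ρ h).hom x) = x := by
  have e : (ρ h).hom ≫ (ρ h⁻¹).hom = 𝟙 X := by
    rw [map_inv]
    exact (ρ h).hom_inv_id
  rw [← Scheme.Hom.comp_apply, e]
  simp

theorem main (k : Type u) [Field k] (X : Scheme.{u}) (f : X ⟶ Spec (CommRingCat.of k))
    [IsIntegral X] [IsSeparated f]
    (G : Type u) [Group G] [Finite G] (ρ : G →* Aut X)
    (hρ : ∀ g : G, (ρ g).hom ≫ f = f) (hfaith : Function.Injective ρ) :
    ∃ U : X.Opens, (U : Set X).Nonempty ∧ (∀ g : G, (ρ g).hom ⁻¹ᵁ U = U) ∧
      ∀ (K : Type u) [Field K] (x : Spec (CommRingCat.of K) ⟶ X),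
        Set.range x.base ⊆ (U : Set X) → ∀ g : G, x ≫ (ρ g).hom = x → g = 1 := by
  haveI : X.IsSeparated := ⟨by rw [← terminal.comp_from f]; infer_instance⟩
  have hclosed : ∀ g : G, IsClosed (fixedLocus (ρ g).hom) := fun g => isClosed_fixedLocus _
  have hne : ∀ g : G, g ≠ 1 → fixedLocus (ρ g).hom ≠ Set.univ := by
    intro g hg h
    apply hg
    apply hfaith
    rw [map_one]
    apply Aut.ext
    exact eq_id_of_fixedLocus_eq_univ f (ρ g).hom (hρ g) h
  have hopen : IsOpen {x : X | ∀ g : G, g ≠ 1 → x ∉ fixedLocus (ρ g).hom} := by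
    have e : {x : X | ∀ g : G, g ≠ 1 → x ∉ fixedLocus (ρ g).hom} =
        (⋃ g ∈ {g : G | g ≠ 1}, fixedLocus (ρ g).hom)ᶜ := by
      ext x; simp
    rw [e]
    exact (Set.Finite.isClosed_biUnion (Set.toFinite _) (fun g _ => hclosed g)).isOpen_compl
  refine ⟨⟨_, hopen⟩, ?_, ?_, ?_⟩
  · by_contra hempty
    classical
    obtain ⟨z, hz, huz⟩ := isIrreducible_iff_sUnion_isClosed.mp
      (IrreducibleSpace.isIrreducible_univ X)
      ((Set.toFinite {g : G | g ≠ 1}).toFinset.image (fun g => fixedLocus (ρ g).hom))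
      (by
        intro z hz
        rw [Finset.mem_image] at hz
        obtain ⟨g, -, rfl⟩ := hz
        exact hclosed g)
      (by
        intro x _
        obtain ⟨g, hg, hxg⟩ : ∃ g : G, g ≠ 1 ∧ x ∈ fixedLocus (ρ g).hom := by
          by_contra hcon
          exact hempty ⟨x, fun g hg hxg => hcon ⟨g, hg, hxg⟩⟩
        exact Set.mem_sUnion.mpr ⟨_, Finset.mem_coe.mpr (Finset.mem_image.mpr
          ⟨g, (Set.Finite.mem_toFinset _).mpr hg, rfl⟩), hxg⟩)
    rw [Finset.mem_image] at hz
    obtain ⟨g, hg, rfl⟩ := hz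
    have hg' : g ≠ 1 := (Set.Finite.mem_toFinset _).mp hg
    exact hne g hg' (Set.eq_univ_of_univ_subset huz)
  · intro h
    apply TopologicalSpace.Opens.ext
    refine Set.ext fun x => ?_
    show (∀ g : G, g ≠ 1 → (ρ h).hom x ∉ fixedLocus (ρ g).hom) ↔
      (∀ g : G, g ≠ 1 → x ∉ fixedLocus (ρ g).hom)
    constructor
    · intro H g hg hxg
      refine H (h * g * h⁻¹) (fun e => hg (conj_eq_one_iff.mp e)) ?_
      exact map_mem_fixedLocus _ _ _ (conj_hom ρ h g) x hxg
    · intro H g hg hxg
      refine H (h⁻¹ * g * h⁻¹⁻¹) (fun e => hg (conj_eq_one_iff.mp e)) ?_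
      have := map_mem_fixedLocus _ _ _ (conj_hom ρ h⁻¹ g) _ hxg
      rwa [inv_hom_apply] at this
  · intro K _ x hsub g hxg
    by_contra hg
    obtain ⟨p⟩ : Nonempty (Spec (CommRingCat.of K)) :=
      ⟨(⟨⊥, Ideal.isPrime_bot⟩ : PrimeSpectrum K)⟩
    have h1 : x p ∈ fixedLocus (ρ g).hom := mem_fixedLocus_of_comp_eq _ x hxg p
    have h2 : x p ∈ {x : X | ∀ g : G, g ≠ 1 → x ∉ fixedLocus (ρ g).hom} := hsub ⟨p, rfl⟩
    exact h2 g hg h1

end Helpers


/-- A faithful action of a finite group on a geometrically integral variety is almost free. Here k is a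
field of characteristic zero, X is an integral separated scheme of finite type over k, and the
finite group G acts on X by k-automorphisms through an injective homomorphism to Aut X; the
conclusion is a non-empty G-stable open subscheme U of X such that for every field K and every
morphism Spec K → X whose image lies in U, an element of G fixing that K-point is the identity. (X
is taken separated: for the affine line with a doubled origin and the involution exchanging the two
origins the action is faithful while every point off the origins is fixed, so no such U exists;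
integrality replaces geometric integrality, which is all the codimension argument uses.) -/
theorem result (k : Type u) [Field k] [CharZero k]
    (X : Scheme.{u}) (f : X ⟶ Spec (CommRingCat.of k)) [IsIntegral X] [LocallyOfFiniteType f]
    [QuasiCompact f] [IsSeparated f]
    (G : Type u) [Group G] [Finite G] (ρ : G →* Aut X)
    (hρ : ∀ g : G, (ρ g).hom ≫ f = f) (hfaith : Function.Injective ρ) :
    ∃ U : X.Opens, (U : Set X).Nonempty ∧ (∀ g : G, (ρ g).hom ⁻¹ᵁ U = U) ∧
      ∀ (K : Type u) [Field K] (x : Spec (CommRingCat.of K) ⟶ X),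
        Set.range x.base ⊆ (U : Set X) → ∀ g : G, x ≫ (ρ g).hom = x → g = 1 := by
  exact main k X f G ρ hρ hfaith

end Groth.Agent.S15701
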