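import Groth.Statements.S15706
import Groth.Agent.H78.PrimeAvoid
import Mathlib.RingTheory.Ideal.MinimalPrime.Localization
import Mathlib.RingTheory.Ideal.MinimalPrime.Noetherian
import Mathlib.RingTheory.Ideal.AssociatedPrime.Basic

set_option autoImplicit false
set_option maxHeartbeats 400000
universe u
open CAlg

namespace Groth.Agent.S15706

/-- Let A be a Noetherian ring with Serre's property (S_1), stated here in the equivalent form that
every associated prime of A is a minimal prime of A. Let I be an ideal of A and b an element of A/I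
which is regular (a non-zero-divisor) in A/I. Then b is the image of a regular element of A. -/
theorem result (A : Type u) [CommRing A]
    [IsNoetherianRing A] (hS1 : ∀ p ∈ associatedPrimes A A, p ∈ minimalPrimes A) (I : Ideal A)
    (b : A ⧸ I) (hb : b ∈ nonZeroDivisors (A ⧸ I)) :
    ∃ a : A, a ∈ nonZeroDivisors A ∧ Ideal.Quotient.mk I a = b := by
  classical
  obtain ⟨x, rfl⟩ := Ideal.Quotient.mk_surjective b
  have hfin : (minimalPrimes A).Finite := minimalPrimes.finite_of_isNoetherianRing A
  obtain ⟨y, hyI, hy⟩ := Groth.Agent.H78.exists_add_notMem_of_primes I x hfin.toFinset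
    (fun p hp => (hfin.mem_toFinset.mp hp).1.1) (by
      intro p hp ⟨hxp, hIp⟩
      have hpmin : p ∈ minimalPrimes A := hfin.mem_toFinset.mp hp
      have hpI : p ∈ I.minimalPrimes :=
        ⟨⟨hpmin.1.1, hIp⟩, fun q hq hqp => hpmin.2 ⟨hq.1, bot_le⟩ hqp⟩
      rw [Ideal.minimalPrimes_eq_comap] at hpI
      obtain ⟨q, hq, rfl⟩ := hpI
      exact notMem_nonZeroDivisors_of_mem_mem_minimalPrimes (Ideal.mem_comap.mp hxp) hq hb)
  refine ⟨x + y, ?_, ?_⟩
  · by_contra hnz
    have hmem : x + y ∈ ((nonZeroDivisors A : Set A))ᶜ := hnz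
    rw [← biUnion_associatedPrimes_eq_compl_nonZeroDivisors A] at hmem
    simp only [Set.mem_iUnion, SetLike.mem_coe] at hmem
    obtain ⟨p, hp, hxp⟩ := hmem
    exact hy p (hfin.mem_toFinset.mpr (hS1 p hp)) hxp
  · rw [map_add, Ideal.Quotient.eq_zero_iff_mem.mpr hyI, add_zero]

end Groth.Agent.S15706
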