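import Groth.Statements.S15708
import Groth.Agent.H78.HomogAvoid

set_option autoImplicit false
set_option maxHeartbeats 400000
universe u v
open CAlg

namespace Groth.Agent.S15708

/-- Let A be a Noetherian commutative ring graded by the natural numbers, J a homogeneous ideal, and
p_1, ..., p_r finitely many prime ideals such that no p_i contains the irrelevant ideal A_+ and no
p_i contains J. Then there is a homogeneous element z of positive degree with z in J and z in no
p_i. -/
theorem result {R : Type u} {A : Type v} [CommRing R] [CommRing A]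
    [Algebra R A] [IsNoetherianRing A] (𝒜 : ℕ → Submodule R A) [GradedRing 𝒜]
    (J : Ideal A) (hJ : J.IsHomogeneous 𝒜) (P : Finset (Ideal A))
    (hP : ∀ p ∈ P, p.IsPrime ∧ ¬ (HomogeneousIdeal.irrelevant 𝒜).toIdeal ≤ p ∧ ¬ J ≤ p) :
    ∃ (z : A) (n : ℕ), 0 < n ∧ z ∈ 𝒜 n ∧ z ∈ J ∧ ∀ p ∈ P, z ∉ p := by
  classical
  set Irr : Ideal A := (HomogeneousIdeal.irrelevant 𝒜).toIdeal with hIrr
  have hJ' : (J ⊓ Irr).IsHomogeneous 𝒜 := hJ.inf (HomogeneousIdeal.irrelevant 𝒜).isHomogeneous
  obtain ⟨z, n, hn, hzdeg, hzJ, hz⟩ := Groth.Agent.H78.exists_homogeneous_notMem_of_primes 𝒜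
    (J ⊓ Irr) hJ' inf_le_right (P.image fun p => (p.homogeneousCore 𝒜).toIdeal) (by
      intro q hq
      obtain ⟨p, hp, rfl⟩ := Finset.mem_image.mp hq
      obtain ⟨hpprime, hpirr, hpJ⟩ := hP p hp
      refine ⟨hpprime.homogeneousCore, (p.homogeneousCore 𝒜).isHomogeneous, ?_⟩
      intro hle
      have h1 : J * Irr ≤ p :=
        (Ideal.mul_le_inf).trans (hle.trans (Ideal.toIdeal_homogeneousCore_le 𝒜 p))
      rcases hpprime.mul_le.mp h1 with h | h
      · exact hpJ h
      · exact hpirr h)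
  refine ⟨z, n, hn, hzdeg, hzJ.1, fun p hp hzp => ?_⟩
  apply hz _ (Finset.mem_image_of_mem _ hp)
  exact Ideal.mem_homogeneousCore_of_homogeneous_of_mem ⟨n, hzdeg⟩ hzp

end Groth.Agent.S15708
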