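import Groth.Statements.S1571
import Mathlib.AlgebraicGeometry.Morphisms.SchemeTheoreticallyDominant
import Mathlib.AlgebraicGeometry.Morphisms.Affine

set_option autoImplicit false
universe u
open CategoryTheory CategoryTheory.Limits AlgebraicGeometry
open Divisors

namespace Groth.Agent.S1571

open AlgebraicGeometry CategoryTheory Limits in
lemma compl_inf_eq_basicOpen (S : Scheme.{u}) (D : S.IdealSheafData) (U : S.affineOpens)
    (f : Γ(S, U.1)) (hf : D.ideal U = Ideal.span {f}) :
    D.support.compl ⊓ U.1 = S.basicOpen f := by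
  ext x
  constructor
  · rintro ⟨hx1, hx2⟩
    by_contra hx3
    apply hx1
    change x ∈ D.support
    rw [Scheme.IdealSheafData.mem_support_iff_of_mem hx2, hf, Scheme.zeroLocus_span,
      Scheme.zeroLocus_singleton]
    exact hx3
  · intro hx
    have hxU : x ∈ U.1 := S.basicOpen_le f hx
    refine ⟨?_, hxU⟩
    intro hx1
    change x ∈ D.support at hx1
    rw [Scheme.IdealSheafData.mem_support_iff_of_mem hxU, hf, Scheme.zeroLocus_span,
      Scheme.zeroLocus_singleton] at hx1
    exact hx1 hx

open AlgebraicGeometry CategoryTheory Limits in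
lemma image_preimage_eq (S : Scheme.{u}) (D : S.IdealSheafData) (U : S.affineOpens)
    (f : Γ(S, U.1)) (hf : D.ideal U = Ideal.span {f}) :
    (Scheme.Opens.ι (X := S) D.support.compl) ''ᵁ
      ((Scheme.Opens.ι (X := S) D.support.compl) ⁻¹ᵁ U.1) = S.basicOpen f := by
  rw [Scheme.Hom.image_preimage_eq_opensRange_inf, Scheme.Opens.opensRange_ι,
    compl_inf_eq_basicOpen S D U f hf]

/-- The open complement of an effective Cartier divisor is an affine open immersion and is
scheme-theoretically dense. -/
theorem result (S : Scheme.{u}) (D : S.IdealSheafData) (hD : BlowUp.IsEffCartierIdeal D) :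
    IsAffineHom (Scheme.Opens.ι (X := S) D.support.compl) ∧ IsSchemeTheoreticallyDominant (Scheme.Opens.ι (X := S) D.support.compl) := by
  choose U hxU f hfnzd hf using hD
  have hcov : ⨆ x, (U x).1 = ⊤ := by
    rw [eq_top_iff]
    intro x _
    exact TopologicalSpace.Opens.mem_iSup.mpr ⟨x, hxU x⟩
  have haff : IsAffineHom (Scheme.Opens.ι (X := S) D.support.compl) := by
    rw [HasAffineProperty.iff_of_iSup_eq_top (P := @IsAffineHom) (fun x => U x) hcov]
    intro x
    change IsAffineOpen ((Scheme.Opens.ι (X := S) D.support.compl) ⁻¹ᵁ (U x).1)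
    rw [← (Scheme.Opens.ι (X := S) D.support.compl).isAffineOpen_iff_of_isOpenImmersion,
      image_preimage_eq S D (U x) (f x) (hf x)]
    exact (U x).2.basicOpen (f x)
  refine ⟨haff, ⟨?_⟩⟩
  refine Scheme.IdealSheafData.ext_of_iSup_eq_top (fun x => U x) hcov fun x => ?_
  rw [Scheme.Hom.ker_apply, Scheme.IdealSheafData.ideal_bot, Pi.bot_apply,
    ← RingHom.injective_iff_ker_eq_bot, Scheme.Opens.ι_app]
  have e := image_preimage_eq S D (U x) (f x) (hf x)
  letI := (S.presheaf.map (homOfLE (x := (Scheme.Opens.ι (X := S) D.support.compl) ''ᵁ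
      ((Scheme.Opens.ι (X := S) D.support.compl) ⁻¹ᵁ (U x).1)) (y := (U x).1)
      (Set.image_preimage_subset _ _)).op).hom.toAlgebra
  haveI := (U x).2.isLocalization_of_eq_basicOpen (f x) (homOfLE (Set.image_preimage_subset _ _)) e
  exact IsLocalization.injective (M := Submonoid.powers (f x))
    Γ(S, (Scheme.Opens.ι (X := S) D.support.compl) ''ᵁ
      ((Scheme.Opens.ι (X := S) D.support.compl) ⁻¹ᵁ (U x).1))
    (Submonoid.powers_le.mpr (hfnzd x))

end Groth.Agent.S1571
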