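import Groth.Statements.S3842
import Mathlib

set_option autoImplicit false
universe u
open CategoryTheory CategoryTheory.Limits AlgebraicGeometry TopologicalSpace
open Rat20

namespace Groth.Agent.S3842


lemma dense_of_schematicallyDense {X : Scheme.{u}} (V : X.Opens)
    (hV : CInt.IsSchematicallyDense V) : Dense (V : Set X) := by
  rw [dense_iff_inter_open]
  intro O hO hne
  by_contra hcon
  rw [Set.not_nonempty_iff_eq_empty] at hcon
  obtain ⟨O', hO'⟩ : ∃ O' : X.Opens, (O' : Set X) = O := ⟨⟨O, hO⟩, rfl⟩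
  have hbot : O' ⊓ V = ⊥ := by
    apply Opens.ext
    rw [Opens.coe_inf, Opens.coe_bot, hO']
    exact hcon
  have hinj := hV O'
  have h10 : (1 : Γ(X, O')) = 0 := by
    apply hinj
    have : Subsingleton Γ(X, O' ⊓ V) := by rw [hbot]; infer_instance
    exact Subsingleton.elim _ _
  have hO'bot : O' = ⊥ := by
    rw [← Scheme.basicOpen_one (X := X) (U := O'), h10, Scheme.basicOpen_zero]
  obtain ⟨x, hx⟩ := hne
  have hx' : x ∈ (O' : Set X) := by rw [hO']; exact hx
  rw [hO'bot, Opens.coe_bot] at hx'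
  exact hx'

lemma schematicallyDense_of_dense {X : Scheme.{u}} [IsReduced X] (W : X.Opens)
    (hW : Dense (W : Set X)) : CInt.IsSchematicallyDense W := by
  intro O
  refine (injective_iff_map_eq_zero _).mpr ?_
  intro s hs
  rw [← basicOpen_eq_bot_iff]
  by_contra hne
  have hne' : (X.basicOpen s : Set X).Nonempty := by
    rw [Set.nonempty_iff_ne_empty]
    intro h
    exact hne (Opens.ext (by rw [Opens.coe_bot]; exact h))
  obtain ⟨x, hx1, hx2⟩ := hW.inter_open_nonempty _ (X.basicOpen s).isOpen hne'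
  have hxO : x ∈ O := X.basicOpen_le s hx1
  have hmem : x ∈ X.basicOpen (X.presheaf.map (homOfLE (inf_le_left : O ⊓ W ≤ O)).op s) := by
    rw [Scheme.basicOpen_res]
    exact ⟨⟨hxO, hx2⟩, hx1⟩
  rw [hs, Scheme.basicOpen_zero] at hmem
  exact hmem

lemma inter_comp_nonempty {T : Type*} [TopologicalSpace T]
    (hfin : ∀ x : T, ∃ W : Opens T, x ∈ W ∧
      {Z ∈ irreducibleComponents T | (Z ∩ (W : Set T)).Nonempty}.Finite)
    (V : Set T) (hV : Dense V) (Z : Set T) (hZ : Z ∈ irreducibleComponents T) :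
    (V ∩ Z).Nonempty := by
  have hZirr : IsIrreducible Z := hZ.1
  obtain ⟨x, hxZ⟩ := hZirr.1
  obtain ⟨W, hxW, hfinW⟩ := hfin x
  have hWo : IsOpen (W : Set T) := W.isOpen
  obtain ⟨S, hS⟩ : ∃ S : Set (Set T),
      S = {Z' ∈ irreducibleComponents T | (Z' ∩ (W : Set T)).Nonempty} := ⟨_, rfl⟩
  rw [← hS] at hfinW
  have hTfin : (S \ {Z}).Finite := hfinW.subset Set.sdiff_subset
  have hTsub : (S \ {Z}) ⊆ irreducibleComponents T := by
    intro Z' h
    have h1 : Z' ∈ S := h.1
    rw [hS] at h1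
    exact h1.1
  have hCclosed : IsClosed (⋃₀ (S \ {Z})) := by
    rw [Set.sUnion_eq_biUnion]
    exact hTfin.isClosed_biUnion (fun Z' hZ' => isClosed_of_mem_irreducibleComponents Z' (hTsub hZ'))
  have hOne : ((W : Set T) \ ⋃₀ (S \ {Z})).Nonempty := by
    by_contra hcon
    rw [Set.not_nonempty_iff_eq_empty, Set.sdiff_eq_empty] at hcon
    have h1 : Z ⊆ closure (Z ∩ (W : Set T)) :=
      subset_closure_inter_of_isPreirreducible_of_isOpen hZirr.2 hWo ⟨x, hxZ, hxW⟩
    have h2 : Z ⊆ ⋃₀ (S \ {Z}) :=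
      h1.trans (closure_minimal (Set.inter_subset_right.trans hcon) hCclosed)
    have h3 := mem_of_subset_sUnion_irreducibleComponents Z hZ (S \ {Z}) hTfin hTsub h2
    exact h3.2 rfl
  have hOo : IsOpen ((W : Set T) \ ⋃₀ (S \ {Z})) := hWo.sdiff hCclosed
  obtain ⟨p, ⟨hpW, hpC⟩, hpV⟩ := hV.inter_open_nonempty _ hOo hOne
  refine ⟨p, hpV, ?_⟩
  have hZp : irreducibleComponent p ∈ S := by
    rw [hS]
    exact ⟨irreducibleComponent_mem_irreducibleComponents p, p, mem_irreducibleComponent, hpW⟩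
  by_contra hpZ
  apply hpC
  refine ⟨irreducibleComponent p, ⟨hZp, ?_⟩, mem_irreducibleComponent⟩
  intro h
  rw [Set.mem_singleton_iff] at h
  exact hpZ (h ▸ mem_irreducibleComponent)


/-- For the open subset U = X; the general case is the same statement over the open subscheme U: let f :
X' → X be a morphism of schemes with X' reduced, suppose the irreducible components of X form a
locally finite family and that every irreducible component of X' dominates an irreducible component
of X (the closure of its image is an irreducible component of X). Then for every schematically dense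
open subset V of X, the preimage f⁻¹(V) is schematically dense in X'. -/
theorem result {X X' : Scheme.{u}} (f : X' ⟶ X) [IsReduced X']
    (hfin : ∀ x : ↥X, ∃ W : X.Opens, x ∈ W ∧ {Z ∈ irreducibleComponents ↥X | (Z ∩ (W : Set ↥X)).Nonempty}.Finite)
    (hdom : ∀ Z' ∈ irreducibleComponents ↥X', closure (f '' Z') ∈ irreducibleComponents ↥X)
    (V : X.Opens) (hV : CInt.IsSchematicallyDense V) : CInt.IsSchematicallyDense (f ⁻¹ᵁ V) := by
  apply schematicallyDense_of_dense
  have hVd := dense_of_schematicallyDense V hV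
  rw [dense_iff_inter_open]
  rintro O hO ⟨x, hxO⟩
  have hZ' := irreducibleComponent_mem_irreducibleComponents x
  have hZ := hdom _ hZ'
  obtain ⟨p, hpV, hpZ⟩ := inter_comp_nonempty hfin (V : Set X) hVd _ hZ
  obtain ⟨_, hqV, ⟨q, hqZ', rfl⟩⟩ := mem_closure_iff.mp hpZ (V : Set X) V.isOpen hpV
  have hq : q ∈ ((f ⁻¹ᵁ V : X'.Opens) : Set X') := hqV
  obtain ⟨r, _, hrO, hrV⟩ := (isIrreducible_irreducibleComponent (x := x)).2 O
    ((f ⁻¹ᵁ V : X'.Opens) : Set X') hO (f ⁻¹ᵁ V).isOpen ⟨x, mem_irreducibleComponent, hxO⟩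
    ⟨q, hqZ', hq⟩
  exact ⟨r, hrO, hrV⟩

end Groth.Agent.S3842
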