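import Groth.Statements.S15712
import Mathlib
import Groth.Agent.S3842

set_option autoImplicit false
universe u
open CategoryTheory AlgebraicGeometry TopologicalSpace
open RatSing

namespace Groth.Agent.S15712

lemma depth_eq_zero {B : Type u} [CommRing B] [IsLocalRing B] (w : B) (hw : w ≠ 0)
    (hk : ∀ r ∈ IsLocalRing.maximalIdeal B, r * w = 0) : LocCoh.depth B B = 0 := by
  unfold LocCoh.depth LocCoh.idealDepth
  rw [if_neg]
  · refine le_antisymm ?_ zero_le
    refine iSup₂_le ?_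
    intro rs hrs
    cases rs with
    | nil => simp
    | cons r rs' =>
      exfalso
      have h1 := hrs.1
      rw [RingTheory.Sequence.isWeaklyRegular_cons_iff] at h1
      have hr : r ∈ IsLocalRing.maximalIdeal B := hrs.2 r List.mem_cons_self
      have h2 : r • w = r • (0 : B) := by rw [smul_zero, smul_eq_mul, hk r hr]
      exact hw (h1.1 h2)
  · intro htop
    have hle : (IsLocalRing.maximalIdeal B) • (⊤ : Submodule B B) ≤ IsLocalRing.maximalIdeal B := by
      rw [Submodule.smul_le]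
      intro r hr n _
      exact Ideal.mul_mem_right n _ hr
    rw [htop] at hle
    exact (IsLocalRing.maximalIdeal.isMaximal B).ne_top (top_le_iff.mp hle)

lemma exists_basic_nhd {A : Type u} [CommRing A] [IsNoetherianRing A] (P : Ideal A) [hPp : P.IsPrime]
    (hP : P ∈ minimalPrimes A) :
    ∃ u : A, u ∉ P ∧ ∀ Q' : Ideal A, Q'.IsPrime → u ∉ Q' → P ≤ Q' := by
  classical
  have hfin : (minimalPrimes A).Finite := minimalPrimes.finite_of_isNoetherianRing A
  let T : Finset (Ideal A) := hfin.toFinset.erase P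
  have hnot : ¬ (T.inf id ≤ P) := by
    intro hle
    rw [Ideal.IsPrime.inf_le' hPp] at hle
    obtain ⟨Q, hQT, hQP⟩ := hle
    rw [Finset.mem_erase, Set.Finite.mem_toFinset] at hQT
    obtain ⟨hne, hQmin⟩ := hQT
    have : P ≤ Q := hP.2 ⟨hQmin.1.1, bot_le⟩ hQP
    exact hne (le_antisymm hQP this)
  obtain ⟨u, huT, huP⟩ := SetLike.not_le_iff_exists.mp hnot
  refine ⟨u, huP, ?_⟩
  intro Q' hQ' huQ'
  haveI := hQ'
  obtain ⟨Q'', hQ''min, hQ''le⟩ :=
    Ideal.exists_minimalPrimes_le (show (⊥ : Ideal A) ≤ Q' from bot_le)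
  by_cases h : Q'' = P
  · rw [← h]; exact hQ''le
  · exfalso
    apply huQ'
    apply hQ''le
    have hmem : Q'' ∈ T := by
      rw [Finset.mem_erase, Set.Finite.mem_toFinset]
      exact ⟨h, hQ''min⟩
    have hinf : T.inf id ≤ Q'' := Finset.inf_le hmem
    exact hinf huT

lemma mem_basicOpen_iff {X : Scheme.{u}} {W : X.Opens} (hW : IsAffineOpen W) (a : Γ(X, W)) (q : X)
    (hq : q ∈ W) : q ∈ X.basicOpen a ↔ a ∉ (hW.primeIdealOf ⟨q, hq⟩).asIdeal := by
  letI := TopCat.Presheaf.algebra_section_stalk X.presheaf (U := W) ⟨q, hq⟩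
  have hloc := hW.isLocalization_stalk ⟨q, hq⟩
  rw [X.mem_basicOpen a q hq]
  exact IsLocalization.AtPrime.isUnit_to_map_iff (X.presheaf.stalk q)
    (hW.primeIdealOf ⟨q, hq⟩).asIdeal a

lemma atPrime_of_eq {A B : Type u} [CommRing A] [CommRing B] [Algebra A B]
    (Q Q' : PrimeSpectrum A) (h : Q = Q') (hl : IsLocalization.AtPrime B Q.asIdeal) :
    IsLocalization.AtPrime B Q'.asIdeal := by
  subst h; exact hl

lemma local_zero (X : Scheme.{u}) [IsLocallyNoetherian X]
    (hS1 : ∀ x : X, min (1 : WithBot ℕ∞) (ringKrullDim (X.presheaf.stalk x)) ≤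
      ((LocCoh.depth (X.presheaf.stalk x) (X.presheaf.stalk x) : ℕ∞) : WithBot ℕ∞))
    (U : X.Opens) (hd : Dense (U : Set X)) (W : X.Opens) (hW : IsAffineOpen W)
    (t : Γ(X, W))
    (ht : ∀ y : X, ∀ hy : y ∈ W, y ∈ U → X.presheaf.germ W y hy t = 0) : t = 0 := by
  by_contra htne
  haveI : IsNoetherianRing Γ(X, W) := IsLocallyNoetherian.component_noetherian ⟨W, hW⟩
  obtain ⟨P, hPass, hle⟩ := exists_le_isAssociatedPrime_of_isNoetherianRing Γ(X, W) t htne
  rw [isAssociatedPrime_iff] at hPass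
  obtain ⟨hPprime, z, hPz⟩ := hPass
  obtain ⟨Q, hQ⟩ : ∃ Q : PrimeSpectrum Γ(X, W), Q = ⟨P, hPprime⟩ := ⟨_, rfl⟩
  have hQP : Q.asIdeal = P := by rw [hQ]
  obtain ⟨y, hy⟩ : ∃ y : X, y = hW.fromSpec Q := ⟨_, rfl⟩
  have hyW : y ∈ W := by
    have h1 : y ∈ Set.range hW.fromSpec := ⟨Q, hy.symm⟩
    rw [hW.range_fromSpec] at h1
    exact h1
  have hprim : hW.primeIdealOf ⟨y, hyW⟩ = Q := by
    apply hW.fromSpec.isOpenEmbedding.injective
    rw [hW.fromSpec_primeIdealOf ⟨y, hyW⟩]
    exact hy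
  letI := TopCat.Presheaf.algebra_section_stalk X.presheaf (U := W) ⟨y, hyW⟩
  have hloc0 := hW.isLocalization_stalk ⟨y, hyW⟩
  haveI hloc : IsLocalization.AtPrime (X.presheaf.stalk y) Q.asIdeal :=
    atPrime_of_eq _ _ hprim hloc0
  have hz_ne : algebraMap Γ(X, W) (X.presheaf.stalk y) z ≠ 0 := by
    intro h0
    rw [IsLocalization.map_eq_zero_iff Q.asIdeal.primeCompl] at h0
    obtain ⟨m, hm⟩ := h0
    apply Ideal.mem_primeCompl_iff.mp m.2
    apply hQP.ge
    rw [hPz, Submodule.mem_colon_singleton, Submodule.mem_bot, smul_eq_mul]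
    exact hm
  have hk : ∀ r ∈ IsLocalRing.maximalIdeal (X.presheaf.stalk y),
      r * algebraMap Γ(X, W) (X.presheaf.stalk y) z = 0 := by
    intro r hr
    obtain ⟨a, m, rfl⟩ := IsLocalization.exists_mk'_eq Q.asIdeal.primeCompl r
    rw [IsLocalization.AtPrime.mk'_mem_maximal_iff (X.presheaf.stalk y) Q.asIdeal] at hr
    have haz : a * z = 0 := by
      have h1 : a ∈ Submodule.colon (⊥ : Submodule Γ(X, W) Γ(X, W)) {z} := by
        rw [← hPz, ← hQP]; exact hr
      rw [Submodule.mem_colon_singleton, Submodule.mem_bot, smul_eq_mul] at h1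
      exact h1
    have hunit : IsUnit (algebraMap Γ(X, W) (X.presheaf.stalk y) (m : Γ(X, W))) :=
      IsLocalization.map_units _ m
    have h3 : algebraMap Γ(X, W) (X.presheaf.stalk y) (m : Γ(X, W)) *
        (IsLocalization.mk' (X.presheaf.stalk y) a m *
          algebraMap Γ(X, W) (X.presheaf.stalk y) z) =
        algebraMap Γ(X, W) (X.presheaf.stalk y) (m : Γ(X, W)) * 0 := by
      rw [mul_zero, ← mul_assoc,
        mul_comm (algebraMap Γ(X, W) (X.presheaf.stalk y) (m : Γ(X, W))),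
        IsLocalization.mk'_spec, ← map_mul, haz, map_zero]
    exact hunit.mul_right_inj.mp h3
  have hdepth : LocCoh.depth (X.presheaf.stalk y) (X.presheaf.stalk y) = 0 :=
    depth_eq_zero _ hz_ne hk
  have h10 : ¬ ((1 : WithBot ℕ∞) ≤ 0) := by
    rw [← WithBot.coe_one, ← WithBot.coe_zero, WithBot.coe_le_coe]
    exact not_le.mpr zero_lt_one
  have hdim : ringKrullDim (X.presheaf.stalk y) ≤ 0 := by
    have h1 := hS1 y
    rw [hdepth, WithBot.coe_zero] at h1
    rcases min_le_iff.mp h1 with h | h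
    · exact absurd h h10
    · exact h
  have hht : Q.asIdeal.height = 0 := by
    have h2 := IsLocalization.AtPrime.ringKrullDim_eq_height Q.asIdeal (X.presheaf.stalk y)
    rw [h2] at hdim
    have h3 : Q.asIdeal.height ≤ 0 := by exact_mod_cast hdim
    exact le_antisymm h3 zero_le
  have hmin : Q.asIdeal ∈ minimalPrimes Γ(X, W) := Ideal.height_eq_zero_iff.mp hht
  obtain ⟨a, haP, ha⟩ := exists_basic_nhd Q.asIdeal hmin
  have hyO : y ∈ X.basicOpen a := by
    rw [mem_basicOpen_iff hW a y hyW, hprim]; exact haP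
  obtain ⟨q, hqO, hqU⟩ :=
    hd.inter_open_nonempty (X.basicOpen a : Set X) (X.basicOpen a).2 ⟨y, hyO⟩
  have hqW : q ∈ W := X.basicOpen_le a hqO
  have ha' : a ∉ (hW.primeIdealOf ⟨q, hqW⟩).asIdeal := (mem_basicOpen_iff hW a q hqW).mp hqO
  have hle' : Q.asIdeal ≤ (hW.primeIdealOf ⟨q, hqW⟩).asIdeal :=
    ha _ (hW.primeIdealOf ⟨q, hqW⟩).isPrime ha'
  have hspec : Q ⤳ hW.primeIdealOf ⟨q, hqW⟩ := (PrimeSpectrum.le_iff_specializes _ _).mp hle'
  have hspec' : y ⤳ q := by
    have h1 := hspec.map hW.fromSpec.continuous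
    rw [hW.fromSpec_primeIdealOf ⟨q, hqW⟩, ← hy] at h1
    exact h1
  have hyU : y ∈ U := hspec'.mem_open U.2 hqU
  have hgerm : X.presheaf.germ W y hyW t = 0 := ht y hyW hyU
  have h0 : algebraMap Γ(X, W) (X.presheaf.stalk y) t = 0 := hgerm
  rw [IsLocalization.map_eq_zero_iff Q.asIdeal.primeCompl] at h0
  obtain ⟨m, hm⟩ := h0
  apply Ideal.mem_primeCompl_iff.mp m.2
  apply hQP.ge
  apply hle
  rw [Submodule.mem_colon_singleton, Submodule.mem_bot, smul_eq_mul]
  exact hm


/-- Let X be a locally Noetherian scheme with Serre's property (S_1), i.e. every local ring O_{X,x} has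
depth at least min(1, dim O_{X,x}) (for instance X Cohen–Macaulay), and let U ⊆ X be open. Then
scheme-theoretic density of U in X is equivalent to U being dense as a subset. (The published
statement assumes every scheme excellent, in particular locally Noetherian.) -/
theorem result (X : Scheme.{u}) [IsLocallyNoetherian X]
    (hS1 : ∀ x : X, min (1 : WithBot ℕ∞) (ringKrullDim (X.presheaf.stalk x)) ≤
      ((LocCoh.depth (X.presheaf.stalk x) (X.presheaf.stalk x) : ℕ∞) : WithBot ℕ∞))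
    (U : X.Opens) : CInt.IsSchematicallyDense U ↔ Dense (U : Set X) := by
  constructor
  · intro h
    exact Groth.Agent.S3842.dense_of_schematicallyDense U h
  · intro hd V
    refine (injective_iff_map_eq_zero _).mpr ?_
    intro s hs
    refine TopCat.Presheaf.section_ext X.sheaf V s 0 ?_
    intro x hx
    obtain ⟨W, hWaff, hxW, hWV⟩ := (Opens.isBasis_iff_nbhd.mp X.isBasis_affineOpens) hx
    have hW : IsAffineOpen W := hWaff
    have key : X.presheaf.map (homOfLE hWV).op s = 0 := by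
      apply local_zero X hS1 U hd W hW
      intro y hyW hyU
      have e1 := TopCat.Presheaf.germ_res_apply X.presheaf (homOfLE hWV) y hyW s
      have hyVU : y ∈ V ⊓ U := ⟨hWV hyW, hyU⟩
      have e2 := TopCat.Presheaf.germ_res_apply X.presheaf
        (homOfLE (inf_le_left : V ⊓ U ≤ V)) y hyVU s
      rw [e1, ← e2, hs, map_zero]
    have e3 := TopCat.Presheaf.germ_res_apply X.presheaf (homOfLE hWV) x hxW s
    show X.presheaf.germ V x hx s = X.presheaf.germ V x hx 0
    rw [map_zero, ← e3, key, map_zero]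

end Groth.Agent.S15712
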