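import Groth.Statements.S15715
import Groth.Agent.H21.SepModSch

set_option autoImplicit false
universe u
open CategoryTheory AlgebraicGeometry TopologicalSpace
open RatSing

namespace Groth.Agent.S15715

open Opposite in
/-- the affine core: a section of a torsion-free quasi-coherent module over an affine open of a
locally Noetherian scheme which vanishes on a schematically dense open is zero. -/
theorem affine_core (X : Scheme.{u}) [IsLocallyNoetherian X] (F : X.Modules)
    [F.IsQuasicoherent] {W : X.Opens} (hW : IsAffineOpen W)
    (htf : Submodule.torsion Γ(X, W) (F.val.obj (Opposite.op W)) = ⊥)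
    (U : X.Opens) (hU : CInt.IsSchematicallyDense U) (d : Γ(F, W))
    (hd : F.presheaf.map (homOfLE (inf_le_left : W ⊓ U ≤ W)).op d = 0) : d = 0 := by
  haveI : IsNoetherianRing Γ(X, W) := IsLocallyNoetherian.component_noetherian ⟨W, hW⟩
  -- the annihilator of `d`
  let J : Ideal Γ(X, W) := LinearMap.ker (LinearMap.toSpanSingleton Γ(X, W) Γ(F, W) d)
  have hJmem : ∀ a : Γ(X, W), a ∈ J ↔ a • d = 0 := fun a => by
    change (LinearMap.toSpanSingleton Γ(X, W) Γ(F, W) d) a = 0 ↔ _
    rw [LinearMap.toSpanSingleton_apply]
  -- basic opens inside `U` give elements of `J`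
  have hbasic : ∀ a : Γ(X, W), X.basicOpen a ≤ U → ∃ n : ℕ, a ^ n ∈ J := by
    intro a ha
    obtain ⟨n, hn⟩ := Groth.Agent.H8.exists_smul_eq_zero hW F a d (by
      have hle : X.basicOpen a ≤ W ⊓ U := le_inf (X.basicOpen_le a) ha
      have h1 := congrArg (F.presheaf.map (homOfLE hle).op) hd
      rw [map_zero, ← ConcreteCategory.comp_apply, ← Functor.map_comp] at h1
      exact h1)
    exact ⟨n, (hJmem _).mpr hn⟩
  -- the annihilator of `J` is zero
  have hann : Module.annihilator Γ(X, W) J = ⊥ := by
    rw [eq_bot_iff]
    intro b hb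
    rw [Submodule.mem_annihilator] at hb
    rw [Submodule.mem_bot]
    apply hU W
    rw [map_zero]
    -- `b` restricted to `W ⊓ U` vanishes, locally on basic opens
    apply Groth.Agent.H21.SchDom.eq_zero_of_forall_res _
      (fun W' => ∃ a : Γ(X, W), W' = X.basicOpen a ∧ X.basicOpen a ≤ U)
    · intro x hx
      obtain ⟨a, haU, hxa⟩ := hW.exists_basicOpen_le ⟨x, hx.2⟩ hx.1
      exact ⟨X.basicOpen a, hxa, le_inf (X.basicOpen_le a) haU, a, rfl, haU⟩
    · rintro W' hW'le ⟨a, rfl, haU⟩
      obtain ⟨n, hn⟩ := hbasic a haU
      have h1 : b * a ^ n = 0 := by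
        have := hb (a ^ n) hn
        simpa [smul_eq_mul] using this
      rw [← ConcreteCategory.comp_apply, ← Functor.map_comp]
      have h2 := congrArg (X.presheaf.map (homOfLE (X.basicOpen_le a)).op) h1
      rw [map_mul, map_pow, map_zero] at h2
      have hunit : IsUnit (X.presheaf.map (homOfLE (X.basicOpen_le a)).op a) :=
        RingedSpace.isUnit_res_basicOpen X.toRingedSpace a
      exact ((hunit.pow n).mul_left_eq_zero).mp h2
  -- a regular element of `J`
  have hnd : ¬ Disjoint (J : Set Γ(X, W)) (nonZeroDivisors Γ(X, W)) := by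
    intro h
    have := Ideal.bot_lt_annihilator_of_disjoint_nonZeroDivisors h
    rw [hann] at this
    exact lt_irrefl _ this
  rw [Set.not_disjoint_iff] at hnd
  obtain ⟨r, hrJ, hr⟩ := hnd
  have hmem : (d : ↑(F.val.obj (Opposite.op W))) ∈ Submodule.torsion Γ(X, W)
      (F.val.obj (Opposite.op W)) :=
    (Submodule.mem_torsion_iff (R := Γ(X, W)) (M := F.val.obj (Opposite.op W)) d).mpr
      ⟨⟨r, hr⟩, (hJmem r).mp hrJ⟩
  rw [htf] at hmem
  exact (Submodule.mem_bot (R := Γ(X, W)) (M := F.val.obj (Opposite.op W))).mp hmem

/-- Let X be a locally Noetherian scheme, φ : F → G a homomorphism of O_X-modules with F quasi-coherent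
and torsion-free (over every affine open V, no nonzero section of F is killed by a regular element
of O_X(V)), and U a scheme-theoretically dense open subset of X such that the restriction of φ to U
is injective. Then φ is injective. (The published statement allows an arbitrary O_X-module F; for
the skyscraper sheaf on the affine line over a field, placed at a closed point with value the local
ring at that point, which is torsion-free in this sense, the zero map to the zero module is
injective over the dense open complement of the point but not injective. This row takes F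
quasi-coherent.) -/
theorem result (X : Scheme.{u})
    [IsLocallyNoetherian X] (F G : X.Modules) (hF : Coh.IsQCoh F)
    (htf : ∀ V : X.affineOpens, Submodule.torsion Γ(X, V.1) (F.val.obj (Opposite.op V.1)) = ⊥)
    (φ : F ⟶ G) (U : X.Opens) (hU : CInt.IsSchematicallyDense U)
    (hφU : ∀ V : X.Opens, V ≤ U → Function.Injective ⇑(ConcreteCategory.hom (φ.val.app (Opposite.op V)))) (V : X.Opens) :
    Function.Injective ⇑(ConcreteCategory.hom (φ.val.app (Opposite.op V))) := by
  haveI : F.IsQuasicoherent := hF
  rw [injective_iff_map_eq_zero]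
  intro d hd
  apply Groth.Agent.H21.SepModSch.eq_zero_of_forall_res F (V := V) d IsAffineOpen
  · intro x hx
    obtain ⟨W, hW, hxW, hWle⟩ := TopologicalSpace.Opens.isBasis_iff_nbhd.mp
      X.isBasis_affineOpens hx
    exact ⟨W, hxW, hWle, hW⟩
  · intro W hWV hW
    apply affine_core X F hW (htf ⟨W, hW⟩) U hU
    -- the restriction to `W ⊓ U` lies in the kernel of `φ` over an open inside `U`
    rw [Groth.Agent.H39.PullTrack.res_res]
    have hle : W ⊓ U ≤ V := inf_le_left.trans hWV
    have h0 : φ.app (W ⊓ U) (F.presheaf.map (homOfLE hle).op d) = 0 := by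
      rw [Groth.Agent.H39.PullTrack.app_res]
      have hd' : φ.app V d = 0 := hd
      rw [hd', map_zero]
    have hinj := hφU (W ⊓ U) inf_le_right
    exact hinj (h0.trans (map_zero _).symm)

end Groth.Agent.S15715
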