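import Groth.Statements.S15717
import Groth.Agent.H29.DepthFinite

set_option autoImplicit false
universe u
open CAlg

namespace Groth.Agent.S15717

/-- Let R be a Cohen–Macaulay local ring and I an ideal of R with R/I equidimensional (all minimal
primes p over I have the same dim R/p). Then there is a regular sequence r_1, ..., r_n in I such
that the closed subscheme V(r_1, ..., r_n) of Spec R, a local complete intersection, contains V(I),
has the same dimension as V(I), and has the irreducible components of V(I) among its irreducible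
components: dim R/(r_1, ..., r_n) = dim R/I and every minimal prime over I is a minimal prime over
(r_1, ..., r_n). The sequence is asked to be weakly regular (each r_i a non-zero-divisor modulo the
previous ones), which for I proper is the same as regular and which also covers I = R with the
sequence (1). -/
theorem result (R : Type u) [CommRing R]
    [LocCoh.IsCohenMacaulayLocalRing R] (I : Ideal R)
    (hI : ∀ p ∈ I.minimalPrimes, ringKrullDim (R ⧸ p) = ringKrullDim (R ⧸ I)) :
    ∃ rs : List R, RingTheory.Sequence.IsWeaklyRegular R rs ∧ Ideal.ofList rs ≤ I ∧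
      ringKrullDim (R ⧸ Ideal.ofList rs) = ringKrullDim (R ⧸ I) ∧
      I.minimalPrimes ⊆ (Ideal.ofList rs).minimalPrimes := by
  by_cases hItop : I = ⊤
  · subst hItop
    refine ⟨[1], ?_, le_top, ?_, ?_⟩
    · exact (RingTheory.Sequence.isWeaklyRegular_cons_iff R (1 : R) []).mpr
        ⟨fun a b hab => by simpa using hab, RingTheory.Sequence.IsWeaklyRegular.nil R _⟩
    · have h1 : Ideal.ofList [(1 : R)] = ⊤ := by
        rw [Ideal.eq_top_iff_one]
        exact Ideal.subset_span (by simp)
      rw [h1]
    · rw [Ideal.minimalPrimes_top]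
      exact Set.empty_subset _
  · have hCM : LocCoh.IsCohenMacaulayModule R R :=
      LocCoh.IsCohenMacaulayLocalRing.supportDim_eq_depth
    have hIm : I ≤ IsLocalRing.maximalIdeal R := IsLocalRing.le_maximalIdeal hItop
    have hIM : I • (⊤ : Submodule R R) ≠ ⊤ :=
      Groth.Agent.H29.CM.smul_top_ne_top_of_le_maximalIdeal hIm
    obtain ⟨r, hr⟩ := Groth.Agent.H29.CM.exists_nat_idealDepth (M := R) hIm
    obtain ⟨rs, hw, hrsI, hlen⟩ :=
      (Groth.Agent.H15.Depth.le_idealDepth_iff hIM r).mp (le_of_eq hr.symm)
    have hrsle : Ideal.ofList rs ≤ I := Ideal.span_le.mpr (fun x hx => hrsI x hx)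
    have hdimI := Groth.Agent.H29.CM.supportDim_eq_add_idealDepth_of_isCM hCM hItop
    have hrsm : Ideal.ofList rs ≤ IsLocalRing.maximalIdeal R := hrsle.trans hIm
    have hreg : RingTheory.Sequence.IsRegular R rs :=
      ⟨hw, (Groth.Agent.H29.CM.smul_top_ne_top_of_le_maximalIdeal (M := R) hrsm).symm⟩
    have hdimrs := Module.supportDim_add_length_eq_supportDim_of_isRegular rs hreg
    have hconv : ∀ J : Ideal R, Module.supportDim R (R ⧸ (J • (⊤ : Submodule R R))) =
        ringKrullDim (R ⧸ J) := fun J => by
      rw [← Module.supportDim_quotient_eq_ringKrullDim]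
      exact Module.supportDim_eq_of_equiv (Submodule.quotEquivOfEq _ _ (by simp))
    rw [hconv] at hdimI hdimrs
    have hdimeq : ringKrullDim (R ⧸ Ideal.ofList rs) = ringKrullDim (R ⧸ I) := by
      rw [hr, ← hdimrs, hlen] at hdimI
      have h2 : ringKrullDim (R ⧸ Ideal.ofList rs) + ((r : ℕ) : WithBot ℕ∞) =
          ringKrullDim (R ⧸ I) + ((r : ℕ) : WithBot ℕ∞) := by exact_mod_cast hdimI
      exact ENat.WithBot.add_natCast_cancel.mp h2
    refine ⟨rs, hw, hrsle, hdimeq, ?_⟩
    intro p hp
    haveI := hp.1.1
    have hple : Ideal.ofList rs ≤ p := hrsle.trans hp.1.2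
    obtain ⟨q, hq, hqp⟩ := Ideal.exists_minimalPrimes_le hple
    haveI := hq.1.1
    have hdq : ringKrullDim (R ⧸ q) ≤ ringKrullDim (R ⧸ Ideal.ofList rs) :=
      ringKrullDim_le_of_surjective (Ideal.Quotient.factor hq.1.2)
        (Ideal.Quotient.factor_surjective hq.1.2)
    have hqeq : q = p := Groth.Agent.H29.CM.eq_of_le_of_ringKrullDim_quotient_le hqp
      (by rw [hI p hp, ← hdimeq]; exact hdq)
    rw [← hqeq]
    exact hq

end Groth.Agent.S15717
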