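import Groth.Statements.S15723
import Mathlib

set_option autoImplicit false
universe u v
open CAlg

namespace Groth.Agent.S15723

open W4c2ratsingkovacs

/-! ### Noetherian graded rings are of finite type over degree zero
(the two theorems of this section are copied from the landed library `Groth.Agent.H41.GradedFT`,
to avoid importing its heavy closure) -/
section FT

variable {A σ : Type*} [CommRing A] [SetLike σ A] [AddSubgroupClass σ A] (𝒜 : ℕ → σ) [GradedRing 𝒜]

theorem mem_adjoin_of_homogeneous (T : Finset A)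
    (hT : Ideal.span (T : Set A) = (HomogeneousIdeal.irrelevant 𝒜).toIdeal) (T' : Set A)
    (hT' : ∀ t ∈ T, ∀ j, ((DirectSum.decompose 𝒜 t j : 𝒜 j) : A) ∈ T') :
    ∀ N : ℕ, ∀ a ∈ 𝒜 N, a ∈ Algebra.adjoin (𝒜 0) T' := by
  classical
  intro N
  induction N using Nat.strong_induction_on with
  | _ N ih =>
  intro a ha
  rcases Nat.eq_zero_or_pos N with rfl | hN
  · exact Subalgebra.algebraMap_mem (Algebra.adjoin (𝒜 0) T') (⟨a, ha⟩ : 𝒜 0)
  · have haI : a ∈ Ideal.span (T : Set A) := by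
      rw [hT]; exact HomogeneousIdeal.mem_irrelevant_of_mem 𝒜 hN ha
    have key : ∀ z ∈ Ideal.span (T : Set A), ∀ j ≤ N,
        ((DirectSum.decompose 𝒜 z j : 𝒜 j) : A) ∈ Algebra.adjoin (𝒜 0) T' := by
      intro z hz
      induction hz using Submodule.span_induction with
      | mem t ht => intro j _; exact Algebra.subset_adjoin (hT' t ht j)
      | zero =>
        intro j _
        rw [DirectSum.decompose_zero, DirectSum.zero_apply, ZeroMemClass.coe_zero]
        exact zero_mem _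
      | add x y _ _ hx hy =>
        intro j hj
        rw [DirectSum.decompose_add, DirectSum.add_apply, AddMemClass.coe_add]
        exact add_mem (hx j hj) (hy j hj)
      | smul c z' hz' ih' =>
        intro j hj
        have hz0 : ((DirectSum.decompose 𝒜 z' 0 : 𝒜 0) : A) = 0 := by
          have h1 : z' ∈ (HomogeneousIdeal.irrelevant 𝒜).toIdeal := by rw [← hT]; exact hz'
          have h2 := (HomogeneousIdeal.mem_irrelevant_iff 𝒜 z').mp h1
          rwa [GradedRing.proj_apply] at h2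
        have e : c • z' = ∑ i ∈ (DirectSum.decompose 𝒜 c).support,
            ((DirectSum.decompose 𝒜 c i : 𝒜 i) : A) * z' := by
          rw [smul_eq_mul]
          conv_lhs => rw [← DirectSum.sum_support_decompose 𝒜 c, Finset.sum_mul]
        rw [e, DirectSum.decompose_sum, DFinsupp.finsetSum_apply, AddSubmonoidClass.coe_finsetSum]
        refine sum_mem fun i _ => ?_
        by_cases hij : i ≤ j
        · rw [DirectSum.coe_decompose_mul_of_left_mem_of_le 𝒜 (SetLike.coe_mem _) hij]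
          by_cases hiN : i < N
          · exact mul_mem (ih i hiN _ (SetLike.coe_mem _)) (ih' (j - i) (by omega))
          · have hji : j - i = 0 := by omega
            rw [hji, hz0, mul_zero]
            exact zero_mem _
        · rw [DirectSum.coe_decompose_mul_of_left_mem_of_not_le 𝒜 (SetLike.coe_mem _) hij]
          exact zero_mem _
    have := key a haI N le_rfl
    rwa [DirectSum.decompose_of_mem_same 𝒜 ha] at this

/-- A graded ring whose irrelevant ideal is finitely generated is a finitely generated algebra over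
its degree-zero part. -/
theorem finiteType_of_irrelevant_fg (h : (HomogeneousIdeal.irrelevant 𝒜).toIdeal.FG) :
    Algebra.FiniteType (𝒜 0) A := by
  classical
  obtain ⟨T, hT⟩ := h
  refine ⟨⟨insert 0 (T.biUnion fun t =>
    (DFinsupp.support (DirectSum.decompose 𝒜 t)).image fun j =>
      ((DirectSum.decompose 𝒜 t j : 𝒜 j) : A)), ?_⟩⟩
  rw [_root_.eq_top_iff]
  rintro a -
  rw [← DirectSum.sum_support_decompose 𝒜 a]
  refine sum_mem fun N _ => mem_adjoin_of_homogeneous 𝒜 T hT _ ?_ N _ (SetLike.coe_mem _)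
  intro t ht j
  by_cases hj : j ∈ DFinsupp.support (DirectSum.decompose 𝒜 t)
  · exact Finset.mem_coe.mpr (Finset.mem_insert_of_mem
      (Finset.mem_biUnion.mpr ⟨t, ht, Finset.mem_image_of_mem _ hj⟩))
  · have h0 : DirectSum.decompose 𝒜 t j = 0 := DFinsupp.notMem_support_iff.mp hj
    rw [h0, ZeroMemClass.coe_zero]
    exact Finset.mem_coe.mpr (Finset.mem_insert_self _ _)


end FT

/-! ### Generalities on ideals -/

theorem height_le_height_of_mem_minimalPrimes {S : Type*} [CommRing S] {I P : Ideal S}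
    (hP : P ∈ I.minimalPrimes) : I.height ≤ P.height := by
  rw [Ideal.height_eq_inf_minimalPrimes I]
  exact iInf₂_le P hP

section Main

variable {R : Type u} {A : Type v} [CommRing R] [CommRing A] [Algebra R A]
  (𝒜 : ℕ → Submodule R A) [GradedRing 𝒜]

theorem pow_mem_smul {a : A} {i : ℕ} (ha : a ∈ 𝒜 i) (m : ℕ) : a ^ m ∈ 𝒜 (i • m) := by
  have := SetLike.pow_mem_graded m ha
  rwa [smul_eq_mul, mul_comm] at this

/-- A homogeneous ideal not contained in `p` has a homogeneous element outside `p`. -/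
theorem exists_homogeneous_notMem {I p : Ideal A} (hI : I.IsHomogeneous 𝒜) (h : ¬ I ≤ p) :
    ∃ (a : A) (n : ℕ), a ∈ 𝒜 n ∧ a ∈ I ∧ a ∉ p := by
  classical
  obtain ⟨a, haI, hap⟩ := SetLike.not_le_iff_exists.mp h
  by_contra hcon
  push Not at hcon
  apply hap
  rw [← DirectSum.sum_support_decompose 𝒜 a]
  exact sum_mem fun i _ => hcon _ i (SetLike.coe_mem _) (hI i haI)

theorem exists_pos_homogeneous_notMem_irrelevant {p : Ideal A}
    (h : ¬ (HomogeneousIdeal.irrelevant 𝒜).toIdeal ≤ p) :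
    ∃ (b : A) (n : ℕ), 0 < n ∧ b ∈ 𝒜 n ∧ b ∉ p := by
  classical
  obtain ⟨b, n, hbn, hbI, hbp⟩ :=
    exists_homogeneous_notMem 𝒜 (HomogeneousIdeal.irrelevant 𝒜).isHomogeneous h
  refine ⟨b, n, ?_, hbn, hbp⟩
  rcases Nat.eq_zero_or_pos n with rfl | hn
  · exfalso
    apply hbp
    have hb0 : b = 0 := by
      have h0 := (HomogeneousIdeal.mem_irrelevant_iff 𝒜 b).mp hbI
      rwa [GradedRing.proj_apply, DirectSum.decompose_of_mem_same 𝒜 hbn] at h0
    rw [hb0]
    exact p.zero_mem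
  · exact hn

theorem exists_pos_homogeneous_mem_notMem {J p : Ideal A} (hJ : J.IsHomogeneous 𝒜)
    (hp : p.IsPrime) (h1 : ¬ J ≤ p) (h2 : ¬ (HomogeneousIdeal.irrelevant 𝒜).toIdeal ≤ p) :
    ∃ (x : A) (n : ℕ), 0 < n ∧ x ∈ 𝒜 n ∧ x ∈ J ∧ x ∉ p := by
  obtain ⟨a, k, hak, haJ, hap⟩ := exists_homogeneous_notMem 𝒜 hJ h1
  obtain ⟨b, n, hn, hbn, hbp⟩ := exists_pos_homogeneous_notMem_irrelevant 𝒜 h2
  refine ⟨a * b, k + n, by omega, SetLike.mul_mem_graded hak hbn, J.mul_mem_right _ haJ, ?_⟩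
  intro hab
  rcases hp.mem_or_mem hab with h | h
  · exact hap h
  · exact hbp h

/-- Graded prime avoidance, for arbitrary (not necessarily homogeneous) primes. -/
theorem graded_avoid (J : Ideal A) (S : Finset (Ideal A)) :
    (∀ p ∈ S, p.IsPrime) →
    (∀ p ∈ S, ∃ (x : A) (n : ℕ), 0 < n ∧ x ∈ 𝒜 n ∧ x ∈ J ∧ x ∉ p) →
    ∃ (x : A) (n : ℕ), 0 < n ∧ x ∈ 𝒜 n ∧ x ∈ J ∧ ∀ p ∈ S, x ∉ p := by
  classical
  induction S using Finset.strongInduction with
  | H S ih =>
    intro hprime hex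
    rcases S.eq_empty_or_nonempty with rfl | ⟨p₁, hp₁⟩
    · exact ⟨0, 1, one_pos, zero_mem _, zero_mem _, by simp⟩
    by_cases hgood : ∃ p ∈ S, ∃ (x : A) (n : ℕ), 0 < n ∧ x ∈ 𝒜 n ∧ x ∈ J ∧
        (∀ q ∈ S.erase p, x ∉ q) ∧ x ∉ p
    · obtain ⟨p, hp, x, n, hn, hxn, hxJ, hxq, hxp⟩ := hgood
      refine ⟨x, n, hn, hxn, hxJ, fun q hq => ?_⟩
      by_cases hqp : q = p
      · rw [hqp]; exact hxp
      · exact hxq q (Finset.mem_erase.mpr ⟨hqp, hq⟩)
    · have hgood' : ∀ p ∈ S, ∀ (x : A) (n : ℕ), 0 < n → x ∈ 𝒜 n → x ∈ J →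
          (∀ q ∈ S.erase p, x ∉ q) → x ∈ p := by
        intro p hp x n hn hxn hxJ hxq
        by_contra hxp
        exact hgood ⟨p, hp, x, n, hn, hxn, hxJ, hxq, hxp⟩
      have hx : ∀ p ∈ S, ∃ (x : A) (n : ℕ), 0 < n ∧ x ∈ 𝒜 n ∧ x ∈ J ∧
          ∀ q ∈ S.erase p, x ∉ q :=
        fun p hp => ih (S.erase p) (Finset.erase_ssubset hp)
          (fun q hq => hprime q (Finset.mem_of_mem_erase hq))
          (fun q hq => hex q (Finset.mem_of_mem_erase hq))
      choose! X N hN hXN hXJ hXq using hx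
      by_cases hsing : S.erase p₁ = ∅
      · obtain ⟨x, n, hn, hxn, hxJ, hxp⟩ := hex p₁ hp₁
        refine ⟨x, n, hn, hxn, hxJ, fun q hq => ?_⟩
        by_cases hqp : q = p₁
        · rw [hqp]; exact hxp
        · have : q ∈ S.erase p₁ := Finset.mem_erase.mpr ⟨hqp, hq⟩
          rw [hsing] at this
          exact absurd this (Finset.notMem_empty _)
      · obtain ⟨p₂, hp₂⟩ := Finset.nonempty_iff_ne_empty.mpr hsing
        have hyM : (∏ p ∈ S.erase p₁, X p) ∈ 𝒜 (∑ p ∈ S.erase p₁, N p) :=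
          SetLike.prod_mem_graded 𝒜 N X (fun p hp => hXN p (Finset.mem_of_mem_erase hp))
        have hMpos : 0 < ∑ p ∈ S.erase p₁, N p :=
          Finset.sum_pos (fun p hp => hN p (Finset.mem_of_mem_erase hp)) ⟨p₂, hp₂⟩
        have hyJ : (∏ p ∈ S.erase p₁, X p) ∈ J := by
          rw [← Finset.mul_prod_erase (S.erase p₁) X hp₂]
          exact J.mul_mem_right _ (hXJ p₂ (Finset.mem_of_mem_erase hp₂))
        have hyp₁ : (∏ p ∈ S.erase p₁, X p) ∉ p₁ := by
          intro hmem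
          haveI := hprime p₁ hp₁
          obtain ⟨p, hpT, hXp⟩ := Ideal.IsPrime.prod_mem_iff.mp hmem
          have hpS := Finset.mem_of_mem_erase hpT
          exact hXq p hpS p₁
            (Finset.mem_erase.mpr ⟨fun e => (Finset.mem_erase.mp hpT).1 e.symm, hp₁⟩) hXp
        have hyq : ∀ q ∈ S.erase p₁, (∏ p ∈ S.erase p₁, X p) ∈ q := by
          intro q hq
          have hqS := Finset.mem_of_mem_erase hq
          have hXqq : X q ∈ q :=
            hgood' q hqS (X q) (N q) (hN q hqS) (hXN q hqS) (hXJ q hqS) (hXq q hqS)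
          rw [← Finset.mul_prod_erase (S.erase p₁) X hq]
          exact q.mul_mem_right _ hXqq
        have hX1 : X p₁ ∈ p₁ :=
          hgood' p₁ hp₁ (X p₁) (N p₁) (hN p₁ hp₁) (hXN p₁ hp₁) (hXJ p₁ hp₁) (hXq p₁ hp₁)
        have hMN : 0 < N p₁ := hN p₁ hp₁
        generalize hy : (∏ p ∈ S.erase p₁, X p) = y at hyM hyJ hyp₁ hyq
        generalize hM : (∑ p ∈ S.erase p₁, N p) = M at hyM hMpos
        refine ⟨X p₁ ^ M + y ^ N p₁, M * N p₁, Nat.mul_pos hMpos hMN, ?_, ?_, ?_⟩
        · refine add_mem ?_ ?_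
          · have := SetLike.pow_mem_graded M (hXN p₁ hp₁)
            rwa [smul_eq_mul] at this
          · exact pow_mem_smul 𝒜 hyM (N p₁)
        · exact add_mem (J.pow_mem_of_mem (hXJ p₁ hp₁) M hMpos) (J.pow_mem_of_mem hyJ _ hMN)
        · intro q hq hmem
          by_cases hqp : q = p₁
          · rw [hqp] at hmem
            have h1 : X p₁ ^ M ∈ p₁ := p₁.pow_mem_of_mem hX1 M hMpos
            have h2 : y ^ N p₁ ∈ p₁ := (p₁.add_mem_iff_right h1).mp hmem
            exact hyp₁ ((hprime p₁ hp₁).mem_of_pow_mem _ h2)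
          · have hqT : q ∈ S.erase p₁ := Finset.mem_erase.mpr ⟨hqp, hq⟩
            have h1 : y ^ N p₁ ∈ q := q.pow_mem_of_mem (hyq q hqT) _ hMN
            have h2 : X p₁ ^ M ∈ q := (q.add_mem_iff_left h1).mp hmem
            exact hXq p₁ hp₁ q hqT ((hprime q hq).mem_of_pow_mem _ h2)

/-! ### The homogeneous localisation of an ideal -/

variable {f : A} {m : ℕ}

theorem mem_locIdeal_iff (I : Ideal A) (b : HomogeneousLocalization.Away 𝒜 f) :
    b ∈ locIdeal 𝒜 I f ↔ b.val ∈ I.map (algebraMap A (Localization.Away f)) := Iff.rfl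

theorem mk_mem_map_iff (I : Ideal A) (a : A) (k : ℕ) :
    (Localization.mk a (⟨f ^ k, ⟨k, rfl⟩⟩ : Submonoid.powers f) : Localization.Away f) ∈
      I.map (algebraMap A (Localization.Away f)) ↔ ∃ j : ℕ, f ^ j * a ∈ I := by
  rw [Localization.mk_eq_mk', IsLocalization.mk'_mem_map_algebraMap_iff (Submonoid.powers f)]
  constructor
  · rintro ⟨s, ⟨j, rfl⟩, h⟩
    exact ⟨j, h⟩
  · rintro ⟨j, h⟩
    exact ⟨f ^ j, ⟨j, rfl⟩, h⟩

theorem mem_locIdeal_of_mem (I : Ideal A) (b : HomogeneousLocalization.Away 𝒜 f) (a : A) (k : ℕ)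
    (hb : b.val = Localization.mk a (⟨f ^ k, ⟨k, rfl⟩⟩ : Submonoid.powers f)) (ha : a ∈ I) : b ∈ locIdeal 𝒜 I f := by
  rw [mem_locIdeal_iff, hb, mk_mem_map_iff]
  exact ⟨0, by simpa using ha⟩

theorem locIdeal_mono {I I' : Ideal A} (h : I ≤ I') (f : A) :
    locIdeal 𝒜 I f ≤ locIdeal 𝒜 I' f :=
  Ideal.comap_mono (Ideal.map_mono h)

theorem isPrime_locIdeal {p : Ideal A} (hp : p.IsPrime) (hf : f ∉ p) :
    (locIdeal 𝒜 p f).IsPrime := by
  haveI := hp
  haveI : (p.map (algebraMap A (Localization.Away f))).IsPrime :=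
    IsLocalization.isPrime_of_isPrime_disjoint (Submonoid.powers f) _ p hp
      ((Ideal.disjoint_powers_iff_notMem_of_isPrime f).mpr hf)
  exact Ideal.IsPrime.comap _

theorem mem_locIdeal_prime_iff {p : Ideal A} (hp : p.IsPrime) (hf : f ∉ p)
    (b : HomogeneousLocalization.Away 𝒜 f) (a : A) (k : ℕ)
    (hb : b.val = Localization.mk a (⟨f ^ k, ⟨k, rfl⟩⟩ : Submonoid.powers f)) : b ∈ locIdeal 𝒜 p f ↔ a ∈ p := by
  rw [mem_locIdeal_iff, hb, mk_mem_map_iff]
  constructor
  · rintro ⟨j, h⟩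
    rcases hp.mem_or_mem h with h' | h'
    · exact absurd (hp.mem_of_pow_mem _ h') hf
    · exact h'
  · intro h
    exact ⟨0, by simpa using h⟩

open AlgebraicGeometry AlgebraicGeometry.ProjIsoSpecTopComponent in
/-- The homogeneous prime of `A` attached to a prime of `A_(f)` (Mathlib's `FromSpec.carrier`). -/
theorem exists_carrier (f_deg : f ∈ 𝒜 m) (hm : 0 < m)
    (q : PrimeSpectrum (HomogeneousLocalization.Away 𝒜 f)) :
    ∃ p : Ideal A, p.IsPrime ∧ p.IsHomogeneous 𝒜 ∧ f ∉ p ∧ locIdeal 𝒜 p f = q.asIdeal ∧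
      ∀ (a : A) (n : ℕ), a ∈ 𝒜 n → ∀ b : HomogeneousLocalization.Away 𝒜 f,
        b.val = Localization.mk (a ^ m) (⟨f ^ n, ⟨n, rfl⟩⟩ : Submonoid.powers f) → (a ∈ p ↔ b ∈ q.asIdeal) := by
  refine ⟨FromSpec.carrier.asIdeal f_deg hm q, FromSpec.carrier.asIdeal.prime f_deg hm q,
    FromSpec.carrier.asIdeal.homogeneous f_deg hm q, FromSpec.carrier.denom_notMem f_deg hm q,
    ?_, ?_⟩
  · ext z
    obtain ⟨z, rfl⟩ := HomogeneousLocalization.mk_surjective z
    rw [← FromSpec.num_mem_carrier_iff f_deg hm q]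
    exact ToSpec.mk_mem_carrier (FromSpec.toFun f_deg hm q) z
  · intro a n hn b hb
    have h1 := FromSpec.mem_carrier_iff_of_mem f_deg hm q a hn
    have key : ∀ (b' : HomogeneousLocalization.Away 𝒜 f), b'.val = b.val →
        (b' ∈ q.asIdeal ↔ b ∈ q.asIdeal) := fun b' h => by
      rw [HomogeneousLocalization.val_injective _ h]
    exact h1.trans (key _ (by rw [hb, HomogeneousLocalization.val_mk]))

theorem le_of_locIdeal_le (hm : 0 < m) {I : Ideal A} (hI : I.IsHomogeneous 𝒜)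
    (f_deg : f ∈ 𝒜 m)
    {Q : Ideal (HomogeneousLocalization.Away 𝒜 f)} {q : Ideal A}
    (hmemq : ∀ (a : A) (n : ℕ), a ∈ 𝒜 n → ∀ b : HomogeneousLocalization.Away 𝒜 f,
        b.val = Localization.mk (a ^ m) (⟨f ^ n, ⟨n, rfl⟩⟩ : Submonoid.powers f) → (a ∈ q ↔ b ∈ Q))
    (hQ : locIdeal 𝒜 I f ≤ Q) : I ≤ q := by
  classical
  intro a ha
  rw [← DirectSum.sum_support_decompose 𝒜 a]
  refine sum_mem fun i _ => ?_
  have hai : (DirectSum.decompose 𝒜 a i : A) ∈ I := hI i ha
  have haim : (DirectSum.decompose 𝒜 a i : A) ^ m ∈ 𝒜 (i • m) :=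
    pow_mem_smul 𝒜 (SetLike.coe_mem _) m
  refine (hmemq _ i (SetLike.coe_mem _)
    (HomogeneousLocalization.Away.mk 𝒜 f_deg i _ haim) rfl).mpr ?_
  apply hQ
  exact mem_locIdeal_of_mem 𝒜 I _ _ i rfl (Ideal.pow_mem_of_mem _ hai m hm)

theorem isNoetherianRing_away [IsNoetherianRing A] (f_deg : f ∈ 𝒜 m) :
    IsNoetherianRing (HomogeneousLocalization.Away 𝒜 f) := by
  haveI : Algebra.FiniteType (𝒜 0) A :=
    finiteType_of_irrelevant_fg 𝒜 ((isNoetherianRing_iff_ideal_fg A).mp inferInstance _)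
  haveI := HomogeneousLocalization.Away.finiteType (𝒜 := 𝒜) f m f_deg
  exact Algebra.FiniteType.isNoetherianRing (𝒜 0) (HomogeneousLocalization.Away 𝒜 f)

/-- Krull's height theorem in `A_(f)`: a minimal prime over `(z₁, …, z_j)_(f)` has height `≤ j`. -/
theorem height_le_of_mem_minimalPrimes [IsNoetherianRing A] (f_deg : f ∈ 𝒜 m) (hm : 0 < m)
    (zs : List A) (hzs : ∀ z ∈ zs, ∃ n, z ∈ 𝒜 n)
    (P : Ideal (HomogeneousLocalization.Away 𝒜 f))
    (hP : P ∈ (locIdeal 𝒜 (Ideal.ofList zs) f).minimalPrimes) :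
    P.height ≤ zs.length := by
  classical
  haveI := isNoetherianRing_away 𝒜 f_deg
  have hex : ∀ z : A, ∃ b : HomogeneousLocalization.Away 𝒜 f, z ∈ zs →
      ∃ n, z ∈ 𝒜 n ∧ b.val = Localization.mk (z ^ m) (⟨f ^ n, ⟨n, rfl⟩⟩ : Submonoid.powers f) := by
    intro z
    by_cases hz : z ∈ zs
    · obtain ⟨n, hn⟩ := hzs z hz
      exact ⟨HomogeneousLocalization.Away.mk 𝒜 f_deg n (z ^ m) (pow_mem_smul 𝒜 hn m),
        fun _ => ⟨n, hn, rfl⟩⟩
    · exact ⟨0, fun h => absurd h hz⟩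
  choose g hg using hex
  have hcard : (zs.toFinset.image g).card ≤ zs.length :=
    Finset.card_image_le.trans (List.toFinset_card_le zs)
  have hGle : Ideal.span ((zs.toFinset.image g : Finset _) : Set _) ≤
      locIdeal 𝒜 (Ideal.ofList zs) f := by
    rw [Ideal.span_le]
    intro b hb
    obtain ⟨z, hz, rfl⟩ := Finset.mem_image.mp (Finset.mem_coe.mp hb)
    have hz' : z ∈ zs := List.mem_toFinset.mp hz
    obtain ⟨n, hn, hval⟩ := hg z hz'
    exact mem_locIdeal_of_mem 𝒜 _ _ _ n hval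
      (Ideal.pow_mem_of_mem (Ideal.ofList zs) (Ideal.subset_span hz') m hm)
  have hmin : P ∈ (Ideal.span ((zs.toFinset.image g : Finset _) : Set _)).minimalPrimes := by
    refine ⟨⟨hP.1.1, hGle.trans hP.1.2⟩, ?_⟩
    rintro Q ⟨hQprime, hQ⟩ hQP
    refine hP.2 ⟨hQprime, ?_⟩ hQP
    obtain ⟨q, hqprime, hqhom, hfq, hlocq, hmemq⟩ := exists_carrier 𝒜 f_deg hm ⟨Q, hQprime⟩
    have hIq : Ideal.ofList zs ≤ q := by
      refine Ideal.span_le.mpr ?_
      intro z hz
      obtain ⟨n, hn, hval⟩ := hg z hz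
      exact (hmemq z n hn (g z) hval).mpr (hQ (Ideal.subset_span
        (Finset.mem_coe.mpr (Finset.mem_image_of_mem g (List.mem_toFinset.mpr hz)))))
    calc locIdeal 𝒜 (Ideal.ofList zs) f ≤ locIdeal 𝒜 q f := locIdeal_mono 𝒜 hIq f
      _ = Q := hlocq
  exact (Ideal.height_le_card_of_mem_minimalPrimes_span_finset hmin).trans
    (by exact_mod_cast hcard)

/-- The lower bound step. -/
theorem height_add_one_le (f_deg : f ∈ 𝒜 m) (hm : 0 < m)
    {I : Ideal A} (hI : I.IsHomogeneous 𝒜) {z : A} {d : ℕ} (hz : z ∈ 𝒜 d)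
    (havoid : ∀ p ∈ I.minimalPrimes, f ∉ p → z ∉ p) :
    (locIdeal 𝒜 I f).height + 1 ≤ (locIdeal 𝒜 (I ⊔ Ideal.span {z}) f).height := by
  classical
  rw [Ideal.height_eq_inf_minimalPrimes (locIdeal 𝒜 (I ⊔ Ideal.span {z}) f)]
  refine le_iInf₂ fun P hP => ?_
  haveI := hP.1.1
  have hIP : locIdeal 𝒜 I f ≤ P := (locIdeal_mono 𝒜 le_sup_left f).trans hP.1.2
  obtain ⟨P', hP', hP'P⟩ := Ideal.exists_minimalPrimes_le hIP
  haveI := hP'.1.1
  have hne : P' ≠ P := by
    intro hPP'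
    have hzm : z ^ m ∈ 𝒜 (d • m) := pow_mem_smul 𝒜 hz m
    have hgval : (HomogeneousLocalization.Away.mk 𝒜 f_deg d (z ^ m) hzm).val =
        Localization.mk (z ^ m) (⟨f ^ d, ⟨d, rfl⟩⟩ : Submonoid.powers f) := rfl
    have hgP : HomogeneousLocalization.Away.mk 𝒜 f_deg d (z ^ m) hzm ∈ P' := by
      rw [hPP']
      exact hP.1.2 (mem_locIdeal_of_mem 𝒜 _ _ _ d hgval
        (Ideal.pow_mem_of_mem _ (Ideal.mem_sup_right (Ideal.mem_span_singleton_self z)) m hm))
    obtain ⟨p', hp'prime, hp'hom, hfp', hlocp', hmemp'⟩ :=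
      exists_carrier 𝒜 f_deg hm ⟨P', hP'.1.1⟩
    have hIp' : I ≤ p' := le_of_locIdeal_le 𝒜 hm hI f_deg hmemp' hP'.1.2
    haveI := hp'prime
    obtain ⟨p'', hp'', hp''p'⟩ := Ideal.exists_minimalPrimes_le hIp'
    have hfp'' : f ∉ p'' := fun h => hfp' (hp''p' h)
    have hP''prime := isPrime_locIdeal 𝒜 hp''.1.1 hfp''
    have h1 : P' ≤ locIdeal 𝒜 p'' f :=
      hP'.2 ⟨hP''prime, locIdeal_mono 𝒜 hp''.1.2 f⟩
        ((locIdeal_mono 𝒜 hp''p' f).trans hlocp'.le)
    have hzp'' : z ^ m ∈ p'' :=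
      (mem_locIdeal_prime_iff 𝒜 hp''.1.1 hfp'' _ (z ^ m) d hgval).mp (h1 hgP)
    exact havoid p'' hp'' hfp'' (hp''.1.1.mem_of_pow_mem m hzp'')
  have hlt : P' < P := lt_of_le_of_ne hP'P hne
  calc (locIdeal 𝒜 I f).height + 1 ≤ P'.height + 1 :=
        add_le_add (height_le_height_of_mem_minimalPrimes hP') le_rfl
    _ ≤ P.height := Ideal.height_add_one_le_of_lt_of_isPrime hlt

/-- A relevant minimal prime of `(z₁, …, z_j)`, `j < h`, does not contain `J`. -/
theorem not_le_of_mem_minimalPrimes [IsNoetherianRing A] {J : Ideal A} {h : ℕ}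
    (hJh : HasUniformGeomHeight 𝒜 J h)
    (zs : List A) (hzs : ∀ z ∈ zs, ∃ n, z ∈ 𝒜 n) (hlen : zs.length < h)
    {p : Ideal A} (hp : p ∈ (Ideal.ofList zs).minimalPrimes)
    (hirr : ¬ (HomogeneousIdeal.irrelevant 𝒜).toIdeal ≤ p) : ¬ J ≤ p := by
  classical
  intro hJp
  haveI := hp.1.1
  obtain ⟨f, m, hm, f_deg, hfp⟩ := exists_pos_homogeneous_notMem_irrelevant 𝒜 hirr
  have hfJ : f ∉ J.radical := fun hf => hfp ((hp.1.1.radical_le_iff.mpr hJp) hf)
  have hht : geomHeight 𝒜 J f = h := hJh f m hm f_deg hfJ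
  have hP''prime := isPrime_locIdeal 𝒜 hp.1.1 hfp
  have hIhom : (Ideal.ofList zs).IsHomogeneous 𝒜 :=
    Ideal.homogeneous_span 𝒜 _ (fun z hz => hzs z hz)
  have hmin : locIdeal 𝒜 p f ∈ (locIdeal 𝒜 (Ideal.ofList zs) f).minimalPrimes := by
    refine ⟨⟨hP''prime, locIdeal_mono 𝒜 hp.1.2 f⟩, ?_⟩
    rintro Q ⟨hQprime, hQ⟩ hQP
    obtain ⟨q, hqprime, hqhom, hfq, hlocq, hmemq⟩ := exists_carrier 𝒜 f_deg hm ⟨Q, hQprime⟩
    have hIq : Ideal.ofList zs ≤ q := le_of_locIdeal_le 𝒜 hm hIhom f_deg hmemq hQ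
    have hqp : q ≤ p := by
      intro a ha
      rw [← DirectSum.sum_support_decompose 𝒜 a]
      refine sum_mem fun i _ => ?_
      have hai : (DirectSum.decompose 𝒜 a i : A) ∈ q := hqhom i ha
      have haim : (DirectSum.decompose 𝒜 a i : A) ^ m ∈ 𝒜 (i • m) :=
        pow_mem_smul 𝒜 (SetLike.coe_mem _) m
      have hb : HomogeneousLocalization.Away.mk 𝒜 f_deg i _ haim ∈ Q :=
        (hmemq _ i (SetLike.coe_mem _) _ rfl).mp hai
      have := (mem_locIdeal_prime_iff 𝒜 hp.1.1 hfp _ _ i rfl).mp (hQP hb)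
      exact hp.1.1.mem_of_pow_mem m this
    have hpq : p ≤ q := hp.2 ⟨hqprime, hIq⟩ hqp
    calc locIdeal 𝒜 p f ≤ locIdeal 𝒜 q f := locIdeal_mono 𝒜 hpq f
      _ = Q := hlocq
  have h1 : (locIdeal 𝒜 p f).height ≤ zs.length :=
    height_le_of_mem_minimalPrimes 𝒜 f_deg hm zs hzs _ hmin
  have h2 : (h : ℕ∞) ≤ (locIdeal 𝒜 p f).height := by
    rw [← hht]
    exact Ideal.height_mono (locIdeal_mono 𝒜 hJp f)
  have h3 : (h : ℕ∞) ≤ (zs.length : ℕ∞) := h2.trans h1
  have h4 : h ≤ zs.length := by exact_mod_cast h3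
  omega

theorem main [IsNoetherianRing A] (J : Ideal A) (hJ : J.IsHomogeneous 𝒜) (h : ℕ)
    (hJh : HasUniformGeomHeight 𝒜 J h) (P : Finset (Ideal A))
    (hP : ∀ q ∈ P, q.IsPrime ∧ ¬ J ≤ q ∧ ¬ (HomogeneousIdeal.irrelevant 𝒜).toIdeal ≤ q) :
    ∀ j : ℕ, j ≤ h → ∃ zs : List A, zs.length = j ∧
      (∀ z ∈ zs, (∃ n : ℕ, 0 < n ∧ z ∈ 𝒜 n) ∧ z ∈ J ∧ ∀ q ∈ P, z ∉ q) ∧
      ∀ (f : A) (n : ℕ), 0 < n → f ∈ 𝒜 n → f ∉ J.radical →
        ∀ i : ℕ, 1 ≤ i → i ≤ j → geomHeight 𝒜 (Ideal.ofList (zs.take i)) f = i := by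
  classical
  intro j
  induction j with
  | zero =>
    intro _
    exact ⟨[], rfl, by simp, fun f n _ _ _ i h1 h0 => by omega⟩
  | succ j ih =>
    intro hj
    obtain ⟨zs, hlen, hzs, hht⟩ := ih (by omega)
    have hzs' : ∀ z ∈ zs, ∃ n, z ∈ 𝒜 n := fun z hz => by
      obtain ⟨n, _, hn⟩ := (hzs z hz).1
      exact ⟨n, hn⟩
    have hIhom : (Ideal.ofList zs).IsHomogeneous 𝒜 :=
      Ideal.homogeneous_span 𝒜 _ (fun z hz => hzs' z hz)
    have hfin : (Ideal.ofList zs).minimalPrimes.Finite :=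
      Ideal.finite_minimalPrimes_of_isNoetherianRing A _
    have hSprime : ∀ p ∈ P ∪ (hfin.toFinset.filter
        fun p => ¬ (HomogeneousIdeal.irrelevant 𝒜).toIdeal ≤ p), p.IsPrime := by
      intro p hp
      rcases Finset.mem_union.mp hp with hp | hp
      · exact (hP p hp).1
      · exact (hfin.mem_toFinset.mp (Finset.mem_filter.mp hp).1).1.1
    have hSex : ∀ p ∈ P ∪ (hfin.toFinset.filter
        fun p => ¬ (HomogeneousIdeal.irrelevant 𝒜).toIdeal ≤ p),
        ∃ (x : A) (n : ℕ), 0 < n ∧ x ∈ 𝒜 n ∧ x ∈ J ∧ x ∉ p := by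
      intro p hp
      rcases Finset.mem_union.mp hp with hp | hp
      · exact exists_pos_homogeneous_mem_notMem 𝒜 hJ (hP p hp).1 (hP p hp).2.1 (hP p hp).2.2
      · obtain ⟨hp1, hp2⟩ := Finset.mem_filter.mp hp
        have hpmin := hfin.mem_toFinset.mp hp1
        exact exists_pos_homogeneous_mem_notMem 𝒜 hJ hpmin.1.1
          (not_le_of_mem_minimalPrimes 𝒜 hJh zs hzs' (by omega) hpmin hp2) hp2
    obtain ⟨z, d, hd, hzd, hzJ, hzS⟩ := graded_avoid 𝒜 J _ hSprime hSex
    have hall : ∀ w ∈ zs ++ [z], ∃ n, w ∈ 𝒜 n := by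
      intro w hw
      rcases List.mem_append.mp hw with hw | hw
      · exact hzs' w hw
      · rw [List.mem_singleton] at hw
        exact ⟨d, hw ▸ hzd⟩
    refine ⟨zs ++ [z], by simp [hlen], ?_, ?_⟩
    · intro w hw
      rcases List.mem_append.mp hw with hw | hw
      · exact hzs w hw
      · rw [List.mem_singleton] at hw
        rw [hw]
        exact ⟨⟨d, hd, hzd⟩, hzJ, fun q hq => hzS q (Finset.mem_union_left _ hq)⟩
    · intro f n hn f_deg hfJ i hi1 hij
      rcases Nat.lt_or_ge i (j + 1) with hlt | hge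
      · have htake : (zs ++ [z]).take i = zs.take i :=
          List.take_append_of_le_length (by omega)
        rw [htake]
        exact hht f n hn f_deg hfJ i hi1 (by omega)
      · have hi : i = j + 1 := by omega
        subst hi
        have htake : (zs ++ [z]).take (j + 1) = zs ++ [z] :=
          List.take_of_length_le (by simp [hlen])
        rw [htake]
        have hsup : Ideal.ofList (zs ++ [z]) = Ideal.ofList zs ⊔ Ideal.span {z} := by
          rw [Ideal.ofList_append, Ideal.ofList_singleton]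
        apply le_antisymm
        · -- upper bound
          have hle : locIdeal 𝒜 (Ideal.ofList (zs ++ [z])) f ≤ locIdeal 𝒜 J f := by
            refine locIdeal_mono 𝒜 ?_ f
            refine Ideal.span_le.mpr ?_
            intro w hw
            rcases List.mem_append.mp hw with hw | hw
            · exact (hzs w hw).2.1
            · rw [List.mem_singleton] at hw
              rw [hw]; exact hzJ
          have hne : locIdeal 𝒜 (Ideal.ofList (zs ++ [z])) f ≠ ⊤ := by
            intro htop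
            have hJtop : locIdeal 𝒜 J f = ⊤ := top_le_iff.mp (htop ▸ hle)
            have hh := hJh f n hn f_deg hfJ
            rw [geomHeight, hJtop, Ideal.height_top] at hh
            exact ENat.top_ne_coe _ hh
          obtain ⟨⟨Pm, hPm⟩⟩ := Ideal.nonempty_minimalPrimes hne
          have h1 := height_le_of_mem_minimalPrimes 𝒜 f_deg hn (zs ++ [z]) hall Pm hPm
          calc geomHeight 𝒜 (Ideal.ofList (zs ++ [z])) f
              ≤ Pm.height := height_le_height_of_mem_minimalPrimes hPm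
            _ ≤ ((zs ++ [z]).length : ℕ∞) := h1
            _ = ((j + 1 : ℕ) : ℕ∞) := by simp [hlen]
        · -- lower bound
          have hlow : (j : ℕ∞) ≤ (locIdeal 𝒜 (Ideal.ofList zs) f).height := by
            rcases Nat.eq_zero_or_pos j with hj0 | hjpos
            · rw [hj0]; simp
            · have hjj := hht f n hn f_deg hfJ j hjpos le_rfl
              rw [List.take_of_length_le (by omega)] at hjj
              exact hjj.ge
          have hstep := height_add_one_le 𝒜 f_deg hn hIhom hzd (fun p hp hfp => by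
            apply hzS p
            apply Finset.mem_union_right
            rw [Finset.mem_filter]
            exact ⟨hfin.mem_toFinset.mpr hp, fun hirr =>
              hfp (hirr (HomogeneousIdeal.mem_irrelevant_of_mem 𝒜 hn f_deg))⟩)
          rw [hsup]
          calc ((j + 1 : ℕ) : ℕ∞) = (j : ℕ∞) + 1 := Nat.cast_succ j
            _ ≤ (locIdeal 𝒜 (Ideal.ofList zs) f).height + 1 := add_le_add hlow le_rfl
            _ ≤ _ := hstep

end Main

/-- Let A be a Noetherian commutative ring graded by the natural numbers, J a homogeneous ideal of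
uniform geometric height h (the height of the homogeneous localization J_(f) in the degree-zero ring
A_(f) is h for every homogeneous f of positive degree outside the radical of J), and q_1, ..., q_t
finitely many prime ideals none of which contains J or the irrelevant ideal A_+. Then there are
homogeneous elements z_1, ..., z_h of positive degree, lying in J and in no q_i, such that for every
homogeneous f of positive degree outside the radical of J and every 1 ≤ j ≤ h the ideal (z_1, ...,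
z_j) has geometric height j with respect to f. (The published statement lets f range over all
homogeneous elements outside the radical of J, degree 0 included; then it fails: in A = k[t][x] with
t of degree 0 and x of degree 1, the ideal J = (t) has geometric height 1 with respect to every
homogeneous f outside its radical, f = 1 included, while (z)_(1) = 0 has height 0 for every
homogeneous z of positive degree. This row takes f of positive degree, in the hypothesis and in the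
conclusion.) -/
theorem result {R : Type u} {A : Type v} [CommRing R] [CommRing A]
    [Algebra R A] [IsNoetherianRing A] (𝒜 : ℕ → Submodule R A) [GradedRing 𝒜]
    (J : Ideal A) (hJ : J.IsHomogeneous 𝒜) (h : ℕ) (hJh : W4c2ratsingkovacs.HasUniformGeomHeight 𝒜 J h)
    (P : Finset (Ideal A)) (hP : ∀ q ∈ P, q.IsPrime ∧ ¬ J ≤ q ∧ ¬ (HomogeneousIdeal.irrelevant 𝒜).toIdeal ≤ q) :
    ∃ zs : List A, zs.length = h ∧
      (∀ z ∈ zs, (∃ n : ℕ, 0 < n ∧ z ∈ 𝒜 n) ∧ z ∈ J ∧ ∀ q ∈ P, z ∉ q) ∧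
      ∀ (f : A) (n : ℕ), 0 < n → f ∈ 𝒜 n → f ∉ J.radical →
        ∀ j : ℕ, 1 ≤ j → j ≤ h → W4c2ratsingkovacs.geomHeight 𝒜 (Ideal.ofList (zs.take j)) f = j := by
  obtain ⟨zs, hlen, hzs, hht⟩ := main 𝒜 J hJ h hJh P hP h le_rfl
  exact ⟨zs, hlen, hzs, hht⟩

end Groth.Agent.S15723
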