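import Groth.Statements.S15724
import Groth.Agent.H78.Wt5
import Mathlib.Tactic

set_option autoImplicit false
set_option maxHeartbeats 400000
universe u
open W4c2invhilbsl2

namespace Groth.Agent.S15724

open MvPolynomial Groth.Agent.H78

section
variable (k : Type u) [Field k] (p q m : ℕ)

/-- the hypersurface ideal -/
noncomputable abbrev Pid : Ideal (MvPolynomial (Fin 5) k) :=
  Ideal.span {X (0 : Fin 5) ^ (q - p) - X 1 * X 4 + X 2 * X 3}

noncomputable abbrev W0 : Submodule k (MvPolynomial (Fin 5) k) :=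
  weightedHomogeneousSubmodule k (wt5 p q m) 0

lemma wt5_one : wt5 p q m 1 = (-(p : ℤ), -1) := by simp [wt5]
lemma wt5_three : wt5 p q m 3 = ((q : ℤ), 1) := by simp [wt5]

lemma partA (hp : 0 < p) (d : Fin 5 →₀ ℕ) (hd : Finsupp.weight (wt5 p q m) d = wt5 p q m 1) :
    monomial d (1 : k) ∈ genSub (W0 k p q m) (Pid k p q) (Finset.univ : Finset (Fin 2))
      ![X 1, X 2] := by
  rw [weight5, wt5_one, Prod.mk.injEq] at hd
  obtain ⟨h1, h2⟩ := hd
  rw [monomial5]
  rcases Nat.eq_zero_or_pos (d 1) with hd1 | hd1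
  · rcases Nat.eq_zero_or_pos (d 2) with hd2 | hd2
    · exfalso
      rw [hd1, hd2] at h1
      have : (0 : ℤ) ≤ (d 0 : ℤ) + q * d 3 + q * d 4 := by positivity
      have hp' : (0 : ℤ) < p := by exact_mod_cast hp
      push_cast at h1
      linarith
    · obtain ⟨j, hj⟩ : ∃ j, d 2 = j + 1 := ⟨d 2 - 1, by omega⟩
      have e : (X 0 ^ d 0 * X 1 ^ d 1 * X 2 ^ d 2 * X 3 ^ d 3 * X 4 ^ d 4 : MvPolynomial (Fin 5) k) =
          (X 0 ^ d 0 * X 1 ^ d 1 * X 2 ^ j * X 3 ^ d 3 * X 4 ^ d 4) * (![X 1, X 2] : Fin 2 → _) 1 := by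
        rw [hj]; simp only [Matrix.cons_val_one, Matrix.cons_val_zero, Matrix.cons_val_fin_one]; ring
      rw [e]
      refine mul_gen_mem_genSub (Finset.mem_univ _) (isWH5 k p q m _ _ _ _ _ _ ?_)
      rw [hj] at h1 h2
      push_cast at h1 h2
      rw [Prod.zero_eq_mk, Prod.mk.injEq]
      exact ⟨by linarith, by linear_combination -h2⟩
  · obtain ⟨j, hj⟩ : ∃ j, d 1 = j + 1 := ⟨d 1 - 1, by omega⟩
    have e : (X 0 ^ d 0 * X 1 ^ d 1 * X 2 ^ d 2 * X 3 ^ d 3 * X 4 ^ d 4 : MvPolynomial (Fin 5) k) =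
        (X 0 ^ d 0 * X 1 ^ j * X 2 ^ d 2 * X 3 ^ d 3 * X 4 ^ d 4) * (![X 1, X 2] : Fin 2 → _) 0 := by
      rw [hj]; simp only [Matrix.cons_val_zero]; ring
    rw [e]
    refine mul_gen_mem_genSub (Finset.mem_univ _) (isWH5 k p q m _ _ _ _ _ _ ?_)
    rw [hj] at h1 h2
    push_cast at h1 h2
    rw [Prod.zero_eq_mk, Prod.mk.injEq]
    exact ⟨by linarith, by linear_combination -h2⟩

lemma partB (hpq : p < q) (d : Fin 5 →₀ ℕ) (hd : Finsupp.weight (wt5 p q m) d = wt5 p q m 3) :
    monomial d (1 : k) ∈ genSub (W0 k p q m) (Pid k p q) (Finset.univ : Finset (Fin 2))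
      ![X 3, X 4] := by
  rw [weight5, wt5_three, Prod.mk.injEq] at hd
  obtain ⟨h1, h2⟩ := hd
  rw [monomial5]
  rcases Nat.eq_zero_or_pos (d 3) with hd3 | hd3
  · rcases Nat.eq_zero_or_pos (d 4) with hd4 | hd4
    · -- use the hypersurface equation
      rw [hd3, hd4] at h1 h2
      push_cast at h1 h2
      have hd0 : q - p ≤ d 0 := by
        have h3 : (q : ℤ) ≤ d 0 := by
          have : (0 : ℤ) ≤ (p : ℤ) * d 1 + p * d 2 := by positivity
          linarith
        have : q ≤ d 0 := by exact_mod_cast h3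
        omega
      obtain ⟨j, hj⟩ := Nat.exists_eq_add_of_le hd0
      have hjZ : (d 0 : ℤ) = (q : ℤ) - p + j := by
        rw [hj]; push_cast; rw [Nat.cast_sub hpq.le]
      rw [hd3, hd4, hj]
      set a : MvPolynomial (Fin 5) k := X 0 ^ j * X 1 ^ (d 1 + 1) * X 2 ^ d 2 * X 3 ^ 0 * X 4 ^ 0 with ha
      set b : MvPolynomial (Fin 5) k := X 0 ^ j * X 1 ^ d 1 * X 2 ^ (d 2 + 1) * X 3 ^ 0 * X 4 ^ 0 with hb
      have haW : a ∈ W0 k p q m := by
        refine isWH5 k p q m _ _ _ _ _ _ ?_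
        rw [Prod.zero_eq_mk, Prod.mk.injEq]
        push_cast
        exact ⟨by linarith, by linear_combination -h2⟩
      have hbW : b ∈ W0 k p q m := by
        refine isWH5 k p q m _ _ _ _ _ _ ?_
        rw [Prod.zero_eq_mk, Prod.mk.injEq]
        push_cast
        exact ⟨by linarith, by linear_combination -h2⟩
      have hg : (-b) * (![X 3, X 4] : Fin 2 → MvPolynomial (Fin 5) k) 0 +
          a * (![X 3, X 4] : Fin 2 → MvPolynomial (Fin 5) k) 1 ∈
          genSub (W0 k p q m) (Pid k p q) (Finset.univ : Finset (Fin 2)) ![X 3, X 4] :=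
        Submodule.add_mem _
          (mul_gen_mem_genSub (Finset.mem_univ _) (Submodule.neg_mem _ hbW))
          (mul_gen_mem_genSub (Finset.mem_univ _) haW)
      refine mem_genSub_of_sub_mem hg ?_
      rw [Ideal.mem_span_singleton']
      refine ⟨X 0 ^ j * X 1 ^ d 1 * X 2 ^ d 2, ?_⟩
      simp only [Matrix.cons_val_zero, Matrix.cons_val_one, Matrix.cons_val_fin_one, ha, hb]
      ring
    · obtain ⟨j, hj⟩ : ∃ j, d 4 = j + 1 := ⟨d 4 - 1, by omega⟩
      have e : (X 0 ^ d 0 * X 1 ^ d 1 * X 2 ^ d 2 * X 3 ^ d 3 * X 4 ^ d 4 : MvPolynomial (Fin 5) k) =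
          (X 0 ^ d 0 * X 1 ^ d 1 * X 2 ^ d 2 * X 3 ^ d 3 * X 4 ^ j) * (![X 3, X 4] : Fin 2 → _) 1 := by
        rw [hj]; simp only [Matrix.cons_val_one, Matrix.cons_val_zero, Matrix.cons_val_fin_one]; ring
      rw [e]
      refine mul_gen_mem_genSub (Finset.mem_univ _) (isWH5 k p q m _ _ _ _ _ _ ?_)
      rw [hj] at h1 h2
      push_cast at h1 h2
      rw [Prod.zero_eq_mk, Prod.mk.injEq]
      exact ⟨by linarith, by linear_combination -h2⟩
  · obtain ⟨j, hj⟩ : ∃ j, d 3 = j + 1 := ⟨d 3 - 1, by omega⟩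
    have e : (X 0 ^ d 0 * X 1 ^ d 1 * X 2 ^ d 2 * X 3 ^ d 3 * X 4 ^ d 4 : MvPolynomial (Fin 5) k) =
        (X 0 ^ d 0 * X 1 ^ d 1 * X 2 ^ d 2 * X 3 ^ j * X 4 ^ d 4) * (![X 3, X 4] : Fin 2 → _) 0 := by
      rw [hj]; simp only [Matrix.cons_val_zero]; ring
    rw [e]
    refine mul_gen_mem_genSub (Finset.mem_univ _) (isWH5 k p q m _ _ _ _ _ _ ?_)
    rw [hj] at h1 h2
    push_cast at h1 h2
    rw [Prod.zero_eq_mk, Prod.mk.injEq]
    exact ⟨by linarith, by linear_combination -h2⟩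

end

/-- Grade the polynomial ring k[X₀,…,X₄] over a field k by ℤ × ℤ/m, giving X₀ weight (1,0), X₁ and X₂
weight (−p,−1), and X₃ and X₄ weight (q,1), where 0 < p < q are coprime integers and m ≥ 1, and let
P be the principal ideal generated by the weight-zero element X₀^(q−p) − X₁X₄ + X₂X₃ (the equation
of an affine hypersurface). Then every polynomial homogeneous of the weight of X₁ is congruent
modulo P to some a·X₁ + b·X₂ with a and b homogeneous of weight zero, and every polynomial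
homogeneous of the weight of X₃ is congruent modulo P to some a·X₃ + b·X₄ with a and b homogeneous
of weight zero. Equivalently, in the coordinate ring of the hypersurface the weight pieces of the
weights of X₁ and of X₃ are generated over the weight-zero subring (the ring of invariants of the
diagonal action of a one-dimensional torus times the group of m-th roots of unity with these
weights) by X₁, X₂ and by X₃, X₄ respectively. (For the weight of X₁ the congruence is already an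
equality in the polynomial ring; for the weight of X₃ the hypersurface equation is needed, e.g.
X₀^(q+p)X₁ has that weight when m divides 2.) -/
theorem result (k : Type u) [Field k] (p q m : ℕ) (hp : 0 < p) (hpq : p < q) (hcop : Nat.Coprime p q) (hm : 0 < m) (f : MvPolynomial (Fin 5) k) :
    (f ∈ MvPolynomial.weightedHomogeneousSubmodule k (W4c2invhilbsl2.wt5 p q m) (W4c2invhilbsl2.wt5 p q m 1) →
      ∃ a b : MvPolynomial (Fin 5) k, a ∈ MvPolynomial.weightedHomogeneousSubmodule k (W4c2invhilbsl2.wt5 p q m) 0 ∧ b ∈ MvPolynomial.weightedHomogeneousSubmodule k (W4c2invhilbsl2.wt5 p q m) 0 ∧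
        f - (a * MvPolynomial.X (1 : Fin 5) + b * MvPolynomial.X (2 : Fin 5)) ∈ Ideal.span {MvPolynomial.X (0 : Fin 5) ^ (q - p) - MvPolynomial.X 1 * MvPolynomial.X 4 + MvPolynomial.X 2 * MvPolynomial.X 3}) ∧
    (f ∈ MvPolynomial.weightedHomogeneousSubmodule k (W4c2invhilbsl2.wt5 p q m) (W4c2invhilbsl2.wt5 p q m 3) →
      ∃ a b : MvPolynomial (Fin 5) k, a ∈ MvPolynomial.weightedHomogeneousSubmodule k (W4c2invhilbsl2.wt5 p q m) 0 ∧ b ∈ MvPolynomial.weightedHomogeneousSubmodule k (W4c2invhilbsl2.wt5 p q m) 0 ∧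
        f - (a * MvPolynomial.X (3 : Fin 5) + b * MvPolynomial.X (4 : Fin 5)) ∈ Ideal.span {MvPolynomial.X (0 : Fin 5) ^ (q - p) - MvPolynomial.X 1 * MvPolynomial.X 4 + MvPolynomial.X 2 * MvPolynomial.X 3}) := by
  constructor
  · intro hf
    have h := weightedHomogeneousSubmodule_le_of_monomial_mem (wt5 p q m) (wt5 p q m 1) _
      (fun d hd => partA k p q m hp d hd) hf
    obtain ⟨a, ha, hfa⟩ := h
    refine ⟨a 0, a 1, ha 0, ha 1, ?_⟩
    rw [Fin.sum_univ_two] at hfa
    simpa using hfa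
  · intro hf
    have h := weightedHomogeneousSubmodule_le_of_monomial_mem (wt5 p q m) (wt5 p q m 3) _
      (fun d hd => partB k p q m hpq d hd) hf
    obtain ⟨a, ha, hfa⟩ := h
    refine ⟨a 0, a 1, ha 0, ha 1, ?_⟩
    rw [Fin.sum_univ_two] at hfa
    simpa using hfa

end Groth.Agent.S15724
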