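import Groth.Statements.S15725
import Mathlib.Tactic

set_option autoImplicit false
set_option maxHeartbeats 400000
universe u
open W4c2invhilbsl2

namespace Groth.Agent.S15725

/-- Grade the polynomial ring k[X₀,X₁,X₂] over a field k by ℤ × ℤ/m, giving X₀ weight (1,0), X₁ weight
(−p,−1) and X₂ weight (q,1), where 0 < p < q are coprime integers and m ≥ 1 (this three-variable
ring stands for the subring k[X₀,X₁,Xⱼ], j = 3 or 4, of the five-variable ring with the same
weights). Then every polynomial homogeneous of weight (q−p, 0) can be written a·X₀^(q−p) + b·X₁X₂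
with a and b homogeneous of weight zero; in other words the weight-(q−p, 0) piece is generated by
X₀^(q−p) and X₁X₂ as a module over the weight-zero subring. -/
theorem result (k : Type u) [Field k] (p q m : ℕ) (hp : 0 < p) (hpq : p < q) (hcop : Nat.Coprime p q) (hm : 0 < m) (f : MvPolynomial (Fin 3) k)
    (hf : f ∈ MvPolynomial.weightedHomogeneousSubmodule k (W4c2invhilbsl2.wt3 p q m) ((q : ℤ) - (p : ℤ), (0 : ZMod m))) :
    ∃ a b : MvPolynomial (Fin 3) k, a ∈ MvPolynomial.weightedHomogeneousSubmodule k (W4c2invhilbsl2.wt3 p q m) 0 ∧ b ∈ MvPolynomial.weightedHomogeneousSubmodule k (W4c2invhilbsl2.wt3 p q m) 0 ∧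
      f = a * MvPolynomial.X (0 : Fin 3) ^ (q - p) + b * (MvPolynomial.X (1 : Fin 3) * MvPolynomial.X (2 : Fin 3)) := by
  classical
  rw [MvPolynomial.mem_weightedHomogeneousSubmodule] at hf
  have hpq' : (p : ℤ) < q := by exact_mod_cast hpq
  have hcast : ((q - p : ℕ) : ℤ) = (q : ℤ) - p := Nat.cast_sub hpq.le
  have hw0 : W4c2invhilbsl2.wt3 p q m 0 = ((1 : ℤ), (0 : ZMod m)) := rfl
  have hw1 : W4c2invhilbsl2.wt3 p q m 1 = (-(p : ℤ), (-1 : ZMod m)) := rfl
  have hw2 : W4c2invhilbsl2.wt3 p q m 2 = ((q : ℤ), (1 : ZMod m)) := rfl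
  induction hf using MvPolynomial.IsWeightedHomogeneous.induction_on with
  | zero => exact ⟨0, 0, zero_mem _, zero_mem _, by simp⟩
  | add f g hf hg ihf ihg =>
    obtain ⟨a, b, ha, hb, rfl⟩ := ihf
    obtain ⟨a', b', ha', hb', rfl⟩ := ihg
    exact ⟨a + a', b + b', add_mem ha ha', add_mem hb hb', by ring⟩
  | monomial d r hr =>
    have hfst : (d 0 : ℤ) - p * d 1 + q * d 2 = (q : ℤ) - p := by
      have := congrArg Prod.fst hr
      rw [Finsupp.weight_eq_sum, Fin.sum_univ_three, hw0, hw1, hw2] at this
      simp only [Prod.fst_add, Prod.smul_fst, nsmul_eq_mul, Prod.fst_mul, Prod.fst_natCast] at this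
      linarith
    by_cases hcase : 1 ≤ d 1 ∧ 1 ≤ d 2
    · set g : Fin 3 →₀ ℕ := Finsupp.single 1 1 + Finsupp.single 2 1 with hg
      have hle : g ≤ d := by
        intro i
        fin_cases i
        · simp [hg]
        · simpa [hg] using hcase.1
        · simpa [hg] using hcase.2
      have hd : d = (d - g) + g := (tsub_add_cancel_of_le hle).symm
      have hwg : Finsupp.weight (W4c2invhilbsl2.wt3 p q m) g = ((q : ℤ) - p, (0 : ZMod m)) := by
        rw [hg, map_add, Finsupp.weight_single, Finsupp.weight_single, hw1, hw2]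
        ext
        · simp; ring
        · simp
      have hwe : Finsupp.weight (W4c2invhilbsl2.wt3 p q m) (d - g) = 0 := by
        have h1 : Finsupp.weight (W4c2invhilbsl2.wt3 p q m) d =
            Finsupp.weight (W4c2invhilbsl2.wt3 p q m) (d - g) +
              Finsupp.weight (W4c2invhilbsl2.wt3 p q m) g := by
          conv_lhs => rw [hd]
          rw [map_add]
        rw [hr, hwg] at h1
        exact (add_eq_right.mp h1.symm)
      refine ⟨0, MvPolynomial.monomial (d - g) r, zero_mem _, ?_, ?_⟩
      · rw [MvPolynomial.mem_weightedHomogeneousSubmodule]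
        exact MvPolynomial.isWeightedHomogeneous_monomial _ _ _ hwe
      · have hX : (MvPolynomial.X (1 : Fin 3) * MvPolynomial.X (2 : Fin 3) : MvPolynomial (Fin 3) k) =
            MvPolynomial.monomial g 1 := by
          rw [hg, MvPolynomial.X, MvPolynomial.X, MvPolynomial.monomial_mul, one_mul]
        rw [hX, MvPolynomial.monomial_mul, mul_one, ← hd]
        simp
    · have hle0 : q - p ≤ d 0 := by
        push Not at hcase
        have h0 : (0 : ℤ) ≤ d 0 := Int.natCast_nonneg _
        have h1 : (0 : ℤ) ≤ d 1 := Int.natCast_nonneg _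
        have h2 : (0 : ℤ) ≤ d 2 := Int.natCast_nonneg _
        have hp' : (0 : ℤ) < p := by exact_mod_cast hp
        have : ((q - p : ℕ) : ℤ) ≤ d 0 := by
          rw [hcast]
          by_cases hd2 : d 2 = 0
          · rw [hd2] at hfst
            push_cast at hfst
            nlinarith
          · have hd2' : 1 ≤ d 2 := Nat.one_le_iff_ne_zero.mpr hd2
            have hd1 : d 1 = 0 := by
              by_contra hne
              exact absurd (hcase (Nat.one_le_iff_ne_zero.mpr hne)) (by omega)
            rw [hd1] at hfst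
            have : (1 : ℤ) ≤ d 2 := by exact_mod_cast hd2'
            push_cast at hfst
            nlinarith
        exact_mod_cast this
      set g : Fin 3 →₀ ℕ := Finsupp.single 0 (q - p) with hg
      have hle : g ≤ d := by
        intro i
        fin_cases i
        · simpa [hg] using hle0
        · simp [hg]
        · simp [hg]
      have hd : d = (d - g) + g := (tsub_add_cancel_of_le hle).symm
      have hwg : Finsupp.weight (W4c2invhilbsl2.wt3 p q m) g = ((q : ℤ) - p, (0 : ZMod m)) := by
        rw [hg, Finsupp.weight_single, hw0]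
        ext
        · simp [hcast]
        · simp
      have hwe : Finsupp.weight (W4c2invhilbsl2.wt3 p q m) (d - g) = 0 := by
        have h1 : Finsupp.weight (W4c2invhilbsl2.wt3 p q m) d =
            Finsupp.weight (W4c2invhilbsl2.wt3 p q m) (d - g) +
              Finsupp.weight (W4c2invhilbsl2.wt3 p q m) g := by
          conv_lhs => rw [hd]
          rw [map_add]
        rw [hr, hwg] at h1
        exact (add_eq_right.mp h1.symm)
      refine ⟨MvPolynomial.monomial (d - g) r, 0, ?_, zero_mem _, ?_⟩
      · rw [MvPolynomial.mem_weightedHomogeneousSubmodule]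
        exact MvPolynomial.isWeightedHomogeneous_monomial _ _ _ hwe
      · rw [MvPolynomial.X_pow_eq_monomial, MvPolynomial.monomial_mul, mul_one, ← hg, ← hd]
        simp

end Groth.Agent.S15725
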