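import Groth.Statements.S15726
import Groth.Agent.H78.Wt5
import Mathlib.Tactic

set_option autoImplicit false
set_option maxHeartbeats 400000
universe u
open W4c2invhilbsl2

namespace Groth.Agent.S15726

open MvPolynomial Groth.Agent.H78

section
variable (k : Type u) [Field k] (p q m : ℕ)

noncomputable abbrev Pid : Ideal (MvPolynomial (Fin 5) k) :=
  Ideal.span {X (0 : Fin 5) ^ (q - p) - X 1 * X 4 + X 2 * X 3}

noncomputable abbrev W0 : Submodule k (MvPolynomial (Fin 5) k) :=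
  weightedHomogeneousSubmodule k (wt5 p q m) 0

noncomputable abbrev gens : Fin 4 → MvPolynomial (Fin 5) k :=
  ![X 1 * X 3, X 1 * X 4, X 2 * X 3, X 2 * X 4]

/-- the direct case: a variable from `{X₁, X₂}` and one from `{X₃, X₄}` divide the monomial -/
lemma direct (a0 a1 a2 a3 a4 : ℕ) (i : Fin 4)
    (h1 : (a0 : ℤ) - p * a1 - p * a2 + q * a3 + q * a4 = 0)
    (h2 : -(a1 : ZMod m) - a2 + a3 + a4 = 0) :
    (X 0 ^ a0 * X 1 ^ a1 * X 2 ^ a2 * X 3 ^ a3 * X 4 ^ a4) * gens k i ∈
      genSub (W0 k p q m) (Pid k p q) (Finset.univ : Finset (Fin 4)) (gens k) := by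
  refine mul_gen_mem_genSub (Finset.mem_univ _) (isWH5 k p q m _ _ _ _ _ _ ?_)
  rw [Prod.zero_eq_mk, Prod.mk.injEq]
  exact ⟨h1.symm, h2.symm⟩

lemma mono_mem (hp : 0 < p) (hpq : p < q) (d : Fin 5 →₀ ℕ)
    (hd : Finsupp.weight (wt5 p q m) d = ((q : ℤ) - (p : ℤ), (0 : ZMod m))) :
    monomial d (1 : k) ∈ genSub (W0 k p q m) (Pid k p q) (Finset.univ : Finset (Fin 4)) (gens k) := by
  rw [weight5, Prod.mk.injEq] at hd
  obtain ⟨h1, h2⟩ := hd
  rw [monomial5]
  have hp' : (0 : ℤ) < p := by exact_mod_cast hp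
  have hpq' : (p : ℤ) < q := by exact_mod_cast hpq
  by_cases h34 : d 3 = 0 ∧ d 4 = 0
  · -- use the hypersurface equation
    obtain ⟨hd3, hd4⟩ := h34
    rw [hd3, hd4] at h1 h2
    push_cast at h1 h2
    have hd0 : q - p ≤ d 0 := by
      have h3 : (q : ℤ) - p ≤ d 0 := by
        have : (0 : ℤ) ≤ (p : ℤ) * d 1 + p * d 2 := by positivity
        linarith
      have : ((q - p : ℕ) : ℤ) ≤ d 0 := by rw [Nat.cast_sub hpq.le]; exact h3
      exact_mod_cast this
    obtain ⟨j, hj⟩ := Nat.exists_eq_add_of_le hd0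
    have hjZ : (d 0 : ℤ) = (q : ℤ) - p + j := by
      rw [hj]; push_cast; rw [Nat.cast_sub hpq.le]
    rw [hd3, hd4, hj]
    set N : MvPolynomial (Fin 5) k := X 0 ^ j * X 1 ^ d 1 * X 2 ^ d 2 * X 3 ^ 0 * X 4 ^ 0 with hN
    have hNW : N ∈ W0 k p q m := by
      refine isWH5 k p q m _ _ _ _ _ _ ?_
      rw [Prod.zero_eq_mk, Prod.mk.injEq]
      push_cast
      exact ⟨by linarith, by linear_combination -h2⟩
    have hg : N * gens k 1 + (-N) * gens k 2 ∈
        genSub (W0 k p q m) (Pid k p q) (Finset.univ : Finset (Fin 4)) (gens k) :=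
      Submodule.add_mem _
        (mul_gen_mem_genSub (Finset.mem_univ _) hNW)
        (mul_gen_mem_genSub (Finset.mem_univ _) (Submodule.neg_mem _ hNW))
    refine mem_genSub_of_sub_mem hg ?_
    rw [Ideal.mem_span_singleton']
    refine ⟨X 0 ^ j * X 1 ^ d 1 * X 2 ^ d 2, ?_⟩
    rw [show gens k 1 = X 1 * X 4 from rfl, show gens k 2 = X 2 * X 3 from rfl, hN]
    ring
  · by_cases h12 : d 1 = 0 ∧ d 2 = 0
    · exfalso
      obtain ⟨hd1, hd2⟩ := h12
      rw [hd1, hd2] at h1
      push_cast at h1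
      have h5 : 1 ≤ d 3 + d 4 := by
        by_contra hcon
        exact h34 ⟨by omega, by omega⟩
      have h5' : (1 : ℤ) ≤ (d 3 : ℤ) + d 4 := by exact_mod_cast h5
      have h6 : (0 : ℤ) ≤ d 0 := by positivity
      nlinarith
    · -- direct case
      rcases Nat.eq_zero_or_pos (d 1) with hd1 | hd1
      · have hd2 : 0 < d 2 := by
          rcases Nat.eq_zero_or_pos (d 2) with h | h
          · exact absurd ⟨hd1, h⟩ h12
          · exact h
        obtain ⟨j2, hj2⟩ : ∃ j, d 2 = j + 1 := ⟨d 2 - 1, by omega⟩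
        rcases Nat.eq_zero_or_pos (d 3) with hd3 | hd3
        · have hd4 : 0 < d 4 := by
            rcases Nat.eq_zero_or_pos (d 4) with h | h
            · exact absurd ⟨hd3, h⟩ h34
            · exact h
          obtain ⟨j4, hj4⟩ : ∃ j, d 4 = j + 1 := ⟨d 4 - 1, by omega⟩
          have e : (X 0 ^ d 0 * X 1 ^ d 1 * X 2 ^ d 2 * X 3 ^ d 3 * X 4 ^ d 4 : MvPolynomial (Fin 5) k) =
              (X 0 ^ d 0 * X 1 ^ d 1 * X 2 ^ j2 * X 3 ^ d 3 * X 4 ^ j4) * gens k 3 := by
            rw [show gens k 3 = X 2 * X 4 from rfl]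
            rw [hj2, hj4]
            ring
          rw [e]
          rw [hj2, hj4] at h1 h2
          push_cast at h1 h2
          exact direct k p q m _ _ _ _ _ 3 (by linarith) (by linear_combination h2)
        · obtain ⟨j3, hj3⟩ : ∃ j, d 3 = j + 1 := ⟨d 3 - 1, by omega⟩
          have e : (X 0 ^ d 0 * X 1 ^ d 1 * X 2 ^ d 2 * X 3 ^ d 3 * X 4 ^ d 4 : MvPolynomial (Fin 5) k) =
              (X 0 ^ d 0 * X 1 ^ d 1 * X 2 ^ j2 * X 3 ^ j3 * X 4 ^ d 4) * gens k 2 := by
            rw [show gens k 2 = X 2 * X 3 from rfl]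
            rw [hj2, hj3]
            ring
          rw [e]
          rw [hj2, hj3] at h1 h2
          push_cast at h1 h2
          exact direct k p q m _ _ _ _ _ 2 (by linarith) (by linear_combination h2)
      · obtain ⟨j1, hj1⟩ : ∃ j, d 1 = j + 1 := ⟨d 1 - 1, by omega⟩
        rcases Nat.eq_zero_or_pos (d 3) with hd3 | hd3
        · have hd4 : 0 < d 4 := by
            rcases Nat.eq_zero_or_pos (d 4) with h | h
            · exact absurd ⟨hd3, h⟩ h34
            · exact h
          obtain ⟨j4, hj4⟩ : ∃ j, d 4 = j + 1 := ⟨d 4 - 1, by omega⟩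
          have e : (X 0 ^ d 0 * X 1 ^ d 1 * X 2 ^ d 2 * X 3 ^ d 3 * X 4 ^ d 4 : MvPolynomial (Fin 5) k) =
              (X 0 ^ d 0 * X 1 ^ j1 * X 2 ^ d 2 * X 3 ^ d 3 * X 4 ^ j4) * gens k 1 := by
            rw [show gens k 1 = X 1 * X 4 from rfl]
            rw [hj1, hj4]
            ring
          rw [e]
          rw [hj1, hj4] at h1 h2
          push_cast at h1 h2
          exact direct k p q m _ _ _ _ _ 1 (by linarith) (by linear_combination h2)
        · obtain ⟨j3, hj3⟩ : ∃ j, d 3 = j + 1 := ⟨d 3 - 1, by omega⟩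
          have e : (X 0 ^ d 0 * X 1 ^ d 1 * X 2 ^ d 2 * X 3 ^ d 3 * X 4 ^ d 4 : MvPolynomial (Fin 5) k) =
              (X 0 ^ d 0 * X 1 ^ j1 * X 2 ^ d 2 * X 3 ^ j3 * X 4 ^ d 4) * gens k 0 := by
            rw [show gens k 0 = X 1 * X 3 from rfl]
            rw [hj1, hj3]
            ring
          rw [e]
          rw [hj1, hj3] at h1 h2
          push_cast at h1 h2
          exact direct k p q m _ _ _ _ _ 0 (by linarith) (by linear_combination h2)

end

/-- Grade the polynomial ring k[X₀,…,X₄] over a field k by ℤ × ℤ/m, giving X₀ weight (1,0), X₁ and X₂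
weight (−p,−1), and X₃ and X₄ weight (q,1), where 0 < p < q are coprime integers and m ≥ 1. Then
modulo the principal ideal generated by the weight-zero element X₀^(q−p) − X₁X₄ + X₂X₃ (the equation
of an affine hypersurface), every polynomial homogeneous of weight (q−p, 0) is congruent to a
combination a₁₃X₁X₃ + a₁₄X₁X₄ + a₂₃X₂X₃ + a₂₄X₂X₄ whose four coefficients are homogeneous of weight
zero. Equivalently, in the coordinate ring of the hypersurface the weight-(q−p, 0) piece is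
generated over the weight-zero subring (the invariant ring of the diagonal action with these
weights) by the span of the four products XₐX_b with a ∈ {1,2} and b ∈ {3,4}. (The published
statement is over the complex numbers; this row takes any field.) -/
theorem result (k : Type u) [Field k] (p q m : ℕ) (hp : 0 < p) (hpq : p < q) (hcop : Nat.Coprime p q) (hm : 0 < m) (f : MvPolynomial (Fin 5) k)
    (hf : f ∈ MvPolynomial.weightedHomogeneousSubmodule k (W4c2invhilbsl2.wt5 p q m) ((q : ℤ) - (p : ℤ), (0 : ZMod m))) :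
    ∃ a₁₃ a₁₄ a₂₃ a₂₄ : MvPolynomial (Fin 5) k,
      a₁₃ ∈ MvPolynomial.weightedHomogeneousSubmodule k (W4c2invhilbsl2.wt5 p q m) 0 ∧ a₁₄ ∈ MvPolynomial.weightedHomogeneousSubmodule k (W4c2invhilbsl2.wt5 p q m) 0 ∧ a₂₃ ∈ MvPolynomial.weightedHomogeneousSubmodule k (W4c2invhilbsl2.wt5 p q m) 0 ∧ a₂₄ ∈ MvPolynomial.weightedHomogeneousSubmodule k (W4c2invhilbsl2.wt5 p q m) 0 ∧
      f - (a₁₃ * (MvPolynomial.X (1 : Fin 5) * MvPolynomial.X 3) + a₁₄ * (MvPolynomial.X (1 : Fin 5) * MvPolynomial.X 4) +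
          a₂₃ * (MvPolynomial.X (2 : Fin 5) * MvPolynomial.X 3) + a₂₄ * (MvPolynomial.X (2 : Fin 5) * MvPolynomial.X 4)) ∈
        Ideal.span {MvPolynomial.X (0 : Fin 5) ^ (q - p) - MvPolynomial.X 1 * MvPolynomial.X 4 + MvPolynomial.X 2 * MvPolynomial.X 3} := by
  have h := weightedHomogeneousSubmodule_le_of_monomial_mem (wt5 p q m) _ _
    (fun d hd => mono_mem k p q m hp hpq d hd) hf
  obtain ⟨a, ha, hfa⟩ := h
  refine ⟨a 0, a 1, a 2, a 3, ha 0, ha 1, ha 2, ha 3, ?_⟩
  rw [Fin.sum_univ_four, show gens k 0 = X 1 * X 3 from rfl, show gens k 1 = X 1 * X 4 from rfl,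
    show gens k 2 = X 2 * X 3 from rfl, show gens k 3 = X 2 * X 4 from rfl] at hfa
  exact hfa

end Groth.Agent.S15726
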