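import Groth.Statements.S15738
import Mathlib.Tactic

set_option autoImplicit false
set_option maxHeartbeats 400000
universe u
open W4c2invhilbsl2

namespace Groth.Agent.S15738

section gen
variable {R : Type*} [CommRing R]

lemma core (x y z : R) (r a0 a1 a2 j : ℕ) :
    x ^ (a0 + r * j) * y ^ a1 * z ^ a2 - x ^ a0 * y ^ (a1 + j) * z ^ (a2 + j) ∈
      Ideal.span {x ^ r - y * z} := by
  rw [Ideal.mem_span_singleton]
  have h1 : x ^ r - y * z ∣ (x ^ r) ^ j - (y * z) ^ j := sub_dvd_pow_sub_pow _ _ _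
  have h2 : x ^ (a0 + r * j) * y ^ a1 * z ^ a2 - x ^ a0 * y ^ (a1 + j) * z ^ (a2 + j)
      = (x ^ a0 * y ^ a1 * z ^ a2) * ((x ^ r) ^ j - (y * z) ^ j) := by ring
  rw [h2]
  exact Dvd.dvd.mul_left h1 _

lemma partI_le (x y z : R) (p q : ℕ) (hpq : p < q) (d0 d1 d2 e0 e1 e2 : ℕ)
    (hn : (e0 : ℤ) - (p : ℤ) * e1 + (q : ℤ) * e2 = (d0 : ℤ) - (p : ℤ) * d1 + (q : ℤ) * d2)
    (hc : (d1 : ℤ) - d2 = (e1 : ℤ) - e2) (h : d1 ≤ e1) :
    x ^ d0 * y ^ d1 * z ^ d2 - x ^ e0 * y ^ e1 * z ^ e2 ∈ Ideal.span {x ^ (q - p) - y * z} := by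
  have hqp : ((q - p : ℕ) : ℤ) = (q : ℤ) - p := by
    rw [Nat.cast_sub hpq.le]
  obtain ⟨j, rfl⟩ := Nat.exists_eq_add_of_le h
  have he2 : e2 = d2 + j := by
    have : (e2 : ℤ) = d2 + j := by push_cast at hc; linarith
    exact_mod_cast this
  subst he2
  have hd0 : d0 = e0 + (q - p) * j := by
    have : (d0 : ℤ) = e0 + ((q - p : ℕ) : ℤ) * j := by
      rw [hqp]; push_cast at hn; linarith
    exact_mod_cast this
  subst hd0
  exact core x y z (q - p) e0 d1 d2 j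

lemma partI (x y z : R) (p q : ℕ) (hpq : p < q) (d0 d1 d2 e0 e1 e2 : ℕ)
    (hn : (e0 : ℤ) - (p : ℤ) * e1 + (q : ℤ) * e2 = (d0 : ℤ) - (p : ℤ) * d1 + (q : ℤ) * d2)
    (hc : (d1 : ℤ) - d2 = (e1 : ℤ) - e2) :
    x ^ d0 * y ^ d1 * z ^ d2 - x ^ e0 * y ^ e1 * z ^ e2 ∈ Ideal.span {x ^ (q - p) - y * z} := by
  rcases le_total d1 e1 with h | h
  · exact partI_le x y z p q hpq d0 d1 d2 e0 e1 e2 hn hc h
  · have := partI_le x y z p q hpq e0 e1 e2 d0 d1 d2 hn.symm hc.symm h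
    have h2 := neg_mem this
    rwa [neg_sub] at h2

lemma aux (x y z : R) (p q m : ℕ) (hpq : p < q) (d0 d1 d2 e0 e1 e2 s : ℕ)
    (hn : (e0 : ℤ) - (p : ℤ) * e1 + (q : ℤ) * e2 = (d0 : ℤ) - (p : ℤ) * d1 + (q : ℤ) * d2)
    (hc : ((d1 : ℤ) - d2) - ((e1 : ℤ) - e2) = m * s) :
    x ^ d0 * y ^ d1 * z ^ d2 - x ^ e0 * y ^ e1 * z ^ e2 * (x ^ (m * p) * y ^ m) ^ s ∈
      Ideal.span {x ^ (q - p) - y * z} := by
  have h := partI x y z p q hpq d0 d1 d2 (e0 + m * p * s) (e1 + m * s) e2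
    (by push_cast; linarith) (by push_cast; linarith)
  have e : x ^ (e0 + m * p * s) * y ^ (e1 + m * s) * z ^ e2
      = x ^ e0 * y ^ e1 * z ^ e2 * (x ^ (m * p) * y ^ m) ^ s := by ring
  rwa [e] at h

lemma partIII_nonneg (x y z : R) (p q m : ℕ) (hpq : p < q) (d0 d1 d2 e0 e1 e2 s : ℕ)
    (hn : (e0 : ℤ) - (p : ℤ) * e1 + (q : ℤ) * e2 = (d0 : ℤ) - (p : ℤ) * d1 + (q : ℤ) * d2)
    (hc : ((d1 : ℤ) - d2) - ((e1 : ℤ) - e2) = m * s) :
    x ^ d0 * y ^ d1 * z ^ d2 - x ^ e0 * y ^ e1 * z ^ e2 ∈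
      Ideal.span {x ^ (q - p) - y * z, 1 - x ^ (m * p) * y ^ m} := by
  have hsub : Ideal.span {x ^ (q - p) - y * z} ≤
      Ideal.span {x ^ (q - p) - y * z, 1 - x ^ (m * p) * y ^ m} :=
    Ideal.span_mono (by simp)
  have h1 := hsub (aux x y z p q m hpq d0 d1 d2 e0 e1 e2 s hn hc)
  have hdvd : (1 - x ^ (m * p) * y ^ m) ∣ (x ^ (m * p) * y ^ m) ^ s - 1 := by
    have h := sub_dvd_pow_sub_pow (x ^ (m * p) * y ^ m) 1 s
    rw [one_pow] at h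
    rw [← neg_sub, neg_dvd]
    exact h
  obtain ⟨w, hw⟩ := hdvd
  have h2 : x ^ e0 * y ^ e1 * z ^ e2 * ((x ^ (m * p) * y ^ m) ^ s - 1) ∈
      Ideal.span {x ^ (q - p) - y * z, 1 - x ^ (m * p) * y ^ m} := by
    rw [hw]
    apply Ideal.mul_mem_left
    apply Ideal.mul_mem_right
    exact Ideal.subset_span (by simp)
  have := Ideal.add_mem _ h1 h2
  convert this using 1
  ring

end gen

/-- Let k be a field and m ≥ 1; for a monomial X₀^d₀X₁^d₁X₂^d₂ of the polynomial ring in X₀, X₁, X₂ (X₂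
standing for Xⱼ, j = 3 or 4, of the five-variable ring) put n = d₀ − p·d₁ + q·d₂ (its weight for the
torus diag(t, t^(−p), t^q)), c = d₁ − d₂ and ω = p·d₁ − q·d₂, so that d₀ = n + ω; here 0 < p < q are
coprime integers. Take two monomials X₀^d₀X₁^d₁X₂^d₂ and X₀^e₀X₁^e₁X₂^e₂ with the same n and with
values c, c' of c congruent modulo m (so both lie in the same ℤ × ℤ/m-weight piece for the weights
(1,0), (−p,−1), (q,1)). Then: (i) if c = c', the difference of the two monomials lies in the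
principal ideal (X₀^(q−p) − X₁X₂); (ii) if c' < c, the monomial X₀^d₀X₁^d₁X₂^d₂ lies in the ideal
(X₀^(q−p) − X₁X₂, X₀^(mp)X₁^m); (iii) in all cases the difference lies in the ideal (X₀^(q−p) −
X₁X₂, 1 − X₀^(mp)X₁^m). -/
theorem result (k : Type u) [Field k] (p q m : ℕ) (hp : 0 < p) (hpq : p < q) (hcop : Nat.Coprime p q) (hm : 0 < m)
    (d0 d1 d2 e0 e1 e2 : ℕ) (hn : (e0 : ℤ) - (p : ℤ) * e1 + (q : ℤ) * e2 = (d0 : ℤ) - (p : ℤ) * d1 + (q : ℤ) * d2)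
    (hc : (m : ℤ) ∣ ((d1 : ℤ) - d2) - ((e1 : ℤ) - e2)) :
    ((d1 : ℤ) - d2 = (e1 : ℤ) - e2 →
      (MvPolynomial.X (0 : Fin 3) ^ d0 * MvPolynomial.X (1 : Fin 3) ^ d1 * MvPolynomial.X (2 : Fin 3) ^ d2 - MvPolynomial.X (0 : Fin 3) ^ e0 * MvPolynomial.X (1 : Fin 3) ^ e1 * MvPolynomial.X (2 : Fin 3) ^ e2 : MvPolynomial (Fin 3) k) ∈ Ideal.span {MvPolynomial.X (0 : Fin 3) ^ (q - p) - MvPolynomial.X (1 : Fin 3) * MvPolynomial.X (2 : Fin 3)}) ∧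
    ((e1 : ℤ) - e2 < (d1 : ℤ) - d2 →
      (MvPolynomial.X (0 : Fin 3) ^ d0 * MvPolynomial.X (1 : Fin 3) ^ d1 * MvPolynomial.X (2 : Fin 3) ^ d2 : MvPolynomial (Fin 3) k) ∈ Ideal.span {MvPolynomial.X (0 : Fin 3) ^ (q - p) - MvPolynomial.X (1 : Fin 3) * MvPolynomial.X (2 : Fin 3), MvPolynomial.X (0 : Fin 3) ^ (m * p) * MvPolynomial.X (1 : Fin 3) ^ m}) ∧
    ((MvPolynomial.X (0 : Fin 3) ^ d0 * MvPolynomial.X (1 : Fin 3) ^ d1 * MvPolynomial.X (2 : Fin 3) ^ d2 - MvPolynomial.X (0 : Fin 3) ^ e0 * MvPolynomial.X (1 : Fin 3) ^ e1 * MvPolynomial.X (2 : Fin 3) ^ e2 : MvPolynomial (Fin 3) k) ∈ Ideal.span {MvPolynomial.X (0 : Fin 3) ^ (q - p) - MvPolynomial.X (1 : Fin 3) * MvPolynomial.X (2 : Fin 3), 1 - MvPolynomial.X (0 : Fin 3) ^ (m * p) * MvPolynomial.X (1 : Fin 3) ^ m}) := by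
  obtain ⟨s, hs⟩ := hc
  refine ⟨fun h => partI _ _ _ p q hpq _ _ _ _ _ _ hn h, fun hlt => ?_, ?_⟩
  · have hspos : 0 < s := by
      by_contra hcon
      push Not at hcon
      have hm' : (0 : ℤ) ≤ m := by positivity
      have : (m : ℤ) * s ≤ 0 := mul_nonpos_of_nonneg_of_nonpos hm' hcon
      linarith
    obtain ⟨t, rfl⟩ := Int.eq_ofNat_of_zero_le hspos.le
    have ht : 0 < t := by exact_mod_cast hspos
    have h1 := aux (MvPolynomial.X (0 : Fin 3) : MvPolynomial (Fin 3) k) (MvPolynomial.X 1)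
      (MvPolynomial.X 2) p q m hpq d0 d1 d2 e0 e1 e2 t hn hs
    have hsub : Ideal.span {(MvPolynomial.X (0 : Fin 3) : MvPolynomial (Fin 3) k) ^ (q - p) - MvPolynomial.X (1 : Fin 3) * MvPolynomial.X (2 : Fin 3)} ≤
        Ideal.span {(MvPolynomial.X (0 : Fin 3) : MvPolynomial (Fin 3) k) ^ (q - p) - MvPolynomial.X (1 : Fin 3) * MvPolynomial.X (2 : Fin 3), MvPolynomial.X (0 : Fin 3) ^ (m * p) * MvPolynomial.X (1 : Fin 3) ^ m} :=
      Ideal.span_mono (by simp)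
    have h2 : (MvPolynomial.X (0 : Fin 3) : MvPolynomial (Fin 3) k) ^ e0 * MvPolynomial.X (1 : Fin 3) ^ e1 * MvPolynomial.X (2 : Fin 3) ^ e2 * (MvPolynomial.X (0 : Fin 3) ^ (m * p) * MvPolynomial.X (1 : Fin 3) ^ m) ^ t ∈
        Ideal.span {(MvPolynomial.X (0 : Fin 3) : MvPolynomial (Fin 3) k) ^ (q - p) - MvPolynomial.X (1 : Fin 3) * MvPolynomial.X (2 : Fin 3), MvPolynomial.X (0 : Fin 3) ^ (m * p) * MvPolynomial.X (1 : Fin 3) ^ m} := by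
      obtain ⟨t', rfl⟩ := Nat.exists_eq_succ_of_ne_zero ht.ne'
      rw [pow_succ]
      apply Ideal.mul_mem_left
      apply Ideal.mul_mem_left
      exact Ideal.subset_span (by simp)
    have := Ideal.add_mem _ (hsub h1) h2
    simpa using this
  · rcases le_total 0 s with h | h
    · obtain ⟨t, rfl⟩ := Int.eq_ofNat_of_zero_le h
      exact partIII_nonneg _ _ _ p q m hpq d0 d1 d2 e0 e1 e2 t hn hs
    · obtain ⟨t, ht⟩ := Int.eq_ofNat_of_zero_le (neg_nonneg.mpr h)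
      have hs' : ((e1 : ℤ) - e2) - ((d1 : ℤ) - d2) = m * (t : ℤ) := by
        rw [← ht]; linarith
      have := partIII_nonneg (MvPolynomial.X (0 : Fin 3) : MvPolynomial (Fin 3) k) (MvPolynomial.X 1)
        (MvPolynomial.X 2) p q m hpq e0 e1 e2 d0 d1 d2 t hn.symm hs'
      have h2 := neg_mem this
      rwa [neg_sub] at h2

end Groth.Agent.S15738
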