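import Groth.Statements.S15727
import Groth.Agent.H78.PieceRank
import Groth.Agent.S15738
import Mathlib.Tactic

set_option autoImplicit false
set_option maxHeartbeats 400000
universe u
open W4c2invhilbsl2

namespace Groth.Agent.S15727

open MvPolynomial

lemma monomial5 (k : Type*) [CommSemiring k] (d : Fin 5 →₀ ℕ) :
    (monomial d (1:k)) = X 0 ^ d 0 * X 1 ^ d 1 * X 2 ^ d 2 * X 3 ^ d 3 * X 4 ^ d 4 := by
  rw [monomial_eq, C_1, one_mul, Finsupp.prod_fintype _ _ (fun i => pow_zero _), Fin.prod_univ_five]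

lemma weight5 (p q m : ℕ) (d : Fin 5 →₀ ℕ) :
    Finsupp.weight (wt5 p q m) d = ((d 0 : ℤ) - p * d 1 - p * d 2 + q * d 3 + q * d 4,
      -(d 1 : ZMod m) - d 2 + d 3 + d 4) := by
  rw [Finsupp.weight_apply, Finsupp.sum_fintype _ _ (fun i => by simp), Fin.sum_univ_five]
  simp [wt5]
  constructor <;> ring

section
variable (k : Type u) [Field k] (p q m : ℕ) (s : k)

lemma F_mem : (X 0 ^ (q - p) - X 1 * X 4 : MvPolynomial (Fin 5) k) ∈ idealI k p q m s :=
  Ideal.subset_span (by simp)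

lemma X2_mem : (X 2 : MvPolynomial (Fin 5) k) ∈ idealI k p q m s :=
  Ideal.subset_span (by simp)

lemma X3_mem : (X 3 : MvPolynomial (Fin 5) k) ∈ idealI k p q m s :=
  Ideal.subset_span (by simp)

lemma G_mem : (C s - X 0 ^ (m * p) * X 1 ^ m : MvPolynomial (Fin 5) k) ∈ idealI k p q m s :=
  Ideal.subset_span (by simp)

lemma mk_zero_of_two (d : Fin 5 →₀ ℕ) (h : d 2 ≠ 0) :
    Ideal.Quotient.mkₐ k (idealI k p q m s) (monomial d 1) = 0 := by
  rw [Ideal.Quotient.mkₐ_eq_mk, Ideal.Quotient.eq_zero_iff_mem, monomial5]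
  obtain ⟨j, hj⟩ := Nat.exists_eq_succ_of_ne_zero h
  rw [hj, pow_succ]
  have : (X 0 ^ d 0 * X 1 ^ d 1 * (X 2 ^ j * X 2) * X 3 ^ d 3 * X 4 ^ d 4 : MvPolynomial (Fin 5) k)
      = (X 0 ^ d 0 * X 1 ^ d 1 * X 2 ^ j * X 3 ^ d 3 * X 4 ^ d 4) * X 2 := by ring
  rw [this]
  exact Ideal.mul_mem_left _ _ (X2_mem k p q m s)

lemma mk_zero_of_three (d : Fin 5 →₀ ℕ) (h : d 3 ≠ 0) :
    Ideal.Quotient.mkₐ k (idealI k p q m s) (monomial d 1) = 0 := by
  rw [Ideal.Quotient.mkₐ_eq_mk, Ideal.Quotient.eq_zero_iff_mem, monomial5]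
  obtain ⟨j, hj⟩ := Nat.exists_eq_succ_of_ne_zero h
  rw [hj, pow_succ]
  have : (X 0 ^ d 0 * X 1 ^ d 1 * X 2 ^ d 2 * (X 3 ^ j * X 3) * X 4 ^ d 4 : MvPolynomial (Fin 5) k)
      = (X 0 ^ d 0 * X 1 ^ d 1 * X 2 ^ d 2 * X 3 ^ j * X 4 ^ d 4) * X 3 := by ring
  rw [this]
  exact Ideal.mul_mem_left _ _ (X3_mem k p q m s)

lemma key (hpq : p < q) (hm : 0 < m) (d e : Fin 5 →₀ ℕ)
    (hde : Finsupp.weight (wt5 p q m) d = Finsupp.weight (wt5 p q m) e)
    (hd2 : d 2 = 0) (hd3 : d 3 = 0) (he2 : e 2 = 0) (he3 : e 3 = 0)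
    (hc : (e 1 : ℤ) - e 4 ≤ (d 1 : ℤ) - d 4) :
    ∃ a : k, Ideal.Quotient.mkₐ k (idealI k p q m s) (monomial d 1) =
      a • Ideal.Quotient.mkₐ k (idealI k p q m s) (monomial e 1) := by
  rw [weight5, weight5, Prod.mk.injEq, hd2, hd3, he2, he3] at hde
  obtain ⟨h1, h2⟩ := hde
  have hn : (e 0 : ℤ) - (p : ℤ) * e 1 + (q : ℤ) * e 4 = (d 0 : ℤ) - (p : ℤ) * d 1 + (q : ℤ) * d 4 := by
    push_cast at h1; linarith
  have hdvd : (m : ℤ) ∣ ((d 1 : ℤ) - d 4) - ((e 1 : ℤ) - e 4) := by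
    have h3 : (((-(d 1 : ℤ) + d 4 : ℤ)) : ZMod m) = ((-(e 1 : ℤ) + e 4 : ℤ) : ZMod m) := by
      push_cast
      simp only [Nat.cast_zero, sub_zero, add_zero] at h2
      exact h2
    rw [ZMod.intCast_eq_intCast_iff_dvd_sub] at h3
    convert h3 using 1
    ring
  obtain ⟨t', ht'⟩ := hdvd
  have ht'0 : 0 ≤ t' := by
    by_contra hcon
    push Not at hcon
    have hm' : (0 : ℤ) < m := by exact_mod_cast hm
    have : (m : ℤ) * t' < 0 := mul_neg_of_pos_of_neg hm' hcon
    linarith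
  obtain ⟨t, rfl⟩ := Int.eq_ofNat_of_zero_le ht'0
  have h := Groth.Agent.S15738.aux (X 0 : MvPolynomial (Fin 5) k) (X 1) (X 4) p q m hpq
    (d 0) (d 1) (d 4) (e 0) (e 1) (e 4) t hn ht'
  have hI : Ideal.span {(X 0 : MvPolynomial (Fin 5) k) ^ (q - p) - X 1 * X 4} ≤ idealI k p q m s := by
    rw [Ideal.span_le, Set.singleton_subset_iff]
    exact F_mem k p q m s
  have h' := hI h
  refine ⟨s ^ t, ?_⟩
  have hG : Ideal.Quotient.mk (idealI k p q m s) (X 0 ^ (m * p) * X 1 ^ m) =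
      Ideal.Quotient.mk (idealI k p q m s) (C s) := by
    rw [eq_comm, Ideal.Quotient.eq]
    exact G_mem k p q m s
  rw [Ideal.Quotient.mkₐ_eq_mk, monomial5, monomial5, hd2, hd3, he2, he3]
  simp only [pow_zero, mul_one]
  rw [← Ideal.Quotient.eq] at h'
  rw [h', map_mul, map_pow, hG]
  have hsm : ∀ (a : k) (f : MvPolynomial (Fin 5) k),
      a • Ideal.Quotient.mk (idealI k p q m s) f = Ideal.Quotient.mk (idealI k p q m s) (C a * f) := by
    intro a f
    rw [C_mul', ← Ideal.Quotient.mkₐ_eq_mk k, map_smul]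
  rw [hsm, C_pow]
  simp only [map_mul, map_pow]
  ring

end

/-- Let k be an algebraically closed field, 0 < p < q coprime integers and m ≥ 1, and grade k[X₀,…,X₄]
by ℤ × ℤ/m, giving X₀ weight (1,0), X₁ and X₂ weight (−p,−1), and X₃ and X₄ weight (q,1). For s ∈ k
let I_s be the ideal (X₀^(q−p) − X₁X₄, X₂, X₃, s − X₀^(mp)X₁^m), whose generators are homogeneous
(the last one of weight zero). Then for every weight ν the image in k[X₀,…,X₄]/I_s of the
homogeneous polynomials of weight ν is a k-vector space of dimension at most 1. (The published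
statement asserts that this dimension equals 1 for every ν and every s, namely that the quotient has
the Hilbert function of the regular representation of the grading group; this row states the upper
bound, the half obtained from the monomial analysis of the weight pieces, while the lower bound
there is drawn from the moduli interpretation of these ideals. The published statement is over the
complex numbers; this row takes any algebraically closed field, which is what the reduction to s =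
0, 1 by rescaling the variables uses.) -/
theorem result (k : Type u) [Field k] [IsAlgClosed k] (p q m : ℕ) (hp : 0 < p) (hpq : p < q) (hcop : Nat.Coprime p q) (hm : 0 < m) (s : k) (ν : ℤ × ZMod m) :
    Module.rank k (W4c2invhilbsl2.piece k (W4c2invhilbsl2.wt5 p q m) (W4c2invhilbsl2.idealI k p q m s) ν) ≤ 1 := by
  refine Groth.Agent.H78.rank_map_weightedHomogeneousSubmodule_le_one (wt5 p q m)
    (idealI k p q m s) ν (fun d e hd he => ?_)
  by_cases hd2 : d 2 = 0
  swap
  · exact Or.inl ⟨0, by rw [mk_zero_of_two k p q m s d hd2, zero_smul]⟩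
  by_cases hd3 : d 3 = 0
  swap
  · exact Or.inl ⟨0, by rw [mk_zero_of_three k p q m s d hd3, zero_smul]⟩
  by_cases he2 : e 2 = 0
  swap
  · exact Or.inr ⟨0, by rw [mk_zero_of_two k p q m s e he2, zero_smul]⟩
  by_cases he3 : e 3 = 0
  swap
  · exact Or.inr ⟨0, by rw [mk_zero_of_three k p q m s e he3, zero_smul]⟩
  rcases le_total ((e 1 : ℤ) - e 4) ((d 1 : ℤ) - d 4) with hc | hc
  · exact Or.inl (key k p q m s hpq hm d e (hd.trans he.symm) hd2 hd3 he2 he3 hc)
  · exact Or.inr (key k p q m s hpq hm e d (he.trans hd.symm) he2 he3 hd2 hd3 hc)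

end Groth.Agent.S15727
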