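import Groth.Statements.S15728
import Groth.Agent.H78.PieceRank
import Mathlib.Tactic

set_option autoImplicit false
set_option maxHeartbeats 400000
universe u
open W4c2invhilbsl2

namespace Groth.Agent.S15728

open MvPolynomial

lemma monomial5 (k : Type*) [CommSemiring k] (d : Fin 5 →₀ ℕ) :
    (monomial d (1:k)) = X 0 ^ d 0 * X 1 ^ d 1 * X 2 ^ d 2 * X 3 ^ d 3 * X 4 ^ d 4 := by
  rw [monomial_eq, C_1, one_mul, Finsupp.prod_fintype _ _ (fun i => pow_zero _), Fin.prod_univ_five]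

lemma weight5 (p q m : ℕ) (d : Fin 5 →₀ ℕ) :
    Finsupp.weight (wt5 p q m) d = ((d 0 : ℤ) - p * d 1 - p * d 2 + q * d 3 + q * d 4,
      -(d 1 : ZMod m) - d 2 + d 3 + d 4) := by
  rw [Finsupp.weight_apply, Finsupp.sum_fintype _ _ (fun i => by simp), Fin.sum_univ_five]
  simp [wt5]
  constructor <;> ring

lemma arith (p q m : ℕ) (hpq : p < q) (hcop : Nat.Coprime p q) (hm : 0 < m)
    (d0 d1 d3 e0 e1 e3 : ℕ) (hd0 : d0 < Nat.gcd m (q - p)) (he0 : e0 < Nat.gcd m (q - p))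
    (h1 : (d0 : ℤ) - p * d1 + q * d3 = (e0 : ℤ) - p * e1 + q * e3)
    (h2 : (m : ℤ) ∣ ((d3 : ℤ) - d1) - ((e3 : ℤ) - e1))
    (hle : e1 ≤ d1) :
    ∃ t : ℕ, d0 = e0 ∧ d1 = e1 + (m / Nat.gcd m (q - p) * q) * t ∧
      d3 = e3 + (m / Nat.gcd m (q - p) * p) * t := by
  have hg : 0 < Nat.gcd m (q - p) := Nat.gcd_pos_of_pos_left _ hm
  have hab := Nat.coprime_div_gcd_div_gcd hg
  obtain ⟨a, ha⟩ : Nat.gcd m (q - p) ∣ m := Nat.gcd_dvd_left _ _
  obtain ⟨b, hb⟩ : Nat.gcd m (q - p) ∣ (q - p) := Nat.gcd_dvd_right _ _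
  have hma : m / Nat.gcd m (q - p) = a := Nat.div_eq_of_eq_mul_right hg ha
  have hqb : (q - p) / Nat.gcd m (q - p) = b := Nat.div_eq_of_eq_mul_right hg hb
  rw [hma, hqb] at hab
  rw [hma]
  generalize Nat.gcd m (q - p) = g at *
  have hqZ : (q : ℤ) = p + g * b := by
    have : q = p + g * b := by omega
    exact_mod_cast this
  have hmZ : (m : ℤ) = g * a := by exact_mod_cast ha
  have hgZ : (0 : ℤ) < g := by exact_mod_cast hg
  obtain ⟨u, hu⟩ := h2
  -- Step A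
  have hdvd : (g : ℤ) ∣ (d0 : ℤ) - e0 := by
    refine ⟨-(b : ℤ) * ((d1 : ℤ) - e1) - q * a * u, ?_⟩
    rw [hmZ] at hu
    rw [hqZ] at h1 ⊢
    linear_combination h1 - ((p : ℤ) + g * b) * hu
  have habs : |(d0 : ℤ) - e0| < g := by
    have h1' : (d0 : ℤ) < g := by exact_mod_cast hd0
    have h2' : (e0 : ℤ) < g := by exact_mod_cast he0
    have h3' : (0 : ℤ) ≤ d0 := by positivity
    have h4' : (0 : ℤ) ≤ e0 := by positivity
    rw [abs_lt]
    constructor <;> linarith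
  have h0 : (d0 : ℤ) - e0 = 0 := Int.eq_zero_of_abs_lt_dvd hdvd habs
  have hd0e0 : d0 = e0 := by
    have : (d0 : ℤ) = e0 := by linarith
    exact_mod_cast this
  -- Step B
  have hB : (p : ℤ) * ((d1 : ℤ) - e1) = q * ((d3 : ℤ) - e3) := by linarith
  have hcopZ : IsCoprime (q : ℤ) (p : ℤ) := Nat.isCoprime_iff_coprime.mpr hcop.symm
  have hq1 : (q : ℤ) ∣ (d1 : ℤ) - e1 := hcopZ.dvd_of_dvd_mul_left ⟨_, hB⟩
  obtain ⟨w, hw⟩ := hq1
  have hq0 : (q : ℤ) ≠ 0 := by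
    have : 0 < q := by omega
    exact_mod_cast this.ne'
  have hw3 : (d3 : ℤ) - e3 = p * w := by
    apply mul_left_cancel₀ hq0
    rw [← hB, hw]
    ring
  -- Step C
  have hC : (a : ℤ) * u = -(b : ℤ) * w := by
    apply mul_left_cancel₀ hgZ.ne'
    rw [hmZ] at hu
    have : (d3 : ℤ) - d1 - (e3 - e1) = ((d3 : ℤ) - e3) - ((d1 : ℤ) - e1) := by ring
    rw [this, hw3, hw, hqZ] at hu
    linear_combination -hu
  have habZ : IsCoprime (a : ℤ) (b : ℤ) := Nat.isCoprime_iff_coprime.mpr hab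
  have haw : (a : ℤ) ∣ w := by
    have : (a : ℤ) ∣ (b : ℤ) * w := ⟨-u, by linear_combination hC⟩
    exact habZ.dvd_of_dvd_mul_left this
  obtain ⟨t', ht'⟩ := haw
  have hapos : 0 < a := by
    rcases Nat.eq_zero_or_pos a with h | h
    · subst h; simp at ha; omega
    · exact h
  have hqpos : 0 < q := by omega
  have ht'0 : 0 ≤ t' := by
    by_contra hcon
    push Not at hcon
    have h5 : (0 : ℤ) ≤ (d1 : ℤ) - e1 := by
      have : (e1 : ℤ) ≤ d1 := by exact_mod_cast hle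
      linarith
    have h6 : (0 : ℤ) < (q : ℤ) * a := by positivity
    have h7 : (q : ℤ) * a * t' < 0 := mul_neg_of_pos_of_neg h6 hcon
    rw [hw, ht'] at h5
    linarith
  obtain ⟨t, rfl⟩ := Int.eq_ofNat_of_zero_le ht'0
  refine ⟨t, hd0e0, ?_, ?_⟩
  · have : (d1 : ℤ) = e1 + (a * q) * t := by
      rw [ht'] at hw
      linear_combination hw
    exact_mod_cast this
  · have : (d3 : ℤ) = e3 + (a * p) * t := by
      rw [ht'] at hw3
      linear_combination hw3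
    exact_mod_cast this

section
variable (k : Type u) [Field k] (p q m : ℕ) (s : k)

lemma X0_mem : (X 0 ^ Nat.gcd m (q - p) : MvPolynomial (Fin 5) k) ∈ idealJ k p q m s :=
  Ideal.subset_span (by simp)

lemma X2_mem : (X 2 : MvPolynomial (Fin 5) k) ∈ idealJ k p q m s :=
  Ideal.subset_span (by simp)

lemma X4_mem : (X 4 : MvPolynomial (Fin 5) k) ∈ idealJ k p q m s :=
  Ideal.subset_span (by simp)

lemma H_mem : (C s - X 1 ^ (m / Nat.gcd m (q - p) * q) * X 3 ^ (m / Nat.gcd m (q - p) * p) :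
    MvPolynomial (Fin 5) k) ∈ idealJ k p q m s :=
  Ideal.subset_span (by simp)

lemma mk_zero_of_zero (d : Fin 5 →₀ ℕ) (h : Nat.gcd m (q - p) ≤ d 0) :
    Ideal.Quotient.mkₐ k (idealJ k p q m s) (monomial d 1) = 0 := by
  rw [Ideal.Quotient.mkₐ_eq_mk, Ideal.Quotient.eq_zero_iff_mem, monomial5]
  obtain ⟨j, hj⟩ := Nat.exists_eq_add_of_le h
  rw [hj, pow_add]
  have : (X 0 ^ Nat.gcd m (q - p) * X 0 ^ j * X 1 ^ d 1 * X 2 ^ d 2 * X 3 ^ d 3 * X 4 ^ d 4 :
      MvPolynomial (Fin 5) k)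
      = (X 0 ^ j * X 1 ^ d 1 * X 2 ^ d 2 * X 3 ^ d 3 * X 4 ^ d 4) * X 0 ^ Nat.gcd m (q - p) := by ring
  rw [this]
  exact Ideal.mul_mem_left _ _ (X0_mem k p q m s)

lemma mk_zero_of_two (d : Fin 5 →₀ ℕ) (h : d 2 ≠ 0) :
    Ideal.Quotient.mkₐ k (idealJ k p q m s) (monomial d 1) = 0 := by
  rw [Ideal.Quotient.mkₐ_eq_mk, Ideal.Quotient.eq_zero_iff_mem, monomial5]
  obtain ⟨j, hj⟩ := Nat.exists_eq_succ_of_ne_zero h
  rw [hj, pow_succ]
  have : (X 0 ^ d 0 * X 1 ^ d 1 * (X 2 ^ j * X 2) * X 3 ^ d 3 * X 4 ^ d 4 : MvPolynomial (Fin 5) k)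
      = (X 0 ^ d 0 * X 1 ^ d 1 * X 2 ^ j * X 3 ^ d 3 * X 4 ^ d 4) * X 2 := by ring
  rw [this]
  exact Ideal.mul_mem_left _ _ (X2_mem k p q m s)

lemma mk_zero_of_four (d : Fin 5 →₀ ℕ) (h : d 4 ≠ 0) :
    Ideal.Quotient.mkₐ k (idealJ k p q m s) (monomial d 1) = 0 := by
  rw [Ideal.Quotient.mkₐ_eq_mk, Ideal.Quotient.eq_zero_iff_mem, monomial5]
  obtain ⟨j, hj⟩ := Nat.exists_eq_succ_of_ne_zero h
  rw [hj, pow_succ]
  have : (X 0 ^ d 0 * X 1 ^ d 1 * X 2 ^ d 2 * X 3 ^ d 3 * (X 4 ^ j * X 4) : MvPolynomial (Fin 5) k)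
      = (X 0 ^ d 0 * X 1 ^ d 1 * X 2 ^ d 2 * X 3 ^ d 3 * X 4 ^ j) * X 4 := by ring
  rw [this]
  exact Ideal.mul_mem_left _ _ (X4_mem k p q m s)

lemma key (hpq : p < q) (hcop : Nat.Coprime p q) (hm : 0 < m) (d e : Fin 5 →₀ ℕ)
    (hde : Finsupp.weight (wt5 p q m) d = Finsupp.weight (wt5 p q m) e)
    (hd0 : d 0 < Nat.gcd m (q - p)) (he0 : e 0 < Nat.gcd m (q - p))
    (hd2 : d 2 = 0) (hd4 : d 4 = 0) (he2 : e 2 = 0) (he4 : e 4 = 0)
    (hc : e 1 ≤ d 1) :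
    ∃ a : k, Ideal.Quotient.mkₐ k (idealJ k p q m s) (monomial d 1) =
      a • Ideal.Quotient.mkₐ k (idealJ k p q m s) (monomial e 1) := by
  rw [weight5, weight5, Prod.mk.injEq, hd2, hd4, he2, he4] at hde
  obtain ⟨h1, h2⟩ := hde
  have hn : (d 0 : ℤ) - (p : ℤ) * d 1 + (q : ℤ) * d 3 = (e 0 : ℤ) - (p : ℤ) * e 1 + (q : ℤ) * e 3 := by
    push_cast at h1; linarith
  have hdvd : (m : ℤ) ∣ ((d 3 : ℤ) - d 1) - ((e 3 : ℤ) - e 1) := by
    have h3 : (((-(e 1 : ℤ) + e 3 : ℤ)) : ZMod m) = ((-(d 1 : ℤ) + d 3 : ℤ) : ZMod m) := by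
      push_cast
      simp only [Nat.cast_zero, sub_zero, add_zero] at h2
      exact h2.symm
    rw [ZMod.intCast_eq_intCast_iff_dvd_sub] at h3
    convert h3 using 1
    ring
  obtain ⟨t, h0, ht1, ht3⟩ := arith p q m hpq hcop hm (d 0) (d 1) (d 3) (e 0) (e 1) (e 3) hd0 he0 hn hdvd hc
  refine ⟨s ^ t, ?_⟩
  have hH : Ideal.Quotient.mk (idealJ k p q m s)
      (X 1 ^ (m / Nat.gcd m (q - p) * q) * X 3 ^ (m / Nat.gcd m (q - p) * p)) =
      Ideal.Quotient.mk (idealJ k p q m s) (C s) := by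
    rw [eq_comm, Ideal.Quotient.eq]
    exact H_mem k p q m s
  have hsm : ∀ (a : k) (f : MvPolynomial (Fin 5) k),
      a • Ideal.Quotient.mk (idealJ k p q m s) f = Ideal.Quotient.mk (idealJ k p q m s) (C a * f) := by
    intro a f
    rw [C_mul', ← Ideal.Quotient.mkₐ_eq_mk k, map_smul]
  rw [Ideal.Quotient.mkₐ_eq_mk, monomial5, monomial5, hd2, hd4, he2, he4, h0, ht1, ht3]
  have hrw : (X 0 ^ e 0 * X 1 ^ (e 1 + m / Nat.gcd m (q - p) * q * t) * X 2 ^ 0 *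
      X 3 ^ (e 3 + m / Nat.gcd m (q - p) * p * t) * X 4 ^ 0 : MvPolynomial (Fin 5) k) =
      (X 0 ^ e 0 * X 1 ^ e 1 * X 2 ^ 0 * X 3 ^ e 3 * X 4 ^ 0) *
      (X 1 ^ (m / Nat.gcd m (q - p) * q) * X 3 ^ (m / Nat.gcd m (q - p) * p)) ^ t := by
    ring
  rw [hrw, map_mul, map_pow, hH, hsm, C_pow]
  simp only [map_mul, map_pow]
  ring

end

/-- Let k be an algebraically closed field, 0 < p < q coprime integers and m ≥ 1; put g = gcd(m, q−p)
and a = m/g, and grade k[X₀,…,X₄] by ℤ × ℤ/m, giving X₀ weight (1,0), X₁ and X₂ weight (−p,−1), and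
X₃ and X₄ weight (q,1). For s ∈ k let J_s be the ideal (X₀^g, X₂, X₄, s − X₁^(aq)X₃^(ap)), whose
generators are homogeneous (the last one of weight zero). Then for every weight ν the image in
k[X₀,…,X₄]/J_s of the homogeneous polynomials of weight ν is a k-vector space of dimension at most
1. (The published statement asserts that this dimension equals 1 for every ν and every s; this row
states the upper bound, the half obtained from the monomial analysis of the weight pieces, while the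
lower bound there is drawn from the moduli interpretation of these ideals. The published statement
is over the complex numbers; this row takes any algebraically closed field, which is what the
reduction to s = 0, 1 by rescaling the variables uses.) -/
theorem result (k : Type u) [Field k] [IsAlgClosed k] (p q m : ℕ) (hp : 0 < p) (hpq : p < q) (hcop : Nat.Coprime p q) (hm : 0 < m) (s : k) (ν : ℤ × ZMod m) :
    Module.rank k (W4c2invhilbsl2.piece k (W4c2invhilbsl2.wt5 p q m) (W4c2invhilbsl2.idealJ k p q m s) ν) ≤ 1 := by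
  refine Groth.Agent.H78.rank_map_weightedHomogeneousSubmodule_le_one (wt5 p q m)
    (idealJ k p q m s) ν (fun d e hd he => ?_)
  by_cases hd0 : d 0 < Nat.gcd m (q - p)
  swap
  · exact Or.inl ⟨0, by rw [mk_zero_of_zero k p q m s d (not_lt.mp hd0), zero_smul]⟩
  by_cases hd2 : d 2 = 0
  swap
  · exact Or.inl ⟨0, by rw [mk_zero_of_two k p q m s d hd2, zero_smul]⟩
  by_cases hd4 : d 4 = 0
  swap
  · exact Or.inl ⟨0, by rw [mk_zero_of_four k p q m s d hd4, zero_smul]⟩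
  by_cases he0 : e 0 < Nat.gcd m (q - p)
  swap
  · exact Or.inr ⟨0, by rw [mk_zero_of_zero k p q m s e (not_lt.mp he0), zero_smul]⟩
  by_cases he2 : e 2 = 0
  swap
  · exact Or.inr ⟨0, by rw [mk_zero_of_two k p q m s e he2, zero_smul]⟩
  by_cases he4 : e 4 = 0
  swap
  · exact Or.inr ⟨0, by rw [mk_zero_of_four k p q m s e he4, zero_smul]⟩
  rcases le_total (e 1) (d 1) with hc | hc
  · exact Or.inl (key k p q m s hpq hcop hm d e (hd.trans he.symm) hd0 he0 hd2 hd4 he2 he4 hc)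
  · exact Or.inr (key k p q m s hpq hcop hm e d (he.trans hd.symm) he0 hd0 he2 he4 hd2 hd4 hc)

end Groth.Agent.S15728
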