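import Groth.Statements.S15729
import Groth.Agent.H78.HJ3
import Groth.Agent.H78.Wt5
import Mathlib.Tactic

set_option autoImplicit false
set_option maxHeartbeats 400000
universe u
open W4c2invhilbsl2

namespace Groth.Agent.S15729

open MvPolynomial Groth.Agent.H78 Groth.Agent.H78.HJ

section
variable (k : Type u) [Field k] (p q m : ℕ) (c : List ℤ) (i : ℕ)

noncomputable abbrev W0 : Submodule k (MvPolynomial (Fin 3) k) :=
  weightedHomogeneousSubmodule k (wt3 p q m) 0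

noncomputable abbrev gens : Fin 2 → MvPolynomial (Fin 3) k :=
  ![X 0 ^ (nN p q m c i).toNat, X 1 ^ (eE p q m c i).toNat * X 2 ^ (lL p q m c i).toNat]

lemma mono_mem (hpq : p < q) (hcop : Nat.Coprime p q) (hm : 0 < m)
    (hc : IsHJDigits p q m c) (hi : 1 ≤ i) (hir : i ≤ c.length) (d : Fin 3 →₀ ℕ)
    (hd : Finsupp.weight (wt3 p q m) d = (nN p q m c i, (0 : ZMod m))) :
    monomial d (1 : k) ∈ genSub (W0 k p q m) ⊥ (Finset.univ : Finset (Fin 2)) (gens k p q m c i) := by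
  rw [weight3, Prod.mk.injEq] at hd
  obtain ⟨h1, h2⟩ := hd
  rw [monomial3]
  have hn0 : 0 < nN p q m c i := nN_pos hpq hcop hm hc i hir
  have he0 : 0 < eE p q m c i := eE_pos hpq hcop hm hc i hi hir
  have hl0 : 0 < lL p q m c i := lL_pos hpq hcop hm hc i hi hir
  have hnT : ((nN p q m c i).toNat : ℤ) = nN p q m c i := Int.toNat_of_nonneg hn0.le
  have heT : ((eE p q m c i).toNat : ℤ) = eE p q m c i := Int.toNat_of_nonneg he0.le
  have hlT : ((lL p q m c i).toNat : ℤ) = lL p q m c i := Int.toNat_of_nonneg hl0.le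
  rcases Nat.lt_or_ge (d 0) (nN p q m c i).toNat with hlt | hge
  · -- key lemma
    have hltZ : (d 0 : ℤ) < nN p q m c i := by rw [← hnT]; exact_mod_cast hlt
    have hdvd : (m : ℤ) ∣ (d 1 : ℤ) - d 2 := by
      have h3 : ((-(d 1 : ℤ) + d 2 : ℤ) : ZMod m) = 0 := by push_cast; exact h2
      rw [ZMod.intCast_zmod_eq_zero_iff_dvd] at h3
      have : (d 1 : ℤ) - d 2 = -(-(d 1 : ℤ) + d 2) := by ring
      rw [this]
      exact (dvd_neg).mpr h3
    obtain ⟨hE, hL⟩ := key hpq hcop hm hc i hi hir (d 0) (d 1) (d 2) h1 hdvd hltZ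
    have hE' : (eE p q m c i).toNat ≤ d 1 := by
      have : ((eE p q m c i).toNat : ℤ) ≤ d 1 := by rw [heT]; exact hE
      exact_mod_cast this
    have hL' : (lL p q m c i).toNat ≤ d 2 := by
      have : ((lL p q m c i).toNat : ℤ) ≤ d 2 := by rw [hlT]; exact hL
      exact_mod_cast this
    obtain ⟨j1, hj1⟩ := Nat.exists_eq_add_of_le hE'
    obtain ⟨j2, hj2⟩ := Nat.exists_eq_add_of_le hL'
    have e : (X 0 ^ d 0 * X 1 ^ d 1 * X 2 ^ d 2 : MvPolynomial (Fin 3) k) =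
        (X 0 ^ d 0 * X 1 ^ j1 * X 2 ^ j2) * gens k p q m c i 1 := by
      rw [show gens k p q m c i 1 =
        X 1 ^ (eE p q m c i).toNat * X 2 ^ (lL p q m c i).toNat from rfl, hj1, hj2]
      ring
    rw [e]
    refine mul_gen_mem_genSub (Finset.mem_univ _) (isWH3 k p q m _ _ _ _ ?_)
    rw [Prod.zero_eq_mk, Prod.mk.injEq]
    have hj1Z : (d 1 : ℤ) = eE p q m c i + j1 := by rw [← heT, hj1]; push_cast; ring
    have hj2Z : (d 2 : ℤ) = lL p q m c i + j2 := by rw [← hlT, hj2]; push_cast; ring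
    constructor
    · have hnd : nN p q m c i = -(p : ℤ) * eE p q m c i + (q : ℤ) * lL p q m c i := rfl
      rw [hj1Z, hj2Z] at h1
      linarith
    · have h4 : ((-(j1 : ℤ) + j2 : ℤ) : ZMod m) = 0 := by
        rw [ZMod.intCast_zmod_eq_zero_iff_dvd]
        obtain ⟨x, hx⟩ := hdvd
        have hel := eE_sub_lL p q m c i
        refine ⟨hjP c i - x, ?_⟩
        rw [hj1Z, hj2Z] at hx
        linear_combination hel - hx
      push_cast at h4
      exact h4.symm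
  · obtain ⟨j, hj⟩ := Nat.exists_eq_add_of_le hge
    have e : (X 0 ^ d 0 * X 1 ^ d 1 * X 2 ^ d 2 : MvPolynomial (Fin 3) k) =
        (X 0 ^ j * X 1 ^ d 1 * X 2 ^ d 2) * gens k p q m c i 0 := by
      rw [show gens k p q m c i 0 = X 0 ^ (nN p q m c i).toNat from rfl, hj]
      ring
    rw [e]
    refine mul_gen_mem_genSub (Finset.mem_univ _) (isWH3 k p q m _ _ _ _ ?_)
    rw [Prod.zero_eq_mk, Prod.mk.injEq]
    have hjZ : (d 0 : ℤ) = nN p q m c i + j := by rw [← hnT, hj]; push_cast; ring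
    exact ⟨by rw [hjZ] at h1; linarith, h2.symm⟩

end

/-- Let 0 < p < q be coprime integers and m ≥ 1 such that q − p does not divide m; put g = gcd(m, q−p),
b = (q−p)/g, α = ⌊mp/(q−p)⌋, β = the remainder of mp modulo q−p and t = (q−p−β)/g, so that 1 ≤ t <
b, and let b/t = c₁ − 1/(c₂ − 1/(⋯ − 1/c_r)) be the negative-regular (Hirzebruch–Jung) continued
fraction expansion with every cᵢ ≥ 2; set P₀ = 0, P₁ = 1, Q₀ = −1, Q₁ = 0, Pᵢ = cᵢ₋₁Pᵢ₋₁ − Pᵢ₋₂, Qᵢ
= cᵢ₋₁Qᵢ₋₁ − Qᵢ₋₂ for 2 ≤ i ≤ r+1, and eᵢ = (α+1+m)Pᵢ − Qᵢ, lᵢ = (α+1)Pᵢ − Qᵢ, nᵢ = q·lᵢ − p·eᵢ,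
which are non-negative integers for 0 ≤ i ≤ r+1. Grade the polynomial ring k[X₀,X₁,X₂] over a field
k by ℤ × ℤ/m with weights (1,0), (−p,−1), (q,1) (it stands for k[X₀,X₁,Xⱼ], j = 3 or 4, inside the
five-variable ring). Then for every 1 ≤ i ≤ r, every polynomial homogeneous of weight (nᵢ, 0) can be
written a·X₀^(nᵢ) + b·X₁^(eᵢ)X₂^(lᵢ) with a and b homogeneous of weight zero; that is, the
weight-(nᵢ,0) piece is generated over the weight-zero subring by X₀^(nᵢ) and X₁^(eᵢ)X₂^(lᵢ). -/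
theorem result (k : Type u) [Field k] (p q m : ℕ) (hp : 0 < p) (hpq : p < q) (hcop : Nat.Coprime p q) (hm : 0 < m) (hnt : ¬ (q - p ∣ m)) (c : List ℤ) (hc : W4c2invhilbsl2.IsHJDigits p q m c) (i : ℕ) (hi : 1 ≤ i) (hir : i ≤ c.length)
    (f : MvPolynomial (Fin 3) k) (hf : f ∈ MvPolynomial.weightedHomogeneousSubmodule k (W4c2invhilbsl2.wt3 p q m) (W4c2invhilbsl2.nN p q m c i, (0 : ZMod m))) :
    ∃ a b : MvPolynomial (Fin 3) k, a ∈ MvPolynomial.weightedHomogeneousSubmodule k (W4c2invhilbsl2.wt3 p q m) 0 ∧ b ∈ MvPolynomial.weightedHomogeneousSubmodule k (W4c2invhilbsl2.wt3 p q m) 0 ∧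
      f = a * MvPolynomial.X (0 : Fin 3) ^ (W4c2invhilbsl2.nN p q m c i).toNat +
        b * (MvPolynomial.X (1 : Fin 3) ^ (W4c2invhilbsl2.eE p q m c i).toNat * MvPolynomial.X (2 : Fin 3) ^ (W4c2invhilbsl2.lL p q m c i).toNat) := by
  have h := weightedHomogeneousSubmodule_le_of_monomial_mem (wt3 p q m) _ _
    (fun d hd => mono_mem k p q m c i hpq hcop hm hc hi hir d hd) hf
  obtain ⟨a, ha, hfa⟩ := h
  refine ⟨a 0, a 1, ha 0, ha 1, ?_⟩
  rw [Fin.sum_univ_two, show gens k p q m c i 0 = X 0 ^ (nN p q m c i).toNat from rfl,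
    show gens k p q m c i 1 =
      X 1 ^ (eE p q m c i).toNat * X 2 ^ (lL p q m c i).toNat from rfl, Ideal.mem_bot, sub_eq_zero] at hfa
  exact hfa

end Groth.Agent.S15729
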