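import Groth.Statements.S15732
import Groth.Agent.H78.HJ3
import Groth.Agent.H78.Wt5
import Mathlib.Tactic

set_option autoImplicit false
set_option maxHeartbeats 400000
universe u
open W4c2invhilbsl2

namespace Groth.Agent.S15732

open MvPolynomial Groth.Agent.H78 Groth.Agent.H78.HJ

lemma split (E d1 d2 : ℕ) (h : E ≤ d1 + d2) :
    ∃ e a1 a2 : ℕ, e ≤ E ∧ d1 = a1 + (E - e) ∧ d2 = a2 + e := by
  rcases le_total d2 E with h2 | h2
  · exact ⟨d2, d1 - (E - d2), 0, h2, by omega, by omega⟩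
  · exact ⟨E, d1, d2 - E, le_rfl, by omega, by omega⟩

section
variable (k : Type u) [Field k] (p q m : ℕ) (c : List ℤ) (i : ℕ)

noncomputable abbrev Pid : Ideal (MvPolynomial (Fin 5) k) :=
  Ideal.span {X (0 : Fin 5) ^ (q - p) - X 1 * X 4 + X 2 * X 3}

noncomputable abbrev W0 : Submodule k (MvPolynomial (Fin 5) k) :=
  weightedHomogeneousSubmodule k (wt5 p q m) 0

noncomputable def gens : Option (ℕ × ℕ) → MvPolynomial (Fin 5) k := fun o =>
  match o with
  | none => X 0 ^ (nN p q m c i).toNat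
  | some el => X 1 ^ ((eE p q m c i).toNat - el.1) * X 2 ^ el.1 *
      X 3 ^ ((lL p q m c i).toNat - el.2) * X 4 ^ el.2

noncomputable abbrev idx : Finset (Option (ℕ × ℕ)) :=
  Finset.insertNone (Finset.range ((eE p q m c i).toNat + 1) ×ˢ Finset.range ((lL p q m c i).toNat + 1))

lemma mono_mem (hpq : p < q) (hcop : Nat.Coprime p q) (hm : 0 < m)
    (hc : IsHJDigits p q m c) (hi : 1 ≤ i) (hir : i ≤ c.length) (d : Fin 5 →₀ ℕ)
    (hd : Finsupp.weight (wt5 p q m) d = (nN p q m c i, (0 : ZMod m))) :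
    monomial d (1 : k) ∈ genSub (W0 k p q m) (Pid k p q) (idx p q m c i) (gens k p q m c i) := by
  rw [weight5, Prod.mk.injEq] at hd
  obtain ⟨h1, h2⟩ := hd
  rw [monomial5]
  have hn0 : 0 < nN p q m c i := nN_pos hpq hcop hm hc i hir
  have he0 : 0 < eE p q m c i := eE_pos hpq hcop hm hc i hi hir
  have hl0 : 0 < lL p q m c i := lL_pos hpq hcop hm hc i hi hir
  have hnT : ((nN p q m c i).toNat : ℤ) = nN p q m c i := Int.toNat_of_nonneg hn0.le
  have heT : ((eE p q m c i).toNat : ℤ) = eE p q m c i := Int.toNat_of_nonneg he0.le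
  have hlT : ((lL p q m c i).toNat : ℤ) = lL p q m c i := Int.toNat_of_nonneg hl0.le
  rcases Nat.lt_or_ge (d 0) (nN p q m c i).toNat with hlt | hge
  · have hltZ : (d 0 : ℤ) < nN p q m c i := by rw [← hnT]; exact_mod_cast hlt
    have hdvd : (m : ℤ) ∣ ((d 1 + d 2 : ℕ) : ℤ) - ((d 3 + d 4 : ℕ) : ℤ) := by
      have h3 : ((-(d 1 : ℤ) - d 2 + d 3 + d 4 : ℤ) : ZMod m) = 0 := by push_cast; exact h2
      rw [ZMod.intCast_zmod_eq_zero_iff_dvd] at h3
      have : ((d 1 + d 2 : ℕ) : ℤ) - ((d 3 + d 4 : ℕ) : ℤ) = -(-(d 1 : ℤ) - d 2 + d 3 + d 4) := by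
        push_cast; ring
      rw [this]
      exact (dvd_neg).mpr h3
    have hw : (d 0 : ℤ) - p * ((d 1 + d 2 : ℕ) : ℤ) + q * ((d 3 + d 4 : ℕ) : ℤ) = nN p q m c i := by
      push_cast; linarith
    obtain ⟨hE, hL⟩ := key hpq hcop hm hc i hi hir (d 0) (d 1 + d 2) (d 3 + d 4) hw hdvd hltZ
    have hE' : (eE p q m c i).toNat ≤ d 1 + d 2 := by
      have : ((eE p q m c i).toNat : ℤ) ≤ ((d 1 + d 2 : ℕ) : ℤ) := by rw [heT]; exact hE
      exact_mod_cast this
    have hL' : (lL p q m c i).toNat ≤ d 3 + d 4 := by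
      have : ((lL p q m c i).toNat : ℤ) ≤ ((d 3 + d 4 : ℕ) : ℤ) := by rw [hlT]; exact hL
      exact_mod_cast this
    obtain ⟨e, a1, a2, heE, hd1, hd2⟩ := split _ _ _ hE'
    obtain ⟨l, a3, a4, hlL, hd3, hd4⟩ := split _ _ _ hL'
    have e' : (X 0 ^ d 0 * X 1 ^ d 1 * X 2 ^ d 2 * X 3 ^ d 3 * X 4 ^ d 4 : MvPolynomial (Fin 5) k) =
        (X 0 ^ d 0 * X 1 ^ a1 * X 2 ^ a2 * X 3 ^ a3 * X 4 ^ a4) * gens k p q m c i (some (e, l)) := by
      rw [show gens k p q m c i (some (e, l)) =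
        X 1 ^ ((eE p q m c i).toNat - e) * X 2 ^ e * X 3 ^ ((lL p q m c i).toNat - l) * X 4 ^ l from rfl]
      conv_lhs => rw [hd1, hd2, hd3, hd4]
      ring
    rw [e']
    have hmem : some (e, l) ∈ idx p q m c i := by
      rw [Finset.some_mem_insertNone, Finset.mem_product, Finset.mem_range, Finset.mem_range]
      exact ⟨by omega, by omega⟩
    refine mul_gen_mem_genSub hmem (isWH5 k p q m _ _ _ _ _ _ ?_)
    rw [Prod.zero_eq_mk, Prod.mk.injEq]
    have hs1 : ((d 1 : ℤ) + d 2) = a1 + a2 + eE p q m c i := by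
      rw [← heT]
      have : d 1 + d 2 = a1 + a2 + (eE p q m c i).toNat := by omega
      exact_mod_cast this
    have hs2 : ((d 3 : ℤ) + d 4) = a3 + a4 + lL p q m c i := by
      rw [← hlT]
      have : d 3 + d 4 = a3 + a4 + (lL p q m c i).toNat := by omega
      exact_mod_cast this
    constructor
    · have hnd : nN p q m c i = -(p : ℤ) * eE p q m c i + (q : ℤ) * lL p q m c i := rfl
      have h1' : (d 0 : ℤ) - p * ((d 1 : ℤ) + d 2) + q * ((d 3 : ℤ) + d 4) = nN p q m c i := by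
        linarith
      rw [hs1, hs2] at h1'
      linarith
    · have h4 : ((-(a1 : ℤ) - a2 + a3 + a4 : ℤ) : ZMod m) = 0 := by
        rw [ZMod.intCast_zmod_eq_zero_iff_dvd]
        obtain ⟨x, hx⟩ := hdvd
        have hel := eE_sub_lL p q m c i
        refine ⟨hjP c i - x, ?_⟩
        push_cast at hx
        linear_combination hel - hx + hs1 - hs2
      push_cast at h4
      exact h4.symm
  · obtain ⟨j, hj⟩ := Nat.exists_eq_add_of_le hge
    have e : (X 0 ^ d 0 * X 1 ^ d 1 * X 2 ^ d 2 * X 3 ^ d 3 * X 4 ^ d 4 : MvPolynomial (Fin 5) k) =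
        (X 0 ^ j * X 1 ^ d 1 * X 2 ^ d 2 * X 3 ^ d 3 * X 4 ^ d 4) * gens k p q m c i none := by
      rw [show gens k p q m c i none = X 0 ^ (nN p q m c i).toNat from rfl, hj]
      ring
    rw [e]
    refine mul_gen_mem_genSub Finset.none_mem_insertNone (isWH5 k p q m _ _ _ _ _ _ ?_)
    rw [Prod.zero_eq_mk, Prod.mk.injEq]
    have hjZ : (d 0 : ℤ) = nN p q m c i + j := by rw [← hnT, hj]; push_cast; ring
    exact ⟨by rw [hjZ] at h1; linarith, h2.symm⟩

end

/-- Let 0 < p < q be coprime integers and m ≥ 1 such that q − p does not divide m; put g = gcd(m, q−p),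
b = (q−p)/g, α = ⌊mp/(q−p)⌋, β = the remainder of mp modulo q−p and t = (q−p−β)/g, so that 1 ≤ t <
b, and let b/t = c₁ − 1/(c₂ − 1/(⋯ − 1/c_r)) be the negative-regular (Hirzebruch–Jung) continued
fraction expansion with every cᵢ ≥ 2; set P₀ = 0, P₁ = 1, Q₀ = −1, Q₁ = 0, Pᵢ = cᵢ₋₁Pᵢ₋₁ − Pᵢ₋₂, Qᵢ
= cᵢ₋₁Qᵢ₋₁ − Qᵢ₋₂ for 2 ≤ i ≤ r+1, and eᵢ = (α+1+m)Pᵢ − Qᵢ, lᵢ = (α+1)Pᵢ − Qᵢ, nᵢ = q·lᵢ − p·eᵢ,
which are non-negative integers for 0 ≤ i ≤ r+1. Grade the polynomial ring k[X₀,…,X₄] over a field k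
by ℤ × ℤ/m, giving X₀ weight (1,0), X₁ and X₂ weight (−p,−1), and X₃ and X₄ weight (q,1). Then for
every 1 ≤ i ≤ r, modulo the principal ideal generated by the weight-zero element X₀^(q−p) − X₁X₄ +
X₂X₃, every polynomial homogeneous of weight (nᵢ, 0) is congruent to a combination a₀·X₀^(nᵢ) + Σ
a_{e,l}·X₁^(eᵢ−e)X₂^e X₃^(lᵢ−l)X₄^l (sum over 0 ≤ e ≤ eᵢ, 0 ≤ l ≤ lᵢ) whose coefficients a₀, a_{e,l}
are homogeneous of weight zero. Equivalently, in the coordinate ring of the hypersurface the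
weight-(nᵢ,0) piece is generated over the weight-zero subring (the invariant ring) by X₀^(nᵢ)
together with the products of a degree-eᵢ monomial in X₁, X₂ and a degree-lᵢ monomial in X₃, X₄.
(The published statement is over the complex numbers; this row takes any field.) -/
theorem result (k : Type u) [Field k] (p q m : ℕ) (hp : 0 < p) (hpq : p < q) (hcop : Nat.Coprime p q) (hm : 0 < m) (hnt : ¬ (q - p ∣ m)) (c : List ℤ) (hc : W4c2invhilbsl2.IsHJDigits p q m c) (i : ℕ) (hi : 1 ≤ i) (hir : i ≤ c.length)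
    (f : MvPolynomial (Fin 5) k) (hf : f ∈ MvPolynomial.weightedHomogeneousSubmodule k (W4c2invhilbsl2.wt5 p q m) (W4c2invhilbsl2.nN p q m c i, (0 : ZMod m))) :
    ∃ (a₀ : MvPolynomial (Fin 5) k) (a : ℕ → ℕ → MvPolynomial (Fin 5) k),
      a₀ ∈ MvPolynomial.weightedHomogeneousSubmodule k (W4c2invhilbsl2.wt5 p q m) 0 ∧ (∀ e l : ℕ, a e l ∈ MvPolynomial.weightedHomogeneousSubmodule k (W4c2invhilbsl2.wt5 p q m) 0) ∧
      f - (a₀ * MvPolynomial.X (0 : Fin 5) ^ (W4c2invhilbsl2.nN p q m c i).toNat +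
          ∑ e ∈ Finset.range ((W4c2invhilbsl2.eE p q m c i).toNat + 1), ∑ l ∈ Finset.range ((W4c2invhilbsl2.lL p q m c i).toNat + 1),
            a e l * (MvPolynomial.X (1 : Fin 5) ^ ((W4c2invhilbsl2.eE p q m c i).toNat - e) * MvPolynomial.X (2 : Fin 5) ^ e *
              MvPolynomial.X (3 : Fin 5) ^ ((W4c2invhilbsl2.lL p q m c i).toNat - l) * MvPolynomial.X (4 : Fin 5) ^ l)) ∈
        Ideal.span {MvPolynomial.X (0 : Fin 5) ^ (q - p) - MvPolynomial.X 1 * MvPolynomial.X 4 + MvPolynomial.X 2 * MvPolynomial.X 3} := by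
  have h := weightedHomogeneousSubmodule_le_of_monomial_mem (wt5 p q m) _ _
    (fun d hd => mono_mem k p q m c i hpq hcop hm hc hi hir d hd) hf
  obtain ⟨a, ha, hfa⟩ := h
  refine ⟨a none, fun e l => a (some (e, l)), ha none, fun e l => ha _, ?_⟩
  rw [Finset.sum_insertNone, Finset.sum_product] at hfa
  exact hfa

end Groth.Agent.S15732
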