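import Groth.Statements.S15733
import Groth.Agent.H78.HJ2
import Mathlib.Tactic

set_option autoImplicit false
set_option maxHeartbeats 400000
open W4c2invhilbsl2

namespace Groth.Agent.S15733

/-- Let 0 < p < q be coprime integers and m ≥ 1 such that q − p does not divide m; put g = gcd(m, q−p),
b = (q−p)/g, α = ⌊mp/(q−p)⌋, β = the remainder of mp modulo q−p and t = (q−p−β)/g, so that 1 ≤ t <
b, and let b/t = c₁ − 1/(c₂ − 1/(⋯ − 1/c_r)) be the negative-regular (Hirzebruch–Jung) continued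
fraction expansion with every cᵢ ≥ 2; set P₀ = 0, P₁ = 1, Q₀ = −1, Q₁ = 0, Pᵢ = cᵢ₋₁Pᵢ₋₁ − Pᵢ₋₂, Qᵢ
= cᵢ₋₁Qᵢ₋₁ − Qᵢ₋₂ for 2 ≤ i ≤ r+1, and eᵢ = (α+1+m)Pᵢ − Qᵢ, lᵢ = (α+1)Pᵢ − Qᵢ, nᵢ = q·lᵢ − p·eᵢ,
which are non-negative integers for 0 ≤ i ≤ r+1. Then for every 1 < i ≤ r and every integer x with 0
< x < Pᵢ, the remainder of pmx + nᵢ on division by q − p equals nᵢ plus the remainder of pmx on
division by q − p (in particular nᵢ + (pmx mod (q−p)) < q − p). -/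
theorem result (p q m : ℕ) (hp : 0 < p) (hpq : p < q) (hcop : Nat.Coprime p q) (hm : 0 < m) (hnt : ¬ (q - p ∣ m)) (c : List ℤ) (hc : W4c2invhilbsl2.IsHJDigits p q m c) (i : ℕ) (hi : 1 < i) (hir : i ≤ c.length)
    (x : ℤ) (hx0 : 0 < x) (hx : x < W4c2invhilbsl2.hjP c i) :
    Int.emod ((p : ℤ) * m * x + W4c2invhilbsl2.nN p q m c i) ((q : ℤ) - p) = W4c2invhilbsl2.nN p q m c i + Int.emod ((p : ℤ) * m * x) ((q : ℤ) - p) := by
  have hnN := fun i => Groth.Agent.H78.HJ.nN_eq p q m hpq hcop hm c i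
  obtain ⟨hgZ, hbZ, htZ, h4, h5⟩ := Groth.Agent.H78.HJ.arith_factsZ p q m hpq hcop hm
  obtain ⟨j, rfl⟩ := Nat.exists_eq_succ_of_ne_zero (by omega : i ≠ 0)
  have hj : 1 ≤ j := by omega
  obtain ⟨hlow, hupp⟩ := Groth.Agent.H78.HJ.lattice_bounds hpq hcop hm hc j hj hir x hx0 hx
  set g : ℤ := (W4c2invhilbsl2.gcdK p q m : ℤ) with hgdef
  set b : ℤ := (W4c2invhilbsl2.bB p q m : ℤ) with hbdef
  set t : ℤ := (W4c2invhilbsl2.tT p q m : ℤ) with htdef
  set ρ := (t * x) % b with hρdef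
  set y := (t * x) / b with hydef
  have hdiv : b * y + ρ = t * x := Int.mul_ediv_add_emod _ _
  have hρb : ρ < b := Int.emod_lt_of_pos _ hbZ
  have hτlt : Groth.Agent.H78.HJ.tau p q m c (j + 1) < Groth.Agent.H78.HJ.tau p q m c j :=
    Groth.Agent.H78.HJ.tau_lt hpq hcop hm hc j (by omega)
  have hτpos : 0 < Groth.Agent.H78.HJ.tau p q m c (j + 1) :=
    Groth.Agent.H78.HJ.tau_pos hpq hcop hm hc (j + 1) hir
  set T1 := Groth.Agent.H78.HJ.tau p q m c (j + 1) with hT1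
  set T0 := Groth.Agent.H78.HJ.tau p q m c j with hT0
  have hpmx : (p : ℤ) * m * x = g * (b - ρ) +
      ((q : ℤ) - p) * (((W4c2invhilbsl2.alpha p q m : ℤ) + 1) * x - y - 1) := by
    have : (p : ℤ) * m * x = ((m : ℤ) * p) * x := by ring
    rw [this]
    have h5' : (m : ℤ) * p = ((W4c2invhilbsl2.alpha p q m : ℤ) + 1) * ((q : ℤ) - p) - g * t := by
      linarith
    rw [h5']
    have : g * t * x = g * (b * y + ρ) := by rw [hdiv]; ring
    linear_combination (-1 : ℤ) * this + (y + 1) * h4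
  have hmod1 : ((p : ℤ) * m * x) % ((q : ℤ) - p) = g * (b - ρ) := by
    rw [hpmx, Int.add_mul_emod_self_left]
    apply Int.emod_eq_of_lt
    · exact mul_nonneg hgZ.le (by linarith)
    · rw [h4]
      exact mul_lt_mul_of_pos_left (by linarith) hgZ
  have hmod2 : ((p : ℤ) * m * x + W4c2invhilbsl2.nN p q m c (j + 1)) % ((q : ℤ) - p) =
      g * (b - ρ + T1) := by
    rw [hnN, hpmx]
    have : g * (b - ρ) + ((q : ℤ) - p) * (((W4c2invhilbsl2.alpha p q m : ℤ) + 1) * x - y - 1) + g * T1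
        = g * (b - ρ + T1) + ((q : ℤ) - p) * (((W4c2invhilbsl2.alpha p q m : ℤ) + 1) * x - y - 1) := by
      ring
    rw [this, Int.add_mul_emod_self_left]
    apply Int.emod_eq_of_lt
    · exact mul_nonneg hgZ.le (by linarith)
    · rw [h4]
      exact mul_lt_mul_of_pos_left (by linarith) hgZ
  change ((p : ℤ) * m * x + W4c2invhilbsl2.nN p q m c (j + 1)) % ((q : ℤ) - p) =
    W4c2invhilbsl2.nN p q m c (j + 1) + ((p : ℤ) * m * x) % ((q : ℤ) - p)
  rw [hmod2, hmod1, hnN]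
  ring

end Groth.Agent.S15733
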