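import Groth.Statements.S15739
import Groth.Agent.S15728
import Mathlib.Tactic

set_option autoImplicit false
set_option maxHeartbeats 400000
universe u
open W4c2invhilbsl2

namespace Groth.Agent.S15739

open MvPolynomial

section
variable {R : Type*} [CommRing R]

lemma sub_mem_of_eq (x y z : R) (d0 d1 d2 e1 e2 A B t : ℕ) (h1 : e1 = d1 + A * t) (h2 : e2 = d2 + B * t) :
    x ^ d0 * y ^ e1 * z ^ e2 - x ^ d0 * y ^ d1 * z ^ d2 ∈ Ideal.span {(1 : R) - y ^ A * z ^ B} := by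
  rw [Ideal.mem_span_singleton]
  have hdvd : ((1 : R) - y ^ A * z ^ B) ∣ (y ^ A * z ^ B) ^ t - 1 := by
    have h := sub_dvd_pow_sub_pow (y ^ A * z ^ B) 1 t
    rw [one_pow] at h
    rw [← neg_sub, neg_dvd]
    exact h
  have e : x ^ d0 * y ^ e1 * z ^ e2 - x ^ d0 * y ^ d1 * z ^ d2 =
      (x ^ d0 * y ^ d1 * z ^ d2) * ((y ^ A * z ^ B) ^ t - 1) := by
    rw [h1, h2]; ring
  rw [e]
  exact Dvd.dvd.mul_left hdvd _

end

/-- Let k be a field and m ≥ 1, put g = gcd(m, q−p), a = m/g and b = (q−p)/g; for a monomial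
X₀^d₀X₁^d₁X₂^d₂ of the polynomial ring in X₀, X₁, X₂ (X₂ standing for Xⱼ, j = 3 or 4, of the
five-variable ring) put n = d₀ − p·d₁ + q·d₂ (its weight for the torus diag(t, t^(−p), t^q)), c = d₁
− d₂ and ω = p·d₁ − q·d₂, so that d₀ = n + ω; here 0 < p < q are coprime integers. Take two
monomials X₀^d₀X₁^d₁X₂^d₂ and X₀^e₀X₁^e₁X₂^e₂ with the same n, where 0 ≤ n < q − p, whose values c
and c' of c are both divisible by m, and with d₀ < g and e₀ < g (so each has the least ω for its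
pair (n, c), as g ≤ q − p). Then: (i) d₀ = e₀, i.e. the two values of ω agree, and m·b divides c −
c'; (ii) if c < c', then X₀^e₀X₁^e₁X₂^e₂ is a multiple of X₀^d₀X₁^d₁X₂^d₂ · X₁^(aq)X₂^(ap); (iii)
the difference of the two monomials lies in the principal ideal (1 − X₁^(aq)X₂^(ap)). -/
theorem result (k : Type u) [Field k] (p q m : ℕ) (hp : 0 < p) (hpq : p < q) (hcop : Nat.Coprime p q) (hm : 0 < m)
    (d0 d1 d2 e0 e1 e2 : ℕ) (hn : (e0 : ℤ) - (p : ℤ) * e1 + (q : ℤ) * e2 = (d0 : ℤ) - (p : ℤ) * d1 + (q : ℤ) * d2)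
    (hn0 : 0 ≤ (d0 : ℤ) - (p : ℤ) * d1 + (q : ℤ) * d2) (hnq : (d0 : ℤ) - (p : ℤ) * d1 + (q : ℤ) * d2 < (q : ℤ) - p)
    (hcd : (m : ℤ) ∣ (d1 : ℤ) - d2) (hce : (m : ℤ) ∣ (e1 : ℤ) - e2)
    (hd0 : d0 < Nat.gcd m (q - p)) (he0 : e0 < Nat.gcd m (q - p)) :
    (d0 = e0 ∧ ((m : ℤ) * ((q - p) / Nat.gcd m (q - p) : ℕ)) ∣ ((d1 : ℤ) - d2) - ((e1 : ℤ) - e2)) ∧
    ((d1 : ℤ) - d2 < (e1 : ℤ) - e2 →
      (MvPolynomial.X (0 : Fin 3) ^ d0 * MvPolynomial.X (1 : Fin 3) ^ d1 * MvPolynomial.X (2 : Fin 3) ^ d2 * (MvPolynomial.X (1 : Fin 3) ^ (m / Nat.gcd m (q - p) * q) * MvPolynomial.X (2 : Fin 3) ^ (m / Nat.gcd m (q - p) * p)) : MvPolynomial (Fin 3) k) ∣ MvPolynomial.X (0 : Fin 3) ^ e0 * MvPolynomial.X (1 : Fin 3) ^ e1 * MvPolynomial.X (2 : Fin 3) ^ e2) ∧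
    ((MvPolynomial.X (0 : Fin 3) ^ e0 * MvPolynomial.X (1 : Fin 3) ^ e1 * MvPolynomial.X (2 : Fin 3) ^ e2 - MvPolynomial.X (0 : Fin 3) ^ d0 * MvPolynomial.X (1 : Fin 3) ^ d1 * MvPolynomial.X (2 : Fin 3) ^ d2 : MvPolynomial (Fin 3) k) ∈
      Ideal.span {(1 : MvPolynomial (Fin 3) k) - MvPolynomial.X (1 : Fin 3) ^ (m / Nat.gcd m (q - p) * q) * MvPolynomial.X (2 : Fin 3) ^ (m / Nat.gcd m (q - p) * p)}) := by
  have hdvd1 : (m : ℤ) ∣ ((d2 : ℤ) - d1) - ((e2 : ℤ) - e1) := by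
    have : ((d2 : ℤ) - d1) - ((e2 : ℤ) - e1) = ((e1 : ℤ) - e2) - ((d1 : ℤ) - d2) := by ring
    rw [this]
    exact dvd_sub hce hcd
  have hdvd2 : (m : ℤ) ∣ ((e2 : ℤ) - e1) - ((d2 : ℤ) - d1) := by
    have : ((e2 : ℤ) - e1) - ((d2 : ℤ) - d1) = ((d1 : ℤ) - d2) - ((e1 : ℤ) - e2) := by ring
    rw [this]
    exact dvd_sub hcd hce
  have hg : 0 < Nat.gcd m (q - p) := Nat.gcd_pos_of_pos_left _ hm
  have hqp : 0 < q - p := Nat.sub_pos_of_lt hpq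
  -- m * b = a * (q - p)
  have hmb : (m : ℤ) * (((q - p) / Nat.gcd m (q - p) : ℕ) : ℤ) =
      ((m / Nat.gcd m (q - p) : ℕ) : ℤ) * ((q : ℤ) - p) := by
    have h1 : Nat.gcd m (q - p) * (m / Nat.gcd m (q - p)) = m := Nat.mul_div_cancel' (Nat.gcd_dvd_left _ _)
    have h2 : Nat.gcd m (q - p) * ((q - p) / Nat.gcd m (q - p)) = q - p :=
      Nat.mul_div_cancel' (Nat.gcd_dvd_right _ _)
    have h3 : ((q - p : ℕ) : ℤ) = (q : ℤ) - p := Nat.cast_sub hpq.le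
    have h4 : m * ((q - p) / Nat.gcd m (q - p)) = (m / Nat.gcd m (q - p)) * (q - p) := by
      generalize Nat.gcd m (q - p) = g at *
      generalize m / g = a at *
      generalize (q - p) / g = bb at *
      generalize q - p = r at *
      calc m * bb = g * a * bb := by rw [h1]
        _ = a * (g * bb) := by ring
        _ = a * r := by rw [h2]
    rw [← h3]
    exact_mod_cast h4
  rcases le_total e1 d1 with hle | hle
  · -- d = e + t * (aq, ap)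
    obtain ⟨t, h0, ht1, ht2⟩ := Groth.Agent.S15728.arith p q m hpq hcop hm d0 d1 d2 e0 e1 e2 hd0 he0
      hn.symm hdvd1 hle
    have hcc : ((d1 : ℤ) - d2) - ((e1 : ℤ) - e2) =
        ((m / Nat.gcd m (q - p) : ℕ) : ℤ) * ((q : ℤ) - p) * t := by
      rw [ht1, ht2]; push_cast; ring
    refine ⟨⟨h0, ?_⟩, fun hlt => ?_, ?_⟩
    · rw [hcc, hmb]; exact Dvd.intro _ rfl
    · exfalso
      have h5 : (0 : ℤ) ≤ ((m / Nat.gcd m (q - p) : ℕ) : ℤ) * ((q : ℤ) - p) * t := by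
        have : (0 : ℤ) ≤ (q : ℤ) - p := by
          have : (p : ℤ) < q := by exact_mod_cast hpq
          linarith
        positivity
      linarith
    · have h6 := neg_mem (sub_mem_of_eq (X 0 : MvPolynomial (Fin 3) k) (X 1) (X 2) e0 e1 e2 d1 d2
        (m / Nat.gcd m (q - p) * q) (m / Nat.gcd m (q - p) * p) t ht1 ht2)
      rw [neg_sub] at h6
      rw [h0]
      exact h6
  · obtain ⟨t, h0, ht1, ht2⟩ := Groth.Agent.S15728.arith p q m hpq hcop hm e0 e1 e2 d0 d1 d2 he0 hd0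
      hn hdvd2 hle
    have hcc : ((d1 : ℤ) - d2) - ((e1 : ℤ) - e2) =
        -(((m / Nat.gcd m (q - p) : ℕ) : ℤ) * ((q : ℤ) - p) * t) := by
      rw [ht1, ht2]; push_cast; ring
    refine ⟨⟨h0.symm, ?_⟩, fun hlt => ?_, ?_⟩
    · rw [hcc, hmb]; exact ⟨-(t : ℤ), by ring⟩
    · have ht : t ≠ 0 := by
        rintro rfl
        have : ((d1 : ℤ) - d2) - ((e1 : ℤ) - e2) = 0 := by rw [hcc]; simp
        linarith
      obtain ⟨t', rfl⟩ : ∃ t', t = t' + 1 := ⟨t - 1, by omega⟩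
      rw [h0, ht1, ht2]
      refine ⟨(X 1 ^ (m / Nat.gcd m (q - p) * q) * X 2 ^ (m / Nat.gcd m (q - p) * p)) ^ t', ?_⟩
      ring
    · have h6 := sub_mem_of_eq (X 0 : MvPolynomial (Fin 3) k) (X 1) (X 2) d0 d1 d2 e1 e2
        (m / Nat.gcd m (q - p) * q) (m / Nat.gcd m (q - p) * p) t ht1 ht2
      rw [h0]
      exact h6

end Groth.Agent.S15739
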