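import Groth.Statements.S15747
import Mathlib
import Groth.Agent.H39.ConormalSect

set_option autoImplicit false
set_option maxHeartbeats 400000
set_option backward.isDefEq.respectTransparency.types false
universe u
open CategoryTheory CategoryTheory.Limits AlgebraicGeometry Opposite
open UnitsSh

namespace Groth.Agent.S15747

open Groth.Agent.H39 Groth.Agent.H39.ConormalLocal Groth.Agent.H39.ConormalSect Groth.Agent.H8
open OmegaSh TopologicalSpace Opposite

section General

variable {X : TopCat.{u}}

/-- Exactness criterion for abelian sheaves on a space from sectionwise data. -/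
theorem exact_of_sections
    (S : ShortComplex (Sheaf (Opens.grothendieckTopology X) AddCommGrpCat.{u}))
    (hinj : ∀ U : (Opens X)ᵒᵖ, Function.Injective (S.f.hom.app U))
    (hex : ∀ (U : (Opens X)ᵒᵖ) (s : S.X₂.obj.obj U), S.g.hom.app U s = 0 →
      ∃ t : S.X₁.obj.obj U, S.f.hom.app U t = s) : S.Exact := by
  rw [ShortComplex.exact_iff_exact_up_to_refinements]
  intro A x₂ hx₂
  have hx : ∀ (U : (Opens X)ᵒᵖ) (a : A.obj.obj U), S.g.hom.app U (x₂.hom.app U a) = 0 := by
    intro U a
    have h1 : (x₂ ≫ S.g).hom.app U a = (0 : A ⟶ S.X₃).hom.app U a := by rw [hx₂]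
    exact h1
  choose t ht using fun (U : (Opens X)ᵒᵖ) (a : A.obj.obj U) => hex U (x₂.hom.app U a) (hx U a)
  have hadd : ∀ (U : (Opens X)ᵒᵖ) (a b : A.obj.obj U), t U (a + b) = t U a + t U b := by
    intro U a b
    apply hinj U
    rw [map_add, ht, ht, ht, map_add]
  have hzero : ∀ U : (Opens X)ᵒᵖ, t U 0 = 0 := by
    intro U
    apply hinj U
    rw [ht, map_zero, map_zero]
  have hnat : ∀ (U V : (Opens X)ᵒᵖ) (i : U ⟶ V) (a : A.obj.obj U),
      t V (A.obj.map i a) = S.X₁.obj.map i (t U a) := by
    intro U V i a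
    apply hinj V
    rw [ht]
    have h1 := congr($(x₂.hom.naturality i) a)
    have h2 := congr($(S.f.hom.naturality i) (t U a))
    refine Eq.trans (show x₂.hom.app V (A.obj.map i a) = S.X₂.obj.map i (x₂.hom.app U a) from h1) ?_
    refine Eq.trans ?_ (show S.X₂.obj.map i (S.f.hom.app U (t U a)) =
      S.f.hom.app V (S.X₁.obj.map i (t U a)) from h2.symm)
    rw [ht]
  let tHom : ∀ U : (Opens X)ᵒᵖ, A.obj.obj U →+ S.X₁.obj.obj U := fun U =>
    { toFun := t U, map_zero' := hzero U, map_add' := hadd U }
  let x₁ : A ⟶ S.X₁ := ⟨{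
    app := fun U => AddCommGrpCat.ofHom (tHom U)
    naturality := fun U V i => by
      ext a
      exact hnat U V i a }⟩
  refine ⟨A, 𝟙 A, inferInstance, x₁, ?_⟩
  rw [Category.id_comp]
  apply Sheaf.hom_ext
  ext U a
  exact (ht U a).symm

end General

section Units

variable {R : Type u} [CommRing R]

/-- The unit `1 + a` for `a² = 0`. -/
def unitOf (a : R) (h : a * a = 0) : Rˣ :=
  ⟨1 + a, 1 - a, by rw [show (1 + a) * (1 - a) = 1 - a * a by ring, h, sub_zero],
    by rw [show (1 - a) * (1 + a) = 1 - a * a by ring, h, sub_zero]⟩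

theorem unitOf_val (a : R) (h : a * a = 0) : (unitOf a h).val = 1 + a := rfl

end Units

section Sch

variable (X : Scheme.{u}) (J : X.IdealSheafData)

theorem idealSect_map (U V : (Opens X)ᵒᵖ) (i : U ⟶ V) (f : Γ(ClSub.idealMod J, U.unop)) :
    idealSect J V.unop ((ClSub.idealMod J).presheaf.map i f) =
      X.presheaf.map i (idealSect J U.unop f) :=
  congr($((ClSub.idealModι J).mapPresheaf.naturality i) f)

theorem idealSect_mul_eq_zero (hJ : J * J = ⊥) (U : X.Opens) (f g : Γ(ClSub.idealMod J, U)) :
    idealSect J U f * idealSect J U g = 0 := by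
  refine X.sheaf.eq_of_locally_eq' (fun W : {W : X.affineOpens // W.1 ≤ U} => W.1.1) U
    (fun W => homOfLE W.2) ?_ _ _ ?_
  · intro x hx
    obtain ⟨_, ⟨W, hW, rfl⟩, hxW, hWU⟩ := X.isBasis_affineOpens.exists_subset_of_mem_open hx U.2
    exact Opens.mem_iSup.mpr ⟨⟨⟨W, hW⟩, hWU⟩, hxW⟩
  · intro W
    have h1 := idealSect_map X J (op U) (op W.1.1) (homOfLE W.2).op f
    have h2 := idealSect_map X J (op U) (op W.1.1) (homOfLE W.2).op g
    have h3 : idealSect J W.1.1 ((ClSub.idealMod J).presheaf.map (homOfLE W.2).op f) *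
        idealSect J W.1.1 ((ClSub.idealMod J).presheaf.map (homOfLE W.2).op g) ∈
          (J * J).ideal W.1 :=
      Ideal.mul_mem_mul (idealSect_mem_ideal J W.1 _) (idealSect_mem_ideal J W.1 _)
    rw [hJ] at h3
    have h4 : idealSect J W.1.1 ((ClSub.idealMod J).presheaf.map (homOfLE W.2).op f) *
        idealSect J W.1.1 ((ClSub.idealMod J).presheaf.map (homOfLE W.2).op g) = 0 := h3
    rw [h1, h2] at h4
    refine Eq.trans ?_ (map_zero (X.presheaf.map (homOfLE W.2).op).hom).symm
    refine Eq.trans (map_mul (X.presheaf.map (homOfLE W.2).op).hom _ _) ?_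
    exact h4

/-- `f ↦ 1 + f` on sections over `U`. -/
noncomputable def phiHom (hJ : J * J = ⊥) (U : X.Opens) :
    Γ(ClSub.idealMod J, U) →+ Additive (Γ(X, U))ˣ where
  toFun f := Additive.ofMul (unitOf (idealSect J U f) (idealSect_mul_eq_zero X J hJ U f f))
  map_zero' := by
    apply Additive.toMul.injective
    apply Units.ext
    show 1 + idealSect J U 0 = 1
    rw [map_zero, add_zero]
  map_add' f g := by
    apply Additive.toMul.injective
    apply Units.ext
    show 1 + idealSect J U (f + g) = (1 + idealSect J U f) * (1 + idealSect J U g)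
    rw [map_add]
    have h := idealSect_mul_eq_zero X J hJ U f g
    linear_combination (-1 : Γ(X, U)) * h

/-- The map of abelian sheaves `J ⟶ O_X^×`, `f ↦ 1 + f`. -/
noncomputable def phi (hJ : J * J = ⊥) :
    Coh.toAb (ClSub.idealMod J) ⟶ UnitsSh.unitsAb X :=
  ⟨{ app := fun U => AddCommGrpCat.ofHom (phiHom X J hJ U.unop)
     naturality := fun U V i => by
       ext f
       apply Additive.toMul.injective
       apply Units.ext
       show 1 + idealSect J V.unop ((ClSub.idealMod J).presheaf.map i f) =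
         X.presheaf.map i (1 + idealSect J U.unop f)
       rw [map_add, map_one, idealSect_map] }⟩

theorem phi_comap (hJ : J * J = ⊥) : phi X J hJ ≫ UnitsSh.comap J.subschemeι = 0 := by
  apply Sheaf.hom_ext
  ext U f
  apply Additive.toMul.injective
  apply Units.ext
  show (J.subschemeι.app U.unop).hom (1 + idealSect J U.unop f) = 1
  rw [map_add, map_one, subschemeι_app_idealSect, add_zero]

theorem phi_injective (hJ : J * J = ⊥) (U : (Opens X)ᵒᵖ) :
    Function.Injective ((phi X J hJ).hom.app U) := by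
  intro f g hfg
  have h1 : (1 : Γ(X, U.unop)) + idealSect J U.unop f = 1 + idealSect J U.unop g :=
    congrArg (fun s => (UnitsSh.unitOfSect s).val) hfg
  exact idealSect_injective J U.unop (add_left_cancel h1)

theorem phi_exact_sect (hJ : J * J = ⊥) (U : (Opens X)ᵒᵖ)
    (s : (UnitsSh.unitsAb X).obj.obj U)
    (hs : (UnitsSh.comap J.subschemeι).hom.app U s = 0) :
    ∃ t, (phi X J hJ).hom.app U t = s := by
  obtain ⟨u, hu⟩ : ∃ u : Γ(X, U.unop), u = (UnitsSh.unitOfSect s).val := ⟨_, rfl⟩
  have h1 : (J.subschemeι.app U.unop).hom u = 1 := by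
    rw [hu]
    exact congrArg (fun v => (UnitsSh.unitOfSect (X := X.toTopCat)
      (O := (J.subschemeι.base _* J.subscheme.presheaf)) v).val) hs
  have h2 : (J.subschemeι.app U.unop).hom (u - 1) = 0 := by
    rw [map_sub, h1, map_one, sub_self]
  let SC : ShortComplex X.Modules := ShortComplex.mk (kernel.ι (ClSub.toSubscheme J))
    (ClSub.toSubscheme J) (kernel.condition _)
  have hS : SC.Exact := ShortComplex.exact_of_f_is_kernel SC (kernelIsKernel _)
  haveI : Mono SC.f := inferInstanceAs (Mono (kernel.ι (ClSub.toSubscheme J)))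
  obtain ⟨t, ht⟩ := exists_app_eq_of_exact SC hS U.unop (strSect X U.unop (u - 1)) h2
  refine ⟨t, ?_⟩
  apply Additive.toMul.injective
  apply Units.ext
  show 1 + idealSect J U.unop t = (UnitsSh.unitOfSect s).val
  have ht' : idealSect J U.unop t = u - 1 := ht
  rw [ht', ← hu]
  ring

theorem comap_surj_affine (hJ : J * J = ⊥) (W : X.affineOpens)
    (w : ((CohTop.push J.subschemeι.base).obj (UnitsSh.unitsAb J.subscheme)).obj.obj (op W.1)) :
    ∃ s : (UnitsSh.unitsAb X).obj.obj (op W.1),
      (UnitsSh.comap J.subschemeι).hom.app (op W.1) s = w := by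
  obtain ⟨v, hv⟩ : ∃ v : (Γ(J.subscheme, J.subschemeι ⁻¹ᵁ W.1))ˣ,
      v = UnitsSh.unitOfSect (X := X.toTopCat)
        (O := (J.subschemeι.base _* J.subscheme.presheaf)) w := ⟨_, rfl⟩
  obtain ⟨a, ha⟩ := J.subschemeι_app_surjective W v.val
  obtain ⟨b, hb⟩ := J.subschemeι_app_surjective W v.inv
  have hab : a * b - 1 ∈ J.ideal W := by
    rw [← J.ker_subschemeι_app W, RingHom.mem_ker, map_sub, map_mul, map_one]
    have ha' : (J.subschemeι.app W.1).hom a = v.val := ha
    have hb' : (J.subschemeι.app W.1).hom b = v.inv := hb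
    rw [ha', hb', Units.val_inv, sub_self]
  have hsq : (a * b - 1) * (a * b - 1) = 0 := by
    have h3 : (a * b - 1) * (a * b - 1) ∈ (J * J).ideal W := Ideal.mul_mem_mul hab hab
    rw [hJ] at h3
    exact h3
  have hu : IsUnit (a * b) := by
    have h4 : a * b = ((unitOf (a * b - 1) hsq : (Γ(X, W.1))ˣ) : Γ(X, W.1)) := by
      rw [unitOf_val]; ring
    rw [h4]
    exact Units.isUnit _
  obtain ⟨ua, hua⟩ := isUnit_of_mul_isUnit_left hu
  refine ⟨UnitsSh.sectOfUnit (X := X.toTopCat) (O := X.sheaf.obj) ua, ?_⟩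
  apply Additive.toMul.injective
  apply Units.ext
  show (J.subschemeι.app W.1).hom ua.val = (UnitsSh.unitOfSect (X := X.toTopCat)
    (O := (J.subschemeι.base _* J.subscheme.presheaf)) w).val
  rw [← hv, hua]
  exact ha

theorem comap_epi (hJ : J * J = ⊥) : Epi (UnitsSh.comap J.subschemeι) := by
  haveI : Sheaf.IsLocallySurjective (UnitsSh.comap J.subschemeι) := by
    refine (TopCat.Presheaf.isLocallySurjective_iff (UnitsSh.comap J.subschemeι).hom).mpr ?_
    intro U v x hx
    obtain ⟨_, ⟨W, hW, rfl⟩, hxW, hWU⟩ := X.isBasis_affineOpens.exists_subset_of_mem_open hx U.2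
    exact ⟨W, hWU, comap_surj_affine X J hJ ⟨W, hW⟩ _, hxW⟩
  infer_instance

end Sch

/-- Let `X` be a scheme, `J` a quasi-coherent ideal of `O_X` with `J² = 0`, `X₀` the closed subscheme it
cuts out and `i : X₀ ⟶ X` the inclusion. Then there is a morphism of abelian sheaves `J ⟶ O_X^×` on
the underlying space of `X` sending every local section `f` of `J` to the unit `1 + f` (which
determines it), and the sequence `0 ⟶ J ⟶ O_X^× ⟶ i_* O_{X₀}^× ⟶ 0`, whose second map is the units
map of `i`, is a short exact sequence of abelian sheaves. (The published lemma assumes moreover that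
`X` is quasi-compact and separated and that the restriction of global functions `O_X(X) →
O_{X₀}(X₀)` is surjective, and concludes about Picard groups; the exactness of this sequence of
sheaves, proved there stalk by stalk, uses none of these assumptions.) -/
theorem result (X : Scheme.{u}) (J : X.IdealSheafData)
    (hJ : J * J = ⊥) :
    ∃ φ : Coh.toAb (ClSub.idealMod J) ⟶ UnitsSh.unitsAb X,
      (∀ (U : X.Opens) (f : (ClSub.idealMod J).val.obj (op U)),
        (UnitsSh.unitOfSect (φ.hom.app (op U) f)).val =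
          1 + (show X.sheaf.obj.obj (op U) from (ClSub.idealModι J).val.app (op U) f)) ∧
      ∃ w : φ ≫ UnitsSh.comap J.subschemeι = 0,
        (ShortComplex.mk φ (UnitsSh.comap J.subschemeι) w).ShortExact := by
  refine ⟨phi X J hJ, fun U f => rfl, phi_comap X J hJ, ?_⟩
  haveI : Mono (phi X J hJ) := by
    haveI : Mono (phi X J hJ).hom := by
      haveI : ∀ U, Mono ((phi X J hJ).hom.app U) := fun U =>
        (AddCommGrpCat.mono_iff_injective _).mpr (phi_injective X J hJ U)
      exact NatTrans.mono_of_mono_app _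
    exact Sheaf.Hom.mono_of_presheaf_mono _ _ _
  haveI : Epi (UnitsSh.comap J.subschemeι) := comap_epi X J hJ
  exact ShortComplex.ShortExact.mk
    (exact_of_sections (ShortComplex.mk (phi X J hJ) (UnitsSh.comap J.subschemeι)
      (phi_comap X J hJ)) (phi_injective X J hJ) (phi_exact_sect X J hJ))

end Groth.Agent.S15747
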