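import Groth.Statements.S15749
import Mathlib

set_option autoImplicit false
universe u
open CAlg

namespace Groth.Agent.S15749

lemma idem_sub_pow {S : Type*} [CommRing S] {e f : S} (he : IsIdempotentElem e)
    (hf : IsIdempotentElem f) : ∀ k : ℕ, (e - f) ^ (2 * k + 1) = e - f := by
  have he' : e * e = e := he
  have hf' : f * f = f := hf
  have h3 : (e - f) ^ 3 = e - f := by
    linear_combination (e + 1 - 3 * f) * he' + (3 * e - f - 1) * hf'
  intro k
  induction k with
  | zero => simp
  | succ k ih =>
    have : (e - f) ^ (2 * (k+1) + 1) = (e - f) ^ (2 * k + 1) * (e-f)^2 := by ring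
    rw [this, ih, ← pow_succ']
    exact h3

lemma idem_eq_of_sub_nilpotent {S : Type*} [CommRing S] {e f : S} (he : IsIdempotentElem e)
    (hf : IsIdempotentElem f) (h : IsNilpotent (e - f)) : e = f := by
  obtain ⟨m, hm⟩ := h
  have := idem_sub_pow he hf m
  have h0 : (e - f) ^ (2 * m + 1) = 0 := by
    rw [show 2 * m + 1 = m + (m + 1) by ring, pow_add, hm, zero_mul]
  rw [h0] at this
  exact sub_eq_zero.mp this.symm

lemma L1 {S : Type*} [CommRing S] (g : PowerSeries S) (hg : IsIdempotentElem g) :
    g = PowerSeries.C (PowerSeries.constantCoeff g) := by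
  have hsid : IsIdempotentElem (PowerSeries.constantCoeff g) := by
    show PowerSeries.constantCoeff g * PowerSeries.constantCoeff g = PowerSeries.constantCoeff g
    rw [← map_mul, hg.eq]
  have hs : IsIdempotentElem (PowerSeries.C (PowerSeries.constantCoeff g) : PowerSeries S) :=
    hsid.map PowerSeries.C
  have hdvd : (PowerSeries.X : PowerSeries S) ∣ g - PowerSeries.C (PowerSeries.constantCoeff g) := by
    rw [PowerSeries.X_dvd_iff]; simp
  obtain ⟨q, hq⟩ := hdvd
  have hpow := idem_sub_pow hg hs
  have : g - PowerSeries.C (PowerSeries.constantCoeff g) = 0 := by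
    ext n
    rw [← hpow n, hq, mul_pow, PowerSeries.coeff_X_pow_mul', if_neg (by omega)]
    simp
  exact sub_eq_zero.mp this

lemma L2 {R : Type*} [CommRing R] (I : Ideal R) (h : PowerSeries R)
    (hh : ∀ n, PowerSeries.coeff n h ∈ I) : ∀ m n, PowerSeries.coeff n (h ^ m) ∈ I ^ m := by
  intro m
  induction m with
  | zero => intro n; simp
  | succ m ih =>
    intro n
    rw [pow_succ h, PowerSeries.coeff_mul, pow_succ I]
    exact Ideal.sum_mem _ (fun p _ => Ideal.mul_mem_mul (ih p.1) (hh p.2))


/-- For an arbitrary commutative ring R, every idempotent of the ring of formal Laurent series R((t)) is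
the constant series attached to a unique idempotent of R. Equivalently, the structure map R → R((t))
induces a bijection on idempotents, so that the spectrum of R((t)) is connected if and only if the
spectrum of R is. No reducedness is assumed. -/
theorem result (R : Type u) [CommRing R]
    (e : LaurentSeries R) (he : IsIdempotentElem e) :
    ∃! r : R, IsIdempotentElem r ∧ HahnSeries.C r = e := by
  classical
  suffices h : ∃ r : R, IsIdempotentElem r ∧ HahnSeries.C r = e by
    obtain ⟨r, hr, hre⟩ := h
    refine ⟨r, ⟨hr, hre⟩, ?_⟩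
    rintro r' ⟨_, hr'⟩
    exact HahnSeries.C_injective (hr'.trans hre.symm)
  obtain ⟨N, f, hf⟩ : ∃ (N : ℕ) (f : PowerSeries R),
      HahnSeries.ofPowerSeries ℤ R f = HahnSeries.single (N : ℤ) (1 : R) * e := by
    obtain ⟨n, hn⟩ : ∃ n : ℤ, n = e.order := ⟨_, rfl⟩
    obtain ⟨p, hp⟩ : ∃ p : PowerSeries R,
        HahnSeries.single n (1:R) * HahnSeries.ofPowerSeries ℤ R p = e :=
      ⟨e.powerSeriesPart, by rw [hn]; exact LaurentSeries.single_order_mul_powerSeriesPart e⟩
    refine ⟨n.natAbs, PowerSeries.X ^ ((n.natAbs : ℤ) + n).toNat * p, ?_⟩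
    have hM : ((((n.natAbs : ℤ) + n).toNat : ℕ) : ℤ) = (n.natAbs : ℤ) + n :=
      Int.toNat_of_nonneg (by omega)
    rw [map_mul, HahnSeries.ofPowerSeries_X_pow, ← hp, ← mul_assoc, HahnSeries.single_mul_single,
      one_mul, hM]
  have huv : HahnSeries.single (-(N : ℤ)) (1 : R) * HahnSeries.single (N : ℤ) (1 : R) = 1 := by
    rw [HahnSeries.single_mul_single, neg_add_cancel, one_mul]; rfl
  have hff : f * f = PowerSeries.X ^ N * f := by
    apply HahnSeries.ofPowerSeries_injective (Γ := ℤ)
    rw [map_mul, map_mul, HahnSeries.ofPowerSeries_X_pow, hf]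
    have : e * e = e := he
    calc  HahnSeries.single (N:ℤ) (1:R) * e * (HahnSeries.single (N:ℤ) (1:R) * e)
        = HahnSeries.single (N:ℤ) (1:R) * (HahnSeries.single (N:ℤ) (1:R) * (e * e)) := by ring
      _ = _ := by rw [this]
  have hnil : ∀ k < N, IsNilpotent (PowerSeries.coeff k f) := by
    intro k hk
    rw [nilpotent_iff_mem_prime]
    intro p hp
    have := hp
    have : (Ideal.Quotient.mk p) (PowerSeries.coeff k f) = 0 := by
      have h1 : PowerSeries.map (Ideal.Quotient.mk p) f *
          (PowerSeries.map (Ideal.Quotient.mk p) f - PowerSeries.X ^ N) = 0 := by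
        rw [mul_sub, ← map_mul, hff, map_mul, map_pow, PowerSeries.map_X]; ring
      rw [← PowerSeries.coeff_map]
      rcases mul_eq_zero.mp h1 with h | h
      · rw [h]; simp
      · rw [sub_eq_zero.mp h, PowerSeries.coeff_X_pow, if_neg (by omega)]
    exact Ideal.Quotient.eq_zero_iff_mem.mp this
  let I : Ideal R :=
    Ideal.span (↑((Finset.range N).image (fun k => PowerSeries.coeff k f)) : Set R)
  have hIfg : I.FG := ⟨_, rfl⟩
  have hfI : ∀ k < N, PowerSeries.coeff k f ∈ I := by
    intro k hk
    apply Ideal.subset_span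
    simp only [Finset.coe_image, Finset.coe_range, Set.mem_image, Set.mem_Iio]
    exact ⟨k, hk, rfl⟩
  have hIle : I ≤ nilradical R := by
    apply Ideal.span_le.mpr
    intro x hx
    simp only [Finset.coe_image, Finset.coe_range, Set.mem_image, Set.mem_Iio] at hx
    obtain ⟨k, hk, rfl⟩ := hx
    exact mem_nilradical.mpr (hnil k hk)
  obtain ⟨m, hm⟩ : ∃ m, I ^ m = ⊥ := hIfg.isNilpotent_iff_le_nilradical.mpr hIle
  have hdvd : PowerSeries.X ^ N ∣ PowerSeries.map (Ideal.Quotient.mk I) f := by
    rw [PowerSeries.X_pow_dvd_iff]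
    intro k hk
    rw [PowerSeries.coeff_map]; exact Ideal.Quotient.eq_zero_iff_mem.mpr (hfI k hk)
  obtain ⟨g, hg⟩ := hdvd
  have hgg : IsIdempotentElem g := by
    have h1 : PowerSeries.map (Ideal.Quotient.mk I) f * PowerSeries.map (Ideal.Quotient.mk I) f
        = PowerSeries.X ^ N * PowerSeries.map (Ideal.Quotient.mk I) f := by
      rw [← map_mul, hff, map_mul, map_pow, PowerSeries.map_X]
    rw [hg] at h1
    have h2 : PowerSeries.X ^ N * (PowerSeries.X ^ N * (g * g))
        = PowerSeries.X ^ N * (PowerSeries.X ^ N * g) := by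
      rw [← h1]; ring
    exact PowerSeries.X_pow_mul_cancel (PowerSeries.X_pow_mul_cancel h2)
  have hgC := L1 g hgg
  have hsid : IsIdempotentElem (PowerSeries.constantCoeff g) := by
    show PowerSeries.constantCoeff g * PowerSeries.constantCoeff g = PowerSeries.constantCoeff g
    rw [← map_mul, hgg.eq]
  obtain ⟨r, hr, hrs⟩ := exists_isIdempotentElem_eq_of_ker_isNilpotent (Ideal.Quotient.mk I)
    (by
      intro x hx
      rw [Ideal.mk_ker] at hx
      exact mem_nilradical.mp (hIle hx))
    (PowerSeries.constantCoeff g) (RingHom.mem_range.mpr (Ideal.Quotient.mk_surjective _)) hsid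
  have hh : ∀ n, PowerSeries.coeff n (f - PowerSeries.X ^ N * PowerSeries.C r) ∈ I := by
    intro n
    rw [← Ideal.Quotient.eq_zero_iff_mem, ← PowerSeries.coeff_map, map_sub, map_mul, map_pow,
      PowerSeries.map_X, PowerSeries.map_C, hrs, hg, ← hgC, sub_self, map_zero]
  have hhm : (f - PowerSeries.X ^ N * PowerSeries.C r) ^ m = 0 := by
    ext n
    have := L2 I _ hh m n
    rw [hm] at this
    simpa using this
  have hnilp : IsNilpotent (e - HahnSeries.C r) := by
    refine ⟨m, ?_⟩
    have h1 : HahnSeries.single (N : ℤ) (1 : R) * (e - HahnSeries.C r)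
        = HahnSeries.ofPowerSeries ℤ R (f - PowerSeries.X ^ N * PowerSeries.C r) := by
      rw [map_sub, map_mul, HahnSeries.ofPowerSeries_X_pow, HahnSeries.ofPowerSeries_C, hf, mul_sub]
    calc (e - HahnSeries.C r) ^ m
        = (HahnSeries.single (-(N : ℤ)) (1 : R) * HahnSeries.single (N : ℤ) (1 : R)) ^ m
            * (e - HahnSeries.C r) ^ m := by rw [huv, one_pow, one_mul]
      _ = HahnSeries.single (-(N : ℤ)) (1 : R) ^ m *
            (HahnSeries.single (N : ℤ) (1 : R) * (e - HahnSeries.C r)) ^ m := by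
          rw [mul_pow, mul_pow, mul_assoc]
      _ = 0 := by
          rw [h1, ← map_pow (HahnSeries.ofPowerSeries ℤ R), hhm, map_zero, mul_zero]
  exact ⟨r, hr, (idem_eq_of_sub_nilpotent he (hr.map HahnSeries.C) hnilp).symm⟩

end Groth.Agent.S15749
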