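import Groth.Statements.S15750
import Mathlib
-- import your own Groth.Agent.* helpers here

set_option autoImplicit false
universe u
open CAlg

namespace Groth.Agent.S15750

open HahnSeries

lemma key {R : Type u} [CommRing R] (x y : LaurentSeries R) (hxy : x * y = 1) (p : Ideal R)
    [hp : p.IsPrime] :
    ∃ n m : ℤ, n + m = 0 ∧ x.coeff n ∉ p ∧ (∀ j < n, x.coeff j ∈ p) ∧ y.coeff m ∉ p ∧
      (∀ j < m, y.coeff j ∈ p) := by
  classical
  have hx : {n | x.coeff n ∉ p}.Nonempty := by
    by_contra h
    rw [Set.not_nonempty_iff_eq_empty] at h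
    have hall : ∀ n, x.coeff n ∈ p := fun n => by
      by_contra hn
      exact (Set.eq_empty_iff_forall_notMem.mp h n) hn
    have h1 : (x * y).coeff 0 ∈ p := by
      rw [HahnSeries.coeff_mul]
      exact Ideal.sum_mem _ fun ij _ => Ideal.mul_mem_right _ _ (hall _)
    rw [hxy, HahnSeries.coeff_one, if_pos rfl] at h1
    exact hp.ne_top ((Ideal.eq_top_iff_one _).mpr h1)
  have hy : {n | y.coeff n ∉ p}.Nonempty := by
    by_contra h
    rw [Set.not_nonempty_iff_eq_empty] at h
    have hall : ∀ n, y.coeff n ∈ p := fun n => by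
      by_contra hn
      exact (Set.eq_empty_iff_forall_notMem.mp h n) hn
    have h1 : (x * y).coeff 0 ∈ p := by
      rw [HahnSeries.coeff_mul]
      exact Ideal.sum_mem _ fun ij _ => Ideal.mul_mem_left _ _ (hall _)
    rw [hxy, HahnSeries.coeff_one, if_pos rfl] at h1
    exact hp.ne_top ((Ideal.eq_top_iff_one _).mpr h1)
  have hxwf : {n | x.coeff n ∉ p}.IsWF := x.isWF_support.mono (fun n hn => by
    rw [HahnSeries.mem_support]
    intro h0
    apply hn
    rw [h0]
    exact p.zero_mem)
  have hywf : {n | y.coeff n ∉ p}.IsWF := y.isWF_support.mono (fun n hn => by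
    rw [HahnSeries.mem_support]
    intro h0
    apply hn
    rw [h0]
    exact p.zero_mem)
  obtain ⟨n, hn, hnmin⟩ : ∃ n, x.coeff n ∉ p ∧ ∀ j < n, x.coeff j ∈ p := by
    refine ⟨hxwf.min hx, hxwf.min_mem hx, fun j hj => ?_⟩
    by_contra h
    exact hxwf.not_lt_min hx h hj
  obtain ⟨m, hm, hmmin⟩ : ∃ m, y.coeff m ∉ p ∧ ∀ j < m, y.coeff j ∈ p := by
    refine ⟨hywf.min hy, hywf.min_mem hy, fun j hj => ?_⟩
    by_contra h
    exact hywf.not_lt_min hy h hj
  refine ⟨n, m, ?_, hn, hnmin, hm, hmmin⟩
  by_contra hne
  have h1 : (x * y).coeff (n + m) - x.coeff n * y.coeff m ∈ p := by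
    rw [HahnSeries.coeff_mul]
    have hmem : (n, m) ∈ Finset.antidiagonal x.isPWO_support y.isPWO_support (n + m) := by
      rw [Finset.mem_antidiagonal]
      refine ⟨?_, ?_, rfl⟩
      · rw [HahnSeries.mem_support]
        intro h0
        apply hn
        rw [h0]
        exact p.zero_mem
      · rw [HahnSeries.mem_support]
        intro h0
        apply hm
        rw [h0]
        exact p.zero_mem
    rw [← Finset.add_sum_erase _ _ hmem]
    simp only [add_sub_cancel_left]
    apply Ideal.sum_mem
    intro ij hij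
    rw [Finset.mem_erase, Finset.mem_antidiagonal] at hij
    obtain ⟨hne', -, -, hsum⟩ := hij
    by_cases h : ij.1 < n
    · exact Ideal.mul_mem_right _ _ (hnmin _ h)
    · have h3 : ij.2 < m := by
        rcases lt_or_eq_of_le (not_lt.mp h) with h2 | h2
        · omega
        · exfalso
          apply hne'
          ext
          · exact h2.symm
          · simp only
            omega
      exact Ideal.mul_mem_left _ _ (hmmin _ h3)
  rw [hxy, HahnSeries.coeff_one, if_neg hne, zero_sub, neg_mem_iff] at h1
  rcases hp.mem_or_mem h1 with h | h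
  exacts [hn h, hm h]

lemma key2 {R : Type u} [CommRing R] (x y : LaurentSeries R) (hxy : x * y = 1) (p : Ideal R)
    [hp : p.IsPrime] (j : ℤ) (h1 : x.coeff j ∉ p) (h2 : y.coeff (-j) ∉ p) :
    ∀ i < j, x.coeff i ∈ p := by
  obtain ⟨n, m, hnm, hn, hnmin, hm, hmmin⟩ := key x y hxy p
  have h3 : n ≤ j := by
    by_contra h
    exact h1 (hnmin j (not_le.mp h))
  have h4 : m ≤ -j := by
    by_contra h
    exact h2 (hmmin (-j) (not_le.mp h))
  have h5 : n = j := by omega
  subst h5
  exact hnmin

/-- Let R be a nonzero reduced commutative ring with no idempotents other than 0 and 1. Then every unit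
of the Laurent series ring R((t)) is t^n · u for a unique integer n and a unique unit u of the power
series ring R[[t]]. (The published statement is for an arbitrary torus T over a reduced ring R, with
n replaced by a locally constant integer-valued function on Spec R, i.e. a point of the cocharacter
lattice; this row is the case where T is the multiplicative group and Spec R is connected, to which
the published proof reduces.) -/
theorem result (R : Type u) [CommRing R]
    [IsReduced R] [Nontrivial R] (hconn : ∀ e : R, IsIdempotentElem e → e = 0 ∨ e = 1)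
    (f : (LaurentSeries R)ˣ) :
    ∃! p : ℤ × (PowerSeries R)ˣ,
      (f : LaurentSeries R) = HahnSeries.single p.1 (1 : R) * HahnSeries.ofPowerSeries ℤ R (p.2 : PowerSeries R) := by
  classical
  set x : LaurentSeries R := (f : LaurentSeries R) with hxdef
  set y : LaurentSeries R := ((f⁻¹ : (LaurentSeries R)ˣ) : LaurentSeries R) with hydef
  have hxy : x * y = 1 := f.mul_inv
  have hcoe : ∀ (u : PowerSeries R) (i : ℤ), (HahnSeries.ofPowerSeries ℤ R u).coeff i =
      if i < 0 then 0 else PowerSeries.coeff i.natAbs u := fun u i => PowerSeries.coeff_coe (f := u) i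
  obtain ⟨p0⟩ : Nonempty (PrimeSpectrum R) := inferInstance
  haveI := p0.2
  obtain ⟨k, m0, hkm, hk1, hk2, hk3, hk4⟩ := key x y hxy p0.asIdeal
  have hm0 : m0 = -k := by omega
  subst hm0
  set e0 := x.coeff k * y.coeff (-k) with he0
  have hmemS : ∀ (j : ℤ) (q : PrimeSpectrum R),
      q ∈ (PrimeSpectrum.basicOpen (x.coeff j * y.coeff (-j)) : Set (PrimeSpectrum R)) ↔
        x.coeff j ∉ q.asIdeal ∧ y.coeff (-j) ∉ q.asIdeal := by
    intro j q
    rw [SetLike.mem_coe, PrimeSpectrum.mem_basicOpen, q.2.mul_mem_iff_mem_or_mem, not_or]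
  have hcompl : (PrimeSpectrum.basicOpen e0 : Set (PrimeSpectrum R))ᶜ =
      ⋃ j ∈ {j : ℤ | j ≠ k}, (PrimeSpectrum.basicOpen (x.coeff j * y.coeff (-j)) : Set _) := by
    ext q
    haveI := q.2
    simp only [Set.mem_compl_iff, Set.mem_iUnion, Set.mem_setOf_eq, exists_prop]
    constructor
    · intro hq
      obtain ⟨n, m, hnm, h1, h2, h3, h4⟩ := key x y hxy q.asIdeal
      have hm : m = -n := by omega
      subst hm
      refine ⟨n, ?_, (hmemS n q).mpr ⟨h1, h3⟩⟩
      rintro rfl
      exact hq ((hmemS n q).mpr ⟨h1, h3⟩)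
    · rintro ⟨j, hj, hqj⟩ hq
      rw [hmemS] at hqj hq
      have h1 := key2 x y hxy q.asIdeal j hqj.1 hqj.2
      have h2 := key2 x y hxy q.asIdeal k hq.1 hq.2
      rcases lt_trichotomy j k with h | h | h
      · exact hqj.1 (h2 j h)
      · exact hj h
      · exact hq.1 (h1 k h)
  have hclopen : IsClopen (PrimeSpectrum.basicOpen e0 : Set (PrimeSpectrum R)) := by
    refine ⟨?_, (PrimeSpectrum.basicOpen e0).2⟩
    rw [← isOpen_compl_iff, hcompl]
    exact isOpen_biUnion fun j _ => (PrimeSpectrum.basicOpen _).2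
  obtain ⟨e, he, hSe⟩ := PrimeSpectrum.exists_idempotent_basicOpen_eq_of_isClopen hclopen
  have hp0 : p0 ∈ (PrimeSpectrum.basicOpen e0 : Set (PrimeSpectrum R)) :=
    (hmemS k p0).mpr ⟨hk1, hk3⟩
  have hall : ∀ q : PrimeSpectrum R, x.coeff k ∉ q.asIdeal ∧ y.coeff (-k) ∉ q.asIdeal := by
    intro q
    rw [← hmemS, hSe]
    rcases hconn e he with rfl | rfl
    · rw [hSe] at hp0
      simp at hp0
    · simp
  have hzero : ∀ j < k, x.coeff j = 0 := by
    intro j hj
    apply IsNilpotent.eq_zero
    rw [nilpotent_iff_mem_prime]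
    intro J hJ
    exact key2 x y hxy J k (hall ⟨J, hJ⟩).1 (hall ⟨J, hJ⟩).2 j hj
  have hunit : IsUnit (x.coeff k) := by
    by_contra h
    obtain ⟨I, hI, hmem⟩ := exists_max_ideal_of_mem_nonunits h
    exact (hall ⟨I, hI.isPrime⟩).1 hmem
  set u : PowerSeries R := PowerSeries.mk (fun i => x.coeff (k + i)) with hu
  have huu : IsUnit u := by
    rw [PowerSeries.isUnit_iff_constantCoeff]
    have : PowerSeries.constantCoeff u = x.coeff k := by
      rw [← PowerSeries.coeff_zero_eq_constantCoeff_apply, hu, PowerSeries.coeff_mk]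
      simp
    rw [this]
    exact hunit
  have hform : ∀ (k' : ℤ) (u' : PowerSeries R) (n : ℤ),
      (HahnSeries.single k' (1 : R) * HahnSeries.ofPowerSeries ℤ R u').coeff n =
        if n - k' < 0 then 0 else PowerSeries.coeff (n - k').natAbs u' := by
    intro k' u' n
    rw [HahnSeries.coeff_single_mul, one_mul, hcoe]
  refine ⟨(k, huu.unit), ?_, ?_⟩
  · change x = _
    ext n
    simp only [IsUnit.unit_spec]
    rw [hform]
    split_ifs with h
    · exact hzero n (by omega)
    · rw [hu, PowerSeries.coeff_mk]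
      congr 1
      have : ((n - k).natAbs : ℤ) = n - k := Int.natAbs_of_nonneg (by omega)
      omega
  · rintro ⟨k', u'⟩ hku
    change x = _ at hku
    simp only at hku
    have hu'unit : IsUnit (PowerSeries.constantCoeff (u' : PowerSeries R)) :=
      PowerSeries.isUnit_iff_constantCoeff.mp u'.isUnit
    have hxk' : x.coeff k' = PowerSeries.constantCoeff (u' : PowerSeries R) := by
      rw [hku, hform]
      simp
    have hk'k : k' = k := by
      rcases lt_trichotomy k' k with h | h | h
      · exfalso
        rw [hzero k' h] at hxk'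
        rw [← hxk'] at hu'unit
        exact not_isUnit_zero hu'unit
      · exact h
      · exfalso
        have : x.coeff k = 0 := by
          rw [hku, hform, if_pos (by omega)]
        rw [this] at hunit
        exact not_isUnit_zero hunit
    subst hk'k
    have hu'u : (u' : PowerSeries R) = u := by
      ext i
      rw [hu, PowerSeries.coeff_mk, hku, hform]
      have h1 : ¬ (k' + (i : ℤ) - k' < 0) := by omega
      rw [if_neg h1]
      congr 1
      have : k' + (i : ℤ) - k' = (i : ℤ) := by ring
      rw [this, Int.natAbs_natCast]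
    ext
    · rfl
    · simp only [IsUnit.unit_spec]
      rw [hu'u]

end Groth.Agent.S15750
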