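import Groth.Statements.S15754
import Mathlib
import Groth.Agent.H13.HorrocksLaurent

set_option autoImplicit false
universe u
open TensorProduct
open CAlg

namespace Groth.Agent.S15754

/-- For an arbitrary commutative ring R, non-isomorphic finitely generated projective R-modules cannot
become isomorphic over the Laurent series ring R((t)): for an R-algebra L that is R-isomorphic to
R((t)), if L ⊗_R M ≅ L ⊗_R N as L-modules then M ≅ N. (L is R((t)) up to an R-algebra isomorphism;
it is kept abstract only so that the L-module structure on L ⊗_R M elaborates.) -/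
theorem result (R : Type u) [CommRing R]
    (L : Type u) [CommRing L] [Algebra R L] (eL : L ≃ₐ[R] LaurentSeries R)
    (M N : Type u) [AddCommGroup M] [Module R M] [Module.Finite R M] [Module.Projective R M]
    [AddCommGroup N] [Module R N] [Module.Finite R N] [Module.Projective R N]
    (e : L ⊗[R] M ≃ₗ[L] L ⊗[R] N) :
    Nonempty (M ≃ₗ[R] N) := by
  classical
  obtain ⟨m, pM, iM, -, -, hM⟩ := Module.Finite.exists_comp_eq_id_of_projective R M
  obtain ⟨m', pN, iN, -, -, hN⟩ := Module.Finite.exists_comp_eq_id_of_projective R N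
  have hE : Matrix.toLin' (LinearMap.toMatrix' (iM ∘ₗ pM)) = iM ∘ₗ pM := Matrix.toLin'_toMatrix' _
  have hE' : Matrix.toLin' (LinearMap.toMatrix' (iN ∘ₗ pN)) = iN ∘ₗ pN :=
    Matrix.toLin'_toMatrix' _
  have he := Groth.Agent.H13.Horrocks.idem_of_split iM pM hM _ hE
  have he' := Groth.Agent.H13.Horrocks.idem_of_split iN pN hN _ hE'
  obtain ⟨iB, pB, hB, hEB⟩ :=
    Groth.Agent.H13.Horrocks.baseChange_split (R' := L) iM pM hM _ hE
  obtain ⟨iB', pB', hB', hEB'⟩ :=
    Groth.Agent.H13.Horrocks.baseChange_split (R' := L) iN pN hN _ hE'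
  have hrel := Groth.Agent.H13.Horrocks.rel_of_equiv iB pB hB iB' pB' hB' _ _ hEB hEB' e
  have hrel2 := hrel.map (eL.toAlgHom.toRingHom)
  rw [Groth.Agent.H13.Horrocks.mcomp, Groth.Agent.H13.Horrocks.mcomp] at hrel2
  have hcomp : (eL.toAlgHom.toRingHom).comp (algebraMap R L) =
      (algebraMap (PowerSeries R) (LaurentSeries R)).comp
        (PowerSeries.C : R →+* PowerSeries R) := by
    apply RingHom.ext
    intro r
    show eL (algebraMap R L r) = _
    rw [eL.commutes]
    rfl
  rw [hcomp] at hrel2
  have hfin := Groth.Agent.H13.Horrocks.rel_of_rel_laurentSeries _ _ he he' hrel2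
  exact Groth.Agent.H13.Horrocks.equiv_of_rel iM pM hM iN pN hN _ _ hE hE' hfin

end Groth.Agent.S15754
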