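import Groth.Statements.S15759
import Mathlib
import Groth.Agent.H13.ZarLaurent

set_option autoImplicit false
universe u
open Polynomial TensorProduct
open CAlg

namespace Groth.Agent.S15759

/-- Let R be a ring, L = R(t) the localisation of R[t] at the monoid generated by t and the polynomials
with constant term 1 (that is, (R[t]_{1+tR[t]})[1/t]), and L' an L-algebra identified with R((t))
compatibly with R[t] → R((t)). Then (b) finitely generated projective L-modules that become
isomorphic over L' are isomorphic, and (c) every stably free L'-module is the base change of a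
stably free L-module. -/
theorem result (R : Type u) [CommRing R]
    (L : Type u) [CommRing L] [Algebra R[X] L]
    [IsLocalization (Submonoid.closure ({f : R[X] | f.coeff 0 = 1} ∪ {X})) L]
    (L' : Type u) [CommRing L'] [Algebra L L'] (e : L' ≃+* LaurentSeries R)
    (he : ∀ p : R[X], e (algebraMap L L' (algebraMap R[X] L p)) =
      HahnSeries.ofPowerSeries ℤ R (Polynomial.coeToPowerSeries.ringHom p)) :
    (∀ (M N : Type u) [AddCommGroup M] [Module L M] [Module.Finite L M] [Module.Projective L M]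
        [AddCommGroup N] [Module L N] [Module.Finite L N] [Module.Projective L N],
        Nonempty (L' ⊗[L] M ≃ₗ[L'] L' ⊗[L] N) → Nonempty (M ≃ₗ[L] N)) ∧
    (∀ (M' : Type u) [AddCommGroup M'] [Module L' M'] [Module.Finite L' M'],
        (∃ n m : ℕ, Nonempty ((M' × (Fin n → L')) ≃ₗ[L'] (Fin m → L'))) →
        ∃ (M : Type u) (_ : AddCommGroup M) (_ : Module L M), Module.Finite L M ∧
          (∃ n m : ℕ, Nonempty ((M × (Fin n → L)) ≃ₗ[L] (Fin m → L))) ∧
          Nonempty (L' ⊗[L] M ≃ₗ[L'] M')) := by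
  classical
  obtain ⟨eh, hehdef⟩ : ∃ eh : L' →+* LaurentSeries R, eh = (e : L' →+* LaurentSeries R) :=
    ⟨_, rfl⟩
  obtain ⟨es, hesdef⟩ : ∃ es : LaurentSeries R →+* L', es = (e.symm : LaurentSeries R →+* L') :=
    ⟨_, rfl⟩
  have hes : es.comp eh = RingHom.id L' := by
    rw [hehdef, hesdef]; apply RingHom.ext; intro x; simp
  have hZ : Groth.Agent.H13.Horrocks.ZarPair (eh.comp (algebraMap L L'))
      (HahnSeries.ofPowerSeries ℤ R).range (HahnSeries.ofPowerSeries ℤ R PowerSeries.X) := by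
    apply Groth.Agent.H13.Horrocks.zarPair_laurent (R := R) L
    intro p
    rw [hehdef]
    exact he p
  have hmapid : ∀ {k l : ℕ} (Mx : Matrix (Fin k) (Fin l) L'), (Mx.map eh).map es = Mx := by
    intro k l Mx
    rw [Groth.Agent.H13.Horrocks.mcomp, hes]
    ext i j
    simp
  constructor
  · intro M N _ _ _ _ _ _ _ _ hf
    obtain ⟨f⟩ := hf
    obtain ⟨m, pM, iM, -, -, hM⟩ := Module.Finite.exists_comp_eq_id_of_projective L M
    obtain ⟨m', pN, iN, -, -, hN⟩ := Module.Finite.exists_comp_eq_id_of_projective L N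
    have hE : Matrix.toLin' (LinearMap.toMatrix' (iM ∘ₗ pM)) = iM ∘ₗ pM :=
      Matrix.toLin'_toMatrix' _
    have hE' : Matrix.toLin' (LinearMap.toMatrix' (iN ∘ₗ pN)) = iN ∘ₗ pN :=
      Matrix.toLin'_toMatrix' _
    have he1 := Groth.Agent.H13.Horrocks.idem_of_split iM pM hM _ hE
    have he2 := Groth.Agent.H13.Horrocks.idem_of_split iN pN hN _ hE'
    obtain ⟨iB, pB, hB, hEB⟩ :=
      Groth.Agent.H13.Horrocks.baseChange_split (R' := L') iM pM hM _ hE
    obtain ⟨iB', pB', hB', hEB'⟩ :=
      Groth.Agent.H13.Horrocks.baseChange_split (R' := L') iN pN hN _ hE'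
    have hrel := Groth.Agent.H13.Horrocks.rel_of_equiv iB pB hB iB' pB' hB' _ _ hEB hEB' f
    have hrel2 := hrel.map eh
    rw [Groth.Agent.H13.Horrocks.mcomp, Groth.Agent.H13.Horrocks.mcomp] at hrel2
    have hfin := hZ.rel_of_rel_map _ _ he1 he2 hrel2
    exact Groth.Agent.H13.Horrocks.equiv_of_rel iM pM hM iN pN hN _ _ hE hE' hfin
  · intro M' _ _ _ hsf
    obtain ⟨n, m, ⟨φ⟩⟩ := hsf
    obtain ⟨i, hidef⟩ : ∃ i : M' →ₗ[L'] (Fin m → L'),
        i = φ.toLinearMap ∘ₗ LinearMap.inl L' M' (Fin n → L') := ⟨_, rfl⟩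
    obtain ⟨p, hpdef⟩ : ∃ p : (Fin m → L') →ₗ[L'] M',
        p = LinearMap.fst L' M' (Fin n → L') ∘ₗ φ.symm.toLinearMap := ⟨_, rfl⟩
    have hpi : p ∘ₗ i = LinearMap.id := by
      apply LinearMap.ext
      intro x
      rw [hidef, hpdef]
      simp
    obtain ⟨A'₀, hA'₀⟩ : ∃ A'₀ : Matrix (Fin n) (Fin m) L',
        A'₀ = LinearMap.toMatrix' (LinearMap.snd L' M' (Fin n → L') ∘ₗ φ.symm.toLinearMap) :=
      ⟨_, rfl⟩
    obtain ⟨B'₀, hB'₀⟩ : ∃ B'₀ : Matrix (Fin m) (Fin n) L',
        B'₀ = LinearMap.toMatrix' (φ.toLinearMap ∘ₗ LinearMap.inr L' M' (Fin n → L')) :=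
      ⟨_, rfl⟩
    have hAB₀ : A'₀ * B'₀ = 1 := by
      rw [hA'₀, hB'₀, ← LinearMap.toMatrix'_comp, ← LinearMap.toMatrix'_id]
      congr 1
      apply LinearMap.ext
      intro x
      simp
    have hE'₀ : Matrix.toLin' (1 - B'₀ * A'₀) = i ∘ₗ p := by
      rw [map_sub, Matrix.toLin'_one, Matrix.toLin'_mul, hA'₀, hB'₀, Matrix.toLin'_toMatrix',
        Matrix.toLin'_toMatrix', hidef, hpdef]
      apply LinearMap.ext
      intro x
      simp only [LinearMap.sub_apply, LinearMap.id_apply, LinearMap.comp_apply,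
        LinearEquiv.coe_coe, LinearMap.inl_apply, LinearMap.inr_apply, LinearMap.fst_apply,
        LinearMap.snd_apply]
      rw [sub_eq_iff_eq_add, ← map_add]
      simp
    obtain ⟨A, B₂, hAB₂, hrelΛ⟩ := hZ.exists_descent (A'₀.map eh) (B'₀.map eh)
      (by rw [← Matrix.map_mul, hAB₀, Matrix.map_one eh (map_zero eh) (map_one eh)])
    obtain ⟨E, hEdef⟩ : ∃ E, E = 1 - B₂ * A := ⟨_, rfl⟩
    rw [← hEdef] at hrelΛ
    have hEid : E * E = E := by
      rw [hEdef, Matrix.sub_mul, Matrix.one_mul, Matrix.mul_sub, Matrix.mul_one,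
        Matrix.mul_assoc B₂ A (B₂ * A), ← Matrix.mul_assoc A B₂ A, hAB₂, Matrix.one_mul, sub_self,
        sub_zero]
    have hAE : A * E = 0 := by
      rw [hEdef, Matrix.mul_sub, Matrix.mul_one, ← Matrix.mul_assoc, hAB₂, Matrix.one_mul, sub_self]
    have hEB : E * B₂ = 0 := by
      rw [hEdef, Matrix.sub_mul, Matrix.one_mul, Matrix.mul_assoc, hAB₂, Matrix.mul_one, sub_self]
    refine ⟨LinearMap.range (Matrix.toLin' E), inferInstance, inferInstance, inferInstance,
      ⟨n, m, ⟨?_⟩⟩, ?_⟩
    · refine LinearEquiv.ofLinear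
        (LinearMap.coprod (LinearMap.range (Matrix.toLin' E)).subtype (Matrix.toLin' B₂))
        (LinearMap.prod (Matrix.toLin' E).rangeRestrict (Matrix.toLin' A)) ?_ ?_
      · apply LinearMap.ext
        intro x
        show (Matrix.toLin' E x) + Matrix.toLin' B₂ (Matrix.toLin' A x) = x
        rw [← Matrix.toLin'_mul_apply, ← LinearMap.add_apply, ← map_add, hEdef, sub_add_cancel,
          Matrix.toLin'_one]
        rfl
      · apply LinearMap.ext
        rintro ⟨⟨y, y', rfl⟩, z⟩
        apply Prod.ext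
        · apply Subtype.ext
          show Matrix.toLin' E (Matrix.toLin' E y' + Matrix.toLin' B₂ z) = Matrix.toLin' E y'
          rw [map_add, ← Matrix.toLin'_mul_apply, hEid, ← Matrix.toLin'_mul_apply, hEB, map_zero,
            LinearMap.zero_apply, add_zero]
        · show Matrix.toLin' A (Matrix.toLin' E y' + Matrix.toLin' B₂ z) = z
          rw [map_add, ← Matrix.toLin'_mul_apply, hAE, ← Matrix.toLin'_mul_apply, hAB₂, map_zero,
            LinearMap.zero_apply, zero_add, Matrix.toLin'_one]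
          rfl
    · have hP : (Matrix.toLin' E).rangeRestrict ∘ₗ (LinearMap.range (Matrix.toLin' E)).subtype =
          LinearMap.id := by
        apply LinearMap.ext
        rintro ⟨x, y, rfl⟩
        apply Subtype.ext
        show Matrix.toLin' E (Matrix.toLin' E y) = Matrix.toLin' E y
        rw [← Matrix.toLin'_mul_apply, hEid]
      have hE0' : Matrix.toLin' E = (LinearMap.range (Matrix.toLin' E)).subtype ∘ₗ
          (Matrix.toLin' E).rangeRestrict := by
        apply LinearMap.ext; intro x; rfl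
      obtain ⟨iT, pT, hT, hET⟩ :=
        Groth.Agent.H13.Horrocks.baseChange_split (R' := L') _ _ hP E hE0'
      have hrelL' : Groth.Agent.H13.Horrocks.Rel (E.map (algebraMap L L')) (1 - B'₀ * A'₀) := by
        have h1 := hrelΛ.map es
        rw [Groth.Agent.H13.Horrocks.mcomp, ← RingHom.comp_assoc, hes, RingHom.id_comp] at h1
        have h2 : (1 - B'₀.map eh * A'₀.map eh).map es = 1 - B'₀ * A'₀ := by
          rw [Groth.Agent.H13.Horrocks.msub, Matrix.map_one es (map_zero es) (map_one es),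
            Matrix.map_mul, hmapid, hmapid]
        rw [h2] at h1
        exact h1
      exact Groth.Agent.H13.Horrocks.equiv_of_rel iT pT hT i p hpi _ _ hET hE'₀ hrelL'

end Groth.Agent.S15759
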