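import Groth.Statements.S15765
import Mathlib

set_option autoImplicit false
universe u
open CategoryTheory AlgebraicGeometry
open CAlg

namespace Groth.Agent.S15765

/-- Let B be a topological ring in which the units form an open subset, B₀ → B a ring map with dense
image and X a quasi-affine scheme over B₀. Then the image of any B-point Spec B → X over B₀ is
contained in an affine open of X. (The published statement allows X ind-quasi-affine, i.e. with all
quasi-compact opens quasi-affine; since a B-point lands in a quasi-compact open, this row's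
quasi-affine case carries the content.) -/
theorem result (B : Type u) [CommRing B] [TopologicalSpace B]
    [IsTopologicalRing B] (hB : IsOpen {b : B | IsUnit b})
    (B₀ : Type u) [CommRing B₀] (φ : B₀ →+* B) (hφ : DenseRange φ)
    (X : Scheme.{u}) [X.IsQuasiAffine] (p : X ⟶ Spec (CommRingCat.of B₀))
    (f : Spec (CommRingCat.of B) ⟶ X) (hf : f ≫ p = Spec.map (CommRingCat.ofHom φ)) :
    ∃ U : X.Opens, IsAffineOpen U ∧ Set.range f.base ⊆ (U : Set X) := by
  classical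
  -- the two ring maps
  obtain ⟨ψc, hψc⟩ : ∃ ψc : Γ(X, ⊤) ⟶ CommRingCat.of B,
      ψc = f.appTop ≫ (Scheme.ΓSpecIso (CommRingCat.of B)).hom := ⟨_, rfl⟩
  obtain ⟨πc, hπc⟩ : ∃ πc : CommRingCat.of B₀ ⟶ Γ(X, ⊤),
      πc = (Scheme.ΓSpecIso (CommRingCat.of B₀)).inv ≫ p.appTop := ⟨_, rfl⟩
  have hπψ : πc ≫ ψc = CommRingCat.ofHom φ := by
    have h1 : (f ≫ p).appTop = p.appTop ≫ f.appTop := rfl
    rw [hπc, hψc, Category.assoc, ← Category.assoc p.appTop, ← h1, hf,
      Scheme.ΓSpecIso_naturality, Iso.inv_hom_id_assoc]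
  have hcomp : f ≫ X.toSpecΓ = Spec.map ψc := by
    rw [Scheme.toSpecΓ_naturality, hψc, Spec.map_comp, SpecMap_ΓSpecIso_hom]
  have hpt : ∀ z : Spec (CommRingCat.of B),
      X.toSpecΓ (f z) = PrimeSpectrum.comap ψc.hom z := by
    intro z
    rw [← Scheme.Hom.comp_apply, hcomp]
    rfl
  have hOopen : IsOpen (Set.range X.toSpecΓ) := X.toSpecΓ.isOpenEmbedding.isOpen_range
  have hOcpt : IsCompact (Set.range X.toSpecΓ) := isCompact_range X.toSpecΓ.continuous
  -- cover the image by finitely many basic opens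
  obtain ⟨t, ht⟩ : ∃ t : Finset Γ(X, ⊤),
      (∀ r ∈ t, (PrimeSpectrum.basicOpen r : Set (PrimeSpectrum Γ(X, ⊤))) ⊆
        Set.range X.toSpecΓ) ∧
      Set.range X.toSpecΓ ⊆ ⋃ r ∈ t, (PrimeSpectrum.basicOpen r : Set (PrimeSpectrum Γ(X, ⊤))) := by
    obtain ⟨s, hs⟩ := hOcpt.elim_finite_subcover
      (fun r : {r : Γ(X, ⊤) // (PrimeSpectrum.basicOpen r : Set (PrimeSpectrum Γ(X, ⊤))) ⊆
        Set.range X.toSpecΓ} => (PrimeSpectrum.basicOpen r.1 : Set (PrimeSpectrum Γ(X, ⊤))))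
      (fun r => (PrimeSpectrum.basicOpen r.1).2) (by
        intro x hx
        obtain ⟨_, ⟨_, ⟨r, rfl⟩, rfl⟩, hxr, hrO⟩ := (PrimeSpectrum.isBasis_basic_opens
          (R := Γ(X, ⊤))).exists_subset_of_mem_open hx hOopen
        exact Set.mem_iUnion.mpr ⟨⟨r, hrO⟩, hxr⟩)
    refine ⟨s.image Subtype.val, ?_, ?_⟩
    · intro r hr
      obtain ⟨r', _, rfl⟩ := Finset.mem_image.mp hr
      exact r'.2
    · intro x hx
      obtain ⟨r', hr', hxr'⟩ := Set.mem_iUnion₂.mp (hs hx)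
      exact Set.mem_iUnion₂.mpr ⟨r'.1, Finset.mem_image_of_mem _ hr', hxr'⟩
  -- the images of these functions generate the unit ideal of `B`
  have hspan : Ideal.span (Set.range (fun r : t => ψc.hom r.1)) = ⊤ := by
    by_contra hne
    obtain ⟨m, hm, hle⟩ := Ideal.exists_le_maximal _ hne
    let z : Spec (CommRingCat.of B) := ⟨m, hm.isPrime⟩
    have hzO : X.toSpecΓ (f z) ∈ Set.range X.toSpecΓ := ⟨f z, rfl⟩
    obtain ⟨r, hr, hzr⟩ := Set.mem_iUnion₂.mp (ht.2 hzO)
    rw [hpt z] at hzr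
    have h1 : r ∉ (PrimeSpectrum.comap ψc.hom z).asIdeal := hzr
    exact h1 (show ψc.hom r ∈ m from hle (Ideal.subset_span ⟨⟨r, hr⟩, rfl⟩))
  obtain ⟨c, hc⟩ := Ideal.mem_span_range_iff_exists_fun.mp
    (hspan ▸ Submodule.mem_top : (1 : B) ∈ Ideal.span (Set.range (fun r : t => ψc.hom r.1)))
  -- approximate the coefficients
  obtain ⟨Ψ, hΨ⟩ : ∃ Ψ : (t → B) → B, Ψ = fun y => ∑ i, y i * ψc.hom i.1 := ⟨_, rfl⟩
  have hΨc : Continuous Ψ := by
    rw [hΨ]
    exact continuous_finsetSum _ (fun i _ => (continuous_apply i).mul continuous_const)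
  have hΨopen : IsOpen (Ψ ⁻¹' {b : B | IsUnit b}) := hB.preimage hΨc
  have hcmem : c ∈ Ψ ⁻¹' {b : B | IsUnit b} := by
    show IsUnit (Ψ c)
    rw [hΨ]
    show IsUnit (∑ i, c i * ψc.hom i.1)
    rw [hc]
    exact isUnit_one
  have hdense : DenseRange (Pi.map (fun _ : t => (φ : B₀ → B))) := DenseRange.piMap (fun _ => hφ)
  obtain ⟨a, ha⟩ := hdense.exists_mem_open hΨopen ⟨c, hcmem⟩
  obtain ⟨g, hg⟩ : ∃ g : Γ(X, ⊤), g = ∑ i : t, πc.hom (a i) * i.1 := ⟨_, rfl⟩
  have hψg : ψc.hom g = Ψ (Pi.map (fun _ : t => (φ : B₀ → B)) a) := by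
    rw [hg, hΨ, map_sum]
    refine Finset.sum_congr rfl fun i _ => ?_
    rw [map_mul]
    congr 1
    exact congrArg (fun h : CommRingCat.of B₀ ⟶ CommRingCat.of B => h.hom (a i)) hπψ
  have hgunit : IsUnit (ψc.hom g) := by
    rw [hψg]
    exact ha
  have hgO : (PrimeSpectrum.basicOpen g : Set (PrimeSpectrum Γ(X, ⊤))) ⊆ Set.range X.toSpecΓ := by
    intro P hP
    have hP' : g ∉ P.asIdeal := hP
    have hex : ∃ i : t, i.1 ∉ P.asIdeal := by
      by_contra hcon
      push Not at hcon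
      apply hP'
      rw [hg]
      exact Ideal.sum_mem _ fun i _ => Ideal.mul_mem_left _ _ (hcon i)
    obtain ⟨i, hi⟩ := hex
    exact ht.1 i.1 i.2 hi
  have haff : IsAffineOpen (X.basicOpen g) := by
    rw [← X.toSpecΓ_preimage_basicOpen g,
      ← Scheme.Hom.isAffineOpen_iff_of_isOpenImmersion X.toSpecΓ]
    have himg : X.toSpecΓ ''ᵁ (X.toSpecΓ ⁻¹ᵁ PrimeSpectrum.basicOpen g) =
        PrimeSpectrum.basicOpen g :=
      SetLike.coe_injective (Set.image_preimage_eq_of_subset hgO)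
    rw [himg]
    exact IsAffineOpen.Spec_basicOpen g
  refine ⟨X.basicOpen g, haff, ?_⟩
  rintro _ ⟨z, rfl⟩
  show f z ∈ X.basicOpen g
  rw [← X.toSpecΓ_preimage_basicOpen g]
  show X.toSpecΓ (f z) ∈ PrimeSpectrum.basicOpen g
  rw [hpt z]
  show g ∉ (PrimeSpectrum.comap ψc.hom z).asIdeal
  intro hmem
  have hmem' : ψc.hom g ∈ z.asIdeal := hmem
  exact z.isPrime.ne_top (Ideal.eq_top_of_isUnit_mem _ hmem' hgunit)

end Groth.Agent.S15765
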