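import Groth.Statements.S15768
import Mathlib
import Groth.Agent.H13.HensIdem
import Groth.Agent.S15749

set_option autoImplicit false
universe u
open Polynomial
open CAlg

namespace Groth.Agent.S15768

/-- For any ring R and a henselization B of R[t] along (t), every idempotent of B[1/t] comes from a
unique idempotent of R under R → R[t] → B → B[1/t]. -/
theorem result (R : Type u) [CommRing R]
    (B : Type u) [CommRing B] [Algebra R[X] B] (hB : Hens2.IsPairHenselization R[X] (Ideal.span {(X : R[X])}) B)
    (e : Localization.Away (algebraMap R[X] B X)) (he : IsIdempotentElem e) :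
    ∃! r : R, IsIdempotentElem r ∧
      algebraMap B (Localization.Away (algebraMap R[X] B X)) (algebraMap R[X] B (Polynomial.C r)) = e := by
  classical
  -- the canonical map `B → R[[t]]`
  have hle : (Ideal.span {(X : R[X])}).map (algebraMap R[X] (PowerSeries R)) ≤
      Ideal.span {(PowerSeries.X : PowerSeries R)} := by
    rw [Ideal.map_span, Set.image_singleton, PowerSeries.algebraMap_apply']
    simp
  obtain ⟨g, hg, -⟩ := hB.2 (PowerSeries R) (Ideal.span {(PowerSeries.X : PowerSeries R)})
    (algebraMap R[X] (PowerSeries R)) inferInstance hle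
  obtain ⟨ψ, hψ⟩ : ∃ ψ : B →ₐ[R[X]] PowerSeries R, ∀ b, ψ b = g b :=
    ⟨{ g with commutes' := fun p => RingHom.congr_fun hg p }, fun _ => rfl⟩
  have hψt : ψ (algebraMap R[X] B X) = PowerSeries.X := by
    rw [ψ.commutes, PowerSeries.algebraMap_apply']
    simp
  have hunit : IsUnit (((HahnSeries.ofPowerSeries ℤ R).comp ψ.toRingHom)
      (algebraMap R[X] B X)) := by
    have h1 : IsUnit (algebraMap (PowerSeries R) (LaurentSeries R) PowerSeries.X) :=
      IsLocalization.map_units (LaurentSeries R)
        (⟨PowerSeries.X, 1, by simp⟩ : Submonoid.powers (PowerSeries.X : PowerSeries R))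
    rw [LaurentSeries.coe_algebraMap] at h1
    change IsUnit (HahnSeries.ofPowerSeries ℤ R (ψ (algebraMap R[X] B X)))
    rw [hψt]
    exact h1
  obtain ⟨j, hjdef⟩ : ∃ j : Localization.Away (algebraMap R[X] B X) →+* LaurentSeries R,
      j = IsLocalization.Away.lift (algebraMap R[X] B X) hunit := ⟨_, rfl⟩
  have hj : ∀ b : B, j (algebraMap B (Localization.Away (algebraMap R[X] B X)) b) =
      HahnSeries.ofPowerSeries ℤ R (ψ b) := by
    intro b
    rw [hjdef, IsLocalization.Away.lift_eq]
    rfl
  have hH := Groth.Agent.H13.Horrocks.hensZarPair_henselianLaurent R B hB ψ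
    (Localization.Away (algebraMap R[X] B X)) j hj
  have hje : IsIdempotentElem (j e) := he.map j
  obtain ⟨r, ⟨hr, hre⟩, huniq⟩ := Groth.Agent.S15749.result R (j e) hje
  have hjC : ∀ r' : R, j (algebraMap B (Localization.Away (algebraMap R[X] B X))
      (algebraMap R[X] B (Polynomial.C r'))) = HahnSeries.C r' := by
    intro r'
    rw [hj, ψ.commutes, PowerSeries.algebraMap_apply']
    simp
  refine ⟨r, ⟨hr, ?_⟩, ?_⟩
  · have hid : IsIdempotentElem (algebraMap B (Localization.Away (algebraMap R[X] B X))
        (algebraMap R[X] B (Polynomial.C r))) :=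
      ((hr.map Polynomial.C).map (algebraMap R[X] B)).map _
    exact hH.idem_inj hid.eq he.eq ((hjC r).trans hre)
  · rintro r' ⟨hr', hre'⟩
    apply huniq
    refine ⟨hr', ?_⟩
    rw [← hjC r', hre']

end Groth.Agent.S15768
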