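import Groth.Statements.S15769
import Mathlib
-- import your own Groth.Agent.* helpers here

set_option autoImplicit false
universe u
open CategoryTheory AlgebraicGeometry
open CAlg

namespace Groth.Agent.S15769


section ring
variable {A A' : Type u} [CommRing A] [CommRing A'] (φ : A →+* A') (t : A)

theorem tors_zero (e : A) (h : ∃ m : ℕ, t ^ m * e = 0) :
    algebraMap A (Localization.Away t) e = 0 := by
  obtain ⟨m, hm⟩ := h
  exact (IsLocalization.map_eq_zero_iff (Submonoid.powers t) (Localization.Away t) e).mpr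
    ⟨⟨t ^ m, pow_mem (Submonoid.mem_powers t) m⟩, hm⟩

theorem tors_of_zero (e : A) (h : algebraMap A (Localization.Away t) e = 0) :
    ∃ m : ℕ, t ^ m * e = 0 := by
  obtain ⟨m, hm⟩ := (IsLocalization.map_eq_zero_iff (Submonoid.powers t) (Localization.Away t) e).mp h
  obtain ⟨n, hn⟩ := (Submonoid.mem_powers_iff _ _).mp m.2
  exact ⟨n, by rw [hn]; exact hm⟩

theorem bl_inj
    (htor : ∀ a' : A', (∃ m : ℕ, φ t ^ m * a' = 0) → ∃! a : A, (∃ m : ℕ, t ^ m * a = 0) ∧ φ a = a')
    (a : A) (h1 : φ a = 0) (h2 : algebraMap A (Localization.Away t) a = 0) : a = 0 := by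
  have ht := tors_of_zero t a h2
  obtain ⟨a₀, -, huniq⟩ := htor 0 ⟨0, by simp⟩
  have e1 : a = a₀ := huniq a ⟨ht, h1⟩
  have e2 : (0 : A) = a₀ := huniq 0 ⟨⟨0, by simp⟩, map_zero φ⟩
  rw [e1, ← e2]

theorem awayMap_alg (x : A) :
    Localization.awayMap φ t (algebraMap A (Localization.Away t) x) =
      algebraMap A' (Localization.Away (φ t)) (φ x) := by
  simp [Localization.awayMap, IsLocalization.Away.map, IsLocalization.map_eq]

theorem bl_surj
    (hq : ∀ m : ℕ, Function.Bijective
      (Ideal.quotientMap (Ideal.map φ (Ideal.span {t} ^ m)) φ Ideal.le_comap_map))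
    (htor : ∀ a' : A', (∃ m : ℕ, φ t ^ m * a' = 0) → ∃! a : A, (∃ m : ℕ, t ^ m * a = 0) ∧ φ a = a')
    (a' : A') (b : Localization.Away t)
    (hab : algebraMap A' (Localization.Away (φ t)) a' = Localization.awayMap φ t b) :
    ∃ a : A, φ a = a' ∧ algebraMap A (Localization.Away t) a = b := by
  obtain ⟨n, c, hc⟩ := IsLocalization.Away.surj t b
  -- e' is torsion
  have h0 : algebraMap A' (Localization.Away (φ t)) (φ t ^ n * a' - φ c) = 0 := by
    rw [map_sub, map_mul, hab, ← awayMap_alg φ t c, ← hc, map_mul, map_pow, map_pow,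
      awayMap_alg φ t t]
    ring
  obtain ⟨e, ⟨he, hφe⟩, -⟩ := htor _ (tors_of_zero (φ t) _ h0)
  have hmem : c + e ∈ Ideal.span {t} ^ n := by
    rw [← Ideal.Quotient.eq_zero_iff_mem]
    apply (hq n).1
    rw [Ideal.quotientMap_mk, map_zero, Ideal.Quotient.eq_zero_iff_mem]
    have h3 : φ (c + e) = φ (t ^ n) * a' := by rw [map_add, hφe, map_pow]; ring
    rw [h3]
    exact Ideal.mul_mem_right _ _
      (Ideal.mem_map_of_mem φ (Ideal.pow_mem_pow (Ideal.mem_span_singleton_self t) n))
  rw [Ideal.span_singleton_pow, Ideal.mem_span_singleton'] at hmem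
  obtain ⟨a₁, ha₁⟩ := hmem
  have h4 : φ t ^ n * (a' - φ a₁) = 0 := by
    have h5 : φ (a₁ * t ^ n) = φ (c + e) := by rw [ha₁]
    rw [map_mul, map_pow, map_add, hφe] at h5
    linear_combination (-1 : A') * h5
  obtain ⟨e₂, ⟨he₂, hφe₂⟩, -⟩ := htor _ ⟨n, h4⟩
  refine ⟨a₁ + e₂, by rw [map_add, hφe₂]; ring, ?_⟩
  rw [map_add, tors_zero t e₂ he₂, add_zero]
  have hu : IsUnit (algebraMap A (Localization.Away t) t ^ n) :=
    (IsLocalization.Away.algebraMap_isUnit t).pow n
  rw [← hu.mul_left_inj, hc]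
  have h6 : algebraMap A (Localization.Away t) (a₁ * t ^ n) =
      algebraMap A (Localization.Away t) (c + e) := by rw [ha₁]
  rw [map_mul, map_pow, map_add, tors_zero t e he, add_zero] at h6
  exact h6

theorem exists_prime
    (hq1 : Function.Bijective
      (Ideal.quotientMap (Ideal.map φ (Ideal.span {t} ^ 1)) φ Ideal.le_comap_map))
    (𝔭 : Ideal A) [h𝔭 : 𝔭.IsPrime] (ht : t ∈ 𝔭) :
    ∃ 𝔭' : Ideal A', 𝔭'.IsPrime ∧ 𝔭'.comap φ = 𝔭 := by
  have hI : Ideal.span {t} ^ 1 ≤ 𝔭 := by
    rw [pow_one, Ideal.span_singleton_le_iff_mem]; exact ht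
  let e := RingEquiv.ofBijective _ hq1
  have hP : (𝔭.map (Ideal.Quotient.mk (Ideal.span {t} ^ 1))).IsPrime :=
    Ideal.map_isPrime_of_surjective Ideal.Quotient.mk_surjective (by rw [Ideal.mk_ker]; exact hI)
  refine ⟨(𝔭.map (Ideal.Quotient.mk (Ideal.span {t} ^ 1))).comap
    ((e.symm : _ →+* _).comp (Ideal.Quotient.mk (Ideal.map φ (Ideal.span {t} ^ 1)))),
    Ideal.comap_isPrime _ _, ?_⟩
  ext a
  rw [Ideal.mem_comap, Ideal.mem_comap]
  have h1 : ((e.symm : _ →+* _).comp (Ideal.Quotient.mk (Ideal.map φ (Ideal.span {t} ^ 1)))) (φ a)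
      = Ideal.Quotient.mk (Ideal.span {t} ^ 1) a := by
    rw [RingHom.comp_apply, RingHom.coe_coe, RingEquiv.symm_apply_eq]
    simp only [e, RingEquiv.ofBijective_apply, Ideal.quotientMap_mk]
  rw [h1]
  exact Ideal.mem_quotient_iff_mem hI

end ring



/-- Case of a quasi-affine X over U = Spec A: let φ : A → A' and t ∈ A be such that A/t^m → A'/t^m is
bijective for every m and φ restricts to a bijection between the t-power-torsion submodules; let X
be a quasi-affine scheme over Spec A. Then sections of X over Spec A correspond bijectively to pairs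
of an A'-point and an A[1/t]-point of X over A that agree over A'[1/t]. (The published statement
allows a flat A-scheme U as base and X either ind-quasi-affine or subprojective over U; this row is
U = Spec A with X quasi-affine.) -/
theorem result (A A' : Type u) [CommRing A] [CommRing A']
    (φ : A →+* A') (t : A)
    (hq : ∀ m : ℕ, Function.Bijective (Ideal.quotientMap (Ideal.map φ (Ideal.span {t} ^ m)) φ Ideal.le_comap_map))
    (htor : ∀ a' : A', (∃ m : ℕ, φ t ^ m * a' = 0) → ∃! a : A, (∃ m : ℕ, t ^ m * a = 0) ∧ φ a = a')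
    (X : Scheme.{u}) [X.IsQuasiAffine] (p : X ⟶ Spec (CommRingCat.of A)) :
    (∀ s₁ s₂ : Spec (CommRingCat.of A) ⟶ X, s₁ ≫ p = 𝟙 _ → s₂ ≫ p = 𝟙 _ →
        Spec.map (CommRingCat.ofHom φ) ≫ s₁ = Spec.map (CommRingCat.ofHom φ) ≫ s₂ →
        Spec.map (CommRingCat.ofHom (algebraMap A (Localization.Away t))) ≫ s₁ =
          Spec.map (CommRingCat.ofHom (algebraMap A (Localization.Away t))) ≫ s₂ →
        s₁ = s₂) ∧
    (∀ (x' : Spec (CommRingCat.of A') ⟶ X) (xt : Spec (CommRingCat.of (Localization.Away t)) ⟶ X),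
        x' ≫ p = Spec.map (CommRingCat.ofHom φ) →
        xt ≫ p = Spec.map (CommRingCat.ofHom (algebraMap A (Localization.Away t))) →
        Spec.map (CommRingCat.ofHom (algebraMap A' (Localization.Away (φ t)))) ≫ x' =
          Spec.map (CommRingCat.ofHom (Localization.awayMap φ t)) ≫ xt →
        ∃ s : Spec (CommRingCat.of A) ⟶ X, s ≫ p = 𝟙 _ ∧
          Spec.map (CommRingCat.ofHom φ) ≫ s = x' ∧
          Spec.map (CommRingCat.ofHom (algebraMap A (Localization.Away t))) ≫ s = xt) := by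
  have hinj := bl_inj φ t htor
  have hsurj := bl_surj φ t hq htor
  have hinj' : ∀ a b : A, φ a = φ b →
      algebraMap A (Localization.Away t) a = algebraMap A (Localization.Away t) b → a = b :=
    fun a b h1 h2 => sub_eq_zero.mp
      (hinj (a - b) (by rw [map_sub, h1, sub_self]) (by rw [map_sub, h2, sub_self]))
  obtain ⟨j, hj⟩ : ∃ j : X ⟶ Spec Γ(X, ⊤), j = X.toSpecΓ := ⟨_, rfl⟩
  haveI : IsOpenImmersion j := by rw [hj]; infer_instance
  constructor
  · intro s₁ s₂ _ _ h1 h2
    rw [← cancel_mono j]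
    obtain ⟨ψ₁, hψ₁⟩ := Spec.map_surjective (s₁ ≫ j)
    obtain ⟨ψ₂, hψ₂⟩ := Spec.map_surjective (s₂ ≫ j)
    have e1 : ψ₁ ≫ CommRingCat.ofHom φ = ψ₂ ≫ CommRingCat.ofHom φ := by
      apply Spec.map_injective
      rw [Spec.map_comp, Spec.map_comp, hψ₁, hψ₂, ← Category.assoc, ← Category.assoc, h1]
    have e2 : ψ₁ ≫ CommRingCat.ofHom (algebraMap A (Localization.Away t)) =
        ψ₂ ≫ CommRingCat.ofHom (algebraMap A (Localization.Away t)) := by
      apply Spec.map_injective
      rw [Spec.map_comp, Spec.map_comp, hψ₁, hψ₂, ← Category.assoc, ← Category.assoc, h2]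
    have : ψ₁ = ψ₂ := by
      ext r
      exact hinj' _ _ (congrArg (fun f => f.hom r) e1) (congrArg (fun f => f.hom r) e2)
    rw [← hψ₁, ← hψ₂, this]
  · intro x' xt hx' hxt hcompat
    obtain ⟨ψ', hψ'⟩ := Spec.map_surjective (x' ≫ j)
    obtain ⟨ψt, hψt⟩ := Spec.map_surjective (xt ≫ j)
    have hc : ψ' ≫ CommRingCat.ofHom (algebraMap A' (Localization.Away (φ t))) =
        ψt ≫ CommRingCat.ofHom (Localization.awayMap φ t) := by
      apply Spec.map_injective
      rw [Spec.map_comp, Spec.map_comp, hψ', hψt, ← Category.assoc, ← Category.assoc, hcompat]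
    have hc' : ∀ r, algebraMap A' (Localization.Away (φ t)) (ψ'.hom r) =
        Localization.awayMap φ t (ψt.hom r) := fun r => congrArg (fun f => f.hom r) hc
    choose ψf hψf1 hψf2 using fun r => hsurj (ψ'.hom r) (ψt.hom r) (hc' r)
    let ψ : Γ(X, ⊤) →+* A :=
      { toFun := ψf
        map_one' := by
          show ψf 1 = 1
          exact hinj' _ _ (by rw [hψf1, map_one, map_one]) (by rw [hψf2, map_one, map_one])
        map_mul' := fun x y => by
          show ψf (x * y) = ψf x * ψf y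
          exact hinj' _ _ (by rw [hψf1, map_mul, map_mul, hψf1, hψf1])
            (by rw [hψf2, map_mul, map_mul, hψf2, hψf2])
        map_zero' := by
          show ψf 0 = 0
          exact hinj' _ _ (by rw [hψf1, map_zero, map_zero]) (by rw [hψf2, map_zero, map_zero])
        map_add' := fun x y => by
          show ψf (x + y) = ψf x + ψf y
          exact hinj' _ _ (by rw [hψf1, map_add, map_add, hψf1, hψf1])
            (by rw [hψf2, map_add, map_add, hψf2, hψf2]) }
    let Ψ : Γ(X, ⊤) ⟶ CommRingCat.of A := CommRingCat.ofHom ψ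
    have hcomp1 : Ψ ≫ CommRingCat.ofHom φ = ψ' := by
      ext r; exact hψf1 r
    have hcomp2 : Ψ ≫ CommRingCat.ofHom (algebraMap A (Localization.Away t)) = ψt := by
      ext r; exact hψf2 r
    have hs1 : Spec.map (CommRingCat.ofHom φ) ≫ Spec.map Ψ = x' ≫ j := by
      rw [← hψ', ← Spec.map_comp, hcomp1]
    have hs2 : Spec.map (CommRingCat.ofHom (algebraMap A (Localization.Away t))) ≫ Spec.map Ψ =
        xt ≫ j := by
      rw [← hψt, ← Spec.map_comp, hcomp2]
    have hrange : Set.range (Spec.map Ψ) ⊆ Set.range j := by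
      rintro _ ⟨𝔭, rfl⟩
      by_cases ht : t ∈ (show PrimeSpectrum A from 𝔭).asIdeal
      · obtain ⟨𝔭', h𝔭', hcm⟩ := exists_prime φ t (hq 1) (show PrimeSpectrum A from 𝔭).asIdeal ht
        have h𝔭eq : Spec.map (CommRingCat.ofHom φ) (show Spec (CommRingCat.of A') from ⟨𝔭', h𝔭'⟩) = 𝔭 :=
          PrimeSpectrum.ext hcm
        rw [← h𝔭eq, ← Scheme.Hom.comp_apply, hs1, Scheme.Hom.comp_apply]
        exact ⟨_, rfl⟩
      · have hr := PrimeSpectrum.localization_away_comap_range (Localization.Away t) t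
        have hmem : (show PrimeSpectrum A from 𝔭) ∈
            Set.range (PrimeSpectrum.comap (algebraMap A (Localization.Away t))) := by
          rw [hr]; exact ht
        obtain ⟨𝔮, h𝔮⟩ := hmem
        have h𝔭eq : Spec.map (CommRingCat.ofHom (algebraMap A (Localization.Away t)))
            (show Spec (CommRingCat.of (Localization.Away t)) from 𝔮) = 𝔭 := h𝔮
        rw [← h𝔭eq, ← Scheme.Hom.comp_apply, hs2, Scheme.Hom.comp_apply]
        exact ⟨_, rfl⟩
    obtain ⟨s, hsj⟩ : ∃ s : Spec (CommRingCat.of A) ⟶ X, s ≫ j = Spec.map Ψ :=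
      ⟨IsOpenImmersion.lift j (Spec.map Ψ) hrange, IsOpenImmersion.lift_fac _ _ _⟩
    have h1 : Spec.map (CommRingCat.ofHom φ) ≫ s = x' := by
      rw [← cancel_mono j, Category.assoc, hsj, hs1]
    have h2 : Spec.map (CommRingCat.ofHom (algebraMap A (Localization.Away t))) ≫ s = xt := by
      rw [← cancel_mono j, Category.assoc, hsj, hs2]
    refine ⟨s, ?_, h1, h2⟩
    obtain ⟨θ, hθ⟩ := Spec.map_surjective (s ≫ p)
    have e1 : θ ≫ CommRingCat.ofHom φ = CommRingCat.ofHom φ := by
      apply Spec.map_injective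
      rw [Spec.map_comp, hθ, ← Category.assoc, h1, hx']
    have e2 : θ ≫ CommRingCat.ofHom (algebraMap A (Localization.Away t)) =
        CommRingCat.ofHom (algebraMap A (Localization.Away t)) := by
      apply Spec.map_injective
      rw [Spec.map_comp, hθ, ← Category.assoc, h2, hxt]
    have hθid : θ = 𝟙 _ := by
      ext a
      exact hinj' _ _ (congrArg (fun f => f.hom a) e1) (congrArg (fun f => f.hom a) e2)
    rw [← hθ, hθid, Spec.map_id]

end Groth.Agent.S15769
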