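import Groth.Statements.S1577
import Groth.Agent.H8.QCohStalk
import Mathlib.RingTheory.Ideal.AssociatedPrime.Localization
import Mathlib.AlgebraicGeometry.Noetherian

set_option autoImplicit false
universe u
open CategoryTheory CategoryTheory.Limits AlgebraicGeometry
open Divisors

namespace Groth.Agent.S1577

/-- Let X be locally Noetherian and F quasi-coherent. A point of the support of F which is not a
specialisation of a different point of the support is an associated point of F. -/
theorem result (X : Scheme.{u}) [IsLocallyNoetherian X]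
    (F : X.Modules) (hF : Coh.IsQCoh F) (x : X) (hx : x ∈ CohB1.support F)
    (hmax : ∀ y ∈ CohB1.support F, y ⤳ x → y = x) : Curv2.IsAssPoint F x := by
  haveI : F.IsQuasicoherent := hF
  obtain ⟨_, ⟨U, hU, rfl⟩, hxU, -⟩ := X.isBasis_affineOpens.exists_subset_of_mem_open
    (Set.mem_univ x) isOpen_univ
  letI := X.presheaf.algebra_section_stalk ⟨x, hxU⟩
  haveI := hU.isLocalization_stalk ⟨x, hxU⟩
  haveI : IsNoetherianRing Γ(X, U) := IsLocallyNoetherian.component_noetherian ⟨U, hU⟩
  haveI : IsNoetherianRing (X.presheaf.stalk x) :=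
    IsLocalization.isNoetherianRing (hU.primeIdealOf ⟨x, hxU⟩).asIdeal.primeCompl _ inferInstance
  letI := H8.moduleSectionStalk F x hxU
  haveI := H8.isScalarTower_sectionStalk F x hxU
  haveI := H8.isLocalizedModule_germₗ F hU x hxU
  haveI : Nontrivial (F.presheaf.stalk x) := not_subsingleton_iff_nontrivial.mp hx
  obtain ⟨Q, hQ⟩ := associatedPrimes.nonempty (X.presheaf.stalk x) (F.presheaf.stalk x)
  haveI hQprime : Q.IsPrime := hQ.isPrime
  set p := hU.primeIdealOf ⟨x, hxU⟩ with hp
  have hq := Module.associatedPrimes.comap_mem_associatedPrimes_of_mem_associatedPrimes_of_isLocalizedModule_of_fg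
    p.asIdeal.primeCompl (H8.germₗ F x hxU) Q hQ
    ((isNoetherianRing_iff_ideal_fg Γ(X, U)).mp inferInstance _)
  set q := Q.comap (algebraMap Γ(X, U) (X.presheaf.stalk x)) with hqdef
  obtain ⟨hqprime, n, hn⟩ := isAssociatedPrime_iff.mp hq
  -- `q ≤ p`
  have hqp : q ≤ p.asIdeal := by
    intro a ha
    by_contra hcon
    have hu : IsUnit (algebraMap Γ(X, U) (X.presheaf.stalk x) a) :=
      IsLocalization.map_units (X.presheaf.stalk x) (⟨a, hcon⟩ : p.asIdeal.primeCompl)
    exact hQprime.ne_top (Ideal.eq_top_of_isUnit_mem _ ha hu)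
  -- the point `y` of `U` corresponding to `q`
  let q' : PrimeSpectrum Γ(X, U) := ⟨q, hqprime⟩
  have hyU : hU.fromSpec q' ∈ U := by
    have : hU.fromSpec q' ∈ Set.range hU.fromSpec := ⟨q', rfl⟩
    rw [hU.range_fromSpec] at this
    exact this
  have hpx : hU.fromSpec p = x := hU.fromSpec_primeIdealOf ⟨x, hxU⟩
  have hsp : hU.fromSpec q' ⤳ x := by
    rw [← hpx]
    have : q' ⤳ p := (PrimeSpectrum.le_iff_specializes q' p).mp hqp
    exact this.map hU.fromSpec.continuous
  have hinj : Function.Injective hU.fromSpec := hU.fromSpec.isOpenEmbedding.injective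
  have hq'eq : hU.primeIdealOf ⟨hU.fromSpec q', hyU⟩ = q' :=
    hinj (hU.fromSpec_primeIdealOf ⟨hU.fromSpec q', hyU⟩)
  -- `y` lies in the support
  have hysupp : hU.fromSpec q' ∈ CohB1.support F := by
    intro hsub
    have h0 : F.presheaf.germ U (hU.fromSpec q') hyU n = 0 := Subsingleton.elim _ _
    obtain ⟨a, hya, han⟩ :=
      H8.exists_smul_eq_zero_of_germ_eq_zero F hU (hU.fromSpec q') hyU n h0
    have ha1 : a ∈ (hU.primeIdealOf ⟨hU.fromSpec q', hyU⟩).asIdeal.primeCompl :=
      (H8.mem_basicOpen_iff_notMem_primeIdealOf hU _ hyU a).mp hya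
    rw [hq'eq] at ha1
    apply ha1
    change a ∈ q
    rw [hn, Submodule.mem_colon_singleton]
    exact han
  have hyx : hU.fromSpec q' = x := hmax _ hysupp hsp
  have hqeq : q = p.asIdeal := by
    have : q' = p := hinj (hyx.trans hpx.symm)
    exact congrArg PrimeSpectrum.asIdeal this
  -- conclude
  have hQmax : Q = IsLocalRing.maximalIdeal (X.presheaf.stalk x) := by
    rw [← IsLocalization.map_comap p.asIdeal.primeCompl (X.presheaf.stalk x) Q]
    change Ideal.map _ q = _
    rw [hqeq]
    exact IsLocalization.AtPrime.map_eq_maximalIdeal p.asIdeal (X.presheaf.stalk x)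
  rw [hQmax] at hQ
  exact hQ

end Groth.Agent.S1577
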