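import Groth.Statements.S15770
import Mathlib.Topology.Algebra.Module.ModuleTopology
import Mathlib.Topology.Instances.Matrix
import Mathlib.RingTheory.Finiteness.Projective
import Mathlib.LinearAlgebra.Matrix.NonsingularInverse
import Mathlib.Tactic

set_option autoImplicit false
universe u
open CAlg

namespace Groth.Agent.S15770

/-- Let B be a topological ring with Bˣ ⊂ B open and M, M' finitely generated projective B-modules, and
endow Hom_B(M, M') with the module topology (the canonical topology of a finite module). Then the
set of surjective B-linear maps M → M' is open. -/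
theorem result (B : Type u) [CommRing B] [TopologicalSpace B]
    [IsTopologicalRing B] (hB : IsOpen {b : B | IsUnit b})
    (M M' : Type u) [AddCommGroup M] [Module B M] [Module.Finite B M] [Module.Projective B M]
    [AddCommGroup M'] [Module B M'] [Module.Finite B M'] [Module.Projective B M']
    [TopologicalSpace (M →ₗ[B] M')] [IsModuleTopology B (M →ₗ[B] M')] :
    IsOpen {f : M →ₗ[B] M' | Function.Surjective f} := by
  classical
  rw [isOpen_iff_forall_mem_open]
  intro f₀ hf₀
  obtain ⟨s, hs⟩ := Module.projective_lifting_property f₀ LinearMap.id hf₀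
  obtain ⟨n, p, i, _, _, hpi⟩ := Module.Finite.exists_comp_eq_id_of_projective B M'
  have hpi' : ∀ z, p (i z) = z := fun z => LinearMap.congr_fun hpi z
  let φ : (M →ₗ[B] M') →ₗ[B] Matrix (Fin n) (Fin n) B :=
    { toFun := fun f => LinearMap.toMatrix' (i ∘ₗ f ∘ₗ s ∘ₗ p)
      map_add' := fun f g => by
        rw [← map_add]
        congr 1
        apply LinearMap.ext
        intro v
        simp
      map_smul' := fun c f => by
        rw [RingHom.id_apply, ← map_smul]
        congr 1
        apply LinearMap.ext
        intro v
        simp }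
  let C : Matrix (Fin n) (Fin n) B := LinearMap.toMatrix' (LinearMap.id - i ∘ₗ p)
  let F : (M →ₗ[B] M') → B := fun f => (φ f + C).det
  have hφc : Continuous φ := IsModuleTopology.continuous_of_linearMap φ
  have hF : Continuous F := (hφc.add continuous_const).matrix_det
  refine ⟨F ⁻¹' {b | IsUnit b}, ?_, hB.preimage hF, ?_⟩
  · intro f hf
    have hf' : IsUnit (φ f + C).det := hf
    have hunit : IsUnit (φ f + C) := (Matrix.isUnit_iff_isUnit_det _).2 hf'
    have hsurj : Function.Surjective (φ f + C).mulVec :=
      Matrix.mulVec_surjective_iff_isUnit.2 hunit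
    intro m'
    obtain ⟨v, hv⟩ := hsurj (i m')
    refine ⟨s (p v), ?_⟩
    have hmv : (φ f + C).mulVec v = i (f (s (p v))) + (v - i (p v)) := by
      rw [Matrix.add_mulVec]
      show (LinearMap.toMatrix' (i ∘ₗ f ∘ₗ s ∘ₗ p)).mulVec v +
        (LinearMap.toMatrix' (LinearMap.id - i ∘ₗ p)).mulVec v = _
      rw [LinearMap.toMatrix'_mulVec, LinearMap.toMatrix'_mulVec]
      simp
    rw [hmv] at hv
    have h2 := congrArg p hv
    rw [map_add, map_sub, hpi', hpi', sub_self, add_zero, hpi'] at h2
    exact h2
  · show IsUnit (φ f₀ + C).det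
    have h1 : φ f₀ + C = 1 := by
      show LinearMap.toMatrix' (i ∘ₗ f₀ ∘ₗ s ∘ₗ p) +
        LinearMap.toMatrix' (LinearMap.id - i ∘ₗ p) = 1
      rw [← map_add, ← LinearMap.toMatrix'_id]
      congr 1
      apply LinearMap.ext
      intro v
      have h3 : f₀ (s (p v)) = p v := LinearMap.congr_fun hs (p v)
      simp [h3]
    rw [h1, Matrix.det_one]
    exact isUnit_one

end Groth.Agent.S15770
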