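import Groth.Statements.S15784
import Mathlib.Tactic

set_option autoImplicit false
set_option maxHeartbeats 400000
universe u
open Neron

namespace Groth.Agent.S15784

/-- Let O be a discrete valuation ring with fraction field L and uniformizer ϖ', let ϖ be an element of
the maximal ideal of O, let q = u·ϖ'^n with u a unit of O and n ≥ 1, and let m ≥ 1 be a divisor of
n. Then the following are equivalent: (i) there is a nonzero element z = w·ϖ'^a of L, with w a unit
of O and a an integer congruent to n/m modulo n, and an integer j such that z^m·q^j lies in 1 + ϖO;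
(ii) ϖ'^n/q is an m-th power in the group of units of O/ϖO, that is, u·(y^m + ϖ·r) = 1 for some y, r
∈ O. (The published statement phrases (i) geometrically, as the existence of a point of order m in
the special fibre of the Néron model of the Weil restriction of the Tate curve with parameter q from
L down to a subfield over which L is totally ramified with ϖ a uniformizer of the subfield, whose
image in the component group also has order m; this row states the equivalence between (i) and (ii)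
that the printed argument establishes.) -/
theorem result
    (O : Type u) [CommRing O] [IsDomain O] [IsDiscreteValuationRing O]
    (L : Type u) [Field L] [Algebra O L] [IsFractionRing O L]
    (ϖ' : O) (hϖ' : Irreducible ϖ') (ϖ : O) (hϖ : ϖ ∈ IsLocalRing.maximalIdeal O)
    (n : ℕ) (hn : 1 ≤ n) (u : Oˣ) (q : O) (hq : q = u * ϖ' ^ n)
    (m : ℕ) (hm : 1 ≤ m) (hmn : m ∣ n) :
    (∃ (w : Oˣ) (a j t : ℤ) (r : O), a = (n / m : ℕ) + t * n ∧
        (algebraMap O L w * algebraMap O L ϖ' ^ a) ^ m * algebraMap O L q ^ j = algebraMap O L (1 + ϖ * r)) ↔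
      ∃ y r : O, (u : O) * (y ^ m + ϖ * r) = 1 := by
  classical
  set f := algebraMap O L with hf
  have hinj : Function.Injective f := IsFractionRing.injective O L
  have hϖ'0 : ϖ' ≠ 0 := hϖ'.ne_zero
  have hπ : f ϖ' ≠ 0 := (map_ne_zero_iff f hinj).mpr hϖ'0
  have hfz : ∀ (c : Oˣ) (z : ℤ), f ((c ^ z : Oˣ) : O) = (f (c : O)) ^ z := by
    intro c z
    have h1 : ((Units.map (algebraMap O L).toMonoidHom (c ^ z) : Lˣ) : L) =
        algebraMap O L ((c ^ z : Oˣ) : O) := rfl
    rw [hf, ← h1, map_zpow, Units.val_zpow_eq_zpow_val]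
    rfl
  have hfu : ∀ c : Oˣ, f (c : O) ≠ 0 := fun c => (map_ne_zero_iff f hinj).mpr c.ne_zero
  have hm0 : m ≠ 0 := by omega
  have hnm : (n / m) * m = n := Nat.div_mul_cancel hmn
  have hq' : f q = f u * (f ϖ') ^ n := by rw [hq, map_mul, map_pow]
  constructor
  · rintro ⟨w, a, j, t, r, ha, heq⟩
    have hv : IsUnit (1 + ϖ * r) := by
      have hmem : -(ϖ * r) ∈ nonunits O := by
        rw [← IsLocalRing.mem_maximalIdeal]
        exact (Ideal.neg_mem_iff _).mpr (Ideal.mul_mem_right _ _ hϖ)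
      have := IsLocalRing.isUnit_one_sub_self_of_mem_nonunits _ hmem
      simpa using this
    obtain ⟨v, hv⟩ := hv
    have e1 : (f w * f ϖ' ^ a) ^ m * f q ^ j =
        (f w) ^ m * (f u) ^ j * (f ϖ') ^ (a * m + n * j) := by
      rw [hq', mul_pow, mul_zpow, zpow_add₀ hπ, zpow_mul, zpow_mul, zpow_natCast, zpow_natCast]
      ring
    rw [e1, ← hv] at heq
    set c : Oˣ := w ^ m * u ^ j with hc
    have hcf : f (c : O) = (f w) ^ m * (f u) ^ j := by
      rw [hc, Units.val_mul, map_mul, Units.val_pow_eq_pow_val, map_pow, hfz]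
    rw [← hcf] at heq
    set e : ℤ := a * m + n * j with he
    have he0 : e = 0 := by
      rcases le_or_gt 0 e with hpos | hneg
      · obtain ⟨k, hk⟩ := Int.eq_ofNat_of_zero_le hpos
        rw [hk, zpow_natCast, ← map_pow, ← map_mul] at heq
        have h1 := hinj heq
        have := IsDiscreteValuationRing.unit_mul_pow_congr_pow hϖ' hϖ' c v k 0
          (by rw [h1, pow_zero, mul_one])
        rw [hk, this]; rfl
      · obtain ⟨k, hk⟩ := Int.eq_ofNat_of_zero_le (neg_nonneg.mpr hneg.le)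
        have hek : e = -(k : ℤ) := by omega
        rw [hek, zpow_neg, zpow_natCast] at heq
        have hk0 : (f ϖ') ^ k ≠ 0 := pow_ne_zero _ hπ
        have h1 : f (c : O) = f (v * ϖ' ^ k) := by
          rw [map_mul, map_pow, ← heq]; field_simp
        have h2 := hinj h1
        have := IsDiscreteValuationRing.unit_mul_pow_congr_pow hϖ' hϖ' c v 0 k
          (by rw [pow_zero, mul_one, h2])
        omega
    have hj : j = -1 - t * m := by
      have hnmZ : ((n / m : ℕ) : ℤ) * m = n := by exact_mod_cast hnm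
      have hn' : (0 : ℤ) < n := by exact_mod_cast hn
      have h3 : (n : ℤ) * (1 + t * m + j) = 0 := by
        rw [← he0, he, ha]; linear_combination -hnmZ
      rcases mul_eq_zero.mp h3 with h | h
      · omega
      · omega
    rw [he0, zpow_zero, mul_one] at heq
    have hcv : c = v := Units.ext (hinj heq)
    refine ⟨((w⁻¹ * u ^ t : Oˣ) : O), ((u⁻¹ * v⁻¹ : Oˣ) : O) * r, ?_⟩
    have hu1 : (u : Oˣ) * (w⁻¹ * u ^ t) ^ m = v⁻¹ := by
      rw [← hcv, hc, hj]
      have e1 : (w⁻¹ * u ^ t) ^ m = (w ^ m)⁻¹ * u ^ (t * m) := by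
        rw [mul_pow, inv_pow, ← zpow_natCast (u ^ t) m, ← zpow_mul]
      have e2 : (w ^ m * u ^ (-1 - t * m))⁻¹ = (w ^ m)⁻¹ * (u * u ^ (t * (m : ℤ))) := by
        rw [mul_inv, ← zpow_neg, show -(-1 - t * (m : ℤ)) = 1 + t * m by ring, zpow_add, zpow_one]
      rw [e1, e2, mul_left_comm]
    have hu2 : (u : O) * ((w⁻¹ * u ^ t : Oˣ) : O) ^ m = ((v⁻¹ : Oˣ) : O) := by
      rw [← hu1]; simp only [Units.val_mul, Units.val_pow_eq_pow_val]
    have hu3 : (u : O) * ((u⁻¹ : Oˣ) : O) = 1 := Units.mul_inv u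
    have hv3 : ((v⁻¹ : Oˣ) : O) * (1 + ϖ * r) = 1 := by rw [← hv]; exact Units.inv_mul v
    calc (u : O) * (((w⁻¹ * u ^ t : Oˣ) : O) ^ m + ϖ * (((u⁻¹ * v⁻¹ : Oˣ) : O) * r))
        = (u : O) * ((w⁻¹ * u ^ t : Oˣ) : O) ^ m +
            ((u : O) * ((u⁻¹ : Oˣ) : O)) * (ϖ * ((v⁻¹ : Oˣ) : O) * r) := by
          simp only [Units.val_mul]; ring
      _ = ((v⁻¹ : Oˣ) : O) * (1 + ϖ * r) := by rw [hu2, hu3]; ring
      _ = 1 := hv3
  · rintro ⟨y, r, h⟩
    have hunit : IsUnit (y ^ m + ϖ * r) :=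
      ⟨⟨y ^ m + ϖ * r, u, by rw [mul_comm]; exact h, h⟩, rfl⟩
    have hym : IsUnit (y ^ m) := by
      by_contra hy
      have h1 : y ^ m ∈ IsLocalRing.maximalIdeal O := (IsLocalRing.mem_maximalIdeal _).mpr hy
      have h2 : y ^ m + ϖ * r ∈ IsLocalRing.maximalIdeal O :=
        Ideal.add_mem _ h1 (Ideal.mul_mem_right _ _ hϖ)
      exact (IsLocalRing.mem_maximalIdeal _).mp h2 hunit
    have hy : IsUnit y := (isUnit_pow_iff hm0).mp hym
    obtain ⟨yu, rfl⟩ := hy
    refine ⟨yu⁻¹, ((n / m : ℕ) : ℤ), -1, 0, r * ((yu⁻¹ ^ m : Oˣ) : O), by simp, ?_⟩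
    have hwy : ((yu⁻¹ ^ m : Oˣ) : O) * (yu : O) ^ m = 1 := by
      rw [← Units.val_pow_eq_pow_val, ← Units.val_mul, ← mul_pow, inv_mul_cancel, one_pow, Units.val_one]
    have h4 : f ((yu : O) ^ m + ϖ * r) = (f u)⁻¹ := by
      have : f u * f ((yu : O) ^ m + ϖ * r) = 1 := by rw [← map_mul, h, map_one]
      exact eq_inv_of_mul_eq_one_right this
    have h5 : (1 : O) + ϖ * (r * ((yu⁻¹ ^ m : Oˣ) : O)) =
        ((yu⁻¹ ^ m : Oˣ) : O) * ((yu : O) ^ m + ϖ * r) := by
      rw [mul_add, hwy]; ring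
    rw [h5, map_mul, h4, hq', zpow_natCast, mul_pow, ← pow_mul, hnm, zpow_neg_one,
      Units.val_pow_eq_pow_val, map_pow]
    have := hfu u
    field_simp

end Groth.Agent.S15784
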