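import Groth.Statements.S15787
import Groth.Agent.H81.WildAS

set_option autoImplicit false
universe u
open WildQuot

namespace Groth.Agent.S15787

open MvPolynomial in
/-- Let `k` be a field of characteristic `p > 0`, `n ≥ 2`, `R = k[[x_1, …, x_n]]`, and `a_1, …, a_n ∈ R`
power series with zero constant term. Let `A = R[u_1, …, u_n] / (u_i ^ p - a_i ^ (p-1) u_i - x_i : i
= 1..n)`. Then `A` is a regular local ring and its maximal ideal is generated by the classes of
`u_1, …, u_n`. (The published statement also assumes each `a_i` nonzero; that is not needed for this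
part.) -/
theorem result
    (p : ℕ) [Fact p.Prime] (k : Type u) [Field k] [CharP k p] (n : ℕ) (hn : 2 ≤ n)
    (a : Fin n → MvPowerSeries (Fin n) k)
    (ham : ∀ i, MvPowerSeries.constantCoeff (a i) = 0) :
    let I : Ideal (MvPolynomial (Fin n) (MvPowerSeries (Fin n) k)) :=
      Ideal.span (Set.range fun i : Fin n =>
        X i ^ p - C (a i ^ (p - 1)) * X i - C (MvPowerSeries.X i))
    IsRegularLocalRing (MvPolynomial (Fin n) (MvPowerSeries (Fin n) k) ⧸ I) ∧
      (Ideal.map (Ideal.Quotient.mk I)
        (Ideal.span (Set.range (X : Fin n → MvPolynomial (Fin n) (MvPowerSeries (Fin n) k))))).IsMaximal := by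
  intro I
  have hp : 2 ≤ p := (Fact.out : p.Prime).two_le
  exact ⟨Groth.Agent.H81.ASLocal.isRegularLocalRing (fun i => a i ^ (p - 1))
      (fun i => (MvPowerSeries.X i : MvPowerSeries (Fin n) k)) hp
      (Groth.Agent.H81.WildAS.hc_R hp a ham) (Groth.Agent.H81.WildAS.hd_R k n)
      (Groth.Agent.H81.WildAS.hdim_R k n),
    Groth.Agent.H81.ASLocal.U_isMaximal (fun i => a i ^ (p - 1))
      (fun i => (MvPowerSeries.X i : MvPowerSeries (Fin n) k)) hp (Groth.Agent.H81.WildAS.hd_R k n)⟩

end Groth.Agent.S15787
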