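import Groth.Statements.S15789
import Groth.Agent.H81.WildAS
import Groth.Agent.H81.ASAut

set_option autoImplicit false
universe u
open WildQuot

namespace Groth.Agent.S15789

open MvPolynomial in
/-- Let `k` be a field of characteristic `p > 0`, `n ≥ 2`, `R = k[[x_1, …, x_n]]`, `a_1, …, a_n ∈ R`
nonzero with zero constant term, and `A = R[u_1, …, u_n] / (u_i ^ p - a_i ^ (p-1) u_i - x_i : i =
1..n)`. Then the group of `R`-algebra automorphisms of `A` has exactly `p ^ n` elements, is
commutative and every element has `p`-th power the identity (it is the elementary abelian group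
generated by the substitutions `u_i ↦ u_i + a_i`), and an element of `A` is fixed by every
`R`-algebra automorphism if and only if it comes from `R`. (The published statement says that
`Frac(A)/Frac(R)` is Galois with group `(ℤ/pℤ)^n` and `R = A^H`; this row states it through the
`R`-algebra automorphisms of `A`.) -/
theorem result
    (p : ℕ) [Fact p.Prime] (k : Type u) [Field k] [CharP k p] (n : ℕ) (hn : 2 ≤ n)
    (a : Fin n → MvPowerSeries (Fin n) k)
    (ha0 : ∀ i, a i ≠ 0) (ham : ∀ i, MvPowerSeries.constantCoeff (a i) = 0) :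
    let R := MvPowerSeries (Fin n) k
    let I : Ideal (MvPolynomial (Fin n) R) :=
      Ideal.span (Set.range fun i : Fin n =>
        X i ^ p - C (a i ^ (p - 1)) * X i - C (MvPowerSeries.X i))
    Nat.card ((MvPolynomial (Fin n) R ⧸ I) ≃ₐ[R] (MvPolynomial (Fin n) R ⧸ I)) = p ^ n ∧
      (∀ σ τ : (MvPolynomial (Fin n) R ⧸ I) ≃ₐ[R] (MvPolynomial (Fin n) R ⧸ I), σ * τ = τ * σ) ∧
      (∀ σ : (MvPolynomial (Fin n) R ⧸ I) ≃ₐ[R] (MvPolynomial (Fin n) R ⧸ I), σ ^ p = 1) ∧
      (∀ b : MvPolynomial (Fin n) R ⧸ I,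
        (∀ σ : (MvPolynomial (Fin n) R ⧸ I) ≃ₐ[R] (MvPolynomial (Fin n) R ⧸ I), σ b = b) ↔
          b ∈ Set.range (algebraMap R (MvPolynomial (Fin n) R ⧸ I))) := by
  intro R I
  have hp : 2 ≤ p := (Fact.out : p.Prime).two_le
  haveI : IsDomain (MvPowerSeries (Fin n) k) := NoZeroDivisors.to_isDomain _
  haveI : CharP (MvPowerSeries (Fin n) k) p :=
    charP_of_injective_algebraMap (algebraMap k (MvPowerSeries (Fin n) k)).injective p
  haveI hdom : IsDomain (Groth.Agent.H81.ASAut.Aq p a
      (fun i => (MvPowerSeries.X i : MvPowerSeries (Fin n) k))) :=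
    Groth.Agent.H81.ASLocal.isDomain (fun i => a i ^ (p - 1))
      (fun i => (MvPowerSeries.X i : MvPowerSeries (Fin n) k)) hp
      (Groth.Agent.H81.WildAS.hc_R hp a ham) (Groth.Agent.H81.WildAS.hd_R k n)
      (Groth.Agent.H81.WildAS.hdim_R k n)
  refine ⟨?_, ?_, ?_, ?_⟩
  · have h := Groth.Agent.H81.ASAut.card_aut p a
      (fun i => (MvPowerSeries.X i : MvPowerSeries (Fin n) k)) ha0
    rw [Fintype.card_fin] at h
    exact h
  · exact Groth.Agent.H81.ASAut.aut_comm p a
      (fun i => (MvPowerSeries.X i : MvPowerSeries (Fin n) k)) ha0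
  · exact Groth.Agent.H81.ASAut.aut_pow p a
      (fun i => (MvPowerSeries.X i : MvPowerSeries (Fin n) k)) ha0
  · intro b
    constructor
    · intro hb
      exact Groth.Agent.H81.ASAut.fixed_mem_range p a
        (fun i => (MvPowerSeries.X i : MvPowerSeries (Fin n) k)) ha0 b (fun s => hb _)
    · rintro ⟨r, rfl⟩ σ
      exact σ.commutes r

end Groth.Agent.S15789
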