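import Groth.Statements.S15791
import Mathlib.Tactic
import Mathlib.RingTheory.SimpleModule.Basic
import Mathlib.RingTheory.Ideal.Operations

set_option autoImplicit false
set_option maxHeartbeats 400000
universe u v
open WildQuot

namespace Groth.Agent.S15791

section
variable {A : Type*} [CommRing A]

/-- `ℓ(A/(J, ab)) ≤ ℓ(A/(J, a)) + ℓ(A/(J, b))`. -/
lemma length_mul_le (J : Ideal A) (a b : A) :
    Module.length A (A ⧸ (J ⊔ Ideal.span {a * b})) ≤
      Module.length A (A ⧸ (J ⊔ Ideal.span {a})) + Module.length A (A ⧸ (J ⊔ Ideal.span {b})) := by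
  set Iab : Ideal A := J ⊔ Ideal.span {a * b} with hIab
  set Ia : Ideal A := J ⊔ Ideal.span {a} with hIa
  set Ib : Ideal A := J ⊔ Ideal.span {b} with hIb
  have hle : Iab ≤ Ia := by
    refine sup_le_sup_left ?_ J
    rw [Ideal.span_singleton_le_iff_mem]
    exact Ideal.mul_mem_right _ _ (Ideal.mem_span_singleton_self a)
  -- the factor map
  let g : (A ⧸ Iab) →ₗ[A] (A ⧸ Ia) := Submodule.mapQ Iab Ia LinearMap.id (by simpa using hle)
  have hg : Function.Surjective g := by
    intro y
    obtain ⟨x, rfl⟩ := Submodule.Quotient.mk_surjective _ y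
    exact ⟨Submodule.Quotient.mk x, rfl⟩
  -- multiplication by a
  let h0 : A →ₗ[A] (A ⧸ Iab) := (Submodule.mkQ Iab).comp (LinearMap.mulLeft A a)
  have hker : Ib ≤ LinearMap.ker h0 := by
    intro x hx
    rw [LinearMap.mem_ker]
    change Submodule.Quotient.mk (a * x) = 0
    rw [Submodule.Quotient.mk_eq_zero]
    rw [hIb, Submodule.mem_sup] at hx
    obtain ⟨j, hj, y, hy, rfl⟩ := hx
    rw [Ideal.mem_span_singleton'] at hy
    obtain ⟨c, rfl⟩ := hy
    rw [mul_add]
    refine Ideal.add_mem _ (Ideal.mem_sup_left (Ideal.mul_mem_left _ _ hj)) (Ideal.mem_sup_right ?_)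
    rw [Ideal.mem_span_singleton']
    exact ⟨c, by ring⟩
  let h : (A ⧸ Ib) →ₗ[A] (A ⧸ Iab) := Submodule.liftQ Ib h0 hker
  have hex : Function.Exact h g := by
    rw [LinearMap.exact_iff]
    ext y
    obtain ⟨x, rfl⟩ := Submodule.Quotient.mk_surjective _ y
    rw [LinearMap.mem_ker, LinearMap.mem_range]
    constructor
    · intro hx
      change (Submodule.Quotient.mk x : A ⧸ Ia) = 0 at hx
      rw [Submodule.Quotient.mk_eq_zero, hIa, Submodule.mem_sup] at hx
      obtain ⟨j, hj, y, hy, rfl⟩ := hx
      rw [Ideal.mem_span_singleton'] at hy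
      obtain ⟨c, rfl⟩ := hy
      refine ⟨Submodule.Quotient.mk c, ?_⟩
      change (Submodule.Quotient.mk (a * c) : A ⧸ Iab) = Submodule.Quotient.mk (j + c * a)
      rw [Submodule.Quotient.eq]
      have : a * c - (j + c * a) = -j := by ring
      rw [this]
      exact Ideal.neg_mem_iff _ |>.mpr (Ideal.mem_sup_left hj)
    · rintro ⟨z, hz⟩
      obtain ⟨c, rfl⟩ := Submodule.Quotient.mk_surjective _ z
      rw [← hz]
      change (Submodule.Quotient.mk (a * c) : A ⧸ Ia) = 0
      rw [Submodule.Quotient.mk_eq_zero]
      exact Ideal.mem_sup_right (Ideal.mul_mem_right _ _ (Ideal.mem_span_singleton_self a))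
  have hex' : Function.Exact (LinearMap.range h).subtype g := by
    rw [LinearMap.exact_iff, Submodule.range_subtype]
    exact LinearMap.exact_iff.mp hex
  rw [Module.length_eq_add_of_exact (LinearMap.range h).subtype g (Submodule.subtype_injective _) hg hex',
    add_comm]
  refine add_le_add le_rfl ?_
  exact Module.length_le_of_surjective h.rangeRestrict h.surjective_rangeRestrict

lemma length_prod_le {ι : Type*} (J : Ideal A) (s : Finset ι) (f : ι → A) :
    Module.length A (A ⧸ (J ⊔ Ideal.span {∏ i ∈ s, f i})) ≤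
      ∑ i ∈ s, Module.length A (A ⧸ (J ⊔ Ideal.span {f i})) := by
  classical
  induction s using Finset.induction_on with
  | empty =>
    rw [Finset.sum_empty, nonpos_iff_eq_zero, Module.length_eq_zero_iff,
      Ideal.Quotient.subsingleton_iff, Finset.prod_empty, Ideal.span_singleton_one, sup_top_eq]
  | insert i s hi ih =>
    rw [Finset.prod_insert hi, Finset.sum_insert hi]
    exact (length_mul_le J (f i) _).trans (add_le_add le_rfl ih)

lemma length_congr {I I' : Ideal A} (h : I = I') :
    Module.length A (A ⧸ I) = Module.length A (A ⧸ I') := by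
  subst h; rfl

lemma span_range_succ {n : ℕ} (g : Fin (n + 1) → A) :
    Ideal.span (Set.range g) =
      Ideal.span {g 0} ⊔ Ideal.span (Set.range fun i : Fin n => g i.succ) := by
  rw [← Ideal.span_union]
  congr 1
  ext x
  simp only [Set.mem_range, Fin.exists_fin_succ, Set.singleton_union, Set.mem_insert_iff]
  rw [eq_comm]

lemma length_multi_le {G : Type*} [Fintype G] (n : ℕ) :
    ∀ (J : Ideal A) (f : Fin n → G → A),
      Module.length A (A ⧸ (J ⊔ Ideal.span (Set.range fun i => ∏ σ : G, f i σ))) ≤
        ∑ τ : Fin n → G, Module.length A (A ⧸ (J ⊔ Ideal.span (Set.range fun i => f i (τ i)))) := by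
  induction n with
  | zero =>
    intro J f
    rw [Fintype.sum_unique]
    refine le_of_eq (length_congr ?_)
    rw [Subsingleton.elim (fun i : Fin 0 => ∏ σ : G, f i σ) (fun i => f i ((default : Fin 0 → G) i))]
  | succ n ih =>
    intro J f
    have e1 : J ⊔ Ideal.span (Set.range fun i => ∏ σ : G, f i σ) =
        (J ⊔ Ideal.span (Set.range fun i : Fin n => ∏ σ : G, f i.succ σ)) ⊔
          Ideal.span {∏ σ : G, f 0 σ} := by
      rw [span_range_succ, ← sup_assoc, sup_right_comm]
    rw [length_congr e1]
    refine (length_prod_le _ Finset.univ (f 0)).trans ?_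
    rw [← (Fin.consEquiv (fun _ : Fin (n + 1) => G)).sum_comp, Fintype.sum_prod_type]
    refine Finset.sum_le_sum fun σ _ => ?_
    have e2 : (J ⊔ Ideal.span (Set.range fun i : Fin n => ∏ σ : G, f i.succ σ)) ⊔
          Ideal.span {f 0 σ} =
        (J ⊔ Ideal.span {f 0 σ}) ⊔ Ideal.span (Set.range fun i : Fin n => ∏ σ : G, f i.succ σ) := by
      rw [sup_right_comm]
    rw [length_congr e2]
    refine (ih (J ⊔ Ideal.span {f 0 σ}) (fun i => f i.succ)).trans ?_
    refine le_of_eq (Finset.sum_congr rfl fun τ' _ => length_congr ?_)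
    rw [span_range_succ (fun i => f i ((Fin.consEquiv (fun _ : Fin (n + 1) => G)) (σ, τ') i)),
      ← sup_assoc]
    simp [Fin.consEquiv]

end

/-- Let `A` be a regular local ring of Krull dimension `n` with maximal ideal `m`, let a finite group
`G` of order `g` act on `A` by ring automorphisms, and let `u_1, …, u_n` be an admissible regular
system of parameters: for every choice `σ_1, …, σ_n ∈ G`, the elements `σ_1 u_1, …, σ_n u_n`
generate `m`. With `x_i = ∏_{σ ∈ G} σ u_i` the norms, the length of `A / (x_1, …, x_n)` is at most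
`g ^ n`. (The published statement is for a complete regular local ring containing a `G`-fixed field
of representatives and asserts that the length equals `g ^ n`; this row states the upper bound for
any regular local ring.) -/
theorem result
    (A : Type u) [CommRing A] [IsRegularLocalRing A]
    (G : Type v) [Group G] [Fintype G] [MulSemiringAction G A]
    (n : ℕ) (hn : ringKrullDim A = n) (u : Fin n → A)
    (hu : ∀ τ : Fin n → G,
      Ideal.span (Set.range fun i => τ i • u i) = IsLocalRing.maximalIdeal A) :
    Module.length A (A ⧸ Ideal.span (Set.range fun i => ∏ σ : G, σ • u i)) ≤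
      (Fintype.card G ^ n : ℕ) := by
  have h := length_multi_le (A := A) (G := G) n ⊥ (fun i σ => σ • u i)
  rw [length_congr (bot_sup_eq _).symm]
  refine h.trans ?_
  have h1 : ∀ τ : Fin n → G,
      Module.length A (A ⧸ (⊥ ⊔ Ideal.span (Set.range fun i => τ i • u i))) = 1 := by
    intro τ
    rw [length_congr ((bot_sup_eq _).trans (hu τ)), Module.length_eq_one_iff]
    exact isSimpleModule_iff_quot_maximal.mpr
      ⟨IsLocalRing.maximalIdeal A, inferInstance, ⟨LinearEquiv.refl _ _⟩⟩
  rw [Finset.sum_congr rfl (fun τ _ => h1 τ)]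
  simp only [Finset.sum_const, Finset.card_univ, Fintype.card_pi_const, nsmul_eq_mul, mul_one,
    Fintype.card_fin]
  exact le_rfl

end Groth.Agent.S15791
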