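import Groth.Statements.S15792
import Mathlib

set_option autoImplicit false
set_option maxHeartbeats 400000
universe u v
open WildQuot

namespace Groth.Agent.S15792

section LinAlg

variable {p : ℕ} [Fact p.Prime] {k : Type*} [Field k] [CharP k p] {G : Type*} [Group G] [Finite G]

lemma exists_fixed_ne_zero (hG : IsPGroup p G) {V : Type*} [AddCommGroup V] [Module k V]
    (ρ : G →* Module.End k V) [Nontrivial V] : ∃ v : V, v ≠ 0 ∧ ∀ g, ρ g v = v := by
  classical
  obtain ⟨w, hw⟩ := exists_ne (0 : V)
  letI : Algebra (ZMod p) k := ZMod.algebra k p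
  letI : Module (ZMod p) V := Module.compHom V (algebraMap (ZMod p) k)
  have hsm : ∀ (c : ZMod p) (x : V), c • x = (algebraMap (ZMod p) k c) • x := fun c x => rfl
  have hmul : ∀ (g h : G) (x : V), ρ (g * h) x = ρ g (ρ h x) := fun g h x => by
    rw [map_mul]; rfl
  have hone : ∀ x : V, ρ 1 x = x := fun x => by rw [map_one]; rfl
  let S : Submodule (ZMod p) V := Submodule.span (ZMod p) (Set.range fun g : G => ρ g w)
  have hstab : ∀ (g : G) (x : V), x ∈ S → ρ g x ∈ S := by
    intro g x hx
    induction hx using Submodule.span_induction with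
    | mem x hx =>
      obtain ⟨h, rfl⟩ := hx
      refine Submodule.subset_span ⟨g * h, ?_⟩
      exact hmul g h w
    | zero => rw [map_zero]; exact S.zero_mem
    | add x y _ _ hx hy => rw [map_add]; exact S.add_mem hx hy
    | smul c x _ hx => rw [hsm, map_smul, ← hsm]; exact S.smul_mem c hx
  haveI : Module.Finite (ZMod p) S := Module.Finite.span_of_finite (ZMod p) (Set.finite_range _)
  haveI : Finite S := Module.finite_of_finite (ZMod p)
  letI : MulAction G S :=
    { smul := fun g s => ⟨ρ g s.1, hstab g s.1 s.2⟩
      one_smul := fun s => Subtype.ext (hone s.1)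
      mul_smul := fun g h s => Subtype.ext (hmul g h s.1) }
  have hwS : w ∈ S := Submodule.subset_span ⟨1, hone w⟩
  haveI : Nontrivial S := ⟨⟨⟨w, hwS⟩, 0, fun h => hw (congrArg Subtype.val h)⟩⟩
  have hcard : p ∣ Nat.card S := by
    rw [Module.natCard_eq_pow_finrank (K := ZMod p) (V := S), Nat.card_zmod]
    exact dvd_pow_self p (Module.finrank_pos (R := ZMod p) (M := S)).ne'
  have h0 : (0 : S) ∈ MulAction.fixedPoints G S := fun g => Subtype.ext (map_zero (ρ g))
  obtain ⟨b, hb, hb0⟩ := hG.exists_fixed_point_of_prime_dvd_card_of_fixed_point S hcard h0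
  exact ⟨b.1, fun h => hb0 (Subtype.ext h.symm), fun g => congrArg Subtype.val (hb g)⟩

lemma exists_flag (hG : IsPGroup p G) : ∀ (n : ℕ) (V : Type u) [AddCommGroup V] [Module k V]
    [Module.Finite k V] (ρ : G →* Module.End k V), Module.finrank k V = n →
    ∃ v : Fin n → V, ∀ τ : Fin n → G,
      Submodule.span k (Set.range fun j => ρ (τ j) (v j)) = ⊤ := by
  intro n
  induction n with
  | zero =>
    intro V _ _ _ ρ hn
    haveI : Subsingleton V := Module.finrank_zero_iff.mp hn
    exact ⟨Fin.elim0, fun τ => Subsingleton.elim _ _⟩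
  | succ n ih =>
    intro V _ _ _ ρ hn
    haveI : Nontrivial V := Module.nontrivial_of_finrank_pos (R := k) (by omega)
    obtain ⟨v0, hv0, hfix⟩ := exists_fixed_ne_zero hG ρ
    obtain ⟨P, hP⟩ : ∃ P : Submodule k V, P = Submodule.span k {v0} := ⟨_, rfl⟩
    have hle : ∀ g : G, P ≤ P.comap (ρ g) := by
      intro g x hx
      rw [hP] at hx ⊢
      obtain ⟨c, rfl⟩ := Submodule.mem_span_singleton.mp hx
      rw [Submodule.mem_comap, map_smul, hfix]
      exact Submodule.smul_mem _ c (Submodule.mem_span_singleton_self v0)
    let ρ' : G →* Module.End k (V ⧸ P) :=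
      { toFun := fun g => P.mapQ P (ρ g) (hle g)
        map_one' := by
          apply LinearMap.ext; intro x
          obtain ⟨y, rfl⟩ := P.mkQ_surjective x
          show P.mkQ (ρ 1 y) = P.mkQ y
          rw [map_one]; rfl
        map_mul' := by
          intro g h
          apply LinearMap.ext; intro x
          obtain ⟨y, rfl⟩ := P.mkQ_surjective x
          show P.mkQ (ρ (g * h) y) = P.mkQ (ρ g (ρ h y))
          rw [map_mul]; rfl }
    have hρ' : ∀ (g : G) (y : V), ρ' g (P.mkQ y) = P.mkQ (ρ g y) := fun g y => rfl
    have hfin : Module.finrank k (V ⧸ P) = n := by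
      have h1 := Submodule.finrank_quotient_add_finrank P
      have h2 : Module.finrank k P = 1 := by rw [hP]; exact finrank_span_singleton hv0
      omega
    obtain ⟨v', hv'⟩ := ih (V ⧸ P) ρ' hfin
    have hlift : ∀ j : Fin n, ∃ y : V, P.mkQ y = v' j := fun j => P.mkQ_surjective (v' j)
    choose v'' hv'' using hlift
    refine ⟨Fin.cons v0 v'', fun τ => ?_⟩
    obtain ⟨T, hT⟩ : ∃ T : Submodule k V, T = Submodule.span k
        (Set.range fun j => ρ (τ j) ((Fin.cons v0 v'' : Fin (n + 1) → V) j)) := ⟨_, rfl⟩
    rw [← hT]
    have hPT : P ≤ T := by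
      rw [hP, Submodule.span_le, Set.singleton_subset_iff, hT]
      refine Submodule.subset_span ⟨0, ?_⟩
      simp only [Fin.cons_zero]
      exact hfix _
    have hmap : T.map P.mkQ = ⊤ := by
      rw [eq_top_iff, ← hv' (fun j => τ j.succ), Submodule.span_le]
      rintro _ ⟨j, rfl⟩
      refine ⟨ρ (τ j.succ) (v'' j), ?_, ?_⟩
      · rw [hT]
        refine Submodule.subset_span ⟨j.succ, ?_⟩
        simp only [Fin.cons_succ]
      · rw [← hρ', hv'']
    have h2 := (Submodule.map_mkQ_eq_top P T).mp hmap
    rwa [sup_eq_right.mpr hPT] at h2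

end LinAlg


/-- Let `A` be a regular local ring of Krull dimension `n` and prime characteristic `p`, and let a
finite `p`-group `G` act on `A` by ring automorphisms inducing the identity on the residue field.
Then there is an admissible regular system of parameters: `u_1, …, u_n ∈ A` such that for every
choice `σ_1, …, σ_n ∈ G` the elements `σ_1 u_1, …, σ_n u_n` generate the maximal ideal. (The
published statement is for a complete regular local ring containing a field of representatives fixed
by `G`; this row drops completeness and asks only that `G` act trivially on the residue field.) -/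
theorem result
    (p : ℕ) [Fact p.Prime] (A : Type u) [CommRing A] [IsRegularLocalRing A] [CharP A p]
    (G : Type v) [Group G] [Finite G] [MulSemiringAction G A] (hG : IsPGroup p G)
    (hres : ∀ (σ : G) (a : A), σ • a - a ∈ IsLocalRing.maximalIdeal A)
    (n : ℕ) (hn : ringKrullDim A = n) :
    ∃ u : Fin n → A, ∀ τ : Fin n → G,
      Ideal.span (Set.range fun i => τ i • u i) = IsLocalRing.maximalIdeal A := by
  classical
  haveI : CharP (IsLocalRing.ResidueField A) p := by
    obtain ⟨q, hq⟩ := CharP.exists (IsLocalRing.ResidueField A)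
    have h0 : ((p : ℕ) : IsLocalRing.ResidueField A) = 0 := by
      have h1 : ((p : ℕ) : A) = 0 := CharP.cast_eq_zero A p
      have h := congrArg (IsLocalRing.residue A) h1
      rwa [map_natCast, map_zero] at h
    have hdvd : q ∣ p := (CharP.cast_eq_zero_iff (IsLocalRing.ResidueField A) q p).mp h0
    rcases (Nat.dvd_prime (Fact.out : p.Prime)).mp hdvd with h1 | h1
    · exact absurd h1 (CharP.char_ne_one (IsLocalRing.ResidueField A) q)
    · rw [← h1]; exact hq
  have hGm : ∀ (τ : G) (x : A), x ∈ IsLocalRing.maximalIdeal A →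
      τ • x ∈ IsLocalRing.maximalIdeal A := by
    intro τ x hx
    have := Ideal.add_mem _ (hres τ x) hx
    simpa using this
  have hcomap : ∀ g : G, IsLocalRing.maximalIdeal A ≤
      (IsLocalRing.maximalIdeal A).comap (MulSemiringAction.toRingHom G A g).toIntAlgHom :=
    fun g x hx => hGm g x hx
  obtain ⟨L, hLdef⟩ : ∃ L : G → ((IsLocalRing.maximalIdeal A).Cotangent →ₗ[ℤ]
      (IsLocalRing.maximalIdeal A).Cotangent), L = fun g =>
      Ideal.mapCotangent (IsLocalRing.maximalIdeal A) (IsLocalRing.maximalIdeal A)
        (MulSemiringAction.toRingHom G A g).toIntAlgHom (hcomap g) := ⟨_, rfl⟩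
  have hL : ∀ (g : G) (y : IsLocalRing.maximalIdeal A),
      L g ((IsLocalRing.maximalIdeal A).toCotangent y) =
        (IsLocalRing.maximalIdeal A).toCotangent ⟨g • (y : A), hGm g y y.2⟩ := by
    intro g y; rw [hLdef]; rfl
  have hsm : ∀ (a : A) (z : IsLocalRing.CotangentSpace A),
      IsLocalRing.residue A a • z = a • z :=
    fun a z => algebraMap_smul (IsLocalRing.ResidueField A) a z
  let ρ : G →* Module.End (IsLocalRing.ResidueField A) (IsLocalRing.CotangentSpace A) :=
    { toFun := fun g =>
        { toFun := L g
          map_add' := map_add (L g)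
          map_smul' := by
            intro c x
            obtain ⟨a, rfl⟩ := IsLocalRing.residue_surjective c
            obtain ⟨y, rfl⟩ := Ideal.toCotangent_surjective _ x
            rw [RingHom.id_apply, hsm, ← map_smul, hL, hL, hsm, ← map_smul, Ideal.toCotangent_eq]
            have e : (((⟨g • ((a • y : IsLocalRing.maximalIdeal A) : A), hGm g _ (a • y).2⟩ :
                IsLocalRing.maximalIdeal A) : A) -
                ((a • (⟨g • (y : A), hGm g y y.2⟩ : IsLocalRing.maximalIdeal A) :
                  IsLocalRing.maximalIdeal A) : A)) = (g • a - a) * (g • (y : A)) := by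
              simp only [Submodule.coe_smul, smul_eq_mul, smul_mul']
              ring
            rw [e, pow_two]
            exact Ideal.mul_mem_mul (hres g a) (hGm g y y.2) }
      map_one' := by
        apply LinearMap.ext; intro x
        obtain ⟨y, rfl⟩ := Ideal.toCotangent_surjective _ x
        show L 1 ((IsLocalRing.maximalIdeal A).toCotangent y) =
          (IsLocalRing.maximalIdeal A).toCotangent y
        rw [hL]
        congr 1
        exact Subtype.ext (one_smul G (y : A))
      map_mul' := by
        intro g h
        apply LinearMap.ext; intro x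
        obtain ⟨y, rfl⟩ := Ideal.toCotangent_surjective _ x
        show L (g * h) _ = L g (L h _)
        rw [hL, hL, hL]
        congr 1
        exact Subtype.ext (mul_smul g h (y : A)) }
  have hρ : ∀ (g : G) (y : IsLocalRing.maximalIdeal A),
      ρ g ((IsLocalRing.maximalIdeal A).toCotangent y) =
        (IsLocalRing.maximalIdeal A).toCotangent ⟨g • (y : A), hGm g y y.2⟩ := hL
  have hfr : Module.finrank (IsLocalRing.ResidueField A) (IsLocalRing.CotangentSpace A) = n := by
    have h1 := (IsRegularLocalRing.iff_finrank_cotangentSpace A).mp inferInstance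
    rw [hn] at h1
    exact_mod_cast h1
  obtain ⟨v, hv⟩ := exists_flag (p := p) hG n (IsLocalRing.CotangentSpace A) ρ hfr
  have hlift : ∀ j : Fin n, ∃ y : IsLocalRing.maximalIdeal A,
      (IsLocalRing.maximalIdeal A).toCotangent y = v j :=
    fun j => Ideal.toCotangent_surjective _ (v j)
  choose y hy using hlift
  refine ⟨fun j => (y j : A), fun τ => ?_⟩
  obtain ⟨s, hs⟩ : ∃ s : Set (IsLocalRing.maximalIdeal A),
      s = Set.range fun j : Fin n => (⟨τ j • (y j : A), hGm (τ j) _ (y j).2⟩ :
        IsLocalRing.maximalIdeal A) := ⟨_, rfl⟩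
  have himg : (IsLocalRing.maximalIdeal A).toCotangent '' s =
      Set.range fun j => ρ (τ j) (v j) := by
    rw [hs, ← Set.range_comp]
    congr 1
    funext j
    rw [Function.comp_apply, ← hy j, hρ]
  have hT : Submodule.span (IsLocalRing.ResidueField A)
      ((IsLocalRing.maximalIdeal A).toCotangent '' s) = ⊤ := by
    rw [himg]; exact hv τ
  have hspan : Submodule.span A s = ⊤ := IsLocalRing.CotangentSpace.span_image_eq_top_iff.mp hT
  have h3 := congrArg (Submodule.map (IsLocalRing.maximalIdeal A).subtype) hspan
  rw [Submodule.map_span, Submodule.map_top, Submodule.range_subtype, hs, ← Set.range_comp] at h3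
  exact h3

end Groth.Agent.S15792
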