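import Groth.Statements.S15793
import Mathlib

set_option autoImplicit false
set_option maxHeartbeats 400000
universe u v w
open WildQuot

namespace Groth.Agent.S15793

/-- Let `A` be a complete regular local ring of Krull dimension at least `2` and prime characteristic
`p`, with maximal ideal `m`; let `k` be a field with a ring map `k → A` whose composite with `A →
A/m` is onto (a field of representatives); let `G` be a group of order `p` acting on `A` by ring
automorphisms that fix the image of `k`, ramified precisely at the origin: for every prime `P ≠ m`,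
the inertia subgroup of `P` (the elements of `G` fixing every element of `A` modulo `P`) is trivial.
Then no element of `m` outside `m ^ 2` is fixed by every element of `G`; in particular the action is
not linear in any regular system of parameters. -/
theorem result
    (p : ℕ) [Fact p.Prime] (A : Type u) [CommRing A] [IsRegularLocalRing A] [CharP A p]
    [IsAdicComplete (IsLocalRing.maximalIdeal A) A] (hdim : 2 ≤ ringKrullDim A)
    (k : Type v) [Field k] [Algebra k A]
    (hk : Function.Surjective (IsLocalRing.residue A ∘ algebraMap k A))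
    (G : Type w) [Group G] [Finite G] [MulSemiringAction G A] (hcard : Nat.card G = p)
    (hGk : ∀ (σ : G) (c : k), σ • algebraMap k A c = algebraMap k A c)
    (hram : ∀ P : Ideal A, P.IsPrime → P ≠ IsLocalRing.maximalIdeal A → P.inertia G = ⊥)
    (v : A) (hv : v ∈ IsLocalRing.maximalIdeal A) (hv2 : v ∉ IsLocalRing.maximalIdeal A ^ 2) :
    ∃ σ : G, σ • v ≠ v := by
  classical
  by_contra hcon
  push Not at hcon
  obtain ⟨m, hm⟩ : ∃ m : Ideal A, m = IsLocalRing.maximalIdeal A := ⟨_, rfl⟩
  haveI : Nontrivial G := (Finite.one_lt_card_iff_nontrivial).mp (by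
    rw [hcard]; exact (Fact.out : p.Prime).one_lt)
  obtain ⟨σ, hσ⟩ := exists_ne (1 : G)
  have hGm : ∀ (τ : G) (x : A), x ∈ IsLocalRing.maximalIdeal A → τ • x ∈ IsLocalRing.maximalIdeal A := by
    intro τ x hx
    rw [IsLocalRing.mem_maximalIdeal, mem_nonunits_iff] at hx ⊢
    intro hu
    apply hx
    have := hu.map (MulSemiringAction.toRingHom G A τ⁻¹)
    simpa using this
  -- cotangent space
  have hvbar : (IsLocalRing.maximalIdeal A).toCotangent ⟨v, hv⟩ ≠ 0 := by
    intro h0
    exact hv2 ((Ideal.toCotangent_eq_zero _ ⟨v, hv⟩).mp h0)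
  obtain ⟨W, hW⟩ : ∃ W : Submodule (IsLocalRing.ResidueField A) (IsLocalRing.CotangentSpace A),
      W = Submodule.span (IsLocalRing.ResidueField A)
        {(IsLocalRing.maximalIdeal A).toCotangent ⟨v, hv⟩} := ⟨_, rfl⟩
  obtain ⟨r', hr'⟩ : ∃ r' : ℕ, r' = Module.finrank (IsLocalRing.ResidueField A)
      (IsLocalRing.CotangentSpace A ⧸ W) := ⟨_, rfl⟩
  have b : Module.Basis (Fin r') (IsLocalRing.ResidueField A) (IsLocalRing.CotangentSpace A ⧸ W) := by
    rw [hr']; exact Module.finBasis _ _
  have hlift : ∀ i : Fin r', ∃ y : IsLocalRing.maximalIdeal A,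
      W.mkQ ((IsLocalRing.maximalIdeal A).toCotangent y) = b i := by
    intro i
    obtain ⟨z, hz⟩ := W.mkQ_surjective (b i)
    obtain ⟨y, hy⟩ := Ideal.toCotangent_surjective _ z
    exact ⟨y, by rw [hy, hz]⟩
  choose w hw using hlift
  obtain ⟨S, hS⟩ : ∃ S : Set (IsLocalRing.maximalIdeal A),
      S = insert (⟨v, hv⟩ : IsLocalRing.maximalIdeal A) (Set.range w) := ⟨_, rfl⟩
  have hT : Submodule.span (IsLocalRing.ResidueField A)
      ((IsLocalRing.maximalIdeal A).toCotangent '' S) = ⊤ := by
    have hWT : W ≤ Submodule.span (IsLocalRing.ResidueField A)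
        ((IsLocalRing.maximalIdeal A).toCotangent '' S) := by
      rw [hW, Submodule.span_le]
      rintro _ rfl
      exact Submodule.subset_span ⟨⟨v, hv⟩, by rw [hS]; exact Set.mem_insert _ _, rfl⟩
    have h1 : (Submodule.span (IsLocalRing.ResidueField A)
        ((IsLocalRing.maximalIdeal A).toCotangent '' S)).map W.mkQ = ⊤ := by
      rw [eq_top_iff, ← b.span_eq, Submodule.span_le]
      rintro _ ⟨i, rfl⟩
      exact ⟨(IsLocalRing.maximalIdeal A).toCotangent (w i),
        Submodule.subset_span ⟨w i, by rw [hS]; exact Set.mem_insert_of_mem _ ⟨i, rfl⟩, rfl⟩, hw i⟩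
    have h2 := (Submodule.map_mkQ_eq_top W _).mp h1
    rwa [sup_eq_right.mpr hWT] at h2
  have hspan : Submodule.span A S = ⊤ := IsLocalRing.CotangentSpace.span_image_eq_top_iff.mp hT
  have hgen : ∀ x ∈ IsLocalRing.maximalIdeal A, ∃ (β : A) (α : Fin r' → A),
      x = β * v + ∑ i, α i * (w i : A) := by
    intro x hx
    have hx' : (⟨x, hx⟩ : IsLocalRing.maximalIdeal A) ∈ Submodule.span A S := by
      rw [hspan]; trivial
    rw [hS] at hx'
    obtain ⟨β, z, hz, hxz⟩ := Submodule.mem_span_insert.mp hx'
    obtain ⟨α, hα⟩ := (Submodule.mem_span_range_iff_exists_fun A).mp hz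
    refine ⟨β, α, ?_⟩
    have := congrArg (Submodule.subtype (IsLocalRing.maximalIdeal A)) hxz
    rw [← hα] at this
    simpa using this
  -- the ideal of differences
  obtain ⟨J, hJ⟩ : ∃ J : Ideal A,
      J = Ideal.span (Set.range fun i : Fin r' => σ • (w i : A) - (w i : A)) := ⟨_, rfl⟩
  have hQc : ∀ c : k, σ • algebraMap k A c - algebraMap k A c ∈ J := fun c => by
    rw [hGk, sub_self]; exact J.zero_mem
  have hQv : σ • v - v ∈ J := by rw [hcon, sub_self]; exact J.zero_mem
  have hQw : ∀ i, σ • (w i : A) - (w i : A) ∈ J := fun i => by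
    rw [hJ]; exact Ideal.subset_span ⟨i, rfl⟩
  have hQadd : ∀ a b : A, σ • a - a ∈ J → σ • b - b ∈ J → σ • (a + b) - (a + b) ∈ J := by
    intro a b ha hb
    have : σ • (a + b) - (a + b) = (σ • a - a) + (σ • b - b) := by rw [smul_add]; ring
    rw [this]; exact J.add_mem ha hb
  have hQmul : ∀ a b : A, σ • a - a ∈ J → σ • b - b ∈ J → σ • (a * b) - a * b ∈ J := by
    intro a b ha hb
    have : σ • (a * b) - a * b = σ • a * (σ • b - b) + (σ • a - a) * b := by
      rw [smul_mul']; ring
    rw [this]; exact J.add_mem (J.mul_mem_left _ hb) (J.mul_mem_right _ ha)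
  have hQsum : ∀ (f : Fin r' → A), (∀ i, σ • f i - f i ∈ J) →
      σ • (∑ i, f i) - ∑ i, f i ∈ J := by
    intro f hf
    have : σ • (∑ i, f i) - ∑ i, f i = ∑ i, (σ • f i - f i) := by
      rw [Finset.smul_sum, Finset.sum_sub_distrib]
    rw [this]; exact J.sum_mem (fun i _ => hf i)
  have hdec : ∀ (N : ℕ) (a : A), ∃ s t : A, a = s + t ∧ σ • s - s ∈ J ∧
      t ∈ IsLocalRing.maximalIdeal A ^ N := by
    intro N
    induction N with
    | zero =>
      intro a
      refine ⟨0, a, by ring, by rw [smul_zero, sub_self]; exact J.zero_mem, ?_⟩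
      rw [pow_zero, Ideal.one_eq_top]; trivial
    | succ N ih =>
      intro a
      obtain ⟨c, hc⟩ := hk (IsLocalRing.residue A a)
      have hac : a - algebraMap k A c ∈ IsLocalRing.maximalIdeal A := by
        have h0 : IsLocalRing.residue A (a - algebraMap k A c) = 0 := by
          rw [map_sub, ← hc]; simp [Function.comp]
        exact (IsLocalRing.residue_eq_zero_iff _).mp h0
      obtain ⟨β, α, hβα⟩ := hgen _ hac
      obtain ⟨s0, t0, h0, hs0, ht0⟩ := ih β
      choose s1 t1 h1 hs1 ht1 using fun i => ih (α i)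
      refine ⟨algebraMap k A c + (s0 * v + ∑ i, s1 i * (w i : A)),
        t0 * v + ∑ i, t1 i * (w i : A), ?_, ?_, ?_⟩
      · have e1 : ∑ i, α i * (w i : A) = ∑ i, s1 i * (w i : A) + ∑ i, t1 i * (w i : A) := by
          rw [← Finset.sum_add_distrib]
          exact Finset.sum_congr rfl (fun i _ => by rw [h1 i]; ring)
        linear_combination hβα + v * h0 + e1
      · exact hQadd _ _ (hQc c) (hQadd _ _ (hQmul _ _ hs0 hQv)
          (hQsum _ (fun i => hQmul _ _ (hs1 i) (hQw i))))
      · rw [pow_succ]
        exact Ideal.add_mem _ (Ideal.mul_mem_mul ht0 hv)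
          (Ideal.sum_mem _ (fun i _ => Ideal.mul_mem_mul (ht1 i) (w i).2))
  have hGpow : ∀ (N : ℕ) (t : A), t ∈ IsLocalRing.maximalIdeal A ^ N →
      σ • t ∈ IsLocalRing.maximalIdeal A ^ N := by
    intro N t ht
    have h1 : (MulSemiringAction.toRingHom G A σ) t ∈
        (IsLocalRing.maximalIdeal A ^ N).map (MulSemiringAction.toRingHom G A σ) :=
      Ideal.mem_map_of_mem _ ht
    rw [Ideal.map_pow] at h1
    have h2 : (IsLocalRing.maximalIdeal A).map (MulSemiringAction.toRingHom G A σ) ≤
        IsLocalRing.maximalIdeal A := Ideal.map_le_iff_le_comap.mpr (fun x hx => hGm σ x hx)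
    exact Ideal.pow_right_mono h2 N h1
  have hall : ∀ a : A, σ • a - a ∈ J := by
    intro a
    have hK := Ideal.iInf_pow_smul_eq_bot_of_isLocalRing (R := A) (M := A ⧸ J)
      (IsLocalRing.maximalIdeal A) (IsLocalRing.maximalIdeal.isMaximal A).ne_top
    have hx : (Ideal.Quotient.mk J (σ • a - a) : A ⧸ J) ∈
        (⨅ i : ℕ, IsLocalRing.maximalIdeal A ^ i • ⊤ : Submodule A (A ⧸ J)) := by
      rw [Submodule.mem_iInf]
      intro N
      obtain ⟨s, t, hst, hs, ht⟩ := hdec N a
      have htσ : σ • t ∈ IsLocalRing.maximalIdeal A ^ N := hGpow N t ht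
      have e1 : σ • a - a = (σ • s - s) + (σ • t - t) := by rw [hst, smul_add]; ring
      have e2 : (Ideal.Quotient.mk J (σ • a - a) : A ⧸ J) = (σ • t - t) • (1 : A ⧸ J) := by
        rw [e1, map_add, Ideal.Quotient.eq_zero_iff_mem.mpr hs, zero_add, Algebra.smul_def,
          mul_one]
        rfl
      rw [e2]
      exact Submodule.smul_mem_smul (Ideal.sub_mem _ htσ ht) Submodule.mem_top
    rw [hK] at hx
    exact Ideal.Quotient.eq_zero_iff_mem.mp ((Submodule.mem_bot _).mp hx)
  -- heights
  have hJm : J ≤ IsLocalRing.maximalIdeal A := by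
    rw [hJ, Ideal.span_le]
    rintro _ ⟨i, rfl⟩
    exact Ideal.sub_mem _ (hGm σ _ (w i).2) (w i).2
  have hJne : J ≠ ⊤ := fun h =>
    (IsLocalRing.maximalIdeal.isMaximal A).ne_top (top_le_iff.mp (h ▸ hJm))
  have hht1 : J.height ≤ (r' : ℕ∞) := by
    refine (Ideal.height_le_spanFinrank J hJne).trans ?_
    have h3 : J.spanFinrank ≤ r' := by
      rw [hJ]
      refine (Submodule.spanFinrank_span_le_ncard_of_finite (Set.finite_range _)).trans ?_
      have h := Set.ncard_image_le (f := fun i : Fin r' => σ • (w i : A) - (w i : A))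
        (s := Set.univ) Set.finite_univ
      rw [Set.image_univ, Set.ncard_univ, Nat.card_fin] at h
      exact h
    exact_mod_cast h3
  have hht2 : (IsLocalRing.maximalIdeal A).height ≤ J.height := by
    rw [Ideal.height_eq_inf_minimalPrimes J]
    refine le_iInf₂ fun P hP => ?_
    have hPprime : P.IsPrime := hP.1.1
    have hJP : J ≤ P := hP.1.2
    have hPm : P = IsLocalRing.maximalIdeal A := by
      by_contra hne
      have hin := hram P hPprime hne
      have hσin : σ ∈ P.inertia G := fun x => hJP (hall x)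
      rw [hin, Subgroup.mem_bot] at hσin
      exact hσ hσin
    rw [hPm]
  have hreg := IsRegularLocalRing.spanFinrank_maximalIdeal (R := A)
  have hmax := IsLocalRing.maximalIdeal_height_eq_ringKrullDim (R := A)
  have hheq : (IsLocalRing.maximalIdeal A).height = ((IsLocalRing.maximalIdeal A).spanFinrank : ℕ∞) := by
    have : (((IsLocalRing.maximalIdeal A).height : ℕ∞) : WithBot ℕ∞) =
        (((IsLocalRing.maximalIdeal A).spanFinrank : ℕ∞) : WithBot ℕ∞) := by
      rw [hmax, ← hreg]; rfl
    exact WithBot.coe_injective this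
  have h5 : ((IsLocalRing.maximalIdeal A).spanFinrank : ℕ∞) ≤ (r' : ℕ∞) := by
    rw [← hheq]; exact hht2.trans hht1
  have h6 : (IsLocalRing.maximalIdeal A).spanFinrank ≤ r' := by exact_mod_cast h5
  rw [IsLocalRing.spanFinrank_maximalIdeal_eq_finrank_cotangentSpace] at h6
  have h7 := Submodule.finrank_quotient_add_finrank W
  have h8 : Module.finrank (IsLocalRing.ResidueField A) W = 1 := by
    rw [hW]; exact finrank_span_singleton hvbar
  omega

end Groth.Agent.S15793
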