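import Groth.Statements.S19994
import Mathlib
import Groth.Agent.H71.RegularLoc

set_option autoImplicit false
universe u v w
open WildQuot

namespace Groth.Agent.S19994

section Helpers

/-- Flatness of `A_Q` over `B_P` from a "dual basis with denominator" identity. -/
theorem flat_localization_of_dualBasis {A B : Type u} [CommRing A] [CommRing B] [Algebra B A]
    (P : Ideal B) [P.IsPrime] (Q : Ideal A) [Q.IsPrime] [Q.LiesOver P]
    {n : ℕ} (s : B) (hs : s ∉ P) (x : Fin n → A) (T : Fin n → (A →ₗ[B] B))
    (hT : ∀ a : A, algebraMap B A s * a = ∑ i, x i * algebraMap B A (T i a)) :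
    letI := Localization.AtPrime.algebraOfLiesOver P Q
    Module.Flat (Localization.AtPrime P) (Localization.AtPrime Q) := by
  letI := Localization.AtPrime.algebraOfLiesOver P Q
  have hRS : ∀ b : B, algebraMap (Localization.AtPrime P) (Localization.AtPrime Q)
      (algebraMap B (Localization.AtPrime P) b)
      = algebraMap A (Localization.AtPrime Q) (algebraMap B A b) := by
    intro b
    rw [Localization.AtPrime.IsLiesOverAlgebra.algebraMap_eq (p := P) (P := Q),
      Localization.localRingHom_to_map]
  rw [Module.Flat.iff_forall_isTrivialRelation]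
  intro l f m hrel
  obtain ⟨u, hu⟩ := IsLocalization.exist_integer_multiples P.primeCompl Finset.univ f
  obtain ⟨t, ht⟩ := IsLocalization.exist_integer_multiples Q.primeCompl Finset.univ m
  have hu' : ∀ j, ∃ r : B, algebraMap B (Localization.AtPrime P) r = (u : B) • f j :=
    fun j => hu j (Finset.mem_univ j)
  have ht' : ∀ j, ∃ r : A, algebraMap A (Localization.AtPrime Q) r = (t : A) • m j :=
    fun j => ht j (Finset.mem_univ j)
  choose g hg using hu'
  choose α hα using ht'
  set φ := algebraMap (Localization.AtPrime P) (Localization.AtPrime Q) with hφ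
  set ιA := algebraMap A (Localization.AtPrime Q) with hιA
  set ιB := algebraMap B (Localization.AtPrime P) with hιB
  have hg' : ∀ j, ιB (g j) = ιB u * f j := fun j => by rw [hg j, Algebra.smul_def]
  have hα' : ∀ j, ιA (α j) = ιA t * m j := fun j => by rw [hα j, Algebra.smul_def]
  have hzero : ιA (∑ j, algebraMap B A (g j) * α j) = 0 := by
    rw [map_sum]
    have : ∀ j, ιA (algebraMap B A (g j) * α j)
        = (ιA (algebraMap B A u) * ιA t) * (f j • m j) := by
      intro j
      rw [map_mul, ← hRS, hg', hα', map_mul, hRS, Algebra.smul_def]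
      ring
    rw [Finset.sum_congr rfl (fun j _ => this j), ← Finset.mul_sum, hrel, mul_zero]
  obtain ⟨w, hw⟩ := (IsLocalization.map_eq_zero_iff Q.primeCompl _ _).mp hzero
  have hsU : IsUnit (ιB s) := IsLocalization.map_units _ (⟨s, hs⟩ : P.primeCompl)
  have huU : IsUnit (ιB u) := IsLocalization.map_units _ u
  have hwtU : IsUnit (ιA ((w : A) * (t : A))) := by
    have := IsLocalization.map_units (Localization.AtPrime Q) (w * t)
    rwa [Submonoid.coe_mul] at this
  obtain ⟨sinv, hsinv⟩ := hsU.exists_right_inv
  obtain ⟨uinv, huinv⟩ := huU.exists_right_inv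
  obtain ⟨tinv, htinv⟩ := hwtU.exists_right_inv
  refine ⟨n, fun j k => ιB (T k ((w : A) * α j)) * sinv, fun k => ιA (x k) * tinv, ?_, ?_⟩
  · intro j
    have key : ∑ k, φ (ιB (T k ((w : A) * α j))) * ιA (x k)
        = ιA (algebraMap B A s) * ιA ((w : A) * (t : A)) * m j := by
      have h1 : ∑ k, φ (ιB (T k ((w : A) * α j))) * ιA (x k)
          = ιA (∑ k, x k * algebraMap B A (T k ((w : A) * α j))) := by
        rw [map_sum]
        apply Finset.sum_congr rfl
        intro k _
        rw [hRS, map_mul ιA, mul_comm]
      rw [h1, ← hT, map_mul ιA, map_mul ιA, map_mul ιA, hα']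
      ring
    have h2 : ∑ k, (ιB (T k ((w : A) * α j)) * sinv) • (ιA (x k) * tinv)
        = (∑ k, φ (ιB (T k ((w : A) * α j))) * ιA (x k)) * (φ sinv * tinv) := by
      rw [Finset.sum_mul]
      apply Finset.sum_congr rfl
      intro k _
      rw [Algebra.smul_def, map_mul]
      ring
    rw [h2, key]
    have h3 : ιA (algebraMap B A s) * φ sinv = 1 := by
      rw [← hRS, ← map_mul, hsinv, map_one]
    linear_combination (-(m j)) * h3 + (-(m j) * (ιA (algebraMap B A s) * φ sinv)) * htinv
  · intro k
    have key2 : ∑ j, (ιB u * f j) * ιB (T k ((w : A) * α j)) = 0 := by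
      have : ∑ j, (ιB u * f j) * ιB (T k ((w : A) * α j))
          = ιB (T k ((w : A) * ∑ j, algebraMap B A (g j) * α j)) := by
        rw [Finset.mul_sum, map_sum, map_sum]
        apply Finset.sum_congr rfl
        intro j _
        rw [← hg', ← map_mul ιB]
        congr 1
        have h := (T k).map_smul (g j) ((w : A) * α j)
        rw [smul_eq_mul] at h
        rw [← h]
        congr 1
        rw [Algebra.smul_def]
        ring
      rw [this, hw, map_zero, map_zero]
    have : ∑ j, f j * (ιB (T k ((w : A) * α j)) * sinv)
        = (uinv * sinv) * ∑ j, (ιB u * f j) * ιB (T k ((w : A) * α j)) := by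
      rw [Finset.mul_sum]
      apply Finset.sum_congr rfl
      intro j _
      linear_combination (-(f j * ιB (T k ((w : A) * α j)) * sinv)) * huinv
    rw [this, key2, mul_zero]

/-- products of "separating families" -/
theorem exists_family (A : Type u) [CommRing A] (G : Type w) [Group G]
    [MulSemiringAction G A]
    (P : Ideal (FixedPoints.subring A G)) [P.IsPrime]
    (h1 : ∀ σ : G, σ ≠ 1 → ∃ (ι : Type u) (_ : Fintype ι) (x y : ι → A)
        (s : FixedPoints.subring A G),
        s ∉ P ∧ ∑ i, x i * y i = (s : A) ∧ ∑ i, x i * σ • y i = 0)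
    (T : Finset G) :
    ∃ (ι : Type u) (_ : Fintype ι) (x y : ι → A) (s : FixedPoints.subring A G),
        s ∉ P ∧ ∑ i, x i * y i = (s : A) ∧ ∀ τ ∈ T, τ ≠ 1 → ∑ i, x i * τ • y i = 0 := by
  classical
  induction T using Finset.induction_on with
  | empty =>
    refine ⟨PUnit, inferInstance, fun _ => 1, fun _ => 1, 1, ?_, by simp, by simp⟩
    exact fun h => (inferInstance : P.IsPrime).ne_top ((Ideal.eq_top_iff_one P).mpr h)
  | insert σ T hσ ih =>
    obtain ⟨ι, hι, x, y, s, hs, hxy, hT⟩ := ih
    by_cases hσ1 : σ = 1
    · refine ⟨ι, hι, x, y, s, hs, hxy, ?_⟩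
      intro τ hτ hτ1
      rcases Finset.mem_insert.mp hτ with rfl | hτ
      · exact absurd hσ1 hτ1
      · exact hT τ hτ hτ1
    · obtain ⟨ι', hι', x', y', s', hs', hxy', hσ'⟩ := h1 σ hσ1
      have hprod : ∀ τ : G, ∑ p : ι × ι', (x p.1 * x' p.2) * τ • (y p.1 * y' p.2)
          = (∑ i, x i * τ • y i) * (∑ j, x' j * τ • y' j) := by
        intro τ
        rw [Fintype.sum_prod_type, Finset.sum_mul_sum]
        apply Finset.sum_congr rfl
        intro i _
        apply Finset.sum_congr rfl
        intro j _
        rw [smul_mul']
        ring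
      refine ⟨ι × ι', inferInstance, fun p => x p.1 * x' p.2, fun p => y p.1 * y' p.2, s * s',
        ?_, ?_, ?_⟩
      · intro h
        rcases (inferInstance : P.IsPrime).mem_or_mem h with h | h
        · exact hs h
        · exact hs' h
      · have := hprod 1
        simp only [one_smul] at this
        rw [this, hxy, hxy']
        rfl
      · intro τ hτ hτ1
        rw [hprod τ]
        rcases Finset.mem_insert.mp hτ with rfl | hτ
        · rw [hσ', mul_zero]
        · rw [hT τ hτ hτ1, zero_mul]

end Helpers

/-- Let `A` be a complete regular local ring of Krull dimension at least `2` and prime characteristic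
`p`, with maximal ideal `m`; let `k` be a field with a ring map `k → A` whose composite with `A →
A/m` is onto; let `G` be a group of order `p` acting on `A` by ring automorphisms fixing the image
of `k` and ramified precisely at the origin (for every prime `P ≠ m`, the inertia subgroup of `P`,
i.e. the elements of `G` fixing every element modulo `P`, is trivial). Then the singular locus of
`Spec A^G` is contained in the closed point: for every non-maximal prime ideal `P` of the invariant
ring `A^G`, the localization `(A^G)_P` is a regular local ring. (The published statement also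
asserts that the punctured spectrum of `A` is a `G`-torsor over the punctured spectrum of `A^G`;
this row omits that clause. Together with the non-regularity of `A^G` itself, the singular locus is
exactly the closed point.) -/
theorem result
    (p : ℕ) [Fact p.Prime] (A : Type u) [CommRing A] [IsRegularLocalRing A] [CharP A p]
    [IsAdicComplete (IsLocalRing.maximalIdeal A) A] (hdim : 2 ≤ ringKrullDim A)
    (k : Type v) [Field k] [Algebra k A]
    (hk : Function.Surjective (IsLocalRing.residue A ∘ algebraMap k A))
    (G : Type w) [Group G] [Finite G] [MulSemiringAction G A] (hcard : Nat.card G = p)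
    (hGk : ∀ (σ : G) (c : k), σ • algebraMap k A c = algebraMap k A c)
    (hram : ∀ P : Ideal A, P.IsPrime → P ≠ IsLocalRing.maximalIdeal A → P.inertia G = ⊥)
    (P : Ideal (FixedPoints.subring A G)) [P.IsPrime] (hP : ¬ P.IsMaximal) :
    IsRegularLocalRing (Localization.AtPrime P) := by
  classical
  haveI : Fintype G := Fintype.ofFinite G
  haveI : Algebra.IsInvariant (FixedPoints.subring A G) A G := ⟨fun b hb => ⟨⟨b, hb⟩, rfl⟩⟩
  haveI : Algebra.IsIntegral (FixedPoints.subring A G) A :=
    Algebra.IsInvariant.isIntegral (FixedPoints.subring A G) A G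
  have hinj : Function.Injective (algebraMap (FixedPoints.subring A G) A) := Subtype.val_injective
  -- primes over `P` are not the maximal ideal
  have hne : ∀ Q' : Ideal A, Q'.IsPrime → Q'.comap (algebraMap (FixedPoints.subring A G) A) = P →
      Q' ≠ IsLocalRing.maximalIdeal A := by
    intro Q' _ hQ' h
    apply hP
    rw [← hQ', h]
    exact Ideal.isMaximal_comap_of_isIntegral_of_isMaximal (R := FixedPoints.subring A G)
      (IsLocalRing.maximalIdeal A)
  -- a prime over `P`
  obtain ⟨Q, -, hQprime, hQP⟩ := Ideal.exists_ideal_over_prime_of_isIntegral P (⊥ : Ideal A)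
    (by rw [Ideal.comap_bot_of_injective _ hinj]; exact bot_le)
  haveI := hQprime
  haveI : Q.LiesOver P := ⟨hQP.symm⟩
  -- separating families for each `σ ≠ 1`
  have h1 : ∀ σ : G, σ ≠ 1 → ∃ (ι : Type u) (_ : Fintype ι) (x y : ι → A)
      (s : FixedPoints.subring A G),
      s ∉ P ∧ ∑ i, x i * y i = (s : A) ∧ ∑ i, x i * σ • y i = 0 := by
    intro σ hσ
    have hnot : ¬ (Ideal.span (Set.range fun a : A => σ • a - a)).comap
        (algebraMap (FixedPoints.subring A G) A) ≤ P := by
      intro hle
      obtain ⟨Q', hIQ', hQ'prime, hQ'P⟩ := Ideal.exists_ideal_over_prime_of_isIntegral P _ hle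
      have hin := hram Q' hQ'prime (hne Q' hQ'prime hQ'P)
      have hσmem : σ ∈ Q'.inertia G := fun a => hIQ' (Ideal.subset_span ⟨a, rfl⟩)
      rw [hin, Subgroup.mem_bot] at hσmem
      exact hσ hσmem
    obtain ⟨b, hbI, hbP⟩ := SetLike.not_le_iff_exists.mp hnot
    have hbI' : (b : A) ∈ Submodule.span A (Set.range fun a : A => σ • a - a) := hbI
    obtain ⟨c, hc⟩ := Finsupp.mem_span_range_iff_exists_finsupp.mp hbI'
    have hb : (b : A) = ∑ a ∈ c.support, c a * σ • a - ∑ a ∈ c.support, c a * a := by
      rw [← hc, Finsupp.sum, ← Finset.sum_sub_distrib]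
      apply Finset.sum_congr rfl
      intro a _
      rw [smul_eq_mul, mul_sub]
    refine ⟨Option c.support, inferInstance,
      fun o => o.elim (∑ a ∈ c.support, c a * σ • a) (fun a => - c a),
      fun o => o.elim 1 (fun a => (a : A)), b, hbP, ?_, ?_⟩
    · rw [Fintype.sum_option]
      simp only [Option.elim_none, Option.elim_some, mul_one]
      rw [Finset.sum_coe_sort c.support (fun a => -c a * a), hb]
      simp only [neg_mul, Finset.sum_neg_distrib]
      ring
    · rw [Fintype.sum_option]
      simp only [Option.elim_none, Option.elim_some, smul_one, mul_one]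
      rw [Finset.sum_coe_sort c.support (fun a => -c a * σ • a)]
      simp only [neg_mul, Finset.sum_neg_distrib]
      ring
  obtain ⟨ι, hι, x, y, s, hs, hxy, hxτ⟩ := exists_family A G P h1 Finset.univ
  -- reindex by `Fin n`
  let e := Fintype.equivFin ι
  let x' : Fin (Fintype.card ι) → A := fun k => x (e.symm k)
  let y' : Fin (Fintype.card ι) → A := fun k => y (e.symm k)
  have hxy' : ∑ k, x' k * y' k = (s : A) := by
    rw [← hxy]
    exact Equiv.sum_comp e.symm (fun i => x i * y i)
  have hzero' : ∀ τ : G, τ ≠ 1 → ∑ k, x' k * τ • y' k = 0 := by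
    intro τ hτ
    rw [← hxτ τ (Finset.mem_univ τ) hτ]
    exact Equiv.sum_comp e.symm (fun i => x i * τ • y i)
  -- the trace
  have htrfix : ∀ z : A, ∀ g : G, g • (∑ τ : G, τ • z) = ∑ τ : G, τ • z := by
    intro z g
    rw [Finset.smul_sum]
    simp_rw [smul_smul]
    exact Fintype.sum_bijective (fun τ => g * τ) (Group.mulLeft_bijective g) _ _ (fun _ => rfl)
  let trB : A →ₗ[FixedPoints.subring A G] (FixedPoints.subring A G) :=
    { toFun := fun z => ⟨∑ τ : G, τ • z, htrfix z⟩
      map_add' := fun a b => by
        apply Subtype.ext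
        show ∑ τ : G, τ • (a + b) = (∑ τ : G, τ • a) + ∑ τ : G, τ • b
        simp only [smul_add, Finset.sum_add_distrib]
      map_smul' := fun b a => by
        apply Subtype.ext
        show ∑ τ : G, τ • ((b : A) * a) = (b : A) * ∑ τ : G, τ • a
        rw [Finset.mul_sum]
        apply Finset.sum_congr rfl
        intro τ _
        rw [smul_mul', b.2 τ] }
  let T : Fin (Fintype.card ι) → (A →ₗ[FixedPoints.subring A G] (FixedPoints.subring A G)) :=
    fun k => trB.comp (LinearMap.mulLeft (FixedPoints.subring A G) (y' k))
  have hTval : ∀ k a, algebraMap (FixedPoints.subring A G) A (T k a) = ∑ τ : G, τ • (y' k * a) :=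
    fun k a => rfl
  have hT : ∀ a : A, algebraMap (FixedPoints.subring A G) A s * a
      = ∑ k, x' k * algebraMap (FixedPoints.subring A G) A (T k a) := by
    intro a
    have h1' : ∀ k, x' k * algebraMap (FixedPoints.subring A G) A (T k a)
        = ∑ τ : G, (x' k * τ • y' k) * τ • a := by
      intro k
      rw [hTval, Finset.mul_sum]
      apply Finset.sum_congr rfl
      intro τ _
      rw [smul_mul', mul_assoc]
    rw [Finset.sum_congr rfl (fun k _ => h1' k), Finset.sum_comm]
    rw [Finset.sum_eq_single (1 : G)]
    · rw [← Finset.sum_mul]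
      simp only [one_smul]
      rw [hxy']
      rfl
    · intro τ _ hτ
      rw [← Finset.sum_mul, hzero' τ hτ, zero_mul]
    · intro h
      exact absurd (Finset.mem_univ _) h
  -- conclusion
  letI := Localization.AtPrime.algebraOfLiesOver P Q
  haveI : Module.Flat (Localization.AtPrime P) (Localization.AtPrime Q) :=
    flat_localization_of_dualBasis P Q s hs x' T hT
  haveI : IsLocalHom (algebraMap (Localization.AtPrime P) (Localization.AtPrime Q)) :=
    Localization.isLocalHom_localRingHom _ _ _ _
  haveI : IsRegularRing A := by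
    apply Groth.Agent.H71.RL.isRegularRing_of_maximal
    intro m hm
    obtain rfl := IsLocalRing.eq_maximalIdeal hm
    let e' : A ≃ₐ[A] Localization.AtPrime (IsLocalRing.maximalIdeal A) :=
      IsLocalization.atUnits A (IsLocalRing.maximalIdeal A).primeCompl
        (fun x hx => (IsUnit.mem_submonoid_iff x).mpr (IsLocalRing.notMem_maximalIdeal.mp hx))
    exact IsRegularLocalRing.of_ringEquiv e'.toRingEquiv
  haveI : IsRegularLocalRing (Localization.AtPrime Q) :=
    IsRegularRing.isRegularLocalRing_localization Q
  haveI : Module.FaithfullyFlat (Localization.AtPrime P) (Localization.AtPrime Q) :=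
    Module.FaithfullyFlat.of_flat_of_isLocalHom
  haveI : IsNoetherianRing (Localization.AtPrime P) :=
    Groth.Agent.H1.isNoetherianRing_of_faithfullyFlat (Localization.AtPrime P)
      (Localization.AtPrime Q)
  exact Groth.Agent.S0565.result (Localization.AtPrime P) (Localization.AtPrime Q)

end Groth.Agent.S19994
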