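import Groth.Statements.S15794
import Mathlib
import Groth.Agent.H23.RegularLocal
import Groth.Agent.H1.NoetherianDescent
import Groth.Agent.S19994

set_option autoImplicit false
universe u v w
open WildQuot

namespace Groth.Agent.S15794

section Helpers

/-- the orbit sum is fixed -/
theorem tr_fix (A : Type u) [CommRing A] (G : Type w) [Group G] [Fintype G]
    [MulSemiringAction G A] (z : A) (g : G) : g • (∑ τ : G, τ • z) = ∑ τ : G, τ • z := by
  rw [Finset.smul_sum]
  simp_rw [smul_smul]
  exact Fintype.sum_bijective (fun τ => g * τ) (Group.mulLeft_bijective g) _ _ (fun _ => rfl)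

/-- the trace `A → A^G`, `a ↦ ∑ σ, σ a`, as a linear map over the invariants -/
noncomputable def trB (A : Type u) [CommRing A] (G : Type w) [Group G] [Fintype G]
    [MulSemiringAction G A] : A →ₗ[FixedPoints.subring A G] (FixedPoints.subring A G) :=
  { toFun := fun z => ⟨∑ τ : G, τ • z, tr_fix A G z⟩
    map_add' := fun a b => by
      apply Subtype.ext
      show ∑ τ : G, τ • (a + b) = (∑ τ : G, τ • a) + ∑ τ : G, τ • b
      simp only [smul_add, Finset.sum_add_distrib]
    map_smul' := fun b a => by
      apply Subtype.ext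
      show ∑ τ : G, τ • ((b : A) * a) = (b : A) * ∑ τ : G, τ • a
      rw [Finset.mul_sum]
      apply Finset.sum_congr rfl
      intro τ _
      rw [smul_mul', b.2 τ] }

theorem trB_val (A : Type u) [CommRing A] (G : Type w) [Group G] [Fintype G]
    [MulSemiringAction G A] (z : A) :
    ((trB A G z : FixedPoints.subring A G) : A) = ∑ τ : G, τ • z := rfl

/-- a unit of `A` which is invariant is a unit of the invariant ring -/
theorem isUnit_fixed_of_isUnit (A : Type u) [CommRing A] (G : Type w) [Group G]
    [MulSemiringAction G A] (b : FixedPoints.subring A G) (hb : IsUnit (b : A)) : IsUnit b := by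
  obtain ⟨c, hc⟩ := hb.exists_right_inv
  have hcfix : ∀ g : G, g • c = c := by
    intro g
    have h1 : (b : A) * g • c = 1 := by
      have h2 : g • ((b : A) * c) = g • (1 : A) := by rw [hc]
      rw [smul_mul', smul_one, b.2 g] at h2
      exact h2
    calc g • c = ((b : A) * c) * g • c := by rw [hc, one_mul]
      _ = c * ((b : A) * g • c) := by ring
      _ = c := by rw [h1, mul_one]
  exact isUnit_iff_exists_inv.mpr ⟨⟨c, hcfix⟩, Subtype.ext hc⟩

/-- the invariant ring of a local ring is local -/
theorem isLocalRing_fixedPoints (A : Type u) [CommRing A] [IsLocalRing A] (G : Type w) [Group G]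
    [MulSemiringAction G A] : IsLocalRing (FixedPoints.subring A G) := by
  haveI : Nontrivial (FixedPoints.subring A G) :=
    (FixedPoints.subring A G).subtype.domain_nontrivial
  apply IsLocalRing.of_nonunits_add
  intro a b ha hb
  rw [mem_nonunits_iff] at ha hb ⊢
  intro hab
  have ha' : (a : A) ∈ nonunits A := fun h => ha (isUnit_fixed_of_isUnit A G a h)
  have hb' : (b : A) ∈ nonunits A := fun h => hb (isUnit_fixed_of_isUnit A G b h)
  have hsum := IsLocalRing.nonunits_add ha' hb'
  apply hsum
  exact hab.map (FixedPoints.subring A G).subtype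

/-- the trace has values in the maximal ideal (wild case) -/
theorem tr_mem_maximalIdeal (p : ℕ) (A : Type u) [CommRing A] [IsLocalRing A] [CharP A p]
    (k : Type v) [Field k] [Algebra k A]
    (hk : Function.Surjective (IsLocalRing.residue A ∘ algebraMap k A))
    (G : Type w) [Group G] [Fintype G] [MulSemiringAction G A] (hcard : Nat.card G = p)
    (hGk : ∀ (σ : G) (c : k), σ • algebraMap k A c = algebraMap k A c) (a : A) :
    ∑ τ : G, τ • a ∈ IsLocalRing.maximalIdeal A := by
  have hpres : ∀ (σ : G) (m : A), m ∈ IsLocalRing.maximalIdeal A →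
      σ • m ∈ IsLocalRing.maximalIdeal A := by
    intro σ m hm
    rw [IsLocalRing.mem_maximalIdeal, mem_nonunits_iff] at hm ⊢
    intro hu
    apply hm
    have h := hu.map (MulSemiringAction.toRingHom G A σ⁻¹)
    rwa [MulSemiringAction.toRingHom_apply, inv_smul_smul] at h
  obtain ⟨c, hc⟩ := hk (IsLocalRing.residue A a)
  have hc' : IsLocalRing.residue A (algebraMap k A c) = IsLocalRing.residue A a := hc
  have hm : a - algebraMap k A c ∈ IsLocalRing.maximalIdeal A := by
    rw [← IsLocalRing.residue_eq_zero_iff, map_sub, hc', sub_self]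
  have hdiff : ∀ σ : G, σ • a - a ∈ IsLocalRing.maximalIdeal A := by
    intro σ
    have h1 : σ • a - a = σ • (a - algebraMap k A c) - (a - algebraMap k A c) := by
      rw [smul_sub, hGk]
      ring
    rw [h1]
    exact Ideal.sub_mem _ (hpres σ _ hm) hm
  have hp0 : (Fintype.card G : A) = 0 := by
    rw [← Nat.card_eq_fintype_card, hcard]
    exact CharP.cast_eq_zero A p
  have hsum : ∑ τ : G, τ • a = ∑ τ : G, (τ • a - a) + (Fintype.card G : A) * a := by
    rw [Finset.sum_sub_distrib, Finset.sum_const, Finset.card_univ, nsmul_eq_mul]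
    ring
  rw [hsum, hp0, zero_mul, add_zero]
  exact Ideal.sum_mem _ fun τ _ => hdiff τ

/-- "dual basis with denominator" at a prime of the invariant ring over which the action is free -/
theorem exists_dual_family (A : Type u) [CommRing A] (G : Type w) [Group G] [Fintype G]
    [MulSemiringAction G A]
    (P : Ideal (FixedPoints.subring A G)) [P.IsPrime]
    (hin : ∀ Q' : Ideal A, Q'.IsPrime →
      Q'.comap (algebraMap (FixedPoints.subring A G) A) = P → Q'.inertia G = ⊥) :
    ∃ (n : ℕ) (s : FixedPoints.subring A G) (x y : Fin n → A), s ∉ P ∧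
      ∀ a : A, (s : A) * a
        = ∑ k, x k * ((trB A G (y k * a) : FixedPoints.subring A G) : A) := by
  classical
  haveI : Algebra.IsInvariant (FixedPoints.subring A G) A G := ⟨fun b hb => ⟨⟨b, hb⟩, rfl⟩⟩
  haveI : Algebra.IsIntegral (FixedPoints.subring A G) A :=
    Algebra.IsInvariant.isIntegral (FixedPoints.subring A G) A G
  have h1 : ∀ σ : G, σ ≠ 1 → ∃ (ι : Type u) (_ : Fintype ι) (x y : ι → A)
      (s : FixedPoints.subring A G),
      s ∉ P ∧ ∑ i, x i * y i = (s : A) ∧ ∑ i, x i * σ • y i = 0 := by
    intro σ hσ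
    have hnot : ¬ (Ideal.span (Set.range fun a : A => σ • a - a)).comap
        (algebraMap (FixedPoints.subring A G) A) ≤ P := by
      intro hle
      obtain ⟨Q', hIQ', hQ'prime, hQ'P⟩ := Ideal.exists_ideal_over_prime_of_isIntegral P _ hle
      have hin' := hin Q' hQ'prime hQ'P
      have hσmem : σ ∈ Q'.inertia G := fun a => hIQ' (Ideal.subset_span ⟨a, rfl⟩)
      rw [hin', Subgroup.mem_bot] at hσmem
      exact hσ hσmem
    obtain ⟨b, hbI, hbP⟩ := SetLike.not_le_iff_exists.mp hnot
    have hbI' : (b : A) ∈ Submodule.span A (Set.range fun a : A => σ • a - a) := hbI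
    obtain ⟨c, hc⟩ := Finsupp.mem_span_range_iff_exists_finsupp.mp hbI'
    have hb : (b : A) = ∑ a ∈ c.support, c a * σ • a - ∑ a ∈ c.support, c a * a := by
      rw [← hc, Finsupp.sum, ← Finset.sum_sub_distrib]
      apply Finset.sum_congr rfl
      intro a _
      rw [smul_eq_mul, mul_sub]
    refine ⟨Option c.support, inferInstance,
      fun o => o.elim (∑ a ∈ c.support, c a * σ • a) (fun a => - c a),
      fun o => o.elim 1 (fun a => (a : A)), b, hbP, ?_, ?_⟩
    · rw [Fintype.sum_option]
      simp only [Option.elim_none, Option.elim_some, mul_one]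
      rw [Finset.sum_coe_sort c.support (fun a => -c a * a), hb]
      simp only [neg_mul, Finset.sum_neg_distrib]
      ring
    · rw [Fintype.sum_option]
      simp only [Option.elim_none, Option.elim_some, smul_one, mul_one]
      rw [Finset.sum_coe_sort c.support (fun a => -c a * σ • a)]
      simp only [neg_mul, Finset.sum_neg_distrib]
      ring
  obtain ⟨ι, hι, x, y, s, hs, hxy, hxτ⟩ :=
    Groth.Agent.S19994.exists_family A G P h1 Finset.univ
  let e := Fintype.equivFin ι
  refine ⟨Fintype.card ι, s, fun k => x (e.symm k), fun k => y (e.symm k), hs, ?_⟩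
  have hxy' : ∑ k, x (e.symm k) * y (e.symm k) = (s : A) := by
    rw [← hxy]
    exact Equiv.sum_comp e.symm (fun i => x i * y i)
  have hzero' : ∀ τ : G, τ ≠ 1 → ∑ k, x (e.symm k) * τ • y (e.symm k) = 0 := by
    intro τ hτ
    rw [← hxτ τ (Finset.mem_univ τ) hτ]
    exact Equiv.sum_comp e.symm (fun i => x i * τ • y i)
  intro a
  have h1' : ∀ k, x (e.symm k) * ((trB A G (y (e.symm k) * a) : FixedPoints.subring A G) : A)
      = ∑ τ : G, (x (e.symm k) * τ • y (e.symm k)) * τ • a := by
    intro k
    rw [trB_val, Finset.mul_sum]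
    apply Finset.sum_congr rfl
    intro τ _
    rw [smul_mul', mul_assoc]
  rw [Finset.sum_congr rfl (fun k _ => h1' k), Finset.sum_comm]
  rw [Finset.sum_eq_single (1 : G)]
  · rw [← Finset.sum_mul]
    simp only [one_smul]
    rw [hxy']
  · intro τ _ hτ
    rw [← Finset.sum_mul, hzero' τ hτ, zero_mul]
  · intro h
    exact absurd (Finset.mem_univ _) h

/-- Nonvanishing of the discriminant at a prime where a "dual basis with denominator" exists. -/
theorem disc_not_mem {B A : Type*} [CommRing B] [CommRing A] [Algebra B A]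
    {ι : Type*} [Fintype ι] [DecidableEq ι] (e : Module.Basis ι B A) (tr : A →ₗ[B] B)
    (P : Ideal B) [P.IsPrime] (s : B) (hs : s ∉ P) {n : ℕ} (x y : Fin n → A)
    (h : ∀ a : A, s • a = ∑ k, tr (y k * a) • x k) :
    (Matrix.of fun i j => tr (e i * e j)).det ∉ P := by
  intro hd
  set M : Matrix ι ι B := Matrix.of fun i j => tr (e i * e j) with hM
  have hdet0 : ((Ideal.Quotient.mk P).mapMatrix M).det = 0 := by
    rw [← RingHom.map_det]
    exact Ideal.Quotient.eq_zero_iff_mem.mpr hd
  obtain ⟨vbar, hvbar0, hvbar⟩ := Matrix.exists_mulVec_eq_zero_iff.mpr hdet0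
  have hsurj : ∀ i, ∃ b : B, Ideal.Quotient.mk P b = vbar i :=
    fun i => Ideal.Quotient.mk_surjective _
  choose v hv using hsurj
  have hvne : ∃ j, v j ∉ P := by
    by_contra hcon
    push_neg at hcon
    apply hvbar0
    funext j
    rw [← hv j]
    exact Ideal.Quotient.eq_zero_iff_mem.mpr (hcon j)
  have hMv : ∀ i, ∑ j, M i j * v j ∈ P := by
    intro i
    have h0 : ∑ j, (Ideal.Quotient.mk P).mapMatrix M i j * vbar j = 0 := congrFun hvbar i
    apply Ideal.Quotient.eq_zero_iff_mem.mp
    rw [map_sum, ← h0]
    apply Finset.sum_congr rfl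
    intro j _
    rw [map_mul, hv j]
    rfl
  set a : A := ∑ j, v j • e j with ha
  have htr_e : ∀ i, tr (e i * a) ∈ P := by
    intro i
    have h1 : tr (e i * a) = ∑ j, M i j * v j := by
      rw [ha, Finset.mul_sum, map_sum]
      apply Finset.sum_congr rfl
      intro j _
      rw [mul_smul_comm, map_smul, smul_eq_mul, mul_comm]
      rfl
    rw [h1]
    exact hMv i
  have htr : ∀ c : A, tr (c * a) ∈ P := by
    intro c
    have hc : c * a = ∑ i, e.repr c i • (e i * a) := by
      conv_lhs => rw [← e.sum_repr c]
      rw [Finset.sum_mul]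
      apply Finset.sum_congr rfl
      intro i _
      rw [smul_mul_assoc]
    rw [hc, map_sum]
    refine Ideal.sum_mem _ fun i _ => ?_
    rw [map_smul, smul_eq_mul]
    exact Ideal.mul_mem_left _ _ (htr_e i)
  obtain ⟨j, hj⟩ := hvne
  apply hj
  have h2 : e.coord j a = v j := by
    rw [Module.Basis.coord_apply]
    exact congrFun (e.repr_sum_self v) j
  have hcoord : s * v j = ∑ k, tr (y k * a) * e.coord j (x k) := by
    have h1 : e.coord j (s • a) = e.coord j (∑ k, tr (y k * a) • x k) := congrArg _ (h a)
    rw [map_smul, h2, smul_eq_mul] at h1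
    rw [h1, map_sum]
    apply Finset.sum_congr rfl
    intro k _
    rw [map_smul, smul_eq_mul]
  have hmem : s * v j ∈ P := by
    rw [hcoord]
    exact Ideal.sum_mem _ fun k _ => Ideal.mul_mem_right _ _ (htr (y k))
  exact ((‹P.IsPrime›.mem_or_mem hmem).resolve_left hs)

end Helpers

/-- Let `A` be a complete regular local ring of Krull dimension at least `2` and prime characteristic
`p`, with maximal ideal `m`; let `k` be a field with a ring map `k → A` whose composite with `A →
A/m` is onto; let `G` be a group of order `p` acting on `A` by ring automorphisms fixing the image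
of `k` and ramified precisely at the origin (for every prime `P ≠ m`, the inertia subgroup of `P`
(the elements of `G` fixing every element modulo `P`) is trivial). Then `A` is not a flat module
over the ring of invariants `A^G`. (The published statement also asserts that `A^G ⊂ A` is local and
finite of degree `p` with trivial residue field extension; this row omits those clauses.) -/
theorem result
    (p : ℕ) [Fact p.Prime] (A : Type u) [CommRing A] [IsRegularLocalRing A] [CharP A p]
    [IsAdicComplete (IsLocalRing.maximalIdeal A) A] (hdim : 2 ≤ ringKrullDim A)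
    (k : Type v) [Field k] [Algebra k A]
    (hk : Function.Surjective (IsLocalRing.residue A ∘ algebraMap k A))
    (G : Type w) [Group G] [Finite G] [MulSemiringAction G A] (hcard : Nat.card G = p)
    (hGk : ∀ (σ : G) (c : k), σ • algebraMap k A c = algebraMap k A c)
    (hram : ∀ P : Ideal A, P.IsPrime → P ≠ IsLocalRing.maximalIdeal A → P.inertia G = ⊥) :
    ¬ Module.Flat (FixedPoints.subring A G) A := by
  intro hflat
  haveI := hflat
  haveI : Fintype G := Fintype.ofFinite G
  haveI : IsDomain A := Groth.Agent.H23.isDomain_of_isRegularLocalRing A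
  haveI : Algebra.IsInvariant (FixedPoints.subring A G) A G := ⟨fun b hb => ⟨⟨b, hb⟩, rfl⟩⟩
  haveI : Algebra.IsIntegral (FixedPoints.subring A G) A :=
    Algebra.IsInvariant.isIntegral (FixedPoints.subring A G) A G
  have hinj : Function.Injective (algebraMap (FixedPoints.subring A G) A) := Subtype.val_injective
  haveI : IsLocalRing (FixedPoints.subring A G) := isLocalRing_fixedPoints A G
  haveI : IsLocalHom (algebraMap (FixedPoints.subring A G) A) :=
    ⟨fun b hb => isUnit_fixed_of_isUnit A G b hb⟩
  haveI : Module.FaithfullyFlat (FixedPoints.subring A G) A :=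
    Module.FaithfullyFlat.of_flat_of_isLocalHom
  haveI : IsNoetherianRing (FixedPoints.subring A G) :=
    Groth.Agent.H1.isNoetherianRing_of_faithfullyFlat (FixedPoints.subring A G) A
  -- the action is free over non-maximal primes of the invariant ring
  have hne : ∀ (P : Ideal (FixedPoints.subring A G)), P.IsPrime → ¬ P.IsMaximal →
      ∀ Q' : Ideal A, Q'.IsPrime →
      Q'.comap (algebraMap (FixedPoints.subring A G) A) = P → Q'.inertia G = ⊥ := by
    intro P _ hP Q' hQ' hQ'P
    apply hram Q' hQ'
    intro h
    apply hP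
    rw [← hQ'P, h]
    exact Ideal.isMaximal_comap_of_isIntegral_of_isMaximal (R := FixedPoints.subring A G)
      (IsLocalRing.maximalIdeal A)
  have h2not : ∀ z : ℕ∞, z ≤ 1 → ¬ (2 : WithBot ℕ∞) ≤ (z : WithBot ℕ∞) := by
    intro z hz h2
    have h3 : ((2 : ℕ∞) : WithBot ℕ∞) ≤ (z : WithBot ℕ∞) := h2
    have h4 : (2 : ℕ∞) ≤ z := WithBot.coe_le_coe.mp h3
    have h5 : (2 : ℕ∞) ≤ 1 := h4.trans hz
    exact absurd h5 (by decide)
  -- the zero ideal of the invariant ring is not maximal
  have hbot_not_max : ¬ (⊥ : Ideal (FixedPoints.subring A G)).IsMaximal := by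
    intro hmax
    haveI : (⊥ : Ideal A).IsPrime := Ideal.bot_prime
    have hcomap : (⊥ : Ideal A).comap (algebraMap (FixedPoints.subring A G) A) = ⊥ :=
      Ideal.comap_bot_of_injective _ hinj
    have hmaxA : (⊥ : Ideal A).IsMaximal :=
      Ideal.isMaximal_of_isIntegral_of_isMaximal_comap (R := FixedPoints.subring A G) ⊥
        (hcomap ▸ hmax)
    have hbm : (⊥ : Ideal A) = IsLocalRing.maximalIdeal A := IsLocalRing.eq_maximalIdeal hmaxA
    have hht := IsLocalRing.maximalIdeal_height_eq_ringKrullDim (R := A)
    rw [← hht, ← hbm] at hdim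
    refine h2not _ ?_ hdim
    rw [Ideal.height_bot]
    exact zero_le_one
  -- finiteness of `A` over the invariants
  haveI : (⊥ : Ideal (FixedPoints.subring A G)).IsPrime := Ideal.bot_prime
  obtain ⟨n0, s0, x0, y0, hs0, hfam0⟩ :=
    exists_dual_family A G ⊥ (hne ⊥ inferInstance hbot_not_max)
  haveI : Module.Finite (FixedPoints.subring A G) A := by
    let f : A →ₗ[FixedPoints.subring A G] (Fin n0 → FixedPoints.subring A G) :=
      LinearMap.pi (fun k => (trB A G).comp (LinearMap.mulLeft (FixedPoints.subring A G) (y0 k)))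
    apply Module.Finite.of_injective f
    rw [injective_iff_map_eq_zero]
    intro a ha
    have hk0 : ∀ k, trB A G (y0 k * a) = 0 := fun k => congrFun ha k
    have hsa := hfam0 a
    have hsum0 : ∑ k, x0 k * ((trB A G (y0 k * a) : FixedPoints.subring A G) : A) = 0 := by
      apply Finset.sum_eq_zero
      intro k _
      rw [hk0 k]
      simp
    rw [hsum0] at hsa
    have hs0' : (s0 : A) ≠ 0 := fun h => hs0 (by rw [Ideal.mem_bot]; exact Subtype.ext h)
    exact (mul_eq_zero.mp hsa).resolve_left hs0'
  haveI : Module.Free (FixedPoints.subring A G) A := Module.free_of_flat_of_isLocalRing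
  let e := Module.Free.chooseBasis (FixedPoints.subring A G) A
  set d : FixedPoints.subring A G := (Matrix.of fun i j => trB A G (e i * e j)).det with hd
  -- the discriminant lies in the maximal ideal
  have hdm : (d : A) ∈ IsLocalRing.maximalIdeal A := by
    have hI : d ∈ (IsLocalRing.maximalIdeal A).comap
        (algebraMap (FixedPoints.subring A G) A) := by
      apply Ideal.Quotient.eq_zero_iff_mem.mp
      rw [hd, RingHom.map_det]
      have h0 : (Ideal.Quotient.mk ((IsLocalRing.maximalIdeal A).comap
          (algebraMap (FixedPoints.subring A G) A))).mapMatrix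
          (Matrix.of fun i j => trB A G (e i * e j)) = 0 := by
        ext i j
        rw [RingHom.mapMatrix_apply, Matrix.map_apply, Matrix.of_apply, Matrix.zero_apply]
        apply Ideal.Quotient.eq_zero_iff_mem.mpr
        exact tr_mem_maximalIdeal p A k hk G hcard hGk (e i * e j)
      rw [h0]
      exact Matrix.det_zero
    exact hI
  -- Krull's principal ideal theorem in `A`
  have hdle : Ideal.span {(d : A)} ≤ IsLocalRing.maximalIdeal A := by
    rw [Ideal.span_le, Set.singleton_subset_iff]
    exact hdm
  obtain ⟨Q, hQmin, hQle⟩ := Ideal.exists_minimalPrimes_le hdle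
  have hQprime : Q.IsPrime := hQmin.1.1
  have hdQ : (d : A) ∈ Q := hQmin.1.2 (Ideal.subset_span rfl)
  have hQht : Q.height ≤ 1 :=
    Ideal.height_le_one_of_isPrincipal_of_mem_minimalPrimes _ Q hQmin
  have hQne : Q ≠ IsLocalRing.maximalIdeal A := by
    intro h
    rw [h] at hQht
    have hht := IsLocalRing.maximalIdeal_height_eq_ringKrullDim (R := A)
    rw [← hht] at hdim
    exact h2not _ hQht hdim
  have hPnm : ¬ (Q.comap (algebraMap (FixedPoints.subring A G) A)).IsMaximal := by
    intro hmax
    have hQmax : Q.IsMaximal :=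
      Ideal.isMaximal_of_isIntegral_of_isMaximal_comap (R := FixedPoints.subring A G) Q hmax
    exact hQne (IsLocalRing.eq_maximalIdeal hQmax)
  have hPprime : (Q.comap (algebraMap (FixedPoints.subring A G) A)).IsPrime := Ideal.comap_isPrime _ _
  obtain ⟨n, s, x, y, hs, hfam⟩ :=
    exists_dual_family A G (Q.comap (algebraMap (FixedPoints.subring A G) A))
      (hne _ inferInstance hPnm)
  have hdP : d ∈ Q.comap (algebraMap (FixedPoints.subring A G) A) := hdQ
  refine disc_not_mem e (trB A G) (Q.comap (algebraMap (FixedPoints.subring A G) A)) s hs x y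
    ?_ hdP
  intro a
  show (s : A) * a = ∑ k, ((trB A G (y k * a) : FixedPoints.subring A G) : A) * x k
  rw [hfam a]
  exact Finset.sum_congr rfl fun k _ => mul_comm _ _

end Groth.Agent.S15794
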