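import Groth.Statements.S15795
import Groth.Agent.H79.RegCM

set_option autoImplicit false
universe u v
open WildQuot

namespace Groth.Agent.S15795


open IsLocalRing Groth.Agent.H79.RegCM

theorem nakayama_sq {A : Type u} [CommRing A] [IsLocalRing A] [IsNoetherianRing A] {J : Ideal A}
    (h : maximalIdeal A ≤ J ⊔ maximalIdeal A ^ 2) : maximalIdeal A ≤ J := by
  refine Submodule.le_of_le_smul_of_le_jacobson_bot (I := maximalIdeal A)
    (IsNoetherian.noetherian _) ?_ ?_
  · rw [IsLocalRing.jacobson_eq_maximalIdeal ⊥ bot_ne_top]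
  · simp only [smul_eq_mul, ← pow_two]
    exact h

theorem admissible_aux
    (A : Type u) [CommRing A] [IsRegularLocalRing A]
    (G : Type v) [Group G] [MulSemiringAction G A]
    (hres : ∀ (σ : G) (a : A), σ • a - a ∈ IsLocalRing.maximalIdeal A)
    (n : ℕ) (hn : ringKrullDim A = n) (u : Fin n → A)
    (hu : Ideal.span (Set.range u) = IsLocalRing.maximalIdeal A)
    (htri : ∀ (σ : G) (i : Fin n),
      σ • u i ∈ Ideal.span (u '' {j | j ≤ i}) ⊔ IsLocalRing.maximalIdeal A ^ 2)
    (τ : Fin n → G) :
    Ideal.span (Set.range fun i => τ i • u i) = IsLocalRing.maximalIdeal A := by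
  classical
  have hsm : ∀ (σ : G) (a : A), a ∈ maximalIdeal A → σ • a ∈ maximalIdeal A := by
    intro σ a ha
    have := Ideal.add_mem _ (hres σ a) ha
    rwa [sub_add_cancel] at this
  have hum : ∀ i, u i ∈ maximalIdeal A := fun i => by
    rw [← hu]; exact Ideal.subset_span ⟨i, rfl⟩
  set L : ℕ → Ideal A := fun k =>
    Ideal.span (u '' {j : Fin n | j.val < k}) ⊔ maximalIdeal A ^ 2 with hL
  set T : ℕ → Ideal A := fun k =>
    Ideal.span ((fun j => τ j • u j) '' {j : Fin n | j.val < k}) ⊔ maximalIdeal A ^ 2 with hT
  -- (a) stability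
  have hstab : ∀ (σ : G) (k : ℕ) (y : A), y ∈ L k → σ • y ∈ L k := by
    intro σ k y hy
    have hmap : (L k).map (MulSemiringAction.toRingHom G A σ) ≤ L k := by
      simp only [hL]
      rw [Ideal.map_sup, Ideal.map_span, Ideal.map_pow]
      refine sup_le ?_ ?_
      · rw [Ideal.span_le]
        rintro _ ⟨_, ⟨j, hj, rfl⟩, rfl⟩
        rw [MulSemiringAction.toRingHom_apply]
        have hle : Ideal.span (u '' {i : Fin n | i ≤ j}) ⊔ maximalIdeal A ^ 2 ≤
            Ideal.span (u '' {j : Fin n | j.val < k}) ⊔ maximalIdeal A ^ 2 := by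
          refine sup_le_sup_right (Ideal.span_mono ?_) _
          rintro _ ⟨i, hi, rfl⟩
          exact ⟨i, lt_of_le_of_lt (Fin.le_def.1 hi) hj, rfl⟩
        exact hle (htri σ j)
      · refine le_sup_of_le_right (Ideal.pow_right_mono ?_ 2)
        rw [Ideal.map_le_iff_le_comap]
        intro a ha
        rw [Ideal.mem_comap, MulSemiringAction.toRingHom_apply]
        exact hsm σ a ha
    have := hmap (Ideal.mem_map_of_mem (MulSemiringAction.toRingHom G A σ) hy)
    rwa [MulSemiringAction.toRingHom_apply] at this
  -- (b) minimality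
  have hmin : ∀ i : Fin n, u i ∉ L i.val := by
    intro i hi
    set s : Set A := u '' ({i}ᶜ : Set (Fin n)) with hs
    have hLs : L i.val ≤ Ideal.span s ⊔ maximalIdeal A ^ 2 := by
      simp only [hL]
      refine sup_le_sup_right (Ideal.span_mono ?_) _
      rintro _ ⟨j, hj, rfl⟩
      refine ⟨j, ?_, rfl⟩
      simp only [Set.mem_compl_iff, Set.mem_singleton_iff]
      intro h
      rw [h] at hj
      exact lt_irrefl _ (show i.val < i.val from hj)
    have h1' : Ideal.span (Set.range u) ≤ Ideal.span s ⊔ maximalIdeal A ^ 2 := by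
      rw [Ideal.span_le]
      rintro _ ⟨j, rfl⟩
      by_cases hj : j = i
      · rw [hj]; exact hLs hi
      · exact Ideal.mem_sup_left (Ideal.subset_span ⟨j, hj, rfl⟩)
    have h1 : maximalIdeal A ≤ Ideal.span s ⊔ maximalIdeal A ^ 2 := by
      rw [hu] at h1'; exact h1'
    have h2 : maximalIdeal A ≤ Ideal.span s := nakayama_sq h1
    have hsm' : Ideal.span s ≤ maximalIdeal A := by
      rw [Ideal.span_le]
      rintro _ ⟨j, _, rfl⟩
      exact hum j
    have h6 := le_ncard_of_radical hn (Set.toFinite s) hsm' (h2.trans Ideal.le_radical)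
    have h7 : s.ncard ≤ ({i}ᶜ : Set (Fin n)).ncard := Set.ncard_image_le (Set.toFinite _)
    have h8 : ({i}ᶜ : Set (Fin n)).ncard = n - 1 := by
      rw [Set.ncard_compl, Set.ncard_singleton, Nat.card_eq_fintype_card, Fintype.card_fin]
    have := i.2
    omega
  -- monotonicity of T
  have hTmono : ∀ k, T k ≤ T (k + 1) := by
    intro k
    simp only [hT]
    refine sup_le_sup_right (Ideal.span_mono (Set.image_mono ?_)) _
    intro j hj
    exact Nat.lt_succ_of_lt hj
  -- (c) induction
  have hind : ∀ k : ℕ, k ≤ n → L k ≤ T k := by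
    intro k
    induction k with
    | zero =>
      intro _
      simp only [hL, hT]
      refine sup_le ?_ le_sup_right
      rw [Ideal.span_le]
      rintro _ ⟨j, hj, rfl⟩
      exact absurd hj (Nat.not_lt_zero _)
    | succ k ih =>
      intro hk
      have hk' : k < n := hk
      have ihk := ih (Nat.le_of_lt hk')
      set kk : Fin n := ⟨k, hk'⟩ with hkk
      have hτT : τ kk • u kk ∈ T (k + 1) := by
        simp only [hT]
        exact Ideal.mem_sup_left (Ideal.subset_span ⟨kk, Nat.lt_succ_self k, rfl⟩)
      have hsq : maximalIdeal A ^ 2 ≤ T (k + 1) := by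
        simp only [hT]; exact le_sup_right
      have hspan : Ideal.span (u '' {j : Fin n | j ≤ kk}) ≤
          Ideal.span (u '' {j : Fin n | j.val < k}) ⊔ Ideal.span {u kk} := by
        rw [Ideal.span_le]
        rintro _ ⟨j, hj, rfl⟩
        rcases Nat.lt_or_ge j.val k with h | h
        · exact Ideal.mem_sup_left (Ideal.subset_span ⟨j, h, rfl⟩)
        · have hjk : j = kk := Fin.ext (le_antisymm (Fin.le_def.1 hj) h)
          rw [hjk]
          exact Ideal.mem_sup_right (Ideal.subset_span rfl)
      have hdec : τ kk • u kk ∈ (Ideal.span (u '' {j : Fin n | j.val < k}) ⊔ Ideal.span {u kk}) ⊔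
          maximalIdeal A ^ 2 := sup_le_sup_right hspan _ (htri (τ kk) kk)
      obtain ⟨xc, hxc, w, hw, hsum⟩ := Submodule.mem_sup.1 hdec
      obtain ⟨x, hx, cu, hcu, rfl⟩ := Submodule.mem_sup.1 hxc
      obtain ⟨c, rfl⟩ := Ideal.mem_span_singleton'.1 hcu
      have hxL : x ∈ L k := by
        simp only [hL]; exact Ideal.mem_sup_left hx
      have hwL : w ∈ L k := by
        simp only [hL]; exact Ideal.mem_sup_right hw
      have hukk : u kk ∈ T (k + 1) := by
        by_cases hc : IsUnit c
        · obtain ⟨c', rfl⟩ := hc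
          have h3 : u kk = (↑c'⁻¹ : A) * (τ kk • u kk - x - w) := by
            rw [← hsum]
            have : x + ↑c' * u kk + w - x - w = ↑c' * u kk := by ring
            rw [this, ← mul_assoc, Units.inv_mul, one_mul]
          rw [h3]
          refine Ideal.mul_mem_left _ _ (Ideal.sub_mem _ (Ideal.sub_mem _ hτT ?_) (hsq hw))
          exact hTmono k (ihk hxL)
        · exfalso
          have hcm : c ∈ maximalIdeal A := (IsLocalRing.mem_maximalIdeal c).2 hc
          have hcu2 : c * u kk ∈ L k := by
            simp only [hL]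
            refine Ideal.mem_sup_right ?_
            rw [pow_two]
            exact Ideal.mul_mem_mul hcm (hum kk)
          have h4 : τ kk • u kk ∈ L k := by
            rw [← hsum]
            exact Ideal.add_mem _ (Ideal.add_mem _ hxL hcu2) hwL
          have h5 := hstab (τ kk)⁻¹ k _ h4
          rw [inv_smul_smul] at h5
          exact hmin kk h5
      simp only [hL]
      refine sup_le ?_ hsq
      rw [Ideal.span_le]
      rintro _ ⟨j, hj, rfl⟩
      rcases Nat.lt_or_ge j.val k with h | h
      · refine hTmono k (ihk ?_)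
        simp only [hL]
        exact Ideal.mem_sup_left (Ideal.subset_span ⟨j, h, rfl⟩)
      · have hjk : j = kk := Fin.ext (le_antisymm (Nat.le_of_lt_succ hj) h)
        rw [hjk]
        exact hukk
  -- (d)
  refine le_antisymm ?_ ?_
  · rw [Ideal.span_le]
    rintro _ ⟨j, rfl⟩
    exact hsm _ _ (hum j)
  · apply nakayama_sq
    have h1' : Ideal.span (Set.range u) ≤ L n := by
      rw [Ideal.span_le]
      rintro _ ⟨j, rfl⟩
      simp only [hL]
      exact Ideal.mem_sup_left (Ideal.subset_span ⟨j, j.2, rfl⟩)
    have h1 : maximalIdeal A ≤ L n := by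
      rw [hu] at h1'; exact h1'
    refine h1.trans ((hind n le_rfl).trans ?_)
    simp only [hT]
    exact sup_le_sup_right (Ideal.span_mono (Set.image_subset_range _ _)) _

/-- Let `A` be a regular local ring of Krull dimension `n` with maximal ideal `m`, let a finite group
`G` act on `A` by ring automorphisms inducing the identity on the residue field, and let `u_1, …,
u_n` generate `m`. Suppose that for every `σ ∈ G` and every `i`, `σ u_i ∈ (u_1, …, u_i) + m ^ 2`,
i.e. the induced linear maps of `m / m ^ 2` are upper triangular in the basis given by the `u_i`.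
Then the system `u` is admissible: for every choice `σ_1, …, σ_n ∈ G` the elements `σ_1 u_1, …, σ_n
u_n` generate `m`. (The published statement is for a complete regular local ring containing a
`G`-fixed field of representatives; this row drops completeness and asks only that `G` act trivially
on the residue field.) -/
theorem result
    (A : Type u) [CommRing A] [IsRegularLocalRing A]
    (G : Type v) [Group G] [Finite G] [MulSemiringAction G A]
    (hres : ∀ (σ : G) (a : A), σ • a - a ∈ IsLocalRing.maximalIdeal A)
    (n : ℕ) (hn : ringKrullDim A = n) (u : Fin n → A)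
    (hu : Ideal.span (Set.range u) = IsLocalRing.maximalIdeal A)
    (htri : ∀ (σ : G) (i : Fin n),
      σ • u i ∈ Ideal.span (u '' {j | j ≤ i}) ⊔ IsLocalRing.maximalIdeal A ^ 2) :
    ∀ τ : Fin n → G,
      Ideal.span (Set.range fun i => τ i • u i) = IsLocalRing.maximalIdeal A := by
  exact admissible_aux A G hres n hn u hu htri

end Groth.Agent.S15795
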