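import Groth.Statements.S15796
import Mathlib.RingTheory.Ideal.KrullsHeightTheorem
import Mathlib.RingTheory.Ideal.Height

set_option autoImplicit false
universe u v
open WildQuot

namespace Groth.Agent.S15796

/-- Let `A` be a Noetherian local ring of Krull dimension `n` whose maximal ideal `m` is generated by
`u_1, …, u_n`, and let a finite group `G` act on `A` by ring automorphisms. If some `σ ∈ G` maps
some `u_i` into the ideal generated by the `u_j` with `j ≠ i`, then the system `u` is not weakly
admissible: for some choice `σ_1, …, σ_n ∈ G` the radical of `(σ_1 u_1, …, σ_n u_n)` does not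
contain `m`. (The published statement is for a linear action on `k[[u_1, …, u_n]]` whose matrix has
a zero diagonal entry; this row assumes instead that some `σ u_i` lies in the ideal generated by the
other `u_j`.) -/
theorem result
    (A : Type u) [CommRing A] [IsLocalRing A] [IsNoetherianRing A]
    (G : Type v) [Group G] [Finite G] [MulSemiringAction G A]
    (n : ℕ) (hn : ringKrullDim A = n) (u : Fin n → A)
    (hu : Ideal.span (Set.range u) = IsLocalRing.maximalIdeal A)
    (σ : G) (i : Fin n) (hσ : σ • u i ∈ Ideal.span (u '' {j | j ≠ i})) :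
    ∃ τ : Fin n → G,
      ¬ IsLocalRing.maximalIdeal A ≤ (Ideal.span (Set.range fun j => τ j • u j)).radical := by
  classical
  set m := IsLocalRing.maximalIdeal A with hm
  set J : Ideal A := Ideal.span (u '' {j | j ≠ i}) with hJ
  have hJm : J ≤ m := by
    rw [hJ, Ideal.span_le]
    rintro _ ⟨j, -, rfl⟩
    rw [← hu]
    exact Ideal.subset_span ⟨j, rfl⟩
  refine ⟨fun j => if j = i then σ else 1, fun hle => ?_⟩
  have hIJ : Ideal.span (Set.range fun j => (if j = i then σ else 1 : G) • u j) ≤ J := by
    rw [Ideal.span_le]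
    rintro _ ⟨j, rfl⟩
    by_cases hj : j = i
    · subst hj
      simpa using hσ
    · simp only [if_neg hj, one_smul]
      exact Ideal.subset_span ⟨j, hj, rfl⟩
  have hmrad : m ≤ J.radical := hle.trans (Ideal.radical_mono hIJ)
  have hmin : m ∈ J.minimalPrimes := by
    refine ⟨⟨inferInstance, hJm⟩, ?_⟩
    rintro q ⟨hqp, hJq⟩ _
    exact hmrad.trans (hqp.radical_le_iff.mpr hJq)
  set s : Finset A := (Finset.univ.erase i).image u with hs
  have hspan : (Ideal.span (s : Set A)) = J := by
    rw [hJ, hs]
    congr 1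
    ext a
    simp
  have hcard : s.card ≤ n - 1 := by
    refine Finset.card_image_le.trans ?_
    rw [Finset.card_erase_of_mem (Finset.mem_univ i), Finset.card_fin]
  have hht : m.height ≤ s.card :=
    Ideal.height_le_card_of_mem_minimalPrimes_span_finset (by rw [hspan]; exact hmin)
  have hdim : (m.height : WithBot ℕ∞) = (n : WithBot ℕ∞) := by
    rw [hm, IsLocalRing.maximalIdeal_height_eq_ringKrullDim, hn]
  have hn0 : 0 < n := Fin.pos i
  have h0 : m.height ≤ ((n - 1 : ℕ) : ℕ∞) := hht.trans (Nat.cast_le.mpr hcard)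
  have h1 : (m.height : WithBot ℕ∞) ≤ (((n - 1 : ℕ) : ℕ∞) : WithBot ℕ∞) :=
    WithBot.coe_le_coe.mpr h0
  rw [hdim] at h1
  have h2 : n ≤ n - 1 := by
    have h3 : ((n : ℕ∞) : WithBot ℕ∞) ≤ (((n - 1 : ℕ) : ℕ∞) : WithBot ℕ∞) := h1
    rw [WithBot.coe_le_coe] at h3
    exact_mod_cast h3
  omega


end Groth.Agent.S15796
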