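import Groth.Statements.S15797
import Groth.Agent.H79.RegCM

set_option autoImplicit false
universe u v
open WildQuot

namespace Groth.Agent.S15797


open IsLocalRing RingTheory.Sequence Groth.Agent.H79.RegCM

noncomputable def w {A : Type u} [CommRing A] {G : Type v} [Group G] [MulSemiringAction G A]
    {n : ℕ} (u : Fin n → A) (S : Fin n → Finset G) (i : Fin n) : A := ∏ σ ∈ S i, σ • u i

theorem smul_mem_maximalIdeal {A : Type u} [CommRing A] [IsLocalRing A] {G : Type v} [Group G]
    [MulSemiringAction G A] (σ : G) {a : A} (ha : a ∈ maximalIdeal A) :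
    σ • a ∈ maximalIdeal A := by
  rw [IsLocalRing.mem_maximalIdeal, mem_nonunits_iff] at ha ⊢
  intro h
  apply ha
  have h1 := h.map (MulSemiringAction.toRingHom G A σ⁻¹)
  rwa [MulSemiringAction.toRingHom_apply, inv_smul_smul] at h1

section main

variable {A : Type u} [CommRing A] [IsRegularLocalRing A]
  {G : Type v} [Group G] [Fintype G] [MulSemiringAction G A]
  {n : ℕ} (u : Fin n → A)

theorem w_mem (hu : Ideal.span (Set.range u) = maximalIdeal A) (S : Fin n → Finset G)
    (hS : ∀ i, (S i).Nonempty) (i : Fin n) : w u S i ∈ maximalIdeal A := by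
  obtain ⟨σ, hσ⟩ := hS i
  have hui : u i ∈ maximalIdeal A := by
    rw [← hu]; exact Ideal.subset_span ⟨i, rfl⟩
  exact Ideal.mem_of_dvd _ (Finset.dvd_prod_of_mem (fun σ => σ • u i) hσ)
    (smul_mem_maximalIdeal σ hui)

theorem span_w_le (hu : Ideal.span (Set.range u) = maximalIdeal A) (S : Fin n → Finset G)
    (hS : ∀ i, (S i).Nonempty) : Ideal.span (Set.range (w u S)) ≤ maximalIdeal A := by
  rw [Ideal.span_le]
  rintro _ ⟨i, rfl⟩
  exact w_mem u hu S hS i

theorem le_radical_span_w
    (hwa : ∀ τ : Fin n → G,
      maximalIdeal A ≤ (Ideal.span (Set.range fun i => τ i • u i)).radical)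
    (S : Fin n → Finset G) : maximalIdeal A ≤ (Ideal.span (Set.range (w u S))).radical := by
  rw [Ideal.radical_eq_sInf]
  refine le_sInf ?_
  rintro P ⟨hP, hPp⟩
  have h1 : ∀ i, ∃ σ ∈ S i, σ • u i ∈ P := by
    intro i
    have : w u S i ∈ P := hP (Ideal.subset_span ⟨i, rfl⟩)
    exact (hPp.prod_mem_iff).1 this
  choose ρ _ hρ using h1
  have h2 : Ideal.span (Set.range fun i => ρ i • u i) ≤ P := by
    rw [Ideal.span_le]
    rintro _ ⟨i, rfl⟩
    exact hρ i
  exact (hwa ρ).trans (hPp.radical_le_iff.2 h2)

theorem w_regular (hn : ringKrullDim A = n)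
    (hu : Ideal.span (Set.range u) = maximalIdeal A)
    (hwa : ∀ τ : Fin n → G,
      maximalIdeal A ≤ (Ideal.span (Set.range fun i => τ i • u i)).radical)
    (S : Fin n → Finset G) (hS : ∀ i, (S i).Nonempty) (k : Fin n) (a : A)
    (ha : w u S k * a ∈ Ideal.span (w u S '' {i | i ≠ k})) :
    a ∈ Ideal.span (w u S '' {i | i ≠ k}) := by
  classical
  have hCM := isCM_of_sop A n hn u hu
  set l : List A := ((Finset.univ.erase k).toList.map (w u S)) with hl
  have hlI : Ideal.ofList l = Ideal.span (w u S '' {i | i ≠ k}) := by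
    show Ideal.span {r | r ∈ l} = _
    congr 1
    ext b
    simp only [hl, Set.mem_ofPred_eq, List.mem_map, Finset.mem_toList, Finset.mem_erase,
      Finset.mem_univ, and_true, Set.mem_image]
  have hxs : Ideal.ofList (l ++ [w u S k]) = Ideal.span (Set.range (w u S)) := by
    rw [Ideal.ofList_append, Ideal.ofList_singleton, hlI, ← span_range_eq_sup]
  have hlen : (l ++ [w u S k]).length = n := by
    rw [List.length_append, List.length_singleton, hl, List.length_map, Finset.length_toList,
      Finset.card_erase_of_mem (Finset.mem_univ k), Finset.card_univ, Fintype.card_fin]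
    have := k.2
    omega
  have hmem : ∀ x ∈ l ++ [w u S k], x ∈ maximalIdeal A := by
    intro x hx
    have : x ∈ Ideal.ofList (l ++ [w u S k]) := Ideal.subset_span hx
    rw [hxs] at this
    exact span_w_le u hu S hS this
  have hrad : maximalIdeal A ≤ (Ideal.ofList (l ++ [w u S k])).radical := by
    rw [hxs]; exact le_radical_span_w u hwa S
  have hreg := isWeaklyRegular_of_radical hCM hn _ hlen hmem hrad
  rw [isWeaklyRegular_append_iff, isWeaklyRegular_singleton_iff,
    isSMulRegular_quotient_iff_mem_of_smul_mem] at hreg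
  have h0 : Ideal.ofList l • (⊤ : Submodule A A) = Ideal.ofList l := by
    simp only [smul_eq_mul, Ideal.mul_top]
  have := hreg.2 a
  rw [h0, hlI, smul_eq_mul] at this
  exact this ha

theorem key_bound (hn : ringKrullDim A = n)
    (hu : Ideal.span (Set.range u) = maximalIdeal A)
    (hwa : ∀ τ : Fin n → G,
      maximalIdeal A ≤ (Ideal.span (Set.range fun i => τ i • u i)).radical) :
    ∀ k : ℕ, k ≤ n → ∀ S : Fin n → Finset G, (∀ i, (S i).Nonempty) →
      (∀ i : Fin n, i.val < k → S i = Finset.univ) →
      ((Fintype.card G ^ k : ℕ) : ℕ∞) ≤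
        Module.length A (A ⧸ Ideal.span (Set.range (w u S))) := by
  classical
  intro k
  induction k with
  | zero =>
    intro _ S hS _
    rw [pow_zero, Nat.cast_one]
    have hne : Ideal.span (Set.range (w u S)) ≠ ⊤ := fun h =>
      (maximalIdeal.isMaximal A).ne_top (top_le_iff.1 (h ▸ span_w_le u hu S hS))
    haveI : Nontrivial (A ⧸ Ideal.span (Set.range (w u S))) :=
      Ideal.Quotient.nontrivial_iff.2 hne
    exact Order.one_le_iff_pos.2 Module.length_pos
  | succ k ih =>
    intro hk S hS hfull
    have hk' : k < n := hk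
    set kk : Fin n := ⟨k, hk'⟩ with hkk
    set I : Ideal A := Ideal.span (w u S '' {i | i ≠ kk}) with hI
    have hSk : S kk = Finset.univ := hfull kk (Nat.lt_succ_self k)
    have hW : Ideal.span (Set.range (w u S)) =
        I ⊔ Ideal.span {∏ σ ∈ (Finset.univ : Finset G), σ • u kk} := by
      rw [span_range_eq_sup (w u S) kk]
      congr 2
      simp only [w, hSk]
    have hupd : ∀ σ : G, ∀ i, i ≠ kk →
        w u (Function.update S kk {σ}) i = w u S i := by
      intro σ i hi
      simp only [w, Function.update_of_ne hi]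
    have hupdk : ∀ σ : G, w u (Function.update S kk {σ}) kk = σ • u kk := by
      intro σ
      simp only [w, Function.update_self, Finset.prod_singleton]
    have hIσ : ∀ σ : G, Ideal.span (w u (Function.update S kk {σ}) '' {i | i ≠ kk}) = I := by
      intro σ
      rw [hI]
      congr 1
      exact Set.image_congr (fun i hi => hupd σ i hi)
    have hWσ : ∀ σ : G, Ideal.span (Set.range (w u (Function.update S kk {σ}))) =
        I ⊔ Ideal.span {σ • u kk} := by
      intro σ
      rw [span_range_eq_sup _ kk, hIσ σ, hupdk σ]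
    have hSσ : ∀ σ : G, ∀ i, (Function.update S kk {σ} i).Nonempty := by
      intro σ i
      by_cases hi : i = kk
      · rw [hi, Function.update_self]; exact Finset.singleton_nonempty σ
      · rw [Function.update_of_ne hi]; exact hS i
    have hfullσ : ∀ σ : G, ∀ i : Fin n, i.val < k →
        Function.update S kk {σ} i = Finset.univ := by
      intro σ i hi
      have hne : i ≠ kk := by
        intro h
        rw [h, hkk] at hi
        exact lt_irrefl _ hi
      rw [Function.update_of_ne hne]
      exact hfull i (Nat.lt_succ_of_lt hi)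
    have hreg : ∀ σ : G, ∀ a : A, (σ • u kk) * a ∈ I → a ∈ I := by
      intro σ a ha
      have := w_regular u hn hu hwa (Function.update S kk {σ}) (hSσ σ) kk a
      rw [hIσ σ, hupdk σ] at this
      exact this ha
    rw [hW, length_sup_prod I (fun σ : G => σ • u kk) hreg Finset.univ]
    have hsum : ∀ σ ∈ (Finset.univ : Finset G), ((Fintype.card G ^ k : ℕ) : ℕ∞) ≤
        Module.length A (A ⧸ (I ⊔ Ideal.span {σ • u kk})) := by
      intro σ _
      have := ih (Nat.le_of_lt hk') (Function.update S kk {σ}) (hSσ σ) (hfullσ σ)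
      rwa [hWσ σ] at this
    calc ((Fintype.card G ^ (k + 1) : ℕ) : ℕ∞)
        = ∑ _σ ∈ (Finset.univ : Finset G), ((Fintype.card G ^ k : ℕ) : ℕ∞) := by
          rw [Finset.sum_const, Finset.card_univ, nsmul_eq_mul, pow_succ, mul_comm]
          push_cast
          rfl
      _ ≤ _ := Finset.sum_le_sum hsum

end main

/-- Let `A` be a regular local ring of Krull dimension `n` with maximal ideal `m` generated by `u_1, …,
u_n`, let a finite group `G` of order `g` act on `A` by ring automorphisms, and suppose `u` is
weakly admissible: for every choice `σ_1, …, σ_n ∈ G` the radical of `(σ_1 u_1, …, σ_n u_n)`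
contains `m`. With `x_i = ∏_{σ ∈ G} σ u_i` the norms, the length of `A / (x_1, …, x_n)` is at least
`g ^ n` (so the finite flat map from `k[[x_1, …, x_n]]` has degree at least `g ^ n`). (The published
statement is for a complete regular local ring containing a `G`-fixed field of representatives; this
row does not assume those.) -/
theorem result
    (A : Type u) [CommRing A] [IsRegularLocalRing A]
    (G : Type v) [Group G] [Fintype G] [MulSemiringAction G A]
    (n : ℕ) (hn : ringKrullDim A = n) (u : Fin n → A)
    (hu : Ideal.span (Set.range u) = IsLocalRing.maximalIdeal A)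
    (hwa : ∀ τ : Fin n → G,
      IsLocalRing.maximalIdeal A ≤ (Ideal.span (Set.range fun i => τ i • u i)).radical) :
    ((Fintype.card G ^ n : ℕ) : ℕ∞) ≤
      Module.length A (A ⧸ Ideal.span (Set.range fun i => ∏ σ : G, σ • u i)) := by
  have h := key_bound u hn hu hwa n le_rfl (fun _ => Finset.univ)
    (fun _ => Finset.univ_nonempty) (fun _ _ => rfl)
  exact h

end Groth.Agent.S15797
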