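import Groth.Statements.S15798
import Mathlib
import Groth.Agent.H75.WQ1
import Groth.Agent.H75.EakinNagata
import Groth.Agent.H26.RegUFD
import Groth.Agent.H72.RegLoc
import Groth.Agent.H54.IntegralDim
import Groth.Agent.S2599
import Groth.Agent.S15794

set_option autoImplicit false
universe u v w
open WildQuot

namespace Groth.Agent.S15798

/-- Let `A` be a complete regular local ring of Krull dimension at least `2` and prime characteristic
`p`, with maximal ideal `m`; let `k` be a field with a ring map `k → A` whose composite with `A →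
A/m` is onto; let `G` be a group of order `p` acting on `A` by ring automorphisms fixing the image
of `k` and ramified precisely at the origin (for every prime `P ≠ m`, the inertia subgroup of `P`
(the elements of `G` fixing every element modulo `P`) is trivial). Then the invariant ring `A^G` is
Noetherian, `A` is a finite `A^G`-module, `A^G` is an integrally closed domain of the same Krull
dimension as `A`, `A^G` is complete and separated for the adic topology of `m ∩ A^G`, and `A^G` is
not a regular local ring. (The published statement also asserts that `A^G` has depth `2`, that the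
extension has degree `p`, and that the singular locus of `Spec A^G` is the closed point; this row
omits those clauses.) -/
theorem result
    (p : ℕ) [Fact p.Prime] (A : Type u) [CommRing A] [IsRegularLocalRing A] [CharP A p]
    [IsAdicComplete (IsLocalRing.maximalIdeal A) A] (hdim : 2 ≤ ringKrullDim A)
    (k : Type v) [Field k] [Algebra k A]
    (hk : Function.Surjective (IsLocalRing.residue A ∘ algebraMap k A))
    (G : Type w) [Group G] [Finite G] [MulSemiringAction G A] (hcard : Nat.card G = p)
    (hGk : ∀ (σ : G) (c : k), σ • algebraMap k A c = algebraMap k A c)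
    (hram : ∀ P : Ideal A, P.IsPrime → P ≠ IsLocalRing.maximalIdeal A → P.inertia G = ⊥) :
    IsNoetherianRing (FixedPoints.subring A G) ∧ Module.Finite (FixedPoints.subring A G) A ∧
      IsIntegrallyClosed (FixedPoints.subring A G) ∧
      ringKrullDim (FixedPoints.subring A G) = ringKrullDim A ∧
      IsAdicComplete (Ideal.comap (FixedPoints.subring A G).subtype (IsLocalRing.maximalIdeal A))
        (FixedPoints.subring A G) ∧
      ¬ IsRegularLocalRing (FixedPoints.subring A G) := by
  classical
  haveI : Fintype G := Fintype.ofFinite G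
  haveI : IsDomain A := Groth.Agent.H23.isDomain_of_isRegularLocalRing A
  haveI : Algebra.IsInvariant (FixedPoints.subring A G) A G := ⟨fun b hb => ⟨⟨b, hb⟩, rfl⟩⟩
  haveI : Algebra.IsIntegral (FixedPoints.subring A G) A :=
    Algebra.IsInvariant.isIntegral (FixedPoints.subring A G) A G
  have hinj : Function.Injective (algebraMap (FixedPoints.subring A G) A) := Subtype.val_injective
  haveI : IsLocalRing (FixedPoints.subring A G) := Groth.Agent.S15794.isLocalRing_fixedPoints A G
  haveI : IsLocalHom (algebraMap (FixedPoints.subring A G) A) :=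
    ⟨fun b hb => Groth.Agent.S15794.isUnit_fixed_of_isUnit A G b hb⟩
  haveI hausA : IsHausdorff (IsLocalRing.maximalIdeal A) A := inferInstance
  have halg : algebraMap (FixedPoints.subring A G) A = (FixedPoints.subring A G).subtype := rfl
  -- residues
  have hk' : ∀ a : A, ∃ c : k, a - algebraMap k A c ∈ IsLocalRing.maximalIdeal A := by
    intro a
    obtain ⟨c, hc⟩ := hk (IsLocalRing.residue A a)
    refine ⟨c, ?_⟩
    rw [← IsLocalRing.residue_eq_zero_iff, map_sub, sub_eq_zero]
    exact hc.symm
  -- generators of the maximal ideal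
  obtain ⟨r, u, hu⟩ := Submodule.fg_iff_exists_fin_generating_family.mp
    (IsNoetherian.noetherian (IsLocalRing.maximalIdeal A))
  have hu' : Ideal.span (Set.range u) = IsLocalRing.maximalIdeal A := hu
  -- the ideal generated by invariants in the maximal ideal is primary to it
  have hrad : IsLocalRing.maximalIdeal A ≤ (Ideal.map (FixedPoints.subring A G).subtype
      (Ideal.comap (FixedPoints.subring A G).subtype (IsLocalRing.maximalIdeal A))).radical :=
    fun a ha => ⟨Fintype.card G, Groth.Agent.H75.WQ1.pow_card_mem a ha⟩
  obtain ⟨N, hN⟩ := Ideal.exists_pow_le_of_le_radical_of_fg hrad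
    (IsNoetherian.noetherian (IsLocalRing.maximalIdeal A))
  obtain ⟨T, hTsub, hTspan⟩ := (Submodule.fg_span_iff_fg_span_finset_subset
    ((FixedPoints.subring A G).subtype ''
      (Ideal.comap (FixedPoints.subring A G).subtype (IsLocalRing.maximalIdeal A) : Set _))).mp
    (IsNoetherian.noetherian (R := A) (M := A) _)
  let bT : Fin T.card → A := fun i => ((T.equivFin.symm i : T) : A)
  have hrange : Set.range bT = (T : Set A) := by
    ext x
    constructor
    · rintro ⟨i, rfl⟩
      exact (T.equivFin.symm i).2
    · intro hx
      exact ⟨T.equivFin ⟨x, hx⟩, by simp [bT]⟩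
  have hbT : ∀ j, bT j ∈ IsLocalRing.maximalIdeal A ∧ ∀ σ : G, σ • bT j = bT j := by
    intro j
    obtain ⟨y, hy, hyj⟩ := hTsub (T.equivFin.symm j).2
    have hyj' : (y : A) = bT j := hyj
    rw [← hyj']
    exact ⟨hy, fun σ => y.2 σ⟩
  have hN' : IsLocalRing.maximalIdeal A ^ N ≤ Ideal.span (Set.range bT) := by
    refine hN.trans (le_of_eq ?_)
    rw [hrange]
    exact hTspan
  obtain ⟨e, -, heX⟩ := Groth.Agent.H87.PowEval.exists_mvEvalₐ (k := k) (R := k)
    (IsLocalRing.maximalIdeal A) (Algebra.ofId k A) bT (fun j => (hbT j).1)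
  obtain ⟨mon, hmon⟩ := Groth.Agent.H75.WQ1.finite_of_pow_le hk' u hu' bT (fun j => (hbT j).1)
    N hN' e heX
  have he_mem : ∀ (f : MvPowerSeries (Fin T.card) k) (σ : G), σ • e f = e f :=
    fun f σ => Groth.Agent.H75.WQ1.eval_fixed hGk bT (fun j => (hbT j).1)
      (fun σ j => (hbT j).2 σ) e heX f σ
  haveI hfin : Module.Finite (FixedPoints.subring A G) A := by
    refine ⟨⟨Finset.univ.image mon, ?_⟩⟩
    rw [eq_top_iff]
    intro a _
    obtain ⟨c, hc⟩ := hmon a
    rw [hc]
    apply Submodule.sum_mem
    intro z _
    have e1 : e (c z) * mon z =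
        (⟨e (c z), fun σ => he_mem (c z) σ⟩ : FixedPoints.subring A G) • mon z := rfl
    rw [e1]
    apply Submodule.smul_mem
    apply Submodule.subset_span
    exact Finset.mem_coe.mpr (Finset.mem_image_of_mem mon (Finset.mem_univ z))
  haveI hnoeth : IsNoetherianRing (FixedPoints.subring A G) :=
    Groth.Agent.H75.EakinNagata.isNoetherianRing_of_finite hinj
  haveI : UniqueFactorizationMonoid A := Groth.Agent.H26.RegUFD.ufm_of_isRegularLocalRing A
  haveI : IsIntegrallyClosed A := inferInstance
  have hic : IsIntegrallyClosed (FixedPoints.subring A G) :=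
    Groth.Agent.H75.WQ1.isIntegrallyClosed_fixed
  have hdimeq : ringKrullDim (FixedPoints.subring A G) = ringKrullDim A :=
    (Groth.Agent.H54.ringKrullDim_eq_of_isIntegral_of_injective hinj).symm
  -- Hausdorff
  have hausB : IsHausdorff
      (Ideal.comap (FixedPoints.subring A G).subtype (IsLocalRing.maximalIdeal A))
      (FixedPoints.subring A G) := by
    refine ⟨fun x hx => ?_⟩
    apply Subtype.ext
    apply IsHausdorff.haus hausA (x : A)
    intro i
    rw [SModEq.zero, smul_eq_mul, Ideal.mul_top]
    have hxi := hx i
    rw [SModEq.zero, smul_eq_mul, Ideal.mul_top] at hxi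
    have h1 : (FixedPoints.subring A G).subtype x ∈ Ideal.map (FixedPoints.subring A G).subtype
        (Ideal.comap (FixedPoints.subring A G).subtype (IsLocalRing.maximalIdeal A) ^ i) :=
      Ideal.mem_map_of_mem _ hxi
    rw [Ideal.map_pow] at h1
    exact Ideal.pow_right_mono Ideal.map_comap_le i h1
  -- completeness: a surjection from a power series ring
  have hcomplete : IsAdicComplete
      (Ideal.comap (FixedPoints.subring A G).subtype (IsLocalRing.maximalIdeal A))
      (FixedPoints.subring A G) := by
    obtain ⟨t, b', hb'⟩ := Submodule.fg_iff_exists_fin_generating_family.mp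
      (IsNoetherian.noetherian
        (Ideal.comap (FixedPoints.subring A G).subtype (IsLocalRing.maximalIdeal A)))
    have hb'span : Ideal.span (Set.range b') =
        Ideal.comap (FixedPoints.subring A G).subtype (IsLocalRing.maximalIdeal A) := hb'
    have hb'm : ∀ j, ((b' j : FixedPoints.subring A G) : A) ∈ IsLocalRing.maximalIdeal A := by
      intro j
      have h1 : b' j ∈ Ideal.comap (FixedPoints.subring A G).subtype
          (IsLocalRing.maximalIdeal A) := by
        rw [← hb'span]; exact Ideal.subset_span ⟨j, rfl⟩
      exact h1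
    obtain ⟨e', -, heX'⟩ := Groth.Agent.H87.PowEval.exists_mvEvalₐ (k := k) (R := k)
      (IsLocalRing.maximalIdeal A) (Algebra.ofId k A) (fun j => ((b' j : FixedPoints.subring A G) : A))
      hb'm
    have he'_mem : ∀ (f : MvPowerSeries (Fin t) k) (σ : G), σ • e' f = e' f :=
      fun f σ => Groth.Agent.H75.WQ1.eval_fixed hGk
        (fun j => ((b' j : FixedPoints.subring A G) : A)) hb'm
        (fun σ j => (b' j).2 σ) e' heX' f σ
    let eB : MvPowerSeries (Fin t) k →+* FixedPoints.subring A G :=
      (e' : MvPowerSeries (Fin t) k →+* A).codRestrict (FixedPoints.subring A G)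
        (fun f => fun σ => he'_mem f σ)
    have heB : ∀ f, ((eB f : FixedPoints.subring A G) : A) = e' f := fun f => rfl
    have hmap : Ideal.map eB (IsLocalRing.maximalIdeal (MvPowerSeries (Fin t) k)) =
        Ideal.comap (FixedPoints.subring A G).subtype (IsLocalRing.maximalIdeal A) := by
      rw [← Groth.Agent.H81.WildAS.hd_R k t, Ideal.map_span, ← hb'span]
      congr 1
      ext x
      constructor
      · rintro ⟨_, ⟨j, rfl⟩, rfl⟩
        refine ⟨j, ?_⟩
        apply Subtype.ext
        rw [heB, heX']
      · rintro ⟨j, rfl⟩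
        refine ⟨_, ⟨j, rfl⟩, ?_⟩
        apply Subtype.ext
        rw [heB, heX']
    haveI hausB' : IsHausdorff
        (Ideal.map eB (IsLocalRing.maximalIdeal (MvPowerSeries (Fin t) k)))
        (FixedPoints.subring A G) := by
      rw [hmap]; exact hausB
    have hsurjq : Function.Surjective ((Ideal.Quotient.mk
        (Ideal.map eB (IsLocalRing.maximalIdeal (MvPowerSeries (Fin t) k)))).comp eB) := by
      intro y
      obtain ⟨y0, rfl⟩ := Ideal.Quotient.mk_surjective y
      obtain ⟨c, hc⟩ := hk' (y0 : A)
      refine ⟨algebraMap k (MvPowerSeries (Fin t) k) c, ?_⟩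
      rw [RingHom.comp_apply, eq_comm, Ideal.Quotient.eq, hmap, Ideal.mem_comap]
      show (y0 : A) - ((eB (algebraMap k (MvPowerSeries (Fin t) k) c) : FixedPoints.subring A G) : A)
        ∈ IsLocalRing.maximalIdeal A
      rw [heB, AlgHom.commutes]
      exact hc
    have hsurj : Function.Surjective eB :=
      surjective_of_mk_map_comp_surjective eB hsurjq
    letI algCB : Algebra (MvPowerSeries (Fin t) k) (FixedPoints.subring A G) := eB.toAlgebra
    haveI hpre1 : IsPrecomplete (IsLocalRing.maximalIdeal (MvPowerSeries (Fin t) k))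
        (FixedPoints.subring A G) :=
      Groth.Agent.H75.WQ1.isPrecomplete_of_surjective' _
        (Algebra.linearMap (MvPowerSeries (Fin t) k) (FixedPoints.subring A G)) hsurj
    have hpre2 : IsPrecomplete ((IsLocalRing.maximalIdeal (MvPowerSeries (Fin t) k)).map
        (algebraMap (MvPowerSeries (Fin t) k) (FixedPoints.subring A G)))
        (FixedPoints.subring A G) := IsPrecomplete.map_algebraMap_iff.mpr hpre1
    have hpre3 : IsPrecomplete
        (Ideal.comap (FixedPoints.subring A G).subtype (IsLocalRing.maximalIdeal A))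
        (FixedPoints.subring A G) := by
      rw [← hmap]; exact hpre2
    exact { toIsHausdorff := hausB, toIsPrecomplete := hpre3 }
  refine ⟨hnoeth, hfin, hic, hdimeq, hcomplete, ?_⟩
  -- not regular: miracle flatness
  intro hreg
  haveI := hreg
  have hnle : Ideal.comap (FixedPoints.subring A G).subtype (IsLocalRing.maximalIdeal A) ≤
      IsLocalRing.maximalIdeal (FixedPoints.subring A G) := by
    intro y hy
    rw [IsLocalRing.mem_maximalIdeal, mem_nonunits_iff]
    intro hunit
    have h1 : IsUnit ((FixedPoints.subring A G).subtype y) := hunit.map _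
    exact (IsLocalRing.mem_maximalIdeal _).mp hy h1
  have hmB : IsLocalRing.maximalIdeal A ^ N ≤ EGA4.mB (FixedPoints.subring A G) A :=
    hN.trans (Ideal.map_mono hnle)
  have hmBle : EGA4.mB (FixedPoints.subring A G) A ≤ IsLocalRing.maximalIdeal A :=
    ((IsLocalRing.local_hom_TFAE (algebraMap (FixedPoints.subring A G) A)).out 0 2).mp
      ‹IsLocalHom (algebraMap (FixedPoints.subring A G) A)›
  have hzero : ringKrullDim (A ⧸ EGA4.mB (FixedPoints.subring A G) A) = 0 := by
    haveI : Nontrivial (A ⧸ EGA4.mB (FixedPoints.subring A G) A) :=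
      Ideal.Quotient.nontrivial_iff.mpr
        (ne_top_of_le_ne_top (IsLocalRing.maximalIdeal.isMaximal A).ne_top hmBle)
    rw [← ringKrullDimZero_iff_ringKrullDim_eq_zero]
    apply Ring.KrullDimLE.mk₀
    intro P' hP'
    have hPprime : (Ideal.comap (Ideal.Quotient.mk (EGA4.mB (FixedPoints.subring A G) A)) P').IsPrime :=
      Ideal.comap_isPrime _ _
    have h1 : EGA4.mB (FixedPoints.subring A G) A ≤
        Ideal.comap (Ideal.Quotient.mk (EGA4.mB (FixedPoints.subring A G) A)) P' := by
      intro x hx
      rw [Ideal.mem_comap, Ideal.Quotient.eq_zero_iff_mem.mpr hx]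
      exact P'.zero_mem
    have h2 : IsLocalRing.maximalIdeal A ≤
        Ideal.comap (Ideal.Quotient.mk (EGA4.mB (FixedPoints.subring A G) A)) P' :=
      hPprime.le_of_pow_le (hmB.trans h1)
    have h3 : Ideal.comap (Ideal.Quotient.mk (EGA4.mB (FixedPoints.subring A G) A)) P' =
        IsLocalRing.maximalIdeal A :=
      ((IsLocalRing.maximalIdeal.isMaximal A).eq_of_le hPprime.ne_top h2).symm
    have h4 := Ideal.map_eq_top_or_isMaximal_of_surjective
      (Ideal.Quotient.mk (EGA4.mB (FixedPoints.subring A G) A)) Ideal.Quotient.mk_surjective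
      (h3 ▸ IsLocalRing.maximalIdeal.isMaximal A :
        (Ideal.comap (Ideal.Quotient.mk (EGA4.mB (FixedPoints.subring A G) A)) P').IsMaximal)
    rw [Ideal.map_comap_of_surjective _ Ideal.Quotient.mk_surjective] at h4
    exact h4.resolve_left hP'.ne_top
  have hI : EGA4.mB (FixedPoints.subring A G) A • (⊤ : Submodule A A) =
      EGA4.mB (FixedPoints.subring A G) A := by
    rw [smul_eq_mul, Ideal.mul_top]
  have hdimEq : Module.supportDim A A = ringKrullDim (FixedPoints.subring A G) +
      Module.supportDim A (EGA4.FibMod (FixedPoints.subring A G) A A) := by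
    rw [Module.supportDim_self_eq_ringKrullDim,
      Module.supportDim_eq_of_equiv (Submodule.quotEquivOfEq _ _ hI),
      Module.supportDim_quotient_eq_ringKrullDim, hzero, add_zero, hdimeq]
  have hflat : Module.Flat (FixedPoints.subring A G) A :=
    Groth.Agent.S2599.result (FixedPoints.subring A G) A A
      (Groth.Agent.H72.RegLoc.isCM_of_isRegularLocalRing A) hdimEq
  exact Groth.Agent.S15794.result p A hdim k hk G hcard hGk hram hflat

end Groth.Agent.S15798
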