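import Groth.Statements.S15801
import Mathlib
import Groth.Agent.H75.WQ1
import Groth.Agent.H72.RegLoc
import Groth.Agent.H79.RegCM
import Groth.Agent.H79.FreeReg

set_option autoImplicit false
universe u v
open WildQuot

namespace Groth.Agent.S15801

open IsLocalRing TensorProduct in
/-- length of `M / m M` for a finite free module `M` over a local ring. -/
theorem length_quot_smul_top (R : Type*) [CommRing R] [IsLocalRing R] (M : Type*) [AddCommGroup M]
    [Module R M] [Module.Free R M] [Module.Finite R M] :
    Module.length R (M ⧸ (maximalIdeal R • ⊤ : Submodule R M)) = (Module.finrank R M : ℕ∞) := by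
  have e := TensorProduct.quotTensorEquivQuotSMul M (maximalIdeal R)
  rw [← e.length_eq]
  letI : Field (R ⧸ maximalIdeal R) := Ideal.Quotient.field (maximalIdeal R)
  have h1 : Module.length R ((R ⧸ maximalIdeal R) ⊗[R] M) =
      Module.length (R ⧸ maximalIdeal R) ((R ⧸ maximalIdeal R) ⊗[R] M) :=
    Module.length_eq_of_surjective Ideal.Quotient.mk_surjective
  rw [h1, Module.length_eq_finrank, Module.finrank_baseChange]

/-- Let `A` be a complete regular local ring of Krull dimension `n`, `k` a field with `k → A` mapping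
onto the residue field, `x_1, …, x_n ∈ A` a system of parameters (the radical of `(x_1, …, x_n)` is
the maximal ideal), and `φ : k[[X_1, …, X_n]] → A` the `k`-algebra map with `φ X_i = x_i`. Then `A`
is a finite free module over `k[[X_1, …, X_n]]` through `φ`, of rank the length `d` of `A / (x_1, …,
x_n)`: there are `b_1, …, b_d ∈ A` such that `(r_1, …, r_d) ↦ Σ φ(r_i) b_i` is a bijection from
`d`-tuples of power series onto `A`. -/
theorem result
    (A : Type u) [CommRing A] [IsRegularLocalRing A]
    [IsAdicComplete (IsLocalRing.maximalIdeal A) A] (n : ℕ) (hn : ringKrullDim A = n)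
    (k : Type v) [Field k] [Algebra k A]
    (hk : Function.Surjective (IsLocalRing.residue A ∘ algebraMap k A))
    (x : Fin n → A) (hx : (Ideal.span (Set.range x)).radical = IsLocalRing.maximalIdeal A)
    (φ : MvPowerSeries (Fin n) k →ₐ[k] A) (hφ : ∀ i, φ (MvPowerSeries.X i) = x i) :
    ∃ (d : ℕ) (b : Fin d → A), (d : ℕ∞) = Module.length A (A ⧸ Ideal.span (Set.range x)) ∧
      Function.Bijective (fun r : Fin d → MvPowerSeries (Fin n) k => ∑ i, φ (r i) * b i) := by
  classical
  haveI hausA : IsHausdorff (IsLocalRing.maximalIdeal A) A := inferInstance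
  have hk' : ∀ a : A, ∃ c : k, a - algebraMap k A c ∈ IsLocalRing.maximalIdeal A := by
    intro a
    obtain ⟨c, hc⟩ := hk (IsLocalRing.residue A a)
    refine ⟨c, ?_⟩
    rw [← IsLocalRing.residue_eq_zero_iff, map_sub, sub_eq_zero]
    exact hc.symm
  obtain ⟨r, u, hu⟩ := Submodule.fg_iff_exists_fin_generating_family.mp
    (IsNoetherian.noetherian (IsLocalRing.maximalIdeal A))
  have hu' : Ideal.span (Set.range u) = IsLocalRing.maximalIdeal A := hu
  have hIle : Ideal.span (Set.range x) ≤ IsLocalRing.maximalIdeal A := by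
    rw [← hx]; exact Ideal.le_radical
  have hxm : ∀ j, x j ∈ IsLocalRing.maximalIdeal A := fun j => hIle (Ideal.subset_span ⟨j, rfl⟩)
  obtain ⟨N, hN⟩ := Ideal.exists_pow_le_of_le_radical_of_fg (le_of_eq hx.symm)
    (IsNoetherian.noetherian (IsLocalRing.maximalIdeal A))
  obtain ⟨mon, hmon⟩ := Groth.Agent.H75.WQ1.finite_of_pow_le hk' u hu' x hxm N hN φ hφ
  -- algebra structure
  letI alg : Algebra (MvPowerSeries (Fin n) k) A := φ.toRingHom.toAlgebra
  have halg : ∀ c : MvPowerSeries (Fin n) k,
      algebraMap (MvPowerSeries (Fin n) k) A c = φ c := fun c => rfl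
  haveI hfin : Module.Finite (MvPowerSeries (Fin n) k) A := by
    refine ⟨⟨Finset.univ.image mon, ?_⟩⟩
    rw [eq_top_iff]
    intro a _
    obtain ⟨c, hc⟩ := hmon a
    rw [hc]
    apply Submodule.sum_mem
    intro z _
    have e1 : φ (c z) * mon z = (c z) • mon z := rfl
    rw [e1]
    apply Submodule.smul_mem
    apply Submodule.subset_span
    exact Finset.mem_coe.mpr (Finset.mem_image_of_mem mon (Finset.mem_univ z))
  have hmapJ : Ideal.map φ.toRingHom (IsLocalRing.maximalIdeal (MvPowerSeries (Fin n) k)) ≤
      IsLocalRing.maximalIdeal A := Groth.Agent.H75.WQ1.map_max_le x hxm φ hφ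
  haveI hloc : IsLocalHom (algebraMap (MvPowerSeries (Fin n) k) A) := by
    refine ⟨fun f hf => ?_⟩
    by_contra hnu
    have h1 : f ∈ IsLocalRing.maximalIdeal (MvPowerSeries (Fin n) k) :=
      (IsLocalRing.mem_maximalIdeal f).mpr hnu
    have h2 : φ.toRingHom f ∈ IsLocalRing.maximalIdeal A := hmapJ (Ideal.mem_map_of_mem _ h1)
    exact (IsLocalRing.mem_maximalIdeal _).mp h2 hf
  -- the system of parameters is a regular sequence
  have hCM := Groth.Agent.H72.RegLoc.isCM_of_isRegularLocalRing A
  have hofList : Ideal.ofList (List.ofFn x) = Ideal.span (Set.range x) := by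
    show Ideal.span {r | r ∈ List.ofFn x} = _
    congr 1
    ext b
    simp [List.mem_ofFn]
  have hregA : RingTheory.Sequence.IsWeaklyRegular A (List.ofFn x) :=
    Groth.Agent.H79.RegCM.isWeaklyRegular_of_radical hCM hn (List.ofFn x) List.length_ofFn
      (fun y hy => by
        rw [List.mem_ofFn] at hy
        obtain ⟨j, rfl⟩ := hy
        exact hxm j)
      (le_of_eq (by rw [hofList, hx]))
  set XS : List (MvPowerSeries (Fin n) k) :=
    List.ofFn (fun i => (MvPowerSeries.X i : MvPowerSeries (Fin n) k)) with hXS
  have hmapXS : XS.map (algebraMap (MvPowerSeries (Fin n) k) A) = List.ofFn x := by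
    rw [hXS, List.map_ofFn]
    congr 1
    funext i
    exact hφ i
  have hregC : RingTheory.Sequence.IsWeaklyRegular A XS := by
    rw [← RingTheory.Sequence.isWeaklyRegular_map_algebraMap_iff A A XS, hmapXS]
    exact hregA
  have hofListC : Ideal.ofList XS = IsLocalRing.maximalIdeal (MvPowerSeries (Fin n) k) := by
    rw [← Groth.Agent.H81.WildAS.hd_R k n]
    show Ideal.span {r | r ∈ XS} = _
    congr 1
    ext b
    simp [hXS, List.mem_ofFn]
  haveI hfree : Module.Free (MvPowerSeries (Fin n) k) A :=
    Groth.Agent.H79.FreeReg.free_of_regular_generators n (MvPowerSeries (Fin n) k) A XS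
      (by rw [hXS, List.length_ofFn]) hofListC hregC
  let bs := Module.finBasis (MvPowerSeries (Fin n) k) A
  refine ⟨Module.finrank (MvPowerSeries (Fin n) k) A, fun i => bs i, ?_, ?_⟩
  · have hlenC := length_quot_smul_top (MvPowerSeries (Fin n) k) A
    have hκ : Module.length (IsLocalRing.ResidueField (MvPowerSeries (Fin n) k))
        (IsLocalRing.ResidueField A) = 1 := by
      have hs : Function.Surjective (algebraMap
          (IsLocalRing.ResidueField (MvPowerSeries (Fin n) k)) (IsLocalRing.ResidueField A)) := by
        intro y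
        obtain ⟨a, rfl⟩ := IsLocalRing.residue_surjective y
        obtain ⟨c, hc⟩ := hk' a
        refine ⟨IsLocalRing.residue _ (algebraMap k (MvPowerSeries (Fin n) k) c), ?_⟩
        rw [IsLocalRing.ResidueField.algebraMap_residue, halg, AlgHom.commutes]
        symm
        rw [← sub_eq_zero, ← map_sub, IsLocalRing.residue_eq_zero_iff]
        exact hc
      rw [Module.length_eq_of_surjective hs, Module.length_eq_finrank, Module.finrank_self]
      rfl
    have h2 := IsLocalRing.length_restrictScalars (MvPowerSeries (Fin n) k) A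
      (A ⧸ Ideal.span (Set.range x))
    rw [hκ, mul_one] at h2
    have hcomp : ((algebraMap (MvPowerSeries (Fin n) k) A) ∘
        fun i : Fin n => (MvPowerSeries.X i : MvPowerSeries (Fin n) k)) = x :=
      funext fun i => hφ i
    have hImap : Ideal.map (algebraMap (MvPowerSeries (Fin n) k) A)
        (IsLocalRing.maximalIdeal (MvPowerSeries (Fin n) k)) = Ideal.span (Set.range x) := by
      rw [← Groth.Agent.H81.WildAS.hd_R k n, Ideal.map_span, ← Set.range_comp, hcomp]
    let f : A →ₗ[MvPowerSeries (Fin n) k] (A ⧸ Ideal.span (Set.range x)) :=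
      (Ideal.Quotient.mkₐ (MvPowerSeries (Fin n) k) (Ideal.span (Set.range x))).toLinearMap
    have hfs : Function.Surjective f := Ideal.Quotient.mk_surjective
    have hker : LinearMap.ker f = (IsLocalRing.maximalIdeal (MvPowerSeries (Fin n) k) • ⊤ :
        Submodule (MvPowerSeries (Fin n) k) A) := by
      rw [Ideal.smul_top_eq_map, hImap]
      ext a
      simp only [LinearMap.mem_ker, Submodule.restrictScalars_mem]
      exact Ideal.Quotient.eq_zero_iff_mem
    have e1 := f.quotKerEquivOfSurjective hfs
    have e2 := Submodule.quotEquivOfEq _ _ hker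
    have h3 : Module.length (MvPowerSeries (Fin n) k) (A ⧸ Ideal.span (Set.range x)) =
        (Module.finrank (MvPowerSeries (Fin n) k) A : ℕ∞) :=
      e1.length_eq.symm.trans (e2.length_eq.trans hlenC)
    exact h3.symm.trans h2
  · have heq : (fun r : Fin (Module.finrank (MvPowerSeries (Fin n) k) A) →
          MvPowerSeries (Fin n) k => ∑ i, φ (r i) * bs i) =
        fun r => bs.equivFun.symm r := by
      funext r
      rw [Module.Basis.equivFun_symm_apply]
      exact Finset.sum_congr rfl (fun i _ => rfl)
    rw [heq]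
    exact bs.equivFun.symm.bijective

end Groth.Agent.S15801
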