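import Groth.Statements.S15805
import Groth.Agent.H81.ASFrob
import Groth.Agent.H81.SkewSym

set_option autoImplicit false
universe u v
open WildQuot

namespace Groth.Agent.S15805

open MvPolynomial in
/-- Let `k` be a field of characteristic `p > 0`, `R = k[[x_1, …, x_n]]`, `a_1, …, a_n ∈ R` with zero
constant term and not all zero, and `A = R[u_1, …, u_n] / (u_i ^ p - a_i ^ (p-1) u_i - x_i : i =
1..n)`. Let `G` be a group of order `p` acting on `A` by `R`-algebra automorphisms, generated by an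
element `g` acting by `u_i ↦ u_i + a_i`. Then the skew group ring `A∗G` (free `A`-module on `G` with
`(a g)(b h) = a g(b) gh`) is a symmetric `R`-algebra: there is an `R`-linear form `φ : A∗G → R` with
`φ(xy) = φ(yx)` for all `x, y`, such that `y ↦ (x ↦ φ(x y))` is injective and reaches every
`R`-linear form on `A∗G` (so `Hom_R(A∗G, R) ≅ A∗G` as bimodules). -/
theorem result
    (p : ℕ) [Fact p.Prime] (k : Type u) [Field k] [CharP k p] (n : ℕ)
    (a : Fin n → MvPowerSeries (Fin n) k)
    (ham : ∀ i, MvPowerSeries.constantCoeff (a i) = 0) (hne : ∃ i, a i ≠ 0) :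
    let R := MvPowerSeries (Fin n) k
    let I : Ideal (MvPolynomial (Fin n) R) :=
      Ideal.span (Set.range fun i : Fin n =>
        X i ^ p - C (a i ^ (p - 1)) * X i - C (MvPowerSeries.X i))
    let A := MvPolynomial (Fin n) R ⧸ I
    ∀ (G : Type v) [Group G] [Finite G] [MulSemiringAction G A] [SMulCommClass G R A]
      (g : G), Nat.card G = p → (∀ h : G, h ∈ Subgroup.zpowers g) →
      (∀ i, g • (Ideal.Quotient.mk I (X i)) = Ideal.Quotient.mk I (X i) + algebraMap R A (a i)) →
      ∃ φ : SkewMonoidAlgebra A G →ₗ[R] R,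
        (∀ x y : SkewMonoidAlgebra A G, φ (x * y) = φ (y * x)) ∧
        Function.Injective (fun y : SkewMonoidAlgebra A G => fun x : SkewMonoidAlgebra A G => φ (x * y)) ∧
        ∀ ψ : SkewMonoidAlgebra A G →ₗ[R] R, ∃ y : SkewMonoidAlgebra A G, ∀ x, ψ x = φ (x * y) := by
  intro R I A G _ _ _ _ g hcard hgen hg
  have hp : 2 ≤ p := (Fact.out : p.Prime).two_le
  haveI : Nontrivial (MvPowerSeries (Fin n) k) := inferInstance
  let uA : Fin n → A := fun i => Groth.Agent.H81.ASFrob.uq p (fun i => a i ^ (p - 1))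
        (fun i : Fin n => (MvPowerSeries.X i : MvPowerSeries (Fin n) k)) i
  let lamA : A →ₗ[R] R := Groth.Agent.H81.ASFrob.lam (fun i => a i ^ (p - 1))
      (fun i : Fin n => (MvPowerSeries.X i : MvPowerSeries (Fin n) k)) hp
  have htr : ∀ h : G, ∃ e : Fin n → R, ∀ i, h • uA i = uA i + algebraMap R A (e i) := by
    intro h
    have hmem := hgen h
    rw [← (isOfFinOrder_of_finite g).mem_powers_iff_mem_zpowers] at hmem
    obtain ⟨m, rfl⟩ := (Submonoid.mem_powers_iff _ _).1 hmem
    refine ⟨fun i => (m : R) * a i, ?_⟩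
    intro i
    exact Groth.Agent.H81.SkewSym.pow_translate (R := R) (A := A) g (uA i) (a i) (hg i) m
  have hinj : ∀ x : A, (∀ y, lamA (y * x) = 0) → x = 0 :=
    Groth.Agent.H81.ASFrob.pair_inj _ _ hp
  have hsurj : ∀ ℓ : A →ₗ[R] R, ∃ z, ∀ y, ℓ y = lamA (y * z) :=
    Groth.Agent.H81.ASFrob.pair_surj _ _ hp
  have hGinv : ∀ (h : G) (x : A), lamA (h • x) = lamA x := by
    intro h x
    obtain ⟨e, he⟩ := htr h
    exact Groth.Agent.H81.ASFrob.lam_shift _ _ hp (MulSemiringAction.toAlgHom R A h) e he x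
  exact Groth.Agent.H81.SkewSym.skew_symmetric (R := R) (A := A) (G := G) lamA hinj hsurj hGinv

end Groth.Agent.S15805
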