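import Groth.Statements.S15806
import Mathlib

set_option autoImplicit false
set_option maxHeartbeats 400000
universe u
open CategoryTheory AlgebraicGeometry
open WildQuot

namespace Groth.Agent.S15806

set_option backward.isDefEq.respectTransparency.types false in
theorem assoc_stalk {S : Scheme.{u}} {V : S.Opens} (hV : IsAffineOpen V)
    (y : PrimeSpectrum Γ(S, V))
    (hy : y.asIdeal ∈ associatedPrimes Γ(S, V) Γ(S, V)) :
    IsLocalRing.maximalIdeal (S.presheaf.stalk (hV.fromSpec y)) ∈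
      associatedPrimes (S.presheaf.stalk (hV.fromSpec y)) (S.presheaf.stalk (hV.fromSpec y)) := by
  have hmem : hV.fromSpec y ∈ V := by
    have h1 : hV.fromSpec y ∈ Set.range hV.fromSpec := Set.mem_range_self y
    rw [hV.range_fromSpec] at h1
    exact h1
  letI := TopCat.Presheaf.algebra_section_stalk S.presheaf ⟨hV.fromSpec y, hmem⟩
  haveI hloc : IsLocalization y.asIdeal.primeCompl ↑(S.presheaf.stalk (hV.fromSpec y)) :=
    hV.isLocalization_stalk' y hmem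
  refine Module.associatedPrimes.mem_associatedPrimes_of_comap_mem_associatedPrimes_of_isLocalizedModule
    y.asIdeal.primeCompl (Algebra.linearMap Γ(S, V) (S.presheaf.stalk (hV.fromSpec y))) _ ?_
  have h2 := IsLocalization.AtPrime.under_maximalIdeal (S.presheaf.stalk (hV.fromSpec y)) y.asIdeal
  rw [Ideal.under] at h2
  rw [h2]
  exact hy

/-- Let `S` be a Noetherian scheme, `G_1 → S` and `G_2 → S` finite flat morphisms, and `U ⊆ S` an open
subset containing every associated point of `S`, i.e. every point whose local ring has the maximal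
ideal as an associated prime (for `S` Noetherian this says exactly that `U` is dense and contains
all points at which `S` does not satisfy Serre's condition `S_1`, which is the printed hypothesis).
If two `S`-morphisms `φ, ψ : G_1 → G_2` agree on the preimage of `U`, then `φ = ψ`. -/
theorem result
    (S G₁ G₂ : Scheme.{u}) [AlgebraicGeometry.IsNoetherian S] (f₁ : G₁ ⟶ S) (f₂ : G₂ ⟶ S)
    [AlgebraicGeometry.IsFinite f₁] [AlgebraicGeometry.Flat f₁]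
    [AlgebraicGeometry.IsFinite f₂] [AlgebraicGeometry.Flat f₂]
    (U : S.Opens)
    (hU : ∀ s : S, IsLocalRing.maximalIdeal (S.presheaf.stalk s) ∈
        associatedPrimes (S.presheaf.stalk s) (S.presheaf.stalk s) → s ∈ U)
    (φ ψ : G₁ ⟶ G₂) (hφ : φ ≫ f₂ = f₁) (hψ : ψ ≫ f₂ = f₁)
    (h : (f₁ ⁻¹ᵁ U).ι ≫ φ = (f₁ ⁻¹ᵁ U).ι ≫ ψ) : φ = ψ := by
  have key : ∀ V : S.Opens, IsAffineOpen V → (f₁ ⁻¹ᵁ V).ι ≫ φ = (f₁ ⁻¹ᵁ V).ι ≫ ψ := by
    intro V hV
    have hW₁ : IsAffineOpen (f₁ ⁻¹ᵁ V) := hV.preimage f₁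
    have hW₂ : IsAffineOpen (f₂ ⁻¹ᵁ V) := hV.preimage f₂
    have iφ : f₁ ⁻¹ᵁ V ≤ φ ⁻¹ᵁ (f₂ ⁻¹ᵁ V) := by
      rw [← Scheme.Hom.comp_preimage, hφ]
    have iψ : f₁ ⁻¹ᵁ V ≤ ψ ⁻¹ᵁ (f₂ ⁻¹ᵁ V) := by
      rw [← Scheme.Hom.comp_preimage, hψ]
    haveI : IsNoetherianRing Γ(S, V) := IsLocallyNoetherian.component_noetherian ⟨V, hV⟩
    -- a nonzerodivisor whose basic open lies in `U`
    obtain ⟨a, ha, haU⟩ : ∃ a : Γ(S, V), a ∈ nonZeroDivisors Γ(S, V) ∧ S.basicOpen a ≤ U := by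
      have hZ : IsClosed ((hV.fromSpec ⁻¹ᵁ U : (Spec Γ(S, V)).Opens) : Set (Spec Γ(S, V)))ᶜ :=
        (hV.fromSpec ⁻¹ᵁ U).isOpen.isClosed_compl
      obtain ⟨J, hJ⟩ := (PrimeSpectrum.isClosed_iff_zeroLocus_ideal _).mp hZ
      have hnd : ¬ Disjoint (J : Set Γ(S, V)) (nonZeroDivisors Γ(S, V)) := by
        intro hdis
        obtain ⟨P, hP, hJP⟩ : ∃ P ∈ associatedPrimes Γ(S, V) Γ(S, V), J ≤ P :=
          (J.subset_union_prime_finite (associatedPrimes.finite ..) (f := id) 0 0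
            fun _ h _ _ ↦ h.1).1 <|
          biUnion_associatedPrimes_eq_compl_nonZeroDivisors Γ(S, V) ▸ hdis.subset_compl_right
        have hPp : P.IsPrime := hP.1
        have hyZ : (⟨P, hPp⟩ : PrimeSpectrum Γ(S, V)) ∈ PrimeSpectrum.zeroLocus (J : Set Γ(S, V)) :=
          hJP
        rw [← hJ] at hyZ
        exact hyZ (hU _ (assoc_stalk hV ⟨P, hPp⟩ hP))
      obtain ⟨a, haJ, ha⟩ := Set.not_disjoint_iff.mp hnd
      refine ⟨a, ha, ?_⟩
      intro x hx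
      have hxV : x ∈ V := S.basicOpen_le a hx
      obtain ⟨y, hy⟩ : x ∈ Set.range hV.fromSpec := by
        rw [hV.range_fromSpec]
        exact hxV
      have hya : y ∈ hV.fromSpec ⁻¹ᵁ S.basicOpen a := by
        show hV.fromSpec y ∈ S.basicOpen a
        rw [hy]
        exact hx
      rw [hV.fromSpec_preimage_basicOpen a] at hya
      by_contra hxU
      have hyZ : y ∈ ((hV.fromSpec ⁻¹ᵁ U : (Spec Γ(S, V)).Opens) : Set (Spec Γ(S, V)))ᶜ := by
        intro hyU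
        apply hxU
        rw [← hy]
        exact hyU
      rw [hJ] at hyZ
      exact hya (hyZ haJ)
    -- equality of the two maps on sections
    have happ : φ.appLE (f₂ ⁻¹ᵁ V) (f₁ ⁻¹ᵁ V) iφ = ψ.appLE (f₂ ⁻¹ᵁ V) (f₁ ⁻¹ᵁ V) iψ := by
      ext s
      obtain ⟨a₁, ha₁⟩ : ∃ a₁ : Γ(G₁, f₁ ⁻¹ᵁ V), a₁ = (f₁.app V).hom a := ⟨_, rfl⟩
      have ha₁' : (f₁.appLE V (f₁ ⁻¹ᵁ V) le_rfl).hom a = a₁ := by
        rw [ha₁, Scheme.Hom.app_eq_appLE]
      have hO : G₁.basicOpen a₁ = f₁ ⁻¹ᵁ (S.basicOpen a) := by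
        rw [ha₁]
        exact (Scheme.preimage_basicOpen f₁ a).symm
      have hOU : G₁.basicOpen a₁ ≤ f₁ ⁻¹ᵁ U := by
        rw [hO]
        exact f₁.preimage_mono haU
      have hOW : G₁.basicOpen a₁ ≤ f₁ ⁻¹ᵁ V := G₁.basicOpen_le a₁
      have hOaff : IsAffineOpen (G₁.basicOpen a₁) := hW₁.basicOpen a₁
      have hOeq : φ.appLE (f₂ ⁻¹ᵁ V) (G₁.basicOpen a₁) (hOW.trans iφ) =
          ψ.appLE (f₂ ⁻¹ᵁ V) (G₁.basicOpen a₁) (hOW.trans iψ) := by
        apply Spec.map_injective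
        rw [← cancel_mono hW₂.fromSpec]
        rw [IsAffineOpen.SpecMap_appLE_fromSpec φ hW₂ hOaff,
          IsAffineOpen.SpecMap_appLE_fromSpec ψ hW₂ hOaff]
        have h5 : hOaff.fromSpec = hOaff.isoSpec.inv ≫ G₁.homOfLE hOU ≫ (f₁ ⁻¹ᵁ U).ι := by
          rw [Scheme.homOfLE_ι]
          rfl
        rw [h5, Category.assoc, Category.assoc, Category.assoc, Category.assoc, h]
      have hres : ∀ (χ : G₁ ⟶ G₂) (i : f₁ ⁻¹ᵁ V ≤ χ ⁻¹ᵁ (f₂ ⁻¹ᵁ V)),
          (G₁.presheaf.map (homOfLE hOW).op).hom ((χ.appLE _ _ i).hom s) =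
            (χ.appLE (f₂ ⁻¹ᵁ V) (G₁.basicOpen a₁) (hOW.trans i)).hom s := by
        intro χ i
        rw [← Scheme.Hom.appLE_map χ i (homOfLE hOW).op]
        rfl
      have hb : (G₁.presheaf.map (homOfLE hOW).op).hom
          ((φ.appLE _ _ iφ).hom s - (ψ.appLE _ _ iψ).hom s) = 0 := by
        rw [map_sub, hres φ iφ, hres ψ iψ, hOeq, sub_self]
      obtain ⟨n, hn⟩ := exists_pow_mul_eq_zero_of_res_basicOpen_eq_zero_of_isAffineOpen G₁ hW₁
        ((φ.appLE _ _ iφ).hom s - (ψ.appLE _ _ iψ).hom s) a₁ hb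
      have hflat : (f₁.appLE V (f₁ ⁻¹ᵁ V) le_rfl).hom.Flat :=
        HasRingHomProperty.appLE (P := @Flat) f₁ inferInstance ⟨V, hV⟩ ⟨f₁ ⁻¹ᵁ V, hW₁⟩ le_rfl
      letI := (f₁.appLE V (f₁ ⁻¹ᵁ V) le_rfl).hom.toAlgebra
      haveI : Module.Flat Γ(S, V) Γ(G₁, f₁ ⁻¹ᵁ V) := hflat
      have hreg : IsSMulRegular Γ(G₁, f₁ ⁻¹ᵁ V) (a ^ n) :=
        (Module.Flat.isSMulRegular_of_nonZeroDivisors ha).pow n
      have h6 : (a ^ n) • ((φ.appLE _ _ iφ).hom s - (ψ.appLE _ _ iψ).hom s) =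
          (a ^ n) • (0 : Γ(G₁, f₁ ⁻¹ᵁ V)) := by
        rw [smul_zero, Algebra.smul_def, RingHom.algebraMap_toAlgebra, map_pow, ha₁']
        exact hn
      exact sub_eq_zero.mp (hreg h6)
    have h1 := IsAffineOpen.SpecMap_appLE_fromSpec φ hW₂ hW₁ iφ
    have h2 := IsAffineOpen.SpecMap_appLE_fromSpec ψ hW₂ hW₁ iψ
    have h3 : hW₁.fromSpec ≫ φ = hW₁.fromSpec ≫ ψ := by rw [← h1, ← h2, happ]
    have h4 : (f₁ ⁻¹ᵁ V).ι = hW₁.isoSpec.hom ≫ hW₁.fromSpec := by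
      rw [IsAffineOpen.fromSpec, Iso.hom_inv_id_assoc]
    rw [h4, Category.assoc, Category.assoc, h3]
  refine Scheme.hom_ext_of_forall φ ψ fun x => ?_
  refine ⟨f₁ ⁻¹ᵁ (S.affineCover.f (S.affineCover.idx (f₁ x))).opensRange, ?_, ?_⟩
  · exact S.affineCover.covers (f₁ x)
  · exact key _ (isAffineOpen_opensRange _)

end Groth.Agent.S15806
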