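import Groth.Statements.S15808
import Groth.Agent.H81.WildAS
import Groth.Agent.H81.WildCI
import Groth.Agent.H26.RegUFD

set_option autoImplicit false
universe u
open WildQuot

namespace Groth.Agent.S15808

open MvPolynomial in
/-- Let `k` be a field of characteristic `p > 0`, `n ≥ 2`, `R = k[[x_1, …, x_n]]`, `a_1, …, a_n ∈ R`
with zero constant term and pairwise coprime, `μ ∈ R` nonzero and coprime to each `a_i`; fix an
index `i₀` and let `B = R[Z_j : j ≠ i₀] / (Z_j ^ p - (μ a_{i₀} a_j) ^ (p-1) Z_j - (a_{i₀} ^ p x_j -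
a_j ^ p x_{i₀}) : j ≠ i₀)`, the complete-intersection ring of the minor elements through `u_{i₀}`.
Then `B` is a free `R`-module of rank `p ^ (n-1)`, `B` is an integral domain, and the localisation
`B[1/(μ a_{i₀})]` is integrally closed. (The published statement uses the first index for `i₀`; this
row allows any index.) -/
theorem result
    (p : ℕ) [Fact p.Prime] (k : Type u) [Field k] [CharP k p] (n : ℕ) (hn : 2 ≤ n)
    (a : Fin n → MvPowerSeries (Fin n) k) (μ : MvPowerSeries (Fin n) k)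
    (ham : ∀ i, MvPowerSeries.constantCoeff (a i) = 0) (hcop : ∀ i j, i ≠ j → IsRelPrime (a i) (a j))
    (hμ : μ ≠ 0) (hμa : ∀ i, IsRelPrime μ (a i)) (i₀ : Fin n) :
    let R := MvPowerSeries (Fin n) k
    let r : {j : Fin n // j ≠ i₀} → MvPolynomial {j : Fin n // j ≠ i₀} R := fun j =>
      X j ^ p - C ((μ * a i₀ * a j.1) ^ (p - 1)) * X j
        - C (a i₀ ^ p * MvPowerSeries.X j.1 - a j.1 ^ p * MvPowerSeries.X i₀)
    let B := MvPolynomial {j : Fin n // j ≠ i₀} R ⧸ Ideal.span (Set.range r)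
    Module.Free R B ∧ Module.finrank R B = p ^ (n - 1) ∧ IsDomain B ∧
      IsIntegrallyClosed (Localization.Away (algebraMap R B (μ * a i₀))) := by
  intro R r B
  have hp : 2 ≤ p := (Fact.out : p.Prime).two_le
  haveI : IsDomain (MvPowerSeries (Fin n) k) := NoZeroDivisors.to_isDomain _
  haveI : CharP (MvPowerSeries (Fin n) k) p :=
    charP_of_injective_algebraMap (algebraMap k (MvPowerSeries (Fin n) k)).injective p
  have hnu : ∀ i, ¬ IsUnit (a i) := by
    intro i hi
    have := (MvPowerSeries.isUnit_iff_constantCoeff.1 hi)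
    rw [ham i] at this
    exact not_isUnit_zero this
  have ha : ∀ i, a i ≠ 0 := by
    intro j hj
    obtain ⟨i, hij⟩ : ∃ i : Fin n, i ≠ j := by
      by_cases h0 : j = ⟨0, by omega⟩
      · exact ⟨⟨1, by omega⟩, by rw [h0]; intro h; simpa using congrArg Fin.val h⟩
      · exact ⟨⟨0, by omega⟩, fun h => h0 h.symm⟩
    have hrel := hcop i j hij
    rw [hj] at hrel
    exact hnu i (hrel (dvd_refl _) (dvd_zero _))
  have ham' : ∀ i, MvPowerSeries.constantCoeff (μ * a i) = 0 := fun i => by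
    rw [map_mul, ham i, mul_zero]
  haveI hregA : IsRegularLocalRing (Groth.Agent.H81.ASAut.Aq p (Groth.Agent.H81.WildInv.bA a μ)
      (fun i => (MvPowerSeries.X i : MvPowerSeries (Fin n) k))) :=
    Groth.Agent.H81.ASLocal.isRegularLocalRing (fun i => (μ * a i) ^ (p - 1))
      (fun i => (MvPowerSeries.X i : MvPowerSeries (Fin n) k)) hp
      (Groth.Agent.H81.WildAS.hc_R hp (fun i => μ * a i) ham') (Groth.Agent.H81.WildAS.hd_R k n)
      (Groth.Agent.H81.WildAS.hdim_R k n)
  haveI hdomA : IsDomain (Groth.Agent.H81.ASAut.Aq p (Groth.Agent.H81.WildInv.bA a μ)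
      (fun i => (MvPowerSeries.X i : MvPowerSeries (Fin n) k))) :=
    Groth.Agent.H23.isDomain_of_isRegularLocalRing _
  haveI hufd : UniqueFactorizationMonoid (Groth.Agent.H81.ASAut.Aq p
      (Groth.Agent.H81.WildInv.bA a μ)
      (fun i => (MvPowerSeries.X i : MvPowerSeries (Fin n) k))) :=
    Groth.Agent.H26.RegUFD.ufm_of_isRegularLocalRing _
  haveI hicA : IsIntegrallyClosed (Groth.Agent.H81.ASAut.Aq p (Groth.Agent.H81.WildInv.bA a μ)
      (fun i => (MvPowerSeries.X i : MvPowerSeries (Fin n) k))) := inferInstance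
  refine ⟨Groth.Agent.H81.ASQuot.free _ _ hp, ?_,
    Groth.Agent.H81.WildCI.isDomain_Bq p a
      (fun i => (MvPowerSeries.X i : MvPowerSeries (Fin n) k)) μ i₀ hμ ha,
    Groth.Agent.H81.WildCI.isIntegrallyClosed_away p a
      (fun i => (MvPowerSeries.X i : MvPowerSeries (Fin n) k)) μ i₀ hμ ha⟩
  have h := Groth.Agent.H81.ASQuot.finrank_eq (ι := {j : Fin n // j ≠ i₀})
    (fun j => (μ * a i₀ * a j.1) ^ (p - 1))
    (fun j => a i₀ ^ p * (MvPowerSeries.X j.1 : MvPowerSeries (Fin n) k) -
      a j.1 ^ p * MvPowerSeries.X i₀) hp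
  have hcard : Fintype.card {j : Fin n // j ≠ i₀} = n - 1 := by
    rw [Fintype.card_subtype_compl, Fintype.card_fin, Fintype.card_subtype_eq]
  rw [hcard] at h
  exact h

end Groth.Agent.S15808
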