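import Groth.Statements.S1581
import Groth.Agent.H8.ProperDescent

set_option autoImplicit false
universe u
open CategoryTheory CategoryTheory.Limits AlgebraicGeometry
open Variety

namespace Groth.Agent.S1581

/-- Let X be a scheme over a field k and K a field extension of k. If X_K is proper over K then X is
proper over k. -/
theorem result (k : Type u) [Field k] (X : Scheme.{u}) [X.Over (Spec (CommRingCat.of k))] (K : Type u) [Field K] [Algebra k K]
    [IsProper (Curv2.bcSnd k X K)] : IsProper (X ↘ (Spec (CommRingCat.of k))) := by
  have hg : (@Surjective ⊓ @Flat ⊓ @QuasiCompact : MorphismProperty Scheme.{u})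
      (Spec.map (CommRingCat.ofHom (algebraMap k K))) := by
    refine ⟨⟨?_, ?_⟩, inferInstance⟩
    · constructor
      intro x
      obtain ⟨y⟩ : Nonempty (Spec (CommRingCat.of K)) := inferInstance
      exact ⟨y, Subsingleton.elim _ _⟩
    · rw [HasRingHomProperty.Spec_iff (P := @Flat)]
      simp only [CommRingCat.hom_ofHom]
      rw [RingHom.flat_algebraMap_iff]
      infer_instance
  exact MorphismProperty.of_pullback_snd_of_descendsAlong (P := @IsProper)
    (Q := (@Surjective ⊓ @Flat ⊓ @QuasiCompact : MorphismProperty Scheme.{u}))
    (f := X ↘ (Spec (CommRingCat.of k))) hg inferInstance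

end Groth.Agent.S1581
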