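import Groth.Statements.S15811
import Mathlib.FieldTheory.Finite.GaloisField
import Mathlib.Algebra.CharP.Algebra

set_option autoImplicit false
universe u
open WildQuot

namespace Groth.Agent.S15811

/-- Let `R` be an integrally closed domain of prime characteristic `p` with fraction field `K`, and `α ∈
R`. Then `α ≠ 0` and the polynomial `T ^ p - α T` splits into linear factors over `K` — which says
that the finite flat group scheme `Spec R[T]/(T ^ p - α T)` of order `p` has constant generic fibre
(its `p` roots are then distinct) — if and only if `α = a ^ (p-1)` for some nonzero `a ∈ R`. (The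
published statement is that the generic fibre of the finite flat group scheme of order `p` with
parameters `α, β` satisfying `α β = 0`, whose underlying scheme is `Spec R[T]/(T ^ p - α T)`, is
constant if and only if `β = 0` and `α` is the `(p-1)`-th power of a nonzero element of `R`; this
row states the polynomial condition, in which `α ≠ 0` already forces `β = 0` over a domain.) -/
theorem result
    (p : ℕ) [Fact p.Prime] (R : Type u) [CommRing R] [IsDomain R] [IsIntegrallyClosed R]
    [CharP R p] (α : R) :
    (α ≠ 0 ∧ (Polynomial.map (algebraMap R (FractionRing R))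
        (Polynomial.X ^ p - Polynomial.C α * Polynomial.X)).Splits) ↔
      ∃ a : R, a ≠ 0 ∧ α = a ^ (p - 1) := by
  have hp : p.Prime := Fact.out
  have hp1 : 1 ≤ p - 1 := by have := hp.two_le; omega
  have hpp : p - 1 + 1 = p := by have := hp.two_le; omega
  have hinj : Function.Injective (algebraMap R (FractionRing R)) := IsFractionRing.injective R (FractionRing R)
  constructor
  · rintro ⟨hα, hs⟩
    have hα' : algebraMap R (FractionRing R) α ≠ 0 := fun h => hα (hinj (by rw [h, map_zero]))
    have hfac : Polynomial.map (algebraMap R (FractionRing R)) (Polynomial.X ^ p - Polynomial.C α * Polynomial.X)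
        = Polynomial.X * (Polynomial.X ^ (p - 1) - Polynomial.C (algebraMap R (FractionRing R) α)) := by
      simp only [Polynomial.map_sub, Polynomial.map_pow, Polynomial.map_X, Polynomial.map_mul,
        Polynomial.map_C]
      rw [mul_sub, ← pow_succ', hpp]; ring
    rw [hfac, Polynomial.splits_X_mul] at hs
    have hdeg : (Polynomial.X ^ (p - 1) - Polynomial.C (algebraMap R (FractionRing R) α)).degree ≠ 0 := by
      rw [Polynomial.degree_X_pow_sub_C (by omega)]
      exact_mod_cast (by omega : p - 1 ≠ 0)
    obtain ⟨b, hb⟩ := hs.exists_eval_eq_zero hdeg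
    simp only [Polynomial.eval_sub, Polynomial.eval_pow, Polynomial.eval_X, Polynomial.eval_C,
      sub_eq_zero] at hb
    have hbint : IsIntegral R b := by
      refine ⟨Polynomial.X ^ (p - 1) - Polynomial.C α, Polynomial.monic_X_pow_sub_C α (by omega), ?_⟩
      simp [Polynomial.eval₂_sub, hb]
    obtain ⟨a, rfl⟩ := IsIntegrallyClosed.isIntegral_iff.mp hbint
    refine ⟨a, ?_, ?_⟩
    · rintro rfl
      rw [map_zero, zero_pow (by omega)] at hb
      exact hα' hb.symm
    · apply hinj
      rw [map_pow, hb]
  · rintro ⟨a, ha, rfl⟩
    refine ⟨pow_ne_zero _ ha, ?_⟩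
    set a' := algebraMap R (FractionRing R) a with ha'
    have ha'0 : a' ≠ 0 := fun h => ha (hinj (by rw [← ha', h, map_zero]))
    let _ : Algebra (ZMod p) (FractionRing R) := ZMod.algebra (FractionRing R) p
    have h1 : (Polynomial.X ^ p - Polynomial.X : Polynomial (ZMod p)).Splits := by
      have := FiniteField.splits_X_pow_card_sub_X (p := p) (K := ZMod p)
      rwa [ZMod.card, Algebra.algebraMap_self, Polynomial.map_id] at this
    have h2 : (Polynomial.X ^ p - Polynomial.X : Polynomial (FractionRing R)).Splits := by
      have := h1.map (algebraMap (ZMod p) (FractionRing R))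
      simpa using this
    have h3 : ((Polynomial.X ^ p - Polynomial.X : Polynomial (FractionRing R)).comp
        (Polynomial.C a'⁻¹ * Polynomial.X)).Splits := by
      apply h2.comp_of_degree_le_one_of_invertible
      · exact Polynomial.degree_C_mul_X_le _
      · rw [Polynomial.leadingCoeff_mul, Polynomial.leadingCoeff_C, Polynomial.leadingCoeff_X,
          mul_one]
        exact invertibleOfNonzero (inv_ne_zero ha'0)
    have h4 : Polynomial.map (algebraMap R (FractionRing R))
        (Polynomial.X ^ p - Polynomial.C (a ^ (p - 1)) * Polynomial.X) =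
        Polynomial.C (a' ^ p) * ((Polynomial.X ^ p - Polynomial.X : Polynomial (FractionRing R)).comp
          (Polynomial.C a'⁻¹ * Polynomial.X)) := by
      simp only [Polynomial.map_sub, Polynomial.map_pow, Polynomial.map_X, Polynomial.map_mul,
        Polynomial.map_C, Polynomial.sub_comp, Polynomial.pow_comp, Polynomial.X_comp]
      rw [mul_pow, ← Polynomial.C_pow, mul_sub, ← mul_assoc, ← mul_assoc, ← Polynomial.C_mul,
        ← Polynomial.C_mul, inv_pow, mul_inv_cancel₀ (pow_ne_zero _ ha'0), Polynomial.C_1, one_mul]
      congr 2
      rw [map_pow]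
      congr 1
      have key := (by rw [pow_succ, mul_assoc, mul_inv_cancel₀ ha'0, mul_one] :
        a' ^ (p - 1 + 1) * a'⁻¹ = a' ^ (p - 1))
      rw [hpp] at key
      exact key.symm
    rw [h4]
    exact h3.C_mul _


end Groth.Agent.S15811
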