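import Groth.Statements.S15814
import Mathlib
import Groth.Agent.S0565
import Groth.Agent.H79.RegCM
import Groth.Agent.H79.FreeReg
import Groth.Agent.H54.IntegralDim
import Groth.Agent.H21.HilbertCI

set_option autoImplicit false
universe u v w
open WildQuot
open TensorProduct

namespace Groth.Agent.S15814

open IsLocalRing RingTheory.Sequence TensorProduct in
/-- A regular local ring finite and injective over a regular local ring is free. -/
theorem free_of_finite_injective (R : Type u) [CommRing R] [IsRegularLocalRing R]
    (A : Type v) [CommRing A] [IsRegularLocalRing A] [Algebra R A] [Module.Finite R A]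
    (hinj : Function.Injective (algebraMap R A)) : Module.Free R A := by
  classical
  haveI : Algebra.IsIntegral R A := Algebra.IsIntegral.of_finite R A
  have hdimA : ringKrullDim A = ringKrullDim R :=
    Groth.Agent.H54.ringKrullDim_eq_of_isIntegral_of_injective hinj
  have hregR : ((maximalIdeal R).spanFinrank : WithBot ℕ∞) = ringKrullDim R :=
    IsRegularLocalRing.spanFinrank_maximalIdeal
  have hfg : (maximalIdeal R).FG := IsNoetherian.noetherian _
  obtain ⟨xs, hlen, hgen⟩ : ∃ xs : List R, xs.length = (maximalIdeal R).spanFinrank ∧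
      Ideal.ofList xs = maximalIdeal R := by
    have hfin := Submodule.FG.finite_generators hfg
    refine ⟨hfin.toFinset.toList, ?_, ?_⟩
    · rw [Finset.length_toList, ← Set.ncard_eq_toFinset_card _ hfin,
        Submodule.FG.generators_ncard hfg]
    · have : {x | x ∈ hfin.toFinset.toList} = (maximalIdeal R).generators := by
        ext x
        simp
      unfold Ideal.ofList
      rw [this]
      exact Submodule.span_generators _
  have hcomap : (maximalIdeal A).comap (algebraMap R A) = maximalIdeal R := by
    haveI : ((maximalIdeal A).comap (algebraMap R A)).IsMaximal :=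
      Ideal.isMaximal_comap_of_isIntegral_of_isMaximal (R := R) (maximalIdeal A)
    exact IsLocalRing.eq_maximalIdeal inferInstance
  set ys := xs.map (algebraMap R A) with hys
  have hysm : ∀ y ∈ ys, y ∈ maximalIdeal A := by
    intro y hy
    rw [hys, List.mem_map] at hy
    obtain ⟨x, hx, rfl⟩ := hy
    have hxm : x ∈ maximalIdeal R := by
      rw [← hgen]
      exact Ideal.subset_span hx
    rw [← hcomap] at hxm
    exact hxm
  have hofl : Ideal.ofList ys = (maximalIdeal R).map (algebraMap R A) := by
    rw [hys, ← Ideal.map_ofList, hgen]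
  have hrad : maximalIdeal A ≤ (Ideal.ofList ys).radical := by
    rw [Ideal.radical_eq_sInf]
    refine le_sInf ?_
    rintro J ⟨hJ, hJp⟩
    have h1 : maximalIdeal R ≤ J.comap (algebraMap R A) := by
      rw [← Ideal.map_le_iff_le_comap, ← hofl]
      exact hJ
    have h2 : J.comap (algebraMap R A) = maximalIdeal R :=
      ((maximalIdeal.isMaximal R).eq_of_le (Ideal.comap_ne_top _ hJp.ne_top) h1).symm
    haveI : (J.comap (algebraMap R A)).IsMaximal := h2 ▸ maximalIdeal.isMaximal R
    have h3 : J.IsMaximal := Ideal.isMaximal_of_isIntegral_of_isMaximal_comap (R := R) J inferInstance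
    rw [IsLocalRing.eq_maximalIdeal h3]
  have hCM := Groth.Agent.H21.HilbertCI.isCM_of_isRegularLocalRing A
  have hn : ringKrullDim A = ((maximalIdeal R).spanFinrank : ℕ) := by
    rw [hdimA, ← hregR]
  have hregA : IsWeaklyRegular A ys :=
    Groth.Agent.H79.RegCM.isWeaklyRegular_of_radical hCM hn ys (by rw [hys, List.length_map, hlen])
      hysm hrad
  have hregA' : IsWeaklyRegular A xs := (isWeaklyRegular_map_algebraMap_iff A A xs).mp hregA
  exact Groth.Agent.H79.FreeReg.free_of_regular_generators _ R A xs hlen hgen hregA'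

section fixed

variable {R : Type u} {A : Type v} [CommRing R] [CommRing A] [Algebra R A]
  {G : Type w} [Group G] [MulSemiringAction G A] [SMulCommClass G R A]

theorem fixed_isUnit (s : FixedPoints.subalgebra R A G) (h : IsUnit (s : A)) : IsUnit s := by
  obtain ⟨u, hu⟩ := h
  have hfix : ∀ g : G, g • (↑u⁻¹ : A) = ↑u⁻¹ := by
    intro g
    have h1 : g • ((u : A) * ↑u⁻¹) = 1 := by rw [Units.mul_inv, smul_one]
    rw [smul_mul', hu, s.2 g, ← hu] at h1
    calc g • (↑u⁻¹ : A) = ↑u⁻¹ * (↑u * g • (↑u⁻¹ : A)) := by
          rw [← mul_assoc, Units.inv_mul, one_mul]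
      _ = ↑u⁻¹ := by rw [h1, mul_one]
  refine IsUnit.of_mul_eq_one (⟨↑u⁻¹, hfix⟩ : FixedPoints.subalgebra R A G) ?_
  apply Subtype.ext
  show (s : A) * ↑u⁻¹ = 1
  rw [← hu, Units.mul_inv]

theorem fixed_isLocalRing [IsLocalRing A] : IsLocalRing (FixedPoints.subalgebra R A G) := by
  refine IsLocalRing.of_nonunits_add ?_
  intro a b ha hb
  have ha' : (a : A) ∈ nonunits A := fun h => ha (fixed_isUnit a h)
  have hb' : (b : A) ∈ nonunits A := fun h => hb (fixed_isUnit b h)
  intro hab
  have : IsUnit ((a + b : FixedPoints.subalgebra R A G) : A) :=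
    hab.map (FixedPoints.subalgebra R A G).val
  exact IsLocalRing.nonunits_add ha' hb' this

theorem fixed_isLocalHom :
    IsLocalHom (algebraMap (FixedPoints.subalgebra R A G) A) :=
  ⟨fun s h => fixed_isUnit s h⟩

end fixed

section coprod

open TensorProduct

/-- A family of subalgebras with the coproduct universal property: `A` is the tensor product of one
of them with the subalgebra generated by the others. -/
theorem bijective_productMap {ι : Type} (R : Type u) (A : Type v) [CommRing R] [CommRing A]
    [Algebra R A] (B : ι → Subalgebra R A)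
    (hco : ∀ (C : Type (max u v)) [CommRing C] [Algebra R C] (φ : ∀ i, B i →ₐ[R] C),
      ∃! ψ : A →ₐ[R] C, ∀ i (x : B i), ψ x = φ i x)
    (i : ι) (Ci : Subalgebra R A) (hCi : Ci = ⨆ j ∈ {j | j ≠ i}, B j) :
    Function.Bijective (Algebra.TensorProduct.productMap (B i).val Ci.val) := by
  classical
  have hle : ∀ j, j ≠ i → B j ≤ Ci := fun j hj => by
    rw [hCi]
    exact le_iSup₂_of_le j hj le_rfl
  let eT : ULift.{u} ((B i) ⊗[R] Ci) ≃ₐ[R] ((B i) ⊗[R] Ci) := ULift.algEquiv
  let φ : ∀ j, B j →ₐ[R] ULift.{u} ((B i) ⊗[R] Ci) := fun j =>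
    if h : j = i then
      eT.symm.toAlgHom.comp
        (Algebra.TensorProduct.includeLeft.comp (Subalgebra.inclusion (le_of_eq (congrArg B h))))
    else
      eT.symm.toAlgHom.comp
        ((Algebra.TensorProduct.includeRight (R := R) (A := B i) (B := Ci)).comp
          (Subalgebra.inclusion (hle j h)))
  obtain ⟨ψ, hψ, -⟩ := hco (ULift.{u} ((B i) ⊗[R] Ci)) φ
  let ψ' : A →ₐ[R] (B i) ⊗[R] Ci := eT.toAlgHom.comp ψ
  have hψi : ∀ x : B i, ψ' x = x ⊗ₜ[R] (1 : Ci) := by
    intro x
    show eT (ψ x) = _
    rw [hψ i x]
    simp only [φ, dif_pos rfl]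
    show eT (eT.symm _) = _
    rw [AlgEquiv.apply_symm_apply]
    rfl
  have hψj : ∀ j (hj : j ≠ i) (x : B j), ψ' x = (1 : B i) ⊗ₜ[R] (⟨x, hle j hj x.2⟩ : Ci) := by
    intro j hj x
    show eT (ψ x) = _
    rw [hψ j x]
    simp only [φ, dif_neg hj]
    show eT (eT.symm _) = _
    rw [AlgEquiv.apply_symm_apply]
    rfl
  have hψC : ∀ c : Ci, ψ' c = (1 : B i) ⊗ₜ[R] c := by
    let E : Subalgebra R Ci := AlgHom.equalizer (ψ'.comp Ci.val)
      (Algebra.TensorProduct.includeRight (R := R) (A := B i) (B := Ci))
    have hE : Ci ≤ E.map Ci.val := by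
      refine le_trans (le_of_eq hCi) (iSup₂_le ?_)
      intro j hj x hx
      have hxC : x ∈ Ci := hle j hj hx
      refine ⟨⟨x, hxC⟩, ?_, rfl⟩
      show ψ' x = _
      exact hψj j hj ⟨x, hx⟩
    intro c
    obtain ⟨c', hc', hcc⟩ := hE c.2
    have : c' = c := Subtype.ext hcc
    subst this
    exact hc'
  have h1 : ∀ t, ψ' (Algebra.TensorProduct.productMap (B i).val Ci.val t) = t := by
    intro t
    induction t using TensorProduct.induction_on with
    | zero => simp
    | tmul b c =>
      rw [Algebra.TensorProduct.productMap_apply_tmul, map_mul]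
      show ψ' (b : A) * ψ' (c : A) = _
      rw [hψi, hψC, Algebra.TensorProduct.tmul_mul_tmul, mul_one, one_mul]
    | add x y hx hy => rw [map_add, map_add, hx, hy]
  have h2 : ∀ a, Algebra.TensorProduct.productMap (B i).val Ci.val (ψ' a) = a := by
    let eA : ULift.{u} A ≃ₐ[R] A := ULift.algEquiv
    let φ2 : ∀ j, B j →ₐ[R] ULift.{u} A := fun j => eA.symm.toAlgHom.comp (B j).val
    obtain ⟨ψ2, -, huniq⟩ := hco (ULift.{u} A) φ2
    have e1 := huniq (eA.symm.toAlgHom.comp
      ((Algebra.TensorProduct.productMap (B i).val Ci.val).comp ψ')) (by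
        intro j x
        show eA.symm (Algebra.TensorProduct.productMap (B i).val Ci.val (ψ' x)) = eA.symm (x : A)
        congr 1
        by_cases hj : j = i
        · subst hj
          rw [hψi, Algebra.TensorProduct.productMap_apply_tmul, map_one, mul_one]
          rfl
        · rw [hψj j hj, Algebra.TensorProduct.productMap_apply_tmul, map_one, one_mul]
          rfl)
    have e2 := huniq eA.symm.toAlgHom (fun j x => rfl)
    intro a
    have := congrArg (fun F : A →ₐ[R] ULift.{u} A => eA (F a)) (e1.trans e2.symm)
    simpa using this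
  exact ⟨Function.LeftInverse.injective h1, Function.RightInverse.surjective h2⟩

end coprod

/-- Let `R` be a regular local ring and `A` a regular local ring, finite over `R` (with `R → A`
injective) and with the same residue field; let a finite commutative group `H` of order `p ^ n` (`p`
prime) act faithfully on `A` by `R`-algebra automorphisms with ring of invariants exactly `R`, and
let `G_1, …, G_n ≤ H` be subgroups of order `p` generating `H`, each the inertia subgroup of some
height-one prime of `A`. Put `G_i^⊥ =` the subgroup generated by the `G_j` with `j ≠ i` and `B_i =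
A^{G_i^⊥}`. Suppose `A` is the coproduct of the `R`-algebras `B_1, …, B_n`: every family of
`R`-algebra maps `B_i → C` into a commutative `R`-algebra `C` is the restriction of a unique
`R`-algebra map `A → C` (that is, the product map `B_1 ⊗_R ⋯ ⊗_R B_n → A` is an isomorphism). Then
every `B_i` is a free `R`-module and a regular local ring. (The published statement is for `A`
complete regular with an action ramified precisely at the origin, `R` a norm subring and `H` the
Galois group of `Frac(A)/Frac(R)`, when that extension is Galois, and adds that the branch-locus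
equations `a_1, …, a_n` of the `B_i` over `R` form a system of parameters of `R`; that last clause
is not included, and the test algebras `C` are taken in one universe large enough to contain the
tensor product.) -/
theorem result
    (p : ℕ) [Fact p.Prime] (R : Type u) [CommRing R] [IsRegularLocalRing R]
    (A : Type v) [CommRing A] [IsRegularLocalRing A]
    [Algebra R A] [Module.Finite R A] (hinj : Function.Injective (algebraMap R A))
    (hres : Function.Surjective (IsLocalRing.residue A ∘ algebraMap R A))
    (H : Type w) [Group H] [Finite H] [MulSemiringAction H A] [SMulCommClass H R A] [FaithfulSMul H A]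
    (hfix : ∀ a : A, (∀ h : H, h • a = a) → a ∈ Set.range (algebraMap R A))
    (hcomm : ∀ g h : H, g * h = h * g)
    (n : ℕ) (hcard : Nat.card H = p ^ n) (Gi : Fin n → Subgroup H)
    (hGi : ∀ i, Nat.card (Gi i) = p) (hsup : (⨆ i, Gi i) = ⊤)
    (hinert : ∀ i, ∃ P : Ideal A, P.IsPrime ∧ P.height = 1 ∧ P.inertia H = Gi i)
    (hcoprod : ∀ (C : Type (max u v)) [CommRing C] [Algebra R C]
      (φ : ∀ i : Fin n,
        FixedPoints.subalgebra R A ↥(⨆ j ∈ (Finset.univ.erase i : Finset (Fin n)), Gi j : Subgroup H) →ₐ[R] C),
      ∃! ψ : A →ₐ[R] C, ∀ i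
        (x : FixedPoints.subalgebra R A ↥(⨆ j ∈ (Finset.univ.erase i : Finset (Fin n)), Gi j : Subgroup H)),
        ψ x = φ i x) :
    ∀ i, Module.Free R
        (FixedPoints.subalgebra R A ↥(⨆ j ∈ (Finset.univ.erase i : Finset (Fin n)), Gi j : Subgroup H)) ∧
      IsRegularLocalRing
        (FixedPoints.subalgebra R A ↥(⨆ j ∈ (Finset.univ.erase i : Finset (Fin n)), Gi j : Subgroup H)) := by
  classical
  intro i
  have hfreeA : Module.Free R A := free_of_finite_injective R A hinj
  haveI : IsNoetherian R A := isNoetherian_of_isNoetherianRing_of_finite R A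
  have hfinS : ∀ S : Subalgebra R A, Module.Finite R S := fun S =>
    Module.Finite.of_injective S.val.toLinearMap Subtype.val_injective
  let Bs : Fin n → Subalgebra R A := fun j =>
    FixedPoints.subalgebra R A ↥(⨆ l ∈ (Finset.univ.erase j : Finset (Fin n)), Gi l : Subgroup H)
  obtain ⟨Ci, hCi⟩ : ∃ Ci : Subalgebra R A, Ci = ⨆ j ∈ {j | j ≠ i}, Bs j := ⟨_, rfl⟩
  have hbij := bijective_productMap R A Bs hcoprod i Ci hCi
  show Module.Free R (Bs i) ∧ IsRegularLocalRing (Bs i)
  haveI := hfinS (Bs i)
  haveI := hfinS Ci
  haveI : Module.Free R ((Bs i) ⊗[R] Ci) :=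
    Module.Free.of_equiv (AlgEquiv.ofBijective _ hbij).toLinearEquiv.symm
  have hfreeB : Module.Free R (Bs i) := Groth.Agent.H79.FreeReg.free_of_free_tensor R (Bs i) Ci
  haveI : Module.Free R (Ci ⊗[R] (Bs i)) := Module.Free.of_equiv (TensorProduct.comm R (Bs i) Ci)
  haveI hfreeC : Module.Free R Ci := Groth.Agent.H79.FreeReg.free_of_free_tensor R Ci (Bs i)
  refine ⟨hfreeB, ?_⟩
  -- `A` is free over `B i`
  let πB : (Bs i) ⊗[R] Ci →ₐ[Bs i] A :=
    Algebra.TensorProduct.productLeftAlgHom (Algebra.ofId (Bs i) A) Ci.val
  have hπ : ∀ t, πB t = Algebra.TensorProduct.productMap (Bs i).val Ci.val t := by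
    intro t
    induction t using TensorProduct.induction_on with
    | zero => simp
    | tmul b c => rfl
    | add x y hx hy => rw [map_add, map_add, hx, hy]
  have hπbij : Function.Bijective πB := by
    have : (πB : (Bs i) ⊗[R] Ci → A) = Algebra.TensorProduct.productMap (Bs i).val Ci.val :=
      funext hπ
    rw [this]
    exact hbij
  haveI : Module.Free (Bs i) ((Bs i) ⊗[R] Ci) := inferInstance
  haveI : Module.Free (Bs i) A :=
    Module.Free.of_equiv (LinearEquiv.ofBijective πB.toLinearMap hπbij)
  haveI : Module.Flat (Bs i) A := inferInstance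
  haveI : IsLocalRing (Bs i) := fixed_isLocalRing
  haveI : IsLocalHom (algebraMap (Bs i) A) := fixed_isLocalHom
  haveI : IsNoetherianRing (Bs i) :=
    isNoetherian_of_tower R (isNoetherian_of_isNoetherianRing_of_finite R (Bs i))
  exact Groth.Agent.S0565.result (Bs i) A

end Groth.Agent.S15814
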