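import Groth.Statements.S15816
import Groth.Agent.H59.KoszScale
import Groth.Agent.H59.KoszBridge

set_option autoImplicit false
universe u
open CategoryTheory
open scoped TensorProduct
open Koszul

namespace Groth.Agent.S15816


/-- Let A be a commutative ring, f = (f_1, …, f_n) a sequence in A that is regular in the weak sense
(f_1 is a non-zero-divisor of A and each f_i is a non-zero-divisor modulo (f_1, …, f_{i-1})), with
Koszul complex K(f) and differentials ∂^q, and let x be a non-zero-divisor of A. Then for every
integer q < 0 the q-th cohomology module of the Koszul complex of (x f_1, …, x f_n) is isomorphic as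
an A-module to Ker(∂^q) ⊗_A A/(x) (existence of an A-linear isomorphism; mapping-cone model of the
Koszul complex). -/
theorem result (A : Type u) [CommRing A] (l : List A)
    (hl : RingTheory.Sequence.IsWeaklyRegular A l) (x : A) (hx : x ∈ nonZeroDivisors A) (q : ℤ) (hq : q < 0) :
    Nonempty ((Koszul.koszul A (l.map (fun f => x * f))).homology q ≅
      ModuleCat.of A (↥(LinearMap.ker ((Koszul.koszul A l).d q (q + 1)).hom) ⊗[A] (A ⧸ Ideal.span {x}))) := by
  rw [Groth.Agent.H59.Kosz.koszul_eq, Groth.Agent.H59.Kosz.koszul_eq]
  obtain ⟨iso⟩ := Groth.Agent.H59.Kosz.homology_kz_scaled l x hx q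
  obtain ⟨hzero, -⟩ := Groth.Agent.H59.Kosz.kz_regular l A hl
  have hq0 := hzero q hq.ne
  revert iso hq0
  generalize Groth.Agent.H59.Kosz.kz (Groth.Agent.H59.Kosz.sgl (ModuleCat.of A A)) l = K
  intro iso hq0
  have hex : LinearMap.range (K.d (q-1) q).hom = LinearMap.ker (K.d q (q+1)).hom := by
    have := (K.exactAt_iff' (q-1) q (q+1) (by simp) (by simp)).1
      ((K.exactAt_iff_isZero_homology q).2 hq0)
    exact (ShortComplex.moduleCat_exact_iff_range_eq_ker _).1 this
  have hsub : Submodule.comap (LinearMap.ker (K.d q (q+1)).hom).subtype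
      (Ideal.span {x} • LinearMap.range (K.d (q-1) q).hom) =
      Ideal.span {x} • (⊤ : Submodule A (LinearMap.ker (K.d q (q+1)).hom)) := by
    rw [hex]
    apply Submodule.map_injective_of_injective (LinearMap.ker (K.d q (q+1)).hom).injective_subtype
    rw [Submodule.map_comap_subtype, Submodule.map_smul'', Submodule.map_subtype_top, inf_eq_right]
    exact Submodule.smul_le_right
  exact ⟨iso ≪≫ (Submodule.quotEquivOfEq _ _ hsub ≪≫ₗ
    (TensorProduct.tensorQuotEquivQuotSMul _ _).symm).toModuleIso⟩

end Groth.Agent.S15816
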