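import Groth.Statements.S15818
import Groth.Agent.H79.QuotPullback
import Mathlib.RingTheory.Ideal.Operations
import Mathlib.Algebra.Module.Submodule.Pointwise

set_option autoImplicit false
universe u
open CategoryTheory
open Koszul

namespace Groth.Agent.S15818

/-- Let A be a commutative ring, f = (f_1, …, f_n) a finite sequence in A with Koszul complex K = K(f)
(mapping-cone model) and differentials ∂, q an integer, Z = Ker(∂^q) and B = Im(∂^{q-1}), so B ⊆ Z
inside K^q (this inclusion is carried as the hypothesis hBZ). Let x be a non-zero-divisor of A which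
moreover acts injectively on the cohomology module Z/B (for Noetherian A this says that x lies in no
associated prime of Z/B, which is how the published statement phrases it; the published argument
uses exactly the injectivity). Then the commuting square of quotient projections with corners Z/xB
(top left; it is isomorphic to the q-th cohomology of the Koszul complex of (x f_1, …, x f_n)), Z/xZ
= Z ⊗ A/(x) (top right), Z/B (bottom left) and Z/(B + xZ) = (Z/B) ⊗ A/(x) (bottom right) is
cartesian in the category of A-modules. All four corners are written as quotients of Z by the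
preimages of the submodules xB, xZ, B, B + xZ of K^q. -/
theorem result (A : Type u) [CommRing A] (l : List A) (q : ℤ)
    (K : CochainComplex (ModuleCat.{u} A) ℤ) (hK : K = Koszul.koszul A l)
    (hBZ : LinearMap.range (K.d (q - 1) q).hom ≤ LinearMap.ker (K.d q (q + 1)).hom)
    (x : A) (hx : x ∈ nonZeroDivisors A)
    (hxH : IsSMulRegular (↥(LinearMap.ker (K.d q (q + 1)).hom) ⧸ Submodule.comap (LinearMap.ker (K.d q (q + 1)).hom).subtype (LinearMap.range (K.d (q - 1) q).hom)) x) :
    IsPullback
      (ModuleCat.ofHom (Submodule.factor (Submodule.comap_mono (Submodule.smul_mono le_rfl hBZ) :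
        Submodule.comap (LinearMap.ker (K.d q (q + 1)).hom).subtype (Ideal.span {x} • LinearMap.range (K.d (q - 1) q).hom) ≤
          Submodule.comap (LinearMap.ker (K.d q (q + 1)).hom).subtype (Ideal.span {x} • LinearMap.ker (K.d q (q + 1)).hom))))
      (ModuleCat.ofHom (Submodule.factor (Submodule.comap_mono (Submodule.smul_le_right) :
        Submodule.comap (LinearMap.ker (K.d q (q + 1)).hom).subtype (Ideal.span {x} • LinearMap.range (K.d (q - 1) q).hom) ≤
          Submodule.comap (LinearMap.ker (K.d q (q + 1)).hom).subtype (LinearMap.range (K.d (q - 1) q).hom))))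
      (ModuleCat.ofHom (Submodule.factor (Submodule.comap_mono le_sup_right :
        Submodule.comap (LinearMap.ker (K.d q (q + 1)).hom).subtype (Ideal.span {x} • LinearMap.ker (K.d q (q + 1)).hom) ≤
          Submodule.comap (LinearMap.ker (K.d q (q + 1)).hom).subtype (LinearMap.range (K.d (q - 1) q).hom ⊔ Ideal.span {x} • LinearMap.ker (K.d q (q + 1)).hom))))
      (ModuleCat.ofHom (Submodule.factor (Submodule.comap_mono le_sup_left :
        Submodule.comap (LinearMap.ker (K.d q (q + 1)).hom).subtype (LinearMap.range (K.d (q - 1) q).hom) ≤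
          Submodule.comap (LinearMap.ker (K.d q (q + 1)).hom).subtype (LinearMap.range (K.d (q - 1) q).hom ⊔ Ideal.span {x} • LinearMap.ker (K.d q (q + 1)).hom)))) := by
  apply Groth.Agent.H79.isPullback_factor
  · rintro ⟨z, hz⟩ hw
    obtain ⟨hP, hQ⟩ := Submodule.mem_inf.mp hw
    rw [Submodule.mem_comap] at hP hQ ⊢
    simp only [Submodule.subtype_apply] at hP hQ ⊢
    rw [Submodule.ideal_span_singleton_smul, Submodule.mem_smul_pointwise_iff_exists] at hP
    obtain ⟨z', hz', rfl⟩ := hP
    rw [Submodule.ideal_span_singleton_smul]
    apply Submodule.smul_mem_pointwise_smul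
    have h0 : x • (Submodule.Quotient.mk (⟨z', hz'⟩ : ↥(LinearMap.ker (K.d q (q + 1)).hom)) :
        ↥(LinearMap.ker (K.d q (q + 1)).hom) ⧸ Submodule.comap
          (LinearMap.ker (K.d q (q + 1)).hom).subtype (LinearMap.range (K.d (q - 1) q).hom)) =
        x • 0 := by
      rw [smul_zero, ← Submodule.Quotient.mk_smul, Submodule.Quotient.mk_eq_zero,
        Submodule.mem_comap]
      exact hQ
    have h1 := hxH h0
    rw [Submodule.Quotient.mk_eq_zero, Submodule.mem_comap] at h1
    exact h1
  · rintro ⟨z, hz⟩ hS
    rw [Submodule.mem_comap] at hS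
    simp only [Submodule.subtype_apply] at hS
    obtain ⟨b, hb, c, hc, hbc⟩ := Submodule.mem_sup.mp hS
    have hcZ : c ∈ LinearMap.ker (K.d q (q + 1)).hom := by
      rw [Submodule.ideal_span_singleton_smul, Submodule.mem_smul_pointwise_iff_exists] at hc
      obtain ⟨c', hc', rfl⟩ := hc
      exact Submodule.smul_mem _ _ hc'
    rw [Submodule.mem_sup]
    refine ⟨⟨c, hcZ⟩, ?_, ⟨b, hBZ hb⟩, ?_, ?_⟩
    · rw [Submodule.mem_comap]; exact hc
    · rw [Submodule.mem_comap]; exact hb
    · apply Subtype.ext
      simp only [Submodule.coe_add]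
      rw [add_comm]; exact hbc


end Groth.Agent.S15818
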