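import Groth.Statements.S1582
import Groth.Agent.H38.GeomRedField
import Groth.Agent.H37.GeomSepClosed

set_option autoImplicit false
universe u
open CategoryTheory CategoryTheory.Limits AlgebraicGeometry
open Variety

namespace Groth.Agent.S1582

/-- Let k be algebraically closed and X, Y varieties over k (integral, separated, of finite type). Then
the fibre product X ×_k Y is integral (and so again a variety over k). -/
theorem result (k : Type u) [Field k] [IsAlgClosed k] (X Y : Scheme.{u})
    (f : X ⟶ Spec (CommRingCat.of k)) (g : Y ⟶ Spec (CommRingCat.of k))
    [IsIntegral X] [IsIntegral Y] [IsSeparated f] [IsSeparated g]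
    [LocallyOfFiniteType f] [LocallyOfFiniteType g] [QuasiCompact f] [QuasiCompact g] :
    IsIntegral (pullback f g) := by
  haveI : GeometricallyIrreducible f := Groth.Agent.H37.geomIrr_of_isSepClosed f
  haveI : GeometricallyReduced f := Groth.Agent.H38.GeomRedField.geomReduced_of_perfectField f
  haveI : IrreducibleSpace ↥(pullback f g) := inferInstance
  haveI : IsReduced (pullback f g) := Groth.Agent.S4628.result f g
  exact isIntegral_of_irreducibleSpace_of_isReduced _

end Groth.Agent.S1582
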