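import Groth.Statements.S15822
import Mathlib
import Groth.Agent.H46.KzHom

set_option autoImplicit false
set_option linter.style.haveILetI false
universe u
open CategoryTheory
open Koszul

namespace Groth.Agent.S15822

open Groth.Agent.H46.KzCone


/-- Let A be a commutative ring, M an A-module, x = (x_1, …, x_s) a sequence in A and y_1, …, y_r
elements of the ideal (x_1, …, x_s). Then for every integer m, the m-th cohomology module of the
complex K(x_1, …, x_s, y_1, …, y_r) ⊗_A M (Koszul complex of the concatenated sequence in the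
iterated mapping-cone model, tensored termwise with M) is isomorphic as an A-module to the direct
sum over j = 0, …, r of (r choose j) copies of the (m + j)-th cohomology module of K(x_1, …, x_s)
⊗_A M (existence of an A-linear isomorphism). In the published indexing: H^{-q}(K(x, y) ⊗ M) ≅
⊕_{i+j=q} H^{-i}(K(x) ⊗ M) ⊗ ∧^j A^r. -/
theorem result (A : Type u) [CommRing A] (M : ModuleCat.{u} A)
    (xs ys : List A) (hy : ∀ y ∈ ys, y ∈ Ideal.span {a | a ∈ xs}) (m : ℤ) :
    Nonempty ((DRing.tensorCx (Koszul.koszul A (xs ++ ys)) M).homology m ≅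
      ModuleCat.of A ((j : Fin (ys.length + 1)) → Fin (ys.length.choose j) →
        (DRing.tensorCx (Koszul.koszul A xs) M).homology (m + j))) := by
  classical
  let B0 : CochainComplex (ModuleCat.{u} A) ℤ :=
    (CochainComplex.singleFunctor (ModuleCat.{u} A) 0).obj (ModuleCat.of A A)
  let B' : CochainComplex (ModuleCat.{u} A) ℤ :=
    ((MonoidalCategory.tensorRight M).mapHomologicalComplex (ComplexShape.up ℤ)).obj B0
  have key : ∀ l : List A, Nonempty (DRing.tensorCx (Koszul.koszul A l) M ≅ kzC B' l) := by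
    intro l
    rw [koszul_eq]
    obtain ⟨e1⟩ := map_kzM (MonoidalCategory.tensorRight M) B0 l
    obtain ⟨e2⟩ := kzM_iso_kzC B' l
    exact ⟨e1 ≪≫ e2⟩
  obtain ⟨exy⟩ := key (xs ++ ys)
  obtain ⟨ex⟩ := key xs
  rw [kzC_append] at exy
  obtain ⟨sw⟩ := swapAll B' xs ys
  obtain ⟨ι, hfin, φ, hcard, he⟩ :=
    kz_homology (kzC B' xs) ys (fun y hy' => NH_kzC_span B' (hy y hy'))
  obtain ⟨e⟩ := he m
  obtain ⟨fr⟩ := final_reindex (A := A) (fun n => (kzC B' xs).homology n) ys.length ι φ hcard m
  let exh : ∀ n, (DRing.tensorCx (Koszul.koszul A xs) M).homology n ≃ₗ[A]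
      (kzC B' xs).homology n := fun n =>
    ((HomologicalComplex.homologyFunctor _ _ n).mapIso ex).toLinearEquiv
  let e1 : (DRing.tensorCx (Koszul.koszul A (xs ++ ys)) M).homology m ≃ₗ[A]
      (kzC (kzC B' xs) ys).homology m :=
    ((HomologicalComplex.homologyFunctor _ _ m).mapIso (exy ≪≫ sw)).toLinearEquiv
  let tot := e1 ≪≫ₗ e ≪≫ₗ fr ≪≫ₗ
    LinearEquiv.piCongrRight (fun j => LinearEquiv.piCongrRight (fun _ => (exh (m + j)).symm))
  exact ⟨tot.toModuleIso⟩

end Groth.Agent.S15822
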