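import Groth.Statements.S15824
import Groth.Agent.H9.RegImmStalk
import Groth.Agent.H79.NormalCI
set_option maxHeartbeats 400000
set_option linter.style.haveILetI false

set_option autoImplicit false
universe u
open CategoryTheory AlgebraicGeometry
open RegImm

namespace Groth.Agent.S15824


open IsLocalRing RingTheory.Sequence in
/-- A Cohen–Macaulay local ring whose maximal ideal is an associated prime has dimension zero. -/
theorem dim_zero_of_isCM_of_isAssociatedPrime (B : Type u) [CommRing B]
    [hB : LocCoh.IsCohenMacaulayLocalRing B]
    (h : IsAssociatedPrime (IsLocalRing.maximalIdeal B) B) : ringKrullDim B = 0 := by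
  have h1 := hB.supportDim_eq_depth
  rw [Module.supportDim_self_eq_ringKrullDim] at h1
  rw [h1]
  have hd : LocCoh.depth B B = 0 := by
    unfold LocCoh.depth LocCoh.idealDepth
    have hne : maximalIdeal B • (⊤ : Submodule B B) ≠ ⊤ := by
      rw [smul_eq_mul, Ideal.mul_top]
      exact (maximalIdeal.isMaximal B).ne_top
    rw [if_neg hne]
    apply le_antisymm _ bot_le
    refine iSup_le fun rs => iSup_le fun hh => ?_
    obtain ⟨hreg, hmem⟩ := hh
    cases rs with
    | nil => simp
    | cons r rs' =>
      exfalso
      obtain ⟨hp, x, hx⟩ := isAssociatedPrime_iff.mp h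
      have hr : r ∈ maximalIdeal B := hmem r List.mem_cons_self
      have hreg1 : IsSMulRegular B r := ((isWeaklyRegular_cons_iff B r rs').mp hreg).1
      have hrx : r • x = 0 := by
        rw [hx] at hr
        have := Submodule.mem_colon_singleton.mp hr
        simpa using this
      have hx0 : x = 0 := hreg1 (by simpa using hrx)
      apply hp.ne_top
      rw [hx, hx0]
      ext y
      simp [Submodule.mem_colon_singleton]
  rw [hd]
  rfl

/-- Let X be a locally Noetherian scheme all of whose local rings are Cohen–Macaulay, and i : Z → X a
closed immersion which is regular (around every point, on some affine open of X the ideal of Z is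
generated by a regular sequence). Then Z has no embedded points (each associated point of Z is
generic in an irreducible component): for every point z of Z, if the maximal ideal of O_{Z,z} is an
associated prime of O_{Z,z} (as a module over itself), then O_{Z,z} has Krull dimension 0. (The
published statement takes X Noetherian and Z a local complete intersection subscheme; the assertion
is local on X and uses only that the ideal of Z is locally generated by a regular sequence.) -/
theorem result {X Z : Scheme.{u}}
    [IsLocallyNoetherian X] (hCM : ∀ x : X, LocCoh.IsCohenMacaulayLocalRing (X.presheaf.stalk x))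
    (i : Z ⟶ X) [IsClosedImmersion i] (hi : RegImm.IsRegularImmersion RegImm.Kind.regular i) (z : Z)
    (hz : IsAssociatedPrime (IsLocalRing.maximalIdeal (Z.presheaf.stalk z)) (Z.presheaf.stalk z)) :
    ringKrullDim (Z.presheaf.stalk z) = 0 := by
  obtain ⟨rs, hrs, hker⟩ :=
    Groth.Agent.H9.exists_isRegular_ker_stalkMap_of_isRegularImmersionAt i z (hi.2 z)
  haveI := hCM (i z)
  have hsurj : Function.Surjective (i.stalkMap z).hom := i.stalkMap_surjective z
  have hxs : ∀ x ∈ rs, x ∈ IsLocalRing.maximalIdeal (X.presheaf.stalk (i z)) := by
    intro x hx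
    have h1 : x ∈ RingHom.ker (i.stalkMap z).hom := by
      rw [hker]
      exact Ideal.subset_span hx
    rw [IsLocalRing.mem_maximalIdeal]
    intro hu
    have h2 := hu.map (i.stalkMap z).hom
    rw [RingHom.mem_ker.mp h1] at h2
    exact not_isUnit_zero h2
  have hCMmod : LocCoh.IsCohenMacaulayModule (X.presheaf.stalk (i z)) (X.presheaf.stalk (i z)) :=
    (hCM (i z)).supportDim_eq_depth
  obtain ⟨hiff, -⟩ := Groth.Agent.H29.CM.isWeaklyRegular_iff_of_isCM rs (X.presheaf.stalk (i z))
    hCMmod hxs
  have heq := hiff.1 hrs.toIsWeaklyRegular
  have hI : Ideal.ofList rs • (⊤ : Submodule (X.presheaf.stalk (i z)) (X.presheaf.stalk (i z))) =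
      Ideal.ofList rs := by
    rw [smul_eq_mul, Ideal.mul_top]
  have hdim : ringKrullDim (X.presheaf.stalk (i z) ⧸ Ideal.ofList rs) +
      (rs.length : WithBot ℕ∞) ≤ ringKrullDim (X.presheaf.stalk (i z)) := by
    rw [hI, Module.supportDim_quotient_eq_ringKrullDim, Module.supportDim_self_eq_ringKrullDim]
      at heq
    exact heq.le
  have hcm' := Groth.Agent.H79.NormalCI.isCMLocalRing_quotient_ofList hCMmod rs hxs hdim
  haveI := hcm'.toIsLocalRing
  let e : (X.presheaf.stalk (i z) ⧸ Ideal.ofList rs) ≃+* Z.presheaf.stalk z :=
    (Ideal.quotEquivOfEq hker.symm).trans (RingHom.quotientKerEquivOfSurjective hsurj)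
  haveI := Groth.Agent.H29.FlatCM.isCM_ringEquiv e hcm'
  exact dim_zero_of_isCM_of_isAssociatedPrime _ hz

end Groth.Agent.S15824
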