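import Groth.Statements.S15826
-- import your own Groth.Agent.* helpers here
import Groth.Agent.H8.RegCot
import Groth.Agent.H8.LocFreeNearFinite
import Groth.Agent.H21.EpiPush
import Groth.Agent.H39.ConormalSect

set_option autoImplicit false
universe u
open CategoryTheory AlgebraicGeometry Opposite
open RegImm

namespace Groth.Agent.S15826

set_option linter.style.haveILetI false
open CategoryTheory.Limits
open scoped TensorProduct

open Groth.Agent.H8 Groth.Agent.H39 Groth.Agent.H39.PullTrack Groth.Agent.H39.ConormalLocal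
  Groth.Agent.H39.ConormalSect OmegaSh

set_option maxHeartbeats 1000000 in
theorem bijective_app {X Y : Scheme.{u}} (n : ℕ) (E : X.Modules) [E.IsQuasicoherent]
    (i : Y ⟶ X) [IsClosedImmersion i] (t : E ⟶ ClSub.idealMod i.ker) [Epi t]
    (U : X.affineOpens) (b : Module.Basis (Fin n) Γ(X, U.1) Γ(E, U.1))
    (hb : RingTheory.Sequence.IsWeaklyRegular Γ(X, U.1)
      (List.ofFn fun k => idealSect i.ker U.1 (t.app U.1 (b k)))) :
    Function.Bijective (((Scheme.Modules.pullback i).map t).app (i ⁻¹ᵁ U.1)) := by
  haveI : (ClSub.idealMod i.ker).IsQuasicoherent :=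
    inferInstanceAs (kernel (ClSub.toSubscheme i.ker)).IsQuasicoherent
  letI := (i.appLE U.1 (i ⁻¹ᵁ U.1) le_rfl).hom.toAlgebra
  have hU' : IsAffineOpen (i ⁻¹ᵁ U.1) := U.2.preimage i
  obtain ⟨EE, hEE⟩ := exists_sectionsPullbackEquiv i E U.2 hU' le_rfl
  obtain ⟨EI, hEI⟩ := exists_sectionsPullbackEquiv i (ClSub.idealMod i.ker) U.2 hU' le_rfl
  have hsurj := algebraMap_surjective_of_isClosedImmersion i U
  have hker := ker_algebraMap_of_isClosedImmersion i U
  have hring := RegCot.baseChange_bijective_of_regular (B := Γ(Y, i ⁻¹ᵁ U.1)) hsurj b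
    (appₗ t U.1) (Groth.Agent.H21.EpiPush.app_surjective_of_epi t U.2)
    (idealSectₗ i.ker U.1)
    (fun x => by rw [hker]; exact idealSect_mem_ideal i.ker U x)
    (fun a ha => by rw [hker] at ha; exact exists_idealSect_eq i.ker U a ha)
    hb
  have key : ∀ z : Γ(Y, i ⁻¹ᵁ U.1) ⊗[Γ(X, U.1)] Γ(E, U.1),
      EI (((Scheme.Modules.pullback i).map t).app (i ⁻¹ᵁ U.1) (EE.symm z)) =
        LinearMap.baseChange Γ(Y, i ⁻¹ᵁ U.1) (appₗ t U.1) z := by
    intro z
    induction z using TensorProduct.induction_on with
    | zero => simp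
    | add a c ha hc => simp only [map_add, ha, hc]
    | tmul c x =>
      have h1 : EE.symm (c ⊗ₜ[Γ(X, U.1)] x) =
          c • pullSectLE i E U.1 (i ⁻¹ᵁ U.1) le_rfl x := by
        apply EE.injective
        rw [LinearEquiv.apply_symm_apply, map_smul, hEE x, TensorProduct.smul_tmul', smul_eq_mul,
          mul_one]
      rw [h1, Scheme.Modules.Hom.app_smul, map_pullSectLE, map_smul, hEI,
        LinearMap.baseChange_tmul, TensorProduct.smul_tmul', smul_eq_mul, mul_one]
      rfl
  have hcomp : ∀ w, EI (((Scheme.Modules.pullback i).map t).app (i ⁻¹ᵁ U.1) w) =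
      LinearMap.baseChange Γ(Y, i ⁻¹ᵁ U.1) (appₗ t U.1) (EE w) := by
    intro w
    have := key (EE w)
    rwa [LinearEquiv.symm_apply_apply] at this
  constructor
  · intro w w' hww'
    apply EE.injective
    apply hring.1
    rw [← hcomp, ← hcomp, hww']
  · intro v
    obtain ⟨z, hz⟩ := hring.2 (EI v)
    refine ⟨EE.symm z, EI.injective ?_⟩
    rw [hcomp, LinearEquiv.apply_symm_apply, hz]


/-- Let X be a scheme, E a finite locally free O_X-module of rank n and s : E → O_X a regular section,
meaning that around every point of X there is an affine open U and a basis e_1, …, e_n of E(U) over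
Γ(X, U) such that s(e_1), …, s(e_n) is a weakly regular sequence in Γ(X, U) (each a non-zero-divisor
modulo the previous ones). Let i : Y → X be a closed immersion whose ideal sheaf I_Y is the image of
s: t : E → I_Y is an epimorphism of O_X-modules with t followed by the inclusion I_Y → O_X equal to
s. Then the pulled-back map i^*t : i^*E → i^*I_Y is an isomorphism of O_Y-modules; its target is the
conormal sheaf C_{Y/X} = I_Y/I_Y², so E|_Y ≅ C_{Y/X} via s and, dually, N_{Y/X} ≅ E^∨|_Y. (The
published statement calls s regular when its image is a regular ideal sheaf locally generated by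
rank-many sections; the local bases mapping to regular sequences used here are how the published
proofs read that condition.) -/
theorem result {X Y : Scheme.{u}} (n : ℕ) (E : X.Modules)
    (hE : FlatMod.IsFinLocFreeOfRank n E) (s : E ⟶ Coh.structureModule X)
    (hs : ∀ x : X, ∃ U : X.affineOpens, x ∈ U.1 ∧
      ∃ b : Module.Basis (Fin n) Γ(X, U.1) (E.val.obj (op U.1)),
        @RingTheory.Sequence.IsWeaklyRegular Γ(X, U.1) Γ(X, U.1) _ _ _ (List.ofFn fun k => (s.val.app (op U.1)).hom (b k)))
    (i : Y ⟶ X) [IsClosedImmersion i] (t : E ⟶ ClSub.idealMod i.ker) [Epi t]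
    (hts : t ≫ ClSub.idealModι i.ker = s) :
    IsIso ((Scheme.Modules.pullback i).map t) := by
  have hflf : FlatMod.IsFinLocFree E := fun x => by
    obtain ⟨U, hx, e⟩ := hE x
    exact ⟨U, n, hx, e⟩
  haveI : E.IsQuasicoherent := isQuasicoherent_of_isFinLocFree E hflf
  haveI : (ClSub.idealMod i.ker).IsQuasicoherent :=
    inferInstanceAs (kernel (ClSub.toSubscheme i.ker)).IsQuasicoherent
  haveI : ((Scheme.Modules.pullback i).obj E).IsQuasicoherent :=
    Groth.Agent.H8.isQuasicoherent_pullback i E
  haveI : ((Scheme.Modules.pullback i).obj (ClSub.idealMod i.ker)).IsQuasicoherent :=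
    Groth.Agent.H8.isQuasicoherent_pullback i _
  choose U hxU b hb using hs
  refine isIso_of_bijective_affine_cover _ (fun y : Y => i ⁻¹ᵁ (U (i y)).1) ?_
    (fun y => (U (i y)).2.preimage i) (fun y => ?_)
  · rw [TopologicalSpace.IsOpenCover, eq_top_iff]
    intro y _
    exact TopologicalSpace.Opens.mem_iSup.mpr ⟨y, hxU (i y)⟩
  · refine bijective_app n E i t (U (i y)) (b (i y)) ?_
    have := hb (i y)
    subst hts
    exact this


end Groth.Agent.S15826
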