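import Groth.Statements.S15827
-- import your own Groth.Agent.* helpers here
import Groth.Agent.H8.HomBasis
import Groth.Agent.H8.FreeRes
import Groth.Agent.H8.UnitIso
import Groth.Agent.H18.TensorSec

set_option autoImplicit false
universe u
open CategoryTheory AlgebraicGeometry
open ExtPow

namespace Groth.Agent.S15827


set_option linter.style.haveILetI false
open Opposite TopologicalSpace exteriorPower
open Groth.Agent.H8 Groth.Agent.H8.HomBasis
open Groth.Agent.H18.SecTw Groth.Agent.H18.TensorGen Groth.Agent.H18.TensorSec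

lemma ιMulti_smul {R M : Type*} [CommRing R] [AddCommGroup M] [Module R M] (k : ℕ) (c : R)
    (v : Fin k → M) :
    ιMulti R k (fun j => c • v j) = c ^ k • ιMulti R k v := by
  have h := (ιMulti R k (M := M)).map_smul_univ (fun _ => c) v
  rw [h, Finset.prod_const, Finset.card_univ, Fintype.card_fin]

section

variable {X : Scheme.{u}} (E L : X.Modules) (k : ℕ) (M N : X.Modules)

lemma isBasis_affine : Opens.IsBasis (Set.range (fun U : X.affineOpens => U.1)) := by
  have : Set.range (fun U : X.affineOpens => U.1) = X.affineOpens := Subtype.range_coe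
  rw [this]
  exact X.isBasis_affineOpens

/-- `e ↦ e ⊗ τ` as a linear equivalence, for a generator `τ` of `L`. -/
noncomputable def β {U : X.Opens} (τ : Γ(L, U)) (hτ : IsGen L U τ) :
    Γ(E, U) ≃ₗ[Γ(X, U)] Γ(CohB1.tensorMod E L, U) :=
  LinearEquiv.ofBijective
    { toFun := fun e => tm E L e τ
      map_add' := fun a b => tm_add_left E L a b τ
      map_smul' := fun r a => tm_smul_left E L r a τ }
    (bijective_tm hτ)

lemma β_apply {U : X.Opens} (τ : Γ(L, U)) (hτ : IsGen L U τ) (e : Γ(E, U)) :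
    β E L τ hτ e = tm E L e τ := rfl

/-- `n ↦ n ⊗ τ^k`. -/
noncomputable def T {U : X.Opens} (τ : Γ(L, U)) (hτ : IsGen L U τ) :
    Γ(N, U) ≃ₗ[Γ(X, U)] Γ(CohB1.tensorMod N (CohB1.tensorPow L k), U) :=
  LinearEquiv.ofBijective
    { toFun := fun n => tm N (CohB1.tensorPow L k) n (lp τ k)
      map_add' := fun a b => tm_add_left N _ a b (lp τ k)
      map_smul' := fun r a => tm_smul_left N _ r a (lp τ k) }
    (bijective_tm (isGen_lp hτ k))

/-- Retyping sections. -/
noncomputable def sec (F : X.Modules) (U : X.Opens) : Γ(F, U) ≃ₗ[Γ(X, U)] (F.val.obj (op U)) :=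
  LinearEquiv.refl Γ(X, U) Γ(F, U)

variable (φM : ∀ U : X.affineOpens, (M.val.obj (op U.1)) ≃ₗ[Γ(X, U.1)]
    ↥(⋀[Γ(X, U.1)]^k ((CohB1.tensorMod E L).val.obj (op U.1))))
  (φN : ∀ U : X.affineOpens, (N.val.obj (op U.1)) ≃ₗ[Γ(X, U.1)]
    ↥(⋀[Γ(X, U.1)]^k (E.val.obj (op U.1))))

/-- `(E ⊗ L)(U) → E(U)`, inverse of `e ↦ e ⊗ τ`, retyped. -/
noncomputable def γ {U : X.Opens} (τ : Γ(L, U)) (hτ : IsGen L U τ) :
    ((CohB1.tensorMod E L).val.obj (op U)) ≃ₗ[Γ(X, U)] (E.val.obj (op U)) :=
  (sec (CohB1.tensorMod E L) U).symm ≪≫ₗ (β E L τ hτ).symm ≪≫ₗ sec E U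

/-- The induced equivalence on exterior powers. -/
noncomputable def Λγ {U : X.Opens} (τ : Γ(L, U)) (hτ : IsGen L U τ) :
    ↥(⋀[Γ(X, U)]^k ((CohB1.tensorMod E L).val.obj (op U))) ≃ₗ[Γ(X, U)]
      ↥(⋀[Γ(X, U)]^k (E.val.obj (op U))) :=
  LinearEquiv.ofLinearMap (exteriorPower.map k (γ E L τ hτ).toLinearMap)
    (exteriorPower.map k (γ E L τ hτ).symm.toLinearMap)
    (by rw [← exteriorPower.map_comp]; simp)
    (by rw [← exteriorPower.map_comp]; simp)

lemma Λγ_ιMulti {U : X.Opens} (τ : Γ(L, U)) (hτ : IsGen L U τ) (e : Fin k → Γ(E, U)) :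
    Λγ E L k τ hτ (ιMulti _ k (fun j => sec _ U (tm E L (e j) τ))) =
      ιMulti _ k (fun j => sec E U (e j)) := by
  show exteriorPower.map k (γ E L τ hτ).toLinearMap _ = _
  rw [exteriorPower.map_apply_ιMulti]
  congr 1
  funext j
  show (γ E L τ hτ) (sec _ U (tm E L (e j) τ)) = _
  unfold γ
  simp only [LinearEquiv.trans_apply, LinearEquiv.symm_apply_apply]
  rw [← β_apply E L τ hτ (e j), LinearEquiv.symm_apply_apply]

/-- The local comparison map. -/
noncomputable def A (U : X.affineOpens) (τ : Γ(L, U.1)) (hτ : IsGen L U.1 τ) :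
    Γ(M, U.1) ≃ₗ[Γ(X, U.1)] Γ(CohB1.tensorMod N (CohB1.tensorPow L k), U.1) :=
  sec M U.1 ≪≫ₗ φM U ≪≫ₗ Λγ E L k τ hτ ≪≫ₗ (φN U).symm ≪≫ₗ (sec N U.1).symm ≪≫ₗ T L k N τ hτ

/-- Generators of `M(U)`. -/
noncomputable def genM (U : X.affineOpens) (τ : Γ(L, U.1)) (e : Fin k → Γ(E, U.1)) : Γ(M, U.1) :=
  (sec M U.1).symm ((φM U).symm (ιMulti _ k (fun j => sec _ U.1 (tm E L (e j) τ))))

/-- Generators of `N(U)`. -/
noncomputable def genN (U : X.affineOpens) (e : Fin k → Γ(E, U.1)) : Γ(N, U.1) :=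
  (sec N U.1).symm ((φN U).symm (ιMulti _ k (fun j => sec E U.1 (e j))))

/-- The comparison map on generators. -/
lemma A_gen (U : X.affineOpens) (τ : Γ(L, U.1)) (hτ : IsGen L U.1 τ) (e : Fin k → Γ(E, U.1)) :
    A E L k M N φM φN U τ hτ (genM E L k M φM U τ e) =
      tm N (CohB1.tensorPow L k) (genN E k N φN U e) (lp τ k) := by
  unfold A genM genN
  simp only [LinearEquiv.trans_apply, LinearEquiv.apply_symm_apply]
  rw [Λγ_ιMulti]
  rfl

omit φN in
lemma genM_smul (U : X.affineOpens) (τ : Γ(L, U.1)) (v : Γ(X, U.1)) (e : Fin k → Γ(E, U.1)) :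
    genM E L k M φM U (v • τ) e = genM E L k M φM U τ (fun j => v • e j) := by
  unfold genM
  have h1 : (fun j => sec (CohB1.tensorMod E L) U.1 (tm E L (e j) (v • τ))) =
      fun j => sec (CohB1.tensorMod E L) U.1 (tm E L (v • e j) τ) := by
    funext j
    rw [tm_smul_right, tm_smul_left]
  rw [h1]

omit φM in
lemma genN_smul (U : X.affineOpens) (v : Γ(X, U.1)) (e : Fin k → Γ(E, U.1)) :
    genN E k N φN U (fun j => v • e j) = v ^ k • genN E k N φN U e := by
  unfold genN
  have h2 : ιMulti Γ(X, U.1) k (fun j => sec E U.1 (v • e j)) =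
      v ^ k • ιMulti Γ(X, U.1) k (fun j => sec E U.1 (e j)) := by
    rw [← ιMulti_smul]
    rfl
  rw [h2, LinearEquiv.map_smul, LinearEquiv.map_smul]

omit φN in
/-- Induction principle for sections of `M` over an affine open with a generator of `L`. -/
theorem M_induction (U : X.affineOpens) (τ : Γ(L, U.1)) (hτ : IsGen L U.1 τ)
    (P : Γ(M, U.1) → Prop) (h0 : P 0) (hadd : ∀ a b, P a → P b → P (a + b))
    (hsmul : ∀ (r : Γ(X, U.1)) a, P a → P (r • a))
    (hgen : ∀ e : Fin k → Γ(E, U.1), P (genM E L k M φM U τ e)) : ∀ m, P m := by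
  intro m
  have hm : (φM U) (sec M U.1 m) ∈ Submodule.span Γ(X, U.1)
      (Set.range (ιMulti Γ(X, U.1) k (M := (CohB1.tensorMod E L).val.obj (op U.1)))) := by
    rw [exteriorPower.ιMulti_span]; trivial
  have key : ∀ z ∈ Submodule.span Γ(X, U.1)
      (Set.range (ιMulti Γ(X, U.1) k (M := (CohB1.tensorMod E L).val.obj (op U.1)))),
      P ((sec M U.1).symm ((φM U).symm z)) := by
    intro z hz
    induction hz using Submodule.span_induction with
    | mem x hx =>
      obtain ⟨v, rfl⟩ := hx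
      have hv : v = fun j => sec _ U.1 (tm E L ((β E L τ hτ).symm ((sec _ U.1).symm (v j))) τ) := by
        funext j
        rw [← β_apply E L τ hτ, LinearEquiv.apply_symm_apply, LinearEquiv.apply_symm_apply]
      rw [hv]
      exact hgen _
    | zero => rw [map_zero, map_zero]; exact h0
    | add x y _ _ hx hy => rw [map_add, map_add]; exact hadd _ _ hx hy
    | smul r x _ hx => rw [map_smul, map_smul]; exact hsmul _ _ hx
  have := key _ hm
  rwa [LinearEquiv.symm_apply_apply, LinearEquiv.symm_apply_apply] at this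

/-- Independence of the generator. -/
theorem A_indep (U : X.affineOpens) (τ τ' : Γ(L, U.1)) (hτ : IsGen L U.1 τ)
    (hτ' : IsGen L U.1 τ') (m : Γ(M, U.1)) :
    A E L k M N φM φN U τ hτ m = A E L k M N φM φN U τ' hτ' m := by
  obtain ⟨v, hv⟩ := (IsGen.self hτ').2 τ
  have hv' : τ = v • τ' := hv.symm
  revert m
  apply M_induction E L k M φM U τ hτ
  · rw [map_zero, map_zero]
  · intro a b ha hb
    rw [map_add, map_add, ha, hb]
  · intro r a ha
    rw [map_smul, map_smul, ha]
  · intro e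
    rw [A_gen]
    have h1 : genM E L k M φM U τ e = genM E L k M φM U τ' (fun j => v • e j) := by
      rw [hv', genM_smul]
    rw [h1, A_gen, genN_smul, tm_smul_left, hv', lp_smul, tm_smul_right]

lemma presheaf_map_eq (F : X.Modules) {U V : X.Opens} (h : V ≤ U) (x : Γ(F, U)) :
    sec F V (F.presheaf.map (homOfLE h).op x) = F.val.map (homOfLE h).op (sec F U x) := rfl

variable (hφM : ∀ (U V : X.affineOpens) (h : V.1 ≤ U.1)
    (e : Fin k → (CohB1.tensorMod E L).val.obj (op U.1)),
      M.val.map (homOfLE h).op ((φM U).symm (exteriorPower.ιMulti _ k e)) =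
        (φM V).symm (exteriorPower.ιMulti _ k
          (fun j => (CohB1.tensorMod E L).val.map (homOfLE h).op (e j))))
  (hφN : ∀ (U V : X.affineOpens) (h : V.1 ≤ U.1) (e : Fin k → E.val.obj (op U.1)),
      N.val.map (homOfLE h).op ((φN U).symm (exteriorPower.ιMulti _ k e)) =
        (φN V).symm (exteriorPower.ιMulti _ k (fun j => E.val.map (homOfLE h).op (e j))))

include hφM in
omit φN in
lemma genM_res (V U : X.affineOpens) (h : V.1 ≤ U.1) (τ : Γ(L, U.1)) (e : Fin k → Γ(E, U.1)) :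
    M.presheaf.map (homOfLE h).op (genM E L k M φM U τ e) =
      genM E L k M φM V (L.presheaf.map (homOfLE h).op τ)
        (fun j => E.presheaf.map (homOfLE h).op (e j)) := by
  unfold genM
  apply (sec M V.1).injective
  rw [presheaf_map_eq, LinearEquiv.apply_symm_apply, LinearEquiv.apply_symm_apply, hφM U V h]
  congr 2
  funext j
  rw [← presheaf_map_eq, tm_res]

include hφN in
omit φM in
lemma genN_res (V U : X.affineOpens) (h : V.1 ≤ U.1) (e : Fin k → Γ(E, U.1)) :
    N.presheaf.map (homOfLE h).op (genN E k N φN U e) =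
      genN E k N φN V (fun j => E.presheaf.map (homOfLE h).op (e j)) := by
  unfold genN
  apply (sec N V.1).injective
  rw [presheaf_map_eq, LinearEquiv.apply_symm_apply, LinearEquiv.apply_symm_apply, hφN U V h]
  rfl

include hφM hφN in
theorem A_res (V U : X.affineOpens) (h : V.1 ≤ U.1) (τ : Γ(L, U.1)) (hτ : IsGen L U.1 τ)
    (m : Γ(M, U.1)) :
    A E L k M N φM φN V (L.presheaf.map (homOfLE h).op τ) (hτ.res h)
        (M.presheaf.map (homOfLE h).op m) =
      (CohB1.tensorMod N (CohB1.tensorPow L k)).presheaf.map (homOfLE h).op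
        (A E L k M N φM φN U τ hτ m) := by
  revert m
  apply M_induction E L k M φM U τ hτ
  · simp only [map_zero]
  · intro a b ha hb
    simp only [map_add, ha, hb]
  · intro r a ha
    rw [Scheme.Modules.map_smul, map_smul, ha, map_smul, Scheme.Modules.map_smul]
  · intro e
    rw [genM_res E L k M φM hφM, A_gen, A_gen, tm_res, genN_res E k N φN hφN, lp_res]

end


set_option maxHeartbeats 1000000 in
/-- Let X be a scheme, E a finite locally free O_X-module and L a finite locally free O_X-module of rank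
1 (an invertible module), and k a natural number. If M is a k-th exterior power of E ⊗ L and N is a
k-th exterior power of E (affine-local characterisation of exterior powers), then M is isomorphic to
N ⊗ L^{⊗k} as an O_X-module (existence of an isomorphism; the published isomorphism is induced by
(e_1 ⊗ l_1) ∧ ⋯ ∧ (e_k ⊗ l_k) ↦ (e_1 ∧ ⋯ ∧ e_k) ⊗ l_1 ⋯ l_k). -/
theorem result {X : Scheme.{u}} (E L : X.Modules)
    (hE : FlatMod.IsFinLocFree E) (hL : FlatMod.IsFinLocFreeOfRank 1 L) (k : ℕ) (M N : X.Modules)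
    (hM : ExtPow.IsExtPow k (CohB1.tensorMod E L) M) (hN : ExtPow.IsExtPow k E N) :
    Nonempty (M ≅ CohB1.tensorMod N (CohB1.tensorPow L k)) := by
  obtain ⟨φM, hφM⟩ := hM
  obtain ⟨φN, hφN⟩ := hN
  have hLinv : PicF.IsInvertible L := isInvertible_of_isFinLocFreeOfRank_one hL
  -- the basis: affine opens with a generator of `L`
  let ι := { p : Σ U : X.affineOpens, Γ(L, U.1) // IsGen L p.1.1 p.2 }
  let B : ι → X.Opens := fun i => i.1.1.1
  have hB : Opens.IsBasis (Set.range B) := by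
    rw [Opens.isBasis_iff_nbhd]
    intro W x hxW
    obtain ⟨V, τ, hxV, hτ⟩ := exists_isGen hLinv x
    obtain ⟨U, hU, hxU, hUle⟩ :=
      (Opens.isBasis_iff_nbhd.mp X.isBasis_affineOpens) (show x ∈ V ⊓ W from ⟨hxV, hxW⟩)
    refine ⟨U, ⟨⟨⟨⟨U, hU⟩, L.presheaf.map (homOfLE (hUle.trans inf_le_left)).op τ⟩,
      hτ.res (hUle.trans inf_le_left)⟩, rfl⟩, hxU, hUle.trans inf_le_right⟩
  let α : ∀ i : ι, Γ(M, B i) ≃ₗ[Γ(X, B i)] Γ(CohB1.tensorMod N (CohB1.tensorPow L k), B i) :=
    fun i => A E L k M N φM φN i.1.1 i.1.2 i.2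
  obtain ⟨φ, hφ⟩ := exists_hom_of_basis M (CohB1.tensorMod N (CohB1.tensorPow L k)) hB
    (fun i => (α i).toLinearMap.toAddMonoidHom)
    (fun i j h m => by
      show A E L k M N φM φN i.1.1 i.1.2 i.2 (M.presheaf.map (homOfLE h).op m) = _
      rw [A_indep E L k M N φM φN i.1.1 i.1.2 (L.presheaf.map (homOfLE h).op j.1.2) i.2
        (j.2.res h)]
      exact A_res E L k M N φM φN hφM hφN i.1.1 j.1.1 h j.1.2 j.2 m)
    (fun i r m => map_smul (α i) r m)
  haveI : IsIso φ := by
    refine isIso_of_bijective_basis φ B hB (fun i => ?_)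
    have : (φ.app (B i) : Γ(M, B i) → _) = α i := by
      funext m
      exact hφ i m
    rw [this]
    exact (α i).bijective
  exact ⟨asIso φ⟩

end Groth.Agent.S15827
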