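import Groth.Statements.S15832
import Mathlib.Tactic

set_option autoImplicit false
universe u
open TopGrp

namespace Groth.Agent.S15832

/-- For a group T with a topology, let B be the family of two-sided translates x Γ y, where Γ runs over
the subgroups of T open in the given topology and x, y over T; the topology generated by B makes T a
topological group in which every neighbourhood of the identity contains a subgroup open for that
topology. (The published statement is for the free topological product of two Noohi groups whose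
open subgroups form a basis of neighbourhoods of the identity; the argument uses only the group
structure and the chosen family of subgroups, so the row is stated for an arbitrary group with a
topology. The published conventions include Hausdorffness in the word topological group; this row
does not assert it, and the published argument does not prove it.) -/
theorem result (T : Type u) [Group T]
    [TopologicalSpace T] :
    @NonarchimedeanGroup T _ (TopologicalSpace.generateFrom
      {S : Set T | ∃ (Γ : OpenSubgroup T) (x y : T), S = (fun g : T => x * g * y) '' (Γ : Set T)}) := by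
  classical
  let 𝒢 : Set (Set T) := {S : Set T | ∃ (Γ : OpenSubgroup T) (x y : T),
    S = (fun g : T => x * g * y) '' (Γ : Set T)}
  show @NonarchimedeanGroup T _ (TopologicalSpace.generateFrom 𝒢)
  have hinv : ∀ S ∈ 𝒢, (fun a : T => a⁻¹) ⁻¹' S ∈ 𝒢 := by
    rintro S ⟨Γ, x, y, rfl⟩
    refine ⟨Γ, y⁻¹, x⁻¹, ?_⟩
    ext a
    simp only [Set.mem_preimage, Set.mem_image, SetLike.mem_coe]
    constructor
    · rintro ⟨γ, hγ, h⟩
      refine ⟨γ⁻¹, inv_mem hγ, ?_⟩
      have : a = (x * γ * y)⁻¹ := by rw [h, inv_inv]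
      rw [this]
      group
    · rintro ⟨γ, hγ, h⟩
      refine ⟨γ⁻¹, inv_mem hγ, ?_⟩
      rw [← h]
      group
  have hmul : ∀ S ∈ 𝒢, ∀ a b : T, a * b ∈ S → ∃ A ∈ 𝒢, ∃ B ∈ 𝒢, a ∈ A ∧ b ∈ B ∧
      ∀ a' ∈ A, ∀ b' ∈ B, a' * b' ∈ S := by
    rintro S ⟨Γ, x, y, rfl⟩ a b ⟨γ, hγ, h⟩
    have h' : x * γ * y = a * b := h
    refine ⟨_, ⟨Γ, x, x⁻¹ * a, rfl⟩, _, ⟨Γ, b * y⁻¹, y, rfl⟩,
      ⟨1, one_mem _, ?_⟩, ⟨1, one_mem _, ?_⟩, ?_⟩
    · show x * 1 * (x⁻¹ * a) = a
      group
    · show b * y⁻¹ * 1 * y = b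
      group
    · rintro _ ⟨γ₁, hγ₁, rfl⟩ _ ⟨γ₂, hγ₂, rfl⟩
      refine ⟨γ₁ * γ * γ₂, mul_mem (mul_mem hγ₁ hγ) hγ₂, ?_⟩
      show x * (γ₁ * γ * γ₂) * y = x * γ₁ * (x⁻¹ * a) * (b * y⁻¹ * γ₂ * y)
      have e : x * γ₁ * (x⁻¹ * a) * (b * y⁻¹ * γ₂ * y) =
          x * γ₁ * x⁻¹ * (a * b) * y⁻¹ * γ₂ * y := by group
      rw [e, ← h']
      group
  have hsub : ∀ S ∈ 𝒢, (1 : T) ∈ S → ∃ H : Subgroup T, (H : Set T) = S := by
    rintro S ⟨Γ, x, y, rfl⟩ ⟨γ₀, hγ₀, h⟩
    have h' : x * γ₀ * y = 1 := h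
    have hy : y = γ₀⁻¹ * x⁻¹ := by
      rw [← mul_inv_rev]
      exact eq_inv_of_mul_eq_one_right h'
    refine ⟨(Γ : Subgroup T).map (MulAut.conj x).toMonoidHom, ?_⟩
    ext z
    simp only [Subgroup.coe_map, Set.mem_image, SetLike.mem_coe, MulEquiv.coe_toMonoidHom,
      MulAut.conj_apply]
    constructor
    · rintro ⟨γ, hγ, rfl⟩
      refine ⟨γ * γ₀, mul_mem hγ hγ₀, ?_⟩
      rw [hy]
      group
    · rintro ⟨γ, hγ, rfl⟩
      refine ⟨γ * γ₀⁻¹, mul_mem hγ (inv_mem hγ₀), ?_⟩
      rw [hy]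
      group
  letI τ' : TopologicalSpace T := TopologicalSpace.generateFrom 𝒢
  have hopen : ∀ S ∈ 𝒢, IsOpen S := fun S hS => TopologicalSpace.isOpen_generateFrom_of_mem hS
  have hcinv : Continuous (fun a : T => a⁻¹) :=
    continuous_generateFrom_iff.2 (fun S hS => hopen _ (hinv S hS))
  have hcmul : Continuous (fun p : T × T => p.1 * p.2) := by
    refine continuous_generateFrom_iff.2 (fun S hS => ?_)
    rw [isOpen_prod_iff]
    intro a b hab
    obtain ⟨A, hA, B, hB, haA, hbB, hAB⟩ := hmul S hS a b hab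
    exact ⟨A, B, hopen A hA, hopen B hB, haA, hbB, fun p hp => hAB p.1 hp.1 p.2 hp.2⟩
  haveI : IsTopologicalGroup T := { continuous_mul := hcmul, continuous_inv := hcinv }
  refine { is_nonarchimedean := ?_ }
  intro U hU
  have hbasis := TopologicalSpace.isTopologicalBasis_of_subbasis
    (rfl : τ' = TopologicalSpace.generateFrom 𝒢)
  obtain ⟨t, ht, h1t, htU⟩ := hbasis.mem_nhds_iff.1 hU
  obtain ⟨F, ⟨hFfin, hFsub⟩, rfl⟩ := ht
  let V : Subgroup T := sInf {H : Subgroup T | (H : Set T) ∈ F}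
  have hV : (V : Set T) = ⋂₀ F := by
    rw [Subgroup.coe_sInf]
    ext z
    simp only [Set.mem_iInter, Set.mem_sInter, Set.mem_setOf_eq, SetLike.mem_coe]
    constructor
    · intro h S hS
      obtain ⟨H, hH⟩ := hsub S (hFsub hS) (h1t S hS)
      have h2 := h H (by rw [hH]; exact hS)
      rw [← hH]
      exact h2
    · intro h H hH
      exact h _ hH
  refine ⟨⟨V, ?_⟩, ?_⟩
  · show IsOpen (V : Set T)
    rw [hV]
    exact hFfin.isOpen_sInter (fun S hS => hopen S (hFsub hS))
  · show (V : Set T) ⊆ U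
    rw [hV]
    exact htU

end Groth.Agent.S15832
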