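import Groth.Statements.S15833


set_option autoImplicit false
universe u
open EtBase

namespace Groth.Agent.S15833

open CategoryTheory CategoryTheory.Limits AlgebraicGeometry

noncomputable def liftEquiv {C : Type*} [Category C] {A B P Y X₀ X : C} {fst : P ⟶ Y} {snd : P ⟶ X₀}
    {f : Y ⟶ X} {i : X₀ ⟶ X} (hP : IsPullback fst snd f i) {b : A ⟶ B} {a' : A ⟶ P}
    {d' : B ⟶ X₀} {a : A ⟶ Y} {d : B ⟶ X}
    (sq1 : CommSq a' b snd d') (sq2 : CommSq a b f d) (ha : a' ≫ fst = a) (hd : d' ≫ i = d) :
    sq1.LiftStruct ≃ sq2.LiftStruct where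
  toFun l := ⟨l.l ≫ fst, by rw [← ha, ← Category.assoc, l.fac_left],
    by rw [Category.assoc, hP.w, ← Category.assoc, l.fac_right, hd]⟩
  invFun l := ⟨hP.lift l.l d' (by rw [l.fac_right, hd]), by
      apply hP.hom_ext
      · rw [Category.assoc, hP.lift_fst, l.fac_left, ha]
      · rw [Category.assoc, hP.lift_snd, sq1.w], hP.lift_snd _ _ _⟩
  left_inv l := by
    ext
    apply hP.hom_ext
    · simp
    · simp [l.fac_right]
  right_inv l := by
    ext
    simp

lemma unique_lift_iff {C : Type*} [Category C] {A B P Y X₀ X : C} {fst : P ⟶ Y} {snd : P ⟶ X₀}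
    {f : Y ⟶ X} {i : X₀ ⟶ X} (hP : IsPullback fst snd f i) {b : A ⟶ B} {a' : A ⟶ P}
    {d' : B ⟶ X₀} {a : A ⟶ Y} {d : B ⟶ X}
    (sq1 : CommSq a' b snd d') (sq2 : CommSq a b f d) (ha : a' ≫ fst = a) (hd : d' ≫ i = d) :
    Nonempty (Unique sq1.LiftStruct) ↔ Nonempty (Unique sq2.LiftStruct) := by
  constructor
  · rintro ⟨h⟩
    exact ⟨(liftEquiv hP sq1 sq2 ha hd).symm.unique⟩
  · rintro ⟨h⟩
    exact ⟨(liftEquiv hP sq1 sq2 ha hd).unique⟩


open CategoryTheory CategoryTheory.Limits AlgebraicGeometry in
/-- Let i : X₀ ⟶ X be a surjective closed immersion of schemes and f : Y ⟶ X a morphism. Then f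
satisfies the valuative criterion (existence and uniqueness of a lift in every valuative square,
over arbitrary valuation rings) if and only if its base change Y ×_X X₀ ⟶ X₀ does. (The published
statement takes X locally Noetherian and connected, X₀ the reduced closed subscheme with the same
underlying space and f étale, and combines this step with the equivalence between étale schemes over
X and over X₀ to identify the geometric coverings, i.e. the étale morphisms satisfying the valuative
criterion, of X and of X₀; the argument for this step uses only that X₀ ⟶ X is a surjective closed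
immersion and that valuation rings are reduced.) -/
theorem result {X X₀ Y : Scheme.{u}} (i : X₀ ⟶ X)
    [IsClosedImmersion i] [Surjective i] (f : Y ⟶ X) :
    ValuativeCriterion f ↔ ValuativeCriterion (pullback.snd f i) := by
  have hP : IsPullback (pullback.fst f i) (pullback.snd f i) f i := IsPullback.of_hasPullback f i
  constructor
  · intro h S'
    let S : ValuativeCommSq f :=
      { R := S'.R
        K := S'.K
        i₁ := S'.i₁ ≫ pullback.fst f i
        i₂ := S'.i₂ ≫ i
        commSq := ⟨by rw [Category.assoc, pullback.condition, reassoc_of% S'.commSq.w]⟩ }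
    exact (unique_lift_iff hP S'.commSq S.commSq rfl rfl).mpr (h S)
  · intro h S
    have h1 : IsIso (pullback.fst S.i₂ i) := isIso_of_isClosedImmersion_of_surjective _
    let j₂ : Spec (.of S.R) ⟶ X₀ := inv (pullback.fst S.i₂ i) ≫ pullback.snd S.i₂ i
    have hj₂ : j₂ ≫ i = S.i₂ := by
      simp only [j₂, Category.assoc, ← pullback.condition]
      simp
    let S' : ValuativeCommSq (pullback.snd f i) :=
      { R := S.R
        K := S.K
        i₁ := pullback.lift S.i₁ (Spec.map (CommRingCat.ofHom (algebraMap S.R S.K)) ≫ j₂)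
          (by rw [Category.assoc, hj₂, S.commSq.w])
        i₂ := j₂
        commSq := ⟨by rw [pullback.lift_snd]⟩ }
    exact (unique_lift_iff hP S'.commSq S.commSq (pullback.lift_fst _ _ _) hj₂).mp (h S')

end Groth.Agent.S15833
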