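import Groth.Statements.S15835
import Mathlib.Algebra.Polynomial.Expand
import Mathlib.Algebra.CharP.Lemmas
import Mathlib.Algebra.CharP.Invertible
import Mathlib.LinearAlgebra.Matrix.Charpoly.Basic
import Mathlib.Tactic.Ring
import Mathlib.Tactic.Linarith

set_option autoImplicit false
universe u
open SprIso

namespace Groth.Agent.S15835

/-- Over a commutative ring R of prime characteristic p, let n ≥ 1 and let p^m be the largest power of p
dividing n. The locus of n × n matrices with characteristic polynomial t^n is stable under adding a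
scalar matrix a·1 with n·a = 0 exactly when a^(p^m) = 0: for X with characteristic polynomial t^n
and such an a, the matrix X + a·1 has characteristic polynomial t^n if and only if a^(p^m) = 0.
(Stated on points with values in an arbitrary ring of characteristic p; the scheme-theoretic
assertion about the nilpotent scheme of SL_n is this statement for all such rings.) -/
theorem result (p : ℕ) [Fact p.Prime] (R : Type u) [CommRing R]
    [CharP R p] (n : ℕ) (hn : 0 < n) (X : Matrix (Fin n) (Fin n) R) (hX : X.charpoly = Polynomial.X ^ n)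
    (a : R) (ha : (n : R) * a = 0) :
    (X + Matrix.scalar (Fin n) a).charpoly = Polynomial.X ^ n ↔ a ^ (p ^ padicValNat p n) = 0 := by
  have hp : p.Prime := Fact.out
  obtain ⟨n', hn'⟩ : p ^ padicValNat p n ∣ n := pow_padicValNat_dvd
  set q := p ^ padicValNat p n with hq
  have hq0 : 0 < q := pow_pos hp.pos _
  have hn'0 : n' ≠ 0 := by
    rintro rfl
    simp at hn'
    omega
  have hpn' : ¬ p ∣ n' := by
    intro hdvd
    obtain ⟨c, rfl⟩ := hdvd
    have : p ^ (padicValNat p n + 1) ∣ n := ⟨c, by rw [pow_succ, mul_assoc]; exact hn'⟩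
    exact pow_succ_padicValNat_not_dvd (Nat.pos_iff_ne_zero.mp hn) this
  have hunit : IsUnit ((n' : ℕ) : R) := (CharP.isUnit_natCast_iff hp).mpr hpn'
  have key : (X + Matrix.scalar (Fin n) a).charpoly =
      Polynomial.expand R q ((Polynomial.X - Polynomial.C (a ^ q)) ^ n') := by
    have h1 : X + Matrix.scalar (Fin n) a = X - Matrix.scalar (Fin n) (-a) := by
      rw [map_neg, sub_neg_eq_add]
    rw [h1, Matrix.charpoly_sub_scalar, hX, Polynomial.pow_comp, Polynomial.X_comp, map_neg,
      ← sub_eq_add_neg, hn', pow_mul, hq, sub_pow_char_pow, ← hq, map_pow, map_sub,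
      Polynomial.expand_X, Polynomial.expand_C, Polynomial.C_pow]
  have hXn : (Polynomial.X : Polynomial R) ^ n = Polynomial.expand R q (Polynomial.X ^ n') := by
    rw [map_pow, Polynomial.expand_X, ← pow_mul, ← hn']
  rw [key, hXn, Polynomial.expand_inj hq0]
  constructor
  · intro h
    have hc := congrArg (fun f => Polynomial.coeff f (n' - 1)) h
    rw [sub_eq_add_neg, ← Polynomial.C_neg, Polynomial.coeff_X_add_C_pow, Polynomial.coeff_X_pow] at hc
    have h2 : n' - (n' - 1) = 1 := by omega
    have h3 : n'.choose (n' - 1) = n' := by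
      obtain ⟨k, rfl⟩ := Nat.exists_eq_succ_of_ne_zero hn'0
      simp
    have h4 : n' - 1 ≠ n' := by omega
    rw [h2, h3, if_neg h4, pow_one, neg_mul, neg_eq_zero] at hc
    exact (hunit.mul_left_eq_zero).mp hc
  · intro h
    rw [h, map_zero, sub_zero]


end Groth.Agent.S15835
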