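import Groth.Statements.S15837
import Groth.Agent.H73.FixLoc10

set_option autoImplicit false
universe u
open CategoryTheory MonoidalCategory CartesianMonoidalCategory MonObj GrpObj AlgebraicGeometry
open SprIso

namespace Groth.Agent.S15837


open Groth.Agent.H73 in
theorem stab_iff_phi {S : Scheme.{u}} (G X Y : Over S) [GrpObj G] (a : AlgGrp.Action G X)
    (i : Y ⟶ X) (T : Over S) (g : T ⟶ G) :
    (∀ (T' : Over S) (t : T' ⟶ T) (y : T' ⟶ Y), lift (t ≫ g) (y ≫ i) ≫ a.act = y ≫ i) ↔
      FixLoc.Phi (fst G Y).left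
        (Limits.equalizer.ι ((G ◁ i) ≫ a.act) (snd G Y ≫ i)).left g.left := by
  constructor
  · intro h P' g' p' hc
    have hw : g' ≫ (G ⊗ Y).hom = p' ≫ T.hom := by
      rw [← Over.w (fst G Y), ← Category.assoc, hc, Category.assoc, Over.w g]
    let T'' : Over S := Over.mk (p' ≫ T.hom)
    let t : T'' ⟶ T := Over.homMk p' rfl
    let g'' : T'' ⟶ G ⊗ Y := Over.homMk g' hw
    have hfst : g'' ≫ fst G Y = t ≫ g := by
      apply Over.OverMorphism.ext
      exact hc
    have hlift : lift (t ≫ g) (g'' ≫ snd G Y) = g'' := by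
      apply CartesianMonoidalCategory.hom_ext
      · rw [lift_fst, hfst]
      · rw [lift_snd]
    have h1 := h T'' t (g'' ≫ snd G Y)
    have h2 : g'' ≫ (G ◁ i) ≫ a.act = g'' ≫ snd G Y ≫ i := by
      rw [← Category.assoc g'' (snd G Y), ← h1]
      conv_lhs => rw [← hlift]
      rw [← Category.assoc, lift_whiskerLeft]
    refine ⟨(Limits.equalizer.lift g'' h2).left, ?_⟩
    rw [← Over.comp_left, Limits.equalizer.lift_ι]
    rfl
  · intro h T' t y
    obtain ⟨k, hk⟩ := h T'.left (lift (t ≫ g) y).left t.left (by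
      rw [← Over.comp_left, lift_fst, Over.comp_left])
    have h3 : lift (t ≫ g) y ≫ (G ◁ i) ≫ a.act = lift (t ≫ g) y ≫ snd G Y ≫ i := by
      apply Over.OverMorphism.ext
      have e1 : (lift (t ≫ g) y ≫ (G ◁ i) ≫ a.act).left =
          k ≫ (Limits.equalizer.ι ((G ◁ i) ≫ a.act) (snd G Y ≫ i) ≫ (G ◁ i) ≫ a.act).left := by
        calc (lift (t ≫ g) y ≫ (G ◁ i) ≫ a.act).left
            = (lift (t ≫ g) y).left ≫ ((G ◁ i) ≫ a.act).left := rfl
          _ = (k ≫ (Limits.equalizer.ι ((G ◁ i) ≫ a.act) (snd G Y ≫ i)).left) ≫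
                ((G ◁ i) ≫ a.act).left := by rw [hk]
          _ = _ := by rw [Category.assoc]; rfl
      have e2 : (lift (t ≫ g) y ≫ snd G Y ≫ i).left =
          k ≫ (Limits.equalizer.ι ((G ◁ i) ≫ a.act) (snd G Y ≫ i) ≫ snd G Y ≫ i).left := by
        calc (lift (t ≫ g) y ≫ snd G Y ≫ i).left
            = (lift (t ≫ g) y).left ≫ (snd G Y ≫ i).left := rfl
          _ = (k ≫ (Limits.equalizer.ι ((G ◁ i) ≫ a.act) (snd G Y ≫ i)).left) ≫
                (snd G Y ≫ i).left := by rw [hk]
          _ = _ := by rw [Category.assoc]; rfl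
      rw [e1, e2, Limits.equalizer.condition]
    rw [← Category.assoc, lift_whiskerLeft, ← Category.assoc, lift_snd] at h3
    exact h3

/-- Let S be a scheme, G an S-group scheme of finite presentation acting on an S-scheme X which is
affine and of finite presentation over S, and Y a closed subscheme of X which is finite, flat and of
finite presentation over S. Then the functorial stabilizer of Y in G — whose points with values in
an S-scheme T are the points g of G such that g acts as the identity on every point of Y with values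
in a scheme over T — is represented by a closed subscheme of G whose inclusion is of finite
presentation. -/
theorem result (S : Scheme.{u}) (G X Y : Over S) [GrpObj G]
    [LocallyOfFinitePresentation G.hom] [QuasiCompact G.hom] [QuasiSeparated G.hom]
    [IsAffineHom X.hom] [LocallyOfFinitePresentation X.hom] (a : AlgGrp.Action G X)
    (i : Y ⟶ X) [IsClosedImmersion i.left] [IsFinite Y.hom] [Flat Y.hom] [LocallyOfFinitePresentation Y.hom] :
    ∃ (Z : Over S) (j : Z ⟶ G), IsClosedImmersion j.left ∧ LocallyOfFinitePresentation j.left ∧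
      ∀ (T : Over S) (g : T ⟶ G), (∃ z : T ⟶ Z, z ≫ j = g) ↔
        ∀ (T' : Over S) (t : T' ⟶ T) (y : T' ⟶ Y), lift (t ≫ g) (y ≫ i) ≫ a.act = y ≫ i := by
  classical
  let π : (G ⊗ Y).left ⟶ G.left := (fst G Y).left
  let ιE := (Limits.equalizer.ι ((G ◁ i) ≫ a.act) (snd G Y ≫ i)).left
  have hsq := IsPullback.of_hasPullback G.hom Y.hom
  have hπ : Mor2.IsFinLocFree π := by
    refine ⟨?_, ?_, ?_⟩
    · change IsFinite (Limits.pullback.fst G.hom Y.hom)
      exact MorphismProperty.of_isPullback (P := @IsFinite) hsq.flip inferInstance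
    · change Flat (Limits.pullback.fst G.hom Y.hom)
      exact MorphismProperty.of_isPullback (P := @Flat) hsq.flip inferInstance
    · change LocallyOfFinitePresentation (Limits.pullback.fst G.hom Y.hom)
      exact MorphismProperty.of_isPullback (P := @LocallyOfFinitePresentation) hsq.flip
        inferInstance
  have : IsAffineHom π := by
    have := hπ.1
    infer_instance
  have : IsSeparated X.hom := inferInstance
  have : LocallyOfFiniteType X.hom := inferInstance
  have : IsClosedImmersion ιE := isClosedImmersion_equalizer_ι_left _ _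
  have : LocallyOfFinitePresentation ιE := Groth.Agent.H73.FixLoc.lfp_equalizer_ι_left _ _
  obtain ⟨Z, j, hj, hjfp, key⟩ := Groth.Agent.H73.FixLoc.exists_closed_fp π ιE hπ
  refine ⟨Over.mk (j ≫ G.hom), Over.homMk j rfl, hj, hjfp, ?_⟩
  intro T g
  rw [stab_iff_phi G X Y a i T g, key T.left g.left]
  constructor
  · rintro ⟨z, rfl⟩
    exact ⟨z.left, rfl⟩
  · rintro ⟨z, hz⟩
    refine ⟨Over.homMk z ?_, ?_⟩
    · change z ≫ j ≫ G.hom = T.hom
      rw [← Category.assoc, hz, Over.w g]
    · apply Over.OverMorphism.ext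
      exact hz

end Groth.Agent.S15837
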