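import Groth.Statements.S15838
import Mathlib.LinearAlgebra.JordanChevalley
import Mathlib.LinearAlgebra.TensorProduct.Tower

set_option autoImplicit false
universe u
open scoped TensorProduct
open SprIso

namespace Groth.Agent.S15838

theorem additive (k : Type u) [Field k] [PerfectField k]
    (V : Type u) [AddCommGroup V] [Module k V] [FiniteDimensional k V]
    (R : Type u) [CommRing R] [Algebra k R] (h : Module.End R (R ⊗[k] V))
    (X Y N : Module.End k V) (hY : Y.IsSemisimple) (hN : IsNilpotent N) (hc : Commute Y N)
    (hX : X = Y + N) :
    (Commute h (X.baseChange R) ↔ Commute h (Y.baseChange R) ∧ Commute h (N.baseChange R)) := by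
  constructor
  · intro hh
    obtain ⟨n₀, hn₀, s₀, hs₀, hn₀_nil, hs₀_ss, h₀⟩ := X.exists_isNilpotent_isSemisimple
    have hcomm : Commute n₀ s₀ :=
      Algebra.commute_of_mem_adjoin_singleton_of_commute hs₀
        (Algebra.commute_of_mem_adjoin_self hn₀).symm
    obtain ⟨hNn, hYs⟩ := Module.End.isNilpotent_isSemisimple_unique hN hY hn₀_nil hs₀_ss hc.symm hcomm
      (by rw [add_comm, ← hX, h₀])
    have key : ∀ Z ∈ Algebra.adjoin k {X}, Commute h (Z.baseChange R) := by
      intro Z hZ
      have h1 : Module.End.baseChangeHom k R V Z ∈
          (Algebra.adjoin k {X}).map (Module.End.baseChangeHom k R V) :=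
        ⟨Z, hZ, rfl⟩
      rw [AlgHom.map_adjoin_singleton] at h1
      exact Algebra.commute_of_mem_adjoin_singleton_of_commute h1 hh
    exact ⟨hYs ▸ key s₀ hs₀, hNn ▸ key n₀ hn₀⟩
  · rintro ⟨h1, h2⟩
    rw [hX, LinearMap.baseChange_add]
    exact h1.add_right h2

/-- General linear group case: this is the case G = GL(V), to which the general case reduces along a
closed embedding. Let k be a perfect field and V a finite-dimensional k-vector space. If an
invertible endomorphism g of V has multiplicative Jordan decomposition g = t u (t semisimple, u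
unipotent, t and u commuting), then the scheme-theoretic centralizer of g in GL(V) is the
centralizer of u inside the centralizer of t: for every commutative k-algebra R, an R-linear
endomorphism h of R ⊗ V commutes with g_R if and only if it commutes with both t_R and u_R.
Likewise, if an endomorphism X of V has additive Jordan decomposition X = Y + N (Y semisimple, N
nilpotent, commuting), then h commutes with X_R if and only if it commutes with both Y_R and N_R. -/
theorem result (k : Type u) [Field k] [PerfectField k]
    (V : Type u) [AddCommGroup V] [Module k V] [FiniteDimensional k V]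
    (R : Type u) [CommRing R] [Algebra k R] (h : Module.End R (R ⊗[k] V)) :
    (∀ (g t u : Module.End k V), IsUnit g → t.IsSemisimple → IsNilpotent (u - 1) → Commute t u → g = t * u →
      (Commute h (g.baseChange R) ↔ Commute h (t.baseChange R) ∧ Commute h (u.baseChange R))) ∧
    (∀ (X Y N : Module.End k V), Y.IsSemisimple → IsNilpotent N → Commute Y N → X = Y + N →
      (Commute h (X.baseChange R) ↔ Commute h (Y.baseChange R) ∧ Commute h (N.baseChange R))) := by
  refine ⟨?_, fun X Y N hY hN hc hX => additive k V R h X Y N hY hN hc hX⟩
  intro g t u hg ht hu hc hgtu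
  constructor
  · intro hh
    have hcu : Commute t (u - 1) := hc.sub_right (Commute.one_right t)
    have hnil : IsNilpotent (t * (u - 1)) := hcu.isNilpotent_mul_left hu
    have hct : Commute t (t * (u - 1)) := (Commute.refl t).mul_right hcu
    have hsum : g = t + t * (u - 1) := by rw [hgtu, mul_sub, mul_one, add_sub_cancel]
    obtain ⟨h1, h2⟩ := (additive k V R h g t (t * (u - 1)) ht hnil hct hsum).mp hh
    refine ⟨h1, ?_⟩
    have htu : IsUnit t := ((hc.isUnit_mul_iff).mp (hgtu ▸ hg)).1
    obtain ⟨T, rfl⟩ := htu
    have e1 : ((T : Module.End k V)).baseChange R * ((T⁻¹ : (Module.End k V)ˣ) : Module.End k V).baseChange R = 1 := by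
      rw [← LinearMap.baseChange_mul, Units.mul_inv, LinearMap.baseChange_one]
    have e2 : ((T⁻¹ : (Module.End k V)ˣ) : Module.End k V).baseChange R * ((T : Module.End k V)).baseChange R = 1 := by
      rw [← LinearMap.baseChange_mul, Units.inv_mul, LinearMap.baseChange_one]
    have h3 : Commute h (((T⁻¹ : (Module.End k V)ˣ) : Module.End k V).baseChange R) :=
      Commute.units_inv_right (u := ⟨_, _, e1, e2⟩) h1
    have hu' : u = ((T⁻¹ : (Module.End k V)ˣ) : Module.End k V) * g := by
      rw [hgtu, ← mul_assoc, Units.inv_mul, one_mul]
    rw [hu', LinearMap.baseChange_mul]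
    exact h3.mul_right hh
  · rintro ⟨h1, h2⟩
    rw [hgtu, LinearMap.baseChange_mul]
    exact h1.mul_right h2


end Groth.Agent.S15838
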