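import Groth.Statements.S4599
-- import your own Groth.Agent.* helpers here

set_option autoImplicit false
universe u
open AlgebraicGeometry CategoryTheory CategoryTheory.Limits
open EGA41

namespace Groth.Agent.S4599

/-- If `f ≫ g` is locally of finite presentation and `g` is locally of finite type, then `f` is
locally of finite presentation. -/
theorem lfp_of_comp {X Y Z : Scheme.{u}} (f : X ⟶ Y) (g : Y ⟶ Z)
    [LocallyOfFiniteType g] (h : LocallyOfFinitePresentation (f ≫ g)) :
    LocallyOfFinitePresentation f := by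
  rw [HasRingHomProperty.iff_exists_appLE (P := @LocallyOfFinitePresentation)
    (RingHom.finitePresentation_stableUnderComposition.stableUnderCompositionWithLocalizationAway
      RingHom.finitePresentation_holdsForLocalizationAway).1]
  intro x
  obtain ⟨W, hW, hxW, -⟩ :=
    exists_isAffineOpen_mem_and_subset (x := g (f x)) (U := ⊤) trivial
  obtain ⟨V, hV, hxV, hVle⟩ :=
    exists_isAffineOpen_mem_and_subset (x := f x) (U := g ⁻¹ᵁ W) hxW
  obtain ⟨U, hU, hxU, hUle⟩ :=
    exists_isAffineOpen_mem_and_subset (x := x) (U := f ⁻¹ᵁ V) hxV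
  refine ⟨⟨V, hV⟩, ⟨U, hU⟩, hxU, hUle, ?_⟩
  have h1 : (g.appLE W V hVle).hom.FiniteType :=
    HasRingHomProperty.appLE (P := @LocallyOfFiniteType) g inferInstance ⟨W, hW⟩ ⟨V, hV⟩ hVle
  have h3 := Scheme.Hom.appLE_comp_appLE f g W V U hVle hUle
  have h2 := HasRingHomProperty.appLE (P := @LocallyOfFinitePresentation) (f ≫ g) h
    ⟨W, hW⟩ ⟨U, hU⟩ (hUle.trans ((TopologicalSpace.Opens.map f.base).map (homOfLE hVle)).le)
  refine RingHom.FinitePresentation.of_comp_finiteType (g.appLE W V hVle).hom ?_ h1
  rw [← CommRingCat.hom_comp, h3]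
  exact h2

/-- The diagonal of a morphism locally of finite type is locally of finite presentation. -/
theorem result {Y Z : Scheme.{u}} (g : Y ⟶ Z)
    [LocallyOfFiniteType g] : LocallyOfFinitePresentation (pullback.diagonal g) := by
  apply lfp_of_comp (pullback.diagonal g) (pullback.fst g g)
  rw [pullback.diagonal_fst]
  infer_instance

end Groth.Agent.S4599
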