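import Groth.Statements.S15839
import Groth.Agent.S4599

set_option autoImplicit false
universe u
open CategoryTheory MonoidalCategory CartesianMonoidalCategory MonObj GrpObj AlgebraicGeometry
open SprIso

namespace Groth.Agent.S15839

/-- Let S be a scheme, G an S-group scheme which is affine and of finite presentation over S, and g a
section of G over S. Then the centralizer of g — the subfunctor of G whose points with values in an
S-scheme T are the points x of G with x g_T = g_T x — is represented by a closed subscheme of G
whose inclusion is of finite presentation. -/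
theorem result (S : Scheme.{u}) (G : Over S) [GrpObj G]
    [IsAffineHom G.hom] [LocallyOfFinitePresentation G.hom] (g : 𝟙_ (Over S) ⟶ G) :
    ∃ (Z : Over S) (j : Z ⟶ G), IsClosedImmersion j.left ∧ LocallyOfFinitePresentation j.left ∧
      ∀ (T : Over S) (x : T ⟶ G), (∃ z : T ⟶ Z, z ≫ j = x) ↔
        x * (toUnit T ≫ g) = (toUnit T ≫ g) * x := by
  classical
  let α : G ⟶ G := lift (𝟙 G) (toUnit G ≫ g) ≫ μ
  let β : G ⟶ G := lift (toUnit G ≫ g) (𝟙 G) ≫ μ
  have hα : ∀ (T : Over S) (x : T ⟶ G), x ≫ α = x * (toUnit T ≫ g) := by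
    intro T x
    rw [Hom.mul_def]
    show x ≫ (lift (𝟙 G) (toUnit G ≫ g) ≫ μ) = lift x (toUnit T ≫ g) ≫ μ
    rw [← Category.assoc, comp_lift, Category.comp_id, ← Category.assoc, comp_toUnit]
  have hβ : ∀ (T : Over S) (x : T ⟶ G), x ≫ β = (toUnit T ≫ g) * x := by
    intro T x
    rw [Hom.mul_def]
    show x ≫ (lift (toUnit G ≫ g) (𝟙 G) ≫ μ) = lift (toUnit T ≫ g) x ≫ μ
    rw [← Category.assoc, comp_lift, Category.comp_id, ← Category.assoc, comp_toUnit]
  let Δ : G.left ⟶ Limits.pullback G.hom G.hom := Limits.pullback.diagonal G.hom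
  let ab : G.left ⟶ Limits.pullback G.hom G.hom :=
    Limits.pullback.lift α.left β.left (by rw [Over.w α, Over.w β])
  have hΔfst : Δ ≫ Limits.pullback.fst G.hom G.hom = 𝟙 _ := Limits.pullback.diagonal_fst _
  have hΔsnd : Δ ≫ Limits.pullback.snd G.hom G.hom = 𝟙 _ := Limits.pullback.diagonal_snd _
  have habfst : ab ≫ Limits.pullback.fst G.hom G.hom = α.left := Limits.pullback.lift_fst _ _ _
  have habsnd : ab ≫ Limits.pullback.snd G.hom G.hom = β.left := Limits.pullback.lift_snd _ _ _
  let Z : Over S := Over.mk (Limits.pullback.snd Δ ab ≫ G.hom)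
  let j : Z ⟶ G := Over.homMk (Limits.pullback.snd Δ ab) rfl
  have hjleft : j.left = Limits.pullback.snd Δ ab := rfl
  haveI : LocallyOfFinitePresentation Δ := Groth.Agent.S4599.result G.hom
  haveI : IsClosedImmersion Δ := IsSeparated.diagonal_isClosedImmersion
  have hc := Limits.pullback.condition (f := Δ) (g := ab)
  have h1 : Limits.pullback.fst Δ ab = Limits.pullback.snd Δ ab ≫ α.left := by
    have := congrArg (· ≫ Limits.pullback.fst G.hom G.hom) hc
    simp only [Category.assoc, hΔfst, habfst, Category.comp_id] at this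
    exact this
  have h2 : Limits.pullback.fst Δ ab = Limits.pullback.snd Δ ab ≫ β.left := by
    have := congrArg (· ≫ Limits.pullback.snd G.hom G.hom) hc
    simp only [Category.assoc, hΔsnd, habsnd, Category.comp_id] at this
    exact this
  refine ⟨Z, j, ?_, ?_, ?_⟩
  · rw [hjleft]; infer_instance
  · rw [hjleft]; infer_instance
  · intro T x
    rw [← hα, ← hβ]
    constructor
    · rintro ⟨z, rfl⟩
      apply Over.OverMorphism.ext
      simp only [Over.comp_left, hjleft, Category.assoc]
      rw [← h1, ← h2]
    · intro h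
      have h' : x.left ≫ α.left = x.left ≫ β.left := by
        have := congrArg (fun f => f.left) h
        simpa only [Over.comp_left] using this
      let z₀ : T.left ⟶ Limits.pullback Δ ab :=
        Limits.pullback.lift (x.left ≫ α.left) x.left (by
          apply Limits.pullback.hom_ext
          · simp only [Category.assoc, hΔfst, habfst, Category.comp_id]
          · simp only [Category.assoc, hΔsnd, habsnd, Category.comp_id, h'])
      have hz₀ : z₀ ≫ Limits.pullback.snd Δ ab = x.left := Limits.pullback.lift_snd _ _ _
      refine ⟨Over.homMk z₀ (by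
        show z₀ ≫ (Limits.pullback.snd Δ ab ≫ G.hom) = T.hom
        rw [← Category.assoc, hz₀, Over.w x]), ?_⟩
      apply Over.OverMorphism.ext
      simp only [Over.comp_left, Over.homMk_left, hjleft]
      exact hz₀

end Groth.Agent.S15839
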