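import Groth.Statements.S15841

set_option autoImplicit false
universe u
open scoped TensorProduct
open SprIso

namespace Groth.Agent.S15841

theorem corefl_eq {ι M N : Type u} [AddCommGroup M] [AddCommGroup N]
    (P : RootPairing ι ℤ M N) (i : ι) :
    ((P.coreflection i : N ≃ₗ[ℤ] N) : N →ₗ[ℤ] N) =
      LinearMap.id - (LinearMap.toSpanSingleton ℤ N (P.coroot i)) ∘ₗ (P.root' i) := by
  ext x
  simp [RootPairing.coreflection_apply]

theorem comp_prod_eq {ι M N : Type u} [AddCommGroup M] [AddCommGroup N]
    (P : RootPairing ι ℤ M N) (φ : N →ₗ[ℤ] ℤ) (l : List ι)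
    (h : ∀ j ∈ l, φ (P.coroot j) = 0) :
    φ ∘ₗ (l.map (fun i => ((P.coreflection i : N ≃ₗ[ℤ] N) : N →ₗ[ℤ] N))).prod = φ := by
  induction l with
  | nil => rfl
  | cons j l ih =>
    rw [List.map_cons, List.prod_cons, Module.End.mul_eq_comp, ← LinearMap.comp_assoc]
    have h1 : φ ∘ₗ ((P.coreflection j : N ≃ₗ[ℤ] N) : N →ₗ[ℤ] N) = φ := by
      ext x
      simp [RootPairing.coreflection_apply, h j List.mem_cons_self]
    rw [h1]
    exact ih (fun j' hj' => h j' (List.mem_cons_of_mem _ hj'))

theorem aux {ι M N : Type u} [AddCommGroup M] [AddCommGroup N]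
    (P : RootPairing ι ℤ M N) (b : P.Base)
    (hsc : ∀ i ∈ b.support, ∃ ω : M, P.coroot' i ω = 1 ∧ ∀ j ∈ b.support, j ≠ i → P.coroot' j ω = 0)
    (k : Type u) [Field k] :
    ∀ (l : List ι), l.Nodup → (∀ i ∈ l, i ∈ b.support) → ∀ H : k ⊗[ℤ] N,
      ((l.map (fun i => ((P.coreflection i : N ≃ₗ[ℤ] N) : N →ₗ[ℤ] N))).prod).baseChange k H = H →
      ∀ i ∈ l, (P.root' i).baseChange k H = 0 := by
  intro l
  induction l with
  | nil =>
    intro _ _ H _ i hi
    simp at hi
  | cons i l ih =>
    intro hnd hsup H hH
    obtain ⟨ω, hω1, hω0⟩ := hsc i (hsup i List.mem_cons_self)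
    have hφi : (P.toLinearMap ω) (P.coroot i) = 1 := hω1
    have hφl : ∀ j ∈ l, (P.toLinearMap ω) (P.coroot j) = 0 := fun j hj =>
      hω0 j (hsup j (List.mem_cons_of_mem _ hj))
        (by rintro rfl; exact (List.nodup_cons.mp hnd).1 hj)
    rw [List.map_cons, List.prod_cons, Module.End.mul_eq_comp, LinearMap.baseChange_comp,
      LinearMap.comp_apply, corefl_eq, LinearMap.baseChange_sub, LinearMap.baseChange_id,
      LinearMap.baseChange_comp, LinearMap.sub_apply, LinearMap.id_apply,
      LinearMap.comp_apply] at hH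
    have h1 : (P.toLinearMap ω).baseChange k
        (((l.map (fun i => ((P.coreflection i : N ≃ₗ[ℤ] N) : N →ₗ[ℤ] N))).prod).baseChange k H) =
        (P.toLinearMap ω).baseChange k H := by
      rw [← LinearMap.comp_apply, ← LinearMap.baseChange_comp, comp_prod_eq P _ l hφl]
    have h2 : ∀ ρ : k ⊗[ℤ] ℤ, (P.toLinearMap ω).baseChange k
        ((LinearMap.toSpanSingleton ℤ N (P.coroot i)).baseChange k ρ) = ρ := by
      intro ρ
      rw [← LinearMap.comp_apply, ← LinearMap.baseChange_comp]
      have h3 : (P.toLinearMap ω) ∘ₗ LinearMap.toSpanSingleton ℤ N (P.coroot i) = LinearMap.id := by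
        ext
        simp [hφi]
      rw [h3, LinearMap.baseChange_id]
      rfl
    have h4 := congrArg ((P.toLinearMap ω).baseChange k) hH
    rw [map_sub, h1, h2, sub_eq_self] at h4
    rw [h4, map_zero, sub_zero] at hH
    intro j hj
    rcases List.mem_cons.mp hj with rfl | hj
    · rw [← hH]; exact h4
    · exact ih (List.nodup_cons.mp hnd).2 (fun j hj => hsup j (List.mem_cons_of_mem _ hj)) H hH j hj

/-- For a connected reductive group G with maximal torus T whose derived group is simply connected, and
a Coxeter element w (the product of the simple reflections, each once, in any order), an element of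
Lie T = k ⊗ X_*(T) fixed by Ad(w) is killed by the differential of every simple root, i.e. lies in
the centre of Lie G. In root-datum form: let P be a root pairing over ℤ with character lattice M and
cocharacter lattice N, b a base, and suppose each simple coroot has a dual character ω_i in M with
⟨ω_i, α_i^∨⟩ = 1 and ⟨ω_i, α_j^∨⟩ = 0 for every other simple j (the simply connected derived group
hypothesis). If l lists the simple roots without repetition, w^∨ is the composite of the
coreflections along l acting on N, k is a field and H in k ⊗ N satisfies w^∨_k H = H, then (α_i)_k H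
= 0 for every simple root α_i, where (α_i)_k is the base change to k of the functional ⟨α_i, −⟩ on
N. (Stated for an arbitrary field k; the published setting is an algebraically closed field, and the
argument does not depend on k.) -/
theorem result {ι M N : Type u} [AddCommGroup M] [AddCommGroup N]
    (P : RootPairing ι ℤ M N) (b : P.Base)
    (hsc : ∀ i ∈ b.support, ∃ ω : M, P.coroot' i ω = 1 ∧ ∀ j ∈ b.support, j ≠ i → P.coroot' j ω = 0)
    (l : List ι) (hl : l.Nodup) (hlb : ∀ i : ι, i ∈ l ↔ i ∈ b.support)
    (k : Type u) [Field k] (H : k ⊗[ℤ] N)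
    (hH : ((l.map (fun i => ((P.coreflection i : N ≃ₗ[ℤ] N) : N →ₗ[ℤ] N))).prod).baseChange k H = H) :
    ∀ i ∈ b.support, (P.root' i).baseChange k H = 0 := by
  intro i hi
  exact aux P b hsc k l hl (fun j hj => (hlb j).mp hj) H hH i ((hlb i).mpr hi)


end Groth.Agent.S15841
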