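import Groth.Statements.S15845
-- import your own Groth.Agent.* helpers here

set_option autoImplicit false
universe u
open SprIso

namespace Groth.Agent.S15845

/-- General linear group case: this is the case G = GL_n with its upper-triangular Borel subgroup B
(derived group SL_n simply connected, all primes good, so the hypotheses on the characteristic
hold), together with the companion statement for a regular nilpotent element of Lie B. Let k be a
field and u an n × n upper-triangular matrix over k whose diagonal entries are all equal and whose
superdiagonal entries u_{i,i+1} are all non-zero — for diagonal 1 this is a regular unipotent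
element of B(k), for diagonal 0 a regular nilpotent element of Lie B. Then the centralizer of u in
GL_n is contained in B and is the product of the centre with the centralizer in the unipotent
radical: for every commutative k-algebra R and every invertible x ∈ M_n(R) commuting with u_R, x is
upper triangular and its diagonal entries are all equal. (The smoothness of the centralizer in the
unipotent radical, also part of the published statement, is not stated here.) -/
theorem result (k : Type u) [Field k] (n : ℕ)
    (u : Matrix (Fin n) (Fin n) k) (htri : ∀ i j : Fin n, j < i → u i j = 0) (hdiag : ∀ i j : Fin n, u i i = u j j)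
    (hreg : ∀ (i j : Fin n), j.val = i.val + 1 → u i j ≠ 0)
    (R : Type u) [CommRing R] [Algebra k R] (x : Matrix (Fin n) (Fin n) R) (hx : IsUnit x)
    (hxu : x * u.map (algebraMap k R) = u.map (algebraMap k R) * x) :
    (∀ i j : Fin n, j < i → x i j = 0) ∧ (∀ i j : Fin n, x i i = x j j) := by
  classical
  set U : Matrix (Fin n) (Fin n) R := u.map (algebraMap k R) with hU
  have hUap : ∀ i j, U i j = algebraMap k R (u i j) := fun i j => rfl
  have hUtri : ∀ i j : Fin n, j < i → U i j = 0 := by
    intro i j hji
    rw [hUap, htri i j hji, map_zero]
  have hUdiag : ∀ i j : Fin n, U i i = U j j := by
    intro i j
    rw [hUap, hUap, hdiag i j]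
  have hUunit : ∀ i j : Fin n, j.val = i.val + 1 → IsUnit (U i j) := by
    intro i j hij
    rw [hUap]
    exact (IsUnit.mk0 _ (hreg i j hij)).map (algebraMap k R)
  -- entrywise commutation
  have hcomm : ∀ i j : Fin n, ∑ l, x i l * U l j = ∑ l, U i l * x l j := by
    intro i j
    have := congrFun (congrFun hxu i) j
    simpa [Matrix.mul_apply] using this
  -- remove the diagonal part
  have hN : ∀ i j : Fin n, (∑ l, if l < j then x i l * U l j else 0) =
      ∑ l, if i < l then U i l * x l j else 0 := by
    intro i j
    have h1 : ∑ l, x i l * U l j =
        (∑ l, if l < j then x i l * U l j else 0) + x i j * U j j := by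
      have : ∀ l : Fin n, x i l * U l j =
          (if l < j then x i l * U l j else 0) + (if l = j then x i j * U j j else 0) := by
        intro l
        rcases lt_trichotomy l j with h | h | h
        · rw [if_pos h, if_neg (ne_of_lt h), add_zero]
        · subst h
          rw [if_neg (lt_irrefl _), if_pos rfl, zero_add]
        · rw [if_neg (not_lt.2 (le_of_lt h)), if_neg (ne_of_gt h), hUtri l j h, mul_zero,
            add_zero]
      rw [Finset.sum_congr rfl (fun l _ => this l), Finset.sum_add_distrib,
        Finset.sum_ite_eq' Finset.univ j]
      simp
    have h2 : ∑ l, U i l * x l j =
        (∑ l, if i < l then U i l * x l j else 0) + U i i * x i j := by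
      have : ∀ l : Fin n, U i l * x l j =
          (if i < l then U i l * x l j else 0) + (if l = i then U i i * x i j else 0) := by
        intro l
        rcases lt_trichotomy i l with h | h | h
        · rw [if_pos h, if_neg (ne_of_gt h), add_zero]
        · subst h
          rw [if_neg (lt_irrefl _), if_pos rfl, zero_add]
        · rw [if_neg (not_lt.2 (le_of_lt h)), if_neg (ne_of_lt h), hUtri i l h, zero_mul,
            add_zero]
      rw [Finset.sum_congr rfl (fun l _ => this l), Finset.sum_add_distrib,
        Finset.sum_ite_eq' Finset.univ i]
      simp
    have h3 := hcomm i j
    rw [h1, h2, hUdiag j i, mul_comm (x i j)] at h3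
    exact add_right_cancel h3
  -- Claim A: strictly lower triangular part vanishes
  have hA : ∀ c : ℕ, ∀ j : Fin n, j.val = c → ∀ i : Fin n, j < i → x i j = 0 := by
    intro c
    induction c using Nat.strong_induction_on with
    | _ c IHc =>
      intro j hjc
      have IH : ∀ j' : Fin n, j' < j → ∀ i : Fin n, j' < i → x i j' = 0 := by
        intro j' hj' i hi
        exact IHc j'.val (by rw [← hjc]; exact hj') j' rfl i hi
      have inner : ∀ m : ℕ, ∀ i : Fin n, n - i.val = m → j < i → x i j = 0 := by
        intro m
        induction m using Nat.strong_induction_on with
        | _ m ihm =>
          intro i him hji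
          have hi1 : 1 ≤ i.val := by
            have : j.val < i.val := hji
            omega
          let i0 : Fin n := ⟨i.val - 1, by omega⟩
          have hi0 : i0.val + 1 = i.val := by
            show i.val - 1 + 1 = i.val
            omega
          have hji0 : j ≤ i0 := by
            have h1 : j.val < i.val := hji
            show j.val ≤ i.val - 1
            omega
          have hL : (∑ l, if l < j then x i0 l * U l j else 0) = 0 := by
            apply Finset.sum_eq_zero
            intro l _
            split_ifs with hl
            · rw [IH l hl i0 (lt_of_lt_of_le hl hji0), zero_mul]
            · rfl
          have hR : (∑ l, if i0 < l then U i0 l * x l j else 0) = U i0 i * x i j := by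
            rw [Finset.sum_eq_single i]
            · have : i0 < i := by
                show i.val - 1 < i.val
                omega
              rw [if_pos this]
            · intro l _ hli
              split_ifs with hl
              · have hl' : i < l := by
                  have h1 : i0.val < l.val := hl
                  have h2 : l.val ≠ i.val := fun h => hli (Fin.ext h)
                  show i.val < l.val
                  omega
                have hlt : n - l.val < m := by
                  have h1 : i.val < l.val := hl'
                  have h2 := l.isLt
                  omega
                rw [ihm (n - l.val) hlt l rfl (lt_trans hji hl'), mul_zero]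
              · rfl
            · intro h
              exact absurd (Finset.mem_univ i) h
          have h0 := hN i0 j
          rw [hL, hR] at h0
          exact (hUunit i0 i hi0.symm).mul_right_eq_zero.1 h0.symm
      intro i hji
      exact inner (n - i.val) i rfl hji
  have hA' : ∀ i j : Fin n, j < i → x i j = 0 := fun i j h => hA j.val j rfl i h
  refine ⟨hA', ?_⟩
  -- Claim B: constant diagonal
  have hstep : ∀ i i' : Fin n, i'.val = i.val + 1 → x i i = x i' i' := by
    intro i i' hii'
    have hlt : i < i' := by
      show i.val < i'.val
      omega
    have hL : (∑ l, if l < i' then x i l * U l i' else 0) = x i i * U i i' := by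
      rw [Finset.sum_eq_single i]
      · rw [if_pos hlt]
      · intro l _ hli
        split_ifs with hl
        · have hl' : l < i := by
            have h1 : l.val < i'.val := hl
            have h2 : l.val ≠ i.val := fun h => hli (Fin.ext h)
            show l.val < i.val
            omega
          rw [hA' i l hl', zero_mul]
        · rfl
      · intro h
        exact absurd (Finset.mem_univ i) h
    have hR : (∑ l, if i < l then U i l * x l i' else 0) = U i i' * x i' i' := by
      rw [Finset.sum_eq_single i']
      · rw [if_pos hlt]
      · intro l _ hli
        split_ifs with hl
        · have hl' : i' < l := by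
            have h1 : i.val < l.val := hl
            have h2 : l.val ≠ i'.val := fun h => hli (Fin.ext h)
            show i'.val < l.val
            omega
          rw [hA' l i' hl', mul_zero]
        · rfl
      · intro h
        exact absurd (Finset.mem_univ i') h
    have h0 := hN i i'
    rw [hL, hR, mul_comm] at h0
    exact (hUunit i i' hii').mul_right_injective h0
  have hall : ∀ c : ℕ, ∀ i j : Fin n, j.val = i.val + c → x i i = x j j := by
    intro c
    induction c with
    | zero =>
      intro i j hij
      have : i = j := Fin.ext (by omega)
      rw [this]
    | succ c ih =>
      intro i j hij
      have hj := j.isLt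
      let j0 : Fin n := ⟨i.val + c, by omega⟩
      rw [ih i j0 rfl]
      exact hstep j0 j (by show j.val = i.val + c + 1; omega)
  intro i j
  rcases le_total i.val j.val with h | h
  · exact hall (j.val - i.val) i j (by omega)
  · exact (hall (i.val - j.val) j i (by omega)).symm

end Groth.Agent.S15845
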