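import Groth.Statements.S15848
import Groth.Agent.H17.KerLocFree
import Groth.Agent.H63.SmoothRegular2
import Groth.Agent.S0019

set_option autoImplicit false
universe u
open CategoryTheory CategoryTheory.Limits AlgebraicGeometry
open Surf

namespace Groth.Agent.S15848

/-- Let k be an algebraically closed field of characteristic zero and S a smooth surface over k (an
integral k-scheme, smooth over k, of dimension two). Let j : C → S be a closed immersion with C
integral of dimension one, M a coherent O_C-module whose stalks are torsion-free modules over the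
local rings of C, F a finite locally free O_S-module and f : F → j_*M an epimorphism of O_S-modules.
Then the kernel of f, the elementary transformation of F along f, is a finite locally free
O_S-module. (The published setting takes S projective; the argument is local on S and projectivity
is not assumed here.) -/
theorem result
    (k : Type u) [Field k] [IsAlgClosed k] [CharZero k]
    (S : Scheme.{u}) [S.Over (Spec (CommRingCat.of k))] [IsIntegral S]
    [Smooth (S ↘ Spec (CommRingCat.of k))] (hdim : topologicalKrullDim S = 2)
    (C : Scheme.{u}) (j : C ⟶ S) [IsClosedImmersion j] [IsIntegral C]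
    (hC : topologicalKrullDim C = 1)
    (M : C.Modules) (hM : Coh.IsCoh M) (hMtf : TorSh.IsTorsionFree M)
    (F : S.Modules) (hF : FlatMod.IsFinLocFree F)
    (f : F ⟶ (Coh.push j).obj M) [Epi f] :
    FlatMod.IsFinLocFree (kernel f) := by
  haveI : IsLocallyNoetherian S :=
    LocallyOfFiniteType.isLocallyNoetherian (S ↘ Spec (CommRingCat.of k))
  haveI : IsLocallyNoetherian C := LocallyOfFiniteType.isLocallyNoetherian j
  have hreg : ∀ x : S, IsRegularLocalRing (S.presheaf.stalk x) := fun x =>
    Groth.Agent.H63.SmoothRegular.isRegularLocalRing_stalk_of_smooth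
      (S ↘ Spec (CommRingCat.of k)) x
  have hQ : Coh.IsCoh ((Coh.push j).obj M) := Groth.Agent.S0019.result j M hM
  haveI : M.IsQuasicoherent := hM.1
  -- there is a point of `C` different from the generic point
  obtain ⟨c, hc⟩ : ∃ c : C, c ≠ genericPoint C := by
    by_contra hcon
    push Not at hcon
    haveI : Subsingleton C := ⟨fun a b => (hcon a).trans (hcon b).symm⟩
    haveI : Subsingleton (TopologicalSpace.IrreducibleCloseds C) := by
      refine ⟨fun C₁ C₂ => ?_⟩
      apply TopologicalSpace.IrreducibleCloseds.ext
      ext t
      obtain ⟨t₁, ht₁⟩ := C₁.isIrreducible.nonempty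
      obtain ⟨t₂, ht₂⟩ := C₂.isIrreducible.nonempty
      constructor
      · intro _
        rw [Subsingleton.elim t t₂]
        exact ht₂
      · intro _
        rw [Subsingleton.elim t t₁]
        exact ht₁
    have h0 : topologicalKrullDim C ≤ 0 := Order.krullDim_nonpos_of_subsingleton
    rw [hC] at h0
    exact absurd h0 (by decide)
  -- the local ring of `S` at the generic point of `C` has dimension at most one
  have hξ : ringKrullDim (S.presheaf.stalk (j.base (genericPoint C))) < 2 := by
    have hspec : genericPoint C ⤳ c := (genericPoint_spec C).specializes (Set.mem_univ c)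
    have hspec' : j.base (genericPoint C) ⤳ j.base c := hspec.map j.continuous
    have hne : j.base c ≠ j.base (genericPoint C) := fun h =>
      hc (j.isEmbedding.injective h)
    have hlt : j.base c < j.base (genericPoint C) :=
      (Groth.Agent.H54.scheme_lt_iff _ _).mpr ⟨hspec', hne⟩
    have h1 := Order.coheight_add_one_le hlt
    have h2 : ringKrullDim (S.presheaf.stalk (j.base c)) ≤ 2 :=
      (Groth.Agent.H9.FibDim.ringKrullDim_stalk_le S (j.base c)).trans hdim.le
    rw [ringKrullDim_stalk_eq_coheight] at h2 ⊢
    have h2' : Order.coheight (j.base c) ≤ 2 :=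
      WithBot.coe_le_coe.mp (show ((Order.coheight (j.base c) : ℕ∞) : WithBot ℕ∞) ≤
        ((2 : ℕ∞) : WithBot ℕ∞) from h2)
    have h3 : Order.coheight (j.base (genericPoint C)) + 1 ≤ 2 := h1.trans h2'
    have h4 : Order.coheight (j.base (genericPoint C)) < 2 := by
      have : Order.coheight (j.base (genericPoint C)) ≤ 1 := by
        have h5 : Order.coheight (j.base (genericPoint C)) + 1 ≤ 1 + 1 := by
          rw [one_add_one_eq_two]; exact h3
        exact (ENat.add_le_add_iff_right (by simp)).mp h5
      exact lt_of_le_of_lt this (by norm_num)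
    exact (show ((Order.coheight (j.base (genericPoint C)) : ℕ∞) : WithBot ℕ∞) <
        ((2 : ℕ∞) : WithBot ℕ∞) from WithBot.coe_lt_coe.mpr h4)
  apply Groth.Agent.H17.KerLocFree.isFinLocFree_kernel hreg hdim.le hF hQ f
  intro U V hVU h
  have hVU' : j ⁻¹ᵁ V ≤ j ⁻¹ᵁ U := fun _ hx => hVU hx
  have key : Function.Injective (M.presheaf.map (homOfLE hVU').op) := by
    by_cases hne : ((j ⁻¹ᵁ U : C.Opens) : Set C).Nonempty
    · have hηU : genericPoint C ∈ j ⁻¹ᵁ U := by
        obtain ⟨x, hx⟩ := hne
        exact ((genericPoint_spec C).mem_open_set_iff (j ⁻¹ᵁ U).2).mpr ⟨x, Set.mem_univ _, hx⟩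
      have hηV : genericPoint C ∈ j ⁻¹ᵁ V := by
        by_contra hnot
        have h2 := h (j.base (genericPoint C)) hηU hnot
        exact absurd (lt_of_le_of_lt h2 hξ) (lt_irrefl _)
      exact Groth.Agent.H17.ReflNormal.res_injective_of_isTorsionFree M hMtf hVU' hηV
    · intro a b _
      refine Groth.Agent.H17.HomSh.section_ext_germ M a b (fun y => ?_)
      exact absurd ⟨y.1, y.2⟩ hne
  exact key

end Groth.Agent.S15848
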