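import Groth.Statements.S15883
import Mathlib

set_option autoImplicit false
universe u
open CategoryTheory AlgebraicGeometry Opposite
open BMCoh

namespace Groth.Agent.S15883

/-- Let T be a twisted Borel–Moore cohomology theory with coefficients in A (a full subcategory of
R-modules containing R) on a constructible class V of Noetherian schemes, and let i_X : X → W and
i_Y : Y → W be morphisms of V — open immersions with dim X = dim W = dim Y — whose images are
complementary in W, so that W is the disjoint union of X and Y. Then for every coefficient module M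
and all integers i, n the map H^i(W, M(n)) → H^i(X, M(n)) × H^i(Y, M(n)) whose components are the
restriction maps along i_X and i_Y is bijective. -/
theorem result (V : ObjectProperty Scheme.{u}) [BMCoh.IsConstructible V] (R : Type u) [CommRing R] (A : BMCoh.Coefs R) (T : BMCoh.TheoryOn V R A) {X Y W : BMCoh.Obj V} (iX : X ⟶ W) (iY : Y ⟶ W) (h : Set.range iX.hom = (Set.range iY.hom)ᶜ) (M : A.Cat) (i n : ℤ) : Function.Bijective (fun a : T.gp W M i n => ((T.pull iX M i n).hom a, (T.pull iY M i n).hom a)) := by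
  obtain ⟨k, rfl⟩ : ∃ k, i = k + 1 := ⟨i - 1, by ring⟩
  have hopX : IsOpen (Set.range iX.hom) := iX.hom.isOpenEmbedding.isOpen_range
  have hopY : IsOpen (Set.range iY.hom) := iY.hom.isOpenEmbedding.isOpen_range
  have hclY : IsClosed (Set.range iY.hom) := by
    rw [← isOpen_compl_iff, ← h]; exact hopX
  have hclX : IsClosed (Set.range iX.hom) := by
    rw [h]; exact hopY.isClosed_compl
  have hciY : IsClosedImmersion iY.hom := IsClosedImmersion.of_isPreimmersion _ hclY
  have hciX : IsClosedImmersion iX.hom := IsClosedImmersion.of_isPreimmersion _ hclX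
  let D1 : BMCoh.Decomp W := ⟨Y, X, iY.hom, hciY, iX, h⟩
  let D2 : BMCoh.Decomp W := ⟨X, Y, iX.hom, hciX, iY, by rw [h, compl_compl]⟩
  have hrY : BMCoh.relCodim Y.scheme W.scheme = 0 := by
    unfold BMCoh.relCodim; rw [iY.dim_eq]; ring
  have hrX : BMCoh.relCodim X.scheme W.scheme = 0 := by
    unfold BMCoh.relCodim; rw [iX.dim_eq]; ring
  have hrYY : BMCoh.relCodim Y.scheme Y.scheme = 0 := by unfold BMCoh.relCodim; ring
  have hrXX : BMCoh.relCodim X.scheme X.scheme = 0 := by unfold BMCoh.relCodim; ring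
  have hiY : k + 1 = k + 1 + 2 * BMCoh.relCodim Y.scheme W.scheme := by rw [hrY]; ring
  have hnY : n = n + BMCoh.relCodim Y.scheme W.scheme := by rw [hrY]; ring
  have hiX : k + 1 = k + 1 + 2 * BMCoh.relCodim X.scheme W.scheme := by rw [hrX]; ring
  have hnX : n = n + BMCoh.relCodim X.scheme W.scheme := by rw [hrX]; ring
  have hiYY : k + 1 = k + 1 + 2 * BMCoh.relCodim Y.scheme Y.scheme := by rw [hrYY]; ring
  have hnYY : n = n + BMCoh.relCodim Y.scheme Y.scheme := by rw [hrYY]; ring
  have hiXX : k + 1 = k + 1 + 2 * BMCoh.relCodim X.scheme X.scheme := by rw [hrXX]; ring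
  have hnXX : n = n + BMCoh.relCodim X.scheme X.scheme := by rw [hrXX]; ring
  -- base change: pull ∘ push = id
  have hbcY : ∀ b, (T.pull iY M (k+1) n).hom
      ((T.push iY.hom M (k+1) n (k+1) n hiY hnY).hom b) = b := by
    intro b
    have hpb : IsPullback (𝟙 Y : Y ⟶ Y).hom (𝟙 Y.scheme) iY.hom iY.hom :=
      IsKernelPair.id_of_mono iY.hom
    have := T.push_pull iY.hom (𝟙 Y.scheme) iY (𝟙 Y) hpb M (k+1) n (k+1) n hiY hnY hiYY hnYY
    rw [T.push_id Y M (k+1) n hiYY hnYY] at this
    have h2 := congrArg (fun φ => φ.hom b) this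
    simpa using h2
  have hbcX : ∀ b, (T.pull iX M (k+1) n).hom
      ((T.push iX.hom M (k+1) n (k+1) n hiX hnX).hom b) = b := by
    intro b
    have hpb : IsPullback (𝟙 X : X ⟶ X).hom (𝟙 X.scheme) iX.hom iX.hom :=
      IsKernelPair.id_of_mono iX.hom
    have := T.push_pull iX.hom (𝟙 X.scheme) iX (𝟙 X) hpb M (k+1) n (k+1) n hiX hnX hiXX hnXX
    rw [T.push_id X M (k+1) n hiXX hnXX] at this
    have h2 := congrArg (fun φ => φ.hom b) this
    simpa using h2
  -- exactness
  have hex1 := T.exact_push_pull D1 M k n (k+1) n hiY hnY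
  have hex2 := T.exact_push_pull D2 M k n (k+1) n hiX hnX
  constructor
  · intro a a' haa'
    have hsub : (T.pull iX M (k+1) n).hom (a - a') = 0 ∧ (T.pull iY M (k+1) n).hom (a - a') = 0 := by
      have h1 := congrArg Prod.fst haa'
      have h2 := congrArg Prod.snd haa'
      simp only at h1 h2
      exact ⟨by rw [map_sub, h1, sub_self], by rw [map_sub, h2, sub_self]⟩
    obtain ⟨b, hb⟩ := (hex1 (a - a')).mp hsub.1
    have hb0 : b = 0 := by
      have := hbcY b
      rw [show (T.push iY.hom M (k+1) n (k+1) n hiY hnY).hom b = a - a' from hb, hsub.2] at this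
      exact this.symm
    rw [hb0, map_zero] at hb
    exact sub_eq_zero.mp hb.symm
  · rintro ⟨aX, aY⟩
    refine ⟨(T.push iX.hom M (k+1) n (k+1) n hiX hnX).hom aX
      + (T.push iY.hom M (k+1) n (k+1) n hiY hnY).hom aY, ?_⟩
    have z1 : (T.pull iX M (k+1) n).hom ((T.push iY.hom M (k+1) n (k+1) n hiY hnY).hom aY) = 0 :=
      hex1.apply_apply_eq_zero aY
    have z2 : (T.pull iY M (k+1) n).hom ((T.push iX.hom M (k+1) n (k+1) n hiX hnX).hom aX) = 0 :=
      hex2.apply_apply_eq_zero aX
    simp only [map_add]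
    rw [hbcX, hbcY, z1, z2, add_zero, zero_add]

end Groth.Agent.S15883
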