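import Groth.Statements.S15884
import Groth.Agent.H79.BMNeg

set_option autoImplicit false
universe u
open CategoryTheory AlgebraicGeometry Opposite
open BMCoh

namespace Groth.Agent.S15884

/-- Let T be a twisted Borel–Moore cohomology theory with coefficients in A on a constructible class V
of Noetherian schemes, X an object of V, M a coefficient module, i and n integers and j a natural
number with i ≤ 2j (that is, j is at least the ceiling of i/2). Then the canonical map H^i(X, M(n))
→ H^i(F_jX, M(n)), to the colimit of H^i(U, M(n)) over the open subschemes U of X that contain every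
point of codimension at most j (codimension of a point = dim X minus the dimension of its closure),
is bijective. -/
theorem result (V : ObjectProperty Scheme.{u}) [BMCoh.IsConstructible V] (R : Type u) [CommRing R] (A : BMCoh.Coefs R) (T : BMCoh.TheoryOn V R A) (X : BMCoh.Obj V) (M : A.Cat) (j : ℕ) (i n : ℤ) (hj : i ≤ 2 * (j : ℤ)) : Function.Bijective ((T.toFj X j i n).app M).hom := by
  have hres : ∀ (U : BMCoh.Idx X (BMCoh.ContainsFj X j)) (M' : A.Cat),
      Function.Bijective (T.pull (X.resι U.1 U.2.2) M' i n).hom := by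
    intro U M'
    let D := Groth.Agent.H79.BMGeom.decompOf (X.resι U.1 U.2.2)
    haveI : IsReduced D.Z.scheme := Groth.Agent.H79.BMNeg.isReduced_decompOf _
    have hzero : ∀ k m : ℤ, (IsEmpty D.Z.scheme ∨ k < 0) → Limits.IsZero (T.gp D.Z M' k m) := by
      intro k m h
      rcases h with h | h
      · exact Groth.Agent.H79.BMCore.isZero_of_isEmpty T.toPreTheory D.Z M' k m
      · exact Groth.Agent.H79.BMNeg.neg_vanish T D.Z M' k m h
    have hc : IsEmpty D.Z.scheme ∨ (j : ℤ) + 1 ≤ D.codim := by
      rcases isEmpty_or_nonempty D.Z.scheme with he | ⟨⟨z₀⟩⟩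
      · exact Or.inl he
      · right
        have hcod : ∀ y : X.scheme, y ∈ (Set.range (X.resι U.1 U.2.2).hom)ᶜ →
            j + 1 ≤ WeilCoh.codim X.scheme y := by
          intro y hy
          by_contra hlt
          apply hy
          have hyU : y ∈ U.1 := U.2.1 y (by omega)
          exact ⟨⟨y, hyU⟩, rfl⟩
        have hmem : ∀ y : X.scheme, y ∈ (Set.range (X.resι U.1 U.2.2).hom)ᶜ →
            WeilCoh.pdim X.scheme y ≤ WeilCoh.dim X.scheme - (j + 1) := by
          intro y hy
          have h1 := hcod y hy
          have h2 := Groth.Agent.H79.BMGeom.pdim_le_dim X y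
          unfold WeilCoh.codim at h1
          omega
        have hdimZ : WeilCoh.dim D.Z.scheme ≤ WeilCoh.dim X.scheme - (j + 1) :=
          Groth.Agent.H79.BMGeom.dim_redSub_le X _ hmem
        have hy₀ : D.i z₀ ∈ (Set.range (X.resι U.1 U.2.2).hom)ᶜ := by
          have hr := D.range_eq
          intro hcontra
          have : D.i z₀ ∈ Set.range D.j.hom := hcontra
          rw [hr] at this
          exact this ⟨z₀, rfl⟩
        have h1 := hcod (D.i z₀) hy₀
        unfold WeilCoh.codim at h1
        show (j : ℤ) + 1 ≤ BMCoh.relCodim D.Z.scheme X.scheme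
        unfold BMCoh.relCodim
        omega
    have h1 : Limits.IsZero (T.gp D.Z M' (i - 2 * D.codim) (n - D.codim)) :=
      hzero _ _ (hc.imp id (fun h => by omega))
    have h2 : Limits.IsZero (T.gp D.Z M' (i + 1 - 2 * D.codim) (n - D.codim)) :=
      hzero _ _ (hc.imp id (fun h => by omega))
    exact ⟨Groth.Agent.H79.BMCore.pull_injective_of_isZero T.toPreTheory D M' i n h1,
      Groth.Agent.H79.BMCore.pull_surjective_of_isZero T.toPreTheory D M' i n h2⟩
  let F : (BMCoh.Idx X (BMCoh.ContainsFj X j))ᵒᵖ ⥤ (A.Cat ⥤ ModuleCat.{u} R) :=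
    (BMCoh.idxDiag X (BMCoh.ContainsFj X j)).op ⋙ T.H i n
  have hmap : ∀ (a b : (BMCoh.Idx X (BMCoh.ContainsFj X j))ᵒᵖ) (f : a ⟶ b), IsIso (F.map f) := by
    intro a b f
    have : ∀ M' : A.Cat, IsIso ((F.map f).app M') := by
      intro M'
      rw [ConcreteCategory.isIso_iff_bijective]
      have hcomp : (BMCoh.idxDiag X (BMCoh.ContainsFj X j)).map f.unop ≫
          X.resι a.unop.1 a.unop.2.2 = X.resι b.unop.1 b.unop.2.2 :=
        BMCoh.Hom.ext (Scheme.homOfLE_ι X.scheme f.unop.le)
      have h1 := hres b.unop M'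
      have h2 := hres a.unop M'
      have heq : (T.pull (X.resι b.unop.1 b.unop.2.2) M' i n).hom =
          (T.pull ((BMCoh.idxDiag X (BMCoh.ContainsFj X j)).map f.unop) M' i n).hom ∘ₗ
            (T.pull (X.resι a.unop.1 a.unop.2.2) M' i n).hom := by
        ext z
        rw [← hcomp]
        exact Groth.Agent.H79.BMCore.pull_comp T.toPreTheory _ _ M' i n z
      rw [heq] at h1
      exact (Function.Bijective.of_comp_iff _ h2).mp h1
    exact NatIso.isIso_of_isIso_app _
  let top : BMCoh.Idx X (BMCoh.ContainsFj X j) := ⟨⊤, fun _ _ => trivial, BMCoh.dim_top X.scheme⟩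
  have hterm : Limits.IsTerminal top :=
    Limits.IsTerminal.ofUniqueHom (fun U => homOfLE (show U.1 ≤ ⊤ from le_top))
      (fun _ _ => Subsingleton.elim _ _)
  have := hmap
  have hiso : IsIso (Limits.colimit.ι F (op top)) :=
    Limits.isIso_ι_of_isInitial (Limits.initialOpOfTerminal hterm) F
  have hb2 : Function.Bijective ((Limits.colimit.ι F (op top)).app M).hom :=
    ConcreteCategory.bijective_of_isIso ((Limits.colimit.ι F (op top)).app M)
  have hb1 := hres top M
  have : ((T.toFj X j i n).app M).hom =
      ((Limits.colimit.ι F (op top)).app M).hom ∘ₗ (T.pull (X.resι top.1 top.2.2) M i n).hom := by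
    rfl
  rw [this]
  exact hb2.comp hb1

end Groth.Agent.S15884
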