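import Groth.Statements.S15888
import Groth.Agent.H79.BMNeg

set_option autoImplicit false
universe u
open CategoryTheory AlgebraicGeometry Opposite
open BMCoh

namespace Groth.Agent.S15888

/-- Let T be a twisted Borel–Moore cohomology theory with coefficients in A on a constructible class V
of Noetherian schemes, X an object of V whose underlying scheme is integral, and f : U → X a
morphism of V (an open immersion with dim U = dim X) whose image is a big open subset: every point
of X outside the image has codimension at least 2 in X, that is, its closure has dimension less than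
dim X − 1. Then for every coefficient module M and every integer n the restriction map H^2(X, M(n))
→ H^2(U, M(n)) along f is bijective. (The published remark is made for the rank-one Tate-twisted
coefficients of an ℓ-adic theory; the exactness-and-vanishing argument it indicates involves neither
the coefficient module nor the twist, and the statement is made here for all of them.) -/
theorem result (V : ObjectProperty Scheme.{u}) [BMCoh.IsConstructible V] (R : Type u) [CommRing R] (A : BMCoh.Coefs R) (T : BMCoh.TheoryOn V R A) {U X : BMCoh.Obj V} [IsIntegral X.scheme] (f : U ⟶ X) (hbig : ∀ x : X.scheme, x ∉ Set.range f.hom → 2 ≤ WeilCoh.codim X.scheme x) (M : A.Cat) (n : ℤ) : Function.Bijective (T.pull f M 2 n).hom := by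
  let D := Groth.Agent.H79.BMGeom.decompOf f
  haveI : IsReduced D.Z.scheme := Groth.Agent.H79.BMNeg.isReduced_decompOf f
  have hzero : ∀ k m : ℤ, (IsEmpty D.Z.scheme ∨ k < 0) → Limits.IsZero (T.gp D.Z M k m) := by
    intro k m h
    rcases h with h | h
    · exact Groth.Agent.H79.BMCore.isZero_of_isEmpty T.toPreTheory D.Z M k m
    · exact Groth.Agent.H79.BMNeg.neg_vanish T D.Z M k m h
  have hc : IsEmpty D.Z.scheme ∨ 2 ≤ D.codim := by
    rcases isEmpty_or_nonempty D.Z.scheme with he | ⟨⟨z₀⟩⟩
    · exact Or.inl he
    · right
      have hmem : ∀ y : X.scheme, y ∈ (Set.range f.hom)ᶜ → WeilCoh.pdim X.scheme y ≤ WeilCoh.dim X.scheme - 2 := by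
        intro y hy
        have h1 := hbig y hy
        have h2 := Groth.Agent.H79.BMGeom.pdim_le_dim X y
        unfold WeilCoh.codim at h1
        omega
      have hdimZ : WeilCoh.dim D.Z.scheme ≤ WeilCoh.dim X.scheme - 2 :=
        Groth.Agent.H79.BMGeom.dim_redSub_le X _ hmem
      have hy₀ : D.i z₀ ∈ (Set.range f.hom)ᶜ := by
        have : D.i z₀ ∈ Set.range D.i := ⟨z₀, rfl⟩
        have hr := D.range_eq
        intro hcontra
        have : D.i z₀ ∈ Set.range D.j.hom := hcontra
        rw [hr] at this
        exact this ⟨z₀, rfl⟩
      have h1 := hbig (D.i z₀) hy₀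
      unfold WeilCoh.codim at h1
      show 2 ≤ BMCoh.relCodim D.Z.scheme X.scheme
      unfold BMCoh.relCodim
      omega
  have h1 : Limits.IsZero (T.gp D.Z M (2 - 2 * D.codim) (n - D.codim)) :=
    hzero _ _ (hc.imp id (fun h => by omega))
  have h2 : Limits.IsZero (T.gp D.Z M (2 + 1 - 2 * D.codim) (n - D.codim)) :=
    hzero _ _ (hc.imp id (fun h => by omega))
  exact ⟨Groth.Agent.H79.BMCore.pull_injective_of_isZero T.toPreTheory D M 2 n h1,
    Groth.Agent.H79.BMCore.pull_surjective_of_isZero T.toPreTheory D M 2 n h2⟩

end Groth.Agent.S15888
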