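import Groth.Statements.S15890
import Groth.Agent.H96.VerschEt

set_option autoImplicit false
universe u v
open Versch

namespace Groth.Agent.S15890

open Groth.Agent.H96.VerschEt TensorProduct

/-- Let p be a prime, k a field of characteristic p and A a finite-dimensional commutative and
cocommutative Hopf algebra over k (a finite commutative k-group scheme G = Spec A), and let v : A →
A ⊗_k k^(Frob) be the comorphism of the Verschiebung V : G^(p) → G (the ring map whose transpose
under the canonical pairing is the relative Frobenius of the dual Hopf algebra). Then G is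
multiplicative, i.e. the dual Hopf algebra Hom_k(A, k) of the Cartier dual G^D is étale over k, if
and only if v is bijective, i.e. V is an isomorphism. -/
theorem result (p : ℕ) [Fact p.Prime] (k : Type u) [Field k] [CharP k p]
    (A : Type v) [CommRing A] [HopfAlgebra k A] [Coalgebra.IsCocomm k A] [FiniteDimensional k A]
    (v : A →+* FrobAlg.BaseChange p k A) (hv : Versch.IsVerschiebung p k A v) :
    Algebra.Etale k (CartDual.D k A) ↔ Function.Bijective v := by
  classical
  set D := CartDual.D k A with hD
  have hviff := (Versch.isVerschiebung_iff p k A v).mp hv
  -- relative Frobenius of the dual surjective ⇒ `v` injective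
  have hFv1 : Function.Surjective (FrobAlg.relFrob p k D) → Function.Injective v := by
    intro hF
    rw [injective_iff_map_eq_zero]
    intro a ha
    have h1 : ∀ w : FrobAlg.BaseChange p k D, (FrobAlg.relFrob p k D w) a = 0 := by
      intro w
      induction w using TensorProduct.induction_on with
      | zero => rw [map_zero]; rfl
      | tmul x t =>
        have := hv a x t
        rw [ha, map_zero, zero_mul] at this
        exact (FrobAlg.toTwist p k).injective (this.symm.trans (map_zero _).symm)
      | add w1 w2 h1 h2 =>
        rw [map_add, CartDual.coe_apply, WithConv.ofConv_add, LinearMap.add_apply,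
          ← CartDual.coe_apply, ← CartDual.coe_apply, h1, h2, add_zero]
    rw [← Module.forall_dual_apply_eq_zero_iff k a]
    intro ℓ
    obtain ⟨w, hw⟩ := hF (WithConv.toConv ℓ)
    have := h1 w
    rw [hw] at this
    exact this
  -- `v` injective ⇒ relative Frobenius of the dual surjective
  have hFv2 : Function.Injective v → Function.Surjective (FrobAlg.relFrob p k D) := by
    intro hinj
    rw [surjective_relFrob_iff]
    set W : Submodule k (Module.Dual k A) :=
      (powSpan p k D).map (CartDual.toDual k A).toLinearMap with hW
    have hco : W.dualCoannihilator = ⊥ := by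
      rw [eq_bot_iff]
      intro a ha
      rw [Submodule.mem_dualCoannihilator] at ha
      have h1 : ∀ (x : D) (t : FrobAlg.Twist p k), (FrobAlg.relFrob p k D (x ⊗ₜ[k] t)) a = 0 := by
        intro x t
        have hm := relFrob_mem_powSpan p k D (x ⊗ₜ[k] t)
        exact ha _ ⟨_, hm, rfl⟩
      have h2 : v a = 0 := by
        apply Versch.evTw_injective p k A
        intro x
        have := hv a x 1
        rw [mul_one, h1, map_zero] at this
        rw [this, map_zero]
      exact (Submodule.mem_bot k).mpr (hinj (h2.trans (map_zero v).symm))
    have hWtop : W = ⊤ := by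
      have := Subspace.dualCoannihilator_dualAnnihilator_eq (W := W)
      rw [hco, Submodule.dualAnnihilator_bot] at this
      exact this.symm
    rw [eq_top_iff]
    intro y _
    have hy : (CartDual.toDual k A) y ∈ W := by rw [hWtop]; trivial
    obtain ⟨y', hy', hyy⟩ := hy
    have : y' = y := (CartDual.toDual k A).injective hyy
    rwa [this] at hy'
  -- `v` injective ⇒ `v` surjective (semilinear dimension count)
  have hsurj : Function.Injective v → Function.Surjective v := by
    intro hinj
    letI : Field (FrobAlg.Twist p k) := inferInstanceAs (Field k)
    let b := Module.finBasis k A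
    refine surjective_of_injective_semilinear (FrobAlg.toTwist p k) b
      (fun i => b i ⊗ₜ[k] (1 : FrobAlg.Twist p k)) ?_ v.toAddMonoidHom ?_ hinj
    · rw [eq_top_iff]
      intro z _
      induction z using TensorProduct.induction_on with
      | zero => exact zero_mem _
      | tmul a t =>
        have : a ⊗ₜ[k] t = ∑ i, (algebraMap k (FrobAlg.Twist p k) (b.repr a i) * t) •
            (b i ⊗ₜ[k] (1 : FrobAlg.Twist p k)) := by
          conv_lhs => rw [← b.sum_repr a, TensorProduct.sum_tmul]
          refine Finset.sum_congr rfl fun i _ => ?_
          rw [TensorProduct.smul_tmul, Algebra.smul_def (b.repr a i) t, Algebra.smul_def]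
          change _ = ((1 : A) ⊗ₜ[k] (algebraMap k (FrobAlg.Twist p k) (b.repr a i) * t)) *
            (b i ⊗ₜ[k] (1 : FrobAlg.Twist p k))
          rw [Algebra.TensorProduct.tmul_mul_tmul, one_mul, mul_one]
        rw [this]
        exact Submodule.sum_mem _ fun i _ =>
          Submodule.smul_mem _ _ (Submodule.subset_span ⟨i, rfl⟩)
      | add z1 z2 h1 h2 => exact add_mem (h1 Submodule.mem_top) (h2 Submodule.mem_top)
    · intro c a
      change v (c • a) = FrobAlg.toTwist p k c • v a
      have hc : v (algebraMap k A c) = (1 : A) ⊗ₜ[k] (FrobAlg.toTwist p k c) := by
        apply Versch.evTw_injective p k A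
        intro x
        rw [hviff, Versch.evTw_tmul', ← map_mul]
        congr 1
        rw [Algebra.algebraMap_eq_smul_one, CartDual.coe_apply, map_smul, smul_eq_mul, mul_comm,
          ← CartDual.coe_apply]
        congr 1
        rw [← CartDual.coalgebra_counit_apply, ← CartDual.coalgebra_counit_apply,
          ← Bialgebra.counitAlgHom_apply, ← Bialgebra.counitAlgHom_apply, map_pow]
      rw [Algebra.smul_def, map_mul, hc, Algebra.smul_def]
      rfl
  constructor
  · intro hE
    have hS := powSpan_eq_top_of_etale p k D
    have hF : Function.Surjective (FrobAlg.relFrob p k D) := (surjective_relFrob_iff p k D).mpr hS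
    have hinj := hFv1 hF
    exact ⟨hinj, hsurj hinj⟩
  · intro hb
    have hF := hFv2 hb.1
    exact etale_of_powSpan_eq_top p k D ((surjective_relFrob_iff p k D).mp hF)

end Groth.Agent.S15890
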