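import Groth.Statements.S15895
import Groth.Agent.S15893
import Mathlib.Algebra.CharP.Lemmas
import Mathlib.GroupTheory.OrderOfElement

set_option autoImplicit false
universe u
open scoped TensorProduct
open Versch

namespace Groth.Agent.S15895

theorem charP_monoidAlgebra (p : ℕ) (R : Type u) [CommRing R] [CharP R p] (G : Type) [Group G] :
    CharP (MonoidAlgebra R G) p := by
  apply charP_of_injective_algebraMap (R := R) _ p
  rw [MonoidAlgebra.coe_algebraMap]
  exact MonoidAlgebra.single_right_injective.comp (fun a b h => h)

theorem pow_p_eq (p : ℕ) [Fact p.Prime] (R : Type u) [CommRing R] [CharP R p]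
    (a : MonoidAlgebra R (Multiplicative (ZMod p))) :
    a ^ p = algebraMap R _ ((Coalgebra.counit (R := R) a) ^ p) := by
  have := charP_monoidAlgebra p R (Multiplicative (ZMod p))
  induction a using MonoidAlgebra.induction_on with
  | of m =>
    have hm : m ^ p = 1 := by
      have h1 := pow_card_eq_one (G := Multiplicative (ZMod p)) (x := m)
      rwa [Fintype.card_multiplicative, ZMod.card] at h1
    rw [MonoidAlgebra.of_apply, MonoidAlgebra.single_pow, hm, one_pow, MonoidAlgebra.counit_single]
    simp
  | add x y hx hy =>
    rw [add_pow_char, hx, hy, map_add, add_pow_char, map_add]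
  | smul r x hx =>
    rw [smul_pow, hx, map_smul, smul_eq_mul, mul_pow, map_mul, Algebra.smul_def]

/-- Let p be a prime, R a commutative ring of characteristic p and B = Hom_R(R[ℤ/p], R) the dual Hopf
algebra of the group algebra of the cyclic group of order p: the Hopf algebra of the constant group
scheme ℤ/p over Spec R (the Cartier dual of μ_p). Let v : B → B ⊗_R R^(Frob) be the comorphism of
the Verschiebung V : (ℤ/p)^(p) → ℤ/p (the ring map whose transpose under the canonical pairing is
the relative Frobenius of the dual Hopf algebra of B). Then V is the trivial homomorphism: v is the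
composite of the counit ε : B → R, the identity of underlying rings R → R^(Frob) and the inclusion
of the twisted factor R^(Frob) → B ⊗_R R^(Frob), i.e. v(b) = 1 ⊗ ε(b). -/
theorem result (p : ℕ) [Fact p.Prime] (R : Type u) [CommRing R]
    [CharP R p] (v : CartDual.D R (MonoidAlgebra R (Multiplicative (ZMod p))) →+* FrobAlg.BaseChange p R (CartDual.D R (MonoidAlgebra R (Multiplicative (ZMod p)))))
    (hv : Versch.IsVerschiebung p R (CartDual.D R (MonoidAlgebra R (Multiplicative (ZMod p)))) v) :
    v = ((Algebra.TensorProduct.includeRight (R := R) (A := CartDual.D R (MonoidAlgebra R (Multiplicative (ZMod p))))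
            (B := FrobAlg.Twist p R)).toRingHom.comp (FrobAlg.toTwist p R).toRingHom).comp
          (Bialgebra.counitAlgHom R (CartDual.D R (MonoidAlgebra R (Multiplicative (ZMod p))))).toRingHom := by
  apply Versch.IsVerschiebung.unique p R _ hv
  rw [Versch.isVerschiebung_iff]
  intro b ξ
  obtain ⟨a, rfl⟩ := (Groth.Agent.S15893.eval_bijective R
    (MonoidAlgebra R (Multiplicative (ZMod p)))).2 ξ
  have h1 : (CartDual.eval R (MonoidAlgebra R (Multiplicative (ZMod p))) a) ^ p =
      CartDual.eval R _ (a ^ p) := (map_pow _ a p).symm
  rw [h1, CartDual.eval_apply, pow_p_eq]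
  simp only [RingHom.coe_comp, Function.comp_apply, AlgHom.toRingHom_eq_coe, RingHom.coe_coe,
    Algebra.TensorProduct.includeRight_apply, RingEquiv.toRingHom_eq_coe, RingHom.coe_coe,
    Bialgebra.counitAlgHom_apply]
  rw [Versch.evTw_tmul', CartDual.eval_apply, CartDual.coalgebra_counit_apply, ← map_mul]
  congr 1
  rw [Algebra.algebraMap_eq_smul_one, CartDual.coe_apply, CartDual.coe_apply, map_smul,
    smul_eq_mul]
  congr 2


end Groth.Agent.S15895
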