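import Groth.Statements.S15896
import Groth.Agent.H96.HopfQuot

set_option autoImplicit false
universe u
open scoped TensorProduct
open Hopf

namespace Groth.Agent.S15896

/-- Let R be a henselian Noetherian local ring and A a commutative and cocommutative Hopf algebra over R
which is finitely generated and projective as an R-module (a finite flat commutative R-group G =
Spec A). Let e ∈ A be an idempotent with ε(e) = 1 such that the ideal (1 − e) is a Hopf ideal and A⁰
= A/(1 − e) is a local ring, projective over R, with cocommutative quotient structure (G⁰ = Spec A⁰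
is the connected component of the unit section). Let B = Hom_R(A⁰, R) be the dual Hopf algebra (the
Cartier dual (G⁰)^D) and e' ∈ B an idempotent with ε(e') = 1 and B/(1 − e') local (the unit
component of (G⁰)^D). Say that x ∈ B is invariant when (id ⊗ (multiplication by e'))(Δ x) = x ⊗ e',
i.e. x is invariant under translation by the unit component of (G⁰)^D, so that the invariant
elements form the Hopf algebra of the maximal étale quotient of (G⁰)^D; the ideal in A⁰ of the
closed subgroup G_μ ⊆ G⁰ ⊆ G consists of the elements annihilated by every invariant x (G_μ is the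
Cartier dual of the étale quotient of (G⁰)^D, a connected multiplicative subgroup of G). Then G_μ is
the largest connected multiplicative closed subgroup of G: for every Hopf ideal J of A such that A/J
is a local ring, projective over R, cocommutative, and has étale dual Hopf algebra Hom_R(A/J, R) (H
= Spec A/J a connected closed subgroup with étale Cartier dual), every a ∈ A whose image in A⁰ is
annihilated by all invariant x lies in J, i.e. H ⊆ G_μ. -/
theorem result (R : Type u) [CommRing R]
    [HenselianLocalRing R] [IsNoetherianRing R] (A : Type u) [CommRing A] [HopfAlgebra R A] [Coalgebra.IsCocomm R A]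
    [Module.Finite R A] [Module.Projective R A] (e : A) (he : IsIdempotentElem e)
    (hε : Bialgebra.counitAlgHom R A e = 1) [(Ideal.span ({1 - e} : Set A)).IsHopfIdeal R] [IsLocalRing (A ⧸ Ideal.span ({1 - e} : Set A))]
    [Module.Projective R (A ⧸ Ideal.span ({1 - e} : Set A))] [Coalgebra.IsCocomm R (A ⧸ Ideal.span ({1 - e} : Set A))]
    (e' : CartDual.D R (A ⧸ Ideal.span ({1 - e} : Set A))) (he' : IsIdempotentElem e')
    (hε' : Bialgebra.counitAlgHom R (CartDual.D R (A ⧸ Ideal.span ({1 - e} : Set A))) e' = 1)
    [IsLocalRing (CartDual.D R (A ⧸ Ideal.span ({1 - e} : Set A)) ⧸ Ideal.span ({1 - e'} : Set (CartDual.D R (A ⧸ Ideal.span ({1 - e} : Set A)))))]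
    (J : Ideal A) [J.IsHopfIdeal R] [IsLocalRing (A ⧸ J)] [Module.Projective R (A ⧸ J)]
    [Coalgebra.IsCocomm R (A ⧸ J)] [Algebra.Etale R (CartDual.D R (A ⧸ J))]
    (a : A) (ha : ∀ x : CartDual.D R (A ⧸ Ideal.span ({1 - e} : Set A)), LinearMap.lTensor (CartDual.D R (A ⧸ Ideal.span ({1 - e} : Set A))) (LinearMap.mulLeft R e') (Coalgebra.comul (R := R) x) = x ⊗ₜ[R] e' → x (Ideal.Quotient.mk (Ideal.span ({1 - e} : Set A)) a) = 0) :
    a ∈ J := by
  classical
  have hmk : Ideal.Quotient.mk J e = 1 := by
    have hid : IsIdempotentElem (Ideal.Quotient.mk J e) := by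
      change Ideal.Quotient.mk J e * Ideal.Quotient.mk J e = Ideal.Quotient.mk J e
      rw [← map_mul, he.eq]
    rcases Groth.Agent.H96.HopfQuot.idem_eq_zero_or_one hid with h0 | h1
    · exfalso
      have h2 : Coalgebra.counit (R := R) (Ideal.Quotient.mk J e) = Coalgebra.counit (R := R) e :=
        Bialgebra.Quotient.counit_mk J e
      rw [h0, map_zero] at h2
      have h3 : Coalgebra.counit (R := R) e = 1 := hε
      rw [h3] at h2
      exact zero_ne_one h2
    · exact h1
  have hIJ : Ideal.span ({1 - e} : Set A) ≤ J := by
    rw [Ideal.span_singleton_le_iff_mem]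
    rw [← Ideal.Quotient.eq_zero_iff_mem, map_sub, map_one, hmk, sub_self]
  have hIJ' : Ideal.span ({1 - e} : Set A) ≤ J.comap ((BialgHom.id R A : A →ₐc[R] A) : A →ₐ[R] A) := by
    intro x hx
    exact hIJ hx
  let q : (A ⧸ Ideal.span ({1 - e} : Set A)) →ₐc[R] (A ⧸ J) :=
    Groth.Agent.H96.HopfQuot.quotMap (BialgHom.id R A) (Ideal.span ({1 - e} : Set A)) J hIJ'
  have key : ∀ y : CartDual.D R (A ⧸ J), y (Ideal.Quotient.mk J a) = 0 := by
    intro y
    have hinv := Groth.Agent.H96.HopfQuot.invariant_of_unramified (CartDual.transpose R q) e' he' hε' y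
    have h1 := ha (CartDual.transpose R q y) hinv
    rw [CartDual.transpose_apply] at h1
    exact h1
  have h0 : Ideal.Quotient.mk J a = 0 :=
    (Module.forall_dual_apply_eq_zero_iff R _).mp (fun f => key (WithConv.toConv f))
  exact Ideal.Quotient.eq_zero_iff_mem.mp h0

end Groth.Agent.S15896
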