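import Groth.Statements.S15897

set_option autoImplicit false
universe u v
open CartDual
open scoped TensorProduct

namespace Groth.Agent.S15897

/-- Let R be a commutative ring and A a commutative Hopf algebra over R which is finitely generated and
projective as an R-module (a finite locally free R-group scheme G = Spec A, not assumed
commutative). If the convolution product on the dual Hopf algebra Hom_R(A, R) is commutative, then A
is cocommutative, i.e. G is a commutative group scheme. (The dual Hopf algebra is commutative
exactly when A is cocommutative; the other implication is immediate and not stated. The published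
notes work over a Noetherian base ring; the row allows any commutative base ring.) -/
theorem result (R : Type u) [CommRing R] (A : Type v) [CommRing A] [HopfAlgebra R A]
    [Module.Finite R A] [Module.Projective R A] (h : ∀ x y : CartDual.D R A, x * y = y * x) :
    Coalgebra.IsCocomm R A := by
  have hsw : ∀ (x x' : CartDual.D R A) (t : A ⊗[R] A),
      CartDual.ev₂ R A (x ⊗ₜ x') (TensorProduct.comm R A A t) = CartDual.ev₂ R A (x' ⊗ₜ x) t := by
    intro x x' t
    induction t using TensorProduct.induction_on with
    | zero => simp
    | tmul b c => simp [mul_comm]
    | add t t' ht ht' => simp only [map_add, ht, ht']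
  have hconv : ∀ (x x' : CartDual.D R A) (a : A),
      CartDual.ev₂ R A (x ⊗ₜ x') (Coalgebra.comul (R := R) a) = (x * x') a := by
    intro x x' a
    rw [CartDual.ev₂_tmul_eq', CartDual.coe_apply, LinearMap.convMul_apply]
    rfl
  refine ⟨?_⟩
  ext a
  simp only [LinearMap.coe_comp, LinearEquiv.coe_coe, Function.comp_apply]
  apply (Module.bijective_dual_eval R (A ⊗[R] A)).injective
  apply LinearMap.ext
  intro φ
  obtain ⟨y, rfl⟩ := (CartDual.ev₂ R A).surjective φ
  simp only [Module.Dual.eval_apply]
  induction y using TensorProduct.induction_on with
  | zero => simp
  | tmul x x' => rw [hsw, hconv, hconv, h]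
  | add y y' hy hy' => simp only [map_add, LinearMap.add_apply, hy, hy']


end Groth.Agent.S15897
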