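import Groth.Statements.S15898
import Groth.Agent.H96.MultFin
import Groth.Agent.H96.IsoTriv

set_option autoImplicit false
universe u
open SGA3b

namespace Groth.Agent.S15898

/-- Let R be a Noetherian ring whose spectrum is connected and A a commutative and cocommutative Hopf
algebra over R which is finitely generated and projective as an R-module (a finite flat commutative
group scheme G = Spec A over the connected base S = Spec R). Then G is multiplicative, i.e. the dual
Hopf algebra Hom_R(A, R) of the Cartier dual G^D is étale over R, if and only if A is isotrivial:
for some finite étale faithfully flat R-algebra R' the base change R' ⊗_R A is isomorphic as an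
R'-bialgebra to the group algebra R'[M] of a commutative group M (G becomes a diagonalizable group
after a finite étale surjective base change). -/
theorem result (R : Type u) [CommRing R] [IsNoetherianRing R]
    [ConnectedSpace (PrimeSpectrum R)] (A : Type u) [CommRing A] [HopfAlgebra R A] [Coalgebra.IsCocomm R A]
    [Module.Finite R A] [Module.Projective R A] :
    Algebra.Etale R (CartDual.D R A) ↔ SGA3b.IsIsotrivial R A := by
  constructor
  · intro h
    exact Groth.Agent.H96.IsoTriv.isIsotrivial_of_etale_dual R A
  · rintro ⟨R', _, _, _, _, hff, hdiag⟩
    obtain ⟨p₀⟩ : Nonempty (PrimeSpectrum R) := inferInstance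
    haveI : Nontrivial R := by
      by_contra h
      rw [not_nontrivial_iff_subsingleton] at h
      exact p₀.isPrime.ne_top (Subsingleton.elim _ _)
    exact Groth.Agent.H96.MultFin.const_etale R A ⟨R', _, _, hff, hdiag⟩

end Groth.Agent.S15898
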