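import Groth.Statements.S15899
-- import your own Groth.Agent.* helpers here
import Groth.Agent.H8.QCohAffine
import Groth.Agent.H8.LocFreeNearFinite
import Groth.Agent.H8.SectionsExact
import Groth.Agent.H18.Serre.Generation
import Groth.Agent.H76.KoszulExt

set_option autoImplicit false
universe u
open CategoryTheory AlgebraicGeometry Opposite
open KoszSh

namespace Groth.Agent.S15899


set_option linter.style.haveILetI false
open CategoryTheory.Limits

open Groth.Agent.H8 TopologicalSpace exteriorPower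

section
variable {X : Scheme.{u}} {E : X.Modules} {s : E ⟶ Coh.structureModule X}

/-- Exactness on sections over an affine open carrying a basis mapping to a weakly regular
sequence. -/
theorem exact_sections (C : KoszSh.Cx E s) {n : ℕ} (V : X.affineOpens)
    (b : Module.Basis (Fin n) Γ(X, V.1) Γ(E, V.1))
    (hb : RingTheory.Sequence.IsWeaklyRegular Γ(X, V.1)
      (List.ofFn fun k => KoszSh.secForm s V.1 (b k)))
    (p : ℕ) (t : Γ(C.K.X (p + 1), V.1)) (ht : (C.K.d (p + 1) p).app V.1 t = 0) :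
    ∃ y : Γ(C.K.X (p + 2), V.1), (C.K.d (p + 2) (p + 1)).app V.1 y = t := by
  let d₁ : ↥(⋀[Γ(X, V.1)]^(p + 2) Γ(E, V.1)) →ₗ[Γ(X, V.1)] ↥(⋀[Γ(X, V.1)]^(p + 1) Γ(E, V.1)) :=
    (C.loc (p + 1) V).toLinearMap ∘ₗ appₗ (C.K.d (p + 2) (p + 1)) V.1 ∘ₗ
      (C.loc (p + 2) V).symm.toLinearMap
  let d₀ : ↥(⋀[Γ(X, V.1)]^(p + 1) Γ(E, V.1)) →ₗ[Γ(X, V.1)] ↥(⋀[Γ(X, V.1)]^p Γ(E, V.1)) :=
    (C.loc p V).toLinearMap ∘ₗ appₗ (C.K.d (p + 1) p) V.1 ∘ₗ
      (C.loc (p + 1) V).symm.toLinearMap
  have h₁ : ∀ e : Fin (p + 2) → Γ(E, V.1), d₁ (ιMulti _ (p + 2) e) =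
      KoszSh.dGen (secForm s V.1) (p + 1) e := by
    intro e
    show (C.loc (p + 1) V) ((C.K.d (p + 2) (p + 1)).app V.1 ((C.loc (p + 2) V).symm _)) = _
    rw [C.rule (p + 1) V e, LinearEquiv.apply_symm_apply]
  have h₀ : ∀ e : Fin (p + 1) → Γ(E, V.1), d₀ (ιMulti _ (p + 1) e) =
      KoszSh.dGen (secForm s V.1) p e := by
    intro e
    show (C.loc p V) ((C.K.d (p + 1) p).app V.1 ((C.loc (p + 1) V).symm _)) = _
    rw [C.rule p V e, LinearEquiv.apply_symm_apply]
  have hz : d₀ (C.loc (p + 1) V t) = 0 := by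
    show (C.loc p V) ((C.K.d (p + 1) p).app V.1 ((C.loc (p + 1) V).symm (C.loc (p + 1) V t))) = 0
    rw [LinearEquiv.symm_apply_apply, ht, map_zero]
  obtain ⟨w, hw⟩ := Groth.Agent.H76.KoszulExt.koszul_exact b (secForm s V.1) hb p d₁ d₀ h₁ h₀ _ hz
  refine ⟨(C.loc (p + 2) V).symm w, ?_⟩
  apply (C.loc (p + 1) V).injective
  exact hw

set_option maxHeartbeats 800000 in
/-- A basis mapping to a weakly regular sequence restricts to such a basis on basic opens. -/
theorem exists_basis_basicOpen [E.IsQuasicoherent] {n : ℕ} {U : X.Opens} (hU : IsAffineOpen U)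
    (b : Module.Basis (Fin n) Γ(X, U) Γ(E, U))
    (hb : RingTheory.Sequence.IsWeaklyRegular Γ(X, U)
      (List.ofFn fun k => KoszSh.secForm s U (b k))) (a : Γ(X, U)) :
    ∃ b' : Module.Basis (Fin n) Γ(X, X.basicOpen a) Γ(E, X.basicOpen a),
      RingTheory.Sequence.IsWeaklyRegular Γ(X, X.basicOpen a)
        (List.ofFn fun k => KoszSh.secForm s (X.basicOpen a) (b' k)) := by
  letI := moduleSectionBasicOpen E a
  haveI : IsScalarTower Γ(X, U) Γ(X, X.basicOpen a) Γ(E, X.basicOpen a) :=
    IsScalarTower.of_algebraMap_smul (fun r m => rfl)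
  haveI : IsLocalization (Submonoid.powers a) Γ(X, X.basicOpen a) :=
    hU.isLocalization_basicOpen a
  haveI : IsLocalizedModule (Submonoid.powers a) (resBasicOpenₗ E a) :=
    isLocalizedModule_resBasicOpenₗ hU E a
  refine ⟨b.ofIsLocalizedModule Γ(X, X.basicOpen a) (Submonoid.powers a) (resBasicOpenₗ E a), ?_⟩
  have h1 := RingTheory.Sequence.IsWeaklyRegular.of_isLocalization Γ(X, X.basicOpen a)
    (Submonoid.powers a) hb
  rw [List.map_ofFn] at h1
  convert h1 using 2
  funext k
  rw [Module.Basis.ofIsLocalizedModule_apply]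
  show OmegaSh.fnSect X _ (s.app _ (E.presheaf.map (homOfLE (X.basicOpen_le a)).op (b k))) = _
  rw [Groth.Agent.H8.app_res s (X.basicOpen_le a) (b k)]
  rfl

end


/-- Let X be a scheme, E a finite locally free O_X-module of rank n and s : E → O_X a regular section,
meaning that around every point of X there is an affine open U and a basis e_1, …, e_n of E(U) over
Γ(X, U) such that s(e_1), …, s(e_n) is a weakly regular sequence in Γ(X, U) (each a non-zero-divisor
modulo the previous ones). Then for every Koszul complex K(E, s) of the cosection s (terms the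
exterior powers of E, differential contracting with s) and every q ≥ 1, the q-th homology sheaf of
K(E, s) vanishes. Since the homology sheaf in degree 0 is O_X / s(E) for every such complex, this
says that K(E, s) resolves the structure sheaf of the zero scheme of s by finite locally free
modules. (The published definition asks that the image ideal of s be locally generated by a regular
sequence and by rank-many sections; the local bases mapping to regular sequences used here are how
the published argument reads that condition.) -/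
theorem result {X : Scheme.{u}} (n : ℕ) (E : X.Modules)
    (hE : FlatMod.IsFinLocFreeOfRank n E) (s : E ⟶ Coh.structureModule X)
    (hs : ∀ x : X, ∃ U : X.affineOpens, x ∈ U.1 ∧
      ∃ b : Module.Basis (Fin n) Γ(X, U.1) Γ(E, U.1),
        RingTheory.Sequence.IsWeaklyRegular Γ(X, U.1) (List.ofFn fun k => KoszSh.secForm s U.1 (b k)))
    (C : KoszSh.Cx E s) (q : ℕ) (hq : 1 ≤ q) :
    Limits.IsZero (C.K.homology q) := by
  obtain ⟨p, rfl⟩ : ∃ p, q = p + 1 := ⟨q - 1, by omega⟩
  have hflf : FlatMod.IsFinLocFree E := fun x => by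
    obtain ⟨U, hx, e⟩ := hE x
    exact ⟨U, n, hx, e⟩
  haveI : E.IsQuasicoherent := isQuasicoherent_of_isFinLocFree E hflf
  rw [← HomologicalComplex.exactAt_iff_isZero_homology]
  rw [HomologicalComplex.exactAt_iff' C.K (p + 2) (p + 1) p (by simp) (by simp)]
  rw [ShortComplex.exact_iff_epi_kernel_lift]
  set φ := kernel.lift (C.K.sc' (p + 2) (p + 1) p).g (C.K.sc' (p + 2) (p + 1) p).f
    (C.K.sc' (p + 2) (p + 1) p).zero with hφ
  have hφι : φ ≫ kernel.ι (C.K.sc' (p + 2) (p + 1) p).g = C.K.d (p + 2) (p + 1) :=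
    kernel.lift_ι _ _ _
  have hls : Presheaf.IsLocallySurjective (Opens.grothendieckTopology X)
      ((SheafOfModules.toSheaf X.ringCatSheaf).map φ).hom := by
    apply Groth.Agent.H18.TensorModIso.isLocallySurjective_of_locally_surjective
    intro W x hxW
    obtain ⟨U, hxU, b, hb⟩ := hs x
    obtain ⟨a, haW, hxa⟩ := U.2.exists_basicOpen_le ⟨x, hxW⟩ hxU
    refine ⟨X.basicOpen a, haW, hxa, ?_⟩
    intro t
    obtain ⟨b', hb'⟩ := exists_basis_basicOpen (s := s) U.2 b hb a
    let V : X.affineOpens := ⟨X.basicOpen a, U.2.basicOpen a⟩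
    have ht : (C.K.d (p + 1) p).app V.1
        ((kernel.ι (C.K.sc' (p + 2) (p + 1) p).g).app V.1 t) = 0 :=
      congrArg (fun ψ : kernel (C.K.sc' (p + 2) (p + 1) p).g ⟶ C.K.X p => ψ.app V.1 t)
        (kernel.condition (C.K.sc' (p + 2) (p + 1) p).g)
    obtain ⟨y, hy⟩ := exact_sections C V b' hb' p _ ht
    refine ⟨y, ?_⟩
    apply app_injective_of_mono (kernel.ι (C.K.sc' (p + 2) (p + 1) p).g) V.1
    refine Eq.trans ?_ hy
    exact congrArg (fun ψ : C.K.X (p + 2) ⟶ C.K.X (p + 1) => ψ.app V.1 y) hφι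
  have hls' : Sheaf.IsLocallySurjective ((SheafOfModules.toSheaf X.ringCatSheaf).map φ) := hls
  have hepi : Epi ((SheafOfModules.toSheaf X.ringCatSheaf).map φ) :=
    Sheaf.epi_of_isLocallySurjective _
  exact (SheafOfModules.toSheaf X.ringCatSheaf).epi_of_epi_map hepi

end Groth.Agent.S15899
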