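import Groth.Statements.S15900
-- import your own Groth.Agent.* helpers here
import Groth.Agent.H8.HomBasis
import Groth.Agent.H8.SectionsExact

set_option autoImplicit false
universe u
open CategoryTheory AlgebraicGeometry Opposite
open KoszSh

namespace Groth.Agent.S15900

set_option linter.style.haveILetI false
open CategoryTheory.Limits

open Groth.Agent.H8 Groth.Agent.H8.HomBasis TopologicalSpace exteriorPower

section
variable {X : Scheme.{u}} {E F : X.Modules} {s : E ⟶ Coh.structureModule X}
  {t : F ⟶ Coh.structureModule X}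

lemma isBasis_affine : Opens.IsBasis (Set.range (fun U : X.affineOpens => U.1)) := by
  have : Set.range (fun U : X.affineOpens => U.1) = X.affineOpens := Subtype.range_coe
  rw [this]
  exact X.isBasis_affineOpens

/-- Induction principle for sections of a term of a Koszul complex over an affine open. -/
theorem cx_induction (C : KoszSh.Cx E s) (p : ℕ) (U : X.affineOpens)
    (P : Γ(C.K.X p, U.1) → Prop) (h0 : P 0) (hadd : ∀ a b, P a → P b → P (a + b))
    (hsmul : ∀ (r : Γ(X, U.1)) a, P a → P (r • a))
    (hgen : ∀ e : Fin p → Γ(E, U.1), P ((C.loc p U).symm (ιMulti _ p e))) : ∀ m, P m := by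
  intro m
  have hm : (C.loc p U) m ∈ Submodule.span Γ(X, U.1)
      (Set.range (ιMulti Γ(X, U.1) p (M := Γ(E, U.1)))) := by
    rw [exteriorPower.ιMulti_span]; trivial
  have key : ∀ z ∈ Submodule.span Γ(X, U.1) (Set.range (ιMulti Γ(X, U.1) p (M := Γ(E, U.1)))),
      P ((C.loc p U).symm z) := by
    intro z hz
    induction hz using Submodule.span_induction with
    | mem x hx => obtain ⟨e, rfl⟩ := hx; exact hgen e
    | zero => rw [map_zero]; exact h0
    | add x y _ _ hx hy => rw [map_add]; exact hadd _ _ hx hy
    | smul r x _ hx => rw [map_smul]; exact hsmul _ _ hx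
  have := key _ hm
  rwa [LinearEquiv.symm_apply_apply] at this

/-- The exterior power of `f` on sections over an affine open, read through `loc`. -/
noncomputable def α (C : KoszSh.Cx E s) (D : KoszSh.Cx F t) (f : E ⟶ F) (p : ℕ)
    (U : X.affineOpens) : Γ(C.K.X p, U.1) →ₗ[Γ(X, U.1)] Γ(D.K.X p, U.1) :=
  (D.loc p U).symm.toLinearMap ∘ₗ (exteriorPower.map p (appₗ f U.1)) ∘ₗ (C.loc p U).toLinearMap

lemma α_gen (C : KoszSh.Cx E s) (D : KoszSh.Cx F t) (f : E ⟶ F) (p : ℕ)
    (U : X.affineOpens) (e : Fin p → Γ(E, U.1)) :
    α C D f p U ((C.loc p U).symm (ιMulti _ p e)) =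
      (D.loc p U).symm (ιMulti _ p (fun j => f.app U.1 (e j))) := by
  simp only [α, LinearMap.coe_comp, LinearEquiv.coe_coe, Function.comp_apply,
    LinearEquiv.apply_symm_apply, exteriorPower.map_apply_ιMulti]
  rfl

lemma α_res (C : KoszSh.Cx E s) (D : KoszSh.Cx F t) (f : E ⟶ F) (p : ℕ)
    (V U : X.affineOpens) (h : V.1 ≤ U.1) (m : Γ(C.K.X p, U.1)) :
    α C D f p V ((C.K.X p).presheaf.map (homOfLE h).op m) =
      (D.K.X p).presheaf.map (homOfLE h).op (α C D f p U m) := by
  revert m
  apply cx_induction C p U
  · simp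
  · intro a b ha hb
    simp only [map_add, ha, hb]
  · intro r a ha
    rw [Scheme.Modules.map_smul, map_smul, ha, map_smul, Scheme.Modules.map_smul]
  · intro e
    rw [α_gen]
    have h1 := C.loc_res p U V h e
    have h2 := D.loc_res p U V h (fun j => f.app U.1 (e j))
    change (C.K.X p).presheaf.map (homOfLE h).op _ = _ at h1
    change (D.K.X p).presheaf.map (homOfLE h).op _ = _ at h2
    rw [h1, h2]
    refine (α_gen C D f p V _).trans ?_
    congr 2
    funext j
    exact app_res f h (e j)

/-- The glued degree-`p` component. -/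
theorem exists_comp (C : KoszSh.Cx E s) (D : KoszSh.Cx F t) (f : E ⟶ F) (p : ℕ) :
    ∃ φ : C.K.X p ⟶ D.K.X p, ∀ (U : X.affineOpens) (m : Γ(C.K.X p, U.1)),
      φ.app U.1 m = α C D f p U m :=
  exists_hom_of_basis (C.K.X p) (D.K.X p) (B := fun U : X.affineOpens => U.1) isBasis_affine
    (fun U => (α C D f p U).toAddMonoidHom)
    (fun V U h m => α_res C D f p V U h m)
    (fun U r m => map_smul (α C D f p U) r m)

lemma map_dGen (f : E ⟶ F) (hf : f ≫ t = s) (p : ℕ) (U : X.affineOpens)
    (e : Fin (p + 1) → Γ(E, U.1)) :
    exteriorPower.map p (appₗ f U.1) (dGen (secForm s U.1) p e) =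
      dGen (secForm t U.1) p (fun j => f.app U.1 (e j)) := by
  unfold dGen
  rw [map_sum]
  refine Finset.sum_congr rfl fun i _ => ?_
  rw [map_smul, exteriorPower.map_apply_ιMulti]
  have h1 : secForm t U.1 (f.app U.1 (e i)) = secForm s U.1 (e i) := by
    subst hf
    rfl
  rw [h1]
  rfl

end


/-- Let X be a scheme, E and F finite locally free O_X-modules with cosections s : E → O_X and t : F →
O_X, and let f : E → F be a morphism of O_X-modules with t ∘ f = s. Then for every Koszul complex
K(E, s) of s and every Koszul complex K(F, t) of t there is a unique morphism of chain complexes of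
O_X-modules K(E, s) → K(F, t) whose degree-p component sends, on sections over every affine open U,
the decomposable section e_1 ∧ … ∧ e_p to f(e_1) ∧ … ∧ f(e_p), for all e_1, …, e_p in E(U) and all p
≥ 0 (the p-th exterior power of f, read through the affine-local identifications of the terms with
exterior powers of sections). (The published statement is for arbitrary O_X-modules with a map to
O_X; this row takes E and F locally free of finite rank, the case the surrounding text works in.) -/
theorem result {X : Scheme.{u}} (E F : X.Modules)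
    (hE : FlatMod.IsFinLocFree E) (hF : FlatMod.IsFinLocFree F)
    (s : E ⟶ Coh.structureModule X) (t : F ⟶ Coh.structureModule X) (f : E ⟶ F) (hf : f ≫ t = s)
    (C : KoszSh.Cx E s) (D : KoszSh.Cx F t) :
    ∃! φ : C.K ⟶ D.K, ∀ (p : ℕ) (U : X.affineOpens) (e : Fin p → Γ(E, U.1)),
      (φ.f p).app U.1 ((C.loc p U).symm (exteriorPower.ιMulti _ p e)) =
        (D.loc p U).symm (exteriorPower.ιMulti _ p (fun j => f.app U.1 (e j))) := by
  choose φ hφ using fun p => exists_comp C D f p
  have hcomm : ∀ p, φ (p + 1) ≫ D.K.d (p + 1) p = C.K.d (p + 1) p ≫ φ p := by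
    intro p
    refine hom_ext_of_basis _ _ (B := fun U : X.affineOpens => U.1) isBasis_affine _ _
      (fun U m => ?_)
    revert m
    apply cx_induction C (p + 1) U
    · simp
    · intro a b ha hb
      simp only [map_add, ha, hb]
    · intro r a ha
      rw [Scheme.Modules.Hom.app_smul, Scheme.Modules.Hom.app_smul, ha]
    · intro e
      show (D.K.d (p + 1) p).app U.1 ((φ (p + 1)).app U.1 _) =
        (φ p).app U.1 ((C.K.d (p + 1) p).app U.1 _)
      rw [hφ, α_gen, D.rule, C.rule, hφ]
      simp only [α, LinearMap.coe_comp, LinearEquiv.coe_coe, Function.comp_apply,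
        LinearEquiv.apply_symm_apply]
      rw [map_dGen f hf]
  let Φ : C.K ⟶ D.K :=
    { f := φ
      comm' := by
        intro i j hij
        obtain rfl : j + 1 = i := hij
        exact hcomm j }
  refine ⟨Φ, fun p U e => ?_, fun ψ hψ => ?_⟩
  · show (φ p).app U.1 _ = _
    rw [hφ, α_gen]
  · apply HomologicalComplex.hom_ext
    intro p
    show ψ.f p = φ p
    refine hom_ext_of_basis _ _ (B := fun U : X.affineOpens => U.1) isBasis_affine _ _
      (fun U m => ?_)
    revert m
    apply cx_induction C p U
    · simp
    · intro a b ha hb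
      simp only [map_add, ha, hb]
    · intro r a ha
      rw [Scheme.Modules.Hom.app_smul, Scheme.Modules.Hom.app_smul, ha]
    · intro e
      rw [hψ, hφ, α_gen]


end Groth.Agent.S15900
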