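import Groth.Statements.S15902
import Groth.Agent.S15899
import Groth.Agent.H76.CMRegSpread
import Groth.Agent.H9.ClosedImmStalk
import Groth.Agent.H8.FreeMod
-- import your own Groth.Agent.* helpers here

set_option autoImplicit false
universe u
open CategoryTheory AlgebraicGeometry Opposite
open KoszSh

namespace Groth.Agent.S15902


/-- Transfer of weak regularity along a ring isomorphism. -/
theorem isWeaklyRegular_ofFn_ringEquiv {R S : Type*} [CommRing R] [CommRing S] (e : R ≃+* S)
    {c : ℕ} (f : Fin c → R) (h : RingTheory.Sequence.IsWeaklyRegular R (List.ofFn f)) :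
    RingTheory.Sequence.IsWeaklyRegular S (List.ofFn fun k => e (f k)) := by
  have h0 : List.ofFn (fun k => e (f k)) = (List.ofFn f).map e := by
    rw [List.map_ofFn]
    rfl
  rw [h0]
  refine (AddEquiv.isWeaklyRegular_congr (e := e.toAddEquiv) ?_).mp h
  rw [List.forall₂_map_right_iff, List.forall₂_same]
  intro r _ x
  exact map_mul e r x

/-- The standard basis of the sections of `O_Z^n`. -/
theorem basis_apply (Z : Scheme.{u}) (n : ℕ) (V : Z.Opens) (k : Fin n) :
    Module.Basis.ofEquivFun (Groth.Agent.H8.sectionsFreeEquiv Z n V) k =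
      (Limits.Sigma.ι (fun _ : Fin n => Coh.structureModule Z) k).app V
        (OmegaSh.strSect Z V 1) := by
  rw [Module.Basis.coe_ofEquivFun]
  apply (Groth.Agent.H8.sectionsFreeEquiv Z n V).injective
  rw [LinearEquiv.apply_symm_apply]
  ext j
  change _ = (Groth.Agent.H8.freeπ Z n j).app V
    ((Groth.Agent.H8.freeι Z n k).app V (OmegaSh.strSect Z V 1))
  have h := congrArg (fun φ : Coh.structureModule Z ⟶ Coh.structureModule Z =>
    φ.app V (OmegaSh.strSect Z V 1)) (Groth.Agent.H8.freeι_π Z n k j)
  rw [Pi.single_apply]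
  by_cases hjk : j = k
  · subst hjk
    rw [if_pos rfl]
    rw [if_pos rfl] at h
    exact h.symm
  · rw [if_neg hjk]
    rw [if_neg (Ne.symm hjk)] at h
    exact h.symm

theorem isFinLocFreeOfRank_freeMod (Z : Scheme.{u}) (c : ℕ) :
    FlatMod.IsFinLocFreeOfRank c (FlatMod.freeMod Z c) := by
  intro x
  exact ⟨⊤, trivial, ⟨Groth.Agent.H8.restrictFreeIso (⊤ : Z.Opens).ι c⟩⟩

theorem koszul_clause (Z : Scheme.{u}) [IsAffine Z] (c : ℕ) (R : Type u) [CommRing R]
    (e : R ≃+* Γ(Z, ⊤)) (f : Fin c → R)
    (hf : RingTheory.Sequence.IsWeaklyRegular R (List.ofFn f))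
    (s : FlatMod.freeMod Z c ⟶ Coh.structureModule Z)
    (hs : ∀ k : Fin c, KoszSh.secForm s ⊤
      ((Limits.Sigma.ι (fun _ : Fin c => Coh.structureModule Z) k).app ⊤
        (OmegaSh.strSect Z ⊤ 1)) = e (f k))
    (C : KoszSh.Cx (FlatMod.freeMod Z c) s) (q : ℕ) (hq : 1 ≤ q) :
    Limits.IsZero (C.K.homology q) := by
  refine Groth.Agent.S15899.result c _ (isFinLocFreeOfRank_freeMod Z c) s ?_ C q hq
  intro x
  refine ⟨⟨⊤, isAffineOpen_top _⟩, trivial,
    Module.Basis.ofEquivFun (Groth.Agent.H8.sectionsFreeEquiv Z c ⊤), ?_⟩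
  have hfun : (fun k => KoszSh.secForm s ⊤
      (Module.Basis.ofEquivFun (Groth.Agent.H8.sectionsFreeEquiv Z c ⊤) k)) =
      fun k => e (f k) := by
    funext k
    rw [basis_apply]
    exact hs k
  rw [hfun]
  exact isWeaklyRegular_ofFn_ringEquiv e f hf




/-- Let X be a locally Noetherian scheme all of whose local rings are Cohen–Macaulay, i : Y → X a closed
immersion and c a natural number such that Y is a local complete intersection of codimension c in
the following sense: around every point of Y there is an affine open of X on which c sections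
generate the ideal sheaf of Y, and for every point y of Y the ideal of Y in the local ring O_{X,y}
(the kernel of O_{X,y} → O_{Y,y}) has height at least c. Then around every point of Y there is an
affine open U of X and sections f_1, …, f_c ∈ Γ(X, U) which generate the ideal of Y on U and form a
weakly regular sequence in Γ(X, U); consequently, on the open subscheme U, for every cosection s :
O_U^c → O_U sending the k-th standard basis section to f_k and every Koszul complex K(O_U^c, s) of
s, the homology sheaves of K(O_U^c, s) vanish in every degree q ≥ 1, so that K(O_U^c, s) is a finite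
free resolution of the restriction of i_*O_Y to U. (The published statement takes Y a local complete
intersection in a smooth variety X over a field, the ideal being generated near each closed point by
codim(Y, X) elements, and asserts the existence of such a neighbourhood with a free Koszul
resolution; the hypotheses here are what that gives at every point of Y over a Cohen–Macaulay base,
the existence of the Koszul complex is not asserted, and the resolution property is stated for every
Koszul complex of the local free pair.) -/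
theorem result {X Y : Scheme.{u}}
    [IsLocallyNoetherian X] (hCM : ∀ x : X, LocCoh.IsCohenMacaulayLocalRing (X.presheaf.stalk x))
    (i : Y ⟶ X) [IsClosedImmersion i] (c : ℕ)
    (hgen : ∀ y : Y, ∃ U : X.affineOpens, i.base y ∈ U.1 ∧ ∃ g : Fin c → Γ(X, U.1), i.ker.ideal U = Ideal.span (Set.range g))
    (hht : ∀ y : Y, (c : ℕ∞) ≤ (RingHom.ker (i.stalkMap y).hom).height) :
    ∀ y : Y, ∃ U : X.affineOpens, i.base y ∈ U.1 ∧ ∃ f : Fin c → Γ(X, U.1),
      i.ker.ideal U = Ideal.span (Set.range f) ∧ RingTheory.Sequence.IsWeaklyRegular Γ(X, U.1) (List.ofFn f) ∧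
      ∀ (s : FlatMod.freeMod (↑U.1) c ⟶ Coh.structureModule (↑U.1)),
        (∀ k : Fin c, KoszSh.secForm s ⊤ ((Limits.Sigma.ι (fun _ : Fin c => Coh.structureModule (↑U.1)) k).app ⊤
            (OmegaSh.strSect (↑U.1) ⊤ 1)) = U.1.topIso.inv (f k)) →
        ∀ (C : KoszSh.Cx (FlatMod.freeMod (↑U.1) c) s) (q : ℕ), 1 ≤ q → Limits.IsZero (C.K.homology q) := by
  intro y
  obtain ⟨U, hyU, g, hg⟩ := hgen y
  haveI : IsNoetherianRing Γ(X, U.1) := IsLocallyNoetherian.component_noetherian U
  letI : Algebra Γ(X, U.1) (X.presheaf.stalk (i.base y)) :=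
    X.presheaf.algebra_section_stalk ⟨i.base y, hyU⟩
  haveI hloc : IsLocalization.AtPrime (X.presheaf.stalk (i.base y))
      (U.2.primeIdealOf ⟨i.base y, hyU⟩).asIdeal := U.2.isLocalization_stalk ⟨i.base y, hyU⟩
  haveI := hCM (i.base y)
  have hgp : ∀ k, g k ∈ (U.2.primeIdealOf ⟨i.base y, hyU⟩).asIdeal := by
    intro k
    apply Groth.Agent.H9.ker_ideal_le_primeIdealOf i U y hyU
    rw [hg]
    exact Ideal.subset_span ⟨k, rfl⟩
  have hht' : (c : ℕ∞) ≤ ((Ideal.span (Set.range g)).map
      (algebraMap Γ(X, U.1) (X.presheaf.stalk (i.base y)))).height := by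
    have h1 := Groth.Agent.H9.ker_stalkMap_of_isClosedImmersion i U y hyU
    rw [hg] at h1
    have h2 := hht y
    rw [h1] at h2
    exact h2
  obtain ⟨h, hhp, hS⟩ := Groth.Agent.H76.CMRegSpread.exists_away_weaklyRegular
    (U.2.primeIdealOf ⟨i.base y, hyU⟩).asIdeal (X.presheaf.stalk (i.base y)) c g hgp hht'
  haveI : IsLocalization.Away h Γ(X, X.basicOpen h) := U.2.isLocalization_basicOpen h
  obtain ⟨f, hf1, hf2⟩ := hS Γ(X, X.basicOpen h)
  refine ⟨X.affineBasicOpen h, ?_, f, ?_, hf2, ?_⟩
  · exact (X.mem_basicOpen h (i.base y) hyU).mpr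
      (IsLocalization.map_units (X.presheaf.stalk (i.base y))
        (⟨h, hhp⟩ : (U.2.primeIdealOf ⟨i.base y, hyU⟩).asIdeal.primeCompl))
  · rw [← i.ker.map_ideal_basicOpen U h, hg]
    exact hf1
  · intro s hs C q hq
    haveI : IsAffine (↑(X.affineBasicOpen h).1 : Scheme) := (X.affineBasicOpen h).2
    exact koszul_clause (↑(X.affineBasicOpen h).1 : Scheme) c Γ(X, (X.affineBasicOpen h).1)
      ((X.affineBasicOpen h).1.topIso.symm.commRingCatIsoToRingEquiv) f hf2 s hs C q hq

end Groth.Agent.S15902
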