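import Groth.Statements.S15905
import Mathlib

set_option autoImplicit false
open Surf

namespace Groth.Agent.S15905

open W4c3severiratdp

/-- number of integer vectors of length `n` with entries in `[-R,R]`, sum `s`, sum of squares `t`,
computed by a pruned recursion -/
noncomputable def cnt (R : ℤ) : ℕ → ℤ → ℤ → ℕ
  | 0, s, t => if s = 0 ∧ t = 0 then 1 else 0
  | n + 1, s, t => ∑ x ∈ Finset.Icc (-R) R,
      if (s - x) ^ 2 ≤ (n : ℤ) * (t - x * x) then cnt R n (s - x) (t - x * x) else 0

/-- the finite set counted by `cnt` -/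
noncomputable def A (R : ℤ) (n : ℕ) (s t : ℤ) : Finset (Fin n → ℤ) :=
  (Fintype.piFinset fun _ : Fin n => Finset.Icc (-R) R).filter
    (fun b => ∑ i, b i = s ∧ ∑ i, b i * b i = t)

lemma mem_A {R : ℤ} {n : ℕ} {s t : ℤ} {b : Fin n → ℤ} :
    b ∈ A R n s t ↔ (∀ i, -R ≤ b i ∧ b i ≤ R) ∧ ∑ i, b i = s ∧ ∑ i, b i * b i = t := by
  simp [A, Fintype.mem_piFinset, Finset.mem_Icc]

lemma disj_cons {n : ℕ} (F : ℤ → Finset (Fin n → ℤ)) (s : Finset ℤ) :
    (s : Set ℤ).PairwiseDisjoint
      (fun x => (F x).image (fun b : Fin n → ℤ => (Fin.cons x b : Fin (n + 1) → ℤ))) := by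
  intro x _ y _ hxy
  show Disjoint _ _
  rw [Finset.disjoint_left]
  rintro b hbx hby
  obtain ⟨b1, _, rfl⟩ := Finset.mem_image.mp hbx
  obtain ⟨b2, _, h⟩ := Finset.mem_image.mp hby
  apply hxy
  have := congrFun h 0
  simp only [Fin.cons_zero] at this
  exact this.symm

lemma cons_inj {n : ℕ} (x : ℤ) :
    Function.Injective (fun b : Fin n → ℤ => (Fin.cons x b : Fin (n + 1) → ℤ)) :=
  fun _ _ h => Fin.cons_right_injective (α := fun _ => ℤ) x h

lemma A_succ (R : ℤ) (n : ℕ) (s t : ℤ) :
    A R (n + 1) s t = (Finset.Icc (-R) R).biUnion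
      (fun x => (A R n (s - x) (t - x * x)).image
        (fun b : Fin n → ℤ => (Fin.cons x b : Fin (n + 1) → ℤ))) := by
  ext b
  simp only [Finset.mem_biUnion, Finset.mem_image, mem_A, Finset.mem_Icc]
  constructor
  · rintro ⟨hb, h1, h2⟩
    refine ⟨b 0, hb 0, Fin.tail b, ⟨fun i => hb i.succ, ?_, ?_⟩, Fin.cons_self_tail b⟩
    · rw [Fin.sum_univ_succ] at h1
      simp only [Fin.tail]
      linarith
    · rw [Fin.sum_univ_succ] at h2
      simp only [Fin.tail]
      linarith
  · rintro ⟨x, hx, b', ⟨hb', h1, h2⟩, rfl⟩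
    refine ⟨?_, ?_, ?_⟩
    · intro i
      refine Fin.cases ?_ (fun j => ?_) i
      · simpa using hx
      · simpa using hb' j
    · rw [Fin.sum_univ_succ]
      simp only [Fin.cons_zero, Fin.cons_succ]
      linarith
    · rw [Fin.sum_univ_succ]
      simp only [Fin.cons_zero, Fin.cons_succ]
      linarith

lemma card_A_succ (R : ℤ) (n : ℕ) (s t : ℤ) :
    (A R (n + 1) s t).card = ∑ x ∈ Finset.Icc (-R) R, (A R n (s - x) (t - x * x)).card := by
  rw [A_succ, Finset.card_biUnion (disj_cons _ _)]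
  refine Finset.sum_congr rfl fun x _ => ?_
  exact Finset.card_image_of_injective _ (cons_inj x)

lemma A_eq_empty (R : ℤ) (n : ℕ) (s t : ℤ) (h : ¬ s ^ 2 ≤ (n : ℤ) * t) : A R n s t = ∅ := by
  rw [Finset.eq_empty_iff_forall_notMem]
  intro b hb
  obtain ⟨_, h1, h2⟩ := mem_A.mp hb
  apply h
  have := sq_sum_le_card_mul_sum_sq (s := (Finset.univ : Finset (Fin n))) (f := b)
  simp only [Finset.card_univ, Fintype.card_fin] at this
  rw [h1] at this
  have h2' : ∑ i, b i ^ 2 = t := by
    rw [← h2]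
    exact Finset.sum_congr rfl fun i _ => sq (b i)
  rw [h2'] at this
  exact this

lemma cnt_spec (R : ℤ) : ∀ (n : ℕ) (s t : ℤ), (A R n s t).card = cnt R n s t := by
  intro n
  induction n with
  | zero =>
    intro s t
    rw [cnt]
    by_cases h : s = 0 ∧ t = 0
    · rw [if_pos h]
      obtain ⟨rfl, rfl⟩ := h
      rw [Finset.card_eq_one]
      refine ⟨fun i => i.elim0, ?_⟩
      ext b
      simp only [mem_A, Finset.mem_singleton]
      constructor
      · intro _
        funext i
        exact i.elim0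
      · rintro rfl
        simp
    · rw [if_neg h, Finset.card_eq_zero, Finset.eq_empty_iff_forall_notMem]
      intro b hb
      obtain ⟨_, h1, h2⟩ := mem_A.mp hb
      rw [Finset.univ_eq_empty, Finset.sum_empty] at h1 h2
      exact h ⟨h1.symm, h2.symm⟩
  | succ n ih =>
    intro s t
    rw [card_A_succ, cnt]
    refine Finset.sum_congr rfl fun x _ => ?_
    split_ifs with h
    · exact ih _ _
    · rw [A_eq_empty R n _ _ h, Finset.card_empty]

lemma abs_le_eleven {x : ℤ} (h : x * x ≤ 121) : -11 ≤ x ∧ x ≤ 11 := by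
  constructor
  · by_contra hlt
    push Not at hlt
    nlinarith
  · by_contra hlt
    push Not at hlt
    nlinarith

lemma conic_card (δ : ℕ) (hδ : δ ≤ 8) :
    {v : DP δ | IsConic v}.ncard =
      ∑ a ∈ Finset.Icc (1 : ℤ) 11, cnt 11 δ (3 * a - 2) (a * a) := by
  have hset : {v : DP δ | IsConic v} = ↑((Finset.Icc (1 : ℤ) 11).biUnion (fun a =>
      (A 11 δ (3 * a - 2) (a * a)).image
        (fun b : Fin δ → ℤ => (Fin.cons a b : Fin (δ + 1) → ℤ)))) := by
    ext v
    rw [Finset.mem_coe, Finset.mem_biUnion]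
    show IsConic v ↔ _
    constructor
    · rintro ⟨h1, h2⟩
      unfold form at h1 h2
      simp only [canon, Fin.cases_zero, Fin.cases_succ] at h2
      rw [← Finset.mul_sum] at h2
      have e1 : ∑ i : Fin δ, v i.succ = 3 * v 0 - 2 := by linarith
      have e2 : ∑ i : Fin δ, v i.succ * v i.succ = v 0 * v 0 := by linarith
      have hcs := sq_sum_le_card_mul_sum_sq (s := (Finset.univ : Finset (Fin δ)))
        (f := fun i => v i.succ)
      simp only [Finset.card_univ, Fintype.card_fin] at hcs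
      have e2' : ∑ i : Fin δ, v i.succ ^ 2 = v 0 * v 0 := by
        rw [← e2]
        exact Finset.sum_congr rfl fun i _ => sq (v i.succ)
      rw [e1, e2'] at hcs
      have hδ' : (δ : ℤ) ≤ 8 := by exact_mod_cast hδ
      have hsq : 0 ≤ v 0 * v 0 := mul_self_nonneg _
      have h8 : (3 * v 0 - 2) ^ 2 ≤ 8 * (v 0 * v 0) := by nlinarith
      have ha1 : 1 ≤ v 0 := by
        by_contra h
        push Not at h
        nlinarith
      have ha11 : v 0 ≤ 11 := by
        by_contra h
        push Not at h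
        nlinarith [mul_nonneg (show (0 : ℤ) ≤ v 0 by linarith) (show (0 : ℤ) ≤ v 0 - 12 by linarith)]
      have h121 : v 0 * v 0 ≤ 121 := by nlinarith
      have hb : ∀ i : Fin δ, -11 ≤ v i.succ ∧ v i.succ ≤ 11 := by
        intro i
        have : v i.succ * v i.succ ≤ ∑ j : Fin δ, v j.succ * v j.succ :=
          Finset.single_le_sum (f := fun j : Fin δ => v j.succ * v j.succ)
            (fun j _ => mul_self_nonneg _) (Finset.mem_univ i)
        exact abs_le_eleven (by linarith)
      refine ⟨v 0, Finset.mem_Icc.mpr ⟨ha1, ha11⟩, Finset.mem_image.mpr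
        ⟨Fin.tail v, mem_A.mpr ⟨fun i => hb i, ?_, ?_⟩, Fin.cons_self_tail v⟩⟩
      · simp only [Fin.tail]
        exact e1
      · simp only [Fin.tail]
        exact e2
    · rintro ⟨a, _, hv⟩
      obtain ⟨b, hb, rfl⟩ := Finset.mem_image.mp hv
      obtain ⟨_, e1, e2⟩ := mem_A.mp hb
      constructor
      · unfold form
        simp only [Fin.cons_zero, Fin.cons_succ]
        linarith
      · unfold form
        simp only [canon, Fin.cases_zero, Fin.cases_succ, Fin.cons_zero, Fin.cons_succ]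
        rw [← Finset.mul_sum]
        linarith
  rw [hset, Set.ncard_coe_finset, Finset.card_biUnion (disj_cons _ _)]
  refine Finset.sum_congr rfl fun a _ => ?_
  rw [Finset.card_image_of_injective _ (cons_inj a), cnt_spec]

lemma count8 : ∑ a ∈ Finset.Icc (1 : ℤ) 11, cnt 11 8 (3 * a - 2) (a * a) = 2160 := by
  decide +kernel

lemma count7 : ∑ a ∈ Finset.Icc (1 : ℤ) 11, cnt 11 7 (3 * a - 2) (a * a) = 126 := by
  decide +kernel

lemma count6 : ∑ a ∈ Finset.Icc (1 : ℤ) 11, cnt 11 6 (3 * a - 2) (a * a) = 27 := by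
  decide +kernel

lemma count5 : ∑ a ∈ Finset.Icc (1 : ℤ) 11, cnt 11 5 (3 * a - 2) (a * a) = 10 := by
  decide +kernel

lemma count4 : ∑ a ∈ Finset.Icc (1 : ℤ) 11, cnt 11 4 (3 * a - 2) (a * a) = 5 := by
  decide +kernel

lemma count3 : ∑ a ∈ Finset.Icc (1 : ℤ) 11, cnt 11 3 (3 * a - 2) (a * a) = 3 := by
  decide +kernel

lemma count2 : ∑ a ∈ Finset.Icc (1 : ℤ) 11, cnt 11 2 (3 * a - 2) (a * a) = 2 := by
  decide +kernel

open W4c3severiratdp in
/-- Work in the lattice of vectors (a; b_1, …, b_δ), standing for divisor classes a ℓ − Σ b_i e_i on the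
blow-up of the projective plane at δ points written in a standard basis, with intersection form a a'
− Σ b_i b_i' and canonical class K = (−3; −1, …, −1); a conic class is a class Q with Q·Q = 0 and
K·Q = −2. Then the number of conic classes is 2160 for δ = 8, 126 for δ = 7, 27 for δ = 6, 10 for δ
= 5, 5 for δ = 4, 3 for δ = 3 and 2 for δ = 2. -/
theorem result :
    {v : DP 8 | IsConic v}.ncard = 2160 ∧ {v : DP 7 | IsConic v}.ncard = 126 ∧
      {v : DP 6 | IsConic v}.ncard = 27 ∧ {v : DP 5 | IsConic v}.ncard = 10 ∧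
      {v : DP 4 | IsConic v}.ncard = 5 ∧ {v : DP 3 | IsConic v}.ncard = 3 ∧
      {v : DP 2 | IsConic v}.ncard = 2 := by
  refine ⟨?_, ?_, ?_, ?_, ?_, ?_, ?_⟩
  · rw [conic_card 8 (by norm_num)]
    exact count8
  · rw [conic_card 7 (by norm_num)]
    exact count7
  · rw [conic_card 6 (by norm_num)]
    exact count6
  · rw [conic_card 5 (by norm_num)]
    exact count5
  · rw [conic_card 4 (by norm_num)]
    exact count4
  · rw [conic_card 3 (by norm_num)]
    exact count3
  · rw [conic_card 2 (by norm_num)]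
    exact count2

end Groth.Agent.S15905
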