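import Groth.Statements.S15906
import Mathlib

set_option autoImplicit false
open Surf

namespace Groth.Agent.S15906

open W4c3severiratdp

/-- the fifteen sorted types -/
def types : List (Fin 9 → ℤ) :=
  [![1, 1, 0, 0, 0, 0, 0, 0, 0],
   ![2, 1, 1, 1, 1, 0, 0, 0, 0],
   ![3, 2, 1, 1, 1, 1, 1, 0, 0],
   ![4, 2, 2, 2, 1, 1, 1, 1, 0],
   ![4, 3, 1, 1, 1, 1, 1, 1, 1],
   ![5, 2, 2, 2, 2, 2, 2, 1, 0],
   ![5, 3, 2, 2, 2, 1, 1, 1, 1],
   ![6, 3, 3, 2, 2, 2, 2, 1, 1],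
   ![7, 3, 3, 3, 3, 2, 2, 2, 1],
   ![7, 4, 3, 2, 2, 2, 2, 2, 2],
   ![8, 4, 3, 3, 3, 3, 2, 2, 2],
   ![8, 3, 3, 3, 3, 3, 3, 3, 1],
   ![9, 4, 4, 3, 3, 3, 3, 3, 2],
   ![10, 4, 4, 4, 4, 3, 3, 3, 3],
   ![11, 4, 4, 4, 4, 4, 4, 4, 3]]

lemma types_ok : ∀ t ∈ types, t 0 * t 0 - ∑ i : Fin 8, t i.succ * t i.succ = 0 ∧
    (-3) * t 0 - ∑ i : Fin 8, (-1) * t i.succ = -2 := by
  decide +kernel

lemma enum : ∀ a ∈ Finset.Icc (1 : ℤ) 11,
    ∀ c0 ∈ Finset.Icc ((3 * a - 11) / 8) ((3 * a + 14) / 8),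
    ∀ c1 ∈ Finset.Icc ((3 * a - 11) / 8) c0,
    ∀ c2 ∈ Finset.Icc ((3 * a - 11) / 8) c1,
    ∀ c3 ∈ Finset.Icc ((3 * a - 11) / 8) c2,
    ∀ c4 ∈ Finset.Icc ((3 * a - 11) / 8) c3,
    ∀ c5 ∈ Finset.Icc ((3 * a - 11) / 8) c4,
    ∀ c6 ∈ Finset.Icc ((3 * a - 11) / 8) c5,
    ∀ c7 ∈ Finset.Icc ((3 * a - 11) / 8) c6,
    c0 + c1 + c2 + c3 + c4 + c5 + c6 + c7 = 3 * a - 2 →
    c0 * c0 + c1 * c1 + c2 * c2 + c3 * c3 + c4 * c4 + c5 * c5 + c6 * c6 + c7 * c7 = a * a →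
    ![a, c0, c1, c2, c3, c4, c5, c6, c7] ∈ types := by
  decide +kernel

lemma mem_types_iff (t : Fin 9 → ℤ) :
    t ∈ ({![1, 1, 0, 0, 0, 0, 0, 0, 0],
        ![2, 1, 1, 1, 1, 0, 0, 0, 0],
        ![3, 2, 1, 1, 1, 1, 1, 0, 0],
        ![4, 2, 2, 2, 1, 1, 1, 1, 0],
        ![4, 3, 1, 1, 1, 1, 1, 1, 1],
        ![5, 2, 2, 2, 2, 2, 2, 1, 0],
        ![5, 3, 2, 2, 2, 1, 1, 1, 1],
        ![6, 3, 3, 2, 2, 2, 2, 1, 1],
        ![7, 3, 3, 3, 3, 2, 2, 2, 1],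
        ![7, 4, 3, 2, 2, 2, 2, 2, 2],
        ![8, 4, 3, 3, 3, 3, 2, 2, 2],
        ![8, 3, 3, 3, 3, 3, 3, 3, 1],
        ![9, 4, 4, 3, 3, 3, 3, 3, 2],
        ![10, 4, 4, 4, 4, 3, 3, 3, 3],
        ![11, 4, 4, 4, 4, 4, 4, 4, 3]} : Set (Fin 9 → ℤ)) ↔ t ∈ types := by
  simp only [types, Set.mem_insert_iff, Set.mem_singleton_iff, List.mem_cons, List.not_mem_nil,
    or_false]

lemma sq_le_256 {t : ℤ} (h : t ^ 2 ≤ 256) : -16 ≤ t ∧ t ≤ 16 := by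
  constructor
  · by_contra hlt
    push Not at hlt
    nlinarith
  · by_contra hlt
    push Not at hlt
    nlinarith

lemma bounds (a : ℤ) (c : Fin 8 → ℤ)
    (e1 : c 0 + c 1 + c 2 + c 3 + c 4 + c 5 + c 6 + c 7 = 3 * a - 2)
    (e2 : c 0 * c 0 + c 1 * c 1 + c 2 * c 2 + c 3 * c 3 + c 4 * c 4 + c 5 * c 5 + c 6 * c 6 +
      c 7 * c 7 = a * a) :
    (1 ≤ a ∧ a ≤ 11) ∧ ∀ i, (3 * a - 11) / 8 ≤ c i ∧ c i ≤ (3 * a + 14) / 8 := by
  have key : ∑ i, (8 * c i - (3 * a - 2)) ^ 2 = 8 * (-a ^ 2 + 12 * a - 4) := by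
    rw [Fin.sum_univ_eight]
    linear_combination 64 * e2 - 16 * (3 * a - 2) * e1
  have htot : 0 ≤ 8 * (-a ^ 2 + 12 * a - 4) := by
    rw [← key]
    exact Finset.sum_nonneg fun i _ => sq_nonneg _
  have ha1 : 1 ≤ a := by
    by_contra h
    push Not at h
    nlinarith [sq_nonneg a]
  have ha11 : a ≤ 11 := by
    by_contra h
    push Not at h
    nlinarith [mul_nonneg (show (0 : ℤ) ≤ a by linarith) (show (0 : ℤ) ≤ a - 12 by linarith)]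
  have hle : 8 * (-a ^ 2 + 12 * a - 4) ≤ 256 := by nlinarith [sq_nonneg (a - 6)]
  refine ⟨⟨ha1, ha11⟩, fun i => ?_⟩
  have hi : (8 * c i - (3 * a - 2)) ^ 2 ≤ 256 := by
    have : (8 * c i - (3 * a - 2)) ^ 2 ≤ ∑ j, (8 * c j - (3 * a - 2)) ^ 2 :=
      Finset.single_le_sum (f := fun j => (8 * c j - (3 * a - 2)) ^ 2) (fun j _ => sq_nonneg _)
        (Finset.mem_univ i)
    linarith
  obtain ⟨l, u⟩ := sq_le_256 hi
  constructor <;> omega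

open W4c3severiratdp in
/-- Work in the lattice of vectors (a; b_1, …, b_δ), standing for divisor classes a ℓ − Σ b_i e_i on the
blow-up of the projective plane at δ points written in a standard basis, with intersection form a a'
− Σ b_i b_i' and canonical class K = (−3; −1, …, −1); a conic class is a class Q with Q·Q = 0 and
K·Q = −2, an exceptional class (the class of a (−1)-curve) is a class E with E·E = −1 and K·E = −1,
and the Weyl group W_δ is the group of additive automorphisms of the lattice preserving the form and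
fixing K. For δ = 8, a class (a; b_1, …, b_8) is a conic class if and only if, up to a permutation
of b_1, …, b_8, it is one of the fifteen vectors (1; 1, 0, 0, 0, 0, 0, 0, 0), (2; 1, 1, 1, 1, 0, 0,
0, 0), (3; 2, 1, 1, 1, 1, 1, 0, 0), (4; 2, 2, 2, 1, 1, 1, 1, 0), (4; 3, 1, 1, 1, 1, 1, 1, 1), (5; 2,
2, 2, 2, 2, 2, 1, 0), (5; 3, 2, 2, 2, 1, 1, 1, 1), (6; 3, 3, 2, 2, 2, 2, 1, 1), (7; 3, 3, 3, 3, 2,
2, 2, 1), (7; 4, 3, 2, 2, 2, 2, 2, 2), (8; 4, 3, 3, 3, 3, 2, 2, 2), (8; 3, 3, 3, 3, 3, 3, 3, 1), (9;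
4, 4, 3, 3, 3, 3, 3, 2), (10; 4, 4, 4, 4, 3, 3, 3, 3), (11; 4, 4, 4, 4, 4, 4, 4, 3). (One line of
the published table is illegible in the available copy; the fifteen vectors here are the complete
solution set of the two defining equations a² = Σ b_i², 3a − Σ b_i = 2.) -/
theorem result (v : DP 8) :
    IsConic v ↔
      ∃ t ∈ ({![1, 1, 0, 0, 0, 0, 0, 0, 0],
        ![2, 1, 1, 1, 1, 0, 0, 0, 0],
        ![3, 2, 1, 1, 1, 1, 1, 0, 0],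
        ![4, 2, 2, 2, 1, 1, 1, 1, 0],
        ![4, 3, 1, 1, 1, 1, 1, 1, 1],
        ![5, 2, 2, 2, 2, 2, 2, 1, 0],
        ![5, 3, 2, 2, 2, 1, 1, 1, 1],
        ![6, 3, 3, 2, 2, 2, 2, 1, 1],
        ![7, 3, 3, 3, 3, 2, 2, 2, 1],
        ![7, 4, 3, 2, 2, 2, 2, 2, 2],
        ![8, 4, 3, 3, 3, 3, 2, 2, 2],
        ![8, 3, 3, 3, 3, 3, 3, 3, 1],
        ![9, 4, 4, 3, 3, 3, 3, 3, 2],
        ![10, 4, 4, 4, 4, 3, 3, 3, 3],
        ![11, 4, 4, 4, 4, 4, 4, 4, 3]} : Set (DP 8)),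
        ∃ σ : Equiv.Perm (Fin 8), v 0 = t 0 ∧ ∀ i : Fin 8, v (σ i).succ = t i.succ := by
  have hc0 : canon 8 0 = -3 := rfl
  have hcs : ∀ i : Fin 8, canon 8 i.succ = -1 := fun i => by
    simp only [canon, Fin.cases_succ]
  constructor
  · rintro ⟨h1, h2⟩
    unfold form at h1 h2
    simp only [hc0, hcs] at h2
    obtain ⟨σ, hσ⟩ : ∃ σ : Equiv.Perm (Fin 8), Monotone (fun i => -(v (σ i).succ)) :=
      ⟨Tuple.sort (fun i : Fin 8 => -(v i.succ)),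
        Tuple.monotone_sort (fun i : Fin 8 => -(v i.succ))⟩
    have s1 : ∑ i, v (σ i).succ = ∑ i : Fin 8, v i.succ := Equiv.sum_comp σ (fun i => v i.succ)
    have s2 : ∑ i, v (σ i).succ * v (σ i).succ = ∑ i : Fin 8, v i.succ * v i.succ :=
      Equiv.sum_comp σ (fun i => v i.succ * v i.succ)
    rw [← Finset.mul_sum] at h2
    obtain ⟨a, ha⟩ : ∃ a, a = v 0 := ⟨_, rfl⟩
    obtain ⟨c, hc⟩ : ∃ c : Fin 8 → ℤ, ∀ i, c i = v (σ i).succ := ⟨_, fun _ => rfl⟩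
    have e1 : ∑ i, c i = 3 * a - 2 := by
      simp only [hc]
      rw [s1, ha]
      linarith
    have e2 : ∑ i, c i * c i = a * a := by
      simp only [hc]
      rw [s2, ha]
      linarith
    have mono : ∀ i j : Fin 8, i ≤ j → c j ≤ c i := by
      intro i j hij
      have := hσ hij
      simp only [← hc] at this
      linarith
    rw [Fin.sum_univ_eight] at e1 e2
    obtain ⟨⟨ha1, ha11⟩, hb⟩ := bounds a c e1 e2
    have hmem := enum a (Finset.mem_Icc.mpr ⟨ha1, ha11⟩)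
      (c 0) (Finset.mem_Icc.mpr ⟨(hb 0).1, (hb 0).2⟩)
      (c 1) (Finset.mem_Icc.mpr ⟨(hb 1).1, mono 0 1 (by decide)⟩)
      (c 2) (Finset.mem_Icc.mpr ⟨(hb 2).1, mono 1 2 (by decide)⟩)
      (c 3) (Finset.mem_Icc.mpr ⟨(hb 3).1, mono 2 3 (by decide)⟩)
      (c 4) (Finset.mem_Icc.mpr ⟨(hb 4).1, mono 3 4 (by decide)⟩)
      (c 5) (Finset.mem_Icc.mpr ⟨(hb 5).1, mono 4 5 (by decide)⟩)
      (c 6) (Finset.mem_Icc.mpr ⟨(hb 6).1, mono 5 6 (by decide)⟩)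
      (c 7) (Finset.mem_Icc.mpr ⟨(hb 7).1, mono 6 7 (by decide)⟩) e1 e2
    refine ⟨![a, c 0, c 1, c 2, c 3, c 4, c 5, c 6, c 7], (mem_types_iff _).mpr hmem, σ, ?_, ?_⟩
    · exact ha.symm
    · intro i
      rw [← hc i]
      fin_cases i <;> rfl
  · rintro ⟨t, ht, σ, h0, hs⟩
    have ht' := (mem_types_iff t).mp ht
    obtain ⟨k1, k2⟩ := types_ok t ht'
    have s1 : ∑ i : Fin 8, v i.succ = ∑ i : Fin 8, t i.succ := by
      rw [← Equiv.sum_comp σ (fun i => v i.succ)]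
      exact Finset.sum_congr rfl fun i _ => hs i
    have s2 : ∑ i : Fin 8, v i.succ * v i.succ = ∑ i : Fin 8, t i.succ * t i.succ := by
      rw [← Equiv.sum_comp σ (fun i => v i.succ * v i.succ)]
      exact Finset.sum_congr rfl fun i _ => by rw [hs i]
    refine ⟨?_, ?_⟩
    · unfold form
      rw [s2, h0]
      exact k1
    · unfold form
      simp only [hc0, hcs]
      rw [← Finset.mul_sum, s1, h0, Finset.mul_sum]
      exact k2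

end Groth.Agent.S15906
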