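import Groth.Statements.S15907
import Groth.Agent.H85.DPConic

set_option autoImplicit false
open Surf

namespace Groth.Agent.S15907

open Groth.Agent.H85.DP

open W4c3severiratdp in
/-- Work in the lattice of vectors (a; b_1, …, b_δ), standing for divisor classes a ℓ − Σ b_i e_i on the
blow-up of the projective plane at δ points written in a standard basis, with intersection form a a'
− Σ b_i b_i' and canonical class K = (−3; −1, …, −1); a conic class is a class Q with Q·Q = 0 and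
K·Q = −2, an exceptional class (the class of a (−1)-curve) is a class E with E·E = −1 and K·E = −1,
and the Weyl group W_δ is the group of additive automorphisms of the lattice preserving the form and
fixing K. For 2 ≤ δ ≤ 8 the intersection product Q_1·Q_2 determines the W_δ-orbit of an ordered pair
(Q_1, Q_2) of conic classes, the only exception being δ = 8 with Q_1·Q_2 = 4: if (Q_1, Q_2) and
(Q_1', Q_2') are ordered pairs of conic classes with Q_1·Q_2 = Q_1'·Q_2', and not both δ = 8 and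
Q_1·Q_2 = 4, then some element of W_δ carries Q_1 to Q_1' and Q_2 to Q_2'. -/
theorem result (δ : ℕ) (h2 : 2 ≤ δ) (h8 : δ ≤ 8)
    (v₁ v₂ w₁ w₂ : DP δ) (hv₁ : IsConic v₁) (hv₂ : IsConic v₂) (hw₁ : IsConic w₁) (hw₂ : IsConic w₂)
    (heq : form v₁ v₂ = form w₁ w₂) (hexc : ¬ (δ = 8 ∧ form v₁ v₂ = 4)) :
    ∃ g : DP δ ≃ₗ[ℤ] DP δ, IsWeyl g ∧ g v₁ = w₁ ∧ g v₂ = w₂ := by
  have hf := conicFacts_ok δ h2 h8
  obtain ⟨g₁, hg₁, hgv⟩ := conic_stage1 h8 hf v₁ hv₁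
  obtain ⟨g₂, hg₂, hg₂Q, hg₂B⟩ := conic_stage2 h8 hf (g₁ v₂) (isConic_map hg₁ hv₂)
  obtain ⟨h₁, hh₁, hhw⟩ := conic_stage1 h8 hf w₁ hw₁
  obtain ⟨h₂, hh₂, hh₂Q, hh₂B⟩ := conic_stage2 h8 hf (h₁ w₂) (isConic_map hh₁ hw₂)
  have kv : form (Q₀ δ) (g₁ v₂) = form v₁ v₂ := by
    rw [← hgv]
    exact hg₁.1 _ _
  have kw : form (Q₀ δ) (h₁ w₂) = form v₁ v₂ := by
    rw [← hhw, heq]
    exact hh₁.1 _ _
  rw [kv] at hg₂B
  rw [kw] at hh₂B
  have e1 : toL (g₂ (g₁ v₂)) = nfL δ (form v₁ v₂) := by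
    rcases hg₂B with h | ⟨h8', h4, -⟩
    · exact h
    · exact absurd ⟨h8', h4⟩ hexc
  have e2 : toL (h₂ (h₁ w₂)) = nfL δ (form v₁ v₂) := by
    rcases hh₂B with h | ⟨h8', h4, -⟩
    · exact h
    · exact absurd ⟨h8', h4⟩ hexc
  have e : g₂ (g₁ v₂) = h₂ (h₁ w₂) := toL_injective (e1.trans e2.symm)
  refine ⟨(g₁.trans g₂).trans (h₁.trans h₂).symm,
    isWeyl_trans (isWeyl_trans hg₁ hg₂) (isWeyl_symm (isWeyl_trans hh₁ hh₂)), ?_, ?_⟩
  · show (h₁.trans h₂).symm (g₂ (g₁ v₁)) = w₁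
    rw [LinearEquiv.symm_apply_eq]
    show g₂ (g₁ v₁) = h₂ (h₁ w₁)
    rw [hgv, hg₂Q, hhw, hh₂Q]
  · show (h₁.trans h₂).symm (g₂ (g₁ v₂)) = w₂
    rw [LinearEquiv.symm_apply_eq]
    exact e

end Groth.Agent.S15907
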