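import Groth.Statements.S15908
import Groth.Agent.H85.DPConic

set_option autoImplicit false
open Surf

namespace Groth.Agent.S15908

open Groth.Agent.H85.DP W4c3severiratdp

/-- the first normal form -/
def pL : List ℤ := [4, 0, 2, 2, 2, 1, 1, 1, 1]

/-- the second normal form -/
def qL : List ℤ := [5, 1, 2, 2, 2, 2, 2, 2, 0]

lemma isConic_ofL (l : List ℤ) (hlen : l.length = 8 + 1) (h1 : formL l l = 0)
    (h2 : formL (toL (canon 8)) l = -2) : IsConic (ofL l : DP 8) :=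
  ⟨by rw [← formL_toL, toL_ofL l hlen]; exact h1, by rw [← formL_toL, toL_ofL l hlen]; exact h2⟩

lemma hQ8 : toL (Q₀ 8) = Q0L 8 := by decide +kernel

lemma isConic_Q₀ : IsConic (Q₀ 8) := by
  refine ⟨?_, ?_⟩
  · rw [← formL_toL, hQ8]
    decide +kernel
  · rw [← formL_toL, hQ8]
    decide +kernel

lemma form_Q₀_ofL (l : List ℤ) (hlen : l.length = 8 + 1) :
    form (Q₀ 8) (ofL l : DP 8) = formL (Q0L 8) l := by
  rw [← formL_toL, toL_ofL l hlen, hQ8]

open W4c3severiratdp in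
/-- Work in the lattice of vectors (a; b_1, …, b_δ), standing for divisor classes a ℓ − Σ b_i e_i on the
blow-up of the projective plane at δ points written in a standard basis, with intersection form a a'
− Σ b_i b_i' and canonical class K = (−3; −1, …, −1); a conic class is a class Q with Q·Q = 0 and
K·Q = −2, an exceptional class (the class of a (−1)-curve) is a class E with E·E = −1 and K·E = −1,
and the Weyl group W_δ is the group of additive automorphisms of the lattice preserving the form and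
fixing K. For δ = 8 the ordered pairs (Q_1, Q_2) of conic classes with Q_1·Q_2 = 4 form exactly two
W_8-orbits: there are two such pairs that no element of W_8 carries one to the other, and every such
pair is carried by an element of W_8 to one of these two. -/
theorem result :
    ∃ p₁ p₂ q₁ q₂ : DP 8, IsConic p₁ ∧ IsConic p₂ ∧ IsConic q₁ ∧ IsConic q₂ ∧ form p₁ p₂ = 4 ∧ form q₁ q₂ = 4 ∧
      (¬ ∃ g : DP 8 ≃ₗ[ℤ] DP 8, IsWeyl g ∧ g p₁ = q₁ ∧ g p₂ = q₂) ∧
      ∀ v₁ v₂ : DP 8, IsConic v₁ → IsConic v₂ → form v₁ v₂ = 4 →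
        ∃ g : DP 8 ≃ₗ[ℤ] DP 8, IsWeyl g ∧ ((g v₁ = p₁ ∧ g v₂ = p₂) ∨ (g v₁ = q₁ ∧ g v₂ = q₂)) := by
  have hf := conicFacts_ok 8 (by norm_num) le_rfl
  have hpl : pL.length = 8 + 1 := rfl
  have hql : qL.length = 8 + 1 := rfl
  refine ⟨Q₀ 8, ofL pL, Q₀ 8, ofL qL, isConic_Q₀, isConic_ofL pL hpl (by decide +kernel)
    (by decide +kernel), isConic_Q₀, isConic_ofL qL hql (by decide +kernel) (by decide +kernel),
    ?_, ?_, ?_, ?_⟩
  · rw [form_Q₀_ofL pL hpl]
    decide +kernel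
  · rw [form_Q₀_ofL qL hql]
    decide +kernel
  · rintro ⟨g, -, hg1, hg2⟩
    have hsum : Q₀ 8 + (ofL qL : DP 8) = (2 : ℤ) • (ofL [3, 1, 1, 1, 1, 1, 1, 1, 0] : DP 8) := by
      decide +kernel
    have h1 : g (Q₀ 8 + (ofL pL : DP 8)) =
        (2 : ℤ) • (ofL [3, 1, 1, 1, 1, 1, 1, 1, 0] : DP 8) := by
      rw [map_add, hg1, hg2]
      exact hsum
    have h2 : Q₀ 8 + (ofL pL : DP 8) =
        (2 : ℤ) • g.symm (ofL [3, 1, 1, 1, 1, 1, 1, 1, 0] : DP 8) := by
      rw [← map_smul, ← h1, LinearEquiv.symm_apply_apply]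
    have h3 := congrFun h2 0
    have h5 : (Q₀ 8 + (ofL pL : DP 8)) 0 = 5 := by decide +kernel
    rw [h5, Pi.smul_apply, smul_eq_mul] at h3
    omega
  · intro v₁ v₂ hv₁ hv₂ h4
    obtain ⟨g₁, hg₁, hgv⟩ := conic_stage1 le_rfl hf v₁ hv₁
    obtain ⟨g₂, hg₂, hg₂Q, hg₂B⟩ := conic_stage2 le_rfl hf (g₁ v₂) (isConic_map hg₁ hv₂)
    have kv : form (Q₀ 8) (g₁ v₂) = 4 := by
      rw [← hgv, ← h4]
      exact hg₁.1 _ _
    rw [kv] at hg₂B
    refine ⟨g₁.trans g₂, isWeyl_trans hg₁ hg₂, ?_⟩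
    have hfirst : (g₁.trans g₂) v₁ = Q₀ 8 := by
      show g₂ (g₁ v₁) = Q₀ 8
      rw [hgv, hg₂Q]
    rcases hg₂B with h | ⟨-, -, h⟩
    · left
      refine ⟨hfirst, ?_⟩
      show g₂ (g₁ v₂) = ofL pL
      apply toL_injective
      rw [h, toL_ofL pL hpl]
      decide +kernel
    · right
      refine ⟨hfirst, ?_⟩
      show g₂ (g₁ v₂) = ofL qL
      apply toL_injective
      rw [h, toL_ofL qL hql]
      rfl

end Groth.Agent.S15908
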