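import Groth.Statements.S15909
import Groth.Agent.H85.DPExc

set_option autoImplicit false
open Surf

namespace Groth.Agent.S15909

open Groth.Agent.H85.DP

open W4c3severiratdp in
/-- Work in the lattice of vectors (a; b_1, …, b_δ), standing for divisor classes a ℓ − Σ b_i e_i on the
blow-up of the projective plane at δ points written in a standard basis, with intersection form a a'
− Σ b_i b_i' and canonical class K = (−3; −1, …, −1); a conic class is a class Q with Q·Q = 0 and
K·Q = −2, an exceptional class (the class of a (−1)-curve) is a class E with E·E = −1 and K·E = −1,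
and the Weyl group W_δ is the group of additive automorphisms of the lattice preserving the form and
fixing K. Let δ = 8 (a del Pezzo surface of degree one) and let L be an exceptional class. If L_1
and L_2 are exceptional classes with L_1·L = L_2·L, then L_1 and L_2 lie in the same orbit of the
stabilizer of L in W_8. -/
theorem result (L L₁ L₂ : DP 8) (hL : IsExc L) (hL₁ : IsExc L₁)
    (hL₂ : IsExc L₂) (h : form L₁ L = form L₂ L) :
    ∃ g : DP 8 ≃ₗ[ℤ] DP 8, IsWeyl g ∧ g L = L ∧ g L₁ = L₂ := by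
  obtain ⟨g₀, hg₀, hgL⟩ := exc_stage1 L hL
  obtain ⟨a₁, ha₁, ha₁E, ha₁M⟩ := exc_stage2 (g₀ L₁) (isExc_map hg₀ hL₁)
  obtain ⟨a₂, ha₂, ha₂E, ha₂M⟩ := exc_stage2 (g₀ L₂) (isExc_map hg₀ hL₂)
  have k₁ : form E₀ (g₀ L₁) = form L₁ L := by
    rw [← hgL, hg₀.1, form_comm]
  have k₂ : form E₀ (g₀ L₂) = form L₁ L := by
    rw [← hgL, hg₀.1, form_comm, h]
  rw [k₁] at ha₁M
  rw [k₂] at ha₂M
  have e : a₁ (g₀ L₁) = a₂ (g₀ L₂) := toL_injective (ha₁M.trans ha₂M.symm)
  refine ⟨(g₀.trans a₁).trans (g₀.trans a₂).symm,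
    isWeyl_trans (isWeyl_trans hg₀ ha₁) (isWeyl_symm (isWeyl_trans hg₀ ha₂)), ?_, ?_⟩
  · show (g₀.trans a₂).symm (a₁ (g₀ L)) = L
    rw [LinearEquiv.symm_apply_eq]
    show a₁ (g₀ L) = a₂ (g₀ L)
    rw [hgL, ha₁E, ha₂E]
  · show (g₀.trans a₂).symm (a₁ (g₀ L₁)) = L₂
    rw [LinearEquiv.symm_apply_eq]
    exact e

end Groth.Agent.S15909
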