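import Groth.Statements.S15910
import Groth.Agent.H85.DPExc

set_option autoImplicit false
open Surf

namespace Groth.Agent.S15910

open Groth.Agent.H85.DP W4c3severiratdp

/-- coordinate lists of the four representative triples (for `L = e₈`) -/
def RL : Fin 4 → Fin 3 → List ℤ :=
  ![![E0L, E0L, [6, 2, 2, 2, 2, 2, 2, 2, 3]],
    ![E0L, e7L, [6, 2, 2, 2, 2, 2, 2, 3, 2]],
    ![E0L, [1, 1, 0, 0, 0, 0, 0, 0, 1], [5, 1, 2, 2, 2, 2, 2, 2, 1]],
    ![e7L, n1L, [5, 1, 2, 2, 2, 2, 2, 2, 1]]]

/-- the four representative triples (for `L = e₈`) -/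
def R (j : Fin 4) (i : Fin 3) : DP 8 := ofL (RL j i)

/-- intersection numbers of the members of the representative triples with `e₈` -/
def I : Fin 4 → Fin 3 → ℤ := ![![-1, -1, 3], ![-1, 0, 2], ![-1, 1, 1], ![0, 0, 1]]

lemma RL_ok : ∀ j i, (RL j i).length = 8 + 1 ∧ formL (RL j i) (RL j i) = -1 ∧
    formL (toL (canon 8)) (RL j i) = -1 ∧ formL (RL j i) E0L = I j i := by
  decide +kernel

lemma R_sum : ∀ j, R j 0 + R j 1 + R j 2 = E₀ - 2 • canon 8 := by
  decide +kernel

lemma isExc_R (j : Fin 4) (i : Fin 3) : IsExc (R j i) := by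
  obtain ⟨hlen, h1, h2, -⟩ := RL_ok j i
  exact ⟨by rw [R, ← formL_toL, toL_ofL _ hlen]; exact h1,
    by rw [R, ← formL_toL, toL_ofL _ hlen]; exact h2⟩

lemma form_R (j : Fin 4) (i : Fin 3) : form (R j i) E₀ = I j i := by
  obtain ⟨hlen, -, -, h3⟩ := RL_ok j i
  rw [R, ← formL_toL, toL_ofL _ hlen, toL_E₀]
  exact h3

lemma I_sq : ∀ j, ∑ i, (I j i) ^ 2 = (![11, 5, 3, 1] : Fin 4 → ℤ) j := by
  decide +kernel

lemma I_inj : ∀ a b : Fin 4, (![11, 5, 3, 1] : Fin 4 → ℤ) a = ![11, 5, 3, 1] b → a = b := by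
  decide +kernel

lemma nfE_range (k : ℤ) (h : (nfE k).length = 9) : -1 ≤ k ∧ k ≤ 3 := by
  by_contra hk
  have h1 : ¬ k = -1 := by omega
  have h2 : ¬ k = 0 := by omega
  have h3 : ¬ k = 1 := by omega
  have h4 : ¬ k = 2 := by omega
  have h5 : ¬ k = 3 := by omega
  have : nfE k = [] := by
    unfold nfE
    rw [if_neg h1, if_neg h2, if_neg h3, if_neg h4, if_neg h5]
  rw [this] at h
  simp at h

lemma length_toL (v : DP 8) : (toL v).length = 9 := by
  simp [toL]

lemma form_const : form E₀ E₀ = -1 ∧ form (canon 8) E₀ = -1 ∧ form (canon 8) (canon 8) = 1 ∧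
    form E₀ e₇ = 0 ∧ form (canon 8) e₇ = -1 ∧ form e₇ e₇ = -1 := by
  decide +kernel

/-- the third member of a triple is determined by the other two -/
lemma third (G : DP 8 ≃ₗ[ℤ] DP 8) (hG : IsWeyl G) (hGE : G E₀ = E₀) (u : Fin 3 → DP 8)
    (hSu : u 0 + u 1 + u 2 = E₀ - 2 • canon 8) (j : Fin 4) (h0 : G (u 0) = R j 0)
    (h1 : G (u 1) = R j 1) : G (u 2) = R j 2 := by
  have hGS : G (u 0) + G (u 1) + G (u 2) = E₀ - 2 • canon 8 := by
    rw [← map_add, ← map_add, hSu, map_sub, map_nsmul, hGE, hG.2]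
  rw [h0, h1] at hGS
  exact add_left_cancel (hGS.trans (R_sum j).symm)

open W4c3severiratdp in
/-- Work in the lattice of vectors (a; b_1, …, b_δ), standing for divisor classes a ℓ − Σ b_i e_i on the
blow-up of the projective plane at δ points written in a standard basis, with intersection form a a'
− Σ b_i b_i' and canonical class K = (−3; −1, …, −1); a conic class is a class Q with Q·Q = 0 and
K·Q = −2, an exceptional class (the class of a (−1)-curve) is a class E with E·E = −1 and K·E = −1,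
and the Weyl group W_δ is the group of additive automorphisms of the lattice preserving the form and
fixing K. Let δ = 8 and let L be an exceptional class. Let B be the set of unordered triples {λ_1,
λ_2, λ_3} of exceptional classes (repetitions allowed) with λ_1 + λ_2 + λ_3 = −2K + L. Then the
stabilizer of L in W_8 has exactly four orbits on B. Triples are written as maps Fin 3 → lattice and
compared up to reordering: there are four members of B, no two of which are identified by an element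
of the stabilizer followed by a reordering, and every member of B is so identified with one of the
four. -/
theorem result (L : DP 8) (hL : IsExc L) :
    ∃ r : Fin 4 → (Fin 3 → DP 8),
      (∀ j, (∀ i, IsExc (r j i)) ∧ r j 0 + r j 1 + r j 2 = L - 2 • canon 8) ∧
      (∀ j j', (∃ g : DP 8 ≃ₗ[ℤ] DP 8, IsWeyl g ∧ g L = L ∧ ∃ σ : Equiv.Perm (Fin 3), ∀ i, g (r j (σ i)) = r j' i) → j = j') ∧
      ∀ t : Fin 3 → DP 8, (∀ i, IsExc (t i)) → t 0 + t 1 + t 2 = L - 2 • canon 8 →
        ∃ j, ∃ g : DP 8 ≃ₗ[ℤ] DP 8, IsWeyl g ∧ g L = L ∧ ∃ σ : Equiv.Perm (Fin 3), ∀ i, g (t (σ i)) = r j i := by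
  obtain ⟨g₀, hg₀, hgL⟩ := exc_stage1 L hL
  have hsymm := isWeyl_symm hg₀
  have hLs : g₀.symm E₀ = L := by rw [← hgL, LinearEquiv.symm_apply_apply]
  have hKs : g₀.symm (canon 8) = canon 8 := hsymm.2
  refine ⟨fun j i => g₀.symm (R j i), ?_, ?_, ?_⟩
  · intro j
    refine ⟨fun i => isExc_map hsymm (isExc_R j i), ?_⟩
    show g₀.symm (R j 0) + g₀.symm (R j 1) + g₀.symm (R j 2) = L - 2 • canon 8
    rw [← map_add, ← map_add, R_sum j, map_sub, map_nsmul, hLs, hKs]
  · rintro j j' ⟨g, hg, hgL', σ, hσ⟩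
    have hσ' : ∀ i, g (g₀.symm (R j (σ i))) = g₀.symm (R j' i) := hσ
    have h2 : ∀ a, form (g₀.symm a) L = form a E₀ := by
      intro a
      have := hsymm.1 a E₀
      rw [hLs] at this
      exact this
    have hinv : ∀ i, I j' i = I j (σ i) := by
      intro i
      have h1 := hg.1 (g₀.symm (R j (σ i))) L
      rw [hσ' i, hgL', h2, h2, form_R, form_R] at h1
      exact h1
    have hsq : ∑ i, (I j' i) ^ 2 = ∑ i, (I j i) ^ 2 := by
      rw [← Equiv.sum_comp σ (fun i => (I j i) ^ 2)]
      exact Finset.sum_congr rfl fun i _ => by rw [hinv i]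
    rw [I_sq, I_sq] at hsq
    exact (I_inj j' j hsq).symm
  · intro t ht hsum
    have hS : g₀ (t 0) + g₀ (t 1) + g₀ (t 2) = E₀ - 2 • canon 8 := by
      rw [← map_add, ← map_add, hsum, map_sub, map_nsmul, hgL, hg₀.2]
    obtain ⟨σ, hσ⟩ : ∃ σ : Equiv.Perm (Fin 3),
        Monotone (fun i => form E₀ (g₀ (t (σ i)))) :=
      ⟨Tuple.sort (fun i => form E₀ (g₀ (t i))),
        Tuple.monotone_sort (fun i => form E₀ (g₀ (t i)))⟩
    obtain ⟨u, hu⟩ : ∃ u : Fin 3 → DP 8, ∀ i, u i = g₀ (t (σ i)) := ⟨_, fun _ => rfl⟩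
    have hue : ∀ i, IsExc (u i) := fun i => by rw [hu]; exact isExc_map hg₀ (ht _)
    have hSu : u 0 + u 1 + u 2 = E₀ - 2 • canon 8 := by
      have := Equiv.sum_comp σ (fun i => g₀ (t i))
      rw [Fin.sum_univ_three, Fin.sum_univ_three] at this
      rw [hu, hu, hu, ← hS]
      exact this
    have hmono : ∀ i i' : Fin 3, i ≤ i' → form E₀ (u i) ≤ form E₀ (u i') := by
      intro i i' hii
      rw [hu, hu]
      exact hσ hii
    have hk01 := hmono 0 1 (by decide)
    have hk12 := hmono 1 2 (by decide)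
    obtain ⟨c1, c2, c3, c4, c5, c6⟩ := form_const
    have hksum : form E₀ (u 0) + form E₀ (u 1) + form E₀ (u 2) = 1 := by
      rw [← form_add_right, ← form_add_right, hSu, two_nsmul, form_sub_right, form_add_right,
        c1, form_comm E₀ (canon 8), c2]
      norm_num
    have hrange : ∀ i, -1 ≤ form E₀ (u i) ∧ form E₀ (u i) ≤ 3 := by
      intro i
      obtain ⟨a, -, -, haM⟩ := exc_stage2 (u i) (hue i)
      apply nfE_range
      rw [← haM]
      exact length_toL _
    have hr0 := hrange 0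
    have hr1 := hrange 1
    have hr2 := hrange 2
    -- the final assembly
    have finish : ∀ (G : DP 8 ≃ₗ[ℤ] DP 8), IsWeyl G → G E₀ = E₀ → ∀ j : Fin 4,
        G (u 0) = R j 0 → G (u 1) = R j 1 →
        ∃ j, ∃ g : DP 8 ≃ₗ[ℤ] DP 8, IsWeyl g ∧ g L = L ∧ ∃ σ : Equiv.Perm (Fin 3),
          ∀ i, g (t (σ i)) = (fun j i => g₀.symm (R j i)) j i := by
      intro G hG hGE j h0 h1
      have h2 := third G hG hGE u hSu j h0 h1
      refine ⟨j, (g₀.trans G).trans g₀.symm, isWeyl_trans (isWeyl_trans hg₀ hG) hsymm, ?_, σ, ?_⟩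
      · show g₀.symm (G (g₀ L)) = L
        rw [hgL, hGE, hLs]
      · intro i
        show g₀.symm (G (g₀ (t (σ i)))) = g₀.symm (R j i)
        rw [← hu i]
        congr 1
        match i with
        | 0 => exact h0
        | 1 => exact h1
        | 2 => exact h2
    have hk0 : form E₀ (u 0) = -1 ∨ form E₀ (u 0) = 0 := by omega
    rcases hk0 with hk0 | hk0
    · -- first member is `e₈`
      obtain ⟨a, ha, haE, haM⟩ := exc_stage2 (u 0) (hue 0)
      rw [hk0] at haM
      have ha0 : a (u 0) = E₀ := by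
        apply toL_injective
        rw [haM, toL_E₀]
        rfl
      obtain ⟨b, hb, hbE, hbM⟩ := exc_stage2 (a (u 1)) (isExc_map ha (hue 1))
      have hk1 : form E₀ (a (u 1)) = form E₀ (u 1) := by
        have := ha.1 E₀ (u 1)
        rw [haE] at this
        exact this
      rw [hk1] at hbM
      have hG : IsWeyl (a.trans b) := isWeyl_trans ha hb
      have hGE : (a.trans b) E₀ = E₀ := by
        show b (a E₀) = E₀
        rw [haE, hbE]
      have hG0 : ∀ j : Fin 4, RL j 0 = E0L → (a.trans b) (u 0) = R j 0 := by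
        intro j hj
        show b (a (u 0)) = R j 0
        rw [ha0, hbE, R, hj]
        rfl
      have hG1 : ∀ j : Fin 4, nfE (form E₀ (u 1)) = RL j 1 → (a.trans b) (u 1) = R j 1 := by
        intro j hj
        show b (a (u 1)) = R j 1
        apply toL_injective
        rw [hbM, hj, R, toL_ofL _ (RL_ok j 1).1]
      have hk1' : form E₀ (u 1) = -1 ∨ form E₀ (u 1) = 0 ∨ form E₀ (u 1) = 1 := by omega
      rcases hk1' with h | h | h
      · exact finish _ hG hGE 0 (hG0 0 rfl) (hG1 0 (by rw [h]; rfl))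
      · exact finish _ hG hGE 1 (hG0 1 rfl) (hG1 1 (by rw [h]; rfl))
      · exact finish _ hG hGE 2 (hG0 2 rfl) (hG1 2 (by rw [h]; rfl))
    · -- all members meet `e₈` in `0, 0, 1`
      have hk1 : form E₀ (u 1) = 0 := by omega
      obtain ⟨a, ha, haE, haM⟩ := exc_stage2 (u 0) (hue 0)
      rw [hk0] at haM
      have ha0 : a (u 0) = e₇ := by
        apply toL_injective
        rw [haM, toL_e₇]
        rfl
      have hx : IsExc (a (u 1)) := isExc_map ha (hue 1)
      have hy : IsExc (a (u 2)) := isExc_map ha (hue 2)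
      have hx0 : form E₀ (a (u 1)) = 0 := by
        have := ha.1 E₀ (u 1)
        rw [haE] at this
        rw [this, hk1]
      have haS : a (u 0) + a (u 1) + a (u 2) = E₀ - 2 • canon 8 := by
        rw [← map_add, ← map_add, hSu, map_sub, map_nsmul, haE, ha.2]
      have hyeq : a (u 2) = E₀ - (canon 8 + canon 8) - e₇ - a (u 1) := by
        rw [ha0, two_nsmul] at haS
        rw [← haS]
        abel
      have hz : form e₇ (a (u 1)) = 1 := by
        have hyy := hy.1
        rw [hyeq] at hyy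
        simp only [form_sub_left, form_sub_right, form_add_left, form_add_right] at hyy
        have q1 : form (a (u 1)) E₀ = 0 := by rw [form_comm]; exact hx0
        have q2 : form (a (u 1)) (canon 8) = -1 := by rw [form_comm]; exact hx.2
        have q3 := hx.2
        have q4 := hx.1
        have q5 : form (a (u 1)) e₇ = form e₇ (a (u 1)) := form_comm _ _
        have q6 : form E₀ (canon 8) = -1 := by rw [form_comm]; exact c2
        have q7 : form e₇ E₀ = 0 := by rw [form_comm]; exact c4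
        have q8 : form e₇ (canon 8) = -1 := by rw [form_comm]; exact c5
        linarith
      obtain ⟨b, hb, hbE, hb7, hbM⟩ := exc_stage3 (a (u 1)) hx hx0 hz
      have hG : IsWeyl (a.trans b) := isWeyl_trans ha hb
      have hGE : (a.trans b) E₀ = E₀ := by
        show b (a E₀) = E₀
        rw [haE, hbE]
      refine finish _ hG hGE 3 ?_ ?_
      · show b (a (u 0)) = R 3 0
        rw [ha0, hb7]
        rfl
      · show b (a (u 1)) = R 3 1
        apply toL_injective
        rw [hbM, R, toL_ofL _ (RL_ok 3 1).1]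
        rfl

end Groth.Agent.S15910
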