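import Groth.Statements.S15931
import Mathlib
import Groth.Agent.H90.BMGeom2

set_option autoImplicit false
universe u
open CategoryTheory AlgebraicGeometry Opposite
open BMCoh

namespace Groth.Agent.S15931

/-- Let T be a twisted Borel–Moore cohomology theory with coefficients in A (a full subcategory of
R-modules containing R) on a constructible class V of Noetherian schemes, X an object of V and j a
natural number; H^i(F_kX, M(n)) denotes the colimit of H^i(U, M(n)) over the open subschemes U of X
containing every point of codimension at most k (codimension of a point = dim X minus the dimension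
of its closure), and H^i(x, M(n)) the group of a point x (colimit over the nonempty opens of its
reduced closure). A push-forward datum for X at level j consists of maps ι_x : H^i(x, M(n)) →
H^{i+2j}(F_jX, M(n+j)) for every point x of codimension j, every coefficient module M and all i, n,
such that for every open U of X containing the points of codimension at most j (of the dimension of
X), every nonempty open W of the reduced closure of x (of its dimension) and every proper morphism f
: W → U compatible with the two inclusions into X, the composite H^i(W) → H^i(x) → H^{i+2j}(F_jX) is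
the push-forward along f followed by the canonical map from H^{i+2j}(U). There is at most one such
datum. -/
theorem result (V : ObjectProperty Scheme.{u}) [BMCoh.IsConstructible V] (R : Type u) [CommRing R] (A : BMCoh.Coefs R) (T : BMCoh.TheoryOn V R A) (X : BMCoh.Obj V) (j : ℕ) : Subsingleton (T.PushData X j) := by
  constructor
  intro P P'
  have hext : ∀ {P P' : T.PushData X j}, P.cpt = P'.cpt → P = P' := by
    intro P P' h
    cases P; cases P'; cases h; rfl
  apply hext
  funext x M i n i' n' hi hn
  refine Groth.Agent.H90.ocolim_hom_ext T.toPreTheory (X.ptSub x.1) _ i n M _ _ (fun W => ?_)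
  -- the open of X with trace W
  have hcont : ContainsFj X j (Groth.Agent.H90.Uof X x.1 W.1) := fun y hy =>
    Groth.Agent.H90.mem_Uof_of_codim_le X x.1 W.1 W.2.1 y (by rw [x.2]; exact hy)
  have hdim : WeilCoh.dim ((Groth.Agent.H90.Uof X x.1 W.1 : X.scheme.Opens) : Scheme.{u})
      = WeilCoh.dim X.scheme :=
    Groth.Agent.H90.dim_opens_of_codim_zero X _ fun y hy => hcont y (by omega)
  let U : Idx X (ContainsFj X j) := ⟨Groth.Agent.H90.Uof X x.1 W.1, hcont, hdim⟩
  have hWW : Groth.Agent.H90.Wof X x.1 U.1 = W.1 := Groth.Agent.H90.Wof_Uof X x.1 W.1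
  have hW'ne : ((Groth.Agent.H90.Wof X x.1 U.1 : (X.ptSub x.1).scheme.Opens) :
      Set (X.ptSub x.1).scheme).Nonempty := by rw [hWW]; exact W.2.1
  let W' : ptIdx X x.1 := ⟨Groth.Agent.H90.Wof X x.1 U.1, hW'ne, by rw [hWW]; exact W.2.2⟩
  have hW'W : W' = W := Subtype.ext hWW
  have hrel := Groth.Agent.H90.relCodim_fOf X x.1 U.1 hdim hW'ne
  have hi' : i' = i + 2 * relCodim ((X.ptSub x.1).res W'.1).scheme (X.res U.1).scheme := by
    rw [hrel, x.2]; exact hi
  have hn' : n' = n + relCodim ((X.ptSub x.1).res W'.1).scheme (X.res U.1).scheme := by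
    rw [hrel, x.2]; exact hn
  have h1 := P.cpt_spec x M i n i' n' hi hn U W' (Groth.Agent.H90.fOf X x.1 U.1)
    (Groth.Agent.H90.fOf_ι X x.1 U.1) hi' hn'
  have h2 := P'.cpt_spec x M i n i' n' hi hn U W' (Groth.Agent.H90.fOf X x.1 U.1)
    (Groth.Agent.H90.fOf_ι X x.1 U.1) hi' hn'
  have h3 : (T.ptι X x.1 i n W').app M ≫ P.cpt x M i n i' n' hi hn
      = (T.ptι X x.1 i n W').app M ≫ P'.cpt x M i n i' n' hi hn := h1.trans h2.symm
  rw [hW'W] at h3
  exact h3

end Groth.Agent.S15931
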