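import Groth.Statements.S15932
import Groth.Agent.H79.BMPiece

set_option autoImplicit false
universe u
open CategoryTheory AlgebraicGeometry Opposite
open BMCoh

namespace Groth.Agent.S15932

/-- Let T be a twisted Borel–Moore cohomology theory with coefficients in A (a full subcategory of
R-modules containing R) on a constructible class V of Noetherian schemes, X an object of V and j a
natural number; H^i(F_kX, M(n)) denotes the colimit of H^i(U, M(n)) over the open subschemes U of X
containing every point of codimension at most k (codimension of a point = dim X minus the dimension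
of its closure), and H^i(x, M(n)) the group of a point x (colimit over the nonempty opens of its
reduced closure). A residue datum for X at level j consists of maps ∂_x : H^i(F_jX, M(n)) →
H^{i'}(x, M(n')), (i', n') = (i + 1 − 2(j+1), n − (j+1)), for every point x of codimension j + 1,
every coefficient module M and all i, n, each class having only finitely many nonzero ∂_x, such
that: for every object Y with a morphism of V into X, every decomposition of Y into a closed part Z
and an open complement U' of the dimension of Y, every nonempty open W of the reduced closure of x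
(of its dimension) with a morphism of V into Z over X, and every open U of X containing the points
of codimension at most j (of the dimension of X) with a morphism of V into U' over X, the composite
H^i(U') → H^i(U) → H^i(F_jX) → H^{i'}(x) equals the residue map of the decomposition followed by
restriction to W and the canonical map H^{i'}(W) → H^{i'}(x). There is at most one such datum. -/
theorem result (V : ObjectProperty Scheme.{u}) [BMCoh.IsConstructible V] (R : Type u) [CommRing R] (A : BMCoh.Coefs R) (T : BMCoh.TheoryOn V R A) (X : BMCoh.Obj V) (j : ℕ) : Subsingleton (T.ResData X j) := by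
  constructor
  intro Q Q'
  have hcpt : Q.cpt = Q'.cpt := by
    funext x M i n i' n' hi hn
    apply (Groth.Agent.H79.BMCore.cIsColimit T.toPreTheory X (BMCoh.ContainsFj X j) i n M).hom_ext
    intro Uop
    obtain ⟨Y, U₀, hU₀U, hU₀Y, hxY, hF, hcompl, -⟩ :=
      Groth.Agent.H79.BMPiece.exists_piece X j x.1 x.2 Uop.unop.1 Uop.unop.2.1
    have hdU₀ : WeilCoh.dim (U₀ : Scheme.{u}) = WeilCoh.dim X.scheme :=
      Groth.Agent.H79.BMGeom.dim_eq_of_containsFj X j U₀ hF
    have hFY : BMCoh.ContainsFj X j Y := fun y hy => hU₀Y (hF y hy)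
    have hdY : WeilCoh.dim (Y : Scheme.{u}) = WeilCoh.dim X.scheme :=
      Groth.Agent.H79.BMGeom.dim_eq_of_containsFj X j Y hFY
    have hcompl' : ∀ y : X.scheme, y ∈ Y → (y ∈ U₀ ↔ y ∉ Set.range (X.ptSubι x.1)) := by
      rw [Groth.Agent.H79.BMGeom.range_ptSubι]; exact hcompl
    let D := Groth.Agent.H79.BMPiece.gDecomp (X.ptSubι x.1) Y U₀ hU₀Y (hdU₀.trans hdY.symm) hcompl'
    have hcod : D.codim = ((j : ℤ) + 1) := by
      rw [Groth.Agent.H79.BMPiece.gDecomp_codim_ptSub X x.1 Y U₀ _ _ _ hdY hxY, x.2]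
      push_cast; ring
    let e : X.res Y ⟶ X := X.resι Y hdY
    have hW : (((X.ptSubι x.1) ⁻¹ᵁ Y : (X.ptSub x.1).scheme.Opens) : Set _).Nonempty :=
      ⟨Groth.Agent.H79.BMGeom.ptGen X x.1, by
        show X.ptSubι x.1 (Groth.Agent.H79.BMGeom.ptGen X x.1) ∈ Y
        rw [Groth.Agent.H79.BMGeom.ptSubι_ptGen]; exact hxY⟩
    let W : BMCoh.ptIdx X x.1 := Groth.Agent.H79.BMCore.ptIdxMk X x.1 _ hW
    let U₀i : BMCoh.Idx X (BMCoh.ContainsFj X j) := ⟨U₀, hF, hdU₀⟩
    have hiD : i' = i + 1 - 2 * D.codim := by rw [hcod]; exact hi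
    have hnD : n' = n - D.codim := by rw [hcod]; exact hn
    have hg : (𝟙 ((X.ptSub x.1).res W.1) : (X.ptSub x.1).res W.1 ⟶ D.Z).hom ≫ D.i ≫ e.hom =
        W.1.ι ≫ X.ptSubι x.1 := by
      show 𝟙 _ ≫ ((X.ptSubι x.1) ∣_ Y) ≫ Y.ι = _
      rw [Category.id_comp, morphismRestrict_ι]
      rfl
    have hh : (𝟙 (X.res U₀i.1) : X.res U₀i.1 ⟶ D.U).hom ≫ D.j.hom ≫ e.hom = U₀i.1.ι := by
      show 𝟙 _ ≫ X.scheme.homOfLE hU₀Y ≫ Y.ι = _
      rw [Category.id_comp, Scheme.homOfLE_ι]
    have s1 := Q.cpt_spec x M i n i' n' hi hn e D W (𝟙 _) hg U₀i (𝟙 _) hh hiD hnD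
    have s2 := Q'.cpt_spec x M i n i' n' hi hn e D W (𝟙 _) hg U₀i (𝟙 _) hh hiD hnD
    have s3 := s1.trans s2.symm
    have hid : T.pull (𝟙 (X.res U₀i.1)) M i n = 𝟙 _ := by
      show ((T.H i n).map (𝟙 (X.res U₀i.1)).op).app M = _
      rw [CategoryTheory.op_id, CategoryTheory.Functor.map_id, NatTrans.id_app]
    have e1 : ∀ {N : ModuleCat.{u} R} (φ : T.gp (X.res U₀i.1) M i n ⟶ N),
        T.pull (𝟙 (X.res U₀i.1)) M i n ≫ φ = φ := by
      intro N φ; rw [hid, Category.id_comp]
    have s4 : (T.fjι X j i n U₀i).app M ≫ Q.cpt x M i n i' n' hi hn =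
        (T.fjι X j i n U₀i).app M ≫ Q'.cpt x M i n i' n' hi hn :=
      (e1 _).symm.trans (s3.trans (e1 _))
    have hle : U₀i ≤ Uop.unop := hU₀U
    have hnat := (Groth.Agent.H79.BMCore.cCocone T.toPreTheory X (BMCoh.ContainsFj X j) i n M).w
      (homOfLE hle).op
    rw [← hnat, Category.assoc, Category.assoc]
    exact congrArg (fun φ => _ ≫ φ) s4
  obtain ⟨c, s, f⟩ := Q
  obtain ⟨c', s', f'⟩ := Q'
  dsimp only at hcpt
  subst hcpt
  rfl

end Groth.Agent.S15932
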