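import Groth.Statements.S15939
import Mathlib

set_option autoImplicit false
universe u
open CAlg

namespace Groth.Agent.S15939

open Polynomial in
/-- Let κ be a field and A a commutative κ-algebra whose only κ-subalgebras are the image of κ and A
itself, these two being different. Then A is finite-dimensional over κ, and A is isomorphic as a
κ-algebra to the dual numbers over κ, or to κ × κ, or A is a field which is either separable over κ
or isomorphic to κ[X]/(X^p - a) with p the (positive) characteristic of κ and a an element of κ that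
is not a p-th power. (The published statement also records that these four cases exclude one
another; that part is not restated.) -/
theorem result (κ A : Type u) [Field κ] [CommRing A] [Algebra κ A]
    (h : IsSimpleOrder (Subalgebra κ A)) :
    FiniteDimensional κ A ∧
    (Nonempty (A ≃ₐ[κ] DualNumber κ) ∨ Nonempty (A ≃ₐ[κ] (κ × κ)) ∨
      (IsField A ∧ (Algebra.IsSeparable κ A ∨
        ∃ (p : ℕ) (a : κ), p.Prime ∧ CharP κ p ∧ (∀ b : κ, b ^ p ≠ a) ∧
          Nonempty (A ≃ₐ[κ] AdjoinRoot (X ^ p - C a))))) := by
  classical
  have hnt : (⊥ : Subalgebra κ A) ≠ ⊤ := bot_ne_top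
  have htop : ∀ x : A, x ∉ (⊥ : Subalgebra κ A) → Algebra.adjoin κ {x} = ⊤ := by
    intro x hx
    rcases eq_bot_or_eq_top (Algebra.adjoin κ {x}) with h1 | h1
    · exfalso
      apply hx
      rw [← h1]
      exact Algebra.subset_adjoin (Set.mem_singleton x)
    · exact h1
  have hrep : ∀ x : A, x ∉ (⊥ : Subalgebra κ A) → ∀ u : A, ∃ g : κ[X], aeval x g = u := by
    intro x hx u
    have hmem : u ∈ Algebra.adjoin κ {x} := by
      rw [htop x hx]
      exact Algebra.mem_top
    rw [Algebra.adjoin_singleton_eq_range_aeval] at hmem
    exact hmem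
  obtain ⟨x0, hx0⟩ : ∃ x0 : A, x0 ∉ (⊥ : Subalgebra κ A) := by
    by_contra hcon
    apply hnt
    apply eq_top_iff.mpr
    intro x _
    by_contra hx
    exact hcon ⟨x, hx⟩
  have hnontriv : Nontrivial A := by
    refine ⟨⟨x0, 0, ?_⟩⟩
    intro h0
    apply hx0
    rw [h0]
    exact zero_mem _
  have hinjalg : Function.Injective (algebraMap κ A) := (algebraMap κ A).injective
  have halg : ∀ x : A, x ∉ (⊥ : Subalgebra κ A) → IsIntegral κ x := by
    intro x hx
    apply IsAlgebraic.isIntegral
    by_cases h2 : x ^ 2 ∈ (⊥ : Subalgebra κ A)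
    · rw [Algebra.mem_bot] at h2
      obtain ⟨c, hc⟩ := h2
      refine ⟨X ^ 2 - C c, ?_, ?_⟩
      · exact (monic_X_pow_sub_C c (by norm_num)).ne_zero
      · simp [hc]
    · obtain ⟨g, hg⟩ := hrep (x ^ 2) h2 x
      refine ⟨X - expand κ 2 g, ?_, ?_⟩
      · intro h0
        have h1 := congrArg (fun q => q.coeff 1) h0
        simp [coeff_expand] at h1
      · rw [map_sub, aeval_X, expand_aeval, hg, sub_self]
  have hfd : FiniteDimensional κ A := by
    have h1 := (halg x0 hx0).fg_adjoin_singleton
    rw [htop x0 hx0, Algebra.top_toSubmodule] at h1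
    exact Module.finite_def.mpr h1
  refine ⟨hfd, ?_⟩
  have hunit_of_bot : ∀ u : A, u ≠ 0 → u ∈ (⊥ : Subalgebra κ A) → ∃ b, u * b = 1 := by
    intro u hu hmem
    rw [Algebra.mem_bot] at hmem
    obtain ⟨c, rfl⟩ := hmem
    have hc : c ≠ 0 := by
      rintro rfl
      exact hu (map_zero _)
    exact ⟨algebraMap κ A c⁻¹, by rw [← map_mul, mul_inv_cancel₀ hc, map_one]⟩
  by_cases hF : IsField A
  · -- field case
    right
    right
    refine ⟨hF, ?_⟩
    have : IsDomain A := hF.isDomain
    by_cases hsep : Algebra.IsSeparable κ A
    · left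
      exact hsep
    · right
      have hexx : ∃ x : A, ¬ IsSeparable κ x := by
        by_contra hcon
        apply hsep
        rw [Algebra.isSeparable_def]
        intro x
        by_contra hx
        exact hcon ⟨x, hx⟩
      obtain ⟨x, hxsep⟩ := hexx
      have hxbot : x ∉ (⊥ : Subalgebra κ A) := by
        intro hmem
        rw [Algebra.mem_bot] at hmem
        obtain ⟨c, rfl⟩ := hmem
        exact hxsep (isSeparable_algebraMap c)
      have hxint := halg x hxbot
      have hirr : Irreducible (minpoly κ x) := minpoly.irreducible hxint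
      obtain ⟨p, hp⟩ := CharP.exists κ
      rcases CharP.char_is_prime_or_zero κ p with hpp | hp0
      swap
      · exfalso
        subst hp0
        have : CharZero κ := CharP.charP_to_charZero κ
        exact hxsep hirr.separable
      rcases Polynomial.separable_or p hirr with hs | ⟨-, g, -, hg⟩
      · exact absurd hs hxsep
      have hpcast : ((p : ℕ) : κ[X]) = 0 := by
        rw [← C_eq_natCast, CharP.cast_eq_zero κ p, C_0]
      have hderiv : ∀ q : κ[X], derivative (expand κ p q) = 0 := by
        intro q
        rw [derivative_expand, hpcast, zero_mul, mul_zero]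
      have hxp : x ^ p ∈ (⊥ : Subalgebra κ A) := by
        by_contra hnot
        obtain ⟨h, hh⟩ := hrep (x ^ p) hnot x
        have hq : aeval x (X - expand κ p h) = 0 := by
          rw [map_sub, aeval_X, expand_aeval, hh, sub_self]
        obtain ⟨r, hr⟩ := minpoly.dvd κ x hq
        have hd := congrArg derivative hr
        rw [derivative_sub, derivative_X, hderiv, sub_zero, derivative_mul, ← hg, hderiv,
          zero_mul, zero_add] at hd
        exact hirr.not_isUnit (by rw [← hg]; exact IsUnit.of_mul_eq_one _ hd.symm)
      rw [Algebra.mem_bot] at hxp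
      obtain ⟨a, ha⟩ := hxp
      have : CharP A p := charP_of_injective_algebraMap hinjalg p
      have : Fact p.Prime := ⟨hpp⟩
      have hanp : ∀ b : κ, b ^ p ≠ a := by
        intro b hb
        apply hxbot
        rw [Algebra.mem_bot]
        refine ⟨b, ?_⟩
        have h1 : (x - algebraMap κ A b) ^ p = 0 := by
          rw [sub_pow_char, ← map_pow, hb, ha, sub_self]
        have h2 := pow_eq_zero_iff (Nat.Prime.ne_zero hpp) |>.mp h1
        exact (sub_eq_zero.mp h2).symm
      have hirr2 : Irreducible (X ^ p - C a) := X_pow_sub_C_irreducible_of_prime hpp hanp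
      have : Fact (Irreducible (X ^ p - C a)) := ⟨hirr2⟩
      obtain ⟨φ, hφ⟩ : ∃ φ : AdjoinRoot (X ^ p - C a) →ₐ[κ] A, φ (AdjoinRoot.root _) = x :=
        ⟨AdjoinRoot.liftAlgHom (X ^ p - C a) (Algebra.ofId κ A) x (by
          simp [Polynomial.eval₂_sub, Polynomial.eval₂_pow, ha]),
          AdjoinRoot.liftAlgHom_root _ _ _ _⟩
      have hφinj : Function.Injective φ := φ.toRingHom.injective
      have hφsurj : Function.Surjective φ := by
        rw [← AlgHom.range_eq_top]
        rcases eq_bot_or_eq_top φ.range with h1 | h1
        · exfalso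
          apply hxbot
          rw [← h1, ← hφ]
          exact AlgHom.mem_range_self φ _
        · exact h1
      exact ⟨p, a, hpp, hp, hanp, ⟨(AlgEquiv.ofBijective φ ⟨hφinj, hφsurj⟩).symm⟩⟩
  · -- non-field case
    have hex : ∃ z : A, z ≠ 0 ∧ ∀ b, z * b ≠ 1 := by
      by_contra hcon
      apply hF
      refine ⟨exists_pair_ne A, mul_comm, ?_⟩
      intro a ha
      by_contra hb
      apply hcon
      exact ⟨a, ha, fun b hb' => hb ⟨b, hb'⟩⟩
    obtain ⟨z, hz0, hzu⟩ := hex
    have hnotsurj : ¬ Function.Surjective (LinearMap.mulLeft κ z) := by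
      intro hs
      obtain ⟨b, hb⟩ := hs 1
      exact hzu b hb
    have hnotinj : ¬ Function.Injective (LinearMap.mulLeft κ z) :=
      fun hi => hnotsurj (LinearMap.injective_iff_surjective.mp hi)
    obtain ⟨w, hw0, hzw⟩ : ∃ w : A, w ≠ 0 ∧ z * w = 0 := by
      by_contra hcon
      apply hnotinj
      rw [← LinearMap.ker_eq_bot, LinearMap.ker_eq_bot']
      intro m hm
      by_contra hm0
      exact hcon ⟨m, hm0, hm⟩
    have hzbot : z ∉ (⊥ : Subalgebra κ A) := by
      intro hmem
      obtain ⟨b, hb⟩ := hunit_of_bot z hz0 hmem
      exact hzu b hb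
    have hwbot : w ∉ (⊥ : Subalgebra κ A) := by
      intro hmem
      obtain ⟨b, hb⟩ := hunit_of_bot w hw0 hmem
      apply hz0
      calc z = z * (w * b) := by rw [hb, mul_one]
        _ = (z * w) * b := by ring
        _ = 0 := by rw [hzw, zero_mul]
    obtain ⟨h, hh⟩ := hrep z hzbot w
    have hkey : ∀ g : κ[X], aeval z g * w = algebraMap κ A (g.coeff 0) * w := by
      intro g
      conv_lhs => rw [← Polynomial.divX_mul_X_add g]
      simp only [map_add, map_mul, aeval_X, aeval_C]
      rw [add_mul, mul_assoc, hzw, mul_zero, zero_add]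
    obtain ⟨c, hc⟩ : ∃ c : κ, w * w = c • w := by
      refine ⟨h.coeff 0, ?_⟩
      calc w * w = aeval z h * w := by rw [hh]
        _ = algebraMap κ A (h.coeff 0) * w := hkey h
        _ = h.coeff 0 • w := by rw [Algebra.smul_def]
    have hwpow : ∀ n : ℕ, w ^ (n + 1) = c ^ n • w := by
      intro n
      induction n with
      | zero => simp
      | succ n ih => rw [pow_succ, ih, smul_mul_assoc, hc, smul_smul, pow_succ]
    have hrep2 : ∀ u : A, ∃ a b : κ, u = algebraMap κ A a + b • w := by
      intro u
      obtain ⟨g, rfl⟩ := hrep w hwbot u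
      induction g using Polynomial.induction_on' with
      | add p q hp hq =>
        obtain ⟨a1, b1, h1⟩ := hp
        obtain ⟨a2, b2, h2⟩ := hq
        refine ⟨a1 + a2, b1 + b2, ?_⟩
        rw [map_add, h1, h2, map_add, add_smul]
        abel
      | monomial n a =>
        cases n with
        | zero => exact ⟨a, 0, by simp⟩
        | succ n =>
          refine ⟨0, a * c ^ n, ?_⟩
          rw [aeval_monomial, hwpow, map_zero, zero_add, Algebra.smul_def, Algebra.smul_def,
            map_mul, mul_assoc]
    have hindep : ∀ a b : κ, algebraMap κ A a + b • w = 0 → a = 0 ∧ b = 0 := by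
      intro a b hab
      by_cases hb : b = 0
      · subst hb
        rw [zero_smul, add_zero] at hab
        exact ⟨hinjalg (by rw [hab, map_zero]), rfl⟩
      · exfalso
        apply hwbot
        rw [Algebra.mem_bot]
        refine ⟨-(b⁻¹ * a), ?_⟩
        have h1 : b • w = -(algebraMap κ A a) := eq_neg_of_add_eq_zero_right hab
        calc algebraMap κ A (-(b⁻¹ * a)) = b⁻¹ • (-(algebraMap κ A a)) := by
              rw [Algebra.smul_def, map_neg, map_mul, mul_neg]
          _ = b⁻¹ • (b • w) := by rw [h1]
          _ = w := inv_smul_smul₀ hb w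
    by_cases hc0 : c = 0
    · -- dual numbers
      left
      have hww : w * w = 0 := by rw [hc, hc0, zero_smul]
      obtain ⟨ψ, hψ⟩ : ∃ ψ : DualNumber κ →ₐ[κ] A, ∀ u, ψ u =
          algebraMap κ A (TrivSqZeroExt.fst u) + (TrivSqZeroExt.snd u) • w :=
        ⟨{ toFun := fun u => algebraMap κ A (TrivSqZeroExt.fst u) + (TrivSqZeroExt.snd u) • w
           map_one' := by simp
           map_mul' := by
             intro u v
             simp only [TrivSqZeroExt.fst_mul, TrivSqZeroExt.snd_mul, map_mul, smul_eq_mul,
               MulOpposite.smul_eq_mul_unop, MulOpposite.unop_op, Algebra.smul_def, map_add]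
             linear_combination (-(algebraMap κ A (TrivSqZeroExt.snd u) *
               algebraMap κ A (TrivSqZeroExt.snd v))) * hww
           map_zero' := by simp
           map_add' := by
             intro u v
             simp only [TrivSqZeroExt.fst_add, TrivSqZeroExt.snd_add, map_add, add_smul]
             abel
           commutes' := by
             intro r
             show algebraMap κ A (TrivSqZeroExt.fst (algebraMap κ (DualNumber κ) r)) +
               (TrivSqZeroExt.snd (algebraMap κ (DualNumber κ) r)) • w = algebraMap κ A r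
             rw [TrivSqZeroExt.algebraMap_eq_inl, TrivSqZeroExt.fst_inl, TrivSqZeroExt.snd_inl,
               zero_smul, add_zero] }, fun u => rfl⟩
      have hψinj : Function.Injective ψ := by
        rw [injective_iff_map_eq_zero]
        intro u hu
        rw [hψ] at hu
        obtain ⟨h1, h2⟩ := hindep _ _ hu
        exact TrivSqZeroExt.ext h1 h2
      have hψsurj : Function.Surjective ψ := by
        intro u
        obtain ⟨a, b, rfl⟩ := hrep2 u
        refine ⟨TrivSqZeroExt.inl a + TrivSqZeroExt.inr b, ?_⟩
        rw [hψ]
        simp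
      exact ⟨(AlgEquiv.ofBijective ψ ⟨hψinj, hψsurj⟩).symm⟩
    · -- κ × κ
      right
      left
      obtain ⟨e, he_def⟩ : ∃ e : A, e = c⁻¹ • w := ⟨_, rfl⟩
      have he : e * e = e := by
        rw [he_def, smul_mul_smul_comm, hc, smul_smul, mul_assoc, inv_mul_cancel₀ hc0, mul_one]
      obtain ⟨ψ, hψ⟩ : ∃ ψ : (κ × κ) →ₐ[κ] A, ∀ u : κ × κ, ψ u = u.1 • (1 - e) + u.2 • e :=
        ⟨{ toFun := fun u => u.1 • (1 - e) + u.2 • e
           map_one' := by simp
           map_mul' := by
             intro u v
             simp only [Prod.fst_mul, Prod.snd_mul, Algebra.smul_def, map_mul]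
             linear_combination (-(algebraMap κ A u.1 * algebraMap κ A v.1) -
               algebraMap κ A u.2 * algebraMap κ A v.2 + algebraMap κ A u.1 * algebraMap κ A v.2 +
               algebraMap κ A u.2 * algebraMap κ A v.1) * he
           map_zero' := by simp
           map_add' := by
             intro u v
             simp only [Prod.fst_add, Prod.snd_add, add_smul]
             abel
           commutes' := by
             intro r
             simp only [Prod.algebraMap_apply, Algebra.algebraMap_self, RingHom.id_apply]
             rw [← smul_add, sub_add_cancel, Algebra.algebraMap_eq_smul_one] }, fun u => rfl⟩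
      have hψinj : Function.Injective ψ := by
        rw [injective_iff_map_eq_zero]
        intro u hu
        rw [hψ, he_def] at hu
        have h1 : algebraMap κ A u.1 + ((u.2 - u.1) * c⁻¹) • w = 0 := by
          rw [← hu]
          simp only [Algebra.smul_def, map_mul, map_sub]
          ring
        obtain ⟨h2, h3⟩ := hindep _ _ h1
        have h4 : u.2 - u.1 = 0 := by
          rcases mul_eq_zero.mp h3 with h | h
          · exact h
          · exact absurd (inv_eq_zero.mp h) hc0
        apply Prod.ext
        · exact h2
        · rw [sub_eq_zero] at h4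
          rw [h4]
          exact h2
      have hψsurj : Function.Surjective ψ := by
        intro u
        obtain ⟨a, b, rfl⟩ := hrep2 u
        refine ⟨(a, a + b * c), ?_⟩
        rw [hψ, he_def]
        simp only [Algebra.smul_def, map_mul, map_add]
        have hcc : algebraMap κ A c * algebraMap κ A c⁻¹ = 1 := by
          rw [← map_mul, mul_inv_cancel₀ hc0, map_one]
        linear_combination (algebraMap κ A b * w) * hcc
      exact ⟨(AlgEquiv.ofBijective ψ ⟨hψinj, hψsurj⟩).symm⟩

end Groth.Agent.S15939
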