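import Groth.Statements.S15941
import Mathlib.Tactic.Ring
import Mathlib.Tactic.LinearCombination

set_option autoImplicit false
universe u
open HTop

namespace Groth.Agent.S15941

/-- An integrally closed integral domain is a seminormal ring, that is, whenever x^3 = y^2 there is
exactly one element a with x = a^2 and y = a^3. (The published statement is for a normal Noetherian
scheme and reduces at once to this affine integral case; the Noetherian hypothesis plays no role.) -/
theorem result (A : Type u) [CommRing A] [IsDomain A]
    [IsIntegrallyClosed A] : HTop.IsSeminormalRing A := by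
  intro x y h
  by_cases hx : x = 0
  · subst hx
    have hy : y = 0 := by
      have : y ^ 2 = 0 := by rw [← h]; ring
      exact pow_eq_zero_iff (two_ne_zero) |>.mp this
    subst hy
    refine ⟨0, ⟨by ring, by ring⟩, ?_⟩
    rintro b ⟨hb, -⟩
    exact (pow_eq_zero_iff (two_ne_zero)).mp hb.symm
  · have hdvd : x ^ 2 ∣ y ^ 2 := ⟨x, by rw [← h]; ring⟩
    rw [IsIntegrallyClosed.pow_dvd_pow_iff (two_ne_zero)] at hdvd
    obtain ⟨a, rfl⟩ := hdvd
    have hx2 : x ^ 2 ≠ 0 := pow_ne_zero 2 hx
    have hxa : x = a ^ 2 := by
      have : x ^ 2 * x = x ^ 2 * a ^ 2 := by linear_combination h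
      exact mul_left_cancel₀ hx2 this
    refine ⟨a, ⟨hxa, ?_⟩, ?_⟩
    · rw [hxa]; ring
    · rintro b ⟨hb1, hb2⟩
      have : x * b = x * a := by
        calc x * b = b ^ 2 * b := by rw [← hb1]
          _ = b ^ 3 := by ring
          _ = x * a := hb2.symm
      exact mul_left_cancel₀ hx this

end Groth.Agent.S15941
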