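import Groth.Statements.S15958
import Groth.Agent.H40.FpqcDesc3
import Groth.Agent.H40.KerSquare
import Groth.Agent.H40.LocSurj
import Groth.Agent.H24.LimIso
import Groth.Agent.H27.OverPullback

set_option autoImplicit false
universe u
open Neron

namespace Groth.Agent.S15958

open CategoryTheory AlgebraicGeometry MonObj in
/-- Let S be a Dedekind scheme (integral, Noetherian, separated, of dimension one, with regular local
rings) with generic point η : Spec K → S, and let G', G and G'' be smooth separated group schemes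
over S sitting in a short exact sequence 0 → G' → G → G'' → 0: i : G' → G and q : G → G'' are
homomorphisms, i identifies G' with the kernel of q, and q is flat and surjective. If G' and G'' are
Néron lft-models of their generic fibres (for every smooth S-scheme Y, restriction to η is a
bijection from S-morphisms into them onto K-morphisms of generic fibres), then so is G. -/
theorem result
    {S : Scheme.{u}} [IsIntegral S] [IsNoetherian S] [S.IsSeparated]
    (hreg : ∀ s : S, IsRegularLocalRing (S.presheaf.stalk s)) (hdim : topologicalKrullDim S = 1)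
    (G' G G'' : Over S) [GrpObj G'] [GrpObj G] [GrpObj G'']
    [Smooth G'.hom] [IsSeparated G'.hom] [Smooth G.hom] [IsSeparated G.hom] [Smooth G''.hom] [IsSeparated G''.hom]
    (i : G' ⟶ G) (q : G ⟶ G'') [IsMonHom i] [IsMonHom q]
    (hker : AlgGrp.IsKernel i q) [Flat q.left] [Surjective q.left]
    (hG' : ∀ Y : Over S, Smooth Y.hom →
        Function.Bijective (fun g : Y ⟶ G' => (Over.pullback (S.fromSpecStalk (genericPoint S))).map g))
    (hG'' : ∀ Y : Over S, Smooth Y.hom →
        Function.Bijective (fun g : Y ⟶ G'' => (Over.pullback (S.fromSpecStalk (genericPoint S))).map g)) :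
    ∀ Y : Over S, Smooth Y.hom →
        Function.Bijective (fun g : Y ⟶ G => (Over.pullback (S.fromSpecStalk (genericPoint S))).map g) := by
  open Groth.Agent.H40.FpqcFam MonoidalCategory CartesianMonoidalCategory Limits in
  intro Y hY
  set F := Over.pullback (S.fromSpecStalk (genericPoint S)) with hF
  have hpb := Groth.Agent.H40.KerSquare.isPullback_fst_mul_of_isKernel i q hker
  -- injectivity, for every smooth test scheme
  have INJ : ∀ (Z : Over S), Smooth Z.hom → ∀ g₁ g₂ : Z ⟶ G, F.map g₁ = F.map g₂ → g₁ = g₂ := by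
    intro Z hZ g₁ g₂ h12
    have hq12 : g₁ ≫ q = g₂ ≫ q := by
      apply (hG'' Z hZ).1
      change F.map (g₁ ≫ q) = F.map (g₂ ≫ q)
      rw [F.map_comp, F.map_comp, h12]
    obtain ⟨n, hn⟩ := exact_diff hpb g₁ g₂ hq12
    have hℓ : F.map (lift g₁ n) = F.map (lift g₁ (1 : Z ⟶ G')) := by
      apply (hpb.map F).hom_ext
      · rw [← F.map_comp, ← F.map_comp, lift_fst, lift_fst]
      · rw [← F.map_comp, ← F.map_comp, lift_whiskerLeft_assoc, lift_whiskerLeft_assoc,
          ← Hom.mul_def, ← Hom.mul_def, ← hn, MonObj.one_comp, _root_.mul_one, h12]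
    have hn1 : n = 1 := by
      apply (hG' Z hZ).1
      change F.map n = F.map 1
      have := congrArg (fun m => m ≫ F.map (snd G G')) hℓ
      simp only [← F.map_comp, lift_snd] at this
      exact this
    rw [hn, hn1, MonObj.one_comp, _root_.mul_one]
  refine ⟨fun g₁ g₂ h => INJ Y hY g₁ g₂ h, ?_⟩
  intro φ
  obtain ⟨v, hv⟩ := (hG'' Y hY).2 (φ ≫ F.map q)
  have hv' : F.map v = φ ≫ F.map q := hv
  have hqlfp : LocallyOfFinitePresentation q.left := by
    have : LocallyOfFinitePresentation (q.left ≫ G''.hom) := by rw [Over.w]; infer_instance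
    exact Groth.Agent.H24.locallyOfFinitePresentation_of_comp q.left G''.hom
  have hqsm : Smooth q.left := by
    have hsq := hpb.map (Over.forget S)
    have hfst : Smooth ((Over.forget S).map (fst G G')) := by
      change Smooth (fst G G').left
      rw [Over.fst_left]
      infer_instance
    exact MorphismProperty.of_isPullback_of_descendsAlong (P := @Smooth)
      (Q := @Surjective ⊓ @Flat ⊓ @LocallyOfFinitePresentation) hsq
      ⟨⟨inferInstanceAs (Surjective q.left), inferInstanceAs (Flat q.left)⟩, hqlfp⟩ hfst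
  obtain ⟨π, hπdef⟩ : ∃ π : Limits.pullback v q ⟶ Y, π = pullback.fst v q := ⟨_, rfl⟩
  obtain ⟨ρ, hρdef⟩ : ∃ ρ : Limits.pullback v q ⟶ G, ρ = pullback.snd v q := ⟨_, rfl⟩
  have hπρ : π ≫ v = ρ ≫ q := by rw [hπdef, hρdef]; exact pullback.condition
  have hsqP : IsPullback π ρ v q := by rw [hπdef, hρdef]; exact IsPullback.of_hasPullback v q
  have hsqPS : IsPullback π.left ρ.left v.left q.left := hsqP.map (Over.forget S)
  have hπsm : Smooth π.left := MorphismProperty.of_isPullback (P := @Smooth) hsqPS.flip hqsm
  have hπsurj : Surjective π.left :=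
    MorphismProperty.of_isPullback (P := @Surjective) hsqPS.flip inferInstance
  have hPsm : Smooth (Limits.pullback v q).hom := by
    rw [← Over.w π]
    infer_instance
  -- the difference point
  have hcond : (F.map π ≫ φ) ≫ F.map q = F.map ρ ≫ F.map q := by
    rw [Category.assoc, ← hv', ← F.map_comp, ← F.map_comp, hπρ]
  obtain ⟨ψ, hψdef⟩ : ∃ ψ, ψ = (hpb.map F).lift (F.map π ≫ φ) (F.map ρ) hcond := ⟨_, rfl⟩
  have hψ1 : ψ ≫ F.map (fst G G') = F.map π ≫ φ := by
    rw [hψdef]; exact IsPullback.lift_fst _ _ _ _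
  have hψ2 : ψ ≫ F.map ((G ◁ i) ≫ μ[G]) = F.map ρ := by
    rw [hψdef]; exact IsPullback.lift_snd _ _ _ _
  obtain ⟨δ, hδ⟩ := (hG' _ hPsm).2 (ψ ≫ F.map (snd G G'))
  have hδ' : F.map δ = ψ ≫ F.map (snd G G') := hδ
  obtain ⟨w, hwdef⟩ : ∃ w : Limits.pullback v q ⟶ G, w = ρ * (δ ≫ i)⁻¹ := ⟨_, rfl⟩
  have hwact : lift w δ ≫ (G ◁ i) ≫ μ[G] = ρ := by
    rw [lift_whiskerLeft_assoc, ← Hom.mul_def, hwdef]
    group
  have sqR : IsPullback ((G ◁ i) ≫ μ[G]) (snd G G') (toUnit G) (toUnit G') := by
    refine isPullback_of_pts (toUnit_unique _ _) ?_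
    intro T y n _
    refine ⟨lift (y * (n ≫ i)⁻¹) n, ⟨?_, lift_snd _ _⟩, ?_⟩
    · rw [lift_whiskerLeft_assoc, ← Hom.mul_def]
      group
    · rintro p ⟨hp1, hp2⟩
      have hp : p = lift (p ≫ fst G G') (p ≫ snd G G') := by
        apply CartesianMonoidalCategory.hom_ext
        · rw [lift_fst]
        · rw [lift_snd]
      have hpm : (p ≫ fst G G') * ((p ≫ snd G G') ≫ i) = y := by
        rw [Hom.mul_def, ← lift_whiskerLeft_assoc, ← hp, hp1]
      apply CartesianMonoidalCategory.hom_ext
      · rw [lift_fst, ← hpm, hp2]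
        group
      · rw [lift_snd, hp2]
  have hFℓ : F.map (lift w δ) = ψ := by
    apply (sqR.map F).hom_ext
    · rw [← F.map_comp, hwact, hψ2]
    · rw [← F.map_comp, lift_snd, hδ']
  have hFw : F.map w = F.map π ≫ φ := by
    calc F.map w = F.map (lift w δ ≫ fst G G') := by rw [lift_fst]
      _ = ψ ≫ F.map (fst G G') := by rw [F.map_comp, hFℓ]
      _ = F.map π ≫ φ := hψ1
  -- `w` is constant on the fibres of `π`
  have hconst : ∀ (T : Over S) (x x' : T ⟶ Limits.pullback v q), x ≫ π = x' ≫ π →
      x ≫ w = x' ≫ w := by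
    have hP₂sm : Smooth (Limits.pullback π π).hom := by
      have h1 : Smooth (pullback.snd π π).left :=
        MorphismProperty.of_isPullback (P := @Smooth)
          ((IsPullback.of_hasPullback π π).map (Over.forget S)) hπsm
      rw [← Over.w (pullback.snd π π)]
      infer_instance
    have huniv : pullback.fst π π ≫ w = pullback.snd π π ≫ w := by
      apply INJ _ hP₂sm
      rw [F.map_comp, F.map_comp, hFw, ← Category.assoc, ← Category.assoc, ← F.map_comp,
        ← F.map_comp, pullback.condition]
    intro T x x' hxx'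
    calc x ≫ w = (pullback.lift x x' hxx' ≫ pullback.fst π π) ≫ w := by rw [pullback.lift_fst]
      _ = pullback.lift x x' hxx' ≫ pullback.snd π π ≫ w := by rw [Category.assoc, huniv]
      _ = x' ≫ w := by rw [← Category.assoc, pullback.lift_snd]
  -- `π` is an fpqc covering
  have hπflat : Flat π.left := inferInstance
  have hπlfp : LocallyOfFinitePresentation π.left := inferInstance
  have hloc : NonAbH1.IsLocallyTrivialFor Scheme.fpqcPrecoverage
      (Over.mk π.left : Over Y.left) := by
    refine locTriv_of_cov π ⟨_, π.left, 𝟙 _, Category.id_comp _, hπsurj, hπflat, ?_⟩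
    intro V hV
    exact π.left.isOpenMap.exists_opens_image_eq_of_prespectralSpace π.left.continuous
      (fun y _ => π.left.surjective y) V.2 hV.isCompact
  obtain ⟨u, hu⟩ := desc_of_const' hloc w hconst
  refine ⟨u, ?_⟩
  change F.map u = φ
  have hepi : Epi (F.map π) := by
    have h1 : Flat (F.map π).left :=
      Groth.Agent.H27.pullback_map_left_of_stable @Flat _ π hπflat
    have h2 : Surjective (F.map π).left :=
      Groth.Agent.H27.pullback_map_left_of_stable @Surjective _ π hπsurj
    have : Epi (F.map π).left := Flat.epi_of_flat_of_surjective _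
    exact Over.epi_of_epi_left (F.map π)
  rw [← cancel_epi (F.map π), ← F.map_comp, hu, hFw]

end Groth.Agent.S15958
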