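import Groth.Statements.S15961
import Groth.Agent.H69.SecSN

set_option autoImplicit false
universe u
open HTop

namespace Groth.Agent.S15961

open CategoryTheory AlgebraicGeometry in
/-- Let ν : X' → X be a seminormalization of the scheme X (X' seminormal, ν a universal homeomorphism
inducing isomorphisms on residue fields and initial among such morphisms to X) and let U be an open
subscheme of X. Then the restriction of ν over U, ν⁻¹(U) → U, is a seminormalization of U. (The
published lemma also treats U → X a localisation; that case is not restated.) -/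
theorem result {X' X : Scheme.{u}} (ν : X' ⟶ X)
    (hν : HTop.IsSeminormalization ν) (hX' : HTop.IsSeminormal X') (U : X.Opens) :
    HTop.IsSeminormalization (ν ∣_ U) := by
  have hUH : FlatMor.IsUnivHomeo (ν ∣_ U) := Groth.Agent.H69.isUnivHomeo_morphismRestrict ν hν.1.1 U
  have hRFI : HTop.ResidueFieldsIso (ν ∣_ U) := by
    have h1 : HTop.ResidueFieldsIso ((ν ∣_ U) ≫ U.ι) := by
      rw [morphismRestrict_ι]
      exact Groth.Agent.H69.residueFieldsIso_comp _ _
        (Groth.Agent.H69.residueFieldsIso_of_isOpenImmersion _) hν.1.2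
    exact Groth.Agent.H69.residueFieldsIso_of_comp_right _ _ h1
      (Groth.Agent.H69.residueFieldsIso_of_isOpenImmersion _)
  have hV : HTop.IsSeminormal (ν ⁻¹ᵁ U).toScheme :=
    Groth.Agent.H69.isSeminormal_of_isOpenImmersion (ν ⁻¹ᵁ U).ι hX'
  refine ⟨⟨hUH, hRFI⟩, fun Y π hπ hR => ?_⟩
  obtain ⟨h, hh⟩ := Groth.Agent.H69.exists_desc_of_isSeminormal hV (ν ∣_ U) π hπ hR
  haveI : IsReduced (ν ⁻¹ᵁ U).toScheme := Groth.Agent.S7421.result.2 _ hV
  exact ⟨h, hh, fun h' hh' => Groth.Agent.H69.hom_ext_of_isUnivHomeo π hπ _ _ (hh'.trans hh.symm)⟩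

end Groth.Agent.S15961
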