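import Groth.Statements.S15963
import Groth.Agent.H69.NormalSN

set_option autoImplicit false
universe u
open HTop

namespace Groth.Agent.S15963

theorem finite_of_comp_injective {A B C : Type u} [CommRing A] [CommRing B] [CommRing C]
    [IsNoetherianRing A] (f : A →+* B) (h : B →+* C) (hinj : Function.Injective h)
    (hfin : (h.comp f).Finite) : f.Finite := by
  letI : Algebra A B := f.toAlgebra
  letI : Algebra A C := (h.comp f).toAlgebra
  letI : Algebra B C := h.toAlgebra
  haveI : IsScalarTower A B C := IsScalarTower.of_algebraMap_eq (fun _ => rfl)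
  haveI : Module.Finite A C := hfin
  haveI : IsNoetherian A C := isNoetherian_of_isNoetherianRing_of_finite A C
  exact Module.Finite.of_injective (IsScalarTower.toAlgHom A B C).toLinearMap hinj

open CategoryTheory AlgebraicGeometry in
/-- Let S be a reduced Noetherian scheme, π : S̃ → S its normalisation (S̃ has integrally closed local
domains, π is integral and an isomorphism over a dense open subset of S with dense preimage), ν : X'
→ S a seminormalization of S (X' seminormal, ν a universal homeomorphism with residue-field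
isomorphisms, initial among such) and g : S̃ → X' a morphism with g followed by ν equal to π. Then ν
and g are scheme-theoretically dominant (the structure sheaf maps injectively into the direct
image), and if π is finite then so are ν and g. -/
theorem result {S Sn X' : Scheme.{u}}
    [IsNoetherian S] [IsReduced S]
    (π : Sn ⟶ S) [IsIntegralHom π] (hn : Pi1.IsNormalScheme Sn)
    (hbir : ∃ U : S.Opens, Dense (U : Set S) ∧ Dense ((π ⁻¹ᵁ U : Sn.Opens) : Set Sn) ∧ IsIso (π ∣_ U))
    (ν : X' ⟶ S) (hν : HTop.IsSeminormalization ν) (hX' : HTop.IsSeminormal X')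
    (g : Sn ⟶ X') (hg : g ≫ ν = π) :
    (IsSchemeTheoreticallyDominant ν ∧ IsSchemeTheoreticallyDominant g) ∧
      (IsFinite π → IsFinite ν ∧ IsFinite g) := by
  subst hg
  have hνUH : FlatMor.IsUnivHomeo ν := hν.1.1
  haveI : IsIntegralHom ν := Groth.Agent.H69.isIntegralHom_of_isUnivHomeo ν hνUH
  haveI : IsReduced X' := Groth.Agent.S7421.result.2 X' hX'
  have hhomeo : IsHomeomorph ν := Groth.Agent.H69.isHomeomorph_of_isUnivHomeo ν hνUH
  haveI : Surjective ν := ⟨hhomeo.surjective⟩
  haveI : IsIntegralHom g := IsIntegralHom.of_comp g ν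
  obtain ⟨U, hUd, -, hiso⟩ := hbir
  have hπd : DenseRange (g ≫ ν) := by
    apply Dense.mono _ hUd
    intro u hu
    haveI := hiso
    obtain ⟨z, hz⟩ := ((g ≫ ν) ∣_ U).surjective ⟨u, hu⟩
    refine ⟨((g ≫ ν) ⁻¹ᵁ U).ι z, ?_⟩
    have h1 : (((g ≫ ν) ∣_ U) ≫ U.ι) z = (((g ≫ ν) ⁻¹ᵁ U).ι ≫ (g ≫ ν)) z := by
      rw [morphismRestrict_ι]
    rw [Scheme.Hom.comp_apply, Scheme.Hom.comp_apply, hz] at h1
    exact h1.symm
  have hgd : DenseRange g := by
    have hfun : ⇑g = ⇑hhomeo.homeomorph.symm ∘ ⇑(g ≫ ν) := by
      funext z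
      simp only [Function.comp_apply, Scheme.Hom.comp_apply]
      exact (hhomeo.homeomorph.symm_apply_apply (g z)).symm
    rw [hfun]
    exact hhomeo.homeomorph.symm.surjective.denseRange.comp hπd hhomeo.homeomorph.symm.continuous
  haveI : IsDominant g := ⟨hgd⟩
  have sd_ν : IsSchemeTheoreticallyDominant ν := .of_isDominant ν
  have sd_g : IsSchemeTheoreticallyDominant g := .of_isDominant g
  refine ⟨⟨sd_ν, sd_g⟩, fun hfin => ?_⟩
  haveI := hfin
  have fin_g : IsFinite g := IsFinite.of_comp g ν
  refine ⟨?_, fin_g⟩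
  refine { toIsAffineHom := inferInstance, finite_app := fun W hW => ?_ }
  haveI : IsNoetherianRing Γ(S, W) := IsLocallyNoetherian.component_noetherian ⟨W, hW⟩
  have h1 : ((g ≫ ν).app W).hom.Finite := (g ≫ ν).finite_app W hW
  have h2 : Function.Injective (g.app (ν ⁻¹ᵁ W)).hom := g.app_injective _
  exact finite_of_comp_injective (ν.app W).hom (g.app (ν ⁻¹ᵁ W)).hom h2 h1

end Groth.Agent.S15963
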