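import Groth.Statements.S1598
import Groth.Agent.H23.BcStalk
import Groth.Agent.H23.BcCplReg

set_option autoImplicit false
universe u
open CategoryTheory CategoryTheory.Limits AlgebraicGeometry
open Resolve

namespace Groth.Agent.S1598

open TensorProduct IsLocalRing
section Aux

theorem reg_iff_of_ringEquiv {R S : Type u} [CommRing R] [CommRing S] (e : R ≃+* S) :
    IsRegularLocalRing R ↔ IsRegularLocalRing S :=
  ⟨fun h => by haveI := h; exact IsRegularLocalRing.of_ringEquiv e,
   fun h => by haveI := h; exact IsRegularLocalRing.of_ringEquiv e.symm⟩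

theorem reg_congr {R : Type u} [CommRing R] {P P' : Ideal R} [P.IsPrime] [P'.IsPrime] (h : P = P') :
    IsRegularLocalRing (Localization.AtPrime P) ↔ IsRegularLocalRing (Localization.AtPrime P') := by
  subst h; exact Iff.rfl

end Aux

/-- Let A be a Noetherian local ring with completion A^, X locally of finite type over Spec A, Y its
base change to Spec A^, and y a point of Y lying over the closed point of Spec A^ with image x in X.
Then the local ring of Y at y is regular if and only if the local ring of X at x is regular. -/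
theorem result (A : Type u) [CommRing A] [IsLocalRing A] [IsNoetherianRing A]
    (X : Scheme.{u}) (f : X ⟶ Spec (CommRingCat.of A)) [LocallyOfFiniteType f]
    (y : Curv2.bcCpl A f) (hy : (Curv2.bcCplSnd A f).base y = IsLocalRing.closedPoint (Curv2.cpl A)) :
    IsRegularLocalRing ((Curv2.bcCpl A f).presheaf.stalk y) ↔
      IsRegularLocalRing (X.presheaf.stalk ((Curv2.bcCplFst A f).base y)) := by
  classical
  obtain ⟨B, _, _, p, hp, q', hq', hft, hcomap, hK, ⟨e1⟩, ⟨e2⟩⟩ :=
    Groth.Agent.H23.BcStalk.exists_chart (k := A) (K := Curv2.cpl A) f (Curv2.bcCplFst A f)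
      (Curv2.bcCplSnd A f) (IsPullback.of_hasPullback _ _) y
  haveI : Algebra.FiniteType A B := hft inferInstance
  haveI := hp
  haveI := hq'
  let e : (B ⊗[A] Curv2.cpl A) ≃+* (Curv2.cpl A ⊗[A] B) :=
    (Algebra.TensorProduct.comm A B (Curv2.cpl A)).toRingEquiv
  let q : Ideal (B ⊗[A] Curv2.cpl A) := q'.comap e.toRingHom
  haveI hqprime : q.IsPrime := Ideal.comap_isPrime _ _
  have hq : q.comap (Algebra.TensorProduct.includeRight :
      Curv2.cpl A →ₐ[A] B ⊗[A] Curv2.cpl A).toRingHom = IsLocalRing.maximalIdeal (Curv2.cpl A) := by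
    have h1 : (IsLocalRing.closedPoint (Curv2.cpl A)).asIdeal =
        IsLocalRing.maximalIdeal (Curv2.cpl A) := rfl
    rw [← h1, ← hy, ← hK]
    ext z
    simp only [Ideal.mem_comap]
    show e ((1 : B) ⊗ₜ[A] z) ∈ q' ↔ _
    have : e ((1 : B) ⊗ₜ[A] z) = algebraMap (Curv2.cpl A) (Curv2.cpl A ⊗[A] B) z := by
      show (Algebra.TensorProduct.comm A B (Curv2.cpl A)) ((1 : B) ⊗ₜ[A] z) = _
      rw [Algebra.TensorProduct.comm_tmul, Algebra.TensorProduct.algebraMap_apply,
        Algebra.algebraMap_self_apply]
    rw [this]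
  have hp' : q.comap (algebraMap B (B ⊗[A] Curv2.cpl A)) = p := by
    rw [← hcomap]
    ext b
    simp only [Ideal.mem_comap]
    show e (algebraMap B (B ⊗[A] Curv2.cpl A) b) ∈ q' ↔ _
    have : e (algebraMap B (B ⊗[A] Curv2.cpl A) b) =
        (Algebra.TensorProduct.includeRight : B →ₐ[A] Curv2.cpl A ⊗[A] B).toRingHom b := by
      show (Algebra.TensorProduct.comm A B (Curv2.cpl A)) (algebraMap B (B ⊗[A] Curv2.cpl A) b) = _
      rw [Algebra.TensorProduct.algebraMap_apply, Algebra.algebraMap_self_apply,
        Algebra.TensorProduct.comm_tmul]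
      rfl
    rw [this]
  have e3 := reg_iff_of_ringEquiv (R := Localization.AtPrime q) (S := Localization.AtPrime q')
    (IsLocalization.ringEquivOfRingEquiv (M := q.primeCompl) (T := q'.primeCompl)
      (Localization.AtPrime q) (Localization.AtPrime q') e
      (Groth.Agent.H63.StalkBaseChange.primeCompl_map_ringEquiv e q'))
  rw [← reg_iff_of_ringEquiv e2, ← reg_iff_of_ringEquiv e1, ← e3,
    Groth.Agent.H23.BcCplReg.regular_iff q hq]
  exact reg_congr hp'

end Groth.Agent.S1598
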