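import Groth.Statements.S1597
import Groth.Agent.S1598
import Groth.Agent.S0564

set_option autoImplicit false
universe u
open CategoryTheory CategoryTheory.Limits AlgebraicGeometry
open Resolve

namespace Groth.Agent.S1597

open TensorProduct IsLocalRing
section Aux

theorem reg_of_le_loc {R : Type u} [CommRing R] (p p0 : Ideal R) [hp : p.IsPrime] [p0.IsPrime]
    (hle : p ≤ p0)
    (S0 : Type u) [CommRing S0] [Algebra R S0] [IsLocalization.AtPrime S0 p0]
    (S : Type u) [CommRing S] [Algebra R S] [IsLocalization.AtPrime S p]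
    (h : IsRegularLocalRing S0) : IsRegularLocalRing S := by
  haveI := h
  have hdisj : Disjoint (p0.primeCompl : Set R) (p : Set R) :=
    Set.disjoint_left.mpr (fun x hx hxP => hx (hle hxP))
  set P := p.map (algebraMap R S0) with hP
  haveI hPp : P.IsPrime := IsLocalization.isPrime_of_isPrime_disjoint p0.primeCompl S0 p hp hdisj
  have hcomap : P.comap (algebraMap R S0) = p :=
    IsLocalization.under_map_of_isPrime_disjoint p0.primeCompl S0 hp hdisj
  haveI := Groth.Agent.S0564.result S0 P
  have h1 : IsLocalization.AtPrime (Localization.AtPrime P) (P.comap (algebraMap R S0)) :=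
    IsLocalization.isLocalization_isLocalization_atPrime_isLocalization p0.primeCompl
      (Localization.AtPrime P) P
  have h2 : IsLocalization.AtPrime (Localization.AtPrime P) p := by
    convert h1 using 2
    exact hcomap.symm
  exact IsRegularLocalRing.of_ringEquiv
    (IsLocalization.algEquiv p.primeCompl (Localization.AtPrime P) S).toRingEquiv

theorem reg_of_specializes (X : Scheme.{u}) {x x0 : X} (h : x ⤳ x0)
    (hreg : IsRegularLocalRing (X.presheaf.stalk x0)) : IsRegularLocalRing (X.presheaf.stalk x) := by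
  obtain ⟨U, hU, hx0U, -⟩ := TopologicalSpace.Opens.isBasis_iff_nbhd.mp X.isBasis_affineOpens
    (U := ⊤) (x := x0) trivial
  have hU : IsAffineOpen U := hU
  have hxU : x ∈ U := h.mem_open U.isOpen hx0U
  letI algx0 : Algebra Γ(X, U) (X.presheaf.stalk x0) :=
    TopCat.Presheaf.algebra_section_stalk X.presheaf ⟨x0, hx0U⟩
  letI algx : Algebra Γ(X, U) (X.presheaf.stalk x) :=
    TopCat.Presheaf.algebra_section_stalk X.presheaf ⟨x, hxU⟩
  haveI hl0 : IsLocalization.AtPrime (X.presheaf.stalk x0) (hU.primeIdealOf ⟨x0, hx0U⟩).asIdeal :=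
    hU.isLocalization_stalk ⟨x0, hx0U⟩
  haveI hl : IsLocalization.AtPrime (X.presheaf.stalk x) (hU.primeIdealOf ⟨x, hxU⟩).asIdeal :=
    hU.isLocalization_stalk ⟨x, hxU⟩
  have hsp : (⟨x, hxU⟩ : U) ⤳ ⟨x0, hx0U⟩ := (subtype_specializes_iff (⟨x, hxU⟩ : U) ⟨x0, hx0U⟩).mpr h
  have hsp' : hU.primeIdealOf ⟨x, hxU⟩ ⤳ hU.primeIdealOf ⟨x0, hx0U⟩ :=
    hsp.map hU.isoSpec.hom.continuous
  have hle : (hU.primeIdealOf ⟨x, hxU⟩).asIdeal ≤ (hU.primeIdealOf ⟨x0, hx0U⟩).asIdeal :=
    (PrimeSpectrum.le_iff_specializes _ _).mpr hsp'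
  exact reg_of_le_loc _ _ hle (X.presheaf.stalk x0) (X.presheaf.stalk x) hreg

theorem exists_specializes_closed {R : Type u} [CommRing R] [IsLocalRing R] {Z : Scheme.{u}}
    (g : Z ⟶ Spec (CommRingCat.of R)) [UniversallyClosed g] (z : Z) :
    ∃ z0 : Z, z ⤳ z0 ∧ g.base z0 = IsLocalRing.closedPoint R := by
  have hcl : IsClosed (g.base '' closure {z}) := g.isClosedMap _ isClosed_closure
  have hmem : IsLocalRing.closedPoint R ∈ g.base '' closure {z} := by
    by_contra hnot
    let U : TopologicalSpace.Opens (PrimeSpectrum R) :=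
      ⟨(g.base '' closure {z})ᶜ, hcl.isOpen_compl⟩
    have hU : IsLocalRing.closedPoint R ∈ U := hnot
    have hUtop := (IsLocalRing.closedPoint_mem_iff U).mp hU
    have hz : g.base z ∈ g.base '' closure {z} := ⟨z, subset_closure rfl, rfl⟩
    have hz' : g.base z ∈ U := by rw [hUtop]; trivial
    exact hz' hz
  obtain ⟨z0, hz0, hgz0⟩ := hmem
  exact ⟨z0, specializes_iff_mem_closure.mpr hz0, hgz0⟩

end Aux

/-- Let A be a Noetherian local ring with completion A^, X a scheme proper over Spec A and Y its base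
change to Spec A^. Then all local rings of X are regular if and only if all local rings of Y are
regular. -/
theorem result (A : Type u) [CommRing A] [IsLocalRing A] [IsNoetherianRing A]
    (X : Scheme.{u}) (f : X ⟶ Spec (CommRingCat.of A)) [IsProper f] :
    (∀ x : X, IsRegularLocalRing (X.presheaf.stalk x)) ↔
      ∀ y : Curv2.bcCpl A f, IsRegularLocalRing ((Curv2.bcCpl A f).presheaf.stalk y) := by
  classical
  haveI : IsProper (Curv2.bcCplSnd A f) := by
    show IsProper (Limits.pullback.snd _ _)
    infer_instance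
  constructor
  · intro hX y
    obtain ⟨y0, hyy0, hy0⟩ := exists_specializes_closed (Curv2.bcCplSnd A f) y
    have h1 := (Groth.Agent.S1598.result A X f y0 hy0).mpr (hX _)
    exact reg_of_specializes _ hyy0 h1
  · intro hY x
    obtain ⟨x0, hxx0, hx0⟩ := exists_specializes_closed f x
    have hcp : f.base x0 = (Spec.map (CommRingCat.ofHom (algebraMap A (Curv2.cpl A)))).base
        (IsLocalRing.closedPoint (Curv2.cpl A)) := by
      rw [hx0]
      exact (IsLocalRing.comap_closedPoint (algebraMap A (Curv2.cpl A))).symm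
    obtain ⟨y0, hy0x, hy0s⟩ := Scheme.Pullback.exists_preimage_pullback (f := f)
      (g := Spec.map (CommRingCat.ofHom (algebraMap A (Curv2.cpl A)))) x0
      (IsLocalRing.closedPoint (Curv2.cpl A)) hcp
    have h1 := (Groth.Agent.S1598.result A X f y0 hy0s).mp (hY y0)
    have h2 : IsRegularLocalRing (X.presheaf.stalk x0) := hy0x ▸ h1
    exact reg_of_specializes _ hxx0 h2

end Groth.Agent.S1597
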