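import Groth.Statements.S15987

set_option autoImplicit false
universe u v
open Deform

namespace Groth.Agent.S15987


section helpers
open TrivSqZeroExt
variable {k : Type u} [Field k] {A : Type u} [CommRing A] [Algebra k A]

def F (D : Derivation k A A) : DualNumber A →ₐ[k] DualNumber A :=
  AlgHom.ofLinearMap
    { toFun := fun x => inl x.fst + inr (D x.fst + x.snd)
      map_add' := by
        intro x y
        ext
        · simp
        · simp [add_add_add_comm]
      map_smul' := by
        intro c x
        ext
        · simp
        · simp }
    (by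
      ext
      · simp
      · simp)
    (by
      intro x y
      ext
      · simp
      · simp [DualNumber.snd_mul]
        ring)

theorem F_apply (D : Derivation k A A) (x : DualNumber A) :
    F D x = inl x.fst + inr (D x.fst + x.snd) := rfl

theorem F_comp (D : Derivation k A A) (x : DualNumber A) : F D (F (-D) x) = x := by
  rw [F_apply, F_apply]
  ext
  · simp
  · simp

def Fe (D : Derivation k A A) : DualNumber A ≃ₐ[k] DualNumber A :=
  AlgEquiv.ofAlgHom (F D) (F (-D))
    (by ext x <;> simp [F_comp])
    (by
      have h := F_comp (-D)
      rw [neg_neg] at h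
      ext x <;> simp [h])

theorem Fe_apply (D : Derivation k A A) (x : DualNumber A) :
    Fe D x = inl x.fst + inr (D x.fst + x.snd) := rfl

def toD (φ : DualNumber A ≃ₐ[k] DualNumber A) (h : ∀ x, (φ x).fst = x.fst) : Derivation k A A :=
  Derivation.mk'
    { toFun := fun a => (φ (inl a)).snd
      map_add' := by
        intro a b
        rw [inl_add, map_add, snd_add]
      map_smul' := by
        intro c a
        have : (inl (c • a) : DualNumber A) = c • inl a := by
          ext <;> simp
        rw [this, map_smul, snd_smul]
        rfl }
    (by
      intro a b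
      change (φ (inl (a * b))).snd = a • (φ (inl b)).snd + b • (φ (inl a)).snd
      rw [inl_mul, map_mul, DualNumber.snd_mul, h, h]
      simp [mul_comm])

theorem toD_apply (φ : DualNumber A ≃ₐ[k] DualNumber A) (h : ∀ x, (φ x).fst = x.fst) (a : A) :
    toD φ h a = (φ (inl a)).snd := rfl

theorem key (φ : DualNumber A ≃ₐ[k] DualNumber A) (he : φ DualNumber.eps = DualNumber.eps)
    (h : ∀ x, (φ x).fst = x.fst) (x : DualNumber A) :
    φ x = inl x.fst + inr ((φ (inl x.fst)).snd + x.snd) := by
  have h1 : ∀ b : A, φ (inr b) = inr b := by
    intro b
    have : (inr b : DualNumber A) = inl b * DualNumber.eps := by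
      ext <;> simp [DualNumber.snd_mul]
    conv_lhs => rw [this, map_mul, he]
    ext
    · simp [h]
    · simp [DualNumber.snd_mul, h]
  have h2 : ∀ a : A, φ (inl a) = inl a + inr (φ (inl a)).snd := by
    intro a
    ext
    · simp [h]
    · simp
  conv_lhs => rw [← inl_fst_add_inr_snd_eq x, map_add, h1, h2]
  ext
  · simp
  · simp

end helpers

open TrivSqZeroExt in
/-- Let k be a field, A a commutative k-algebra and q_i : A → k (i ∈ ι) k-algebra maps (marked k-points
of Spec A). The k-algebra automorphisms φ of the ring of dual numbers A[ε] that fix ε (so are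
k[ε]-linear), are the identity modulo ε, and satisfy q_i((φ x)_ε) = q_i(x_ε) for all i and x
(compatibility with the trivial lifts A[ε] → k[ε] of the marked points) are in bijection with the
k-derivations D : A → A such that q_i ∘ D = 0 for every i, the bijection sending φ to a ↦ (φ(a))_ε.
(The source identifies the right-hand side with the global vector fields vanishing at the marked
points; the condition the computation yields is q_i ∘ D = 0, which is the same for Spec A smooth
over k but is weaker in general, e.g. for A = k[x]/(x^2) with 2 invertible in k.) -/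
theorem result
    (k : Type u) [Field k] (A : Type u) [CommRing A] [Algebra k A] {ι : Type v} (q : ι → (A →ₐ[k] k)) :
    ∃ e : {φ : DualNumber A ≃ₐ[k] DualNumber A //
            φ DualNumber.eps = DualNumber.eps ∧ (∀ x, (φ x).fst = x.fst) ∧
              ∀ i x, q i (φ x).snd = q i x.snd} ≃
          {D : Derivation k A A // ∀ i a, q i (D a) = 0},
      ∀ φ (a : A), (e φ).1 a = (φ.1 (inl a : DualNumber A)).snd := by
  classical
  refine ⟨{ toFun := fun φ => ⟨toD φ.1 φ.2.2.1, ?_⟩
            invFun := fun D => ⟨Fe D.1, ?_, ?_, ?_⟩
            left_inv := ?_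
            right_inv := ?_ }, ?_⟩
  · intro i a
    have := φ.2.2.2 i (inl a)
    simpa [toD_apply] using this
  · rw [Fe_apply]
    ext <;> simp
  · intro x
    rw [Fe_apply]
    simp
  · intro i x
    rw [Fe_apply]
    simp [D.2 i]
  · intro φ
    apply Subtype.ext
    apply AlgEquiv.ext
    intro x
    change Fe (toD φ.1 φ.2.2.1) x = φ.1 x
    rw [Fe_apply, key φ.1 φ.2.1 φ.2.2.1 x]
    rfl
  · intro D
    apply Subtype.ext
    apply Derivation.ext
    intro a
    change (Fe D.1 (inl a)).snd = D.1 a
    rw [Fe_apply]
    simp
  · intro φ a
    rfl

end Groth.Agent.S15987
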