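import Groth.Statements.S15990
import Mathlib
import Groth.Agent.H56.SmoothSecSchLen

set_option autoImplicit false
universe u
open SDiv

namespace Groth.Agent.S15990



open AlgebraicGeometry CategoryTheory in
/-- Let f : X → Y be separated and smooth of relative dimension 1 and let σ : Y → X be a section of f.
Then σ(Y) is a relative effective Cartier divisor on X/Y: the kernel ideal sheaf of the closed
immersion σ is the ideal sheaf of an effective Cartier divisor (locally on affine opens generated by
one nonzerodivisor) and the closed subscheme it defines is flat over Y. (The source adds the special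
case of the diagonal of X ×_Y X, a section of the first projection.) -/
theorem result
    {X Y : Scheme.{u}} (f : X ⟶ Y) [IsSeparated f] [SmoothOfRelativeDimension 1 f]
    (σ : Y ⟶ X) (hσ : σ ≫ f = 𝟙 Y) :
    BlowUp.IsEffCartierIdeal σ.ker ∧ Flat (σ.ker.subschemeι ≫ f) := by
  haveI hcomp : IsClosedImmersion (σ ≫ f) := by rw [hσ]; infer_instance
  haveI hσc : IsClosedImmersion σ := IsClosedImmersion.of_comp σ f
  constructor
  · intro x
    by_cases hx : x ∈ Set.range σ
    · obtain ⟨y, rfl⟩ := hx
      obtain ⟨-, h⟩ :=
        Groth.Agent.H56.SmoothSecLen.section_isRegularImmersionOfCodim 1 f σ hσ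
      obtain ⟨U, hyU, -, rs, hlen, hreg, hker⟩ := h y
      obtain ⟨r, rfl⟩ : ∃ r, rs = [r] := List.length_eq_one_iff.mp hlen
      have hreg' : RingTheory.Sequence.IsRegular Γ(X, U.1) [r] := hreg
      refine ⟨U, hyU, r, ?_, ?_⟩
      · have h1 := hreg'.toIsWeaklyRegular
        rw [RingTheory.Sequence.isWeaklyRegular_cons_iff] at h1
        have h2 : IsSMulRegular Γ(X, U.1) r := h1.1
        rw [mem_nonZeroDivisors_iff_right]
        intro z hz
        apply h2
        simp only [smul_eq_mul, mul_zero]
        rw [mul_comm]; exact hz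
      · have : σ.ker.ideal U = RingHom.ker (σ.app U.1).hom := Scheme.Hom.ker_apply σ U
        rw [this, hker, Ideal.ofList_singleton]
    · have hcl : IsClosed (Set.range σ) := σ.isClosedEmbedding.isClosed_range
      obtain ⟨U, hU, hxU, hUsub⟩ := exists_isAffineOpen_mem_and_subset (x := x)
        (U := ⟨(Set.range σ)ᶜ, hcl.isOpen_compl⟩) hx
      refine ⟨⟨U, hU⟩, hxU, 1, one_mem _, ?_⟩
      rw [Ideal.span_singleton_one]
      have hsupp : (σ.ker.support : Set X) = Set.range σ := by
        rw [Scheme.Hom.support_ker, hcl.closure_eq]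
      have h1 := Scheme.IdealSheafData.coe_support_inter σ.ker ⟨U, hU⟩
      have h2 : (σ.ker.support : Set X) ∩ (U : Set X) = ∅ := by
        rw [hsupp]
        ext z
        simp only [Set.mem_inter_iff, Set.mem_empty_iff_false, iff_false, not_and]
        intro hz hzU
        exact hUsub hzU hz
      rw [h2] at h1
      have h3 : PrimeSpectrum.zeroLocus (σ.ker.ideal ⟨U, hU⟩ : Set Γ(X, U)) = ∅ := by
        by_contra hne
        obtain ⟨p, hp⟩ := Set.nonempty_iff_ne_empty.mpr hne
        have : hU.fromSpec p ∈ X.zeroLocus (U := U) (σ.ker.ideal ⟨U, hU⟩) ∩ (U : Set X) := by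
          rw [← hU.fromSpec_image_zeroLocus]
          exact ⟨p, hp, rfl⟩
        rw [← h1] at this
        exact this
      exact PrimeSpectrum.zeroLocus_empty_iff_eq_top.mp h3
  · have h1 : σ.toImage ≫ σ.imageι = σ := σ.toImage_imageι
    have h2 : σ.toImage ≫ (σ.ker.subschemeι ≫ f) = 𝟙 Y := by
      rw [← Category.assoc]
      have : σ.toImage ≫ σ.ker.subschemeι = σ := h1
      rw [this, hσ]
    have h3 : σ.ker.subschemeι ≫ f = inv σ.toImage := by
      rw [← cancel_epi σ.toImage, h2, IsIso.hom_inv_id]
    rw [h3]
    infer_instance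

end Groth.Agent.S15990
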