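import Groth.Statements.S15993
import Mathlib
import Groth.Agent.S5434

set_option autoImplicit false
open CategoryTheory AlgebraicGeometry
universe u
open EtHull

namespace Groth.Agent.S15993


open AlgebraicGeometry CategoryTheory Limits TopologicalSpace
open Groth.Agent.S5434

theorem main {X S : Scheme.{u}} (f : X ⟶ S)
    [Flat f] [Surjective f] [QuasiCompact f] [IsSeparated f]
    (U : S.Opens) (V : X.Opens) [QuasiCompact V.ι]
    (hV : CInt.IsSchematicallyDense V)
    (hle : V ≤ f ⁻¹ᵁ U) (hiso : IsIso (f.resLE U V hle)) : IsIso f := by
  haveI := schDom_of_dense V hV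
  let a : (V : Scheme.{u}) ⟶ S := V.ι ≫ f
  have ha : a = f.resLE U V hle ≫ U.ι := (Scheme.Hom.resLE_comp_ι f hle).symm
  haveI : Mono a := by rw [ha]; infer_instance
  haveI : Flat a := by dsimp [a]; infer_instance
  -- the maps
  let m₁ : pullback a f ⟶ pullback f f :=
    pullback.map a f f f V.ι (𝟙 X) (𝟙 S) (by simp [a]) (by simp)
  let m₂ : pullback a a ⟶ pullback a f :=
    pullback.map a a a f (𝟙 _) V.ι (𝟙 S) (by simp) (by simp [a])
  have hm₁fst : m₁ ≫ pullback.fst f f = pullback.fst a f ≫ V.ι := pullback.lift_fst _ _ _
  have hm₁snd : m₁ ≫ pullback.snd f f = pullback.snd a f :=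
    (pullback.lift_snd _ _ _).trans (Category.comp_id _)
  have hm₂fst : m₂ ≫ pullback.fst a f = pullback.fst a a :=
    (pullback.lift_fst _ _ _).trans (Category.comp_id _)
  have hm₂snd : m₂ ≫ pullback.snd a f = pullback.snd a a ≫ V.ι := pullback.lift_snd _ _ _
  -- pullback squares
  have sq1 : IsPullback m₁ (pullback.fst a f) (pullback.fst f f) V.ι := by
    refine IsPullback.of_right (h₁₂ := pullback.snd f f) (v₁₃ := f) (h₂₂ := f) ?_ hm₁fst
      (IsPullback.of_hasPullback f f).flip
    rw [hm₁snd]
    exact (IsPullback.of_hasPullback a f).flip
  have sq2 : IsPullback m₂ (pullback.snd a a) (pullback.snd a f) V.ι := by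
    refine IsPullback.of_right (h₁₂ := pullback.fst a f) (v₁₃ := a) (h₂₂ := f) ?_ hm₂snd
      (IsPullback.of_hasPullback a f)
    rw [hm₂fst]
    exact (IsPullback.of_hasPullback a a)
  haveI : IsSchemeTheoreticallyDominant m₁ :=
    IsSchemeTheoreticallyDominant.of_isPullback (f := V.ι) (g := pullback.fst f f) sq1.flip
  haveI : IsSchemeTheoreticallyDominant m₂ :=
    IsSchemeTheoreticallyDominant.of_isPullback (f := V.ι) (g := pullback.snd a f) sq2.flip
  -- diagonal compat
  have hδ : pullback.diagonal a ≫ m₂ ≫ m₁ = V.ι ≫ pullback.diagonal f := by
    apply pullback.hom_ext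
    · simp only [Category.assoc, hm₁fst, reassoc_of% hm₂fst, pullback.diagonal_fst,
        pullback.diagonal_fst_assoc, Category.comp_id]
    · simp only [Category.assoc, hm₁snd, hm₂snd, pullback.diagonal_snd,
        pullback.diagonal_snd_assoc, Category.comp_id]
  haveI : IsSchemeTheoreticallyDominant (V.ι ≫ pullback.diagonal f) := by
    rw [← hδ]; infer_instance
  have hker : (pullback.diagonal f).ker = ⊥ := by
    rw [eq_bot_iff]
    calc (pullback.diagonal f).ker ≤ (V.ι ≫ pullback.diagonal f).ker :=
          Scheme.Hom.le_ker_comp _ _
      _ = ⊥ := Scheme.Hom.ker_eq_bot _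
  haveI : IsIso (pullback.diagonal f) := IsClosedImmersion.isIso_iff_ker_eq_bot.mpr hker
  haveI : Mono f := (pullback.isIso_diagonal_iff f).mp inferInstance
  exact Flat.isIso_of_surjective_of_mono f


/-- Let f : X → S be a morphism of schemes which is faithfully flat (flat and surjective), quasi-compact
and separated, and schematically birational in the following sense: there are schematically dense
opens U of S and V of X, with the inclusion V → X quasi-compact, such that f maps V into U and the
induced morphism V → U is an isomorphism. Then f is an isomorphism. (The source states this for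
algebraic spaces and puts no quasi-compactness condition on the dense opens. Its proof base-changes
along f and uses that the inverse image of V in X ×_S X is again schematically dense, which holds
when V → X is quasi-compact, for instance when X is locally Noetherian, and fails in general: over
the Boolean ring of eventually constant sequences of elements of the field with two elements, the
spectrum of the ring of eventually two-periodic sequences is faithfully flat and affine, and it is
an isomorphism above the open set of principal points, which is schematically dense on both sides,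
yet it is not an isomorphism, the point at infinity being doubled. So V is taken retrocompact in X
here, and X, S are schemes.) -/
theorem result {X S : Scheme.{u}} (f : X ⟶ S)
    [Flat f] [Surjective f] [QuasiCompact f] [IsSeparated f]
    (U : S.Opens) (V : X.Opens) [QuasiCompact V.ι]
    (hU : CInt.IsSchematicallyDense U) (hV : CInt.IsSchematicallyDense V)
    (hle : V ≤ f ⁻¹ᵁ U) (hiso : IsIso (f.resLE U V hle)) : IsIso f := by
  exact main f U V hV hle hiso

end Groth.Agent.S15993
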