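import Groth.Statements.S15995

set_option autoImplicit false
open CategoryTheory AlgebraicGeometry
universe u
open FrobSch

namespace Groth.Agent.S15995

open CategoryTheory.Limits

section
set_option backward.isDefEq.respectTransparency false
set_option backward.isDefEq.respectTransparency.types false

lemma isPullback_of_isIso (p : ℕ) [Fact p.Prime] {X S : Scheme.{u}} (f : X ⟶ S) [FrobSch.IsCharP S p]
    [FrobSch.IsCharP X p] (h : IsIso (FrobSch.relFrob f p)) :
    IsPullback (FrobSch.frob X p) f f (FrobSch.frob S p) :=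
  IsPullback.of_iso_pullback ⟨FrobSch.frob_comp p f⟩ (asIso (FrobSch.relFrob f p))
    (FrobSch.relFrob_fst f p) (FrobSch.relFrob_snd f p)

lemma isIso_of_isPullback (p : ℕ) [Fact p.Prime] {X S : Scheme.{u}} (f : X ⟶ S) [FrobSch.IsCharP S p]
    [FrobSch.IsCharP X p] (h : IsPullback (FrobSch.frob X p) f f (FrobSch.frob S p)) :
    IsIso (FrobSch.relFrob f p) := by
  have : FrobSch.relFrob f p = h.isoPullback.hom := by
    apply pullback.hom_ext
    · rw [FrobSch.relFrob_fst, IsPullback.isoPullback_hom_fst]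
    · rw [FrobSch.relFrob_snd, IsPullback.isoPullback_hom_snd]
  rw [this]
  infer_instance

theorem main (p : ℕ) [Fact p.Prime] {X X' T S : Scheme.{u}}
    [FrobSch.IsCharP S p] [FrobSch.IsCharP T p] (f : T ⟶ S) (hf : IsIso (FrobSch.relFrob f p))
    (g : X ⟶ T) (π : X' ⟶ T) (hπ : IsIso (FrobSch.relFrob π p)) (c : X ⟶ X') (hc : c ≫ π = g)
    (huniv : ∀ (Y : Scheme.{u}) (q : Y ⟶ T), IsIso (FrobSch.relFrob q p) →
      ∀ k : X ⟶ Y, k ≫ q = g → ∃! h : X' ⟶ Y, h ≫ q = π ∧ c ≫ h = k) :
    IsIso (FrobSch.relFrob (π ≫ f) p) ∧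
      ∀ (Y : Scheme.{u}) (r : Y ⟶ S), IsIso (FrobSch.relFrob r p) →
        ∀ k : X ⟶ Y, k ≫ r = g ≫ f → ∃! h : X' ⟶ Y, h ≫ r = π ≫ f ∧ c ≫ h = k := by
  haveI : FrobSch.IsCharP X' p := FrobSch.IsCharP.of_hom π p
  have sπ := isPullback_of_isIso p π hπ
  have sf := isPullback_of_isIso p f hf
  refine ⟨isIso_of_isPullback p (π ≫ f) (sπ.paste_vert sf), ?_⟩
  intro Y r hr k hk
  haveI : FrobSch.IsCharP Y p := FrobSch.IsCharP.of_hom r p
  have sr := isPullback_of_isIso p r hr
  haveI : FrobSch.IsCharP (pullback r f) p := FrobSch.IsCharP.of_hom (pullback.snd r f) p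
  have big : IsPullback (FrobSch.frob (pullback r f) p ≫ pullback.fst r f) (pullback.snd r f) r
      (FrobSch.frob T p ≫ f) := by
    have := (IsPullback.of_hasPullback r f).paste_horiz sr
    rwa [← FrobSch.frob_comp p (pullback.fst r f), ← FrobSch.frob_comp p f] at this
  have sb : IsPullback (FrobSch.frob (pullback r f) p) (pullback.snd r f) (pullback.snd r f)
      (FrobSch.frob T p) :=
    IsPullback.of_right big (FrobSch.frob_comp p (pullback.snd r f)) (IsPullback.of_hasPullback r f)
  have hb := isIso_of_isPullback p (pullback.snd r f) sb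
  obtain ⟨h', ⟨h1, h2⟩, huq⟩ := huniv (pullback r f) (pullback.snd r f) hb (pullback.lift k g hk)
    (pullback.lift_snd _ _ _)
  refine ⟨h' ≫ pullback.fst r f, ⟨?_, ?_⟩, ?_⟩
  · rw [Category.assoc, pullback.condition, ← Category.assoc, h1]
  · rw [← Category.assoc, h2, pullback.lift_fst]
  · rintro h ⟨e1, e2⟩
    have := huq (pullback.lift h π e1) ⟨pullback.lift_snd _ _ _, ?_⟩
    · rw [← this, pullback.lift_fst]
    · apply pullback.hom_ext
      · rw [Category.assoc, pullback.lift_fst, pullback.lift_fst, e2]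
      · rw [Category.assoc, pullback.lift_snd, pullback.lift_snd, hc]

end

/-- Coperfection commutes with base restriction. Let S and T be schemes of characteristic p and f : T →
S a relatively perfect morphism (its relative Frobenius T → T^(p/S) is an isomorphism). Let g : X →
T and let c : X → X' be a T-morphism to a relatively perfect T-scheme π : X' → T which is a
coperfection of X over T: for every relatively perfect T-scheme Y, every T-morphism X → Y factors
uniquely through c. Then X' with structure map π ≫ f is relatively perfect over S and c is a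
coperfection of X over S: every S-morphism from X to a relatively perfect S-scheme factors uniquely
through c. (The source works with algebraic spaces; schemes here.) -/
theorem result (p : ℕ) [Fact p.Prime] {X X' T S : Scheme.{u}}
    [FrobSch.IsCharP S p] [FrobSch.IsCharP T p] (f : T ⟶ S) (hf : IsIso (FrobSch.relFrob f p))
    (g : X ⟶ T) (π : X' ⟶ T) (hπ : IsIso (FrobSch.relFrob π p)) (c : X ⟶ X') (hc : c ≫ π = g)
    (huniv : ∀ (Y : Scheme.{u}) (q : Y ⟶ T), IsIso (FrobSch.relFrob q p) →
      ∀ k : X ⟶ Y, k ≫ q = g → ∃! h : X' ⟶ Y, h ≫ q = π ∧ c ≫ h = k) :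
    IsIso (FrobSch.relFrob (π ≫ f) p) ∧
      ∀ (Y : Scheme.{u}) (r : Y ⟶ S), IsIso (FrobSch.relFrob r p) →
        ∀ k : X ⟶ Y, k ≫ r = g ≫ f → ∃! h : X' ⟶ Y, h ≫ r = π ≫ f ∧ c ≫ h = k := by
  exact main p f hf g π hπ c hc huniv

end Groth.Agent.S15995
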