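import Groth.Statements.S16000
import Mathlib
import Groth.Agent.H65.ProjTensor

set_option autoImplicit false
universe u
open FrobAlg

namespace Groth.Agent.S16000

open TensorProduct Groth.Agent.H65

section
variable (p : ℕ) [Fact p.Prime] (R : Type u) [CommRing R] [CharP R p]

/-- the `R`-algebra structure on the perfect closure -/
@[reducible] noncomputable def pcAlg : Algebra R (PerfectClosure R p) :=
  (PerfectClosure.of R p).toAlgebra

attribute [local instance] pcAlg

/-- `r ↦ r^(1/p^n)` as a ring hom into the perfect closure -/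
noncomputable def iotaN (n : ℕ) : R →+* PerfectClosure R p where
  toFun r := PerfectClosure.mk R p (n, r)
  map_one' := by
    rw [PerfectClosure.one_def]
    exact (PerfectClosure.R.sound R p n 0 1 1 (iterate_map_one _ n)).symm
  map_mul' x y := by
    rw [PerfectClosure.mk_mul_mk]
    exact PerfectClosure.R.sound R p n n (x * y) _ (iterate_map_mul _ n x y)
  map_zero' := PerfectClosure.mk_zero_right R p n
  map_add' x y := by
    rw [PerfectClosure.mk_add_mk]
    exact PerfectClosure.R.sound R p n n (x + y) _ (iterate_map_add _ n x y)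

theorem iotaN_apply (n : ℕ) (r : R) : iotaN p R n r = PerfectClosure.mk R p (n, r) := rfl

theorem iotaN_succ_pow (n : ℕ) (r : R) : iotaN p R (n + 1) (r ^ p) = iotaN p R n r :=
  PerfectClosure.mk_succ_pow R p n r

theorem iotaN_smul (n : ℕ) (a x : R) :
    iotaN p R n (a ^ (p ^ n) * x) = a • iotaN p R n x := by
  rw [Algebra.smul_def]
  show PerfectClosure.mk R p (n, a ^ p ^ n * x) =
    PerfectClosure.of R p a * PerfectClosure.mk R p (n, x)
  rw [PerfectClosure.of_apply, PerfectClosure.mk_mul_mk]
  show _ = PerfectClosure.mk R p (0 + n, (frobenius R p)^[n] a * x)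
  rw [zero_add, iterate_frobenius]

/-- linear maps out of the perfect closure from compatible semilinear families -/
theorem exists_lift {P : Type*} [AddCommGroup P] [Module R P] (g : ℕ → R →+ P)
    (h1 : ∀ m r, g (m + 1) (r ^ p) = g m r)
    (h2 : ∀ m s r, g m (s ^ (p ^ m) * r) = s • g m r) :
    ∃ ψ : PerfectClosure R p →ₗ[R] P, ∀ m r, ψ (PerfectClosure.mk R p (m, r)) = g m r := by
  have hiter : ∀ k m r, g (m + k) ((frobenius R p)^[k] r) = g m r := by
    intro k
    induction k with
    | zero => intro m r; rfl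
    | succ k ih =>
      intro m r
      rw [Function.iterate_succ_apply', frobenius_def, ← add_assoc, h1, ih]
  let f : PerfectClosure R p → P := fun x => PerfectClosure.liftOn x (fun y => g y.1 y.2) (by
    rintro _ _ ⟨n, x⟩
    show g n x = g (n + 1) (frobenius R p x)
    rw [frobenius_def, h1])
  have hf : ∀ m r, f (PerfectClosure.mk R p (m, r)) = g m r := fun m r => rfl
  have hadd : ∀ x y, f (x + y) = f x + f y := by
    intro x y
    obtain ⟨⟨a, x⟩, rfl⟩ := PerfectClosure.mk_surjective R p x
    obtain ⟨⟨b, y⟩, rfl⟩ := PerfectClosure.mk_surjective R p y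
    rw [PerfectClosure.mk_add_mk, hf, hf, hf]
    show g (a + b) ((frobenius R p)^[b] x + (frobenius R p)^[a] y) = g a x + g b y
    rw [map_add, hiter b a x, add_comm a b, hiter a b y]
  have hsmul : ∀ (s : R) x, f (s • x) = s • f x := by
    intro s x
    obtain ⟨⟨m, r⟩, rfl⟩ := PerfectClosure.mk_surjective R p x
    have e : s • PerfectClosure.mk R p (m, r) = PerfectClosure.mk R p (m, s ^ (p ^ m) * r) :=
      (iotaN_smul p R m s r).symm
    rw [e, hf, hf, h2]
  exact ⟨{ toFun := f, map_add' := hadd, map_smul' := fun s x => by rw [hsmul]; rfl }, hf⟩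

theorem exists_splitting [Module.Projective R (FrobAlg.Twist p R)] :
    ∃ φ : R →+ R, (∀ a b, φ (a ^ p * b) = a * φ b) ∧ φ 1 = 1 := by
  classical
  obtain ⟨s, hs⟩ :=
    Module.projective_def'.mp (inferInstance : Module.Projective R (FrobAlg.Twist p R))
  have hp : p.Prime := Fact.out
  let ev : (FrobAlg.Twist p R →ₗ[R] R) →ₗ[R] R := LinearMap.applyₗ (1 : FrobAlg.Twist p R)
  have htop : (LinearMap.range ev : Ideal R) = ⊤ := by
    by_contra hne
    obtain ⟨m, hm, hIm⟩ := Ideal.exists_le_maximal (LinearMap.range ev : Ideal R) hne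
    have h1 : (FrobAlg.toTwist p R).symm (Finsupp.linearCombination R id (s 1)) ∈ m := by
      rw [Finsupp.linearCombination_apply, Finsupp.sum, map_sum]
      refine Ideal.sum_mem _ fun τ _ => ?_
      have hτ : (s 1) τ ∈ m := hIm ⟨(Finsupp.lapply τ).comp s, rfl⟩
      show (FrobAlg.toTwist p R).symm ((s 1) τ • τ) ∈ m
      rw [Algebra.smul_def, map_mul, FrobAlg.algebraMap_twist, RingEquiv.symm_apply_apply]
      exact Ideal.mul_mem_right _ _ (Ideal.pow_mem_of_mem _ hτ _ hp.pos)
    have h2 : Finsupp.linearCombination R id (s 1) = 1 := LinearMap.congr_fun hs 1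
    rw [h2, map_one] at h1
    exact hm.ne_top ((Ideal.eq_top_iff_one _).mpr h1)
  obtain ⟨ψ, hψ⟩ : (1 : R) ∈ (LinearMap.range ev : Ideal R) := by
    rw [htop]; exact Submodule.mem_top
  refine ⟨ψ.toAddMonoidHom.comp (FrobAlg.toTwist p R).toAddMonoidHom, ?_, ?_⟩
  · intro a b
    show ψ (FrobAlg.toTwist p R (a ^ p * b)) = a * ψ (FrobAlg.toTwist p R b)
    rw [map_mul, ← FrobAlg.algebraMap_twist, ← Algebra.smul_def, map_smul, smul_eq_mul]
  · show ψ (FrobAlg.toTwist p R 1) = 1
    rw [map_one]; exact hψ

theorem exists_dualBasis [Module.Projective R (FrobAlg.Twist p R)] :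
    ∃ σ : R →+ (FrobAlg.Twist p R →₀ R), (∀ a b, σ (a ^ p * b) = a • σ b) ∧
      ∀ b, ∑ τ ∈ (σ b).support, (FrobAlg.toTwist p R).symm τ * (σ b τ) ^ p = b := by
  obtain ⟨s, hs⟩ :=
    Module.projective_def'.mp (inferInstance : Module.Projective R (FrobAlg.Twist p R))
  refine ⟨s.toAddMonoidHom.comp (FrobAlg.toTwist p R).toAddMonoidHom, ?_, ?_⟩
  · intro a b
    show s (FrobAlg.toTwist p R (a ^ p * b)) = a • s (FrobAlg.toTwist p R b)
    rw [map_mul, ← FrobAlg.algebraMap_twist, ← Algebra.smul_def, map_smul]
  · intro b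
    show ∑ τ ∈ (s (FrobAlg.toTwist p R b)).support,
      (FrobAlg.toTwist p R).symm τ * (s (FrobAlg.toTwist p R b) τ) ^ p = b
    have h := LinearMap.congr_fun hs (FrobAlg.toTwist p R b)
    have h2 := congrArg (FrobAlg.toTwist p R).symm h
    rw [LinearMap.comp_apply, Finsupp.linearCombination_apply, Finsupp.sum, map_sum,
      LinearMap.id_apply, RingEquiv.symm_apply_apply] at h2
    refine Eq.trans ?_ h2
    refine Finset.sum_congr rfl fun τ _ => ?_
    show _ = (FrobAlg.toTwist p R).symm ((s (FrobAlg.toTwist p R b)) τ • τ)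
    rw [Algebra.smul_def, map_mul, FrobAlg.algebraMap_twist, RingEquiv.symm_apply_apply, mul_comm]

/-- iterates of an additive endomorphism -/
def phiIter (φ : R →+ R) : ℕ → (R →+ R)
  | 0 => AddMonoidHom.id R
  | (m + 1) => (phiIter φ m).comp φ

theorem phiIter_succ (φ : R →+ R) (m : ℕ) (x : R) :
    phiIter R φ (m + 1) x = phiIter R φ m (φ x) := rfl

theorem phiIter_semi (φ : R →+ R) (hφ : ∀ a b, φ (a ^ p * b) = a * φ b) (m : ℕ) (a b : R) :
    phiIter R φ m (a ^ (p ^ m) * b) = a * phiIter R φ m b := by
  induction m generalizing a b with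
  | zero => rw [pow_zero, pow_one]; rfl
  | succ m ih =>
    rw [phiIter_succ, phiIter_succ, pow_succ, pow_mul, hφ, ih]

theorem phiIter_one (φ : R →+ R) (hφ1 : φ 1 = 1) (m : ℕ) : phiIter R φ m 1 = 1 := by
  induction m with
  | zero => rfl
  | succ m ih => rw [phiIter_succ, hφ1, ih]

variable (N : Type u) [AddCommGroup N] [Module R N]

/-- level-`n` part of `R' ⊗ N` -/
noncomputable def Lev (n : ℕ) : Submodule R (PerfectClosure R p ⊗[R] N) :=
  Submodule.span R {x | ∃ (r : R) (y : N), x = (iotaN p R n r) ⊗ₜ[R] y}

theorem Lev_mono_succ (n : ℕ) : Lev p R N n ≤ Lev p R N (n + 1) := by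
  apply Submodule.span_le.mpr
  rintro _ ⟨r, y, rfl⟩
  apply Submodule.subset_span
  exact ⟨r ^ p, y, by rw [iotaN_succ_pow]⟩

theorem exists_mem_Lev (x : PerfectClosure R p ⊗[R] N) : ∃ n, x ∈ Lev p R N n := by
  have hmono : Monotone (Lev p R N) := monotone_nat_of_le_succ (Lev_mono_succ p R N)
  induction x using TensorProduct.induction_on with
  | zero => exact ⟨0, Submodule.zero_mem _⟩
  | tmul z y =>
    obtain ⟨⟨m, r⟩, rfl⟩ := PerfectClosure.mk_surjective R p z
    exact ⟨m, Submodule.subset_span ⟨r, y, rfl⟩⟩
  | add x y hx hy =>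
    obtain ⟨a, ha⟩ := hx
    obtain ⟨b, hb⟩ := hy
    exact ⟨max a b, Submodule.add_mem _ (hmono (le_max_left a b) ha)
      (hmono (le_max_right a b) hb)⟩

omit [Fact p.Prime] [CharP R p] in
theorem contr_rTensor {M M' : Type*} [AddCommGroup M] [Module R M] [AddCommGroup M']
    [Module R M'] (Γ : M →ₗ[R] M') (ψ : M' →ₗ[R] R) (x : M ⊗[R] N) :
    contr N ψ (LinearMap.rTensor N Γ x) = contr N (ψ ∘ₗ Γ) x := by
  induction x using TensorProduct.induction_on with
  | zero => simp
  | tmul m n => simp [contr_tmul]
  | add x y hx hy => simp only [map_add, hx, hy]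

theorem eq_zero_of_contr [Module.Projective R (FrobAlg.Twist p R)]
    (x : PerfectClosure R p ⊗[R] N)
    (h : ∀ ψ : PerfectClosure R p →ₗ[R] R, contr N ψ x = 0) : x = 0 := by
  classical
  obtain ⟨φ, hφ, hφ1⟩ := exists_splitting p R
  obtain ⟨σ, hσ, hσrec⟩ := exists_dualBasis p R
  have hφp : ∀ y, φ (y ^ p) = y := fun y => by
    have := hφ y 1; rwa [mul_one, hφ1, mul_one] at this
  have H : ∀ n, ∀ x ∈ Lev p R N n,
      (∀ ψ : PerfectClosure R p →ₗ[R] R, contr N ψ x = 0) → x = 0 := by
    intro n
    induction n with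
    | zero =>
      intro x hx hc
      obtain ⟨ψ0, hψ0⟩ := exists_lift p R (fun m => phiIter R φ m)
        (fun m r => by rw [phiIter_succ, hφp])
        (fun m s r => by rw [phiIter_semi p R φ hφ, smul_eq_mul])
      have h1 : ψ0 1 = 1 := by
        rw [PerfectClosure.one_def, hψ0]; rfl
      have hx' : ∃ y : N, x = (1 : PerfectClosure R p) ⊗ₜ[R] y := by
        clear hc
        induction hx using Submodule.span_induction with
        | mem x hx =>
          obtain ⟨r, y, rfl⟩ := hx
          refine ⟨r • y, ?_⟩
          have e : iotaN p R 0 r = r • (1 : PerfectClosure R p) := by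
            rw [Algebra.smul_def, mul_one]; rfl
          rw [e, TensorProduct.smul_tmul]
        | zero => exact ⟨0, (TensorProduct.tmul_zero _ _).symm⟩
        | add x y _ _ hx hy =>
          obtain ⟨a, rfl⟩ := hx
          obtain ⟨b, rfl⟩ := hy
          exact ⟨a + b, (TensorProduct.tmul_add _ _ _).symm⟩
        | smul c x _ hx =>
          obtain ⟨a, rfl⟩ := hx
          exact ⟨c • a, (TensorProduct.tmul_smul _ _ _).symm⟩
      obtain ⟨y, rfl⟩ := hx'
      have hy := hc ψ0
      rw [contr_tmul, h1, one_smul] at hy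
      rw [hy, TensorProduct.tmul_zero]
    | succ n ih =>
      intro x hx hc
      obtain ⟨Θ, hΘ⟩ := exists_lift p R
        (fun m => (Finsupp.mapRange.addMonoidHom (iotaN p R n).toAddMonoidHom).comp
          (σ.comp ((phiIter R φ m).comp (iterateFrobenius R p (n + 1)).toAddMonoidHom)))
        (fun m r => by
          show Finsupp.mapRange.addMonoidHom _
              (σ (phiIter R φ (m + 1) (iterateFrobenius R p (n + 1) (r ^ p)))) =
            Finsupp.mapRange.addMonoidHom _
              (σ (phiIter R φ m (iterateFrobenius R p (n + 1) r)))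
          rw [phiIter_succ, map_pow, hφp])
        (fun m s r => by
          show Finsupp.mapRange.addMonoidHom (iotaN p R n).toAddMonoidHom
              (σ (phiIter R φ m (iterateFrobenius R p (n + 1) (s ^ p ^ m * r)))) =
            s • Finsupp.mapRange.addMonoidHom (iotaN p R n).toAddMonoidHom
              (σ (phiIter R φ m (iterateFrobenius R p (n + 1) r)))
          have e1 : iterateFrobenius R p (n + 1) (s ^ p ^ m * r) =
              ((s ^ p ^ n) ^ p) ^ p ^ m * iterateFrobenius R p (n + 1) r := by
            rw [map_mul, map_pow, iterateFrobenius_def, iterateFrobenius_def, pow_succ p n,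
              pow_mul]
          rw [e1, phiIter_semi p R φ hφ, hσ]
          refine Finsupp.ext fun τ => ?_
          simp only [Finsupp.mapRange.addMonoidHom_apply, Finsupp.mapRange_apply,
            Finsupp.smul_apply, smul_eq_mul, RingHom.toAddMonoidHom_eq_coe,
            AddMonoidHom.coe_coe]
          exact iotaN_smul p R n s _)
      have hΘn : ∀ r τ, (Θ (iotaN p R (n + 1) r)) τ = iotaN p R n (σ r τ) := by
        intro r τ
        rw [iotaN_apply, hΘ]
        show iotaN p R n (σ (phiIter R φ (n + 1) (iterateFrobenius R p (n + 1) r)) τ) = _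
        have e : phiIter R φ (n + 1) (iterateFrobenius R p (n + 1) r) = r := by
          rw [iterateFrobenius_def, ← mul_one (r ^ p ^ (n + 1)), phiIter_semi p R φ hφ,
            phiIter_one R φ hφ1, mul_one]
        rw [e]
      let Ξ : (FrobAlg.Twist p R →₀ PerfectClosure R p) →ₗ[R] PerfectClosure R p :=
        Finsupp.lsum ℕ (fun τ => LinearMap.mulLeft R
          (iotaN p R (n + 1) ((FrobAlg.toTwist p R).symm τ)))
      have hΞΘ : ∀ r, Ξ (Θ (iotaN p R (n + 1) r)) = iotaN p R (n + 1) r := by
        intro r
        have hΘr : Θ (iotaN p R (n + 1) r) =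
            Finsupp.mapRange (iotaN p R n) (map_zero _) (σ r) := by
          ext τ; rw [hΘn, Finsupp.mapRange_apply]
        rw [hΘr]
        show (Finsupp.mapRange (iotaN p R n) (map_zero _) (σ r)).sum
          (fun τ w => iotaN p R (n + 1) ((FrobAlg.toTwist p R).symm τ) * w) = _
        rw [Finsupp.sum_mapRange_index (by intro τ; rw [mul_zero]), Finsupp.sum]
        refine Eq.trans ?_ (congrArg (iotaN p R (n + 1)) (hσrec r))
        rw [map_sum]
        refine Finset.sum_congr rfl fun τ _ => ?_
        rw [map_mul, iotaN_succ_pow]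
      have hw : LinearMap.rTensor N Θ x = 0 := by
        apply (TensorProduct.finsuppLeft R R (PerfectClosure R p) N
          (FrobAlg.Twist p R)).injective
        rw [map_zero]
        ext τ
        rw [TensorProduct.finsuppLeft_apply, ← LinearMap.rTensor_comp_apply,
          Finsupp.zero_apply]
        apply ih
        · have hle : Lev p R N (n + 1) ≤
              (Lev p R N n).comap (LinearMap.rTensor N ((Finsupp.lapply τ).comp Θ)) := by
            apply Submodule.span_le.mpr
            rintro _ ⟨r, y, rfl⟩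
            rw [SetLike.mem_coe, Submodule.mem_comap, LinearMap.rTensor_tmul, LinearMap.comp_apply, Finsupp.lapply_apply, hΘn]
            exact Submodule.subset_span ⟨_, y, rfl⟩
          exact hle hx
        · intro ψ
          rw [contr_rTensor]
          exact hc _
      have hid : ∀ x ∈ Lev p R N (n + 1), LinearMap.rTensor N (Ξ.comp Θ) x = x := by
        intro x hx
        induction hx using Submodule.span_induction with
        | mem x hx =>
          obtain ⟨r, y, rfl⟩ := hx
          rw [LinearMap.rTensor_tmul, LinearMap.comp_apply, hΞΘ]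
        | zero => exact map_zero _
        | add x y _ _ hx hy => rw [map_add, hx, hy]
        | smul c x _ hx => rw [map_smul, hx]
      rw [← hid x hx, LinearMap.rTensor_comp_apply, hw, map_zero]
  obtain ⟨n, hn⟩ := exists_mem_Lev p R N x
  exact H n x hn h

end

open TensorProduct in
/-- Let p be a prime, R a commutative ring of characteristic p such that R is a projective R-module
through its absolute Frobenius, and A a commutative R-algebra of characteristic p, with Frobenius
twists A^{p^i/R} = R ⊗_{F^i,R} A, relative Frobenius maps A^{p^{i+1}/R} → A^{p^i/R} and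
preperfection A^{p^∞/R} = lim_i A^{p^i/R} ⊆ Π_i A^{p^i/R}. Let R' be the direct-limit perfection
colim(R → R → ⋯) of R along Frobenius, an R-module through the canonical map R → R'. Then the
natural map R' ⊗_R A^{p^∞/R} → Π_i (R' ⊗_R A^{p^i/R}), r ⊗ x ↦ (r ⊗ x_i)_i, is injective; in
particular the base-change map R' ⊗_R lim_i A^{p^i/R} → lim_i (R' ⊗_R A^{p^i/R}) is injective. (The
published statement identifies the target limit with the preperfection of A ⊗_R R' over R'; that
identification is not part of this row.) -/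
theorem result
    (p : ℕ) [Fact p.Prime] (R : Type u) [CommRing R] [CharP R p]
    (A : Type u) [CommRing A] [Algebra R A] [CharP A p]
    [Module.Projective R (FrobAlg.Twist p R)] :
    letI : Algebra R (PerfectClosure R p) := (PerfectClosure.of R p).toAlgebra
    Function.Injective
      (LinearMap.pi fun i : ℕ =>
        LinearMap.lTensor (PerfectClosure R p)
          (((Pi.evalAlgHom R (fun k => W4c1imperftorsors.Twist p R A k) i).comp
            (W4c1imperftorsors.prePerf p R A).val).toLinearMap) :
        PerfectClosure R p ⊗[R] ↥(W4c1imperftorsors.prePerf p R A) →ₗ[R]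
          (Π i : ℕ, PerfectClosure R p ⊗[R] W4c1imperftorsors.Twist p R A i)) := by
  letI : Algebra R (PerfectClosure R p) := (PerfectClosure.of R p).toAlgebra
  rw [injective_iff_map_eq_zero]
  intro x hx
  apply eq_zero_of_contr p R _ x
  intro ψ
  apply Subtype.ext
  funext i
  have hi := congrFun hx i
  rw [LinearMap.pi_apply] at hi
  have h1 := Groth.Agent.H65.contr_lTensor
    (((Pi.evalAlgHom R (fun k => W4c1imperftorsors.Twist p R A k) i).comp
      (W4c1imperftorsors.prePerf p R A).val).toLinearMap) ψ x
  rw [hi, Pi.zero_apply, map_zero] at h1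
  exact h1.symm

end Groth.Agent.S16000
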