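import Groth.Statements.S1601
import Mathlib
-- import your own Groth.Agent.* helpers here

set_option autoImplicit false
universe u
open Resolve

namespace Groth.Agent.S1601

section helpers

open MvPolynomial in
theorem eval_sub_mem {κ : Type*} [Field κ] (I : Ideal (MvPolynomial (Fin 2) κ)) (pt : Fin 2 → κ)
    (h : ∀ i, (X i - C (pt i) : MvPolynomial (Fin 2) κ) ∈ I) (F : MvPolynomial (Fin 2) κ) :
    F - C (eval pt F) ∈ I := by
  refine MvPolynomial.induction_on (motive := fun F => F - C (eval pt F) ∈ I) F ?_ ?_ ?_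
  · intro a; simp
  · intro p q hp hq
    have : p + q - C (eval pt (p + q)) = (p - C (eval pt p)) + (q - C (eval pt q)) := by
      rw [map_add, map_add]; ring
    rw [this]; exact I.add_mem hp hq
  · intro p i hp
    have : p * X i - C (eval pt (p * X i)) =
        (p - C (eval pt p)) * X i + C (eval pt p) * (X i - C (pt i)) := by
      rw [map_mul, eval_X, map_mul]; ring
    rw [this]; exact I.add_mem (I.mul_mem_right _ hp) (I.mul_mem_left _ (h i))

open MvPolynomial in
theorem small_of_point {κ : Type*} [Field κ] (I : Ideal (MvPolynomial (Fin 2) κ)) (pt : Fin 2 → κ)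
    (h : ∀ i, (X i - C (pt i) : MvPolynomial (Fin 2) κ) ∈ I) :
    Module.Finite κ (MvPolynomial (Fin 2) κ ⧸ I) ∧
      Module.finrank κ (MvPolynomial (Fin 2) κ ⧸ I) ≤ 1 := by
  have hs : Function.Surjective (Algebra.linearMap κ (MvPolynomial (Fin 2) κ ⧸ I)) := by
    intro z
    obtain ⟨F, rfl⟩ := Ideal.Quotient.mk_surjective z
    refine ⟨eval pt F, ?_⟩
    rw [Algebra.linearMap_apply, IsScalarTower.algebraMap_apply κ (MvPolynomial (Fin 2) κ) _,
      Ideal.Quotient.algebraMap_eq, MvPolynomial.algebraMap_eq]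
    exact (Ideal.Quotient.eq.mpr (eval_sub_mem I pt h F)).symm
  have hfin : Module.Finite κ (MvPolynomial (Fin 2) κ ⧸ I) := Module.Finite.of_surjective _ hs
  refine ⟨hfin, ?_⟩
  have := LinearMap.finrank_le_finrank_of_surjective hs
  simpa using this

open MvPolynomial in
theorem const_notMem {κ : Type*} [Field κ] (I : Ideal (MvPolynomial (Fin 2) κ))
    (hI : ¬ (Module.Finite κ (MvPolynomial (Fin 2) κ ⧸ I) ∧
      Module.finrank κ (MvPolynomial (Fin 2) κ ⧸ I) ≤ 1))
    (c : κ) (hc : (C c : MvPolynomial (Fin 2) κ) ∈ I) : c = 0 := by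
  by_contra hne
  apply hI
  have htop : I = ⊤ := by
    rw [Ideal.eq_top_iff_one]
    have : (C c⁻¹ : MvPolynomial (Fin 2) κ) * C c = 1 := by
      rw [← C_mul, inv_mul_cancel₀ hne, C_1]
    rw [← this]; exact I.mul_mem_left _ hc
  have hsub : Subsingleton (MvPolynomial (Fin 2) κ ⧸ I) := Ideal.Quotient.subsingleton_iff.mpr htop
  exact ⟨inferInstance, by rw [Module.finrank_zero_of_subsingleton]; exact zero_le_one⟩

open MvPolynomial in
theorem normalize {κ : Type*} [Field κ] (I : Ideal (MvPolynomial (Fin 2) κ)) (i : Fin 2) (s t : κ)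
    (ht : t ≠ 0) (h : (C s + C t * X i : MvPolynomial (Fin 2) κ) ∈ I) :
    (X i - C (-(t⁻¹ * s)) : MvPolynomial (Fin 2) κ) ∈ I := by
  have key : (C t⁻¹ : MvPolynomial (Fin 2) κ) * C t = 1 := by
    rw [← C_mul, inv_mul_cancel₀ ht, C_1]
  have e : (X i - C (-(t⁻¹ * s)) : MvPolynomial (Fin 2) κ) = C t⁻¹ * (C s + C t * X i) := by
    rw [map_neg, map_mul]
    linear_combination (-(X i : MvPolynomial (Fin 2) κ)) * key
  rw [e]; exact I.mul_mem_left _ h

open MvPolynomial in
theorem coeffs_zero {κ : Type*} [Field κ] (I : Ideal (MvPolynomial (Fin 2) κ))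
    (hI : ¬ (Module.Finite κ (MvPolynomial (Fin 2) κ ⧸ I) ∧
      Module.finrank κ (MvPolynomial (Fin 2) κ ⧸ I) ≤ 1))
    (i₀ i₁ : Fin 2) (hne : i₀ ≠ i₁) (s t α₀ : κ)
    (h1 : (C s + C t * X i₁ : MvPolynomial (Fin 2) κ) ∈ I)
    (h2 : (X i₀ - C α₀ : MvPolynomial (Fin 2) κ) ∈ I) : s = 0 ∧ t = 0 := by
  have hcov0 : ∀ (j₀ j₁ : Fin 2), j₀ ≠ j₁ → ∀ i : Fin 2, i = j₀ ∨ i = j₁ := by decide
  have hcov := hcov0 i₀ i₁ hne
  have ht : t = 0 := by
    by_contra ht
    apply hI
    refine small_of_point I (fun i => if i = i₀ then α₀ else -(t⁻¹ * s)) ?_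
    intro i
    rcases hcov i with h | h
    · rw [h]; simpa using h2
    · rw [h]
      have hn : ¬ (i₁ = i₀) := fun e => hne e.symm
      simp only [hn, if_false]
      exact normalize I i₁ s t ht h1
  refine ⟨?_, ht⟩
  apply const_notMem I hI
  rw [ht] at h1
  simpa using h1

open MvPolynomial in
theorem minors_zero {κ : Type*} [Field κ] (I : Ideal (MvPolynomial (Fin 2) κ))
    (hI : ¬ (Module.Finite κ (MvPolynomial (Fin 2) κ ⧸ I) ∧
      Module.finrank κ (MvPolynomial (Fin 2) κ ⧸ I) ≤ 1))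
    (u v w u' v' w' : κ)
    (h : (C u + C v * X 0 + C w * X 1 : MvPolynomial (Fin 2) κ) ∈ I)
    (h' : (C u' + C v' * X 0 + C w' * X 1 : MvPolynomial (Fin 2) κ) ∈ I) :
    v * w' - v' * w = 0 ∧ u * v' - u' * v = 0 ∧ u * w' - u' * w = 0 := by
  have e1 : (C (u * w' - u' * w) + C (v * w' - v' * w) * X 0 : MvPolynomial (Fin 2) κ) ∈ I := by
    have := I.sub_mem (I.mul_mem_left (C w') h) (I.mul_mem_left (C w) h')
    convert this using 1
    simp only [map_sub, map_mul]; ring
  have e2 : (C (u * v' - u' * v) + C (-(v * w' - v' * w)) * X 1 : MvPolynomial (Fin 2) κ) ∈ I := by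
    have := I.sub_mem (I.mul_mem_left (C v') h) (I.mul_mem_left (C v) h')
    convert this using 1
    simp only [map_sub, map_mul, map_neg]; ring
  by_cases hm : v * w' - v' * w = 0
  · rw [hm] at e1 e2
    simp only [neg_zero, map_zero, zero_mul, add_zero] at e1 e2
    exact ⟨hm, const_notMem I hI _ e2, const_notMem I hI _ e1⟩
  · exfalso
    apply hI
    refine small_of_point I ![-((v * w' - v' * w)⁻¹ * (u * w' - u' * w)),
      -((-(v * w' - v' * w))⁻¹ * (u * v' - u' * v))] ?_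
    refine Fin.forall_fin_two.mpr ⟨?_, ?_⟩
    · simpa using normalize I 0 _ _ hm e1
    · simpa using normalize I 1 _ _ (neg_ne_zero.mpr hm) e2

theorem deriv_mem {R : Type*} [CommRing R] {κ : Type*} [CommRing κ] [Algebra κ R] (I : Ideal R)
    (D : Derivation κ R R) (p : R) (hp : p ∈ I ^ 2) : D p ∈ I := by
  rw [pow_two] at hp
  refine Submodule.smul_induction_on hp ?_ ?_
  · intro m hm n hn
    rw [smul_eq_mul, Derivation.leibniz]
    simp only [smul_eq_mul]
    exact I.add_mem (I.mul_mem_right _ hm) (I.mul_mem_right _ hn)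
  · intro x y hx hy
    rw [map_add]; exact I.add_mem hx hy

open MvPolynomial in
theorem final_form {κ : Type*} [Field κ] (a b c d e f j g h i : κ)
    (ha : a = j * g ^ 2) (hb : b = 2 * j * g * h) (hc : c = 2 * j * g * i) (hd : d = j * h ^ 2)
    (he : e = 2 * j * h * i) (hf : f = j * i ^ 2) :
    (C a + C b * X 0 + C c * X 1 + C d * X 0 ^ 2 + C e * X 0 * X 1 + C f * X 1 ^ 2 :
      MvPolynomial (Fin 2) κ) = C j * (C g + C h * X 0 + C i * X 1) ^ 2 := by
  subst ha hb hc hd he hf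
  simp only [map_mul, map_pow, map_ofNat]
  ring

open Polynomial in
theorem core {κ : Type*} [Field κ] (h2 : (2 : κ) = 0) (I' : Ideal κ[X][X]) (c₂ a₀ : κ)
    (hq0 : (X ^ 2 + C (C c₂ * X ^ 2 + C a₀) : κ[X][X]) ∈ I' ^ 2)
    (P1 : ∀ g : κ[X], g ≠ 0 → g.natDegree ≤ 1 → (C g : κ[X][X]) ∈ I' →
      ∀ α₀ : κ, (X - C (C α₀) : κ[X][X]) ∉ I') :
    ∃ α₀ α₁ : κ, c₂ = α₁ ^ 2 ∧ a₀ = α₀ ^ 2 := by
  obtain ⟨c, hc⟩ : ∃ c : κ[X], c = C c₂ * X ^ 2 + C a₀ := ⟨_, rfl⟩
  obtain ⟨q, hqdef⟩ : ∃ q : κ[X][X], q = X ^ 2 + C c := ⟨_, rfl⟩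
  have hq : q ∈ I' ^ 2 := by rw [hqdef, hc]; exact hq0
  have hqm : q.Monic := by rw [hqdef]; exact monic_X_pow_add_C c (by norm_num)
  have hqI : q ∈ I' := Ideal.pow_le_self two_ne_zero hq
  have hqdeg : q.natDegree = 2 := by rw [hqdef]; exact natDegree_X_pow_add_C
  have hq1 : q ≠ 1 := by intro h; rw [h, natDegree_one] at hqdeg; omega
  have hqd : q.degree = 2 := by rw [degree_eq_natDegree hqm.ne_zero, hqdeg]; rfl
  -- the predicate B
  let B : κ[X] → Prop := fun β => ∃ α : κ[X], (C α + C β * X : κ[X][X]) ∈ I'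
  have B_add : ∀ β β', B β → B β' → B (β + β') := by
    rintro β β' ⟨α, h⟩ ⟨α', h'⟩
    refine ⟨α + α', ?_⟩
    have := I'.add_mem h h'
    convert this using 1
    simp only [map_add]; ring
  have B_mul : ∀ r β, B β → B (r * β) := by
    rintro r β ⟨α, h⟩
    refine ⟨r * α, ?_⟩
    have := I'.mul_mem_left (C r) h
    convert this using 1
    simp only [map_mul]; ring
  have B_swap : ∀ α β, (C α + C β * X : κ[X][X]) ∈ I' → B α := by
    intro α β h
    refine ⟨-(β * c), ?_⟩
    have := I'.sub_mem (I'.mul_mem_left X h) (I'.mul_mem_left (C β) hqI)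
    convert this using 1
    simp only [hqdef, map_neg, map_mul]; ring
  have split : ∀ F : κ[X][X], ∃ α β : κ[X], ∃ F' : κ[X][X], F = C α + C β * X + q * F' := by
    intro F
    have h1 := modByMonic_add_div F q
    have h2' : (F %ₘ q).natDegree ≤ 1 := by
      have := natDegree_modByMonic_lt F hqm hq1
      omega
    have h3 := eq_X_add_C_of_natDegree_le_one h2'
    refine ⟨(F %ₘ q).coeff 0, (F %ₘ q).coeff 1, F /ₘ q, ?_⟩
    have : F = (C ((F %ₘ q).coeff 1) * X + C ((F %ₘ q).coeff 0)) + q * (F /ₘ q) := by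
      rw [← h3]; exact h1.symm
    exact this.trans (by ring)
  have claim : ∀ p ∈ I' * I', ∃ s, B s ∧ ∃ ι ∈ I', ∃ P₀ : κ[X][X],
      P₀.degree < q.degree ∧ p = P₀ + q * (C s + ι) := by
    intro p hp
    refine Submodule.smul_induction_on hp ?_ ?_
    · intro F hF G hG
      obtain ⟨α, β, F', rfl⟩ := split F
      obtain ⟨α', β', G', rfl⟩ := split G
      have hF0 : (C α + C β * X : κ[X][X]) ∈ I' := by
        have := I'.sub_mem hF (I'.mul_mem_right F' hqI)
        convert this using 1; ring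
      have hG0 : (C α' + C β' * X : κ[X][X]) ∈ I' := by
        have := I'.sub_mem hG (I'.mul_mem_right G' hqI)
        convert this using 1; ring
      refine ⟨β * β', B_mul β β' ⟨α', hG0⟩,
        F' * (C α' + C β' * X) + G' * (C α + C β * X) + q * F' * G', ?_,
        C (α * α' - c * β * β') + C (α * β' + α' * β) * X, ?_, ?_⟩
      · exact I'.add_mem (I'.add_mem (I'.mul_mem_left _ hG0) (I'.mul_mem_left _ hF0))
          (I'.mul_mem_right _ (I'.mul_mem_right _ hqI))
      · rw [hqd, add_comm]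
        exact lt_of_le_of_lt degree_linear_le (by exact_mod_cast Nat.one_lt_two)
      · rw [smul_eq_mul, hqdef]; simp only [map_sub, map_mul, map_add]; ring
    · rintro x y ⟨s, hs, ι, hι, P, hP, rfl⟩ ⟨s', hs', ι', hι', P', hP', rfl⟩
      refine ⟨s + s', B_add _ _ hs hs', ι + ι', I'.add_mem hι hι', P + P', ?_, ?_⟩
      · exact lt_of_le_of_lt (degree_add_le _ _) (max_lt hP hP')
      · rw [map_add]; ring
  obtain ⟨s, hs, ι, hι, P₀, hP₀, hqeq⟩ := claim q (by rwa [pow_two] at hq)
  have hdiv1 := (div_modByMonic_unique (C s + ι) P₀ hqm ⟨hqeq.symm, hP₀⟩).1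
  have hdiv2 := (div_modByMonic_unique (f := q) 1 0 hqm ⟨by ring, by
    rw [degree_zero]; exact bot_lt_iff_ne_bot.mpr (degree_ne_bot.mpr hqm.ne_zero)⟩).1
  have hι1 : C s + ι = 1 := hdiv1.symm.trans hdiv2
  have hB1 : B 1 := by
    have h1s : B (1 - s) := by
      apply B_swap (1 - s) 0
      have : (C (1 - s) + C 0 * X : κ[X][X]) = ι := by
        rw [map_sub, map_one, map_zero, zero_mul, add_zero]
        linear_combination (-1 : κ[X][X]) * hι1
      rw [this]; exact hι
    have := B_add _ _ h1s hs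
    simpa using this
  obtain ⟨α, hα⟩ := hB1
  obtain ⟨τ, hτ⟩ : ∃ τ : κ[X], τ = -α := ⟨_, rfl⟩
  have hu : (X - C τ : κ[X][X]) ∈ I' := by
    convert hα using 1
    rw [hτ, map_neg, sub_neg_eq_add, map_one, one_mul, add_comm]
  have hker : ∀ F : κ[X][X], F.eval τ = 0 → F ∈ I' := by
    intro F hF
    obtain ⟨k, rfl⟩ := dvd_iff_isRoot.mpr hF
    exact I'.mul_mem_right k hu
  obtain ⟨ev, hev⟩ : ∃ ev : κ[X][X] →+* κ[X], ∀ F, ev F = F.eval τ := ⟨evalRingHom τ, fun F => rfl⟩
  have hsurj : Function.Surjective ev := fun a => ⟨C a, by rw [hev, eval_C]⟩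
  have hN : τ ^ 2 + c ∈ (Ideal.map ev I') ^ 2 := by
    have := Ideal.mem_map_of_mem ev hq
    rw [Ideal.map_pow, hev, hqdef] at this
    simpa using this
  obtain ⟨g, hg⟩ : ∃ g, Ideal.map ev I' = Ideal.span {g} :=
    (IsPrincipalIdealRing.principal (Ideal.map ev I')).principal
  rw [hg, Ideal.span_singleton_pow, Ideal.mem_span_singleton] at hN
  have hgI : (C g : κ[X][X]) ∈ I' := by
    have hgm : g ∈ Ideal.map ev I' := by rw [hg]; exact Ideal.mem_span_singleton_self g
    obtain ⟨F, hF, hFg⟩ := (Ideal.mem_map_iff_of_surjective ev hsurj).mp hgm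
    rw [hev] at hFg
    have : F - C g ∈ I' := hker _ (by rw [eval_sub, eval_C, hFg, sub_self])
    have := I'.sub_mem hF this
    simpa using this
  have h2X : (2 : κ[X]) = 0 := by
    have : (2 : κ[X]) = C (2 : κ) := (map_ofNat C 2).symm
    rw [this, h2, C_0]
  have hcdeg : c.natDegree ≤ 2 := by rw [hc]; compute_degree
  obtain ⟨ρ, hρ⟩ : ∃ ρ : κ[X], ρ ^ 2 + c = 0 := by
    by_cases hg0 : g = 0
    · refine ⟨τ, ?_⟩
      rw [hg0] at hN; simpa using hN
    · obtain ⟨r, h, hdm, hr⟩ : ∃ r h : κ[X], g * h + r = τ ∧ r.degree < g.degree :=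
        ⟨τ % g, τ / g, EuclideanDomain.div_add_mod τ g, degree_mod_lt τ hg0⟩
      have hXr : (X - C r : κ[X][X]) ∈ I' := by
        have := I'.add_mem hu (I'.mul_mem_right (C h) hgI)
        convert this using 1
        rw [← hdm]; simp only [map_add, map_mul]; ring
      have hN' : g ^ 2 ∣ r ^ 2 + c := by
        have e : r ^ 2 + c = (τ ^ 2 + c) - g ^ 2 * (h ^ 2) - 2 * (g * h * r) := by
          rw [← hdm]; ring
        rw [e, h2X, zero_mul, sub_zero]
        exact dvd_sub hN (dvd_mul_right _ _)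
      have hrn : r.natDegree = 0 ∨ r.natDegree < g.natDegree := by
        by_cases hr0 : r = 0
        · left; simp [hr0]
        · right; exact natDegree_lt_natDegree hr0 hr
      by_cases hgd : g.natDegree ≤ 1
      · exfalso
        have hrn0 : r.natDegree = 0 := by omega
        have hrC := eq_C_of_natDegree_eq_zero hrn0
        apply P1 g hg0 hgd hgI (r.coeff 0)
        rw [← hrC]; exact hXr
      · push Not at hgd
        refine ⟨r, ?_⟩
        by_contra hne
        have h1 := natDegree_le_of_dvd hN' hne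
        rw [natDegree_pow] at h1
        have h2' : (r ^ 2 + c).natDegree ≤ max (r ^ 2).natDegree c.natDegree :=
          natDegree_add_le _ _
        rw [natDegree_pow] at h2'
        have : max (2 * r.natDegree) c.natDegree < 2 * g.natDegree :=
          max_lt (by omega) (by omega)
        omega
  have hρdeg : ρ.natDegree ≤ 1 := by
    have e : ρ ^ 2 = -c := eq_neg_of_add_eq_zero_left hρ
    have : (ρ ^ 2).natDegree ≤ 2 := by rw [e, natDegree_neg]; exact hcdeg
    rw [natDegree_pow] at this; omega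
  obtain ⟨ρ₁, ρ₀, rfl⟩ := exists_eq_X_add_C_of_natDegree_le_one hρdeg
  have e : C (ρ₁ ^ 2 + c₂) * X ^ 2 + C (2 * ρ₁ * ρ₀) * X + C (ρ₀ ^ 2 + a₀) = (0 : κ[X]) := by
    rw [← hρ, hc]; simp only [map_add, map_mul, map_pow, map_ofNat]; ring
  have e2 := Polynomial.ext_iff.mp e 2
  have e0 := Polynomial.ext_iff.mp e 0
  simp only [coeff_add, coeff_C_mul, coeff_X_pow, coeff_X, coeff_C, coeff_zero] at e2 e0
  norm_num at e2 e0
  refine ⟨ρ₀, ρ₁, ?_, ?_⟩
  · linear_combination e2 - ρ₁ ^ 2 * h2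
  · linear_combination e0 - ρ₀ ^ 2 * h2

open MvPolynomial in
theorem transport {κ : Type*} [Field κ] (I : Ideal (MvPolynomial (Fin 2) κ))
    (hI : ¬ (Module.Finite κ (MvPolynomial (Fin 2) κ ⧸ I) ∧
      Module.finrank κ (MvPolynomial (Fin 2) κ ⧸ I) ≤ 1)) (h2 : (2 : κ) = 0)
    (i₀ i₁ : Fin 2) (hne : i₀ ≠ i₁) (c₂ a₀ : κ)
    (hq : (X i₀ ^ 2 + C c₂ * X i₁ ^ 2 + C a₀ : MvPolynomial (Fin 2) κ) ∈ I ^ 2) :
    ∃ α₀ α₁ : κ, c₂ = α₁ ^ 2 ∧ a₀ = α₀ ^ 2 := by
  have hcov0 : ∀ (j₀ j₁ : Fin 2), j₀ ≠ j₁ → ∀ i : Fin 2, i = j₀ ∨ i = j₁ := by decide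
  have hcov := hcov0 i₀ i₁ hne
  have hn : ¬ (i₁ = i₀) := fun e => hne e.symm
  let s : Fin 2 → Polynomial (Polynomial κ) :=
    fun i => if i = i₀ then Polynomial.X else Polynomial.C Polynomial.X
  let E : MvPolynomial (Fin 2) κ →+* Polynomial (Polynomial κ) :=
    eval₂Hom ((Polynomial.C).comp Polynomial.C) s
  let ψ₀ : Polynomial κ →+* MvPolynomial (Fin 2) κ := Polynomial.eval₂RingHom C (X i₁)
  let Ψ : Polynomial (Polynomial κ) →+* MvPolynomial (Fin 2) κ :=
    Polynomial.eval₂RingHom ψ₀ (X i₀)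
  have hΨE : ∀ F, Ψ (E F) = F := by
    intro F
    have : Ψ.comp E = RingHom.id _ := by
      apply MvPolynomial.ringHom_ext
      · intro c; simp [E, Ψ, ψ₀]
      · intro i
        rcases hcov i with h | h
        · simp [E, Ψ, ψ₀, s, h]
        · simp [E, Ψ, ψ₀, s, h, hn]
    exact RingHom.congr_fun this F
  have hq' := Ideal.mem_map_of_mem E hq
  rw [Ideal.map_pow] at hq'
  have hEq : E (X i₀ ^ 2 + C c₂ * X i₁ ^ 2 + C a₀) =
      (Polynomial.X ^ 2 + Polynomial.C (Polynomial.C c₂ * Polynomial.X ^ 2 + Polynomial.C a₀)) := by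
    simp [E, s, hn]; ring
  rw [hEq] at hq'
  apply core h2 (Ideal.map E I) c₂ a₀ hq'
  intro g hg0 hgd hgI α₀ hX
  have hpull : Ideal.map E I ≤ Ideal.comap Ψ I := by
    rw [Ideal.map_le_iff_le_comap]
    intro F hF
    rw [Ideal.mem_comap, Ideal.mem_comap, hΨE]; exact hF
  have h1 := hpull hgI
  have h2' := hpull hX
  rw [Ideal.mem_comap] at h1 h2'
  obtain ⟨g₁, g₀, rfl⟩ := Polynomial.exists_eq_X_add_C_of_natDegree_le_one hgd
  have e1 : Ψ (Polynomial.C (Polynomial.C g₁ * Polynomial.X + Polynomial.C g₀)) =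
      C g₀ + C g₁ * X i₁ := by
    simp [Ψ, ψ₀]; ring
  have e2 : Ψ (Polynomial.X - Polynomial.C (Polynomial.C α₀)) = X i₀ - C α₀ := by
    simp [Ψ, ψ₀]
  rw [e1] at h1; rw [e2] at h2'
  obtain ⟨hs, ht⟩ := coeffs_zero I hI i₀ i₁ hne g₀ g₁ α₀ h1 h2'
  apply hg0; rw [hs, ht]; simp

end helpers

/-- Let κ be a field and I an ideal of κ[x, y] whose colength is greater than one (the quotient is not
of dimension at most one over κ). If a nonzero polynomial a + bx + cy + dx^2 + exy + fy^2 lies in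
I^2, then it equals j (g + hx + iy)^2 for some scalars j, g, h, i. -/
theorem result (κ : Type u) [Field κ] (I : Ideal (MvPolynomial (Fin 2) κ))
    (hI : ¬ (Module.Finite κ (MvPolynomial (Fin 2) κ ⧸ I) ∧ Module.finrank κ (MvPolynomial (Fin 2) κ ⧸ I) ≤ 1))
    (a b c d e f : κ) (hne : (a, b, c, d, e, f) ≠ (0, 0, 0, 0, 0, 0))
    (hmem : (MvPolynomial.C a + MvPolynomial.C b * MvPolynomial.X 0 + MvPolynomial.C c * MvPolynomial.X 1 +
      MvPolynomial.C d * MvPolynomial.X 0 ^ 2 + MvPolynomial.C e * MvPolynomial.X 0 * MvPolynomial.X 1 +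
      MvPolynomial.C f * MvPolynomial.X 1 ^ 2 : MvPolynomial (Fin 2) κ) ∈ I ^ 2) :
    ∃ j g h i : κ, (MvPolynomial.C a + MvPolynomial.C b * MvPolynomial.X 0 + MvPolynomial.C c * MvPolynomial.X 1 +
      MvPolynomial.C d * MvPolynomial.X 0 ^ 2 + MvPolynomial.C e * MvPolynomial.X 0 * MvPolynomial.X 1 +
      MvPolynomial.C f * MvPolynomial.X 1 ^ 2 : MvPolynomial (Fin 2) κ) =
      MvPolynomial.C j * (MvPolynomial.C g + MvPolynomial.C h * MvPolynomial.X 0 + MvPolynomial.C i * MvPolynomial.X 1) ^ 2 := by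
  classical
  obtain ⟨q, hqdef⟩ : ∃ q : MvPolynomial (Fin 2) κ, q = MvPolynomial.C a + MvPolynomial.C b * MvPolynomial.X 0 +
      MvPolynomial.C c * MvPolynomial.X 1 + MvPolynomial.C d * MvPolynomial.X 0 ^ 2 +
      MvPolynomial.C e * MvPolynomial.X 0 * MvPolynomial.X 1 + MvPolynomial.C f * MvPolynomial.X 1 ^ 2 := ⟨_, rfl⟩
  rw [← hqdef] at hmem
  have hqI : q ∈ I := Ideal.pow_le_self two_ne_zero hmem
  have hC2 : (MvPolynomial.C (2 : κ) : MvPolynomial (Fin 2) κ) = 2 := map_ofNat MvPolynomial.C 2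
  have hx : MvPolynomial.pderiv 0 q ∈ I := deriv_mem I (MvPolynomial.pderiv 0) q hmem
  have hy : MvPolynomial.pderiv 1 q ∈ I := deriv_mem I (MvPolynomial.pderiv 1) q hmem
  have ex : MvPolynomial.pderiv 0 q = MvPolynomial.C b + MvPolynomial.C (2 * d) * MvPolynomial.X 0 +
      MvPolynomial.C e * MvPolynomial.X 1 := by
    rw [hqdef]
    simp [MvPolynomial.pderiv_X_of_ne (show (1 : Fin 2) ≠ 0 by decide)]
    rw [hC2]; ring
  have ey : MvPolynomial.pderiv 1 q = MvPolynomial.C c + MvPolynomial.C e * MvPolynomial.X 0 +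
      MvPolynomial.C (2 * f) * MvPolynomial.X 1 := by
    rw [hqdef]
    simp [MvPolynomial.pderiv_X_of_ne (show (0 : Fin 2) ≠ 1 by decide)]
    rw [hC2]; ring
  have h0 : (MvPolynomial.C (2 * a) + MvPolynomial.C b * MvPolynomial.X 0 +
      MvPolynomial.C c * MvPolynomial.X 1 : MvPolynomial (Fin 2) κ) ∈ I := by
    have := I.sub_mem (I.sub_mem (I.mul_mem_left 2 hqI) (I.mul_mem_left (MvPolynomial.X 0) hx))
      (I.mul_mem_left (MvPolynomial.X 1) hy)
    rw [ex, ey, hqdef] at this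
    convert this using 1
    simp only [map_mul, map_ofNat]; ring
  rw [ex] at hx; rw [ey] at hy
  obtain ⟨m1, m2, m3⟩ := minors_zero I hI (2 * a) b c b (2 * d) e h0 hx
  obtain ⟨n1, n2, n3⟩ := minors_zero I hI (2 * a) b c c e (2 * f) h0 hy
  obtain ⟨k1, k2, k3⟩ := minors_zero I hI b (2 * d) e c e (2 * f) hx hy
  by_cases h2 : (2 : κ) = 0
  · -- characteristic two
    have he0 : e = 0 := by
      have : e ^ 2 = 0 := by linear_combination (2 * d * f) * h2 - k1
      exact pow_eq_zero_iff (two_ne_zero) |>.mp this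
    have hb0 : b = 0 := by
      apply const_notMem I hI
      simpa [h2, he0] using hx
    have hc0 : c = 0 := by
      apply const_notMem I hI
      simpa [h2, he0] using hy
    subst he0 hb0 hc0
    simp only [map_zero, zero_mul, add_zero] at hqdef
    by_cases hd : d = 0
    · by_cases hf : f = 0
      · exfalso
        subst hd hf
        simp only [map_zero, zero_mul, add_zero] at hqdef
        have : a = 0 := const_notMem I hI a (hqdef ▸ hqI)
        exact hne (by rw [this])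
      · -- orientation (1, 0)
        have hfinv : f * f⁻¹ = 1 := mul_inv_cancel₀ hf
        have key : (MvPolynomial.C f⁻¹ : MvPolynomial (Fin 2) κ) * MvPolynomial.C f = 1 := by
          rw [← MvPolynomial.C_mul, inv_mul_cancel₀ hf, MvPolynomial.C_1]
        have hq' : (MvPolynomial.X 1 ^ 2 + MvPolynomial.C (f⁻¹ * d) * MvPolynomial.X 0 ^ 2 +
            MvPolynomial.C (f⁻¹ * a) : MvPolynomial (Fin 2) κ) ∈ I ^ 2 := by
          have := Ideal.mul_mem_left (I ^ 2) (MvPolynomial.C f⁻¹) hmem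
          convert this using 1
          rw [hqdef]; simp only [map_mul]
          linear_combination (-(MvPolynomial.X 1 ^ 2 : MvPolynomial (Fin 2) κ)) * key
        obtain ⟨α₀, α₁, h1, h0'⟩ := transport I hI h2 1 0 (by decide) _ _ hq'
        refine ⟨f, α₀, α₁, 1, final_form _ _ _ _ _ _ _ _ _ _ ?_ ?_ ?_ ?_ ?_ ?_⟩
        · linear_combination (-a) * hfinv + f * h0'
        · linear_combination (-(f * α₀ * α₁)) * h2
        · linear_combination (-(f * α₀)) * h2
        · linear_combination (-d) * hfinv + f * h1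
        · linear_combination (-(f * α₁)) * h2
        · ring
    · -- orientation (0, 1)
      have hdinv : d * d⁻¹ = 1 := mul_inv_cancel₀ hd
      have key : (MvPolynomial.C d⁻¹ : MvPolynomial (Fin 2) κ) * MvPolynomial.C d = 1 := by
        rw [← MvPolynomial.C_mul, inv_mul_cancel₀ hd, MvPolynomial.C_1]
      have hq' : (MvPolynomial.X 0 ^ 2 + MvPolynomial.C (d⁻¹ * f) * MvPolynomial.X 1 ^ 2 +
          MvPolynomial.C (d⁻¹ * a) : MvPolynomial (Fin 2) κ) ∈ I ^ 2 := by
        have := Ideal.mul_mem_left (I ^ 2) (MvPolynomial.C d⁻¹) hmem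
        convert this using 1
        rw [hqdef]; simp only [map_mul]
        linear_combination (-(MvPolynomial.X 0 ^ 2 : MvPolynomial (Fin 2) κ)) * key
      obtain ⟨α₀, α₁, h1, h0'⟩ := transport I hI h2 0 1 (by decide) _ _ hq'
      refine ⟨d, α₀, 1, α₁, final_form _ _ _ _ _ _ _ _ _ _ ?_ ?_ ?_ ?_ ?_ ?_⟩
      · linear_combination (-a) * hdinv + d * h0'
      · linear_combination (-(d * α₀)) * h2
      · linear_combination (-(d * α₀ * α₁)) * h2
      · ring
      · linear_combination (-(d * α₁)) * h2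
      · linear_combination (-f) * hdinv + d * h1
  · -- characteristic different from two
    have h4 : (4 : κ) ≠ 0 := by
      have : (4 : κ) = 2 * 2 := by norm_num
      rw [this]; exact mul_ne_zero h2 h2
    by_cases ha : a = 0
    · by_cases hd : d = 0
      · by_cases hf : f = 0
        · exfalso
          subst ha hd hf
          have hb0 : b = 0 := by
            have : b ^ 2 = 0 := by linear_combination (-1 : κ) * m2
            exact pow_eq_zero_iff (two_ne_zero) |>.mp this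
          have hc0 : c = 0 := by
            have : c ^ 2 = 0 := by linear_combination (-1 : κ) * n3
            exact pow_eq_zero_iff (two_ne_zero) |>.mp this
          have he0 : e = 0 := by
            have : e ^ 2 = 0 := by linear_combination (-1 : κ) * k1
            exact pow_eq_zero_iff (two_ne_zero) |>.mp this
          exact hne (by rw [hb0, hc0, he0])
        · obtain ⟨J, hinv⟩ : ∃ J : κ, 4 * f * J = 1 := ⟨(4 * f)⁻¹, mul_inv_cancel₀ (mul_ne_zero h4 hf)⟩
          refine ⟨J, c, e, 2 * f, final_form _ _ _ _ _ _ _ _ _ _ ?_ ?_ ?_ ?_ ?_ ?_⟩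
          · linear_combination (-a) * hinv + J * n3
          · linear_combination (-b) * hinv + (2 * J) * k3
          · linear_combination (-c) * hinv
          · linear_combination (-d) * hinv + J * k1
          · linear_combination (-e) * hinv
          · linear_combination (-f) * hinv
      · obtain ⟨J, hinv⟩ : ∃ J : κ, 4 * d * J = 1 := ⟨(4 * d)⁻¹, mul_inv_cancel₀ (mul_ne_zero h4 hd)⟩
        refine ⟨J, b, 2 * d, e, final_form _ _ _ _ _ _ _ _ _ _ ?_ ?_ ?_ ?_ ?_ ?_⟩
        · linear_combination (-a) * hinv + J * m2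
        · linear_combination (-b) * hinv
        · linear_combination (-c) * hinv - (2 * J) * k2
        · linear_combination (-d) * hinv
        · linear_combination (-e) * hinv
        · linear_combination (-f) * hinv + J * k1
    · obtain ⟨J, hinv⟩ : ∃ J : κ, 4 * a * J = 1 := ⟨(4 * a)⁻¹, mul_inv_cancel₀ (mul_ne_zero h4 ha)⟩
      refine ⟨J, 2 * a, b, c, final_form _ _ _ _ _ _ _ _ _ _ ?_ ?_ ?_ ?_ ?_ ?_⟩
      · linear_combination (-a) * hinv
      · linear_combination (-b) * hinv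
      · linear_combination (-c) * hinv
      · linear_combination (-d) * hinv + J * m2
      · linear_combination (-e) * hinv + (2 * J) * m3
      · linear_combination (-f) * hinv + J * n3

end Groth.Agent.S1601
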