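import Groth.Statements.S16014
import Mathlib.Tactic.Ring
import Mathlib.Tactic.Linarith
import Mathlib.Algebra.Order.Interval.Finset.Basic
import Mathlib.Order.Interval.Finset.Basic
import Mathlib.Algebra.BigOperators.Ring.Finset
import Mathlib.Algebra.BigOperators.Group.Finset.Sigma

set_option autoImplicit false
universe u
open W4c3ghconstell

namespace Groth.Agent.S16014


/-- double counting: `∑_{n=L+1}^{M} ∑_{m=n}^{M} a m = ∑_{m=L+1}^{M} (m - L) a m`. -/
theorem sum_Icc_sum_Icc (a : ℤ → ℚ) (L M : ℤ) :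
    ∑ n ∈ Finset.Icc (L + 1) M, ∑ m ∈ Finset.Icc n M, a m =
      ∑ m ∈ Finset.Icc (L + 1) M, ((m : ℚ) - L) * a m := by
  rw [Finset.sum_comm' (s := Finset.Icc (L + 1) M) (t := fun n => Finset.Icc n M)
    (t' := Finset.Icc (L + 1) M) (s' := fun m => Finset.Icc (L + 1) m)]
  · refine Finset.sum_congr rfl (fun m hm => ?_)
    rw [Finset.sum_const, Int.card_Icc, nsmul_eq_mul]
    rw [Finset.mem_Icc] at hm
    congr 1
    have h : (0 : ℤ) ≤ m + 1 - (L + 1) := by omega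
    rw [← Int.cast_natCast, Int.toNat_of_nonneg h]
    push_cast
    ring
  · intro n m
    simp only [Finset.mem_Icc]
    omega

/-- Let B = ⊕_{n ∈ ℤ} ⊕_τ B^n_τ be a bigraded finite-dimensional vector space, τ running over a finite
index set, with B^n = 0 for n < −N and for n > M (N, M integers); put d(n, τ) = dim B^n_τ. For
rational numbers φ_τ write φ(C) = Σ_τ φ_τ dim C_τ for a τ-graded piece C, and let B^{≥n} = ⊕_{m ≥ n}
B^m, so that dim B^{≥n}_τ = Σ_{n ≤ m ≤ M} d(m, τ). Then Σ_{−N ≤ n ≤ M} n · φ(B^n) = Σ_{−N+1 ≤ n ≤ M}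
φ(B^{≥n}) − N · φ(B). (Stated directly on the dimension function d.) -/
theorem result {τ : Type u} [Fintype τ] (d : ℤ → τ → ℕ) (φ : τ → ℚ) (N M : ℤ)
    (hN : ∀ n, n < -N → d n = 0) (hM : ∀ n, M < n → d n = 0) :
    ∑ n ∈ Finset.Icc (-N) M, (n : ℚ) * (∑ t, φ t * (d n t : ℚ)) =
      ∑ n ∈ Finset.Icc (-N + 1) M, (∑ t, φ t * (∑ m ∈ Finset.Icc n M, (d m t : ℚ))) -
        (N : ℚ) * (∑ t, φ t * (∑ m ∈ Finset.Icc (-N) M, (d m t : ℚ))) := by
  obtain ⟨a, ha⟩ : ∃ a : ℤ → ℚ, a = fun n => ∑ t, φ t * (d n t : ℚ) := ⟨_, rfl⟩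
  have h1 : ∀ n : ℤ, (∑ t, φ t * (∑ m ∈ Finset.Icc n M, (d m t : ℚ))) = ∑ m ∈ Finset.Icc n M, a m := by
    intro n
    simp only [ha, Finset.mul_sum]
    rw [Finset.sum_comm]
  have h0 : ∀ n : ℤ, (∑ t, φ t * (d n t : ℚ)) = a n := by
    intro n
    rw [ha]
  simp only [h1, h0]
  rw [sum_Icc_sum_Icc a (-N) M]
  by_cases hNM : -N ≤ M
  · have hins : Finset.Icc (-N) M = insert (-N) (Finset.Icc (-N + 1) M) := by
      ext x
      simp only [Finset.mem_Icc, Finset.mem_insert]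
      omega
    have hnot : -N ∉ Finset.Icc (-N + 1) M := by
      simp only [Finset.mem_Icc]
      omega
    rw [hins, Finset.sum_insert hnot, Finset.sum_insert hnot]
    have h3 : ∑ m ∈ Finset.Icc (-N + 1) M, (((m : ℚ) - ((-N : ℤ) : ℚ)) * a m) =
        ∑ m ∈ Finset.Icc (-N + 1) M, (m : ℚ) * a m + (N : ℚ) * ∑ m ∈ Finset.Icc (-N + 1) M, a m := by
      rw [Finset.mul_sum, ← Finset.sum_add_distrib]
      refine Finset.sum_congr rfl (fun m _ => ?_)
      push_cast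
      ring
    rw [h3]
    push_cast
    ring
  · have he1 : Finset.Icc (-N) M = ∅ := Finset.Icc_eq_empty (by omega)
    have he2 : Finset.Icc (-N + 1) M = ∅ := Finset.Icc_eq_empty (by omega)
    rw [he1, he2]
    simp

end Groth.Agent.S16014
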