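import Groth.Statements.S16015
import Mathlib.RingTheory.Finiteness.Projective
import Mathlib.LinearAlgebra.Pi
import Mathlib.RingTheory.Ideal.Quotient.Operations
import Mathlib.LinearAlgebra.TensorProduct.Basic

set_option autoImplicit false
universe u v w
open W4c3ghconstell

namespace Groth.Agent.S16015

open TensorProduct

section
variable {B : Type u} [CommRing B]
    {E : Type v} [AddCommGroup E] [Module B E]
    {F : Type w} [AddCommGroup F] [Module B F]
    (β : E →ₗ[B] F)

/-- The ideal of coefficients of `β`. -/
def coeffIdeal : Ideal B := Ideal.span {b | ∃ (f : F →ₗ[B] B) (e : E), b = f (β e)}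

theorem coeffIdeal_le_of_baseChange_eq_zero (C : Type u) [CommRing C] [Algebra B C]
    (h : LinearMap.baseChange C β = 0) : coeffIdeal β ≤ RingHom.ker (algebraMap B C) := by
  rw [coeffIdeal, Ideal.span_le]
  rintro b ⟨f, e, rfl⟩
  rw [SetLike.mem_coe, RingHom.mem_ker]
  have h1 : LinearMap.baseChange C β ((1 : C) ⊗ₜ[B] e) = 0 := by rw [h]; rfl
  rw [LinearMap.baseChange_tmul] at h1
  have h2 := congrArg (fun z => (TensorProduct.rid B C) ((f.lTensor C) z)) h1
  simp only [LinearMap.lTensor_tmul, TensorProduct.rid_tmul, map_zero] at h2
  rw [Algebra.algebraMap_eq_smul_one]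
  exact h2

theorem baseChange_eq_zero_of_coeffIdeal_le [Module.Finite B F] [Module.Projective B F]
    (C : Type u) [CommRing C] [Algebra B C]
    (h : coeffIdeal β ≤ RingHom.ker (algebraMap B C)) : LinearMap.baseChange C β = 0 := by
  obtain ⟨n, f, g, -, -, hfg⟩ := Module.Finite.exists_comp_eq_id_of_projective B F
  apply TensorProduct.AlgebraTensorModule.ext
  intro c e
  rw [LinearMap.baseChange_tmul, LinearMap.zero_apply]
  have h1 : β e = f (g (β e)) := by
    have := LinearMap.congr_fun hfg (β e)
    simpa using this.symm
  rw [h1, LinearMap.pi_apply_eq_sum_univ f (g (β e)), TensorProduct.tmul_sum]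
  apply Finset.sum_eq_zero
  intro j _
  have hmem : g (β e) j ∈ coeffIdeal β := by
    apply Ideal.subset_span
    exact ⟨(LinearMap.proj j).comp g, e, rfl⟩
  have hker : algebraMap B C (g (β e) j) = 0 := h hmem
  rw [TensorProduct.tmul_smul, TensorProduct.smul_tmul', Algebra.smul_def, hker, zero_mul,
    TensorProduct.zero_tmul]

end


/-- Let B be a commutative ring, E a B-module, F a finitely generated projective B-module and β : E → F
a B-linear map. Then there is a unique ideal I of B such that for every commutative B-algebra C the
base change β_C : C ⊗ E → C ⊗ F is zero if and only if the structure map B → C kills I. (The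
published statement is for a homomorphism of modules on a scheme T into a locally free module and
produces a closed subscheme T₀ through which a morphism factors exactly when the pulled-back
homomorphism vanishes; this row is the case of an affine T with affine test schemes and F of finite
rank, to which it reduces.) -/
theorem result {B : Type u} [CommRing B]
    {E : Type v} [AddCommGroup E] [Module B E]
    {F : Type w} [AddCommGroup F] [Module B F] [Module.Finite B F] [Module.Projective B F]
    (β : E →ₗ[B] F) :
    ∃! I : Ideal B, ∀ (C : Type u) [CommRing C] [Algebra B C],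
      LinearMap.baseChange C β = 0 ↔ I ≤ RingHom.ker (algebraMap B C) := by
  refine ⟨coeffIdeal β, ?_, ?_⟩
  · intro C _ _
    exact ⟨coeffIdeal_le_of_baseChange_eq_zero β C, baseChange_eq_zero_of_coeffIdeal_le β C⟩
  · intro I' hI'
    have hker : ∀ J : Ideal B, RingHom.ker (algebraMap B (B ⧸ J)) = J := fun J => Ideal.mk_ker
    apply le_antisymm
    · -- I' ≤ coeffIdeal : test on B ⧸ coeffIdeal
      have h0 : LinearMap.baseChange (B ⧸ coeffIdeal β) β = 0 :=
        baseChange_eq_zero_of_coeffIdeal_le β _ (by rw [hker])
      have := (hI' (B ⧸ coeffIdeal β)).mp h0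
      rwa [hker] at this
    · have h0 : LinearMap.baseChange (B ⧸ I') β = 0 :=
        (hI' (B ⧸ I')).mpr (by rw [hker])
      have := coeffIdeal_le_of_baseChange_eq_zero β _ h0
      rwa [hker] at this

end Groth.Agent.S16015
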