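import Groth.Statements.S16016
import Mathlib.Tactic.FinCases
import Mathlib.Tactic.Ring
import Mathlib.Tactic.LinearCombination
import Mathlib.LinearAlgebra.Span.Basic

set_option autoImplicit false
universe u
open W4c3ghconstell

namespace Groth.Agent.S16016

/-- Let k be a field with 2 ≠ 0, index k⁶ by two copies of {0,1,2} (basis vectors p₁, p₂, p₃ in the
first copy and p₄, p₅, p₆ in the second), let Q be the symmetric matrix with blocks ((0, 1), (1,
0)), so that the form it defines pairs pᵢ with pᵢ₊₃, and let W₀ be the span of p₁ and p₂. Then a 6 ×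
6 matrix A satisfies AᵀQ + QA = 0 (A lies in the orthogonal Lie algebra of Q) and has the image of
Aᵀ contained in W₀ if and only if A = a · (E₄₂ − E₅₁) for some scalar a, where Eᵢⱼ is the matrix
unit. (The lemma in the source concludes that the set of such A inside a certain nilpotent orbit
closure of this Lie algebra is one-dimensional; this row is the computation its proof performs,
which determines all such A in the Lie algebra. Characteristic 2 is excluded: there E₁₄ᵀ also
qualifies.) -/
theorem result (k : Type u) [Field k] (h2 : (2 : k) ≠ 0)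
    (A : Matrix (Fin 3 ⊕ Fin 3) (Fin 3 ⊕ Fin 3) k) :
    (A.transpose * Matrix.fromBlocks (0 : Matrix (Fin 3) (Fin 3) k) 1 1 0 +
        Matrix.fromBlocks (0 : Matrix (Fin 3) (Fin 3) k) 1 1 0 * A = 0 ∧
      LinearMap.range (Matrix.mulVecLin A.transpose) ≤
        Submodule.span k {Pi.single (Sum.inl 0 : Fin 3 ⊕ Fin 3) (1 : k), Pi.single (Sum.inl 1 : Fin 3 ⊕ Fin 3) (1 : k)}) ↔
    ∃ a : k, A = a • (Matrix.single (Sum.inr 0) (Sum.inl 1) (1 : k) - Matrix.single (Sum.inr 1) (Sum.inl 0) (1 : k)) := by
  constructor
  · rintro ⟨hQ, hrange⟩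
    -- columns of A other than inl 0, inl 1 vanish
    have hcol : ∀ (j i : Fin 3 ⊕ Fin 3), i ≠ Sum.inl 0 → i ≠ Sum.inl 1 → A j i = 0 := by
      intro j i h0 h1
      have hmem : Matrix.mulVecLin A.transpose (Pi.single j 1) ∈
          Submodule.span k {Pi.single (Sum.inl 0 : Fin 3 ⊕ Fin 3) (1 : k),
            Pi.single (Sum.inl 1 : Fin 3 ⊕ Fin 3) (1 : k)} :=
        hrange (LinearMap.mem_range_self _ _)
      rw [Submodule.mem_span_pair] at hmem
      obtain ⟨a, b, hab⟩ := hmem
      have := congrFun hab i
      simp only [Pi.add_apply, Pi.smul_apply, Pi.single_apply, if_neg h0, if_neg h1, smul_zero,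
        add_zero, Matrix.mulVecLin_apply, Matrix.mulVec_single_one, Matrix.col_apply,
        Matrix.transpose_apply] at this
      exact this.symm
    have hent : ∀ i j : Fin 3 ⊕ Fin 3,
        (A.transpose * Matrix.fromBlocks (0 : Matrix (Fin 3) (Fin 3) k) 1 1 0 +
          Matrix.fromBlocks (0 : Matrix (Fin 3) (Fin 3) k) 1 1 0 * A :
            Matrix (Fin 3 ⊕ Fin 3) (Fin 3 ⊕ Fin 3) k) i j = 0 := by
      intro i j
      rw [hQ]
      rfl
    have key : ∀ i j : Fin 3 ⊕ Fin 3, A (Sum.swap j) i + A (Sum.swap i) j = 0 := by
      intro i j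
      have e := hent i j
      rcases i with i | i <;> rcases j with j | j <;>
        simpa [Matrix.add_apply, Matrix.mul_apply, Fintype.sum_sum_type, Matrix.one_apply,
          Matrix.transpose_apply] using e
    have h_inl : ∀ x c, A (Sum.inl x) c = 0 := by
      intro x c
      have e := key (Sum.inr x) c
      rw [hcol _ (Sum.inr x) (by simp) (by simp)] at e
      simpa using e
    have h_inr2 : ∀ c, A (Sum.inr 2) c = 0 := by
      intro c
      have e := key (Sum.inl 2) c
      rw [hcol _ (Sum.inl 2) (by decide) (by decide)] at e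
      simpa using e
    have h00 : A (Sum.inr 0) (Sum.inl 0) = 0 := by
      have e := key (Sum.inl 0) (Sum.inl 0)
      simp only [Sum.swap_inl] at e
      have h : (2:k) * A (Sum.inr 0) (Sum.inl 0) = 0 := by linear_combination e
      exact (mul_eq_zero.mp h).resolve_left h2
    have h11 : A (Sum.inr 1) (Sum.inl 1) = 0 := by
      have e := key (Sum.inl 1) (Sum.inl 1)
      simp only [Sum.swap_inl] at e
      have h : (2:k) * A (Sum.inr 1) (Sum.inl 1) = 0 := by linear_combination e
      exact (mul_eq_zero.mp h).resolve_left h2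
    have h10 : A (Sum.inr 1) (Sum.inl 0) = - A (Sum.inr 0) (Sum.inl 1) := by
      have e := key (Sum.inl 1) (Sum.inl 0)
      simp only [Sum.swap_inl] at e
      linear_combination e
    refine ⟨A (Sum.inr 0) (Sum.inl 1), ?_⟩
    ext i j
    rcases i with i | i
    · rw [h_inl]
      simp [Matrix.single_apply, Matrix.sub_apply, Matrix.smul_apply]
    · rcases j with j | j
      · fin_cases i <;> fin_cases j <;>
          simp [Matrix.single_apply, Matrix.sub_apply, Matrix.smul_apply, h00, h11, h10, h_inr2,
            hcol]
      · rw [hcol _ _ (by simp) (by simp)]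
        simp [Matrix.single_apply, Matrix.sub_apply, Matrix.smul_apply]
  · rintro ⟨a, rfl⟩
    constructor
    · ext i j
      rcases i with i | i <;> rcases j with j | j <;> fin_cases i <;> fin_cases j <;>
        simp [Matrix.add_apply, Matrix.mul_apply, Fintype.sum_sum_type, Fin.sum_univ_three,
          Matrix.one_apply, Matrix.transpose_apply, Matrix.single_apply, Matrix.sub_apply,
          Matrix.smul_apply]
    · rintro _ ⟨v, rfl⟩
      rw [Submodule.mem_span_pair]
      refine ⟨-(a * v (Sum.inr 1)), a * v (Sum.inr 0), ?_⟩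
      ext c
      rcases c with c | c <;> fin_cases c <;>
        simp [Matrix.mulVec, dotProduct, Fintype.sum_sum_type, Fin.sum_univ_three,
          Matrix.single_apply, Pi.single_apply, Matrix.sub_apply, Matrix.smul_apply,
          Matrix.transpose_apply]

end Groth.Agent.S16016
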