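import Groth.Statements.S16017
import Mathlib

set_option autoImplicit false
universe u
open W4c3ghconstell

namespace Groth.Agent.S16017

/-- Let ι index the irreducible representations, θ : ι → ℚ a weight negative at only finitely many
indices (the finite set D₋), h h' : ι → ℕ with h' ≤ h pointwise (the isotypic dimensions of an
object and of a sub-object) and Σ_i θ_i h_i summable. For a finite set D of indices put S_D = Σ_{i ∉
D} θ_i h_i, d = #(D ∖ D₋), and θ̃_D = Σ_{i ∈ D} θ_i h'_i + (S_D / d) · Σ_{i ∈ D ∖ D₋} h'_i / h_i,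
the modified weight attached to the parameters chosen for D (for D ⊇ D₋ the first sum is the
negative part plus the part over D ∖ D₋). Then θ̃_D tends to Σ_i θ_i h'_i as D grows through the
finite subsets of ι. (Here D runs over all finite sets of indices and a quotient by zero is zero;
the source lets D run over the finite subsets of the locus θ ≠ 0 containing D₋, and the same tail
estimate gives both.) -/
theorem result {ι : Type u} [DecidableEq ι] (θ : ι → ℚ) (h h' : ι → ℕ)
    (hle : ∀ i, h' i ≤ h i) (hfin : {i | θ i < 0}.Finite)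
    (hsum : Summable (fun i => (θ i : ℝ) * (h i : ℝ))) :
    Filter.Tendsto
      (fun D : Finset ι =>
        (∑ i ∈ D, (θ i : ℝ) * (h' i : ℝ)) +
          ((∑' i, if i ∈ D then (0 : ℝ) else (θ i : ℝ) * (h i : ℝ)) / ((D \ hfin.toFinset).card : ℝ)) *
            ∑ i ∈ D \ hfin.toFinset, ((h' i : ℝ) / (h i : ℝ)))
      Filter.atTop (nhds (∑' i, (θ i : ℝ) * (h' i : ℝ))) := by
  classical
  have hb : Summable (fun i => (θ i : ℝ) * (h' i : ℝ)) := by
    refine Summable.of_norm_bounded (summable_abs_iff.mpr hsum) ?_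
    intro i
    rw [Real.norm_eq_abs, abs_mul, abs_mul]
    apply mul_le_mul_of_nonneg_left _ (abs_nonneg _)
    rw [Nat.abs_cast, Nat.abs_cast]
    exact_mod_cast hle i
  have h1 : Filter.Tendsto (fun D : Finset ι => ∑ i ∈ D, (θ i : ℝ) * (h' i : ℝ)) Filter.atTop
      (nhds (∑' i, (θ i : ℝ) * (h' i : ℝ))) := hb.hasSum
  have h1' : Filter.Tendsto (fun D : Finset ι => ∑ i ∈ D, (θ i : ℝ) * (h i : ℝ)) Filter.atTop
      (nhds (∑' i, (θ i : ℝ) * (h i : ℝ))) := hsum.hasSum
  have hS : ∀ D : Finset ι, (∑' i, if i ∈ D then (0 : ℝ) else (θ i : ℝ) * (h i : ℝ))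
      = (∑' i, (θ i : ℝ) * (h i : ℝ)) - ∑ i ∈ D, (θ i : ℝ) * (h i : ℝ) := by
    intro D
    have e1 : (fun i => if i ∈ D then (0 : ℝ) else (θ i : ℝ) * (h i : ℝ))
        = fun i => (θ i : ℝ) * (h i : ℝ) - (if i ∈ D then (θ i : ℝ) * (h i : ℝ) else 0) := by
      funext i; split_ifs <;> simp
    have hs2 : Summable (fun i => if i ∈ D then (θ i : ℝ) * (h i : ℝ) else 0) :=
      summable_of_ne_finset_zero (s := D) (fun i hi => if_neg hi)
    rw [e1, hsum.tsum_sub hs2]
    congr 1
    rw [tsum_eq_sum (s := D) (fun i hi => if_neg hi)]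
    exact Finset.sum_congr rfl (fun i hi => if_pos hi)
  have h2 : Filter.Tendsto
      (fun D : Finset ι => ∑' i, if i ∈ D then (0 : ℝ) else (θ i : ℝ) * (h i : ℝ))
      Filter.atTop (nhds 0) := by
    have h3 : Filter.Tendsto (fun D : Finset ι =>
        (∑' i, (θ i : ℝ) * (h i : ℝ)) - ∑ i ∈ D, (θ i : ℝ) * (h i : ℝ)) Filter.atTop
        (nhds ((∑' i, (θ i : ℝ) * (h i : ℝ)) - (∑' i, (θ i : ℝ) * (h i : ℝ)))) :=
      tendsto_const_nhds.sub h1'
    rw [sub_self] at h3
    exact h3.congr (fun D => (hS D).symm)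
  have hR : ∀ D : Finset ι,
      |((∑' i, if i ∈ D then (0 : ℝ) else (θ i : ℝ) * (h i : ℝ)) /
          ((D \ hfin.toFinset).card : ℝ)) *
        ∑ i ∈ D \ hfin.toFinset, ((h' i : ℝ) / (h i : ℝ))|
      ≤ |∑' i, if i ∈ D then (0 : ℝ) else (θ i : ℝ) * (h i : ℝ)| := by
    intro D
    generalize (∑' i, if i ∈ D then (0 : ℝ) else (θ i : ℝ) * (h i : ℝ)) = S
    have hR0 : 0 ≤ ∑ i ∈ D \ hfin.toFinset, ((h' i : ℝ) / (h i : ℝ)) :=
      Finset.sum_nonneg (fun i _ => by positivity)
    have hR1 : ∑ i ∈ D \ hfin.toFinset, ((h' i : ℝ) / (h i : ℝ))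
        ≤ ((D \ hfin.toFinset).card : ℝ) := by
      have : ∑ i ∈ D \ hfin.toFinset, ((h' i : ℝ) / (h i : ℝ))
          ≤ ∑ i ∈ D \ hfin.toFinset, (1 : ℝ) :=
        Finset.sum_le_sum (fun i _ =>
          div_le_one_of_le₀ (by exact_mod_cast hle i) (by positivity))
      simpa using this
    rcases Nat.eq_zero_or_pos (D \ hfin.toFinset).card with h0 | hpos
    · rw [h0]; simp
    · have hd : (0 : ℝ) < ((D \ hfin.toFinset).card : ℝ) := by exact_mod_cast hpos
      rw [div_mul_eq_mul_div, abs_div, abs_mul, abs_of_nonneg hR0, abs_of_pos hd,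
        div_le_iff₀ hd]
      exact mul_le_mul_of_nonneg_left hR1 (abs_nonneg S)
  have h4 : Filter.Tendsto (fun D : Finset ι =>
      ((∑' i, if i ∈ D then (0 : ℝ) else (θ i : ℝ) * (h i : ℝ)) /
          ((D \ hfin.toFinset).card : ℝ)) *
        ∑ i ∈ D \ hfin.toFinset, ((h' i : ℝ) / (h i : ℝ))) Filter.atTop (nhds 0) := by
    apply squeeze_zero_norm
      (a := fun D : Finset ι => |∑' i, if i ∈ D then (0 : ℝ) else (θ i : ℝ) * (h i : ℝ)|)
    · intro D; rw [Real.norm_eq_abs]; exact hR D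
    · have h5 := h2.abs
      rw [abs_zero] at h5
      exact h5
  have h6 := h1.add h4
  rw [add_zero] at h6
  exact h6

end Groth.Agent.S16017
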