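import Groth.Statements.S16018
import Groth.Agent.H62.IsoTheta

set_option autoImplicit false
universe u v w x
open W4c3ghconstell

namespace Groth.Agent.S16018

/-- Let k be an algebraically closed field of characteristic zero, A a commutative Hopf algebra over k
which is a finitely generated domain and linearly reductive (the coordinate ring of a connected
reductive group G; irreducible representations of G are indexed by the simple subcoalgebras D of A),
R a Noetherian commutative k-algebra with a multiplicative A-coaction (an affine G-scheme X = Spec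
R), and M an R-module with a compatible A-coaction (a G-equivariant quasi-coherent module on X)
which is finite over R, is the sum of its isotypic components M_D, and has dim_k M_D = h(D) < ∞ for
every simple subcoalgebra D. Fix a weight θ from simple subcoalgebras to ℚ, negative at only
finitely many D, with Σ_D θ(D) h(D) = 0 (a convergent real series) and with θ(D) ≠ 0, h(D) ≠ 0 for
some D; the weight of a k-subspace N of M is the real series Σ_D θ(D) · dim_k (N ∩ M_D). Assume
moreover that θ(D) ≠ 0 for every simple subcoalgebra D. If M is θ-semistable, i.e. M has weight 0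
and every R-submodule of M stable under the coaction has weight ≥ 0, then M is generated as an
R-module by its isotypic components M_D with θ(D) < 0 (the generation property of θ-stable objects
thus extends to θ-semistable ones when θ vanishes nowhere). (Multiplicities are recorded as
dimensions of isotypic components, a rescaling of θ.) -/
theorem result (k : Type u) [Field k] [IsAlgClosed k] [CharZero k]
    (A : Type v) [CommRing A] [IsDomain A] [HopfAlgebra k A] [Algebra.FiniteType k A]
    (hred : HopfRep.IsLinearlyReductive k A)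
    (R : Type w) [CommRing R] [Algebra k R] [IsNoetherianRing R] [HopfRep.Comod k A R] [GLin.IsCoactAlg k A R]
    (M : Type x) [AddCommGroup M] [Module k M] [Module R M] [IsScalarTower k R M]
    [HopfRep.Comod k A M] [TameAct.IsHopfMod k A R M]
    (h : W4c3ghconstell.SimpSub k A → ℕ) (θ : W4c3ghconstell.SimpSub k A → ℚ)
    (hfin : {D | θ D < 0}.Finite) (hsum : HasSum (fun D => (θ D : ℝ) * (h D : ℝ)) 0)
    (hne : ∃ D, θ D ≠ 0 ∧ h D ≠ 0)
    (hM : W4c3ghconstell.IsConstellation k A R M h)
    (hθ : ∀ D, θ D ≠ 0)
    (hss : W4c3ghconstell.IsThetaSemistable k A R M θ) :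
    W4c3ghconstell.genIn k A R M {D | θ D < 0} ⊤ = ⊤ := by
  classical
  obtain ⟨_, hsup, hD⟩ := hM
  have hF : Groth.Agent.H62.IsoComp.FinData M h := ⟨fun D => (hD D).1, fun D => (hD D).2⟩
  have hNsub : HopfRep.IsSubcomod (k := k) (A := A)
      ((genIn k A R M {D | θ D < 0} ⊤).restrictScalars k) :=
    Groth.Agent.H62.IsoComp.isSubcomod_genIn _
      (by rw [Submodule.restrictScalars_top]; exact Groth.Agent.H40.isSubcomod_top)
  have hle : theta M θ ((genIn k A R M {D | θ D < 0} ⊤).restrictScalars k) ≤ 0 := by
    have h1 := Groth.Agent.H62.IsoComp.theta_genIn_le (R := R) hF hsum.summable (⊤ : Submodule R M)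
    rw [Submodule.restrictScalars_top, Groth.Agent.H62.IsoComp.theta_top hF hsum] at h1
    exact h1
  have hge := hss.2 _ hNsub
  have heq : theta M θ ((genIn k A R M {D | θ D < 0} ⊤).restrictScalars k) = 0 :=
    le_antisymm hle hge
  have hs1 : HasSum (fun D => (θ D : ℝ) *
      (hilbAt M ((genIn k A R M {D | θ D < 0} ⊤).restrictScalars k) D : ℝ)) 0 := by
    rw [← heq]
    exact (Groth.Agent.H62.IsoComp.summable_theta hF hsum.summable _).hasSum
  have hs2 : HasSum (fun D => (θ D : ℝ) * (h D : ℝ) - (θ D : ℝ) *
      (hilbAt M ((genIn k A R M {D | θ D < 0} ⊤).restrictScalars k) D : ℝ)) 0 := by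
    simpa using hsum.sub hs1
  have hnonneg : ∀ D, 0 ≤ (θ D : ℝ) * (h D : ℝ) - (θ D : ℝ) *
      (hilbAt M ((genIn k A R M {D | θ D < 0} ⊤).restrictScalars k) D : ℝ) := by
    intro D
    rcases lt_or_ge (θ D) 0 with hneg | hpos
    · rw [Groth.Agent.H62.IsoComp.hilbAt_eq_of_le hF
        (Groth.Agent.H62.IsoComp.isoComp_le_genIn_top (S := {D | θ D < 0}) hneg)]
      simp
    · have h5 := Groth.Agent.H62.IsoComp.hilbAt_le hF
        ((genIn k A R M {D | θ D < 0} ⊤).restrictScalars k) D
      rw [← mul_sub]
      exact mul_nonneg (by exact_mod_cast hpos) (sub_nonneg.mpr (by exact_mod_cast h5))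
  have h3 := (hasSum_zero_iff_of_nonneg hnonneg).mp hs2
  have h4 : ∀ D, hilbAt M ((genIn k A R M {D | θ D < 0} ⊤).restrictScalars k) D = h D := by
    intro D
    have h5 := congrFun h3 D
    simp only [Pi.zero_apply] at h5
    rw [← mul_sub, mul_eq_zero] at h5
    rcases h5 with h5 | h5
    · exact absurd (by exact_mod_cast h5) (hθ D)
    · have h6 : (h D : ℝ) =
          (hilbAt M ((genIn k A R M {D | θ D < 0} ⊤).restrictScalars k) D : ℝ) :=
        sub_eq_zero.mp h5
      exact_mod_cast h6.symm
  rw [eq_top_iff]
  intro m _
  have hm : m ∈ (⨆ D : SimpSub k A, isoComp M D.1) := by rw [hsup]; trivial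
  have hle2 : (⨆ D : SimpSub k A, isoComp M D.1) ≤
      (genIn k A R M {D | θ D < 0} ⊤).restrictScalars k :=
    iSup_le fun D => Groth.Agent.H62.IsoComp.isoComp_le_of_hilbAt_eq hF (h4 D)
  exact hle2 hm

end Groth.Agent.S16018
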