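import Groth.Statements.S4686
import Mathlib

set_option autoImplicit false
set_option linter.style.haveILetI false
set_option linter.unusedSectionVars false
set_option linter.unusedVariables false
open CategoryTheory AlgebraicGeometry
universe u
open FBase

namespace Groth.Agent.S4686

section Helpers

open CategoryTheory.Limits TensorProduct IsLocalRing

/-- A point without proper generizations has a local ring with a single prime ideal
(after helper25). -/
theorem forall_prime_eq_maximalIdeal_stalk (Y : Scheme.{u}) (y : Y)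
    (hy : ∀ z : Y, z ⤳ y → z = y) :
    ∀ P : Ideal (Y.presheaf.stalk y), P.IsPrime → P = maximalIdeal (Y.presheaf.stalk y) := by
  intro P hP
  let p : PrimeSpectrum (Y.presheaf.stalk y) := ⟨P, hP⟩
  have h1 : (Y.fromSpecStalk y) p ⤳ y := by
    have hmem : (Y.fromSpecStalk y) p ∈ Set.range (Y.fromSpecStalk y) := ⟨p, rfl⟩
    rw [Scheme.range_fromSpecStalk] at hmem
    exact hmem
  have h2 := hy _ h1
  have h3 : (Y.fromSpecStalk y) p = (Y.fromSpecStalk y) (closedPoint (Y.presheaf.stalk y)) := by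
    rw [h2, Scheme.fromSpecStalk_closedPoint]
  have h4 : p = closedPoint (Y.presheaf.stalk y) :=
    (Y.fromSpecStalk y).isEmbedding.injective h3
  exact congrArg PrimeSpectrum.asIdeal h4

/-- pure algebra: the pushout of a surjection `b` along `a` is surjective with kernel generated
by the image of `ker b`. -/
theorem pushout_surj_ker {R0 R2 Rr P : CommRingCat.{u}} {a : R0 ⟶ R2} {b : R0 ⟶ Rr}
    {c : R2 ⟶ P} {d : Rr ⟶ P} (H : IsPushout a b c d) (hb : Function.Surjective b.hom) :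
    Function.Surjective c.hom ∧ RingHom.ker c.hom ≤ (RingHom.ker b.hom).map a.hom := by
  have hw : ∀ x, c.hom (a.hom x) = d.hom (b.hom x) := by
    intro x
    have h := congrArg (fun t => t.hom x) H.w
    exact h
  obtain ⟨J, hJ⟩ : ∃ J : Ideal R2, J = (RingHom.ker b.hom).map a.hom := ⟨_, rfl⟩
  have hJc : ∀ x ∈ J, c.hom x = 0 := by
    intro x hx
    have hle : J ≤ RingHom.ker c.hom := by
      rw [hJ, Ideal.map_le_iff_le_comap]
      intro y hy
      rw [Ideal.mem_comap, RingHom.mem_ker, hw, (RingHom.mem_ker).mp hy, map_zero]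
    exact (RingHom.mem_ker).mp (hle hx)
  have hab : RingHom.ker b.hom ≤ RingHom.ker ((Ideal.Quotient.mk J).comp a.hom) := by
    intro y hy
    rw [RingHom.mem_ker, RingHom.comp_apply, Ideal.Quotient.eq_zero_iff_mem, hJ]
    exact Ideal.mem_map_of_mem _ hy
  obtain ⟨d', hd'⟩ : ∃ d' : Rr →+* (R2 ⧸ J), ∀ x, d' (b.hom x) = Ideal.Quotient.mk J (a.hom x) :=
    ⟨RingHom.liftOfSurjective b.hom hb ⟨(Ideal.Quotient.mk J).comp a.hom, hab⟩, fun x =>
      RingHom.liftOfSurjective_comp_apply b.hom hb ⟨(Ideal.Quotient.mk J).comp a.hom, hab⟩ x⟩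
  have comm : a ≫ CommRingCat.ofHom (Ideal.Quotient.mk J) = b ≫ CommRingCat.ofHom d' := by
    apply CommRingCat.hom_ext
    apply RingHom.ext
    intro x
    exact (hd' x).symm
  obtain ⟨δ, hδc, hδd⟩ : ∃ δ : P ⟶ CommRingCat.of (R2 ⧸ J),
      (∀ x, δ.hom (c.hom x) = Ideal.Quotient.mk J x) ∧ (∀ x, δ.hom (d.hom x) = d' x) := by
    refine ⟨H.desc _ _ comm, fun x => ?_, fun x => ?_⟩
    · have h := congrArg (fun t => t.hom x) (H.inl_desc _ _ comm)
      exact h
    · have h := congrArg (fun t => t.hom x) (H.inr_desc _ _ comm)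
      exact h
  obtain ⟨ε, hε⟩ : ∃ ε : CommRingCat.of (R2 ⧸ J) ⟶ P,
      ∀ x, ε.hom (Ideal.Quotient.mk J x) = c.hom x :=
    ⟨CommRingCat.ofHom (Ideal.Quotient.lift J c.hom hJc), fun x =>
      Ideal.Quotient.lift_mk J c.hom hJc⟩
  have hid : δ ≫ ε = 𝟙 P := by
    apply H.hom_ext
    · apply CommRingCat.hom_ext
      apply RingHom.ext
      intro x
      show ε.hom (δ.hom (c.hom x)) = c.hom x
      rw [hδc, hε]
    · apply CommRingCat.hom_ext
      apply RingHom.ext
      intro y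
      obtain ⟨x, rfl⟩ := hb y
      show ε.hom (δ.hom (d.hom (b.hom x))) = d.hom (b.hom x)
      rw [hδd, hd', hε, hw]
  refine ⟨fun y => ?_, fun x hx => ?_⟩
  · obtain ⟨v, hv⟩ := Ideal.Quotient.mk_surjective (δ.hom y)
    refine ⟨v, ?_⟩
    have h := congrArg (fun t => t.hom y) hid
    have h' : ε.hom (δ.hom y) = y := h
    rw [← h', ← hv, hε]
  · have h0 : Ideal.Quotient.mk J x = 0 := by
      rw [← hδc, (RingHom.mem_ker).mp hx, map_zero]
    rw [← hJ]
    exact Ideal.Quotient.eq_zero_iff_mem.mp h0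

/-- pure algebra: the kernel of a localized surjection. -/
theorem ker_eq_map_aux {Γ1 Γ2 ΓZ A1 A2 C : Type u} [CommRing Γ1] [CommRing Γ2] [CommRing ΓZ]
    [CommRing A1] [CommRing A2] [CommRing C] [IsLocalRing A1]
    (a : Γ1 →+* Γ2) (c : Γ2 →+* ΓZ) (G1 : Γ1 →+* A1) (G2 : Γ2 →+* A2) (GZ : ΓZ →+* C)
    (φ : A1 →+* A2) (ψ : A2 →+* C) [IsLocalHom ψ]
    (K : Ideal Γ1) (hK : ∀ n, n ∈ K ↔ IsNilpotent n) (hKc : ∀ n ∈ K, c (a n) = 0)
    (R1 : ∀ s, φ (G1 s) = G2 (a s)) (R2 : ∀ s, ψ (G2 s) = GZ (c s))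
    (hc : Function.Surjective c) (hker : RingHom.ker c ≤ K.map a)
    (L1a : ∀ x : A1, ∃ s t, IsUnit (G1 t) ∧ x * G1 t = G1 s)
    (L2a : ∀ s, G1 s = 0 → ∃ t, IsUnit (G1 t) ∧ t * s = 0)
    (L1b : ∀ x : A2, ∃ s t, IsUnit (G2 t) ∧ x * G2 t = G2 s)
    (L2c : ∀ s, GZ s = 0 → ∃ t, IsUnit (GZ t) ∧ t * s = 0)
    (hnil : ∀ x ∈ maximalIdeal A1, IsNilpotent x) :
    RingHom.ker ψ = (maximalIdeal A1).map φ := by
  apply le_antisymm
  · intro c0 hc0
    rw [RingHom.mem_ker] at hc0
    obtain ⟨s, t, ht, hst⟩ := L1b c0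
    have h1 : GZ (c s) = 0 := by
      rw [← R2, ← hst, map_mul, hc0, zero_mul]
    obtain ⟨u, hu, hus⟩ := L2c _ h1
    obtain ⟨v, rfl⟩ := hc u
    have hvs : v * s ∈ RingHom.ker c := by
      rw [RingHom.mem_ker, map_mul]
      exact hus
    have hvu : IsUnit (G2 v) := by
      apply isUnit_of_map_unit ψ
      rw [R2]
      exact hu
    have hmap : (K.map a).map G2 ≤ (maximalIdeal A1).map φ := by
      rw [Ideal.map_map]
      have hle : K.map G1 ≤ maximalIdeal A1 := by
        rw [Ideal.map_le_iff_le_comap]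
        intro n hn
        rw [Ideal.mem_comap, IsLocalRing.mem_maximalIdeal, mem_nonunits_iff]
        intro hunit
        obtain ⟨m, hm⟩ := ((hK n).mp hn).map G1
        have h2 := hunit.pow m
        rw [hm] at h2
        exact not_isUnit_zero h2
      have hcomp : G2.comp a = φ.comp G1 := RingHom.ext fun s => (R1 s).symm
      rw [hcomp, ← Ideal.map_map]
      exact Ideal.map_mono hle
    have h2 : G2 (v * s) ∈ (maximalIdeal A1).map φ :=
      hmap (Ideal.mem_map_of_mem G2 (hker hvs))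
    rw [map_mul] at h2
    have h3 : G2 s ∈ (maximalIdeal A1).map φ := (Ideal.unit_mul_mem_iff_mem _ hvu).mp h2
    rw [← hst] at h3
    exact (Ideal.mul_unit_mem_iff_mem _ ht).mp h3
  · rw [Ideal.map_le_iff_le_comap]
    intro a0 ha0
    rw [Ideal.mem_comap, RingHom.mem_ker]
    obtain ⟨s, t, ht, hst⟩ := L1a a0
    obtain ⟨n, hn⟩ := hnil a0 ha0
    have h1 : G1 (s ^ n) = 0 := by
      rw [map_pow, ← hst, mul_pow, hn, zero_mul]
    obtain ⟨t', ht', hts⟩ := L2a _ h1
    have hnilp : IsNilpotent (t' * s) := ⟨n + 1, by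
      calc (t' * s) ^ (n + 1) = t' ^ n * s * (t' * s ^ n) := by ring
        _ = 0 := by rw [hts, mul_zero]⟩
    have h2 : c (a (t' * s)) = 0 := hKc _ ((hK _).mpr hnilp)
    have h3 : ψ (φ (G1 (t' * s))) = 0 := by
      rw [R1, R2, h2, map_zero]
    rw [map_mul, map_mul, map_mul] at h3
    have hu1 : IsUnit (ψ (φ (G1 t'))) := (ht'.map φ).map ψ
    have h4 : ψ (φ (G1 s)) = 0 := (hu1.mul_right_eq_zero).mp h3
    have h5 : ψ (φ a0) * ψ (φ (G1 t)) = 0 := by
      rw [← map_mul, ← map_mul, hst, h4]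
    exact (((ht.map φ).map ψ).mul_left_eq_zero).mp h5

/-- pure algebra: the length computation. -/
theorem length_aux {A1 A2 C : Type u} [CommRing A1] [CommRing A2] [CommRing C]
    [IsLocalRing A1] [IsLocalRing A2]
    (φ : A1 →+* A2) (ψ : A2 →+* C) [IsLocalHom φ] (hφ : φ.Flat) (hψ : Function.Surjective ψ)
    (hker : RingHom.ker ψ = (maximalIdeal A1).map φ) :
    Module.length A2 A2 = Module.length A1 A1 * Module.length C C := by
  letI := φ.toAlgebra
  letI := ψ.toAlgebra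
  haveI : IsLocalHom (algebraMap A1 A2) := ‹IsLocalHom φ›
  haveI : Module.Flat A1 A2 := hφ
  have h1 := IsLocalRing.length_baseChange A1 A2 A1
  have h2 : Module.length A2 (A2 ⊗[A1] A1) = Module.length A2 A2 :=
    (TensorProduct.AlgebraTensorModule.rid A1 A2 A2).length_eq
  have h3 : Module.length A2 C = Module.length C C := Module.length_eq_of_surjective hψ
  have h4 : Module.length A2 (A2 ⧸ (maximalIdeal A1).map (algebraMap A1 A2)) =
      Module.length A2 C := by
    have hk : (maximalIdeal A1).map (algebraMap A1 A2) = RingHom.ker (Algebra.ofId A2 C) := by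
      rw [show algebraMap A1 A2 = φ from rfl, ← hker]
      ext x
      exact Iff.rfl
    rw [hk]
    exact (Ideal.quotientKerAlgEquivOfSurjective (f := Algebra.ofId A2 C) hψ).toLinearEquiv.length_eq
  rw [← h2, h1, h4, h3]

theorem germ_surj' {X : Scheme.{u}} {U : X.Opens} (hU : IsAffineOpen U) (x : X) (hx : x ∈ U)
    (a : X.presheaf.stalk x) :
    ∃ s t : Γ(X, U), IsUnit ((X.presheaf.germ U x hx).hom t) ∧
      a * (X.presheaf.germ U x hx).hom t = (X.presheaf.germ U x hx).hom s := by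
  letI := TopCat.Presheaf.algebra_section_stalk X.presheaf ⟨x, hx⟩
  haveI := hU.isLocalization_stalk ⟨x, hx⟩
  obtain ⟨⟨s, t⟩, h⟩ := IsLocalization.surj (hU.primeIdealOf ⟨x, hx⟩).asIdeal.primeCompl a
  exact ⟨s, t, IsLocalization.map_units _ t, h⟩

theorem germ_eq_zero' {X : Scheme.{u}} {U : X.Opens} (hU : IsAffineOpen U) (x : X) (hx : x ∈ U)
    (s : Γ(X, U)) (h : (X.presheaf.germ U x hx).hom s = 0) :
    ∃ t : Γ(X, U), IsUnit ((X.presheaf.germ U x hx).hom t) ∧ t * s = 0 := by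
  letI := TopCat.Presheaf.algebra_section_stalk X.presheaf ⟨x, hx⟩
  haveI := hU.isLocalization_stalk ⟨x, hx⟩
  obtain ⟨m, hm⟩ := (IsLocalization.map_eq_zero_iff
    (hU.primeIdealOf ⟨x, hx⟩).asIdeal.primeCompl (X.presheaf.stalk x) s).mp h
  exact ⟨m, IsLocalization.map_units _ m, hm⟩

theorem stalkMap_germ_appLE {X Y : Scheme.{u}} (f : X ⟶ Y) (U : Y.Opens) (V : X.Opens)
    (e : V ≤ f ⁻¹ᵁ U) (x : X) (hx : x ∈ V) (s : Γ(Y, U)) :
    (f.stalkMap x).hom ((Y.presheaf.germ U (f x) (e hx)).hom s) =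
      (X.presheaf.germ V x hx).hom ((f.appLE U V e).hom s) := by
  have h1 := Scheme.Hom.germ_stalkMap_apply f U x (e hx) s
  have h2 : (X.presheaf.germ V x hx).hom ((f.appLE U V e).hom s) =
      (X.presheaf.germ (f ⁻¹ᵁ U) x (e hx)).hom ((f.app U).hom s) := by
    rw [Scheme.Hom.appLE]
    exact TopCat.Presheaf.germ_res_apply X.presheaf (homOfLE e) x hx ((f.app U).hom s)
  exact h1.trans h2.symm

theorem sq_lemma {X' Xr T S : Scheme.{u}} (g' : X' ⟶ S) (ι : T ⟶ S) (N : Xr ⟶ X') :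
    IsPullback (pullback.map (N ≫ g') ι g' ι N (𝟙 _) (𝟙 _) (Category.comp_id _)
        ((Category.comp_id _).trans (Category.id_comp _).symm))
      (pullback.fst (N ≫ g') ι) (pullback.fst g' ι) N := by
  have hjs : pullback.map (N ≫ g') ι g' ι N (𝟙 _) (𝟙 _) (Category.comp_id _)
      ((Category.comp_id _).trans (Category.id_comp _).symm) ≫ pullback.snd g' ι =
      pullback.snd (N ≫ g') ι :=
    (pullback.lift_snd _ _ _).trans (Category.comp_id _)
  have hjf : pullback.map (N ≫ g') ι g' ι N (𝟙 _) (𝟙 _) (Category.comp_id _)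
      ((Category.comp_id _).trans (Category.id_comp _).symm) ≫ pullback.fst g' ι =
      pullback.fst (N ≫ g') ι ≫ N :=
    pullback.lift_fst _ _ _
  refine IsPullback.of_right ?_ hjf (IsPullback.of_hasPullback g' ι).flip
  rw [hjs]
  exact (IsPullback.of_hasPullback (N ≫ g') ι).flip

theorem key {X1 X2 Z : Scheme.{u}} (π : X2 ⟶ X1) (j : Z ⟶ X2)
    (ρ : Z ⟶ X1.nilradical.subscheme)
    (H : IsPullback j ρ π X1.nilradical.subschemeι) (z : Z)
    (hmax : ∀ y : X1, y ⤳ π (j z) → y = π (j z)) :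
    Function.Surjective (j.stalkMap z).hom ∧
    RingHom.ker (j.stalkMap z).hom =
      (maximalIdeal (X1.presheaf.stalk (π (j z)))).map (π.stalkMap (j z)).hom := by
  haveI : IsClosedImmersion j :=
    MorphismProperty.of_isPullback (P := @IsClosedImmersion) H.flip inferInstance
  refine ⟨j.stalkMap_surjective z, ?_⟩
  obtain ⟨U1, hU1, hx1, -⟩ := TopologicalSpace.Opens.isBasis_iff_nbhd.mp X1.isBasis_affineOpens
    (U := ⊤) (x := π (j z)) trivial
  have hU1 : IsAffineOpen U1 := hU1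
  obtain ⟨U2, hU2, hx2, hU21⟩ := TopologicalSpace.Opens.isBasis_iff_nbhd.mp
    X2.isBasis_affineOpens (U := π ⁻¹ᵁ U1) (x := j z) hx1
  have hU2 : IsAffineOpen U2 := hU2
  have hVr : IsAffineOpen (X1.nilradical.subschemeι ⁻¹ᵁ U1) := hU1.preimage _
  have hUST : X1.nilradical.subschemeι ⁻¹ᵁ U1 ≤ X1.nilradical.subschemeι ⁻¹ᵁ U1 := le_rfl
  have hUSX : U2 ≤ π ⁻¹ᵁ U1 := hU21
  obtain ⟨UY, hUY⟩ : ∃ UY : Z.Opens,
      UY = j ⁻¹ᵁ U2 ⊓ ρ ⁻¹ᵁ (X1.nilradical.subschemeι ⁻¹ᵁ U1) := ⟨_, rfl⟩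
  have hzUY : z ∈ UY := by
    rw [hUY]
    refine ⟨hx2, ?_⟩
    show X1.nilradical.subschemeι (ρ z) ∈ U1
    have hw : X1.nilradical.subschemeι (ρ z) = π (j z) := by
      rw [← Scheme.Hom.comp_apply, ← Scheme.Hom.comp_apply, H.w]
    rw [hw]
    exact hx1
  have hle2 : UY ≤ j ⁻¹ᵁ U2 := by rw [hUY]; exact inf_le_left
  have hle3 : UY ≤ ρ ⁻¹ᵁ (X1.nilradical.subschemeι ⁻¹ᵁ U1) := by rw [hUY]; exact inf_le_right
  have hUY' : IsAffineOpen UY := by
    have : IsAffine _ := hU1
    have : IsAffine _ := hVr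
    have : IsAffine _ := hU2
    exact .of_isIso (Scheme.Hom.isPullback_resLE H hUST hUSX hUY).isoPullback.hom
  have hiso := isIso_pushoutSection_of_isAffineOpen H hUST hUSX hUY hU1 hVr hU2
  have hPO : IsPushout (π.appLE U1 U2 hUSX) (X1.nilradical.subschemeι.appLE U1 _ hUST)
      (j.appLE U2 UY hle2) (ρ.appLE _ UY hle3) :=
    (isIso_pushoutSection_iff H hUST hUSX hUY).mp hiso
  have hb : Function.Surjective (X1.nilradical.subschemeι.appLE U1 _ hUST).hom := by
    have h := X1.nilradical.subschemeι_app_surjective ⟨U1, hU1⟩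
    rw [Scheme.Hom.app_eq_appLE] at h
    exact h
  obtain ⟨hc, hker⟩ := pushout_surj_ker hPO hb
  have hKb : ∀ n, n ∈ RingHom.ker (X1.nilradical.subschemeι.appLE U1 _ hUST).hom ↔
      IsNilpotent n := by
    intro n
    have h := X1.nilradical.ker_subschemeι_app ⟨U1, hU1⟩
    rw [Scheme.Hom.app_eq_appLE] at h
    rw [h]
    show n ∈ (⊥ : Ideal Γ(X1, U1)).radical ↔ IsNilpotent n
    exact ⟨fun ⟨m, hm⟩ => ⟨m, Ideal.mem_bot.mp hm⟩, fun ⟨m, hm⟩ => ⟨m, Ideal.mem_bot.mpr hm⟩⟩
  have hKc : ∀ n ∈ RingHom.ker (X1.nilradical.subschemeι.appLE U1 _ hUST).hom,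
      (j.appLE U2 UY hle2).hom ((π.appLE U1 U2 hUSX).hom n) = 0 := by
    intro n hn
    have h := congrArg (fun t => t.hom n) hPO.w
    have h' : (j.appLE U2 UY hle2).hom ((π.appLE U1 U2 hUSX).hom n) =
        (ρ.appLE _ UY hle3).hom ((X1.nilradical.subschemeι.appLE U1 _ hUST).hom n) := h
    rw [h', (RingHom.mem_ker).mp hn, map_zero]
  have hprime := forall_prime_eq_maximalIdeal_stalk X1 (π (j z)) hmax
  have hnil : ∀ x ∈ maximalIdeal (X1.presheaf.stalk (π (j z))), IsNilpotent x := by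
    intro x hx
    rw [← mem_nilradical, nilradical_eq_sInf, Ideal.mem_sInf]
    intro P hP
    rw [hprime P hP]
    exact hx
  exact ker_eq_map_aux (π.appLE U1 U2 hUSX).hom (j.appLE U2 UY hle2).hom
    (X1.presheaf.germ U1 (π (j z)) hx1).hom (X2.presheaf.germ U2 (j z) hx2).hom
    (Z.presheaf.germ UY z hzUY).hom (π.stalkMap (j z)).hom (j.stalkMap z).hom
    (RingHom.ker (X1.nilradical.subschemeι.appLE U1 _ hUST).hom) hKb hKc
    (fun s => stalkMap_germ_appLE π U1 U2 hUSX (j z) hx2 s)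
    (fun s => stalkMap_germ_appLE j U2 UY hle2 z hzUY s)
    hc hker (germ_surj' hU1 _ hx1) (germ_eq_zero' hU1 _ hx1) (germ_surj' hU2 _ hx2)
    (germ_eq_zero' hUY' z hzUY) hnil

theorem main {X1 X2 Z : Scheme.{u}} (π : X2 ⟶ X1) [Flat π] (j : Z ⟶ X2)
    (ρ : Z ⟶ X1.nilradical.subscheme)
    (H : IsPullback j ρ π X1.nilradical.subschemeι) (z : Z)
    (hmax : ∀ y : X2, y ⤳ j z → y = j z) :
    Module.length (X2.presheaf.stalk (j z)) (X2.presheaf.stalk (j z)) =
      Module.length (X1.presheaf.stalk (π (j z))) (X1.presheaf.stalk (π (j z))) *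
        Module.length (Z.presheaf.stalk z) (Z.presheaf.stalk z) := by
  have hmax1 : ∀ y : X1, y ⤳ π (j z) → y = π (j z) := by
    intro y hy
    obtain ⟨w, hw, hwy⟩ := Flat.generalizingMap π hy
    rw [← hwy, hmax w hw]
  obtain ⟨hsurj, hker⟩ := key π j ρ H z hmax1
  exact length_aux (π.stalkMap (j z)).hom (j.stalkMap z).hom (Flat.stalkMap π (j z)) hsurj hker

end Helpers


open CategoryTheory.Limits in
/-- Let X be an integral locally Noetherian scheme over a field k, k′ an extension field of k such that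
X′ = X ⊗_k k′ is locally Noetherian, and k″ an extension field of k′; put X″ = X′ ⊗_{k′} k″ and Z″ =
(X′)_red ⊗_{k′} k″, with its canonical closed immersion j : Z″ → X″ (a homeomorphism). Let x″ be a
maximal point of X″ (the generic point of an irreducible component), x′ its image in X′ and z″ the
point of Z″ with j(z″) = x″. Then length(O_{X″,x″}) = length(O_{X′,x′}) · length(O_{Z″,z″}), each
local ring being measured as a module over itself, with values in ℕ∞. -/
theorem result {k k' k'' : Type u} [Field k] [Field k'] [Field k''] [Algebra k k']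
    [Algebra k' k''] {X : Scheme.{u}} (f : X ⟶ Spec (CommRingCat.of k)) [IsIntegral X] [IsLocallyNoetherian X]
    [IsLocallyNoetherian (FBase.bc f k')] (x'' : ↥(FBase.bc (FBase.bcStr f k') k''))
    (hx'' : ∀ z : ↥(FBase.bc (FBase.bcStr f k') k''), z ⤳ x'' → z = x'')
    (z'' : ↥(FBase.bc ((FBase.bc f k').nilradical.subschemeι ≫ FBase.bcStr f k') k''))
    (hz'' : pullback.map ((FBase.bc f k').nilradical.subschemeι ≫ FBase.bcStr f k')
        (Spec.map (CommRingCat.ofHom (algebraMap k' k''))) (FBase.bcStr f k')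
        (Spec.map (CommRingCat.ofHom (algebraMap k' k''))) (FBase.bc f k').nilradical.subschemeι (𝟙 _) (𝟙 _)
        (Category.comp_id _) ((Category.comp_id _).trans (Category.id_comp _).symm) z'' = x'') :
    Module.length ((FBase.bc (FBase.bcStr f k') k'').presheaf.stalk x'') ((FBase.bc (FBase.bcStr f k') k'').presheaf.stalk x'') =
      Module.length ((FBase.bc f k').presheaf.stalk (FBase.bcπ (FBase.bcStr f k') k'' x''))
          ((FBase.bc f k').presheaf.stalk (FBase.bcπ (FBase.bcStr f k') k'' x'')) *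
        Module.length ((FBase.bc ((FBase.bc f k').nilradical.subschemeι ≫ FBase.bcStr f k') k'').presheaf.stalk z'')
          ((FBase.bc ((FBase.bc f k').nilradical.subschemeι ≫ FBase.bcStr f k') k'').presheaf.stalk z'') := by
  subst hz''
  haveI : Flat (FBase.bcπ (FBase.bcStr f k') k'') := by
    have : Flat (Spec.map (CommRingCat.ofHom (algebraMap k' k''))) := inferInstance
    show Flat (pullback.fst (FBase.bcStr f k') _)
    infer_instance
  exact main (FBase.bcπ (FBase.bcStr f k') k'') _ _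
    (sq_lemma (FBase.bcStr f k') (Spec.map (CommRingCat.ofHom (algebraMap k' k'')))
      (FBase.bc f k').nilradical.subschemeι) z'' hx''

end Groth.Agent.S4686
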