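import Groth.Statements.S16044
import Mathlib
import Groth.Agent.S4686
import Groth.Agent.S5136
import Groth.Agent.S4366

set_option autoImplicit false
set_option linter.style.haveILetI false
set_option linter.unusedSectionVars false
set_option linter.unusedVariables false
universe u
open CategoryTheory CategoryTheory.Limits AlgebraicGeometry
open GrpSch

namespace Groth.Agent.S16044

section Helpers

open Opposite TopologicalSpace

theorem res_res (X : Scheme.{u}) {U V W : X.Opens} (h₁ : V ≤ W) (h₂ : U ≤ V) (s : Γ(X, W)) :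
    (X.presheaf.map (homOfLE h₂).op).hom ((X.presheaf.map (homOfLE h₁).op).hom s) =
      (X.presheaf.map (homOfLE (h₂.trans h₁)).op).hom s := by
  rw [← CommRingCat.comp_apply, ← Functor.map_comp]
  rfl

/-- Gluing local quotients by a locally regular global section. -/
theorem glue_div (X : Scheme.{u}) (ϖ t : Γ(X, ⊤))
    (hreg : ∀ W : X.affineOpens, ∀ a b : Γ(X, W.1),
      a * (X.presheaf.map (homOfLE (le_top : W.1 ≤ ⊤)).op).hom ϖ =
      b * (X.presheaf.map (homOfLE (le_top : W.1 ≤ ⊤)).op).hom ϖ → a = b)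
    (hdiv : ∀ W : X.affineOpens, ∃ b : Γ(X, W.1),
      b * (X.presheaf.map (homOfLE (le_top : W.1 ≤ ⊤)).op).hom ϖ =
        (X.presheaf.map (homOfLE (le_top : W.1 ≤ ⊤)).op).hom t) :
    ∃ b : Γ(X, ⊤), b * ϖ = t := by
  choose bW hbW using hdiv
  have hkey : ∀ (W V : X.affineOpens) (h : V.1 ≤ W.1),
      (X.presheaf.map (homOfLE h).op).hom (bW W) = bW V := by
    intro W V h
    apply hreg V
    rw [hbW V, ← res_res X (le_top : W.1 ≤ ⊤) h ϖ, ← res_res X (le_top : W.1 ≤ ⊤) h t,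
      ← map_mul, hbW W]
  have hcompat : TopCat.Presheaf.IsCompatible X.presheaf (fun W : X.affineOpens => W.1) bW := by
    intro W W'
    refine X.sheaf.eq_of_locally_eq'
      (fun V : {V : X.affineOpens // V.1 ≤ W.1 ⊓ W'.1} => V.1.1) (W.1 ⊓ W'.1)
      (fun V => homOfLE V.2) ?_ _ _ ?_
    · intro x hx
      obtain ⟨_, ⟨V, hV, rfl⟩, hxV, hVle⟩ :=
        X.isBasis_affineOpens.exists_subset_of_mem_open hx (W.1 ⊓ W'.1).2
      exact Opens.mem_iSup.mpr ⟨⟨⟨V, hV⟩, hVle⟩, hxV⟩
    · intro V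
      have e1 : (X.presheaf.map (homOfLE V.2).op).hom
          ((X.presheaf.map (Opens.infLELeft W.1 W'.1).op).hom (bW W)) = bW V.1 := by
        rw [← hkey W V.1 (V.2.trans inf_le_left)]
        exact res_res X inf_le_left V.2 (bW W)
      have e2 : (X.presheaf.map (homOfLE V.2).op).hom
          ((X.presheaf.map (Opens.infLERight W.1 W'.1).op).hom (bW W')) = bW V.1 := by
        rw [← hkey W' V.1 (V.2.trans inf_le_right)]
        exact res_res X inf_le_right V.2 (bW W')
      exact e1.trans e2.symm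
  obtain ⟨b, hb⟩ : ∃ b : Γ(X, ⊤), ∀ W : X.affineOpens,
      (X.presheaf.map (homOfLE (le_top : W.1 ≤ ⊤)).op).hom b = bW W := by
    obtain ⟨b0, hb0, -⟩ := X.sheaf.existsUnique_gluing' (fun W : X.affineOpens => W.1) ⊤
      (fun W => homOfLE le_top) (by rw [iSup_affineOpens_eq_top]) bW hcompat
    exact ⟨b0, hb0⟩
  refine ⟨b, ?_⟩
  refine X.sheaf.eq_of_locally_eq' (fun W : X.affineOpens => W.1) ⊤ (fun W => homOfLE le_top)
    (by rw [iSup_affineOpens_eq_top]) _ _ ?_
  intro W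
  show (X.presheaf.map (homOfLE le_top).op).hom (b * ϖ) =
    (X.presheaf.map (homOfLE le_top).op).hom t
  rw [map_mul, hb W]
  exact hbW W

theorem toSpecΓ_ker (X : Scheme.{u}) [CompactSpace X] : X.toSpecΓ.ker = ⊥ := by
  haveI : QuasiCompact X.toSpecΓ := (quasiCompact_iff_compactSpace _).mpr inferInstance
  apply Scheme.IdealSheafData.ext_of_isAffine
  rw [Scheme.Hom.ker_apply]
  show RingHom.ker X.toSpecΓ.appTop.hom = ⊥
  rw [Scheme.toSpecΓ_appTop]
  exact (RingHom.injective_iff_ker_eq_bot _).mp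
    (ConcreteCategory.bijective_of_isIso (Scheme.ΓSpecIso Γ(X, ⊤)).hom).1

/-- Generic (flat) case. -/
theorem flat_case {S : Scheme.{u}} (X : Scheme.{u}) [CompactSpace X]
    (g : Spec Γ(X, ⊤) ⟶ S) {K : Scheme.{u}} (ι : K ⟶ S) [Flat ι] :
    (pullback.map (X.toSpecΓ ≫ g) ι g ι X.toSpecΓ (𝟙 _) (𝟙 _) (Category.comp_id _)
      ((Category.comp_id _).trans (Category.id_comp _).symm)).ker = ⊥ := by
  haveI : QuasiCompact X.toSpecΓ := (quasiCompact_iff_compactSpace _).mpr inferInstance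
  have H := Groth.Agent.S4686.sq_lemma g ι X.toSpecΓ
  rw [Groth.Agent.S5136.ker_eq_comap_of_isPullback H, toSpecΓ_ker, Scheme.IdealSheafData.comap_bot]

theorem appLE_top_top {K S : Scheme.{u}} (ι : K ⟶ S) (e : (⊤ : K.Opens) ≤ ι ⁻¹ᵁ ⊤) :
    ι.appLE ⊤ ⊤ e = ι.appTop := by
  show ι.appLE ⊤ ⊤ e = ι.app ⊤
  rw [Scheme.Hom.app_eq_appLE]
  rfl

theorem appLE_top_eq {X S : Scheme.{u}} (f : X ⟶ S) (W : X.Opens) (e : W ≤ f ⁻¹ᵁ ⊤)
    (r : Γ(S, ⊤)) :
    (f.appLE ⊤ W e).hom r =
      (X.presheaf.map (homOfLE (le_top : W ≤ ⊤)).op).hom (f.appTop.hom r) := rfl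

theorem appLE_res {X Y : Scheme.{u}} (p : Y ⟶ X) (W : X.Opens) (V : Y.Opens)
    (e : V ≤ p ⁻¹ᵁ W) (t : Γ(X, ⊤)) (ht : p.appTop.hom t = 0) :
    (p.appLE W V e).hom ((X.presheaf.map (homOfLE (le_top : W ≤ ⊤)).op).hom t) = 0 := by
  have h := Scheme.Hom.map_appLE p e (homOfLE (le_top : W ≤ ⊤)).op
  have h2 := congrArg (fun φ : Γ(X, ⊤) ⟶ Γ(Y, V) => φ.hom t) h
  refine Eq.trans h2 ?_
  show (Y.presheaf.map _).hom (p.appTop.hom t) = 0
  rw [ht, map_zero]

theorem reg_of_flat {R M : Type u} [CommRing R] [IsDomain R] [CommRing M] (φ : R →+* M)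
    (hφ : φ.Flat) (r : R) (hr : r ≠ 0) (a b : M) (h : a * φ r = b * φ r) : a = b := by
  algebraize [φ]
  have hreg : IsSMulRegular M r :=
    Module.Flat.isSMulRegular_of_nonZeroDivisors (mem_nonZeroDivisors_of_ne_zero hr)
  apply hreg
  show r • a = r • b
  rw [Algebra.smul_def, Algebra.smul_def, RingHom.algebraMap_toAlgebra, mul_comm, h, mul_comm]

/-- Abstract closed-fibre argument. -/
theorem closed_core {S X X' K : Scheme.{u}} [IsAffine S] [IsAffine X'] (N : X ⟶ X')
    (g : X' ⟶ S) [Flat (N ≫ g)] (hN : Function.Bijective N.appTop.hom)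
    (ι : K ⟶ S) [IsClosedImmersion ι] [IsDomain Γ(S, ⊤)] [IsPrincipalIdealRing Γ(S, ⊤)]
    (c : pullback (N ≫ g) ι ⟶ pullback g ι)
    (hc1 : c ≫ pullback.fst g ι = pullback.fst (N ≫ g) ι ≫ N) :
    c.ker = ⊥ := by
  haveI hK : IsAffine K := (IsClosedImmersion.isAffine_surjective_of_isAffine ι).1
  have hιs : Function.Surjective ι.appTop.hom :=
    (IsClosedImmersion.isAffine_surjective_of_isAffine ι).2
  have hpTs : Function.Surjective (pullback.fst g ι).appTop.hom :=
    (IsClosedImmersion.isAffine_surjective_of_isAffine (pullback.fst g ι)).2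
  obtain ⟨ϖ', hϖ'⟩ := (IsPrincipalIdealRing.principal (RingHom.ker ι.appTop.hom)).principal
  have hϖ'0 : ι.appTop.hom ϖ' = 0 := by
    have hmem : ϖ' ∈ RingHom.ker ι.appTop.hom := by
      rw [hϖ']
      exact Submodule.mem_span_singleton_self ϖ'
    exact (RingHom.mem_ker).mp hmem
  apply Scheme.IdealSheafData.ext_of_isAffine
  refine le_antisymm ((Scheme.Hom.ideal_ker_le c _).trans ?_) ?_
  swap
  · show (⊥ : Ideal _) ≤ _
    exact bot_le
  intro τ hτ
  rw [RingHom.mem_ker] at hτ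
  show τ ∈ (⊥ : Ideal _)
  rw [Ideal.mem_bot]
  obtain ⟨t', rfl⟩ := hpTs τ
  -- step 1
  have hpY : (pullback.fst (N ≫ g) ι).appTop.hom (N.appTop.hom t') = 0 := by
    have h2 : (c ≫ pullback.fst g ι).appTop.hom t' =
        (pullback.fst (N ≫ g) ι ≫ N).appTop.hom t' := by rw [hc1]
    exact h2.symm.trans hτ
  -- step 2: local divisibility
  have hdiv : ∀ W : X.affineOpens, ∃ b : Γ(X, W.1),
      b * (X.presheaf.map (homOfLE (le_top : W.1 ≤ ⊤)).op).hom ((N ≫ g).appTop.hom ϖ') =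
        (X.presheaf.map (homOfLE (le_top : W.1 ≤ ⊤)).op).hom (N.appTop.hom t') := by
    intro W
    have e1 : (⊤ : K.Opens) ≤ ι ⁻¹ᵁ ⊤ := le_top
    have e2 : W.1 ≤ (N ≫ g) ⁻¹ᵁ ⊤ := le_top
    have Hpo := (isIso_pushoutSection_iff (IsPullback.of_hasPullback (N ≫ g) ι) e1 e2 rfl).mp
      (isIso_pushoutSection_of_isAffineOpen (IsPullback.of_hasPullback (N ≫ g) ι) e1 e2 rfl
        (isAffineOpen_top S) (isAffineOpen_top K) W.2)
    have hbs : Function.Surjective (ι.appLE ⊤ ⊤ e1).hom := by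
      rw [appLE_top_top]
      exact hιs
    obtain ⟨-, hker⟩ := Groth.Agent.S4686.pushout_surj_ker Hpo hbs
    have hmem : (X.presheaf.map (homOfLE (le_top : W.1 ≤ ⊤)).op).hom (N.appTop.hom t') ∈
        (RingHom.ker (ι.appLE ⊤ ⊤ e1).hom).map ((N ≫ g).appLE ⊤ W.1 e2).hom :=
      hker ((RingHom.mem_ker).mpr (appLE_res (pullback.fst (N ≫ g) ι) W.1 _ _ _ hpY))
    have hkerι : RingHom.ker (ι.appLE ⊤ ⊤ e1).hom = Ideal.span {ϖ'} := by
      rw [appLE_top_top, hϖ', Ideal.submodule_span_eq]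
    rw [hkerι, Ideal.map_span, Set.image_singleton, Ideal.mem_span_singleton'] at hmem
    obtain ⟨b, hb⟩ := hmem
    refine ⟨b, ?_⟩
    rw [← hb, appLE_top_eq]
  -- step 3: global divisibility
  have hfin : ∃ b : Γ(X, ⊤), b * (N ≫ g).appTop.hom ϖ' = N.appTop.hom t' := by
    by_cases h0 : ϖ' = 0
    · refine ⟨0, ?_⟩
      rw [zero_mul]
      symm
      refine X.sheaf.eq_of_locally_eq' (fun W : X.affineOpens => W.1) ⊤
        (fun W => homOfLE le_top) (by rw [iSup_affineOpens_eq_top]) _ _ ?_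
      intro W
      obtain ⟨b, hb⟩ := hdiv W
      show (X.presheaf.map (homOfLE le_top).op).hom (N.appTop.hom t') =
        (X.presheaf.map (homOfLE le_top).op).hom 0
      rw [← hb, h0, map_zero, map_zero, mul_zero]
    · refine glue_div X _ _ ?_ hdiv
      intro W a b hab
      refine reg_of_flat ((N ≫ g).appLE ⊤ W.1 le_top).hom
        (Scheme.Hom.flat_appLE (N ≫ g) (isAffineOpen_top S) W.2 le_top) ϖ' h0 a b ?_
      exact hab
  -- step 4
  obtain ⟨b, hb⟩ := hfin
  obtain ⟨b', rfl⟩ := hN.2 b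
  have ht' : t' = b' * g.appTop.hom ϖ' := by
    apply hN.1
    rw [map_mul, ← hb]
    rfl
  have h3 : (pullback.fst g ι).appTop.hom (g.appTop.hom ϖ') = 0 := by
    have h4 : (pullback.fst g ι ≫ g).appTop.hom ϖ' = (pullback.snd g ι ≫ ι).appTop.hom ϖ' := by
      rw [pullback.condition]
    have h5 : (pullback.snd g ι ≫ ι).appTop.hom ϖ' = 0 := by
      show (pullback.snd g ι).appTop.hom (ι.appTop.hom ϖ') = 0
      rw [hϖ'0, map_zero]
    exact h4.trans h5
  rw [ht', map_mul, h3, mul_zero]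

/-- Closed-fibre case. -/
theorem closed_case {S : Scheme.{u}} [IsAffine S] (X : Scheme.{u})
    (g : Spec Γ(X, ⊤) ⟶ S) [Flat (X.toSpecΓ ≫ g)]
    {K : Scheme.{u}} (ι : K ⟶ S) [IsClosedImmersion ι]
    [IsDomain Γ(S, ⊤)] [IsPrincipalIdealRing Γ(S, ⊤)] :
    (pullback.map (X.toSpecΓ ≫ g) ι g ι X.toSpecΓ (𝟙 _) (𝟙 _) (Category.comp_id _)
      ((Category.comp_id _).trans (Category.id_comp _).symm)).ker = ⊥ := by
  refine closed_core X.toSpecΓ g ?_ ι _ (pullback.lift_fst _ _ _)
  rw [Scheme.toSpecΓ_appTop]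
  exact ConcreteCategory.bijective_of_isIso (Scheme.ΓSpecIso Γ(X, ⊤)).hom

theorem generic_flat (A : Type u) [CommRing A] [IsDomain A] (s : ↥(Spec (CommRingCat.of A)))
    (hs : PrimeSpectrum.asIdeal (R := A) s = ⊥) :
    Flat ((Spec (CommRingCat.of A)).fromSpecResidueField s) := by
  haveI : IsDomain (CommRingCat.of A) := inferInstanceAs (IsDomain A)
  haveI : Flat ((Spec (CommRingCat.of A)).fromSpecStalk s) :=
    Groth.Agent.S4366.flat_fromSpecStalk _ s
  have hgen : ∀ z : ↥(Spec (CommRingCat.of A)), z ⤳ s → z = s := by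
    intro z hz
    have h2 : PrimeSpectrum.asIdeal (R := A) z ≤ PrimeSpectrum.asIdeal (R := A) s :=
      (PrimeSpectrum.le_iff_specializes (R := A) z s).mpr hz
    apply PrimeSpectrum.ext
    rw [hs] at h2 ⊢
    exact le_bot_iff.mp h2
  have hmax := Groth.Agent.S4686.forall_prime_eq_maximalIdeal_stalk _ s hgen ⊥ Ideal.isPrime_bot
  haveI : Flat (Spec.map ((Spec (CommRingCat.of A)).residue s)) := by
    rw [Flat.SpecMap_iff]
    apply RingHom.Flat.of_bijective
    refine ⟨?_, (Spec (CommRingCat.of A)).residue_surjective s⟩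
    rw [injective_iff_map_eq_zero]
    intro a ha
    have hmem : a ∈ IsLocalRing.maximalIdeal ((Spec (CommRingCat.of A)).presheaf.stalk s) :=
      (IsLocalRing.residue_eq_zero_iff a).mp ha
    rw [← hmax] at hmem
    exact (Ideal.mem_bot).mp hmem
  dsimp only [Scheme.fromSpecResidueField]
  infer_instance

end Helpers


/-- Let S be the spectrum of a discrete valuation ring and X a quasi-compact quasi-separated flat
S-scheme, with canonical morphism c : X ⟶ Spec Γ(X, O_X) over S. Then on each fibre over a point of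
S the base change of c is schematically dominant (its kernel ideal sheaf vanishes). -/
theorem result
    (A : Type u) [CommRing A] [IsDomain A] [IsDiscreteValuationRing A]
    (X : Scheme.{u}) (f : X ⟶ Spec (CommRingCat.of A)) [Flat f] [QuasiCompact f] [QuasiSeparated f]
    (g : Spec Γ(X, ⊤) ⟶ Spec (CommRingCat.of A)) (hg : X.toSpecΓ ≫ g = f) (s : ↥(Spec (CommRingCat.of A))) :
    (pullback.map f ((Spec (CommRingCat.of A)).fromSpecResidueField s) g ((Spec (CommRingCat.of A)).fromSpecResidueField s)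
        X.toSpecΓ (𝟙 _) (𝟙 _) ((Category.comp_id f).trans hg.symm)
        ((Category.comp_id _).trans (Category.id_comp _).symm)).ker = ⊥ := by
  subst hg
  haveI : CompactSpace X := (quasiCompact_iff_compactSpace (X.toSpecΓ ≫ g)).mp inferInstance
  let e : Γ(Spec (CommRingCat.of A), ⊤) ≃+* A :=
    (Scheme.ΓSpecIso (CommRingCat.of A)).commRingCatIsoToRingEquiv
  haveI : IsDomain Γ(Spec (CommRingCat.of A), ⊤) := MulEquiv.isDomain A e.toMulEquiv
  haveI : IsPrincipalIdealRing Γ(Spec (CommRingCat.of A), ⊤) :=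
    IsPrincipalIdealRing.of_surjective e.symm e.symm.surjective
  by_cases hs : PrimeSpectrum.asIdeal (R := A) s = ⊥
  · haveI : Flat ((Spec (CommRingCat.of A)).fromSpecResidueField s) := generic_flat A s hs
    exact flat_case X g _
  · haveI : IsClosedImmersion ((Spec (CommRingCat.of A)).fromSpecResidueField s) := by
      rw [← isClosed_singleton_iff_isClosedImmersion]
      haveI : (PrimeSpectrum.asIdeal (R := A) s).IsPrime := PrimeSpectrum.isPrime (R := A) s
      exact (PrimeSpectrum.isClosed_singleton_iff_isMaximal (R := A) s).mpr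
        (IsPrime.to_maximal_ideal hs)
    exact closed_case X g _

end Groth.Agent.S16044
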