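import Groth.Statements.S16053
import Groth.Agent.H86.TameEisenstein

set_option autoImplicit false
universe u
open Polynomial
open CAlg

namespace Groth.Agent.S16053

/-- Let O be a henselian discrete valuation ring of characteristic zero with algebraically closed
residue field of characteristic p and fraction field K, and let f ∈ O[y] be a monic polynomial of
degree e with 1 ≤ e < p which is Eisenstein at the maximal ideal of O. Then the splitting field of f
over K has degree e over K and the Galois group of f over K is cyclic. (In the source O is complete,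
e = n + 1 and f is the y-part y^{n+1} + u_n ϖ^{a_n} y^{n−1} + ⋯ + u_1 ϖ of an A_n-degeneration
meeting the discriminant transversally; the corollary's conclusion that monodromy acts through a
Coxeter element is not stated here.) -/
theorem result (O : Type u) [CommRing O] [IsDomain O]
    [IsDiscreteValuationRing O] [HenselianLocalRing O] [CharZero O] [IsAlgClosed (IsLocalRing.ResidueField O)]
    (p : ℕ) [Fact p.Prime] [CharP (IsLocalRing.ResidueField O) p]
    (f : O[X]) (hmon : f.Monic) (e : ℕ) (hdeg : f.natDegree = e) (he : 1 ≤ e) (hep : e < p)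
    (hf : f.IsEisensteinAt (IsLocalRing.maximalIdeal O)) :
    Module.finrank (FractionRing O) (f.map (algebraMap O (FractionRing O))).SplittingField = e ∧
      IsCyclic (f.map (algebraMap O (FractionRing O))).Gal := by
  obtain ⟨d, rfl⟩ : ∃ d, e = d + 1 := ⟨e - 1, by omega⟩
  have hnκ : ((d + 1 : ℕ) : IsLocalRing.ResidueField O) ≠ 0 := by
    intro h0
    have h1 := (CharP.cast_eq_zero_iff (IsLocalRing.ResidueField O) p (d + 1)).mp h0
    have h2 := Nat.le_of_dvd (Nat.succ_pos d) h1
    omega
  have hunit : IsUnit ((d + 1 : ℕ) : O) := by
    by_contra hnu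
    have h1 : ((d + 1 : ℕ) : O) ∈ IsLocalRing.maximalIdeal O :=
      (IsLocalRing.mem_maximalIdeal _).mpr hnu
    have h2 := (IsLocalRing.residue_eq_zero_iff _).mpr h1
    rw [map_natCast] at h2
    exact hnκ h2
  obtain ⟨ζ, hζ⟩ := Groth.Agent.H86.TameKummer.exists_primitiveRoot O (Nat.succ_pos d) hnκ
  exact Groth.Agent.H86.TameKummer.main_eisenstein O f hmon d hdeg hf hunit ζ hζ

end Groth.Agent.S16053
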