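import Groth.Statements.S16072
import Groth.Agent.H80.IdemAux
import Mathlib.RingTheory.Bialgebra.MonoidAlgebra
import Mathlib.Algebra.CharP.Algebra
import Mathlib.Algebra.CharP.Frobenius

set_option autoImplicit false
universe u
open Hopf

namespace Groth.Agent.S16072

/-- Let p be a prime and R a commutative ring of characteristic p (p = 0 in R, R nonzero). Then the
constant group scheme ℤ/p and the group scheme μ_p of p-th roots of unity over Spec R are not
isomorphic: there is no R-bialgebra isomorphism between the Hopf algebra Maps(ℤ/p, R) of functions
on the cyclic group of order p and the group algebra R[ℤ/p]. (Any nonzero commutative base ring of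
characteristic p is allowed. The published statement allows any ring R with p·R = 0; over the zero
ring both Hopf algebras are the zero ring and hence isomorphic, so R is assumed nonzero here.) -/
theorem result (p : ℕ) [Fact p.Prime] (R : Type u) [CommRing R]
    [CharP R p] :
    IsEmpty (ConstGrp.F R (Multiplicative (ZMod p)) ≃ₐc[R] MonoidAlgebra R (Multiplicative (ZMod p))) := by
  have hnt : Nontrivial R := CharP.nontrivial_of_char_ne_one (R := R) (Fact.out : p.Prime).ne_one
  refine ⟨fun φ => ?_⟩
  have hp2 : (1 : ZMod p) ≠ 0 := by
    have : Fact (1 < p) := ⟨(Fact.out : p.Prime).one_lt⟩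
    exact one_ne_zero
  have hinj : Function.Injective (algebraMap R (MonoidAlgebra R (Multiplicative (ZMod p)))) := by
    intro a b hab
    have := congrArg (fun y : MonoidAlgebra R (Multiplicative (ZMod p)) => y.coeff 1) hab
    simpa [MonoidAlgebra.algebraMap_def, MonoidAlgebra.coeff_single] using this
  have hchar : CharP (MonoidAlgebra R (Multiplicative (ZMod p))) p :=
    charP_of_injective_algebraMap hinj p
  -- Frobenius of the group algebra factors through the augmentation
  have hfrob : frobenius (MonoidAlgebra R (Multiplicative (ZMod p))) p =
      ((algebraMap R (MonoidAlgebra R (Multiplicative (ZMod p)))).comp (frobenius R p)).comp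
        (Bialgebra.counitAlgHom R (MonoidAlgebra R (Multiplicative (ZMod p))) :
          MonoidAlgebra R (Multiplicative (ZMod p)) →+* R) := by
    apply MonoidAlgebra.ringHom_ext
    · intro r
      rw [frobenius_def, MonoidAlgebra.single_pow, one_pow]
      simp [frobenius_def]
    · intro m
      have hm : m ^ p = 1 := by
        apply Multiplicative.toAdd.injective
        simp
      rw [frobenius_def, MonoidAlgebra.single_pow, one_pow, hm]
      simp [frobenius_def]
  refine Groth.Agent.H80.no_injective_of_nil_aug (R := R) (G := Multiplicative (ZMod p))
    (Multiplicative.ofAdd (0 : ZMod p)) (Multiplicative.ofAdd (1 : ZMod p))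
    (fun h => hp2 (Multiplicative.ofAdd.injective h))
    (Bialgebra.counitAlgHom R (MonoidAlgebra R (Multiplicative (ZMod p)))) ?_
    (φ : ConstGrp.F R (Multiplicative (ZMod p)) →ₐ[R] MonoidAlgebra R (Multiplicative (ZMod p)))
    φ.injective
  intro b hb
  refine ⟨p, ?_⟩
  have := congrArg (fun f : MonoidAlgebra R (Multiplicative (ZMod p)) →+*
    MonoidAlgebra R (Multiplicative (ZMod p)) => f b) hfrob
  simp only [frobenius_def, RingHom.comp_apply] at this
  rw [this]
  have hb' : (Bialgebra.counitAlgHom R (MonoidAlgebra R (Multiplicative (ZMod p))) :
          MonoidAlgebra R (Multiplicative (ZMod p)) →+* R) b = 0 := hb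
  rw [hb']
  simp [zero_pow (Fact.out : p.Prime).ne_zero]

end Groth.Agent.S16072
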