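import Groth.Statements.S16073
import Groth.Agent.H80.IdemAux

set_option autoImplicit false
universe u
open Hopf

namespace Groth.Agent.S16073

/-- Let p be a prime and R a commutative ring of characteristic p (p = 0 in R, R nonzero). Then the
constant group scheme ℤ/p and α_p over Spec R are not isomorphic: there is no R-bialgebra
isomorphism between the Hopf algebra Maps(ℤ/p, R) of functions on the cyclic group of order p and
the Hopf algebra R[X]/(X^p) of α_p (X primitive). (Any nonzero commutative base ring of
characteristic p is allowed. The published statement allows any ring R with p·R = 0; over the zero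
ring both Hopf algebras are the zero ring and hence isomorphic, so R is assumed nonzero here.) -/
theorem result (p : ℕ) [Fact p.Prime] (R : Type u) [CommRing R] [CharP R p] :
    IsEmpty (ConstGrp.F R (Multiplicative (ZMod p)) ≃ₐc[R] AlphaP.A p R) := by
  have : Nontrivial R := CharP.nontrivial_of_char_ne_one (R := R) (Fact.out : p.Prime).ne_one
  refine ⟨fun φ => ?_⟩
  have hp2 : (1 : ZMod p) ≠ 0 := by
    have : Fact (1 < p) := ⟨(Fact.out : p.Prime).one_lt⟩
    exact one_ne_zero
  refine Groth.Agent.H80.no_injective_of_nil_aug (R := R) (G := Multiplicative (ZMod p))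
    (Multiplicative.ofAdd (0 : ZMod p)) (Multiplicative.ofAdd (1 : ZMod p))
    (fun h => hp2 (Multiplicative.ofAdd.injective h))
    (AlphaP.counitAlg p R) ?_ (φ : ConstGrp.F R (Multiplicative (ZMod p)) →ₐ[R] AlphaP.A p R)
    φ.injective
  intro b hb
  obtain ⟨f, rfl⟩ := AlphaP.mk_surjective p R b
  have hf : f = Polynomial.divX f * Polynomial.X + Polynomial.C (f.coeff 0) :=
    (Polynomial.divX_mul_X_add f).symm
  have h1 : AlphaP.mk p R f =
      AlphaP.mk p R (Polynomial.divX f) * AlphaP.x p R + algebraMap R _ (f.coeff 0) := by
    conv_lhs => rw [hf]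
    rw [map_add, map_mul, AlphaP.mk_X, ← Polynomial.algebraMap_eq, AlgHom.commutes]
  rw [h1, map_add, map_mul, AlphaP.counitAlg_x, mul_zero, zero_add, AlgHom.commutes] at hb
  have hb' : f.coeff 0 = 0 := by simpa using hb
  rw [h1, hb', map_zero, add_zero]
  refine ⟨p, ?_⟩
  rw [mul_pow, AlphaP.x_pow, mul_zero]

end Groth.Agent.S16073
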