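import Groth.Statements.S16074
import Mathlib.RingTheory.Bialgebra.MonoidAlgebra
import Mathlib.Tactic.LinearCombination

set_option autoImplicit false
universe u
open Hopf

namespace Groth.Agent.S16074


open TensorProduct in
/-- A group algebra has no nonzero primitive element. -/
theorem primitive_eq_zero {R : Type u} [CommRing R] {G : Type} [Group G] [DecidableEq G]
    (y : MonoidAlgebra R G)
    (hy : Coalgebra.comul (R := R) y = y ⊗ₜ[R] 1 + 1 ⊗ₜ[R] y) : y = 0 := by
  -- the coefficient functionals
  let c : G → (MonoidAlgebra R G →ₗ[R] R) := fun g =>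
    (Finsupp.lapply g).comp (MonoidAlgebra.coeffLinearEquiv R).toLinearMap
  have hc : ∀ g (z : MonoidAlgebra R G), c g z = z.coeff g := fun g z => rfl
  let ε : G → (MonoidAlgebra R G ⊗[R] MonoidAlgebra R G →ₗ[R] R) := fun g =>
    (TensorProduct.lid R R).toLinearMap.comp (TensorProduct.map (c g) (c g))
  have hε : ∀ g (a b : MonoidAlgebra R G), ε g (a ⊗ₜ[R] b) = a.coeff g * b.coeff g := by
    intro g a b
    simp [ε, hc]
  have h1 : ∀ g, (ε g).comp (Coalgebra.comul (R := R)) = c g := by
    intro g
    apply MonoidAlgebra.lhom_ext'
    intro k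
    apply LinearMap.ext_ring
    simp only [LinearMap.comp_apply, MonoidAlgebra.lsingle_apply, MonoidAlgebra.comul_single,
      CommSemiring.comul_apply, TensorProduct.map_tmul, hε, hc, MonoidAlgebra.coeff_single]
    by_cases hkg : k = g
    · subst hkg
      simp
    · simp [hkg]
  have h2 : ∀ g, y.coeff g = y.coeff g * (1 : MonoidAlgebra R G).coeff g +
      (1 : MonoidAlgebra R G).coeff g * y.coeff g := by
    intro g
    have := congrArg (ε g) hy
    rw [map_add, hε, hε] at this
    rw [← this, ← hc g y, ← h1 g]
    rfl
  have h3 : ∀ g, y.coeff g = 0 := by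
    intro g
    have := h2 g
    by_cases hg : g = 1
    · subst hg
      rw [MonoidAlgebra.one_def, MonoidAlgebra.coeff_single, Finsupp.single_eq_same] at this
      linear_combination -this
    · rw [MonoidAlgebra.one_def, MonoidAlgebra.coeff_single,
        Finsupp.single_apply, if_neg (Ne.symm hg)] at this
      simpa using this
  apply MonoidAlgebra.coeff_injective
  ext g
  simpa using h3 g

/-- Let p be a prime and R a commutative ring of characteristic p (p = 0 in R, R nonzero). Then μ_p and
α_p over Spec R are not isomorphic: there is no R-bialgebra isomorphism between the group algebra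
R[ℤ/p] of the cyclic group of order p (group elements group-like) and the Hopf algebra R[X]/(X^p) of
α_p (X primitive), although the underlying R-algebras R[ℤ/p] = R[Y]/(Y^p) and R[X]/(X^p) are
isomorphic. (Any nonzero commutative base ring of characteristic p is allowed. The published
statement allows any ring R with p·R = 0; over the zero ring both Hopf algebras are the zero ring
and hence isomorphic, so R is assumed nonzero here.) -/
theorem result (p : ℕ) [Fact p.Prime] (R : Type u) [CommRing R] [CharP R p] :
    IsEmpty (MonoidAlgebra R (Multiplicative (ZMod p)) ≃ₐc[R] AlphaP.A p R) := by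
  have hnt : Nontrivial R := CharP.nontrivial_of_char_ne_one (R := R) (Fact.out : p.Prime).ne_one
  refine ⟨fun φ => ?_⟩
  set y := φ.symm (AlphaP.x p R) with hy
  have hprim : Coalgebra.comul (R := R) y = y ⊗ₜ[R] 1 + 1 ⊗ₜ[R] y := by
    rw [hy, ← CoalgHomClass.map_comp_comul_apply, AlphaP.comul_x, map_add,
      TensorProduct.map_tmul, TensorProduct.map_tmul]
    simp
  have h0 : y = 0 := primitive_eq_zero y hprim
  have hx : AlphaP.x p R = 0 := by
    have := congrArg φ h0
    rwa [hy, BialgEquiv.apply_symm_apply, map_zero] at this
  -- but `x` is a basis vector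
  have hp1 : 1 < p := (Fact.out : p.Prime).one_lt
  have hb := (AlphaP.basis p R).ne_zero ⟨1, hp1⟩
  rw [AlphaP.basis_apply] at hb
  exact hb (by simpa using hx)

end Groth.Agent.S16074
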