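import Groth.Statements.S16075
import Mathlib.Algebra.CharP.Invertible
import Mathlib.Tactic.Ring
import Mathlib.Data.Nat.Choose.Sum

set_option autoImplicit false
universe u
open Hopf

namespace Groth.Agent.S16075


open TensorProduct in
/-- Primitive elements of the Hopf algebra of `α_p` are the multiples of `x`. -/
theorem primitive_eq_smul_x (p : ℕ) [Fact p.Prime] (T : Type u) [CommRing T] [CharP T p]
    (b : AlphaP.A p T)
    (hb : Coalgebra.comul (R := T) b = b ⊗ₜ[T] 1 + 1 ⊗ₜ[T] b) :
    ∃ c : T, b = c • AlphaP.x p T := by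
  classical
  have hpp : p.Prime := Fact.out
  have hnt : Nontrivial T := CharP.nontrivial_of_char_ne_one (R := T) hpp.ne_one
  have hp1 : 1 < p := hpp.one_lt
  have hp0 : 0 < p := hpp.pos
  -- coordinate functionals
  have hlam : ∀ (j : Fin p) (m : ℕ) (hm : m < p),
      (AlphaP.basis p T).coord j (AlphaP.x p T ^ m) = if m = (j : ℕ) then 1 else 0 := by
    intro j m hm
    have h : AlphaP.x p T ^ m = AlphaP.basis p T ⟨m, hm⟩ := by rw [AlphaP.basis_apply]
    rw [h, Module.Basis.coord_apply, Module.Basis.repr_self, Finsupp.single_apply]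
    simp [Fin.ext_iff]
  -- comultiplication of powers of x
  have hcomul : ∀ k : ℕ, Coalgebra.comul (R := T) (AlphaP.x p T ^ k) =
      ∑ m ∈ Finset.range (k + 1),
        (k.choose m : T) • ((AlphaP.x p T ^ m) ⊗ₜ[T] (AlphaP.x p T ^ (k - m))) := by
    intro k
    have h1 : Coalgebra.comul (R := T) (AlphaP.x p T ^ k) =
        (AlphaP.x p T ⊗ₜ[T] 1 + 1 ⊗ₜ[T] AlphaP.x p T) ^ k := by
      rw [← Bialgebra.comulAlgHom_apply, map_pow, Bialgebra.comulAlgHom_apply, AlphaP.comul_x]
    rw [h1, add_pow]
    refine Finset.sum_congr rfl (fun m _ => ?_)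
    rw [Algebra.TensorProduct.tmul_pow, Algebra.TensorProduct.tmul_pow, one_pow, one_pow,
      Algebra.TensorProduct.tmul_mul_tmul, mul_one, one_mul, mul_comm, ← nsmul_eq_mul,
      Nat.cast_smul_eq_nsmul]
  -- the functional extracting the coefficient of x^1 ⊗ x^j
  have key : ∀ (i : ℕ) (hi2 : 2 ≤ i) (hip : i < p),
      (AlphaP.basis p T).coord ⟨i, hip⟩ b = 0 := by
    intro i hi2 hip
    have hjp : i - 1 < p := by omega
    let ε : AlphaP.A p T ⊗[T] AlphaP.A p T →ₗ[T] T :=
      (TensorProduct.lid T T).toLinearMap.comp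
        (TensorProduct.map ((AlphaP.basis p T).coord ⟨1, hp1⟩)
          ((AlphaP.basis p T).coord ⟨i - 1, hjp⟩))
    have hε : ∀ a c : AlphaP.A p T, ε (a ⊗ₜ[T] c) =
        (AlphaP.basis p T).coord ⟨1, hp1⟩ a * (AlphaP.basis p T).coord ⟨i - 1, hjp⟩ c := by
      intro a c
      simp [ε]
    -- ε ∘ Δ = i • coord i
    have hL : ε.comp (Coalgebra.comul (R := T)) =
        (i : T) • (AlphaP.basis p T).coord ⟨i, hip⟩ := by
      apply (AlphaP.basis p T).ext
      intro k
      rw [AlphaP.basis_apply, LinearMap.comp_apply, hcomul, map_sum, LinearMap.smul_apply,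
        hlam ⟨i, hip⟩ k k.2]
      rw [Finset.sum_eq_single 1]
      · rw [map_smul, hε]
        by_cases hk0 : (k : ℕ) = 0
        · have hi0 : (0 : ℕ) ≠ i := by omega
          simp [hk0, hi0]
        · have hk1 : (k : ℕ) - 1 < p := by have := k.2; omega
          rw [hlam ⟨1, hp1⟩ 1 hp1, hlam ⟨i - 1, hjp⟩ ((k : ℕ) - 1) hk1]
          simp only [Nat.choose_one_right, if_true, one_mul, smul_eq_mul]
          by_cases hki : (k : ℕ) = i
          · have : (k : ℕ) - 1 = i - 1 := by omega
            simp [hki]
          · have : (k : ℕ) - 1 ≠ i - 1 := by omega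
            simp [hki, this]
      · intro m hm hm1
        rw [Finset.mem_range] at hm
        have hmp : m < p := by have := k.2; omega
        rw [map_smul, hε, hlam ⟨1, hp1⟩ m hmp]
        simp [hm1]
      · intro h1
        rw [Finset.mem_range] at h1
        have hk0 : (k : ℕ) = 0 := by omega
        rw [map_smul, hε, hk0]
        simp
    have h2 : ε (Coalgebra.comul (R := T) b) = 0 := by
      rw [hb, map_add, hε, hε]
      have h10 : (AlphaP.basis p T).coord ⟨1, hp1⟩ (1 : AlphaP.A p T) = 0 := by
        have := hlam ⟨1, hp1⟩ 0 hp0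
        simpa using this
      have hj0 : (AlphaP.basis p T).coord ⟨i - 1, hjp⟩ (1 : AlphaP.A p T) = 0 := by
        have := hlam ⟨i - 1, hjp⟩ 0 hp0
        have hne : (0 : ℕ) ≠ i - 1 := by omega
        simpa [hne] using this
      rw [h10, hj0, mul_zero, zero_mul, add_zero]
    have h3 := congrArg (fun L : AlphaP.A p T →ₗ[T] T => L b) hL
    simp only [LinearMap.comp_apply, LinearMap.smul_apply, smul_eq_mul] at h3
    rw [h2] at h3
    have hunit : IsUnit ((i : ℕ) : T) := by
      rw [CharP.isUnit_natCast_iff hpp]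
      intro hdvd
      have := Nat.le_of_dvd (by omega) hdvd
      omega
    exact (hunit.mul_right_eq_zero.mp h3.symm)
  -- the constant coefficient vanishes (counit)
  have h0 : (AlphaP.basis p T).coord ⟨0, hp0⟩ b = 0 := by
    have hcounit : Coalgebra.counit (R := T) b = 0 := by
      have h := Coalgebra.rTensor_counit_comul (R := T) b
      rw [hb, map_add, LinearMap.rTensor_tmul, LinearMap.rTensor_tmul] at h
      have h' := congrArg (TensorProduct.lid T (AlphaP.A p T)) h
      simp only [map_add, TensorProduct.lid_tmul, Bialgebra.counit_one, one_smul] at h'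
      have h'' : Coalgebra.counit (R := T) b • (1 : AlphaP.A p T) = 0 := by
        have := add_left_cancel (a := b) (b := Coalgebra.counit (R := T) b • (1 : AlphaP.A p T))
          (c := 0)
        apply this
        rw [add_zero, add_comm]
        exact h'
      rw [← Algebra.algebraMap_eq_smul_one] at h''
      exact (Bialgebra.algebraMap_injective (R := T) (AlphaP.A p T)) (by rw [h'', map_zero])
    -- counit = coordinate 0
    have hL : (Coalgebra.counit (R := T) : AlphaP.A p T →ₗ[T] T) =
        (AlphaP.basis p T).coord ⟨0, hp0⟩ := by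
      apply (AlphaP.basis p T).ext
      intro k
      rw [AlphaP.basis_apply, hlam ⟨0, hp0⟩ k k.2]
      by_cases hk : (k : ℕ) = 0
      · simp [hk]
      · rw [← Bialgebra.counitAlgHom_apply, map_pow, Bialgebra.counitAlgHom_apply,
          AlphaP.counit_x, zero_pow hk]
        simp [hk]
    rw [← hL]
    exact hcounit
  refine ⟨(AlphaP.basis p T).coord ⟨1, hp1⟩ b, ?_⟩
  apply (AlphaP.basis p T).ext_elem
  intro k
  rw [map_smul]
  have hx : AlphaP.x p T = AlphaP.basis p T ⟨1, hp1⟩ := by rw [AlphaP.basis_apply]; simp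
  rw [hx, Module.Basis.repr_self, Finsupp.smul_apply, Finsupp.single_apply]
  by_cases hk1 : (k : ℕ) = 1
  · have : (⟨1, hp1⟩ : Fin p) = k := Fin.ext hk1.symm
    simp [this]
  · have hne : (⟨1, hp1⟩ : Fin p) ≠ k := fun h => hk1 (by rw [← h])
    rw [if_neg hne, smul_zero]
    by_cases hk0 : (k : ℕ) = 0
    · have : k = ⟨0, hp0⟩ := Fin.ext hk0
      rw [this]
      exact h0
    · have := key (k : ℕ) (by omega) k.2
      exact this

/-- Let p be a prime, T a commutative ring of characteristic p (p = 0 in T, T nonzero) and A =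
T[X]/(X^p) the Hopf algebra of α_p over Spec T, with X primitive. Then the endomorphisms of the
T-group α_{p,T} are exactly the scalings: every T-bialgebra endomorphism f of A has f(X) = λ·X for a
unique λ ∈ T, and for every λ ∈ T there is a T-bialgebra endomorphism f of A with f(X) = λ·X. So the
endomorphisms of α_{p,T} correspond bijectively to the elements of T. (Only this bijection is
stated; that it turns addition and composition of endomorphisms into addition and multiplication in
T, and its naturality in T, are not stated here. The zero ring, allowed as T in the published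
statement, is excluded by the characteristic hypothesis here.) -/
theorem result (p : ℕ) [Fact p.Prime] (T : Type u) [CommRing T] [CharP T p] :
    (∀ f : AlphaP.A p T →ₐc[T] AlphaP.A p T, ∃! c : T, f (AlphaP.x p T) = c • AlphaP.x p T) ∧
      (∀ c : T, ∃ f : AlphaP.A p T →ₐc[T] AlphaP.A p T, f (AlphaP.x p T) = c • AlphaP.x p T) := by
  classical
  have hpp : p.Prime := Fact.out
  have hnt : Nontrivial T := CharP.nontrivial_of_char_ne_one (R := T) hpp.ne_one
  have hp1 : 1 < p := hpp.one_lt
  have hx : AlphaP.x p T = AlphaP.basis p T ⟨1, hp1⟩ := by rw [AlphaP.basis_apply]; simp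
  constructor
  · intro f
    have hprim : Coalgebra.comul (R := T) (f (AlphaP.x p T)) =
        f (AlphaP.x p T) ⊗ₜ[T] 1 + 1 ⊗ₜ[T] f (AlphaP.x p T) := by
      rw [← CoalgHomClass.map_comp_comul_apply, AlphaP.comul_x, map_add,
        TensorProduct.map_tmul, TensorProduct.map_tmul]
      simp
    obtain ⟨c, hc⟩ := primitive_eq_smul_x p T _ hprim
    refine ⟨c, hc, ?_⟩
    intro c' hc'
    have h := hc'.symm.trans hc
    rw [hx] at h
    have h2 := congrArg (fun z => (AlphaP.basis p T).repr z ⟨1, hp1⟩) h
    simp only [map_smul, Module.Basis.repr_self, Finsupp.smul_apply, Finsupp.single_eq_same,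
      smul_eq_mul, mul_one] at h2
    exact h2
  · intro c
    have hpow : (c • AlphaP.x p T) ^ p = 0 := by rw [smul_pow, AlphaP.x_pow, smul_zero]
    refine ⟨BialgHom.ofAlgHom (AlphaP.lift p T (c • AlphaP.x p T) hpow) ?_ ?_, ?_⟩
    · apply AlphaP.algHom_ext
      simp
    · apply AlphaP.algHom_ext
      rw [AlgHom.comp_apply, AlgHom.comp_apply, Bialgebra.comulAlgHom_apply,
        Bialgebra.comulAlgHom_apply, AlphaP.comul_x, map_add, Algebra.TensorProduct.map_tmul,
        Algebra.TensorProduct.map_tmul, map_one, AlphaP.lift_x, map_smul, AlphaP.comul_x,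
        smul_add, TensorProduct.smul_tmul', TensorProduct.tmul_smul]
    · simp

end Groth.Agent.S16075
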