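import Groth.Statements.S16076
import Groth.Agent.S16071
import Mathlib.Algebra.Polynomial.Inductions
import Mathlib.Algebra.CharP.Lemmas

set_option autoImplicit false
set_option linter.unusedSectionVars false
universe u
open scoped TensorProduct
open Versch

namespace Groth.Agent.S16076

open TensorProduct Polynomial

section
variable (p : ℕ) [hp : Fact p.Prime] (R : Type u) [CommRing R] [CharP R p]

theorem counit_mk (f : R[X]) : Coalgebra.counit (R := R) (AlphaP.mk p R f) = f.coeff 0 := by
  have h : (Bialgebra.counitAlgHom R (AlphaP.A p R)).comp (AlphaP.mk p R) = Polynomial.aeval (0 : R) := by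
    apply Polynomial.algHom_ext
    rw [AlgHom.comp_apply, AlphaP.mk_X, Bialgebra.counitAlgHom_apply, AlphaP.counit_x, aeval_X]
  have h2 := congrArg (fun φ : R[X] →ₐ[R] R => φ f) h
  simp only [AlgHom.comp_apply, Bialgebra.counitAlgHom_apply] at h2
  rw [h2, coeff_zero_eq_eval_zero]
  rfl

/-- `p`-th powers in the coordinate ring of `α_p` are scalars. -/
theorem pow_p_eq (a : AlphaP.A p R) :
    a ^ p = algebraMap R (AlphaP.A p R) ((Coalgebra.counit (R := R) a) ^ p) := by
  obtain ⟨f, rfl⟩ := AlphaP.mk_surjective p R a
  rw [counit_mk]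
  have hf : f = Polynomial.X * f.divX + Polynomial.C (f.coeff 0) := by
    rw [mul_comm]; exact (Polynomial.divX_mul_X_add f).symm
  conv_lhs => rw [hf]
  rw [map_add, map_mul, AlphaP.mk_X, add_pow_char, mul_pow, AlphaP.x_pow, zero_mul, zero_add,
    ← map_pow, ← Polynomial.C_pow]
  exact (AlphaP.mk p R).commutes _

variable [Nontrivial R]

theorem dual_pow_p (y : CartDual.D R (AlphaP.A p R)) :
    y ^ p = algebraMap R (CartDual.D R (AlphaP.A p R)) ((y 1) ^ p) := by
  obtain ⟨a', rfl⟩ := (Groth.Agent.S16071.ψ_bijective p R).2 y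
  have h1 := congrArg (fun φ : AlphaP.A p R →ₐ[R] R => φ a') (Groth.Agent.S16071.ψ_counit p R)
  simp only [AlgHom.comp_apply, Bialgebra.counitAlgHom_apply, CartDual.coalgebra_counit_apply] at h1
  rw [← map_pow, pow_p_eq, AlgHom.commutes, h1]

end


/-- Let p be a prime, R a commutative ring of characteristic p and A = R[X]/(X^p) the Hopf algebra of
α_p over Spec R, with X primitive. Let v : A → A ⊗_R R^(Frob) be the comorphism of the Verschiebung
V : α_p^(p) → α_p (the ring map whose transpose under the canonical pairing is the relative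
Frobenius of the dual Hopf algebra Hom_R(A, R)). Then V is the trivial homomorphism: v is the
composite of the counit ε : A → R, the identity of underlying rings R → R^(Frob) and the inclusion
of the twisted factor R^(Frob) → A ⊗_R R^(Frob), i.e. v(a) = 1 ⊗ ε(a). (Any commutative base ring of
characteristic p is allowed.) -/
theorem result (p : ℕ) [Fact p.Prime] (R : Type u) [CommRing R] [CharP R p]
    (v : AlphaP.A p R →+* FrobAlg.BaseChange p R (AlphaP.A p R))
    (hv : Versch.IsVerschiebung p R (AlphaP.A p R) v) :
    v = ((Algebra.TensorProduct.includeRight (R := R) (A := AlphaP.A p R) (B := FrobAlg.Twist p R)).toRingHom.comp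
          (FrobAlg.toTwist p R).toRingHom).comp (Bialgebra.counitAlgHom R (AlphaP.A p R)).toRingHom := by
  have : Nontrivial R := CharP.nontrivial_of_char_ne_one (R := R) (v := p) (Fact.out : p.Prime).ne_one
  apply Versch.IsVerschiebung.unique p R (AlphaP.A p R) hv
  rw [Versch.isVerschiebung_iff]
  intro a x
  change Versch.evTw p R (AlphaP.A p R) x
    ((1 : AlphaP.A p R) ⊗ₜ[R] FrobAlg.toTwist p R (Coalgebra.counit (R := R) a)) = _
  rw [Versch.evTw_tmul', dual_pow_p, ← map_mul]
  congr 1

end Groth.Agent.S16076
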