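import Groth.Statements.S16078
import Mathlib

set_option autoImplicit false
universe u
open scoped TensorProduct
open Hopf

namespace Groth.Agent.S16078

/-- Let R be a henselian Noetherian local ring, A and A'' commutative Hopf algebras over R which are
finite and flat as R-modules, and A'' → A an R-algebra homomorphism compatible with
comultiplications and counits making A faithfully flat over A'' (a faithfully flat homomorphism π :
G → G'' of finite flat R-groups); let J ⊆ A be the ideal generated by the image of the augmentation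
ideal of A'' (G' = Spec A/J = ker π, so that 1 → G' → G → G'' → 1 is exact). Let e ∈ A and e'' ∈ A''
be idempotents with ε(e) = 1, ε(e'') = 1 and A/(1 − e), A''/(1 − e'') local rings (the unit
components G⁰ and G''⁰), and let e' ∈ A be an element whose image in A/J is an idempotent, with
ε(e') = 1 and A/(J + (1 − e')) local (so G'⁰ = Spec (A/J)/(1 − e') is the unit component of G').
Suppose g : A''/(1 − e'') → A/(1 − e) is the ring homomorphism induced by A'' → A (the restriction
π⁰ : G⁰ → G''⁰ of π, which exists because G⁰ is connected). Then g is faithfully flat, and e ≡ e'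
modulo J, i.e. J + (1 − e) = J + (1 − e') and the kernel of π⁰, which is cut out in G⁰ by J, is
exactly G'⁰: the sequence 1 → G'⁰ → G⁰ → G''⁰ → 1 is exact. (The published statement also asserts
exactness of the maximal étale quotient G ↦ G^ét, not stated here.) -/
theorem result (R : Type u) [CommRing R] [HenselianLocalRing R]
    [IsNoetherianRing R] (A A'' : Type u) [CommRing A] [HopfAlgebra R A] [Module.Finite R A] [Module.Flat R A]
    [CommRing A''] [HopfAlgebra R A''] [Module.Finite R A''] [Module.Flat R A'']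
    [Algebra A'' A] [IsScalarTower R A'' A] [Module.FaithfullyFlat A'' A]
    (hΔ : (Bialgebra.comulAlgHom R A).comp (IsScalarTower.toAlgHom R A'' A) =
      (Algebra.TensorProduct.map (IsScalarTower.toAlgHom R A'' A) (IsScalarTower.toAlgHom R A'' A)).comp
        (Bialgebra.comulAlgHom R A''))
    (hε : (Bialgebra.counitAlgHom R A).comp (IsScalarTower.toAlgHom R A'' A) = Bialgebra.counitAlgHom R A'')
    (e : A) (he : IsIdempotentElem e) (heε : Bialgebra.counitAlgHom R A e = 1)
    [IsLocalRing (A ⧸ Ideal.span ({1 - e} : Set A))]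
    (e'' : A'') (he'' : IsIdempotentElem e'') (he''ε : Bialgebra.counitAlgHom R A'' e'' = 1)
    [IsLocalRing (A'' ⧸ Ideal.span ({1 - e''} : Set A''))]
    (e' : A) (he' : IsIdempotentElem (Ideal.Quotient.mk ((RingHom.ker (Bialgebra.counitAlgHom R A'')).map (algebraMap A'' A)) e'))
    (he'ε : Bialgebra.counitAlgHom R A e' = 1)
    [IsLocalRing (A ⧸ (((RingHom.ker (Bialgebra.counitAlgHom R A'')).map (algebraMap A'' A)) ⊔ Ideal.span ({1 - e'} : Set A)))]
    (g : (A'' ⧸ Ideal.span ({1 - e''} : Set A'')) →+* (A ⧸ Ideal.span ({1 - e} : Set A)))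
    (hg : g.comp (Ideal.Quotient.mk (Ideal.span ({1 - e''} : Set A''))) =
      (Ideal.Quotient.mk (Ideal.span ({1 - e} : Set A))).comp (algebraMap A'' A)) :
    g.FaithfullyFlat ∧
      Ideal.Quotient.mk ((RingHom.ker (Bialgebra.counitAlgHom R A'')).map (algebraMap A'' A)) e = Ideal.Quotient.mk ((RingHom.ker (Bialgebra.counitAlgHom R A'')).map (algebraMap A'' A)) e' := by
  classical
  let I'' : Ideal A'' := RingHom.ker (Bialgebra.counitAlgHom R A'')
  let J : Ideal A := I''.map (algebraMap A'' A)
  let E : Ideal A := Ideal.span ({1 - e} : Set A)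
  let E'' : Ideal A'' := Ideal.span ({1 - e''} : Set A'')
  let E' : Ideal A := Ideal.span ({1 - e'} : Set A)
  have h2 : J ≤ RingHom.ker (Bialgebra.counitAlgHom R A) := by
    rw [Ideal.map_le_iff_le_comap]
    intro a ha
    rw [Ideal.mem_comap, RingHom.mem_ker]
    have h3 := AlgHom.congr_fun hε a
    rw [AlgHom.comp_apply] at h3
    exact h3.trans ha
  have hspan : ∀ (u : A), Bialgebra.counitAlgHom R A u = 1 →
      Ideal.span ({1 - u} : Set A) ≤ RingHom.ker (Bialgebra.counitAlgHom R A) := by
    intro u hu
    rw [Ideal.span_le]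
    intro a ha
    rw [Set.mem_singleton_iff] at ha
    rw [ha, SetLike.mem_coe, RingHom.mem_ker, map_sub, map_one, hu, sub_self]
  have hE : E ≤ RingHom.ker (Bialgebra.counitAlgHom R A) := hspan e heε
  have hE' : E' ≤ RingHom.ker (Bialgebra.counitAlgHom R A) := hspan e' he'ε
  have hE'' : E'' ≤ RingHom.ker (Bialgebra.counitAlgHom R A'') := by
    rw [Ideal.span_le]
    intro a ha
    rw [Set.mem_singleton_iff] at ha
    rw [ha, SetLike.mem_coe, RingHom.mem_ker, map_sub, map_one, he''ε, sub_self]
  have hone : ∀ L : Ideal A, L ≤ RingHom.ker (Bialgebra.counitAlgHom R A) → L ≠ ⊤ := by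
    intro L hL h
    have h1 : (1 : A) ∈ L := h ▸ Submodule.mem_top
    have h3 := hL h1
    rw [RingHom.mem_ker, map_one] at h3
    exact one_ne_zero h3
  -- a general fact: in a local quotient of A by an ideal inside ker ε, an "idempotent mod L"
  -- with ε = 1 is 1
  have hkey : ∀ (L : Ideal A), L ≤ RingHom.ker (Bialgebra.counitAlgHom R A) →
      IsLocalRing (A ⧸ L) → ∀ u : A, u * u - u ∈ L → Bialgebra.counitAlgHom R A u = 1 →
      1 - u ∈ L := by
    intro L hL hloc u hu huε
    let εL : A ⧸ L →+* R := Ideal.Quotient.lift L (Bialgebra.counitAlgHom R A : A →+* R)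
      (fun a ha => hL ha)
    have hid : IsIdempotentElem (Ideal.Quotient.mk L u) := by
      rw [IsIdempotentElem, ← map_mul, ← sub_eq_zero, ← map_sub]
      exact Ideal.Quotient.eq_zero_iff_mem.mpr hu
    rcases IsLocalRing.isUnit_or_isUnit_one_sub_self (Ideal.Quotient.mk L u) with hun | hun
    · have h3 : Ideal.Quotient.mk L u * Ideal.Quotient.mk L u = Ideal.Quotient.mk L u * 1 := by
        rw [mul_one]; exact hid
      have h4 : Ideal.Quotient.mk L u = 1 := hun.mul_left_cancel h3
      rw [← Ideal.Quotient.eq_zero_iff_mem, map_sub, map_one, h4, sub_self]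
    · exfalso
      have h3 : (1 - Ideal.Quotient.mk L u) * Ideal.Quotient.mk L u =
          (1 - Ideal.Quotient.mk L u) * 0 := by
        rw [mul_zero, sub_mul, one_mul, hid.eq, sub_self]
      have h4 : Ideal.Quotient.mk L u = 0 := hun.mul_left_cancel h3
      have h5 : εL (Ideal.Quotient.mk L u) = 1 := huε
      rw [h4, map_zero] at h5
      exact zero_ne_one h5
  constructor
  · -- faithful flatness of g
    let algg : Algebra (A'' ⧸ E'') (A ⧸ E) := g.toAlgebra
    have htower : IsScalarTower A'' (A'' ⧸ E'') (A ⧸ E) := by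
      apply IsScalarTower.of_algebraMap_eq
      intro x
      exact (RingHom.congr_fun hg x).symm
    have hflatA : Module.Flat A (A ⧸ E) := by
      let i : (A ⧸ E) →ₗ[A] A := Submodule.liftQ E (LinearMap.mulLeft A e) (by
        rw [Ideal.span_le]
        intro a ha
        rw [Set.mem_singleton_iff] at ha
        rw [ha, SetLike.mem_coe, LinearMap.mem_ker, LinearMap.mulLeft_apply, mul_sub, mul_one,
          he.eq, sub_self])
      refine Module.Flat.of_retract i (Submodule.mkQ E) ?_
      apply LinearMap.ext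
      intro z
      obtain ⟨a, rfl⟩ := Submodule.mkQ_surjective E z
      rw [LinearMap.comp_apply, LinearMap.id_apply]
      change Submodule.mkQ E (e * a) = Submodule.mkQ E a
      rw [← sub_eq_zero, ← map_sub, Submodule.mkQ_apply, Submodule.Quotient.mk_eq_zero]
      have h1 : e * a - a = -a * (1 - e) := by ring
      rw [h1]
      exact Ideal.mul_mem_left _ _ (Ideal.subset_span rfl)
    have hflatB : Module.Flat A'' (A ⧸ E) := Module.Flat.trans A'' A (A ⧸ E)
    have hlocz : IsLocalization.Away e'' (A'' ⧸ E'') :=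
      IsLocalization.Away.quotient_of_isIdempotentElem he''
    have hflatg : Module.Flat (A'' ⧸ E'') (A ⧸ E) :=
      (Module.flat_iff_of_isLocalization (A'' ⧸ E'') (Submonoid.powers e'') (A ⧸ E)).mpr hflatB
    -- units are detected by the counit
    let ε0 : A ⧸ E →+* R := Ideal.Quotient.lift E (Bialgebra.counitAlgHom R A : A →+* R)
      (fun a ha => hE ha)
    let ε0'' : A'' ⧸ E'' →+* R :=
      Ideal.Quotient.lift E'' (Bialgebra.counitAlgHom R A'' : A'' →+* R) (fun a ha => hE'' ha)
    have hεg : ∀ x, ε0 (g x) = ε0'' x := by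
      intro x
      obtain ⟨a, rfl⟩ := Ideal.Quotient.mk_surjective x
      have h1 : g (Ideal.Quotient.mk E'' a) = Ideal.Quotient.mk E (algebraMap A'' A a) :=
        RingHom.congr_fun hg a
      rw [h1]
      change Bialgebra.counitAlgHom R A (algebraMap A'' A a) = Bialgebra.counitAlgHom R A'' a
      exact AlgHom.congr_fun hε a
    have hunit'' : ∀ x : A'' ⧸ E'', IsUnit (ε0'' x) → IsUnit x := by
      intro x hx
      by_contra hnu
      have hxm : x ∈ IsLocalRing.maximalIdeal (A'' ⧸ E'') := hnu
      let res : A'' ⧸ E'' →+* IsLocalRing.ResidueField R := (IsLocalRing.residue R).comp ε0''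
      have hsurj : Function.Surjective res := by
        intro z
        obtain ⟨r, rfl⟩ := IsLocalRing.residue_surjective z
        refine ⟨algebraMap R (A'' ⧸ E'') r, ?_⟩
        change IsLocalRing.residue R (ε0'' (Ideal.Quotient.mk E'' (algebraMap R A'' r))) = _
        congr 1
        change Bialgebra.counitAlgHom R A'' (algebraMap R A'' r) = r
        rw [AlgHom.commutes]
        rfl
      have hmax : (RingHom.ker res).IsMaximal := RingHom.ker_isMaximal_of_surjective res hsurj
      have hker := IsLocalRing.eq_maximalIdeal hmax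
      rw [← hker, RingHom.mem_ker] at hxm
      have h3 : ε0'' x ∈ IsLocalRing.maximalIdeal R := by
        rw [← IsLocalRing.residue_eq_zero_iff]
        exact hxm
      exact h3 hx
    have hlocalhom : IsLocalHom (algebraMap (A'' ⧸ E'') (A ⧸ E)) := by
      constructor
      intro x hx
      apply hunit''
      have h1 : algebraMap (A'' ⧸ E'') (A ⧸ E) x = g x := rfl
      rw [h1] at hx
      rw [← hεg]
      exact hx.map ε0
    exact (Module.FaithfullyFlat.of_flat_of_isLocalHom : Module.FaithfullyFlat (A'' ⧸ E'') (A ⧸ E))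
  · -- e ≡ e' mod J
    have hidJ : e' * e' - e' ∈ J := by
      rw [← Ideal.Quotient.eq_zero_iff_mem, map_sub, map_mul, sub_eq_zero]
      exact he'
    have hloc1 : IsLocalRing (A ⧸ (J ⊔ E)) := by
      have hnt : Nontrivial (A ⧸ (J ⊔ E)) :=
        Ideal.Quotient.nontrivial_iff.mpr (hone _ (sup_le h2 hE))
      have hEK : E ≤ J ⊔ E := le_sup_right
      exact IsLocalRing.of_surjective' (Ideal.Quotient.factor hEK)
        (Ideal.Quotient.factor_surjective hEK)
    have hc1 : 1 - e' ∈ J ⊔ E :=
      hkey (J ⊔ E) (sup_le h2 hE) hloc1 e' (Ideal.mem_sup_left hidJ) he'ε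
    have hc2 : 1 - e ∈ J ⊔ E' := by
      refine hkey (J ⊔ E') (sup_le h2 hE') inferInstance e ?_ heε
      rw [he.eq, sub_self]
      exact Submodule.zero_mem _
    obtain ⟨j1, hj1, t1, ht1, hjt1⟩ := Submodule.mem_sup.mp hc1
    obtain ⟨j2, hj2, t2, ht2, hjt2⟩ := Submodule.mem_sup.mp hc2
    obtain ⟨a1, ha1⟩ := Ideal.mem_span_singleton'.mp ht1
    obtain ⟨a2, ha2⟩ := Ideal.mem_span_singleton'.mp ht2
    -- work in A ⧸ J
    have hu : IsIdempotentElem (Ideal.Quotient.mk J e) := by
      rw [IsIdempotentElem, ← map_mul, he.eq]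
    have hq1 : (1 : A ⧸ J) - Ideal.Quotient.mk J e' =
        Ideal.Quotient.mk J a1 * (1 - Ideal.Quotient.mk J e) := by
      have h5 : Ideal.Quotient.mk J (1 - e') = Ideal.Quotient.mk J (j1 + t1) := by rw [hjt1]
      rw [map_add, Ideal.Quotient.eq_zero_iff_mem.mpr hj1, zero_add, ← ha1, map_mul, map_sub,
        map_sub, map_one] at h5
      exact h5
    have hq2 : (1 : A ⧸ J) - Ideal.Quotient.mk J e =
        Ideal.Quotient.mk J a2 * (1 - Ideal.Quotient.mk J e') := by
      have h5 : Ideal.Quotient.mk J (1 - e) = Ideal.Quotient.mk J (j2 + t2) := by rw [hjt2]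
      rw [map_add, Ideal.Quotient.eq_zero_iff_mem.mpr hj2, zero_add, ← ha2, map_mul, map_sub,
        map_sub, map_one] at h5
      exact h5
    have h6 : Ideal.Quotient.mk J e * (1 - Ideal.Quotient.mk J e') = 0 := by
      rw [hq1, mul_left_comm, mul_sub, mul_one, hu.eq, sub_self, mul_zero]
    have h7 : Ideal.Quotient.mk J e' * (1 - Ideal.Quotient.mk J e) = 0 := by
      rw [hq2, mul_left_comm, mul_sub, mul_one, he'.eq, sub_self, mul_zero]
    have h8 : Ideal.Quotient.mk J e = Ideal.Quotient.mk J e * Ideal.Quotient.mk J e' := by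
      rw [mul_sub, mul_one, sub_eq_zero] at h6
      exact h6
    have h9 : Ideal.Quotient.mk J e' = Ideal.Quotient.mk J e' * Ideal.Quotient.mk J e := by
      rw [mul_sub, mul_one, sub_eq_zero] at h7
      exact h7
    rw [h8, mul_comm, ← h9]

end Groth.Agent.S16078
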