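import Groth.Statements.S16083
import Groth.Agent.H17.HomExtend

set_option autoImplicit false
universe u
open CategoryTheory CategoryTheory.Limits AlgebraicGeometry TopologicalSpace
open SDiv

namespace Groth.Agent.S16083

theorem isReflexive_of_isField {R M : Type*} [CommRing R] [AddCommGroup M] [Module R M]
    [Module.Finite R M] (h : IsField R) : Module.IsReflexive R M := by
  letI := h.toField
  exact Module.IsReflexive.of_finite_of_free (R := R) (M := M)

/-- Suppose X is a normal scheme that is integral and locally Noetherian, write η for its generic point,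
let F and G be coherent O_X-modules, and let T : G_η → F_η be an O_{X,η}-linear map of generic
stalks. Then T extends to a morphism G ⟶ F^** — there is a morphism ψ whose stalk map at η is T
followed by the stalk map at η of the canonical map F ⟶ F^** — if and only if for every point x with
dim O_{X,x} = 1 the map T sends the image of G_x in G_η into the image of F_x in F_η. -/
theorem result (X : Scheme.{u}) [IsIntegral X] [IsLocallyNoetherian X]
    (hX : Pi1.IsNormalScheme X) (F G : X.Modules) (hF : Coh.IsCoh F) (hG : Coh.IsCoh G)
    (T : ↑(G.presheaf.stalk (genericPoint ↥X)) →ₗ[↑(X.presheaf.stalk (genericPoint ↥X))]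
      ↑(F.presheaf.stalk (genericPoint ↥X))) :
    (∃ ψ : G ⟶ RefHull.ddual F, RefHull.stalkMapₗ ψ (genericPoint ↥X) =
        (RefHull.stalkMapₗ (RefHull.bidualMap F) (genericPoint ↥X)).comp T) ↔
      ∀ x : ↥X, ringKrullDim ↑(X.presheaf.stalk x) = 1 →
        Set.MapsTo ⇑T
          (Set.range ⇑(G.presheaf.stalkSpecializes ((genericPoint_spec ↥X).specializes (Set.mem_univ x))).hom)
          (Set.range ⇑(F.presheaf.stalkSpecializes ((genericPoint_spec ↥X).specializes (Set.mem_univ x))).hom) := by
  classical
  open Groth.Agent.H17.HomExtend Groth.Agent.H17.ReflSheaf Groth.Agent.H17.HomSh in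
  constructor
  · -- (⇒)
    rintro ⟨ψ, hψ⟩ x hdim u ⟨v, rfl⟩
    have hsp : genericPoint X ⤳ x := (genericPoint_spec X).specializes (Set.mem_univ x)
    haveI : IsDomain (X.presheaf.stalk x) := (hX x).1
    haveI : IsIntegrallyClosed (X.presheaf.stalk x) := (hX x).2
    haveI : IsNoetherianRing (X.presheaf.stalk x) := inferInstance
    haveI : IsPrincipalIdealRing (X.presheaf.stalk x) :=
      Groth.Agent.S7862.isPrincipalIdealRing_of_dim_lt_two (X.presheaf.stalk x)
        (by rw [hdim]; norm_num)
    obtain ⟨f, hf⟩ := stalkMap_bidualMap_surjective_of_pid F hF x (RefHull.stalkMapₗ ψ x v)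
    refine ⟨f, ?_⟩
    -- injectivity of the biduality map at the generic point
    have hfield : IsField (X.presheaf.stalk (genericPoint X)) := Field.toIsField X.functionField
    haveI : Module.Finite (X.presheaf.stalk (genericPoint X))
        (F.presheaf.stalk (genericPoint X)) :=
      Groth.Agent.H8.finite_stalk_of_isCoh F hF (genericPoint X)
    have hrefl : RefHull.IsReflexiveAt F (genericPoint X) := by
      exact isReflexive_of_isField hfield
    have hinj : Function.Injective (RefHull.stalkMapₗ (RefHull.bidualMap F) (genericPoint X)) :=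
      ((isReflexiveAt_iff F hF (genericPoint X)).mp hrefl).1
    apply hinj
    have h1 := sp_stalkMapₗ hsp (RefHull.bidualMap F) f
    have h2 := sp_stalkMapₗ hsp ψ v
    rw [hψ] at h2
    exact h1.trans ((congrArg _ hf).trans h2.symm)
  · -- (⇐)
    intro hM
    refine exists_hom_of_codim_one hX G (RefHull.ddual F) hG (isCoh_ddual F hF)
      (Groth.Agent.H17.ReflNormal.isReflexive_dual (RefHull.dual F) (isCoh_dual F hF))
      ((RefHull.stalkMapₗ (RefHull.bidualMap F) (genericPoint X)).comp T) ?_
    intro x hdim hsp v
    obtain ⟨f, hf⟩ := hM x hdim ⟨v, rfl⟩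
    refine ⟨RefHull.stalkMapₗ (RefHull.bidualMap F) x f, ?_⟩
    have h1 := sp_stalkMapₗ hsp (RefHull.bidualMap F) f
    rw [← h1]
    exact congrArg _ hf.symm

end Groth.Agent.S16083
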