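import Groth.Statements.S16084
import Groth.Agent.H17.CyclicStalk
import Groth.Agent.H17.NormalRankOne
import Groth.Agent.H17.RankOneSheaf
import Groth.Agent.H17.ReflSheaf
import Groth.Agent.H17.ReflNormal
import Groth.Agent.H15.SerreNormal

set_option autoImplicit false
universe u
open CategoryTheory CategoryTheory.Limits AlgebraicGeometry TopologicalSpace
open SDiv

namespace Groth.Agent.S16084

/-- Let X be an integral locally Noetherian normal scheme, F a rank one coherent reflexive O_X-module
and s a nonzero global section of F. Let Z be the set of points x at which multiplication by the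
germ of s, O_{X,x} → F_x, fails to be bijective (the complement of the open where s generates F).
Then every irreducible component of Z has codimension 1 in X: at each point z of Z to which no other
point of Z specializes, the local ring O_{X,z} has dimension 1. -/
theorem result (X : Scheme.{u}) [IsIntegral X] [IsLocallyNoetherian X]
    (hX : Pi1.IsNormalScheme X) (F : X.Modules) (hF : RefHull.IsRef1 F) (s : Γ(F, ⊤)) (hs : s ≠ 0) (z : ↥X)
    (hz : ¬ Function.Bijective fun a : ↑(X.presheaf.stalk z) => a • F.presheaf.germ ⊤ z trivial s)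
    (hmax : ∀ y : ↥X, ¬ Function.Bijective (fun a : ↑(X.presheaf.stalk y) => a • F.presheaf.germ ⊤ y trivial s) →
      y ⤳ z → y = z) :
    ringKrullDim ↑(X.presheaf.stalk z) = 1 := by
  classical
  obtain ⟨hFc, hFr, hFg⟩ := hF
  haveI : F.IsQuasicoherent := hFc.1
  haveI : SheafOfModules.IsFiniteType (R := X.ringCatSheaf) F := hFc.2
  obtain ⟨U₂, hη, hsec⟩ := Groth.Agent.H17.RankOneSheaf.exists_secRankOne F hFg
  -- torsion-freeness of the stalks
  have htf0 : ∀ (x : X) (r : X.presheaf.stalk x) (μ : F.presheaf.stalk x), r ≠ 0 → r • μ = 0 →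
      μ = 0 := by
    intro x r μ hr h
    haveI : IsDomain (X.presheaf.stalk x) := inferInstance
    haveI : Module.IsReflexive (X.presheaf.stalk x) (F.presheaf.stalk x) :=
      Groth.Agent.H17.ReflSheaf.isReflexiveAt_of_isReflexive F hFc hFr x
    apply (Module.bijective_dual_eval (X.presheaf.stalk x) (F.presheaf.stalk x)).1
    rw [map_zero]
    refine LinearMap.ext fun f => ?_
    have h1 : r * f μ = 0 := by
      rw [← smul_eq_mul, ← map_smul, h, map_zero]
    exact (mul_eq_zero.mp h1).resolve_left hr
  have htf : TorSh.IsTorsionFree F := by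
    intro x
    haveI : IsDomain (X.presheaf.stalk x) := inferInstance
    refine ⟨fun r hr a b hab => ?_⟩
    have h1 : r • (a - b) = 0 := by
      rw [smul_sub]
      exact sub_eq_zero.mpr hab
    exact sub_eq_zero.mp (htf0 x r _ hr.ne_zero h1)
  -- the germs of `s` are nonzero
  have hsz : ∀ x : X, F.presheaf.germ ⊤ x trivial s ≠ 0 := by
    intro x h0
    obtain ⟨V', hV', hxV', hres⟩ :=
      Groth.Agent.H8.exists_res_eq_zero_of_germ_eq_zero x F (U := ⊤) trivial s h0
    have hηV' : genericPoint X ∈ V' :=
      ((genericPoint_spec X).mem_open_set_iff V'.2).mpr ⟨x, Set.mem_univ _, hxV'⟩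
    apply hs
    apply Groth.Agent.H17.ReflNormal.res_injective_of_isTorsionFree F htf hV' hηV'
    rw [hres, map_zero]
  have hinj : ∀ x : X, Function.Injective
      (fun a : X.presheaf.stalk x => a • F.presheaf.germ ⊤ x trivial s) := by
    intro x a b hab
    have h1 : (a - b) • F.presheaf.germ ⊤ x trivial s = 0 := by
      rw [sub_smul]
      exact sub_eq_zero.mpr hab
    by_contra hne
    exact hsz x (htf0 x (a - b) _ (sub_ne_zero.mpr hne) h1)
  have hz' : ¬ Function.Surjective
      (fun a : X.presheaf.stalk z => a • F.presheaf.germ ⊤ z trivial s) :=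
    fun h => hz ⟨hinj z, h⟩
  have hmax' : ∀ y : X, y ⤳ z → y ≠ z → Function.Surjective
      (fun a : X.presheaf.stalk y => a • F.presheaf.germ ⊤ y trivial s) := by
    intro y hyz hne
    by_contra hns
    exact hne (hmax y (fun hb => hns hb.2) hyz)
  obtain ⟨hdom, hic⟩ := hX z
  haveI := hic
  haveI : IsNoetherianRing (X.presheaf.stalk z) := inferInstance
  rcases Groth.Agent.H15.SerreNormal.hasSeq_of_normal (X.presheaf.stalk z) with
    hbot | ⟨h1, h2 | hht⟩
  · -- the local ring is a field
    exfalso
    apply hz'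
    intro μ
    obtain ⟨α, β, hαβ, hrel⟩ := Groth.Agent.H17.RankOneSheaf.stalk_rank_one F hη hsec z μ
      (F.presheaf.germ ⊤ z trivial s)
    have hα : α ≠ 0 := by
      rintro rfl
      rw [zero_smul] at hrel
      have hβ : β ≠ 0 := hαβ.resolve_left (not_not.mpr rfl)
      exact hsz z (htf0 z β _ hβ hrel.symm)
    have hu : IsUnit α := by
      by_contra hnu
      have h3 : α ∈ IsLocalRing.maximalIdeal (X.presheaf.stalk z) :=
        (IsLocalRing.mem_maximalIdeal α).mpr hnu
      rw [hbot] at h3
      exact hα h3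
    obtain ⟨u, rfl⟩ := hu
    refine ⟨((u⁻¹ : (X.presheaf.stalk z)ˣ) : X.presheaf.stalk z) * β, ?_⟩
    change (((u⁻¹ : (X.presheaf.stalk z)ˣ) : X.presheaf.stalk z) * β) •
      F.presheaf.germ ⊤ z trivial s = μ
    rw [mul_smul, ← hrel, smul_smul, Units.inv_mul, one_smul]
  · -- depth at least two
    exfalso
    apply hz'
    obtain ⟨x, hxm, hxreg, hseq1⟩ := Groth.Agent.H15.Depth.hasSeq_succ_iff.mp h2
    obtain ⟨y, hym, hyreg, -⟩ := Groth.Agent.H15.Depth.hasSeq_succ_iff.mp hseq1
    have hx0 : x ≠ 0 := by
      rintro rfl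
      have h3 := hxreg (show (0 : X.presheaf.stalk z) • (1 : X.presheaf.stalk z) =
        (0 : X.presheaf.stalk z) • (0 : X.presheaf.stalk z) by simp)
      exact one_ne_zero h3
    have hy : ∀ a b : X.presheaf.stalk z, y * a = x * b → ∃ a', a = x * a' := by
      intro a b hab
      have h3 : y • (Submodule.Quotient.mk a : QuotSMulTop x (X.presheaf.stalk z)) =
          y • (0 : QuotSMulTop x (X.presheaf.stalk z)) := by
        rw [smul_zero, ← Submodule.Quotient.mk_smul, Submodule.Quotient.mk_eq_zero, smul_eq_mul,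
          hab]
        exact Submodule.smul_mem_pointwise_smul b x ⊤ trivial
      have h4 := hyreg h3
      rw [Submodule.Quotient.mk_eq_zero] at h4
      obtain ⟨a', -, ha'⟩ := (Submodule.mem_smul_pointwise_iff_exists _ _ _).mp h4
      exact ⟨a', ha'.symm⟩
    obtain ⟨_, ⟨V, hV, rfl⟩, hzV, -⟩ :=
      X.isBasis_affineOpens.exists_subset_of_mem_open (Set.mem_univ z) isOpen_univ
    replace hV : IsAffineOpen V := hV
    have hgerm : ∀ (w : X) (hw : w ∈ V), F.presheaf.germ V w hw
        (F.presheaf.map (homOfLE (le_top : V ≤ ⊤)).op s) = F.presheaf.germ ⊤ w trivial s :=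
      fun w hw => Groth.Agent.H8.germ_res w F (le_top : V ≤ ⊤) hw s
    have key := Groth.Agent.H17.NormalRankOne.exists_eq_smul_of_regular_pair (htf0 z)
      (F.presheaf.germ ⊤ z trivial s) (hsz z) x y hx0 hxm hym hy (by
        intro Q hQ hQne μ
        haveI := hQ
        obtain ⟨y', hy'V, hq, hspec, hyz⟩ :=
          Groth.Agent.H17.CyclicStalk.exists_generization hV z hzV Q
        have hne : y' ≠ z := fun h => hQne (hyz h)
        have hsurj := hmax' y' hspec hne
        have h5 := Groth.Agent.H17.CyclicStalk.exists_smul_eq_smul_germ F hV z hzV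
          (F.presheaf.map (homOfLE (le_top : V ≤ ⊤)).op s) Q y' hy'V hq (by
            intro ν
            obtain ⟨b, hb⟩ := hsurj ν
            exact ⟨b, by rw [hgerm]; exact hb⟩) μ
        rw [hgerm] at h5
        exact h5)
    intro μ
    obtain ⟨r, hr⟩ := key μ
    exact ⟨r, hr.symm⟩
  · -- dimension one
    rw [← IsLocalRing.maximalIdeal_height_eq_ringKrullDim]
    have hne0 : (IsLocalRing.maximalIdeal (X.presheaf.stalk z)).height ≠ 0 := by
      rw [Ne, Ideal.height_eq_zero_iff_eq_bot]
      intro hbot
      rw [hbot] at h1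
      obtain ⟨x, hxm, hxreg, -⟩ := Groth.Agent.H15.Depth.hasSeq_succ_iff.mp h1
      rw [Ideal.mem_bot] at hxm
      subst hxm
      have h3 := hxreg (show (0 : X.presheaf.stalk z) • (1 : X.presheaf.stalk z) =
        (0 : X.presheaf.stalk z) • (0 : X.presheaf.stalk z) by simp)
      exact one_ne_zero h3
    have h1' : (IsLocalRing.maximalIdeal (X.presheaf.stalk z)).height = 1 :=
      le_antisymm hht (Order.one_le_iff_ne_zero.mpr hne0)
    rw [h1']
    rfl

end Groth.Agent.S16084
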