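import Groth.Statements.S16085
import Groth.Agent.H95.RefGroup

set_option autoImplicit false
universe u
open CategoryTheory CategoryTheory.Limits AlgebraicGeometry TopologicalSpace
open SDiv

namespace Groth.Agent.S16085


open Groth.Agent.H95.RefGroup

/-- Let X be an integral locally Noetherian normal scheme. Sending (F, G) to the reflexive hull (F
⊗_{O_X} G)^** makes the isomorphism classes of rank one coherent reflexive O_X-modules into an
abelian group: on that set there are a commutative and associative composition law, a neutral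
element and inverses, such that the product of the classes of F and G is the class of the reflexive
hull of F ⊗_{O_X} G, the neutral element is the class of O_X, and the inverse of the class of F is
the class of its dual 𝓗om_{O_X}(F, O_X). -/
theorem result (X : Scheme.{u}) [IsIntegral X] [IsLocallyNoetherian X] (hX : Pi1.IsNormalScheme X) :
    ∃ (mul : {c : PicF.Cl X // ∃ F : X.Modules, PicF.cl F = c ∧ RefHull.IsRef1 F} →
          {c : PicF.Cl X // ∃ F : X.Modules, PicF.cl F = c ∧ RefHull.IsRef1 F} →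
            {c : PicF.Cl X // ∃ F : X.Modules, PicF.cl F = c ∧ RefHull.IsRef1 F})
      (one : {c : PicF.Cl X // ∃ F : X.Modules, PicF.cl F = c ∧ RefHull.IsRef1 F})
      (inv : {c : PicF.Cl X // ∃ F : X.Modules, PicF.cl F = c ∧ RefHull.IsRef1 F} →
          {c : PicF.Cl X // ∃ F : X.Modules, PicF.cl F = c ∧ RefHull.IsRef1 F}),
      (∀ a b, mul a b = mul b a) ∧ (∀ a b c, mul (mul a b) c = mul a (mul b c)) ∧ (∀ a, mul one a = a) ∧
        (∀ a, mul (inv a) a = one) ∧
        (∀ (F G : X.Modules) (hF : RefHull.IsRef1 F) (hG : RefHull.IsRef1 G),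
          (mul ⟨PicF.cl F, F, rfl, hF⟩ ⟨PicF.cl G, G, rfl, hG⟩).1 = PicF.cl (RefHull.ddual (CohB1.tensorMod F G))) ∧
        one.1 = PicF.cl (Coh.structureModule X) ∧
        (∀ (F : X.Modules) (hF : RefHull.IsRef1 F), (inv ⟨PicF.cl F, F, rfl, hF⟩).1 = PicF.cl (RefHull.dual F)) := by
  classical
  have hrep : ∀ c : T X, PicF.cl (c.2.choose) = c.1 ∧ RefHull.IsRef1 (c.2.choose) :=
    fun c => c.2.choose_spec
  have hsec : ∀ c : T X, ∃ s : Cyc.secFibre (c.2.choose) (genericPoint ↥X), s ≠ 0 :=
    fun c => exists_sec_ne_zero hX (hrep c).2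
  choose sec hsec0 using hsec
  have hk : ∀ c : T X, kap hX c = QuotientAddGroup.mk (divFn (c.2.choose) (sec c)) :=
    fun c => kap_eq hX c (hrep c).2 (hrep c).1 (sec c) (hsec0 c)
  let mul : T X → T X → T X := fun a b =>
    ⟨PicF.cl (RefHull.ddual (CohB1.tensorMod (a.2.choose) (b.2.choose))), _, rfl,
      ref1_ddualTensor hX (hrep a).2 (hrep b).2⟩
  let one : T X := ⟨PicF.cl (Coh.structureModule X), _, rfl, ref1_structure X⟩
  let inv : T X → T X := fun a =>
    ⟨PicF.cl (RefHull.dual (a.2.choose)), _, rfl, ref1_dual hX (hrep a).2⟩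
  have hmul : ∀ a b : T X, kap hX (mul a b) = kap hX a + kap hX b := fun a b => by
    rw [hk a, hk b]
    exact kap_mul hX (hrep a).2 (hrep b).2 (mul a b) rfl _ (hsec0 a) _ (hsec0 b)
  have hone : kap hX one = 0 := kap_one hX one rfl
  have hinv : ∀ a : T X, kap hX (inv a) = - kap hX a := fun a => by
    rw [hk a]
    exact kap_inv hX (hrep a).2 (inv a) rfl _ (hsec0 a)
  have hinj := kap_injective hX
  refine ⟨mul, one, inv, ?_, ?_, ?_, ?_, ?_, rfl, ?_⟩
  · intro a b
    apply hinj
    rw [hmul, hmul, add_comm]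
  · intro a b c
    apply hinj
    rw [hmul, hmul, hmul, hmul, add_assoc]
  · intro a
    apply hinj
    rw [hmul, hone, zero_add]
  · intro a
    apply hinj
    rw [hmul, hinv, hone, neg_add_cancel]
  · intro F G hF hG
    obtain ⟨s, hs⟩ := exists_sec_ne_zero hX hF
    obtain ⟨t, ht⟩ := exists_sec_ne_zero hX hG
    have h1 : mul ⟨PicF.cl F, F, rfl, hF⟩ ⟨PicF.cl G, G, rfl, hG⟩ =
        (⟨PicF.cl (RefHull.ddual (CohB1.tensorMod F G)), _, rfl,
          ref1_ddualTensor hX hF hG⟩ : T X) := by
      apply hinj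
      rw [hmul, kap_eq hX ⟨PicF.cl F, F, rfl, hF⟩ hF rfl s hs,
        kap_eq hX ⟨PicF.cl G, G, rfl, hG⟩ hG rfl t ht]
      exact (kap_mul hX hF hG _ rfl s hs t ht).symm
    exact congrArg Subtype.val h1
  · intro F hF
    obtain ⟨s, hs⟩ := exists_sec_ne_zero hX hF
    have h1 : inv ⟨PicF.cl F, F, rfl, hF⟩ =
        (⟨PicF.cl (RefHull.dual F), _, rfl, ref1_dual hX hF⟩ : T X) := by
      apply hinj
      rw [hinv, kap_eq hX ⟨PicF.cl F, F, rfl, hF⟩ hF rfl s hs]
      exact (kap_inv hX hF _ rfl s hs).symm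
    exact congrArg Subtype.val h1

end Groth.Agent.S16085
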