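import Groth.Statements.S16087
import Groth.Agent.H95.WeilSheaf

set_option autoImplicit false
universe u
open CategoryTheory CategoryTheory.Limits AlgebraicGeometry TopologicalSpace
open SDiv

namespace Groth.Agent.S16087

open Groth.Agent.H95.WeilSheaf Groth.Agent.H95.RefGroup

/-- The class map takes values in Weil divisor classes and is surjective: suppose X is a normal scheme
that is integral and locally Noetherian, and denote its generic point by η. For a rank one coherent
reflexive O_X-module F and a nonzero rational section s ∈ F_η write ord_{x,F}(s) for the order of s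
with respect to a generator of the free rank one O_{X,x}-module F_x at a point x of codimension 1.
Then (1) the function sending a codimension-1 point x to ord_{x,F}(s) and every other point to 0 has
locally finite support, so it is a Weil divisor; and (2) every Weil divisor D on X (an
integer-valued function with locally finite support vanishing outside the codimension-1 points)
arises this way: D(x) = ord_{x,F}(s) at all codimension-1 points x for some rank one coherent
reflexive F and nonzero s ∈ F_η. -/
theorem result (X : Scheme.{u}) [IsIntegral X] [IsLocallyNoetherian X]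
    (hX : Pi1.IsNormalScheme X) :
    (∀ (F : X.Modules) (hF : RefHull.IsRef1 F) (s : Cyc.secFibre F (genericPoint ↥X)), s ≠ 0 →
        ∃ D : AlgebraicCycle X ℤ, (∀ x : ↥X, Order.coheight x ≠ 1 → D x = 0) ∧
          ∀ (x : ↥X), Order.coheight x = 1 →
            D x = Cyc.secOrdAt F (genericPoint ↥X) x ((genericPoint_spec ↥X).specializes (Set.mem_univ x)) s) ∧
      ∀ D : AlgebraicCycle X ℤ, (∀ x : ↥X, Order.coheight x ≠ 1 → D x = 0) →
        ∃ (F : X.Modules) (_ : RefHull.IsRef1 F) (s : Cyc.secFibre F (genericPoint ↥X)), s ≠ 0 ∧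
          ∀ (x : ↥X), Order.coheight x = 1 →
            D x = Cyc.secOrdAt F (genericPoint ↥X) x ((genericPoint_spec ↥X).specializes (Set.mem_univ x)) s := by
  have hη : ∀ x : X, genericPoint X ⤳ x :=
    fun x => (genericPoint_spec X).specializes (Set.mem_univ x)
  refine ⟨fun F hF s hs => ?_, fun D hD => ?_⟩
  · classical
    refine ⟨⟨fun x => if Order.coheight x = 1 then
        Cyc.secOrdAt F (genericPoint X) x (hη x) s else 0, Set.subset_univ _, fun p _ => ?_⟩,
      fun x hx => if_neg hx, fun x hx => if_pos hx⟩
    obtain ⟨t, ht, hfin⟩ := secOrd_locallyFinite hX F hF s hs p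
    refine ⟨t, ht, hfin.subset ?_⟩
    rintro x ⟨hxt, hx⟩
    refine ⟨hxt, ?_⟩
    have hx' : (if Order.coheight x = 1 then
        Cyc.secOrdAt F (genericPoint X) x (hη x) s else 0) ≠ 0 := hx
    by_cases h1 : Order.coheight x = 1
    · rw [if_pos h1] at hx'
      exact ⟨h1, hx'⟩
    · rw [if_neg h1] at hx'
      exact absurd rfl hx'
  · have hfinp : LocFin (fun x : X => (D x).toNat) :=
      locFin_of_cycle D _ (fun x h => by simp only [h]; rfl)
    have hfinn : LocFin (fun x : X => (-D x).toNat) :=
      locFin_of_cycle D _ (fun x h => by simp only [h]; rfl)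
    have hEp1 : ∀ x : X, Order.coheight x ≠ 1 → (fun x : X => (D x).toNat) x = 0 := by
      intro x hx
      simp only [hD x hx]
      rfl
    have hEn1 : ∀ x : X, Order.coheight x ≠ 1 → (fun x : X => (-D x).toNat) x = 0 := by
      intro x hx
      simp only [hD x hx]
      rfl
    obtain ⟨G₁, hG₁, s₁, hs₁, hord₁⟩ := exists_ref1_of_eff hX hfinp hEp1
    obtain ⟨G₂, hG₂, s₂, hs₂, hord₂⟩ := exists_ref1_of_eff hX hfinn hEn1
    obtain ⟨s₁', hs₁', hord₁'⟩ := exists_dual_section hX hG₁ s₁ hs₁
    obtain ⟨w, hw, hordw⟩ := Groth.Agent.S16090.result X hX (RefHull.dual G₁) G₂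
      (ref1_dual hX hG₁) hG₂ s₁' hs₁' s₂ hs₂
    refine ⟨RefHull.ddual (CohB1.tensorMod (RefHull.dual G₁) G₂),
      ref1_ddualTensor hX (ref1_dual hX hG₁) hG₂, w, hw, fun x hx => ?_⟩
    rw [hordw x hx, hord₁' x hx, hord₁ x hx, hord₂ x hx]
    have h := Int.toNat_sub_toNat_neg (D x)
    omega

end Groth.Agent.S16087
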