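import Groth.Statements.S16088
import Groth.Agent.H95.DualInv
import Groth.Agent.S8914
import Groth.Agent.H22.PullGen
import Groth.Agent.H8.TensorQCoh

set_option autoImplicit false
universe u
open CategoryTheory CategoryTheory.Limits AlgebraicGeometry TopologicalSpace
open SDiv

namespace Groth.Agent.S16088

open Groth.Agent.H95.DualInv
open Groth.Agent.H22.PullGen (isInvertible_pullback pullbackUnitIso)

/-- Let S be a scheme, D ⊆ S an effective Cartier divisor with ideal sheaf 𝓓 and i : D ⟶ S its closed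
immersion. The normal sheaf of D in S, the O_D-dual of the conormal sheaf i^*𝓓, is isomorphic to the
restriction i^*(O_S(D)) to D of O_S(D) = 𝓗om_{O_S}(𝓓, O_S), the dual of the invertible ideal 𝓓.
Existence of an isomorphism of O_D-modules only; the canonical identification is not named here. -/
theorem result (S : Scheme.{u}) (𝓓 : S.IdealSheafData)
    (hD : BlowUp.IsEffCartierIdeal 𝓓) :
    Nonempty (RefHull.dual (Omega.conormal 𝓓.subschemeι) ≅
      (Scheme.Modules.pullback 𝓓.subschemeι).obj (RefHull.dual (ClSub.idealMod 𝓓))) := by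
  have hL : PicF.IsInvertible (ClSub.idealMod 𝓓) := (Groth.Agent.S8914.result 𝓓).mpr hD
  have hconorm : Omega.conormal 𝓓.subschemeι =
      (Scheme.Modules.pullback 𝓓.subschemeι).obj (ClSub.idealMod 𝓓) := by
    unfold Omega.conormal
    rw [𝓓.ker_subschemeι]
  rw [hconorm]
  have hM := isInvertible_pullback 𝓓.subschemeι hL
  have hA := isInvertible_dual hM
  have hB := isInvertible_pullback 𝓓.subschemeι (isInvertible_dual hL)
  obtain ⟨eA⟩ := nonempty_dual_tensor_iso hM
  obtain ⟨e0⟩ := nonempty_dual_tensor_iso hL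
  obtain ⟨p⟩ := Groth.Agent.H8.nonempty_pullback_tensorMod 𝓓.subschemeι
    (RefHull.dual (ClSub.idealMod 𝓓)) (ClSub.idealMod 𝓓)
  have eB : CohB1.tensorMod
      ((Scheme.Modules.pullback 𝓓.subschemeι).obj (RefHull.dual (ClSub.idealMod 𝓓)))
      ((Scheme.Modules.pullback 𝓓.subschemeι).obj (ClSub.idealMod 𝓓)) ≅
      Coh.structureModule 𝓓.subscheme :=
    p.symm ≪≫ (Scheme.Modules.pullback 𝓓.subschemeι).mapIso e0 ≪≫
      pullbackUnitIso 𝓓.subschemeι
  exact nonempty_iso_of_tensor_iso hA hB hM eA eB

end Groth.Agent.S16088
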