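import Groth.Statements.S1609
import Groth.Agent.H8.GeomField
import Mathlib.AlgebraicGeometry.Geometrically.Irreducible

set_option autoImplicit false
universe u
open CategoryTheory CategoryTheory.Limits AlgebraicGeometry
open Variety

namespace Groth.Agent.S1609

/-- Geometric irreducibility of a k-scheme can be checked after an arbitrary extension of the base
field. -/
theorem result (k : Type u) [Field k] (X : Scheme.{u}) [X.Over (Spec (CommRingCat.of k))] (k' : Type u) [Field k'] [Algebra k k']
    [GeometricallyIrreducible (Curv2.bcSnd k X k')] : GeometricallyIrreducible (X ↘ (Spec (CommRingCat.of k))) := by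
  rw [geometricallyIrreducible_iff]
  refine Groth.Agent.H8.geometrically_of_baseChange_field (IrreducibleSpace ·) ?_ k k' _ ?_
  · intro Z W h hs hZ
    haveI : IrreducibleSpace Z := hZ
    exact Function.Surjective.irreducibleSpace h.continuous h.surjective
  · exact (geometricallyIrreducible_iff _).mp inferInstance

end Groth.Agent.S1609
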