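import Groth.Statements.S16098
import Groth.Agent.H55.FFGaps2
open Groth.Agent.H55

set_option autoImplicit false
universe u
open AdFn

namespace Groth.Agent.S16098

/-- Let `K/k` be a function field of one variable (every element having finitely many poles, so that the
diagonal `K → A_K` exists), `A_K = ∏'_v (K_v, O_v)` its adele ring over all places, and `S` a
nonempty set of places. (1) For every adele `a` some `f ∈ K` has `a_v - f ∈ O_v` at every place `v ∉
S`: `A_K` is the sum of the principal adeles and the adeles integral outside `S`. (2) An adele `b`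
with `b_v = 0` for `v ∉ S` is a principal adele plus an everywhere-integral adele exactly when some
`S`-integer `f ∈ K` has `b_v - f ∈ O_v` for every `v ∈ S`. (The published statement is for a curve
over an algebraically closed field, possibly singular; here it is stated for the places of a
function field `K/k` of one variable over any field `k` algebraically closed in `K`.) -/
theorem result (k K : Type u) [Field k] [Field K]
    [Algebra k K] (hK : FunFld.IsFunctionField k K) [AdFn.HasFinitePoles k K]
    (S : Set (FunFld.Place k K)) (hS : S.Nonempty) :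
    (∀ a : AdFn.AdeleRing k K, ∃ f : K, ∀ v : FunFld.Place k K, v ∉ S →
        AdFn.AdeleRing.proj v (a - AdFn.AdeleRing.diag f) ∈ AdFn.Ov v) ∧
    (∀ b : AdFn.AdeleRing k K, (∀ v : FunFld.Place k K, v ∉ S → AdFn.AdeleRing.proj v b = 0) →
        ((∃ f : K, ∀ v : FunFld.Place k K, AdFn.AdeleRing.proj v (b - AdFn.AdeleRing.diag f) ∈ AdFn.Ov v) ↔
          ∃ f ∈ AdFn.SInt S, ∀ v ∈ S, AdFn.AdeleRing.proj v b - AdFn.toKv v f ∈ AdFn.Ov v)) := by
  classical
  obtain ⟨P₀, hP₀⟩ := hS
  have hdense : ∀ (v : FunFld.Place k K) (y : AdFn.Kv v), ∃ x : K, y - AdFn.toKv v x ∈ AdFn.Ov v := by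
    intro v y
    have hopen : IsOpen {x : AdFn.Kv v | y - x ∈ AdFn.Ov v} :=
      (AdFn.isOpen_Ov v).preimage (continuous_const.sub continuous_id)
    obtain ⟨z, hz⟩ := (denseRange_toKv v).exists_mem_open hopen
      ⟨y, by simp only [Set.mem_setOf_eq, sub_self]; exact (AdFn.Ov v).zero_mem⟩
    exact ⟨z, hz⟩
  constructor
  · intro a
    choose x hx using fun v : FunFld.Place k K => hdense v (a.1 v)
    have hafin : {v : FunFld.Place k K | ¬ a.1 v ∈ AdFn.Ov v}.Finite := by
      have := a.2
      rw [Filter.eventually_cofinite] at this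
      exact this
    obtain ⟨T, hT⟩ : ∃ T : Finset (FunFld.Place k K), T = hafin.toFinset.erase P₀ := ⟨_, rfl⟩
    have hPT : P₀ ∉ T := by rw [hT]; exact Finset.notMem_erase _ _
    obtain ⟨f, hf1, hf2⟩ := strong_approx_le hK P₀ T hPT x (fun _ => 0)
    refine ⟨f, fun v hv => ?_⟩
    have hvP : v ≠ P₀ := fun h => hv (h ▸ hP₀)
    rw [map_sub, AdFn.AdeleRing.proj_diag, AdFn.AdeleRing.proj_apply]
    by_cases hvT : v ∈ T
    · have h1 := hf1 v hvT
      rw [WithZero.exp_zero] at h1
      have h2 : AdFn.toKv v (f - x v) ∈ AdFn.Ov v := (AdFn.toKv_mem_Ov v _).mpr h1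
      have h3 : a.1 v - AdFn.toKv v f = (a.1 v - AdFn.toKv v (x v)) - AdFn.toKv v (f - x v) := by
        rw [map_sub]; ring
      rw [h3]
      exact sub_mem (hx v) h2
    · have h1 : a.1 v ∈ AdFn.Ov v := by
        by_contra hcon
        apply hvT
        rw [hT, Finset.mem_erase, Set.Finite.mem_toFinset]
        exact ⟨hvP, hcon⟩
      have h2 : AdFn.toKv v f ∈ AdFn.Ov v := (AdFn.toKv_mem_Ov v _).mpr (hf2 v hvP hvT)
      exact sub_mem h1 h2
  · intro b hb
    constructor
    · rintro ⟨f, hf⟩
      refine ⟨f, ?_, ?_⟩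
      · intro v hv
        have h1 := hf v
        rw [map_sub, hb v hv, zero_sub, AdFn.AdeleRing.proj_diag] at h1
        have h2 := (AdFn.Ov v).neg_mem _ h1
        rw [neg_neg] at h2
        exact (AdFn.toKv_mem_Ov v f).mp h2
      · intro v _
        have h1 := hf v
        rw [map_sub, AdFn.AdeleRing.proj_diag] at h1
        exact h1
    · rintro ⟨f, hfS, hf⟩
      refine ⟨f, fun v => ?_⟩
      rw [map_sub, AdFn.AdeleRing.proj_diag]
      by_cases hv : v ∈ S
      · exact hf v hv
      · rw [hb v hv, zero_sub]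
        exact (AdFn.Ov v).neg_mem _ ((AdFn.toKv_mem_Ov v f).mpr (hfS v hv))

end Groth.Agent.S16098
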