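import Groth.Statements.S16104
import Mathlib.Tactic.Ring
import Mathlib.Tactic.Linarith
import Mathlib.RingTheory.HopkinsLevitzki
import Mathlib.RingTheory.LocalRing.Quotient
import Mathlib.LinearAlgebra.Isomorphisms
import Mathlib.RingTheory.Ideal.Quotient.Noetherian

set_option autoImplicit false
universe u v
open LunaSt

namespace Groth.Agent.S16104

open IsLocalRing

theorem length_eq_of_semilinear_bijective {R S M N : Type*} [Ring R] [Ring S] [AddCommGroup M]
    [AddCommGroup N] [Module R M] [Module S N]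
    {σ : R →+* S} [RingHomSurjective σ] (f : M →ₛₗ[σ] N) (hf : Function.Bijective f) :
    Module.length R M = Module.length S N := by
  apply WithBot.coe_injective
  rw [Module.coe_length, Module.coe_length,
    Order.krullDim_eq_of_orderIso (Submodule.orderIsoMapComapOfBijective f hf)]

/-- `A ⧸ m^(n+1)` is an Artinian `A`-module for a Noetherian local ring `A`. -/
theorem isArtinian_quot_pow (A : Type*) [CommRing A] [IsLocalRing A] [IsNoetherianRing A] (n : ℕ) :
    IsArtinian A (A ⧸ maximalIdeal A ^ (n + 1)) := by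
  have hI : maximalIdeal A ^ (n + 1) ≠ ⊤ := by
    intro h
    have hle : maximalIdeal A ^ (n + 1) ≤ maximalIdeal A := Ideal.pow_le_self (Nat.succ_ne_zero n)
    rw [h] at hle
    exact (maximalIdeal.isMaximal A).ne_top (top_le_iff.mp hle)
  have hnt : Nontrivial (A ⧸ maximalIdeal A ^ (n + 1)) := Ideal.Quotient.nontrivial_iff.mpr hI
  have hloc : IsLocalRing (A ⧸ maximalIdeal A ^ (n + 1)) :=
    IsLocalRing.of_surjective' (Ideal.Quotient.mk _) Ideal.Quotient.mk_surjective
  have hlh : IsLocalHom (Ideal.Quotient.mk (maximalIdeal A ^ (n + 1))) :=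
    IsLocalHom.of_surjective _ Ideal.Quotient.mk_surjective
  have hmax : (maximalIdeal A).map (Ideal.Quotient.mk (maximalIdeal A ^ (n + 1))) =
      maximalIdeal (A ⧸ maximalIdeal A ^ (n + 1)) := by
    ext x
    obtain ⟨x, rfl⟩ := Ideal.Quotient.mk_surjective x
    simp [sup_eq_left.mpr (le_maximalIdeal hI)]
  have hnil : IsNilpotent (maximalIdeal (A ⧸ maximalIdeal A ^ (n + 1))) := by
    refine ⟨n + 1, ?_⟩
    rw [← hmax, ← Ideal.map_pow, Ideal.map_quotient_self, Ideal.zero_eq_bot]
  have hart : IsArtinianRing (A ⧸ maximalIdeal A ^ (n + 1)) :=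
    (isArtinianRing_iff_isNilpotent_maximalIdeal _).mpr hnil
  exact isArtinian_of_surjective_algebraMap (R := A ⧸ maximalIdeal A ^ (n + 1))
    (Ideal.Quotient.mk_surjective)

section
variable {A : Type*} {B : Type*} [CommRing A] [CommRing B] [IsLocalRing A] [IsLocalRing B]
  (φ : A →+* B) [IsLocalHom φ]

theorem map_mem_pow {k : ℕ} {a : A} (ha : a ∈ maximalIdeal A ^ k) : φ a ∈ maximalIdeal B ^ k := by
  have h1 : φ a ∈ (maximalIdeal A ^ k).map φ := Ideal.mem_map_of_mem φ ha
  rw [Ideal.map_pow] at h1
  exact Ideal.pow_right_mono (map_maximalIdeal_le φ) k h1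

variable (h1 : Function.Surjective ((Ideal.Quotient.mk (maximalIdeal B ^ 2)).comp φ))
include h1

theorem step_one (z : B) (hz : z ∈ maximalIdeal B) :
    ∃ a ∈ maximalIdeal A, z - φ a ∈ maximalIdeal B ^ 2 := by
  obtain ⟨a, ha⟩ := h1 (Ideal.Quotient.mk _ z)
  have ha' : φ a - z ∈ maximalIdeal B ^ 2 := by
    rw [RingHom.comp_apply] at ha
    exact Ideal.Quotient.eq.mp ha
  have hle : maximalIdeal B ^ 2 ≤ maximalIdeal B := Ideal.pow_le_self (by norm_num)
  refine ⟨a, ?_, ?_⟩
  · by_contra hna
    have hu : IsUnit a := by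
      by_contra hnu
      exact hna ((mem_maximalIdeal a).mpr hnu)
    have hφu : IsUnit (φ a) := hu.map φ
    have hφm : φ a ∈ maximalIdeal B := by
      have := Ideal.add_mem _ (hle ha') hz
      simpa using this
    exact ((mem_maximalIdeal _).mp hφm) hφu
  · have := Ideal.neg_mem_iff (maximalIdeal B ^ 2) |>.mpr ha'
    simpa using this

theorem step_D (k : ℕ) : ∀ x ∈ maximalIdeal B ^ k,
    ∃ a ∈ maximalIdeal A ^ k, x - φ a ∈ maximalIdeal B ^ (k + 1) := by
  induction k with
  | zero =>
    intro x _
    obtain ⟨a, ha⟩ := h1 (Ideal.Quotient.mk _ x)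
    have ha' : φ a - x ∈ maximalIdeal B ^ 2 := by
      rw [RingHom.comp_apply] at ha
      exact Ideal.Quotient.eq.mp ha
    refine ⟨a, by simp, ?_⟩
    have hle : maximalIdeal B ^ 2 ≤ maximalIdeal B ^ (0 + 1) := Ideal.pow_le_pow_right (by norm_num)
    have := Ideal.neg_mem_iff (maximalIdeal B ^ 2) |>.mpr ha'
    exact hle (by simpa using this)
  | succ k ih =>
    intro x hx
    rw [pow_succ] at hx
    refine Submodule.mul_induction_on hx ?_ ?_
    · intro y hy z hz
      obtain ⟨a, ha, hya⟩ := ih y hy
      obtain ⟨a', ha', hza'⟩ := step_one φ h1 z hz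
      refine ⟨a * a', ?_, ?_⟩
      · rw [pow_succ]
        exact Ideal.mul_mem_mul ha ha'
      · have e : y * z - φ (a * a') = (y - φ a) * z + φ a * (z - φ a') := by
          rw [map_mul]; ring
        rw [e]
        refine Ideal.add_mem _ ?_ ?_
        · have : (y - φ a) * z ∈ maximalIdeal B ^ (k + 1) * maximalIdeal B :=
            Ideal.mul_mem_mul hya hz
          rwa [← pow_succ] at this
        · have : φ a * (z - φ a') ∈ maximalIdeal B ^ k * maximalIdeal B ^ 2 :=
            Ideal.mul_mem_mul (map_mem_pow φ ha) hza'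
          rwa [← pow_add] at this
    · intro x₁ x₂ ⟨a₁, ha₁, h₁⟩ ⟨a₂, ha₂, h₂⟩
      refine ⟨a₁ + a₂, Ideal.add_mem _ ha₁ ha₂, ?_⟩
      have e : x₁ + x₂ - φ (a₁ + a₂) = (x₁ - φ a₁) + (x₂ - φ a₂) := by
        rw [map_add]; ring
      rw [e]
      exact Ideal.add_mem _ h₁ h₂

theorem step_E (n : ℕ) : ∀ b : B, ∃ a : A, b - φ a ∈ maximalIdeal B ^ n := by
  induction n with
  | zero => intro b; exact ⟨0, by simp⟩
  | succ n ih =>
    intro b
    obtain ⟨a, ha⟩ := ih b
    obtain ⟨a', -, ha'⟩ := step_D φ h1 n _ ha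
    refine ⟨a + a', ?_⟩
    have e : b - φ (a + a') = b - φ a - φ a' := by rw [map_add]; ring
    rw [e]
    exact ha'

end


/-- Case of local rings. Let φ : A → B be a local homomorphism of Noetherian local rings whose composite
A → B/m_B² is surjective (the first infinitesimal neighbourhoods give a closed immersion), and
assume that A/m_A^(n+1) and B/m_B^(n+1) have the same length for every n (the associated graded
modules of the two maximal ideals have pieces of the same dimension over the common residue field).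
Then for every n the composite A → B/m_B^(n+1) is surjective with kernel m_A^(n+1): φ identifies all
infinitesimal neighbourhoods. (The published statement is for a pointed morphism of Noetherian local
algebraic stacks; its proof reduces to this case of local rings.) -/
theorem result
    (A : Type u) (B : Type v) [CommRing A] [CommRing B] [IsLocalRing A] [IsLocalRing B]
    [IsNoetherianRing A] [IsNoetherianRing B] (φ : A →+* B) [IsLocalHom φ]
    (h1 : Function.Surjective ((Ideal.Quotient.mk (IsLocalRing.maximalIdeal B ^ 2)).comp φ))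
    (hlen : ∀ n : ℕ, Module.length A (A ⧸ IsLocalRing.maximalIdeal A ^ (n + 1)) =
      Module.length B (B ⧸ IsLocalRing.maximalIdeal B ^ (n + 1))) (n : ℕ) :
    Function.Surjective ((Ideal.Quotient.mk (IsLocalRing.maximalIdeal B ^ (n + 1))).comp φ) ∧
      RingHom.ker ((Ideal.Quotient.mk (IsLocalRing.maximalIdeal B ^ (n + 1))).comp φ) =
        IsLocalRing.maximalIdeal A ^ (n + 1) := by
  set J := maximalIdeal B ^ (n + 1) with hJ
  set I := maximalIdeal A ^ (n + 1) with hI
  set σ : A →+* B ⧸ J := (Ideal.Quotient.mk J).comp φ with hσ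
  have hsurj : Function.Surjective σ := by
    intro y
    obtain ⟨b, rfl⟩ := Ideal.Quotient.mk_surjective y
    obtain ⟨a, ha⟩ := step_E φ h1 (n + 1) b
    refine ⟨a, ?_⟩
    rw [hσ, RingHom.comp_apply]
    apply Ideal.Quotient.eq.mpr
    have := (Ideal.neg_mem_iff J).mpr ha
    simpa using this
  refine ⟨hsurj, ?_⟩
  have hIK : I ≤ RingHom.ker σ := by
    intro a ha
    rw [RingHom.mem_ker, hσ, RingHom.comp_apply]
    exact Ideal.Quotient.eq_zero_iff_mem.mpr (map_mem_pow φ ha)
  refine le_antisymm ?_ hIK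
  -- the hard inclusion, by lengths
  have hart : IsArtinian A (A ⧸ I) := isArtinian_quot_pow A n
  by_contra hnot
  have hT : Submodule.map (Submodule.mkQ I) (RingHom.ker σ) ≠ ⊥ := by
    intro h
    apply hnot
    have := (LinearMap.le_ker_iff_map (f := Submodule.mkQ I) (p := RingHom.ker σ)).mpr h
    rwa [Submodule.ker_mkQ] at this
  have hlt := Submodule.length_quotient_lt (R := A) (M := A ⧸ I) _ hT
  have e1 : Module.length A ((A ⧸ I) ⧸ Submodule.map (Submodule.mkQ I) (RingHom.ker σ)) =
      Module.length A (A ⧸ RingHom.ker σ) :=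
    (Submodule.quotientQuotientEquivQuotient I (RingHom.ker σ) hIK).length_eq
  have : RingHomSurjective σ := ⟨hsurj⟩
  let f : (A ⧸ RingHom.ker σ) →ₛₗ[σ] (B ⧸ J) :=
    { toFun := RingHom.kerLift σ
      map_add' := map_add _
      map_smul' := by
        intro a x
        obtain ⟨x, rfl⟩ := Ideal.Quotient.mk_surjective x
        have e : a • (Ideal.Quotient.mk (RingHom.ker σ) x) =
            Ideal.Quotient.mk (RingHom.ker σ) (a * x) := rfl
        rw [e, RingHom.kerLift_mk, RingHom.kerLift_mk, map_mul]
        rfl }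
  have hf : Function.Bijective f := by
    constructor
    · exact RingHom.kerLift_injective σ
    · intro y
      obtain ⟨a, rfl⟩ := hsurj y
      exact ⟨Ideal.Quotient.mk _ a, RingHom.kerLift_mk σ a⟩
  have e2 : Module.length A (A ⧸ RingHom.ker σ) = Module.length (B ⧸ J) (B ⧸ J) :=
    length_eq_of_semilinear_bijective f hf
  have e3 : Module.length B (B ⧸ J) = Module.length (B ⧸ J) (B ⧸ J) :=
    Module.length_eq_of_surjective Ideal.Quotient.mk_surjective
  have e4 := hlen n
  rw [e1, e2, ← e3, ← e4] at hlt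
  exact lt_irrefl _ hlt

end Groth.Agent.S16104
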