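import Groth.Statements.S1614
import Groth.Agent.H18.TwistRestrict

set_option autoImplicit false
universe u
open CategoryTheory CategoryTheory.Limits AlgebraicGeometry
open Constr

namespace Groth.Agent.S1614

/-- Let A be a graded ring, X = Proj A, and f homogeneous of degree d > 0. For every integer n the
restriction of the twisting sheaf O(nd) to the standard open D_+(f) is isomorphic to the structure
sheaf (in particular invertible). -/
theorem result {R A : Type u} [CommRing R] [CommRing A] [Algebra R A] (𝒜 : ℕ → Submodule R A) [GradedAlgebra 𝒜]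
    (d : ℕ) (hd : 0 < d) (f : A) (hf : f ∈ 𝒜 d) (n : ℤ) :
    Nonempty ((Twist.twist 𝒜 (n * d)).restrict (Proj.basicOpen 𝒜 f).ι ≅ Coh.structureModule ↑(Proj.basicOpen 𝒜 f)) := by
  have hu : f ^ n.toNat ∈ 𝒜 (n.toNat • d) := SetLike.pow_mem_graded _ hf
  have hv : f ^ (-n).toNat ∈ 𝒜 ((-n).toNat • d) := SetLike.pow_mem_graded _ hf
  have hpq : ((n.toNat • d : ℕ) : ℤ) = ((-n).toNat • d : ℕ) + n * d := by
    have h := Int.toNat_sub_toNat_neg n
    simp only [smul_eq_mul]
    push_cast
    linear_combination (d : ℤ) * h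
  have hfx : ∀ x : (Proj.basicOpen 𝒜 f : TopologicalSpace.Opens (ProjectiveSpectrum.top 𝒜)),
      f ∉ x.1.asHomogeneousIdeal := fun x => (ProjectiveSpectrum.mem_basicOpen 𝒜 f x.1).mp x.2
  exact Groth.Agent.H18.TwistRestrict.nonempty_twist_restrict_iso 𝒜 (Proj.basicOpen 𝒜 f) hu hv hpq
    (fun x h => hfx x (x.1.isPrime.mem_of_pow_mem _ h))
    (fun x h => hfx x (x.1.isPrime.mem_of_pow_mem _ h))

end Groth.Agent.S1614
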