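import Groth.Statements.S16149
import Groth.Agent.H8.StalkExact
import Groth.Agent.H8.StructureCoh
import Groth.Agent.H8.CohKerCoker
import Groth.Agent.H8.SuppClosed

set_option autoImplicit false
universe u
open CategoryTheory CategoryTheory.Limits AlgebraicGeometry TopologicalSpace
open SDiv

namespace Groth.Agent.S16149

/-- Let X be a locally Noetherian scheme, F a coherent O_X-module (quasi-coherent of finite type) and s
: O_X → F a global section of F. Then the set of points x of X at which the stalk map (O_X)_x → F_x
of s is bijective is open. (The published statement assumes moreover X integral and normal and F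
reflexive of rank one; the openness assertion uses only that F is coherent on a locally Noetherian
scheme, and it can fail for F quasi-coherent of finite type on a scheme that is not locally
Noetherian.) -/
theorem result (X : Scheme.{u}) [IsLocallyNoetherian X] (F : X.Modules) (hF : Coh.IsCoh F)
    (s : Coh.structureModule X ⟶ F) : IsOpen (RefPow.isoLocus s) := by
  have hO : Coh.IsCoh (Coh.structureModule X) := Groth.Agent.H8.isCoh_structureModule X
  have hK := Groth.Agent.H8.isCoh_kernel hO hF s
  have hQ := Groth.Agent.H8.isCoh_cokernel hO hF s
  have h1 : IsClosed {x : X | ¬ Subsingleton ↑((kernel s).presheaf.stalk x)} :=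
    @Groth.Agent.H8.isClosed_support_of_isFiniteType X (kernel s) hK.2
  have h2 : IsClosed {x : X | ¬ Subsingleton ↑((cokernel s).presheaf.stalk x)} :=
    @Groth.Agent.H8.isClosed_support_of_isFiniteType X (cokernel s) hQ.2
  have h3 : RefPow.isoLocus s = {x : X | ¬ Subsingleton ↑((kernel s).presheaf.stalk x)}ᶜ ∩
      {x : X | ¬ Subsingleton ↑((cokernel s).presheaf.stalk x)}ᶜ := by
    ext x
    simp only [RefPow.mem_isoLocus, Set.mem_inter_iff, Set.mem_compl_iff, Set.mem_ofPred_eq,
      not_not]
    exact Groth.Agent.H8.stalkMap_bijective_iff s x
  rw [h3]
  exact h1.isOpen_compl.inter h2.isOpen_compl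

end Groth.Agent.S16149
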