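import Groth.Statements.S1615
import Groth.Agent.H18.ProjBasic

set_option autoImplicit false
universe u
open CategoryTheory CategoryTheory.Limits AlgebraicGeometry
open Constr

namespace Groth.Agent.S1615

/-- For a graded ring A, quasi-compactness of Proj A is equivalent to the existence of finitely many
homogeneous elements of positive degree generating an ideal whose radical contains the irrelevant
ideal A_+. -/
theorem result {R A : Type u} [CommRing R] [CommRing A] [Algebra R A] (𝒜 : ℕ → Submodule R A) [GradedAlgebra 𝒜] :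
    CompactSpace ↥(Proj 𝒜) ↔ ∃ s : Finset A, (∀ f ∈ s, ∃ d : ℕ, 0 < d ∧ f ∈ 𝒜 d) ∧
      (HomogeneousIdeal.irrelevant 𝒜).toIdeal ≤ (Ideal.span (s : Set A)).radical := by
  classical
  constructor
  · intro hc
    let ι := {f : A // ∃ d : ℕ, 0 < d ∧ f ∈ 𝒜 d}
    have hcover : (Set.univ : Set (Proj 𝒜)) ⊆ ⋃ f : ι, (Proj.basicOpen 𝒜 f.1 : Set (Proj 𝒜)) := by
      intro x _
      obtain ⟨d, hd, f, hf, hfx⟩ := Groth.Agent.H18.exists_homogeneous_pos_not_mem 𝒜 x
      exact Set.mem_iUnion.mpr ⟨⟨f, d, hd, hf⟩, hfx⟩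
    obtain ⟨t, ht⟩ := isCompact_univ.elim_finite_subcover
      (fun f : ι => (Proj.basicOpen 𝒜 f.1 : Set (Proj 𝒜)))
      (fun f => (Proj.basicOpen 𝒜 f.1).isOpen) hcover
    refine ⟨t.image Subtype.val, ?_, ?_⟩
    · intro f hf
      obtain ⟨g, _, rfl⟩ := Finset.mem_image.mp hf
      exact g.2
    · intro a ha
      rw [Ideal.radical_eq_sInf, Ideal.mem_sInf]
      rintro p ⟨hsp, hp⟩
      have hcore : (p.homogeneousCore 𝒜).toIdeal.IsPrime := hp.homogeneousCore
      have hle : (p.homogeneousCore 𝒜).toIdeal ≤ p := Ideal.toIdeal_homogeneousCore_le 𝒜 p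
      apply hle
      by_contra hcon
      have hrel : ¬ HomogeneousIdeal.irrelevant 𝒜 ≤ p.homogeneousCore 𝒜 := fun h => hcon (h ha)
      let x : Proj 𝒜 := ⟨p.homogeneousCore 𝒜, hcore, hrel⟩
      obtain ⟨g, hgt, hgx⟩ := Set.mem_iUnion₂.mp (ht (Set.mem_univ x))
      apply hgx
      show g.1 ∈ p.homogeneousCore 𝒜
      obtain ⟨d, _, hgd⟩ := g.2
      refine Ideal.mem_homogeneousCore_of_homogeneous_of_mem ⟨d, hgd⟩ (hsp ?_)
      apply Ideal.subset_span
      exact Finset.mem_coe.mpr (Finset.mem_image.mpr ⟨g, hgt, rfl⟩)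
  · rintro ⟨s, hs, hrad⟩
    have hcover : (Set.univ : Set (Proj 𝒜)) ⊆ ⋃ f ∈ s, (Proj.basicOpen 𝒜 f : Set (Proj 𝒜)) := by
      intro x _
      by_contra hcon
      apply x.not_irrelevant_le
      show (HomogeneousIdeal.irrelevant 𝒜).toIdeal ≤ x.asHomogeneousIdeal.toIdeal
      refine hrad.trans ?_
      rw [x.isPrime.radical_le_iff, Ideal.span_le]
      intro f hf
      by_contra hfx
      exact hcon (Set.mem_iUnion₂.mpr ⟨f, hf, hfx⟩)
    have heq : (⋃ f ∈ s, (Proj.basicOpen 𝒜 f : Set (Proj 𝒜))) = Set.univ :=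
      Set.eq_univ_of_univ_subset hcover
    refine ⟨?_⟩
    rw [← heq]
    refine s.isCompact_biUnion fun f hf => ?_
    obtain ⟨d, hd, hfd⟩ := hs f hf
    exact (Proj.isAffineOpen_basicOpen 𝒜 f hfd hd).isCompact

end Groth.Agent.S1615
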