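import Groth.Statements.S16152
import Mathlib

set_option autoImplicit false
universe u
open WGauss

namespace Groth.Agent.S16152

open MvPolynomial in
private lemma exists_split {n : ℕ} (γ : Fin (n + 1) →₀ ℕ) (m : ℕ) (hm : m ≤ γ.degree) :
    ∃ α β : Fin (n + 1) →₀ ℕ, α + β = γ ∧ α.degree = m := by
  induction m with
  | zero => exact ⟨0, γ, zero_add _, map_zero _⟩
  | succ m ih =>
    obtain ⟨α, β, hαβ, hα⟩ := ih (Nat.le_of_succ_le hm)
    have hβ : β ≠ 0 := by
      rintro rfl
      rw [add_zero] at hαβ
      rw [hαβ] at hα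
      omega
    obtain ⟨l, hl⟩ : ∃ l, β l ≠ 0 := by
      by_contra h
      push Not at h
      exact hβ (Finsupp.ext h)
    refine ⟨α + Finsupp.single l 1, β - Finsupp.single l 1, ?_, ?_⟩
    · rw [add_assoc, add_tsub_cancel_of_le, hαβ]
      exact Finsupp.single_le_iff.mpr (Nat.one_le_iff_ne_zero.mpr hl)
    · rw [map_add, hα, Finsupp.degree_single]

open MvPolynomial in
private lemma G_formula {k : Type u} [Field k] {n : ℕ} (a b : ℕ) (α β : Fin (n + 1) →₀ ℕ)
    (l : Fin (n + 1)) :
    (b : k) • (monomial β (1 : k) * pderiv l (monomial α (1 : k))) -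
        (a : k) • (monomial α (1 : k) * pderiv l (monomial β (1 : k)))
      = monomial (α + β - Finsupp.single l 1) ((b : k) * (α l : k) - (a : k) * (β l : k)) := by
  have h1 : ∀ (α β : Fin (n + 1) →₀ ℕ) (c : k),
      monomial (β + (α - Finsupp.single l 1)) (c * (α l : k)) =
        monomial (α + β - Finsupp.single l 1) (c * (α l : k)) := by
    intro α β c
    by_cases hα : α l = 0
    · simp [hα]
    · have hs : β + (α - Finsupp.single l 1) = α + β - Finsupp.single l 1 := by
        ext m
        simp only [Finsupp.coe_add, Finsupp.coe_tsub, Pi.add_apply, Pi.sub_apply,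
          Finsupp.single_apply]
        split_ifs with h
        · subst h; omega
        · omega
      rw [hs]
  rw [pderiv_monomial, pderiv_monomial, monomial_mul, monomial_mul, smul_monomial, smul_monomial]
  simp only [one_mul, smul_eq_mul]
  rw [h1 α β, h1 β α, add_comm β α]
  exact (map_sub (monomial (α + β - Finsupp.single l 1)) _ _).symm

open MvPolynomial in
/-- Over a field k of characteristic zero, for e, a, b positive integers with a < b, the weighted
Gaussian map of the line bundle O(e) on projective n-space is surjective. Concretely, identifying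
global sections of O(m) with homogeneous polynomials of degree m in X_0, ..., X_n and global
sections of the twisted cotangent sheaf Omega^1(t) with the (n+1)-tuples of homogeneous polynomials
of degree t - 1 killed by the Euler map (f_i) to sum_i X_i f_i, every such tuple with t = (a+b)e is
a k-linear combination of the tuples (b tau (d sigma / d X_i) - a sigma (d tau / d X_i))_i with
sigma homogeneous of degree ae and tau homogeneous of degree be. (The source works over the complex
numbers; the statement is one of linear algebra and is given here over any field of characteristic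
zero.) -/
theorem result
    (k : Type u) [Field k] [CharZero k] (n e a b : ℕ) (he : 0 < e) (ha : 0 < a) (hab : a < b)
    (f : Fin (n + 1) → MvPolynomial (Fin (n + 1)) k)
    (hf : ∀ i, (f i).IsHomogeneous ((a + b) * e - 1))
    (hEuler : ∑ i, X i * f i = 0) :
    f ∈ Submodule.span k
      {g : Fin (n + 1) → MvPolynomial (Fin (n + 1)) k |
        ∃ σ τ : MvPolynomial (Fin (n + 1)) k, σ.IsHomogeneous (a * e) ∧ τ.IsHomogeneous (b * e) ∧
          g = fun i => (b : k) • (τ * pderiv i σ) - (a : k) • (σ * pderiv i τ)} := by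
  classical
  have hae : 0 < a * e := Nat.mul_pos ha he
  have hbe : 0 < b * e := Nat.mul_pos (lt_trans ha hab) he
  obtain ⟨A', hA'⟩ : ∃ A', a * e = A' + 1 := ⟨a * e - 1, by omega⟩
  obtain ⟨B', hB'⟩ : ∃ B', b * e = B' + 1 := ⟨b * e - 1, by omega⟩
  have hN1 : (a + b) * e - 1 = A' + B' + 1 := by rw [add_mul]; omega
  rw [hN1] at hf
  have hab0 : ((a : k) + (b : k)) ≠ 0 := by
    have : ((a + b : ℕ) : k) ≠ 0 := Nat.cast_ne_zero.mpr (by omega)
    simpa [Nat.cast_add] using this
  rw [← Subspace.forall_mem_dualAnnihilator_apply_eq_zero_iff]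
  intro φ hφ
  have hφS : ∀ g : Fin (n + 1) → MvPolynomial (Fin (n + 1)) k,
      (∃ σ τ : MvPolynomial (Fin (n + 1)) k, σ.IsHomogeneous (a * e) ∧ τ.IsHomogeneous (b * e) ∧
        g = fun i => (b : k) • (τ * pderiv i σ) - (a : k) • (σ * pderiv i τ)) → φ g = 0 :=
    fun g hg => (Submodule.mem_dualAnnihilator φ).mp hφ g (Submodule.subset_span hg)
  -- values of φ on the monomial tuples
  have hφtuple : ∀ (δ : Fin (n + 1) → (Fin (n + 1) →₀ ℕ)) (c : Fin (n + 1) → k),
      φ (fun l => monomial (δ l) (c l)) =
        ∑ l, c l * φ (Pi.single l (monomial (δ l) (1 : k))) := by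
    intro δ c
    have : (fun l => monomial (δ l) (c l)) = ∑ l, c l •
        (Pi.single l (monomial (δ l) (1 : k)) : Fin (n + 1) → MvPolynomial (Fin (n + 1)) k) := by
      funext m
      simp only [Finset.sum_apply, Pi.smul_apply, Pi.single_apply, smul_ite, smul_zero,
        Finset.sum_ite_eq, Finset.mem_univ, if_true, smul_monomial,
        smul_eq_mul, mul_one]
    rw [this, map_sum]
    simp only [map_smul, smul_eq_mul]
  -- the key symmetry
  have hK : ∀ (α₀ β₀ : Fin (n + 1) →₀ ℕ) (i j : Fin (n + 1)), α₀.degree = A' → β₀.degree = B' →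
      φ (Pi.single i (monomial (α₀ + β₀ + Finsupp.single j 1) (1 : k))) =
        φ (Pi.single j (monomial (α₀ + β₀ + Finsupp.single i 1) (1 : k))) := by
    intro α₀ β₀ i j hα₀ hβ₀
    have hg : ∀ (α β : Fin (n + 1) →₀ ℕ), α.degree = a * e → β.degree = b * e →
        ∑ l, ((b : k) * (α l : k) - (a : k) * (β l : k)) *
          φ (Pi.single l (monomial (α + β - Finsupp.single l 1) (1 : k))) = 0 := by
      intro α β hα hβ
      refine (hφtuple (fun l => α + β - Finsupp.single l 1)
        (fun l => (b : k) * (α l : k) - (a : k) * (β l : k))).symm.trans ?_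
      apply hφS
      refine ⟨monomial α 1, monomial β 1, isHomogeneous_monomial _ hα, isHomogeneous_monomial _ hβ, ?_⟩
      funext l
      exact (G_formula a b α β l).symm
    have e1 := hg (α₀ + Finsupp.single j 1) (β₀ + Finsupp.single i 1)
      (by rw [map_add, hα₀, Finsupp.degree_single, hA'])
      (by rw [map_add, hβ₀, Finsupp.degree_single, hB'])
    have e2 := hg (α₀ + Finsupp.single i 1) (β₀ + Finsupp.single j 1)
      (by rw [map_add, hα₀, Finsupp.degree_single, hA'])
      (by rw [map_add, hβ₀, Finsupp.degree_single, hB'])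
    have hγ : α₀ + Finsupp.single i 1 + (β₀ + Finsupp.single j 1) =
        α₀ + Finsupp.single j 1 + (β₀ + Finsupp.single i 1) := by abel
    rw [hγ] at e2
    obtain ⟨γ, hγdef⟩ : ∃ γ, γ = α₀ + Finsupp.single j 1 + (β₀ + Finsupp.single i 1) := ⟨_, rfl⟩
    rw [← hγdef] at e1 e2
    have e3 : ∑ l : Fin (n + 1), ((a : k) + (b : k)) *
          ((if j = l then φ (Pi.single l (monomial (γ - Finsupp.single l 1) (1 : k))) else 0) -
           (if i = l then φ (Pi.single l (monomial (γ - Finsupp.single l 1) (1 : k))) else 0)) = 0 := by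
      have e12 := congrArg₂ (fun x y : k => x - y) e1 e2
      simp only [sub_zero] at e12
      rw [← Finset.sum_sub_distrib] at e12
      refine Eq.trans (Finset.sum_congr rfl (fun l _ => ?_)) e12
      simp only [Finsupp.coe_add, Pi.add_apply, Finsupp.single_apply, Nat.cast_add, Nat.cast_ite,
        Nat.cast_one, Nat.cast_zero]
      split_ifs <;> ring
    rw [← Finset.mul_sum, Finset.sum_sub_distrib, Finset.sum_ite_eq, Finset.sum_ite_eq] at e3
    simp only [Finset.mem_univ, if_true] at e3
    have e5 := sub_eq_zero.mp ((mul_eq_zero.mp e3).resolve_left hab0)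
    have hγj : γ - Finsupp.single j 1 = α₀ + β₀ + Finsupp.single i 1 := by
      rw [hγdef, show α₀ + Finsupp.single j 1 + (β₀ + Finsupp.single i 1) =
        (α₀ + β₀ + Finsupp.single i 1) + Finsupp.single j 1 by abel, add_tsub_cancel_right]
    have hγi : γ - Finsupp.single i 1 = α₀ + β₀ + Finsupp.single j 1 := by
      rw [hγdef, show α₀ + Finsupp.single j 1 + (β₀ + Finsupp.single i 1) =
        (α₀ + β₀ + Finsupp.single j 1) + Finsupp.single i 1 by abel, add_tsub_cancel_right]
    rw [hγj, hγi] at e5
    exact e5.symm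
  -- a potential U
  have hUex : ∃ U : (Fin (n + 1) →₀ ℕ) → k, ∀ (δ : Fin (n + 1) →₀ ℕ) (i : Fin (n + 1)),
      δ.degree = A' + B' + 1 →
        φ (Pi.single i (monomial δ (1 : k))) = U (δ + Finsupp.single i 1) := by
    have hm : ∀ γ : Fin (n + 1) →₀ ℕ, ∃ l : Fin (n + 1), γ ≠ 0 → γ l ≠ 0 := by
      intro γ
      by_cases h : γ = 0
      · exact ⟨0, fun h' => absurd h h'⟩
      · obtain ⟨l, hl⟩ : ∃ l, γ l ≠ 0 := by
          by_contra h'; push Not at h'; exact h (Finsupp.ext h')
        exact ⟨l, fun _ => hl⟩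
    choose m hm using hm
    refine ⟨fun γ => φ (Pi.single (m γ) (monomial (γ - Finsupp.single (m γ) 1) (1 : k))), ?_⟩
    intro δ i hδ
    obtain ⟨γ, hγ⟩ : ∃ γ, γ = δ + Finsupp.single i 1 := ⟨_, rfl⟩
    rw [← hγ]
    show φ (Pi.single i (monomial δ (1 : k))) =
      φ (Pi.single (m γ) (monomial (γ - Finsupp.single (m γ) 1) (1 : k)))
    have hγ0 : γ ≠ 0 := by
      intro h
      have := congrArg (fun x => x i) h
      simp [hγ] at this
    have hj := hm γ hγ0
    by_cases hji : m γ = i
    · rw [hji, hγ, add_tsub_cancel_right]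
    · have hδj : δ (m γ) ≠ 0 := by
        have hγapp : ∀ t, γ t = δ t + (Finsupp.single i 1 : Fin (n + 1) →₀ ℕ) t := fun t => by
          rw [hγ]; rfl
        have : γ (m γ) = δ (m γ) := by
          rw [hγapp (m γ), Finsupp.single_apply, if_neg (fun h => hji h.symm), add_zero]
        rwa [this] at hj
      obtain ⟨δ', hδ'⟩ : ∃ δ', δ = δ' + Finsupp.single (m γ) 1 :=
        ⟨δ - Finsupp.single (m γ) 1, (tsub_add_cancel_of_le (Finsupp.single_le_iff.mpr (Nat.one_le_iff_ne_zero.mpr hδj))).symm⟩
      have hdeg' : δ'.degree = A' + B' := by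
        have := hδ
        rw [hδ', map_add, Finsupp.degree_single] at this
        omega
      obtain ⟨α₀, β₀, hαβ, hα₀⟩ := exists_split δ' A' (by omega)
      have hβ₀ : β₀.degree = B' := by
        have := congrArg Finsupp.degree hαβ
        rw [map_add, hα₀, hdeg'] at this
        omega
      have := hK α₀ β₀ i (m γ) hα₀ hβ₀
      rw [hαβ, ← hδ'] at this
      have hγ2 : γ = δ' + Finsupp.single i 1 + Finsupp.single (m γ) 1 :=
        calc γ = δ + Finsupp.single i 1 := hγ
          _ = δ' + Finsupp.single i 1 + Finsupp.single (m γ) 1 := by rw [hδ']; abel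
      have hsub : ∀ j : Fin (n + 1), γ = δ' + Finsupp.single i 1 + Finsupp.single j 1 →
          γ - Finsupp.single j 1 = δ' + Finsupp.single i 1 := by
        intro j h; rw [h, add_tsub_cancel_right]
      rw [this, hsub (m γ) hγ2]
  obtain ⟨U, hU⟩ := hUex
  let Ψ : MvPolynomial (Fin (n + 1)) k →ₗ[k] k := (basisMonomials (Fin (n + 1)) k).constr k U
  have hΨ : ∀ (γ : Fin (n + 1) →₀ ℕ) (c : k), Ψ (monomial γ c) = c * U γ := by
    intro γ c
    have : monomial γ c = c • (basisMonomials (Fin (n + 1)) k γ) := by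
      rw [coe_basisMonomials, smul_monomial, smul_eq_mul, mul_one]
    rw [this, map_smul, Module.Basis.constr_basis, smul_eq_mul]
  have hmain : ∀ (i : Fin (n + 1)) (p : MvPolynomial (Fin (n + 1)) k),
      p.IsHomogeneous (A' + B' + 1) → φ (Pi.single i p) = Ψ (X i * p) := by
    intro i p hp
    have hgen : ∀ (s : Finset (Fin (n + 1) →₀ ℕ)) (c : (Fin (n + 1) →₀ ℕ) → k),
        (∀ δ ∈ s, δ.degree = A' + B' + 1) →
        φ (Pi.single i (∑ δ ∈ s, monomial δ (c δ))) = Ψ (X i * ∑ δ ∈ s, monomial δ (c δ)) := by
      intro s c hs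
      have h1 : (Pi.single i (∑ δ ∈ s, monomial δ (c δ)) :
          Fin (n + 1) → MvPolynomial (Fin (n + 1)) k) =
          ∑ δ ∈ s, c δ • Pi.single i (monomial δ (1 : k)) := by
        funext t
        simp only [Finset.sum_apply, Pi.smul_apply, Pi.single_apply]
        by_cases ht : t = i
        · simp only [ht, ↓reduceIte]
          refine Finset.sum_congr rfl (fun δ _ => ?_)
          rw [smul_monomial, smul_eq_mul, mul_one]
        · simp [ht]
      have hX : (X i : MvPolynomial (Fin (n + 1)) k) = monomial (Finsupp.single i 1) 1 := rfl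
      rw [h1, map_sum, Finset.mul_sum, map_sum]
      refine Finset.sum_congr rfl (fun δ hδ => ?_)
      rw [map_smul, smul_eq_mul, hX, monomial_mul, one_mul, hΨ, hU δ i (hs δ hδ), add_comm]
    have := hgen p.support (fun δ => coeff δ p) (fun δ hδ => by
      by_contra h
      exact (mem_support_iff.mp hδ) (hp.coeff_eq_zero h))
    simp only [support_sum_monomial_coeff] at this
    exact this
  have hfsum : f = ∑ i, (Pi.single i (f i) : Fin (n + 1) → MvPolynomial (Fin (n + 1)) k) :=
    (Finset.univ_sum_single f).symm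
  rw [hfsum, map_sum, Finset.sum_congr rfl (fun i _ => hmain i (f i) (hf i)), ← map_sum, hEuler,
    map_zero]

end Groth.Agent.S16152
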