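import Groth.Statements.S16155
import Mathlib.Tactic.Ring
import Mathlib.Tactic.Linarith
import Mathlib.Tactic.Positivity

set_option autoImplicit false
universe u
open MukaiVec

namespace Groth.Agent.S16155

/-- Let N be an abelian group with a symmetric integer-valued bilinear form (an intersection form) and
H₁ an element such that every x with x·H₁ = 0 satisfies x·x ≤ 0 (the Hodge index inequality for an
ample class). Write Mukai vectors as triples v = (r, ξ, a), u = (p, η, q) with middle entry in N and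
pairing ⟨v, u⟩ = ξ·η − rq − ap. Suppose r > 0, p > 0, u is isotropic (η·η = 2pq), the H₁-slopes of u
and v agree ((rη − pξ)·H₁ = 0) and ⟨v, v⟩ = ξ·ξ − 2ra > 4r. Then ⟨v, u⟩ > 2p; in particular ⟨v, u⟩
is neither 1 nor 2. -/
theorem result
    (N : Type u) [AddCommGroup N] (B : LinearMap.BilinForm ℤ N) (hB : ∀ x y : N, B x y = B y x)
    (H₁ : N) (hodge : ∀ x : N, B x H₁ = 0 → B x x ≤ 0)
    (r a p q : ℤ) (ξ η : N) (hr : 0 < r) (hp : 0 < p)
    (hiso : B η η = 2 * p * q) (hslope : B (r • η - p • ξ) H₁ = 0)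
    (hvv : 4 * r < B ξ ξ - 2 * r * a) :
    2 * p < B ξ η - r * q - a * p := by
  have h1 := hodge (r • η - p • ξ) hslope
  have h2 : B (r • η - p • ξ) (r • η - p • ξ) =
      r * r * B η η - 2 * r * p * B ξ η + p * p * B ξ ξ := by
    simp only [map_sub, map_smul, LinearMap.sub_apply, LinearMap.smul_apply, smul_eq_mul, hB η ξ]
    ring
  rw [h2, hiso] at h1
  -- 2 r^2 p q - 2 r p (ξ·η) + p^2 (ξ·ξ) ≤ 0
  have h3 : 2 * r * r * q - 2 * r * B ξ η + p * B ξ ξ ≤ 0 := by
    by_contra hcon
    rw [not_le] at hcon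
    have := mul_pos hp hcon
    nlinarith
  -- 2r(ξ·η - r q - a p) ≥ p (ξ·ξ - 2 r a) > 4 r p
  have h4 : 4 * r * p < 2 * r * (B ξ η - r * q - a * p) := by
    have := mul_lt_mul_of_pos_left hvv hp
    nlinarith
  by_contra hcon
  rw [not_lt] at hcon
  have := mul_le_mul_of_nonneg_left hcon (by positivity : (0:ℤ) ≤ 2 * r)
  nlinarith

end Groth.Agent.S16155
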