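import Groth.Statements.S16156
import Mathlib

set_option autoImplicit false
universe u
open MukaiVec

namespace Groth.Agent.S16156

section aux

lemma pq_nonpos (n p q A : ℤ) (hn : 0 < n) (hΔ : 4 * n * p * q ≤ A) (hA : A < 4 * n) :
    p * q ≤ 0 := by
  by_contra h
  have h6 : 1 ≤ p * q := by omega
  nlinarith [mul_nonneg hn.le (sub_nonneg.mpr h6)]

lemma rq_ge (r q : ℤ) (hr : 2 ≤ r) (hq : 1 ≤ q) : 2 ≤ r * q := by
  nlinarith [mul_nonneg (sub_nonneg.mpr hr) (sub_nonneg.mpr hq)]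

lemma rq_nonpos (r q : ℤ) (hr : 2 ≤ r) (hq : q ≤ 0) : r * q ≤ 0 := by
  nlinarith [mul_nonneg (by linarith : (0:ℤ) ≤ r) (by linarith : (0:ℤ) ≤ -q)]

lemma cp_ge (c p : ℤ) (hc : 1 ≤ c) (hp : 1 ≤ p) : 1 ≤ c * p ∧ c + p ≤ c * p + 1 := by
  constructor <;> nlinarith [mul_nonneg (sub_nonneg.mpr hc) (sub_nonneg.mpr hp)]

lemma pq_pos (p q : ℤ) (hp : 1 ≤ p) (hq : 1 ≤ q) : 1 ≤ p * q := by
  nlinarith [mul_nonneg (sub_nonneg.mpr hp) (sub_nonneg.mpr hq)]

lemma end0 (r c p q : ℤ) (hr : 2 ≤ r) (hc : 1 ≤ c) (hp : 0 ≤ p) (hpq : p * q ≤ 0)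
    (h : c * p = r * q) : p = 0 ∧ q = 0 := by
  have hp0 : p = 0 := by
    by_contra hne
    have hp1 : 1 ≤ p := by omega
    have h1 := (cp_ge c p hc hp1).1
    have hq1 : 1 ≤ q := by
      by_contra hq
      have hq' : q ≤ 0 := by omega
      have := rq_nonpos r q hr hq'
      linarith
    have := pq_pos p q hp1 hq1
    linarith
  subst hp0
  have h2 : r * q = 0 := by rw [← h]; ring
  rcases mul_eq_zero.mp h2 with h3 | h3
  · omega
  · exact ⟨rfl, h3⟩

lemma end1 (r c p q : ℤ) (hr : 2 ≤ r) (hc : 1 ≤ c) (hp : 0 ≤ p) (hpq : p * q ≤ 0)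
    (h : c * p - r * q = 1) : c = 1 ∧ p = 1 ∧ q = 0 := by
  have hp1 : 1 ≤ p := by
    by_contra hne
    have hp0 : p = 0 := by omega
    subst hp0
    have h2 : r * q = -1 := by linarith
    rcases le_or_gt 1 q with hq | hq
    · have := rq_ge r q hr hq
      linarith
    · rcases le_or_gt q (-1) with hq2 | hq2
      · have : r * q ≤ -2 := by
          nlinarith [mul_nonneg (sub_nonneg.mpr hr) (by linarith : (0:ℤ) ≤ -q - 1)]
        linarith
      · have hq0 : q = 0 := by omega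
        subst hq0
        linarith
  have hq0' : q ≤ 0 := by
    by_contra hq
    have hq1 : 1 ≤ q := by omega
    have := pq_pos p q hp1 hq1
    linarith
  have h3 := rq_nonpos r q hr hq0'
  obtain ⟨h4, h5⟩ := cp_ge c p hc hp1
  have h6 : r * q = 0 := by linarith
  have hq : q = 0 := by
    rcases mul_eq_zero.mp h6 with h7 | h7
    · omega
    · exact h7
  have h8 : c * p = 1 := by linarith
  refine ⟨by omega, by omega, hq⟩

lemma endm1 (r c p q : ℤ) (hr : 2 ≤ r) (hc : 1 ≤ c) (hp : 0 ≤ p) (hpq : p * q ≤ 0)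
    (h : c * p - r * q = -1) : False := by
  have h1 : 0 ≤ c * p := mul_nonneg (by linarith) hp
  have hq1 : 1 ≤ q := by
    by_contra hq
    have hq' : q ≤ 0 := by omega
    have := rq_nonpos r q hr hq'
    linarith
  have hp0 : p = 0 := by
    by_contra hne
    have hp1 : 1 ≤ p := by omega
    have := pq_pos p q hp1 hq1
    linarith
  subst hp0
  have := rq_ge r q hr hq1
  linarith

lemma endneg (r c p q s : ℤ) (hr : 2 ≤ r) (hp : 0 ≤ p) (hpq : p * q ≤ 0) (hq1 : 1 ≤ q)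
    (h : c * p - r * q = s) (hs : -1 ≤ s) : False := by
  have hp0 : p = 0 := by
    by_contra hne
    have hp1 : 1 ≤ p := by omega
    have := pq_pos p q hp1 hq1
    linarith
  subst hp0
  have := rq_ge r q hr hq1
  linarith

lemma core (n r d c p q a t : ℤ) (hn : 0 < n) (hr : 2 ≤ r) (hd : 0 < d) (hc : 1 ≤ c)
    (hp : 0 ≤ p) (hΔ : 4 * n * p * q ≤ a ^ 2) (ht : t = d * a - r * q + c * p)
    (ht4 : t = 1 ∨ t = 2 ∨ t = -1 ∨ t = -2)
    (hexc : ¬ (d = 1 ∧ c = 1 ∧ a = 1 ∧ 2 * p * q = 0))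
    (hr2 : r = 2 → ¬ (p = 0 ∧ a = 0))
    (hF : (0 ≤ 2 * n * d * p - r * a ∧ -c * a - 2 * n * d * q < 0) ∨
      (2 * n * d * p - r * a < 0 ∧ 0 ≤ -c * a - 2 * n * d * q)) : False := by
  have hrc : 2 ≤ r * c := rq_ge r c hr hc
  have hnd : 0 < n * d := mul_pos hn hd
  have hd1 : 1 ≤ d := hd
  have hPQ : (2 * n * d * p - r * a) * (-c * a - 2 * n * d * q) ≤ 0 := by
    rcases hF with ⟨h1, h2⟩ | ⟨h1, h2⟩
    · exact mul_nonpos_of_nonneg_of_nonpos h1 h2.le
    · exact mul_nonpos_of_nonpos_of_nonneg h1.le h2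
  have hid : (2 * n * d * p - r * a) * (-c * a - 2 * n * d * q) =
      a * ((n * d ^ 2 + r * c) * a - 2 * n * d * t) +
        n * d ^ 2 * (a ^ 2 - 4 * n * p * q) := by
    rw [ht]; ring
  have h5 : 0 ≤ n * d ^ 2 * (a ^ 2 - 4 * n * p * q) :=
    mul_nonneg (by positivity) (by linarith)
  have key : a * ((n * d ^ 2 + r * c) * a - 2 * n * d * t) ≤ 0 := by linarith
  rcases lt_trichotomy a 0 with ha | ha | ha
  · -- a < 0
    obtain ⟨b, rfl⟩ : ∃ b, a = -b := ⟨-a, by ring⟩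
    have hb : 1 ≤ b := by omega
    have hrb : 2 ≤ r * b := rq_ge r b hr hb
    have hY : (n * d ^ 2 + r * c) * b + 2 * n * d * t ≤ 0 := by
      by_contra h
      have h6 := mul_pos (by linarith : (0:ℤ) < b) (not_le.mp h)
      nlinarith [key, h6]
    have hrcb : 2 ≤ r * c * b := by
      nlinarith [mul_nonneg (by linarith : (0:ℤ) ≤ r * c - 2) (by linarith : (0:ℤ) ≤ b - 1)]
    have h3 : n * d * (d * b + 2 * t) < 0 := by
      have h7 : n * d * (d * b + 2 * t) =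
          (n * d ^ 2 + r * c) * b + 2 * n * d * t - r * c * b := by ring
      linarith
    have h4 : d * b + 2 * t < 0 := by
      by_contra h
      have := mul_nonneg hnd.le (not_lt.mp h)
      linarith
    have hdb : 1 ≤ d * b ∧ d + b ≤ d * b + 1 := cp_ge d b hd1 hb
    have hPpos : 0 < 2 * n * d * p - r * (-b) := by
      have h8 : 0 ≤ n * d * p := mul_nonneg hnd.le hp
      nlinarith
    have hQ : -c * (-b) - 2 * n * d * q < 0 := by
      rcases hF with ⟨_, h2⟩ | ⟨h1, _⟩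
      · exact h2
      · linarith
    have hcb : 1 ≤ c * b := (cp_ge c b hc hb).1
    have hq1 : 1 ≤ q := by
      by_contra hq
      have hq' : q ≤ 0 := by omega
      have h9 : 0 ≤ n * d * (-q) := mul_nonneg hnd.le (by linarith)
      nlinarith
    have hcases : (t = -1 ∧ d = 1 ∧ b = 1) ∨ (t = -2 ∧ d = 1 ∧ b = 1) ∨
        (t = -2 ∧ d = 1 ∧ b = 2) ∨ (t = -2 ∧ d = 1 ∧ b = 3) ∨
        (t = -2 ∧ d = 2 ∧ b = 1) ∨ (t = -2 ∧ d = 3 ∧ b = 1) := by
      obtain ⟨h10, h11⟩ := hdb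
      have hd3 : d ≤ 3 := by rcases ht4 with h | h | h | h <;> omega
      have hb3 : b ≤ 3 := by rcases ht4 with h | h | h | h <;> omega
      rcases ht4 with h | h | h | h <;> subst h <;> interval_cases d <;> interval_cases b <;>
        omega
    rcases hcases with ⟨rfl, rfl, rfl⟩ | ⟨rfl, rfl, rfl⟩ | ⟨rfl, rfl, rfl⟩ | ⟨rfl, rfl, rfl⟩ |
      ⟨rfl, rfl, rfl⟩ | ⟨rfl, rfl, rfl⟩
    · have hnb : (-1 : ℤ) ^ 2 < 4 * n := by nlinarith
      have hpq := pq_nonpos n p q _ hn hΔ hnb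
      exact endneg r c p q 0 hr hp hpq hq1 (by linarith) (by norm_num)
    · have hnb : (-1 : ℤ) ^ 2 < 4 * n := by nlinarith
      have hpq := pq_nonpos n p q _ hn hΔ hnb
      exact endneg r c p q (-1) hr hp hpq hq1 (by linarith) (by norm_num)
    · have hnb : (-2 : ℤ) ^ 2 < 4 * n := by nlinarith
      have hpq := pq_nonpos n p q _ hn hΔ hnb
      exact endneg r c p q 0 hr hp hpq hq1 (by linarith) (by norm_num)
    · have hnb : (-3 : ℤ) ^ 2 < 4 * n := by nlinarith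
      have hpq := pq_nonpos n p q _ hn hΔ hnb
      exact endneg r c p q 1 hr hp hpq hq1 (by linarith) (by norm_num)
    · have hnb : (-1 : ℤ) ^ 2 < 4 * n := by nlinarith
      have hpq := pq_nonpos n p q _ hn hΔ hnb
      exact endneg r c p q 0 hr hp hpq hq1 (by linarith) (by norm_num)
    · have hnb : (-1 : ℤ) ^ 2 < 4 * n := by nlinarith
      have hpq := pq_nonpos n p q _ hn hΔ hnb
      exact endneg r c p q 1 hr hp hpq hq1 (by linarith) (by norm_num)
  · -- a = 0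
    subst ha
    have hP : 0 ≤ 2 * n * d * p - r * 0 := by
      have h8 : 0 ≤ n * d * p := mul_nonneg hnd.le hp
      nlinarith
    have hQ : -c * 0 - 2 * n * d * q < 0 := by
      rcases hF with ⟨_, h2⟩ | ⟨h1, _⟩
      · exact h2
      · linarith
    have hq1 : 1 ≤ q := by
      by_contra hq
      have hq' : q ≤ 0 := by omega
      have h9 : 0 ≤ n * d * (-q) := mul_nonneg hnd.le (by linarith)
      nlinarith
    have hpq : p * q ≤ 0 := pq_nonpos n p q _ hn hΔ (by nlinarith)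
    have hp0 : p = 0 := by
      by_contra hne
      have hp1 : 1 ≤ p := by omega
      have := pq_pos p q hp1 hq1
      linarith
    subst hp0
    have hrq := rq_ge r q hr hq1
    have htv : t = -(r * q) := by rw [ht]; ring
    have hrq2 : r * q = 2 := by rcases ht4 with h | h | h | h <;> omega
    have hr' : r = 2 := by
      have : r ≤ r * q := by nlinarith [mul_nonneg (by linarith : (0:ℤ) ≤ r) (sub_nonneg.mpr hq1)]
      omega
    exact hr2 hr' ⟨rfl, rfl⟩
  · -- a > 0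
    have ha1 : 1 ≤ a := ha
    have hX : (n * d ^ 2 + r * c) * a - 2 * n * d * t ≤ 0 := by
      by_contra h
      have h6 := mul_pos ha (not_le.mp h)
      linarith
    have hrca : 2 ≤ r * c * a := by
      nlinarith [mul_nonneg (by linarith : (0:ℤ) ≤ r * c - 2) (by linarith : (0:ℤ) ≤ a - 1)]
    have h3 : n * d * (d * a - 2 * t) < 0 := by
      have h7 : n * d * (d * a - 2 * t) =
          (n * d ^ 2 + r * c) * a - 2 * n * d * t - r * c * a := by ring
      linarith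
    have h4 : d * a - 2 * t < 0 := by
      by_contra h
      have := mul_nonneg hnd.le (not_lt.mp h)
      linarith
    have hda : 1 ≤ d * a ∧ d + a ≤ d * a + 1 := cp_ge d a hd1 ha1
    have hcases : (t = 1 ∧ d = 1 ∧ a = 1) ∨ (t = 2 ∧ d = 1 ∧ a = 1) ∨
        (t = 2 ∧ d = 1 ∧ a = 2) ∨ (t = 2 ∧ d = 1 ∧ a = 3) ∨
        (t = 2 ∧ d = 2 ∧ a = 1) ∨ (t = 2 ∧ d = 3 ∧ a = 1) := by
      obtain ⟨h10, h11⟩ := hda
      have hd3 : d ≤ 3 := by rcases ht4 with h | h | h | h <;> omega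
      have ha3 : a ≤ 3 := by rcases ht4 with h | h | h | h <;> omega
      rcases ht4 with h | h | h | h <;> subst h <;> interval_cases d <;> interval_cases a <;>
        omega
    rcases hcases with ⟨rfl, rfl, rfl⟩ | ⟨rfl, rfl, rfl⟩ | ⟨rfl, rfl, rfl⟩ | ⟨rfl, rfl, rfl⟩ |
      ⟨rfl, rfl, rfl⟩ | ⟨rfl, rfl, rfl⟩
    · have hnb : (1 : ℤ) ^ 2 < 4 * n := by nlinarith
      have hpq := pq_nonpos n p q _ hn hΔ hnb
      obtain ⟨rfl, rfl⟩ := end0 r c p q hr hc hp hpq (by linarith)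
      rcases hF with ⟨h1, _⟩ | ⟨_, h2⟩ <;> linarith
    · have hnb : (1 : ℤ) ^ 2 < 4 * n := by nlinarith
      have hpq := pq_nonpos n p q _ hn hΔ hnb
      obtain ⟨rfl, rfl, rfl⟩ := end1 r c p q hr hc hp hpq (by linarith)
      exact hexc ⟨rfl, rfl, rfl, by norm_num⟩
    · have hnb : (2 : ℤ) ^ 2 < 4 * n := by nlinarith
      have hpq := pq_nonpos n p q _ hn hΔ hnb
      obtain ⟨rfl, rfl⟩ := end0 r c p q hr hc hp hpq (by linarith)
      rcases hF with ⟨h1, _⟩ | ⟨_, h2⟩ <;> linarith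
    · have hnb : (3 : ℤ) ^ 2 < 4 * n := by nlinarith
      have hpq := pq_nonpos n p q _ hn hΔ hnb
      exact endm1 r c p q hr hc hp hpq (by linarith)
    · have hnb : (1 : ℤ) ^ 2 < 4 * n := by nlinarith
      have hpq := pq_nonpos n p q _ hn hΔ hnb
      obtain ⟨rfl, rfl⟩ := end0 r c p q hr hc hp hpq (by linarith)
      rcases hF with ⟨h1, _⟩ | ⟨_, h2⟩ <;> linarith
    · have hnb : (1 : ℤ) ^ 2 < 4 * n := by nlinarith
      have hpq := pq_nonpos n p q _ hn hΔ hnb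
      exact endm1 r c p q hr hc hp hpq (by linarith)

end aux

/-- Let N be an abelian group with a symmetric integer-valued bilinear form and H an element with H·H =
2n for some n > 0 such that every x with x·H = 0 satisfies x·x ≤ 0 (the Hodge index inequality). Fix
integers r ≥ 2, d > 0 and χ < 0 (a Mukai vector v = (r, dH, χ)) and an isotropic Mukai vector u =
(p, η, q), p ≥ 0, η ∈ N, η·η = 2pq, whose pairing ⟨v, u⟩ = d(H·η) − rq − χp has absolute value 1 or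
2. Exclude the case d = 1, χ = −1, H·η = 1, η·η = 0, and when r = 2 also the case p = 0, H·η = 0.
Then the pairings of u∨ = (p, −η, q) with w₀ = (0, rH, −2nd) and with w₁ = (2nd, −χH, 0) are both
non-negative or both negative: 2ndp − r(H·η) ≥ 0 holds if and only if χ(H·η) − 2ndq ≥ 0 holds. -/
theorem result
    (N : Type u) [AddCommGroup N] (B : LinearMap.BilinForm ℤ N) (hB : ∀ x y : N, B x y = B y x)
    (H : N) (n : ℤ) (hn : 0 < n) (hH : B H H = 2 * n) (hodge : ∀ x : N, B x H = 0 → B x x ≤ 0)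
    (r d χ p q : ℤ) (η : N) (hr : 2 ≤ r) (hd : 0 < d) (hχ : χ < 0) (hp : 0 ≤ p)
    (hiso : B η η = 2 * p * q)
    (hvu : 1 ≤ |d * B H η - r * q - χ * p| ∧ |d * B H η - r * q - χ * p| ≤ 2)
    (hexc : ¬ (d = 1 ∧ χ = -1 ∧ B H η = 1 ∧ B η η = 0))
    (hr2 : r = 2 → ¬ (p = 0 ∧ B H η = 0)) :
    (0 ≤ 2 * n * d * p - r * B H η ↔ 0 ≤ χ * B H η - 2 * n * d * q) := by
  obtain ⟨a, ha⟩ : ∃ a, a = B H η := ⟨_, rfl⟩
  have hηH : B η H = a := by rw [hB η H, ha]
  rw [← ha] at hvu hexc hr2 ⊢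
  have hΔ : 4 * n * p * q ≤ a ^ 2 := by
    have h1 := hodge ((2 * n) • η - a • H) (by
      simp only [map_sub, map_smul, LinearMap.sub_apply, LinearMap.smul_apply, smul_eq_mul,
        hηH, hH]
      ring)
    simp only [map_sub, map_smul, LinearMap.sub_apply, LinearMap.smul_apply, smul_eq_mul,
      hηH, hH, hiso, ← ha] at h1
    have h2 : 2 * n * (4 * n * p * q - a ^ 2) ≤ 0 := by linarith
    by_contra hcon
    have h3 := not_le.mp hcon
    have h4 := mul_pos hn (sub_pos.mpr h3)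
    linarith
  rw [hiso] at hexc
  obtain ⟨c, rfl⟩ : ∃ c, χ = -c := ⟨-χ, by ring⟩
  have hc : 1 ≤ c := by omega
  obtain ⟨t, ht⟩ : ∃ t, t = d * a - r * q + c * p := ⟨_, rfl⟩
  have hvu' : 1 ≤ |t| ∧ |t| ≤ 2 := by
    have e : d * a - r * q - -c * p = t := by rw [ht]; ring
    rw [e] at hvu
    exact hvu
  have ht4 : t = 1 ∨ t = 2 ∨ t = -1 ∨ t = -2 := by
    obtain ⟨h1, h2⟩ := hvu'
    rcases abs_cases t with ⟨h, _⟩ | ⟨h, _⟩ <;> omega
  have hexc' : ¬ (d = 1 ∧ c = 1 ∧ a = 1 ∧ 2 * p * q = 0) := by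
    rintro ⟨h1, h2, h3, h4⟩
    exact hexc ⟨h1, by rw [h2], h3, h4⟩
  by_cases hP : 0 ≤ 2 * n * d * p - r * a <;> by_cases hQ : 0 ≤ -c * a - 2 * n * d * q
  · exact iff_of_true hP hQ
  · exfalso
    exact core n r d c p q a t hn hr hd hc hp hΔ ht ht4 hexc' hr2 (Or.inl ⟨hP, not_le.mp hQ⟩)
  · exfalso
    exact core n r d c p q a t hn hr hd hc hp hΔ ht ht4 hexc' hr2 (Or.inr ⟨not_le.mp hP, hQ⟩)
  · exact iff_of_false hP hQ

end Groth.Agent.S16156
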