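import Groth.Statements.S16158
import Mathlib.RingTheory.Ideal.AssociatedPrime.Finiteness
import Mathlib.Algebra.Module.Torsion.Basic
import Mathlib.LinearAlgebra.Dimension.StrongRankCondition
import Mathlib.RingTheory.Noetherian.Basic
import Mathlib.RingTheory.FiniteType
import Mathlib.RingTheory.Ideal.Quotient.Basic

set_option autoImplicit false
universe u v w
open MadRed

namespace Groth.Agent.S16158

theorem indep_sum_zero {R M κ : Type*} [CommRing R] [AddCommGroup M] [Module R M]
    [Fintype κ] [DecidableEq κ] (N : κ → Submodule R M) (hind : iSupIndep N)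
    (y : κ → M) (hy : ∀ i, y i ∈ N i) (hsum : ∑ i, y i = 0) : ∀ j, y j = 0 := by
  intro j
  have hdisj := hind j
  rw [Submodule.disjoint_def] at hdisj
  apply hdisj (y j) (hy j)
  have e : y j = - ∑ i ∈ Finset.univ.erase j, y i := by
    rw [← Finset.add_sum_erase Finset.univ y (Finset.mem_univ j)] at hsum
    exact eq_neg_of_add_eq_zero_left hsum
  rw [e]
  apply Submodule.neg_mem
  apply Submodule.sum_mem
  intro i hi
  have hij : i ≠ j := Finset.ne_of_mem_erase hi
  exact Submodule.mem_iSup_of_mem i (Submodule.mem_iSup_of_mem hij (hy i))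


/-- Let R be a commutative Noetherian ring and M a finitely generated R-module. Then there is a natural
number n such that in every decomposition of M as an internal direct sum of a family of submodules,
at most n of the summands are nonzero (the nonzero summands are indexed by a finite set of size at
most n). -/
theorem result (R : Type u) [CommRing R] [IsNoetherianRing R]
    (M : Type v) [AddCommGroup M] [Module R M] [Module.Finite R M] :
    ∃ n : ℕ, ∀ (ι : Type w) [DecidableEq ι] (N : ι → Submodule R M), DirectSum.IsInternal N →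
      ∃ s : Finset ι, s.card ≤ n ∧ ∀ i, N i ≠ ⊥ → i ∈ s := by
  classical
  have hMN : IsNoetherian R M := isNoetherian_of_isNoetherianRing_of_finite R M
  have hAss : (associatedPrimes R M).Finite := associatedPrimes.finite R M
  have hfin : ∀ p : Ideal R, (⊤ : Submodule (R ⧸ p) (Submodule.torsionBySet R M p)).FG := by
    intro p
    have h1 : Module.Finite R (Submodule.torsionBySet R M p) := inferInstance
    have h2 : Module.Finite (R ⧸ p) (Submodule.torsionBySet R M p) :=
      Module.Finite.of_restrictScalars_finite R _ _
    exact Module.Finite.fg_top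
  choose W hW using hfin
  refine ⟨∑ p ∈ hAss.toFinset, (W p).card, ?_⟩
  intro ι _ N hN
  have hind : iSupIndep N := hN.submodule_iSupIndep
  have key : ∀ i, N i ≠ ⊥ → ∃ p : Ideal R, ∃ x : M,
      p ∈ associatedPrimes R M ∧ x ∈ N i ∧ ∀ r : R, r • x = 0 ↔ r ∈ p := by
    intro i hi
    have hnt : Nontrivial (N i) := Submodule.nontrivial_iff_ne_bot.mpr hi
    obtain ⟨p, hp⟩ := associatedPrimes.nonempty R (N i)
    have hpM : p ∈ associatedPrimes R M :=
      associatedPrimes.subset_of_injective (f := (N i).subtype) (Submodule.injective_subtype _) hp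
    obtain ⟨_, x, hx⟩ := (isAssociatedPrime_iff).mp hp
    refine ⟨p, x.1, hpM, x.2, fun r => ?_⟩
    rw [hx, Submodule.mem_colon_singleton, Submodule.mem_bot, ← Submodule.coe_smul,
      Submodule.coe_eq_zero]
  choose! P X hPX using key
  have hbound : ∀ S : Finset ι, (∀ i ∈ S, N i ≠ ⊥) →
      S.card ≤ ∑ p ∈ hAss.toFinset, (W p).card := by
    intro S hS
    have hmaps : ∀ i ∈ S, P i ∈ hAss.toFinset :=
      fun i hi => hAss.mem_toFinset.mpr (hPX i (hS i hi)).1
    rw [Finset.card_eq_sum_card_fiberwise hmaps]
    apply Finset.sum_le_sum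
    intro p hp
    have hpAss : p ∈ associatedPrimes R M := hAss.mem_toFinset.mp hp
    have hpprime : p.IsPrime := hpAss.isPrime
    have hdom : IsDomain (R ⧸ p) := Ideal.Quotient.isDomain p
    have hSp : ∀ i : {i // i ∈ S.filter (fun i => P i = p)}, N i.1 ≠ ⊥ ∧ P i.1 = p := by
      intro i
      have := Finset.mem_filter.mp i.2
      exact ⟨hS _ this.1, this.2⟩
    have hx_mem : ∀ i : {i // i ∈ S.filter (fun i => P i = p)},
        X i.1 ∈ Submodule.torsionBySet R M p := by
      intro i
      rw [Submodule.mem_torsionBySet_iff]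
      intro a
      apply ((hPX i.1 (hSp i).1).2.2 a).mpr
      rw [(hSp i).2]
      exact a.2
    let v : {i // i ∈ S.filter (fun i => P i = p)} → Submodule.torsionBySet R M p :=
      fun i => ⟨X i.1, hx_mem i⟩
    have hv : LinearIndependent (R ⧸ p) v := by
      rw [Fintype.linearIndependent_iff]
      intro g hg j
      choose r hr using fun i => Ideal.Quotient.mk_surjective (g i)
      have hsum : ∑ i : {i // i ∈ S.filter (fun i => P i = p)}, r i • X i.1 = 0 := by
        have h0 := congrArg (Subtype.val) hg
        simp only [← hr, Submodule.torsionBySet.mk_smul] at h0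
        simpa [v] using h0
      have hind' : iSupIndep (fun i : {i // i ∈ S.filter (fun i => P i = p)} => N i.1) :=
        hind.comp Subtype.val_injective
      have hj := indep_sum_zero (fun i : {i // i ∈ S.filter (fun i => P i = p)} => N i.1) hind'
        (fun i => r i • X i.1) (fun i => Submodule.smul_mem _ _ (hPX i.1 (hSp i).1).2.1) hsum j
      have hmem : r j ∈ p := by
        have := ((hPX j.1 (hSp j).1).2.2 (r j)).mp hj
        rwa [(hSp j).2] at this
      rw [← hr j]
      exact Ideal.Quotient.eq_zero_iff_mem.mpr hmem
    have hcard := linearIndependent_le_span_aux' v hv (↑(W p)) (by rw [hW p]; exact le_top)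
    simpa using hcard
  have hfinite : {i | N i ≠ ⊥}.Finite := by
    by_contra hinf
    obtain ⟨t, ht, htc⟩ := Set.Infinite.exists_subset_card_eq hinf
      (∑ p ∈ hAss.toFinset, (W p).card + 1)
    have := hbound t (fun i hi => ht hi)
    omega
  refine ⟨hfinite.toFinset, hbound _ (fun i hi => hfinite.mem_toFinset.mp hi), fun i hi => ?_⟩
  exact hfinite.mem_toFinset.mpr hi

end Groth.Agent.S16158
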