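import Groth.Statements.S16159
import Mathlib

set_option autoImplicit false
set_option linter.style.haveILetI false
universe u v w x
open MadRed

namespace Groth.Agent.S16159


open Module.End

lemma aux {K V : Type*} [Field K] [AddCommGroup V] [Module K V] (f : Module.End K V)
    (p : Submodule K V) (h : ∀ x ∈ p, f x ∈ p) (s : Finset K) :
    ∀ (x : K → V), (∀ μ ∈ s, x μ ∈ f.eigenspace μ) → ∑ μ ∈ s, x μ ∈ p → ∀ μ ∈ s, x μ ∈ p := by
  classical
  induction s using Finset.induction_on with
  | empty => simp
  | insert μ₀ s hμ₀ ih =>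
    intro x hx hsum μ hμ
    have hs' : ∀ μ ∈ s, x μ ∈ p := by
      have h1 := ih (fun μ => (μ - μ₀) • x μ)
        (fun μ hμ => Submodule.smul_mem _ _ (hx μ (Finset.mem_insert_of_mem hμ))) ?_
      · intro μ hμ
        have hne : μ - μ₀ ≠ 0 := sub_ne_zero.mpr (fun e => hμ₀ (e ▸ hμ))
        have := p.smul_mem (μ - μ₀)⁻¹ (h1 μ hμ)
        rwa [smul_smul, inv_mul_cancel₀ hne, one_smul] at this
      · have hy := p.sub_mem (h _ hsum) (p.smul_mem μ₀ hsum)
        convert hy using 1
        rw [Finset.sum_insert hμ₀, map_add, map_sum, smul_add, Finset.smul_sum]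
        have e0 : f (x μ₀) = μ₀ • x μ₀ :=
          Module.End.mem_eigenspace_iff.mp (hx μ₀ (Finset.mem_insert_self _ _))
        have e1 : ∑ μ ∈ s, f (x μ) = ∑ μ ∈ s, μ • x μ :=
          Finset.sum_congr rfl fun μ hμ =>
            Module.End.mem_eigenspace_iff.mp (hx μ (Finset.mem_insert_of_mem hμ))
        rw [e0, e1, add_sub_add_left_eq_sub, ← Finset.sum_sub_distrib]
        exact Finset.sum_congr rfl fun μ _ => sub_smul _ _ _
    rcases Finset.mem_insert.mp hμ with rfl | hμ
    · have : x μ = (∑ ν ∈ insert μ s, x ν) - ∑ ν ∈ s, x ν := by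
        rw [Finset.sum_insert hμ₀]; abel
      rw [this]; exact p.sub_mem hsum (p.sum_mem hs')
    · exact hs' μ hμ

lemma inf_iSup_eig {K V : Type*} [Field K] [AddCommGroup V] [Module K V] (f : Module.End K V)
    (p : Submodule K V) (h : ∀ x ∈ p, f x ∈ p) :
    p ⊓ ⨆ μ, f.eigenspace μ ≤ ⨆ μ, p ⊓ f.eigenspace μ := by
  classical
  rintro m ⟨hm₀, hm₁⟩
  obtain ⟨c, hc, rfl⟩ := (Submodule.mem_iSup_iff_exists_finsupp _ _).mp hm₁
  suffices ∀ μ, c μ ∈ p from
    (Submodule.mem_iSup_iff_exists_finsupp _ _).mpr ⟨c, fun μ => ⟨this μ, hc μ⟩, rfl⟩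
  intro μ
  by_cases hμ : μ ∈ c.support
  · exact aux f p h c.support c (fun μ _ => hc μ) hm₀ μ hμ
  · rw [Finsupp.notMem_support_iff.mp hμ]; exact p.zero_mem

lemma lemmaN (k : Type u) [Field k] (R : Type v) [CommRing R] [Algebra k R]
    (V : Type w) [AddCommGroup V] [Module R V] [Module k V] [IsScalarTower k R V]
    [IsNoetherian R V]
    (ι : Type x) (f : ι → Module.End R V)
    (hcomm : ∀ i j, Commute (f i) (f j))
    (hdiag : ∀ i, ⨆ μ : k, Module.End.eigenspace ((f i).restrictScalars k) μ = ⊤) :
    ⨆ χ : ι → k, ⨅ i, Module.End.eigenspace ((f i).restrictScalars k) (χ i) = ⊤ := by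
  have key : ∀ A : Submodule R V, ∀ D : Submodule R V, (∀ i, ∀ w ∈ D, f i w ∈ D) →
      D ⊓ A = ⊥ → ∀ x ∈ D,
        x ∈ ⨆ χ : ι → k, ⨅ i, Module.End.eigenspace ((f i).restrictScalars k) (χ i) := by
    intro A
    induction A using WellFoundedGT.induction with
    | ind A IH =>
    intro D hD hDA x hx
    by_cases hsc : ∀ i, ∃ μ : k, ∀ w ∈ D, f i w = μ • w
    · choose χ hχ using hsc
      refine Submodule.mem_iSup_of_mem χ ?_
      rw [Submodule.mem_iInf]; intro i
      rw [Module.End.mem_eigenspace_iff]; exact hχ i x hx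
    · rw [not_forall] at hsc; obtain ⟨i, hi⟩ := hsc; rw [not_exists] at hi
      obtain ⟨Dμ, hDμ⟩ : ∃ Dμ : k → Submodule R V,
        Dμ = fun μ => D ⊓ Module.End.eigenspace (f i) (algebraMap k R μ) := ⟨_, rfl⟩
      have hmemD : ∀ μ w, w ∈ Dμ μ ↔ w ∈ D ∧ f i w = μ • w := by
        intro μ w
        rw [hDμ]
        simp only [Submodule.mem_inf, Module.End.mem_eigenspace_iff, algebraMap_smul]
      have hDμstab : ∀ μ j, ∀ w ∈ Dμ μ, f j w ∈ Dμ μ := by
        intro μ j w hw; rw [hmemD] at hw ⊢
        refine ⟨hD j w hw.1, ?_⟩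
        have := (hcomm i j).eq
        calc f i (f j w) = (f i * f j) w := rfl
          _ = (f j * f i) w := by rw [this]
          _ = f j (f i w) := rfl
          _ = f j (μ • w) := by rw [hw.2]
          _ = μ • f j w := by
              rw [← algebraMap_smul R μ w, map_smul, algebraMap_smul]
      have hDμE : ∀ μ, ∀ w ∈ Dμ μ,
          w ∈ ⨆ χ : ι → k, ⨅ i, Module.End.eigenspace ((f i).restrictScalars k) (χ i) := by
        intro μ
        refine IH (A ⊔ ⨆ ν : {ν : k // ν ≠ μ}, Dμ ν) ?_ (Dμ μ) (hDμstab μ) ?_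
        · refine lt_of_le_of_ne le_sup_left ?_
          intro heq
          have h1 : ∀ ν, ν ≠ μ → Dμ ν = ⊥ := by
            intro ν hν
            have h2 : Dμ ν ≤ A := by
              rw [heq]
              exact le_sup_of_le_right (le_iSup (fun ν : {ν : k // ν ≠ μ} => Dμ ν) ⟨ν, hν⟩)
            have h3 : Dμ ν ≤ D ⊓ A := le_inf (by rw [hDμ]; exact inf_le_left) h2
            rw [hDA] at h3; exact le_bot_iff.mp h3
          apply hi μ
          intro w hw
          have hw1 : w ∈ ⨆ ν, (D.restrictScalars k) ⊓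
              Module.End.eigenspace ((f i).restrictScalars k) ν :=
            inf_iSup_eig _ _ (fun x hx => hD i x hx) ⟨hw, by rw [hdiag i]; trivial⟩
          have hle : (⨆ ν, (D.restrictScalars k) ⊓
              Module.End.eigenspace ((f i).restrictScalars k) ν) ≤
              Module.End.eigenspace ((f i).restrictScalars k) μ := by
            refine iSup_le fun ν => ?_
            by_cases hν : ν = μ
            · subst hν; exact inf_le_right
            · intro z hz
              have : z ∈ Dμ ν := (hmemD ν z).mpr ⟨hz.1, Module.End.mem_eigenspace_iff.mp hz.2⟩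
              rw [h1 ν hν] at this
              rw [(Submodule.mem_bot R).mp this]; exact Submodule.zero_mem _
          exact Module.End.mem_eigenspace_iff.mp (hle hw1)
        · rw [eq_bot_iff]
          rintro z ⟨hz1, hz2⟩
          obtain ⟨y, hy, t, ht, rfl⟩ := Submodule.mem_sup.mp hz2
          have htD : t ∈ D :=
            (iSup_le (fun ν : {ν : k // ν ≠ μ} => (by rw [hDμ]; exact inf_le_left : Dμ ν ≤ D))) ht
          have hy0 : y = 0 := by
            have hyD : y ∈ D := by
              have := D.sub_mem ((hmemD μ _).mp hz1).1 htD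
              simpa using this
            have : y ∈ D ⊓ A := ⟨hyD, hy⟩
            rw [hDA] at this; exact (Submodule.mem_bot R).mp this
          subst hy0; rw [zero_add] at hz1 ⊢
          have hind := Module.End.eigenspaces_iSupIndep ((f i).restrictScalars k)
          have ht1 : t ∈ Module.End.eigenspace ((f i).restrictScalars k) μ :=
            Module.End.mem_eigenspace_iff.mpr ((hmemD μ t).mp hz1).2
          have ht2 : t ∈ ⨆ ν, ⨆ (_ : ν ≠ μ),
              Module.End.eigenspace ((f i).restrictScalars k) ν := by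
            refine Submodule.iSup_induction (fun ν : {ν : k // ν ≠ μ} => Dμ ν)
              (motive := fun t => t ∈ ⨆ ν, ⨆ (_ : ν ≠ μ),
                Module.End.eigenspace ((f i).restrictScalars k) ν) ht ?_
              (Submodule.zero_mem _) (fun _ _ => Submodule.add_mem _)
            intro ν z hz
            exact Submodule.mem_iSup_of_mem ν.1 (Submodule.mem_iSup_of_mem ν.2
              (Module.End.mem_eigenspace_iff.mpr ((hmemD ν.1 z).mp hz).2))
          have := (hind μ).le_bot ⟨ht1, ht2⟩
          exact (Submodule.mem_bot R).mpr ((Submodule.mem_bot k).mp this)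
      have hx1 : x ∈ ⨆ ν, (D.restrictScalars k) ⊓
          Module.End.eigenspace ((f i).restrictScalars k) ν :=
        inf_iSup_eig _ _ (fun x hx => hD i x hx) ⟨hx, by rw [hdiag i]; trivial⟩
      refine (iSup_le fun ν => ?_ : _ ≤
        ⨆ χ : ι → k, ⨅ i, Module.End.eigenspace ((f i).restrictScalars k) (χ i)) hx1
      intro z hz
      exact hDμE ν z ((hmemD ν z).mpr ⟨hz.1, Module.End.mem_eigenspace_iff.mp hz.2⟩)
  rw [eq_top_iff]; intro x _
  exact key ⊥ ⊤ (fun _ _ _ => trivial) (inf_bot_eq _) x trivial


/-- Let k be a field, R a commutative Noetherian k-algebra and V an R-module, viewed also as a k-vector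
space through k → R. Let (f_i) be a family of pairwise commuting R-linear endomorphisms of V such
that each f_i, as a k-linear map, is diagonalizable over k (its eigenspaces span V), and such that
every vector of V lies in a finitely generated R-submodule stable under every f_i. Then the family
is simultaneously diagonalizable over k: the common eigenspaces ⨅_i Eig(f_i, χ(i)), over all
assignments χ of eigenvalues in k, span V. The source states this for the endomorphisms given by an
abelian group acting R-linearly; the row takes any commuting family, which is what the argument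
uses, and neither k algebraically closed nor of characteristic zero is needed. -/
theorem result
    (k : Type u) [Field k] (R : Type v) [CommRing R] [Algebra k R] [IsNoetherianRing R]
    (V : Type w) [AddCommGroup V] [Module R V] [Module k V] [IsScalarTower k R V]
    (ι : Type x) (f : ι → Module.End R V)
    (hcomm : ∀ i j, Commute (f i) (f j))
    (hdiag : ∀ i, ⨆ μ : k, Module.End.eigenspace ((f i).restrictScalars k) μ = ⊤)
    (hfin : ∀ v : V, ∃ W : Submodule R V, v ∈ W ∧ W.FG ∧ ∀ i, ∀ w ∈ W, f i w ∈ W) :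
    ⨆ χ : ι → k, ⨅ i, Module.End.eigenspace ((f i).restrictScalars k) (χ i) = ⊤ := by
  rw [eq_top_iff]; intro v _
  obtain ⟨W, hv, hfg, hstab⟩ := hfin v
  haveI : IsNoetherian R W := isNoetherian_of_fg_of_noetherian W hfg
  obtain ⟨g, hg⟩ : ∃ g : ι → Module.End R W, g = fun i => (f i).restrict (hstab i) := ⟨_, rfl⟩
  have hgv : ∀ i (w : W), ((g i w : W) : V) = f i w := by
    intro i w; rw [hg]; rfl
  have hcomm' : ∀ i j, Commute (g i) (g j) := by
    intro i j
    show g i * g j = g j * g i
    ext w
    show ((g i (g j w) : W) : V) = g j (g i w)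
    rw [hgv, hgv, hgv, hgv]
    exact LinearMap.congr_fun (hcomm i j).eq (w : V)
  have hdiag' : ∀ i, ⨆ μ : k, Module.End.eigenspace ((g i).restrictScalars k) μ = ⊤ := by
    intro i
    rw [eq_top_iff]
    rintro ⟨w, hw⟩ -
    have hw1 : w ∈ ⨆ ν, (W.restrictScalars k) ⊓
        Module.End.eigenspace ((f i).restrictScalars k) ν :=
      inf_iSup_eig _ _ (fun x hx => hstab i x hx) ⟨hw, by rw [hdiag i]; trivial⟩
    have hle : (⨆ ν, (W.restrictScalars k) ⊓
        Module.End.eigenspace ((f i).restrictScalars k) ν) ≤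
        Submodule.map ((W.subtype).restrictScalars k)
          (⨆ μ, Module.End.eigenspace ((g i).restrictScalars k) μ) := by
      refine iSup_le fun ν => ?_
      rintro z ⟨hz1, hz2⟩
      refine ⟨⟨z, hz1⟩, Submodule.mem_iSup_of_mem ν ?_, rfl⟩
      rw [Module.End.mem_eigenspace_iff]; apply Subtype.ext
      show ((g i ⟨z, hz1⟩ : W) : V) = ν • z
      rw [hgv]
      exact Module.End.mem_eigenspace_iff.mp hz2
    obtain ⟨y, hy, hyw⟩ := hle hw1
    have : y = ⟨w, hw⟩ := Subtype.ext hyw
    rw [← this]; exact hy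
  have hN := lemmaN k R W ι g hcomm' hdiag'
  have hv' : (⟨v, hv⟩ : W) ∈ (⊤ : Submodule k W) := trivial
  rw [← hN] at hv'
  have hle : Submodule.map ((W.subtype).restrictScalars k)
      (⨆ χ : ι → k, ⨅ i, Module.End.eigenspace ((g i).restrictScalars k) (χ i)) ≤
      ⨆ χ : ι → k, ⨅ i, Module.End.eigenspace ((f i).restrictScalars k) (χ i) := by
    rw [Submodule.map_iSup]
    refine iSup_mono fun χ => ?_
    rintro _ ⟨y, hy, rfl⟩
    rw [SetLike.mem_coe, Submodule.mem_iInf] at hy
    rw [Submodule.mem_iInf]
    intro i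
    rw [Module.End.mem_eigenspace_iff]
    have := congrArg Subtype.val (Module.End.mem_eigenspace_iff.mp (hy i))
    show f i (y : V) = χ i • (y : V)
    rw [← hgv]; exact this
  exact hle ⟨⟨v, hv⟩, hv', rfl⟩

end Groth.Agent.S16159
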