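import Groth.Statements.S16160
import Mathlib

set_option autoImplicit false
universe u v w
open scoped TensorProduct
open MadRed

namespace Groth.Agent.S16160


section general

theorem L1 {k R N : Type*} [Field k] [CommRing R] [Algebra k R] [AddCommGroup N] [Module R N]
    [Module k N] [IsScalarTower k R N] (T₀ : N →ₗ[R] N) (p : Submodule R N)
    (hp : ∀ x ∈ p, T₀ x ∈ p) :
    ∀ (F : Finset k) (y : k → N), (∀ μ ∈ F, T₀ (y μ) = μ • y μ) → ∑ μ ∈ F, y μ ∈ p →
      ∀ μ ∈ F, y μ ∈ p := by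
  classical
  have hsm : ∀ (c : k) (x : N), x ∈ p → c • x ∈ p := by
    intro c x hx
    rw [← algebraMap_smul R c x]
    exact p.smul_mem _ hx
  intro F
  induction F using Finset.induction_on with
  | empty => intro y _ _ μ hμ; simp at hμ
  | insert ν F' hν ih =>
    intro y hy hsum μ hμ
    have hy' : ∀ μ ∈ F', T₀ ((μ - ν) • y μ) = μ • ((μ - ν) • y μ) := by
      intro μ hμ
      rw [LinearMap.map_smul_of_tower, hy μ (Finset.mem_insert_of_mem hμ), smul_comm]
    have hs2 : ∑ μ ∈ F', (μ - ν) • y μ ∈ p := by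
      have h1 := hp _ hsum
      have h2 := hsm ν _ hsum
      have h3 := p.sub_mem h1 h2
      have : T₀ (∑ μ ∈ insert ν F', y μ) - ν • ∑ μ ∈ insert ν F', y μ =
          ∑ μ ∈ F', (μ - ν) • y μ := by
        rw [Finset.sum_insert hν, map_add, map_sum, smul_add, Finset.smul_sum,
          hy ν (Finset.mem_insert_self _ _)]
        rw [add_sub_add_left_eq_sub, ← Finset.sum_sub_distrib]
        apply Finset.sum_congr rfl
        intro μ hμ
        rw [hy μ (Finset.mem_insert_of_mem hμ), sub_smul]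
      rwa [this] at h3
    have hF' : ∀ μ ∈ F', y μ ∈ p := by
      intro μ hμ
      have h1 := ih (fun μ => (μ - ν) • y μ) hy' hs2 μ hμ
      have hne : μ - ν ≠ 0 := by
        intro h
        apply hν
        rw [sub_eq_zero] at h
        rwa [← h]
      have := hsm (μ - ν)⁻¹ _ h1
      rwa [smul_smul, inv_mul_cancel₀ hne, one_smul] at this
    by_cases hμν : μ = ν
    · have : y ν = ∑ μ' ∈ insert ν F', y μ' - ∑ μ' ∈ F', y μ' := by
        rw [Finset.sum_insert hν]; abel
      rw [hμν, this]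
      exact p.sub_mem hsum (p.sum_mem hF')
    · exact hF' μ ((Finset.mem_insert.mp hμ).resolve_left hμν)

theorem AL {k R N ι : Type*} [Field k] [CommRing R] [Algebra k R] [AddCommGroup N] [Module R N]
    [Module k N] [IsScalarTower k R N] [IsNoetherian R N]
    (T : ι → N →ₗ[R] N) (hcomm : ∀ i j x, T i (T j x) = T j (T i x))
    (hdiag : ∀ i x, ∃ (F : Finset k) (y : k → N),
      (∀ μ ∈ F, T i (y μ) = μ • y μ) ∧ x = ∑ μ ∈ F, y μ) :
    Submodule.span R {y : N | ∃ χ : ι → k, ∀ i, T i y = χ i • y} = ⊤ := by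
  classical
  by_contra hW
  obtain ⟨W, hWdef⟩ : ∃ W : Submodule R N,
      W = Submodule.span R {y : N | ∃ χ : ι → k, ∀ i, T i y = χ i • y} := ⟨_, rfl⟩
  rw [← hWdef] at hW
  obtain ⟨𝒮, h𝒮⟩ : ∃ 𝒮 : Set (Submodule R N), 𝒮 = {Q | ∃ Q' : Submodule R N,
      (∀ i x, x ∈ Q' → T i x ∈ Q') ∧ Q ⊔ Q' = ⊤ ∧ Q ⊓ Q' = ⊥ ∧ ¬ Q' ≤ W} := ⟨_, rfl⟩
  have hne : 𝒮.Nonempty := by
    refine ⟨⊥, ?_⟩
    rw [h𝒮]
    refine ⟨⊤, fun _ _ _ => trivial, by simp, by simp, ?_⟩
    intro h
    exact hW (top_le_iff.mp h)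
  obtain ⟨Q, hQ, hmax⟩ := (set_has_maximal_iff_noetherian.mpr inferInstance) 𝒮 hne
  rw [h𝒮] at hQ
  obtain ⟨Q', hst, hsup, hinf, hnot⟩ := hQ
  have key : ∀ A B : Submodule R N, (∀ i x, x ∈ A → T i x ∈ A) → A ≤ Q' → B ≤ Q' →
      A ⊔ B = Q' → A ⊓ B = ⊥ → B ≠ ⊥ → ¬ A ≤ W → False := by
    intro A B hA hAQ hBQ hAB hABi hB hAW
    apply hmax (Q ⊔ B)
    · rw [h𝒮]
      refine ⟨A, hA, ?_, ?_, hAW⟩
      · rw [sup_assoc, sup_comm B A, hAB, hsup]
      · rw [eq_bot_iff]
        intro x hx
        obtain ⟨hx1, hx2⟩ := Submodule.mem_inf.mp hx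
        obtain ⟨q, hq, b, hb, rfl⟩ := Submodule.mem_sup.mp hx1
        have hq0 : q = 0 := by
          have : q ∈ Q ⊓ Q' := by
            refine Submodule.mem_inf.mpr ⟨hq, ?_⟩
            have : q = (q + b) - b := by abel
            rw [this]
            exact Q'.sub_mem (hAQ hx2) (hBQ hb)
          rw [hinf] at this
          exact (Submodule.mem_bot R).mp this
        rw [hq0, zero_add] at hx2 ⊢
        have : b ∈ A ⊓ B := Submodule.mem_inf.mpr ⟨hx2, hb⟩
        rwa [hABi] at this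
    · refine lt_of_le_of_ne le_sup_left ?_
      intro h
      apply hB
      rw [eq_bot_iff, ← hinf]
      refine le_inf ?_ hBQ
      rw [h]
      exact le_sup_right
  have hns : ∃ i₀, ∀ c : k, ∃ x ∈ Q', T i₀ x ≠ c • x := by
    by_contra h
    push Not at h
    choose χ hχ using h
    apply hnot
    intro x hx
    rw [hWdef]
    exact Submodule.subset_span ⟨χ, fun i => hχ i x hx⟩
  obtain ⟨i₀, hi₀⟩ := hns
  have hQ'ne : ∃ x₀ ∈ Q', x₀ ≠ 0 := by
    by_contra h
    push Not at h
    apply hnot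
    intro x hx
    rw [h x hx]
    exact W.zero_mem
  obtain ⟨x₀, hx₀, hx₀ne⟩ := hQ'ne
  obtain ⟨F, y, hy, hxy⟩ := hdiag i₀ x₀
  have hyQ : ∀ μ ∈ F, y μ ∈ Q' := L1 (T i₀) Q' (hst i₀) F y hy (hxy ▸ hx₀)
  have : ∃ μ₀ ∈ F, y μ₀ ≠ 0 := by
    by_contra h
    push Not at h
    apply hx₀ne
    rw [hxy]
    exact Finset.sum_eq_zero h
  obtain ⟨μ₀, hμ₀F, hyμ₀⟩ := this
  obtain ⟨S, hS⟩ : ∃ S : N →ₗ[R] N, S = T i₀ - algebraMap k R μ₀ • LinearMap.id := ⟨_, rfl⟩
  have hSx : ∀ x, S x = T i₀ x - μ₀ • x := by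
    intro x
    rw [hS]
    simp [algebraMap_smul]
  have hScomm : ∀ j x, T j (S x) = S (T j x) := by
    intro j x
    rw [hSx, hSx, map_sub, LinearMap.map_smul_of_tower, hcomm]
  have hSeig : ∀ (F' : Finset k) (y' : k → N), (∀ μ ∈ F', T i₀ (y' μ) = μ • y' μ) →
      ∀ μ ∈ F', S (y' μ) = (μ - μ₀) • y' μ := by
    intro F' y' hy' μ hμ
    rw [hSx, hy' μ hμ, sub_smul]
  obtain ⟨A, hAdef⟩ : ∃ A : Submodule R N, A = Q' ⊓ LinearMap.ker S := ⟨_, rfl⟩
  obtain ⟨B, hBdef⟩ : ∃ B : Submodule R N, B = Submodule.map S Q' := ⟨_, rfl⟩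
  have hsmQ : ∀ (c : k) (x : N), x ∈ Q' → c • x ∈ Q' := by
    intro c x hx
    rw [← algebraMap_smul R c x]
    exact Q'.smul_mem _ hx
  have hSQ : ∀ x ∈ Q', S x ∈ Q' := by
    intro x hx
    rw [hSx]
    exact Q'.sub_mem (hst i₀ x hx) (hsmQ _ _ hx)
  have hAQ : A ≤ Q' := by rw [hAdef]; exact inf_le_left
  have hBQ : B ≤ Q' := by
    rw [hBdef]
    rintro _ ⟨x, hx, rfl⟩
    exact hSQ x hx
  have hAst : ∀ i x, x ∈ A → T i x ∈ A := by
    intro i x hx
    rw [hAdef] at hx ⊢
    obtain ⟨h1, h2⟩ := Submodule.mem_inf.mp hx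
    refine Submodule.mem_inf.mpr ⟨hst i x h1, ?_⟩
    rw [LinearMap.mem_ker] at h2 ⊢
    rw [← hScomm, h2, map_zero]
  have hBst : ∀ i x, x ∈ B → T i x ∈ B := by
    intro i x hx
    rw [hBdef] at hx ⊢
    obtain ⟨z, hz, rfl⟩ := hx
    exact ⟨T i z, hst i z hz, (hScomm i z).symm⟩
  have hAB : A ⊔ B = Q' := by
    apply le_antisymm (sup_le hAQ hBQ)
    intro x hx
    obtain ⟨F', y', hy', hxy'⟩ := hdiag i₀ x
    have hy'Q : ∀ μ ∈ F', y' μ ∈ Q' := L1 (T i₀) Q' (hst i₀) F' y' hy' (hxy' ▸ hx)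
    rw [hxy']
    refine Submodule.sum_mem _ (fun μ hμ => ?_)
    by_cases hμ₀ : μ = μ₀
    · apply Submodule.mem_sup_left
      rw [hAdef]
      refine Submodule.mem_inf.mpr ⟨hy'Q μ hμ, ?_⟩
      rw [LinearMap.mem_ker, hSeig F' y' hy' μ hμ, hμ₀, sub_self, zero_smul]
    · apply Submodule.mem_sup_right
      rw [hBdef]
      refine ⟨(μ - μ₀)⁻¹ • y' μ, hsmQ _ _ (hy'Q μ hμ), ?_⟩
      rw [LinearMap.map_smul_of_tower, hSeig F' y' hy' μ hμ, smul_smul,
        inv_mul_cancel₀ (sub_ne_zero.mpr hμ₀), one_smul]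
  have hABi : A ⊓ B = ⊥ := by
    rw [eq_bot_iff]
    intro x hx
    rw [hAdef, hBdef] at hx
    obtain ⟨hxA, hxB⟩ := Submodule.mem_inf.mp hx
    obtain ⟨_, hx1⟩ := Submodule.mem_inf.mp hxA
    obtain ⟨z, hz, rfl⟩ := hxB
    rw [LinearMap.mem_ker] at hx1
    obtain ⟨F', y', hy', hzy'⟩ := hdiag i₀ z
    have h0 : ∑ μ ∈ F', ((μ - μ₀) * (μ - μ₀)) • y' μ ∈ (⊥ : Submodule R N) := by
      rw [Submodule.mem_bot]
      rw [hzy', map_sum, map_sum] at hx1
      rw [← hx1]
      apply Finset.sum_congr rfl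
      intro μ hμ
      rw [hSeig F' y' hy' μ hμ, LinearMap.map_smul_of_tower, hSeig F' y' hy' μ hμ, smul_smul]
    have h1 := L1 (T i₀) ⊥
      (by intro x hx; rw [Submodule.mem_bot] at hx ⊢; rw [hx, map_zero]) F'
      (fun μ => ((μ - μ₀) * (μ - μ₀)) • y' μ)
      (by intro μ hμ; rw [LinearMap.map_smul_of_tower, hy' μ hμ, smul_comm]) h0
    rw [Submodule.mem_bot, hzy', map_sum]
    apply Finset.sum_eq_zero
    intro μ hμ
    rw [hSeig F' y' hy' μ hμ]
    by_cases hμ₀ : μ = μ₀
    · rw [hμ₀, sub_self, zero_smul]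
    · have h2 := h1 μ hμ
      rw [Submodule.mem_bot] at h2
      have h3 : ((μ - μ₀) * (μ - μ₀)) ≠ 0 :=
        mul_ne_zero (sub_ne_zero.mpr hμ₀) (sub_ne_zero.mpr hμ₀)
      have h4 : y' μ = 0 := by
        have : ((μ - μ₀) * (μ - μ₀))⁻¹ • (((μ - μ₀) * (μ - μ₀)) • y' μ) =
            ((μ - μ₀) * (μ - μ₀))⁻¹ • (0 : N) := by rw [h2]
        rwa [smul_smul, inv_mul_cancel₀ h3, one_smul, smul_zero] at this
      rw [h4, smul_zero]
  have hAne : A ≠ ⊥ := by
    intro h
    apply hyμ₀
    have : y μ₀ ∈ A := by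
      rw [hAdef]
      refine Submodule.mem_inf.mpr ⟨hyQ μ₀ hμ₀F, ?_⟩
      rw [LinearMap.mem_ker, hSeig F y hy μ₀ hμ₀F, sub_self, zero_smul]
    rw [h] at this
    exact (Submodule.mem_bot R).mp this
  have hBne : B ≠ ⊥ := by
    intro h
    obtain ⟨x, hx, hxne⟩ := hi₀ μ₀
    apply hxne
    have : S x ∈ B := by rw [hBdef]; exact ⟨x, hx, rfl⟩
    rw [h, Submodule.mem_bot, hSx, sub_eq_zero] at this
    exact this
  by_cases hAW : A ≤ W
  · have hBW : ¬ B ≤ W := by
      intro hBW
      apply hnot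
      rw [← hAB]
      exact sup_le hAW hBW
    exact key B A hBst hBQ hAQ (by rw [sup_comm]; exact hAB) (by rw [inf_comm]; exact hABi)
      hAne hBW
  · exact key A B hAst hAQ hBQ hAB hABi hBne hAW

end general

section hopf

open TensorProduct

variable {k : Type u} [Field k] {A : Type v} [CommRing A] [HopfAlgebra k A]
  {R : Type w} [CommRing R] [Algebra k R]

noncomputable def sig (g : A →ₐ[k] R) : A ⊗[k] A →ₐ[k] R ⊗[k] A :=
  (Algebra.TensorProduct.map g (AlgHom.id k A)).comp (Algebra.TensorProduct.comm k A A).toAlgHom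

theorem sig_tmul (g : A →ₐ[k] R) (x y : A) : sig g (x ⊗ₜ[k] y) = g y ⊗ₜ[k] x := by
  simp [sig]

theorem translAux_eq (g : A →ₐ[k] R) (a : A) :
    MadRed.translAux k A R g a = sig g (Coalgebra.comul a) := rfl

theorem ptAct_tmul (g : A →ₐ[k] R) (r : R) (a : A) :
    MadRed.ptAct k A R g (r ⊗ₜ[k] a) = (r ⊗ₜ[k] (1 : A)) * sig g (Coalgebra.comul a) := by
  simp [MadRed.ptAct, translAux_eq]

noncomputable def Psi (h g : A →ₐ[k] R) : A ⊗[k] (A ⊗[k] A) →ₗ[k] R ⊗[k] A :=
  (TensorProduct.comm k A R).toLinearMap ∘ₗ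
    TensorProduct.map LinearMap.id
      (LinearMap.mul' k R ∘ₗ TensorProduct.map h.toLinearMap g.toLinearMap)

theorem Psi_tmul (h g : A →ₐ[k] R) (x y z : A) :
    Psi h g (x ⊗ₜ[k] (y ⊗ₜ[k] z)) = (h y * g z) ⊗ₜ[k] x := by
  simp [Psi]

theorem ptAct_translAux (h g : A →ₐ[k] R) (a : A) :
    MadRed.ptAct k A R h (MadRed.translAux k A R g a) =
      MadRed.translAux k A R (WithConv.toConv h * WithConv.toConv g).ofConv a := by
  rw [translAux_eq, translAux_eq]
  have e1 : ∀ t : A ⊗[k] A, sig (WithConv.toConv h * WithConv.toConv g).ofConv t =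
      Psi h g ((Coalgebra.comul (R := k) (A := A)).lTensor A t) := by
    intro t
    induction t using TensorProduct.induction_on with
    | zero => simp
    | add t₁ t₂ h₁ h₂ => rw [map_add, map_add, map_add, h₁, h₂]
    | tmul x y =>
      rw [sig_tmul, LinearMap.lTensor_tmul]
      have hconv := AlgHom.convMul_apply (WithConv.toConv h) (WithConv.toConv g) y
      have sub : ∀ s : A ⊗[k] A, Psi h g (x ⊗ₜ[k] s) =
          (Algebra.TensorProduct.lift h g (fun _ _ => Commute.all _ _) s) ⊗ₜ[k] x := by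
        intro s
        induction s using TensorProduct.induction_on with
        | zero => simp
        | add s₁ s₂ h₁ h₂ => rw [tmul_add, map_add, map_add, add_tmul, h₁, h₂]
        | tmul y' z' => rw [Psi_tmul]; simp
      rw [sub]
      exact congrArg (fun r => r ⊗ₜ[k] x) hconv
  have e2 : ∀ t : A ⊗[k] A, MadRed.ptAct k A R h (sig g t) =
      Psi h g (TensorProduct.assoc k A A A
        ((Coalgebra.comul (R := k) (A := A)).rTensor A t)) := by
    intro t
    induction t using TensorProduct.induction_on with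
    | zero => simp
    | add t₁ t₂ h₁ h₂ => rw [map_add, map_add, map_add, map_add, map_add, h₁, h₂]
    | tmul x y =>
      rw [sig_tmul, ptAct_tmul, LinearMap.rTensor_tmul]
      have sub : ∀ s : A ⊗[k] A, (g y ⊗ₜ[k] (1 : A)) * sig h s =
          Psi h g (TensorProduct.assoc k A A A (s ⊗ₜ[k] y)) := by
        intro s
        induction s using TensorProduct.induction_on with
        | zero => simp
        | add s₁ s₂ h₁ h₂ => rw [map_add, mul_add, add_tmul, map_add, map_add, h₁, h₂]
        | tmul x' x'' =>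
          rw [sig_tmul, TensorProduct.assoc_tmul, Psi_tmul,
            Algebra.TensorProduct.tmul_mul_tmul, one_mul, mul_comm]
      exact sub _
  rw [e2, e1, Coalgebra.coassoc_apply]

theorem ptAct_comm (h g : A →ₐ[k] R)
    (hc : WithConv.toConv g * WithConv.toConv h = WithConv.toConv h * WithConv.toConv g)
    (v : R ⊗[k] A) :
    MadRed.ptAct k A R h (MadRed.ptAct k A R g v) =
      MadRed.ptAct k A R g (MadRed.ptAct k A R h v) := by
  induction v using TensorProduct.induction_on with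
  | zero => simp
  | add v₁ v₂ h₁ h₂ => rw [map_add, map_add, map_add, map_add, h₁, h₂]
  | tmul r a =>
    have e : ∀ (f : A →ₐ[k] R), MadRed.ptAct k A R f (r ⊗ₜ[k] a) =
        (r ⊗ₜ[k] (1 : A)) * MadRed.translAux k A R f a := by
      intro f
      rw [ptAct_tmul, translAux_eq]
    have e' : ∀ (f : A →ₐ[k] R), MadRed.ptAct k A R f (r ⊗ₜ[k] (1 : A)) = r ⊗ₜ[k] (1 : A) := by
      intro f
      have : (r ⊗ₜ[k] (1 : A)) = algebraMap R (R ⊗[k] A) r := rfl
      rw [this, AlgHom.commutes]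
    rw [e g, e h, map_mul, map_mul, e', e', ptAct_translAux, ptAct_translAux, hc]

/-- every element lies in a finite-dimensional right coideal -/
theorem exists_coideal (a : A) : ∃ W : Submodule k A, W.FG ∧ a ∈ W ∧
    ∀ w ∈ W, Coalgebra.comul (R := k) w ∈
      LinearMap.range (TensorProduct.map W.subtype (LinearMap.id : A →ₗ[k] A)) := by
  classical
  obtain ⟨b⟩ : Nonempty (Module.Basis (Module.Basis.ofVectorSpaceIndex k A) k A) :=
    ⟨Module.Basis.ofVectorSpace k A⟩
  obtain ⟨c, hc⟩ := TensorProduct.eq_repr_basis_right b (Coalgebra.comul (R := k) a)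
  obtain ⟨W, hW⟩ : ∃ W : Submodule k A, W = Submodule.span k (c '' (c.support : Set _)) :=
    ⟨_, rfl⟩
  have hcW : ∀ j, c j ∈ W := by
    intro j
    by_cases hj : j ∈ c.support
    · rw [hW]
      exact Submodule.subset_span ⟨j, hj, rfl⟩
    · rw [Finsupp.notMem_support_iff.mp hj]
      exact W.zero_mem
  refine ⟨W, ?_, ?_, ?_⟩
  · rw [hW]
    exact Submodule.fg_span ((Finset.finite_toSet _).image _)
  · -- a = Σ ε(b j) • c j
    have h1 := Coalgebra.lTensor_counit_comul (R := k) a
    rw [← hc] at h1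
    have h2 := congrArg (TensorProduct.rid k A) h1
    rw [TensorProduct.rid_tmul, one_smul] at h2
    rw [← h2, Finsupp.sum, map_sum, map_sum]
    refine Submodule.sum_mem _ (fun j _ => ?_)
    rw [LinearMap.lTensor_tmul, TensorProduct.rid_tmul]
    exact W.smul_mem _ (hcW j)
  · -- coideal property
    obtain ⟨𝒲, h𝒲⟩ : ∃ 𝒲 : Submodule k (A ⊗[k] A),
        𝒲 = LinearMap.range (TensorProduct.map W.subtype (LinearMap.id : A →ₗ[k] A)) :=
      ⟨_, rfl⟩
    rw [← h𝒲]
    have hgen : ∀ j₀, Coalgebra.comul (R := k) (c j₀) ∈ 𝒲 := by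
      intro j₀
      obtain ⟨π, hπ⟩ : ∃ π : A ⊗[k] (A ⊗[k] A) →ₗ[k] A ⊗[k] A,
          π = (TensorProduct.rid k (A ⊗[k] A)).toLinearMap ∘ₗ
            (LinearMap.lTensor (A ⊗[k] A) (b.coord j₀)) ∘ₗ
            (TensorProduct.assoc k A A A).symm.toLinearMap := ⟨_, rfl⟩
      have hπ1 : ∀ (s : A ⊗[k] A) (z : A),
          π (TensorProduct.assoc k A A A (s ⊗ₜ[k] z)) = b.coord j₀ z • s := by
        intro s z
        rw [hπ]
        simp
      have hπ2 : ∀ (x : A), x ∈ W → ∀ s : A ⊗[k] A, π (x ⊗ₜ[k] s) ∈ 𝒲 := by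
        intro x hx s
        induction s using TensorProduct.induction_on with
        | zero => rw [tmul_zero, map_zero]; exact 𝒲.zero_mem
        | add s₁ s₂ h₁ h₂ => rw [tmul_add, map_add]; exact 𝒲.add_mem h₁ h₂
        | tmul y z =>
          have : π (x ⊗ₜ[k] (y ⊗ₜ[k] z)) = b.coord j₀ z • (x ⊗ₜ[k] y) := by
            rw [hπ]
            simp
          rw [this]
          apply 𝒲.smul_mem
          rw [h𝒲]
          exact ⟨(⟨x, hx⟩ : W) ⊗ₜ[k] y, by simp⟩
      have hco := Coalgebra.coassoc_apply (R := k) a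
      rw [← hc] at hco
      have hco' := congrArg π hco
      rw [Finsupp.sum, map_sum, map_sum, map_sum, map_sum, map_sum] at hco'
      have hL : ∑ j ∈ c.support, π (TensorProduct.assoc k A A A
          ((Coalgebra.comul (R := k) (A := A)).rTensor A (c j ⊗ₜ[k] b j))) =
          Coalgebra.comul (R := k) (c j₀) := by
        have : ∀ j ∈ c.support, π (TensorProduct.assoc k A A A
            ((Coalgebra.comul (R := k) (A := A)).rTensor A (c j ⊗ₜ[k] b j))) =
            if j = j₀ then Coalgebra.comul (R := k) (c j) else 0 := by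
          intro j _
          rw [LinearMap.rTensor_tmul, hπ1, Module.Basis.coord_apply, Module.Basis.repr_self,
            Finsupp.single_apply]
          split_ifs <;> simp
        rw [Finset.sum_congr rfl this, Finset.sum_ite_eq']
        split_ifs with hj
        · rfl
        · rw [Finsupp.notMem_support_iff.mp hj, map_zero]
      rw [hL] at hco'
      rw [hco']
      refine Submodule.sum_mem _ (fun j _ => ?_)
      rw [LinearMap.lTensor_tmul]
      exact hπ2 _ (hcW j) _
    intro w hw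
    rw [hW] at hw
    induction hw using Submodule.span_induction with
    | mem x hx =>
      obtain ⟨j, _, rfl⟩ := hx
      exact hgen j
    | zero => rw [map_zero]; exact 𝒲.zero_mem
    | add x y _ _ hx hy => rw [map_add]; exact 𝒲.add_mem hx hy
    | smul r x _ hx => rw [map_smul]; exact 𝒲.smul_mem _ hx

end hopf

section assembly

open TensorProduct

variable {k : Type u} [Field k] {A : Type v} [CommRing A] [HopfAlgebra k A]
  {R : Type w} [CommRing R] [Algebra k R]

theorem exists_stable (v : R ⊗[k] A) : ∃ Nv : Submodule R (R ⊗[k] A), Nv.FG ∧ v ∈ Nv ∧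
    ∀ (g : A →ₐ[k] R), ∀ x ∈ Nv, MadRed.ptAct k A R g x ∈ Nv := by
  induction v using TensorProduct.induction_on with
  | zero =>
    refine ⟨⊥, Submodule.fg_bot, Submodule.zero_mem _, ?_⟩
    intro g x hx
    rw [Submodule.mem_bot] at hx
    rw [hx, map_zero]
    exact Submodule.zero_mem _
  | add v₁ v₂ h₁ h₂ =>
    obtain ⟨N₁, f₁, m₁, s₁⟩ := h₁
    obtain ⟨N₂, f₂, m₂, s₂⟩ := h₂
    refine ⟨N₁ ⊔ N₂, f₁.sup f₂, Submodule.add_mem_sup m₁ m₂, ?_⟩
    intro g x hx
    obtain ⟨x₁, hx₁, x₂, hx₂, rfl⟩ := Submodule.mem_sup.mp hx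
    rw [map_add]
    exact Submodule.add_mem_sup (s₁ g _ hx₁) (s₂ g _ hx₂)
  | tmul r a =>
    obtain ⟨W, hWfg, haW, hWco⟩ := exists_coideal (k := k) a
    have : Module.Finite k W := Module.Finite.iff_fg.mpr hWfg
    refine ⟨LinearMap.range (LinearMap.baseChange R W.subtype), ?_, ?_, ?_⟩
    · rw [LinearMap.range_eq_map]
      exact (Module.Finite.fg_top).map _
    · exact ⟨r ⊗ₜ[k] (⟨a, haW⟩ : W), by simp⟩
    · intro g x hx
      obtain ⟨t, rfl⟩ := hx
      induction t using TensorProduct.induction_on with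
      | zero => simp
      | add t₁ t₂ h₁ h₂ => rw [map_add, map_add]; exact Submodule.add_mem _ h₁ h₂
      | tmul r' w =>
        rw [LinearMap.baseChange_tmul, Submodule.subtype_apply, ptAct_tmul]
        obtain ⟨u, hu⟩ := hWco w w.2
        rw [← hu]
        have : ∀ u : W ⊗[k] A, (r' ⊗ₜ[k] (1 : A)) *
            sig g (TensorProduct.map W.subtype (LinearMap.id : A →ₗ[k] A) u) ∈
            LinearMap.range (LinearMap.baseChange R W.subtype) := by
          intro u
          induction u using TensorProduct.induction_on with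
          | zero => simp
          | add u₁ u₂ h₁ h₂ =>
            rw [map_add, map_add, mul_add]; exact Submodule.add_mem _ h₁ h₂
          | tmul w' a' =>
            rw [TensorProduct.map_tmul, LinearMap.id_apply, Submodule.subtype_apply, sig_tmul,
              Algebra.TensorProduct.tmul_mul_tmul, one_mul]
            exact ⟨(r' * g a') ⊗ₜ[k] w', by simp⟩
        exact this u

end assembly

section mainsec
attribute [local irreducible] MadRed.ptAct
open TensorProduct in
theorem main_aux (k : Type u) [Field k]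
    (A : Type v) [CommRing A] [HopfAlgebra k A] (R : Type w) [CommRing R] [Algebra k R]
    [IsNoetherianRing R] (H : Set (A →ₐ[k] R))
    (hcomm : ∀ g ∈ H, ∀ h ∈ H,
      WithConv.toConv g * WithConv.toConv h = WithConv.toConv h * WithConv.toConv g)
    (hdiag : ∀ g ∈ H, ⨆ μ : k,
      Module.End.eigenspace (((MadRed.ptAct k A R g).toLinearMap).restrictScalars k) μ = ⊤) :
    ⨆ χ : H → k, ⨅ g : H,
      Module.End.eigenspace (((MadRed.ptAct k A R g.1).toLinearMap).restrictScalars k) (χ g) = ⊤ := by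
  classical
  rw [eq_top_iff]
  intro v _
  obtain ⟨Nv, hfg, hv, hst⟩ := exists_stable (k := k) (A := A) (R := R) v
  have : IsNoetherian R Nv := isNoetherian_of_fg_of_noetherian Nv hfg
  obtain ⟨S, hS⟩ : ∃ S : Submodule k (R ⊗[k] A), S = ⨆ χ : H → k, ⨅ g : H,
      Module.End.eigenspace (((MadRed.ptAct k A R g.1).toLinearMap).restrictScalars k) (χ g) :=
    ⟨_, rfl⟩
  rw [← hS]
  have hSsmul : ∀ (r : R) (s : R ⊗[k] A), s ∈ S → r • s ∈ S := by
    intro r s hs
    rw [hS] at hs
    refine Submodule.iSup_induction _ (motive := fun s => r • s ∈ S) hs ?_ ?_ ?_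
    · intro χ x hx
      rw [hS]
      refine Submodule.mem_iSup_of_mem χ ?_
      rw [Submodule.mem_iInf] at hx ⊢
      intro g
      have h1 := hx g
      rw [Module.End.mem_eigenspace_iff] at h1 ⊢
      change MadRed.ptAct k A R g.1 x = χ g • x at h1
      change MadRed.ptAct k A R g.1 (r • x) = χ g • r • x
      rw [map_smul, h1, smul_comm]
    · rw [smul_zero]; exact S.zero_mem
    · intro x y hx hy
      rw [smul_add]; exact S.add_mem hx hy
  obtain ⟨T', hT'⟩ : ∃ T' : H → (Nv →ₗ[R] Nv),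
      T' = fun g => ((MadRed.ptAct k A R g.1).toLinearMap).restrict (hst g.1) := ⟨_, rfl⟩
  have hT'app : ∀ (g : H) (x : Nv), ((T' g x : Nv) : R ⊗[k] A) = MadRed.ptAct k A R g.1 x := by
    intro g x; rw [hT']; rfl
  have hAL := AL (k := k) T'
    (by
      intro i j x
      apply Subtype.ext
      rw [hT'app, hT'app, hT'app, hT'app]
      exact ptAct_comm _ _ (hcomm j.1 j.2 i.1 i.2) x)
    (by
      intro g x
      have hx : (x : R ⊗[k] A) ∈ ⨆ μ : k, Module.End.eigenspace
          (((MadRed.ptAct k A R g.1).toLinearMap).restrictScalars k) μ := by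
        rw [hdiag g.1 g.2]; trivial
      obtain ⟨f, hf, hfsum⟩ := (Submodule.mem_iSup_iff_exists_finsupp _ _).mp hx
      have hfe : ∀ μ, MadRed.ptAct k A R g.1 (f μ) = μ • f μ := by
        intro μ
        have := hf μ
        rw [Module.End.mem_eigenspace_iff] at this
        exact this
      have hfN : ∀ μ ∈ f.support, f μ ∈ Nv :=
        L1 ((MadRed.ptAct k A R g.1).toLinearMap) Nv (hst g.1) f.support f
          (fun μ _ => hfe μ) (by have := x.2; rw [← hfsum] at this; exact this)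
      refine ⟨f.support, fun μ => if h : f μ ∈ Nv then ⟨f μ, h⟩ else 0, ?_, ?_⟩
      · intro μ hμ
        beta_reduce
        rw [dif_pos (hfN μ hμ)]
        apply Subtype.ext
        rw [hT'app]
        exact hfe μ
      · apply Subtype.ext
        rw [← hfsum, Finsupp.sum, Submodule.coe_sum]
        apply Finset.sum_congr rfl
        intro μ hμ
        beta_reduce
        rw [dif_pos (hfN μ hμ)])
  have hvmem : (⟨v, hv⟩ : Nv) ∈
      Submodule.span R {y : Nv | ∃ χ : H → k, ∀ i, T' i y = χ i • y} := by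
    rw [hAL]; trivial
  have hfin : ∀ y : Nv, y ∈ Submodule.span R {y : Nv | ∃ χ : H → k, ∀ i, T' i y = χ i • y} →
      (y : R ⊗[k] A) ∈ S := by
    intro y hy
    induction hy using Submodule.span_induction with
    | mem y hy =>
      obtain ⟨χ, hχ⟩ := hy
      rw [hS]
      refine Submodule.mem_iSup_of_mem χ ?_
      rw [Submodule.mem_iInf]
      intro g
      rw [Module.End.mem_eigenspace_iff]
      have := congrArg Subtype.val (hχ g)
      rw [hT'app] at this
      exact this
    | zero => exact S.zero_mem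
    | add a b _ _ ha hb => exact S.add_mem ha hb
    | smul r a _ ha => exact hSsmul r _ ha
  exact hfin ⟨v, hv⟩ hvmem

end mainsec

/-- Let k be a field, G = Spec A an affine k-group with A a commutative Hopf algebra over k, and R a
commutative Noetherian k-algebra, so that R ⊗ A is the coordinate ring of the base change G_R and
the k-algebra maps A → R are its R-valued points. Let H be a set of R-valued points which pairwise
commute for the convolution product of G(R) (the case of an abelian subgroup of G(R)). If every g in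
H is diagonalizable over k on R ⊗ A, meaning that the eigenspaces of right translation by g, for
eigenvalues in k, span R ⊗ A, then H is simultaneously diagonalizable over k on R ⊗ A: the common
eigenspaces of the right translations by all g in H span R ⊗ A. The standing assumptions of the
source at this point (k algebraically closed of characteristic zero, G reductive) are not used. -/
theorem result (k : Type u) [Field k]
    (A : Type v) [CommRing A] [HopfAlgebra k A] (R : Type w) [CommRing R] [Algebra k R]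
    [IsNoetherianRing R] (H : Set (A →ₐ[k] R))
    (hcomm : ∀ g ∈ H, ∀ h ∈ H,
      WithConv.toConv g * WithConv.toConv h = WithConv.toConv h * WithConv.toConv g)
    (hdiag : ∀ g ∈ H, ⨆ μ : k,
      Module.End.eigenspace (((MadRed.ptAct k A R g).toLinearMap).restrictScalars k) μ = ⊤) :
    ⨆ χ : H → k, ⨅ g : H,
      Module.End.eigenspace (((MadRed.ptAct k A R g.1).toLinearMap).restrictScalars k) (χ g) = ⊤ := by
  exact main_aux k A R H hcomm hdiag

end Groth.Agent.S16160
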