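import Groth.Statements.S16161
import Mathlib.RingTheory.RootsOfUnity.AlgebraicallyClosed
import Mathlib.RingTheory.Polynomial.Cyclotomic.Basic
import Mathlib.RingTheory.Polynomial.Basic

set_option autoImplicit false
universe u v
open MadRed

namespace Groth.Agent.S16161

/-- Let k be an algebraically closed field of characteristic zero and R a reduced finitely generated
commutative k-algebra whose spectrum is connected (R has no idempotents besides 0 and 1); let W =
R^n be a free R-module of finite rank and g an R-linear endomorphism of W of finite order, g^m = 1
with m > 0 (an element of finite order of GL(W)(R)). Then the action of g on W is diagonalizable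
over k: viewing g as a k-linear map, its eigenspaces for eigenvalues in k span W. The source also
assumes that g is diagonalizable over k on every fibre W ⊗ k(x), x a point of Spec R; for g of
finite order this holds automatically (k is algebraically closed of characteristic zero), as the
source itself notes, so that hypothesis is omitted. -/
theorem result
    (k : Type u) [Field k] [IsAlgClosed k] [CharZero k]
    (R : Type v) [CommRing R] [Algebra k R] [IsReduced R] [Algebra.FiniteType k R]
    (hconn : ∀ e : R, IsIdempotentElem e → e = 0 ∨ e = 1)
    (n : ℕ) (g : Module.End R (Fin n → R)) (m : ℕ) (hm : 0 < m) (hg : g ^ m = 1) :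
    ⨆ μ : k, Module.End.eigenspace (g.restrictScalars k) μ = ⊤ := by
  classical
  set G : Module.End k (Fin n → R) := g.restrictScalars k with hG
  have hiter : ∀ (j : ℕ) (v : Fin n → R), (G ^ j) v = (g ^ j) v := by
    intro j v
    induction j generalizing v with
    | zero => simp
    | succ j ih =>
      rw [pow_succ, pow_succ, Module.End.mul_apply, Module.End.mul_apply, ih]
      rfl
  have hGm : G ^ m = 1 := by
    apply LinearMap.ext
    intro v
    rw [hiter, hg]
    rfl
  have : NeZero (m : k) := ⟨by exact_mod_cast hm.ne'⟩
  obtain ⟨ζ, hζ⟩ := HasEnoughRootsOfUnity.exists_primitiveRoot k m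
  have hprod := Polynomial.X_pow_sub_one_eq_prod hm hζ
  have key : ∀ s : Finset k,
      LinearMap.ker (Polynomial.aeval G (∏ μ ∈ s, (Polynomial.X - Polynomial.C μ))) =
        ⨆ μ ∈ s, LinearMap.ker (Polynomial.aeval G (Polynomial.X - Polynomial.C μ)) := by
    intro s
    induction s using Finset.induction_on with
    | empty =>
      simp only [Finset.prod_empty, map_one, Finset.notMem_empty, iSup_false, iSup_bot]
      exact LinearMap.ker_eq_bot.mpr (fun a b h => h)
    | insert a s ha ih =>
      rw [Finset.prod_insert ha, Finset.iSup_insert, ← ih]
      symm
      apply Polynomial.sup_ker_aeval_eq_ker_aeval_mul_of_coprime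
      apply IsCoprime.prod_right
      intro μ hμ
      apply Polynomial.isCoprime_X_sub_C_of_isUnit_sub
      exact (sub_ne_zero_of_ne (fun h : a = μ => ha (h ▸ hμ))).isUnit
  have htop : LinearMap.ker (Polynomial.aeval G
      (∏ μ ∈ Polynomial.nthRootsFinset m (1 : k), (Polynomial.X - Polynomial.C μ))) = ⊤ := by
    rw [← hprod]
    simp [hGm]
  rw [key] at htop
  rw [eq_top_iff, ← htop]
  refine iSup₂_le (fun μ _ => le_trans ?_ (le_iSup _ μ))
  intro v hv
  rw [LinearMap.mem_ker] at hv
  rw [Module.End.mem_eigenspace_iff]
  simpa [sub_eq_zero, Module.algebraMap_end_apply] using hv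

end Groth.Agent.S16161
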