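import Groth.Statements.S16162
import Mathlib.AlgebraicGeometry.Morphisms.UniversallyOpen
import Mathlib.AlgebraicGeometry.PullbackCarrier

set_option autoImplicit false
open CategoryTheory MonoidalCategory CartesianMonoidalCategory MonObj GrpObj AlgebraicGeometry
universe u
open MadRed

namespace Groth.Agent.S16162

/-- Let S be a scheme, G a group scheme over S, and X an S-scheme with an action of G making X → S a
principal G-bundle (a torsor in the representable fppf sense: X → S surjective, flat and locally of
finite presentation, and G ×_S X → X ×_S X, (g, x) ↦ (g·x, x), an isomorphism). Let P be a closed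
subset of X stable under the action: the action map sends into P every point of G ×_S X whose second
projection lies in P. Then the image of P in S is closed, and P is the full preimage of its image.
(The source works with varieties over the complex numbers and an affine algebraic group; the
assertion holds over any base. Its second assertion, that P → image is again a principal bundle for
the induced reduced structures, then comes from base change and is not part of this row.) -/
theorem result {S : Scheme.{u}}
    {G X : Over S} [GrpObj G] (a : AlgGrp.Action G X) (ha : RedSub.IsTorsor a)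
    (P : Set X.left) (hP : IsClosed P)
    (hstab : ∀ w : (G ⊗ X).left, (snd G X).left.base w ∈ P → a.act.left.base w ∈ P) :
    IsClosed (X.hom.base '' P) ∧ X.hom.base ⁻¹' (X.hom.base '' P) = P := by
  obtain ⟨hsurj, hflat, hlfp, hiso⟩ := ha
  have hsat : X.hom.base ⁻¹' (X.hom.base '' P) = P := by
    apply Set.Subset.antisymm
    · rintro x ⟨x', hx'P, hxx'⟩
      obtain ⟨z, hz1, hz2⟩ := Scheme.Pullback.exists_preimage_pullback (f := X.hom) (g := X.hom)
        x x' hxx'.symm
      have hφ1 : lift a.act (snd G X) ≫ fst X X = a.act := lift_fst _ _
      have hφ2 : lift a.act (snd G X) ≫ snd X X = snd G X := lift_snd _ _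
      have hinv : inv (lift a.act (snd G X)) ≫ a.act = fst X X :=
        (IsIso.inv_comp_eq _).mpr hφ1.symm
      have hinv2 : inv (lift a.act (snd G X)) ≫ snd G X = snd X X :=
        (IsIso.inv_comp_eq _).mpr hφ2.symm
      let w : (G ⊗ X).left := (inv (lift a.act (snd G X))).left.base z
      have h1 : a.act.left.base w = x := by
        have := congrArg (fun m : X ⊗ X ⟶ X => m.left.base z) hinv
        simp only [Over.comp_left, Scheme.Hom.comp_base] at this
        rw [← hz1]
        exact this
      have h2 : (snd G X).left.base w = x' := by
        have := congrArg (fun m : X ⊗ X ⟶ X => m.left.base z) hinv2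
        simp only [Over.comp_left, Scheme.Hom.comp_base] at this
        rw [← hz2]
        exact this
      rw [← h1]
      exact hstab w (by rw [h2]; exact hx'P)
    · exact Set.subset_preimage_image _ _
  refine ⟨?_, hsat⟩
  have hopen : IsOpenMap X.hom.base := X.hom.isOpenMap
  rw [← isOpen_compl_iff]
  have hcompl : (X.hom.base '' P)ᶜ = X.hom.base '' Pᶜ := by
    ext s
    constructor
    · intro hs
      obtain ⟨x, rfl⟩ := hsurj.surj s
      exact ⟨x, fun hxP => hs ⟨x, hxP, rfl⟩, rfl⟩
    · rintro ⟨x, hxP, rfl⟩ ⟨x', hx'P, hxx'⟩
      apply hxP
      rw [← hsat]
      exact ⟨x', hx'P, hxx'⟩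
  rw [hcompl]
  exact hopen _ hP.isOpen_compl

end Groth.Agent.S16162
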