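import Groth.Statements.S16164
import Mathlib.Tactic.Ring
import Mathlib.Tactic.Linarith
import Mathlib.LinearAlgebra.BilinearForm.Basic

set_option autoImplicit false
open Neron

namespace Groth.Agent.S16164

/-- Abstract core: orthogonal-decomposition argument by induction on the norm. -/
theorem core {X Y₁ Y₂ : Type*} [AddCommGroup X] [AddCommGroup Y₁] [AddCommGroup Y₂]
    (P : X →ₗ[ℤ] Y₁) (Q : X →ₗ[ℤ] Y₂) (hP : Function.Surjective P) (hQ : Function.Surjective Q)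
    (B₁ : Y₁ →ₗ[ℤ] Y₁ →ₗ[ℤ] ℤ) (B₂ : Y₂ →ₗ[ℤ] Y₂ →ₗ[ℤ] ℤ)
    (hs₁ : ∀ u v, B₁ u v = B₁ v u) (hs₂ : ∀ u v, B₂ u v = B₂ v u)
    (hp₁ : ∀ y, y ≠ 0 → 0 < B₁ y y) (hp₂ : ∀ y, y ≠ 0 → 0 < B₂ y y)
    (H : ∀ y₁ y₂, ∃ x, ∀ x', B₁ (P x') (y₁ - P x) + B₂ (Q x') (y₂ - Q x) = 0) :
    ∀ y₁ y₂, ∃ x, P x = y₁ ∧ Q x = y₂ := by
  have hn₁ : ∀ y, 0 ≤ B₁ y y := by
    intro y
    by_cases h : y = 0
    · simp [h]
    · exact (hp₁ y h).le
  have hn₂ : ∀ y, 0 ≤ B₂ y y := by
    intro y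
    by_cases h : y = 0
    · simp [h]
    · exact (hp₂ y h).le
  have main : ∀ n : ℕ, ∀ y₁ y₂, B₁ y₁ y₁ + B₂ y₂ y₂ < n → ∃ x, P x = y₁ ∧ Q x = y₂ := by
    intro n
    induction n with
    | zero =>
      intro y₁ y₂ h
      have := hn₁ y₁
      have := hn₂ y₂
      simp only [Nat.cast_zero] at h
      linarith
    | succ n ih =>
      intro y₁ y₂ h
      have hle : B₁ y₁ y₁ + B₂ y₂ y₂ ≤ n := by
        have : ((n + 1 : ℕ) : ℤ) = (n : ℤ) + 1 := by push_cast; ring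
        rw [this] at h
        linarith
      by_cases hb : y₁ ≠ 0 ∧ y₂ ≠ 0
      · obtain ⟨h1, h2⟩ := hb
        have hq1 := hp₁ y₁ h1
        have hq2 := hp₂ y₂ h2
        obtain ⟨x₁, hx₁, hx₁'⟩ := ih y₁ 0 (by simp only [map_zero, LinearMap.zero_apply]; linarith)
        obtain ⟨x₂, hx₂, hx₂'⟩ := ih 0 y₂ (by simp only [map_zero, LinearMap.zero_apply]; linarith)
        exact ⟨x₁ + x₂, by simp [hx₁, hx₂], by simp [hx₁', hx₂']⟩
      · obtain ⟨x, hx⟩ := H y₁ y₂
        by_cases hl : P x = 0 ∧ Q x = 0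
        · have hN : ∀ x', B₁ (P x') y₁ + B₂ (Q x') y₂ = 0 := by
            intro x'
            have := hx x'
            simpa [hl.1, hl.2] using this
          rcases not_and_or.mp hb with h' | h'
          · have h1 : y₁ = 0 := not_not.mp h'
            obtain ⟨x', hx'⟩ := hQ y₂
            have e := hN x'
            rw [h1, hx'] at e
            simp only [map_zero, zero_add] at e
            have h2 : y₂ = 0 := by
              by_contra hne
              exact (hp₂ y₂ hne).ne' e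
            exact ⟨0, by simp [h1], by simp [h2]⟩
          · have h2 : y₂ = 0 := not_not.mp h'
            obtain ⟨x', hx'⟩ := hP y₁
            have e := hN x'
            rw [h2, hx'] at e
            simp only [map_zero, add_zero] at e
            have h1 : y₁ = 0 := by
              by_contra hne
              exact (hp₁ y₁ hne).ne' e
            exact ⟨0, by simp [h1], by simp [h2]⟩
        · have hql : 0 < B₁ (P x) (P x) + B₂ (Q x) (Q x) := by
            rcases not_and_or.mp hl with h' | h'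
            · have := hp₁ _ h'
              have := hn₂ (Q x)
              linarith
            · have := hp₂ _ h'
              have := hn₁ (P x)
              linarith
          have horth := hx x
          have hqz : B₁ (y₁ - P x) (y₁ - P x) + B₂ (y₂ - Q x) (y₂ - Q x) =
              (B₁ y₁ y₁ + B₂ y₂ y₂) - (B₁ (P x) (P x) + B₂ (Q x) (Q x)) := by
            simp only [map_sub, LinearMap.sub_apply] at horth ⊢
            rw [hs₁ y₁ (P x), hs₂ y₂ (Q x)]
            linarith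
          obtain ⟨x₂, h1, h2⟩ := ih (y₁ - P x) (y₂ - Q x) (by linarith)
          exact ⟨x + x₂, by simp [h1], by simp [h2]⟩
  intro y₁ y₂
  have hq : 0 ≤ B₁ y₁ y₁ + B₂ y₂ y₂ := add_nonneg (hn₁ _) (hn₂ _)
  refine main ((B₁ y₁ y₁ + B₂ y₂ y₂).toNat + 1) y₁ y₂ ?_
  have : (((B₁ y₁ y₁ + B₂ y₂ y₂).toNat + 1 : ℕ) : ℤ) = (B₁ y₁ y₁ + B₂ y₂ y₂) + 1 := by
    push_cast
    rw [Int.toNat_of_nonneg hq]
  rw [this]
  linarith

/-- The bilinear form of a square integer matrix, without decidability assumptions. -/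
def bil {κ : Type} [Fintype κ] (M : Matrix κ κ ℤ) : (κ → ℤ) →ₗ[ℤ] (κ → ℤ) →ₗ[ℤ] ℤ :=
  LinearMap.mk₂ ℤ (fun u v => u ⬝ᵥ M.mulVec v)
    (fun u u' v => add_dotProduct u u' _)
    (fun c u v => smul_dotProduct c u _)
    (fun u v v' => by simp only [Matrix.mulVec_add, dotProduct_add])
    (fun c u v => by simp only [Matrix.mulVec_smul, dotProduct_smul])

theorem bil_apply {κ : Type} [Fintype κ] (M : Matrix κ κ ℤ) (u v : κ → ℤ) :
    bil M u v = u ⬝ᵥ M.mulVec v := rfl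

theorem bil_symm {κ : Type} [Fintype κ] (M : Matrix κ κ ℤ) (hM : M.IsSymm) (u v : κ → ℤ) :
    bil M u v = bil M v u := by
  rw [bil_apply, bil_apply, Matrix.dotProduct_mulVec, dotProduct_comm, ← Matrix.mulVec_transpose,
    hM.eq]


/-- Let X, Y₁, Y₂ be finitely generated free abelian groups with chosen bases, so that homomorphisms are
integer matrices acting on column vectors and each group is identified with its dual; let P : X → Y₁
and Q : X → Y₂ be surjective with A = (P over Q) : X → Y₁ ⊕ Y₂ injective, and let Ψ₁, Ψ₂ be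
symmetric positive-definite integer matrices on Y₁ and Y₂, Ψ their block-diagonal sum. If the image
of Aᵀ Ψ : Y₁ ⊕ Y₂ → X coincides with the image of Aᵀ Ψ A : X → X (the reverse inclusion always
holds), then A is bijective. (In the source X, Y₁, Y₂ are character groups of maximal tori, P and Q
specialization maps, Ψ₁ and Ψ₂ monodromy pairings, and the hypothesis expresses that two groups of
components coincide.) -/
theorem result
    {ι κ₁ κ₂ : Type} [Fintype ι] [Fintype κ₁] [Fintype κ₂]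
    (P : Matrix κ₁ ι ℤ) (Q : Matrix κ₂ ι ℤ)
    (hP : Function.Surjective P.mulVec) (hQ : Function.Surjective Q.mulVec)
    (hA : Function.Injective (Matrix.fromRows P Q).mulVec)
    (Ψ₁ : Matrix κ₁ κ₁ ℤ) (Ψ₂ : Matrix κ₂ κ₂ ℤ) (hΨ₁ : Ψ₁.IsSymm) (hΨ₂ : Ψ₂.IsSymm)
    (hΨ₁pos : ∀ y : κ₁ → ℤ, y ≠ 0 → 0 < y ⬝ᵥ Ψ₁.mulVec y)
    (hΨ₂pos : ∀ y : κ₂ → ℤ, y ≠ 0 → 0 < y ⬝ᵥ Ψ₂.mulVec y)
    (himage : LinearMap.range ((Matrix.fromRows P Q).transpose * Matrix.fromBlocks Ψ₁ 0 0 Ψ₂).mulVecLin =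
      LinearMap.range ((Matrix.fromRows P Q).transpose * Matrix.fromBlocks Ψ₁ 0 0 Ψ₂ * Matrix.fromRows P Q).mulVecLin) :
    Function.Bijective (Matrix.fromRows P Q).mulVec := by
  classical
  refine ⟨hA, ?_⟩
  have H : ∀ (y₁ : κ₁ → ℤ) (y₂ : κ₂ → ℤ), ∃ x : ι → ℤ, ∀ x' : ι → ℤ,
      bil Ψ₁ (P.mulVecLin x') (y₁ - P.mulVecLin x) + bil Ψ₂ (Q.mulVecLin x') (y₂ - Q.mulVecLin x) = 0 := by
    intro y₁ y₂
    have hmem : ((Matrix.fromRows P Q).transpose * Matrix.fromBlocks Ψ₁ 0 0 Ψ₂).mulVecLin (Sum.elim y₁ y₂) ∈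
        LinearMap.range ((Matrix.fromRows P Q).transpose * Matrix.fromBlocks Ψ₁ 0 0 Ψ₂ * Matrix.fromRows P Q).mulVecLin := by
      rw [← himage]
      exact LinearMap.mem_range_self _ _
    obtain ⟨x, hx⟩ := hmem
    refine ⟨x, fun x' => ?_⟩
    have hz : ((Matrix.fromRows P Q).transpose * Matrix.fromBlocks Ψ₁ 0 0 Ψ₂).mulVec
        (Sum.elim y₁ y₂ - (Matrix.fromRows P Q).mulVec x) = 0 := by
      rw [Matrix.mulVec_sub, Matrix.mulVec_mulVec]
      simp only [Matrix.mulVecLin_apply] at hx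
      rw [hx, sub_self]
    have h0 : x' ⬝ᵥ ((Matrix.fromRows P Q).transpose * Matrix.fromBlocks Ψ₁ 0 0 Ψ₂).mulVec
        (Sum.elim y₁ y₂ - (Matrix.fromRows P Q).mulVec x) = 0 := by
      rw [hz, dotProduct_zero]
    rw [← Matrix.mulVec_mulVec, Matrix.dotProduct_mulVec, Matrix.vecMul_transpose,
      Matrix.fromRows_mulVec, Matrix.fromBlocks_mulVec, sumElim_dotProduct_sumElim] at h0
    have e1 : (Sum.elim y₁ y₂ - (Matrix.fromRows P Q).mulVec x) ∘ Sum.inl = y₁ - P.mulVec x := by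
      ext i
      simp [Matrix.fromRows_mulVec]
    have e2 : (Sum.elim y₁ y₂ - (Matrix.fromRows P Q).mulVec x) ∘ Sum.inr = y₂ - Q.mulVec x := by
      ext i
      simp [Matrix.fromRows_mulVec]
    rw [e1, e2] at h0
    simp only [Matrix.zero_mulVec, add_zero, zero_add] at h0
    simpa [bil_apply, Matrix.mulVecLin_apply] using h0
  have hcore := core P.mulVecLin Q.mulVecLin
    (by rw [Matrix.coe_mulVecLin]; exact hP) (by rw [Matrix.coe_mulVecLin]; exact hQ)
    (bil Ψ₁) (bil Ψ₂) (bil_symm Ψ₁ hΨ₁) (bil_symm Ψ₂ hΨ₂)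
    (fun y hy => hΨ₁pos y hy) (fun y hy => hΨ₂pos y hy) H
  intro y
  obtain ⟨x, h1, h2⟩ := hcore (y ∘ Sum.inl) (y ∘ Sum.inr)
  refine ⟨x, ?_⟩
  rw [Matrix.fromRows_mulVec]
  simp only [Matrix.mulVecLin_apply] at h1 h2
  rw [h1, h2]
  exact Sum.elim_comp_inl_inr y

end Groth.Agent.S16164
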