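import Groth.Statements.S16170
import Mathlib.Tactic.Ring
import Mathlib.Tactic.Linarith
import Mathlib.Tactic.LinearCombination

set_option autoImplicit false
open Neron

namespace Groth.Agent.S16170

theorem bsymm {ι : Type} [Fintype ι] (M : Matrix ι ι ℤ) (hM : M.IsSymm) (u v : ι → ℤ) :
    u ⬝ᵥ M.mulVec v = v ⬝ᵥ M.mulVec u := by
  rw [Matrix.dotProduct_mulVec, dotProduct_comm, ← Matrix.mulVec_transpose, hM.eq]

theorem quad {ι : Type} [Fintype ι] (M N : Matrix ι ι ℤ) (hM : M.IsSymm) (hN : N.IsSymm)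
    (a b : ι → ℤ) (hab : N.mulVec a = M.mulVec b) :
    (a + b) ⬝ᵥ (M + N).mulVec (a + b) =
      a ⬝ᵥ (M + N).mulVec a + b ⬝ᵥ (M + N).mulVec b +
        2 * (a ⬝ᵥ N.mulVec a + b ⬝ᵥ M.mulVec b) := by
  have h1 : b ⬝ᵥ M.mulVec a = a ⬝ᵥ M.mulVec b := bsymm M hM b a
  have h2 : a ⬝ᵥ N.mulVec b = b ⬝ᵥ N.mulVec a := bsymm N hN a b
  have h3 : a ⬝ᵥ M.mulVec b = a ⬝ᵥ N.mulVec a := by rw [hab]
  have h4 : b ⬝ᵥ N.mulVec a = b ⬝ᵥ M.mulVec b := by rw [hab]
  simp only [Matrix.add_mulVec, Matrix.mulVec_add, dotProduct_add, add_dotProduct]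
  linear_combination h1 + h2 + 2 * h3 + 2 * h4

theorem eq_zero_of_forall_mulVec {ι : Type} [Fintype ι] [DecidableEq ι] (A : Matrix ι ι ℤ)
    (h : ∀ v : ι → ℤ, A.mulVec v = 0) : A = 0 := by
  ext i j
  have := congrFun (h (Pi.single j 1)) i
  simpa [Matrix.mulVec_single_one, Matrix.col_apply] using this


/-- Let M and N be symmetric positive-semidefinite integer matrices on the same finite index set whose
sum M + N is positive definite, and let χ₁, χ₂ be integer matrices with χ₁ + χ₂ = 1 and M χ₂ = N χ₁.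
Then χ₁ and χ₂ are idempotent. (In the intended application M = Pᵀ Ψ₁ P and N = Qᵀ Ψ₂ Q for
surjective integer matrices P, Q and positive-definite Ψ₁, Ψ₂.) -/
theorem result
    {ι : Type} [Fintype ι] [DecidableEq ι]
    (M N χ₁ χ₂ : Matrix ι ι ℤ) (hM : M.IsSymm) (hN : N.IsSymm)
    (hMpos : ∀ v : ι → ℤ, 0 ≤ v ⬝ᵥ M.mulVec v) (hNpos : ∀ v : ι → ℤ, 0 ≤ v ⬝ᵥ N.mulVec v)
    (hpos : ∀ v : ι → ℤ, v ≠ 0 → 0 < v ⬝ᵥ (M + N).mulVec v)
    (hsum : χ₁ + χ₂ = 1) (hrel : M * χ₂ = N * χ₁) :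
    χ₁ * χ₁ = χ₁ ∧ χ₂ * χ₂ = χ₂ := by
  have hχ₂ : χ₂ = 1 - χ₁ := eq_sub_of_add_eq' hsum
  have hcomm : χ₁ * χ₂ = χ₂ * χ₁ := by
    rw [hχ₂, mul_sub, sub_mul, mul_one, one_mul]
  have hqnn : ∀ v : ι → ℤ, 0 ≤ v ⬝ᵥ (M + N).mulVec v := by
    intro v
    by_cases hv : v = 0
    · simp [hv]
    · exact (hpos v hv).le
  have main : ∀ n : ℕ, ∀ v : ι → ℤ, v ⬝ᵥ (M + N).mulVec v < n → (χ₁ * χ₂).mulVec v = 0 := by
    intro n
    induction n with
    | zero =>
      intro v h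
      have := hqnn v
      simp only [Nat.cast_zero] at h
      linarith
    | succ n ih =>
      intro v h
      have hle : v ⬝ᵥ (M + N).mulVec v ≤ n := by
        have : ((n + 1 : ℕ) : ℤ) = (n : ℤ) + 1 := by push_cast; ring
        rw [this] at h
        linarith
      have hv : χ₁.mulVec v + χ₂.mulVec v = v := by
        rw [← Matrix.add_mulVec, hsum, Matrix.one_mulVec]
      have hab : N.mulVec (χ₁.mulVec v) = M.mulVec (χ₂.mulVec v) := by
        rw [Matrix.mulVec_mulVec, Matrix.mulVec_mulVec, hrel]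
      have hq := quad M N hM hN (χ₁.mulVec v) (χ₂.mulVec v) hab
      rw [hv] at hq
      have hN' := hNpos (χ₁.mulVec v)
      have hM' := hMpos (χ₂.mulVec v)
      by_cases ha : χ₁.mulVec v = 0
      · rw [hcomm, ← Matrix.mulVec_mulVec, ha, Matrix.mulVec_zero]
      · by_cases hb : χ₂.mulVec v = 0
        · rw [← Matrix.mulVec_mulVec, hb, Matrix.mulVec_zero]
        · have hqa := hpos _ ha
          have hqb := hpos _ hb
          have iha := ih (χ₁.mulVec v) (by linarith)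
          have ihb := ih (χ₂.mulVec v) (by linarith)
          calc (χ₁ * χ₂).mulVec v = (χ₁ * χ₂).mulVec (χ₁.mulVec v + χ₂.mulVec v) := by rw [hv]
            _ = 0 := by rw [Matrix.mulVec_add, iha, ihb, add_zero]
  have hzero : χ₁ * χ₂ = 0 := by
    apply eq_zero_of_forall_mulVec
    intro v
    have hq : 0 ≤ v ⬝ᵥ (M + N).mulVec v := hqnn v
    refine main ((v ⬝ᵥ (M + N).mulVec v).toNat + 1) v ?_
    have : (((v ⬝ᵥ (M + N).mulVec v).toNat + 1 : ℕ) : ℤ) = (v ⬝ᵥ (M + N).mulVec v) + 1 := by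
      push_cast
      rw [Int.toNat_of_nonneg hq]
    rw [this]
    linarith
  constructor
  · have : χ₁ * χ₁ = χ₁ * (1 - χ₂) := by rw [← hsum]; simp
    rw [this, mul_sub, mul_one, hzero, sub_zero]
  · have : χ₂ * χ₂ = χ₂ * (1 - χ₁) := by rw [← hχ₂]
    rw [this, mul_sub, mul_one, ← hcomm, hzero, sub_zero]

end Groth.Agent.S16170
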