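import Groth.Statements.S16174
import Mathlib.Tactic.Ring
import Mathlib.Tactic.Linarith
import Mathlib.Tactic.LinearCombination
import Mathlib.Algebra.Polynomial.Taylor
import Mathlib.Algebra.Polynomial.Lifts
import Mathlib.RingTheory.LocalRing.RingHom.Basic
import Mathlib.RingTheory.LocalRing.Quotient

set_option autoImplicit false
universe u
open Hensel

namespace Groth.Agent.S16174

open Polynomial IsLocalRing

/-- In a local ring, unit plus an element of the maximal ideal is a unit. -/
theorem isUnit_add_of_mem {R : Type*} [CommRing R] [IsLocalRing R] (a t : R) (ha : IsUnit a)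
    (ht : t ∈ maximalIdeal R) : IsUnit (a + t) := by
  by_contra h
  have h' : a + t ∈ maximalIdeal R := by
    rw [mem_maximalIdeal, mem_nonunits_iff]
    exact h
  have ha' : a ∈ maximalIdeal R := by
    have := Ideal.sub_mem _ h' ht
    simpa using this
  rw [mem_maximalIdeal, mem_nonunits_iff] at ha'
  exact ha' ha

/-- The quotient of a Henselian local ring by a proper ideal is Henselian. -/
theorem henselian_quotient (R : Type*) [CommRing R] [HenselianLocalRing R] (I : Ideal R)
    (hI : I ≠ ⊤) : HenselianLocalRing (R ⧸ I) := by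
  have hnt : Nontrivial (R ⧸ I) := Ideal.Quotient.nontrivial_iff.mpr hI
  have hloc : IsLocalRing (R ⧸ I) :=
    IsLocalRing.of_surjective' (Ideal.Quotient.mk I) Ideal.Quotient.mk_surjective
  have hlh : IsLocalHom (Ideal.Quotient.mk I) :=
    IsLocalHom.of_surjective (Ideal.Quotient.mk I) Ideal.Quotient.mk_surjective
  refine { toIsLocalRing := hloc, is_henselian := ?_ }
  intro f hf a₀ h₀ h₁
  obtain ⟨a, rfl⟩ := Ideal.Quotient.mk_surjective a₀
  obtain ⟨g, hg, -, hgm⟩ := Polynomial.lifts_and_natDegree_eq_and_monic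
    (Polynomial.mem_lifts_of_surjective Ideal.Quotient.mk_surjective f) hf
  subst hg
  rw [Polynomial.eval_map, Polynomial.eval₂_hom] at h₀
  rw [Polynomial.derivative_map, Polynomial.eval_map, Polynomial.eval₂_hom] at h₁
  have h₀' : g.eval a ∈ maximalIdeal R := by
    rw [mem_maximalIdeal, mem_nonunits_iff] at h₀ ⊢
    exact fun h => h₀ (h.map _)
  have h₁' : IsUnit (g.derivative.eval a) := IsUnit.of_map (Ideal.Quotient.mk I) _ h₁
  obtain ⟨b, hb, hba⟩ := HenselianLocalRing.is_henselian g hgm a h₀' h₁'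
  refine ⟨Ideal.Quotient.mk I b, ?_, ?_⟩
  · rw [IsRoot.def] at hb ⊢
    rw [Polynomial.eval_map, Polynomial.eval₂_hom, hb, map_zero]
  · rw [← map_sub]
    rw [mem_maximalIdeal, mem_nonunits_iff] at hba ⊢
    exact fun h => hba (IsUnit.of_map _ _ h)

/-- In a localisation of a valuation ring at a prime `p`, the maximal ideal is the image of `p`. -/
theorem exists_mem_of_mem_maximalIdeal {V : Type*} [CommRing V] [IsDomain V] [ValuationRing V]
    (p : Ideal V) [p.IsPrime] (S : Type*) [CommRing S] [Algebra V S] [IsLocalization.AtPrime S p]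
    [IsLocalRing S] (x : S) (hx : x ∈ maximalIdeal S) :
    ∃ v ∈ p, algebraMap V S v = x := by
  obtain ⟨a, s, rfl⟩ := IsLocalization.exists_mk'_eq p.primeCompl x
  rw [IsLocalization.AtPrime.mk'_mem_maximal_iff S p] at hx
  rcases ValuationRing.dvd_total (s : V) a with ⟨c, hc⟩ | ⟨c, hc⟩
  · refine ⟨c, ?_, ?_⟩
    · rw [hc] at hx
      exact (Ideal.IsPrime.mem_or_mem inferInstance hx).resolve_left s.2
    · rw [eq_comm, IsLocalization.mk'_eq_iff_eq_mul, hc, map_mul, mul_comm]
  · exfalso
    exact s.2 (hc ▸ Ideal.mul_mem_right c p hx)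

/-- The localisation of a Henselian valuation ring at a prime is Henselian. -/
theorem henselian_localization (V : Type*) [CommRing V] [IsDomain V] [ValuationRing V]
    [HenselianLocalRing V] (p : Ideal V) [p.IsPrime]
    (S : Type*) [CommRing S] [Algebra V S] [IsLocalization.AtPrime S p] :
    HenselianLocalRing S := by
  have hloc : IsLocalRing S := IsLocalization.AtPrime.isLocalRing S p
  refine { toIsLocalRing := hloc, is_henselian := ?_ }
  intro f hf a₀ h₀ h₁
  -- Taylor shift
  obtain ⟨g, hg⟩ : ∃ g, g = taylor a₀ f := ⟨_, rfl⟩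
  have hc0 : g.coeff 0 ∈ maximalIdeal S := by rw [hg, taylor_coeff_zero]; exact h₀
  have hc1 : IsUnit (g.coeff 1) := by rw [hg, taylor_coeff_one]; exact h₁
  obtain ⟨c₁u, hc₁u⟩ := hc1
  have hn1 : 1 ≤ g.natDegree := le_natDegree_of_ne_zero (by rw [← hc₁u]; exact c₁u.ne_zero)
  obtain ⟨m, hm⟩ : ∃ m, g.natDegree = m + 1 := ⟨g.natDegree - 1, by omega⟩
  obtain ⟨u, hu⟩ : ∃ u : S, u = g.coeff 0 * ↑c₁u⁻¹ := ⟨_, rfl⟩
  have hum : u ∈ maximalIdeal S := by rw [hu]; exact Ideal.mul_mem_right _ _ hc0
  have hd : ∀ j : ℕ, ∃ v ∈ p, algebraMap V S v = g.coeff (j + 2) * u ^ (j + 1) * ↑c₁u⁻¹ := by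
    intro j
    apply exists_mem_of_mem_maximalIdeal
    apply Ideal.mul_mem_right
    apply Ideal.mul_mem_left
    exact Ideal.pow_mem_of_mem _ hum _ (Nat.succ_pos j)
  choose δ hδp hδ using hd
  -- the auxiliary monic polynomial over `V`
  obtain ⟨q, hq⟩ : ∃ q : V[X], q = ∑ j ∈ Finset.range m, C (δ j) * X ^ (m - 1 - j) := ⟨_, rfl⟩
  obtain ⟨r, hr⟩ : ∃ r : V[X], r = X ^ (m + 1) + (X ^ m + q) := ⟨_, rfl⟩
  have hqdeg : q.degree < ((m + 1 : ℕ) : WithBot ℕ) := by
    rw [hq]
    refine lt_of_le_of_lt (degree_sum_le _ _) ?_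
    rw [Finset.sup_lt_iff (WithBot.bot_lt_coe _)]
    intro j _
    refine lt_of_le_of_lt (degree_C_mul_X_pow_le _ _) ?_
    exact_mod_cast (by omega : m - 1 - j < m + 1)
  have hrm : r.Monic := by
    rw [hr]
    apply monic_X_pow_add
    refine lt_of_le_of_lt (degree_add_le _ _) (max_lt ?_ hqdeg)
    refine lt_of_le_of_lt (degree_X_pow_le _) ?_
    exact_mod_cast Nat.lt_succ_self m
  have hqeval : ∀ x : V, q.eval x ∈ p := by
    intro x
    rw [hq, eval_finsetSum]
    refine Submodule.sum_mem _ fun j _ => ?_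
    rw [eval_mul, eval_C]
    exact Ideal.mul_mem_right _ _ (hδp j)
  have hq'eval : ∀ x : V, q.derivative.eval x ∈ p := by
    intro x
    rw [hq, derivative_sum, eval_finsetSum]
    refine Submodule.sum_mem _ fun j _ => ?_
    rw [derivative_C_mul, eval_mul, eval_C]
    exact Ideal.mul_mem_right _ _ (hδp j)
  have hple : p ≤ maximalIdeal V := le_maximalIdeal_of_isPrime p
  have hr0 : r.eval (-1) ∈ maximalIdeal V := by
    have : r.eval (-1) = q.eval (-1) := by
      rw [hr]
      simp only [eval_add, eval_pow, eval_X]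
      ring
    rw [this]
    exact hple (hqeval _)
  have hder : r.derivative.eval (-1) = (-1) ^ m + q.derivative.eval (-1) := by
    have : r = X ^ m * (X + 1) + q := by rw [hr]; ring
    rw [this, derivative_add, derivative_mul, eval_add, eval_add, eval_mul, eval_mul]
    simp
  have hunit : IsUnit (r.derivative.eval (-1)) := by
    rw [hder]
    exact isUnit_add_of_mem _ _ ((isUnit_one.neg).pow m) (hple (hq'eval _))
  obtain ⟨ω, hω, hω1⟩ := HenselianLocalRing.is_henselian r hrm (-1) hr0 hunit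
  have hωu : IsUnit ω := by
    have := isUnit_add_of_mem (-1 : V) (ω - -1) (isUnit_one.neg) hω1
    simpa using this
  obtain ⟨ωu, rfl⟩ := hωu
  obtain ⟨W, hW⟩ : ∃ W : S, W = algebraMap V S ↑ωu := ⟨_, rfl⟩
  obtain ⟨w, hw⟩ : ∃ w : S, w = algebraMap V S ↑ωu⁻¹ := ⟨_, rfl⟩
  have hwW : w * W = 1 := by
    rw [hw, hW, ← map_mul, Units.inv_mul, map_one]
  -- the root equation transported to `S`
  have hroot : W ^ (m + 1) + (W ^ m +
      ∑ j ∈ Finset.range m, (g.coeff (j + 2) * u ^ (j + 1) * ↑c₁u⁻¹) * W ^ (m - 1 - j)) = 0 := by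
    have h1 : r.eval ↑ωu = 0 := hω
    rw [hr, hq] at h1
    simp only [eval_add, eval_pow, eval_X, eval_finsetSum, eval_mul, eval_C] at h1
    have h2 := congrArg (algebraMap V S) h1
    simp only [map_add, map_pow, map_sum, map_mul, map_zero, hδ] at h2
    rw [hW]
    exact h2
  have key_j : ∀ j ∈ Finset.range m, g.coeff (j + 2) * (u * w) ^ (j + 2) =
      g.coeff 0 * w ^ (m + 1) * ((g.coeff (j + 2) * u ^ (j + 1) * ↑c₁u⁻¹) * W ^ (m - 1 - j)) := by
    intro j hj
    have hj' : j < m := Finset.mem_range.mp hj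
    have hexp : m + 1 = (j + 2) + (m - 1 - j) := by omega
    have hwj : w ^ (m + 1) * W ^ (m - 1 - j) = w ^ (j + 2) := by
      rw [hexp, pow_add, mul_assoc, ← mul_pow, hwW, one_pow, mul_one]
    linear_combination (g.coeff (j + 2) * u ^ (j + 1) * w ^ (j + 2)) * hu -
      (g.coeff 0 * g.coeff (j + 2) * u ^ (j + 1) * ↑c₁u⁻¹) * hwj
  have hsum : ∑ i ∈ Finset.range (m + 1 + 1), g.coeff i * (u * w) ^ i =
      (∑ j ∈ Finset.range m, g.coeff (j + 2) * (u * w) ^ (j + 2)) + g.coeff 1 * (u * w) ^ 1 +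
        g.coeff 0 * (u * w) ^ 0 := by
    rw [Finset.sum_range_succ', Finset.sum_range_succ']
  have hgeval : g.eval (u * w) = 0 := by
    have e0 : w ^ (m + 1) * W ^ (m + 1) = 1 := by rw [← mul_pow, hwW, one_pow]
    have e1 : w ^ (m + 1) * W ^ m = w := by
      rw [pow_succ, mul_assoc, mul_comm w, ← mul_assoc, ← mul_pow, hwW, one_pow, one_mul]
    have e2 : g.coeff 1 * u = g.coeff 0 := by
      rw [hu, ← hc₁u, mul_left_comm, Units.mul_inv, mul_one]
    rw [eval_eq_sum_range, hm, hsum, Finset.sum_congr rfl key_j, ← Finset.mul_sum]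
    have hroot' := hroot
    linear_combination (g.coeff 0 * w ^ (m + 1)) * hroot' + w * e2 - g.coeff 0 * e0 - g.coeff 0 * e1
  refine ⟨a₀ + u * w, ?_, ?_⟩
  · rw [IsRoot.def]
    have := taylor_eval a₀ f (u * w)
    rw [add_comm, ← this, ← hg, hgeval]
  · rw [add_sub_cancel_left]
    exact Ideal.mul_mem_right _ _ hum


/-- Let V be a Henselian valuation ring and p a prime ideal of V. Then the local rings V_p (localisation
at p) and V/p are Henselian. (Both are again valuation rings, which is elementary and not restated.) -/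
theorem result (V : Type u) [CommRing V]
    [IsDomain V] [ValuationRing V] [HenselianLocalRing V] (p : Ideal V) [p.IsPrime] :
    HenselianLocalRing (Localization.AtPrime p) ∧ HenselianLocalRing (V ⧸ p) := by
  have hp : p ≠ ⊤ := Ideal.IsPrime.ne_top inferInstance
  exact ⟨henselian_localization V p (Localization.AtPrime p), henselian_quotient V p hp⟩

end Groth.Agent.S16174
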