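import Groth.Statements.S1618
import Groth.Agent.H54.SchemeDim

set_option autoImplicit false
universe u
open CategoryTheory CategoryTheory.Limits AlgebraicGeometry
open Variety

namespace Groth.Agent.S1618

/-- Let X be irreducible and locally of finite type over a field k. Then every nonempty open subset of X
has the same Krull dimension as X. -/
theorem result (k : Type u) [Field k] (X : Scheme.{u}) [X.Over (Spec (CommRingCat.of k))] [LocallyOfFiniteType (X ↘ (Spec (CommRingCat.of k)))] [IrreducibleSpace X]
    (U : X.Opens) (hU : (U : Set X).Nonempty) : topologicalKrullDim U = topologicalKrullDim X := by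
  classical
  have hξU : genericPoint X ∈ U := by
    obtain ⟨y, hy⟩ := hU
    exact ((genericPoint_spec X).mem_open_set_iff U.2).mpr ⟨y, trivial, hy⟩
  apply le_antisymm (topologicalKrullDim_subspace_le _ _)
  refine (H54.topologicalKrullDim_le_of_forall_tdeg_le (X ↘ Spec (CommRingCat.of k))
    (H54.tdeg (X ↘ Spec (CommRingCat.of k)) (genericPoint X)) (fun x => ?_)).trans
    (H54.tdeg_le_topologicalKrullDim (X ↘ Spec (CommRingCat.of k)) (genericPoint X) U hξU)
  exact H54.tdeg_le_of_specializes _ ((genericPoint_spec X).specializes trivial)

end Groth.Agent.S1618
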