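import Groth.Statements.S16185
import Mathlib
import Groth.Agent.H60.ResidueFibre
import Groth.Agent.H60.GorTransfer

set_option autoImplicit false
universe u
open CategoryTheory CategoryTheory.Limits AlgebraicGeometry
open Dual3

namespace Groth.Agent.S16185

/-- Let A be an Artinian local ring with maximal ideal m and let f : P → Spec A be a flat morphism of
schemes whose closed fibre X = P ×_{Spec A} Spec (A/m) is a Gorenstein scheme (locally Noetherian,
all local rings Gorenstein). Then f is a Gorenstein morphism: flat at every point with Gorenstein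
local rings on its fibres. (The source takes A to be a local Artinian algebra over a field k with
residue field k and X a k-scheme deformed flatly over A; the k-algebra structure plays no role, so
the residue field of A is used directly.) -/
theorem result
    {A : Type u} [CommRing A] [IsArtinianRing A] [IsLocalRing A]
    {P X : Scheme.{u}} (f : P ⟶ Spec (CommRingCat.of A)) [Flat f]
    (i : X ⟶ P) (q : X ⟶ Spec (CommRingCat.of (IsLocalRing.ResidueField A)))
    (hsq : IsPullback i q f (Spec.map (CommRingCat.ofHom (IsLocalRing.residue A))))
    (hX : Dual3.IsGorenstein X) : Dual3.IsGorensteinMor f := by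
  intro y
  refine ⟨Flat.stalkMap f y, ?_⟩
  -- `Spec A` has a single point
  have hss : ∀ a b : PrimeSpectrum A, a = b := by
    intro a b
    have ha : a.asIdeal = IsLocalRing.maximalIdeal A :=
      IsLocalRing.eq_maximalIdeal (IsArtinianRing.isMaximal_of_isPrime a.asIdeal)
    have hb : b.asIdeal = IsLocalRing.maximalIdeal A :=
      IsLocalRing.eq_maximalIdeal (IsArtinianRing.isMaximal_of_isPrime b.asIdeal)
    exact PrimeSpectrum.ext (ha.trans hb.symm)
  let t : Spec (CommRingCat.of (IsLocalRing.ResidueField A)) :=
    IsLocalRing.closedPoint (IsLocalRing.ResidueField A)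
  have hyt : f y = (Spec.map (CommRingCat.ofHom (IsLocalRing.residue A))) t := hss _ _
  obtain ⟨z, hz, -⟩ := Scheme.Pullback.exists_preimage_pullback y t hyt
  have hi : i (hsq.isoPullback.inv z) = y := by
    have h : (hsq.isoPullback.inv ≫ i) z = y := by
      rw [IsPullback.isoPullback_inv_fst]
      exact hz
    exact h
  subst hi
  obtain ⟨e1⟩ := Groth.Agent.H60.ResidueFibre.nonempty_stalkEquiv A f i q hsq
    (hsq.isoPullback.inv z)
  obtain ⟨e2⟩ := Groth.Agent.H29.FiberStalkAt.nonempty_fiberStalkEquiv f
    (i (hsq.isoPullback.inv z))
  exact Groth.Agent.H60.GorTransfer.gor_of_ringEquiv (e1.symm.trans e2) (hX.2 _)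

end Groth.Agent.S16185
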