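import Groth.Statements.S16188
import Mathlib.AlgebraicGeometry.Morphisms.ClosedImmersion
import Mathlib.AlgebraicGeometry.IdealSheaf.Functorial

set_option autoImplicit false
universe u
open CategoryTheory AlgebraicGeometry TopologicalSpace
open SchMor

namespace Groth.Agent.S16188

/-- Let f : X → Y be a morphism of schemes with X reduced and irreducible. Then f factors through an
irreducible component of Y carrying its reduced closed-subscheme structure: there are an irreducible
component Z of Y and a morphism g from X to the closed subscheme of Y cut out by the vanishing ideal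
sheaf of Z with g followed by the inclusion equal to f; that closed subscheme is integral. -/
theorem result
    {X Y : Scheme.{u}} (f : X ⟶ Y) [IsReduced X] [IrreducibleSpace X] :
    ∃ (Z : Closeds Y) (_ : (Z : Set Y) ∈ irreducibleComponents Y)
      (_ : IsIntegral (Scheme.IdealSheafData.vanishingIdeal Z).subscheme)
      (g : X ⟶ (Scheme.IdealSheafData.vanishingIdeal Z).subscheme),
      g ≫ (Scheme.IdealSheafData.vanishingIdeal Z).subschemeι = f := by
  have hirr : IsIrreducible (closure (Set.range f)) := by
    rw [isIrreducible_iff_closure, ← Set.image_univ]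
    exact (IrreducibleSpace.isIrreducible_univ X).image f f.continuous.continuousOn
  obtain ⟨Z₀, hZ₀, hsub⟩ := exists_mem_irreducibleComponents_subset_of_isIrreducible _ hirr
  have hZ₀closed : IsClosed Z₀ := isClosed_of_mem_irreducibleComponents Z₀ hZ₀
  have hZ₀irr : IsIrreducible Z₀ := hZ₀.1
  refine ⟨⟨Z₀, hZ₀closed⟩, hZ₀, ?_, ?_⟩
  · -- integrality
    have hredU : ∀ U : Y.affineOpens, IsReduced (Spec (CommRingCat.of
        (Γ(Y, U) ⧸ (Scheme.IdealSheafData.vanishingIdeal ⟨Z₀, hZ₀closed⟩).ideal U))) := by
      intro U
      have : _root_.IsReduced (Γ(Y, U) ⧸ (Scheme.IdealSheafData.vanishingIdeal ⟨Z₀, hZ₀closed⟩).ideal U) := by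
        rw [← Ideal.isRadical_iff_quotient_reduced, Scheme.IdealSheafData.vanishingIdeal_ideal]
        exact PrimeSpectrum.isRadical_vanishingIdeal _
      infer_instance
    have hred : IsReduced (Scheme.IdealSheafData.vanishingIdeal ⟨Z₀, hZ₀closed⟩).subscheme := by
      have : ∀ i, IsReduced ((Scheme.IdealSheafData.vanishingIdeal
          ⟨Z₀, hZ₀closed⟩).subschemeCover.openCover.X i) := hredU
      exact IsReduced.of_openCover _
        (Scheme.IdealSheafData.vanishingIdeal ⟨Z₀, hZ₀closed⟩).subschemeCover.openCover
    have hirrS : IrreducibleSpace (Scheme.IdealSheafData.vanishingIdeal ⟨Z₀, hZ₀closed⟩).subscheme := by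
      have hsupp : ((Scheme.IdealSheafData.vanishingIdeal ⟨Z₀, hZ₀closed⟩).support : Set Y) = Z₀ := by
        simp
      have h1 : IsIrreducible ((Scheme.IdealSheafData.vanishingIdeal ⟨Z₀, hZ₀closed⟩).support : Set Y) := by
        rw [hsupp]; exact hZ₀irr
      exact Subtype.irreducibleSpace h1
    exact isIntegral_of_irreducibleSpace_of_isReduced _
  · have h1 : (Scheme.IdealSheafData.vanishingIdeal (⊤ : Closeds X)).map f =
        Scheme.IdealSheafData.vanishingIdeal (.closure (f '' ((⊤ : Closeds X) : Set X))) :=
      Scheme.IdealSheafData.map_vanishingIdeal f ⊤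
    rw [Scheme.IdealSheafData.vanishingIdeal_top, Scheme.nilradical_eq_bot,
      Scheme.IdealSheafData.map_bot] at h1
    have hle : (Scheme.IdealSheafData.vanishingIdeal ⟨Z₀, hZ₀closed⟩).subschemeι.ker ≤ f.ker := by
      rw [Scheme.IdealSheafData.ker_subschemeι, h1]
      apply Scheme.IdealSheafData.vanishingIdeal_antimono
      rw [TopologicalSpace.Closeds.closure_le]
      intro y hy
      obtain ⟨x, -, rfl⟩ := hy
      exact hsub (subset_closure (Set.mem_range_self x))
    exact ⟨IsClosedImmersion.lift _ f hle, IsClosedImmersion.lift_fac _ _ _⟩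

end Groth.Agent.S16188
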