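import Groth.Statements.S1619
import Groth.Agent.H54.SchemeDim

set_option autoImplicit false
universe u
open CategoryTheory CategoryTheory.Limits AlgebraicGeometry
attribute [local instance] Curv2.stalkAlgebra Curv2.resAlgebra
open Variety

namespace Groth.Agent.S1619

/-- Let X be irreducible and locally of finite type over a field k, with generic point ξ. If the residue
field of ξ has transcendence degree n over k then X has Krull dimension n. -/
theorem result (k : Type u) [Field k] (X : Scheme.{u}) [X.Over (Spec (CommRingCat.of k))] [LocallyOfFiniteType (X ↘ (Spec (CommRingCat.of k)))] [IrreducibleSpace X]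
    (n : ℕ) (hn : Algebra.trdeg k (X.residueField (genericPoint X)) = n) : topologicalKrullDim X = n := by
  classical
  have h := H54.tdeg_spec (X ↘ Spec (CommRingCat.of k)) (genericPoint X)
  have h5 : ((n : ℕ) : Cardinal.{u}) =
      (H54.tdeg (X ↘ Spec (CommRingCat.of k)) (genericPoint X) : Cardinal.{u}) := hn.symm.trans h
  have h6 : n = H54.tdeg (X ↘ Spec (CommRingCat.of k)) (genericPoint X) := by exact_mod_cast h5
  apply le_antisymm
  · refine H54.topologicalKrullDim_le_of_forall_tdeg_le (X ↘ Spec (CommRingCat.of k)) n
      (fun x => ?_)
    rw [h6]
    exact H54.tdeg_le_of_specializes _ ((genericPoint_spec X).specializes trivial)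
  · rw [h6]
    exact (H54.tdeg_le_topologicalKrullDim (X ↘ Spec (CommRingCat.of k)) (genericPoint X) ⊤
      trivial).trans (topologicalKrullDim_subspace_le _ _)

end Groth.Agent.S1619
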