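import Groth.Statements.S16196
import Mathlib.Algebra.BigOperators.Pi
import Mathlib.Algebra.Module.BigOperators

set_option autoImplicit false
universe u v
open DivAlg

namespace Groth.Agent.S16196

/-- Let R be a ring (associative, unital, not necessarily commutative) and M a left R-module which is a
generator, in the form: for some n there is an R-linear surjection from M^n onto R. Then the natural
ring homomorphism from R to the double endomorphism ring BiEnd_R(M) = End_{End_R(M)}(M)
(endomorphisms of M commuting with every R-linear endomorphism), r ↦ multiplication by r, is
bijective. (The printed form takes R an algebra over a commutative ring k, embeds R in E = End_k(M)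
and asserts R = C_E(C_E(R)); the double centralizer there is BiEnd_R(M).) -/
theorem result {R : Type u} [Ring R] (M : Type v)
    [AddCommGroup M] [Module R M]
    (hgen : ∃ (n : ℕ) (f : (Fin n → M) →ₗ[R] R), Function.Surjective f) :
    Function.Bijective (Module.toModuleEnd (Module.End R M) (S := R) M) := by
  obtain ⟨n, f, hf⟩ := hgen
  obtain ⟨x, hx⟩ := hf 1
  have hsum : ∀ y : Fin n → M, f y = ∑ i, f (Pi.single i (y i)) := by
    intro y
    conv_lhs => rw [← Finset.univ_sum_single y]
    rw [map_sum]
  constructor
  · intro r r' h
    have h' : ∀ m : M, r • m = r' • m := by
      intro m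
      have := congrArg (fun F : Module.End (Module.End R M) M => F m) h
      simpa using this
    calc r = r • f x := by rw [hx, smul_eq_mul, mul_one]
      _ = f (r • x) := by rw [map_smul]
      _ = f (r' • x) := by
          congr 1
          funext i
          simp only [Pi.smul_apply]
          exact h' (x i)
      _ = r' • f x := by rw [map_smul]
      _ = r' := by rw [hx, smul_eq_mul, mul_one]
  · intro T
    have hT : ∀ (g : Module.End R M) (y : M), T (g y) = g (T y) := by
      intro g y
      have := T.map_smul g y
      simpa using this
    refine ⟨f (fun i => T (x i)), ?_⟩
    ext m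
    simp only [Module.toModuleEnd_apply, DistribSMul.toLinearMap_apply]
    -- the endomorphisms g_i : y ↦ f (single i y) • m
    let g : Fin n → Module.End R M := fun i =>
      (LinearMap.toSpanSingleton R M m).comp (f.comp (LinearMap.single R (fun _ => M) i))
    have hg : ∀ i y, g i y = f (Pi.single i y) • m := by
      intro i y
      simp [g, LinearMap.toSpanSingleton_apply]
    have hm : m = ∑ i, g i (x i) := by
      calc m = (1 : R) • m := by rw [one_smul]
        _ = f x • m := by rw [hx]
        _ = (∑ i, f (Pi.single i (x i))) • m := by rw [← hsum x]
        _ = ∑ i, g i (x i) := by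
            rw [Finset.sum_smul]
            exact Finset.sum_congr rfl (fun i _ => (hg i (x i)).symm)
    calc f (fun i => T (x i)) • m
        = (∑ i, f (Pi.single i (T (x i)))) • m := by rw [← hsum (fun i => T (x i))]
      _ = ∑ i, g i (T (x i)) := by
          rw [Finset.sum_smul]
          exact Finset.sum_congr rfl (fun i _ => (hg i (T (x i))).symm)
      _ = ∑ i, T (g i (x i)) := Finset.sum_congr rfl (fun i _ => (hT (g i) (x i)).symm)
      _ = T (∑ i, g i (x i)) := by rw [map_sum]
      _ = T m := by rw [← hm]

end Groth.Agent.S16196
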