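import Groth.Statements.S16197
import Mathlib.Tactic.Abel
import Mathlib.Algebra.BigOperators.Finsupp.Basic

set_option autoImplicit false
universe u v w
open DivAlg

namespace Groth.Agent.S16197

/-- Let R be a ring (associative, unital, not necessarily commutative) and M a left R-module which is a
generator, used here only through the existence of an R-linear surjection from a direct sum of
copies of M, indexed by an arbitrary type, onto R. Then some finite power M^n decomposes as R × Q
for a submodule Q of M^n. (The published statement is an equivalence; this row states only the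
implication from the existence of such a surjection to the splitting.) -/
theorem result {R : Type u} [Ring R] (M : Type v)
    [AddCommGroup M] [Module R M]
    (hgen : ∃ (ι : Type w) (f : (ι →₀ M) →ₗ[R] R), Function.Surjective f) :
    ∃ (n : ℕ) (Q : Submodule R (Fin n → M)), Nonempty ((Fin n → M) ≃ₗ[R] (R × Q)) := by
  classical
  obtain ⟨ι, f, hf⟩ := hgen
  obtain ⟨x, hx⟩ := hf 1
  let n := x.support.card
  let e : Fin n ≃ x.support := x.support.equivFin.symm
  -- the restriction of f to the coordinates in the support of x
  let g : (Fin n → M) →ₗ[R] R :=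
    ∑ j : Fin n, (f.comp (Finsupp.lsingle (e j : ι))).comp (LinearMap.proj j)
  have hg : ∀ y : Fin n → M, g y = ∑ j : Fin n, f (Finsupp.single (e j : ι) (y j)) := by
    intro y
    simp [g, LinearMap.sum_apply]
  let y₀ : Fin n → M := fun j => x (e j)
  have hy₀ : g y₀ = 1 := by
    rw [hg, ← map_sum, ← hx]
    congr 1
    have h1 : ∑ j : Fin n, Finsupp.single (e j : ι) (y₀ j) =
        ∑ i : x.support, Finsupp.single (i : ι) (x i) :=
      Equiv.sum_comp e (fun i : x.support => Finsupp.single (i : ι) (x i))
    rw [h1, Finset.sum_coe_sort x.support (fun i => Finsupp.single i (x i))]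
    exact x.sum_single
  refine ⟨n, LinearMap.ker g, ⟨?_⟩⟩
  refine
    { toFun := fun y => (g y, ⟨y - g y • y₀, ?_⟩)
      map_add' := ?_
      map_smul' := ?_
      invFun := fun rq => rq.1 • y₀ + (rq.2 : Fin n → M)
      left_inv := ?_
      right_inv := ?_ }
  · rw [LinearMap.mem_ker, map_sub, map_smul, hy₀, smul_eq_mul, mul_one, sub_self]
  · intro a b
    ext : 1
    · simp
    · apply Subtype.ext
      simp only [map_add, add_smul, Submodule.coe_add, Prod.snd_add]
      abel
  · intro r a
    ext : 1
    · simp
    · apply Subtype.ext
      simp only [map_smul, smul_eq_mul, RingHom.id_apply, Prod.smul_snd, Submodule.coe_smul,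
        smul_sub, mul_smul]
  · intro y
    simp
  · rintro ⟨r, q, hq⟩
    rw [LinearMap.mem_ker] at hq
    ext : 1
    · simp [hy₀, hq]
    · apply Subtype.ext
      simp [hy₀, hq]

end Groth.Agent.S16197
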