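import Groth.Statements.S16200
import Mathlib

set_option autoImplicit false
universe u v
open DivAlg

namespace Groth.Agent.S16200

open TensorProduct CommRing

/-- Multiplication by a nonzero element identifies an ideal with its multiple. -/
noncomputable def mulIso {R : Type u} [CommRing R] [IsDomain R] (a : R) (ha : a ≠ 0)
    (J : Ideal R) : J ≃ₗ[R] ↥(Ideal.span {a} * J) :=
  LinearEquiv.ofBijective
    { toFun := fun j => ⟨a * j.1, Ideal.mul_mem_mul (Ideal.mem_span_singleton_self a) j.2⟩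
      map_add' := fun x y => Subtype.ext (mul_add a x.1 y.1)
      map_smul' := fun r x => Subtype.ext (mul_left_comm a r x.1) }
    ⟨fun x y h => Subtype.ext (mul_left_cancel₀ ha (congrArg Subtype.val h)),
     fun y => by
       obtain ⟨z, hz, hzy⟩ := Ideal.mem_span_singleton_mul.mp y.2
       exact ⟨⟨z, hz⟩, Subtype.ext hzy⟩⟩

/-- For comaximal ideals, `I × J ≃ R × (I ⊓ J)`. -/
noncomputable def coprimeEquiv {R : Type u} [CommRing R] (I J : Ideal R) (a₀ b₀ : R)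
    (ha : a₀ ∈ I) (hb : b₀ ∈ J) (h : a₀ + b₀ = 1) :
    (I × J) ≃ₗ[R] (R × ↥(I ⊓ J)) where
  toFun p := (p.1.1 + p.2.1, ⟨p.1.1 * b₀ - p.2.1 * a₀, Submodule.mem_inf.mpr
    ⟨I.sub_mem (I.mul_mem_right b₀ p.1.2) (I.mul_mem_left p.2.1 ha),
     J.sub_mem (J.mul_mem_left p.1.1 hb) (J.mul_mem_right a₀ p.2.2)⟩⟩)
  map_add' p q := by
    rcases p with ⟨⟨a, ha'⟩, ⟨b, hb'⟩⟩
    rcases q with ⟨⟨c, hc'⟩, ⟨d, hd'⟩⟩
    refine Prod.ext ?_ (Subtype.ext ?_)
    · show (a + c) + (b + d) = (a + b) + (c + d)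
      ring
    · show (a + c) * b₀ - (b + d) * a₀ = (a * b₀ - b * a₀) + (c * b₀ - d * a₀)
      ring
  map_smul' r p := by
    rcases p with ⟨⟨a, ha'⟩, ⟨b, hb'⟩⟩
    refine Prod.ext ?_ (Subtype.ext ?_)
    · show r * a + r * b = r * (a + b)
      ring
    · show (r * a) * b₀ - (r * b) * a₀ = r * (a * b₀ - b * a₀)
      ring
  invFun q := (⟨q.1 * a₀ + q.2.1, I.add_mem (I.mul_mem_left q.1 ha) (Submodule.mem_inf.mp q.2.2).1⟩,
    ⟨q.1 * b₀ - q.2.1, J.sub_mem (J.mul_mem_left q.1 hb) (Submodule.mem_inf.mp q.2.2).2⟩)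
  left_inv p := by
    rcases p with ⟨⟨a, ha'⟩, ⟨b, hb'⟩⟩
    refine Prod.ext (Subtype.ext ?_) (Subtype.ext ?_)
    · show (a + b) * a₀ + (a * b₀ - b * a₀) = a
      linear_combination a * h
    · show (a + b) * b₀ - (a * b₀ - b * a₀) = b
      linear_combination b * h
  right_inv q := by
    rcases q with ⟨r, ⟨c, hc'⟩⟩
    refine Prod.ext ?_ (Subtype.ext ?_)
    · show (r * a₀ + c) + (r * b₀ - c) = r
      linear_combination r * h
    · show (r * a₀ + c) * b₀ - (r * b₀ - c) * a₀ = c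
      linear_combination c * h

theorem ne_bot_of_equiv {R : Type u} [CommRing R] [Nontrivial R] {M : Type*} [AddCommGroup M]
    [Module R M] [Module.Invertible R M] {I : Ideal R} (e : M ≃ₗ[R] I) : I ≠ ⊥ := by
  rintro rfl
  have hsub : Subsingleton M := e.toEquiv.subsingleton
  have hinj := (Module.Invertible.toModuleEnd_bijective R M).1
  have h10 : (1 : R) = 0 := by
    apply hinj
    ext m
    exact Subsingleton.elim _ _
  exact one_ne_zero h10

theorem exists_coprime_compl {R : Type u} [CommRing R] [IsDedekindDomain R] (I J : Ideal R)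
    (hI : I ≠ ⊥) (hJ : J ≠ ⊥) :
    ∃ (J' : Ideal R) (a : R), a ≠ 0 ∧ J * J' = Ideal.span {a} ∧ I ⊔ J' = ⊤ := by
  have hI0 : I ≠ 0 := by rwa [Ideal.zero_eq_bot]
  have hJ0 : J ≠ 0 := by rwa [Ideal.zero_eq_bot]
  have hIJ : I * J ≠ 0 := mul_ne_zero hI0 hJ0
  obtain ⟨a₀, ha₀⟩ := IsDedekindDomain.exists_sup_span_eq (Ideal.mul_le_right : I * J ≤ J) hIJ
  by_cases h0 : a₀ = 0
  · subst h0
    have hsp : Ideal.span {(0 : R)} = ⊥ := Ideal.span_singleton_eq_bot.mpr rfl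
    rw [hsp, sup_bot_eq] at ha₀
    have h1 : I * J = ⊤ * J := by rw [Ideal.top_mul]; exact ha₀
    have hItop : I = ⊤ := mul_right_cancel₀ hJ0 h1
    obtain ⟨b, hbJ, hb0⟩ := Submodule.exists_mem_ne_zero_of_ne_bot hJ
    obtain ⟨J', hJ'⟩ := Ideal.dvd_iff_le.mpr ((Ideal.span_singleton_le_iff_mem J).mpr hbJ)
    exact ⟨J', b, hb0, hJ'.symm, by rw [hItop, top_sup_eq]⟩
  · have haJ : a₀ ∈ J := by
      rw [← ha₀]; exact Ideal.mem_sup_right (Ideal.mem_span_singleton_self a₀)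
    obtain ⟨J', hJ'⟩ := Ideal.dvd_iff_le.mpr ((Ideal.span_singleton_le_iff_mem J).mpr haJ)
    refine ⟨J', a₀, h0, hJ'.symm, ?_⟩
    have h2 : J * (I ⊔ J') = J * ⊤ := by
      rw [Ideal.mul_sup, Ideal.mul_top, ← hJ', mul_comm J I, ha₀]
    exact mul_left_cancel₀ hJ0 h2

/-- Steinitz: over a Dedekind domain, `M × N ≃ R × (M ⊗ N)` for invertible modules. -/
theorem key {R : Type u} [CommRing R] [IsDedekindDomain R]
    (M : Type*) [AddCommGroup M] [Module R M] [Module.Invertible R M]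
    (N : Type*) [AddCommGroup N] [Module R N] [Module.Invertible R N] :
    Nonempty ((M × N) ≃ₗ[R] (R × (M ⊗[R] N))) := by
  obtain ⟨I, ⟨eI⟩⟩ := Module.Invertible.exists_linearEquiv_ideal R M
  obtain ⟨J, ⟨eJ⟩⟩ := Module.Invertible.exists_linearEquiv_ideal R N
  have hI : I ≠ ⊥ := ne_bot_of_equiv eI
  have hJ : J ≠ ⊥ := ne_bot_of_equiv eJ
  obtain ⟨J', a, ha, hJJ', hIJ'⟩ := exists_coprime_compl I J hI hJ
  have hJ' : J' ≠ ⊥ := by
    rintro rfl
    apply ha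
    rw [Ideal.mul_bot] at hJJ'
    exact Ideal.span_singleton_eq_bot.mp hJJ'.symm
  obtain ⟨J'', c, hc, hJJ'', hIJ''⟩ := exists_coprime_compl I J' hI hJ'
  have hrel : Ideal.span {c} * J = Ideal.span {a} * J'' := by
    rw [← hJJ'', ← hJJ', mul_comm J' J'', mul_comm (J'' * J') J, mul_comm J'' J', mul_assoc]
  let eJJ'' : J ≃ₗ[R] J'' :=
    (mulIso c hc J) ≪≫ₗ (LinearEquiv.ofEq _ _ hrel) ≪≫ₗ (mulIso a ha J'').symm
  let eN : N ≃ₗ[R] J'' := eJ ≪≫ₗ eJJ''
  obtain ⟨a₀, ha₀, b₀, hb₀, hab⟩ := Submodule.mem_sup.mp ((Ideal.eq_top_iff_one _).mp hIJ'')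
  let e1 : (I × J'') ≃ₗ[R] (R × ↥(I ⊓ J'')) := coprimeEquiv I J'' a₀ b₀ ha₀ hb₀ hab
  haveI : Module.Flat R J'' := Module.Flat.of_linearEquiv eN.symm
  let e2 : (I ⊗[R] J'') ≃ₗ[R] ↥(I * J'') :=
    (Submodule.LinearDisjoint.of_left_le_one_of_flat (M := I) (N := J'')
      (le_top.trans Ideal.one_eq_top.ge)).mulMap
  have hmul : I * J'' = I ⊓ J'' := Ideal.mul_eq_inf_of_coprime hIJ''
  exact ⟨(LinearEquiv.prodCongr eI eN) ≪≫ₗ e1 ≪≫ₗ
    LinearEquiv.prodCongr (LinearEquiv.refl R R)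
      ((LinearEquiv.ofEq _ _ hmul).symm ≪≫ₗ e2.symm ≪≫ₗ (TensorProduct.congr eI eN).symm)⟩

/-- A × (B × C) ≃ B × (A × C). -/
noncomputable def prodSwap (R : Type*) (A B C : Type*) [Semiring R] [AddCommMonoid A]
    [AddCommMonoid B] [AddCommMonoid C] [Module R A] [Module R B] [Module R C] :
    (A × (B × C)) ≃ₗ[R] (B × (A × C)) :=
  (LinearEquiv.prodAssoc R A B C).symm ≪≫ₗ
    (LinearEquiv.prodCongr (LinearEquiv.prodComm R A B) (LinearEquiv.refl R C)) ≪≫ₗ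
    (LinearEquiv.prodAssoc R B A C)

theorem steinitz_pow {R : Type u} [CommRing R] [IsDedekindDomain R] (N : Type v) [AddCommGroup N]
    [Module R N] [Module.Invertible R N] (k : ℕ) :
    Nonempty ((Fin (k + 1) → N) ≃ₗ[R] ((Fin k → R) × ((Pic.mk R N ^ (k + 1) : Pic R)))) := by
  induction k with
  | zero =>
    obtain ⟨e⟩ := Pic.mk_eq_iff.mp (pow_one (Pic.mk R N)).symm
    exact ⟨(LinearEquiv.funUnique (Fin 1) R N) ≪≫ₗ e ≪≫ₗ
      (LinearEquiv.uniqueProd (R := R) (M := ((Pic.mk R N ^ (0 + 1) : Pic R)))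
        (M₂ := (Fin 0 → R))).symm⟩
  | succ k ih =>
    obtain ⟨ek⟩ := ih
    obtain ⟨ekey⟩ := key (R := R) N ((Pic.mk R N ^ (k + 1) : Pic R))
    have hT : Pic.mk R (N ⊗[R] ((Pic.mk R N ^ (k + 1) : Pic R))) = Pic.mk R N ^ (k + 1 + 1) := by
      rw [Pic.mk_tensor, Pic.mk_eq_self, ← pow_succ']
    obtain ⟨eT⟩ := Pic.mk_eq_iff.mp hT
    exact ⟨(Fin.consLinearEquiv R (fun _ : Fin (k + 1 + 1) => N)).symm ≪≫ₗ
      (LinearEquiv.prodCongr (LinearEquiv.refl R N) ek) ≪≫ₗ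
      (prodSwap R N (Fin k → R) _) ≪≫ₗ
      (LinearEquiv.prodCongr (LinearEquiv.refl R (Fin k → R)) (ekey ≪≫ₗ
        LinearEquiv.prodCongr (LinearEquiv.refl R R) eT)) ≪≫ₗ
      (LinearEquiv.prodAssoc R (Fin k → R) R _).symm ≪≫ₗ
      (LinearEquiv.prodCongr
        ((LinearEquiv.prodComm R (Fin k → R) R) ≪≫ₗ
          (Fin.consLinearEquiv R (fun _ : Fin (k + 1) => R)))
        (LinearEquiv.refl R _))⟩


/-- Let R be a Dedekind domain, N an invertible R-module and n a natural number with [N]^n = 1 in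
Pic(R). Then the direct sum N^n is isomorphic to R^n; thus over a Dedekind domain the invertible
modules N with N^n ≅ R^n are exactly the n-torsion classes of Pic(R), the other inclusion holding
over any commutative ring. -/
theorem result {R : Type u} [CommRing R]
    [IsDedekindDomain R] (N : Type v) [AddCommGroup N] [Module R N] [Module.Invertible R N]
    (n : ℕ) (h : CommRing.Pic.mk R N ^ n = 1) :
    Nonempty ((Fin n → N) ≃ₗ[R] (Fin n → R)) := by
  cases n with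
  | zero => exact ⟨LinearEquiv.ofSubsingleton _ _⟩
  | succ k =>
    obtain ⟨e⟩ := steinitz_pow (R := R) N k
    obtain ⟨eT⟩ := Pic.mk_eq_one_iff.mp (Pic.mk_eq_self.trans h)
    exact ⟨e ≪≫ₗ (LinearEquiv.prodCongr (LinearEquiv.refl R (Fin k → R)) eT) ≪≫ₗ
      (LinearEquiv.prodComm R (Fin k → R) R) ≪≫ₗ
      (Fin.consLinearEquiv R (fun _ : Fin (k + 1) => R))⟩

end Groth.Agent.S16200
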