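import Groth.Statements.S16201
import Mathlib

set_option autoImplicit false
open CategoryTheory AlgebraicGeometry
open Variety

namespace Groth.Agent.S16201


section Helpers
open AlgebraicGeometry CategoryTheory CategoryTheory.Limits TopologicalSpace Topology

/-- A constructible set containing a point whose closure is everything contains an open
neighbourhood of that point (Noetherian space). -/
theorem exists_open_of_constructible_of_generic {Z : Type*} [TopologicalSpace Z] [NoetherianSpace Z]
    (ξ : Z) (hξ : closure ({ξ} : Set Z) = Set.univ) {C : Set Z} (hC : IsConstructible C)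
    (hmem : ξ ∈ C) : ∃ O : Set Z, IsOpen O ∧ ξ ∈ O ∧ O ⊆ C := by
  have hbasis : IsTopologicalBasis (Set.range (fun U : {s : Set Z // IsOpen s} => (U.1 : Set Z))) := by
    have : Set.range (fun U : {s : Set Z // IsOpen s} => (U.1 : Set Z)) = {U : Set Z | IsOpen U} := by
      ext s
      constructor
      · rintro ⟨U, rfl⟩
        exact U.2
      · intro hs
        exact ⟨⟨s, hs⟩, rfl⟩
    rw [this]
    exact isTopologicalBasis_opens
  haveI : Nonempty {s : Set Z // IsOpen s} := ⟨⟨∅, isOpen_empty⟩⟩
  revert hmem
  induction C, hC using IsConstructible.induction_of_isTopologicalBasis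
      (fun U : {s : Set Z // IsOpen s} => (U.1 : Set Z)) hbasis
      (fun i => NoetherianSpace.isCompact _) with
  | sdiff i s hs =>
    intro hmem
    refine ⟨i.1, i.2, hmem.1, ?_⟩
    intro y hy
    refine ⟨hy, ?_⟩
    intro hy'
    simp only [Set.mem_iUnion] at hy'
    obtain ⟨j, hj, hyj⟩ := hy'
    have hsp : ξ ⤳ y := by
      rw [specializes_iff_mem_closure, hξ]
      exact Set.mem_univ _
    have : ξ ∈ j.1 := hsp.mem_open j.2 hyj
    apply hmem.2
    simp only [Set.mem_iUnion]
    exact ⟨j, hj, this⟩
  | union s hs t ht Hs Ht =>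
    intro hmem
    rcases hmem with h | h
    · obtain ⟨O, hO, hξO, hOs⟩ := Hs h
      exact ⟨O, hO, hξO, hOs.trans Set.subset_union_left⟩
    · obtain ⟨O, hO, hξO, hOt⟩ := Ht h
      exact ⟨O, hO, hξO, hOt.trans Set.subset_union_right⟩

/-- In a quasi-sober space every nonempty open set contains a generic point of an irreducible
component. -/
theorem exists_generic_mem_open {Y : Type*} [TopologicalSpace Y] [QuasiSober Y]
    (U : Set Y) (hU : IsOpen U) (hne : U.Nonempty) :
    ∃ η ∈ U, closure ({η} : Set Y) ∈ irreducibleComponents Y := by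
  obtain ⟨y, hy⟩ := hne
  have hW : irreducibleComponent y ∈ irreducibleComponents Y := irreducibleComponent_mem_irreducibleComponents y
  obtain ⟨η, hη⟩ := QuasiSober.sober (isIrreducible_irreducibleComponent (x := y))
    (isClosed_irreducibleComponent (x := y))
  have hcl : closure ({η} : Set Y) = irreducibleComponent y := hη
  have hsp : η ⤳ y := by
    rw [specializes_iff_mem_closure, hcl]
    exact mem_irreducibleComponent
  exact ⟨η, hsp.mem_open hU hy, hcl ▸ hW⟩

end Helpers


/-- Let f : Y → Z be a morphism of schemes of finite type over ℂ, with Z irreducible. Suppose that the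
general fibre of f is irreducible, in the sense that there is a nonempty open subset V of Z such
that the fibre of f over every closed point of V is an irreducible topological space, and that each
irreducible component of Y has dense image in Z. Then Y is irreducible. (The published statement is
for a morphism of projective varieties; only finiteness of type over the field is used, and the row
is stated in that generality.) -/
theorem result
    (Y Z : Scheme.{0}) (g : Z ⟶ Spec (CommRingCat.of ℂ)) (f : Y ⟶ Z)
    [LocallyOfFiniteType g] [QuasiCompact g] [LocallyOfFiniteType f] [QuasiCompact f]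
    [IrreducibleSpace Z]
    (hgen : ∃ V : Z.Opens, (V : Set Z).Nonempty ∧
      ∀ z ∈ V, IsClosed ({z} : Set Z) → IsIrreducible (f.base ⁻¹' {z}))
    (hdom : ∀ W ∈ irreducibleComponents Y, Dense (f.base '' W)) :
    IrreducibleSpace Y := by
  classical
  obtain ⟨V, hVne, hV⟩ := hgen
  haveI : IsLocallyNoetherian Z := LocallyOfFiniteType.isLocallyNoetherian g
  haveI : CompactSpace Z := QuasiCompact.compactSpace_of_compactSpace g
  haveI : IsNoetherian Z := {}
  haveI : JacobsonSpace Z := LocallyOfFiniteType.jacobsonSpace g
  haveI : IsLocallyNoetherian Y := LocallyOfFiniteType.isLocallyNoetherian f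
  haveI : CompactSpace Y := QuasiCompact.compactSpace_of_compactSpace f
  haveI : IsNoetherian Y := {}
  haveI : LocallyOfFinitePresentation f :=
    LocallyOfFinitePresentation.iff_locallyOfFiniteType.mpr inferInstance
  -- key: every nonempty open of Y has image containing a nonempty open of Z
  have key : ∀ U : Set Y, IsOpen U → U.Nonempty →
      ∃ O : Set Z, IsOpen O ∧ O.Nonempty ∧ O ⊆ f.base '' U := by
    intro U hU hne
    obtain ⟨η, hηU, hη⟩ := exists_generic_mem_open U hU hne
    have hd := hdom _ hη
    have hcl : closure ({f.base η} : Set Z) = Set.univ := by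
      apply Set.eq_univ_of_univ_subset
      rw [← hd.closure_eq]
      apply closure_minimal _ isClosed_closure
      calc f.base '' closure {η} ⊆ closure (f.base '' {η}) :=
            image_closure_subset_closure_image f.continuous
        _ = closure {f.base η} := by rw [Set.image_singleton]
    have hUc : Topology.IsConstructible U := (TopologicalSpace.NoetherianSpace.isCompact U).isConstructible hU
    have hC : Topology.IsConstructible (f.base '' U) := f.isConstructible_image hUc
    obtain ⟨O, hO, hξO, hOC⟩ := exists_open_of_constructible_of_generic (f.base η) hcl hC ⟨η, hηU, rfl⟩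
    exact ⟨O, hO, ⟨_, hξO⟩, hOC⟩
  -- closed point in a nonempty open
  have closedPt : ∀ O : Set Z, IsOpen O → O.Nonempty → ∃ z ∈ O, IsClosed ({z} : Set Z) := by
    intro O hO hne
    obtain ⟨z, hzO, hz⟩ := nonempty_inter_closedPoints hne hO.isLocallyClosed
    exact ⟨z, hzO, hz⟩
  have hne : Nonempty Y := by
    obtain ⟨z, hzV, hz⟩ := closedPt V V.2 hVne
    obtain ⟨y, _⟩ := (hV z hzV hz).1
    exact ⟨y⟩
  have hpre : PreirreducibleSpace Y := by
    refine ⟨?_⟩
    intro u v hu hv hune hvne
    rw [Set.univ_inter] at hune hvne ⊢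
    obtain ⟨O₁, hO₁, hne₁, hsub₁⟩ := key u hu hune
    obtain ⟨O₂, hO₂, hne₂, hsub₂⟩ := key v hv hvne
    have h12 : (O₁ ∩ O₂).Nonempty := nonempty_preirreducible_inter hO₁ hO₂ hne₁ hne₂
    have h123 : ((V : Set Z) ∩ (O₁ ∩ O₂)).Nonempty :=
      nonempty_preirreducible_inter V.2 (hO₁.inter hO₂) hVne h12
    obtain ⟨z, ⟨hzV, hz1, hz2⟩, hz⟩ := closedPt _ (V.2.inter (hO₁.inter hO₂)) h123
    obtain ⟨y₁, hy₁u, hy₁⟩ := hsub₁ hz1
    obtain ⟨y₂, hy₂v, hy₂⟩ := hsub₂ hz2
    have hirr := (hV z hzV hz).2
    obtain ⟨y, _, hyu, hyv⟩ := hirr u v hu hv ⟨y₁, hy₁, hy₁u⟩ ⟨y₂, hy₂, hy₂v⟩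
    exact ⟨y, hyu, hyv⟩
  exact { toPreirreducibleSpace := hpre, toNonempty := hne }

end Groth.Agent.S16201
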