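import Groth.Statements.S16206
import Mathlib.Combinatorics.SimpleGraph.Operations
import Mathlib.Combinatorics.SimpleGraph.DeleteEdges
import Mathlib.Combinatorics.SimpleGraph.Clique
import Mathlib.Data.Set.Card

set_option autoImplicit false
open RatCurv

namespace Groth.Agent.S16206

open W4c3cyccovratcurv

/-- a set containing `c` and closed under adjacency in a connected graph is everything -/
theorem mem_of_closed {V : Type*} {G : SimpleGraph V} (hG : G.Connected) (c : V) (S : Set V)
    (hc : c ∈ S) (hS : ∀ a b, a ∈ S → G.Adj a b → b ∈ S) (v : V) : v ∈ S := by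
  obtain ⟨p⟩ := hG.preconnected c v
  have key : ∀ (u v : V) (p : G.Walk u v), u ∈ S → v ∈ S := by
    intro u v p
    induction p with
    | nil => exact id
    | cons h p ih => exact fun hu => ih (hS _ _ hu h)
  exact key c v p hc

theorem no_triangle {V : Type*} {G : SimpleGraph V} (hG : G.IsAcyclic) {a b c : V}
    (hab : G.Adj a b) (hbc : G.Adj b c) (hac : G.Adj a c) : False := by
  classical
  exact hG.cliqueFree (le_refl 3) {a, b, c} (SimpleGraph.is3Clique_triple_iff.mpr ⟨hab, hac, hbc⟩)

/-- slide the edge `w x` to `c x` -/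
def slide {V : Type*} (G : SimpleGraph V) (c w x : V) : SimpleGraph V :=
  G.deleteEdges {s(w, x)} ⊔ SimpleGraph.edge c x

theorem slide_adj {V : Type*} (G : SimpleGraph V) (c w x a b : V) :
    (slide G c w x).Adj a b ↔
      (G.Adj a b ∧ s(a, b) ≠ s(w, x)) ∨ ((a = c ∧ b = x ∨ a = x ∧ b = c) ∧ a ≠ b) := by
  simp [slide, SimpleGraph.edge_adj]

theorem slide_isTree {n : ℕ} {G : SimpleGraph (Fin n)} (hG : G.IsTree) {c w x : Fin n}
    (hcw : G.Adj c w) (hwx : G.Adj w x) (hxc : x ≠ c) : (slide G c w x).IsTree := by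
  classical
  have hcx : ¬ G.Adj c x := fun h => no_triangle hG.isAcyclic hcw hwx h
  rw [SimpleGraph.isTree_iff_connected_and_card]
  constructor
  · have hne : Nonempty (Fin n) := ⟨c⟩
    rw [SimpleGraph.connected_iff]
    refine ⟨?_, hne⟩
    have hall : ∀ v, (slide G c w x).Reachable c v := by
      apply mem_of_closed hG.connected c {v | (slide G c w x).Reachable c v}
      · exact SimpleGraph.Reachable.refl _
      · intro a b ha hab
        by_cases he : s(a, b) = s(w, x)
        · rw [Sym2.eq_iff] at he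
          rcases he with ⟨-, rfl⟩ | ⟨-, rfl⟩
          · exact SimpleGraph.Adj.reachable ((slide_adj _ _ _ _ _ _).mpr
              (Or.inr ⟨Or.inl ⟨rfl, rfl⟩, hxc.symm⟩))
          · refine SimpleGraph.Adj.reachable ((slide_adj _ _ _ _ _ _).mpr (Or.inl ⟨hcw, ?_⟩))
            intro h
            rw [Sym2.eq_iff] at h
            rcases h with ⟨h1, -⟩ | ⟨h1, -⟩
            · exact hcw.ne h1
            · exact hxc h1.symm
        · exact ha.trans (SimpleGraph.Adj.reachable ((slide_adj _ _ _ _ _ _).mpr (Or.inl ⟨hab, he⟩)))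
    intro a b
    exact (hall a).symm.trans (hall b)
  · have h1 := (SimpleGraph.isTree_iff_connected_and_card.mp hG).2
    rw [← h1, add_left_inj, Nat.card_coe_set_eq, Nat.card_coe_set_eq]
    have hE : (slide G c w x).edgeSet = insert s(c, x) (G.edgeSet \ {s(w, x)}) := by
      rw [slide, SimpleGraph.edgeSet_sup, SimpleGraph.edgeSet_deleteEdges,
        SimpleGraph.edgeSet_edge_of_ne hxc.symm, Set.union_singleton]
    rw [hE, Set.ncard_insert_of_notMem _ (Set.toFinite _),
      Set.ncard_sdiff_singleton_add_one _ (Set.toFinite _)]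
    · exact (SimpleGraph.mem_edgeSet G).mpr hwx
    · intro h
      exact hcx ((SimpleGraph.mem_edgeSet G).mp h.1)

/-- a marked tree on `Fin n` -/
def MT {k : ℕ} (n : ℕ) (G : SimpleGraph (Fin n)) (hG : G.IsTree) (m : Fin k → Fin n) :
    MarkedTree k := ⟨n, G, hG, m⟩

theorem conicAdj_slide {k n : ℕ} (G : SimpleGraph (Fin n)) (hG : G.IsTree) (m : Fin k → Fin n)
    {c w x : Fin n} (hcw : G.Adj c w) (hwx : G.Adj w x) (hxc : x ≠ c) :
    ConicAdj (MT n G hG m) (MT n (slide G c w x) (slide_isTree hG hcw hwx hxc) m) := by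
  have hcw' : (slide G c w x).Adj c w := by
    rw [slide_adj]
    refine Or.inl ⟨hcw, ?_⟩
    intro h
    rw [Sym2.eq_iff] at h
    rcases h with ⟨h1, -⟩ | ⟨h1, -⟩
    · exact hcw.ne h1
    · exact hxc h1.symm
  refine ⟨c, w, c, w, hcw, hcw', ⟨Equiv.refl _, ?_⟩, rfl, fun i => rfl⟩
  rintro ⟨a, ha⟩ ⟨b, hb⟩
  show (contract (slide G c w x) c w).Adj ⟨a, ha⟩ ⟨b, hb⟩ ↔ (contract G c w).Adj ⟨a, ha⟩ ⟨b, hb⟩
  simp only [contract, SimpleGraph.fromRel_adj, slide_adj, ne_eq, Sym2.eq_iff]
  have hwc : w ≠ c := hcw.ne.symm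
  have hwx' : w ≠ x := hwx.ne
  have hab : (⟨a, ha⟩ : {v : Fin n // v ≠ w}) = ⟨b, hb⟩ ↔ a = b :=
    ⟨fun h => congrArg Subtype.val h, fun h => Subtype.ext h⟩
  rw [hab]
  constructor
  · rintro ⟨hne, h⟩
    refine ⟨hne, ?_⟩
    aesop
  · rintro ⟨hne, h⟩
    refine ⟨hne, ?_⟩
    by_cases hbx : b = x <;> by_cases hax : a = x <;> aesop

theorem conicAdj_markSlide {k n : ℕ} (G : SimpleGraph (Fin n)) (hG : G.IsTree)
    (m : Fin k → Fin n) {c : Fin n} (i : Fin k) (hcw : G.Adj c (m i)) :
    ConicAdj (MT n G hG m) (MT n G hG (Function.update m i c)) := by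
  refine ⟨c, m i, c, m i, hcw, hcw, SimpleGraph.Iso.refl, rfl, fun j => ?_⟩
  show contractMark m c (m i) hcw.ne j = contractMark (Function.update m i c) c (m i) hcw.ne j
  by_cases hj : j = i
  · subst hj
    simp only [contractMark, Function.update_self, dif_pos, dif_neg hcw.ne]
  · by_cases hjw : m j = m i
    · simp only [contractMark, Function.update_of_ne hj, dif_pos hjw]
    · simp only [contractMark, Function.update_of_ne hj, dif_neg hjw]

theorem conicAdj_symm {k : ℕ} {T₁ T₂ : MarkedTree k} (h : ConicAdj T₁ T₂) : ConicAdj T₂ T₁ := by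
  obtain ⟨u₁, w₁, u₂, w₂, h₁, h₂, φ, hφ, hm⟩ := h
  refine ⟨u₂, w₂, u₁, w₁, h₂, h₁, φ.symm, ?_, fun i => ?_⟩
  · rw [← hφ, RelIso.symm_apply_apply]
  · rw [← hm i, RelIso.symm_apply_apply]

theorem reflTransGen_symm {k : ℕ} {T₁ T₂ : MarkedTree k}
    (h : Relation.ReflTransGen ConicAdj T₁ T₂) : Relation.ReflTransGen ConicAdj T₂ T₁ := by
  induction h with
  | refl => exact Relation.ReflTransGen.refl
  | tail _ hbc ih => exact Relation.ReflTransGen.head (conicAdj_symm hbc) ih

/-- a tree in which every vertex other than `c` is adjacent to `c` is the star at `c` -/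
theorem star_adj_iff {n : ℕ} {G : SimpleGraph (Fin n)} (hG : G.IsTree) (c : Fin n)
    (hc : ∀ v, v ≠ c → G.Adj c v) (a b : Fin n) :
    G.Adj a b ↔ (a = c ∧ b ≠ c) ∨ (b = c ∧ a ≠ c) := by
  constructor
  · intro hab
    by_cases ha : a = c
    · subst ha
      exact Or.inl ⟨rfl, hab.ne.symm⟩
    · by_cases hb : b = c
      · exact Or.inr ⟨hb, ha⟩
      · exact (no_triangle hG.isAcyclic (hc a ha) hab (hc b hb)).elim
  · rintro (⟨rfl, hb⟩ | ⟨rfl, ha⟩)
    · exact hc b hb
    · exact (hc a ha).symm

open Classical in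
/-- the measure: vertices not adjacent to `c` plus marks not at `c` -/
noncomputable def mu {k n : ℕ} (G : SimpleGraph (Fin n)) (m : Fin k → Fin n) (c : Fin n) : ℕ :=
  (Finset.univ.filter (fun v : Fin n => v ≠ c ∧ ¬ G.Adj c v)).card +
    (Finset.univ.filter (fun i : Fin k => m i ≠ c)).card

theorem exists_star {k n : ℕ} (c : Fin n) : ∀ (N : ℕ) (G : SimpleGraph (Fin n)) (hG : G.IsTree)
    (m : Fin k → Fin n), mu G m c = N →
    ∃ (G₀ : SimpleGraph (Fin n)) (hG₀ : G₀.IsTree) (m₀ : Fin k → Fin n),
      Relation.ReflTransGen ConicAdj (MT n G hG m) (MT n G₀ hG₀ m₀) ∧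
      (∀ v, v ≠ c → G₀.Adj c v) ∧ ∀ i, m₀ i = c := by
  classical
  intro N
  induction N using Nat.strong_induction_on with
  | _ N ih =>
    intro G hG m hN
    by_cases h1 : ∀ v, v ≠ c → G.Adj c v
    · by_cases h2 : ∀ i, m i = c
      · exact ⟨G, hG, m, Relation.ReflTransGen.refl, h1, h2⟩
      · push Not at h2
        obtain ⟨i, hi⟩ := h2
        have hcw : G.Adj c (m i) := h1 _ hi
        have hlt : mu G (Function.update m i c) c < N := by
          rw [← hN, mu, mu, add_lt_add_iff_left]
          apply Finset.card_lt_card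
          rw [Finset.ssubset_iff_of_subset]
          · refine ⟨i, by simp [hi], by simp⟩
          · intro j hj
            simp only [Finset.mem_filter, Finset.mem_univ, true_and] at hj ⊢
            by_cases hji : j = i
            · subst hji
              simp at hj
            · rwa [Function.update_of_ne hji] at hj
        obtain ⟨G₀, hG₀, m₀, hr, hs, hm⟩ := ih _ hlt G hG (Function.update m i c) rfl
        exact ⟨G₀, hG₀, m₀, Relation.ReflTransGen.head (conicAdj_markSlide G hG m i hcw) hr,
          hs, hm⟩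
    · push Not at h1
      obtain ⟨v, hvc, hv⟩ := h1
      -- find an edge leaving `{c} ∪ N(c)`
      have hex : ∃ a b, (a = c ∨ G.Adj c a) ∧ G.Adj a b ∧ ¬ (b = c ∨ G.Adj c b) := by
        by_contra hcon
        push Not at hcon
        have := mem_of_closed hG.connected c {v | v = c ∨ G.Adj c v} (Or.inl rfl)
          (fun a b ha hab => hcon a b ha hab) v
        rcases this with h | h
        · exact hvc h
        · exact hv h
      obtain ⟨w, x, hw, hwx, hx⟩ := hex
      push Not at hx
      have hcw : G.Adj c w := by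
        rcases hw with rfl | hw
        · exact (hx.2 hwx).elim
        · exact hw
      have hxc : x ≠ c := hx.1
      have hlt : mu (slide G c w x) m c < N := by
        rw [← hN, mu, mu, add_lt_add_iff_right]
        apply Finset.card_lt_card
        rw [Finset.ssubset_iff_of_subset]
        · refine ⟨x, by simp [hx.1, hx.2], ?_⟩
          simp only [Finset.mem_filter, Finset.mem_univ, true_and, not_and, not_not]
          intro _
          rw [slide_adj]
          exact Or.inr ⟨Or.inl ⟨rfl, rfl⟩, hxc.symm⟩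
        · intro u hu
          simp only [Finset.mem_filter, Finset.mem_univ, true_and] at hu ⊢
          refine ⟨hu.1, fun hcu => hu.2 ?_⟩
          rw [slide_adj]
          refine Or.inl ⟨hcu, ?_⟩
          intro h
          rw [Sym2.eq_iff] at h
          rcases h with ⟨h3, -⟩ | ⟨h3, -⟩
          · exact hcw.ne h3
          · exact hxc h3.symm
      obtain ⟨G₀, hG₀, m₀, hr, hs, hm⟩ :=
        ih _ hlt (slide G c w x) (slide_isTree hG hcw hwx hxc) m rfl
      exact ⟨G₀, hG₀, m₀, Relation.ReflTransGen.head (conicAdj_slide G hG m hcw hwx hxc) hr,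
        hs, hm⟩

/-- Let G₁ and G₂ be dual graphs of linear trees of the same total degree e and with k marked points
each, that is finite trees with e vertices, every vertex of degree one, together with a list of k
marked vertices (repetitions allowed). Then a finite chain of conic deformations leads from G₁ to
G₂. Here a conic deformation of such a graph is the marked graph obtained by contracting one edge
(the contracted vertex being the unique vertex of degree two), two marked trees are one step apart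
when they have isomorphic conic deformations, the isomorphism matching the contracted vertices and
the i-th marked vertices, and the conclusion is that G₁ and G₂ are related by the
reflexive-transitive closure of this one-step relation. -/
theorem result (k : ℕ) (T₁ T₂ : W4c3cyccovratcurv.MarkedTree k)
    (h : T₁.n = T₂.n) :
    Relation.ReflTransGen W4c3cyccovratcurv.ConicAdj T₁ T₂ := by
  obtain ⟨n, G₁, hG₁, m₁⟩ := T₁
  obtain ⟨n₂, G₂, hG₂, m₂⟩ := T₂
  simp only at h
  subst h
  have hpos : 0 < n := by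
    obtain ⟨v⟩ := hG₁.connected.nonempty
    exact Fin.pos v
  set c : Fin n := ⟨0, hpos⟩ with hc
  obtain ⟨A₁, hA₁, a₁, hr₁, hs₁, hm₁⟩ := exists_star (k := k) c _ G₁ hG₁ m₁ rfl
  obtain ⟨A₂, hA₂, a₂, hr₂, hs₂, hm₂⟩ := exists_star (k := k) c _ G₂ hG₂ m₂ rfl
  have hA : A₁ = A₂ := by
    ext a b
    rw [star_adj_iff hA₁ c hs₁, star_adj_iff hA₂ c hs₂]
  have ha : a₁ = a₂ := by
    funext i
    rw [hm₁, hm₂]
  subst hA
  subst ha
  exact hr₁.trans (reflTransGen_symm hr₂)

end Groth.Agent.S16206
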