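import Groth.Statements.S16212
import Groth.Agent.H63.FixSmooth
import Groth.Agent.H68.FixClosed
import Groth.Agent.Lead.FixedPts

set_option autoImplicit false
universe u v
open CategoryTheory AlgebraicGeometry
open AlgGrp

namespace Groth.Agent.S16212

/-- Let S be a scheme, X an S-scheme that is smooth, separated and of finite presentation over S, and G
a finite group whose order is invertible on S (a unit among the global functions of S) acting on X
by S-automorphisms. Then the scheme of G-fixed points of X, namely any S-scheme Z with an S-morphism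
ι to X that is itself fixed by every element of G (ι followed by the automorphism of each g equals
ι) and such that an S-morphism T → X is fixed by every element of G exactly when it factors through
ι, and then uniquely, is a closed subscheme of X (ι is a closed immersion) which is smooth and of
finite presentation over S (smooth, quasi-compact and quasi-separated). The published statement
assumes X only smooth and of finite presentation over S; this row also assumes X separated over S. -/
theorem result (S : Scheme.{u})
    (X : Over S) [Smooth X.hom] [QuasiCompact X.hom] [IsSeparated X.hom]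
    (G : Type v) [Group G] [Finite G] (ρ : G →* Aut X)
    (hG : IsUnit (Nat.card G : Γ(S, ⊤)))
    (Z : Over S) (ι : Z ⟶ X) (hι : ∀ g : G, ι ≫ (ρ g).hom = ι)
    (hZ : ∀ (T : Over S) (t : T ⟶ X), (∀ g : G, t ≫ (ρ g).hom = t) ↔ ∃! t' : T ⟶ Z, t' ≫ ι = t) :
    IsClosedImmersion ι.left ∧ Smooth Z.hom ∧ QuasiCompact Z.hom ∧ QuasiSeparated Z.hom := by

  have hcl := Groth.Agent.H68.FixClosed.isClosedImmersion_fixed S X G ρ Z ι hι hZ
  haveI := hcl
  have hZhom : Z.hom = ι.left ≫ X.hom := (Over.w ι).symm
  refine ⟨hcl, ?_, ?_, ?_⟩
  · have key : ∀ z : Z.left, ∃ W : Z.left.Opens, z ∈ W ∧ Smooth (W.ι ≫ Z.hom) := by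
      intro z
      have hx : ∀ g : G, (ρ g).hom.left.base (ι.left.base z) = ι.left.base z := by
        intro g
        exact congrArg (fun m => m.left.base z) (hι g)
      obtain ⟨V, U, hV, hU, hxU, hUV, hst⟩ :=
        Groth.Agent.Lead.FixedPts.exists_stable_affine S X G ρ (ι.left.base z) hx
      exact ⟨ι.left ⁻¹ᵁ U, hxU,
        Groth.Agent.H63.FixSmooth.smooth_local S X G ρ hG Z ι hι hZ V U hV hU hUV hst⟩
    choose W hzW hWsm using key
    have hcov : ⨆ z, W z = ⊤ := by
      rw [eq_top_iff]
      intro z _
      exact TopologicalSpace.Opens.mem_iSup.mpr ⟨z, hzW z⟩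
    exact Groth.Agent.H63.FixSmooth.smooth_of_cover Z.hom W hcov hWsm
  · rw [hZhom]; infer_instance
  · rw [hZhom]; infer_instance

end Groth.Agent.S16212
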