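import Groth.Statements.S16219
import Groth.Agent.H94.LimitHomLFT

set_option autoImplicit false
universe u
open Lim

namespace Groth.Agent.S16219

section Helpers
open CategoryTheory CategoryTheory.Limits AlgebraicGeometry Opposite

variable {ι : Type u} {A C : Type u} [CommRing A] [CommRing C] [Algebra A C]

/-- index type with the preorder induced by `S` -/
def Idx (_S : ι → Subalgebra A C) : Type u := ι

/-- underlying index -/
def Idx.get {S : ι → Subalgebra A C} (i : Idx S) : ι := i

instance (S : ι → Subalgebra A C) : Preorder (Idx S) :=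
  Preorder.lift (fun i : Idx S => S i.get)

theorem Idx.le_iff {S : ι → Subalgebra A C} (i j : Idx S) : i ≤ j ↔ S i.get ≤ S j.get := Iff.rfl

theorem isFiltered_idx (S : ι → Subalgebra A C) (hdir : Directed (· ≤ ·) S) (hne : Nonempty ι) :
    IsFiltered (Idx S) := by
  haveI : IsDirectedOrder (Idx S) := ⟨fun i j => by
    obtain ⟨k, hik, hjk⟩ := hdir i.get j.get
    exact ⟨(k : ι), hik, hjk⟩⟩
  haveI : Nonempty (Idx S) := hne
  infer_instance

/-- the diagram of subalgebras -/
noncomputable def subFunctor (S : ι → Subalgebra A C) : Idx S ⥤ CommRingCat.{u} where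
  obj i := CommRingCat.of (S i.get)
  map {i j} h := CommRingCat.ofHom
    (Subalgebra.inclusion (S := S i.get) (T := S j.get) (leOfHom h)).toRingHom
  map_id i := by
    ext x
    rfl
  map_comp h h' := by
    ext x
    rfl

/-- the cocone of inclusions -/
noncomputable def subCocone (S : ι → Subalgebra A C) : Cocone (subFunctor S) where
  pt := CommRingCat.of C
  ι :=
    { app := fun i => CommRingCat.ofHom (algebraMap (S i.get) C)
      naturality := fun i j h => by
        ext x
        rfl }

/-- `C` is the colimit of the `S i`. -/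
noncomputable def subCoconeIsColimit (S : ι → Subalgebra A C) [IsFiltered (Idx S)]
    (hcov : ∀ c : C, ∃ i, c ∈ S i) : IsColimit (subCocone S) := by
  haveI : ReflectsColimit (subFunctor S) (forget CommRingCat.{u}) :=
    reflectsColimit_of_reflectsIsomorphisms _ _
  apply isColimitOfReflects (forget CommRingCat.{u})
  apply Types.FilteredColimit.isColimitOf'
  · intro (x : C)
    obtain ⟨i, hi⟩ := hcov x
    exact ⟨(i : ι), ⟨x, hi⟩, rfl⟩
  · intro i x y h
    refine ⟨i, 𝟙 i, ?_⟩
    have hxy : x = y := Subtype.ext h
    rw [hxy]

/-- the diagram of spectra -/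
noncomputable def specDiagram (S : ι → Subalgebra A C) : (Idx S)ᵒᵖ ⥤ Scheme.{u} :=
  (subFunctor S).op ⋙ Scheme.Spec

/-- the cone over the diagram of spectra -/
noncomputable def specCone (S : ι → Subalgebra A C) : Cone (specDiagram S) :=
  Scheme.Spec.mapCone (subCocone S).op

/-- `Spec C` is the limit of the `Spec (S i)`. -/
noncomputable def specConeIsLimit (S : ι → Subalgebra A C) [IsFiltered (Idx S)]
    (hcov : ∀ c : C, ∃ i, c ∈ S i) : IsLimit (specCone S) :=
  isLimitOfPreserves Scheme.Spec (subCoconeIsColimit S hcov).op

theorem specDiagram_obj (S : ι → Subalgebra A C) (i : (Idx S)ᵒᵖ) :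
    (specDiagram S).obj i = Spec (CommRingCat.of (S i.unop.get)) := rfl

theorem specDiagram_map (S : ι → Subalgebra A C) {i j : (Idx S)ᵒᵖ} (φ : i ⟶ j) :
    (specDiagram S).map φ = Spec.map ((subFunctor S).map φ.unop) := rfl

theorem specCone_π (S : ι → Subalgebra A C) (i : (Idx S)ᵒᵖ) :
    (specCone S).π.app i = Spec.map (CommRingCat.ofHom (algebraMap (S i.unop.get) C)) := rfl

/-- structure maps to `Spec A` -/
noncomputable def specDiagramβ (S : ι → Subalgebra A C) :
    specDiagram S ⟶ (Functor.const _).obj (Spec (CommRingCat.of A)) where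
  app i := Spec.map (CommRingCat.ofHom (algebraMap A (S i.unop.get)))
  naturality i j φ := by
    have h : CommRingCat.ofHom (algebraMap A (S j.unop.get)) ≫ (subFunctor S).map φ.unop =
        CommRingCat.ofHom (algebraMap A (S i.unop.get)) := by
      ext x
      rfl
    refine Eq.trans ?_ (Category.comp_id _).symm
    exact (Spec.map_comp _ _).symm.trans (congrArg Spec.map h)

/-- `Spec.map` of an injective ring map is scheme-theoretically dominant
(proof as in `H91.MagnetDense.specMap_dominant`). -/
theorem specMap_dominant {R T : CommRingCat.{u}} (φ : R ⟶ T) (hφ : Function.Injective φ.hom) :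
    IsSchemeTheoreticallyDominant (Spec.map φ) := by
  rw [isSchemeTheoreticallyDominant_iff]
  refine Scheme.IdealSheafData.ext_of_isAffine ?_
  rw [Scheme.Hom.ker_apply, Scheme.IdealSheafData.ideal_bot, Pi.bot_apply,
    ← RingHom.injective_iff_ker_eq_bot]
  have h := Scheme.ΓSpecIso_naturality φ
  have h2 : (Spec.map φ).appTop = (Scheme.ΓSpecIso R).hom ≫ φ ≫ (Scheme.ΓSpecIso T).inv := by
    rw [← Category.assoc, ← h, Category.assoc, Iso.hom_inv_id, Category.comp_id]
  change Function.Injective (Spec.map φ).appTop.hom
  rw [h2]
  simp only [CommRingCat.hom_comp, RingHom.coe_comp]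
  exact ((ConcreteCategory.bijective_of_isIso (Scheme.ΓSpecIso T).inv).1.comp hφ).comp
    (ConcreteCategory.bijective_of_isIso (Scheme.ΓSpecIso R).hom).1

end Helpers

open AlgebraicGeometry CategoryTheory in
/-- Let A be a commutative ring, X a scheme of finite type over Spec A (quasi-compact and locally of
finite type), C an A-algebra that is an integral domain and the union of a directed family of
A-subalgebras C_i, and g : Spec C → X an A-morphism. Then for some index i there is an A-morphism
Spec C_i → X whose composite with the morphism Spec C → Spec C_i induced by the inclusion is g. The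
published statement asserts that the map from the colimit of the sets of A-morphisms Spec C_i → X to
the set of A-morphisms Spec C → X is bijective; this row states only that it is surjective
(injectivity holds for every filtered colimit of A-algebras). -/
theorem result
    {ι : Type u} (A C : Type u) [CommRing A] [CommRing C] [Algebra A C] [IsDomain C]
    (S : ι → Subalgebra A C) (hdir : Directed (· ≤ ·) S) (hcov : ∀ c : C, ∃ i, c ∈ S i)
    (X : Scheme.{u}) (f : X ⟶ Spec (CommRingCat.of A))
    [LocallyOfFiniteType f] [QuasiCompact f]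
    (g : Spec (CommRingCat.of C) ⟶ X)
    (hg : g ≫ f = Spec.map (CommRingCat.ofHom (algebraMap A C))) :
    ∃ (i : ι) (g' : Spec (CommRingCat.of (S i)) ⟶ X),
      g' ≫ f = Spec.map (CommRingCat.ofHom (algebraMap A (S i))) ∧
      Spec.map (CommRingCat.ofHom (S i).val.toRingHom) ≫ g' = g := by
  classical
  have hne : Nonempty ι := ⟨(hcov 0).choose⟩
  haveI : IsFiltered (Idx S) := isFiltered_idx S hdir hne
  haveI : ∀ i, IsAffine ((specDiagram S).obj i) := fun i => by
    rw [specDiagram_obj]; infer_instance
  haveI : ∀ {i j : (Idx S)ᵒᵖ} (φ : i ⟶ j), IsAffineHom ((specDiagram S).map φ) := fun φ => by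
    rw [specDiagram_map]; infer_instance
  have hdom : ∀ {i j : (Idx S)ᵒᵖ} (φ : i ⟶ j),
      IsSchemeTheoreticallyDominant ((specDiagram S).map φ) := fun {i j} φ => by
    rw [specDiagram_map]
    apply specMap_dominant
    intro x y hxy
    have h3 := congrArg Subtype.val hxy
    exact Subtype.ext h3
  haveI : ∀ i, CompactSpace ((specDiagram S).obj i) := fun i => inferInstance
  haveI : ∀ i, QuasiSeparatedSpace ((specDiagram S).obj i) := fun i => inferInstance
  obtain ⟨i, g', h1, h2⟩ :=
    Groth.Agent.H94.LimitHomLFT.exists_π_app_comp_eq_of_locallyOfFiniteType_of_dominant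
      (specDiagram S) (specDiagramβ S) f (specCone S) (specConeIsLimit S hcov) hdom g (by
        ext i : 2
        show (specCone S).π.app i ≫ (specDiagramβ S).app i = g ≫ f
        rw [hg, specCone_π]
        show Spec.map _ ≫ Spec.map _ = _
        rw [← Spec.map_comp]
        rfl)
  exact ⟨i.unop.get, g', h2, h1⟩

end Groth.Agent.S16219
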