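import Groth.Statements.S16220
import Mathlib.RingTheory.WittVector.Identities
import Mathlib.RingTheory.Ideal.Operations
import Mathlib.Tactic.Abel

set_option autoImplicit false
universe u v
open Disp

namespace Groth.Agent.S16220

open WittVector in
/-- `p` is a non-zero-divisor in the Witt vectors of a perfect ring. -/
theorem p_nzd (p : ℕ) [Fact p.Prime] (k : Type u) [CommRing k] [CharP k p] [PerfectRing k p]
    (x : WittVector p k) (h : (p : WittVector p k) * x = 0) : x = 0 := by
  rw [mul_comm] at h
  ext i
  have h1 := WittVector.mul_charP_coeff_succ (p := p) x i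
  rw [h, WittVector.zero_coeff] at h1
  rw [WittVector.zero_coeff]
  apply injective_frobenius k p
  rw [frobenius_def, frobenius_def, ← h1, zero_pow (Fact.out : p.Prime).ne_zero]

/-- `p`-torsion in a projective module over `W / p ^ n` is divisible by `p ^ (n - 1)`. -/
theorem ptors (p : ℕ) [Fact p.Prime] (k : Type u) [CommRing k]
    [CharP k p] [PerfectRing k p] (n : ℕ) (hn : 1 ≤ n)
    (M : Type v) [AddCommGroup M] [Module (WittVector p k) M]
    [Module (WittVector p k ⧸ Ideal.span {(p : WittVector p k) ^ n}) M]
    [IsScalarTower (WittVector p k) (WittVector p k ⧸ Ideal.span {(p : WittVector p k) ^ n}) M]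
    [Module.Projective (WittVector p k ⧸ Ideal.span {(p : WittVector p k) ^ n}) M]
    (m : M) (hm : (p : WittVector p k) • m = 0) :
    ∃ m' : M, m = (p : WittVector p k) ^ (n - 1) • m' := by
  classical
  set W := WittVector p k
  set R := W ⧸ Ideal.span {(p : W) ^ n} with hR
  have hsm : ∀ (w : W) (x : M), w • x = (Ideal.Quotient.mk (Ideal.span {(p : W) ^ n}) w) • x := by
    intro w x
    have : w • x = (w • (1 : R)) • x := by rw [smul_assoc, one_smul]
    rw [this, Algebra.smul_def, mul_one]; rfl
  -- the statement in the ring `R`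
  have hring : ∀ c : R, (Ideal.Quotient.mk (Ideal.span {(p : W) ^ n}) (p : W)) * c = 0 →
      ∃ c' : R, c = (Ideal.Quotient.mk (Ideal.span {(p : W) ^ n}) (p : W)) ^ (n - 1) * c' := by
    intro c hc
    obtain ⟨w, rfl⟩ := Ideal.Quotient.mk_surjective c
    rw [← map_mul, Ideal.Quotient.eq_zero_iff_mem, Ideal.mem_span_singleton] at hc
    obtain ⟨v, hv⟩ := hc
    have h1 : (p : W) * (w - (p : W) ^ (n - 1) * v) = 0 := by
      have : (p : W) ^ n = (p : W) * (p : W) ^ (n - 1) := by
        rw [← pow_succ']; congr 1; omega
      rw [mul_sub, hv, this]; ring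
    have h2 := p_nzd p k _ h1
    refine ⟨Ideal.Quotient.mk _ v, ?_⟩
    rw [← map_pow, ← map_mul]
    congr 1
    exact sub_eq_zero.mp h2
  obtain ⟨s, hs⟩ := (Module.projective_def' (R := R) (P := M)).mp inferInstance
  choose! g hg using hring
  set y : M →₀ R := s m with hy
  have hpy : (Ideal.Quotient.mk (Ideal.span {(p : W) ^ n}) (p : W)) • y = 0 := by
    rw [hy, ← map_smul, ← hsm, hm, map_zero]
  have hcoord : ∀ x : M, (Ideal.Quotient.mk (Ideal.span {(p : W) ^ n}) (p : W)) * y x = 0 := by
    intro x
    have := DFunLike.congr_fun hpy x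
    simpa using this
  have hy' : y = (Ideal.Quotient.mk (Ideal.span {(p : W) ^ n}) (p : W)) ^ (n - 1) •
      (y.mapRange (fun c => if c = 0 then 0 else g c) (by simp)) := by
    ext x
    simp only [Finsupp.smul_apply, Finsupp.mapRange_apply, smul_eq_mul]
    by_cases hx : y x = 0
    · simp [hx]
    · rw [if_neg hx]
      exact hg _ (hcoord x)
  refine ⟨Finsupp.linearCombination R id (y.mapRange (fun c => if c = 0 then 0 else g c) (by simp)), ?_⟩
  have hm' : m = Finsupp.linearCombination R id y := by
    have := LinearMap.congr_fun hs m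
    simpa using this.symm
  conv_lhs => rw [hm', hy', map_smul]
  rw [hsm, map_pow]

/-- The general comparison, used twice. -/
theorem comap_eq (p : ℕ) [Fact p.Prime] (k : Type u) [CommRing k]
    [CharP k p] [PerfectRing k p] (n : ℕ) (hn : 2 ≤ n)
    (M : Type v) [AddCommGroup M] [Module (WittVector p k) M]
    [Module (WittVector p k ⧸ Ideal.span {(p : WittVector p k) ^ n}) M]
    [IsScalarTower (WittVector p k) (WittVector p k ⧸ Ideal.span {(p : WittVector p k) ^ n}) M]
    [Module.Projective (WittVector p k ⧸ Ideal.span {(p : WittVector p k) ^ n}) M]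
    {σ₁ σ₂ : WittVector p k →+* WittVector p k}
    (G : M →ₛₗ[σ₁] M) (H : M →ₛₗ[σ₂] M)
    (hGH : ∀ m : M, G (H m) = (p : WittVector p k) • m)
    (hHG : ∀ m : M, H (G m) = (p : WittVector p k) • m) :
    (Ideal.span {(p : WittVector p k)} • (⊤ : Submodule (WittVector p k) M)).comap G =
      Submodule.span (WittVector p k) (Set.range H) ⊔
        Ideal.span {(p : WittVector p k)} • (⊤ : Submodule (WittVector p k) M) := by
  set W := WittVector p k
  have hmem : ∀ x : M, x ∈ Ideal.span {(p : W)} • (⊤ : Submodule W M) ↔ ∃ y : M, x = (p : W) • y := by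
    intro x
    rw [Submodule.ideal_span_singleton_smul, Submodule.mem_smul_pointwise_iff_exists]
    constructor
    · rintro ⟨y, -, rfl⟩; exact ⟨y, rfl⟩
    · rintro ⟨y, rfl⟩; exact ⟨y, trivial, rfl⟩
  have hσ : σ₁ (p : W) = p := map_natCast σ₁ p
  apply le_antisymm
  · intro x hx
    rw [Submodule.mem_comap, hmem] at hx
    obtain ⟨y, hy⟩ := hx
    have hz : G (x - H y) = 0 := by rw [map_sub, hy, hGH, sub_self]
    have hpz : (p : W) • (x - H y) = 0 := by rw [← hHG, hz, map_zero]
    obtain ⟨z', hz'⟩ := ptors p k n (by omega) M _ hpz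
    have : x = H y + (p : W) • ((p : W) ^ (n - 2) • z') := by
      rw [smul_smul, ← pow_succ', show n - 2 + 1 = n - 1 by omega, ← hz']; abel
    rw [this]
    refine Submodule.add_mem_sup (Submodule.subset_span ⟨y, rfl⟩) ?_
    exact (hmem _).mpr ⟨_, rfl⟩
  · refine sup_le ?_ ?_
    · rw [Submodule.span_le]
      rintro _ ⟨y, rfl⟩
      rw [SetLike.mem_coe, Submodule.mem_comap, hGH]
      exact (hmem _).mpr ⟨_, rfl⟩
    · intro x hx
      obtain ⟨y, rfl⟩ := (hmem x).mp hx
      rw [Submodule.mem_comap, map_smulₛₗ, hσ]
      exact (hmem _).mpr ⟨_, rfl⟩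


/-- Let p be a prime and k a perfect ring of characteristic p, so that the Frobenius σ of W = W(k) is
bijective, W has no p-torsion and W/p^n W = W_n(k) (the ideal p^n W is the kernel of the truncation
to length n). Let n ≥ 2 and let M be a truncated Dieudonné module of level n over k: a W-module on
which W acts through W/p^n W, finitely generated and projective over W/p^n W, with a σ-semilinear F
: M → M and a σ⁻¹-semilinear V : M → M such that FV = VF = p. Then on M/pM the kernel of F is the
image of V and the kernel of V is the image of F; stated inside M: the preimage of pM under F is VM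
+ pM, and the preimage of pM under V is FM + pM. -/
theorem result (p : ℕ) [Fact p.Prime] (k : Type u) [CommRing k]
    [CharP k p] [PerfectRing k p] (n : ℕ) (hn : 2 ≤ n)
    (M : Type v) [AddCommGroup M] [Module (WittVector p k) M]
    [Module (WittVector p k ⧸ Ideal.span {(p : WittVector p k) ^ n}) M] [IsScalarTower (WittVector p k) (WittVector p k ⧸ Ideal.span {(p : WittVector p k) ^ n}) M]
    [Module.Finite (WittVector p k ⧸ Ideal.span {(p : WittVector p k) ^ n}) M] [Module.Projective (WittVector p k ⧸ Ideal.span {(p : WittVector p k) ^ n}) M]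
    (F : M →ₛₗ[(WittVector.frobenius : WittVector p k →+* WittVector p k)] M)
    (V : M →ₛₗ[((WittVector.frobeniusEquiv p k).symm : WittVector p k →+* WittVector p k)] M)
    (hFV : ∀ m : M, F (V m) = (p : WittVector p k) • m) (hVF : ∀ m : M, V (F m) = (p : WittVector p k) • m) :
    (Ideal.span {(p : WittVector p k)} • (⊤ : Submodule (WittVector p k) M)).comap F =
        Submodule.span (WittVector p k) (Set.range V) ⊔ Ideal.span {(p : WittVector p k)} • (⊤ : Submodule (WittVector p k) M) ∧
      (Ideal.span {(p : WittVector p k)} • (⊤ : Submodule (WittVector p k) M)).comap V =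
        Submodule.span (WittVector p k) (Set.range F) ⊔ Ideal.span {(p : WittVector p k)} • (⊤ : Submodule (WittVector p k) M) := by
  exact ⟨comap_eq p k n hn M F V hFV hVF, comap_eq p k n hn M V F hVF hFV⟩

end Groth.Agent.S16220
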