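import Groth.Statements.S16223
import Groth.Agent.H74.WittDescFF
-- import your own Groth.Agent.* helpers here

set_option autoImplicit false
open CategoryTheory Opposite
universe u
open CAlg

namespace Groth.Agent.S16223

/-- Let p be a prime, n a natural number, and R → R' a faithfully flat homomorphism of commutative rings
in which p is nilpotent; write W_n for truncated Witt vectors of length n. A descent datum of
W_n(R')-modules relative to R → R' is a W_n(R')-module M' with, for every ring T and every pair of
maps R' ⇉ T agreeing on R, an isomorphism between the two base changes of M' to W_n(T), natural in T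
and satisfying the cocycle condition (equivalently an isomorphism over W_n(R' ⊗_R R') with the
cocycle condition over W_n(R' ⊗_R R' ⊗_R R')); base change W_n(R') ⊗_{W_n(R)} M of a W_n(R)-module M
carries the canonical such datum. Then for finitely generated projective W_n(R)-modules M and N, the
map sending a W_n(R)-linear map M → N to the induced morphism of canonical descent data is bijective
(the functor to descent data is fully faithful on such modules). -/
theorem result (p : ℕ) [Fact p.Prime] (n : ℕ)
    (R R' : Type u) [CommRing R] [CommRing R'] [Algebra R R'] [Module.FaithfullyFlat R R']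
    (hp : IsNilpotent (p : R))
    (M N : ModuleCat.{u} (TruncatedWittVector p n R))
    [Module.Finite (TruncatedWittVector p n R) M] [Module.Projective (TruncatedWittVector p n R) M]
    [Module.Finite (TruncatedWittVector p n R) N] [Module.Projective (TruncatedWittVector p n R) N] :
    Function.Bijective (fun φ : M ⟶ N =>
      ((W4c3truncdispsmooth.wittModPF.{u} p n).toDescentData (fun _ : PUnit.{u + 1} => (CommRingCat.ofHom (algebraMap R R')).op)).map φ) := by
  classical
  have hflat : Module.Flat (TruncatedWittVector p n R) N := inferInstance
  have hf₁ : (CommRingCat.ofHom (Algebra.TensorProduct.includeLeftRingHom :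
        R' →+* TensorProduct R R' R')).op ≫ (CommRingCat.ofHom (algebraMap R R')).op =
      (CommRingCat.ofHom (algebraMap R (TensorProduct R R' R'))).op := by
    rw [← op_comp]
    congr 1
  have hf₂ : (CommRingCat.ofHom ((Algebra.TensorProduct.includeRight :
        R' →ₐ[R] TensorProduct R R' R') : R' →+* TensorProduct R R' R')).op ≫
        (CommRingCat.ofHom (algebraMap R R')).op =
      (CommRingCat.ofHom (algebraMap R (TensorProduct R R' R'))).op := by
    rw [← op_comp]
    congr 1
    apply CommRingCat.hom_ext
    apply RingHom.ext
    intro r
    exact (Algebra.TensorProduct.includeRight : R' →ₐ[R] TensorProduct R R' R').commutes r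
  have hinj : Function.Injective (WittGrp.truncMap p n (algebraMap R R')) :=
    Groth.Agent.H74.WittDescent.truncMap_injective p n _
      (FaithfulSMul.algebraMap_injective R R')
  have heq : ∀ y : TruncatedWittVector p n R',
      WittGrp.truncMap p n (Algebra.TensorProduct.includeLeftRingHom :
        R' →+* TensorProduct R R' R') y =
      WittGrp.truncMap p n ((Algebra.TensorProduct.includeRight :
        R' →ₐ[R] TensorProduct R R' R') : R' →+* TensorProduct R R' R') y →
      y ∈ Set.range (WittGrp.truncMap p n (algebraMap R R')) := by
    intro y hy
    have h1 : ∀ i, y.coeff i ∈ Set.range (algebraMap R R') := by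
      intro i
      refine Groth.Agent.H74.WittDescent.mem_range_of_eq R R' _ ?_
      have h2 := congrArg (fun z => z.coeff i) hy
      simp only [WittGrp.coeff_truncMap] at h2
      exact h2
    choose s hs using h1
    refine ⟨TruncatedWittVector.mk p s, ?_⟩
    refine TruncatedWittVector.ext (fun i => ?_)
    rw [WittGrp.coeff_truncMap, TruncatedWittVector.coeff_mk]
    exact hs i
  exact Groth.Agent.H74.WittDescFF.bijective_of_equalizer p n
    (S₀ := op (CommRingCat.of R)) (X₀ := op (CommRingCat.of R'))
    (Y₀ := op (CommRingCat.of (TensorProduct R R' R')))
    (CommRingCat.ofHom (algebraMap R R')).op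
    (CommRingCat.ofHom (Algebra.TensorProduct.includeLeftRingHom :
        R' →+* TensorProduct R R' R')).op
    (CommRingCat.ofHom ((Algebra.TensorProduct.includeRight :
        R' →ₐ[R] TensorProduct R R' R') : R' →+* TensorProduct R R' R')).op
    (CommRingCat.ofHom (algebraMap R (TensorProduct R R' R'))).op
    hf₁ hf₂ M N hinj heq

end Groth.Agent.S16223
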