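import Groth.Statements.S16226
import Groth.Agent.H40.FpqcSub

set_option autoImplicit false
universe u
open CategoryTheory MonoidalCategory CartesianMonoidalCategory MonObj AlgebraicGeometry
open PrincBund

namespace Groth.Agent.S16226

/-- Let i : G → H be a homomorphism of group schemes over a base scheme S which is a closed immersion, F
an H-torsor over S for the etale topology with action aF, and π : F → Q a morphism of S-schemes
exhibiting Q as the quotient F/G, in the sense that the square formed by the restricted action G ×_S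
F → F, the projection G ×_S F → F and π twice is cartesian and π acquires sections etale-locally on
Q. Then for every section σ of Q over S there are a G-torsor E over S for the etale topology and an
i-equivariant morphism φ : E → F over S such that the square (φ, E → S; π, σ) is cartesian; that is,
σ comes from a reduction of the structure group of F to G. (Stated over an arbitrary base scheme and
for arbitrary group schemes; the quotient F/G is taken as data through its torsor property rather
than constructed.) -/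
theorem result
    {S : Scheme.{u}} {G H F Q : Over S} [GrpObj G] [GrpObj H]
    (i : G ⟶ H) [IsMonHom i] [IsClosedImmersion i.left]
    (aF : AlgGrp.Action H F) (hF : NonAbH1.IsTorsorFor Scheme.etalePrecoverage aF)
    (π : F ⟶ Q)
    (hsq : IsPullback (aF.restrict i).act (snd G F) π π)
    (hloc : NonAbH1.IsLocallyTrivialFor Scheme.etalePrecoverage (Over.mk π.left : Over Q.left))
    (σ : 𝟙_ (Over S) ⟶ Q) :
    ∃ (E : Over S) (aE : AlgGrp.Action G E) (φ : E ⟶ F),
      NonAbH1.IsTorsorFor Scheme.etalePrecoverage aE ∧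
      AlgGrp.Action.IsEquivariant aE (aF.restrict i) φ ∧
      IsPullback φ (toUnit E) π σ := by
  open Groth.Agent.H40.FpqcFam in
  obtain ⟨RQ, hRQ, hπsec⟩ := hloc
  let E : Over S := fib π σ
  let i₀ : E ⟶ F := fibIncl π σ
  have hi₀ : ∀ {T : Over S} (q : T ⟶ E), (q ≫ i₀) ≫ π = toUnit T ≫ σ :=
    fun q => fibIncl_comp_pt π σ q
  have hi₀π : i₀ ≫ π = toUnit E ≫ σ := (isPullback_fib π σ).w
  have hact : ((G ◁ i₀) ≫ (aF.restrict i).act) ≫ π = toUnit _ ≫ σ := by
    rw [Category.assoc, hsq.w, whiskerLeft_snd_assoc, hi₀π, ← Category.assoc,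
      toUnit_unique (snd G E ≫ toUnit E) (toUnit _)]
  let actE : G ⊗ E ⟶ E := fibLift π σ _ hact
  have hactE : actE ≫ i₀ = (G ◁ i₀) ≫ (aF.restrict i).act := fibLift_incl π σ _ hact
  let aE : AlgGrp.Action G E := subAction (aF.restrict i) i₀ actE hactE
  have haE : ∀ {T : Over S} (g : T ⟶ G) (q : T ⟶ E),
      (lift g q ≫ aE.act) ≫ i₀ = lift g (q ≫ i₀) ≫ (aF.restrict i).act := by
    intro T g q
    change (lift g q ≫ actE) ≫ i₀ = _
    rw [Category.assoc, hactE, lift_whiskerLeft_assoc]
  have hpsE : NonAbH1.IsPseudoTorsorSch aE := by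
    apply pseudoTorsor_of_pts
    intro T x y
    have hxy : (x ≫ i₀) ≫ π = (y ≫ i₀) ≫ π := by rw [hi₀, hi₀]
    have hw : hsq.lift (x ≫ i₀) (y ≫ i₀) hxy =
        lift (hsq.lift (x ≫ i₀) (y ≫ i₀) hxy ≫ fst G F) (y ≫ i₀) := by
      apply CartesianMonoidalCategory.hom_ext
      · rw [lift_fst]
      · rw [lift_snd, hsq.lift_snd]
    refine ⟨hsq.lift (x ≫ i₀) (y ≫ i₀) hxy ≫ fst G F, ?_, ?_⟩
    · change lift _ y ≫ aE.act = x
      rw [← cancel_mono i₀, haE, ← hw, hsq.lift_fst]
    · intro g'' hg''
      have e : lift g'' (y ≫ i₀) = hsq.lift (x ≫ i₀) (y ≫ i₀) hxy := by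
        apply hsq.hom_ext
        · rw [hsq.lift_fst, ← haE, hg'']
        · rw [hsq.lift_snd, lift_snd]
      rw [← e, lift_fst]
  have hlocE : NonAbH1.IsLocallyTrivialFor Scheme.etalePrecoverage E := by
    let σ₀ : S ⟶ Q.left := σ.left
    have hσ₀ : σ₀ ≫ Q.hom = 𝟙 S := Over.w σ
    refine ⟨RQ.pullbackArrows σ₀, Precoverage.pullbackArrows_mem σ₀ hRQ, ?_⟩
    rintro W w ⟨Z₀, r, hr⟩
    obtain ⟨t, ht⟩ := hπsec r hr
    have ht' : t ≫ π.left = r := ht
    let W' : Over S := Over.mk (Limits.pullback.snd r σ₀)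
    let x : W' ⟶ F := Over.homMk (Limits.pullback.fst r σ₀ ≫ t) (by
      change (Limits.pullback.fst r σ₀ ≫ t) ≫ F.hom = Limits.pullback.snd r σ₀
      rw [← Over.w π, Category.assoc, ← Category.assoc t, ht', ← Category.assoc,
        Limits.pullback.condition, Category.assoc, hσ₀, Category.comp_id])
    have hx : x ≫ π = toUnit W' ≫ σ := by
      apply Over.OverMorphism.ext
      change (Limits.pullback.fst r σ₀ ≫ t) ≫ π.left = Limits.pullback.snd r σ₀ ≫ σ₀
      rw [Category.assoc, ht', Limits.pullback.condition]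
    exact ⟨(fibLift π σ x hx).left, Over.w (fibLift π σ x hx)⟩
  exact ⟨E, aE, i₀, ⟨hpsE, hlocE⟩, hactE, isPullback_fib π σ⟩

end Groth.Agent.S16226
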