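import Groth.Statements.S16227
import Groth.Agent.H40.FpqcMap
import Groth.Agent.H40.FlatDesc
import Mathlib.AlgebraicGeometry.Sites.Proetale

set_option autoImplicit false
universe u
open CategoryTheory MonoidalCategory CartesianMonoidalCategory MonObj AlgebraicGeometry
open PrincBund

namespace Groth.Agent.S16227

/-- Let i : G → H be a homomorphism of group schemes over a base scheme S which is a closed immersion, F
an H-torsor over S for the etale topology with action aF, and π : F → Q a morphism of S-schemes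
exhibiting Q as the quotient F/G, in the sense that the square formed by the restricted action G ×_S
F → F, the projection G ×_S F → F and π twice is cartesian and π acquires sections etale-locally on
Q. Then a reduction of the structure group of F to G, namely a G-torsor E over S for the etale
topology together with an i-equivariant morphism φ : E → F over S, determines a unique section σ of
Q over S such that the composite E → S → Q equals φ followed by π, and for this σ the square (φ, E →
S; π, σ) is cartesian, so that E is recovered as the pullback of F along σ. (Stated over an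
arbitrary base scheme and for arbitrary group schemes; the quotient F/G is taken as data through its
torsor property rather than constructed.) -/
theorem result
    {S : Scheme.{u}} {G H F Q : Over S} [GrpObj G] [GrpObj H]
    (i : G ⟶ H) [IsMonHom i] [IsClosedImmersion i.left]
    (aF : AlgGrp.Action H F) (hF : NonAbH1.IsTorsorFor Scheme.etalePrecoverage aF)
    (π : F ⟶ Q)
    (hsq : IsPullback (aF.restrict i).act (snd G F) π π)
    (hloc : NonAbH1.IsLocallyTrivialFor Scheme.etalePrecoverage (Over.mk π.left : Over Q.left))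
    {E : Over S} (aE : AlgGrp.Action G E) (hE : NonAbH1.IsTorsorFor Scheme.etalePrecoverage aE)
    (φ : E ⟶ F) (hφ : AlgGrp.Action.IsEquivariant aE (aF.restrict i) φ) :
    (∃! σ : 𝟙_ (Over S) ⟶ Q, toUnit E ≫ σ = φ ≫ π) ∧
      ∀ σ : 𝟙_ (Over S) ⟶ Q, toUnit E ≫ σ = φ ≫ π → IsPullback φ (toUnit E) π σ := by
  open Groth.Agent.H40.FpqcFam in
  have hle : Scheme.etalePrecoverage.{u} ≤ Scheme.fpqcPrecoverage :=
    le_trans Scheme.etalePrecoverage_le_proetalePrecoverage Scheme.proetalePrecoverage_le_fpqcPrecoverage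
  have hEq : NonAbH1.IsTorsorFor Scheme.fpqcPrecoverage aE := by
    obtain ⟨hps, R, hR, hsec⟩ := hE
    exact ⟨hps, R, hle S hR, hsec⟩
  have hpsE := hE.1
  have hpsF := hF.1
  have : Mono i := Groth.Agent.H40.FlatDesc.mono_of_isClosedImmersion_left i
  -- equivariance and invariance on points
  have heq : ∀ {T : Over S} (g : T ⟶ G) (e : T ⟶ E),
      (lift g e ≫ aE.act) ≫ φ = lift g (e ≫ φ) ≫ (aF.restrict i).act := by
    intro T g e
    unfold AlgGrp.Action.IsEquivariant at hφ
    rw [Category.assoc, hφ, ← Category.assoc, lift_whiskerLeft]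
  have hπ : ∀ {T : Over S} (g : T ⟶ G) (f : T ⟶ F),
      (lift g f ≫ (aF.restrict i).act) ≫ π = f ≫ π := by
    intro T g f
    rw [Category.assoc, hsq.w, ← Category.assoc, lift_snd]
  have hinvpt : ∀ (T : Over S) (g : T ⟶ G) (e : T ⟶ E),
      (lift g e ≫ aE.act) ≫ φ ≫ π = e ≫ φ ≫ π := by
    intro T g e
    rw [← Category.assoc, heq, hπ, Category.assoc]
  have hmono : ∀ {T : Over S} (e₁ e₂ : T ⟶ E), e₁ ≫ φ = e₂ ≫ φ → e₁ = e₂ := by
    intro T e₁ e₂ e
    have h1 : lift (lift e₁ e₂ ≫ dv hpsE) e₂ ≫ aE.act = e₁ := dv_act hpsE e₁ e₂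
    have h2 := heq (lift e₁ e₂ ≫ dv hpsE) e₂
    rw [h1, e, AlgGrp.Action.lift_restrict_act] at h2
    have h3 : (lift e₁ e₂ ≫ dv hpsE) ≫ i = 1 := by
      apply act_free hpsF _ _ (e₂ ≫ φ)
      rw [← h2, AlgGrp.Action.lift_one_act]
    have h4 : lift e₁ e₂ ≫ dv hpsE = 1 := by
      rw [← cancel_mono i, h3]
      exact ((Groth.Agent.H40.GrpFun.post i T).map_one).symm
    rw [← h1, h4, AlgGrp.Action.lift_one_act]
  constructor
  · obtain ⟨σ, hσ⟩ := exists_desc_snd hEq (fst E (𝟙_ (Over S)) ≫ φ ≫ π) (by
      intro T g x y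
      rw [lift_fst_assoc, lift_fst_assoc]
      exact hinvpt T g x)
    have hcomm : toUnit E ≫ σ = φ ≫ π := by
      have := congrArg (fun m => lift (𝟙 E) (toUnit E) ≫ m) hσ
      simp only [lift_snd_assoc, lift_fst_assoc, Category.id_comp] at this
      exact this
    refine ⟨σ, hcomm, fun σ' hσ' => ?_⟩
    apply snd_cancel (X := E) hEq.2
    have h1 : snd E (𝟙_ (Over S)) = fst E (𝟙_ (Over S)) ≫ toUnit E := toUnit_unique _ _
    rw [h1, Category.assoc, Category.assoc, hσ', hcomm]
  · intro σ hσ
    have key : ∀ (W : Over S) (f : W ⟶ F), f ≫ π = toUnit W ≫ σ → ∃ e : W ⟶ E, e ≫ φ = f := by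
      intro W f hf
      have : Mono φ := ⟨fun e₁ e₂ e => hmono e₁ e₂ e⟩
      obtain ⟨R', hR', hε⟩ := exists_cover_sections hEq.2 W
      refine over_exists_factor_mono hR' φ f (fun T' p hp => ?_)
      obtain ⟨ε⟩ := hε p hp
      have e1 : (ovHom W p ≫ f) ≫ π = (ε ≫ φ) ≫ π := by
        rw [Category.assoc, hf, Category.assoc, ← hσ, ← Category.assoc, ← Category.assoc]
        congr 1
        exact toUnit_unique _ _
      have h1 := hsq.lift_fst _ _ e1
      have h2 := hsq.lift_snd _ _ e1
      have h3 : hsq.lift _ _ e1 = lift (hsq.lift _ _ e1 ≫ fst G F) (ε ≫ φ) := by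
        apply CartesianMonoidalCategory.hom_ext
        · rw [lift_fst]
        · rw [lift_snd, h2]
      refine ⟨lift (hsq.lift _ _ e1 ≫ fst G F) ε ≫ aE.act, ?_⟩
      rw [heq, ← h3, h1]
    have hs : ∀ s : Limits.PullbackCone π σ, s.fst ≫ π = toUnit s.pt ≫ σ := by
      intro s
      rw [s.condition, toUnit_unique s.snd (toUnit _)]
    refine ⟨⟨hσ.symm⟩, ⟨Limits.PullbackCone.IsLimit.mk hσ.symm
      (fun s => (key s.pt s.fst (hs s)).choose)
      (fun s => (key s.pt s.fst (hs s)).choose_spec) (fun s => toUnit_unique _ _)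
      (fun s m hm _ => hmono _ _ (hm.trans (key s.pt s.fst (hs s)).choose_spec.symm))⟩⟩

end Groth.Agent.S16227
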