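import Groth.Statements.S16233
import Mathlib.RingTheory.AlgebraTower
import Mathlib.Algebra.MonoidAlgebra.Module
import Mathlib.Tactic.Abel

set_option autoImplicit false
open NCTr

namespace Groth.Agent.S16233

section general

variable {A : Type*} [Ring A]

theorem mk_mul_comm (a b : A) :
    (QuotientAddGroup.mk (a * b) : NCTr.Abel A) = QuotientAddGroup.mk (b * a) := by
  rw [QuotientAddGroup.eq]
  exact AddSubgroup.subset_closure ⟨b, a, by abel⟩

variable {E : Type*} [AddCommGroup E] [Module A E] {κ κ' : Type*} [Fintype κ] [Fintype κ']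

theorem coord (c : Module.Basis κ A E) (c' : Module.Basis κ' A E) (x : E) (k : κ') :
    c'.repr x k = ∑ j, c.repr x j * c'.repr (c j) k := by
  conv_lhs => rw [← c.sum_repr x]
  simp only [map_sum, map_smul, Finsupp.coe_finset_sum, Finset.sum_apply, Finsupp.smul_apply,
    smul_eq_mul]

theorem coordu (c : Module.Basis κ A E) (u : E →ₗ[A] E) (y : E) (j : κ) :
    c.repr (u y) j = ∑ i, c.repr y i * c.repr (u (c i)) j := by
  conv_lhs => rw [← c.sum_repr y]
  simp only [map_sum, map_smul, Finsupp.coe_finset_sum, Finset.sum_apply, Finsupp.smul_apply,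
    smul_eq_mul]

theorem hsTrace_basis_indep (c : Module.Basis κ A E) (c' : Module.Basis κ' A E) (u : E →ₗ[A] E) :
    NCTr.hsTrace c' u = NCTr.hsTrace c u := by
  classical
  let φ : A →+ NCTr.Abel A := QuotientAddGroup.mk' (NCTr.commutatorSubgroup A)
  have hφ : ∀ a b, φ (a * b) = φ (b * a) := mk_mul_comm
  have e1 : NCTr.hsTrace c' u = ∑ k, φ (c'.repr (u (c' k)) k) := rfl
  have e2 : NCTr.hsTrace c u = ∑ i, φ (c.repr (u (c i)) i) := rfl
  rw [e1, e2]
  let F : κ → κ → κ' → NCTr.Abel A := fun i j k =>
    φ ((c.repr (u (c i)) j * c'.repr (c j) k) * c.repr (c' k) i)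
  have hq : ∀ j i, ∑ k, c'.repr (c j) k * c.repr (c' k) i = if j = i then 1 else 0 := by
    intro j i
    rw [← coord c' c (c j) i, Module.Basis.repr_self, Finsupp.single_apply]
  have step1 : ∀ k, φ (c'.repr (u (c' k)) k) = ∑ j, ∑ i, F i j k := by
    intro k
    rw [coord c c' (u (c' k)) k, map_sum]
    refine Finset.sum_congr rfl fun j _ => ?_
    rw [coordu c u (c' k) j, Finset.sum_mul, map_sum]
    refine Finset.sum_congr rfl fun i _ => ?_
    show _ = φ _
    rw [mul_assoc, hφ]
  have step2 : ∀ i, ∑ j, ∑ k, F i j k = φ (c.repr (u (c i)) i) := by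
    intro i
    have h1 : ∀ j, ∑ k, F i j k = φ (c.repr (u (c i)) j * (if j = i then 1 else 0)) := by
      intro j
      rw [← hq j i, Finset.mul_sum, map_sum]
      refine Finset.sum_congr rfl fun k _ => ?_
      show φ _ = _
      rw [mul_assoc]
    rw [Finset.sum_congr rfl fun j _ => h1 j]
    simp only [mul_ite, mul_one, mul_zero, apply_ite φ, map_zero, Finset.sum_ite_eq',
      Finset.mem_univ, if_true]
  rw [Finset.sum_congr rfl fun k _ => step1 k, ← Finset.sum_congr rfl fun i _ => step2 i]
  calc ∑ k, ∑ j, ∑ i, F i j k = ∑ j, ∑ k, ∑ i, F i j k := Finset.sum_comm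
    _ = ∑ j, ∑ i, ∑ k, F i j k := Finset.sum_congr rfl fun j _ => Finset.sum_comm
    _ = ∑ i, ∑ j, ∑ k, F i j k := Finset.sum_comm

end general

/-- Let Λ be a ring, not necessarily commutative, G a finite group, P a left Λ[G]-module with a finite
Λ[G]-basis b, regarded also as a Λ-module by restriction of scalars and equipped with any finite
Λ-basis c, and u a Λ[G]-linear endomorphism of P with diagonal matrix entries u_ii = (b.repr (u (b
i))) i in Λ[G]. Then the trace of u as a Λ-linear endomorphism, taken in Λ modulo additive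
commutators with respect to c, equals |G| times the class of the sum over i of the coefficients of
the identity element of G in the u_ii (that sum of coefficients is the value at the identity class
of the Λ[G]-trace of u, the G-trace of u). The source states this for P finitely generated
projective over Λ[G]; this row is the free case. -/
theorem result
    (Λ : Type*) [Ring Λ] (G : Type*) [Group G] [Fintype G]
    (P : Type*) [AddCommGroup P] [Module Λ P] [Module (MonoidAlgebra Λ G) P]
    [IsScalarTower Λ (MonoidAlgebra Λ G) P]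
    {ι κ : Type*} [Fintype ι] [Fintype κ]
    (b : Module.Basis ι (MonoidAlgebra Λ G) P) (c : Module.Basis κ Λ P)
    (u : P →ₗ[MonoidAlgebra Λ G] P) :
    NCTr.hsTrace c (u.restrictScalars Λ) =
      Fintype.card G • ∑ i, (QuotientAddGroup.mk ((b.repr (u (b i)) i).coeff 1) : NCTr.Abel Λ) := by
  classical
  let c' : Module.Basis (G × ι) Λ P := (MonoidAlgebra.basis G Λ).smulTower b
  rw [hsTrace_basis_indep c' c]
  show ∑ x : G × ι, (QuotientAddGroup.mk (c'.repr (u.restrictScalars Λ (c' x)) x) : NCTr.Abel Λ) = _
  rw [Fintype.sum_prod_type]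
  have key : ∀ g i, c'.repr (u.restrictScalars Λ (c' (g, i))) (g, i) =
      (b.repr (u (b i)) i).coeff 1 := by
    intro g i
    rw [Module.Basis.smulTower_repr_mk, Module.Basis.smulTower_apply]
    simp only [MonoidAlgebra.basis_apply, LinearMap.coe_restrictScalars, map_smul,
      Finsupp.smul_apply, smul_eq_mul]
    show (MonoidAlgebra.single g 1 * b.repr (u (b i)) i).coeff g = _
    rw [MonoidAlgebra.coeff_single_mul_apply, one_mul, inv_mul_cancel]
  simp only [key]
  rw [Finset.sum_const, Finset.card_univ]

end Groth.Agent.S16233
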