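import Groth.Statements.S16234
import Mathlib.RingTheory.HopkinsLevitzki
import Mathlib.RingTheory.Ideal.Quotient.Noetherian
import Mathlib.RingTheory.SimpleModule.Basic
import Mathlib.Algebra.Module.Torsion.Basic
import Mathlib.RingTheory.KrullDimension.Basic

set_option autoImplicit false
universe u v
open CAlg

namespace Groth.Agent.S16234

theorem maximal_of_finiteLength (A : Type u) [CommRing A] :
    ∀ (M : Type v) [AddCommGroup M] [Module A M], IsFiniteLength A M →
      ∀ p ∈ Module.support A M, p.asIdeal.IsMaximal := by
  intro M _ _ h
  induction h with
  | of_subsingleton =>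
    intro p hp
    rw [Module.support_eq_empty] at hp
    exact absurd hp (Set.notMem_empty _)
  | @of_simple_quotient M _ _ N _ hN ih =>
    intro p hp
    rw [Module.support_of_exact (f := N.subtype) (g := N.mkQ) (LinearMap.exact_subtype_mkQ N)
      N.injective_subtype N.mkQ_surjective] at hp
    rcases hp with hp | hp
    · exact ih p hp
    · have hmax : (Module.annihilator A (M ⧸ N)).IsMaximal := IsSimpleModule.annihilator_isMaximal
      have hle := Module.annihilator_le_of_mem_support hp
      have : Module.annihilator A (M ⧸ N) = p.asIdeal := hmax.eq_of_le p.2.ne_top hle
      rw [← this]; exact hmax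

/-- For a finitely generated module M over a Noetherian commutative ring A, every prime ideal in the
support of M is a maximal ideal if and only if M has finite length. -/
theorem result (A : Type u) [CommRing A] [IsNoetherianRing A]
    (M : Type v) [AddCommGroup M] [Module A M] [Module.Finite A M] :
    (∀ p ∈ Module.support A M, p.asIdeal.IsMaximal) ↔ IsFiniteLength A M := by
  constructor
  · intro h
    have hM := Module.isTorsionBySet_annihilator A M
    letI := hM.module
    have hKD : Ring.KrullDimLE 0 (A ⧸ Module.annihilator A M) := by
      rw [Ring.krullDimLE_zero_iff]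
      intro J hJ
      have hp : (⟨J.comap (Ideal.Quotient.mk _), inferInstance⟩ : PrimeSpectrum A) ∈
          Module.support A M := by
        rw [Module.mem_support_iff_of_finite]
        intro a ha
        show Ideal.Quotient.mk _ a ∈ J
        rw [Ideal.Quotient.eq_zero_iff_mem.mpr ha]; exact J.zero_mem
      have hmax := h _ hp
      have := Ideal.map_eq_top_or_isMaximal_of_surjective
        (Ideal.Quotient.mk (Module.annihilator A M)) Ideal.Quotient.mk_surjective hmax
      rw [Ideal.map_comap_of_surjective _ Ideal.Quotient.mk_surjective] at this
      rcases this with h1 | h1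
      · exact absurd h1 hJ.ne_top
      · exact h1
    have hArt : IsArtinianRing (A ⧸ Module.annihilator A M) :=
      IsNoetherianRing.isArtinianRing_of_krullDimLE_zero
    have hfin : Module.Finite (A ⧸ Module.annihilator A M) M :=
      Module.Finite.of_restrictScalars_finite A _ M
    have hArtM : IsArtinian (A ⧸ Module.annihilator A M) M := inferInstance
    rw [isFiniteLength_iff_isNoetherian_isArtinian]
    refine ⟨inferInstance, ?_⟩
    exact (hM.semilinearMap.isArtinian_iff_of_bijective Function.bijective_id).mpr hArtM
  · intro h
    exact maximal_of_finiteLength A M h

end Groth.Agent.S16234
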