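import Groth.Statements.S16235
import Mathlib.RingTheory.KrullDimension.Regular
import Mathlib.RingTheory.Regular.Flat
import Mathlib.RingTheory.Ideal.KrullsHeightTheorem

set_option autoImplicit false
universe u
open CAlg

namespace Groth.Agent.S16235

/-- Let A be a Noetherian commutative ring and x_1, …, x_r a regular sequence on A (each x_i a
non-zero-divisor on A/(x_1, …, x_{i-1})) generating an ideal I ≠ A. Then the height of I, the
infimum of the heights of the minimal primes over I, equals r. -/
theorem result (A : Type u) [CommRing A] [IsNoetherianRing A]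
    (r : ℕ) (x : Fin r → A) (hx : RingTheory.Sequence.IsWeaklyRegular A (List.ofFn x))
    (hI : Ideal.span (Set.range x) ≠ ⊤) :
    (Ideal.span (Set.range x)).height = r := by
  classical
  apply le_antisymm
  · -- Krull's height theorem
    obtain ⟨p, hp⟩ := Ideal.nonempty_minimalPrimes hI
    rw [Ideal.height_eq_inf_minimalPrimes]
    refine (iInf₂_le p hp).trans ?_
    have hs : Ideal.span (Set.range x) = Ideal.span ((Finset.univ.image x : Finset A) : Set A) := by
      rw [Finset.coe_image, Finset.coe_univ, Set.image_univ]
    rw [hs] at hp
    refine (Ideal.height_le_card_of_mem_minimalPrimes_span_finset hp).trans ?_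
    have h1 : (Finset.univ.image x).card ≤ r := by
      refine Finset.card_image_le.trans ?_
      rw [Finset.card_univ, Fintype.card_fin]
    exact_mod_cast h1
  · rw [Ideal.height_eq_inf_minimalPrimes]
    refine le_iInf₂ fun p hp => ?_
    have hpp : p.IsPrime := hp.1.1
    have mem : ∀ a ∈ List.ofFn x, a ∈ p := by
      intro a ha
      rw [List.mem_ofFn] at ha
      obtain ⟨i, rfl⟩ := ha
      exact hp.1.2 (Ideal.subset_span ⟨i, rfl⟩)
    have reg := RingTheory.Sequence.IsWeaklyRegular.isRegular_of_isLocalization_of_mem
      (Localization.AtPrime p) p hx mem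
    have hloc : IsLocalRing (Localization.AtPrime p) := inferInstance
    have key := ringKrullDim_add_length_eq_ringKrullDim_of_isRegular _ reg
    rw [IsLocalization.AtPrime.ringKrullDim_eq_height p (Localization.AtPrime p),
      List.length_map, List.length_ofFn] at key
    rcases subsingleton_or_nontrivial (Localization.AtPrime p ⧸
      Ideal.ofList ((List.ofFn x).map (algebraMap A (Localization.AtPrime p)))) with h | h
    · rw [ringKrullDim_eq_bot_of_subsingleton, WithBot.bot_add] at key
      exact absurd key WithBot.bot_ne_coe
    · have h0 := ringKrullDim_nonneg_of_nontrivial (R := Localization.AtPrime p ⧸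
        Ideal.ofList ((List.ofFn x).map (algebraMap A (Localization.AtPrime p))))
      have h2 : ((r : ℕ∞) : WithBot ℕ∞) ≤ (p.height : WithBot ℕ∞) := by
        rw [← key]
        calc ((r : ℕ∞) : WithBot ℕ∞) = 0 + (r : WithBot ℕ∞) := by rw [zero_add]; rfl
          _ ≤ _ := add_le_add_left h0 _
      exact WithBot.coe_le_coe.mp h2

end Groth.Agent.S16235
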