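import Groth.Statements.S16240
import Groth.Agent.H17.StalkSeq
import Groth.Agent.H72.PdLocal
import Groth.Agent.S0563
import Groth.Agent.H9.SchemeDimStalk
import Groth.Agent.H54.AffineDim2
import Groth.Agent.H8.Coh
import Groth.Agent.H8.CohKerCoker
import Groth.Agent.H8.LocFreeStalk
import Groth.Agent.H8.LocFreeSections
import Groth.Agent.H8.LocFreeNearFinite
import Groth.Agent.H8.PullbackStalk

set_option autoImplicit false
universe u
open CategoryTheory CategoryTheory.Limits AlgebraicGeometry
open Coh

namespace Groth.Agent.S16240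

open Groth.Agent.H8 Groth.Agent.H17.StalkSeq Groth.Agent.H72.PdLocal

set_option linter.style.haveILetI false

/-- coherence is invariant under isomorphism. -/
theorem isCoh_of_iso {X : Scheme.{u}} {F G : X.Modules} (e : F ≅ G) (hF : Coh.IsCoh F) :
    Coh.IsCoh G := by
  haveI : F.IsQuasicoherent := hF.1
  haveI : SheafOfModules.IsFiniteType (R := X.ringCatSheaf) F := hF.2
  exact ⟨isQuasicoherent_of_iso e, isFiniteType_of_epi e.hom⟩

/-- finite locally free modules on a locally Noetherian scheme are coherent. -/
theorem isCoh_of_isFinLocFree {X : Scheme.{u}} {E : X.Modules} (hE : FlatMod.IsFinLocFree E) :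
    Coh.IsCoh E := by
  haveI hq : E.IsQuasicoherent := isQuasicoherent_of_isFinLocFree E hE
  refine ⟨hq, isFiniteType_of_forall_affine_finite E (fun U => ?_)⟩
  haveI := (finitePresentation_projective_sections_of_isFinLocFree E hE U.2).1
  infer_instance

/-- stalks of finite locally free modules are projective. -/
theorem projective_stalk_of_isFinLocFree {X : Scheme.{u}} {E : X.Modules}
    (hE : FlatMod.IsFinLocFree E) (x : X) :
    Module.Projective (X.presheaf.stalk x) (E.presheaf.stalk x) := by
  haveI hq : E.IsQuasicoherent := isQuasicoherent_of_isFinLocFree E hE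
  obtain ⟨_, ⟨U, hU, rfl⟩, hxU, -⟩ := X.isBasis_affineOpens.exists_subset_of_mem_open
    (Set.mem_univ x) isOpen_univ
  replace hU : IsAffineOpen U := hU
  obtain ⟨hfp, hproj⟩ := finitePresentation_projective_sections_of_isFinLocFree E hE hU
  haveI := hfp
  haveI := hproj
  haveI : Module.Finite Γ(X, U) Γ(E, U) := inferInstance
  haveI : Module.Flat Γ(X, U) Γ(E, U) := inferInstance
  haveI := free_stalk_of_finite_flat_sections E hU x hxU
  infer_instance

/-- Let X be a Noetherian scheme all of whose local rings are regular, of (topological Krull) dimension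
at most m, and let S be an exact sequence of O_X-modules G ⟶ E_m ⟶ ⋯ ⟶ E_1 ⟶ F with m + 2 terms (G
in position 0, F in position m + 1), injective at the first map and surjective at the last, in which
F is coherent and E_1, …, E_m are finite locally free. Then G is finite locally free. (The source
asks for p + 1 vector bundles with p ≥ dim X − 1, i.e. at least dim X of them, and finite dimension;
here m bounds the dimension.) -/
theorem result (X : Scheme.{u}) [IsNoetherian X]
    (hreg : ∀ x : X, IsRegularLocalRing (X.presheaf.stalk x)) (m : ℕ)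
    (hdim : topologicalKrullDim ↥X ≤ (m : WithBot ℕ∞))
    (S : ComposableArrows X.Modules (m + 1)) (hS : S.Exact)
    (hmono : Mono (S.map' 0 1 (Nat.zero_le 1) (Nat.le_add_left 1 m)))
    (hepi : Epi (S.map' m (m + 1) (Nat.le_succ m) (le_refl (m + 1))))
    (hE : ∀ i : Fin m, FlatMod.IsFinLocFree (S.obj ⟨i.1 + 1, Nat.succ_lt_succ (Nat.lt_succ_of_lt i.2)⟩))
    (hF : Coh.IsCoh (S.obj (Fin.last (m + 1)))) :
    FlatMod.IsFinLocFree (S.obj 0) := by
  classical
  -- coherence of the first term
  have hcohE : ∀ i : Fin m, Coh.IsCoh (S.obj ⟨i.1 + 1, Nat.succ_lt_succ (Nat.lt_succ_of_lt i.2)⟩) :=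
    fun i => isCoh_of_isFinLocFree (hE i)
  have hcoh1 : Coh.IsCoh (S.obj ⟨1, by omega⟩) := by
    rcases Nat.eq_zero_or_pos m with h0 | hpos
    · subst h0
      exact hF
    · exact hcohE ⟨0, hpos⟩
  have hGcoh : Coh.IsCoh (S.obj ⟨0, by omega⟩) := by
    rcases Nat.eq_zero_or_pos m with h0 | hpos
    · subst h0
      haveI := hmono
      haveI := hepi
      haveI : IsIso (S.map' 0 1 (by omega) (by omega)) := isIso_of_mono_of_epi _
      exact isCoh_of_iso (asIso (S.map' 0 1 _ _)).symm hF
    · have hcoh2 : Coh.IsCoh (S.obj ⟨2, by omega⟩) := by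
        rcases Nat.lt_or_ge 1 m with h1 | h1
        · exact hcohE ⟨1, h1⟩
        · have hm1 : m = 1 := le_antisymm h1 hpos
          subst hm1
          exact hF
      haveI := hmono
      haveI : Mono (S.sc hS.toIsComplex 0 (by omega)).f := hmono
      have hex0 := hS.exact 0 (by omega)
      have hker := hex0.fIsKernel
      let e : S.obj ⟨0, by omega⟩ ≅ kernel (S.map' 1 2 (by omega) (by omega)) :=
        IsLimit.conePointUniqueUpToIso hker
          (limit.isLimit (parallelPair (S.map' 1 2 (by omega) (by omega)) 0))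
      exact isCoh_of_iso e.symm (isCoh_kernel hcoh1 hcoh2 (S.map' 1 2 (by omega) (by omega)))
  intro x
  haveI : (S.obj ⟨0, by omega⟩).IsQuasicoherent := hGcoh.1
  haveI hreg := hreg x
  -- projective dimension of the last stalk
  have hpdF : PdLT (X.presheaf.stalk x) ((S.obj ⟨m + 1, by omega⟩).presheaf.stalk x) (m + 1) := by
    have hle : ringKrullDim (X.presheaf.stalk x) ≤ (m : WithBot ℕ∞) :=
      (Groth.Agent.H9.FibDim.ringKrullDim_stalk_le X x).trans hdim
    obtain ⟨d, hd⟩ := Groth.Agent.H54.exists_nat_eq_of_le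
      (ringKrullDim_ne_bot (R := X.presheaf.stalk x)) hle
    have hdm : d ≤ m := by
      rw [hd] at hle
      exact_mod_cast hle
    haveI := Groth.Agent.S0563.result (X.presheaf.stalk x) d hd
      ((S.obj ⟨m + 1, by omega⟩).presheaf.stalk x)
    exact hasProjectiveDimensionLT_of_ge _ (d + 1) (m + 1) (by omega)
  -- the claim on ranges of the stalk maps
  have claim : ∀ (k i : ℕ) (hik : i + k = m),
      PdLT (X.presheaf.stalk x)
        (LinearMap.range (stalkMapₗ (S.map' i (i + 1) (by omega) (by omega)) x)) (i + 1) := by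
    intro k
    induction k with
    | zero =>
      intro i hik
      have him : i = m := by omega
      subst him
      have hsurj : Function.Surjective (stalkMapₗ (S.map' i (i + 1) (by omega) (by omega)) x) := by
        haveI := hepi
        exact stalkMap_surjective_of_epi (S.map' i (i + 1) _ _) x
      exact PdLT.of_equiv (LinearEquiv.ofTop _ (LinearMap.range_eq_top.mpr hsurj)).symm hpdF
    | succ k ih =>
      intro i hik
      have h1 := ih (i + 1) (by omega)
      haveI : Module.Projective (X.presheaf.stalk x) ((S.obj ⟨i + 1, by omega⟩).presheaf.stalk x) :=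
        projective_stalk_of_isFinLocFree (hE ⟨i, by omega⟩) x
      have hex := stalkMap_exact (S.sc hS.toIsComplex i (by omega)) (hS.exact i (by omega)) x
      refine (pdLT_succ_iff_of_exact
        (LinearMap.range (stalkMapₗ (S.map' i (i + 1) (by omega) (by omega)) x)).subtype
        (stalkMapₗ (S.map' (i + 1) (i + 1 + 1) (by omega) (by omega)) x).rangeRestrict
        (Submodule.subtype_injective _) ?_ (LinearMap.surjective_rangeRestrict _) i).mp h1
      intro y
      constructor
      · intro hy
        have hy' : stalkMap (S.map' (i + 1) (i + 1 + 1) (by omega) (by omega)) x y = 0 :=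
          congrArg Subtype.val hy
        obtain ⟨z, hz⟩ := (hex y).mp hy'
        exact ⟨⟨y, ⟨z, hz⟩⟩, rfl⟩
      · rintro ⟨⟨y', z, hz⟩, rfl⟩
        apply Subtype.ext
        exact (hex y').mpr ⟨z, hz⟩
  have h0 := claim m 0 (by omega)
  rw [pdLT_one_iff] at h0
  have hinj : Function.Injective (stalkMapₗ (S.map' 0 1 (by omega) (by omega)) x) := by
    haveI := hmono
    exact stalkMap_injective_of_mono (S.map' 0 1 _ _) x
  haveI : Module.Projective (X.presheaf.stalk x) ((S.obj ⟨0, by omega⟩).presheaf.stalk x) :=
    Module.Projective.of_equiv (LinearEquiv.ofInjective _ hinj).symm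
  haveI : Module.Finite (X.presheaf.stalk x) ((S.obj ⟨0, by omega⟩).presheaf.stalk x) :=
    finite_stalk_of_isCoh _ hGcoh x
  haveI : Module.Free (X.presheaf.stalk x) ((S.obj ⟨0, by omega⟩).presheaf.stalk x) :=
    Module.free_of_flat_of_isLocalRing
  obtain ⟨_, ⟨U, hU, rfl⟩, hxU, -⟩ := X.isBasis_affineOpens.exists_subset_of_mem_open
    (Set.mem_univ x) isOpen_univ
  replace hU : IsAffineOpen U := hU
  haveI : IsNoetherianRing Γ(X, U) := IsLocallyNoetherian.component_noetherian ⟨U, hU⟩
  haveI : Module.Finite Γ(X, U) Γ(S.obj ⟨0, by omega⟩, U) := finite_sections_of_isCoh _ hGcoh hU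
  haveI : Module.FinitePresentation Γ(X, U) Γ(S.obj ⟨0, by omega⟩, U) :=
    Module.finitePresentation_of_finite _ _
  obtain ⟨f, hxf, n, hn⟩ := exists_basicOpen_restrict_iso_freeMod_of_free_stalk (S.obj ⟨0, _⟩) hU x hxU
  exact ⟨X.basicOpen f, n, hxf, hn⟩

end Groth.Agent.S16240
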