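import Groth.Statements.S16244
import Mathlib

set_option autoImplicit false
universe u
open Curves

namespace Groth.Agent.S16244

open WeierstrassCurve

lemma smul_eq_iff {k : Type u} [Field k] (h2 : (2 : k) ≠ 0) (h3 : (3 : k) ≠ 0)
    (W : WeierstrassCurve k) [W.IsShortNF] (C : VariableChange k) :
    C • W = W ↔ (C.r = 0 ∧ C.s = 0 ∧ C.t = 0 ∧ ((C.u : k) ^ 4 - 1) * W.a₄ = 0 ∧
      ((C.u : k) ^ 6 - 1) * W.a₆ = 0) := by
  have a1 : W.a₁ = 0 := IsShortNF.a₁
  have a2 : W.a₂ = 0 := IsShortNF.a₂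
  have a3 : W.a₃ = 0 := IsShortNF.a₃
  have hw : ((C.u⁻¹ : kˣ) : k) ≠ 0 := Units.ne_zero _
  have hvw : (C.u : k) * ((C.u⁻¹ : kˣ) : k) = 1 := Units.mul_inv _
  have hv4 : (C.u : k) ^ 4 * ((C.u⁻¹ : kˣ) : k) ^ 4 = 1 := by rw [← mul_pow, hvw, one_pow]
  have hv6 : (C.u : k) ^ 6 * ((C.u⁻¹ : kˣ) : k) ^ 6 = 1 := by rw [← mul_pow, hvw, one_pow]
  rw [WeierstrassCurve.ext_iff, variableChange_a₁, variableChange_a₂, variableChange_a₃,
    variableChange_a₄, variableChange_a₆, a1, a2, a3]
  constructor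
  · rintro ⟨e1, e2, e3, e4, e6⟩
    have hs : C.s = 0 := by
      rcases mul_eq_zero.mp e1 with h | h
      · exact absurd h hw
      · rw [zero_add] at h
        exact (mul_eq_zero.mp h).resolve_left h2
    have hr : C.r = 0 := by
      rcases mul_eq_zero.mp e2 with h | h
      · exact absurd h (pow_ne_zero _ hw)
      · rw [hs] at h
        have : 3 * C.r = 0 := by linear_combination h
        exact (mul_eq_zero.mp this).resolve_left h3
    have ht : C.t = 0 := by
      rcases mul_eq_zero.mp e3 with h | h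
      · exact absurd h (pow_ne_zero _ hw)
      · have : 2 * C.t = 0 := by linear_combination h
        exact (mul_eq_zero.mp this).resolve_left h2
    rw [hr, hs, ht] at e4
    rw [hr, ht] at e6
    refine ⟨hr, hs, ht, ?_, ?_⟩
    · linear_combination (-(C.u : k) ^ 4) * e4 + W.a₄ * hv4
    · linear_combination (-(C.u : k) ^ 6) * e6 + W.a₆ * hv6
  · rintro ⟨hr, hs, ht, e4, e6⟩
    rw [hr, hs, ht]
    refine ⟨by ring, by ring, by ring, ?_, ?_⟩
    · linear_combination (-((C.u⁻¹ : kˣ) : k) ^ 4) * e4 + W.a₄ * hv4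
    · linear_combination (-((C.u⁻¹ : kˣ) : k) ^ 6) * e6 + W.a₆ * hv6

lemma units_pow_eq_one_iff {k : Type u} [Field k] (u : kˣ) (n : ℕ) :
    u ^ n = 1 ↔ (u : k) ^ n = 1 := by
  rw [Units.ext_iff, Units.val_pow_eq_pow_val, Units.val_one]

noncomputable def stabEquiv {k : Type u} [Field k] (W : WeierstrassCurve k) (n : ℕ)
    (hn : ∀ C : VariableChange k, C • W = W ↔ (C.r = 0 ∧ C.s = 0 ∧ C.t = 0 ∧ C.u ^ n = 1)) :
    ↥(MulAction.stabilizer (VariableChange k) W) ≃* ↥(rootsOfUnity n k) where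
  toFun C := ⟨C.1.u, by
    rw [mem_rootsOfUnity]
    exact ((hn C.1).mp (MulAction.mem_stabilizer_iff.mp C.2)).2.2.2⟩
  invFun ζ := ⟨⟨ζ.1, 0, 0, 0⟩, by
    rw [MulAction.mem_stabilizer_iff, hn]
    exact ⟨rfl, rfl, rfl, (mem_rootsOfUnity _ _).mp ζ.2⟩⟩
  left_inv C := by
    obtain ⟨hr, hs, ht, -⟩ := (hn C.1).mp (MulAction.mem_stabilizer_iff.mp C.2)
    apply Subtype.ext
    exact VariableChange.ext rfl hr.symm hs.symm ht.symm
  right_inv ζ := by
    apply Subtype.ext
    rfl
  map_mul' C C' := by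
    apply Subtype.ext
    rfl

lemma card_and_cyclic {k : Type u} [Field k] [IsAlgClosed k] (W : WeierstrassCurve k) (n : ℕ)
    [NeZero n] [NeZero (n : k)]
    (hn : ∀ C : VariableChange k, C • W = W ↔ (C.r = 0 ∧ C.s = 0 ∧ C.t = 0 ∧ C.u ^ n = 1)) :
    IsCyclic ↥(MulAction.stabilizer (VariableChange k) W) ∧
      Nat.card ↥(MulAction.stabilizer (VariableChange k) W) = n := by
  have e := stabEquiv W n hn
  refine ⟨e.isCyclic.mpr inferInstance, ?_⟩
  rw [Nat.card_congr e.toEquiv]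
  exact HasEnoughRootsOfUnity.natCard_rootsOfUnity k n

/-- Let k be an algebraically closed field in which 2 and 3 are nonzero, and W a short Weierstrass
equation y² = x³ + a₄x + a₆ over k with nonzero discriminant. The admissible changes of variables
(u, r, s, t) that fix W form a cyclic group, of order 6 when a₄ = 0, of order 4 when a₆ = 0, and of
order 2 when a₄ and a₆ are both nonzero. (The published statement says the automorphism group of the
elliptic curve is cyclic of order 2, 4 or 6; the automorphisms are rendered here as the changes of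
variables preserving the equation, and the case distinction is the one the computation gives.) -/
theorem result
    (k : Type u) [Field k] [IsAlgClosed k] (h2 : (2 : k) ≠ 0) (h3 : (3 : k) ≠ 0)
    (W : WeierstrassCurve k) [W.IsShortNF] (hΔ : W.Δ ≠ 0) :
    IsCyclic ↥(MulAction.stabilizer (WeierstrassCurve.VariableChange k) W) ∧
      (W.a₄ = 0 → Nat.card ↥(MulAction.stabilizer (WeierstrassCurve.VariableChange k) W) = 6) ∧
      (W.a₆ = 0 → Nat.card ↥(MulAction.stabilizer (WeierstrassCurve.VariableChange k) W) = 4) ∧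
      (W.a₄ ≠ 0 → W.a₆ ≠ 0 → Nat.card ↥(MulAction.stabilizer (WeierstrassCurve.VariableChange k) W) = 2) := by
  have hΔ' : W.a₄ ≠ 0 ∨ W.a₆ ≠ 0 := by
    by_contra h
    push_neg at h
    apply hΔ
    rw [WeierstrassCurve.Δ_of_isShortNF, h.1, h.2]; ring
  have h6 : (6 : k) ≠ 0 := by
    have : (6 : k) = 2 * 3 := by norm_num
    rw [this]; exact mul_ne_zero h2 h3
  have h4 : (4 : k) ≠ 0 := by
    have : (4 : k) = 2 * 2 := by norm_num
    rw [this]; exact mul_ne_zero h2 h2
  by_cases ha4 : W.a₄ = 0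
  · have ha6 : W.a₆ ≠ 0 := hΔ'.resolve_left (not_not.mpr ha4)
    have hn : ∀ C : WeierstrassCurve.VariableChange k,
        C • W = W ↔ (C.r = 0 ∧ C.s = 0 ∧ C.t = 0 ∧ C.u ^ 6 = 1) := by
      intro C
      rw [smul_eq_iff h2 h3, units_pow_eq_one_iff, ha4]
      constructor
      · rintro ⟨hr, hs, ht, -, e6⟩
        exact ⟨hr, hs, ht, sub_eq_zero.mp ((mul_eq_zero.mp e6).resolve_right ha6)⟩
      · rintro ⟨hr, hs, ht, e⟩
        exact ⟨hr, hs, ht, by ring, by rw [e]; ring⟩
    haveI : NeZero ((6 : ℕ) : k) := ⟨by exact_mod_cast h6⟩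
    obtain ⟨hc, hcard⟩ := card_and_cyclic W 6 hn
    exact ⟨hc, fun _ => hcard, fun h => absurd h ha6, fun h => absurd ha4 h⟩
  · by_cases ha6 : W.a₆ = 0
    · have hn : ∀ C : WeierstrassCurve.VariableChange k,
          C • W = W ↔ (C.r = 0 ∧ C.s = 0 ∧ C.t = 0 ∧ C.u ^ 4 = 1) := by
        intro C
        rw [smul_eq_iff h2 h3, units_pow_eq_one_iff, ha6]
        constructor
        · rintro ⟨hr, hs, ht, e4, -⟩
          exact ⟨hr, hs, ht, sub_eq_zero.mp ((mul_eq_zero.mp e4).resolve_right ha4)⟩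
        · rintro ⟨hr, hs, ht, e⟩
          exact ⟨hr, hs, ht, by rw [e]; ring, by ring⟩
      haveI : NeZero ((4 : ℕ) : k) := ⟨by exact_mod_cast h4⟩
      obtain ⟨hc, hcard⟩ := card_and_cyclic W 4 hn
      exact ⟨hc, fun h => absurd h ha4, fun _ => hcard, fun _ h => absurd ha6 h⟩
    · have hn : ∀ C : WeierstrassCurve.VariableChange k,
          C • W = W ↔ (C.r = 0 ∧ C.s = 0 ∧ C.t = 0 ∧ C.u ^ 2 = 1) := by
        intro C
        rw [smul_eq_iff h2 h3, units_pow_eq_one_iff]
        constructor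
        · rintro ⟨hr, hs, ht, e4, e6⟩
          have e4' : (C.u : k) ^ 4 = 1 := sub_eq_zero.mp ((mul_eq_zero.mp e4).resolve_right ha4)
          have e6' : (C.u : k) ^ 6 = 1 := sub_eq_zero.mp ((mul_eq_zero.mp e6).resolve_right ha6)
          refine ⟨hr, hs, ht, ?_⟩
          have : (C.u : k) ^ 6 = (C.u : k) ^ 4 * (C.u : k) ^ 2 := by ring
          rw [e6', e4', one_mul] at this
          exact this.symm
        · rintro ⟨hr, hs, ht, e⟩
          have e4' : (C.u : k) ^ 4 = 1 := by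
            have : (C.u : k) ^ 4 = ((C.u : k) ^ 2) ^ 2 := by ring
            rw [this, e, one_pow]
          have e6' : (C.u : k) ^ 6 = 1 := by
            have : (C.u : k) ^ 6 = ((C.u : k) ^ 2) ^ 3 := by ring
            rw [this, e, one_pow]
          exact ⟨hr, hs, ht, by rw [e4']; ring, by rw [e6']; ring⟩
      haveI : NeZero ((2 : ℕ) : k) := ⟨by exact_mod_cast h2⟩
      obtain ⟨hc, hcard⟩ := card_and_cyclic W 2 hn
      exact ⟨hc, fun h => absurd h ha4, fun h => absurd h ha6, fun _ _ => hcard⟩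

end Groth.Agent.S16244
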