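import Groth.Statements.S16245
import Groth.Agent.H79.HilbClosedLib

set_option autoImplicit false
universe u
open CategoryTheory CategoryTheory.Limits AlgebraicGeometry
open SDiv

namespace Groth.Agent.S16245

/-- Let f : X → S be a morphism of schemes, D ⊆ X an effective Cartier divisor with ideal sheaf 𝓘, and
D' ⊆ X a closed subscheme with ideal sheaf 𝓘' such that D' → S is finite, flat and locally of finite
presentation (finite locally free). Then there is a closed subscheme Z ⊆ S such that a morphism g :
T → S factors through Z exactly when, on X ×_S T, the inverse image ideal of 𝓘 is contained in the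
inverse image ideal of 𝓘', that is, the pull-back of D' is a closed subscheme of the pull-back of D.
This universal property determines Z, and compatibility of Z with base change follows from it. (In
the source X is a family of elliptic curves and D, D' are relative effective Cartier divisors, D'
then being finite locally free over S; the argument uses only the hypotheses stated here.) -/
theorem result
    {X S : Scheme.{u}} (f : X ⟶ S) (𝓘 𝓘' : X.IdealSheafData) (hD : BlowUp.IsEffCartierIdeal 𝓘)
    [IsFinite (𝓘'.subschemeι ≫ f)] [Flat (𝓘'.subschemeι ≫ f)]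
    [LocallyOfFinitePresentation (𝓘'.subschemeι ≫ f)] :
    ∃ 𝓩 : S.IdealSheafData, ∀ (T : Scheme.{u}) (g : T ⟶ S),
      (∃ t : T ⟶ 𝓩.subscheme, t ≫ 𝓩.subschemeι = g) ↔
        𝓘.comap (pullback.fst f g) ≤ 𝓘'.comap (pullback.fst f g) := by
  -- the effective Cartier hypothesis on `𝓘` is not needed
  obtain ⟨c, hc⟩ := Groth.Agent.H79.HilbClosedLib.le_locus_global f 𝓘 𝓘'
    ⟨inferInstance, inferInstance, inferInstance⟩
  refine ⟨c, fun T g => ?_⟩
  rw [hc T _ g _ _ (IsPullback.of_hasPullback f g)]
  constructor
  · rintro ⟨t, rfl⟩
    conv_lhs => rw [← c.ker_subschemeι]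
    exact Scheme.Hom.le_ker_comp _ _
  · intro h
    have h' : c.subschemeι.ker ≤ g.ker := by rwa [c.ker_subschemeι]
    exact ⟨IsClosedImmersion.lift c.subschemeι g h', IsClosedImmersion.lift_fac _ _ _⟩


end Groth.Agent.S16245
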