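import Groth.Statements.S16247
import Groth.Agent.H79.ABRelDim
import Groth.Agent.H73.AB_3a
import Groth.Agent.H79.CurveDiv
import Groth.Agent.H79.ContentGlobal
import Groth.Agent.H79.EFGlobal

set_option autoImplicit false
universe u
open CategoryTheory CategoryTheory.Limits AlgebraicGeometry MonObj
open AgPol

namespace Groth.Agent.S16247

/-- Let E be an S-group scheme which is smooth and proper over S with geometrically connected fibres of
dimension one (a family of elliptic curves over S with its group law), and let D ⊆ E be an effective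
Cartier divisor with ideal sheaf 𝓓 such that D is flat over S (a relative effective Cartier divisor
on E/S). Then there is a closed subscheme Z ⊆ S such that a morphism g : T → S factors through Z
exactly when the pulled-back closed subscheme D_T ⊆ E_T is a subgroup scheme of E_T over T, that is,
when for every scheme T' over T the T'-valued points of E (over S) that factor through D form a
subgroup of the group of all T'-valued points. This universal property determines Z, and
compatibility of Z with base change follows from it. -/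
theorem result
    {S : Scheme.{u}} (E : Over S) [GrpObj E] (hE : AgPol.IsAbSch E 1)
    (𝓓 : E.left.IdealSheafData) (hD : BlowUp.IsEffCartierIdeal 𝓓) [Flat (𝓓.subschemeι ≫ E.hom)] :
    ∃ 𝓩 : S.IdealSheafData, ∀ (T : Scheme.{u}) (g : T ⟶ S),
      (∃ t : T ⟶ 𝓩.subscheme, t ≫ 𝓩.subschemeι = g) ↔
        ∀ (T' : Scheme.{u}) (a : T' ⟶ T), ∃ H : Subgroup (Over.mk (a ≫ g) ⟶ E),
          (H : Set (Over.mk (a ≫ g) ⟶ E)) =
            {x | ∃ d : T' ⟶ 𝓓.subscheme, d ≫ 𝓓.subschemeι = x.left} := by
  -- relative dimension one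
  have hsm : Smooth E.hom := hE.smooth
  have hpr : IsProper E.hom := hE.proper
  have hgc : GeometricallyConnected E.hom := hE.geomConnected
  have hrd : SmoothOfRelativeDimension 1 E.hom :=
    Groth.Agent.H79.ABRelDim.smoothOfRelativeDimension_of_fibreDim E.hom 1 (fun s => by
      rw [hE.fibreDim s])
  -- D is finite locally free over S
  obtain ⟨hlqf, hlfp⟩ := Groth.Agent.H79.CurveDiv.lqf_lfp_of_effCartier E.hom 𝓓 hD
  have hprD : IsProper (𝓓.subschemeι ≫ E.hom) := inferInstance
  have hfin : IsFinite (𝓓.subschemeι ≫ E.hom) := IsFinite.of_isProper_of_locallyQuasiFinite _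
  -- D × D is finite locally free over S
  have hfin2 : IsFinite (pullback.fst (𝓓.subschemeι ≫ E.hom) (𝓓.subschemeι ≫ E.hom) ≫
      𝓓.subschemeι ≫ E.hom) := inferInstance
  have hfl2 : Flat (pullback.fst (𝓓.subschemeι ≫ E.hom) (𝓓.subschemeι ≫ E.hom) ≫
      𝓓.subschemeι ≫ E.hom) := inferInstance
  have hlfp2 : LocallyOfFinitePresentation
      (pullback.fst (𝓓.subschemeι ≫ E.hom) (𝓓.subschemeι ≫ E.hom) ≫
        𝓓.subschemeι ≫ E.hom) := inferInstance
  -- the three ideals
  refine ⟨𝓓.comap η[E].left ⊔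
    Groth.Agent.H79.ContentGlobal.contentSheaf (𝓓.subschemeι ≫ E.hom)
      (𝓓.comap (𝓓.subschemeι ≫ ι[E].left)) ⊔
    Groth.Agent.H79.ContentGlobal.contentSheaf
      (pullback.fst (𝓓.subschemeι ≫ E.hom) (𝓓.subschemeι ≫ E.hom) ≫ 𝓓.subschemeι ≫ E.hom)
      (𝓓.comap (pullback.map (𝓓.subschemeι ≫ E.hom) (𝓓.subschemeι ≫ E.hom) E.hom E.hom
          𝓓.subschemeι 𝓓.subschemeι (𝟙 S) (by simp) (by simp) ≫ μ[E].left)), ?_⟩
  intro T g
  rw [← Groth.Agent.H50.le_ker_iff_factors, Groth.Agent.H73.AB_3a.subgroup_iff E 𝓓 g,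
    sup_le_iff, sup_le_iff, and_assoc]
  refine and_congr ?_ (and_congr ?_ ?_)
  · exact (Groth.Agent.H79.EFGlobal.le_ker_comp_iff 𝓓 η[E].left g).symm
  · rw [← Groth.Agent.H79.ContentGlobal.contentSheaf_spec (𝓓.subschemeι ≫ E.hom) _ g
      (pullback.fst (𝓓.subschemeι ≫ E.hom) g) (pullback.snd (𝓓.subschemeι ≫ E.hom) g)
      (IsPullback.of_hasPullback _ _)]
    exact (Groth.Agent.H79.EFGlobal.le_ker_comp_iff 𝓓 _ _).symm
  · rw [← Groth.Agent.H79.ContentGlobal.contentSheaf_spec
      (pullback.fst (𝓓.subschemeι ≫ E.hom) (𝓓.subschemeι ≫ E.hom) ≫ 𝓓.subschemeι ≫ E.hom) _ g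
      (pullback.fst _ g) (pullback.snd _ g) (IsPullback.of_hasPullback _ _)]
    exact (Groth.Agent.H79.EFGlobal.le_ker_comp_iff 𝓓 _ _).symm


end Groth.Agent.S16247
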