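import Groth.Statements.S16253
import Mathlib
import Groth.Agent.H70.FittSupport
import Groth.Agent.H70.FittEmbed
import Groth.Agent.H8.QCohStalk
import Groth.Agent.H70.SmoothDiff
import Groth.Agent.H34.Fitting2

set_option autoImplicit false
universe u
open CategoryTheory CategoryTheory.Limits AlgebraicGeometry TopologicalSpace
open SDiv

namespace Groth.Agent.S16253

set_option linter.style.haveILetI false
open Groth.Agent.H70.FittSupport Groth.Agent.H70.FittEmbed

set_option maxHeartbeats 1600000 in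
theorem forward {X Y : Scheme.{u}} (f : X ⟶ Y) [LocallyOfFinitePresentation f] [QuasiSeparated f]
    (p : ℕ) (x : X) (hx : x ∉ (Fitt.sheafIdeal (Omega.sheaf f) p).support) :
    ∃ (U : X.Opens) (U' : Scheme.{u}) (i : (U : Scheme.{u}) ⟶ U') (g : U' ⟶ Y),
      x ∈ U ∧ IsClosedImmersion i ∧ SmoothOfRelativeDimension p g ∧ i ≫ g = U.ι ≫ f := by
  classical
  obtain ⟨_, ⟨T, hT, rfl⟩, hsT, -⟩ :=
    Y.isBasis_affineOpens.exists_subset_of_mem_open (Set.mem_univ (f x)) isOpen_univ
  obtain ⟨_, ⟨W, hW, rfl⟩, hxW, hWsub⟩ :=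
    X.isBasis_affineOpens.exists_subset_of_mem_open
      (show x ∈ (f ⁻¹ᵁ T : X.Opens) from hsT) (f ⁻¹ᵁ T).2
  have hWT : W ≤ f ⁻¹ᵁ T := hWsub
  letI algAB : Algebra Γ(Y, T) Γ(X, W) := (f.appLE T W hWT).hom.toAlgebra
  haveI hfp : Algebra.FinitePresentation Γ(Y, T) Γ(X, W) := f.finitePresentation_appLE hT hW hWT
  haveI : Algebra.FiniteType Γ(Y, T) Γ(X, W) := inferInstance
  have hF : ¬ Fitt.ideal Γ(X, W) Ω[Γ(X, W)⁄Γ(Y, T)] p ≤ (hW.primeIdealOf ⟨x, hxW⟩).asIdeal :=
    fun h => hx ((mem_support_fitt_iff f p x T hT W hW hWT hxW).mpr h)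
  obtain ⟨g₀, hg₀, D, _, _, hD, φ, hφ⟩ :=
    exists_surjection_of_fitt Γ(Y, T) Γ(X, W) (hW.primeIdealOf ⟨x, hxW⟩).asIdeal p hF
  have hU : IsAffineOpen (X.basicOpen g₀) := hW.basicOpen g₀
  have hxU : x ∈ X.basicOpen g₀ :=
    (Groth.Agent.H8.mem_basicOpen_iff_notMem_primeIdealOf hW x hxW g₀).mpr hg₀
  haveI hloc : IsLocalization.Away g₀ Γ(X, X.basicOpen g₀) := hW.isLocalization_basicOpen g₀
  let e : Localization.Away g₀ ≃ₐ[Γ(X, W)] Γ(X, X.basicOpen g₀) :=
    IsLocalization.algEquiv (Submonoid.powers g₀) (Localization.Away g₀) Γ(X, X.basicOpen g₀)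
  let ψ : D →+* Γ(X, X.basicOpen g₀) := (e : Localization.Away g₀ →+* _).comp φ.toRingHom
  have hψ : Function.Surjective ψ := e.surjective.comp hφ
  have hUT : X.basicOpen g₀ ≤ f ⁻¹ᵁ T := (X.basicOpen_le g₀).trans hWT
  have hcomp : CommRingCat.ofHom (algebraMap Γ(Y, T) D) ≫ CommRingCat.ofHom ψ =
      f.appLE T (X.basicOpen g₀) hUT := by
    ext a
    show e (φ (algebraMap Γ(Y, T) D a)) = _
    rw [φ.commutes, IsScalarTower.algebraMap_apply Γ(Y, T) Γ(X, W) (Localization.Away g₀),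
      e.commutes]
    show (X.presheaf.map (homOfLE (X.basicOpen_le g₀)).op).hom ((f.appLE T W hWT).hom a) = _
    rw [← CommRingCat.comp_apply, Scheme.Hom.appLE_map]
  refine ⟨X.basicOpen g₀, Spec (CommRingCat.of D),
    hU.isoSpec.hom ≫ Spec.map (CommRingCat.ofHom ψ),
    Spec.map (CommRingCat.ofHom (algebraMap Γ(Y, T) D)) ≫ hT.fromSpec, hxU, ?_, ?_, ?_⟩
  · haveI : IsClosedImmersion (Spec.map (CommRingCat.ofHom ψ)) :=
      IsClosedImmersion.spec_of_surjective _ hψ
    infer_instance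
  · haveI : SmoothOfRelativeDimension p
        (Spec.map (CommRingCat.ofHom (algebraMap Γ(Y, T) D))) := by
      rw [HasRingHomProperty.Spec_iff (P := @SmoothOfRelativeDimension p)]
      apply RingHom.locally_of RingHom.isStandardSmoothOfRelativeDimension_respectsIso
      rw [CommRingCat.hom_ofHom, RingHom.isStandardSmoothOfRelativeDimension_algebraMap]
      exact hD
    exact inferInstanceAs (SmoothOfRelativeDimension (p + 0) (_ ≫ hT.fromSpec))
  · rw [Category.assoc, ← Spec.map_comp_assoc, hcomp,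
      IsAffineOpen.SpecMap_appLE_fromSpec f hT hU hUT, IsAffineOpen.isoSpec_hom_fromSpec_assoc]

/-- ring-level: `A → B' ↠ B`, `B'` standard smooth of relative dimension `p` over `A` ⇒
`Fitt_p(Ω[B/A]) = ⊤`. -/
theorem fitt_eq_top_of_surjective (A B' B : Type u) [CommRing A] [CommRing B'] [CommRing B]
    [Algebra A B'] [Algebra A B] [Algebra B' B] [IsScalarTower A B' B] (p : ℕ)
    [Algebra.IsStandardSmoothOfRelativeDimension p A B']
    (hs : Function.Surjective (algebraMap B' B)) :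
    Fitt.ideal B Ω[B⁄A] p = ⊤ := by
  classical
  obtain ⟨φ⟩ := Groth.Agent.H70.SmoothDiff.nonempty_kaehler_equiv (R := A) (S := B') p
  let b' : Module.Basis (Fin p) B' Ω[B'⁄A] := (Pi.basisFun B' (Fin p)).map φ.symm
  have hsurj := KaehlerDifferential.map_surjective_of_surjective A A B' B hs
  apply Groth.Agent.H34.Fit.fittIdeal_eq_top_of_span
    (fun j => KaehlerDifferential.map A A B' B (b' j))
  rw [eq_top_iff]
  intro z hz0
  clear hz0
  obtain ⟨w, rfl⟩ := hsurj z
  have hw : w ∈ Submodule.span B' (Set.range b') := by rw [b'.span_eq]; trivial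
  induction hw using Submodule.span_induction with
  | mem y hy =>
    obtain ⟨j, rfl⟩ := hy
    exact Submodule.subset_span ⟨j, rfl⟩
  | zero => simp
  | add y z _ _ hy hz => rw [map_add]; exact Submodule.add_mem _ hy hz
  | smul a y _ hy =>
    rw [map_smul, ← algebraMap_smul B a]
    exact Submodule.smul_mem _ _ hy


set_option maxHeartbeats 1600000 in
theorem backward {X Y : Scheme.{u}} (f : X ⟶ Y) [LocallyOfFinitePresentation f] [QuasiSeparated f]
    (p : ℕ) (x : X) (U : X.Opens) (U' : Scheme.{u}) (i : (U : Scheme.{u}) ⟶ U') (g : U' ⟶ Y)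
    (hxU : x ∈ U) [IsClosedImmersion i] [SmoothOfRelativeDimension p g]
    (hig : i ≫ g = U.ι ≫ f) :
    x ∉ (Fitt.sheafIdeal (Omega.sheaf f) p).support := by
  classical
  let x₀ : (U : Scheme.{u}) := ⟨x, hxU⟩
  obtain ⟨T, hT, W', hW', hxW', e', hstd⟩ :=
    SmoothOfRelativeDimension.exists_isStandardSmoothOfRelativeDimension (n := p) (f := g) (i x₀)
  let W₀ : (U : Scheme.{u}).Opens := i ⁻¹ᵁ W'
  have hW₀ : IsAffineOpen W₀ := hW'.preimage i
  let W : X.Opens := U.ι ''ᵁ W₀
  have hW : IsAffineOpen W := hW₀.image_of_isOpenImmersion U.ι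
  have hxW : x ∈ W := ⟨x₀, hxW', rfl⟩
  have hW₀T : W₀ ≤ (U.ι ≫ f) ⁻¹ᵁ T := by
    rw [← hig]
    intro z hz
    exact e' hz
  have hWT : W ≤ f ⁻¹ᵁ T := by
    rintro _ ⟨z, hz, rfl⟩
    exact hW₀T hz
  rw [mem_support_fitt_iff f p x T hT W hW hWT hxW]
  letI algAB : Algebra Γ(Y, T) Γ(X, W) := (f.appLE T W hWT).hom.toAlgebra
  letI algAB' : Algebra Γ(Y, T) Γ(U', W') := (g.appLE T W' e').hom.toAlgebra
  letI algB'B : Algebra Γ(U', W') Γ(X, W) := (i.app W' ≫ (U.ι.appIso W₀).inv).hom.toAlgebra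
  haveI : Algebra.IsStandardSmoothOfRelativeDimension p Γ(Y, T) Γ(U', W') := hstd
  have hcomp : f.appLE T W hWT = g.appLE T W' e' ≫ i.app W' ≫ (U.ι.appIso W₀).inv := by
    have h1 : ∀ (φ ψ : (U : Scheme.{u}) ⟶ Y) (h : φ = ψ) (h1 : W₀ ≤ φ ⁻¹ᵁ T),
        φ.appLE T W₀ h1 = ψ.appLE T W₀ (h ▸ h1) := by
      intro φ ψ h h1; subst h; rfl
    have h2 : f.appLE T W hWT ≫ (U.ι.appIso W₀).hom = g.appLE T W' e' ≫ i.app W' := by
      rw [Scheme.Hom.appIso_hom', Scheme.Hom.appLE_comp_appLE, ← i.appLE_eq_app,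
        Scheme.Hom.appLE_comp_appLE]
      exact (h1 _ _ hig _).symm
    rw [← Category.assoc, ← h2, Category.assoc, Iso.hom_inv_id, Category.comp_id]
  haveI : IsScalarTower Γ(Y, T) Γ(U', W') Γ(X, W) := by
    apply IsScalarTower.of_algebraMap_eq'
    show (f.appLE T W hWT).hom = (i.app W' ≫ (U.ι.appIso W₀).inv).hom.comp (g.appLE T W' e').hom
    rw [hcomp]; rfl
  have hs : Function.Surjective (algebraMap Γ(U', W') Γ(X, W)) := by
    show Function.Surjective (i.app W' ≫ (U.ι.appIso W₀).inv).hom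
    rw [CommRingCat.hom_comp]
    exact ((ConcreteCategory.bijective_of_isIso (U.ι.appIso W₀).inv).surjective).comp
      (i.app_surjective W' hW')
  rw [fitt_eq_top_of_surjective Γ(Y, T) Γ(U', W') Γ(X, W) p hs]
  intro h
  exact (hW.primeIdealOf ⟨x, hxW⟩).isPrime.ne_top (top_le_iff.mp h)



/-- Let f : X ⟶ Y be locally of finite presentation and quasi-separated and p ≥ 0, and let J^p(X/Y) ⊆ X
be the closed subset cut out by the p-th Fitting ideal of the module of differentials Ω_{X/Y} (the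
p-th Jacobian locus). Then a point x of X lies outside J^p(X/Y) if and only if x has an open
neighbourhood U admitting a closed immersion over Y into a Y-scheme U' which is smooth of relative
dimension p over Y. (The published statement takes f of finite presentation and asks U' smooth over
Y with fibre dimension p at x; after shrinking U' this is smoothness of relative dimension p.
Quasi-separatedness of f is assumed because the module Ω_{X/Y} used here is defined for such f.) -/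
theorem result
    {X Y : Scheme.{u}} (f : X ⟶ Y) [LocallyOfFinitePresentation f] [QuasiSeparated f] (p : ℕ) (x : ↥X) :
    x ∉ (Fitt.sheafIdeal (Omega.sheaf f) p).support ↔
      ∃ (U : X.Opens) (U' : Scheme.{u}) (i : (U : Scheme.{u}) ⟶ U') (g : U' ⟶ Y),
        x ∈ U ∧ IsClosedImmersion i ∧ SmoothOfRelativeDimension p g ∧ i ≫ g = U.ι ≫ f := by
  constructor
  · exact forward f p x
  · rintro ⟨U, U', i, g, hxU, hi, hg, hig⟩
    exact backward f p x U U' i g hxU hig

end Groth.Agent.S16253
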