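import Groth.Statements.S16254
import Mathlib

set_option autoImplicit false
universe u
open scoped BigOperators
open LefPen

namespace Groth.Agent.S16254

open MvPolynomial Matrix

section Gen

variable {R : Type*} [CommRing R]

/-- Expansion of the determinant of a product of rectangular matrices (weak Cauchy--Binet). -/
theorem det_mul_mem_span {n : ℕ} {κ : Type*} [Fintype κ] [DecidableEq κ]
    (B : Matrix (Fin n) κ R) (Cm : Matrix κ (Fin n) R) :
    (B * Cm).det ∈ Ideal.span
      (Set.range fun c : Fin n → κ => (Matrix.of fun i j => Cm (c i) j).det) := by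
  classical
  have h1 : (B * Cm).det = Matrix.detRowAlternating (fun i => ∑ k, B i k • (Cm k)) := by
    show Matrix.detRowAlternating (B * Cm) = _
    congr 1
    funext i j
    simp [Matrix.mul_apply, Finset.sum_apply]
  rw [h1]
  have h2 := MultilinearMap.map_sum
    (Matrix.detRowAlternating (R := R) (n := Fin n)).toMultilinearMap
    (fun (i : Fin n) (k : κ) => B i k • Cm k)
  have h3 : Matrix.detRowAlternating (fun i => ∑ k, B i k • (Cm k)) =
      ∑ r : Fin n → κ, (∏ i, B i (r i)) • Matrix.detRowAlternating (fun i => Cm (r i)) := by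
    refine h2.trans ?_
    refine Finset.sum_congr rfl fun r _ => ?_
    exact MultilinearMap.map_smul_univ _ (fun i => B i (r i)) (fun i => Cm (r i))
  rw [h3]
  refine Ideal.sum_mem _ fun r _ => ?_
  rw [smul_eq_mul]
  refine Ideal.mul_mem_left _ _ (Ideal.subset_span ⟨r, rfl⟩)

/-- A matrix whose last row is a combination of the other rows has determinant zero. -/
theorem det_eq_zero_of_last_row_comb {n : ℕ} (B : Fin (n + 1) → Fin (n + 1) → R)
    (w : Fin n → R) (h : B (Fin.last n) = ∑ i : Fin n, w i • B i.castSucc) :
    Matrix.det (Matrix.of B) = 0 := by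
  classical
  show Matrix.detRowAlternating B = 0
  have h1 : Matrix.detRowAlternating B = Matrix.detRowAlternating
      (Function.update B (Fin.last n) (∑ i : Fin n, w i • B i.castSucc)) := by
    rw [← h, Function.update_eq_self]
  rw [h1, AlternatingMap.map_update_sum]
  refine Finset.sum_eq_zero fun i _ => ?_
  rw [AlternatingMap.map_update_smul, AlternatingMap.map_update_self, smul_zero]
  exact (Fin.castSucc_lt_last i).ne'

/-- Subtracting a combination of the other rows from the last row does not change the
determinant. -/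
theorem det_update_last_sub {n : ℕ} (B : Fin (n + 1) → Fin (n + 1) → R) (w : Fin n → R) :
    Matrix.det (Matrix.of (Function.update B (Fin.last n)
      (B (Fin.last n) - ∑ i : Fin n, w i • B i.castSucc))) = Matrix.det (Matrix.of B) := by
  classical
  show Matrix.detRowAlternating (Function.update B (Fin.last n) _) = Matrix.detRowAlternating B
  rw [AlternatingMap.map_update_sub, Function.update_eq_self, AlternatingMap.map_update_sum]
  rw [Finset.sum_eq_zero, sub_zero]
  intro i _
  rw [AlternatingMap.map_update_smul, AlternatingMap.map_update_self, smul_zero]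
  exact (Fin.castSucc_lt_last i).ne'

end Gen

section Retract

variable {A : Type*} [CommRing A] {N s : ℕ}

/-- A retraction onto the span of the `m i`, in coordinates. -/
theorem exists_retraction (m : Fin s → (Fin (N + 1) → A)) (hli : LinearIndependent A m)
    (hproj : Module.Projective A ((Fin (N + 1) → A) ⧸ Submodule.span A (Set.range m))) :
    ∃ P : Fin s → Fin (N + 1) → A, ∀ i k, ∑ j, P i j * m k j = if i = k then 1 else 0 := by
  classical
  let Msub := Submodule.span A (Set.range m)
  obtain ⟨σ, hσ⟩ := Module.projective_lifting_property Msub.mkQ LinearMap.id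
    (Submodule.mkQ_surjective Msub)
  let r0 : (Fin (N + 1) → A) →ₗ[A] (Fin (N + 1) → A) := LinearMap.id - σ ∘ₗ Msub.mkQ
  have hr0 : ∀ x, r0 x ∈ Msub := by
    intro x
    rw [← Submodule.Quotient.mk_eq_zero]
    have h1 : Msub.mkQ (σ (Msub.mkQ x)) = Msub.mkQ x := by
      have := LinearMap.congr_fun hσ (Msub.mkQ x)
      simpa using this
    show Msub.mkQ (r0 x) = 0
    simp only [r0, LinearMap.sub_apply, LinearMap.id_apply, LinearMap.comp_apply, map_sub, h1,
      sub_self]
  let r : (Fin (N + 1) → A) →ₗ[A] Msub := r0.codRestrict Msub hr0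
  let b : Module.Basis (Fin s) A Msub := Module.Basis.span hli
  let ρ : (Fin (N + 1) → A) →ₗ[A] (Fin s → A) := b.equivFun.toLinearMap ∘ₗ r
  have hρm : ∀ k, ρ (m k) = Pi.single k 1 := by
    intro k
    have h1 : r (m k) = b k := by
      apply Subtype.ext
      have h2 : Msub.mkQ (m k) = 0 := by
        rw [Submodule.mkQ_apply, Submodule.Quotient.mk_eq_zero]
        exact Submodule.subset_span ⟨k, rfl⟩
      have h3 : (b k : Fin (N + 1) → A) = m k :=
        congrArg Subtype.val (Module.Basis.span_apply hli k)
      rw [h3]
      show r0 (m k) = m k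
      simp only [r0, LinearMap.sub_apply, LinearMap.id_apply, LinearMap.comp_apply, h2, map_zero,
        sub_zero]
    show b.equivFun (r (m k)) = _
    rw [h1]
    funext j
    rw [Module.Basis.equivFun_self, Pi.single_apply]
    simp [eq_comm]
  refine ⟨fun i j => ρ (fun l => if j = l then 1 else 0) i, fun i k => ?_⟩
  have h2 := congrFun (LinearMap.pi_apply_eq_sum_univ ρ (m k)) i
  rw [hρm k, Finset.sum_apply] at h2
  rw [Pi.single_apply] at h2
  rw [h2]
  refine Finset.sum_congr rfl fun j _ => ?_
  rw [Pi.smul_apply, smul_eq_mul, mul_comm]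

end Retract


/-- Let A be a commutative ring and m_1, …, m_s ∈ A^(N+1) linearly independent vectors whose span M has
projective (that is, locally free) quotient A^(N+1)/M. Write a_0, …, a_N for the coordinate
functions, so that restricting linear forms to M and expressing them in the basis dual to the m_i
gives the A-algebra map A[a_0, …, a_N] ⟶ A[y_1, …, y_s], a_j ↦ Σ_i (m_i)_j y_i (the map
Sym((A^(N+1))^∨) ⟶ Sym(M^∨)). Its kernel is the ideal generated by the (s+1) × (s+1) minors of the
(s+1) × (N+1) matrix whose first s rows are the coordinate rows of m_1, …, m_s and whose last row is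
(a_0, …, a_N). The minors are indexed here by all maps c from Fin (s+1) to Fin (N+1) choosing the
columns (non-injective choices give zero). -/
theorem result
    (A : Type u) [CommRing A] (N s : ℕ) (m : Fin s → (Fin (N + 1) → A))
    (hli : LinearIndependent A m)
    (hproj : Module.Projective A ((Fin (N + 1) → A) ⧸ Submodule.span A (Set.range m))) :
    RingHom.ker (MvPolynomial.aeval (R := A) (S₁ := MvPolynomial (Fin s) A)
        (fun j : Fin (N + 1) => ∑ i : Fin s, MvPolynomial.C (m i j) * MvPolynomial.X i)) =
      Ideal.span (Set.range fun c : Fin (s + 1) → Fin (N + 1) =>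
        (Matrix.of fun (i : Fin (s + 1)) (j : Fin (s + 1)) =>
          (Fin.snoc (α := fun _ => MvPolynomial (Fin (N + 1)) A)
            (fun i' : Fin s => MvPolynomial.C (m i' (c j))) (MvPolynomial.X (c j)) i)).det) := by
  classical
  obtain ⟨P, hP⟩ := exists_retraction m hli hproj
  set φ : MvPolynomial (Fin (N + 1)) A →ₐ[A] MvPolynomial (Fin s) A :=
    MvPolynomial.aeval (R := A) (S₁ := MvPolynomial (Fin s) A)
      (fun j : Fin (N + 1) => ∑ i : Fin s, MvPolynomial.C (m i j) * MvPolynomial.X i) with hφ
  let ψ : MvPolynomial (Fin s) A →ₐ[A] MvPolynomial (Fin (N + 1)) A :=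
    MvPolynomial.aeval (fun i : Fin s => ∑ k : Fin (N + 1), MvPolynomial.C (P i k) * MvPolynomial.X k)
  let w : Fin s → MvPolynomial (Fin (N + 1)) A := fun i => ψ (MvPolynomial.X i)
  have hw : ∀ i, w i = ∑ k : Fin (N + 1), MvPolynomial.C (P i k) * MvPolynomial.X k := by
    intro i; simp only [w, ψ, MvPolynomial.aeval_X]
  let u : Fin (N + 1) → MvPolynomial (Fin (N + 1)) A :=
    fun k => MvPolynomial.X k - ∑ i : Fin s, MvPolynomial.C (m i k) * w i
  have hφX : ∀ j, φ (MvPolynomial.X j) = ∑ i : Fin s, MvPolynomial.C (m i j) * MvPolynomial.X i := by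
    intro j; simp only [hφ, MvPolynomial.aeval_X]
  have hφw : ∀ i, φ (w i) = MvPolynomial.X i := by
    intro i
    rw [hw, map_sum]
    simp only [map_mul, MvPolynomial.algHom_C, hφX, MvPolynomial.algebraMap_eq, Finset.mul_sum]
    rw [Finset.sum_comm]
    have : ∀ k' : Fin s, ∑ k : Fin (N + 1),
        MvPolynomial.C (P i k) * (MvPolynomial.C (m k' k) * MvPolynomial.X k') =
        MvPolynomial.C (if i = k' then (1 : A) else 0) * (MvPolynomial.X k' : MvPolynomial (Fin s) A) := by
      intro k'
      rw [← hP i k', map_sum, Finset.sum_mul]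
      refine Finset.sum_congr rfl fun k _ => ?_
      rw [map_mul, mul_assoc]
    simp only [this]
    simp
  have hψφ : ∀ j, ψ (φ (MvPolynomial.X j)) = ∑ i : Fin s, MvPolynomial.C (m i j) * w i := by
    intro j
    rw [hφX, map_sum]
    refine Finset.sum_congr rfl fun i _ => ?_
    rw [map_mul, MvPolynomial.algHom_C, MvPolynomial.algebraMap_eq]
  have hu : ∀ k, u k = MvPolynomial.X k - ψ (φ (MvPolynomial.X k)) := by
    intro k; rw [hψφ]
  have hφu : ∀ k, φ (u k) = 0 := by
    intro k
    show φ (MvPolynomial.X k - ∑ i : Fin s, MvPolynomial.C (m i k) * w i) = 0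
    rw [map_sub, map_sum, hφX, sub_eq_zero]
    refine Finset.sum_congr rfl fun i _ => ?_
    rw [map_mul, hφw, MvPolynomial.algHom_C, MvPolynomial.algebraMap_eq]
  -- the kernel is generated by the `u k`
  have hker : RingHom.ker φ = Ideal.span (Set.range u) := by
    apply le_antisymm
    · intro p hp
      have hp0 : φ p = 0 := hp
      have key : ∀ q : MvPolynomial (Fin (N + 1)) A, q - ψ (φ q) ∈ Ideal.span (Set.range u) := by
        intro q
        induction q using MvPolynomial.induction_on with
        | C a =>
          simp only [MvPolynomial.algHom_C, MvPolynomial.algebraMap_eq, sub_self]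
          exact Ideal.zero_mem _
        | add p q hp hq =>
          have : p + q - ψ (φ (p + q)) = (p - ψ (φ p)) + (q - ψ (φ q)) := by
            rw [map_add, map_add]; ring
          rw [this]; exact Ideal.add_mem _ hp hq
        | mul_X p j hp =>
          have : p * MvPolynomial.X j - ψ (φ (p * MvPolynomial.X j)) =
              (p - ψ (φ p)) * MvPolynomial.X j + ψ (φ p) * u j := by
            rw [map_mul, map_mul, hu]; ring
          rw [this]
          exact Ideal.add_mem _ (Ideal.mul_mem_right _ _ hp)
            (Ideal.mul_mem_left _ _ (Ideal.subset_span ⟨j, rfl⟩))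
      have := key p
      rwa [hp0, map_zero, sub_zero] at this
    · rw [Ideal.span_le]
      rintro _ ⟨k, rfl⟩
      exact hφu k
  rw [hker]
  -- the matrices in the statement
  let T : (Fin (N + 1) → MvPolynomial (Fin (N + 1)) A) → (Fin (s + 1) → Fin (N + 1)) →
      Fin (s + 1) → Fin (s + 1) → (MvPolynomial (Fin (N + 1)) A) :=
    fun v c => fun (i : Fin (s + 1)) (j : Fin (s + 1)) =>
      (Fin.snoc (α := fun _ => MvPolynomial (Fin (N + 1)) A)
        (fun i' : Fin s => MvPolynomial.C (m i' (c j))) (v (c j)) i)
  have hT_cast : ∀ v c (i' : Fin s) j, T v c i'.castSucc j = MvPolynomial.C (m i' (c j)) := by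
    intro v c i' j
    simp only [T, Fin.snoc_castSucc]
  have hT_last : ∀ v c j, T v c (Fin.last s) j = v (c j) := by
    intro v c j
    simp only [T, Fin.snoc_last]
  have hTu : ∀ c, Matrix.det (Matrix.of (T u c)) = Matrix.det (Matrix.of (T MvPolynomial.X c)) := by
    intro c
    rw [← det_update_last_sub (T MvPolynomial.X c) w]
    congr 2
    funext i j
    refine Fin.lastCases ?_ (fun i' => ?_) i
    · rw [Function.update_self, hT_last]
      simp only [Pi.sub_apply, Finset.sum_apply, Pi.smul_apply, smul_eq_mul, hT_last, hT_cast, u]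
      refine congrArg _ (Finset.sum_congr rfl fun i' _ => ?_)
      rw [mul_comm]
    · rw [Function.update_of_ne (Fin.castSucc_lt_last i').ne, hT_cast, hT_cast]
  show Ideal.span (Set.range u) =
    Ideal.span (Set.range fun c => Matrix.det (Matrix.of (T MvPolynomial.X c)))
  apply le_antisymm
  · rw [Ideal.span_le]
    rintro _ ⟨j, rfl⟩
    -- u j as the determinant of a product
    let Bm : Matrix (Fin (s + 1)) (Fin (N + 1)) (MvPolynomial (Fin (N + 1)) A) :=
      Matrix.of fun i k => (Fin.snoc (α := fun _ => MvPolynomial (Fin (N + 1)) A)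
        (fun i' : Fin s => MvPolynomial.C (P i' k)) (if k = j then 1 else 0) i)
    let Cm : Matrix (Fin (N + 1)) (Fin (s + 1)) (MvPolynomial (Fin (N + 1)) A) :=
      Matrix.of fun k i => (Fin.snoc (α := fun _ => MvPolynomial (Fin (N + 1)) A)
        (fun i' : Fin s => MvPolynomial.C (m i' k)) (u k) i)
    have hBc : ∀ (i' : Fin s) k, Bm i'.castSucc k = MvPolynomial.C (P i' k) := by
      intro i' k; simp only [Bm, Matrix.of_apply, Fin.snoc_castSucc]
    have hBl : ∀ k, Bm (Fin.last s) k = if k = j then 1 else 0 := by
      intro k; simp only [Bm, Matrix.of_apply, Fin.snoc_last]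
    have hCc : ∀ k (i' : Fin s), Cm k i'.castSucc = MvPolynomial.C (m i' k) := by
      intro k i'; simp only [Cm, Matrix.of_apply, Fin.snoc_castSucc]
    have hCl : ∀ k, Cm k (Fin.last s) = u k := by
      intro k; simp only [Cm, Matrix.of_apply, Fin.snoc_last]
    have hPu : ∀ i' : Fin s, ∑ k, MvPolynomial.C (P i' k) * u k = 0 := by
      intro i'
      have h1 : ∑ k, MvPolynomial.C (P i' k) * u k = w i' - ψ (φ (w i')) := by
        rw [hw i', map_sum, map_sum, ← Finset.sum_sub_distrib]
        refine Finset.sum_congr rfl fun k _ => ?_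
        rw [map_mul, map_mul, MvPolynomial.algHom_C, AlgHom.commutes,
          MvPolynomial.algebraMap_eq, hu, mul_sub]
      rw [h1, hφw]
      exact sub_self _
    have hprod_cc : ∀ i' i'' : Fin s, (Bm * Cm) i'.castSucc i''.castSucc =
        if i' = i'' then 1 else 0 := by
      intro i' i''
      simp only [Matrix.mul_apply, hBc, hCc]
      have : ∑ k, (MvPolynomial.C (P i' k) * MvPolynomial.C (m i'' k) :
          MvPolynomial (Fin (N + 1)) A) = MvPolynomial.C (if i' = i'' then (1 : A) else 0) := by
        rw [← hP i' i'', map_sum]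
        refine Finset.sum_congr rfl fun k _ => ?_
        rw [map_mul]
      rw [this]
      split_ifs
      · exact MvPolynomial.C_1
      · exact MvPolynomial.C_0
    have hprod_cl : ∀ i' : Fin s, (Bm * Cm) i'.castSucc (Fin.last s) = 0 := by
      intro i'
      simp only [Matrix.mul_apply, hBc, hCl]
      exact hPu i'
    have hprod_ll : (Bm * Cm) (Fin.last s) (Fin.last s) = u j := by
      simp only [Matrix.mul_apply, hBl, hCl]
      simp
    have htri : (Bm * Cm).BlockTriangular OrderDual.toDual := by
      intro i i' hlt
      have hlt' : i < i' := hlt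
      revert hlt'
      refine Fin.lastCases ?_ (fun i0 => ?_) i
      · intro hlt'
        exact absurd (Fin.le_last i') (not_le.mpr hlt')
      · refine Fin.lastCases ?_ (fun i1 => ?_) i'
        · intro _
          exact hprod_cl i0
        · intro hlt'
          rw [hprod_cc, if_neg]
          intro h
          rw [h] at hlt'
          exact lt_irrefl _ hlt'
    have hdet : (Bm * Cm).det = u j := by
      rw [Matrix.det_of_isLowerTriangular _ htri, Fin.prod_univ_castSucc, hprod_ll]
      simp only [hprod_cc, if_true, Finset.prod_const_one, one_mul]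
    rw [SetLike.mem_coe, ← hdet]
    have hmem := det_mul_mem_span Bm Cm
    have hset : (Set.range fun c : Fin (s + 1) → Fin (N + 1) =>
        (Matrix.of fun i j => Cm (c i) j).det) =
        Set.range fun c => Matrix.det (Matrix.of (T MvPolynomial.X c)) := by
      congr 1
      funext c
      rw [← hTu c, ← Matrix.det_transpose]
      congr 1
    rwa [hset] at hmem
  · rw [Ideal.span_le, ← hker]
    rintro _ ⟨c, rfl⟩
    show φ (Matrix.det (Matrix.of (T MvPolynomial.X c))) = 0
    rw [AlgHom.map_det]
    have hmap : φ.mapMatrix (Matrix.of (T MvPolynomial.X c)) =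
        Matrix.of (fun i j => φ (T MvPolynomial.X c i j)) := Matrix.ext fun i j => rfl
    rw [hmap]
    apply det_eq_zero_of_last_row_comb _
      (fun i : Fin s => (MvPolynomial.X i : MvPolynomial (Fin s) A))
    funext j
    simp only [hT_last, hT_cast, Finset.sum_apply, Pi.smul_apply, smul_eq_mul, hφX,
      MvPolynomial.algHom_C, MvPolynomial.algebraMap_eq]
    refine Finset.sum_congr rfl fun i _ => ?_
    rw [mul_comm]

end Groth.Agent.S16254
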