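import Groth.Statements.S16256
import Mathlib
import Groth.Agent.H70.FittSupport
import Groth.Agent.H70.LciJac
import Groth.Agent.H59.RegImmDesc
import Groth.Agent.H59.KoszH1Bridge
import Groth.Agent.H61.H1RegLoc
import Groth.Agent.H63.StalkLift

set_option autoImplicit false
universe u
open CategoryTheory CategoryTheory.Limits AlgebraicGeometry TopologicalSpace
open SDiv

namespace Groth.Agent.S16256

set_option linter.style.haveILetI false
open Groth.Agent.H70.FittSupport Groth.Agent.H59.RegImmDesc Groth.Agent.H56.RegImmComp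

set_option maxHeartbeats 1600000 in
theorem main {Y X : Scheme.{u}} (f : Y ⟶ X) [LocallyOfFinitePresentation f] [QuasiSeparated f]
    (m : ℕ) (y : Y)
    (hlci : ∃ (U : Y.Opens) (P : Scheme.{u}) (i : (U : Scheme.{u}) ⟶ P) (π : P ⟶ X) (c : ℕ),
      y ∈ U ∧ RegImm.IsRegularImmersionOfCodim RegImm.Kind.koszul c i ∧
        SmoothOfRelativeDimension (m + c) π ∧ i ≫ π = U.ι ≫ f) :
    (∃ V : Y.Opens, y ∈ V ∧ Smooth (V.ι ≫ f)) ↔
      y ∉ (Fitt.sheafIdeal (Omega.sheaf f) m).support := by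
  classical
  obtain ⟨U, Pz, i, π, c, hyU, ⟨himm, hreg⟩, hπ, hcomm⟩ := hlci
  let y₀ : (U : Scheme.{u}) := ⟨y, hyU⟩
  obtain ⟨V, hzV, hclV, rs, hlen, hrs, hkerV⟩ := hreg y₀
  subst hlen
  obtain ⟨T₂, hT₂, W₂, hW₂, hxW₂, e₂, hstd₂⟩ :=
    SmoothOfRelativeDimension.exists_isStandardSmoothOfRelativeDimension
      (n := m + rs.length) (f := π) (i y₀)
  obtain ⟨r, s, hxs, es, hstd⟩ := AlgebraicGeometry.exists_basicOpen_le_appLE_of_appLE_of_isAffine
    (P := fun f => RingHom.IsStandardSmoothOfRelativeDimension (m + rs.length) f)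
    (RingHom.isStandardSmoothOfRelativeDimension_stableUnderCompositionWithLocalizationAway _).right
    (RingHom.isStandardSmoothOfRelativeDimension_localizationPreserves _).away
    (i y₀) ⟨T₂, hT₂⟩ ⟨T₂, hT₂⟩ V ⟨W₂, hW₂⟩ hzV hxW₂ e₂ hstd₂ (e₂ hxW₂)
  have hT : IsAffineOpen (X.basicOpen r) := hT₂.basicOpen r
  have hW' : IsAffineOpen (Pz.basicOpen s) := V.2.basicOpen s
  have hcl' : IsClosedImmersion (i ∣_ Pz.basicOpen s) := closedImm_basicOpen i hclV s
  have hker' := ker_basicOpen i V.2 hclV s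
  have hW₀ : IsAffineOpen (i ⁻¹ᵁ Pz.basicOpen s) := isAffineOpen_preimage i hW' hcl'
  have hW : IsAffineOpen (U.ι ''ᵁ (i ⁻¹ᵁ Pz.basicOpen s)) := hW₀.image_of_isOpenImmersion U.ι
  have hyW : y ∈ U.ι ''ᵁ (i ⁻¹ᵁ Pz.basicOpen s) := ⟨y₀, hxs, rfl⟩
  have hW₀T : i ⁻¹ᵁ Pz.basicOpen s ≤ (U.ι ≫ f) ⁻¹ᵁ X.basicOpen r := by
    rw [← hcomm]
    intro z hz
    exact es hz
  have hWT : U.ι ''ᵁ (i ⁻¹ᵁ Pz.basicOpen s) ≤ f ⁻¹ᵁ X.basicOpen r := by
    rintro _ ⟨z, hz, rfl⟩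
    exact hW₀T hz
  rw [mem_support_fitt_iff f m y (X.basicOpen r) hT _ hW hWT hyW,
    Groth.Agent.H63.SmallLift.smooth_nhd_iff_formallySmooth_stalkMap f y,
    formallySmooth_stalkMap_iff (X.basicOpen r) hT _ hW hWT hyW]
  letI algAC : Algebra Γ(X, X.basicOpen r) Γ(Y, U.ι ''ᵁ (i ⁻¹ᵁ Pz.basicOpen s)) :=
    (f.appLE (X.basicOpen r) _ hWT).hom.toAlgebra
  letI algAP : Algebra Γ(X, X.basicOpen r) Γ(Pz, Pz.basicOpen s) :=
    (π.appLE (X.basicOpen r) (Pz.basicOpen s) es).hom.toAlgebra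
  letI algPC : Algebra Γ(Pz, Pz.basicOpen s) Γ(Y, U.ι ''ᵁ (i ⁻¹ᵁ Pz.basicOpen s)) :=
    (i.app (Pz.basicOpen s) ≫ (U.ι.appIso (i ⁻¹ᵁ Pz.basicOpen s)).inv).hom.toAlgebra
  haveI : Algebra.IsStandardSmoothOfRelativeDimension (m + rs.length) Γ(X, X.basicOpen r)
      Γ(Pz, Pz.basicOpen s) := hstd
  have hcomp : f.appLE (X.basicOpen r) _ hWT = π.appLE (X.basicOpen r) (Pz.basicOpen s) es ≫
      i.app (Pz.basicOpen s) ≫ (U.ι.appIso (i ⁻¹ᵁ Pz.basicOpen s)).inv := by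
    have h1 : ∀ (φ ψ : (U : Scheme.{u}) ⟶ X) (h : φ = ψ)
        (h1 : i ⁻¹ᵁ Pz.basicOpen s ≤ φ ⁻¹ᵁ X.basicOpen r),
        φ.appLE (X.basicOpen r) (i ⁻¹ᵁ Pz.basicOpen s) h1 =
          ψ.appLE (X.basicOpen r) (i ⁻¹ᵁ Pz.basicOpen s) (h ▸ h1) := by
      intro φ ψ h h1; subst h; rfl
    have h2 : f.appLE (X.basicOpen r) _ hWT ≫ (U.ι.appIso (i ⁻¹ᵁ Pz.basicOpen s)).hom =
        π.appLE (X.basicOpen r) (Pz.basicOpen s) es ≫ i.app (Pz.basicOpen s) := by
      rw [Scheme.Hom.appIso_hom', Scheme.Hom.appLE_comp_appLE, ← i.appLE_eq_app,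
        Scheme.Hom.appLE_comp_appLE]
      exact (h1 _ _ hcomm _).symm
    rw [← Category.assoc, ← h2, Category.assoc, Iso.hom_inv_id, Category.comp_id]
  haveI : IsScalarTower Γ(X, X.basicOpen r) Γ(Pz, Pz.basicOpen s)
      Γ(Y, U.ι ''ᵁ (i ⁻¹ᵁ Pz.basicOpen s)) := by
    apply IsScalarTower.of_algebraMap_eq'
    show (f.appLE (X.basicOpen r) _ hWT).hom =
      (i.app (Pz.basicOpen s) ≫ (U.ι.appIso (i ⁻¹ᵁ Pz.basicOpen s)).inv).hom.comp
        (π.appLE (X.basicOpen r) (Pz.basicOpen s) es).hom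
    rw [hcomp]; rfl
  have hbij := ConcreteCategory.bijective_of_isIso (U.ι.appIso (i ⁻¹ᵁ Pz.basicOpen s)).inv
  have hs : Function.Surjective
      (algebraMap Γ(Pz, Pz.basicOpen s) Γ(Y, U.ι ''ᵁ (i ⁻¹ᵁ Pz.basicOpen s))) := by
    show Function.Surjective
      (i.app (Pz.basicOpen s) ≫ (U.ι.appIso (i ⁻¹ᵁ Pz.basicOpen s)).inv).hom
    rw [CommRingCat.hom_comp]
    exact hbij.surjective.comp (app_surjective i hW' hcl')
  haveI : IsLocalization.Away s Γ(Pz, Pz.basicOpen s) := V.2.isLocalization_basicOpen s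
  let g : Fin rs.length → Γ(Pz, Pz.basicOpen s) :=
    fun k => algebraMap Γ(Pz, V.1) Γ(Pz, Pz.basicOpen s) (rs.get k)
  have hg : CAlgX.IsH1Regular g :=
    Groth.Agent.H61.H1RegLoc.isH1Regular_map_of_isLocalization (Submonoid.powers s) rs.get
      (Groth.Agent.H59.Kosz.isH1Regular_of_isKoszulRegularSeq rs hrs)
  have hker : RingHom.ker (algebraMap Γ(Pz, Pz.basicOpen s)
      Γ(Y, U.ι ''ᵁ (i ⁻¹ᵁ Pz.basicOpen s))) = Ideal.span (Set.range g) := by
    have h1 : RingHom.ker (algebraMap Γ(Pz, Pz.basicOpen s)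
        Γ(Y, U.ι ''ᵁ (i ⁻¹ᵁ Pz.basicOpen s))) = RingHom.ker (i.app (Pz.basicOpen s)).hom := by
      ext a
      rw [RingHom.mem_ker, RingHom.mem_ker]
      show (i.app (Pz.basicOpen s) ≫ (U.ι.appIso (i ⁻¹ᵁ Pz.basicOpen s)).inv).hom a = 0 ↔ _
      rw [CommRingCat.hom_comp, RingHom.comp_apply]
      exact map_eq_zero_iff _ hbij.injective
    rw [h1, hker', hkerV, Ideal.ofList, Ideal.map_span]
    congr 1
    ext z
    constructor
    · rintro ⟨r', hr', rfl⟩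
      obtain ⟨k, rfl⟩ := List.mem_iff_get.mp hr'
      exact ⟨k, rfl⟩
    · rintro ⟨k, rfl⟩
      exact ⟨rs.get k, List.get_mem _ _, rfl⟩
  exact Groth.Agent.H70.LciJac.isSmoothAt_iff_not_fitt_le
    (hW.primeIdealOf ⟨y, hyW⟩).asIdeal m rs.length g hg hs hker


/-- Let f : Y ⟶ X be locally of finite presentation and quasi-separated, m ≥ 0, and y a point of Y near
which f is a local complete intersection of virtual dimension m, in the factorisation sense: some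
open neighbourhood U of y admits a Koszul-regular immersion i of constant codimension c into a
scheme P smooth of relative dimension m + c over X, compatibly with f. Then f is smooth on some open
neighbourhood of y if and only if y does not lie in the m-th Jacobian locus of Y over X, the closed
subset cut out by the m-th Fitting ideal of Ω_{Y/X}. (Quasi-separatedness of f is assumed because
the module Ω_{Y/X} used here is defined for such f.) -/
theorem result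
    {Y X : Scheme.{u}} (f : Y ⟶ X) [LocallyOfFinitePresentation f] [QuasiSeparated f] (m : ℕ) (y : ↥Y)
    (hlci : ∃ (U : Y.Opens) (P : Scheme.{u}) (i : (U : Scheme.{u}) ⟶ P) (π : P ⟶ X) (c : ℕ),
      y ∈ U ∧ RegImm.IsRegularImmersionOfCodim RegImm.Kind.koszul c i ∧
        SmoothOfRelativeDimension (m + c) π ∧ i ≫ π = U.ι ≫ f) :
    (∃ V : Y.Opens, y ∈ V ∧ Smooth (V.ι ≫ f)) ↔ y ∉ (Fitt.sheafIdeal (Omega.sheaf f) m).support := by
  exact main f m y hlci

end Groth.Agent.S16256
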