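import Groth.Statements.S16259
import Mathlib

set_option autoImplicit false
set_option linter.style.haveILetI false
set_option linter.unusedSectionVars false
open W4c3wronskmg

namespace Groth.Agent.S16259

section Helpers

open Polynomial

variable {k : Type*} [Field k] [CharZero k]

theorem chooseA (j m : ℕ) :
    ((m : k) + 1) * ((j.choose (m + 1) : ℕ) : k) = ((j : k) - m) * ((j.choose m : ℕ) : k) := by
  by_cases hm : m ≤ j
  · have h := Nat.choose_succ_right_eq j m
    have h' : ((j.choose (m + 1) : ℕ) : k) * ((m : k) + 1)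
        = ((j.choose m : ℕ) : k) * ((j : k) - m) := by
      have := congrArg (Nat.cast : ℕ → k) h
      push_cast [Nat.cast_sub hm] at this
      exact this
    linear_combination h'
  · have h1 : j.choose (m + 1) = 0 := Nat.choose_eq_zero_of_lt (by omega)
    have h2 : j.choose m = 0 := Nat.choose_eq_zero_of_lt (by omega)
    simp [h1, h2]

theorem rec_coeff (i j n : ℕ) (c : ℕ → k)
    (hc : ∀ m, c m = if m ≤ n then (((i.choose (n - m)) * (j.choose m) : ℕ) : k) else 0) (m : ℕ) :
    ((m : k) + 1) * ((m : k) + 1 + i - n) * c (m + 1) = ((m : k) - n) * ((m : k) - j) * c m := by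
  rw [hc (m + 1), hc m]
  rcases lt_trichotomy m n with hlt | heq | hgt
  · have h1 : m + 1 ≤ n := hlt
    have h2 : m ≤ n := by omega
    rw [if_pos h1, if_pos h2]
    obtain ⟨s, hs⟩ : ∃ s, n = s + (m + 1) := ⟨n - (m + 1), by omega⟩
    have e1 : n - (m + 1) = s := by omega
    have e2 : n - m = s + 1 := by omega
    rw [e1, e2]
    have hn : (n : k) = s + m + 1 := by rw [hs]; push_cast; ring
    have A := chooseA (k := k) j m
    have B := chooseA (k := k) i s
    push_cast
    rw [hn]
    linear_combination ((i : k) - s) * (i.choose s : k) * A - ((j : k) - m) * (j.choose m : k) * B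
  · subst heq
    have h1 : ¬ (m + 1 ≤ m) := by omega
    rw [if_neg h1]
    simp
  · have h1 : ¬ (m + 1 ≤ n) := by omega
    have h2 : ¬ (m ≤ n) := by omega
    rw [if_neg h1, if_neg h2]
    simp

theorem coeff_theta (p : k[X]) (m : ℕ) : (X * derivative p).coeff m = (m : k) * p.coeff m := by
  cases m with
  | zero => simp
  | succ m => rw [coeff_X_mul, coeff_derivative]; push_cast; ring

theorem ode (i j n : ℕ) (h : k[X])
    (hc : ∀ m, h.coeff m = if m ≤ n then (((i.choose (n - m)) * (j.choose m) : ℕ) : k) else 0) :
    X * derivative (X * derivative h) + C ((i : k) - n) * (X * derivative h)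
      = X * (X * derivative (X * derivative h) - C ((n : k) + j) * (X * derivative h)
          + C ((n : k) * j) * h) := by
  ext m
  have hrec := rec_coeff i j n h.coeff hc
  cases m with
  | zero => simp [coeff_theta]
  | succ m =>
    simp only [coeff_add, coeff_C_mul, coeff_theta]
    rw [coeff_X_mul]
    simp only [coeff_add, coeff_sub, coeff_C_mul, coeff_theta]
    have := hrec m
    push_cast at this ⊢
    linear_combination this

theorem mult_le_one (i j n : ℕ) (h : k[X])
    (hc : ∀ m, h.coeff m = if m ≤ n then (((i.choose (n - m)) * (j.choose m) : ℕ) : k) else 0)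
    (c : k) (hc0 : c ≠ 0) (hc1 : c ≠ 1) : rootMultiplicity c h ≤ 1 := by
  by_contra hlt
  push Not at hlt
  have hh0 : h ≠ 0 := by
    rintro rfl
    simp at hlt
  obtain ⟨g, hg, hndvd⟩ := Polynomial.exists_eq_pow_rootMultiplicity_mul_and_not_dvd h hh0 c
  obtain ⟨r, hr⟩ : ∃ r, rootMultiplicity c h = r + 2 := ⟨rootMultiplicity c h - 2, by omega⟩
  rw [hr] at hg
  have hgc : g.eval c ≠ 0 := by
    intro h0
    exact hndvd (Polynomial.dvd_iff_isRoot.mpr h0)
  obtain ⟨u, hu⟩ : ∃ u : k[X], u = C ((r : k) + 2) * g + (X - C c) * derivative g := ⟨_, rfl⟩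
  obtain ⟨v, hv⟩ : ∃ v : k[X], v = C ((r : k) + 1) * u + (X - C c) * derivative u := ⟨_, rfl⟩
  have h1 : derivative h = (X - C c) ^ (r + 1) * u := by
    rw [hg, derivative_mul, derivative_X_sub_C_pow, hu]
    have e : r + 2 - 1 = r + 1 := by omega
    rw [e]
    push_cast
    ring
  have h2 : derivative (derivative h) = (X - C c) ^ r * v := by
    rw [h1, derivative_mul, derivative_X_sub_C_pow, hv]
    have e : r + 1 - 1 = r := by omega
    rw [e]
    push_cast
    ring
  have hd : derivative (X * derivative h) = derivative h + X * derivative (derivative h) := by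
    rw [derivative_mul, derivative_X, one_mul]
  have hode := ode i j n h hc
  rw [hd, h2, h1] at hode
  obtain ⟨B, hB⟩ : ∃ B : k[X], B = X * ((X - C c) * u + X * v) + C ((i : k) - n) * (X * ((X - C c) * u))
      - X * (X * ((X - C c) * u + X * v) - C ((n : k) + j) * (X * ((X - C c) * u))
          + C ((n : k) * j) * ((X - C c) * (X - C c) * g)) := ⟨_, rfl⟩
  have key : (X - C c) ^ r * B = 0 := by
    rw [hB]
    have hode' := hode
    rw [hg] at hode'
    linear_combination hode'
  have hB0 : B = 0 := by
    rcases mul_eq_zero.mp key with h' | h'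
    · exact absurd h' (pow_ne_zero r (X_sub_C_ne_zero c))
    · exact h'
  have eu : eval c u = ((r : k) + 2) * eval c g := by
    rw [hu]; simp
  have ev : eval c v = ((r : k) + 1) * eval c u := by
    rw [hv]; simp
  have eB : eval c B = c * c * (1 - c) * eval c v := by
    rw [hB]; simp; ring
  have := congrArg (eval c) hB0
  rw [eB, ev, eu, eval_zero] at this
  have hr1 : ((r : k) + 1) ≠ 0 := by exact_mod_cast Nat.succ_ne_zero r
  have hr2 : ((r : k) + 2) ≠ 0 := by exact_mod_cast (by omega : r + 2 ≠ 0)
  have h1c : (1 - c) ≠ 0 := sub_ne_zero.mpr (Ne.symm hc1)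
  exact absurd this (mul_ne_zero (mul_ne_zero (mul_ne_zero hc0 hc0) h1c)
    (mul_ne_zero hr1 (mul_ne_zero hr2 hgc)))

end Helpers

open Polynomial in
/-- Over a field of characteristic zero, for positive integers `i, j` and a natural number `n`, the
polynomial `h(W) = ∑_{l=0}^{n} (i choose l) (j choose (n-l)) W^(n-l)`, the coefficient of
`X^(i+j-n)` in `(X+1)^i (X+W)^j`, has no multiple root other than possibly `0` and `1`: every `c ≠
0, 1` has root multiplicity at most one. -/
theorem result
    (k : Type*) [Field k] [CharZero k] (i j n : ℕ) (hi : 0 < i) (hj : 0 < j) (c : k) (hc0 : c ≠ 0) (hc1 : c ≠ 1) :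
    Polynomial.rootMultiplicity c
      (∑ l ∈ Finset.range (n + 1),
        Polynomial.C (((i.choose l) * (j.choose (n - l)) : ℕ) : k) * Polynomial.X ^ (n - l)) ≤ 1 := by
  refine mult_le_one i j n _ (fun m => ?_) c hc0 hc1
  rw [Polynomial.finsetSum_coeff]
  simp only [Polynomial.coeff_C_mul_X_pow]
  split_ifs with hm
  · rw [Finset.sum_eq_single (n - m)]
    · have e : n - (n - m) = m := by omega
      simp [e]
    · intro l hl hne
      have hl' := Finset.mem_range.mp hl
      have : m ≠ n - l := by omega
      simp [this]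
    · intro hnot
      exfalso
      apply hnot
      rw [Finset.mem_range]
      omega
  · apply Finset.sum_eq_zero
    intro l hl
    have : m ≠ n - l := by omega
    simp [this]

end Groth.Agent.S16259
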