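import Groth.Statements.S16260
import Mathlib
import Groth.Agent.H88.PolarW2

set_option autoImplicit false
open W4c3wronskmg

namespace Groth.Agent.S16260

open Groth.Agent.H88.PolarW


open Polynomial in
/-- Let `k` be a field of characteristic zero, `a, b, i` positive integers with `i ≤ a + b`, and `j = a
+ b + 2 - i`. On the projective line with three marked points `A = 0`, `B = 1`, `C = ∞`, the
`(a+b+1)`-dimensional linear system `V = H⁰(ω((1+a)A)) ⊕ H⁰(ω((1+b)B)) ⊕ H⁰(ω(2C)) ⊆ H⁰(ω((1+a)A +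
(1+b)B + 2C)) ≅ H⁰(O(a+b+2))` becomes, in the affine coordinate, the span of the multiples of
`X^(a+1)` of degree at most `a+b`, the multiples of `(X-1)^(b+1)` of degree at most `a+b`, and
`X^(a+1) (X-1)^(b+1)`; and `V(-iP-jQ)` is the subspace of members divisible by `(X-p)^i (X-q)^j`.
Then there are no points `P = p`, `Q = q` other than `A, B, C` (that is, `p, q ∉ {0, 1}`; `p = q`
allowed) with both `dim V(-iP-jQ) ≥ 1` and `dim V(-(i-1)P-(j-1)Q) ≥ 2`. (The published statement is
over the complex numbers.) -/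
theorem result
    (k : Type*) [Field k] [CharZero k] (a b i j : ℕ) (ha : 0 < a) (hb : 0 < b) (hi : 0 < i) (hiab : i ≤ a + b)
    (hj : i + j = a + b + 2)
    (V : Submodule k (Polynomial k))
    (hV : V = ((Ideal.span {(X : Polynomial k) ^ (a + 1)}).restrictScalars k ⊓ Polynomial.degreeLE k ↑(a + b)) ⊔
      ((Ideal.span {((X : Polynomial k) - 1) ^ (b + 1)}).restrictScalars k ⊓ Polynomial.degreeLE k ↑(a + b)) ⊔
      Submodule.span k {(X : Polynomial k) ^ (a + 1) * (X - 1) ^ (b + 1)})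
    (p q : k) (hp0 : p ≠ 0) (hp1 : p ≠ 1) (hq0 : q ≠ 0) (hq1 : q ≠ 1) :
    ¬ (1 ≤ Module.finrank k ↥(V ⊓ (Ideal.span {(X - C p) ^ i * (X - C q) ^ j}).restrictScalars k) ∧
       2 ≤ Module.finrank k ↥(V ⊓ (Ideal.span {(X - C p) ^ (i - 1) * (X - C q) ^ (j - 1)}).restrictScalars k)) := by
  classical
  obtain ⟨r, hr⟩ : ∃ r : Fin 2 → k, r = ![0, 1] := ⟨_, rfl⟩
  obtain ⟨a', ha'⟩ : ∃ a' : Fin 2 → ℕ, a' = ![a, b] := ⟨_, rfl⟩
  have hr0 : r 0 = 0 := by rw [hr]; rfl
  have hr1 : r 1 = 1 := by rw [hr]; rfl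
  have ha0 : a' 0 = a := by rw [ha']; rfl
  have ha1 : a' 1 = b := by rw [ha']; rfl
  have h2c : ∀ x : Fin 2, x = 0 ∨ x = 1 := by decide
  have hrinj : Function.Injective r := by
    intro x y hxy
    rcases h2c x with rfl | rfl <;> rcases h2c y with rfl | rfl
    · rfl
    · rw [hr0, hr1] at hxy; exact absurd hxy zero_ne_one
    · rw [hr0, hr1] at hxy; exact absurd hxy one_ne_zero
    · rfl
  have hp' : ∀ j, p ≠ r j := by
    intro j
    rcases h2c j with rfl | rfl
    · rw [hr0]; exact hp0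
    · rw [hr1]; exact hp1
  have hq' : ∀ j, q ≠ r j := by
    intro j
    rcases h2c j with rfl | rfl
    · rw [hr0]; exact hq0
    · rw [hr1]; exact hq1
  obtain ⟨N, hNdef⟩ : ∃ N, N = a + b + 1 := ⟨_, rfl⟩
  have hN : N = (∑ j, a' j) + 1 := by rw [Fin.sum_univ_two, ha0, ha1, hNdef]
  have herase0 : (Finset.univ : Finset (Fin 2)).erase 0 = {1} := by decide
  have herase1 : (Finset.univ : Finset (Fin 2)).erase 1 = {0} := by decide
  have hD0 : ∏ j ∈ (Finset.univ : Finset (Fin 2)).erase 0, (X - C (r j)) ^ (a' j + 1) =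
      (X - 1) ^ (b + 1) := by
    rw [herase0, Finset.prod_singleton, hr1, ha1, C_1]
  have hD1 : ∏ j ∈ (Finset.univ : Finset (Fin 2)).erase 1, (X - C (r j)) ^ (a' j + 1) =
      X ^ (a + 1) := by
    rw [herase1, Finset.prod_singleton, hr0, ha0, C_0, sub_zero]
  have hD : ∏ j, (X - C (r j)) ^ (a' j + 1) = X ^ (a + 1) * (X - 1) ^ (b + 1) := by
    rw [Fin.prod_univ_two, hr0, hr1, ha0, ha1, C_0, C_1, sub_zero]
  have hX1 : (X - 1 : k[X]) = X - C 1 := by rw [C_1]
  have hX1ne : (X - 1 : k[X]) ≠ 0 := by rw [hX1]; exact X_sub_C_ne_zero 1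
  have hVle : V ≤ Vb r a' 1 := by
    rw [hV]
    refine sup_le (sup_le ?_ ?_) ?_
    · intro h hh
      obtain ⟨hh1, hh2⟩ := Submodule.mem_inf.mp hh
      obtain ⟨g, rfl⟩ :=
        Ideal.mem_span_singleton.mp ((Submodule.restrictScalars_mem k _ h).mp hh1)
      unfold Vb
      apply Submodule.mem_sup_right
      apply Submodule.mem_iSup_of_mem (1 : Fin 2)
      refine Submodule.mem_map.mpr ⟨g, ?_, ?_⟩
      · rw [ha1]
        by_cases hg : g = 0
        · rw [hg]; exact Submodule.zero_mem _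
        · have h3 : (X ^ (a + 1) * g).natDegree ≤ a + b :=
            natDegree_le_iff_degree_le.mpr (mem_degreeLE.mp hh2)
          rw [natDegree_mul (pow_ne_zero _ X_ne_zero) hg, natDegree_X_pow] at h3
          apply mem_degreeLT_of_natDegree_lt
          omega
      · rw [LinearMap.mulLeft_apply, hD1]
    · intro h hh
      obtain ⟨hh1, hh2⟩ := Submodule.mem_inf.mp hh
      obtain ⟨g, rfl⟩ :=
        Ideal.mem_span_singleton.mp ((Submodule.restrictScalars_mem k _ h).mp hh1)
      unfold Vb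
      apply Submodule.mem_sup_right
      apply Submodule.mem_iSup_of_mem (0 : Fin 2)
      refine Submodule.mem_map.mpr ⟨g, ?_, ?_⟩
      · rw [ha0]
        by_cases hg : g = 0
        · rw [hg]; exact Submodule.zero_mem _
        · have h3 : ((X - 1) ^ (b + 1) * g).natDegree ≤ a + b :=
            natDegree_le_iff_degree_le.mpr (mem_degreeLE.mp hh2)
          rw [natDegree_mul (pow_ne_zero _ hX1ne) hg, hX1, natDegree_pow_X_sub_C] at h3
          apply mem_degreeLT_of_natDegree_lt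
          omega
      · rw [LinearMap.mulLeft_apply, hD0]
    · rw [Submodule.span_le, Set.singleton_subset_iff, SetLike.mem_coe, ← hD]
      exact Dp_mem_Vb r a' 1 le_rfl
  rintro ⟨h1, h2⟩
  by_cases hpq : p = q
  · have hdiv : (X - C p) ^ N ∣ (X - C p) ^ i * (X - C q) ^ j := by
      rw [← hpq, ← pow_add]; exact pow_dvd_pow _ (by omega)
    have h3 := finrank_inf_eq_zero_of_dvd r a' hrinj 1 N hN p hp' V hVle _ hdiv
    exact absurd (le_of_le_of_eq h1 h3) (by norm_num)
  · refine absurd h2 (not_le.mpr (Nat.lt_succ_of_le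
      (finrank_le_one_of_two_points r a' hrinj 1 N hN p q hpq hp' hq' (i - 1) (j - 1) (by omega) _
        (le_trans inf_le_left hVle) ?_)))
    intro h hh
    have hd := Ideal.mem_span_singleton.mp
      ((Submodule.restrictScalars_mem k _ h).mp (Submodule.mem_inf.mp hh).2)
    exact ⟨dvd_trans (dvd_mul_right _ _) hd, dvd_trans (dvd_mul_left _ _) hd⟩

end Groth.Agent.S16260
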