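import Groth.Statements.S16261
import Mathlib
import Groth.Agent.H88.PolarW3

set_option autoImplicit false
open W4c3wronskmg

namespace Groth.Agent.S16261

open Groth.Agent.H88.PolarW


open Polynomial in
/-- With `k` of characteristic zero, `a, b, i` positive, `i ≤ a + b`, `j = a + b + 2 - i` and `V ⊆ k[X]`
the linear system of the first assertion (marked points `A = 0`, `B = 1`, `C = ∞`; `V` spanned by
the multiples of `X^(a+1)` of degree at most `a+b`, the multiples of `(X-1)^(b+1)` of degree at most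
`a+b`, and `X^(a+1) (X-1)^(b+1)`): if the point `P` is put at `A` and `Q = q` is any point other
than `C`, and both `dim V(-iA-jQ) ≥ 1` and `dim V(-(i-1)A-(j-1)Q) ≥ 2` hold, then `i ≥ a + 1`. (The
published statement is over the complex numbers.) -/
theorem result
    (k : Type*) [Field k] [CharZero k] (a b i j : ℕ) (ha : 0 < a) (hb : 0 < b) (hi : 0 < i) (hiab : i ≤ a + b)
    (hj : i + j = a + b + 2)
    (V : Submodule k (Polynomial k))
    (hV : V = ((Ideal.span {(X : Polynomial k) ^ (a + 1)}).restrictScalars k ⊓ Polynomial.degreeLE k ↑(a + b)) ⊔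
      ((Ideal.span {((X : Polynomial k) - 1) ^ (b + 1)}).restrictScalars k ⊓ Polynomial.degreeLE k ↑(a + b)) ⊔
      Submodule.span k {(X : Polynomial k) ^ (a + 1) * (X - 1) ^ (b + 1)})
    (q : k)
    (h1 : 1 ≤ Module.finrank k ↥(V ⊓ (Ideal.span {(X : Polynomial k) ^ i * (X - C q) ^ j}).restrictScalars k))
    (h2 : 2 ≤ Module.finrank k ↥(V ⊓ (Ideal.span {(X : Polynomial k) ^ (i - 1) * (X - C q) ^ (j - 1)}).restrictScalars k)) :
    a + 1 ≤ i := by
  classical
  obtain ⟨r, hr⟩ : ∃ r : Fin 2 → k, r = ![0, 1] := ⟨_, rfl⟩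
  obtain ⟨a', ha'⟩ : ∃ a' : Fin 2 → ℕ, a' = ![a, b] := ⟨_, rfl⟩
  have hr0 : r 0 = 0 := by rw [hr]; rfl
  have hr1 : r 1 = 1 := by rw [hr]; rfl
  have ha0 : a' 0 = a := by rw [ha']; rfl
  have ha1 : a' 1 = b := by rw [ha']; rfl
  have h2c : ∀ x : Fin 2, x = 0 ∨ x = 1 := by decide
  have hrinj : Function.Injective r := by
    intro x y hxy
    rcases h2c x with rfl | rfl <;> rcases h2c y with rfl | rfl
    · rfl
    · rw [hr0, hr1] at hxy; exact absurd hxy zero_ne_one
    · rw [hr0, hr1] at hxy; exact absurd hxy one_ne_zero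
    · rfl
  obtain ⟨N, hNdef⟩ : ∃ N, N = a + b + 1 := ⟨_, rfl⟩
  have hN : N = (∑ j, a' j) + 1 := by rw [Fin.sum_univ_two, ha0, ha1, hNdef]
  have herase0 : (Finset.univ : Finset (Fin 2)).erase 0 = {1} := by decide
  have herase1 : (Finset.univ : Finset (Fin 2)).erase 1 = {0} := by decide
  have hD0 : ∏ j ∈ (Finset.univ : Finset (Fin 2)).erase 0, (X - C (r j)) ^ (a' j + 1) =
      (X - 1) ^ (b + 1) := by
    rw [herase0, Finset.prod_singleton, hr1, ha1, C_1]
  have hD1 : ∏ j ∈ (Finset.univ : Finset (Fin 2)).erase 1, (X - C (r j)) ^ (a' j + 1) =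
      X ^ (a + 1) := by
    rw [herase1, Finset.prod_singleton, hr0, ha0, C_0, sub_zero]
  have hD : ∏ j, (X - C (r j)) ^ (a' j + 1) = X ^ (a + 1) * (X - 1) ^ (b + 1) := by
    rw [Fin.prod_univ_two, hr0, hr1, ha0, ha1, C_0, C_1, sub_zero]
  have hX1 : (X - 1 : k[X]) = X - C 1 := by rw [C_1]
  have hX1ne : (X - 1 : k[X]) ≠ 0 := by rw [hX1]; exact X_sub_C_ne_zero 1
  have hVle : V ≤ Vb r a' 1 := by
    rw [hV]
    refine sup_le (sup_le ?_ ?_) ?_
    · intro h hh
      obtain ⟨hh1, hh2⟩ := Submodule.mem_inf.mp hh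
      obtain ⟨g, rfl⟩ :=
        Ideal.mem_span_singleton.mp ((Submodule.restrictScalars_mem k _ h).mp hh1)
      unfold Vb
      apply Submodule.mem_sup_right
      apply Submodule.mem_iSup_of_mem (1 : Fin 2)
      refine Submodule.mem_map.mpr ⟨g, ?_, ?_⟩
      · rw [ha1]
        by_cases hg : g = 0
        · rw [hg]; exact Submodule.zero_mem _
        · have h3 : (X ^ (a + 1) * g).natDegree ≤ a + b :=
            natDegree_le_iff_degree_le.mpr (mem_degreeLE.mp hh2)
          rw [natDegree_mul (pow_ne_zero _ X_ne_zero) hg, natDegree_X_pow] at h3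
          apply mem_degreeLT_of_natDegree_lt
          omega
      · rw [LinearMap.mulLeft_apply, hD1]
    · intro h hh
      obtain ⟨hh1, hh2⟩ := Submodule.mem_inf.mp hh
      obtain ⟨g, rfl⟩ :=
        Ideal.mem_span_singleton.mp ((Submodule.restrictScalars_mem k _ h).mp hh1)
      unfold Vb
      apply Submodule.mem_sup_right
      apply Submodule.mem_iSup_of_mem (0 : Fin 2)
      refine Submodule.mem_map.mpr ⟨g, ?_, ?_⟩
      · rw [ha0]
        by_cases hg : g = 0
        · rw [hg]; exact Submodule.zero_mem _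
        · have h3 : ((X - 1) ^ (b + 1) * g).natDegree ≤ a + b :=
            natDegree_le_iff_degree_le.mpr (mem_degreeLE.mp hh2)
          rw [natDegree_mul (pow_ne_zero _ hX1ne) hg, hX1, natDegree_pow_X_sub_C] at h3
          apply mem_degreeLT_of_natDegree_lt
          omega
      · rw [LinearMap.mulLeft_apply, hD0]
    · rw [Submodule.span_le, Set.singleton_subset_iff, SetLike.mem_coe, ← hD]
      exact Dp_mem_Vb r a' 1 le_rfl
  by_contra hcon
  have hia : i ≤ a := by omega
  have hne : V ⊓ (Ideal.span {(X : k[X]) ^ i * (X - C q) ^ j}).restrictScalars k ≠ ⊥ := by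
    intro hbot
    rw [hbot, finrank_bot] at h1
    omega
  obtain ⟨h, hh, hh0⟩ := Submodule.exists_mem_ne_zero_of_ne_bot hne
  obtain ⟨hhV, hhI⟩ := Submodule.mem_inf.mp hh
  have hdvd : (X - C (r 0)) ^ i * (X - C q) ^ j ∣ h := by
    rw [hr0, C_0, sub_zero]; exact mem_mult.mp hhI
  have hhVb : h ∈ Vb r a' 1 := hVle hhV
  rw [Vb_eq r a' hrinj 1] at hhVb
  obtain ⟨P, hP, rfl⟩ := Submodule.mem_map.mp hhVb
  have hP' : P ∈ degreeLT k (N + 1) := by rw [hN]; exact hP
  have hne_r : ∀ ι j : Fin 2, j ∈ (Finset.univ : Finset (Fin 2)).erase ι → r ι ≠ r j :=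
    fun ι j hj h => Finset.ne_of_mem_erase hj (hrinj h).symm
  have hR : ∀ ι, (Rp r ((Finset.univ : Finset (Fin 2)).erase ι)).eval (r ι) ≠ 0 :=
    fun ι => Rp_eval_ne_zero r _ (r ι) (hne_r ι)
  have hE : ∀ ι, (Ep r a' ((Finset.univ : Finset (Fin 2)).erase ι)).eval (r ι) ≠ 0 :=
    fun ι => Ep_eval_ne_zero r a' _ (r ι) (hne_r ι)
  have hEmem : Ep r a' Finset.univ ∈ degreeLT k (N + 1) := Ep_mem r a' _ _ (by omega)
  have hsubmem : ∀ c : k, P - C c * Ep r a' Finset.univ ∈ degreeLT k (N + 1) := by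
    intro c
    refine Submodule.sub_mem _ hP' ?_
    rw [C_mul']
    exact Submodule.smul_mem _ _ hEmem
  have hWsub : ∀ c : k, Wm r a' Finset.univ P =
      Wm r a' Finset.univ (P - C c * Ep r a' Finset.univ) := by
    intro c
    rw [map_sub, Wm_C_mul_Ep, sub_zero]
  have key : ∀ (c : k) (t : ℕ) (G : k[X]), c ≠ r 0 → (G ≠ 0 → G.natDegree < i) →
      Wm r a' Finset.univ P = Wm r a' Finset.univ ((X - C c) ^ t * G) → False := by
    intro c t G hc hG hW
    have h1' : (X - C (r 0)) ^ i ∣ Wm r a' Finset.univ ((X - C c) ^ t * G) := by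
      rw [← hW]; exact dvd_trans (dvd_mul_right _ _) hdvd
    have h2' := dvd_of_dvd_Wm_le r a' (Finset.mem_univ (0 : Fin 2)) (hR 0) i
      (by rw [ha0]; exact hia) _ h1'
    have hcop : IsCoprime ((X - C (r 0)) ^ i) ((X - C c) ^ t) :=
      IsCoprime.pow (isCoprime_X_sub_C_of_isUnit_sub (sub_ne_zero.mpr (Ne.symm hc)).isUnit)
    have h3' : (X - C (r 0)) ^ i ∣ G := hcop.dvd_of_dvd_mul_left h2'
    have hG0 : G = 0 := by
      by_contra hG0
      have h4 := natDegree_le_of_dvd h3' hG0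
      rw [natDegree_pow_X_sub_C] at h4
      exact absurd (hG hG0) (by omega)
    apply hh0
    rw [hW, hG0, mul_zero, map_zero]
  by_cases hq0 : q = r 0
  · have hd2 : (X - C (r 0)) ^ (N + 1) ∣ Wm r a' Finset.univ P := by
      have e : (X - C (r 0)) ^ (N + 1) = (X - C (r 0)) ^ i * (X - C q) ^ j := by
        rw [hq0, ← pow_add]; congr 1; omega
      rw [e]; exact hdvd
    obtain ⟨c, G, hG⟩ := exists_sub_of_dvd_Wm r a' (Finset.mem_univ (0 : Fin 2)) (hR 0) (hE 0)
      (N + 1) (by rw [ha0]; omega) P hd2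
    have hmem := hsubmem c
    have hG0 : G = 0 := by
      by_contra hG0
      rw [hG] at hmem
      have hne' : (X - C (r 0)) ^ (N + 1) * G ≠ 0 :=
        mul_ne_zero (pow_ne_zero _ (X_sub_C_ne_zero _)) hG0
      have h5 := (natDegree_lt_iff_degree_lt hne').mpr (mem_degreeLT.mp hmem)
      rw [natDegree_mul (pow_ne_zero _ (X_sub_C_ne_zero _)) hG0, natDegree_pow_X_sub_C] at h5
      omega
    apply hh0
    rw [hWsub c, hG, hG0, mul_zero, map_zero]
  · by_cases hq1 : q = r 1
    · have hd2 : (X - C (r 1)) ^ j ∣ Wm r a' Finset.univ P := by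
        rw [← hq1]; exact dvd_trans (dvd_mul_left _ _) hdvd
      obtain ⟨c, G, hG⟩ := exists_sub_of_dvd_Wm r a' (Finset.mem_univ (1 : Fin 2)) (hR 1) (hE 1)
        j (by rw [ha1]; omega) P hd2
      have hmem := hsubmem c
      refine key (r 1) j G (fun h => absurd (hrinj h) (by decide)) ?_ ?_
      · intro hG0
        rw [hG] at hmem
        have hne' : (X - C (r 1)) ^ j * G ≠ 0 :=
          mul_ne_zero (pow_ne_zero _ (X_sub_C_ne_zero _)) hG0
        have h5 := (natDegree_lt_iff_degree_lt hne').mpr (mem_degreeLT.mp hmem)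
        rw [natDegree_mul (pow_ne_zero _ (X_sub_C_ne_zero _)) hG0, natDegree_pow_X_sub_C] at h5
        omega
      · rw [hWsub c, hG]
    · have hq' : ∀ j ∈ (Finset.univ : Finset (Fin 2)), q ≠ r j := by
        intro j _
        rcases h2c j with rfl | rfl
        · exact hq0
        · exact hq1
      have hd2 : (X - C q) ^ j ∣ Wm r a' Finset.univ P := dvd_trans (dvd_mul_left _ _) hdvd
      obtain ⟨Q₁, hQ₁, hW⟩ := exists_of_dvd r a' Finset.univ q hq' N j hEmem P hP' hd2
      refine key q (j + 1) Q₁ hq0 ?_ hW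
      intro hQ0
      have h5 := (natDegree_lt_iff_degree_lt hQ0).mpr (mem_degreeLT.mp hQ₁)
      omega

end Groth.Agent.S16261
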