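import Groth.Statements.S16262
import Mathlib

set_option autoImplicit false
set_option linter.style.haveILetI false
set_option linter.unusedSectionVars false
open W4c3wronskmg

namespace Groth.Agent.S16262

section Helpers

open Polynomial

variable {k : Type*} [Field k] [CharZero k]

theorem coeff_theta (p : k[X]) (m : ℕ) : (X * derivative p).coeff m = (m : k) * p.coeff m := by
  cases m with
  | zero => simp
  | succ m => rw [coeff_X_mul, coeff_derivative]; push_cast; ring

theorem dpow (p : k[X]) (hp : derivative p = 1) (m : ℕ) :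
    p * derivative (p ^ m) = C (m : k) * p ^ m := by
  cases m with
  | zero => simp
  | succ m =>
    rw [derivative_pow, hp]
    have e : m + 1 - 1 = m := by omega
    rw [e]
    ring

theorem odeF (i M : ℕ) (q : k) :
    (X + 1) * (X - C q) * derivative ((X + 1) ^ i * (X - C q) ^ M)
      = (C (i : k) * (X - C q) + C (M : k) * (X + 1)) * ((X + 1) ^ i * (X - C q) ^ M) := by
  have h1 := dpow (k := k) (X + 1) (by simp) i
  have h2 := dpow (k := k) (X - C q) (by simp) M
  rw [derivative_mul]
  linear_combination (X - C q) * (X - C q) ^ M * h1 + (X + 1) * (X + 1) ^ i * h2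

theorem next_zero (i M : ℕ) (q : k) (hq : q ≠ 0) (F : k[X])
    (hode : (X + 1) * (X - C q) * derivative F
      = (C (i : k) * (X - C q) + C (M : k) * (X + 1)) * F) (m : ℕ)
    (h0 : F.coeff m = 0) (h1 : F.coeff (m + 1) = 0) : F.coeff (m + 1 + 1) = 0 := by
  have E : X * (X * (X * derivative F)) + X * (X * derivative F) - C q * (X * (X * derivative F))
        - C q * (X * derivative F)
      = C (i : k) * (X * (X * F)) + C (M : k) * (X * (X * F)) + C (M : k) * (X * F)
        - C (i : k) * (C q * (X * F)) := by
    linear_combination X * hode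
  have := congrArg (fun p => p.coeff (m + 1 + 1)) E
  simp only [coeff_add, coeff_sub, coeff_C_mul, coeff_X_mul, coeff_theta, coeff_derivative] at this
  push_cast at this
  have key : q * (((m : k) + 2) * F.coeff (m + 1 + 1)) = 0 := by
    linear_combination (-1 : k) * this + ((m : k) - i - M) * h0
      + (((m : k) + 1) - q * ((m : k) + 1) - M + i * q) * h1
  rcases mul_eq_zero.mp key with h | h
  · exact absurd h hq
  · rcases mul_eq_zero.mp h with h' | h'
    · exfalso
      have : ((m + 2 : ℕ) : k) = 0 := by push_cast; exact h'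
      exact absurd (Nat.cast_eq_zero.mp this) (by omega)
    · exact h'

theorem all_zero (i M : ℕ) (q : k) (hq : q ≠ 0) (F : k[X])
    (hode : (X + 1) * (X - C q) * derivative F
      = (C (i : k) * (X - C q) + C (M : k) * (X + 1)) * F) (a' : ℕ)
    (h0 : F.coeff a' = 0) (h1 : F.coeff (a' + 1) = 0) :
    ∀ t, F.coeff (a' + t) = 0 ∧ F.coeff (a' + t + 1) = 0 := by
  intro t
  induction t with
  | zero => exact ⟨h0, h1⟩
  | succ t ih => exact ⟨ih.2, next_zero i M q hq F hode (a' + t) ih.1 ih.2⟩

theorem F_coeff_top (i M : ℕ) (q : k) :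
    ((X + 1) ^ i * (X - C q) ^ M : k[X]).coeff (i + M) = 1 := by
  have h1 : (X + 1 : k[X]).Monic := by
    have := monic_X_add_C (1 : k)
    simpa using this
  have h2 : (X - C q : k[X]).Monic := monic_X_sub_C q
  have hm : ((X + 1) ^ i * (X - C q) ^ M : k[X]).Monic := (h1.pow i).mul (h2.pow M)
  have hd : ((X + 1) ^ i * (X - C q) ^ M : k[X]).natDegree = i + M := by
    rw [Monic.natDegree_mul (h1.pow i) (h2.pow M), Monic.natDegree_pow h1, Monic.natDegree_pow h2]
    have e1 : (X + 1 : k[X]).natDegree = 1 := by
      have := natDegree_X_add_C (1 : k)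
      simpa using this
    rw [e1, natDegree_X_sub_C]
    ring
  have := hm.coeff_natDegree
  rwa [hd] at this

theorem main_aux (a' i M : ℕ) (q : k) (hq : q ≠ 0) (hdeg : a' ≤ i + M)
    (W : Submodule k k[X])
    (hW : ∀ G ∈ W, G.degree ≤ ((M + 1 : ℕ) : WithBot ℕ) ∧ ((X + 1) ^ i * G).coeff (a' + 1) = 0
      ∧ (X - C q) ^ M ∣ G) :
    Module.finrank k W ≤ 1 := by
  obtain ⟨F, hF⟩ : ∃ F : k[X], F = (X + 1) ^ i * (X - C q) ^ M := ⟨_, rfl⟩
  have hode : (X + 1) * (X - C q) * derivative F
      = (C (i : k) * (X - C q) + C (M : k) * (X + 1)) * F := by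
    rw [hF]; exact odeF i M q
  have htop : F.coeff (i + M) = 1 := by rw [hF]; exact F_coeff_top i M q
  have hnot : ¬ (F.coeff a' = 0 ∧ F.coeff (a' + 1) = 0) := by
    rintro ⟨h0, h1⟩
    have := (all_zero i M q hq F hode a' h0 h1 (i + M - a')).1
    have e : a' + (i + M - a') = i + M := by omega
    rw [e, htop] at this
    exact one_ne_zero this
  obtain ⟨v, hv⟩ : ∃ v : k[X],
      v = (X - C q) ^ M * (C (F.coeff (a' + 1)) * X - C (F.coeff a')) := ⟨_, rfl⟩
  have hle : W ≤ Submodule.span k ((({v} : Finset k[X]) : Set k[X])) := by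
    intro G hG
    obtain ⟨hdG, hco, ℓ, rfl⟩ := hW G hG
    rw [Finset.coe_singleton, Submodule.mem_span_singleton]
    by_cases hℓ : ℓ = 0
    · exact ⟨0, by rw [hℓ]; simp⟩
    have h2m : ((X - C q) ^ M : k[X]).Monic := (monic_X_sub_C q).pow M
    have hnd : ((X - C q) ^ M * ℓ).natDegree = M + ℓ.natDegree := by
      rw [Monic.natDegree_mul' h2m hℓ, Monic.natDegree_pow (monic_X_sub_C q),
        natDegree_X_sub_C, mul_one]
    have hnd2 : ((X - C q) ^ M * ℓ).natDegree ≤ M + 1 := natDegree_le_of_degree_le hdG
    have hℓ1 : ℓ.natDegree ≤ 1 := by omega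
    obtain ⟨α, β, rfl⟩ := exists_eq_X_add_C_of_natDegree_le_one hℓ1
    have hre : (X + 1) ^ i * ((X - C q) ^ M * (C α * X + C β)) = C α * (X * F) + C β * F := by
      rw [hF]; ring
    rw [hre] at hco
    simp only [coeff_add, coeff_C_mul, coeff_X_mul] at hco
    by_cases hfa : F.coeff (a' + 1) = 0
    · have hfa' : F.coeff a' ≠ 0 := fun h => hnot ⟨h, hfa⟩
      have hα : α = 0 := by
        rw [hfa, mul_zero, add_zero] at hco
        rcases mul_eq_zero.mp hco with h | h
        · exact h
        · exact absurd h hfa'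
      refine ⟨-β / F.coeff a', ?_⟩
      rw [hv, hfa, hα, smul_eq_C_mul]
      have e : C (-β / F.coeff a') * C (F.coeff a') = -C β := by
        rw [← C_mul, div_mul_cancel₀ _ hfa', C_neg]
      simp only [C_0, zero_mul, zero_sub, zero_add]
      linear_combination (-(X - C q) ^ M) * e
    · refine ⟨α / F.coeff (a' + 1), ?_⟩
      rw [hv, smul_eq_C_mul]
      have e1 : C (α / F.coeff (a' + 1)) * C (F.coeff (a' + 1)) = C α := by
        rw [← C_mul, div_mul_cancel₀ _ hfa]
      have e2 : C (α / F.coeff (a' + 1)) * C (F.coeff a') = -C β := by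
        rw [← C_mul, ← C_neg]
        congr 1
        field_simp
        linear_combination hco
      linear_combination (X - C q) ^ M * X * e1 - (X - C q) ^ M * e2
  calc Module.finrank k W
      ≤ Module.finrank k (Submodule.span k ((({v} : Finset k[X]) : Set k[X]))) :=
        Submodule.finrank_mono hle
    _ ≤ ({v} : Finset k[X]).card := finrank_span_finset_le_card _
    _ = 1 := Finset.card_singleton v

end Helpers

open Polynomial in
/-- Let `k` be a field of characteristic zero and `a, b, i` positive integers with `i < a + b`. On the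
projective line with `A = 0`, `B = ∞`, `P = -1`, the system `V_{a,b} = H⁰(ω((1+a)A)) ⊕ H⁰(ω((1+b)B))
⊆ H⁰(O(a+b))` is the space of polynomials of degree at most `a+b` with vanishing coefficient of
`X^a`, and `V = V_{a,b}(-iP)` (divided by `(X+1)^i`) is the space of `G` of degree at most `a+b-i`
such that the coefficient of `X^a` in `(X+1)^i G` vanishes; it is a linear system of dimension and
degree `a+b-i`. Then no point of the projective line other than `A` and `B` is a special
ramification point of `V` (a point of weight at least two); for such a system a point `q` of the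
affine line is special exactly when two independent members are divisible by `(X-q)^(a+b-i-1)`, so
the statement is that this fails for every `q ≠ 0`. (The published statement does not except `A` and
`B`, but `A` has weight `max(b-i, 0)` in `V`, which is `2` for `a = 1, b = 3, i = 1`: there `X^3`
and `X^2` both lie in `V`. It is stated over the complex numbers.) -/
theorem result
    (k : Type*) [Field k] [CharZero k] (a b i : ℕ) (ha : 0 < a) (hb : 0 < b) (hi : 0 < i) (hiab : i < a + b)
    (V : Submodule k (Polynomial k))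
    (hV : V = Polynomial.degreeLE k ↑(a + b - i) ⊓
      LinearMap.ker ((Polynomial.lcoeff k a).comp (LinearMap.mulLeft k (((X : Polynomial k) + 1) ^ i))))
    (q : k) (hq : q ≠ 0) :
    Module.finrank k ↥(V ⊓ (Ideal.span {(X - C q) ^ (a + b - i - 1)}).restrictScalars k) ≤ 1 := by
  obtain ⟨a', rfl⟩ : ∃ a', a = a' + 1 := ⟨a - 1, by omega⟩
  obtain ⟨M, hM⟩ : ∃ M, a' + 1 + b - i = M + 1 := ⟨a' + 1 + b - i - 1, by omega⟩
  have hM' : a' + 1 + b - i - 1 = M := by omega
  subst hV
  rw [hM', hM]
  apply main_aux a' i M q hq (by omega)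
  intro G hG
  obtain ⟨hG1, h3⟩ := Submodule.mem_inf.mp hG
  obtain ⟨h1, h2⟩ := Submodule.mem_inf.mp hG1
  refine ⟨Polynomial.mem_degreeLE.mp h1, ?_, ?_⟩
  · have := LinearMap.mem_ker.mp h2
    simpa [LinearMap.comp_apply, LinearMap.mulLeft_apply, Polynomial.lcoeff_apply] using this
  · rw [Submodule.restrictScalars_mem] at h3
    exact Ideal.mem_span_singleton.mp h3

end Groth.Agent.S16262
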