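import Groth.Statements.S16263
import Mathlib.LinearAlgebra.Dimension.Constructions
import Mathlib.LinearAlgebra.FiniteDimensional.Basic
import Mathlib.Algebra.Polynomial.Degree.Lemmas
import Mathlib.Algebra.Polynomial.FieldDivision
import Mathlib.Tactic.LinearCombination
import Mathlib.Tactic.FieldSimp

set_option autoImplicit false
open W4c3wronskmg

namespace Groth.Agent.S16263

open Polynomial

theorem finrank_le_one_of_le_span {k M : Type*} [Field k] [AddCommGroup M] [Module k M]
    {W : Submodule k M} (v : M) (h : W ≤ Submodule.span k {v}) : Module.finrank k W ≤ 1 :=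
  (Submodule.finrank_mono h).trans ((finrank_span_le_card ({v} : Set M)).trans (by simp))

theorem mem_V {k : Type*} [Field k] (a : ℕ) (Q : k[X])
    (hQ : Q ∈ Submodule.span k {(1 : k[X])} ⊔
      ((Ideal.span {(X : k[X]) * (X + 1)}).restrictScalars k ⊓ Polynomial.degreeLE k ↑(a + 1))) :
    ∃ c : k, ∃ z : k[X], Q = C c + z ∧ (X * (X + 1)) ∣ z ∧ z.degree ≤ ↑(a + 1) := by
  obtain ⟨y, hy, z, hz, rfl⟩ := Submodule.mem_sup.mp hQ
  obtain ⟨c, rfl⟩ := Submodule.mem_span_singleton.mp hy
  obtain ⟨hz1, hz2⟩ := Submodule.mem_inf.mp hz
  refine ⟨c, z, ?_, ?_, ?_⟩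
  · rw [Polynomial.smul_eq_C_mul, mul_one]
  · exact Ideal.mem_span_singleton.mp ((Submodule.restrictScalars_mem _ _ _).mp hz1)
  · exact Polynomial.mem_degreeLE.mp hz2

theorem degree_XX1 {k : Type*} [Field k] : ((X : k[X]) * (X + 1)).degree = 2 := by
  have h1 : (X + 1 : k[X]) = X + C 1 := by simp
  rw [degree_mul, degree_X, h1, degree_X_add_C]
  rfl

open Polynomial in
/-- Let `k` be a field of characteristic zero and `a` a positive integer. On the projective line with `A
= 0`, `B = -1`, `C = ∞`, the `(a+1)`-dimensional system `V = H⁰(ω((1+a)C)) ⊕ H⁰(ω(A+B)) ⊆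
H⁰(ω((1+a)C + A + B)) ≅ H⁰(O(a+1))` is, in the affine coordinate, the space of polynomials `c + X
(X+1) F` with `c` a constant and `deg F ≤ a - 1`. Then `V` has no special ramification point (no
point of weight at least two): since the members have degree at most `a + 1`, this says that for
every point `p` of the affine line at most a one-dimensional subspace of `V` is divisible by
`(X-p)^a`, and at `C` that at most a one-dimensional subspace has degree at most one (degree less
than two). (The published statement carries two further positive integers `i, j` with `i + j = a -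
1`, used only in its second assertion, and is over the complex numbers.) -/
theorem result
    (k : Type*) [Field k] [CharZero k] (a : ℕ) (ha : 0 < a)
    (V : Submodule k (Polynomial k))
    (hV : V = Submodule.span k {(1 : Polynomial k)} ⊔
      ((Ideal.span {(X : Polynomial k) * (X + 1)}).restrictScalars k ⊓ Polynomial.degreeLE k ↑(a + 1))) :
    (∀ p : k, Module.finrank k ↥(V ⊓ (Ideal.span {(X - C p) ^ a}).restrictScalars k) ≤ 1) ∧
      Module.finrank k ↥(V ⊓ Polynomial.degreeLT k 2) ≤ 1 := by
  classical
  subst hV
  constructor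
  · intro p
    -- the generator
    let P : k[X] := (X - C p) ^ a
    let A : k := (-p) ^ a
    let B : k := (-1 - p) ^ a
    let v : k[X] := if B = 0 then P * X else P * (C (B - A) * X + C B)
    apply finrank_le_one_of_le_span v
    intro Q hQ
    obtain ⟨hQV, hQI⟩ := Submodule.mem_inf.mp hQ
    obtain ⟨c, z, hQz, hdvd, hzdeg⟩ := mem_V a Q hQV
    obtain ⟨L, hL⟩ : P ∣ Q := Ideal.mem_span_singleton.mp ((Submodule.restrictScalars_mem _ _ _).mp hQI)
    -- evaluations
    obtain ⟨w, hw⟩ := hdvd
    have he0 : Q.eval 0 = c := by rw [hQz, hw]; simp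
    have he1 : Q.eval (-1) = c := by rw [hQz, hw]; simp
    -- degree of L
    have hLdeg : L.degree ≤ 1 := by
      by_cases hL0 : L = 0
      · rw [hL0, degree_zero]; exact bot_le
      · have hP0 : P ≠ 0 := pow_ne_zero _ (X_sub_C_ne_zero p)
        have hQdeg : Q.degree ≤ ↑(a + 1) := by
          rw [hQz]
          refine (degree_add_le _ _).trans (max_le (degree_C_le.trans ?_) hzdeg)
          exact_mod_cast Nat.zero_le _
        have h1 : Q.natDegree ≤ a + 1 := natDegree_le_of_degree_le hQdeg
        rw [hL, natDegree_mul hP0 hL0] at h1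
        have h2 : P.natDegree = a := by
          show ((X - C p) ^ a).natDegree = a
          rw [natDegree_pow, natDegree_X_sub_C, mul_one]
        rw [h2] at h1
        have h3 : L.natDegree ≤ 1 := by omega
        exact degree_le_of_natDegree_le (n := 1) h3
    have hLeq := eq_X_add_C_of_degree_le_one hLdeg
    set α := L.coeff 1 with hα
    set β := L.coeff 0 with hβ
    have hAB : A * β = B * (β - α) := by
      have h0 : Q.eval 0 = A * β := by
        rw [hL, hLeq]
        show eval 0 ((X - C p) ^ a * (C α * X + C β)) = (-p) ^ a * β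
        simp only [eval_mul, eval_pow, eval_sub, eval_add, eval_X, eval_C]
        ring
      have h1 : Q.eval (-1) = B * (β - α) := by
        rw [hL, hLeq]
        show eval (-1) ((X - C p) ^ a * (C α * X + C β)) = (-1 - p) ^ a * (β - α)
        simp only [eval_mul, eval_pow, eval_sub, eval_add, eval_X, eval_C]
        ring
      rw [← h0, ← h1, he0, he1]
    rw [Submodule.mem_span_singleton]
    by_cases hB : B = 0
    · have hp : p = -1 := by
        have : -1 - p = 0 := by
          by_contra h
          exact (pow_ne_zero a h) hB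
        linear_combination (-1 : k) * this
      have hA : A = 1 := by
        show (-p) ^ a = 1
        rw [hp, neg_neg, one_pow]
      have hβ0 : β = 0 := by
        rw [hB, hA, zero_mul, one_mul] at hAB
        exact hAB
      refine ⟨α, ?_⟩
      show α • (if B = 0 then P * X else P * (C (B - A) * X + C B)) = Q
      rw [if_pos hB, hL, hLeq, hβ0, Polynomial.smul_eq_C_mul, C_0, add_zero]
      ring
    · have h1 : α = β / B * (B - A) := by
        rw [div_mul_eq_mul_div, eq_div_iff hB]
        linear_combination hAB
      have h2 : β = β / B * B := by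
        rw [div_mul_cancel₀ _ hB]
      refine ⟨β / B, ?_⟩
      show (β / B) • (if B = 0 then P * X else P * (C (B - A) * X + C B)) = Q
      rw [if_neg hB, hL, hLeq, Polynomial.smul_eq_C_mul]
      have h3 : C α = C (β / B) * C (B - A) := by rw [← C_mul, ← h1]
      have h4 : C β = C (β / B) * C B := by rw [← C_mul, ← h2]
      rw [h3, h4]
      ring
  · apply finrank_le_one_of_le_span (1 : k[X])
    intro Q hQ
    obtain ⟨hQV, hQ2⟩ := Submodule.mem_inf.mp hQ
    obtain ⟨c, z, rfl, hdvd, -⟩ := mem_V a Q hQV
    have hdeg : (C c + z).degree < 2 := Polynomial.mem_degreeLT.mp hQ2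
    have hz : z = 0 := by
      by_contra hz0
      have h2 : ((X : k[X]) * (X + 1)).degree ≤ z.degree := Polynomial.degree_le_of_dvd hdvd hz0
      rw [degree_XX1] at h2
      have h4 : (C c).degree < z.degree :=
        lt_of_le_of_lt degree_C_le (lt_of_lt_of_le (by decide) h2)
      rw [degree_add_eq_right_of_degree_lt h4] at hdeg
      exact absurd (lt_of_le_of_lt h2 hdeg) (lt_irrefl _)
    rw [hz, add_zero]
    exact Submodule.mem_span_singleton.mpr ⟨c, by rw [Polynomial.smul_eq_C_mul, mul_one]⟩

end Groth.Agent.S16263
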