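import Groth.Statements.S16264
import Mathlib

set_option autoImplicit false
set_option linter.style.haveILetI false
set_option linter.unusedSectionVars false
open W4c3wronskmg

namespace Groth.Agent.S16264

section Helpers

open Polynomial

variable {k : Type*} [Field k] [CharZero k]

instance finite_degreeLT (n : ℕ) : Module.Finite k (degreeLT k n) :=
  Module.Finite.equiv (degreeLTEquiv k n).symm

theorem finrank_degreeLT (n : ℕ) : Module.finrank k (degreeLT k n) = n := by
  rw [LinearEquiv.finrank_eq (degreeLTEquiv k n), Module.finrank_fin_fun]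

theorem natDegree_le_two_of_mem (R : k[X]) (h : R ∈ degreeLT k 3) : R.natDegree ≤ 2 := by
  by_cases hR : R = 0
  · simp [hR]
  · have := (natDegree_lt_iff_degree_lt hR).mpr (mem_degreeLT.mp h)
    omega

theorem mem_degreeLT_three (R : k[X]) (h : R.natDegree ≤ 2) : R ∈ degreeLT k 3 := by
  rw [mem_degreeLT]
  exact (degree_le_of_natDegree_le h).trans_lt (by exact_mod_cast (by norm_num : (2 : ℕ) < 3))

theorem main (a i j : ℕ) (hi : 0 < i) (hj : 0 < j) (hij : i + j + 1 = a)
    (V : Submodule k k[X])
    (hV : V = Submodule.span k {(1 : k[X])} ⊔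
      ((Ideal.span {(X : k[X]) * (X + 1)}).restrictScalars k ⊓ degreeLE k ↑(a + 1)))
    (p q : k) :
    3 ≤ Module.finrank k ↥(V ⊓ (Ideal.span {(X - C p) ^ i * (X - C q) ^ j}).restrictScalars k) ↔
      (p = 0 ∧ q = -1) ∨ (p = -1 ∧ q = 0) := by
  obtain ⟨D, hD⟩ : ∃ D : k[X], D = (X - C p) ^ i * (X - C q) ^ j := ⟨_, rfl⟩
  rw [← hD]
  have hDm : D.Monic := by
    rw [hD]; exact ((monic_X_sub_C p).pow i).mul ((monic_X_sub_C q).pow j)
  have hDd : D.natDegree = i + j := by
    rw [hD, Monic.natDegree_mul ((monic_X_sub_C p).pow i) ((monic_X_sub_C q).pow j),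
      Monic.natDegree_pow (monic_X_sub_C p), Monic.natDegree_pow (monic_X_sub_C q),
      natDegree_X_sub_C, natDegree_X_sub_C]
    ring
  have hD0 : D ≠ 0 := hDm.ne_zero
  have hVle : V ≤ degreeLE k ↑(a + 1) := by
    rw [hV]
    refine sup_le ?_ inf_le_right
    rw [Submodule.span_le, Set.singleton_subset_iff]
    exact mem_degreeLE.mpr (degree_one_le.trans (by exact_mod_cast Nat.zero_le (a + 1)))
  have hVev : ∀ P ∈ V, P.eval 0 = P.eval (-1) := by
    intro P hP
    rw [hV] at hP
    obtain ⟨y, hy, z, hz, rfl⟩ := Submodule.mem_sup.mp hP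
    obtain ⟨c, rfl⟩ := Submodule.mem_span_singleton.mp hy
    have hz1 := (Submodule.mem_inf.mp hz).1
    rw [Submodule.restrictScalars_mem] at hz1
    obtain ⟨R, rfl⟩ := Ideal.mem_span_singleton.mp hz1
    simp
  obtain ⟨W, hW⟩ : ∃ W : Submodule k k[X],
      W = V ⊓ (Ideal.span {D}).restrictScalars k := ⟨_, rfl⟩
  rw [← hW]
  haveI : FiniteDimensional k (degreeLE k (↑(a + 1) : WithBot ℕ)) := by
    rw [← degreeLT_succ_eq_degreeLE]
    infer_instance
  haveI hWfin : FiniteDimensional k W :=
    Submodule.finiteDimensional_of_le (hW ▸ inf_le_left.trans hVle)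
  obtain ⟨U, hU⟩ : ∃ U : Submodule k k[X],
      U = (degreeLT k 3).map (LinearMap.mulLeft k D) := ⟨_, rfl⟩
  haveI : FiniteDimensional k U := by rw [hU]; infer_instance
  have hUrank : Module.finrank k U ≤ 3 := by
    rw [hU]
    exact (Submodule.finrank_map_le _ _).trans (finrank_degreeLT 3).le
  have hWU : W ≤ U := by
    intro G hG
    rw [hW] at hG
    obtain ⟨hGV, hGI⟩ := Submodule.mem_inf.mp hG
    rw [Submodule.restrictScalars_mem] at hGI
    obtain ⟨R, rfl⟩ := Ideal.mem_span_singleton.mp hGI
    rw [hU, Submodule.mem_map]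
    refine ⟨R, ?_, by simp⟩
    by_cases hR : R = 0
    · rw [hR]; exact Submodule.zero_mem _
    · apply mem_degreeLT_three
      have h1 : (D * R).natDegree = D.natDegree + R.natDegree := Monic.natDegree_mul' hDm hR
      have h2 : (D * R).natDegree ≤ a + 1 :=
        natDegree_le_of_degree_le (mem_degreeLE.mp (hVle hGV))
      omega
  constructor
  · intro h3
    have hEq : W = U := Submodule.eq_of_le_of_finrank_le hWU (hUrank.trans h3)
    have m1 : D ∈ V := by
      have : D ∈ U := by
        rw [hU]
        exact Submodule.mem_map.mpr ⟨1, mem_degreeLT_three 1 (by simp), by simp⟩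
      rw [← hEq, hW] at this
      exact (Submodule.mem_inf.mp this).1
    have mX : D * X ∈ V := by
      have : D * X ∈ U := by
        rw [hU]
        exact Submodule.mem_map.mpr ⟨X, mem_degreeLT_three X (by simp), by simp⟩
      rw [← hEq, hW] at this
      exact (Submodule.mem_inf.mp this).1
    have e1 := hVev _ m1
    have eX := hVev _ mX
    simp only [eval_mul, eval_X] at eX
    have hDm1 : D.eval (-1) = 0 := by linear_combination eX
    have hD00 : D.eval 0 = 0 := by rw [e1, hDm1]
    rw [hD] at hDm1 hD00
    simp only [eval_mul, eval_pow, eval_sub, eval_X, eval_C] at hDm1 hD00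
    have c0 : p = 0 ∨ q = 0 := by
      rcases mul_eq_zero.mp hD00 with h | h
      · left
        have := (pow_eq_zero_iff (by omega : i ≠ 0)).mp h
        linear_combination (-1 : k) * this
      · right
        have := (pow_eq_zero_iff (by omega : j ≠ 0)).mp h
        linear_combination (-1 : k) * this
    have c1 : p = -1 ∨ q = -1 := by
      rcases mul_eq_zero.mp hDm1 with h | h
      · left
        have := (pow_eq_zero_iff (by omega : i ≠ 0)).mp h
        linear_combination (-1 : k) * this
      · right
        have := (pow_eq_zero_iff (by omega : j ≠ 0)).mp h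
        linear_combination (-1 : k) * this
    rcases c0 with h | h <;> rcases c1 with h' | h'
    · exfalso
      have : (1 : k) = 0 := by linear_combination h' - h
      exact one_ne_zero this
    · exact Or.inl ⟨h, h'⟩
    · exact Or.inr ⟨h', h⟩
    · exfalso
      have : (1 : k) = 0 := by linear_combination h' - h
      exact one_ne_zero this
  · intro hpq
    obtain ⟨i', rfl⟩ : ∃ i', i = i' + 1 := ⟨i - 1, by omega⟩
    obtain ⟨j', rfl⟩ : ∃ j', j = j' + 1 := ⟨j - 1, by omega⟩
    have hdvd : X * (X + 1) ∣ D := by
      rw [hD]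
      rcases hpq with ⟨rfl, rfl⟩ | ⟨rfl, rfl⟩
      · refine ⟨X ^ i' * (X + 1) ^ j', ?_⟩
        simp only [map_zero, sub_zero, map_neg, map_one, sub_neg_eq_add]
        ring
      · refine ⟨(X + 1) ^ i' * X ^ j', ?_⟩
        simp only [map_zero, sub_zero, map_neg, map_one, sub_neg_eq_add]
        ring
    have hmem : ∀ R ∈ degreeLT k 3, D * R ∈ W := by
      intro R hR
      rw [hW]
      refine Submodule.mem_inf.mpr ⟨?_, ?_⟩
      · rw [hV]
        apply Submodule.mem_sup_right
        refine Submodule.mem_inf.mpr ⟨?_, ?_⟩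
        · rw [Submodule.restrictScalars_mem]
          exact Ideal.mem_span_singleton.mpr (hdvd.mul_right R)
        · apply mem_degreeLE.mpr
          apply degree_le_of_natDegree_le
          have h1 := natDegree_mul_le (p := D) (q := R)
          have h2 := natDegree_le_two_of_mem R hR
          omega
      · rw [Submodule.restrictScalars_mem]
        exact Ideal.mem_span_singleton.mpr (dvd_mul_right D R)
    let T : ↥(degreeLT k 3) →ₗ[k] ↥W :=
      LinearMap.codRestrict W ((LinearMap.mulLeft k D).comp (degreeLT k 3).subtype)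
        (fun R => hmem R.1 R.2)
    have hT : Function.Injective T := by
      intro R₁ R₂ h
      have h' := congrArg Subtype.val h
      change D * R₁.1 = D * R₂.1 at h'
      exact Subtype.ext (mul_left_cancel₀ hD0 h')
    have := LinearMap.finrank_le_finrank_of_injective hT
    rw [finrank_degreeLT] at this
    exact this

end Helpers

open Polynomial in
/-- Let `k` be a field of characteristic zero and `a, i, j` positive integers with `i + j = a - 1`. With
`A = 0`, `B = -1`, `C = ∞` on the projective line and `V` the `(a+1)`-dimensional system of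
polynomials `c + X (X+1) F`, `deg F ≤ a - 1` (that is, `H⁰(ω((1+a)C)) ⊕ H⁰(ω(A+B)) ⊆ H⁰(O(a+1))`),
the pairs of points `(P, Q) = (p, q)` of the affine line with `dim V(-iP-jQ) ≥ 3`, i.e. with at
least a three-dimensional subspace of `V` divisible by `(X-p)^i (X-q)^j`, are exactly `(A, B)` and
`(B, A)`. (Here `P, Q` range over the points other than `C`; when one of them is `C` the dimension
is at most two for degree reasons. The published statement is over the complex numbers.) -/
theorem result
    (k : Type*) [Field k] [CharZero k] (a i j : ℕ) (hi : 0 < i) (hj : 0 < j) (hij : i + j + 1 = a)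
    (V : Submodule k (Polynomial k))
    (hV : V = Submodule.span k {(1 : Polynomial k)} ⊔
      ((Ideal.span {(X : Polynomial k) * (X + 1)}).restrictScalars k ⊓ Polynomial.degreeLE k ↑(a + 1)))
    (p q : k) :
    3 ≤ Module.finrank k ↥(V ⊓ (Ideal.span {(X - C p) ^ i * (X - C q) ^ j}).restrictScalars k) ↔
      (p = 0 ∧ q = -1) ∨ (p = -1 ∧ q = 0) := by
  exact main a i j hi hj hij V hV p q

end Groth.Agent.S16264
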