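import Groth.Statements.S16265
import Groth.Agent.H55.FFSing

set_option autoImplicit false
open FunFld

namespace Groth.Agent.S16265

section Helpers
open FunFld

variable {k K : Type*} [Field k] [Field K] [Algebra k K]

lemma mem_L_of_le {D D' : FunFld.Divisor k K} {x : K}
    (hx : x ∈ FunFld.L D) (h : ∀ R, D R ≤ D' R) : x ∈ FunFld.L D' :=
  fun R => (hx R).trans (WithZero.exp_le_exp.mpr (h R))

lemma mem_L_of_two {D₁ D₂ D₃ : FunFld.Divisor k K}
    {x : K} (h1 : x ∈ FunFld.L D₁) (h2 : x ∈ FunFld.L D₂)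
    (h : ∀ R, D₁ R ≤ D₃ R ∨ D₂ R ≤ D₃ R) : x ∈ FunFld.L D₃ := by
  intro R
  rcases h R with h' | h'
  · exact (h1 R).trans (WithZero.exp_le_exp.mpr h')
  · exact (h2 R).trans (WithZero.exp_le_exp.mpr h')

/-- `V(-mP-nQ) = V ∩ L(D - mP - nQ)`. -/
noncomputable abbrev VV (V : Submodule k K) (D : FunFld.Divisor k K) (P Q : FunFld.Place k K) (m n : ℤ) :
    Submodule k K :=
  V ⊓ FunFld.L (D - Finsupp.single P m - Finsupp.single Q n)

lemma VV_mono (V : Submodule k K) (D : FunFld.Divisor k K) (P Q : FunFld.Place k K)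
    {m m' n n' : ℤ} (hm : m ≤ m') (hn : n ≤ n') :
    VV V D P Q m' n' ≤ VV V D P Q m n := by
  classical
  refine inf_le_inf_left _ (fun x hx => mem_L_of_le hx (fun R => ?_))
  simp only [Finsupp.coe_sub, Pi.sub_apply, Finsupp.single_apply]
  split_ifs <;> omega

lemma VV_inf_le (V : Submodule k K) (D : FunFld.Divisor k K) {P Q : FunFld.Place k K}
    (hPQ : P ≠ Q) (m n : ℤ) :
    VV V D P Q (m + 1) n ⊓ VV V D P Q m (n + 1) ≤ VV V D P Q (m + 1) (n + 1) := by
  classical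
  rintro x ⟨⟨hxV, h1⟩, ⟨-, h2⟩⟩
  refine ⟨hxV, mem_L_of_two h1 h2 (fun R => ?_)⟩
  simp only [Finsupp.coe_sub, Pi.sub_apply, Finsupp.single_apply]
  by_cases hP : P = R
  · have hQ : ¬ Q = R := fun h => hPQ (hP.trans h.symm)
    left
    rw [if_pos hP, if_neg hQ, if_neg hQ]
  · right
    rw [if_neg hP, if_neg hP]

lemma VV_jumpP [IsAlgClosed k] (hK : FunFld.IsFunctionField k K) (V : Submodule k K)
    [FiniteDimensional k V] (D : FunFld.Divisor k K) (P Q : FunFld.Place k K) (m n : ℤ) :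
    Module.finrank k ↥(VV V D P Q m n) ≤ Module.finrank k ↥(VV V D P Q (m + 1) n) + 1 := by
  have h := Groth.Agent.H55.finrank_inf_L_le hK V
    (D - Finsupp.single P m - Finsupp.single Q n) P
  have e : D - Finsupp.single P m - Finsupp.single Q n - Finsupp.single P 1
      = D - Finsupp.single P (m + 1) - Finsupp.single Q n := by
    rw [Finsupp.single_add]; abel
  rw [e] at h
  exact h

lemma VV_jumpQ [IsAlgClosed k] (hK : FunFld.IsFunctionField k K) (V : Submodule k K)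
    [FiniteDimensional k V] (D : FunFld.Divisor k K) (P Q : FunFld.Place k K) (m n : ℤ) :
    Module.finrank k ↥(VV V D P Q m n) ≤ Module.finrank k ↥(VV V D P Q m (n + 1)) + 1 := by
  have h := Groth.Agent.H55.finrank_inf_L_le hK V
    (D - Finsupp.single P m - Finsupp.single Q n) Q
  have e : D - Finsupp.single P m - Finsupp.single Q n - Finsupp.single Q 1
      = D - Finsupp.single P m - Finsupp.single Q (n + 1) := by
    rw [Finsupp.single_add]; abel
  rw [e] at h
  exact h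

lemma VV_dim [IsAlgClosed k] (V : Submodule k K)
    [FiniteDimensional k V] (D : FunFld.Divisor k K) {P Q : FunFld.Place k K} (hPQ : P ≠ Q)
    (m n : ℤ) :
    Module.finrank k ↥(VV V D P Q (m + 1) n) + Module.finrank k ↥(VV V D P Q m (n + 1)) ≤
      Module.finrank k ↥(VV V D P Q m n) + Module.finrank k ↥(VV V D P Q (m + 1) (n + 1)) := by
  have h1 := Submodule.finrank_sup_add_finrank_inf_eq (VV V D P Q (m + 1) n) (VV V D P Q m (n + 1))
  have h2 : Module.finrank k ↥(VV V D P Q (m + 1) n ⊔ VV V D P Q m (n + 1)) ≤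
      Module.finrank k ↥(VV V D P Q m n) :=
    Submodule.finrank_mono (sup_le (VV_mono V D P Q (by omega) le_rfl)
      (VV_mono V D P Q le_rfl (by omega)))
  have h3 : Module.finrank k ↥(VV V D P Q (m + 1) n ⊓ VV V D P Q m (n + 1)) ≤
      Module.finrank k ↥(VV V D P Q (m + 1) (n + 1)) :=
    Submodule.finrank_mono (VV_inf_le V D hPQ m n)
  omega

theorem main [IsAlgClosed k] (hK : FunFld.IsFunctionField k K) (V : Submodule k K)
    [FiniteDimensional k V] (D : FunFld.Divisor k K) {P Q : FunFld.Place k K} (hPQ : P ≠ Q)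
    (a b : ℤ) :
    ((2 ≤ Module.finrank k ↥(VV V D P Q a (b - 1)) ∨
        1 ≤ Module.finrank k ↥(VV V D P Q a (b + 1))) ∧
      (2 ≤ Module.finrank k ↥(VV V D P Q (a - 1) b) ∨
        1 ≤ Module.finrank k ↥(VV V D P Q (a + 1) b))) ↔
    (1 ≤ Module.finrank k ↥(VV V D P Q (a + 1) (b + 1)) ∨
      3 ≤ Module.finrank k ↥(VV V D P Q (a - 1) (b - 1)) ∨
      (1 ≤ Module.finrank k ↥(VV V D P Q a (b + 1)) ∧
        2 ≤ Module.finrank k ↥(VV V D P Q (a - 1) b)) ∨
      (1 ≤ Module.finrank k ↥(VV V D P Q (a + 1) b) ∧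
        2 ≤ Module.finrank k ↥(VV V D P Q a (b - 1)))) := by
  have mono : ∀ {m m' n n' : ℤ}, m ≤ m' → n ≤ n' →
      Module.finrank k ↥(VV V D P Q m' n') ≤ Module.finrank k ↥(VV V D P Q m n) :=
    fun hm hn => Submodule.finrank_mono (VV_mono V D P Q hm hn)
  have m1 := mono (m := a) (m' := a + 1) (n := b + 1) (n' := b + 1) (by omega) le_rfl
  have m2 := mono (m := a + 1) (m' := a + 1) (n := b) (n' := b + 1) le_rfl (by omega)
  have m3 := mono (m := a) (m' := a) (n := b) (n' := b + 1) le_rfl (by omega)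
  have m4 := mono (m := a) (m' := a + 1) (n := b) (n' := b) (by omega) le_rfl
  have m5 := mono (m := a) (m' := a) (n := b - 1) (n' := b) le_rfl (by omega)
  have m6 := mono (m := a - 1) (m' := a) (n := b) (n' := b) (by omega) le_rfl
  have m7 := mono (m := a - 1) (m' := a) (n := b - 1) (n' := b - 1) (by omega) le_rfl
  have m8 := mono (m := a - 1) (m' := a - 1) (n := b - 1) (n' := b) le_rfl (by omega)
  have j1 := VV_jumpP hK V D P Q a b
  have j2 := VV_jumpQ hK V D P Q a b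
  have j3 := VV_jumpP hK V D P Q (a - 1) (b - 1)
  have j4 := VV_jumpQ hK V D P Q (a - 1) (b - 1)
  have d1 := VV_dim V D hPQ a b
  have d2 := VV_dim V D hPQ (a - 1) (b - 1)
  have ea : a - 1 + 1 = a := sub_add_cancel a 1
  have eb : b - 1 + 1 = b := sub_add_cancel b 1
  rw [ea] at j3 d2
  rw [eb] at j4 d2
  omega

end Helpers


/-- Let `K/k` be a function field of one variable over an algebraically closed field `k` of
characteristic zero (the function field of a smooth projective curve), `D` a divisor and `V ⊆ L(D)`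
a linear system of dimension `r + 1`; write `V(-mP-nQ) = V ∩ L(D - mP - nQ)` for the members
vanishing to the indicated orders. Assume `V` has no special ramification point, i.e. no place of
weight at least two: for every place `R`, `dim V(-rR) ≤ 1` and `V(-(r+2)R) = 0`. Let `P ≠ Q` be
places and `a, b ≥ 1` with `a + b = r + 1` (so that `V(-aP)` and `V(-bQ)` have dimensions `b` and
`a`). Then the following are equivalent: (1) the system `V(-aP)` has weight at least two at `Q`,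
that is `dim V(-aP-(b-1)Q) ≥ 2` or `dim V(-aP-(b+1)Q) ≥ 1`, and the system `V(-bQ)` has weight at
least two at `P`, that is `dim V(-(a-1)P-bQ) ≥ 2` or `dim V(-(a+1)P-bQ) ≥ 1`; (2) one of (a) `dim
V(-(a+1)P-(b+1)Q) ≥ 1`, (b) `dim V(-(a-1)P-(b-1)Q) ≥ 3`, (c) `dim V(-aP-(b+1)Q) ≥ 1` and `dim
V(-(a-1)P-bQ) ≥ 2`, (d) `dim V(-(a+1)P-bQ) ≥ 1` and `dim V(-aP-(b-1)Q) ≥ 2`. (The published
statement is for a smooth curve over the complex numbers.) -/
theorem result
    (k K : Type*) [Field k] [IsAlgClosed k] [CharZero k] [Field K] [Algebra k K]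
    (hK : FunFld.IsFunctionField k K) (D : FunFld.Divisor k K)
    (V : Submodule k K) (hVD : V ≤ FunFld.L D) (r : ℕ) (hr : Module.finrank k ↥V = r + 1)
    (hns : ∀ R : FunFld.Place k K,
      Module.finrank k ↥(V ⊓ FunFld.L (D - Finsupp.single R (r : ℤ))) ≤ 1 ∧
        V ⊓ FunFld.L (D - Finsupp.single R ((r : ℤ) + 2)) = ⊥)
    (P Q : FunFld.Place k K) (hPQ : P ≠ Q) (a b : ℕ) (ha : 1 ≤ a) (hb : 1 ≤ b) (hab : a + b = r + 1) :
    ((2 ≤ Module.finrank k ↥(V ⊓ FunFld.L (D - Finsupp.single P (a : ℤ) - Finsupp.single Q ((b : ℤ) - 1 : ℤ))) ∨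
        1 ≤ Module.finrank k ↥(V ⊓ FunFld.L (D - Finsupp.single P (a : ℤ) - Finsupp.single Q ((b : ℤ) + 1 : ℤ)))) ∧
      (2 ≤ Module.finrank k ↥(V ⊓ FunFld.L (D - Finsupp.single P ((a : ℤ) - 1 : ℤ) - Finsupp.single Q (b : ℤ))) ∨
        1 ≤ Module.finrank k ↥(V ⊓ FunFld.L (D - Finsupp.single P ((a : ℤ) + 1 : ℤ) - Finsupp.single Q (b : ℤ))))) ↔
    (1 ≤ Module.finrank k ↥(V ⊓ FunFld.L (D - Finsupp.single P ((a : ℤ) + 1 : ℤ) - Finsupp.single Q ((b : ℤ) + 1 : ℤ))) ∨
      3 ≤ Module.finrank k ↥(V ⊓ FunFld.L (D - Finsupp.single P ((a : ℤ) - 1 : ℤ) - Finsupp.single Q ((b : ℤ) - 1 : ℤ))) ∨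
      (1 ≤ Module.finrank k ↥(V ⊓ FunFld.L (D - Finsupp.single P (a : ℤ) - Finsupp.single Q ((b : ℤ) + 1 : ℤ))) ∧
        2 ≤ Module.finrank k ↥(V ⊓ FunFld.L (D - Finsupp.single P ((a : ℤ) - 1 : ℤ) - Finsupp.single Q (b : ℤ)))) ∨
      (1 ≤ Module.finrank k ↥(V ⊓ FunFld.L (D - Finsupp.single P ((a : ℤ) + 1 : ℤ) - Finsupp.single Q (b : ℤ))) ∧
        2 ≤ Module.finrank k ↥(V ⊓ FunFld.L (D - Finsupp.single P (a : ℤ) - Finsupp.single Q ((b : ℤ) - 1 : ℤ))))) := by
  haveI : FiniteDimensional k V := Module.finite_of_finrank_pos (by omega)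
  exact main hK V D hPQ (a : ℤ) (b : ℤ)

end Groth.Agent.S16265
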