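import Groth.Statements.S16266


set_option autoImplicit false
open FunFld

namespace Groth.Agent.S16266

open FunFld in
lemma mem_L_of_le {k K : Type*} [Field k] [Field K] [Algebra k K] {D D' : FunFld.Divisor k K} {x : K}
    (hx : x ∈ FunFld.L D) (h : ∀ R, D R ≤ D' R) : x ∈ FunFld.L D' :=
  fun R => (hx R).trans (WithZero.exp_le_exp.mpr (h R))

lemma mem_L_of_two {k K : Type*} [Field k] [Field K] [Algebra k K] {D₁ D₂ D₃ : FunFld.Divisor k K}
    {x : K} (h1 : x ∈ FunFld.L D₁) (h2 : x ∈ FunFld.L D₂)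
    (h : ∀ R, D₁ R ≤ D₃ R ∨ D₂ R ≤ D₃ R) : x ∈ FunFld.L D₃ := by
  intro R
  rcases h R with h' | h'
  · exact (h1 R).trans (WithZero.exp_le_exp.mpr h')
  · exact (h2 R).trans (WithZero.exp_le_exp.mpr h')


/-- Let `K/k` be a function field of one variable over an algebraically closed field `k` of
characteristic zero, `D` a divisor, `V ⊆ L(D)` a linear system of dimension `r + 1` with `r ≥ 1`,
and `P` a place with `V' = V(-P) = V ∩ L(D - P) ≠ V`, an `r`-dimensional system in `L(D - P)`.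
Assume that neither `V` nor `V'` has a special ramification point (a place of weight at least two):
for every place `R`, `dim V ∩ L(D - rR) ≤ 1`, `V ∩ L(D - (r+2)R) = 0`, `dim V' ∩ L(D - P - (r-1)R) ≤
1` and `V' ∩ L(D - P - (r+1)R) = 0`. Then no place `Q ≠ P` is a ramification point of both `V` and
`V'`: for no such `Q` are both `V ∩ L(D - (r+1)Q)` and `V' ∩ L(D - P - rQ)` nonzero. (The published
statement is for a smooth curve over the complex numbers.) -/
theorem result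
    (k K : Type*) [Field k] [IsAlgClosed k] [CharZero k] [Field K] [Algebra k K]
    (hK : FunFld.IsFunctionField k K) (D : FunFld.Divisor k K)
    (V : Submodule k K) (hVD : V ≤ FunFld.L D) (r : ℕ) (hr : Module.finrank k ↥V = r + 1) (hr1 : 1 ≤ r)
    (P : FunFld.Place k K) (hP : V ⊓ FunFld.L (D - Finsupp.single P 1) ≠ V)
    (hns : ∀ R : FunFld.Place k K,
      Module.finrank k ↥(V ⊓ FunFld.L (D - Finsupp.single R (r : ℤ))) ≤ 1 ∧
        V ⊓ FunFld.L (D - Finsupp.single R ((r : ℤ) + 2)) = ⊥)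
    (hns' : ∀ R : FunFld.Place k K,
      Module.finrank k ↥(V ⊓ FunFld.L (D - Finsupp.single P 1 - Finsupp.single R ((r : ℤ) - 1))) ≤ 1 ∧
        V ⊓ FunFld.L (D - Finsupp.single P 1 - Finsupp.single R ((r : ℤ) + 1)) = ⊥)
    (Q : FunFld.Place k K) (hQP : Q ≠ P) :
    ¬ (V ⊓ FunFld.L (D - Finsupp.single Q ((r : ℤ) + 1)) ≠ ⊥ ∧
       V ⊓ FunFld.L (D - Finsupp.single P 1 - Finsupp.single Q (r : ℤ)) ≠ ⊥) := by
  classical
  rintro ⟨h1, h2⟩
  obtain ⟨s, hs, hs0⟩ := (Submodule.ne_bot_iff _).mp h1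
  obtain ⟨t, ht, ht0⟩ := (Submodule.ne_bot_iff _).mp h2
  have hVfin : Module.Finite k ↥V := Module.finite_of_finrank_pos (by omega)
  have hsW : s ∈ V ⊓ FunFld.L (D - Finsupp.single Q (r : ℤ)) := by
    refine ⟨hs.1, mem_L_of_le hs.2 ?_⟩
    intro R
    simp only [Finsupp.coe_sub, Pi.sub_apply, Finsupp.single_apply]
    split_ifs <;> omega
  have htW : t ∈ V ⊓ FunFld.L (D - Finsupp.single Q (r : ℤ)) := by
    refine ⟨ht.1, mem_L_of_le ht.2 ?_⟩
    intro R
    simp only [Finsupp.coe_sub, Pi.sub_apply, Finsupp.single_apply]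
    split_ifs <;> omega
  have hWfin : Module.Finite k ↥(V ⊓ FunFld.L (D - Finsupp.single Q (r : ℤ))) :=
    Submodule.finiteDimensional_of_le inf_le_left
  obtain ⟨v, hv⟩ := finrank_le_one_iff.mp (hns Q).1
  obtain ⟨c₁, hc₁⟩ := hv ⟨s, hsW⟩
  obtain ⟨c₂, hc₂⟩ := hv ⟨t, htW⟩
  have hc₁' : c₁ • (v : K) = s := congrArg Subtype.val hc₁
  have hc₂' : c₂ • (v : K) = t := congrArg Subtype.val hc₂
  have hc₂0 : c₂ ≠ 0 := by
    rintro rfl
    rw [zero_smul] at hc₂'
    exact ht0 hc₂'.symm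
  have hst : s = (c₁ * c₂⁻¹) • t := by
    rw [← hc₂', ← hc₁', smul_smul, mul_assoc, inv_mul_cancel₀ hc₂0, mul_one]
  have hs2 : s ∈ FunFld.L (D - Finsupp.single P 1 - Finsupp.single Q (r : ℤ)) := by
    rw [hst]
    exact Submodule.smul_mem _ _ ht.2
  have hs3 : s ∈ FunFld.L (D - Finsupp.single P 1 - Finsupp.single Q ((r : ℤ) + 1)) := by
    apply mem_L_of_two hs2 hs.2
    intro R
    simp only [Finsupp.coe_sub, Pi.sub_apply, Finsupp.single_apply]
    by_cases hR : Q = R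
    · subst hR
      right
      rw [if_pos rfl, if_neg (Ne.symm hQP)]
      omega
    · left
      rw [if_neg hR, if_neg hR]
  have hbot := (hns' Q).2
  have : s ∈ V ⊓ FunFld.L (D - Finsupp.single P 1 - Finsupp.single Q ((r : ℤ) + 1)) := ⟨hs.1, hs3⟩
  rw [hbot] at this
  exact hs0 ((Submodule.mem_bot k).mp this)

end Groth.Agent.S16266
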