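import Groth.Statements.S16273
import Groth.Agent.H81.TorsorClass

set_option autoImplicit false
universe w' w v u
open CategoryTheory
open NonAbH1

namespace Groth.Agent.S16273

open Groth.Agent.H81.Twist Opposite

/-- moving the sections by a zero-cochain changes the cocycle to a cohomologous one -/
theorem isCocycleOf_adjust {C : Type u} [Category.{v} C] {J : GrothendieckTopology C}
    {G : Sheaf J GrpCat.{w}} {I : Type w'} {U : I → C} (Q : NonAbH1.GSheaf G)
    (sQ : ∀ i, Q.P.obj.obj (op (U i))) (γP γQ : PresheafOfGroups.OneCocycle G.obj U)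
    (hγQ : Q.IsCocycleOf U sQ γQ) (α : PresheafOfGroups.ZeroCochain G.obj U)
    (hα : PresheafOfGroups.OneCohomologyRelation γP.toOneCochain γQ.toOneCochain α) :
    Q.IsCocycleOf U (fun i => Q.smul (α i)⁻¹ (sQ i)) γP := by
  intro i j T a b
  have hrel := hα i j a b
  have hg : γP.ev i j a b * (G.obj.map b.op (α j))⁻¹ =
      (G.obj.map a.op (α i))⁻¹ * γQ.ev i j a b := by
    rw [eq_inv_mul_iff_mul_eq, ← mul_assoc, hrel, mul_assoc, mul_inv_cancel, mul_one]
  show Q.smul (γP.ev i j a b) (Q.P.obj.map b.op (Q.smul (α j)⁻¹ (sQ j))) =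
    Q.P.obj.map a.op (Q.smul (α i)⁻¹ (sQ i))
  rw [Q.map_smul, Q.map_smul, map_inv, map_inv, ← Q.mul_smul, hg, Q.mul_smul, hγQ i j a b]


/-- Let C be a category with a Grothendieck topology J, G a sheaf of groups and U a family of objects
which covers every object of the site. Two G-torsors admitting a common Cech class in H^1(U, G)
(each cut out by some family of sections over the U_i) are equivariantly isomorphic. (The published
statement is for an etale covering of a scheme; this row is stated for any family of objects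
covering the site.) -/
theorem result {C : Type u} [Category.{v} C]
    {J : GrothendieckTopology C} {G : Sheaf J GrpCat.{w}} {I : Type w'} (U : I → C) (hU : J.CoversTop U)
    (P Q : NonAbH1.Torsor G)
    (c : PresheafOfGroups.H1 G.obj U) (hPc : P.HasCechClass U c) (hQc : Q.HasCechClass U c) :
    Nonempty (P.toGSheaf ≅ Q.toGSheaf) := by
  obtain ⟨sP, γP, hγP, hcP⟩ := hPc
  obtain ⟨sQ, γQ, hγQ, hcQ⟩ := hQc
  have hcoh : γP.IsCohomologous γQ :=
    (PresheafOfGroups.OneCocycle.class_eq_iff γP γQ).mp (hcP.trans hcQ.symm)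
  obtain ⟨α, hα⟩ := hcoh
  exact nonempty_iso_of_same_cocycle hU P.toGSheaf Q.toGSheaf P.isTorsor.1 Q.isTorsor.1 sP
    (fun i => Q.smul (α i)⁻¹ (sQ i)) γP hγP (isCocycleOf_adjust Q.toGSheaf sQ γP γQ hγQ α hα)

end Groth.Agent.S16273
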