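import Groth.Statements.S16274
import Groth.Agent.H81.TorsorTwist

set_option autoImplicit false
universe w' w v u
open CategoryTheory
open NonAbH1

namespace Groth.Agent.S16274

open Groth.Agent.H81.Twist Opposite

section Construction

variable {C : Type u} [Category.{v} C] {J : GrothendieckTopology C} (G : Sheaf J GrpCat.{w})
  {I : Type w'} (U : I → C) (γ : PresheafOfGroups.OneCocycle G.obj U)
  [hsm : ∀ X, Small.{w} ((secFunctor G U γ).obj X)]

/-- the underlying presheaf of the twisted torsor -/
noncomputable abbrev TP : Cᵒᵖ ⥤ Type w := shrinkFunctor'.{max u v w' w, w} (secFunctor G U γ)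

/-- sections versus shrunk sections -/
noncomputable def shr (X : Cᵒᵖ) : Sec G U γ X.unop ≃ (TP G U γ).obj X :=
  equivShrink.{w} ((secFunctor G U γ).obj X)

lemma TP_map {X Y : Cᵒᵖ} (f : X ⟶ Y) (p : (TP G U γ).obj X) :
    (TP G U γ).map f p = shr G U γ Y (Sec.res f.unop ((shr G U γ X).symm p)) := rfl

/-- the twisted torsor as a `G`-sheaf -/
noncomputable def twisted : NonAbH1.GSheaf G where
  P := ⟨TP G U γ, (isSheaf_iff_isSheaf_of_type J _).mpr (shrink_isSheaf _ (sec_isSheaf G U γ))⟩
  smul {X} g p := shr G U γ X (Sec.smul (X := X.unop) g ((shr G U γ X).symm p))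
  one_smul p := by
    rw [Sec.one_smul, Equiv.apply_symm_apply]
  mul_smul g h p := by
    rw [Equiv.symm_apply_apply, Sec.mul_smul]
  map_smul {X Y} f g p := by
    show (TP G U γ).map f (shr G U γ X (Sec.smul (X := X.unop) g ((shr G U γ X).symm p))) =
      shr G U γ Y (Sec.smul (X := Y.unop) (G.obj.map f g)
        ((shr G U γ Y).symm ((TP G U γ).map f p)))
    rw [TP_map, TP_map, Equiv.symm_apply_apply, Equiv.symm_apply_apply, Sec.res_smul]
    rfl

lemma twisted_smul {X : Cᵒᵖ} (g : G.obj.obj X) (p : (TP G U γ).obj X) :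
    (twisted G U γ).smul g p = shr G U γ X (Sec.smul (X := X.unop) g ((shr G U γ X).symm p)) :=
  rfl

theorem twisted_pseudo (hU : J.CoversTop U) : (twisted G U γ).IsPseudoTorsor := by
  intro X p' q'
  obtain ⟨p, rfl⟩ : ∃ p : (TP G U γ).obj X, p = p' := ⟨p', rfl⟩
  obtain ⟨q, rfl⟩ : ∃ q : (TP G U γ).obj X, q = q' := ⟨q', rfl⟩
  obtain ⟨g, hg, huniq⟩ := sec_pseudo (G := G) (γ := γ) hU
    ((shr G U γ X).symm p) ((shr G U γ X).symm q)
  refine ⟨g, ?_, ?_⟩
  · show shr G U γ X (Sec.smul (X := X.unop) g ((shr G U γ X).symm p)) = q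
    rw [hg]
    exact Equiv.apply_symm_apply _ _
  · intro g' hg'
    apply huniq
    have h1 : shr G U γ X (Sec.smul (X := X.unop) g' ((shr G U γ X).symm p)) = q := hg'
    rw [← h1, Equiv.symm_apply_apply]

theorem twisted_locNonempty (hU : J.CoversTop U) : (twisted G U γ).LocallyNonempty := by
  intro X
  refine ⟨Sieve.ofObjects U X, hU X, fun V f hf => ?_⟩
  obtain ⟨i, ⟨a⟩⟩ := hf
  exact ⟨shr G U γ (op V) (Sec.res a (sec0 G U γ i))⟩

/-- the canonical sections -/
noncomputable def tsec (i : I) : (twisted G U γ).P.obj.obj (op (U i)) :=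
  shr G U γ (op (U i)) (sec0 G U γ i)

theorem twisted_cocycle : (twisted G U γ).IsCocycleOf U (tsec G U γ) γ := by
  intro i j T a b
  show shr G U γ (op T) (Sec.smul (X := T) (γ.ev i j a b) ((shr G U γ (op T)).symm
      ((TP G U γ).map b.op (shr G U γ (op (U j)) (sec0 G U γ j))))) =
    (TP G U γ).map a.op (shr G U γ (op (U i)) (sec0 G U γ i))
  rw [TP_map, TP_map, Equiv.symm_apply_apply, Equiv.symm_apply_apply, Equiv.symm_apply_apply]
  congr 1
  apply Sec.ext'
  intro Y f k c
  show G.obj.map f.op (γ.ev i j a b) * γ.ev j k (f ≫ b) c = γ.ev i k (f ≫ a) c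
  rw [γ.ev_precomp, γ.ev_trans]

end Construction


/-- Let C be a category with a Grothendieck topology J, G a sheaf of groups and U a family of objects
which covers every object of the site. Every class in the Cech cohomology set H^1(U, G) is the Cech
class of some G-torsor that has a section over every U_i. (The published statement is for an etale
covering of a scheme; this row is stated for any family of objects covering the site.) -/
theorem result {C : Type u} [Category.{v} C]
    {J : GrothendieckTopology C} (G : Sheaf J GrpCat.{w}) {I : Type w'} (U : I → C) (hU : J.CoversTop U)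
    (c : PresheafOfGroups.H1 G.obj U) :
    ∃ P : NonAbH1.Torsor G, P.TrivialisedBy U ∧ P.HasCechClass U c := by
  obtain ⟨γ, rfl⟩ : ∃ γ : PresheafOfGroups.OneCocycle G.obj U, γ.class = c := Quot.exists_rep c
  haveI hsm : ∀ X, Small.{w} ((secFunctor G U γ).obj X) := fun X => sec_small hU X.unop
  refine ⟨⟨twisted G U γ, twisted_pseudo G U γ hU, twisted_locNonempty G U γ hU⟩, ?_, ?_⟩
  · intro i
    exact ⟨tsec G U γ i⟩
  · exact ⟨tsec G U γ, γ, twisted_cocycle G U γ, rfl⟩

end Groth.Agent.S16274
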