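import Groth.Statements.S16281
import Groth.Agent.H31.ShriekProj
import Groth.Agent.H31.PushRestrict
import Groth.Agent.H45.RDerivedExact
import Groth.Agent.H30.ExtZeroSch

set_option autoImplicit false
universe u
open CategoryTheory CategoryTheory.Limits AlgebraicGeometry
open Coherent

namespace Groth.Agent.S16281

set_option backward.isDefEq.respectTransparency false
set_option linter.style.haveILetI false

open Groth.Agent.H31 Groth.Agent.H31.Stalk Groth.Agent.H31.Mate Groth.Agent.H31.ShriekProj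

/-- Restriction of the internal hom to an open subscheme (underived, scheme level). -/
noncomputable def restrSheafHomIso {X : Scheme.{u}} (U : X.Opens) (F : ModSite.Mod (shX X))
    [ModSite.HasSheafHom F] [ModSite.HasSheafHom ((rs U).obj F)] :
    ModSite.sheafHom F ⋙ rs U ≅ rs U ⋙ ModSite.sheafHom ((rs U).obj F) :=
  let adj1 : ez U ⋙ (TX X).flip.obj F ⊣ ModSite.sheafHom F ⋙ rs U :=
    (ad U).comp (ModSite.sheafHomAdj F)
  let adj2 : (TU U).flip.obj ((rs U).obj F) ⋙ ez U ⊣
      rs U ⋙ ModSite.sheafHom ((rs U).obj F) :=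
    (ModSite.sheafHomAdj ((rs U).obj F)).comp (ad U)
  let e : (TU U).flip.obj ((rs U).obj F) ⋙ ez U ≅ ez U ⋙ (TX X).flip.obj F :=
    NatIso.ofComponents (fun A => asIso (π U A F)) (fun {A A'} f => by
      have h := π_natural U f (𝟙 F)
      simp only [Mate.bimap, CategoryTheory.Functor.map_id, Category.comp_id] at h
      simp only [Functor.comp_map, Functor.flip_obj_map, asIso_hom]
      exact h)
  adj1.rightAdjointUniq (adj2.ofNatIsoLeft e)


/-- Let f : X → Y be a morphism of schemes, F and G O_X-modules, W ⊆ Y an open subscheme and p ≥ 0.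
Write Ext^p_f(F, -) for the p-th right derived functor of the left exact functor G ↦ f_*
Hom_{O_X}(F, G) from O_X-modules to O_Y-modules (the relative Ext sheaves). Then the restriction of
Ext^p_f(F, G) to W is isomorphic to Ext^p_{f'}(F|_{f⁻¹W}, G|_{f⁻¹W}), where f' : f⁻¹W → W is the
restricted morphism. (Stated for schemes, the published statement being for ringed spaces; existence
of an isomorphism of O_W-modules only. The internal Hom functors, injective resolutions and
additivity of the composite functors on X and on f⁻¹W are the stated instance hypotheses, all true.) -/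
theorem result (X Y : Scheme.{u}) (f : X ⟶ Y) (W : Y.Opens)
    (F G : X.Modules) (p : ℕ)
    [ModSite.HasSheafHom (O := X.sheaf) F] [HasInjectiveResolutions (ModSite.Mod X.sheaf)]
    [(ModSite.sheafHom (O := X.sheaf) F ⋙ Scheme.Modules.pushforward f).Additive]
    [ModSite.HasSheafHom (O := (↑(f ⁻¹ᵁ W) : Scheme.{u}).sheaf) (F.restrict (f ⁻¹ᵁ W).ι)]
    [HasInjectiveResolutions (ModSite.Mod (↑(f ⁻¹ᵁ W) : Scheme.{u}).sheaf)]
    [(ModSite.sheafHom (O := (↑(f ⁻¹ᵁ W) : Scheme.{u}).sheaf) (F.restrict (f ⁻¹ᵁ W).ι) ⋙ Scheme.Modules.pushforward (f ∣_ W)).Additive] :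
    Nonempty ((Scheme.Modules.restrictFunctor W.ι).obj (((ModSite.sheafHom (O := X.sheaf) F ⋙ Scheme.Modules.pushforward f).rightDerived p).obj G) ≅
      ((ModSite.sheafHom (O := (↑(f ⁻¹ᵁ W) : Scheme.{u}).sheaf) (F.restrict (f ⁻¹ᵁ W).ι) ⋙ Scheme.Modules.pushforward (f ∣_ W)).rightDerived p).obj
        (G.restrict (f ⁻¹ᵁ W).ι)) := by
  have hE : ∀ J : ModSite.Mod X.sheaf, Injective J →
      Injective ((Scheme.Modules.restrictFunctor (f ⁻¹ᵁ W).ι).obj J) := fun J hJ => by
    haveI := hJ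
    exact Groth.Agent.H30.ExtZeroSch.injective_restrict (f ⁻¹ᵁ W) J
  haveI : PreservesFiniteLimits (Scheme.Modules.restrictFunctor (f ⁻¹ᵁ W).ι) :=
    ⟨fun _ _ _ => (CxOX.extZeroAdj (f ⁻¹ᵁ W).ι).rightAdjoint_preservesLimits.preservesLimitsOfShape⟩
  haveI : PreservesFiniteColimits (Scheme.Modules.restrictFunctor (f ⁻¹ᵁ W).ι) :=
    ⟨fun _ _ _ => (Scheme.Modules.restrictAdjunction (f ⁻¹ᵁ W).ι).leftAdjoint_preservesColimits.preservesColimitsOfShape⟩
  haveI : PreservesFiniteLimits (Scheme.Modules.restrictFunctor W.ι) :=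
    ⟨fun _ _ _ => (CxOX.extZeroAdj W.ι).rightAdjoint_preservesLimits.preservesLimitsOfShape⟩
  haveI : PreservesFiniteColimits (Scheme.Modules.restrictFunctor W.ι) :=
    ⟨fun _ _ _ => (Scheme.Modules.restrictAdjunction W.ι).leftAdjoint_preservesColimits.preservesColimitsOfShape⟩
  haveI : (Scheme.Modules.restrictFunctor (f ⁻¹ᵁ W).ι).Additive :=
    (CxOX.extZeroAdj (f ⁻¹ᵁ W).ι).right_adjoint_additive
  haveI : (Scheme.Modules.restrictFunctor W.ι).Additive :=
    (CxOX.extZeroAdj W.ι).right_adjoint_additive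
  let φ : (ModSite.sheafHom (O := X.sheaf) F ⋙ Scheme.Modules.pushforward f) ⋙
        Scheme.Modules.restrictFunctor W.ι ≅
      Scheme.Modules.restrictFunctor (f ⁻¹ᵁ W).ι ⋙
        (ModSite.sheafHom (O := (↑(f ⁻¹ᵁ W) : Scheme.{u}).sheaf) (F.restrict (f ⁻¹ᵁ W).ι) ⋙
          Scheme.Modules.pushforward (f ∣_ W)) :=
    Functor.associator _ _ _ ≪≫
      Functor.isoWhiskerLeft _ (Groth.Agent.H31.PushRestrict.pushRestrictIso f W) ≪≫
      (Functor.associator _ _ _).symm ≪≫
      Functor.isoWhiskerRight (restrSheafHomIso (f ⁻¹ᵁ W) F) _ ≪≫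
      Functor.associator _ _ _
  exact Groth.Agent.H45.RDerivedExact.nonempty_rightDerived_iso _ _
    (Scheme.Modules.restrictFunctor (f ⁻¹ᵁ W).ι) (Scheme.Modules.restrictFunctor W.ι) hE φ G p

end Groth.Agent.S16281
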