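import Groth.Statements.S16282
import Groth.Agent.H53.SheafHomComm
import Groth.Agent.H53.ProjFormula
import Groth.Agent.H53.FinLocFreeSlice
import Groth.Agent.H53.SheafHomExact
import Groth.Agent.H45.RDerivedExact
import Groth.Agent.H28.LpullLoc2
import Groth.Agent.H40.FlatBridge
import Groth.Agent.H31.TensorAssoc

set_option autoImplicit false
universe u
open CategoryTheory CategoryTheory.Limits AlgebraicGeometry
open Coherent

namespace Groth.Agent.S16282

open Groth.Agent.H31 Groth.Agent.H53 in
/-- `- ⊗ N` as an endofunctor of `Z.Modules`. -/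
noncomputable def tR {Z : Scheme.{u}} (N : Z.Modules) : Z.Modules ⥤ Z.Modules :=
  (ModSite.tensorBi Z.sheaf).flip.obj N

/-- `- ⊗ N` is exact and additive for `N` finite locally free. -/
theorem tR_exact {Z : Scheme.{u}} (N : Z.Modules) (hN : FlatMod.IsFinLocFree N) :
    (tR N).Additive ∧ PreservesFiniteLimits (tR N) ∧ PreservesFiniteColimits (tR N) := by
  have hflat : ModSite.IsFlat (O := Z.sheaf) N :=
    Groth.Agent.H40.FlatBridge.isFlat_of_stalkFlat N
      (Groth.Agent.H28.LpullLoc.isFlat_of_isFinLocFree hN)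
  have h3 : ((ModSite.tensorBi Z.sheaf).flip.obj N).Additive := inferInstance
  exact ⟨h3, hflat.1, hflat.2⟩

/-- The projection formula with the finite locally free module on the right. -/
noncomputable def pfIsoFlip {X Y : Scheme.{u}} (f : X ⟶ Y) (N : Y.Modules)
    (hN : FlatMod.IsFinLocFree N) :
    Scheme.Modules.pushforward f ⋙ tR N ≅
      (ModSite.tensorBi X.sheaf).flip.obj ((Scheme.Modules.pullback f).obj N) ⋙
        Scheme.Modules.pushforward f :=
  (Functor.isoWhiskerLeft (Scheme.Modules.pushforward f)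
      (Groth.Agent.H31.braidIso (O := Y.sheaf) N).symm ≪≫
    Groth.Agent.H53.ProjFormula.pfIso f N hN ≪≫
    Functor.isoWhiskerRight
      (Groth.Agent.H31.braidIso (O := X.sheaf) ((Scheme.Modules.pullback f).obj N))
      (Scheme.Modules.pushforward f) :)

/-- Let f : X → Y be a morphism of schemes, F and G O_X-modules, L a finite locally free O_X-module with
dual L^∨ = Hom_{O_X}(L, O_X), N a finite locally free O_Y-module and p ≥ 0. Write Ext^p_f(M, -) for
the p-th right derived functor of the left exact functor G ↦ f_* Hom_{O_X}(M, G) from O_X-modules to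
O_Y-modules. Then Ext^p_f(F ⊗ L, G ⊗ f^*N) is isomorphic to Ext^p_f(F, G ⊗ L^∨) ⊗ N. (Stated for
schemes, the published statement being for ringed spaces and a chain of two functorial isomorphisms;
existence of an isomorphism of O_Y-modules only. The internal Hom functors, injective resolutions
and additivity of the composite functors are the stated instance hypotheses, all true.) -/
theorem result (X Y : Scheme.{u}) (f : X ⟶ Y) (F G L : X.Modules) (N : Y.Modules)
    (hL : FlatMod.IsFinLocFree L) (hN : FlatMod.IsFinLocFree N) (p : ℕ)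
    [ModSite.HasSheafHom (O := X.sheaf) F] [ModSite.HasSheafHom (O := X.sheaf) L]
    [ModSite.HasSheafHom (O := X.sheaf) (CohB1.tensorMod F L)] [HasInjectiveResolutions (ModSite.Mod X.sheaf)]
    [(ModSite.sheafHom (O := X.sheaf) F ⋙ Scheme.Modules.pushforward f).Additive]
    [(ModSite.sheafHom (O := X.sheaf) (CohB1.tensorMod F L) ⋙ Scheme.Modules.pushforward f).Additive] :
    Nonempty (((ModSite.sheafHom (O := X.sheaf) (CohB1.tensorMod F L) ⋙ Scheme.Modules.pushforward f).rightDerived p).obj
        (CohB1.tensorMod G ((Scheme.Modules.pullback f).obj N)) ≅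
      CohB1.tensorMod (((ModSite.sheafHom (O := X.sheaf) F ⋙ Scheme.Modules.pushforward f).rightDerived p).obj
        (CohB1.tensorMod G ((ModSite.sheafHom (O := X.sheaf) L).obj (Coh.structureModule X)))) N) := by
  have hLF := Groth.Agent.H53.FinLocFreeSlice.locFinFree_of_isFinLocFree L hL
  have hM : FlatMod.IsFinLocFree ((Scheme.Modules.pullback f).obj N) :=
    Groth.Agent.H28.LpullLoc.isFinLocFree_pullback f hN
  have hMF := Groth.Agent.H53.FinLocFreeSlice.locFinFree_of_isFinLocFree _ hM
  -- exactness of `ℋom(L, -)`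
  have hflatL : ModSite.IsFlat (O := X.sheaf) L :=
    Groth.Agent.H40.FlatBridge.isFlat_of_stalkFlat L
      (Groth.Agent.H28.LpullLoc.isFlat_of_isFinLocFree hL)
  have : PreservesFiniteLimits ((ModSite.tensorBi X.sheaf).flip.obj L) := hflatL.1
  have : PreservesFiniteColimits (ModSite.sheafHom (O := X.sheaf) L) :=
    Groth.Agent.H53.SheafHomExact.preservesFiniteColimits_sheafHom (O := X.sheaf) L hLF
  have : PreservesFiniteLimits (ModSite.sheafHom (O := X.sheaf) L) := by
    have := (ModSite.sheafHomAdj (O := X.sheaf) L).rightAdjoint_preservesLimits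
    infer_instance
  have : (ModSite.sheafHom (O := X.sheaf) L).Additive := by
    have := preservesBinaryBiproducts_of_preservesBinaryProducts
      (ModSite.sheafHom (O := X.sheaf) L)
    exact Functor.additive_of_preservesBinaryBiproducts _
  have hInjL : ∀ J : ModSite.Mod X.sheaf, Injective J →
      Injective ((ModSite.sheafHom (O := X.sheaf) L).obj J) :=
    fun J hJ => Adjunction.map_injective (ModSite.sheafHomAdj (O := X.sheaf) L) J hJ
  -- exactness of `- ⊗ f^* N` and `- ⊗ N`
  have hflatM : ModSite.IsFlat (O := X.sheaf) ((Scheme.Modules.pullback f).obj N) :=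
    Groth.Agent.H40.FlatBridge.isFlat_of_stalkFlat _
      (Groth.Agent.H28.LpullLoc.isFlat_of_isFinLocFree hM)
  have m2 : PreservesFiniteLimits
      ((ModSite.tensorBi X.sheaf).flip.obj ((Scheme.Modules.pullback f).obj N)) := hflatM.1
  have m3 : PreservesFiniteColimits
      ((ModSite.tensorBi X.sheaf).flip.obj ((Scheme.Modules.pullback f).obj N)) := hflatM.2
  obtain ⟨n1, n2, n3⟩ := tR_exact N hN
  have hInjM : ∀ J : ModSite.Mod X.sheaf, Injective J →
      Injective (((ModSite.tensorBi X.sheaf).flip.obj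
        ((Scheme.Modules.pullback f).obj N)).obj J) := by
    intro J hJ
    haveI := hJ
    exact Groth.Agent.H53.SheafDual.injective_tensor_locFinFree (O := X.sheaf)
      ((Scheme.Modules.pullback f).obj N) J hMF
  -- the two isomorphisms of functors
  haveI : ModSite.HasSheafHom (O := X.sheaf) (((ModSite.tensorBi X.sheaf).obj F).obj L) :=
    ‹ModSite.HasSheafHom (O := X.sheaf) (CohB1.tensorMod F L)›
  let φI : (ModSite.sheafHom (O := X.sheaf) (CohB1.tensorMod F L) ⋙
        Scheme.Modules.pushforward f) ⋙ 𝟭 Y.Modules ≅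
      ModSite.sheafHom (O := X.sheaf) L ⋙
        (ModSite.sheafHom (O := X.sheaf) F ⋙ Scheme.Modules.pushforward f) :=
    Functor.rightUnitor _ ≪≫
      Functor.isoWhiskerRight (Groth.Agent.H53.SheafHomComm.sheafHomTensorIso (O := X.sheaf) F L)
        (Scheme.Modules.pushforward f) ≪≫ Functor.associator _ _ _
  obtain ⟨c⟩ := Groth.Agent.H53.SheafHomComm.nonempty_sheafHom_comm_flip (O := X.sheaf) F
    ((Scheme.Modules.pullback f).obj N) hMF
  let φII : (ModSite.sheafHom (O := X.sheaf) F ⋙ Scheme.Modules.pushforward f) ⋙ tR N ≅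
      (ModSite.tensorBi X.sheaf).flip.obj ((Scheme.Modules.pullback f).obj N) ⋙
        (ModSite.sheafHom (O := X.sheaf) F ⋙ Scheme.Modules.pushforward f) :=
    Functor.associator _ _ _ ≪≫
      Functor.isoWhiskerLeft (ModSite.sheafHom (O := X.sheaf) F) (pfIsoFlip f N hN) ≪≫
      (Functor.associator _ _ _).symm ≪≫
      Functor.isoWhiskerRight c (Scheme.Modules.pushforward f) ≪≫ Functor.associator _ _ _
  obtain ⟨i1⟩ := Groth.Agent.H45.RDerivedExact.nonempty_rightDerived_iso
    (ModSite.sheafHom (O := X.sheaf) (CohB1.tensorMod F L) ⋙ Scheme.Modules.pushforward f)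
    (ModSite.sheafHom (O := X.sheaf) F ⋙ Scheme.Modules.pushforward f)
    (ModSite.sheafHom (O := X.sheaf) L) (𝟭 Y.Modules) hInjL φI
    (CohB1.tensorMod G ((Scheme.Modules.pullback f).obj N)) p
  obtain ⟨i2⟩ := Groth.Agent.H45.RDerivedExact.nonempty_rightDerived_iso
    (ModSite.sheafHom (O := X.sheaf) F ⋙ Scheme.Modules.pushforward f)
    (ModSite.sheafHom (O := X.sheaf) F ⋙ Scheme.Modules.pushforward f)
    ((ModSite.tensorBi X.sheaf).flip.obj ((Scheme.Modules.pullback f).obj N)) (tR N) hInjM φII
    (CohB1.tensorMod G ((ModSite.sheafHom (O := X.sheaf) L).obj (Coh.structureModule X))) p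
  -- the objectwise identification
  obtain ⟨s1⟩ := Groth.Agent.H53.SheafDual.nonempty_sheafHom_iso_tensor_dual (O := X.sheaf) L
    (CohB1.tensorMod G ((Scheme.Modules.pullback f).obj N)) hLF
  let D : ModSite.Mod X.sheaf := (ModSite.sheafHom (O := X.sheaf) L).obj (ModSite.unit X.sheaf)
  let M : ModSite.Mod X.sheaf := (Scheme.Modules.pullback f).obj N
  let a1 : ((ModSite.tensorBi X.sheaf).obj (((ModSite.tensorBi X.sheaf).obj G).obj M)).obj D ≅
      ((ModSite.tensorBi X.sheaf).obj G).obj (((ModSite.tensorBi X.sheaf).obj M).obj D) :=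
    (((Groth.Agent.H31.tensorBiAssociator (O := X.sheaf)).app G).app M).app D
  let a2 : ((ModSite.tensorBi X.sheaf).obj G).obj (((ModSite.tensorBi X.sheaf).obj M).obj D) ≅
      ((ModSite.tensorBi X.sheaf).obj G).obj (((ModSite.tensorBi X.sheaf).obj D).obj M) :=
    ((ModSite.tensorBi X.sheaf).obj G).mapIso ((Groth.Agent.H31.braidIso (O := X.sheaf) M).app D)
  let a3 : ((ModSite.tensorBi X.sheaf).obj (((ModSite.tensorBi X.sheaf).obj G).obj D)).obj M ≅
      ((ModSite.tensorBi X.sheaf).obj G).obj (((ModSite.tensorBi X.sheaf).obj D).obj M) :=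
    (((Groth.Agent.H31.tensorBiAssociator (O := X.sheaf)).app G).app D).app M
  exact ⟨i1 ≪≫ ((ModSite.sheafHom (O := X.sheaf) F ⋙
      Scheme.Modules.pushforward f).rightDerived p).mapIso (s1 ≪≫ a1 ≪≫ a2 ≪≫ a3.symm) ≪≫ i2.symm⟩

end Groth.Agent.S16282
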