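import Groth.Statements.S16283
import Groth.Agent.S11319
import Groth.Agent.S6150
import Groth.Agent.S3090
import Groth.Agent.S0865
import Groth.Agent.H5.SpSeq.ExtForm
import Groth.Prelude.Def_RDer

set_option autoImplicit false
universe u
open CategoryTheory CategoryTheory.Limits AlgebraicGeometry ZeroObject
open Coherent

namespace Groth.Agent.S16283

open TopologicalSpace in
/-- `toAb` reflects zero objects. -/
theorem isZero_of_isZero_toAb {Z : Scheme.{u}} (N : Z.Modules) (h : IsZero (Coh.toAb N)) : IsZero N := by
  rw [IsZero.iff_id_eq_zero]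
  apply (SheafOfModules.toSheaf.{u} Z.ringCatSheaf).map_injective
  have h1 : (SheafOfModules.toSheaf.{u} Z.ringCatSheaf).map (𝟙 N) = 𝟙 _ := CategoryTheory.Functor.map_id _ _
  have h2 : (SheafOfModules.toSheaf.{u} Z.ringCatSheaf).map (0 : N ⟶ N) = 0 :=
    CategoryTheory.Functor.map_zero _ _ _
  exact h1.trans (((IsZero.iff_id_eq_zero _).mp h).trans h2.symm)

open TopologicalSpace in
theorem hT_aux {X Y Z : Scheme.{u}} (f : X ⟶ Y) (g : Y ⟶ Z) (F : X.Modules)
    [ModSite.HasSheafHom (O := X.sheaf) F] [HasInjectiveResolutions Y.Modules]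
    (Q : ModSite.Mod X.sheaf) (hQ : Injective Q) (q : ℕ) :
    IsZero (((Scheme.Modules.pushforward g).rightDerived (q + 1)).obj
      ((ModSite.sheafHom (O := X.sheaf) F ⋙ Scheme.Modules.pushforward f).obj Q)) := by
  apply isZero_of_isZero_toAb
  obtain ⟨i⟩ := Groth.Agent.S11319.result g
    ((ModSite.sheafHom (O := X.sheaf) F ⋙ Scheme.Modules.pushforward f).obj Q) (q + 1)
  refine IsZero.of_iso ?_ i
  have h1 : CohCx.IsTotallyAcyclic (ModSite.toAb ((ModSite.sheafHom (O := X.sheaf) F).obj Q)) :=
    Groth.Agent.S6150.result X.sheaf F Q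
  have : PreservesFiniteLimits (Opens.map f.base) := preservesFiniteLimits_of_flat _
  have h2 := Groth.Agent.S3090.result (Opens.grothendieckTopology X) (Opens.grothendieckTopology Y)
    (Opens.map f.base) (coverPreserving_opens_map f.base) _ h1
  exact Groth.Agent.S0865.result (Opens.grothendieckTopology Y) (Opens.grothendieckTopology Z)
    (Opens.map g.base) _ h2 q

/-- Let f : X → Y and g : Y → Z be morphisms of schemes, h = g ∘ f, and F, G O_X-modules. For a morphism
u out of X write Ext^b_u(F, -) for the b-th right derived functor of the left exact functor G ↦ u_*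
Hom_{O_X}(F, G) from O_X-modules. Then there is an E₂ spectral sequence of O_Z-modules with E₂^{a,b}
≅ R^a g_*(Ext^b_f(F, G)) for a, b ≥ 0 (and 0 otherwise), bounded, abutting with finite filtrations
to Ext^n_h(F, G) (n ≥ 0; 0 for n < 0). (Stated for schemes, the published statement being for ringed
spaces. Existence only: the E₂ identifications and the abutment are some isomorphisms. The internal
Hom functor of F, injective resolutions on X and Y and additivity of the composite functors are the
stated instance hypotheses, all true.) -/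
theorem result (X Y Z : Scheme.{u}) (f : X ⟶ Y) (g : Y ⟶ Z)
    (F G : X.Modules)
    [ModSite.HasSheafHom (O := X.sheaf) F] [HasInjectiveResolutions (ModSite.Mod X.sheaf)] [HasInjectiveResolutions Y.Modules]
    [(ModSite.sheafHom (O := X.sheaf) F ⋙ Scheme.Modules.pushforward f).Additive]
    [(ModSite.sheafHom (O := X.sheaf) F ⋙ Scheme.Modules.pushforward (f ≫ g)).Additive] :
    ∃ (E : E₂CohomologicalSpectralSequence Z.Modules)
      (a : SpSeq.Abutment E (fun n : ℤ =>
        if 0 ≤ n then ((ModSite.sheafHom (O := X.sheaf) F ⋙ Scheme.Modules.pushforward (f ≫ g)).rightDerived n.toNat).obj G else (0 : Z.Modules))),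
      (∀ n : ℤ, a.IsFinite n) ∧ SpSeq.IsBounded E ∧
      ∀ p q : ℤ, Nonempty ((E.page 2 le_rfl).X (p, q) ≅
        (if 0 ≤ p ∧ 0 ≤ q then (Coh.Rpush g p.toNat).obj (((ModSite.sheafHom (O := X.sheaf) F ⋙ Scheme.Modules.pushforward f).rightDerived q.toNat).obj G)
          else (0 : Z.Modules))) := by
  have hS : PreservesFiniteLimits (Scheme.Modules.pushforward g) := by
    have : PreservesLimitsOfSize.{0, 0} (Scheme.Modules.pushforward g) :=
      (Scheme.Modules.pullbackPushforwardAdjunction g).rightAdjoint_preservesLimits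
    exact PreservesLimitsOfSize.preservesFiniteLimits _
  refine Groth.Agent.H5.GSS.main' (ModSite.sheafHom (O := X.sheaf) F ⋙ Scheme.Modules.pushforward f)
    (Scheme.Modules.pushforward g) ?_ G _ _ ?_ ?_ ?_ ?_
  · intro Q hQ q hq
    obtain ⟨q', rfl⟩ : ∃ q', q = q' + 1 := ⟨q - 1, by omega⟩
    exact hT_aux f g F Q hQ q'
  · intro n
    simp only [Int.natCast_nonneg, if_true, Int.toNat_natCast]
    let e : (ModSite.sheafHom (O := X.sheaf) F ⋙ Scheme.Modules.pushforward f) ⋙
        Scheme.Modules.pushforward g ≅
        ModSite.sheafHom (O := X.sheaf) F ⋙ Scheme.Modules.pushforward (f ≫ g) :=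
      Functor.associator _ _ _ ≪≫
        Functor.isoWhiskerLeft _ (Scheme.Modules.pushforwardComp f g)
    exact ⟨((RDer.rightDerivedIso (A := ModSite.Mod X.sheaf) e n).app G).symm⟩
  · intro n hn
    rw [if_neg (by omega)]
    exact isZero_zero _
  · intro p q
    simp only [Int.natCast_nonneg, and_self, if_true, Int.toNat_natCast]
    exact ⟨Iso.refl _⟩
  · intro p q hpq
    rw [if_neg (by omega)]
    exact isZero_zero _

end Groth.Agent.S16283
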