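import Groth.Statements.S16289
import Groth.Agent.H92.SheafHomLES
import Groth.Agent.H92.ContraLES

set_option autoImplicit false
universe u
open CategoryTheory CategoryTheory.Limits AlgebraicGeometry
open Coherent

namespace Groth.Agent.S16289

open Groth.Agent.H92.SheafHomLES Groth.Agent.H92.ContraLES Groth.Agent.H45.RDerivedLES in
theorem main {C : Type u} [SmallCategory C] {J : GrothendieckTopology C}
    {O : Sheaf J CommRingCat.{u}} {B : Type (u + 1)} [Category.{u} B] [Abelian B]
    (Ψ : ModSite.Mod O ⥤ B) (hΨl : PreservesFiniteLimits Ψ)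
    (hΨ : ∀ {M N : ModSite.Mod O} (φ : M ⟶ N),
      (∀ V : C, Function.Surjective (φ.val.app (Opposite.op V))) → Epi (Ψ.map φ))
    (S : ShortComplex (ModSite.Mod O)) (hS : S.ShortExact) (G : ModSite.Mod O)
    [ModSite.HasSheafHom S.X₁] [ModSite.HasSheafHom S.X₂] [ModSite.HasSheafHom S.X₃]
    [HasInjectiveResolutions (ModSite.Mod O)]
    [(ModSite.sheafHom S.X₁ ⋙ Ψ).Additive] [(ModSite.sheafHom S.X₂ ⋙ Ψ).Additive]
    [(ModSite.sheafHom S.X₃ ⋙ Ψ).Additive] :
    Mono ((NatTrans.rightDerived (Functor.whiskerRight (ExtSupp.sheafHomMap S.g) Ψ) 0).app G) ∧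
    (∀ p : ℕ, ∃ w : (NatTrans.rightDerived (Functor.whiskerRight (ExtSupp.sheafHomMap S.g) Ψ) p).app G ≫ (NatTrans.rightDerived (Functor.whiskerRight (ExtSupp.sheafHomMap S.f) Ψ) p).app G = 0,
      (ShortComplex.mk _ _ w).Exact) ∧
    ∃ δ : ∀ p : ℕ, ((ModSite.sheafHom S.X₁ ⋙ Ψ).rightDerived p).obj G ⟶ ((ModSite.sheafHom S.X₃ ⋙ Ψ).rightDerived (p + 1)).obj G,
      ∀ p : ℕ,
        (∃ w : (NatTrans.rightDerived (Functor.whiskerRight (ExtSupp.sheafHomMap S.f) Ψ) p).app G ≫ δ p = 0, (ShortComplex.mk _ _ w).Exact) ∧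
        (∃ w : δ p ≫ (NatTrans.rightDerived (Functor.whiskerRight (ExtSupp.sheafHomMap S.g) Ψ) (p + 1)).app G = 0, (ShortComplex.mk _ _ w).Exact) := by
  classical
  have hz : Ψ.PreservesZeroMorphisms := inferInstance
  let α := Functor.whiskerRight (ExtSupp.sheafHomMap S.g) Ψ
  let β := Functor.whiskerRight (ExtSupp.sheafHomMap S.f) Ψ
  have w : α ≫ β = 0 := by
    ext N : 2
    show Ψ.map ((ExtSupp.sheafHomMap S.g).app N) ≫ Ψ.map ((ExtSupp.sheafHomMap S.f).app N) = 0
    rw [← Functor.map_comp, sheafHomMap_comp_eq_zero S.f S.g S.zero N, Functor.map_zero]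
  have hmono : ∀ N : ModSite.Mod O, Mono (α.app N) := by
    intro N
    have := (sheafHom_leftExact S hS N).2
    show Mono (Ψ.map ((ExtSupp.sheafHomMap S.g).app N))
    infer_instance
  have h : ExactOnInjectives α β w := by
    intro I hI
    have := hI
    have hle := sheafHom_leftExact S hS I
    have := hle.2
    have := hS.mono_f
    exact
      { exact := hle.1.map_of_mono_of_preservesKernel Ψ inferInstance inferInstance
        mono_f := hmono I
        epi_g := hΨ _ (fun V => sheafHomMap_app_surjective S.f I V) }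
  refine ⟨?_, fun p => ?_, ?_⟩
  · exact mono_rightDerived_zero α (fun I _ => hmono I) G
  · exact ⟨comp_eq_zero α β w p G, exact₂ h p G _⟩
  · refine ⟨fun p => (δ h p).app G, fun p => ⟨?_, ?_⟩⟩
    · exact ⟨comp_δ h p G, exact₃ h p G _⟩
    · exact ⟨δ_comp h p G, exact₁ h p G _⟩



/-- For relative Ext sheaves in the first variable; let f : X → Y be a morphism of schemes, 0 → F' → F →
F'' → 0 a short exact sequence of O_X-modules (S below, with S.X₁ = F', S.X₂ = F, S.X₃ = F'') and G
an O_X-module. For an O_X-module M write Ext^p_f(M, -) for the p-th right derived functor of the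
left exact functor G ↦ f_* Hom_{O_X}(M, G), and for u : M' → M write u^* : Ext^p_f(M, G) →
Ext^p_f(M', G) for the map induced (right derived natural transformation) by Hom(M, -) → Hom(M', -).
Then Ext^0_f(F'', G) → Ext^0_f(F, G) is a monomorphism, for every p the pair Ext^p_f(F'', G) →
Ext^p_f(F, G) → Ext^p_f(F', G) composes to zero and is exact, and there are connecting morphisms δ_p
: Ext^p_f(F', G) → Ext^{p+1}_f(F'', G) making Ext^p_f(F, G) → Ext^p_f(F', G) → Ext^{p+1}_f(F'', G)
and Ext^p_f(F', G) → Ext^{p+1}_f(F'', G) → Ext^{p+1}_f(F, G) compose to zero and exact. (Stated for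
schemes, the published statement being for ringed spaces; the connecting maps are asserted to exist
only. The internal Hom functors, injective resolutions and additivity of the composite functors are
the stated instance hypotheses, all true.) -/
theorem result (X Y : Scheme.{u}) (f : X ⟶ Y) (S : ShortComplex X.Modules) (hS : S.ShortExact)
    (G : X.Modules)
    [ModSite.HasSheafHom (O := X.sheaf) S.X₁] [ModSite.HasSheafHom (O := X.sheaf) S.X₂] [ModSite.HasSheafHom (O := X.sheaf) S.X₃]
    [HasInjectiveResolutions (ModSite.Mod X.sheaf)]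
    [(ModSite.sheafHom (O := X.sheaf) S.X₁ ⋙ Scheme.Modules.pushforward f).Additive]
    [(ModSite.sheafHom (O := X.sheaf) S.X₂ ⋙ Scheme.Modules.pushforward f).Additive]
    [(ModSite.sheafHom (O := X.sheaf) S.X₃ ⋙ Scheme.Modules.pushforward f).Additive] :
    Mono ((NatTrans.rightDerived (Functor.whiskerRight (ExtSupp.sheafHomMap (O := X.sheaf) S.g) (Scheme.Modules.pushforward f)) 0).app G) ∧
    (∀ p : ℕ, ∃ w : (NatTrans.rightDerived (Functor.whiskerRight (ExtSupp.sheafHomMap (O := X.sheaf) S.g) (Scheme.Modules.pushforward f)) p).app G ≫ (NatTrans.rightDerived (Functor.whiskerRight (ExtSupp.sheafHomMap (O := X.sheaf) S.f) (Scheme.Modules.pushforward f)) p).app G = 0,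
      (ShortComplex.mk _ _ w).Exact) ∧
    ∃ δ : ∀ p : ℕ, ((ModSite.sheafHom (O := X.sheaf) S.X₁ ⋙ Scheme.Modules.pushforward f).rightDerived p).obj G ⟶ ((ModSite.sheafHom (O := X.sheaf) S.X₃ ⋙ Scheme.Modules.pushforward f).rightDerived (p + 1)).obj G,
      ∀ p : ℕ,
        (∃ w : (NatTrans.rightDerived (Functor.whiskerRight (ExtSupp.sheafHomMap (O := X.sheaf) S.f) (Scheme.Modules.pushforward f)) p).app G ≫ δ p = 0, (ShortComplex.mk _ _ w).Exact) ∧
        (∃ w : δ p ≫ (NatTrans.rightDerived (Functor.whiskerRight (ExtSupp.sheafHomMap (O := X.sheaf) S.g) (Scheme.Modules.pushforward f)) (p + 1)).app G = 0, (ShortComplex.mk _ _ w).Exact) := by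
  have hpl : PreservesLimitsOfSize.{u, u} (Scheme.Modules.pushforward f) :=
    (Scheme.Modules.pullbackPushforwardAdjunction f).rightAdjoint_preservesLimits
  have hpfl : PreservesFiniteLimits (Scheme.Modules.pushforward f) := ⟨fun _ _ _ => inferInstance⟩
  refine main (O := X.sheaf) (Scheme.Modules.pushforward f) hpfl ?_ S hS G
  intro M N φ hφ
  apply Groth.Agent.H92.SheafHomLES.epi_of_surjective
  intro W
  exact hφ _

end Groth.Agent.S16289
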