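import Groth.Statements.S16286
import Groth.Agent.H92.SheafHomLES
import Groth.Agent.H92.ContraLES
import Groth.Agent.H92.AcyclicRes
import Groth.Agent.S16289

set_option autoImplicit false
universe u
open CategoryTheory CategoryTheory.Limits AlgebraicGeometry
open Coherent

namespace Groth.Agent.S16286

section Splice

variable {𝒜 : Type*} [Category 𝒜] [Abelian 𝒜] (F : 𝒜) (L : ChainComplex 𝒜 ℕ) (π : L.X 0 ⟶ F)

/-- target of the augmented differential -/
def tgt : ℕ → 𝒜
  | 0 => F
  | j + 1 => L.X j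

/-- the augmented differential -/
def aug : ∀ j, L.X j ⟶ tgt F L j
  | 0 => π
  | j + 1 => L.d (j + 1) j

/-- the syzygies -/
noncomputable def syz : ℕ → 𝒜
  | 0 => F
  | j + 1 => kernel (aug F L π j)

noncomputable def sι (j : ℕ) : syz F L π (j + 1) ⟶ L.X j := kernel.ι (aug F L π j)

instance sι_mono (j : ℕ) : Mono (sι F L π j) :=
  (inferInstance : Mono (kernel.ι (aug F L π j)))

variable (hπ : L.d 1 0 ≫ π = 0)

include hπ in
theorem d_aug (j : ℕ) : L.d (j + 1) j ≫ aug F L π j = 0 := by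
  cases j with
  | zero => exact hπ
  | succ j => exact L.d_comp_d _ _ _

noncomputable def sρ : ∀ j, L.X j ⟶ syz F L π j
  | 0 => π
  | j + 1 => kernel.lift (aug F L π j) (L.d (j + 1) j) (d_aug F L π hπ j)

theorem sρ_sι (j : ℕ) : sρ F L π hπ (j + 1) ≫ sι F L π j = L.d (j + 1) j :=
  kernel.lift_ι _ _ _

theorem sι_sρ (j : ℕ) : sι F L π j ≫ sρ F L π hπ j = 0 := by
  cases j with
  | zero => exact kernel.condition π
  | succ j =>
    rw [← cancel_mono (sι F L π j), Category.assoc, sρ_sι, zero_comp]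
    exact kernel.condition (aug F L π (j + 1))

variable [Epi π] (hex0 : (ShortComplex.mk (L.d 1 0) π hπ).Exact) (hex : ∀ j : ℕ, L.ExactAt (j + 1))

omit [Epi π] in
include hex0 hex in
theorem aug_exact (j : ℕ) :
    (ShortComplex.mk (L.d (j + 1) j) (aug F L π j) (d_aug F L π hπ j)).Exact := by
  cases j with
  | zero => exact hex0
  | succ j =>
    exact (L.exactAt_iff' (j + 2) (j + 1) j (by simp) (by simp)).1 (hex j)

include hex0 hex in
theorem shortExact (j : ℕ) :
    (ShortComplex.mk (sι F L π j) (sρ F L π hπ j) (sι_sρ F L π hπ j)).ShortExact := by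
  have hm : Mono (sι F L π j) := inferInstance
  have he : Epi (sρ F L π hπ j) := by
    cases j with
    | zero => exact (inferInstance : Epi π)
    | succ j =>
      exact (ShortComplex.exact_iff_epi_kernel_lift _).1 (aug_exact F L π hπ hex0 hex j)
  have hex' : (ShortComplex.mk (sι F L π j) (sρ F L π hπ j) (sι_sρ F L π hπ j)).Exact := by
    cases j with
    | zero => exact ShortComplex.exact_of_f_is_kernel _ (kernelIsKernel π)
    | succ j =>
      refine ShortComplex.exact_of_f_is_kernel _ ?_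
      exact isKernelOfComp (sι F L π j) (aug F L π (j + 1)) (kernelIsKernel (aug F L π (j + 1)))
        (sι_sρ F L π hπ (j + 1)) (sρ_sι F L π hπ j)
  exact { exact := hex', mono_f := hm, epi_g := he }

end Splice

open Groth.Agent.H92.SheafHomLES Groth.Agent.H92.ContraLES Groth.Agent.H92.AcyclicRes
  Groth.Agent.H45.RDerivedLES Groth.Agent.H31 in
theorem main2 {C : Type u} [SmallCategory C] {J : GrothendieckTopology C}
    {O : Sheaf J CommRingCat.{u}} {ℬ : Type (u + 1)} [Category.{u} ℬ] [Abelian ℬ]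
    (Ψ : ModSite.Mod O ⥤ ℬ) [Ψ.Additive] (hΨl : PreservesFiniteLimits Ψ)
    (hΨ : ∀ {M N : ModSite.Mod O} (φ : M ⟶ N),
      (∀ V : C, Function.Surjective (φ.val.app (Opposite.op V))) → Epi (Ψ.map φ))
    [HasInjectiveResolutions (ModSite.Mod O)]
    (F G : ModSite.Mod O) (L : ChainComplex (ModSite.Mod O) ℕ) (π : L.X 0 ⟶ F) [Epi π]
    (hπ : L.d 1 0 ≫ π = 0) (hex0 : (ShortComplex.mk (L.d 1 0) π hπ).Exact)
    (hex : ∀ j : ℕ, L.ExactAt (j + 1))
    (hL : ∀ (j : ℕ) (p : ℕ), 1 ≤ p →
      IsZero (((ModSite.sheafHom (L.X j) ⋙ Ψ).rightDerived p).obj G))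
    (Cx : CochainComplex ℬ ℕ)
    (e : ∀ j : ℕ, Cx.X j ≅ Ψ.obj ((ModSite.sheafHom (L.X j)).obj G))
    (hC : ∀ j : ℕ, Cx.d j (j + 1) ≫ (e (j + 1)).hom =
      (e j).hom ≫ Ψ.map ((ExtSupp.sheafHomMap (L.d (j + 1) j)).app G))
    (i : ℕ) :
    Nonempty (Cx.homology i ≅ ((ModSite.sheafHom F ⋙ Ψ).rightDerived i).obj G) := by
  let T : ℕ → ModSite.Mod O → ℬ := fun p M => ((ModSite.sheafHom M ⋙ Ψ).rightDerived p).obj G
  let Tm : ∀ (p : ℕ) {M M' : ModSite.Mod O} (_ : M' ⟶ M), T p M ⟶ T p M' := fun p {M M'} g =>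
    (NatTrans.rightDerived (Functor.whiskerRight (ExtSupp.sheafHomMap g) Ψ) p).app G
  have hcomp : ∀ (p : ℕ) {M M' M'' : ModSite.Mod O} (g : M' ⟶ M) (g' : M'' ⟶ M'),
      Tm p (g' ≫ g) = Tm p g ≫ Tm p g' := by
    intro p M M' M'' g g'
    show (NatTrans.rightDerived (Functor.whiskerRight (ExtSupp.sheafHomMap (g' ≫ g)) Ψ) p).app G =
      (NatTrans.rightDerived (Functor.whiskerRight (ExtSupp.sheafHomMap g) Ψ) p).app G ≫
      (NatTrans.rightDerived (Functor.whiskerRight (ExtSupp.sheafHomMap g') Ψ) p).app G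
    rw [sheafHomMap_comp, Functor.whiskerRight_comp, NatTrans.rightDerived_comp, NatTrans.comp_app]
  have hles : HasLES T Tm := fun S hS => Groth.Agent.S16289.main Ψ hΨl hΨ S hS G
  have hacy : ∀ (j p : ℕ), IsZero (T (p + 1) (L.X j)) := fun j p => hL j (p + 1) (by omega)
  have hpfl : ∀ M : ModSite.Mod O, PreservesFiniteLimits (ModSite.sheafHom M ⋙ Ψ) := by
    intro M
    have h1 : PreservesLimitsOfSize.{u, u} (ModSite.sheafHom M) :=
      (ModSite.sheafHomAdj M).rightAdjoint_preservesLimits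
    have h2 : PreservesFiniteLimits (ModSite.sheafHom M) := ⟨fun _ _ _ => inferInstance⟩
    exact comp_preservesFiniteLimits _ _
  let e' : ∀ j, Cx.X j ≅ T 0 (L.X j) := fun j =>
    have := hpfl (L.X j)
    e j ≪≫ asIso ((ModSite.sheafHom (L.X j) ⋙ Ψ).toRightDerivedZero.app G)
  have hC' : ∀ j, Cx.d j (j + 1) ≫ (e' (j + 1)).hom =
      (e' j).hom ≫ Tm 0 (sρ F L π hπ (j + 1) ≫ sι F L π j) := by
    intro j
    rw [sρ_sι]
    have hn := toRightDerivedZero_naturality
      (Functor.whiskerRight (ExtSupp.sheafHomMap (L.d (j + 1) j)) Ψ) G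
    show Cx.d j (j + 1) ≫ (e (j + 1)).hom ≫
        (ModSite.sheafHom (L.X (j + 1)) ⋙ Ψ).toRightDerivedZero.app G =
      ((e j).hom ≫ (ModSite.sheafHom (L.X j) ⋙ Ψ).toRightDerivedZero.app G) ≫
        (NatTrans.rightDerived
          (Functor.whiskerRight (ExtSupp.sheafHomMap (L.d (j + 1) j)) Ψ) 0).app G
    rw [Category.assoc, ← hn, ← Category.assoc, ← Category.assoc, hC j]
    rfl
  exact homology_iso hcomp hles (syz F L π) L.X (sι F L π) (sρ F L π hπ) (sι_sρ F L π hπ)
    (shortExact F L π hπ hex0 hex) hacy Cx e' hC' i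



/-- Let f : X → Y be a morphism of schemes, F and G O_X-modules, and L_• → F → 0 a resolution of F: a
chain complex L of O_X-modules indexed by the natural numbers with an augmentation π : L_0 → F such
that L is exact in every positive degree and L_1 → L_0 → F → 0 is exact. For an O_X-module M write
Ext^p_f(M, -) for the p-th right derived functor of the left exact functor G ↦ f_* Hom_{O_X}(M, G),
and assume Ext^p_f(L_i, G) = 0 for every i ≥ 0 and every p ≥ 1. Let C be the cochain complex f_*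
Hom_{O_X}(L_•, G) of O_Y-modules, given with identifications C^i ≅ f_* Hom_{O_X}(L_i, G) under which
its differentials are f_* of the maps induced by the differentials of L. Then for every i the i-th
cohomology object of C is isomorphic to Ext^i_f(F, G). (Stated for schemes, the published statement
being for ringed spaces; existence of an isomorphism of O_Y-modules only. The internal Hom functors,
injective resolutions and additivity of the composite functors are the stated instance hypotheses,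
all true.) -/
theorem result (X Y : Scheme.{u}) (f : X ⟶ Y) (F G : X.Modules)
    (L : ChainComplex X.Modules ℕ) (π : L.X 0 ⟶ F) [Epi π] (hπ : L.d 1 0 ≫ π = 0)
    (hex0 : (ShortComplex.mk (L.d 1 0) π hπ).Exact) (hex : ∀ j : ℕ, L.ExactAt (j + 1))
    [∀ j : ℕ, ModSite.HasSheafHom (O := X.sheaf) (L.X j)] [ModSite.HasSheafHom (O := X.sheaf) F]
    [HasInjectiveResolutions (ModSite.Mod X.sheaf)]
    [∀ j : ℕ, (ModSite.sheafHom (O := X.sheaf) (L.X j) ⋙ Scheme.Modules.pushforward f).Additive]
    [(ModSite.sheafHom (O := X.sheaf) F ⋙ Scheme.Modules.pushforward f).Additive]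
    (hL : ∀ (j : ℕ) (p : ℕ), 1 ≤ p → IsZero (((ModSite.sheafHom (O := X.sheaf) (L.X j) ⋙ Scheme.Modules.pushforward f).rightDerived p).obj G))
    (C : CochainComplex Y.Modules ℕ)
    (e : ∀ j : ℕ, C.X j ≅ (Scheme.Modules.pushforward f).obj ((ModSite.sheafHom (O := X.sheaf) (L.X j)).obj G))
    (hC : ∀ j : ℕ, C.d j (j + 1) ≫ (e (j + 1)).hom =
      (e j).hom ≫ (Scheme.Modules.pushforward f).map ((ExtSupp.sheafHomMap (O := X.sheaf) (L.d (j + 1) j)).app G))
    (i : ℕ) :
    Nonempty (C.homology i ≅ ((ModSite.sheafHom (O := X.sheaf) F ⋙ Scheme.Modules.pushforward f).rightDerived i).obj G) := by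
  have hpl : PreservesLimitsOfSize.{u, u} (Scheme.Modules.pushforward f) :=
    (Scheme.Modules.pullbackPushforwardAdjunction f).rightAdjoint_preservesLimits
  have hpfl : PreservesFiniteLimits (Scheme.Modules.pushforward f) := ⟨fun _ _ _ => inferInstance⟩
  have hadd : (Scheme.Modules.pushforward f).Additive := inferInstance
  refine @main2 _ _ _ X.sheaf _ _ _ (Scheme.Modules.pushforward f) hadd hpfl ?_ _ F G L π ‹Epi π› hπ hex0 hex
    hL C e hC i
  intro M N φ hφ
  apply Groth.Agent.H92.SheafHomLES.epi_of_surjective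
  intro W
  exact hφ _

end Groth.Agent.S16286
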