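import Groth.Statements.S1629
import Groth.Agent.H38.GeomRedDense
import Groth.Agent.H38.RedSub
import Groth.Agent.S1628

set_option autoImplicit false
universe u
open CategoryTheory CategoryTheory.Limits AlgebraicGeometry
open Variety

namespace Groth.Agent.S1629

/-- Let X be a k-scheme locally of finite type, having only finitely many irreducible components. There
is then a finite purely inseparable extension k' of k for which the reduction of X_{k'} (the closed
subscheme defined by the nilradical) is geometrically reduced over k'. -/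
theorem result (k : Type u) [Field k] (X : Scheme.{u}) [X.Over (Spec (CommRingCat.of k))] [LocallyOfFiniteType (X ↘ (Spec (CommRingCat.of k)))]
    (hirr : (irreducibleComponents (X : Type u)).Finite) :
    ∃ (k' : Type u) (_ : Field k') (_ : Algebra k k'), FiniteDimensional k k' ∧ IsPurelyInseparable k k' ∧
      GeometricallyReduced ((Curv2.bc k X k').nilradical.subschemeι ≫ Curv2.bcSnd k X k') := by
  let f := X ↘ Spec (CommRingCat.of k)
  obtain ⟨X₀, hX₀c, hX₀d⟩ := Groth.Agent.H38.RedSub.exists_compact_dense_open X hirr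
  haveI : CompactSpace (X₀ : Scheme.{u}) := isCompact_iff_compactSpace.mp hX₀c
  haveI : QuasiCompact (X₀.ι ≫ f) := (quasiCompact_iff_compactSpace _).mpr inferInstance
  obtain ⟨U, hUd, k', hk'1, hk'2, hfin, hpi, Z, hZ, i, hi1, hi2, hi3⟩ :=
    Groth.Agent.H38.GenSmooth.main k (X₀.ι ≫ f)
  refine ⟨k', hk'1, hk'2, hfin, hpi, ?_⟩
  let q := Spec.map (CommRingCat.ofHom (algebraMap k k'))
  haveI := hi1
  let θ : pullback (U.ι ≫ X₀.ι ≫ f) q ⟶ pullback f q :=
    pullback.map (U.ι ≫ X₀.ι ≫ f) q f q (U.ι ≫ X₀.ι) (𝟙 _) (𝟙 _) (by simp) (by simp)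
  obtain ⟨j, hj1, hj2, hj3⟩ :=
    Groth.Agent.H38.RedSub.exists_openImmersion_to_nilradical_subscheme θ i hi2
  haveI : IsReduced (Curv2.bc k X k').nilradical.subscheme :=
    Groth.Agent.H38.RedSub.isReduced_nilradical_subscheme _
  letI : (Curv2.bc k X k').nilradical.subscheme.Over (Spec (CommRingCat.of k')) :=
    ⟨(Curv2.bc k X k').nilradical.subschemeι ≫ Curv2.bcSnd k X k'⟩
  haveI : LocallyOfFiniteType ((Curv2.bc k X k').nilradical.subschemeι ≫ Curv2.bcSnd k X k') :=
    inferInstance
  haveI : IsLocallyNoetherian (Curv2.bc k X k').nilradical.subscheme :=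
    LocallyOfFiniteType.isLocallyNoetherian
      ((Curv2.bc k X k').nilradical.subschemeι ≫ Curv2.bcSnd k X k')
  apply Groth.Agent.H38.GeomRedDense.geometricallyReduced_of_dense_openImmersion k' _ j
  · rw [hj3]
    have hθ : Set.range θ = (pullback.fst f q) ⁻¹' (Set.range (U.ι ≫ X₀.ι)) := by
      rw [Scheme.Pullback.range_map]
      simp
    rw [hθ]
    have hd0 : Dense (Set.range (U.ι ≫ X₀.ι)) := by
      have he : DenseRange X₀.ι := by
        rw [DenseRange, X₀.range_ι]
        exact hX₀d
      have := he.dense_image X₀.ι.continuous hUd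
      have hr : Set.range (U.ι ≫ X₀.ι) = X₀.ι '' (U : Set X₀) := by
        rw [Scheme.Hom.comp_base, TopCat.coe_comp, Set.range_comp, U.range_ι]
      rw [hr]
      exact this
    have hopen : IsOpenMap (Curv2.bc k X k').nilradical.subschemeι := by
      have hemb := (Curv2.bc k X k').nilradical.subschemeι.isClosedEmbedding.isEmbedding
      exact (isHomeomorph_iff_isEmbedding_surjective.mpr
        ⟨hemb, Groth.Agent.H38.RedSub.surjective_nilradical_subschemeι _⟩).isOpenMap
    exact (hd0.preimage (pullback.fst f q).isOpenMap).preimage hopen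
  · have hcomp : j ≫ ((Curv2.bc k X k').nilradical.subschemeι ≫ Curv2.bcSnd k X k') =
        i ≫ pullback.snd (U.ι ≫ X₀.ι ≫ f) q := by
      rw [← Category.assoc, hj2, Category.assoc]
      congr 1
      show pullback.map (U.ι ≫ X₀.ι ≫ f) q f q (U.ι ≫ X₀.ι) (𝟙 _) (𝟙 _) _ _ ≫ pullback.snd f q = _
      rw [pullback.lift_snd, Category.comp_id]
    show GeometricallyReduced
      (j ≫ ((Curv2.bc k X k').nilradical.subschemeι ≫ Curv2.bcSnd k X k'))
    rw [hcomp]
    letI : Z.Over (Spec (CommRingCat.of k')) := ⟨i ≫ pullback.snd (U.ι ≫ X₀.ι ≫ f) q⟩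
    haveI : Smooth (Z ↘ Spec (CommRingCat.of k')) := hi3
    exact (Groth.Agent.S1628.result k' Z).1

end Groth.Agent.S1629
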