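import Groth.Statements.S1630
import Mathlib.AlgebraicGeometry.PullbackCarrier

set_option autoImplicit false
universe u
open CategoryTheory CategoryTheory.Limits AlgebraicGeometry
open Variety

namespace Groth.Agent.S1630

theorem irreducibleSpace_of_open_cover {Y : Type*} [TopologicalSpace Y] {ι : Type*} [hι : Nonempty ι]
    (V : ι → Set Y) (hVo : ∀ i, IsOpen (V i)) (hV : ∀ i, IsIrreducible (V i))
    (hcov : ⋃ i, V i = Set.univ) (hmeet : ∀ i j, (V i ∩ V j).Nonempty) : IrreducibleSpace Y := by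
  obtain ⟨i₀⟩ := hι
  obtain ⟨y₀, -⟩ := (hV i₀).nonempty
  haveI : Nonempty Y := ⟨y₀⟩
  refine { isPreirreducible_univ := ?_, toNonempty := inferInstance }
  rintro A B hA hB ⟨a, -, haA⟩ ⟨b, -, hbB⟩
  obtain ⟨i, hai⟩ : ∃ i, a ∈ V i := by
    have : a ∈ ⋃ i, V i := by rw [hcov]; trivial
    simpa using this
  obtain ⟨j, hbj⟩ : ∃ j, b ∈ V j := by
    have : b ∈ ⋃ i, V i := by rw [hcov]; trivial
    simpa using this
  obtain ⟨c, hci, hcA, hcj⟩ := (hV i).2 A (V j) hA (hVo j) ⟨a, hai, haA⟩ (hmeet i j)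
  obtain ⟨d, -, hdA, hdB⟩ := (hV j).2 A B hA hB ⟨c, hcj, hcA⟩ ⟨b, hbj, hbB⟩
  exact ⟨d, trivial, hdA, hdB⟩


/-- Let X be a scheme over k. If X has a cover by a nonempty family of open subschemes, each
geometrically irreducible over k and any two of which meet, then X is geometrically irreducible over
k. -/
theorem result (k : Type u) [Field k] (X : Scheme.{u}) [X.Over (Spec (CommRingCat.of k))]
    (ι : Type u) (U : ι → X.Opens) (hne : Nonempty ι) (hcov : (⨆ i, U i) = ⊤)
    (hmeet : ∀ i j, ((U i : Set X) ∩ (U j : Set X)).Nonempty)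
    (hU : ∀ i, GeometricallyIrreducible ((U i).ι ≫ (X ↘ (Spec (CommRingCat.of k))))) : GeometricallyIrreducible (X ↘ (Spec (CommRingCat.of k))) := by
  rw [geometricallyIrreducible_iff]
  intro K _ y Z fst snd hpb
  haveI := hne
  haveI : Surjective y := inferInstance
  haveI : Surjective fst := MorphismProperty.of_isPullback hpb.flip ‹Surjective y›
  refine irreducibleSpace_of_open_cover (fun i => ((fst ⁻¹ᵁ U i : Z.Opens) : Set Z))
    (fun i => (fst ⁻¹ᵁ U i).isOpen) ?_ ?_ ?_
  · intro i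
    have hpb' : IsPullback (fst ∣_ U i) ((fst ⁻¹ᵁ U i).ι ≫ snd)
        ((U i).ι ≫ (X ↘ (Spec (CommRingCat.of k)))) y :=
      (isPullback_morphismRestrict fst (U i)).paste_vert hpb
    haveI : IrreducibleSpace ↥(fst ⁻¹ᵁ U i) :=
      (hU i).geometrically_irreducibleSpace y _ _ hpb'
    exact IsIrreducible.of_subtype
  · ext z
    simp only [Set.mem_iUnion, Set.mem_univ, iff_true]
    have : fst z ∈ (⨆ i, U i) := by rw [hcov]; trivial
    rw [TopologicalSpace.Opens.mem_iSup] at this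
    obtain ⟨i, hi⟩ := this
    exact ⟨i, hi⟩
  · intro i j
    obtain ⟨x, hxi, hxj⟩ := hmeet i j
    obtain ⟨z, rfl⟩ := fst.surjective x
    exact ⟨z, hxi, hxj⟩

end Groth.Agent.S1630
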