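import Groth.Statements.S16312
import Mathlib.Topology.Algebra.IsUniformGroup.Basic
import Mathlib.Topology.MetricSpace.Bounded
import Mathlib.Analysis.Normed.Module.FiniteDimension
import Mathlib.Topology.Order.Compact

set_option autoImplicit false
universe u
open W4c3irrattreebun

namespace Groth.Agent.S16312

/-- Let N be a closed cone in real n-space, f a function continuous on N, positive at the nonzero points
of N and homogeneous of degree one under scaling by nonnegative reals, and Λ a discrete additive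
subgroup. Then for every real c the set of points H of Λ lying in N with f(H) ≤ c is finite. (The
published statement takes Λ to be a lattice; this row allows any discrete additive subgroup.) -/
theorem result (n : ℕ)
    (N : Set (EuclideanSpace ℝ (Fin n))) (hN : IsClosed N)
    (hcone : ∀ x ∈ N, ∀ r : ℝ, 0 ≤ r → r • x ∈ N)
    (f : EuclideanSpace ℝ (Fin n) → ℝ) (hf : ContinuousOn f N)
    (hpos : ∀ x ∈ N, x ≠ 0 → 0 < f x)
    (hhom : ∀ x ∈ N, ∀ r : ℝ, 0 ≤ r → f (r • x) = r * f x)
    (Λ : Submodule ℤ (EuclideanSpace ℝ (Fin n))) [DiscreteTopology Λ] (c : ℝ) :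
    ({x : EuclideanSpace ℝ (Fin n) | x ∈ N ∧ f x ≤ c} ∩ (Λ : Set (EuclideanSpace ℝ (Fin n)))).Finite := by
  classical
  -- it suffices to show the sublevel set is bounded
  suffices hb : Bornology.IsBounded {x : EuclideanSpace ℝ (Fin n) | x ∈ N ∧ f x ≤ c} by
    change ({x : EuclideanSpace ℝ (Fin n) | x ∈ N ∧ f x ≤ c} ∩
      (Λ.toAddSubgroup : Set (EuclideanSpace ℝ (Fin n)))).Finite
    have : DiscreteTopology Λ.toAddSubgroup := (inferInstance : DiscreteTopology Λ)
    exact Metric.finite_isBounded_inter_isClosed DiscreteTopology.isDiscrete hb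
      AddSubgroup.isClosed_of_discrete
  set S : Set (EuclideanSpace ℝ (Fin n)) := N ∩ Metric.sphere 0 1 with hS
  have hScomp : IsCompact S := (isCompact_sphere 0 1).inter_left hN
  rcases S.eq_empty_or_nonempty with hSe | hSne
  · -- then `N ⊆ {0}`
    refine (Bornology.isBounded_singleton (x := (0 : EuclideanSpace ℝ (Fin n)))).subset ?_
    rintro x ⟨hxN, -⟩
    by_contra hx
    have hx0 : x ≠ 0 := hx
    have hnorm : 0 < ‖x‖ := norm_pos_iff.mpr hx0
    have : (‖x‖⁻¹ • x) ∈ S := by
      refine ⟨hcone x hxN _ (inv_nonneg.mpr hnorm.le), ?_⟩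
      rw [mem_sphere_zero_iff_norm, norm_smul, norm_inv, norm_norm, inv_mul_cancel₀ hnorm.ne']
    rw [hSe] at this
    exact this
  · obtain ⟨x₀, hx₀S, hmin⟩ := hScomp.exists_isMinOn hSne (hf.mono Set.inter_subset_left)
    have hx₀ne : x₀ ≠ 0 := by
      intro h
      have := hx₀S.2
      rw [h, mem_sphere_zero_iff_norm, norm_zero] at this
      exact zero_ne_one this
    have hm : 0 < f x₀ := hpos x₀ hx₀S.1 hx₀ne
    refine (Metric.isBounded_closedBall (x := (0 : EuclideanSpace ℝ (Fin n)))
      (r := max (c / f x₀) 0)).subset ?_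
    rintro x ⟨hxN, hxc⟩
    rw [mem_closedBall_zero_iff]
    by_cases hx0 : x = 0
    · rw [hx0, norm_zero]; exact le_max_right _ _
    · have hnorm : 0 < ‖x‖ := norm_pos_iff.mpr hx0
      have hmem : (‖x‖⁻¹ • x) ∈ S := by
        refine ⟨hcone x hxN _ (inv_nonneg.mpr hnorm.le), ?_⟩
        rw [mem_sphere_zero_iff_norm, norm_smul, norm_inv, norm_norm, inv_mul_cancel₀ hnorm.ne']
      have h1 : f x₀ ≤ f (‖x‖⁻¹ • x) := hmin hmem
      rw [hhom x hxN _ (inv_nonneg.mpr hnorm.le)] at h1
      have h2 : ‖x‖ * f x₀ ≤ f x := by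
        have := mul_le_mul_of_nonneg_left h1 hnorm.le
        rwa [← mul_assoc, mul_inv_cancel₀ hnorm.ne', one_mul] at this
      refine le_trans ?_ (le_max_left _ _)
      rw [le_div_iff₀ hm]
      exact h2.trans hxc

end Groth.Agent.S16312
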