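import Groth.Statements.S16323
import Groth.Agent.H98.GrABPoly
import Groth.Agent.H98.GrBridge
import Groth.Agent.H98.GrVan
import Groth.Agent.H58.LCDepth

set_option autoImplicit false
universe u
open GrSyz

namespace Groth.Agent.S16323

open Groth.Agent.H98.GrCat Groth.Agent.H98.GrConv Groth.Agent.H98.GrHt DirectSum

/-- Let k be an algebraically closed field of characteristic zero, S = k[x_0, …, x_n] graded by degree,
𝔪 = (x_0, …, x_n), M a finitely generated ℤ-graded S-module and F a minimal graded free resolution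
of M (finite-rank free modules with homogeneous bases, every matrix entry of every differential in
𝔪) of length exactly ℓ: F_ℓ ≠ 0 and F_i = 0 for i > ℓ, so that ℓ is the projective dimension of M.
Then ℓ + depth(𝔪, M) = n + 1, where depth(𝔪, M) is the 𝔪-depth of M (supremum in ℕ∞ of the lengths
of M-regular sequences with terms in 𝔪). (The published statement is pd M = depth(𝔪, S) − depth(𝔪,
M) for a graded ring S with maximal ideal 𝔪 and a finitely generated module of finite projective
dimension; stated here, as the text then specialises it, for the polynomial ring, where depth(𝔪, S)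
= n + 1 and the projective dimension is the length of a minimal graded free resolution.) -/
theorem result (k : Type u) [Field k] [IsAlgClosed k] [CharZero k] (n : ℕ)
    (M : Type u) [AddCommGroup M] [Module k M] [Module (MvPolynomial (Fin (n + 1)) k) M]
    [IsScalarTower k (MvPolynomial (Fin (n + 1)) k) M] [Module.Finite (MvPolynomial (Fin (n + 1)) k) M]
    (ℳ : ℤ → Submodule k M) [DirectSum.Decomposition ℳ] [SetLike.GradedSMul (GrSyz.stdGr k (Fin (n + 1))) ℳ]
    (F : GrSyz.FreeRes (GrSyz.stdGr k (Fin (n + 1))) ℳ) (hF : F.IsMinimal (GrSyz.irrel (GrSyz.stdGr k (Fin (n + 1)))).toIdeal)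
    (ℓ : ℕ) (hℓ : F.HasLengthLE ℓ) (hℓ' : F.rk ℓ ≠ 0) :
    (ℓ : ℕ∞) + LocCoh.idealDepth (GrSyz.irrel (GrSyz.stdGr k (Fin (n + 1)))).toIdeal M = ((n + 1 : ℕ) : ℕ∞) := by
  classical
  have hlen : ℓ ≤ n + 1 := by
    by_contra hcon
    exact hℓ' (hasLengthLE_of_minimal k n M ℳ F hF ℓ (by omega))
  obtain ⟨b₀⟩ : Nonempty (Fin (F.rk ℓ)) := ⟨⟨0, Nat.pos_of_ne_zero hℓ'⟩⟩
  have hA := ab_poly_vanish k n M ℳ F ℓ hℓ
  have hB := ab_poly_nonvanish k n M ℳ F hF ℓ hℓ hlen b₀
  obtain ⟨E, -⟩ : ∃ E : GrLC.StarInjRes (PA k n) (toAS ℳ), True := ⟨starInjRes _ _, trivial⟩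
  -- `M ≠ 𝔪 M`
  have hIM : (GrSyz.irrel (GrSyz.stdGr k (Fin (n + 1)))).toIdeal •
      (⊤ : Submodule (MvPolynomial (Fin (n + 1)) k) M) ≠ ⊤ := by
    intro htop
    have hbh : (⊥ : Submodule (MvPolynomial (Fin (n + 1)) k) M).IsHomogeneous (toAS ℳ) := by
      intro i m hm
      rw [(Submodule.mem_bot _).1 hm, decompose_zero, DirectSum.zero_apply, ZeroMemClass.coe_zero]
      exact zero_mem _
    have h1 := eq_top_of_smul_top_sup_eq_top (PA k n) (toAS ℳ) (stdGr_neg k (Fin (n + 1)))
      (Pm k n) (convI_irrel _) ⊥ hbh (by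
        rw [sup_bot_eq]
        exact htop)
    have hsub : Subsingleton M := by
      refine ⟨fun x y => ?_⟩
      have hx : x ∈ (⊥ : Submodule (MvPolynomial (Fin (n + 1)) k) M) := by rw [h1]; trivial
      have hy : y ∈ (⊥ : Submodule (MvPolynomial (Fin (n + 1)) k) M) := by rw [h1]; trivial
      rw [(Submodule.mem_bot _).1 hx, (Submodule.mem_bot _).1 hy]
    have : Subsingleton (GrLC.GMod.of (PA k n) M (toAS ℳ)).carrier := hsub
    exact hB (hv_subsingleton' (Pm k n) (GrLC.GMod.of (PA k n) M (toAS ℳ)) _ _)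
  have hdepth : LocCoh.idealDepth (GrSyz.irrel (GrSyz.stdGr k (Fin (n + 1)))).toIdeal M =
      ((n + 1 - ℓ : ℕ) : ℕ∞) := by
    rw [Groth.Agent.H58.LC.idealDepth_eq_iff _ _ hIM (n + 1 - ℓ)]
    refine ⟨fun i hi => ?_, ?_⟩
    · obtain ⟨e⟩ := nonempty_H_equiv E (Pm k n) i
      have := subsingleton_H_of_forall_vn E (Pm k n) i (fun j => hA i (by omega) j E)
      exact e.symm.toEquiv.subsingleton
    · obtain ⟨e⟩ := nonempty_H_equiv E (Pm k n) (n + 1 - ℓ)
      by_contra hnt
      rw [not_nontrivial_iff_subsingleton] at hnt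
      have hnt' : Subsingleton (LocCoh.H (Pm k n).toIdeal (n + 1 - ℓ) M) := hnt
      apply hB
      exact hv_of_vn E (vn_of_subsingleton E (Pm k n) _ e.toEquiv.subsingleton _)
  rw [hdepth, ← Nat.cast_add]
  congr 1
  omega

end Groth.Agent.S16323
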