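import Groth.Statements.S16324
import Groth.Agent.S16323
import Groth.Agent.H98.GrABPoly
import Groth.Agent.H98.GrPolyLen
import Groth.Agent.H98.GrBridge

set_option autoImplicit false
universe u
open GrSyz

namespace Groth.Agent.S16324

open Groth.Agent.H98.GrCat Groth.Agent.H98.GrConv Groth.Agent.H98.GrHt DirectSum

/-- Let k be an algebraically closed field of characteristic zero, S = k[x_0, …, x_n] graded by degree,
𝔪 = (x_0, …, x_n), and M a finitely generated ℤ-graded S-module which is Cohen–Macaulay: the Krull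
dimension of its support equals its 𝔪-depth. Let F be a minimal graded free resolution of M of
length exactly ℓ (F_ℓ ≠ 0, F_i = 0 for i > ℓ; so ℓ = pd M) and let ρ be its regularity: every basis
vector of F_i has degree at most ρ + i, with equality for some i and some basis vector (so ρ = reg
M). Let P be the Hilbert polynomial of M, i.e. a polynomial over ℚ with dim_k M_d = P(d) for all
sufficiently large d. Then dim_k M_d ≠ P(d) for d = ρ + ℓ − n − 1: the bound d ≥ reg M + pd M − n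
beyond which the Hilbert function agrees with the Hilbert polynomial is sharp for Cohen–Macaulay
modules. (Part (1) of the published statement, the agreement for d ≥ reg M + pd M − n, follows from
the agreement for d at least the largest generator degree minus n and is not restated.) -/
theorem result (k : Type u) [Field k] [IsAlgClosed k] [CharZero k] (n : ℕ)
    (M : Type u) [AddCommGroup M] [Module k M] [Module (MvPolynomial (Fin (n + 1)) k) M]
    [IsScalarTower k (MvPolynomial (Fin (n + 1)) k) M] [Module.Finite (MvPolynomial (Fin (n + 1)) k) M]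
    (ℳ : ℤ → Submodule k M) [DirectSum.Decomposition ℳ] [SetLike.GradedSMul (GrSyz.stdGr k (Fin (n + 1))) ℳ]
    (hCM : Module.supportDim (MvPolynomial (Fin (n + 1)) k) M = ((LocCoh.idealDepth (GrSyz.irrel (GrSyz.stdGr k (Fin (n + 1)))).toIdeal M : ℕ∞) : WithBot ℕ∞))
    (F : GrSyz.FreeRes (GrSyz.stdGr k (Fin (n + 1))) ℳ) (hF : F.IsMinimal (GrSyz.irrel (GrSyz.stdGr k (Fin (n + 1)))).toIdeal)
    (ℓ : ℕ) (hℓ : F.HasLengthLE ℓ) (hℓ' : F.rk ℓ ≠ 0)
    (ρ : ℤ) (hρ : F.IsGenLE ρ) (hρ' : ∃ (i : ℕ) (b : Fin (F.rk i)), F.deg i b = ρ + i)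
    (P : Polynomial ℚ) (hP : ∃ d₁ : ℤ, ∀ d : ℤ, d₁ ≤ d → ((Module.finrank k ↥(ℳ d) : ℤ) : ℚ) = P.eval (d : ℚ)) :
    ((Module.finrank k ↥(ℳ (ρ + ℓ - n - 1)) : ℤ) : ℚ) ≠ P.eval ((ρ + ℓ - n - 1 : ℤ) : ℚ) := by
  classical
  have hlen : ℓ ≤ n + 1 := by
    by_contra hcon
    exact hℓ' (hasLengthLE_of_minimal k n M ℳ F hF ℓ (by omega))
  have hres := Groth.Agent.S16323.result k n M ℳ F hF ℓ hℓ hℓ'
  have hdepth : LocCoh.idealDepth (GrSyz.irrel (GrSyz.stdGr k (Fin (n + 1)))).toIdeal M =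
      ((n + 1 - ℓ : ℕ) : ℕ∞) := by
    have hne : LocCoh.idealDepth (GrSyz.irrel (GrSyz.stdGr k (Fin (n + 1)))).toIdeal M ≠ ⊤ := by
      intro h
      rw [h, add_top] at hres
      exact ENat.top_ne_natCast _ hres
    obtain ⟨m, hm⟩ := ENat.ne_top_iff_exists.1 hne
    rw [← hm] at hres ⊢
    have h2 : ℓ + m = n + 1 := by exact_mod_cast hres
    have h3 : m = n + 1 - ℓ := by omega
    rw [h3]
  rw [hdepth] at hCM
  obtain ⟨E, -⟩ : ∃ E : GrLC.StarInjRes (PA k n) (toAS ℳ), True := ⟨starInjRes _ _, trivial⟩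
  have hvan : ∀ i : ℕ, i ≠ n + 1 - ℓ → ∀ j : ℤ,
      HV (Pm k n) (GrLC.GMod.of (PA k n) M (toAS ℳ)) i j := by
    intro i hi j
    rcases Nat.lt_or_gt_of_ne hi with h | h
    · exact ab_poly_vanish k n M ℳ F ℓ hℓ i (by omega) j
    · obtain ⟨e⟩ := nonempty_H_equiv E (Pm k n) i
      have hs : Subsingleton (LocCoh.H (Pm k n).toIdeal i M) := by
        apply Groth.Agent.H58.LC.subsingleton_H_of_supportDim_lt
        rw [hCM]
        exact_mod_cast h
      exact hv_of_vn E (vn_of_subsingleton E (Pm k n) i e.toEquiv.subsingleton j)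
  have hreg := (eg_main k n M ℳ F hF ρ).1 hρ
  have hnreg : ¬ F.IsGenLE (ρ - 1) := by
    intro h
    obtain ⟨i, b, hb⟩ := hρ'
    have := h i b
    omega
  have hex : ∃ (i : ℕ) (j : ℤ), ρ - 1 - (i : ℤ) < j ∧
      ¬ HV (Pm k n) (GrLC.GMod.of (PA k n) M (toAS ℳ)) i j := by
    by_contra hcon
    apply hnreg
    refine (eg_main k n M ℳ F hF (ρ - 1)).2 (fun i j hj => ?_)
    by_contra hnv
    exact hcon ⟨i, j, hj, hnv⟩
  obtain ⟨i, j, hj, hnv⟩ := hex
  have hi : i = n + 1 - ℓ := by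
    by_contra hi
    exact hnv (hvan i hi j)
  subst hi
  have hj2 : j = ρ + ℓ - n - 1 := by
    have h1 : ¬ (ρ - ((n + 1 - ℓ : ℕ) : ℤ) < j) := fun h => hnv (hreg _ j h)
    omega
  subst hj2
  have hnvE : ¬ Vn E (Pm k n) (n + 1 - ℓ) (ρ + ℓ - n - 1) := fun h => hnv (hv_of_vn E h)
  have hirr : irr (PA k n) = Pm k n := by
    apply HomogeneousIdeal.toIdeal_injective
    exact (convI_irrel _).symm
  have hstd : (irr (PA k n)).toIdeal = Ideal.span ((PA k n 1 :
      AddSubgroup (MvPolynomial (Fin (n + 1)) k)) : Set (MvPolynomial (Fin (n + 1)) k)) := by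
    rw [hirr]
    exact stdGr_hhom k (Fin (n + 1))
  have hP' : ∃ N : ℤ, ∀ m : ℤ, N ≤ m → P.eval (m : ℚ) =
      len (GrLC.deg0 (PA k n)) (GrLC.comp (PA k n) (toAS ℳ) m) := by
    obtain ⟨d₁, hd₁⟩ := hP
    refine ⟨d₁, fun m hm => ?_⟩
    rw [len_comp_eq_finrank, ← hd₁ m hm]
    exact Int.cast_natCast _
  have hS := serre_irr (PA k n) (stdGr_neg k (Fin (n + 1))) (n + 1) (dim_poly k n) hstd M
    (toAS ℳ) E P hP' (ρ + ℓ - n - 1)
  unfold chi at hS
  rw [Finset.sum_eq_single (n + 1 - ℓ)] at hS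
  · intro heq
    have h0 : len (GrLC.deg0 (PA k n))
        (E.Hcomp (irr (PA k n)) (n + 1 - ℓ) (ρ + ℓ - n - 1)) = 0 := by
      rw [len_comp_eq_finrank] at hS
      have hc : ((Module.finrank k ↥(ℳ (ρ + ℓ - n - 1)) : ℤ) : ℚ) =
          (Module.finrank k ↥(ℳ (ρ + ℓ - n - 1)) : ℚ) := Int.cast_natCast _
      rw [← hc, heq, sub_self] at hS
      rcases mul_eq_zero.1 hS.symm with h | h
      · exact absurd h (pow_ne_zero _ (by norm_num))
      · exact h
    have hsub := (len_eq_zero_iff (finLen_Hcomp (PA k n) (stdGr_neg k (Fin (n + 1))) M (toAS ℳ)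
      E (n + 1 - ℓ) (ρ + ℓ - n - 1))).1 h0
    have hbot : E.Hcomp (irr (PA k n)) (n + 1 - ℓ) (ρ + ℓ - n - 1) = ⊥ :=
      Submodule.eq_bot_of_subsingleton
    apply hnvE
    rw [← hirr]
    apply vn_of_Hgr_eq_bot
    show (E.Hcomp (irr (PA k n)) (n + 1 - ℓ) (ρ + ℓ - n - 1)).toAddSubgroup = ⊥
    rw [hbot]
    exact Submodule.bot_toAddSubgroup
  · intro i _ hi
    have hv : Vn E (irr (PA k n)) i (ρ + ℓ - n - 1) := by
      rw [hirr]
      exact hvan i hi _ E
    rw [Hcomp_eq_bot_of_vn hv, len_eq_zero_of_subsingleton, mul_zero]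
  · intro hni
    exact absurd (Finset.mem_range.2 (by omega)) hni

end Groth.Agent.S16324
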