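import Groth.Statements.S16326
import Groth.Agent.H81.CxGroupoid

set_option autoImplicit false
universe u v
open CategoryTheory
open W4c3biextchow

namespace Groth.Agent.S16326

/-- Let f : C ⟶ D be a chain map of ℕ-indexed chain complexes of modules over a ring R, and consider the
functor it induces between the groupoids attached to C and D (objects: degree-0 elements; morphisms
a ⟶ b: degree-1 elements with boundary b - a, modulo boundaries of degree-2 elements). This functor
is full if and only if f is surjective on homology in degree 1 and injective on homology in degree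
0. (The published statement is for complexes of abelian groups; this row allows modules over any
ring R.) -/
theorem result
    (R : Type u) [Ring R] (C D : ChainComplex (ModuleCat.{v} R) ℕ) (f : C ⟶ D) :
    (W4c3biextchow.cxFunctor f).Full ↔
      Epi (HomologicalComplex.homologyMap f 1) ∧ Mono (HomologicalComplex.homologyMap f 0) := by
  rw [Groth.Agent.H81.epi_H1_iff, Groth.Agent.H81.mono_H0_iff]
  constructor
  · intro hF
    refine ⟨?_, ?_⟩
    · intro y hy
      let a : Obj C := ⟨0⟩
      let χ : (cxFunctor f).obj a ⟶ (cxFunctor f).obj a :=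
        (⟨Submodule.Quotient.mk y, by simp [hy]⟩ : Hom D _ _)
      obtain ⟨φ, hφ⟩ := hF.map_surjective χ
      obtain ⟨x, hx⟩ := Submodule.Quotient.mk_surjective _ (φ : Hom C a a).cl
      have hd : (C.d 1 0).hom x = 0 := by
        rw [← delta_mk, hx, (φ : Hom C a a).delta_cl, sub_self]
      have h1 : q1Map f (φ : Hom C a a).cl = Submodule.Quotient.mk y := by
        have := congrArg W4c3biextchow.Hom.cl hφ
        simpa only [cxFunctor_map_cl] using this
      rw [← hx, q1Map_mk] at h1
      have h2 := (Submodule.Quotient.eq _).mp h1.symm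
      obtain ⟨y₁, hy₁⟩ := h2
      exact ⟨x, hd, y₁, by rw [hy₁]; abel⟩
    · intro x ⟨y, hy⟩
      let a : Obj C := ⟨0⟩
      let b : Obj C := ⟨x⟩
      let χ : (cxFunctor f).obj a ⟶ (cxFunctor f).obj b :=
        (⟨Submodule.Quotient.mk y, by simp [hy, a, b]⟩ : Hom D _ _)
      obtain ⟨φ, -⟩ := hF.map_surjective χ
      obtain ⟨x₁, hx₁⟩ := Submodule.Quotient.mk_surjective _ (φ : Hom C a b).cl
      refine ⟨x₁, ?_⟩
      rw [← delta_mk, hx₁, (φ : Hom C a b).delta_cl]
      simp [a, b]
  · rintro ⟨E1, M0⟩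
    constructor
    intro a b χ
    obtain ⟨y, hy⟩ := Submodule.Quotient.mk_surjective _ (χ : Hom D _ _).cl
    have hdy : (D.d 1 0).hom y = (f.f 0).hom (b.pt - a.pt) := by
      rw [← delta_mk, hy, (χ : Hom D _ _).delta_cl, map_sub]
      rfl
    obtain ⟨x₀, hx₀⟩ := M0 (b.pt - a.pt) ⟨y, hdy.symm⟩
    have hy' : (D.d 1 0).hom ((f.f 1).hom x₀ - y) = 0 := by
      rw [map_sub, ← Groth.Agent.H81.comm_apply, ← hx₀, hdy, sub_self]
    obtain ⟨x₁, hx₁, y₁, hy₁⟩ := E1 _ hy'
    refine ⟨(⟨Submodule.Quotient.mk (x₀ - x₁), by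
      rw [delta_mk, map_sub, ← hx₀, hx₁, sub_zero]⟩ : Hom C a b), ?_⟩
    apply W4c3biextchow.Hom.ext
    rw [cxFunctor_map_cl]
    show q1Map f (Submodule.Quotient.mk (x₀ - x₁)) = (χ : Hom D _ _).cl
    rw [q1Map_mk, ← hy, Submodule.Quotient.eq]
    refine ⟨y₁, ?_⟩
    rw [map_sub]
    have : (f.f 1).hom x₀ = y + ((f.f 1).hom x₁ + (D.d 2 1).hom y₁) := by
      rw [← hy₁]; abel
    rw [this]; abel

end Groth.Agent.S16326
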