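import Groth.Statements.S16332
import Groth.Agent.H81.ModHomology
import Mathlib

set_option autoImplicit false
universe v
open CategoryTheory MonoidalCategory
open W4c3biextchow

namespace Groth.Agent.S16332

open HomologicalComplex Limits

section Lib

variable {R : Type v} [CommRing R]

lemma happ {A B : ModuleCat.{v} R} {f g : A ⟶ B} (h : f = g) (x : A) : f.hom x = g.hom x := by
  rw [h]

variable (K L : ChainComplex (ModuleCat.{v} R) ℕ)

noncomputable abbrev TT : ChainComplex (ModuleCat.{v} R) ℕ := HomologicalComplex.tensorObj K L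

noncomputable abbrev ι (p q n : ℕ) (h : p + q = n) : K.X p ⊗ L.X q ⟶ (TT K L).X n :=
  ιTensorObj K L p q n h

noncomputable def proj (p q n : ℕ) : (TT K L).X n ⟶ K.X p ⊗ L.X q :=
  mapBifunctorDesc (fun p' q' _ => if h : p' = p ∧ q' = q then
    eqToHom (by obtain ⟨rfl, rfl⟩ := h; rfl) else 0)

@[reassoc]
lemma ι_proj_self (p q n : ℕ) (h : p + q = n) : ι K L p q n h ≫ proj K L p q n = 𝟙 _ := by
  unfold proj
  rw [ι_mapBifunctorDesc]
  simp

@[reassoc]
lemma ι_proj_ne (p' q' p q n : ℕ) (h : p' + q' = n) (hne : ¬ (p' = p ∧ q' = q)) :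
    ι K L p' q' n h ≫ proj K L p q n = 0 := by
  unfold proj
  rw [ι_mapBifunctorDesc, dif_neg hne]

lemma proj_ι (p q n : ℕ) (h : p + q = n) (a : (K.X p ⊗ L.X q : ModuleCat.{v} R)) :
    (proj K L p q n).hom ((ι K L p q n h).hom a) = a := happ (ι_proj_self K L p q n h) a

lemma proj_ι_ne (p' q' p q n : ℕ) (h : p' + q' = n) (hne : ¬ (p' = p ∧ q' = q))
    (a : (K.X p' ⊗ L.X q' : ModuleCat.{v} R)) :
    (proj K L p q n).hom ((ι K L p' q' n h).hom a) = 0 := happ (ι_proj_ne K L p' q' p q n h hne) a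

lemma id_eq₁ : 𝟙 ((TT K L).X 1) =
    proj K L 1 0 1 ≫ ι K L 1 0 1 rfl + proj K L 0 1 1 ≫ ι K L 0 1 1 rfl := by
  apply mapBifunctor.hom_ext
  intro p q h
  have h' : p + q = 1 := h
  obtain ⟨rfl, rfl⟩ | ⟨rfl, rfl⟩ : (p = 1 ∧ q = 0) ∨ (p = 0 ∧ q = 1) := by omega
  · rw [Category.comp_id, Preadditive.comp_add, ι_proj_self_assoc,
      ι_proj_ne_assoc K L 1 0 0 1 1 h (by omega), zero_comp, add_zero]
  · rw [Category.comp_id, Preadditive.comp_add, ι_proj_self_assoc,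
      ι_proj_ne_assoc K L 0 1 1 0 1 h (by omega), zero_comp, zero_add]

lemma id_eq₂ : 𝟙 ((TT K L).X 2) =
    proj K L 2 0 2 ≫ ι K L 2 0 2 rfl + proj K L 1 1 2 ≫ ι K L 1 1 2 rfl
      + proj K L 0 2 2 ≫ ι K L 0 2 2 rfl := by
  apply mapBifunctor.hom_ext
  intro p q h
  have h' : p + q = 2 := h
  obtain ⟨rfl, rfl⟩ | ⟨rfl, rfl⟩ | ⟨rfl, rfl⟩ :
    (p = 2 ∧ q = 0) ∨ (p = 1 ∧ q = 1) ∨ (p = 0 ∧ q = 2) := by omega
  · rw [Category.comp_id, Preadditive.comp_add, Preadditive.comp_add, ι_proj_self_assoc,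
      ι_proj_ne_assoc K L 2 0 1 1 2 h (by omega), ι_proj_ne_assoc K L 2 0 0 2 2 h (by omega),
      zero_comp, zero_comp, add_zero, add_zero]
  · rw [Category.comp_id, Preadditive.comp_add, Preadditive.comp_add, ι_proj_self_assoc,
      ι_proj_ne_assoc K L 1 1 2 0 2 h (by omega), ι_proj_ne_assoc K L 1 1 0 2 2 h (by omega),
      zero_comp, zero_comp, add_zero, zero_add]
  · rw [Category.comp_id, Preadditive.comp_add, Preadditive.comp_add, ι_proj_self_assoc,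
      ι_proj_ne_assoc K L 0 2 2 0 2 h (by omega), ι_proj_ne_assoc K L 0 2 1 1 2 h (by omega),
      zero_comp, zero_comp, zero_add, zero_add]

lemma dec₁ (x : (TT K L).X 1) :
    x = (ι K L 1 0 1 rfl).hom ((proj K L 1 0 1).hom x)
      + (ι K L 0 1 1 rfl).hom ((proj K L 0 1 1).hom x) :=
  happ (id_eq₁ K L) x

lemma dec₂ (x : (TT K L).X 2) :
    x = (ι K L 2 0 2 rfl).hom ((proj K L 2 0 2).hom x)
      + (ι K L 1 1 2 rfl).hom ((proj K L 1 1 2).hom x)
      + (ι K L 0 2 2 rfl).hom ((proj K L 0 2 2).hom x) :=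
  happ (id_eq₂ K L) x

/-! differentials on the summands -/

lemma d10 : ι K L 1 0 1 rfl ≫ (TT K L).d 1 0 = (K.d 1 0 ▷ L.X 0) ≫ ι K L 0 0 0 rfl := by
  rw [mapBifunctor.d_eq, Preadditive.comp_add, mapBifunctor.ι_D₁, mapBifunctor.ι_D₂]
  rw [mapBifunctor.d₁_eq K L _ _ (show (ComplexShape.down ℕ).Rel 1 0 from rfl) 0 0 rfl]
  rw [mapBifunctor.d₂_eq_zero]
  · simp
  · simp

lemma d01 : ι K L 0 1 1 rfl ≫ (TT K L).d 1 0 = (K.X 0 ◁ L.d 1 0) ≫ ι K L 0 0 0 rfl := by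
  rw [mapBifunctor.d_eq, Preadditive.comp_add, mapBifunctor.ι_D₁, mapBifunctor.ι_D₂]
  rw [mapBifunctor.d₂_eq K L _ _ 0 (show (ComplexShape.down ℕ).Rel 1 0 from rfl) 0 rfl]
  rw [mapBifunctor.d₁_eq_zero]
  · simp
  · simp

lemma d20 : ι K L 2 0 2 rfl ≫ (TT K L).d 2 1 = (K.d 2 1 ▷ L.X 0) ≫ ι K L 1 0 1 rfl := by
  rw [mapBifunctor.d_eq, Preadditive.comp_add, mapBifunctor.ι_D₁, mapBifunctor.ι_D₂]
  rw [mapBifunctor.d₁_eq K L _ _ (show (ComplexShape.down ℕ).Rel 2 1 from rfl) 0 1 rfl]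
  rw [mapBifunctor.d₂_eq_zero]
  · simp
  · simp

lemma d02 : ι K L 0 2 2 rfl ≫ (TT K L).d 2 1 = (K.X 0 ◁ L.d 2 1) ≫ ι K L 0 1 1 rfl := by
  rw [mapBifunctor.d_eq, Preadditive.comp_add, mapBifunctor.ι_D₁, mapBifunctor.ι_D₂]
  rw [mapBifunctor.d₂_eq K L _ _ 0 (show (ComplexShape.down ℕ).Rel 2 1 from rfl) 1 rfl]
  rw [mapBifunctor.d₁_eq_zero]
  · simp
  · simp

lemma d11 : ι K L 1 1 2 rfl ≫ (TT K L).d 2 1 = (K.d 1 0 ▷ L.X 1) ≫ ι K L 0 1 1 rfl
    - (K.X 1 ◁ L.d 1 0) ≫ ι K L 1 0 1 rfl := by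
  rw [mapBifunctor.d_eq, Preadditive.comp_add, mapBifunctor.ι_D₁, mapBifunctor.ι_D₂]
  rw [mapBifunctor.d₁_eq K L _ _ (show (ComplexShape.down ℕ).Rel 1 0 from rfl) 1 1 rfl]
  rw [mapBifunctor.d₂_eq K L _ _ 1 (show (ComplexShape.down ℕ).Rel 1 0 from rfl) 1 rfl]
  simp [sub_eq_add_neg]

section elem
variable {K L}

lemma d10e (a : (K.X 1 ⊗ L.X 0 : ModuleCat.{v} R)) :
    ((TT K L).d 1 0).hom ((ι K L 1 0 1 rfl).hom a) =
      (ι K L 0 0 0 rfl).hom ((K.d 1 0 ▷ L.X 0).hom a) := happ (d10 K L) a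

lemma d01e (b : (K.X 0 ⊗ L.X 1 : ModuleCat.{v} R)) :
    ((TT K L).d 1 0).hom ((ι K L 0 1 1 rfl).hom b) =
      (ι K L 0 0 0 rfl).hom ((K.X 0 ◁ L.d 1 0).hom b) := happ (d01 K L) b

lemma d20e (u : (K.X 2 ⊗ L.X 0 : ModuleCat.{v} R)) :
    ((TT K L).d 2 1).hom ((ι K L 2 0 2 rfl).hom u) =
      (ι K L 1 0 1 rfl).hom ((K.d 2 1 ▷ L.X 0).hom u) := happ (d20 K L) u

lemma d02e (r : (K.X 0 ⊗ L.X 2 : ModuleCat.{v} R)) :
    ((TT K L).d 2 1).hom ((ι K L 0 2 2 rfl).hom r) =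
      (ι K L 0 1 1 rfl).hom ((K.X 0 ◁ L.d 2 1).hom r) := happ (d02 K L) r

lemma d11e (t : (K.X 1 ⊗ L.X 1 : ModuleCat.{v} R)) :
    ((TT K L).d 2 1).hom ((ι K L 1 1 2 rfl).hom t) =
      (ι K L 0 1 1 rfl).hom ((K.d 1 0 ▷ L.X 1).hom t)
        - (ι K L 1 0 1 rfl).hom ((K.X 1 ◁ L.d 1 0).hom t) := happ (d11 K L) t

end elem

/-! the map induced on the second factor -/

variable {L} {L' : ChainComplex (ModuleCat.{v} R) ℕ} (g : L ⟶ L')

lemma ι_map (p q n : ℕ) (h : p + q = n) :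
    ι K L p q n h ≫ (HomologicalComplex.tensorHom (𝟙 K) g).f n =
      (K.X p ◁ g.f q) ≫ ι K L' p q n h := by
  rw [HomologicalComplex.tensorHom, ι_mapBifunctorMap]
  simp

lemma ι_map_e (p q n : ℕ) (h : p + q = n) (a : (K.X p ⊗ L.X q : ModuleCat.{v} R)) :
    ((HomologicalComplex.tensorHom (𝟙 K) g).f n).hom ((ι K L p q n h).hom a) =
      (ι K L' p q n h).hom ((K.X p ◁ g.f q).hom a) := happ (ι_map K g p q n h) a

end Lib

section Tensor

variable {R : Type v} [CommRing R]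

lemma proj10_ι01 (K L : ChainComplex (ModuleCat.{v} R) ℕ) (b : (K.X 0 ⊗ L.X 1 : ModuleCat.{v} R)) :
    (proj K L 1 0 1).hom ((ι K L 0 1 1 rfl).hom b) = 0 :=
  proj_ι_ne K L 0 1 1 0 1 rfl (by omega) b

lemma whiskerLeft_surj (M : ModuleCat.{v} R) {A B : ModuleCat.{v} R} (g : A ⟶ B)
    (hg : Function.Surjective g.hom) : Function.Surjective (M ◁ g).hom := by
  rw [ModuleCat.hom_whiskerLeft]
  exact LinearMap.lTensor_surjective M hg

lemma whiskerLeft_exact (M : ModuleCat.{v} R) {A B D : ModuleCat.{v} R} (f : A ⟶ B) (g : B ⟶ D)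
    (hfg : Function.Exact f.hom g.hom) (hg : Function.Surjective g.hom) :
    Function.Exact (M ◁ f).hom (M ◁ g).hom := by
  rw [ModuleCat.hom_whiskerLeft, ModuleCat.hom_whiskerLeft]
  exact lTensor_exact M hfg hg

lemma whiskerLeft_exact_flat (M : ModuleCat.{v} R) [Module.Flat R M] {A B D : ModuleCat.{v} R}
    (f : A ⟶ B) (g : B ⟶ D) (hfg : Function.Exact f.hom g.hom) :
    Function.Exact (M ◁ f).hom (M ◁ g).hom := by
  rw [ModuleCat.hom_whiskerLeft, ModuleCat.hom_whiskerLeft]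
  exact Module.Flat.lTensor_exact M hfg

lemma exch {W X Y Z : ModuleCat.{v} R} (f : W ⟶ X) (g : Y ⟶ Z)
    (z : (W ⊗ Y : ModuleCat.{v} R)) :
    (f ▷ Z).hom ((W ◁ g).hom z) = (X ◁ g).hom ((f ▷ Y).hom z) :=
  happ (whisker_exchange f g) z

lemma whiskerRight_dd (K : ChainComplex (ModuleCat.{v} R) ℕ) (A : ModuleCat.{v} R)
    (z : (K.X 2 ⊗ A : ModuleCat.{v} R)) : (K.d 1 0 ▷ A).hom ((K.d 2 1 ▷ A).hom z) = 0 := by
  have h : (K.d 2 1 ▷ A) ≫ (K.d 1 0 ▷ A) = 0 := by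
    rw [← comp_whiskerRight, K.d_comp_d]
    simp
  exact happ h z

variable (G : ModuleCat.{v} R)

/-- `G` in degree zero. -/
noncomputable abbrev SS : ChainComplex (ModuleCat.{v} R) ℕ :=
  (ChainComplex.single₀ (ModuleCat.{v} R)).obj G

lemma single_d (i j : ℕ) : (SS G).d i j = 0 := by simp

lemma single_d_apply (i j : ℕ) (y : (SS G).X i) : ((SS G).d i j).hom y = 0 := by
  rw [single_d]; rfl

lemma whiskerLeft_single_d (M : ModuleCat.{v} R) (i j : ℕ)
    (z : (M ⊗ (SS G).X i : ModuleCat.{v} R)) : (M ◁ (SS G).d i j).hom z = 0 := by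
  have h : M ◁ (SS G).d i j = 0 := by rw [single_d]; simp
  exact happ h z

lemma isZero_single (i : ℕ) (hi : i ≠ 0) : IsZero ((SS G).X i) :=
  HomologicalComplex.isZero_single_obj_X _ _ _ _ hi

lemma tensor_single_zero (M : ModuleCat.{v} R) (i : ℕ) (hi : i ≠ 0)
    (z : (M ⊗ (SS G).X i : ModuleCat.{v} R)) : z = 0 := by
  have h1 : 𝟙 ((SS G).X i) = 0 := (isZero_single G i hi).eq_of_src _ _
  have h2 : M ◁ (𝟙 ((SS G).X i)) = 0 := by rw [h1]; simp
  have h3 := happ h2 z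
  rw [MonoidalCategory.whiskerLeft_id] at h3
  exact h3

variable {G} {P : ChainComplex (ModuleCat.{v} R) ℕ} (π : P ⟶ SS G) [QuasiIso π]

lemma hprev1 : (ComplexShape.down ℕ).prev 1 = 2 := ChainComplex.prev ℕ 1
lemma hnext1 : (ComplexShape.down ℕ).next 1 = 0 := ChainComplex.next_nat_succ 0
lemma hprev0 : (ComplexShape.down ℕ).prev 0 = 1 := ChainComplex.prev ℕ 0
lemma hnext0 : (ComplexShape.down ℕ).next 0 = 0 := ChainComplex.next_nat_zero

include π in
lemma pi_surj : Function.Surjective (π.f 0).hom := by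
  intro y
  have hE : Epi (HomologicalComplex.homologyMap π 0) := inferInstance
  obtain ⟨x, -, y₁, hy⟩ := (H81.epi_homologyMap_iff_elem π 1 0 0 hprev0 hnext0).mp hE y
    (single_d_apply G 0 0 y)
  refine ⟨x, ?_⟩
  rw [hy, single_d_apply, add_zero]

include π in
lemma pi_exact0 : Function.Exact (P.d 1 0).hom (π.f 0).hom := by
  intro x
  constructor
  · intro hx
    have hM : Mono (HomologicalComplex.homologyMap π 0) := inferInstance
    have h00 : (P.d 0 0).hom x = 0 := by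
      rw [P.shape 0 0 (by simp)]; rfl
    obtain ⟨x₁, hx₁⟩ := (H81.mono_homologyMap_iff_elem π 1 0 0 hprev0 hnext0).mp hM x h00
      ⟨0, by rw [hx, map_zero]⟩
    exact ⟨x₁, hx₁.symm⟩
  · rintro ⟨x₁, rfl⟩
    rw [H81.comm_apply π 1 0 x₁, single_d_apply]

include π in
lemma P_exact1 : Function.Exact (P.d 2 1).hom (P.d 1 0).hom := by
  intro x
  constructor
  · intro hx
    have hM : Mono (HomologicalComplex.homologyMap π 1) := inferInstance
    have hπ1 : π.f 1 = 0 := (isZero_single G 1 one_ne_zero).eq_of_tgt _ _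
    have h1 : (π.f 1).hom x = 0 := by rw [hπ1]; rfl
    obtain ⟨x₁, hx₁⟩ := (H81.mono_homologyMap_iff_elem π 2 1 0 hprev1 hnext1).mp hM x hx
      ⟨0, by rw [h1, map_zero]⟩
    exact ⟨x₁, hx₁.symm⟩
  · rintro ⟨x₁, rfl⟩
    exact H81.d_comp_d_apply P 2 1 0 x₁

end Tensor

section Main

variable {R : Type v} [CommRing R]

theorem main (C P : ChainComplex (ModuleCat.{v} R) ℕ) (G : ModuleCat.{v} R)
    [Module.Flat R (C.X 0)] (π : P ⟶ SS G) [QuasiIso π] :
    IsIso (HomologicalComplex.homologyMap (HomologicalComplex.tensorHom (𝟙 C) π) 1) := by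
  have hsurj := pi_surj π
  have hex0 := pi_exact0 π
  have hex1 := P_exact1 π
  have hmono : Mono (HomologicalComplex.homologyMap (HomologicalComplex.tensorHom (𝟙 C) π) 1) := by
    rw [H81.mono_homologyMap_iff_elem (HomologicalComplex.tensorHom (𝟙 C) π) 2 1 0 hprev1 hnext1]
    rintro x hx ⟨y, hy⟩
    obtain ⟨a, b, rfl⟩ : ∃ a b, x = (ι C P 1 0 1 rfl).hom a + (ι C P 0 1 1 rfl).hom b :=
      ⟨_, _, dec₁ C P x⟩
    obtain ⟨u, w₁, w₂, rfl⟩ : ∃ u w₁ w₂, y = (ι C (SS G) 2 0 2 rfl).hom u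
        + (ι C (SS G) 1 1 2 rfl).hom w₁ + (ι C (SS G) 0 2 2 rfl).hom w₂ :=
      ⟨_, _, _, dec₂ C (SS G) y⟩
    have hc : (C.d 1 0 ▷ P.X 0).hom a + (C.X 0 ◁ P.d 1 0).hom b = 0 := by
      have h2 := congrArg (proj C P 0 0 0).hom hx
      simpa only [map_add, map_zero, d10e, d01e, proj_ι] using h2
    have h1 : (C.X 1 ◁ π.f 0).hom a = (C.d 2 1 ▷ (SS G).X 0).hom u := by
      have h2 := congrArg (proj C (SS G) 1 0 1).hom hy
      simpa only [map_add, map_sub, map_zero, ι_map_e, d20e, d11e, d02e, proj_ι, proj10_ι01,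
        whiskerLeft_single_d, add_zero, zero_add, sub_zero, sub_self] using h2
    obtain ⟨ut, rfl⟩ := whiskerLeft_surj (C.X 2) (π.f 0) hsurj u
    have h3 : (C.X 1 ◁ π.f 0).hom (a - (C.d 2 1 ▷ P.X 0).hom ut) = 0 := by
      rw [map_sub, h1, exch, sub_self]
    obtain ⟨t, ht⟩ := (whiskerLeft_exact (C.X 1) (P.d 1 0) (π.f 0) hex0 hsurj _).mp h3
    have h4 : (C.X 0 ◁ P.d 1 0).hom (b + (C.d 1 0 ▷ P.X 1).hom t) = 0 := by
      rw [map_add, ← exch, ht, map_sub, whiskerRight_dd, sub_zero, add_comm]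
      exact hc
    obtain ⟨r, hr⟩ := (whiskerLeft_exact_flat (C.X 0) (P.d 2 1) (P.d 1 0) hex1 _).mp h4
    refine ⟨(ι C P 2 0 2 rfl).hom ut - (ι C P 1 1 2 rfl).hom t + (ι C P 0 2 2 rfl).hom r, ?_⟩
    rw [map_add, map_sub, d20e, d11e, d02e, hr, ht]
    simp only [map_add, map_sub]
    abel
  have hepi : Epi (HomologicalComplex.homologyMap (HomologicalComplex.tensorHom (𝟙 C) π) 1) := by
    rw [H81.epi_homologyMap_iff_elem (HomologicalComplex.tensorHom (𝟙 C) π) 2 1 0 hprev1 hnext1]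
    intro y hy
    obtain ⟨z, z', rfl⟩ : ∃ z z', y = (ι C (SS G) 1 0 1 rfl).hom z
        + (ι C (SS G) 0 1 1 rfl).hom z' := ⟨_, _, dec₁ C (SS G) y⟩
    obtain rfl : z' = 0 := tensor_single_zero G (C.X 0) 1 one_ne_zero z'
    have hz : (C.d 1 0 ▷ (SS G).X 0).hom z = 0 := by
      have h2 := congrArg (proj C (SS G) 0 0 0).hom hy
      simpa only [map_add, map_zero, add_zero, d10e, proj_ι] using h2
    obtain ⟨zt, rfl⟩ := whiskerLeft_surj (C.X 1) (π.f 0) hsurj z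
    have h3 : (C.X 0 ◁ π.f 0).hom ((C.d 1 0 ▷ P.X 0).hom zt) = 0 := by
      rw [← exch]; exact hz
    obtain ⟨w, hw⟩ := (whiskerLeft_exact (C.X 0) (P.d 1 0) (π.f 0) hex0 hsurj _).mp h3
    have hv : (C.X 0 ◁ π.f 1).hom w = 0 := tensor_single_zero G (C.X 0) 1 one_ne_zero _
    refine ⟨(ι C P 1 0 1 rfl).hom zt - (ι C P 0 1 1 rfl).hom w, ?_, 0, ?_⟩
    · rw [map_sub, d10e, d01e, hw, sub_self]
    · simp only [map_sub, map_zero, add_zero, sub_zero, ι_map_e, hv]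
  exact isIso_of_mono_of_epi _

end Main


/-- Let R be a commutative ring, C an ℕ-indexed chain complex of R-modules whose degree-0 term C_0 is a
free R-module, G an R-module, and π : P ⟶ G[0] a quasi-isomorphism from an ℕ-indexed chain complex P
of free R-modules onto G placed in degree 0 (a free resolution of G), so that the tensor product of
complexes C ⊗ P represents the derived tensor product of C and G. Then the map induced by π on first
homology, H_1(C ⊗ P) → H_1(C ⊗ G[0]), is an isomorphism: in degree 1 the derived and the plain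
tensor product with G have the same homology. (The published statement is over the integers, for
complexes vanishing in negative degrees with C_0 free abelian; this row allows any commutative ring
R and R-modules in the same universe as R.) -/
theorem result
    (R : Type v) [CommRing R] (C P : ChainComplex (ModuleCat.{v} R) ℕ) (G : ModuleCat.{v} R)
    [Module.Free R (C.X 0)] [∀ q, Module.Free R (P.X q)]
    (π : P ⟶ (ChainComplex.single₀ (ModuleCat.{v} R)).obj G) [QuasiIso π] :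
    IsIso (HomologicalComplex.homologyMap (C ◁ π) 1) := by
  haveI : Module.Flat R (C.X 0) := inferInstance
  exact main C P G π

end Groth.Agent.S16332
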