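import Groth.Statements.S16333
import Groth.Agent.S0212
import Groth.Agent.H27.NormC1c

set_option autoImplicit false
universe u
open GalCoh

namespace Groth.Agent.S16333

/-- Let k be an algebraically closed field, K an extension field of k which is finitely generated of
transcendence degree 1 (the function field of an irreducible curve over k), and L a finite Galois
extension of K. Then (1) the norm map from L to K is surjective, and (2) a nonzero element of L has
norm 1 if and only if it lies in the subgroup of units generated by the elements w / g(w), w a unit
of L and g an automorphism of L over K. (The published statement is for the function fields of an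
irreducible curve and of a component of its preimage under a finite abelian étale cover of the
ambient variety; this row takes any finite Galois extension of a function field of transcendence
degree 1 over an algebraically closed field.) -/
theorem result
    (k : Type u) [Field k] [IsAlgClosed k] (K L : Type u) [Field K] [Field L]
    [Algebra k K] [Algebra K L] [FiniteDimensional K L] [IsGalois K L]
    (hfg : (⊤ : IntermediateField k K).FG) (htr : Algebra.trdeg k K = 1) :
    Function.Surjective (Algebra.norm K : L → K) ∧
      ∀ u : Lˣ, Algebra.norm K (u : L) = 1 ↔
        u ∈ Subgroup.closure {v : Lˣ | ∃ (w : Lˣ) (g : L ≃ₐ[K] L), (v : L) = (w : L) / g (w : L)} := by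
  classical
  have hCi : Curves.IsCi K 1 := Groth.Agent.S0212.result k K 1 htr
  refine ⟨Groth.Agent.H27.NormC1.norm_surjective_of_isCr
    (Groth.Agent.H27.NormC1.isCr_of_isCi hCi), fun u => ⟨fun h => ?_, fun h => ?_⟩⟩
  · have hNS := Groth.Agent.H27.NormC1.NS_of_isCi (K := K) (L := L) hCi
    have hprod : ∏ g : (L ≃ₐ[K] L), g • (u : L) = 1 := by
      have h1 := Algebra.norm_eq_prod_automorphisms K (u : L)
      rw [h, map_one] at h1
      rw [h1]
      exact Finset.prod_congr rfl (fun g _ => rfl)
    exact Groth.Agent.H27.NormC1.general_case hNS (L ≃ₐ[K] L) u hprod
  · let φ : Lˣ →* Kˣ := Units.map (Algebra.norm K : L →* K)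
    have hker : Subgroup.closure {v : Lˣ | ∃ (w : Lˣ) (g : L ≃ₐ[K] L),
        (v : L) = (w : L) / g (w : L)} ≤ φ.ker := by
      rw [Subgroup.closure_le]
      rintro v ⟨w, g, hvw⟩
      rw [SetLike.mem_coe, MonoidHom.mem_ker]
      apply Units.ext
      show Algebra.norm K (v : L) = 1
      have hgw : g (w : L) ≠ 0 := by simp
      have h1 : (v : L) * g (w : L) = w := by rw [hvw, div_mul_cancel₀ _ hgw]
      have h2 := congrArg (Algebra.norm K) h1
      rw [map_mul, Algebra.norm_eq_of_algEquiv] at h2
      have h3 : Algebra.norm K (w : L) ≠ 0 :=
        fun h0 => w.ne_zero (Algebra.norm_eq_zero_iff.mp h0)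
      exact mul_right_cancel₀ h3 (h2.trans (one_mul _).symm)
    have h4 := hker h
    rw [MonoidHom.mem_ker] at h4
    exact congrArg Units.val h4

end Groth.Agent.S16333
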