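import Groth.Statements.S16335
import Mathlib.Algebra.BigOperators.GroupWithZero.Action
import Mathlib.Algebra.Module.BigOperators
import Mathlib.Data.Fintype.BigOperators
import Mathlib.Algebra.Group.Units.Equiv
import Mathlib.LinearAlgebra.TensorProduct.Basic
import Mathlib.Algebra.Algebra.Subalgebra.Basic

set_option autoImplicit false
universe u v w w'
open TensorProduct
open InvTh

namespace Groth.Agent.S16335

/-- Let `R` be a commutative ring with an action of a finite group `Γ` by ring automorphisms such that
the order of `Γ` is invertible in `R`, and let `A → R` be injective with image exactly the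
invariants `R^Γ`, the action being `A`-linear. Then for every commutative `A`-algebra `S`, with `Γ`
acting on `S ⊗_A R` through the factor `R`, the map `S → S ⊗_A R`, `s ↦ s ⊗ 1`, is injective and its
image is exactly the set of `Γ`-fixed elements: `S ≅ (S ⊗_A R)^Γ`. No flatness of `S` over `A` is
assumed; the invertibility of the order of `Γ` replaces it. This is the affine statement that for a
tame quotient the coarse space commutes with arbitrary base change. (The published lemma is the
statement that the coarse moduli space of a tame Deligne–Mumford stack commutes with arbitrary base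
change, whose proof reduces to this ring statement. The published lemma also asserts the analogous
statement for the reduced fibre product when the base-change scheme is reduced; that clause is not
part of this row.) -/
theorem result
    (A : Type u) [CommRing A] (R : Type v) [CommRing R] [Algebra A R]
    (Γ : Type w) [Group Γ] [Finite Γ] [MulSemiringAction Γ R] [SMulCommClass Γ A R]
    [Algebra.IsInvariant A R Γ] (hinj : Function.Injective (algebraMap A R))
    (hΓ : IsUnit (Nat.card Γ : R))
    (S : Type w') [CommRing S] [Algebra A S] :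
    Function.Injective (fun s : S => s ⊗ₜ[A] (1 : R)) ∧
      ∀ x : S ⊗[A] R,
        (∀ γ : Γ, Algebra.TensorProduct.map (AlgHom.id A S) (MulSemiringAction.toAlgHom A R γ) x = x) →
          x ∈ Set.range (fun s : S => s ⊗ₜ[A] (1 : R)) := by
  classical
  cases nonempty_fintype Γ
  obtain ⟨u, hu⟩ := hΓ
  have hcard : (Fintype.card Γ : R) = u := by rw [hu, Nat.card_eq_fintype_card]
  have hnat : ∀ (γ : Γ) (n : ℕ), γ • (n : R) = n := fun γ n =>
    map_natCast (MulSemiringAction.toRingHom Γ R γ) n
  have hinv : ∀ γ : Γ, γ • (↑u⁻¹ : R) = ↑u⁻¹ := by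
    intro γ
    have h1 : γ • ((↑u⁻¹ : R) * (u : R)) = 1 := by rw [Units.inv_mul, smul_one]
    rw [smul_mul', ← hcard, hnat, hcard] at h1
    have h2 : (↑u⁻¹ : R) * (u : R) = 1 := Units.inv_mul u
    exact (Units.mul_left_inj u).mp (h1.trans h2.symm)
  obtain ⟨a₀, ha₀⟩ := Algebra.IsInvariant.isInvariant (A := A) (G := Γ) (↑u⁻¹ : R) hinv
  have ha₀' : a₀ * (Fintype.card Γ : A) = 1 := by
    apply hinj
    rw [map_mul, map_natCast, ha₀, hcard, Units.inv_mul, map_one]
  -- the averaging operator as an `A`-linear endomorphism of `R`
  let E : R →ₗ[A] R := a₀ • ∑ γ : Γ, (MulSemiringAction.toAlgHom A R γ).toLinearMap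
  have hE : ∀ r : R, E r = (↑u⁻¹ : R) * ∑ γ : Γ, γ • r := by
    intro r
    simp only [E, LinearMap.smul_apply, LinearMap.sum_apply, AlgHom.toLinearMap_apply,
      MulSemiringAction.toAlgHom_apply]
    rw [Algebra.smul_def, ha₀]
  have hEinv : ∀ (r : R) (γ : Γ), γ • E r = E r := by
    intro r γ
    rw [hE, smul_mul', hinv, Finset.smul_sum]
    congr 1
    simp_rw [smul_smul]
    exact Fintype.sum_bijective (fun γ' => γ * γ') (Group.mulLeft_bijective γ) _ _ (fun _ => rfl)
  have hErange : ∀ r : R, E r ∈ LinearMap.range (Algebra.linearMap A R) := by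
    intro r
    obtain ⟨a, ha⟩ := Algebra.IsInvariant.isInvariant (A := A) (G := Γ) (E r) (hEinv r)
    exact ⟨a, ha⟩
  let ρ : R →ₗ[A] A :=
    (LinearEquiv.ofInjective (Algebra.linearMap A R) hinj).symm.toLinearMap ∘ₗ
      E.codRestrict (LinearMap.range (Algebra.linearMap A R)) hErange
  have hρ : ∀ r : R, algebraMap A R (ρ r) = E r := by
    intro r
    have := (LinearEquiv.ofInjective (Algebra.linearMap A R) hinj).apply_symm_apply
      (E.codRestrict (LinearMap.range (Algebra.linearMap A R)) hErange r)
    exact congrArg Subtype.val this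
  have hE1 : E 1 = 1 := by
    rw [hE]
    simp only [smul_one, Finset.sum_const, Finset.card_univ, nsmul_eq_mul, mul_one]
    rw [hcard, Units.inv_mul]
  have hρ1 : ρ 1 = 1 := by
    apply hinj
    rw [hρ, hE1, map_one]
  let ι : S →ₗ[A] S ⊗[A] R := (TensorProduct.mk A S R).flip 1
  have hι : ∀ s : S, ι s = s ⊗ₜ[A] (1 : R) := fun s => rfl
  let π : S ⊗[A] R →ₗ[A] S := (TensorProduct.rid A S).toLinearMap ∘ₗ LinearMap.lTensor S ρ
  have hπι : ∀ s : S, π (ι s) = s := by
    intro s
    simp [π, hι, hρ1]
  refine ⟨?_, ?_⟩
  · intro s s' h
    have := congrArg π h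
    change π (ι s) = π (ι s') at this
    rwa [hπι, hπι] at this
  · intro x hx
    have key : ∀ y : S ⊗[A] R, ι (π y) = LinearMap.lTensor S E y := by
      intro y
      induction y using TensorProduct.induction_on with
      | zero => simp
      | tmul s r =>
        simp only [π, hι, LinearMap.comp_apply, LinearMap.lTensor_tmul, LinearEquiv.coe_coe,
          TensorProduct.rid_tmul]
        rw [TensorProduct.smul_tmul, Algebra.smul_def, mul_one, hρ]
      | add a b ha hb => rw [map_add, map_add, map_add, ha, hb]
    have hfix : LinearMap.lTensor S E x = x := by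
      have h3 : ∀ γ : Γ, LinearMap.lTensor S (MulSemiringAction.toAlgHom A R γ).toLinearMap x = x := by
        intro γ
        conv_rhs => rw [← hx γ]
        clear hx
        induction x using TensorProduct.induction_on with
        | zero => simp
        | tmul s r => simp
        | add a b ha hb => rw [map_add, map_add, ha, hb]
      have h4 : LinearMap.lTensor S E =
          a₀ • ∑ γ : Γ, LinearMap.lTensor S (MulSemiringAction.toAlgHom A R γ).toLinearMap := by
        simp only [E]
        rw [← LinearMap.coe_lTensorHom, map_smul, map_sum]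
      rw [h4]
      simp only [LinearMap.smul_apply, LinearMap.sum_apply, h3, Finset.sum_const, Finset.card_univ]
      rw [← Nat.cast_smul_eq_nsmul A, smul_smul, ha₀', one_smul]
    exact ⟨π x, by show ι (π x) = x; rw [key, hfix]⟩

end Groth.Agent.S16335
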