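import Groth.Statements.S16343
import Mathlib.Algebra.Category.Grp.Injective
import Mathlib.Tactic.Ring
import Mathlib.Data.Nat.Factorization.Induction
import Mathlib.GroupTheory.Divisible

set_option autoImplicit false
open KatoHom

namespace Groth.Agent.S16343

section Helpers

def PN (P : Set ℕ) (n : ℕ) : Prop := 0 < n ∧ ∀ p : ℕ, p.Prime → p ∣ n → p ∈ P
def PN' (P : Set ℕ) (n : ℕ) : Prop := 0 < n ∧ ∀ p : ℕ, p.Prime → p ∣ n → p ∉ P

theorem PN_one (P : Set ℕ) : PN P 1 :=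
  ⟨Nat.one_pos, fun _ hp h => absurd (Nat.dvd_one.mp h) hp.ne_one⟩

theorem PN'_one (P : Set ℕ) : PN' P 1 :=
  ⟨Nat.one_pos, fun _ hp h => absurd (Nat.dvd_one.mp h) hp.ne_one⟩

theorem PN_mul {P : Set ℕ} {m n : ℕ} (hm : PN P m) (hn : PN P n) : PN P (m * n) :=
  ⟨Nat.mul_pos hm.1 hn.1, fun p hp h =>
    ((Nat.Prime.dvd_mul hp).mp h).elim (hm.2 p hp) (hn.2 p hp)⟩

theorem PN'_mul {P : Set ℕ} {m n : ℕ} (hm : PN' P m) (hn : PN' P n) : PN' P (m * n) :=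
  ⟨Nat.mul_pos hm.1 hn.1, fun p hp h =>
    ((Nat.Prime.dvd_mul hp).mp h).elim (hm.2 p hp) (hn.2 p hp)⟩

theorem PN_prime {P : Set ℕ} {p : ℕ} (hp : p.Prime) (h : p ∈ P) : PN P p :=
  ⟨hp.pos, fun q hq hqp => by rw [(Nat.prime_dvd_prime_iff_eq hq hp).mp hqp]; exact h⟩

theorem PN'_prime {P : Set ℕ} {p : ℕ} (hp : p.Prime) (h : p ∉ P) : PN' P p :=
  ⟨hp.pos, fun q hq hqp => by rw [(Nat.prime_dvd_prime_iff_eq hq hp).mp hqp]; exact h⟩

theorem coprime_of_PN {P : Set ℕ} {m n : ℕ} (hm : PN P m) (hn : PN' P n) : Nat.Coprime m n :=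
  Nat.coprime_of_dvd (fun k hk hkm hkn => hn.2 k hk hkn (hm.2 k hk hkm))

theorem exists_factor (P : Set ℕ) :
    ∀ n : ℕ, n ≠ 0 → ∃ n₁ n₂, n = n₁ * n₂ ∧ PN P n₁ ∧ PN' P n₂ := by
  intro n
  induction n using Nat.recOnMul with
  | zero => intro h; exact absurd rfl h
  | one => intro _; exact ⟨1, 1, rfl, PN_one P, PN'_one P⟩
  | prime p hp =>
    intro _
    by_cases h : p ∈ P
    · exact ⟨p, 1, (mul_one p).symm, PN_prime hp h, PN'_one P⟩
    · exact ⟨1, p, (one_mul p).symm, PN_one P, PN'_prime hp h⟩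
  | mul a b iha ihb =>
    intro hab
    obtain ⟨a₁, a₂, rfl, ha1, ha2⟩ := iha (left_ne_zero_of_mul hab)
    obtain ⟨b₁, b₂, rfl, hb1, hb2⟩ := ihb (right_ne_zero_of_mul hab)
    exact ⟨a₁ * b₁, a₂ * b₂, mul_mul_mul_comm a₁ a₂ b₁ b₂, PN_mul ha1 hb1, PN'_mul ha2 hb2⟩

theorem bez (m n : ℕ) (h : Nat.Coprime m n) : ∃ u v : ℤ, (m : ℤ) * u + (n : ℤ) * v = 1 := by
  refine ⟨Nat.gcdA m n, Nat.gcdB m n, ?_⟩
  have := Nat.gcd_eq_gcd_ab m n
  rw [Nat.Coprime.gcd_eq_one h] at this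
  simpa using this.symm

theorem zero_of_coprime {G : Type*} [AddCommGroup G] (x : G) (m n : ℕ) (h : Nat.Coprime m n)
    (hm : m • x = 0) (hn : n • x = 0) : x = 0 := by
  obtain ⟨u, v, huv⟩ := bez m n h
  calc x = ((m : ℤ) * u + (n : ℤ) * v) • x := by rw [huv, one_smul]
    _ = u • (m • x) + v • (n • x) := by
        rw [add_smul, mul_comm (m : ℤ) u, mul_comm (n : ℤ) v, mul_smul, mul_smul,
          natCast_zsmul, natCast_zsmul]
    _ = 0 := by rw [hm, hn, smul_zero, smul_zero, add_zero]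

theorem kdiv {A : Type*} [AddCommGroup A] (P : Set ℕ) (K : AddSubgroup A)
    (hD : ∀ ℓ ∈ P, ∀ x ∈ K, ∃ y ∈ K, ℓ • y = x) :
    ∀ n : ℕ, PN P n → ∀ x ∈ K, ∃ y ∈ K, n • y = x := by
  intro n
  induction n using Nat.recOnMul with
  | zero => intro h; exact absurd h.1 (lt_irrefl 0)
  | one => intro _ x hx; exact ⟨x, hx, one_smul _ x⟩
  | prime p hp => intro h x hx; exact hD p (h.2 p hp dvd_rfl) x hx
  | mul a b iha ihb =>
    intro h x hx
    have ha : PN P a := ⟨Nat.pos_of_ne_zero (left_ne_zero_of_mul h.1.ne'),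
      fun p hp hpa => h.2 p hp (dvd_mul_of_dvd_left hpa b)⟩
    have hb : PN P b := ⟨Nat.pos_of_ne_zero (right_ne_zero_of_mul h.1.ne'),
      fun p hp hpb => h.2 p hp (dvd_mul_of_dvd_right hpb a)⟩
    obtain ⟨y₁, hy₁, rfl⟩ := iha ha x hx
    obtain ⟨y₂, hy₂, rfl⟩ := ihb hb y₁ hy₁
    exact ⟨y₂, hy₂, mul_smul a b y₂⟩

/-- the `P`-power torsion subgroup -/
def AP (A : Type*) [AddCommGroup A] (P : Set ℕ) : AddSubgroup A where
  carrier := {a | ∃ m, PN P m ∧ m • a = 0}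
  zero_mem' := ⟨1, PN_one P, smul_zero _⟩
  add_mem' := by
    rintro a b ⟨m, hm, hma⟩ ⟨n, hn, hnb⟩
    refine ⟨m * n, PN_mul hm hn, ?_⟩
    have h1 : (m * n) • a = 0 := by rw [mul_comm, mul_smul, hma, smul_zero]
    have h2 : (m * n) • b = 0 := by rw [mul_smul, hnb, smul_zero]
    rw [smul_add, h1, h2, add_zero]
  neg_mem' := by
    rintro a ⟨m, hm, hma⟩
    exact ⟨m, hm, by rw [smul_neg, hma, neg_zero]⟩

theorem mem_AP {A : Type*} [AddCommGroup A] {P : Set ℕ} {a : A} :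
    a ∈ AP A P ↔ ∃ m, PN P m ∧ m • a = 0 := Iff.rfl

theorem kp_div {A : Type*} [AddCommGroup A] (P : Set ℕ) (K : AddSubgroup A)
    (hD : ∀ ℓ ∈ P, ∀ x ∈ K, ∃ y ∈ K, ℓ • y = x) :
    ∀ n : ℕ, n ≠ 0 → ∀ x ∈ K ⊓ AP A P, ∃ y ∈ K ⊓ AP A P, n • y = x := by
  intro n
  induction n using Nat.recOnMul with
  | zero => intro h; exact absurd rfl h
  | one => intro _ x hx; exact ⟨x, hx, one_smul _ x⟩
  | prime p hp =>
    intro _ x hx
    obtain ⟨hxK, m, hm, hmx⟩ := AddSubgroup.mem_inf.mp hx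
    by_cases hpP : p ∈ P
    · obtain ⟨y, hyK, hy⟩ := hD p hpP x hxK
      refine ⟨y, AddSubgroup.mem_inf.mpr ⟨hyK, p * m, PN_mul (PN_prime hp hpP) hm, ?_⟩, hy⟩
      rw [mul_comm, mul_smul, hy, hmx]
    · have hcop : Nat.Coprime m p := coprime_of_PN hm (PN'_prime hp hpP)
      obtain ⟨u, v, huv⟩ := bez m p hcop
      refine ⟨v • x, (K ⊓ AP A P).zsmul_mem hx v, ?_⟩
      symm
      calc x = ((m : ℤ) * u + (p : ℤ) * v) • x := by rw [huv, one_smul]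
        _ = u • (m • x) + p • (v • x) := by
            rw [add_smul, mul_comm (m : ℤ) u, mul_smul, mul_smul, natCast_zsmul, natCast_zsmul]
        _ = p • v • x := by rw [hmx, smul_zero, zero_add]
  | mul a b iha ihb =>
    intro hab x hx
    obtain ⟨y₁, hy₁, rfl⟩ := iha (left_ne_zero_of_mul hab) x hx
    obtain ⟨y₂, hy₂, rfl⟩ := ihb (right_ne_zero_of_mul hab) y₁ hy₁
    exact ⟨y₂, hy₂, mul_smul a b y₂⟩

noncomputable def kpDivisible {A : Type*} [AddCommGroup A] (P : Set ℕ) (K : AddSubgroup A)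
    (hD : ∀ ℓ ∈ P, ∀ x ∈ K, ∃ y ∈ K, ℓ • y = x) : DivisibleBy ↥(K ⊓ AP A P) ℤ :=
  divisibleByOfSMulRightSurj _ _ (by
    intro n hn
    rintro ⟨x, hx⟩
    obtain ⟨k, rfl | rfl⟩ := Int.eq_nat_or_neg n
    · have hk : k ≠ 0 := by
        intro h
        apply hn
        rw [h]
        rfl
      obtain ⟨y, hy, hxy⟩ := kp_div P K hD k hk x hx
      refine ⟨⟨y, hy⟩, Subtype.ext ?_⟩
      show (k : ℤ) • y = x
      rw [natCast_zsmul, hxy]
    · have hk : k ≠ 0 := by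
        intro h
        apply hn
        rw [h]
        rfl
      obtain ⟨y, hy, hxy⟩ := kp_div P K hD k hk x hx
      refine ⟨⟨-y, neg_mem hy⟩, Subtype.ext ?_⟩
      show (-(k : ℤ)) • (-y) = x
      rw [neg_smul_neg, natCast_zsmul, hxy])

end Helpers

/-- Let P be a set of primes and π : A → T a surjection of abelian groups whose kernel is ℓ-divisible
for every ℓ ∈ P, with T a torsion group; let T(P) be the subgroup of elements of T killed by a
positive integer all of whose prime factors lie in P, and T' the subgroup of elements killed by a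
positive integer none of whose prime factors lies in P. Then the preimage π⁻¹(T') is ℓ-divisible for
every ℓ ∈ P, and π has a section s over T(P) for which (d, t) ↦ d + s(t) is a bijection from π⁻¹(T')
× T(P) onto A, so that A is the direct sum of π⁻¹(T') and a copy of T(P). (The decomposition is
expressed through a section of π over T(P).) -/
theorem result
    {A T : Type*} [AddCommGroup A] [AddCommGroup T] (P : Set ℕ) (hP : ∀ p ∈ P, p.Prime)
    (π : A →+ T) (hπ : Function.Surjective π) (hT : ∀ t : T, ∃ n : ℕ, 0 < n ∧ n • t = 0)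
    (hD : ∀ ℓ ∈ P, ∀ x ∈ π.ker, ∃ y ∈ π.ker, ℓ • y = x)
    (TP T' : AddSubgroup T)
    (hTP : ∀ t, t ∈ TP ↔ ∃ n : ℕ, 0 < n ∧ (∀ p : ℕ, p.Prime → p ∣ n → p ∈ P) ∧ n • t = 0)
    (hT' : ∀ t, t ∈ T' ↔ ∃ n : ℕ, 0 < n ∧ (∀ p : ℕ, p.Prime → p ∣ n → p ∉ P) ∧ n • t = 0) :
    (∀ ℓ ∈ P, ∀ x ∈ T'.comap π, ∃ y ∈ T'.comap π, ℓ • y = x) ∧
    ∃ s : TP →+ A, (∀ t : TP, π (s t) = (t : T)) ∧
      Function.Bijective (fun q : (T'.comap π) × TP => (q.1 : A) + s q.2) := by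
  classical
  have part1 : ∀ ℓ ∈ P, ∀ x ∈ T'.comap π, ∃ y ∈ T'.comap π, ℓ • y = x := by
    intro ℓ hℓ x hx
    rw [AddSubgroup.mem_comap] at hx
    obtain ⟨n, hn0, hnP, hn⟩ := (hT' _).mp hx
    have hcop : Nat.Coprime ℓ n := coprime_of_PN (PN_prime (hP ℓ hℓ) hℓ) ⟨hn0, hnP⟩
    obtain ⟨u, v, huv⟩ := bez ℓ n hcop
    have hnx : n • x ∈ π.ker := by rw [AddMonoidHom.mem_ker, map_nsmul, hn]
    obtain ⟨y', hy'K, hy'⟩ := hD ℓ hℓ _ hnx
    refine ⟨u • x + v • y', ?_, ?_⟩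
    · rw [AddSubgroup.mem_comap, map_add, map_zsmul, map_zsmul, AddMonoidHom.mem_ker.mp hy'K,
        smul_zero, add_zero]
      exact T'.zsmul_mem hx u
    · symm
      calc x = ((ℓ : ℤ) * u + (n : ℤ) * v) • x := by rw [huv, one_smul]
        _ = u • (ℓ • x) + v • (n • x) := by
            rw [add_smul, mul_comm (ℓ : ℤ) u, mul_comm (n : ℤ) v, mul_smul, mul_smul,
              natCast_zsmul, natCast_zsmul]
        _ = u • (ℓ • x) + v • (ℓ • y') := by rw [hy']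
        _ = ℓ • (u • x + v • y') := by
            rw [smul_add, smul_comm ℓ u x, smul_comm ℓ v y']
  refine ⟨part1, ?_⟩
  have hle : π.ker ⊓ AP A P ≤ AP A P := inf_le_right
  letI : DivisibleBy ↥(π.ker ⊓ AP A P) ℤ := kpDivisible P π.ker hD
  obtain ⟨r, hr⟩ := (Module.Baer.of_divisible ↥(π.ker ⊓ AP A P)).extension_property_addMonoidHom
    (AddSubgroup.inclusion hle) (AddSubgroup.inclusion_injective hle) (AddMonoidHom.id _)
  have hr' : ∀ (a : A) (ha : a ∈ π.ker ⊓ AP A P), r ⟨a, hle ha⟩ = ⟨a, ha⟩ :=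
    fun a ha => DFunLike.congr_fun hr ⟨a, ha⟩
  have hφmem : ∀ a : ↥(AP A P), (π.comp (AP A P).subtype) a ∈ TP := by
    intro a
    obtain ⟨m, hm, hma⟩ := a.2
    refine (hTP _).mpr ⟨m, hm.1, hm.2, ?_⟩
    show m • π a.1 = 0
    rw [← map_nsmul, hma, map_zero]
  obtain ⟨φ, hφ⟩ : ∃ φ : ↥(AP A P) →+ ↥TP, ∀ a, (φ a : T) = π a.1 :=
    ⟨(π.comp (AP A P).subtype).codRestrict TP hφmem, fun a => rfl⟩
  have hφsurj : Function.Surjective φ := by
    rintro ⟨t, ht⟩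
    obtain ⟨m, hm0, hmP, hmt⟩ := (hTP t).mp ht
    obtain ⟨a, rfl⟩ := hπ t
    have hma : m • a ∈ π.ker := by rw [AddMonoidHom.mem_ker, map_nsmul, hmt]
    obtain ⟨k, hkK, hk⟩ := kdiv P π.ker hD m ⟨hm0, hmP⟩ _ hma
    refine ⟨⟨a - k, m, ⟨hm0, hmP⟩, by rw [smul_sub, hk, sub_self]⟩, Subtype.ext ?_⟩
    rw [hφ]
    show π (a - k) = π a
    rw [map_sub, AddMonoidHom.mem_ker.mp hkK, sub_zero]
  obtain ⟨ψ, hψ⟩ : ∃ ψ : ↥(AP A P) →+ A, ∀ a, ψ a = a.1 - (r a).1 :=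
    ⟨(AP A P).subtype - (π.ker ⊓ AP A P).subtype.comp r, fun a => rfl⟩
  have hψker : ∀ a : ↥(AP A P), φ a = 0 → ψ a = 0 := by
    intro a ha
    have h1 : π a.1 = 0 := by rw [← hφ, ha]; rfl
    have h2 : a.1 ∈ π.ker ⊓ AP A P :=
      AddSubgroup.mem_inf.mpr ⟨AddMonoidHom.mem_ker.mpr h1, a.2⟩
    have h3 : r a = ⟨a.1, h2⟩ := hr' a.1 h2
    rw [hψ, h3, sub_self]
  have hπψ : ∀ a : ↥(AP A P), π (ψ a) = π a.1 := by
    intro a
    have h1 : π (r a).1 = 0 := AddMonoidHom.mem_ker.mp (AddSubgroup.mem_inf.mp (r a).2).1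
    rw [hψ, map_sub, h1, sub_zero]
  obtain ⟨s, hs⟩ : ∃ s : ↥TP →+ A, ∀ a, s (φ a) = ψ a := by
    have hwd : ∀ a b : ↥(AP A P), φ a = φ b → ψ a = ψ b := by
      intro a b hab
      have : ψ (a - b) = 0 := hψker _ (by rw [map_sub, hab, sub_self])
      rwa [map_sub, sub_eq_zero] at this
    refine ⟨AddMonoidHom.mk' (fun t => ψ (Classical.choose (hφsurj t))) ?_, ?_⟩
    · intro t t'
      have h1 := Classical.choose_spec (hφsurj t)
      have h2 := Classical.choose_spec (hφsurj t')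
      have h3 := Classical.choose_spec (hφsurj (t + t'))
      show ψ (Classical.choose (hφsurj (t + t'))) =
        ψ (Classical.choose (hφsurj t)) + ψ (Classical.choose (hφsurj t'))
      rw [← map_add]
      exact hwd _ _ (by rw [h3, map_add, h1, h2])
    · intro a
      show ψ (Classical.choose (hφsurj (φ a))) = ψ a
      exact hwd _ _ (Classical.choose_spec (hφsurj (φ a)))
  have hπs : ∀ t : ↥TP, π (s t) = (t : T) := by
    intro t
    obtain ⟨a, rfl⟩ := hφsurj t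
    rw [hs, hπψ, hφ]
  refine ⟨s, hπs, ?_, ?_⟩
  · rintro ⟨d, t⟩ ⟨d', t'⟩ h
    have h0 : (d : A) + s t = (d' : A) + s t' := h
    have h1 := congrArg π h0
    rw [map_add, map_add, hπs, hπs] at h1
    have h2 : (t : T) - t' = π d' - π d := by
      rw [sub_eq_sub_iff_add_eq_add, add_comm]
      exact h1
    have h3 : (t : T) - t' ∈ TP := TP.sub_mem t.2 t'.2
    have h4 : (t : T) - t' ∈ T' := by
      rw [h2]
      exact T'.sub_mem d'.2 d.2
    have h5 : (t : T) - t' = 0 := by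
      obtain ⟨m, hm0, hmP, hm⟩ := (hTP _).mp h3
      obtain ⟨n, hn0, hnP, hn⟩ := (hT' _).mp h4
      exact zero_of_coprime _ m n (coprime_of_PN ⟨hm0, hmP⟩ ⟨hn0, hnP⟩) hm hn
    have h6 : t = t' := Subtype.ext (sub_eq_zero.mp h5)
    subst h6
    have h7 : (d : A) = d' := add_right_cancel h0
    exact Prod.ext (Subtype.ext h7) rfl
  · intro a
    obtain ⟨n, hn0, hn⟩ := hT (π a)
    obtain ⟨n₁, n₂, rfl, h1, h2⟩ := exists_factor P n hn0.ne'
    have hcop := coprime_of_PN h1 h2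
    obtain ⟨u, v, huv⟩ := bez n₁ n₂ hcop
    have htP : ((n₂ : ℤ) * v) • π a ∈ TP := by
      refine (hTP _).mpr ⟨n₁, h1.1, h1.2, ?_⟩
      have e : (n₁ : ℤ) * ((n₂ : ℤ) * v) = v * ((n₁ * n₂ : ℕ) : ℤ) := by push_cast; ring
      rw [← natCast_zsmul, smul_smul, e, mul_smul, natCast_zsmul, hn, smul_zero]
    have ht' : ((n₁ : ℤ) * u) • π a ∈ T' := by
      refine (hT' _).mpr ⟨n₂, h2.1, h2.2, ?_⟩
      have e : (n₂ : ℤ) * ((n₁ : ℤ) * u) = u * ((n₁ * n₂ : ℕ) : ℤ) := by push_cast; ring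
      rw [← natCast_zsmul, smul_smul, e, mul_smul, natCast_zsmul, hn, smul_zero]
    have hsum : π a = ((n₂ : ℤ) * v) • π a + ((n₁ : ℤ) * u) • π a := by
      rw [← add_smul, add_comm, huv, one_smul]
    have hd : a - s ⟨_, htP⟩ ∈ T'.comap π := by
      rw [AddSubgroup.mem_comap, map_sub, hπs]
      show π a - ((n₂ : ℤ) * v) • π a ∈ T'
      have : π a - ((n₂ : ℤ) * v) • π a = ((n₁ : ℤ) * u) • π a := by
        rw [sub_eq_iff_eq_add, add_comm]
        exact hsum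
      rw [this]
      exact ht'
    refine ⟨(⟨a - s ⟨_, htP⟩, hd⟩, ⟨_, htP⟩), ?_⟩
    show a - s ⟨_, htP⟩ + s ⟨_, htP⟩ = a
    exact sub_add_cancel _ _

end Groth.Agent.S16343
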