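import Groth.Statements.S16344
import Mathlib.Topology.Compactness.Compact
import Mathlib.Topology.Separation.Hausdorff
import Mathlib.Topology.Algebra.Monoid
import Mathlib.Order.Directed
import Mathlib.Data.Finset.Order

set_option autoImplicit false
universe u v
open IdeleMod

namespace Groth.Agent.S16344

theorem exists_compatible {ι : Type u} [Preorder ι] [IsDirected ι (· ≤ ·)]
    (G : ι → Type v) [∀ i, TopologicalSpace (G i)] [∀ i, CompactSpace (G i)] [∀ i, T2Space (G i)]
    (f : ∀ ⦃i j : ι⦄, i ≤ j → (G j → G i)) (hf : ∀ i j (h : i ≤ j), Continuous (f h))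
    (hcomp : ∀ i j k (hij : i ≤ j) (hjk : j ≤ k) (x : G k), f hij (f hjk x) = f (hij.trans hjk) x)
    (Z : ∀ i, Set (G i)) (hZc : ∀ i, IsClosed (Z i)) (hZne : ∀ i, (Z i).Nonempty)
    (hZf : ∀ i j (h : i ≤ j), ∀ y ∈ Z j, f h y ∈ Z i) :
    ∃ z : ∀ i, G i, (∀ i j (h : i ≤ j), f h (z j) = z i) ∧ ∀ i, z i ∈ Z i := by
  classical
  rcases isEmpty_or_nonempty ι with hι | hι
  · exact ⟨fun i => isEmptyElim i, fun i => isEmptyElim i, fun i => isEmptyElim i⟩
  let S : Set (∀ i, G i) := Set.pi Set.univ Z
  have hS : IsCompact S := (isClosed_set_pi fun i _ => hZc i).isCompact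
  let T := {p : ι × ι // p.1 ≤ p.2}
  let C : T → Set (∀ i, G i) := fun p => {z | f p.2 (z p.1.2) = z p.1.1}
  have hC : ∀ p, IsClosed (C p) := fun p =>
    isClosed_eq ((hf _ _ p.2).comp (continuous_apply p.1.2)) (continuous_apply p.1.1)
  have hfip : ∀ u : Finset T, (S ∩ ⋂ p ∈ u, C p).Nonempty := by
    intro u
    obtain ⟨k, hk⟩ := Finset.exists_le (u.image (fun p : T => p.1.1) ∪ u.image (fun p : T => p.1.2))
    obtain ⟨zk, hzk⟩ := hZne k
    refine ⟨fun i => if h : i ≤ k then f h zk else (hZne i).some, ?_, ?_⟩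
    · intro i _
      show (if h : i ≤ k then f h zk else (hZne i).some) ∈ Z i
      split_ifs with h
      · exact hZf i k h zk hzk
      · exact (hZne i).some_mem
    · simp only [Set.mem_iInter]
      intro p hp
      have h1 : p.1.1 ≤ k := hk _ (Finset.mem_union_left _ (Finset.mem_image_of_mem _ hp))
      have h2 : p.1.2 ≤ k := hk _ (Finset.mem_union_right _ (Finset.mem_image_of_mem _ hp))
      show f p.2 (if h : p.1.2 ≤ k then f h zk else (hZne p.1.2).some) =
        (if h : p.1.1 ≤ k then f h zk else (hZne p.1.1).some)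
      rw [dif_pos h1, dif_pos h2, hcomp]
  obtain ⟨z, hzS, hzC⟩ := hS.inter_iInter_nonempty C hC hfip
  refine ⟨z, fun i j h => ?_, fun i => hzS i (Set.mem_univ i)⟩
  exact Set.mem_iInter.mp hzC ⟨(i, j), h⟩

/-- Let (G_i) be an inverse system, indexed by a directed preorder, of compact Hausdorff topological
abelian groups with continuous surjective transition maps, let G be its limit (the group of
compatible families) and let m be a natural number. Then the canonical map G/mG → lim G_i/mG_i is
bijective: a compatible family that lies in mG_i at every index is m times a compatible family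
(injectivity), and every family that is compatible modulo m agrees modulo m, index by index, with a
compatible family (surjectivity). -/
theorem result
    {ι : Type u} [Preorder ι] [IsDirected ι (· ≤ ·)]
    (G : ι → Type v) [∀ i, AddCommGroup (G i)] [∀ i, TopologicalSpace (G i)]
    [∀ i, IsTopologicalAddGroup (G i)] [∀ i, CompactSpace (G i)] [∀ i, T2Space (G i)]
    (f : ∀ ⦃i j : ι⦄, i ≤ j → (G j →+ G i)) (hf : ∀ i j (h : i ≤ j), Continuous (f h))
    (hid : ∀ i (x : G i), f (le_refl i) x = x)
    (hcomp : ∀ i j k (hij : i ≤ j) (hjk : j ≤ k) (x : G k), f hij (f hjk x) = f (hij.trans hjk) x)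
    (hsurj : ∀ i j (h : i ≤ j), Function.Surjective (f h)) (m : ℕ) :
    (∀ x : ∀ i, G i, (∀ i j (h : i ≤ j), f h (x j) = x i) → (∀ i, ∃ y : G i, m • y = x i) →
        ∃ z : ∀ i, G i, (∀ i j (h : i ≤ j), f h (z j) = z i) ∧ ∀ i, m • z i = x i) ∧
    (∀ y : ∀ i, G i, (∀ i j (h : i ≤ j), ∃ w : G i, f h (y j) - y i = m • w) →
        ∃ x : ∀ i, G i, (∀ i j (h : i ≤ j), f h (x j) = x i) ∧ ∀ i, ∃ w : G i, x i - y i = m • w) := by
  constructor
  · intro x hx hdiv
    obtain ⟨z, hz1, hz2⟩ := exists_compatible G (fun i j h => ⇑(f h)) hf hcomp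
      (fun i => {y | m • y = x i})
      (fun i => isClosed_singleton.preimage (continuous_nsmul m))
      (fun i => hdiv i)
      (fun i j h y hy => by
        show m • f h y = x i
        rw [← map_nsmul, show m • y = x j from hy, hx i j h])
    exact ⟨z, hz1, hz2⟩
  · intro y hy
    obtain ⟨x, hx1, hx2⟩ := exists_compatible G (fun i j h => ⇑(f h)) hf hcomp
      (fun i => Set.range (fun w : G i => y i + m • w))
      (fun i => (isCompact_range (continuous_const.add (continuous_nsmul m))).isClosed)
      (fun i => Set.range_nonempty _)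
      (fun i j h a ha => by
        obtain ⟨w, rfl⟩ := ha
        obtain ⟨w', hw'⟩ := hy i j h
        refine ⟨w' + f h w, ?_⟩
        show y i + m • (w' + f h w) = f h (y j + m • w)
        rw [map_add, map_nsmul, smul_add, ← add_assoc, ← hw']
        abel)
    refine ⟨x, hx1, fun i => ?_⟩
    obtain ⟨w, hw⟩ := hx2 i
    have hw' : y i + m • w = x i := hw
    exact ⟨w, by rw [← hw', add_sub_cancel_left]⟩

end Groth.Agent.S16344
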