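import Groth.Statements.S16346
import Mathlib.Data.Nat.Prime.Basic
import Mathlib.Algebra.Group.Subgroup.Basic
import Mathlib.Algebra.Module.NatInt
import Mathlib.Tactic.Linarith

set_option autoImplicit false
universe u v
open KatoHom

namespace Groth.Agent.S16346

/-- Let P be a set of primes and I_P the set of positive integers all of whose prime factors lie in P.
Let A be an abelian group, (B_n)_{n ∈ I_P} an inverse system of abelian groups with transition maps
B_n → B_m for m ∣ n, and φ_n : A → B_n homomorphisms vanishing on nA and compatible with the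
transition maps, so that they induce φ̂ : Â → B̂ on the limits Â = lim A/nA and B̂ = lim B_n (limits
taken as compatible families). Suppose some N ∈ I_P kills the torsion subgroup of B̂ and kills the
kernel of φ̂ (the latter meaning: a compatible family of residues (a_n) with φ_n(a_n) = 0 for all n
has N a_n ∈ nA for all n). Then the subgroup ⋂_{n ∈ I_P} nA is ℓ-divisible for every ℓ ∈ P, and it
contains every subgroup of A that is ℓ-divisible for all ℓ ∈ P; that is, it is the largest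
P-divisible subgroup of A. -/
theorem result
    {A : Type u} [AddCommGroup A] (P : Set ℕ) (hP : ∀ p ∈ P, p.Prime)
    (IP : Set ℕ) (hIP : ∀ n, n ∈ IP ↔ 0 < n ∧ ∀ p : ℕ, p.Prime → p ∣ n → p ∈ P)
    (B : IP → Type v) [∀ n, AddCommGroup (B n)]
    (g : ∀ ⦃m n : IP⦄, (m : ℕ) ∣ (n : ℕ) → (B n →+ B m))
    (hgid : ∀ (n : IP) (b : B n), g (dvd_refl (n : ℕ)) b = b)
    (hgcomp : ∀ (k m n : IP) (hkm : (k : ℕ) ∣ (m : ℕ)) (hmn : (m : ℕ) ∣ (n : ℕ)) (b : B n),
      g hkm (g hmn b) = g (hkm.trans hmn) b)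
    (φ : ∀ n : IP, A →+ B n) (hφ : ∀ (n : IP) (a : A), φ n ((n : ℕ) • a) = 0)
    (hφg : ∀ (m n : IP) (h : (m : ℕ) ∣ (n : ℕ)) (a : A), g h (φ n a) = φ m a)
    (N : ℕ) (hN : N ∈ IP)
    (htor : ∀ b : ∀ n : IP, B n, (∀ (m n : IP) (h : (m : ℕ) ∣ (n : ℕ)), g h (b n) = b m) →
      (∃ k : ℕ, 0 < k ∧ ∀ n, k • b n = 0) → ∀ n, N • b n = 0)
    (hker : ∀ a : IP → A, (∀ m n : IP, (m : ℕ) ∣ (n : ℕ) → ∃ c : A, a n - a m = (m : ℕ) • c) →
      (∀ n, φ n (a n) = 0) → ∀ n : IP, ∃ c : A, N • a n = (n : ℕ) • c) :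
    (∀ ℓ ∈ P, ∀ x : A, (∀ n ∈ IP, ∃ y : A, x = n • y) →
        ∃ y : A, (∀ n ∈ IP, ∃ z : A, y = n • z) ∧ ℓ • y = x) ∧
    (∀ H : AddSubgroup A, (∀ ℓ ∈ P, ∀ x ∈ H, ∃ y ∈ H, ℓ • y = x) →
        ∀ x ∈ H, ∀ n ∈ IP, ∃ y : A, x = n • y) := by
  have hNpos : 0 < N := ((hIP N).mp hN).1
  refine ⟨?_, ?_⟩
  · intro ℓ hℓ x hx
    have hℓp : ℓ.Prime := hP ℓ hℓ
    have hmem : ℓ * (N * N) ∈ IP := by
      rw [hIP]
      refine ⟨Nat.mul_pos hℓp.pos (Nat.mul_pos hNpos hNpos), ?_⟩
      intro q hq hqd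
      rcases (Nat.Prime.dvd_mul hq).mp hqd with h | h
      · rw [(Nat.prime_dvd_prime_iff_eq hq hℓp).mp h]; exact hℓ
      · rcases (Nat.Prime.dvd_mul hq).mp h with h | h <;> exact ((hIP N).mp hN).2 q hq h
    obtain ⟨y₂, hy₂⟩ := hx _ hmem
    refine ⟨(N * N) • y₂, ?_, ?_⟩
    · -- membership in all `n A`
      -- first: `N • φ n y₂ = 0`
      have h1 : ∀ n : IP, N • φ n y₂ = 0 := by
        refine htor (fun n => φ n y₂) (fun m n h => hφg m n h y₂) ⟨ℓ * (N * N), ?_, ?_⟩
        · exact Nat.mul_pos hℓp.pos (Nat.mul_pos hNpos hNpos)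
        · intro n
          rw [← map_nsmul, ← hy₂]
          obtain ⟨x', hx'⟩ := hx n n.2
          rw [hx', hφ]
      have h2 := hker (fun _ => N • y₂) (fun m n _ => ⟨0, by simp⟩)
        (fun n => by rw [map_nsmul]; exact h1 n)
      intro n hn
      obtain ⟨c, hc⟩ := h2 ⟨n, hn⟩
      refine ⟨c, ?_⟩
      rw [mul_smul]
      exact hc
    · rw [hy₂, mul_smul ℓ (N * N) y₂]
  · intro H hH
    have key : ∀ n : ℕ, (0 < n ∧ ∀ p : ℕ, p.Prime → p ∣ n → p ∈ P) → ∀ x ∈ H, ∃ y ∈ H, x = n • y := by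
      intro n
      induction n using Nat.strong_induction_on with
      | _ n ih =>
        intro hn x hx
        rcases Nat.lt_or_ge 1 n with h1 | h1
        · have hp : (n.minFac).Prime := Nat.minFac_prime (by omega)
          have hpd : n.minFac ∣ n := Nat.minFac_dvd n
          have hpP : n.minFac ∈ P := hn.2 _ hp hpd
          obtain ⟨m, hm⟩ := hpd
          have hmpos : 0 < m := by
            rcases Nat.eq_zero_or_pos m with h | h
            · rw [h, mul_zero] at hm; omega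
            · exact h
          have hmlt : m < n := by
            have h2 := hp.one_lt
            rw [hm]
            nlinarith
          obtain ⟨y₁, hy₁H, hy₁⟩ := hH _ hpP x hx
          obtain ⟨y₂, hy₂H, hy₂⟩ := ih m hmlt ⟨hmpos, fun q hq hqd =>
            hn.2 q hq (hm ▸ Dvd.dvd.mul_left hqd _)⟩ y₁ hy₁H
          refine ⟨y₂, hy₂H, ?_⟩
          rw [hm, mul_smul, ← hy₂, hy₁]
        · have : n = 1 := by omega
          subst this
          exact ⟨x, hx, by simp⟩
    intro x hx n hn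
    obtain ⟨y, -, hy⟩ := key n ((hIP n).mp hn) x hx
    exact ⟨y, hy⟩

end Groth.Agent.S16346
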