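import Groth.Statements.S16351
import Mathlib.Algebra.BigOperators.Fin
import Mathlib.Algebra.CharZero.Infinite
import Mathlib.LinearAlgebra.Dimension.Finite
import Mathlib.LinearAlgebra.Dimension.Constructions
import Mathlib.LinearAlgebra.Dimension.Free
import Mathlib.LinearAlgebra.FiniteDimensional.Basic
import Mathlib.Algebra.Polynomial.Roots
import Mathlib.Algebra.MvPolynomial.Rename
import Mathlib.LinearAlgebra.LinearIndependent.Lemmas

set_option autoImplicit false
universe u
open Cubic

namespace Groth.Agent.S16351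

section helpers

variable {K : Type u} [Field K]

/-- the relation among four vectors of `K^3` any three of which are independent -/
theorem exists_relation (v : Fin 4 → (Fin 3 → K))
    (h3 : ∀ i₀ : Fin 4, LinearIndependent K (fun m : Fin 3 => v (i₀.succAbove m))) :
    ∃ c : Fin 4 → K, (∑ i, c i • v i = 0) ∧ (∀ i, c i ≠ 0) ∧
      ∀ d : Fin 4 → K, ∑ i, d i • v i = 0 → ∃ μ : K, d = μ • c := by
  have hdep : ¬ LinearIndependent K v := by
    intro hli
    have h1 := hli.fintype_card_le_finrank
    simp at h1
  rw [Fintype.not_linearIndependent_iff] at hdep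
  obtain ⟨c, hc, i₁, hi₁⟩ := hdep
  have hzero : ∀ d : Fin 4 → K, ∑ i, d i • v i = 0 → ∀ i₀, d i₀ = 0 → d = 0 := by
    intro d hd i₀ hi₀
    rw [Fin.sum_univ_succAbove _ i₀, hi₀, zero_smul, zero_add] at hd
    have h1 := Fintype.linearIndependent_iff.mp (h3 i₀) (fun m => d (i₀.succAbove m)) hd
    funext i
    rcases Fin.eq_self_or_eq_succAbove i₀ i with rfl | ⟨m, rfl⟩
    · exact hi₀
    · exact h1 m
  have hcne : ∀ i, c i ≠ 0 := by
    intro i hi
    have h1 := hzero c hc i hi
    exact hi₁ (by rw [h1]; rfl)
  refine ⟨c, hc, hcne, ?_⟩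
  intro d hd
  refine ⟨d 0 / c 0, ?_⟩
  have h1 : d - (d 0 / c 0) • c = 0 := by
    apply hzero _ _ 0
    · show d 0 - d 0 / c 0 * c 0 = 0
      rw [div_mul_cancel₀ _ (hcne 0), sub_self]
    · simp only [Pi.sub_apply, Pi.smul_apply, smul_eq_mul, sub_smul, Finset.sum_sub_distrib, hd,
        mul_smul, ← Finset.smul_sum, hc, smul_zero, sub_zero]
  exact sub_eq_zero.mp h1

end helpers

/-- Let K be a field of characteristic zero and S = V(F) ⊂ P^3_K a cone over a plane cubic curve C,
normalised so that the vertex is [1 : 0 : 0 : 0], i.e. F is a homogeneous cubic in K[x_0, …, x_3]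
not involving x_0 and C = V(F) in the plane P^2 of the coordinates x_1, x_2, x_3. If C has five
K-rational points no three of which are collinear, then S has five K-rational points in general
position (no four coplanar: any four representing vectors linearly independent). -/
theorem result (K : Type u) [Field K] [CharZero K]
    (G : MvPolynomial (Fin 3) K) (hG : G.IsHomogeneous 3) (F : MvPolynomial (Fin 4) K)
    (hF : F = MvPolynomial.rename Fin.succ G)
    (b : Fin 5 → (Fin 3 → K)) (hb : ∀ j : Fin 5, MvPolynomial.eval (b j) G = 0)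
    (h3 : ∀ i j l : Fin 5, i ≠ j → j ≠ l → i ≠ l → LinearIndependent K ![b i, b j, b l]) :
    ∃ p : Fin 5 → (Fin 4 → K), (∀ j : Fin 5, MvPolynomial.eval (p j) F = 0) ∧
      ∀ j : Fin 5, LinearIndependent K (fun i : Fin 4 => p (j.succAbove i)) := by
  classical
  -- the relations
  have h3' : ∀ (j : Fin 5) (i₀ : Fin 4),
      LinearIndependent K (fun m : Fin 3 => b (j.succAbove (i₀.succAbove m))) := by
    intro j i₀
    have hinj : Function.Injective (fun m : Fin 3 => j.succAbove (i₀.succAbove m)) :=
      Fin.succAbove_right_injective.comp Fin.succAbove_right_injective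
    have h := h3 (j.succAbove (i₀.succAbove 0)) (j.succAbove (i₀.succAbove 1))
      (j.succAbove (i₀.succAbove 2))
      (fun e => absurd (hinj e) (by decide)) (fun e => absurd (hinj e) (by decide))
      (fun e => absurd (hinj e) (by decide))
    have e : (fun m : Fin 3 => b (j.succAbove (i₀.succAbove m))) =
        ![b (j.succAbove (i₀.succAbove 0)), b (j.succAbove (i₀.succAbove 1)),
          b (j.succAbove (i₀.succAbove 2))] := by
      funext m
      fin_cases m <;> rfl
    rw [e]; exact h
  choose c hc hcne hcuniq using fun j : Fin 5 =>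
    exists_relation (fun i : Fin 4 => b (j.succAbove i)) (h3' j)
  -- the polynomials
  let P : Fin 5 → Polynomial K := fun j =>
    ∑ i : Fin 4, Polynomial.C (c j i) * Polynomial.X ^ ((j.succAbove i : Fin 5) : ℕ)
  have hP : ∀ j, P j ≠ 0 := by
    intro j h
    have h1 := congrArg (fun Q : Polynomial K => Q.coeff ((j.succAbove 0 : Fin 5) : ℕ)) h
    simp only [P, Polynomial.finset_sum_coeff, Polynomial.coeff_C_mul_X_pow,
      Polynomial.coeff_zero] at h1
    rw [Finset.sum_eq_single (0 : Fin 4)] at h1
    · rw [if_pos rfl] at h1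
      exact hcne j 0 h1
    · intro i _ hi
      rw [if_neg]
      intro e
      exact hi (Fin.succAbove_right_injective (Fin.val_injective e)).symm
    · intro h0
      exact absurd (Finset.mem_univ _) h0
  have hprod : ∏ j, P j ≠ 0 := Finset.prod_ne_zero_iff.mpr fun j _ => hP j
  obtain ⟨x, hx⟩ : ∃ x : K, Polynomial.eval x (∏ j, P j) ≠ 0 := by
    by_contra hcon
    apply hprod
    apply Polynomial.zero_of_eval_zero
    intro x
    by_contra hx
    exact hcon ⟨x, hx⟩
  have hxj : ∀ j, ∑ i : Fin 4, c j i * x ^ ((j.succAbove i : Fin 5) : ℕ) ≠ 0 := by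
    intro j h
    apply hx
    rw [Polynomial.eval_prod]
    apply Finset.prod_eq_zero (Finset.mem_univ j)
    simp only [P, Polynomial.eval_finset_sum, Polynomial.eval_mul, Polynomial.eval_C,
      Polynomial.eval_pow, Polynomial.eval_X]
    exact h
  refine ⟨fun j => Fin.cons (x ^ (j : ℕ)) (b j), ?_, ?_⟩
  · intro j
    rw [hF, MvPolynomial.eval_rename, Fin.cons_comp_succ]
    exact hb j
  · intro j
    rw [Fintype.linearIndependent_iff]
    intro d hd
    have h0 := congrFun hd 0
    have hs : ∑ i, d i • b (j.succAbove i) = 0 := by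
      funext m
      have h1 := congrFun hd m.succ
      simp only [Finset.sum_apply, Pi.smul_apply, Fin.cons_succ, Pi.zero_apply] at h1 ⊢
      exact h1
    obtain ⟨μ, rfl⟩ := hcuniq j d hs
    simp only [Finset.sum_apply, Pi.smul_apply, Fin.cons_zero, Pi.zero_apply, smul_eq_mul,
      mul_assoc, ← Finset.mul_sum] at h0
    rcases mul_eq_zero.mp h0 with h | h
    · intro i
      rw [h, zero_smul]; rfl
    · exact absurd h (hxj j)

end Groth.Agent.S16351
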