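import Groth.Statements.S16353
import Mathlib.Tactic

set_option autoImplicit false
universe u
open DegLoci

namespace Groth.Agent.S16353


open MvPolynomial W4c3degenlocivb

section Apolar
variable {k : Type u} [Field k] {m : ℕ}

/-- The contraction coefficient as a product over all indices. -/
def cc (m : ℕ) (α β : Fin m →₀ ℕ) : ℕ := ∏ i : Fin m, Nat.descFactorial (β i) (α i)

theorem supp_prod_eq (α β : Fin m →₀ ℕ) (h : α ≤ β) :
    (β.support.prod fun i => Nat.descFactorial (β i) (α i)) = cc m α β := by
  unfold cc
  apply Finset.prod_subset (Finset.subset_univ _)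
  intro i _ hi
  have hb : β i = 0 := Finsupp.notMem_support_iff.mp hi
  have ha : α i = 0 := by
    have := h i
    omega
  rw [hb, ha]
  rfl

theorem coeff_contract (D G : MvPolynomial (Fin m) k) (γ : Fin m →₀ ℕ) :
    coeff γ (contract D G) =
      ∑ α ∈ D.support, coeff α D * coeff (α + γ) G * ((cc m α (α + γ) : ℕ) : k) := by
  unfold contract
  rw [coeff_sum]
  apply Finset.sum_congr rfl
  intro α _
  rw [coeff_sum]
  by_cases hmem : α + γ ∈ G.support
  · rw [Finset.sum_eq_single (α + γ)]
    · rw [if_pos (le_self_add), coeff_monomial, if_pos (add_tsub_cancel_left α γ),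
        supp_prod_eq _ _ le_self_add]
    · intro β _ hβ
      by_cases hle : α ≤ β
      · rw [if_pos hle, coeff_monomial, if_neg]
        intro h
        apply hβ
        rw [← h, add_tsub_cancel_of_le hle]
      · rw [if_neg hle, coeff_zero]
    · intro h
      exact absurd hmem h
  · have h0 : coeff (α + γ) G = 0 := notMem_support_iff.mp hmem
    rw [h0, mul_zero, zero_mul]
    apply Finset.sum_eq_zero
    intro β hβ
    by_cases hle : α ≤ β
    · rw [if_pos hle, coeff_monomial, if_neg]
      intro h
      apply hmem
      rw [← h, add_tsub_cancel_of_le hle]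
      exact hβ
    · rw [if_neg hle, coeff_zero]

theorem coeff_contract_monomial (F : MvPolynomial (Fin m) k) (γ δ : Fin m →₀ ℕ) :
    coeff δ (contract (monomial γ (1 : k)) F) =
      coeff (γ + δ) F * ((cc m γ (γ + δ) : ℕ) : k) := by
  have hs : (monomial γ (1 : k)).support = {γ} := by
    classical
    rw [support_monomial, if_neg one_ne_zero]
  rw [coeff_contract, hs, Finset.sum_singleton, coeff_monomial, if_pos rfl, one_mul]

theorem cc_identity (α γ : Fin m →₀ ℕ) :
    cc m γ (γ + α) * cc m α α = cc m γ γ * cc m α (α + γ) := by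
  unfold cc
  rw [← Finset.prod_mul_distrib, ← Finset.prod_mul_distrib]
  apply Finset.prod_congr rfl
  intro i _
  simp only [Finsupp.add_apply]
  rw [Nat.descFactorial_self, Nat.descFactorial_self]
  have h1 := Nat.factorial_mul_descFactorial (Nat.le_add_right (γ i) (α i))
  have h2 := Nat.factorial_mul_descFactorial (Nat.le_add_right (α i) (γ i))
  rw [Nat.add_sub_cancel_left] at h1 h2
  calc (γ i + α i).descFactorial (γ i) * Nat.factorial (α i)
      = Nat.factorial (α i) * (γ i + α i).descFactorial (γ i) := mul_comm _ _
    _ = Nat.factorial (γ i + α i) := h1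
    _ = Nat.factorial (α i + γ i) := by rw [Nat.add_comm]
    _ = Nat.factorial (γ i) * (α i + γ i).descFactorial (α i) := h2.symm

theorem coeff_zero_contract_partial (D F : MvPolynomial (Fin m) k) (γ : Fin m →₀ ℕ) :
    coeff 0 (contract D (contract (monomial γ (1 : k)) F)) =
      ((cc m γ γ : ℕ) : k) * coeff γ (contract D F) := by
  rw [coeff_contract, coeff_contract D F, Finset.mul_sum]
  apply Finset.sum_congr rfl
  intro α _
  rw [add_zero, coeff_contract_monomial]
  have h := cc_identity (m := m) α γ
  have h' : ((cc m γ (γ + α) : ℕ) : k) * ((cc m α α : ℕ) : k) =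
      ((cc m γ γ : ℕ) : k) * ((cc m α (α + γ) : ℕ) : k) := by
    rw [← Nat.cast_mul, ← Nat.cast_mul, h]
  have e1 : coeff (γ + α) F = coeff (α + γ) F := by rw [add_comm]
  rw [e1]
  linear_combination (coeff α D * coeff (α + γ) F) * h'

end Apolar

/-- Let k be a field of characteristic zero, R = k[y_0, …, y_{m−1}] acting on S = k[∂_0, …, ∂_{m−1}] by
apolarity (y_i acts as the derivative with respect to ∂_i), F ∈ S homogeneous of degree e and d ≤ e.
Then the degree-d part of the apolar ideal of F is the orthogonal complement of the partial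
derivatives of F of order e − d: a homogeneous D ∈ R_d satisfies D(F) = 0 if and only if D(y^α(F)) =
0 for every multi-index α with |α| = e − d (each D(y^α(F)) being a constant, the value of the
apolarity pairing of D with y^α(F)). -/
theorem result (k : Type u) [Field k] [CharZero k] (m : ℕ)
    (F : MvPolynomial (Fin m) k) (e : ℕ) (hF : F.IsHomogeneous e) (d : ℕ) (hd : d ≤ e)
    (D : MvPolynomial (Fin m) k) (hD : D.IsHomogeneous d) :
    W4c3degenlocivb.contract D F = 0 ↔
      ∀ α : Fin m →₀ ℕ, α.degree = e - d → W4c3degenlocivb.contract D (W4c3degenlocivb.contract (MvPolynomial.monomial α 1) F) = 0 := by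
  have hdegD : ∀ α ∈ D.support, α.degree = d := by
    intro α hα
    by_contra hne
    exact (MvPolynomial.mem_support_iff.mp hα) (hD.coeff_eq_zero hne)
  have hF0 : ∀ β : Fin m →₀ ℕ, β.degree ≠ e → MvPolynomial.coeff β F = 0 :=
    fun β h => hF.coeff_eq_zero h
  have hfac : ∀ γ : Fin m →₀ ℕ, ((cc m γ γ : ℕ) : k) ≠ 0 := by
    intro γ
    rw [Nat.cast_ne_zero]
    unfold cc
    rw [Finset.prod_ne_zero_iff]
    intro i _
    rw [Nat.descFactorial_self]
    exact Nat.factorial_ne_zero _
  constructor
  · intro hG γ hγ
    ext γ'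
    rw [MvPolynomial.coeff_zero]
    by_cases h0 : γ' = 0
    · rw [h0, coeff_zero_contract_partial, hG, MvPolynomial.coeff_zero, mul_zero]
    · have hne : γ'.degree ≠ 0 := fun h => h0 ((Finsupp.degree_eq_zero_iff γ').mp h)
      rw [coeff_contract]
      apply Finset.sum_eq_zero
      intro α hα
      rw [coeff_contract_monomial, hF0, zero_mul, mul_zero, zero_mul]
      rw [map_add, map_add, hγ, hdegD α hα]
      omega
  · intro h
    ext γ
    rw [MvPolynomial.coeff_zero]
    by_cases hγ : γ.degree = e - d
    · have h1 := coeff_zero_contract_partial D F γ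
      rw [h γ hγ, MvPolynomial.coeff_zero] at h1
      exact (mul_eq_zero.mp h1.symm).resolve_left (hfac γ)
    · rw [coeff_contract]
      apply Finset.sum_eq_zero
      intro α hα
      rw [hF0, mul_zero, zero_mul]
      rw [map_add, hdegD α hα]
      omega

end Groth.Agent.S16353
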