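import Groth.Statements.S16354
import Groth.Agent.H91.KL6

set_option autoImplicit false
universe u
open Cubic

namespace Groth.Agent.S16354

/-- Let k be a subfield of ℝ (a field equipped with an embedding into the reals) and S = V(F) ⊂ P^3 the
cubic surface of a homogeneous cubic F ∈ k[x_0, …, x_3] which is geometrically irreducible and not a
cone (no nonzero vector v has Σ_i v_i ∂F/∂x_i = 0). Then S admits a linear Pfaffian representation
over a real intermediate field k ⊆ E ⊆ ℝ of degree [E : k] ≤ 3. A linear Pfaffian representation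
over E is a 6 × 6 alternating matrix M of linear forms in E[x_0, …, x_3] whose Pfaffian is a nonzero
constant multiple of F; since the determinant of an alternating matrix is the square of its Pfaffian
and the polynomial ring is factorial with no nonconstant units, this is the same as det M = c · F^2
for a nonzero constant c, which is how it is written here. -/
theorem result (k : Type u) [Field k] [Algebra k ℝ]
    (F : MvPolynomial (Fin 4) k) (hF : F.IsHomogeneous 3)
    (hirr : Irreducible (MvPolynomial.map (algebraMap k (AlgebraicClosure k)) F))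
    (hcone : ¬ ∃ v : Fin 4 → k, v ≠ 0 ∧ ∑ i : Fin 4, v i • MvPolynomial.pderiv i F = 0) :
    ∃ E : IntermediateField k ℝ, FiniteDimensional k ↥E ∧ Module.finrank k ↥E ≤ 3 ∧
      ∃ M : Matrix (Fin 6) (Fin 6) (MvPolynomial (Fin 4) ↥E), (∀ i j, (M i j).IsHomogeneous 1) ∧ M.transpose = -M ∧ (∀ i, M i i = 0) ∧
        ∃ c : ↥E, c ≠ 0 ∧ M.det = MvPolynomial.C c * (MvPolynomial.map (algebraMap k ↥E) F) ^ 2 := by
  have : CharZero k := (algebraMap k ℝ).charZero
  obtain ⟨f, hfdeg, hfin⟩ := Groth.Agent.H91.KL.final.{u, 0} k F hF hirr hcone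
  obtain ⟨α₀, hα₀⟩ : ∃ α₀ : ℝ, Polynomial.aeval α₀ f = 0 := by
    have hdeg : (f.map (algebraMap k ℝ)).natDegree = 3 := by
      rw [Polynomial.natDegree_map_eq_of_injective (algebraMap k ℝ).injective, hfdeg]
    have hnirr : ¬ Irreducible (f.map (algebraMap k ℝ)) := by
      intro h
      have h2 := h.natDegree_le_two
      rw [hdeg] at h2
      omega
    have hroots : (f.map (algebraMap k ℝ)).roots ≠ 0 := fun h0 =>
      hnirr ((Polynomial.irreducible_iff_roots_eq_zero_of_degree_le_three
        (by rw [hdeg]; norm_num) (by rw [hdeg])).mpr h0)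
    obtain ⟨α₀, hα₀⟩ := Multiset.exists_mem_of_ne_zero hroots
    refine ⟨α₀, ?_⟩
    have h3 := (Polynomial.mem_roots'.mp hα₀).2
    rw [Polynomial.IsRoot.def, Polynomial.eval_map] at h3
    rw [Polynomial.aeval_def]
    exact h3
  have hf0 : f ≠ 0 := by
    intro h
    rw [h, Polynomial.natDegree_zero] at hfdeg
    omega
  have hint : IsIntegral k α₀ := isAlgebraic_iff_isIntegral.mp ⟨f, hf0, hα₀⟩
  have : Algebra.IsAlgebraic k ↥(IntermediateField.adjoin k {α₀}) :=
    IntermediateField.isAlgebraic_adjoin_simple hint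
  obtain ⟨hfd, hrank, M, hM⟩ := hfin ℝ α₀ hα₀ IsAlgClosed.lift
  exact ⟨IntermediateField.adjoin k {α₀}, hfd, hrank, M, hM⟩

end Groth.Agent.S16354
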