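import Groth.Statements.S16356
import Mathlib.RingTheory.WittVector.DiscreteValuationRing
import Mathlib.NumberTheory.Multiplicity
import Mathlib.Algebra.Ring.GeomSum
import Mathlib.Tactic.Linarith

set_option autoImplicit false
universe u
open OrdAV

namespace Groth.Agent.S16356

/-- For an odd prime p and a perfect field k of characteristic p, a root of unity in the ring of Witt
vectors W(k) whose residue in k is 1 is itself 1: if x ^ n = 1 with n ≥ 1 and the zeroth Witt
component of x is 1, then x = 1. (For p = 2 this fails: -1 in W(F_2).) -/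
theorem result (p : ℕ) [Fact p.Prime] (hp : p ≠ 2)
    (k : Type u) [Field k] [CharP k p] [PerfectRing k p]
    (x : WittVector p k) (n : ℕ) (hn : 0 < n) (hx : x ^ n = 1) (h0 : x.coeff 0 = 1) : x = 1 := by
  have hdom : IsDomain (WittVector p k) := inferInstance
  let cc : WittVector p k →+* k := WittVector.constantCoeff
  have hcc : ∀ z, cc z = z.coeff 0 := fun z => rfl
  have hccp : cc (p : WittVector p k) = 0 := by rw [map_natCast]; exact CharP.cast_eq_zero k p
  have hp_ne : (p : WittVector p k) ≠ 0 := WittVector.p_nonzero p k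
  have hp_notunit : ¬ (p : WittVector p k) ∣ 1 := by
    rintro ⟨c, hc⟩
    have h1 := congrArg cc hc
    rw [map_one, map_mul, hccp, zero_mul] at h1
    exact one_ne_zero h1
  have hpcase : ∀ x : WittVector p k, x ^ p = 1 → x.coeff 0 = 1 → x = 1 := by
    intro x hx h0
    by_contra hne
    have hy : x - 1 ≠ 0 := sub_ne_zero.mpr hne
    obtain ⟨m, b, hb, hyb⟩ := WittVector.exists_eq_pow_p_mul (x - 1) hy
    have hm : m ≠ 0 := by
      rintro rfl
      rw [pow_zero, one_mul] at hyb
      apply hb
      rw [← hyb, ← hcc, map_sub, map_one, hcc, h0, sub_self]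
    obtain ⟨m', rfl⟩ := Nat.exists_eq_succ_of_ne_zero hm
    have hxw : x = 1 + p * ((p : WittVector p k) ^ m' * b) := by
      have h1 : x - 1 = p * ((p : WittVector p k) ^ m' * b) := by rw [hyb, pow_succ]; ring
      rw [← h1]; ring
    have hgeom : (∑ i ∈ Finset.range p, x ^ i) * (x - 1) = 0 := by
      rw [geom_sum_mul, hx, sub_self]
    have hsum : ∑ i ∈ Finset.range p, x ^ i = 0 := (mul_eq_zero.mp hgeom).resolve_right hy
    have hodd : Odd p := (Fact.out : p.Prime).odd_of_ne_two hp
    have hdvd := odd_sq_dvd_geom_sum₂_sub (1 : WittVector p k) ((p : WittVector p k) ^ m' * b) hodd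
    simp only [one_pow, mul_one] at hdvd
    rw [← hxw, hsum, zero_sub, dvd_neg, pow_two] at hdvd
    have h2 : (p : WittVector p k) * p ∣ p * 1 := by rwa [mul_one]
    exact hp_notunit ((mul_dvd_mul_iff_left hp_ne).mp h2)
  induction n using Nat.strong_induction_on generalizing x with
  | _ n ih =>
    by_contra hne
    have hy : x - 1 ≠ 0 := sub_ne_zero.mpr hne
    have hgeom : (∑ i ∈ Finset.range n, x ^ i) * (x - 1) = 0 := by
      rw [geom_sum_mul, hx, sub_self]
    have hsum : ∑ i ∈ Finset.range n, x ^ i = 0 := (mul_eq_zero.mp hgeom).resolve_right hy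
    have hnk : (n : k) = 0 := by
      have h1 := congrArg cc hsum
      rw [map_sum, map_zero] at h1
      have h2 : ∀ i ∈ Finset.range n, cc (x ^ i) = 1 := by
        intro i _
        rw [map_pow, hcc, h0, one_pow]
      rw [Finset.sum_congr rfl h2, Finset.sum_const, Finset.card_range, nsmul_eq_mul,
        mul_one] at h1
      exact h1
    have hpn : p ∣ n := (CharP.cast_eq_zero_iff k p n).mp hnk
    obtain ⟨n₁, rfl⟩ := hpn
    have hp2 := (Fact.out : p.Prime).two_le
    have hn₁ : 0 < n₁ := by
      rcases Nat.eq_zero_or_pos n₁ with h | h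
      · rw [h, mul_zero] at hn; exact absurd hn (lt_irrefl _)
      · exact h
    have hlt : n₁ < p * n₁ := by nlinarith
    have hxp : x ^ p = 1 := by
      refine ih n₁ hlt (x ^ p) hn₁ ?_ ?_
      · rw [← pow_mul, hx]
      · rw [← hcc, map_pow, hcc, h0, one_pow]
    exact hne (hpcase x hxp h0)

end Groth.Agent.S16356
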