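import Groth.Statements.S16357
import Mathlib.Algebra.Polynomial.Lifts
import Mathlib.Algebra.Field.Subfield.Basic
import Mathlib.Tactic.Linarith

set_option autoImplicit false
universe u
open OrdAV

namespace Groth.Agent.S16357

/-- Over a field L of characteristic zero, a monic polynomial h whose square has rational coefficients
has rational coefficients itself. -/
theorem result (L : Type u) [Field L] [CharZero L]
    (h : Polynomial L) (hm : h.Monic) (f : Polynomial ℚ)
    (hf : h ^ 2 = Polynomial.map (algebraMap ℚ L) f) :
    ∃ g : Polynomial ℚ, Polynomial.map (algebraMap ℚ L) g = h := by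
  classical
  set K : Subfield L := (algebraMap ℚ L).fieldRange with hK
  set n := h.natDegree with hn
  have hcoefff : ∀ i, (h ^ 2).coeff i ∈ K := by
    intro i; rw [hf, Polynomial.coeff_map]; exact ⟨_, rfl⟩
  have hlead : h.coeff n = 1 := hm.coeff_natDegree
  have hbig : ∀ i, n < i → h.coeff i = 0 := fun i hi => Polynomial.coeff_eq_zero_of_natDegree_lt hi
  have key : ∀ j, j ≤ n → h.coeff (n - j) ∈ K := by
    intro j
    induction j using Nat.strong_induction_on with
    | _ j ih =>
      intro hj
      rcases Nat.eq_zero_or_pos j with rfl | hjpos
      · rw [Nat.sub_zero, hlead]; exact K.one_mem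
      · have hS := hcoefff (2 * n - j)
        rw [pow_two, Polynomial.coeff_mul] at hS
        have hmem1 : (n - j, n) ∈ Finset.antidiagonal (2 * n - j) := by
          rw [Finset.mem_antidiagonal]; omega
        have hmem2 : (n, n - j) ∈ (Finset.antidiagonal (2 * n - j)).erase (n - j, n) := by
          rw [Finset.mem_erase, Finset.mem_antidiagonal]
          refine ⟨?_, by omega⟩
          intro h
          have := congrArg Prod.fst h
          simp only at this
          omega
        rw [← Finset.add_sum_erase _ _ hmem1, ← Finset.add_sum_erase _ _ hmem2] at hS
        have hrest : ∑ x ∈ ((Finset.antidiagonal (2 * n - j)).erase (n - j, n)).erase (n, n - j),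
            h.coeff x.1 * h.coeff x.2 ∈ K := by
          refine K.sum_mem fun x hx => ?_
          rw [Finset.mem_erase, Finset.mem_erase, Finset.mem_antidiagonal] at hx
          obtain ⟨hx2, hx1, hx0⟩ := hx
          by_cases ha : n < x.1
          · rw [hbig _ ha, zero_mul]; exact K.zero_mem
          by_cases hb : n < x.2
          · rw [hbig _ hb, mul_zero]; exact K.zero_mem
          rw [not_lt] at ha hb
          have h1 : x.1 ≠ n - j := by
            intro h
            apply hx1
            ext
            · exact h
            · show x.2 = n
              omega
          have h2 : x.2 ≠ n - j := by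
            intro h
            apply hx2
            ext
            · show x.1 = n
              omega
            · exact h
          have ea : x.1 = n - (n - x.1) := by omega
          have eb : x.2 = n - (n - x.2) := by omega
          rw [ea, eb]
          exact K.mul_mem (ih (n - x.1) (by omega) (by omega)) (ih (n - x.2) (by omega) (by omega))
        simp only [hlead, mul_one, one_mul] at hS
        rw [← add_assoc] at hS
        have h2 : h.coeff (n - j) + h.coeff (n - j) ∈ K := by
          have := K.sub_mem hS hrest
          simpa using this
        have h3 : (2 : L) * h.coeff (n - j) ∈ K := by rwa [two_mul]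
        have h2K : (2 : L) ∈ K := ⟨2, by simp⟩
        have h4 : (2 : L)⁻¹ ∈ K := K.inv_mem h2K
        have := K.mul_mem h4 h3
        rwa [← mul_assoc, inv_mul_cancel₀ (two_ne_zero), one_mul] at this
  have hall : ∀ i, h.coeff i ∈ Set.range (algebraMap ℚ L) := by
    intro i
    by_cases hi : i ≤ n
    · have := key (n - i) (by omega)
      rw [show n - (n - i) = i by omega] at this
      exact this
    · rw [hbig i (by omega)]; exact ⟨0, map_zero _⟩
  exact (Polynomial.mem_lifts _).mp ((Polynomial.lifts_iff_coeff_lifts _).mpr hall)

end Groth.Agent.S16357
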