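import Groth.Statements.S16358
import Mathlib.RingTheory.WittVector.Domain
import Mathlib.RingTheory.WittVector.Identities
import Mathlib.LinearAlgebra.TensorProduct.Quotient
import Mathlib.Algebra.Module.Torsion.Free
import Mathlib.RingTheory.Ideal.Operations

set_option autoImplicit false
universe u v w
open OrdAV

namespace Groth.Agent.S16358

/-- Let k be a perfect field of characteristic p > 0 and W = W(k); let M be a finitely generated free
W-module on which a finite group G acts W-linearly, with invariant submodule M^G. Then the map
(W/pW) ⊗ M^G → (W/pW) ⊗ M induced by the inclusion is injective. Since M^G is free, this implies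
rank_W M^G ≤ dim_k (M/pM)^G; the published statement is that inequality, and this row states the
stronger injectivity. -/
theorem result (p : ℕ) [Fact p.Prime]
    (k : Type u) [Field k] [CharP k p] [PerfectRing k p]
    (M : Type v) [AddCommGroup M] [Module (WittVector p k) M]
    [Module.Free (WittVector p k) M] [Module.Finite (WittVector p k) M]
    (G : Type w) [Group G] [Finite G] (ρ : Representation (WittVector p k) G M) :
    Function.Injective
      (LinearMap.lTensor (WittVector p k ⧸ Ideal.span {(p : WittVector p k)}) ρ.invariants.subtype) := by
  classical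
  have hdom : IsDomain (WittVector p k) := inferInstance
  have hp_ne : (p : WittVector p k) ≠ 0 := WittVector.p_nonzero p k
  -- saturation of the invariants
  have hsat : ∀ m : M, (p : WittVector p k) • m ∈ ρ.invariants → m ∈ ρ.invariants := by
    intro m hm
    rw [Representation.mem_invariants] at hm ⊢
    intro g
    have h1 := hm g
    rw [map_smul] at h1
    exact (smul_right_inj hp_ne).mp h1
  have hle : Ideal.span {(p : WittVector p k)} • (⊤ : Submodule (WittVector p k) ρ.invariants) ≤
      (Ideal.span {(p : WittVector p k)} • (⊤ : Submodule (WittVector p k) M)).comap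
        ρ.invariants.subtype := by
    rw [Submodule.smul_le]
    intro r hr n _
    rw [Submodule.mem_comap, map_smul]
    exact Submodule.smul_mem_smul hr Submodule.mem_top
  have hsq : (TensorProduct.quotTensorEquivQuotSMul M (Ideal.span {(p : WittVector p k)})).toLinearMap ∘ₗ
      LinearMap.lTensor (WittVector p k ⧸ Ideal.span {(p : WittVector p k)}) ρ.invariants.subtype =
      Submodule.mapQ _ _ ρ.invariants.subtype hle ∘ₗ
        (TensorProduct.quotTensorEquivQuotSMul ρ.invariants
          (Ideal.span {(p : WittVector p k)})).toLinearMap := by
    apply TensorProduct.ext'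
    intro r n
    obtain ⟨r, rfl⟩ := Ideal.Quotient.mk_surjective r
    simp only [LinearMap.comp_apply, LinearEquiv.coe_coe, LinearMap.lTensor_tmul]
    rw [TensorProduct.quotTensorEquivQuotSMul_mk_tmul, TensorProduct.quotTensorEquivQuotSMul_mk_tmul,
      Submodule.mapQ_apply, map_smul]
  have hq : Function.Injective (Submodule.mapQ _ _ ρ.invariants.subtype hle) := by
    rw [injective_iff_map_eq_zero]
    intro x hx
    obtain ⟨n, rfl⟩ := Submodule.Quotient.mk_surjective _ x
    rw [Submodule.mapQ_apply, Submodule.Quotient.mk_eq_zero] at hx
    rw [Submodule.Quotient.mk_eq_zero]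
    rw [Submodule.ideal_span_singleton_smul, Submodule.mem_smul_pointwise_iff_exists] at hx ⊢
    obtain ⟨m, -, hm⟩ := hx
    have hmN : m ∈ ρ.invariants := hsat m (by rw [hm]; exact n.2)
    exact ⟨⟨m, hmN⟩, Submodule.mem_top, Subtype.ext hm⟩
  have hcomp : Function.Injective
      ((TensorProduct.quotTensorEquivQuotSMul M (Ideal.span {(p : WittVector p k)})).toLinearMap ∘ₗ
        LinearMap.lTensor (WittVector p k ⧸ Ideal.span {(p : WittVector p k)})
          ρ.invariants.subtype) := by
    rw [hsq]
    exact hq.comp (LinearEquiv.injective _)
  intro a b hab
  apply hcomp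
  simp only [LinearMap.comp_apply, hab]

end Groth.Agent.S16358
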