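import Groth.Statements.S16361
import Groth.Agent.S6416
import Groth.Agent.H32.FibProd

set_option autoImplicit false
universe v u
open CategoryTheory CategoryTheory.Limits
open FibCat

namespace Groth.Agent.S16361

open Groth.Agent.H32.FibProd

theorem pi2_isFibGrpd {S : Type u} [Category.{v} S] {X : Type u} [Category.{v} X]
    {Y : Type u} [Category.{v} Y] (πX : X ⥤ S) (hX : FibCat.IsFibGrpd πX) (F : Y ⥤ X)
    (hY : FibCat.IsFibGrpd (F ⋙ πX)) :
    FibCat.IsFibGrpd (CategoricalPullback.π₂ F (𝟭 X)) := by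
  refine ⟨?_, ?_⟩
  · intro z x' f
    obtain ⟨f', hf'⟩ : ∃ f' : x' ⟶ z.snd, f' = f := ⟨f, rfl⟩
    let g : πX.obj x' ⟶ πX.obj z.snd := πX.map f'
    let h : πX.obj x' ⟶ (F ⋙ πX).obj z.fst := g ≫ πX.map z.iso.inv
    obtain ⟨y', ψ, hψ⟩ := hY.exists_lift (x := z.fst) h
    have hFψ : πX.IsHomLift h (F.map ψ) := (isHomLift_comp_iff πX F h ψ).mp hψ
    have hiso : πX.IsHomLift (πX.map z.iso.hom) z.iso.hom := inferInstance
    have hc' : πX.IsHomLift (h ≫ πX.map z.iso.hom) (F.map ψ ≫ z.iso.hom) := inferInstance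
    have e : h ≫ πX.map z.iso.hom = g := by
      change (g ≫ πX.map z.iso.inv) ≫ πX.map z.iso.hom = g
      rw [Category.assoc, ← πX.map_comp, Iso.inv_hom_id, πX.map_id, Category.comp_id]
    rw [e] at hc'
    have sc : πX.IsStronglyCartesian g f' := hX.isStronglyCartesian f'
    have hid : g = 𝟙 (πX.obj x') ≫ g := (Category.id_comp g).symm
    let φ' : F.obj y' ⟶ x' :=
      Functor.IsStronglyCartesian.map πX g f' hid (F.map ψ ≫ z.iso.hom)
    have hφ'l : πX.IsHomLift (𝟙 (πX.obj x')) φ' := inferInstance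
    have fac : φ' ≫ f' = F.map ψ ≫ z.iso.hom :=
      Functor.IsStronglyCartesian.fac πX g f' hid (F.map ψ ≫ z.iso.hom)
    have hφ'i : IsIso φ' := isIso_of_isFibGrpd πX hX (𝟙 (πX.obj x')) φ'
    let z' : CategoricalPullback F (𝟭 X) := ⟨y', x', asIso φ'⟩
    let m : z' ⟶ z := ⟨ψ, f', fac.symm⟩
    subst hf'
    exact ⟨z', m, inferInstanceAs ((CategoricalPullback.π₂ F (𝟭 X)).IsHomLift
      ((CategoricalPullback.π₂ F (𝟭 X)).map m) m)⟩
  · intro z' z m
    refine ⟨?_⟩
    intro z'' g m' hm'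
    obtain ⟨g', hg'⟩ : ∃ g' : z''.snd ⟶ z'.snd, g' = g := ⟨g, rfl⟩
    have h1 : g' ≫ m.snd = m'.snd := by
      rw [hg']
      exact IsHomLift.eq_of_isHomLift (CategoricalPullback.π₂ F (𝟭 X))
        (g ≫ (CategoricalPullback.π₂ F (𝟭 X)).map m) m'
    have w : F.map m.fst ≫ z.iso.hom = z'.iso.hom ≫ m.snd := m.w
    have w' : F.map m'.fst ≫ z.iso.hom = z''.iso.hom ≫ m'.snd := m'.w
    let k : (F ⋙ πX).obj z''.fst ⟶ (F ⋙ πX).obj z'.fst :=
      πX.map (z''.iso.hom ≫ g' ≫ z'.iso.inv)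
    have hk : (F ⋙ πX).map m'.fst = k ≫ (F ⋙ πX).map m.fst := by
      change πX.map (F.map m'.fst) = πX.map (z''.iso.hom ≫ g' ≫ z'.iso.inv) ≫ πX.map (F.map m.fst)
      rw [← πX.map_comp]
      congr 1
      have e1 : F.map m.fst = z'.iso.hom ≫ m.snd ≫ z.iso.inv := by
        rw [← Category.assoc, Iso.eq_comp_inv]; exact w
      have e2 : F.map m'.fst = z''.iso.hom ≫ m'.snd ≫ z.iso.inv := by
        rw [← Category.assoc, Iso.eq_comp_inv]; exact w'
      rw [e1, e2, ← h1]
      simp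
    have scm : (F ⋙ πX).IsStronglyCartesian ((F ⋙ πX).map m.fst) m.fst :=
      hY.isStronglyCartesian m.fst
    have hm'l : (F ⋙ πX).IsHomLift ((F ⋙ πX).map m'.fst) m'.fst := inferInstance
    let χ₁ : z''.fst ⟶ z'.fst :=
      Functor.IsStronglyCartesian.map (F ⋙ πX) ((F ⋙ πX).map m.fst) m.fst hk m'.fst
    have hχ₁l : (F ⋙ πX).IsHomLift k χ₁ := inferInstance
    have hχ₁ : χ₁ ≫ m.fst = m'.fst :=
      Functor.IsStronglyCartesian.fac (F ⋙ πX) ((F ⋙ πX).map m.fst) m.fst hk m'.fst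
    have hFχ₁ : πX.IsHomLift k (F.map χ₁) := (isHomLift_comp_iff πX F k χ₁).mp hχ₁l
    have scs : πX.IsStronglyCartesian (πX.map m.snd) m.snd := hX.isStronglyCartesian m.snd
    have wχ : F.map χ₁ ≫ z'.iso.hom = z''.iso.hom ≫ g' := by
      have l1 : πX.IsHomLift (πX.map (z''.iso.hom ≫ g')) (F.map χ₁ ≫ z'.iso.hom) := by
        have hz' : πX.IsHomLift (πX.map z'.iso.hom) z'.iso.hom := inferInstance
        have h3 : πX.IsHomLift (k ≫ πX.map z'.iso.hom) (F.map χ₁ ≫ z'.iso.hom) := inferInstance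
        have e : k ≫ πX.map z'.iso.hom = πX.map (z''.iso.hom ≫ g') := by
          change πX.map (z''.iso.hom ≫ g' ≫ z'.iso.inv) ≫ πX.map z'.iso.hom = _
          rw [← πX.map_comp]
          congr 1
          simp
        rwa [e] at h3
      have l2 : πX.IsHomLift (πX.map (z''.iso.hom ≫ g')) (z''.iso.hom ≫ g') := inferInstance
      refine Functor.IsStronglyCartesian.ext πX (πX.map m.snd) m.snd
        (πX.map (z''.iso.hom ≫ g')) ?_
      calc (F.map χ₁ ≫ z'.iso.hom) ≫ m.snd = F.map χ₁ ≫ (F.map m.fst ≫ z.iso.hom) := by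
            rw [Category.assoc]; congr 1; exact w.symm
        _ = F.map (χ₁ ≫ m.fst) ≫ z.iso.hom := by rw [F.map_comp, Category.assoc]
        _ = z''.iso.hom ≫ m'.snd := by rw [hχ₁]; exact w'
        _ = (z''.iso.hom ≫ g') ≫ m.snd := by rw [← h1, Category.assoc]
    let χ : z'' ⟶ z' := ⟨χ₁, g', wχ⟩
    refine ⟨χ, ⟨?_, ?_⟩, ?_⟩
    · subst hg'
      exact inferInstanceAs ((CategoricalPullback.π₂ F (𝟭 X)).IsHomLift
        ((CategoricalPullback.π₂ F (𝟭 X)).map χ) χ)
    · apply CategoricalPullback.hom_ext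
      · exact hχ₁
      · exact h1
    · rintro χ' ⟨hχ'l, hχ'm⟩
      have e1 : χ'.snd = g' := by
        rw [hg']
        exact (IsHomLift.eq_of_isHomLift (CategoricalPullback.π₂ F (𝟭 X)) g χ').symm
      have e2 : χ'.fst ≫ m.fst = m'.fst := congrArg (fun t => t.fst) hχ'm
      have wχ' : F.map χ'.fst ≫ z'.iso.hom = z''.iso.hom ≫ χ'.snd := χ'.w
      have hl : (F ⋙ πX).IsHomLift k χ'.fst := by
        rw [isHomLift_comp_iff]
        have e3 : F.map χ'.fst = z''.iso.hom ≫ g' ≫ z'.iso.inv := by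
          rw [← Category.assoc, Iso.eq_comp_inv, ← e1]; exact wχ'
        rw [e3]
        exact inferInstanceAs (πX.IsHomLift (πX.map (z''.iso.hom ≫ g' ≫ z'.iso.inv))
          (z''.iso.hom ≫ g' ≫ z'.iso.inv))
      apply CategoricalPullback.hom_ext
      · exact Functor.IsStronglyCartesian.map_uniq (F ⋙ πX) ((F ⋙ πX).map m.fst) m.fst hk m'.fst
          χ'.fst e2
      · exact e1

/-- Let S be a category, π_X : X ⥤ S and π_Y : Y ⥤ S be fibred in groupoids, and F : Y ⥤ X a functor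
with F ⋙ π_X = π_Y. Consider the category of triples (y, x, φ) with φ : F y ≅ x an arbitrary
isomorphism of X and morphisms the compatible pairs of morphisms (the categorical pullback of F and
the identity of X; the isomorphism φ is not required to lie over an identity of S). Its projection
to X is fibred in groupoids over X, and the composite of that projection with π_X is fibred in
groupoids over S. (The published statement also asserts that y ↦ (y, F y, id) and (y, x, φ) ↦ y form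
an equivalence over S; that is not asserted here.) -/
theorem result {S : Type u} [Category.{v} S] {X : Type u} [Category.{v} X]
    {Y : Type u} [Category.{v} Y] (πX : X ⥤ S) (πY : Y ⥤ S) (hX : FibCat.IsFibGrpd πX) (hY : FibCat.IsFibGrpd πY)
    (F : Y ⥤ X) (hF : F ⋙ πX = πY) :
    FibCat.IsFibGrpd (CategoricalPullback.π₂ F (𝟭 X)) ∧
      FibCat.IsFibGrpd (CategoricalPullback.π₂ F (𝟭 X) ⋙ πX) := by
  subst hF
  have h1 := pi2_isFibGrpd πX hX F hY
  exact ⟨h1, Groth.Agent.S6416.result _ _ h1 hX⟩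

end Groth.Agent.S16361
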