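import Groth.Statements.S16362
import Mathlib.Algebra.Polynomial.Eval.Degree
import Mathlib.Algebra.Polynomial.Monic
import Mathlib.Tactic.FieldSimp
import Mathlib.RingTheory.Localization.FractionRing

set_option autoImplicit false
universe u
open MovLem

namespace Groth.Agent.S16362

/-- Let A be a commutative ring, p a prime ideal of A, and ζ, u elements of A with u not in p. Then the
quotient of the classes of ζ and u in the fraction field of the domain A ⧸ p is integral over A ⧸ p
if and only if there exist a natural number N and elements a_1, …, a_N of A such that ζ^N + a_1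
ζ^(N-1) u + ⋯ + a_N u^N lies in p; equivalently, some binary form of degree N with coefficients in
A, monic in the first variable, evaluated at (ζ, u), lies in p. -/
theorem result
    {A : Type u} [CommRing A] (p : Ideal A) [p.IsPrime] (ζ u : A) (hu : u ∉ p) :
    IsIntegral (A ⧸ p)
        (algebraMap (A ⧸ p) (FractionRing (A ⧸ p)) (Ideal.Quotient.mk p ζ) /
          algebraMap (A ⧸ p) (FractionRing (A ⧸ p)) (Ideal.Quotient.mk p u)) ↔
      ∃ (N : ℕ) (a : ℕ → A),
        ζ ^ N + ∑ i ∈ Finset.Icc 1 N, a i * ζ ^ (N - i) * u ^ i ∈ p := by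
  classical
  set K := FractionRing (A ⧸ p) with hK
  set f : (A ⧸ p) →+* K := algebraMap (A ⧸ p) K with hf
  have hfinj : Function.Injective f := IsFractionRing.injective (A ⧸ p) K
  set z : K := f (Ideal.Quotient.mk p ζ) with hz
  set w : K := f (Ideal.Quotient.mk p u) with hw
  have hw0 : w ≠ 0 := by
    intro h
    rw [hw, map_eq_zero_iff f hfinj, Ideal.Quotient.eq_zero_iff_mem] at h
    exact hu h
  -- the key identity, for any family of coefficients
  have key : ∀ (N : ℕ) (b : ℕ → A ⧸ p),
      w ^ N * ((z / w) ^ N + ∑ i ∈ Finset.Icc 1 N, f (b i) * (z / w) ^ (N - i)) =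
        f (Ideal.Quotient.mk p ζ ^ N +
          ∑ i ∈ Finset.Icc 1 N, b i * Ideal.Quotient.mk p ζ ^ (N - i) * Ideal.Quotient.mk p u ^ i) := by
    intro N b
    rw [mul_add, Finset.mul_sum, map_add, map_sum, map_pow, div_pow, mul_div_cancel₀ _ (pow_ne_zero N hw0)]
    congr 1
    refine Finset.sum_congr rfl fun i hi => ?_
    rw [Finset.mem_Icc] at hi
    rw [map_mul, map_mul, map_pow, map_pow, div_pow]
    have : w ^ N = w ^ (N - i) * w ^ i := by rw [← pow_add]; congr 1; omega
    rw [this]
    have hne : w ^ (N - i) ≠ 0 := pow_ne_zero _ hw0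
    have h5 : w ^ (N - i) * (z ^ (N - i) / w ^ (N - i)) = z ^ (N - i) := mul_div_cancel₀ _ hne
    calc w ^ (N - i) * w ^ i * (f (b i) * (z ^ (N - i) / w ^ (N - i)))
        = f (b i) * (w ^ (N - i) * (z ^ (N - i) / w ^ (N - i))) * w ^ i := by ring
      _ = f (b i) * z ^ (N - i) * w ^ i := by rw [h5]
  constructor
  · intro hint
    obtain ⟨q, hqm, hq⟩ := hint
    set N := q.natDegree with hN
    have hsurj := Ideal.Quotient.mk_surjective (I := p)
    choose lift hlift using hsurj
    refine ⟨N, fun i => lift (q.coeff (N - i)), ?_⟩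
    rw [← Ideal.Quotient.eq_zero_iff_mem, map_add, map_sum, map_pow]
    simp only [map_mul, map_pow, hlift]
    apply hfinj
    rw [map_zero, ← key N (fun i => q.coeff (N - i))]
    rw [Polynomial.eval₂_eq_sum_range, Finset.sum_range_succ] at hq
    have hlead : q.coeff N = 1 := hqm.coeff_natDegree
    rw [← hN, hlead, map_one, one_mul] at hq
    have hre : ∑ i ∈ Finset.Icc 1 N, f (q.coeff (N - i)) * (z / w) ^ (N - i) =
        ∑ j ∈ Finset.range N, f (q.coeff j) * (z / w) ^ j := by
      refine Finset.sum_bij' (fun i _ => N - i) (fun j _ => N - j) ?_ ?_ ?_ ?_ ?_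
      · intro i hi; simp only [Finset.mem_Icc] at hi; simp only [Finset.mem_range]; omega
      · intro j hj; simp only [Finset.mem_range] at hj; simp only [Finset.mem_Icc]; omega
      · intro i hi; simp only [Finset.mem_Icc] at hi; omega
      · intro j hj; simp only [Finset.mem_range] at hj; omega
      · intro i hi; rfl
    rw [hre, add_comm, hq, mul_zero]
  · rintro ⟨N, a, ha⟩
    set b : ℕ → A ⧸ p := fun i => Ideal.Quotient.mk p (a i) with hb
    have hdeg : (∑ i ∈ Finset.Icc 1 N, Polynomial.C (b i) * Polynomial.X ^ (N - i) :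
        Polynomial (A ⧸ p)).degree < N := by
      refine lt_of_le_of_lt (Polynomial.degree_sum_le _ _) ?_
      rw [Finset.sup_lt_iff (WithBot.bot_lt_coe _)]
      intro i hi
      rw [Finset.mem_Icc] at hi
      refine lt_of_le_of_lt (Polynomial.degree_C_mul_X_pow_le _ _) ?_
      exact_mod_cast (by omega : N - i < N)
    refine ⟨Polynomial.X ^ N + ∑ i ∈ Finset.Icc 1 N, Polynomial.C (b i) * Polynomial.X ^ (N - i),
      Polynomial.monic_X_pow_add hdeg, ?_⟩
    rw [Polynomial.eval₂_add, Polynomial.eval₂_finsetSum]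
    simp only [Polynomial.eval₂_mul, Polynomial.eval₂_pow, Polynomial.eval₂_X, Polynomial.eval₂_C]
    have h0 : w ^ N * ((z / w) ^ N + ∑ i ∈ Finset.Icc 1 N, f (b i) * (z / w) ^ (N - i)) = 0 := by
      have hzero : Ideal.Quotient.mk p ζ ^ N +
          ∑ i ∈ Finset.Icc 1 N, b i * Ideal.Quotient.mk p ζ ^ (N - i) * Ideal.Quotient.mk p u ^ i = 0 := by
        have := Ideal.Quotient.eq_zero_iff_mem.mpr ha
        simpa [map_add, map_sum, map_mul, map_pow, hb] using this
      rw [key N b, hzero, map_zero]
    exact (mul_eq_zero.mp h0).resolve_left (pow_ne_zero N hw0)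

end Groth.Agent.S16362
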