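import Groth.Statements.S16363
import Groth.Agent.H66.DensePts

set_option autoImplicit false
universe u
open CategoryTheory Limits
open MovLem

namespace Groth.Agent.S16363

set_option linter.style.haveILetI false
open TensorProduct


open AlgebraicGeometry in
/-- Let k be a field, X a k-scheme of finite type, K an extension field of k and U' ⊆ X_K = X ×_k Spec K
a dense open subset. There exists a dense open U ⊆ X with the following property: for every
algebraic closure k̄ of k, every field Ω that is simultaneously a k̄-algebra and a K-algebra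
compatibly with k, and every k-morphism x : Spec k̄ → X whose image point lies in U, every
K-morphism y : Spec Ω → X_K whose composite with the projection X_K → X is the composite Spec Ω →
Spec k̄ → X has image point in U'. (In words: the k̄-points of U, viewed as Ω-points of X_K, lie in
U'.) -/
theorem result
    {k K : Type u} [Field k] [Field K] [Algebra k K]
    (X : Scheme.{u}) (f : X ⟶ Spec (CommRingCat.of k)) [LocallyOfFiniteType f] [QuasiCompact f]
    (U' : (pullback f (Spec.map (CommRingCat.ofHom (algebraMap k K)))).Opens)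
    (hU' : Dense (U' : Set ↥(pullback f (Spec.map (CommRingCat.ofHom (algebraMap k K)))))) :
    ∃ U : X.Opens, Dense (U : Set ↥X) ∧
      ∀ (kb Ω : Type u) [Field kb] [Algebra k kb] [IsAlgClosure k kb]
        [Field Ω] [Algebra k Ω] [Algebra kb Ω] [Algebra K Ω] [IsScalarTower k kb Ω] [IsScalarTower k K Ω]
        (x : Spec (CommRingCat.of kb) ⟶ X),
        x ≫ f = Spec.map (CommRingCat.ofHom (algebraMap k kb)) →
        (∀ t : ↥(Spec (CommRingCat.of kb)), x.base t ∈ U) →
        ∀ (y : Spec (CommRingCat.of Ω) ⟶ pullback f (Spec.map (CommRingCat.ofHom (algebraMap k K)))),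
          y ≫ pullback.fst f (Spec.map (CommRingCat.ofHom (algebraMap k K))) =
              Spec.map (CommRingCat.ofHom (algebraMap kb Ω)) ≫ x →
          y ≫ pullback.snd f (Spec.map (CommRingCat.ofHom (algebraMap k K))) =
              Spec.map (CommRingCat.ofHom (algebraMap K Ω)) →
          ∀ t : ↥(Spec (CommRingCat.of Ω)), y.base t ∈ U' := by
  classical
  let Good : X → Prop := fun x₀ => ∀ (kb Ω : Type u) [Field kb] [Algebra k kb] [IsAlgClosure k kb]
      [Field Ω] [Algebra k Ω] [Algebra kb Ω] [Algebra K Ω] [IsScalarTower k kb Ω]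
      [IsScalarTower k K Ω]
      (x : Spec (CommRingCat.of kb) ⟶ X) (y : Spec (CommRingCat.of Ω) ⟶ pullback f (Spec.map (CommRingCat.ofHom (algebraMap k K))))
      (t₁ : ↥(Spec (CommRingCat.of kb))) (t₂ : ↥(Spec (CommRingCat.of Ω))),
      x ≫ f = Spec.map (CommRingCat.ofHom (algebraMap k kb)) →
      y ≫ pullback.fst f (Spec.map (CommRingCat.ofHom (algebraMap k K))) = Spec.map (CommRingCat.ofHom (algebraMap kb Ω)) ≫ x →
      y ≫ pullback.snd f (Spec.map (CommRingCat.ofHom (algebraMap k K))) = Spec.map (CommRingCat.ofHom (algebraMap K Ω)) →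
      x.base t₁ = x₀ → y.base t₂ ∈ U'
  let B : Set X := {x₀ | ¬ Good x₀}
  refine ⟨⟨(closure B)ᶜ, isClosed_closure.isOpen_compl⟩, ?_, ?_⟩
  swap
  · intro kb Ω _ _ _ _ _ _ _ _ _ x hx hxU y hy1 hy2 t
    by_contra hbad
    let t₁ : ↥(Spec (CommRingCat.of kb)) :=
      (Spec.map (CommRingCat.ofHom (algebraMap kb Ω))).base t
    have hgood : Good (x.base t₁) := by
      by_contra hng
      exact (show x.base t₁ ∉ closure B from hxU t₁) (subset_closure (show x.base t₁ ∈ B from hng))
    exact hbad (hgood kb Ω x y t₁ t hx hy1 hy2 rfl)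
  · show Dense ((closure B)ᶜ : Set X)
    rw [← interior_eq_empty_iff_dense_compl]
    by_contra hne
    obtain ⟨x₁, hx₁⟩ := Set.nonempty_iff_ne_empty.mpr hne
    obtain ⟨V, hV0, hx₁V, hVsub⟩ :=
      (TopologicalSpace.Opens.isBasis_iff_nbhd.mp X.isBasis_affineOpens)
        (show x₁ ∈ (⟨interior (closure B), isOpen_interior⟩ : X.Opens) from hx₁)
    have hV : IsAffineOpen V := hV0
    have hVB : (V : Set X) ⊆ closure B := fun z hz => interior_subset (hVsub hz)
    -- algebra structure
    let φA : CommRingCat.of k ⟶ Γ(X, V) := Spec.preimage (hV.fromSpec ≫ f)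
    have hφA : Spec.map φA = hV.fromSpec ≫ f := Spec.map_preimage _
    have hft : φA.hom.FiniteType := by
      have h1 : LocallyOfFiniteType (Spec.map φA) := by rw [hφA]; infer_instance
      exact (HasRingHomProperty.Spec_iff (P := @LocallyOfFiniteType)).mp h1
    letI : Algebra k Γ(X, V) := φA.hom.toAlgebra
    haveI : Algebra.FiniteType k Γ(X, V) := hft
    haveI : Nontrivial Γ(X, V) := by
      rw [← PrimeSpectrum.nonempty_iff_nontrivial]
      have h2 : x₁ ∈ Set.range hV.fromSpec.base := by rw [hV.range_fromSpec]; exact hx₁V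
      obtain ⟨p, -⟩ := h2
      exact ⟨p⟩
    let ι₁ : Γ(X, V) →+* Γ(X, V) ⊗[k] K := Algebra.TensorProduct.includeLeftRingHom
    let ι₂ : K →+* Γ(X, V) ⊗[k] K :=
      (Algebra.TensorProduct.includeRight (R := k) (A := Γ(X, V)) (B := K)).toRingHom
    let θV : Spec (CommRingCat.of (Γ(X, V) ⊗[k] K)) ⟶ pullback f (Spec.map (CommRingCat.ofHom (algebraMap k K))) :=
      (pullbackSpecIso k Γ(X, V) K).inv ≫
        pullback.map (Spec.map (CommRingCat.ofHom (algebraMap k Γ(X, V)))) (Spec.map (CommRingCat.ofHom (algebraMap k K))) f (Spec.map (CommRingCat.ofHom (algebraMap k K))) hV.fromSpec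
          (𝟙 _) (𝟙 _) (by rw [Category.comp_id]; exact hφA) (by simp)
    haveI : IsOpenImmersion θV := by dsimp only [θV]; infer_instance
    have hθ1 : θV ≫ pullback.fst f (Spec.map (CommRingCat.ofHom (algebraMap k K))) = Spec.map (CommRingCat.ofHom ι₁) ≫ hV.fromSpec := by
      dsimp only [θV]
      rw [Category.assoc, pullback.lift_fst, ← Category.assoc, pullbackSpecIso_inv_fst]
    have hθ2 : θV ≫ pullback.snd f (Spec.map (CommRingCat.ofHom (algebraMap k K))) = Spec.map (CommRingCat.ofHom ι₂) := by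
      dsimp only [θV]
      rw [Category.assoc, pullback.lift_snd, ← Category.assoc, pullbackSpecIso_inv_snd,
        Category.comp_id]
      rfl
    let W : Set (PrimeSpectrum (Γ(X, V) ⊗[k] K)) := θV.base ⁻¹' (U' : Set _)
    have hWopen : IsOpen W := U'.isOpen.preimage θV.continuous
    have hWdense : Dense W := hU'.preimage θV.isOpenEmbedding.isOpenMap
    let I' : Ideal (Γ(X, V) ⊗[k] K) := PrimeSpectrum.vanishingIdeal Wᶜ
    have hI' : ∀ h : Γ(X, V) ⊗[k] K,
        (∀ q : Ideal (Γ(X, V) ⊗[k] K), q.IsPrime → h ∉ q → I' ≤ q) → IsNilpotent h := by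
      intro h H
      rw [← PrimeSpectrum.basicOpen_eq_bot_iff]
      by_contra hne
      have hne' : (PrimeSpectrum.basicOpen h : Set (PrimeSpectrum (Γ(X, V) ⊗[k] K))).Nonempty :=
        (TopologicalSpace.Opens.ne_bot_iff_nonempty _).mp hne
      obtain ⟨q, hqh, hqW⟩ := hWdense.inter_open_nonempty _ (PrimeSpectrum.basicOpen h).isOpen hne'
      have h3 : I' ≤ q.asIdeal := H q.asIdeal q.isPrime hqh
      have h4 : q ∈ PrimeSpectrum.zeroLocus (I' : Set (Γ(X, V) ⊗[k] K)) := h3
      rw [PrimeSpectrum.zeroLocus_vanishingIdeal_eq_closure, hWopen.isClosed_compl.closure_eq] at h4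
      exact h4 hqW
    obtain ⟨J, ⟨p₀, hp₀, hJp₀⟩, HJ⟩ := Groth.Agent.H66.DensePts.exists_ideal k K Γ(X, V) I' hI'
    have hclaim : ∀ p : PrimeSpectrum Γ(X, V), ¬ J ≤ p.asIdeal → Good (hV.fromSpec.base p) := by
      intro p hp kb Ω _ _ _ _ _ _ _ _ _ x y t₁ t₂ hx hy1 hy2 hxp
      by_contra hbad
      apply hp
      have hrange : Set.range x.base ⊆ Set.range hV.fromSpec.base := by
        rintro _ ⟨t, rfl⟩
        have h5 : t = t₁ := @Subsingleton.elim (PrimeSpectrum kb) _ t t₁
        rw [h5, hxp]; exact ⟨p, rfl⟩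
      let x' := IsOpenImmersion.lift hV.fromSpec x hrange
      have hx' : x' ≫ hV.fromSpec = x := IsOpenImmersion.lift_fac _ _ _
      let xs : Γ(X, V) ⟶ CommRingCat.of kb := Spec.preimage x'
      have hxs : Spec.map xs = x' := Spec.map_preimage _
      have hxk : φA ≫ xs = CommRingCat.ofHom (algebraMap k kb) := by
        apply Spec.map_injective
        rw [Spec.map_comp, hxs, hφA, ← Category.assoc, hx', hx]
      have hxk' : ∀ r : k, xs.hom (algebraMap k Γ(X, V) r) = algebraMap k kb r := fun r => by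
        have h6 := congrArg (fun m => m.hom r) hxk
        exact h6
      let xa : Γ(X, V) →ₐ[k] kb := { toRingHom := xs.hom, commutes' := hxk' }
      have hp_eq : ∀ a, a ∈ p.asIdeal ↔ xs.hom a = 0 := by
        have h1 : x'.base t₁ = p := by
          apply hV.fromSpec.isOpenEmbedding.injective
          rw [← hxp, ← hx']; rfl
        intro a
        rw [← h1, ← hxs]
        show a ∈ Ideal.comap xs.hom (t₁ : PrimeSpectrum kb).asIdeal ↔ _
        have h7 : (t₁ : PrimeSpectrum kb).asIdeal = ⊥ := Ideal.eq_bot_of_prime _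
        rw [h7, Ideal.mem_comap, Ideal.mem_bot]
      let ys : Γ(X, V) ⊗[k] K →ₐ[k] Ω :=
        Algebra.TensorProduct.productMap ((IsScalarTower.toAlgHom k kb Ω).comp xa)
          (IsScalarTower.toAlgHom k K Ω)
      have hring1 : CommRingCat.ofHom ι₁ ≫ CommRingCat.ofHom ys.toRingHom =
          xs ≫ CommRingCat.ofHom (algebraMap kb Ω) := by
        ext a
        simp [ys, xa, ι₁]
      have hring2 : CommRingCat.ofHom ι₂ ≫ CommRingCat.ofHom ys.toRingHom =
          CommRingCat.ofHom (algebraMap K Ω) := by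
        ext c
        simp [ys, ι₂]
      have hy_fac : y = Spec.map (CommRingCat.ofHom ys.toRingHom) ≫ θV := by
        apply pullback.hom_ext
        · rw [Category.assoc, hθ1, hy1, ← hx', ← hxs, ← Category.assoc, ← Category.assoc,
            ← Spec.map_comp, ← Spec.map_comp, hring1]
        · rw [Category.assoc, hθ2, hy2, ← Spec.map_comp, hring2]
      let q : PrimeSpectrum (Γ(X, V) ⊗[k] K) := (Spec.map (CommRingCat.ofHom ys.toRingHom)).base t₂
      have hyq : y.base t₂ = θV.base q := by rw [hy_fac]; rfl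
      have hqW : q ∈ Wᶜ := fun hq => hbad (hyq ▸ hq)
      have hq_eq : ∀ t, t ∈ q.asIdeal ↔ ys t = 0 := by
        intro t
        show t ∈ Ideal.comap ys.toRingHom (t₂ : PrimeSpectrum Ω).asIdeal ↔ _
        have h8 : (t₂ : PrimeSpectrum Ω).asIdeal = ⊥ := Ideal.eq_bot_of_prime _
        rw [h8, Ideal.mem_comap, Ideal.mem_bot]
        rfl
      have hyI : ∀ t ∈ I', ys t = 0 := fun t ht =>
        (hq_eq t).mp ((PrimeSpectrum.mem_vanishingIdeal Wᶜ t).mp ht q hqW)
      have hyK : ∀ c : K, ys (1 ⊗ₜ c) = algebraMap K Ω c := fun c => by simp [ys]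
      have hyalg : ∀ a : Γ(X, V), IsAlgebraic k (ys (a ⊗ₜ 1)) := by
        intro a
        have h9 : ys (a ⊗ₜ 1) = algebraMap kb Ω (xs.hom a) := by simp [ys, xa]
        rw [h9]
        haveI : Algebra.IsAlgebraic k kb := IsAlgClosure.isAlgebraic
        exact (Algebra.IsAlgebraic.isAlgebraic (xs.hom a)).algebraMap
      intro a ha
      have h10 := HJ Ω ys hyK hyalg hyI a ha
      have h11 : ys (a ⊗ₜ 1) = algebraMap kb Ω (xs.hom a) := by simp [ys, xa]
      rw [h11] at h10
      rw [hp_eq]
      exact (map_eq_zero_iff _ (algebraMap kb Ω).injective).mp h10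
    have hT : hV.fromSpec.base ⁻¹' B ⊆ PrimeSpectrum.zeroLocus (J : Set Γ(X, V)) := by
      intro p hpB
      by_contra hnot
      exact hpB (hclaim p (fun hle => hnot hle))
    have hcl : hV.fromSpec.base ⁻¹' closure B = closure (hV.fromSpec.base ⁻¹' B) :=
      hV.fromSpec.isOpenEmbedding.isOpenMap.preimage_closure_eq_closure_preimage
        hV.fromSpec.continuous B
    have hp₀mem : (⟨p₀, hp₀⟩ : PrimeSpectrum Γ(X, V)) ∈ hV.fromSpec.base ⁻¹' closure B := by
      apply hVB
      rw [← hV.range_fromSpec]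
      exact ⟨_, rfl⟩
    rw [hcl] at hp₀mem
    have h12 := closure_minimal hT (PrimeSpectrum.isClosed_zeroLocus _) hp₀mem
    exact hJp₀ h12

end Groth.Agent.S16363
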