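import Groth.Statements.S16367
import Mathlib

set_option autoImplicit false
universe u
open MovLem

namespace Groth.Agent.S16367

/-- the translated monomial -/
noncomputable def T {k : Type u} [CommRing k] (d n : ℕ) (v : Fin d → k)
    (W : MvPolynomial (Fin d ⊕ Fin n) k) (N : ℕ) (m : (Fin d ⊕ Fin n) →₀ ℕ) (a : k) :
    Polynomial (MvPolynomial (Fin d ⊕ Fin n) k) :=
  Polynomial.C (MvPolynomial.C a) * Polynomial.X ^ (N - ∑ i : Fin d, m (Sum.inl i)) *
    (∏ i : Fin d, (Polynomial.X * Polynomial.C (MvPolynomial.X (Sum.inl i)) +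
      Polynomial.C (W * MvPolynomial.C (v i))) ^ m (Sum.inl i)) *
    ∏ j : Fin n, Polynomial.C (MvPolynomial.X (Sum.inr j)) ^ m (Sum.inr j)

theorem L1 {k : Type u} [CommRing k] (d n : ℕ) (m : (Fin d ⊕ Fin n) →₀ ℕ) (a : k) (N : ℕ)
    (he : ∑ i : Fin d, m (Sum.inl i) ≤ N) :
    Polynomial.C (MvPolynomial.C a) * Polynomial.X ^ (N - ∑ i : Fin d, m (Sum.inl i)) *
      (∏ i : Fin d, (Polynomial.X * Polynomial.C (MvPolynomial.X (Sum.inl i))) ^ m (Sum.inl i)) *
      ∏ j : Fin n, Polynomial.C (MvPolynomial.X (Sum.inr j)) ^ m (Sum.inr j) =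
    Polynomial.X ^ N *
      Polynomial.C (MvPolynomial.monomial m a : MvPolynomial (Fin d ⊕ Fin n) k) := by
  have h1 : (∏ i : Fin d, (Polynomial.X * Polynomial.C (MvPolynomial.X (Sum.inl i)) :
      Polynomial (MvPolynomial (Fin d ⊕ Fin n) k)) ^ m (Sum.inl i)) =
      Polynomial.X ^ (∑ i : Fin d, m (Sum.inl i)) *
        ∏ i : Fin d, Polynomial.C (MvPolynomial.X (Sum.inl i)) ^ m (Sum.inl i) := by
    simp_rw [mul_pow]
    rw [Finset.prod_mul_distrib, Finset.prod_pow_eq_pow_sum]
  have h2 : (Polynomial.C (MvPolynomial.monomial m a : MvPolynomial (Fin d ⊕ Fin n) k)) =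
      Polynomial.C (MvPolynomial.C a) *
        (∏ i : Fin d, Polynomial.C (MvPolynomial.X (Sum.inl i)) ^ m (Sum.inl i)) *
        ∏ j : Fin n, Polynomial.C (MvPolynomial.X (Sum.inr j)) ^ m (Sum.inr j) := by
    rw [MvPolynomial.monomial_eq, Finsupp.prod_fintype _ _ (fun i => pow_zero _),
      Fintype.prod_sum_type, map_mul, map_mul, map_prod, map_prod]
    simp_rw [map_pow]
    rw [mul_assoc]
  have h3 : (Polynomial.X : Polynomial (MvPolynomial (Fin d ⊕ Fin n) k)) ^
      (N - ∑ i : Fin d, m (Sum.inl i)) * Polynomial.X ^ (∑ i : Fin d, m (Sum.inl i)) =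
      Polynomial.X ^ N := by
    rw [← pow_add, Nat.sub_add_cancel he]
  rw [h1, h2, ← h3]
  ring

theorem T_spec {k : Type u} [CommRing k] (d n : ℕ) (v : Fin d → k)
    (W : MvPolynomial (Fin d ⊕ Fin n) k) (N : ℕ) (m : (Fin d ⊕ Fin n) →₀ ℕ) (a : k)
    (he : ∑ i : Fin d, m (Sum.inl i) ≤ N) :
    T d n v W N m a - Polynomial.X ^ N *
      Polynomial.C (MvPolynomial.monomial m a : MvPolynomial (Fin d ⊕ Fin n) k) ∈
      Ideal.span {(Polynomial.C W : Polynomial (MvPolynomial (Fin d ⊕ Fin n) k))} := by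
  rw [← L1 d n m a N he, ← Ideal.Quotient.eq_zero_iff_mem, map_sub, sub_eq_zero]
  have hfac : ∀ i : Fin d, Ideal.Quotient.mk (Ideal.span
      {(Polynomial.C W : Polynomial (MvPolynomial (Fin d ⊕ Fin n) k))})
      (Polynomial.X * Polynomial.C (MvPolynomial.X (Sum.inl i)) +
        Polynomial.C W * Polynomial.C (MvPolynomial.C (v i))) =
      Ideal.Quotient.mk (Ideal.span
      {(Polynomial.C W : Polynomial (MvPolynomial (Fin d ⊕ Fin n) k))})
      (Polynomial.X * Polynomial.C (MvPolynomial.X (Sum.inl i))) := by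
    intro i
    have h0 : Ideal.Quotient.mk (Ideal.span
        {(Polynomial.C W : Polynomial (MvPolynomial (Fin d ⊕ Fin n) k))})
        (Polynomial.C W * Polynomial.C (MvPolynomial.C (v i))) = 0 :=
      Ideal.Quotient.eq_zero_iff_mem.mpr (Ideal.mem_span_singleton.mpr
        ⟨Polynomial.C (MvPolynomial.C (v i)), rfl⟩)
    rw [map_add, h0, add_zero]
  unfold T
  simp only [map_mul, map_pow, map_prod, hfac]

theorem T_spec0 {k : Type u} [CommRing k] (d n : ℕ) (v : Fin d → k)
    (W : MvPolynomial (Fin d ⊕ Fin n) k) (m : (Fin d ⊕ Fin n) →₀ ℕ) (a : k)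
    (he : ∑ i : Fin d, m (Sum.inl i) ≤ 0) :
    T d n v W 0 m a =
      Polynomial.C (MvPolynomial.monomial m a : MvPolynomial (Fin d ⊕ Fin n) k) := by
  have hm0 : ∀ i : Fin d, m (Sum.inl i) = 0 := by
    intro i
    have h1 : m (Sum.inl i) ≤ ∑ i : Fin d, m (Sum.inl i) :=
      Finset.single_le_sum (f := fun i : Fin d => m (Sum.inl i)) (fun _ _ => Nat.zero_le _)
        (Finset.mem_univ i)
    omega
  have h2 := L1 d n m a 0 he
  rw [pow_zero, one_mul] at h2
  rw [← h2]
  unfold T
  congr 2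
  refine Finset.prod_congr rfl (fun i _ => ?_)
  rw [hm0 i, pow_zero, pow_zero]

theorem phi_spec {k : Type u} [CommRing k] (d n : ℕ) (v : Fin d → k)
    (W : MvPolynomial (Fin d ⊕ Fin n) k) (N : ℕ) (p : MvPolynomial (Fin d ⊕ Fin n) k)
    (hdeg : ∀ m ∈ p.support, ∑ i : Fin d, m (Sum.inl i) ≤ N) :
    ∃ R : Polynomial (MvPolynomial (Fin d ⊕ Fin n) k),
      ∑ m ∈ p.support, T d n v W N m (MvPolynomial.coeff m p) =
        Polynomial.X ^ N * Polynomial.C p + Polynomial.C W * R := by
  have h1 : ∑ m ∈ p.support, T d n v W N m (MvPolynomial.coeff m p) -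
      Polynomial.X ^ N * Polynomial.C p ∈
      Ideal.span {(Polynomial.C W : Polynomial (MvPolynomial (Fin d ⊕ Fin n) k))} := by
    have h2 : Polynomial.X ^ N * Polynomial.C p = ∑ m ∈ p.support, Polynomial.X ^ N *
        Polynomial.C (MvPolynomial.monomial m (MvPolynomial.coeff m p) :
          MvPolynomial (Fin d ⊕ Fin n) k) := by
      conv_lhs => rw [p.as_sum]
      rw [map_sum, Finset.mul_sum]
    rw [h2, ← Finset.sum_sub_distrib]
    exact Ideal.sum_mem _ (fun m hm => T_spec d n v W N m _ (hdeg m hm))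
  obtain ⟨R, hR⟩ := Ideal.mem_span_singleton.mp h1
  exact ⟨R, by rw [← hR]; ring⟩

theorem phi_spec0 {k : Type u} [CommRing k] (d n : ℕ) (v : Fin d → k)
    (W : MvPolynomial (Fin d ⊕ Fin n) k) (p : MvPolynomial (Fin d ⊕ Fin n) k)
    (hdeg : ∀ m ∈ p.support, ∑ i : Fin d, m (Sum.inl i) ≤ 0) :
    ∑ m ∈ p.support, T d n v W 0 m (MvPolynomial.coeff m p) = Polynomial.C p := by
  conv_rhs => rw [p.as_sum]
  rw [map_sum]
  exact Finset.sum_congr rfl (fun m hm => T_spec0 d n v W m _ (hdeg m hm))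

/-- The chart computation of its proof: let k be a commutative ring, P = k[x_1, …, x_d, w_1, …, w_n] a
polynomial ring in two groups of variables, u a polynomial in the x-variables alone, v a vector in
k^d, J a set of indices among the w-variables with ζ = ∏_{j ∈ J} w_j, and N ≤ s natural numbers. Let
(f_λ) be a finite family of elements of P, each of total degree at most N in the x-variables, and
assume that ζ^N + c_1 ζ^(N-1) u + ⋯ + c_N u^N lies in the ideal generated by the f_λ for some c_1,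
…, c_N ∈ P. For each λ let φ_λ ∈ P[τ] be the polynomial τ^N · f_λ(x + u^s v/τ, w), written out
monomial by monomial: a monomial a·x^m·w^m' of x-degree e = |m| contributes a · τ^(N-e) · ∏_i (τ x_i
+ u^s v_i)^(m_i) · w^m'. Then there are c'_1, …, c'_N ∈ P[τ] with (τζ)^N + c'_1 (τζ)^(N-1) u + ⋯ +
c'_N u^N in the ideal of P[τ] generated by the φ_λ. (This identity is what shows that translating a
cycle by t·u^s·v preserves the modulus condition on the chart whose coordinates are the z_i and the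
1/z_j, with τ = 1/t; integrality of ζ/u, resp. τζ/u, is expressed by such monic binary forms.) -/
theorem result
    {k : Type u} [CommRing k] (d n : ℕ) (u : MvPolynomial (Fin d) k) (v : Fin d → k)
    (J : Finset (Fin n)) (N s : ℕ) (hs : N ≤ s)
    {Λ : Type u} [Fintype Λ] (f : Λ → MvPolynomial (Fin d ⊕ Fin n) k)
    (hdeg : ∀ l, ∀ m ∈ (f l).support, ∑ i : Fin d, m (Sum.inl i) ≤ N)
    (c : ℕ → MvPolynomial (Fin d ⊕ Fin n) k)
    (hE : (∏ j ∈ J, MvPolynomial.X (Sum.inr j)) ^ N +
        ∑ i ∈ Finset.Icc 1 N, c i * (∏ j ∈ J, MvPolynomial.X (Sum.inr j)) ^ (N - i) *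
          MvPolynomial.rename Sum.inl u ^ i ∈ Ideal.span (Set.range f)) :
    ∃ c' : ℕ → Polynomial (MvPolynomial (Fin d ⊕ Fin n) k),
      (Polynomial.X * Polynomial.C (∏ j ∈ J, MvPolynomial.X (Sum.inr j))) ^ N +
        ∑ i ∈ Finset.Icc 1 N, c' i *
          (Polynomial.X * Polynomial.C (∏ j ∈ J, MvPolynomial.X (Sum.inr j))) ^ (N - i) *
            Polynomial.C (MvPolynomial.rename Sum.inl u) ^ i ∈
      Ideal.span (Set.range fun l : Λ =>
        ∑ m ∈ (f l).support,
          Polynomial.C (MvPolynomial.C (MvPolynomial.coeff m (f l))) *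
            Polynomial.X ^ (N - ∑ i : Fin d, m (Sum.inl i)) *
            (∏ i : Fin d, (Polynomial.X * Polynomial.C (MvPolynomial.X (Sum.inl i)) +
                Polynomial.C (MvPolynomial.rename Sum.inl u ^ s * MvPolynomial.C (v i))) ^ m (Sum.inl i)) *
            ∏ j : Fin n, Polynomial.C (MvPolynomial.X (Sum.inr j)) ^ m (Sum.inr j)) := by
  classical
  obtain ⟨Z, hZ⟩ : ∃ Z : MvPolynomial (Fin d ⊕ Fin n) k,
      Z = ∏ j ∈ J, MvPolynomial.X (Sum.inr j) := ⟨_, rfl⟩
  obtain ⟨U, hU⟩ : ∃ U : MvPolynomial (Fin d ⊕ Fin n) k,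
      U = MvPolynomial.rename Sum.inl u := ⟨_, rfl⟩
  rw [← hZ, ← hU] at hE
  rw [← hZ, ← hU]
  obtain ⟨b, hb⟩ := Ideal.mem_span_range_iff_exists_fun.mp hE
  change ∃ c' : ℕ → Polynomial (MvPolynomial (Fin d ⊕ Fin n) k),
      (Polynomial.X * Polynomial.C Z) ^ N +
        ∑ i ∈ Finset.Icc 1 N, c' i * (Polynomial.X * Polynomial.C Z) ^ (N - i) *
          Polynomial.C U ^ i ∈
      Ideal.span (Set.range fun l : Λ =>
        ∑ m ∈ (f l).support, T d n v (U ^ s) N m (MvPolynomial.coeff m (f l)))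
  have hmem : ∑ l, Polynomial.C (b l) *
      (∑ m ∈ (f l).support, T d n v (U ^ s) N m (MvPolynomial.coeff m (f l))) ∈
      Ideal.span (Set.range fun l : Λ =>
        ∑ m ∈ (f l).support, T d n v (U ^ s) N m (MvPolynomial.coeff m (f l))) :=
    Ideal.sum_mem _ (fun l _ => Ideal.mul_mem_left _ _ (Ideal.subset_span ⟨l, rfl⟩))
  rcases Nat.eq_zero_or_pos N with hN0 | hNpos
  · subst hN0
    refine ⟨fun _ => 0, ?_⟩
    have h1 : ∀ l, ∑ m ∈ (f l).support, T d n v (U ^ s) 0 m (MvPolynomial.coeff m (f l)) =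
        Polynomial.C (f l) := fun l => phi_spec0 d n v (U ^ s) (f l) (hdeg l)
    have h2 : ∑ l, Polynomial.C (b l) *
        (∑ m ∈ (f l).support, T d n v (U ^ s) 0 m (MvPolynomial.coeff m (f l))) = 1 := by
      simp_rw [h1, ← map_mul]
      rw [← map_sum, hb]
      simp
    rw [h2] at hmem
    simpa using hmem
  · have hex : ∀ l, ∃ R : Polynomial (MvPolynomial (Fin d ⊕ Fin n) k),
        ∑ m ∈ (f l).support, T d n v (U ^ s) N m (MvPolynomial.coeff m (f l)) =
          Polynomial.X ^ N * Polynomial.C (f l) + Polynomial.C (U ^ s) * R :=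
      fun l => phi_spec d n v (U ^ s) N (f l) (hdeg l)
    choose R hR using hex
    refine ⟨fun i => Polynomial.X ^ i * Polynomial.C (c i) +
      if i = N then Polynomial.C U ^ (s - N) * ∑ l, Polynomial.C (b l) * R l else 0, ?_⟩
    have hY : ∑ l, Polynomial.C (b l) *
        (∑ m ∈ (f l).support, T d n v (U ^ s) N m (MvPolynomial.coeff m (f l))) =
        (Polynomial.X * Polynomial.C Z) ^ N +
        ∑ i ∈ Finset.Icc 1 N, (Polynomial.X ^ i * Polynomial.C (c i) +
          if i = N then Polynomial.C U ^ (s - N) * ∑ l, Polynomial.C (b l) * R l else 0) *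
          (Polynomial.X * Polynomial.C Z) ^ (N - i) * Polynomial.C U ^ i := by
      have h1 : ∀ l, Polynomial.C (b l) *
          (∑ m ∈ (f l).support, T d n v (U ^ s) N m (MvPolynomial.coeff m (f l))) =
          Polynomial.X ^ N * Polynomial.C (b l * f l) +
            Polynomial.C (U ^ s) * (Polynomial.C (b l) * R l) := by
        intro l
        rw [hR l, map_mul]
        ring
      rw [Finset.sum_congr rfl (fun l _ => h1 l), Finset.sum_add_distrib, ← Finset.mul_sum,
        ← Finset.mul_sum, ← map_sum, hb, map_add, mul_add, map_sum, Finset.mul_sum]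
      have h2 : ∀ i ∈ Finset.Icc 1 N, (Polynomial.X ^ i * Polynomial.C (c i) +
          if i = N then Polynomial.C U ^ (s - N) * ∑ l, Polynomial.C (b l) * R l else 0) *
          (Polynomial.X * Polynomial.C Z) ^ (N - i) * Polynomial.C U ^ i =
          Polynomial.X ^ N * Polynomial.C (c i * Z ^ (N - i) * U ^ i) +
          (if i = N then Polynomial.C U ^ (s - N) * (∑ l, Polynomial.C (b l) * R l) *
            (Polynomial.X * Polynomial.C Z) ^ (N - i) * Polynomial.C U ^ i else 0) := by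
        intro i hi
        have hiN : i ≤ N := (Finset.mem_Icc.mp hi).2
        have hX : (Polynomial.X : Polynomial (MvPolynomial (Fin d ⊕ Fin n) k)) ^ N =
            Polynomial.X ^ i * Polynomial.X ^ (N - i) := by
          rw [← pow_add, Nat.add_sub_cancel' hiN]
        rw [hX, map_mul, map_mul, map_pow, map_pow]
        split_ifs
        · ring
        · ring
      rw [Finset.sum_congr rfl h2, Finset.sum_add_distrib, Finset.sum_ite_eq',
        if_pos (Finset.mem_Icc.mpr ⟨hNpos, le_refl N⟩), Nat.sub_self, pow_zero, mul_one,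
        map_pow, mul_pow]
      have h3 : (Polynomial.C U : Polynomial (MvPolynomial (Fin d ⊕ Fin n) k)) ^ s =
          Polynomial.C U ^ (s - N) * Polynomial.C U ^ N := by
        rw [← pow_add, Nat.sub_add_cancel hs]
      rw [map_pow, h3]
      ring
    rw [← hY]
    exact hmem

end Groth.Agent.S16367
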