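import Groth.Statements.S16368
import Mathlib

set_option autoImplicit false
universe u v
open TensorProduct
open FrobAlg

namespace Groth.Agent.S16368

set_option hygiene false in
local macro "SG" : term => `(((RingEquiv.symm (FrobAlg.toTwist p R)) : FrobAlg.Twist p R →+* R))

/-- Let R be a local ring of prime characteristic p and M a finitely presented R-module. Write R' for R
regarded as an R-algebra through its Frobenius a ↦ a^p, so that R' ⊗_R M is the pull-back of M along
the absolute Frobenius of Spec R, an R'-module. If this pull-back is isomorphic to M — there is a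
bijective map e : R' ⊗_R M → M, additive and semilinear for the identification R' = R — then M is
free. -/
theorem result
    (p : ℕ) [Fact p.Prime] (R : Type u) [CommRing R] [IsLocalRing R] [CharP R p]
    (M : Type v) [AddCommGroup M] [Module R M] [Module.FinitePresentation R M]
    (e : (FrobAlg.Twist p R ⊗[R] M) →ₛₗ[((FrobAlg.toTwist p R).symm : FrobAlg.Twist p R →+* R)] M)
    (he : Function.Bijective e) :
    Module.Free R M := by
  classical
  have hSGa : ∀ c : R, SG (algebraMap R (Twist p R) c) = c ^ p := fun c => by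
    rw [algebraMap_twist]
    exact (toTwist p R).symm_apply_apply _
  have hSGs : ∀ (c : R) (t : Twist p R), SG (c • t) = c ^ p * SG t := fun c t => by
    rw [Algebra.smul_def, map_mul, hSGa]
  have hSGt : ∀ r : R, SG (toTwist p R r) = r := fun r => (toTwist p R).symm_apply_apply r
  -- the Frobenius-semilinear map `φ`
  let φ : M → M := fun z => e ((1 : Twist p R) ⊗ₜ[R] z)
  have he_tmul : ∀ (t : Twist p R) (z : M), e (t ⊗ₜ[R] z) = SG t • φ z := by
    intro t z
    have : t ⊗ₜ[R] z = t • ((1 : Twist p R) ⊗ₜ[R] z) := by
      rw [TensorProduct.smul_tmul', smul_eq_mul, mul_one]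
    rw [this, map_smulₛₗ]
  have hφ_zero : φ 0 = 0 := by
    show e ((1 : Twist p R) ⊗ₜ[R] (0 : M)) = 0
    rw [TensorProduct.tmul_zero, map_zero]
  have hφ_add : ∀ x y, φ (x + y) = φ x + φ y := fun x y => by
    show e _ = e _ + e _
    rw [TensorProduct.tmul_add, map_add]
  have hφ_smul : ∀ (c : R) z, φ (c • z) = c ^ p • φ z := by
    intro c z
    show e ((1 : Twist p R) ⊗ₜ[R] (c • z)) = _
    rw [TensorProduct.tmul_smul, TensorProduct.smul_tmul', he_tmul, hSGs, map_one, mul_one]
  let φa : M →+ M := ⟨⟨φ, hφ_zero⟩, hφ_add⟩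
  -- minimal generators
  let b := Module.finBasis (IsLocalRing.ResidueField R) ((IsLocalRing.ResidueField R) ⊗[R] M)
  have hsurj1 : Function.Surjective (TensorProduct.mk R (IsLocalRing.ResidueField R) M 1) :=
    TensorProduct.mk_surjective R M (IsLocalRing.ResidueField R) Ideal.Quotient.mk_surjective
  choose m hm using fun i => hsurj1 (b i)
  have hspan : Submodule.span R (Set.range m) = ⊤ :=
    IsLocalRing.span_eq_top_of_tmul_eq_basis m b (fun i => hm i)
  have hφ_sum : ∀ c : _ → R, φ (∑ i, c i • m i) = ∑ i, c i ^ p • φ (m i) := by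
    intro c
    have : φa (∑ i, c i • m i) = ∑ i, φa (c i • m i) := map_sum φa _ _
    refine this.trans (Finset.sum_congr rfl fun i _ => ?_)
    exact hφ_smul _ _
  let π : (_ → R) →ₗ[R] M := Fintype.linearCombination R m
  have hπ : ∀ c, π c = ∑ i, c i • m i := fun c => Fintype.linearCombination_apply R m c
  have hπsurj : Function.Surjective π := by
    rw [← LinearMap.range_eq_top, Fintype.range_linearCombination, hspan]
  have hKfg : (LinearMap.ker π).FG := Module.FinitePresentation.fg_ker π hπsurj
  -- relations have coefficients in the maximal ideal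
  have hK𝔪 : ∀ c ∈ LinearMap.ker π, ∀ j, c j ∈ IsLocalRing.maximalIdeal R := by
    intro c hc j
    rw [LinearMap.mem_ker, hπ] at hc
    have h1 : ∑ i, (IsLocalRing.residue R (c i)) • b i = 0 := by
      have h2 := congrArg (TensorProduct.mk R (IsLocalRing.ResidueField R) M 1) hc
      rw [map_sum, map_zero] at h2
      rw [← h2]
      refine Finset.sum_congr rfl fun i _ => ?_
      rw [map_smul, hm i]
      exact algebraMap_smul (IsLocalRing.ResidueField R) (c i) (b i)
    have h3 := Fintype.linearIndependent_iff.mp b.linearIndependent _ h1 j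
    exact (IsLocalRing.residue_eq_zero_iff _).mp h3
  -- the ideal of coefficients of relations
  let I : Ideal R := ⨆ j, Submodule.map (LinearMap.proj j : (_ → R) →ₗ[R] R) (LinearMap.ker π)
  have hI_mem : ∀ c ∈ LinearMap.ker π, ∀ j, c j ∈ I := fun c hc j =>
    (le_iSup (fun j => Submodule.map (LinearMap.proj j : (_ → R) →ₗ[R] R) (LinearMap.ker π)) j)
      ⟨c, hc, rfl⟩
  have hIfg : (I : Submodule R R).FG := Submodule.fg_iSup _ (fun j => hKfg.map _)
  have hI𝔪 : I ≤ IsLocalRing.maximalIdeal R := by
    refine iSup_le fun j => ?_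
    rintro _ ⟨c, hc, rfl⟩
    exact hK𝔪 c hc j
  -- the `φ (m j)` generate
  have hφgen : ∀ y, e y ∈ Submodule.span R (Set.range fun j => φ (m j)) := by
    intro y
    induction y using TensorProduct.induction_on with
    | zero => rw [map_zero]; exact Submodule.zero_mem _
    | tmul t z =>
      rw [he_tmul]
      apply Submodule.smul_mem
      obtain ⟨c, rfl⟩ := (Submodule.mem_span_range_iff_exists_fun R).mp
        (show z ∈ Submodule.span R (Set.range m) by rw [hspan]; trivial)
      rw [hφ_sum]
      exact Submodule.sum_mem _ fun i _ =>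
        Submodule.smul_mem _ _ (Submodule.subset_span ⟨i, rfl⟩)
    | add a b ha hb => rw [map_add]; exact Submodule.add_mem _ ha hb
  -- relations among the `φ (m j)` have coefficients in `𝔪 I`
  have key : ∀ r : _ → R, ∑ i, r i • φ (m i) = 0 →
      ∀ j, r j ∈ IsLocalRing.maximalIdeal R * I := by
    intro r hr j
    have hz : ∑ i, (toTwist p R (r i)) ⊗ₜ[R] m i = (0 : Twist p R ⊗[R] M) := by
      apply he.1
      rw [map_sum, map_zero, ← hr]
      refine Finset.sum_congr rfl fun i _ => ?_
      rw [he_tmul, hSGt]
    obtain ⟨x₀, hx₀⟩ : ∃ x₀ : Twist p R ⊗[R] (_ → R),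
      x₀ = ∑ i, (toTwist p R (r i)) ⊗ₜ[R] (Pi.single i (1 : R)) := ⟨_, rfl⟩
    have hx₀π : (π.lTensor (Twist p R)) x₀ = 0 := by
      rw [hx₀, map_sum, ← hz]
      refine Finset.sum_congr rfl fun i _ => ?_
      rw [LinearMap.lTensor_tmul]
      show _ ⊗ₜ[R] (Fintype.linearCombination R m (Pi.single i 1)) = _
      rw [Fintype.linearCombination_apply_single, one_smul]
    have hex := lTensor_exact (Twist p R) (LinearMap.exact_subtype_ker_map π) hπsurj
    obtain ⟨y, hy⟩ := (hex x₀).mp hx₀π
    let B : Twist p R →ₗ[R] (_ → R) →ₗ[R] Twist p R :=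
      ((LinearMap.lsmul R (Twist p R)).flip).compl₂ (LinearMap.proj j)
    let Ψ : Twist p R ⊗[R] (_ → R) →ₗ[R] Twist p R := TensorProduct.lift B
    have hΨ : ∀ (t : Twist p R) (c : _ → R), Ψ (t ⊗ₜ c) = c j • t := fun t c => by
      simp [Ψ, B]
    have h1 : Ψ x₀ = toTwist p R (r j) := by
      rw [hx₀, map_sum, Finset.sum_eq_single j]
      · rw [hΨ, Pi.single_eq_same, one_smul]
      · intro i _ hij
        rw [hΨ, Pi.single_eq_of_ne hij.symm, zero_smul]
      · intro h
        exact absurd (Finset.mem_univ j) h
    have h2 : ∀ y : Twist p R ⊗[R] (LinearMap.ker π),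
        SG (Ψ ((LinearMap.ker π).subtype.lTensor (Twist p R) y)) ∈
          IsLocalRing.maximalIdeal R * I := by
      intro y
      induction y using TensorProduct.induction_on with
      | zero => simp
      | tmul t c =>
        rw [LinearMap.lTensor_tmul, hΨ, hSGs]
        apply Ideal.mul_mem_right
        have hx𝔪 : (c : _ → R) j ∈ IsLocalRing.maximalIdeal R := hK𝔪 c.1 c.2 j
        have hxI : (c : _ → R) j ∈ I := hI_mem c.1 c.2 j
        have hp2 : 2 ≤ p := (Fact.out : p.Prime).two_le
        have hpe : p = (p - 1) + 1 := by omega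
        show ((c : _ → R) j) ^ p ∈ _
        rw [hpe, pow_succ]
        exact Ideal.mul_mem_mul (Ideal.pow_mem_of_mem _ hx𝔪 _ (by omega)) hxI
      | add a b ha hb =>
        rw [map_add, map_add, map_add]
        exact Ideal.add_mem _ ha hb
    have h3 := h2 y
    rw [hy, h1, hSGt] at h3
    exact h3
  -- transition matrices
  have hv : ∀ i, ∃ v : _ → R, ∑ j, v j • φ (m j) = m i := by
    intro i
    obtain ⟨y, hy⟩ := he.2 (m i)
    have := hφgen y
    rw [hy] at this
    exact (Submodule.mem_span_range_iff_exists_fun R).mp this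
  choose v hv using hv
  have hu : ∀ j, ∃ u : _ → R, ∑ l, u l • m l = φ (m j) := by
    intro j
    exact (Submodule.mem_span_range_iff_exists_fun R).mp
      (show φ (m j) ∈ Submodule.span R (Set.range m) by rw [hspan]; trivial)
  choose u hu using hu
  -- every coefficient of a relation lies in `𝔪 I`
  have hmain : ∀ c ∈ LinearMap.ker π, ∀ l, c l ∈ IsLocalRing.maximalIdeal R * I := by
    intro c hc l
    have hc0 : ∑ i, c i • m i = 0 := by rw [← hπ]; exact hc
    have h1 : ∀ j, (∑ i, c i * v i j) ∈ IsLocalRing.maximalIdeal R * I := by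
      apply key
      calc ∑ j, (∑ i, c i * v i j) • φ (m j)
          = ∑ j, ∑ i, c i • (v i j • φ (m j)) := by
            refine Finset.sum_congr rfl fun j _ => ?_
            rw [Finset.sum_smul]
            refine Finset.sum_congr rfl fun i _ => ?_
            rw [mul_smul]
        _ = ∑ i, c i • ∑ j, v i j • φ (m j) := by
            rw [Finset.sum_comm]
            refine Finset.sum_congr rfl fun i _ => ?_
            rw [Finset.smul_sum]
        _ = ∑ i, c i • m i := by
            refine Finset.sum_congr rfl fun i _ => ?_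
            rw [hv i]
        _ = 0 := hc0
    have h2 : ∀ i, (fun l' => (if i = l' then (1 : R) else 0) - ∑ j, v i j * u j l') ∈
        LinearMap.ker π := by
      intro i
      rw [LinearMap.mem_ker, hπ]
      have e1 : ∑ l', (if i = l' then (1 : R) else 0) • m l' = m i := by
        rw [Finset.sum_eq_single i]
        · rw [if_pos rfl, one_smul]
        · intro l' _ hl'
          rw [if_neg (Ne.symm hl'), zero_smul]
        · intro h
          exact absurd (Finset.mem_univ i) h
      have e2 : ∑ l', (∑ j, v i j * u j l') • m l' = m i := by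
        calc ∑ l', (∑ j, v i j * u j l') • m l'
            = ∑ l', ∑ j, v i j • (u j l' • m l') := by
              refine Finset.sum_congr rfl fun l' _ => ?_
              rw [Finset.sum_smul]
              refine Finset.sum_congr rfl fun j _ => ?_
              rw [mul_smul]
          _ = ∑ j, v i j • ∑ l', u j l' • m l' := by
              rw [Finset.sum_comm]
              refine Finset.sum_congr rfl fun j _ => ?_
              rw [Finset.smul_sum]
          _ = ∑ j, v i j • φ (m j) := by
              refine Finset.sum_congr rfl fun j _ => ?_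
              rw [hu j]
          _ = m i := hv i
      simp only [sub_smul, Finset.sum_sub_distrib]
      rw [e1, e2, sub_self]
    have e1 : ∑ i, c i * (if i = l then (1 : R) else 0) = c l := by
      rw [Finset.sum_eq_single l]
      · rw [if_pos rfl, mul_one]
      · intro i _ hi
        rw [if_neg hi, mul_zero]
      · intro h
        exact absurd (Finset.mem_univ l) h
    have e2 : ∑ i, c i * ∑ j, v i j * u j l = ∑ j, (∑ i, c i * v i j) * u j l := by
      simp only [Finset.mul_sum, Finset.sum_mul]
      rw [Finset.sum_comm]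
      simp only [mul_assoc]
    have e3 : c l = ∑ i, c i * ((if i = l then (1 : R) else 0) - ∑ j, v i j * u j l) +
        ∑ j, (∑ i, c i * v i j) * u j l := by
      simp only [mul_sub, Finset.sum_sub_distrib]
      rw [e1, e2]
      ring
    rw [e3]
    refine Ideal.add_mem _ (Ideal.sum_mem _ fun i _ => ?_) (Ideal.sum_mem _ fun j _ => ?_)
    · exact Ideal.mul_mem_mul (hI𝔪 (hI_mem c hc i)) (hI_mem _ (h2 i) l)
    · exact Ideal.mul_mem_right _ _ (h1 j)
  have hle : (I : Submodule R R) ≤ IsLocalRing.maximalIdeal R • (I : Submodule R R) := by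
    refine iSup_le fun j => ?_
    rintro _ ⟨c, hc, rfl⟩
    exact hmain c hc j
  have hI0 : (I : Submodule R R) = ⊥ :=
    Submodule.eq_bot_of_le_smul_of_le_jacobson_bot (IsLocalRing.maximalIdeal R) I hIfg hle
      (IsLocalRing.maximalIdeal_le_jacobson ⊥)
  have hinj : Function.Injective π := by
    rw [← LinearMap.ker_eq_bot, eq_bot_iff]
    intro c hc
    rw [Submodule.mem_bot]
    funext j
    have := hI_mem c hc j
    rw [show I = (⊥ : Ideal R) from hI0] at this
    exact (Submodule.mem_bot R).mp this
  exact Module.Free.of_equiv (LinearEquiv.ofBijective π ⟨hinj, hπsurj⟩)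

end Groth.Agent.S16368
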