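import Groth.Statements.S16370
import Mathlib.Algebra.Homology.DerivedCategory.Ext.ExactSequences
import Mathlib.AlgebraicGeometry.Properties

set_option autoImplicit false
universe u
open CategoryTheory AlgebraicGeometry Opposite
open FrobSch

namespace Groth.Agent.S16370

/-- (ii) ⇒ (iii): let X be a reduced scheme of prime characteristic p, φ the p-th power map on the sheaf
of additive groups underlying O_X (a monomorphism, X being reduced) and B its cokernel in abelian
sheaves. If H^i(X, B) = 0 for all i ≥ 0, then the endomorphism of H^i(X, O_X) induced by φ — the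
Hasse–Witt operation — is bijective for all i. (The source has X normal and proper over a perfect
field; only reducedness enters this implication.) -/
theorem result
    (p : ℕ) [Fact p.Prime] (X : Scheme.{u}) [IsReduced X] (hp : (p : Γ(X, ⊤)) = 0)
    (φ : Coh.toAb (Coh.structureModule X) ⟶ Coh.toAb (Coh.structureModule X))
    (hφ : ∀ (U : X.Opens) (t : Γ(X, U)), φ.hom.app (op U) t = t ^ p)
    (hB : ∀ i : ℕ, Subsingleton (Sheaf.H (Limits.cokernel φ) i))
    (i : ℕ) : Function.Bijective (Sheaf.H.map φ i) := by
  -- `φ` is a monomorphism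
  have hmono : Mono φ := by
    have h1 : ∀ U, Mono (φ.hom.app U) := by
      intro U
      rw [AddCommGrpCat.mono_iff_injective]
      refine (injective_iff_map_eq_zero (φ.hom.app U).hom).mpr ?_
      intro t ht
      let t' : Γ(X, U.unop) := t
      have h2 : (φ.hom.app (op U.unop)) t' = t' ^ p := hφ U.unop t'
      have h3 : t' ^ p = 0 := by
        rw [← h2]; exact ht
      exact (IsNilpotent.eq_zero ⟨p, h3⟩ : t' = 0)
    have h4 : Mono φ.hom := NatTrans.mono_of_mono_app φ.hom
    exact Sheaf.Hom.mono_of_presheaf_mono _ _ φ
  have hS : (ShortComplex.cokernelSequence φ).ShortExact :=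
    ShortComplex.ShortExact.mk' (ShortComplex.cokernelSequence_exact φ) hmono
      (show Epi (Limits.cokernel.π φ) from inferInstance)
  constructor
  · -- injectivity
    refine (injective_iff_map_eq_zero (Sheaf.H.map φ i)).mpr ?_
    intro x hx
    rw [Sheaf.H.map_apply] at hx
    cases i with
    | zero =>
      exact (injective_iff_map_eq_zero _).mp
        (Abelian.Ext.postcomp_mk₀_injective_of_mono _ φ) x hx
    | succ n =>
      obtain ⟨x₃, hx₃⟩ := Abelian.Ext.covariant_sequence_exact₁ _ hS x hx (rfl : n + 1 = n + 1)
      have h0 : x₃ = 0 := (hB n).elim _ _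
      rw [← hx₃, h0, Abelian.Ext.zero_comp]
      rfl
  · -- surjectivity
    intro y
    have h0 : y.comp (Abelian.Ext.mk₀ (ShortComplex.cokernelSequence φ).g) (add_zero i) = 0 :=
      (hB i).elim _ _
    obtain ⟨x₁, hx₁⟩ := Abelian.Ext.covariant_sequence_exact₂ _ hS y h0
    exact ⟨x₁, hx₁⟩

end Groth.Agent.S16370
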