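import Groth.Statements.S16374
import Mathlib.Algebra.Algebra.Subalgebra.Lattice
import Mathlib.RingTheory.Ideal.Span

set_option autoImplicit false
universe u v w
open FrobAlg

namespace Groth.Agent.S16374

/-- Let p be a prime, A a commutative ring, B and C commutative A-algebras with p² = 0 in B, and g : C →
B an A-algebra map such that every g(c) is congruent modulo p to an element of the A-subalgebra of B
generated by the p-th powers (g lifts a relative Frobenius). Then d(g(x)) = 0 in the module of
Kähler differentials of B over A for every x ∈ C that is congruent modulo p to an element of the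
A-subalgebra of C generated by the p-th powers. (The source works with a lifting of the relative
Frobenius of a smooth scheme over a ℤ/p²-thickening and the subsheaf of functions whose reduction
comes from the Frobenius twist; smoothness is not needed for this vanishing.) -/
theorem result
    (p : ℕ) [Fact p.Prime] (A : Type u) [CommRing A] (B : Type v) [CommRing B] [Algebra A B]
    (C : Type w) [CommRing C] [Algebra A C] (hp : (p : B) ^ 2 = 0)
    (g : C →ₐ[A] B)
    (hg : ∀ c : C, ∃ u ∈ Algebra.adjoin A (Set.range fun b : B => b ^ p),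
      g c - u ∈ Ideal.span ({(p : B)} : Set B))
    (x y : C) (hy : y ∈ Algebra.adjoin A (Set.range fun c : C => c ^ p))
    (hxy : x - y ∈ Ideal.span ({(p : C)} : Set C)) :
    KaehlerDifferential.D A B (g x) = 0 := by
  set D := KaehlerDifferential.D A B with hD
  -- the submodule `p Ω`
  let N : Submodule B (Ω[B⁄A]) := LinearMap.range ((p : B) • (LinearMap.id : Ω[B⁄A] →ₗ[B] Ω[B⁄A]))
  have hN : ∀ ω : Ω[B⁄A], ω ∈ N ↔ ∃ ω', (p : B) • ω' = ω := by
    intro ω
    simp [N, LinearMap.mem_range]
  have hNzero : ∀ ω ∈ N, (p : B) • ω = 0 := by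
    intro ω hω
    obtain ⟨ω', rfl⟩ := (hN ω).mp hω
    rw [smul_smul, ← pow_two, hp, zero_smul]
  have claim1 : ∀ u ∈ Algebra.adjoin A (Set.range fun b : B => b ^ p), D u ∈ N := by
    intro u hu
    induction hu using Algebra.adjoin_induction with
    | mem z hz =>
      obtain ⟨b, rfl⟩ := hz
      rw [(hN _)]
      refine ⟨b ^ (p - 1) • D b, ?_⟩
      show (p : B) • b ^ (p - 1) • D b = D (b ^ p)
      rw [Derivation.leibniz_pow, Nat.cast_smul_eq_nsmul]
    | algebraMap r =>
      rw [Derivation.map_algebraMap]
      exact N.zero_mem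
    | add a b _ _ ha hb =>
      rw [map_add]
      exact N.add_mem ha hb
    | mul a b _ _ ha hb =>
      rw [Derivation.leibniz]
      exact N.add_mem (N.smul_mem _ hb) (N.smul_mem _ ha)
  have claim2 : ∀ c : C, D (g c) ∈ N := by
    intro c
    obtain ⟨u, hu, hgu⟩ := hg c
    obtain ⟨b, hb⟩ := Ideal.mem_span_singleton.mp hgu
    have : g c = u + (p : B) * b := by rw [← hb]; ring
    rw [this, map_add, Derivation.leibniz, Derivation.map_natCast, smul_zero, add_zero]
    refine N.add_mem (claim1 u hu) ?_
    exact (hN _).mpr ⟨D b, rfl⟩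
  have claim3 : ∀ c : C, D (g (c ^ p)) = 0 := by
    intro c
    rw [map_pow, Derivation.leibniz_pow, ← Nat.cast_smul_eq_nsmul B, smul_comm]
    rw [hNzero _ (claim2 c), smul_zero]
  have claim4 : ∀ z ∈ Algebra.adjoin A (Set.range fun c : C => c ^ p), D (g z) = 0 := by
    intro z hz
    induction hz using Algebra.adjoin_induction with
    | mem z hz =>
      obtain ⟨c, rfl⟩ := hz
      exact claim3 c
    | algebraMap r =>
      rw [AlgHom.commutes, Derivation.map_algebraMap]
    | add a b _ _ ha hb =>
      rw [map_add, map_add, ha, hb, add_zero]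
    | mul a b _ _ ha hb =>
      rw [map_mul, Derivation.leibniz, ha, hb, smul_zero, smul_zero, add_zero]
  obtain ⟨c, hc⟩ := Ideal.mem_span_singleton.mp hxy
  have hx : x = y + (p : C) * c := by rw [← hc]; ring
  rw [hx, map_add, map_add, claim4 y hy, zero_add, map_mul, map_natCast, Derivation.leibniz,
    Derivation.map_natCast, smul_zero, add_zero]
  exact hNzero _ (claim2 c)

end Groth.Agent.S16374
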