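import Groth.Statements.S1638
import Mathlib.RingTheory.Flat.Basic
import Mathlib.LinearAlgebra.Basis.VectorSpace
import Mathlib.LinearAlgebra.FreeModule.Basic

set_option autoImplicit false
universe u
open Brauer

namespace Groth.Agent.S1638

/-- Let A and A' be algebras over a field k with subalgebras B ⊆ A and B' ⊆ A' having centralizers C and
C'. Then the centralizer of the image of B ⊗ B' in A ⊗_k A' is the image of C ⊗_k C'. -/
theorem result (k : Type u) [Field k] (A A' : Type u) [Ring A] [Ring A'] [Algebra k A] [Algebra k A']
    (B : Subalgebra k A) (B' : Subalgebra k A') :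
    Subalgebra.centralizer k ((Algebra.TensorProduct.map B.val B'.val).range : Set (TensorProduct k A A')) =
      (Algebra.TensorProduct.map (Subalgebra.centralizer k (B : Set A)).val (Subalgebra.centralizer k (B' : Set A')).val).range := by
  classical
  set C := Subalgebra.centralizer k (B : Set A) with hC
  set C' := Subalgebra.centralizer k (B' : Set A') with hC'
  have hcomp : ∀ w₂ : TensorProduct k C C', (Algebra.TensorProduct.map C.val C'.val) w₂ =
      (Algebra.TensorProduct.map C.val (AlgHom.id k A'))
        ((Algebra.TensorProduct.map (AlgHom.id k C) C'.val) w₂) := by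
    intro w₂
    induction w₂ using TensorProduct.induction_on with
    | zero => simp
    | tmul c c' => rfl
    | add x y hx hy => simp only [map_add, hx, hy]
  apply le_antisymm
  · intro w hw
    rw [Subalgebra.mem_centralizer_iff] at hw
    -- step 1: w commutes with B ⊗ 1
    have h1 : w ∈ Subalgebra.centralizer k
        (Algebra.TensorProduct.includeLeft (S := k) (R := k) (A := A) (B := A') '' (B : Set A)) := by
      rw [Subalgebra.mem_centralizer_iff]
      rintro _ ⟨b, hb, rfl⟩
      apply hw
      exact ⟨(⟨b, hb⟩ : B) ⊗ₜ[k] (1 : B'), by simp⟩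
    rw [Subalgebra.centralizer_coe_image_includeLeft_eq_center_tensorProduct k A A' (B : Set A)] at h1
    rw [AlgHom.mem_range] at h1
    obtain ⟨w₁, rfl⟩ := h1
    -- injectivity
    have hinj : Function.Injective (Algebra.TensorProduct.map C.val (AlgHom.id k A')) := by
      have := TensorProduct.map_injective_of_flat_flat (R := k) C.val.toLinearMap
        (AlgHom.id k A').toLinearMap Subtype.val_injective Function.injective_id
      exact this
    have h2 : w₁ ∈ Subalgebra.centralizer k
        (Algebra.TensorProduct.includeRight (R := k) (A := C) (B := A') '' (B' : Set A')) := by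
      rw [Subalgebra.mem_centralizer_iff]
      rintro _ ⟨b', hb', rfl⟩
      apply hinj
      rw [map_mul, map_mul]
      have := hw ((1 : A) ⊗ₜ[k] b') ⟨(1 : B) ⊗ₜ[k] (⟨b', hb'⟩ : B'), by simp⟩
      simpa using this
    rw [Subalgebra.centralizer_coe_image_includeRight_eq_center_tensorProduct k C A' (B' : Set A')] at h2
    rw [AlgHom.mem_range] at h2
    obtain ⟨w₂, rfl⟩ := h2
    rw [AlgHom.mem_range]
    exact ⟨w₂, hcomp w₂⟩
  · intro v hv
    rw [AlgHom.mem_range] at hv
    obtain ⟨w, rfl⟩ := hv
    rw [Subalgebra.mem_centralizer_iff]
    intro u hu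
    rw [SetLike.mem_coe, AlgHom.mem_range] at hu
    obtain ⟨z, rfl⟩ := hu
    induction z using TensorProduct.induction_on with
    | zero => simp
    | tmul b b' =>
      induction w using TensorProduct.induction_on with
      | zero => simp
      | tmul c c' =>
        simp only [Algebra.TensorProduct.map_tmul, Subalgebra.coe_val,
          Algebra.TensorProduct.tmul_mul_tmul]
        rw [(Subalgebra.mem_centralizer_iff k).1 c.2 b b.2,
          (Subalgebra.mem_centralizer_iff k).1 c'.2 b' b'.2]
      | add x y hx hy => rw [map_add, mul_add, add_mul, hx, hy]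
    | add x y hx hy => rw [map_add, add_mul, mul_add, hx, hy]

end Groth.Agent.S1638
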