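import Groth.Statements.S16390
import Mathlib.NumberTheory.Padics.Hensel
import Mathlib.Algebra.Polynomial.SpecificDegree
import Mathlib.Tactic.ComputeDegree
import Mathlib.Tactic.LinearCombination
import Mathlib.Tactic.Linarith
import Mathlib.Analysis.Complex.Norm

set_option autoImplicit false
open AbVar

namespace Groth.Agent.S16390

theorem val_of_norm {p : ℕ} [Fact p.Prime] (x : ℚ_[p]) (n : ℤ) (hx : x ≠ 0)
    (h : ‖x‖ = (p : ℝ) ^ (-n)) : x.valuation = n := by
  rw [Padic.norm_eq_zpow_neg_valuation hx] at h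
  have hp1 : (1 : ℝ) < p := by exact_mod_cast (Fact.out : p.Prime).one_lt
  have h2 := zpow_right_injective₀ (by linarith) (ne_of_gt hp1) h
  linarith

/-- Let p be a prime number, r > 2 and q = p^r. The polynomial x² − p x + q is irreducible over ℚ, each
of its complex roots has absolute value √q (so its roots are Weil q-numbers), and it has two
distinct roots in ℚ_p, of p-adic valuations 1 and r − 1. The published lemma also computes the index
of the endomorphism algebra of the simple abelian variety attached to a root; this row does not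
state that part. -/
theorem result (p r : ℕ) [Fact p.Prime] (hr : 2 < r) :
    Irreducible (Polynomial.X ^ 2 - Polynomial.C (p : ℚ) * Polynomial.X + Polynomial.C ((p : ℚ) ^ r)) ∧
      (∀ π : ℂ, π ^ 2 - (p : ℂ) * π + (p : ℂ) ^ r = 0 → ‖π‖ = Real.sqrt ((p : ℝ) ^ r)) ∧
      ∃ a b : ℚ_[p], a ≠ b ∧ a ^ 2 - (p : ℚ_[p]) * a + (p : ℚ_[p]) ^ r = 0 ∧
        b ^ 2 - (p : ℚ_[p]) * b + (p : ℚ_[p]) ^ r = 0 ∧ a.valuation = 1 ∧ b.valuation = (r : ℤ) - 1 := by
  have hp := (Fact.out : p.Prime)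
  have hp2 : 2 ≤ p := hp.two_le
  have hkeyN : p ^ 2 < 4 * p ^ r := by
    have h1 : p ^ 2 ≤ p ^ r := Nat.pow_le_pow_right hp.pos (by omega)
    have h2 : 0 < p ^ 2 := pow_pos hp.pos 2
    omega
  refine ⟨?_, ?_, ?_⟩
  · apply Polynomial.irreducible_of_degree_le_three_of_not_isRoot
    · have hd : (Polynomial.X ^ 2 - Polynomial.C (p : ℚ) * Polynomial.X +
          Polynomial.C ((p : ℚ) ^ r)).natDegree = 2 := by
        compute_degree!
      rw [hd]; decide
    · intro x hx
      rw [Polynomial.IsRoot.def] at hx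
      simp only [Polynomial.eval_add, Polynomial.eval_sub, Polynomial.eval_mul, Polynomial.eval_pow,
        Polynomial.eval_X, Polynomial.eval_C] at hx
      have hk : ((p : ℚ)) ^ 2 < 4 * (p : ℚ) ^ r := by exact_mod_cast hkeyN
      nlinarith [sq_nonneg (2 * x - p)]
  · intro π hπ
    have hk : ((p : ℝ)) ^ 2 < 4 * (p : ℝ) ^ r := by exact_mod_cast hkeyN
    have hpc : (p : ℂ) = ((p : ℝ) : ℂ) := by push_cast; rfl
    have hqc : (p : ℂ) ^ r = (((p : ℝ) ^ r : ℝ) : ℂ) := by push_cast; rfl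
    rw [hqc, hpc] at hπ
    have hre := congrArg Complex.re hπ
    have him := congrArg Complex.im hπ
    simp only [Complex.add_re, Complex.sub_re, Complex.mul_re, Complex.ofReal_re, Complex.ofReal_im,
      Complex.zero_re, pow_two, Complex.add_im, Complex.sub_im, Complex.mul_im, Complex.zero_im,
      zero_mul, sub_zero, add_zero, mul_zero] at hre him
    have hsum : π.re * π.re + π.im * π.im = (p : ℝ) ^ r := by
      have h1 : π.im * (2 * π.re - p) = 0 := by linear_combination him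
      rcases mul_eq_zero.mp h1 with h | h
      · exfalso
        rw [h] at hre
        nlinarith [sq_nonneg (2 * π.re - p)]
      · linear_combination (-1 : ℝ) * hre + π.re * h
    rw [Complex.norm_def, Complex.normSq_apply, hsum]
  · -- Hensel's lemma for α^2 - α + p^(r-2) at α = 1
    have hp0 : (0 : ℝ) < p := by exact_mod_cast hp.pos
    have hp1 : (1 : ℝ) < p := by exact_mod_cast hp.one_lt
    let F : Polynomial ℤ_[p] := Polynomial.X ^ 2 - Polynomial.X + Polynomial.C ((p : ℤ_[p]) ^ (r - 2))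
    have hF1 : Polynomial.aeval (1 : ℤ_[p]) F = (p : ℤ_[p]) ^ (r - 2) := by
      simp [F]
    have hder : Polynomial.derivative F = Polynomial.C 2 * Polynomial.X - 1 := by
      simp only [F, Polynomial.derivative_add, Polynomial.derivative_sub,
        Polynomial.derivative_X_sq, Polynomial.derivative_X, Polynomial.derivative_C, add_zero]
    have hF'1 : Polynomial.aeval (1 : ℤ_[p]) (Polynomial.derivative F) = 1 := by
      rw [hder]
      simp
      norm_num
    have hnorm : ‖Polynomial.aeval (1 : ℤ_[p]) F‖ <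
        ‖Polynomial.aeval (1 : ℤ_[p]) (Polynomial.derivative F)‖ ^ 2 := by
      rw [hF1, hF'1, norm_one, one_pow, norm_pow, PadicInt.norm_p]
      exact pow_lt_one₀ (inv_nonneg.mpr hp0.le) (inv_lt_one_of_one_lt₀ hp1) (by omega)
    obtain ⟨α, hα, hα1, -, -⟩ := hensels_lemma hnorm
    have hα' : α ^ 2 - α + (p : ℤ_[p]) ^ (r - 2) = 0 := by
      simpa [F] using hα
    have hαnorm : ‖α‖ = 1 := by
      have h1 : ‖α + (-1)‖ < ‖(-1 : ℤ_[p])‖ := by
        rw [norm_neg, norm_one, ← sub_eq_add_neg]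
        rwa [hF'1, norm_one] at hα1
      rw [PadicInt.norm_eq_of_norm_add_lt_right h1, norm_neg, norm_one]
    have hq : (α : ℚ_[p]) ^ 2 - (α : ℚ_[p]) + (p : ℚ_[p]) ^ (r - 2) = 0 := by
      have h1 := congrArg ((↑) : ℤ_[p] → ℚ_[p]) hα'
      push_cast at h1
      exact h1
    have hpr : (p : ℚ_[p]) ^ r = (p : ℚ_[p]) ^ 2 * (p : ℚ_[p]) ^ (r - 2) := by
      rw [← pow_add]; congr 1; omega
    have ha_root : ((p : ℚ_[p]) * α) ^ 2 - (p : ℚ_[p]) * ((p : ℚ_[p]) * α) + (p : ℚ_[p]) ^ r = 0 := by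
      rw [hpr]
      linear_combination (p : ℚ_[p]) ^ 2 * hq
    have hb_root : ((p : ℚ_[p]) - (p : ℚ_[p]) * α) ^ 2 -
        (p : ℚ_[p]) * ((p : ℚ_[p]) - (p : ℚ_[p]) * α) + (p : ℚ_[p]) ^ r = 0 := by
      linear_combination ha_root
    have hab : ((p : ℚ_[p]) * α) * ((p : ℚ_[p]) - (p : ℚ_[p]) * α) = (p : ℚ_[p]) ^ r := by
      linear_combination (-1 : ℚ_[p]) * ha_root
    have hanorm : ‖(p : ℚ_[p]) * α‖ = (p : ℝ) ^ (-(1 : ℤ)) := by
      rw [norm_mul, Padic.norm_p, ← PadicInt.norm_def, hαnorm, mul_one, zpow_neg_one]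
    have ha0 : (p : ℚ_[p]) * α ≠ 0 := by
      intro h
      rw [h, norm_zero] at hanorm
      exact absurd hanorm.symm (zpow_ne_zero _ hp0.ne')
    have hbnorm : ‖(p : ℚ_[p]) - (p : ℚ_[p]) * α‖ = (p : ℝ) ^ (-((r : ℤ) - 1)) := by
      have h := congrArg norm hab
      rw [norm_mul, hanorm, Padic.norm_p_pow, zpow_neg_one] at h
      have e : (p : ℝ) ^ (-((r : ℤ) - 1)) = (p : ℝ) * (p : ℝ) ^ (-(r : ℤ)) := by
        rw [show -((r : ℤ) - 1) = 1 + -(r : ℤ) by ring, zpow_add₀ hp0.ne', zpow_one]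
      rw [e, ← h, ← mul_assoc, mul_inv_cancel₀ hp0.ne', one_mul]
    have hb0 : (p : ℚ_[p]) - (p : ℚ_[p]) * α ≠ 0 := by
      intro h
      rw [h, norm_zero] at hbnorm
      exact absurd hbnorm.symm (zpow_ne_zero _ hp0.ne')
    have hva := val_of_norm _ 1 ha0 hanorm
    have hvb := val_of_norm _ ((r : ℤ) - 1) hb0 hbnorm
    refine ⟨(p : ℚ_[p]) * α, (p : ℚ_[p]) - (p : ℚ_[p]) * α, ?_, ha_root, hb_root, hva, hvb⟩
    intro h
    rw [h, hvb] at hva
    omega

end Groth.Agent.S16390
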