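import Groth.Statements.S16396
import Mathlib.Algebra.Polynomial.Derivative
import Mathlib.Algebra.Polynomial.Eval.Coeff
import Mathlib.Algebra.Polynomial.Degree.Lemmas

set_option autoImplicit false
universe u
open CAlg

namespace Groth.Agent.S16396

open Polynomial in
/-- For a commutative ℚ-algebra A, a ℚ-subalgebra B of the polynomial algebra A[X] that contains X and
is closed under d/dX consists exactly of the polynomials each of whose coefficients is the value at
0 of some element of B; in other words B = ev(B)[X], with ev the evaluation at 0. -/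
theorem result
    (A : Type u) [CommRing A] [Algebra ℚ A] (B : Subalgebra ℚ A[X])
    (hX : (X : A[X]) ∈ B) (hD : ∀ P ∈ B, Polynomial.derivative P ∈ B) (P : A[X]) :
    P ∈ B ↔ ∀ i : ℕ, ∃ Q ∈ B, Polynomial.eval 0 Q = P.coeff i := by
  have claim : ∀ n : ℕ, ∀ Q ∈ B, Q.natDegree ≤ n → ∀ i : ℕ, C (Q.coeff i) ∈ B := by
    intro n
    induction n with
    | zero =>
      intro Q hQ hdeg i
      have hQC : Q = C (Q.coeff 0) := Polynomial.eq_C_of_natDegree_le_zero hdeg
      rcases Nat.eq_zero_or_pos i with rfl | hi
      · rw [← hQC]; exact hQ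
      · have : Q.coeff i = 0 := by
          rw [hQC, Polynomial.coeff_C, if_neg hi.ne']
        rw [this, map_zero]
        exact B.zero_mem
    | succ n ih =>
      intro Q hQ hdeg i
      have hQ' : derivative Q ∈ B := hD Q hQ
      have hdeg' : (derivative Q).natDegree ≤ n :=
        le_trans (Polynomial.natDegree_derivative_le Q) (by omega)
      have hpos : ∀ j : ℕ, C (Q.coeff (j + 1)) ∈ B := by
        intro j
        have h1 := ih (derivative Q) hQ' hdeg' j
        rw [Polynomial.coeff_derivative] at h1
        have h2 : C (Q.coeff (j + 1)) =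
            (((j + 1 : ℕ) : ℚ)⁻¹) • C (Q.coeff (j + 1) * ((j : A) + 1)) := by
          rw [Polynomial.smul_C, Algebra.smul_def, mul_comm (Q.coeff (j + 1)), ← mul_assoc]
          have : (algebraMap ℚ A) (((j + 1 : ℕ) : ℚ)⁻¹) * ((j : A) + 1) = 1 := by
            have h3 : ((j : A) + 1) = algebraMap ℚ A ((j + 1 : ℕ) : ℚ) := by
              rw [map_natCast]; push_cast; rfl
            rw [h3, ← map_mul, inv_mul_cancel₀, map_one]
            exact_mod_cast Nat.succ_ne_zero j
          rw [this, one_mul]
        rw [h2]
        exact B.smul_mem h1 _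
      rcases Nat.eq_zero_or_pos i with rfl | hi
      · have hsum := Polynomial.as_sum_range_C_mul_X_pow Q
        rw [Finset.sum_range_succ'] at hsum
        have : C (Q.coeff 0) =
            Q - ∑ j ∈ Finset.range Q.natDegree, C (Q.coeff (j + 1)) * X ^ (j + 1) := by
          conv_rhs => lhs; rw [hsum]
          simp
        rw [this]
        refine B.sub_mem hQ (B.sum_mem fun j _ => ?_)
        exact B.mul_mem (hpos j) (B.pow_mem hX _)
      · obtain ⟨j, rfl⟩ : ∃ j, i = j + 1 := ⟨i - 1, by omega⟩
        exact hpos j
  constructor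
  · intro hP i
    exact ⟨C (P.coeff i), claim _ P hP le_rfl i, by simp⟩
  · intro h
    rw [Polynomial.as_sum_range_C_mul_X_pow P]
    refine B.sum_mem fun i _ => ?_
    obtain ⟨Q, hQ, hQi⟩ := h i
    rw [← hQi, ← Polynomial.coeff_zero_eq_eval_zero]
    exact B.mul_mem (claim _ Q hQ le_rfl 0) (B.pow_mem hX _)

end Groth.Agent.S16396
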