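import Groth.Statements.S16397
import Mathlib.RingTheory.MvPolynomial.EulerIdentity
import Mathlib.Tactic

set_option autoImplicit false
open W4c3tautjacobian

namespace Groth.Agent.S16397

open MvPolynomial W4c3tautjacobian

/-- integer valued first-degree weight -/
def w1 (g : ℕ) (v : Var g) : ℤ := ((wt g v).1 : ℤ)

lemma w1_none (g : ℕ) : w1 g none = 0 := rfl

lemma w1_some (g : ℕ) (q : {p : ℕ × ℕ // Valid g p}) : w1 g (some q) = (q.1.1 : ℤ) := rfl

lemma weight_w1 (g : ℕ) (d : Var g →₀ ℕ) :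
    Finsupp.weight (w1 g) d = (((Finsupp.weight (wt g) d).1 : ℕ) : ℤ) := by
  rw [Finsupp.weight_apply, Finsupp.weight_apply, Finsupp.sum, Finsupp.sum, Prod.fst_sum]
  push_cast
  refine Finset.sum_congr rfl (fun i _ => ?_)
  simp [w1]

lemma hom1_of (g : ℕ) {β : RelRing g} {a n : ℕ}
    (h : IsWeightedHomogeneous (wt g) β ((a, n) : ℕ × ℕ)) :
    IsWeightedHomogeneous (w1 g) β (a : ℤ) := by
  intro d hd
  rw [weight_w1, h hd]

lemma eq_zero_of_hom1_neg (g : ℕ) {P : RelRing g} {a : ℤ} (ha : a < 0)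
    (h : IsWeightedHomogeneous (w1 g) P a) : P = 0 := by
  by_contra hP
  obtain ⟨d, hd⟩ := MvPolynomial.ne_zero_iff.mp hP
  have h1 := h hd
  rw [weight_w1] at h1
  omega

lemma hom1_natCast (g n : ℕ) : IsWeightedHomogeneous (w1 g) ((n : ℕ) : RelRing g) 0 := by
  rw [← map_natCast (C : ℚ →+* RelRing g)]
  exact isWeightedHomogeneous_C _ _

lemma hom1_xv (g : ℕ) (i j : ℤ) : IsWeightedHomogeneous (w1 g) (xv g i j) i := by
  unfold xv
  split_ifs with h1 h2
  · rw [h1.1]; exact hom1_natCast g g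
  · have := isWeightedHomogeneous_X ℚ (w1 g) (some ⟨(i.toNat, j.toNat), h2.2.2⟩)
    convert this using 1
    rw [w1_some]; exact (Int.toNat_of_nonneg h2.1).symm
  · exact isWeightedHomogeneous_zero _ _ _

lemma valid20 (g : ℕ) (hg : 1 ≤ g) : Valid g (2, 0) := by
  unfold Valid
  refine ⟨by norm_num, ?_, ⟨1, rfl⟩, by simp⟩
  show 0 + 2 ≤ 2 * g
  omega

lemma xv_20 (g : ℕ) (hg : 1 ≤ g) : xv g 2 0 = X (some ⟨(2, 0), valid20 g hg⟩) := by
  unfold xv
  have h1 : ¬ ((2 : ℤ) = 0 ∧ (0 : ℤ) = 0) := by norm_num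
  have h2 : 0 ≤ (2 : ℤ) ∧ 0 ≤ (0 : ℤ) ∧ Valid g ((2 : ℤ).toNat, (0 : ℤ).toNat) :=
    ⟨by norm_num, le_refl _, valid20 g hg⟩
  rw [if_neg h1, dif_pos h2]
  rfl

lemma xv_00 (g : ℕ) : xv g 0 0 = (g : RelRing g) := by
  unfold xv
  rw [if_pos ⟨rfl, rfl⟩]

lemma xv_neg (g : ℕ) (i j : ℤ) (hj : j < 0) : xv g i j = 0 := by
  unfold xv
  have h1 : ¬ (i = 0 ∧ j = 0) := by rintro ⟨_, h⟩; omega
  have h2 : ¬ (0 ≤ i ∧ 0 ≤ j ∧ Valid g (i.toNat, j.toNat)) := by rintro ⟨_, h, _⟩; omega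
  rw [if_neg h1, dif_neg h2]

lemma xv_one_neg_one (g : ℕ) : xv g 1 (-1) = 0 := xv_neg g 1 (-1) (by norm_num)

lemma xv_valid (g : ℕ) (q : ℕ × ℕ) (hq : Valid g q) :
    xv g (q.1 : ℤ) (q.2 : ℤ) = X (some ⟨q, hq⟩) := by
  unfold xv
  have h1 : ¬ ((q.1 : ℤ) = 0 ∧ (q.2 : ℤ) = 0) := by
    rintro ⟨ha, hb⟩
    exact hq.2.2.2 (Prod.ext (by exact_mod_cast ha) (by exact_mod_cast hb))
  have h2 : 0 ≤ (q.1 : ℤ) ∧ 0 ≤ (q.2 : ℤ) ∧ Valid g ((q.1 : ℤ).toNat, (q.2 : ℤ).toNat) :=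
    ⟨Int.natCast_nonneg _, Int.natCast_nonneg _, by simpa using hq⟩
  rw [if_neg h1, dif_pos h2]
  have e : (((q.1 : ℤ).toNat, (q.2 : ℤ).toNat) : ℕ × ℕ) = q := by simp
  exact congrArg X (congrArg some (Subtype.ext e))

lemma dv_zero (g : ℕ) (p : ℕ × ℕ) : dv g p (0 : RelRing g) = 0 := by
  unfold dv; split_ifs <;> simp

lemma dv_add (g : ℕ) (p : ℕ × ℕ) (P Q : RelRing g) :
    dv g p (P + Q) = dv g p P + dv g p Q := by
  unfold dv; split_ifs <;> simp

lemma dv_smul (g : ℕ) (p : ℕ × ℕ) (c : ℚ) (P : RelRing g) :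
    dv g p (c • P) = c • dv g p P := by
  unfold dv; split_ifs <;> simp

lemma dv_ite (g : ℕ) (p : ℕ × ℕ) (c : Prop) [Decidable c] (P : RelRing g) :
    dv g p (if c then P else 0) = if c then dv g p P else 0 := by
  split_ifs <;> simp [dv_zero]

lemma dv_valid (g : ℕ) (p : ℕ × ℕ) (hp : Valid g p) (P : RelRing g) :
    dv g p P = pderiv (some ⟨p, hp⟩) P := by
  unfold dv; rw [dif_pos hp]

lemma dv_not_valid (g : ℕ) (p : ℕ × ℕ) (hp : ¬ Valid g p) (P : RelRing g) :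
    dv g p P = 0 := by
  unfold dv; rw [dif_neg hp]

lemma dv_X20_mul (g : ℕ) (hg : 1 ≤ g) (p : ℕ × ℕ) (P : RelRing g) :
    dv g p (X (some ⟨(2, 0), valid20 g hg⟩) * P) =
      (if p = (2, 0) then P else 0) + X (some ⟨(2, 0), valid20 g hg⟩) * dv g p P := by
  by_cases hv : Valid g p
  · rw [dv_valid g p hv, dv_valid g p hv, pderiv_mul]
    by_cases hp : p = (2, 0)
    · subst hp
      rw [if_pos rfl, pderiv_X_self, one_mul]
    · have hne : (some ⟨(2, 0), valid20 g hg⟩ : Var g) ≠ some ⟨p, hv⟩ := fun h =>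
        hp (congrArg Subtype.val (Option.some.inj h)).symm
      rw [if_neg hp, pderiv_X_of_ne hne, zero_mul]
  · have hp : p ≠ (2, 0) := fun h => hv (h ▸ valid20 g hg)
    rw [dv_not_valid g p hv, dv_not_valid g p hv, if_neg hp, mul_zero, add_zero]

/-- coefficient of the second order part of `F` -/
noncomputable def cf (g : ℕ) (p q : ℕ × ℕ) : RelRing g :=
  X none * xv g ((p.1 : ℤ) - 1) ((p.2 : ℤ) - 1) * xv g ((q.1 : ℤ) - 1) ((q.2 : ℤ) - 1)
    - (mergeCoeff p.1 q.1 : RelRing g) * xv g ((p.1 : ℤ) + q.1 - 2) ((p.2 : ℤ) + q.2)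

lemma F_eq (g : ℕ) (P : RelRing g) : F g P =
    (1 / 2 : ℚ) • (∑ p ∈ idx g, ∑ q ∈ idx g, cf g p q * dv g p (dv g q P))
      + ∑ p ∈ idx g, xv g ((p.1 : ℤ) - 2) (p.2 : ℤ) * dv g p P := rfl

lemma mergeCoeff_two_right (i : ℕ) : mergeCoeff i 2 = i := by
  unfold mergeCoeff
  rcases i with _ | i
  · simp
  · rw [if_neg (by omega)]
    rw [show i + 1 + 2 - 2 = i + 1 by omega, show i + 1 - 1 = i by omega,
      Nat.choose_succ_self_right]

lemma mergeCoeff_two_left (k : ℕ) : mergeCoeff 2 k = k := by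
  unfold mergeCoeff
  rcases k with _ | k
  · simp
  · rw [if_neg (by omega)]
    rw [show 2 + (k + 1) - 2 = k + 1 by omega, show 2 - 1 = 1 by rfl, Nat.choose_one_right]

lemma cf_right_20 (g : ℕ) (p : ℕ × ℕ) :
    cf g p (2, 0) = -((p.1 : ℕ) : RelRing g) * xv g (p.1 : ℤ) (p.2 : ℤ) := by
  simp [cf, xv_one_neg_one, mergeCoeff_two_right]

lemma cf_left_20 (g : ℕ) (q : ℕ × ℕ) :
    cf g (2, 0) q = -((q.1 : ℕ) : RelRing g) * xv g (q.1 : ℤ) (q.2 : ℤ) := by
  simp [cf, xv_one_neg_one, mergeCoeff_two_left]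

lemma mem_idx_20 (g : ℕ) (hg : 1 ≤ g) : ((2, 0) : ℕ × ℕ) ∈ idx g := by
  unfold idx
  simp only [Finset.mem_product, Finset.mem_range]
  omega

lemma sum_second (g : ℕ) (hg : 1 ≤ g) (P : RelRing g) :
    ∑ p ∈ idx g, ∑ q ∈ idx g, cf g p q *
        dv g p (dv g q (X (some ⟨(2, 0), valid20 g hg⟩) * P)) =
      X (some ⟨(2, 0), valid20 g hg⟩) *
          (∑ p ∈ idx g, ∑ q ∈ idx g, cf g p q * dv g p (dv g q P))
        + ∑ p ∈ idx g, cf g p (2, 0) * dv g p P + ∑ q ∈ idx g, cf g (2, 0) q * dv g q P := by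
  have hmem := mem_idx_20 g hg
  have h3 : ∑ p ∈ idx g, ∑ q ∈ idx g,
      cf g p q * (X (some ⟨(2, 0), valid20 g hg⟩) * dv g p (dv g q P)) =
      X (some ⟨(2, 0), valid20 g hg⟩) *
          (∑ p ∈ idx g, ∑ q ∈ idx g, cf g p q * dv g p (dv g q P)) := by
    rw [Finset.mul_sum]
    refine Finset.sum_congr rfl (fun p _ => ?_)
    rw [Finset.mul_sum]
    refine Finset.sum_congr rfl (fun q _ => ?_)
    ring
  simp only [dv_X20_mul g hg, dv_add, dv_ite, mul_add, mul_ite, mul_zero,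
    Finset.sum_add_distrib, Finset.sum_ite_eq', Finset.sum_ite_irrel, Finset.sum_const_zero,
    hmem, if_true]
  rw [h3]
  abel

lemma sum_first (g : ℕ) (hg : 1 ≤ g) (P : RelRing g) :
    ∑ p ∈ idx g, xv g ((p.1 : ℤ) - 2) (p.2 : ℤ) *
        dv g p (X (some ⟨(2, 0), valid20 g hg⟩) * P) =
      X (some ⟨(2, 0), valid20 g hg⟩) *
          (∑ p ∈ idx g, xv g ((p.1 : ℤ) - 2) (p.2 : ℤ) * dv g p P)
        + (g : RelRing g) * P := by
  have hmem := mem_idx_20 g hg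
  have e : xv g ((((2, 0) : ℕ × ℕ).1 : ℤ) - 2) ((((2, 0) : ℕ × ℕ).2 : ℕ) : ℤ) = (g : RelRing g) := by
    simp [xv_00]
  have h3 : ∑ p ∈ idx g, xv g ((p.1 : ℤ) - 2) (p.2 : ℤ) *
      (X (some ⟨(2, 0), valid20 g hg⟩) * dv g p P) =
      X (some ⟨(2, 0), valid20 g hg⟩) *
          (∑ p ∈ idx g, xv g ((p.1 : ℤ) - 2) (p.2 : ℤ) * dv g p P) := by
    rw [Finset.mul_sum]
    refine Finset.sum_congr rfl (fun p _ => ?_)
    ring
  simp only [dv_X20_mul g hg, mul_add, mul_ite, mul_zero, Finset.sum_add_distrib,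
    Finset.sum_ite_eq', hmem, if_true]
  rw [h3, e]
  abel

lemma mem_filter_iff (g : ℕ) (p : ℕ × ℕ) : p ∈ (idx g).filter (Valid g) ↔ Valid g p := by
  simp only [Finset.mem_filter, and_iff_right_iff_imp]
  intro hp
  unfold idx
  simp only [Finset.mem_product, Finset.mem_range]
  obtain ⟨h1, h2, _, _⟩ := hp
  omega

noncomputable instance instFintypeValid (g : ℕ) : Fintype {p : ℕ × ℕ // Valid g p} :=
  Fintype.subtype ((idx g).filter (Valid g)) (mem_filter_iff g)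

lemma sum_idx (g : ℕ) (G : ℕ × ℕ → RelRing g) (hG : ∀ p, ¬ Valid g p → G p = 0) :
    ∑ p ∈ idx g, G p = ∑ q : {p : ℕ × ℕ // Valid g p}, G q.1 := by
  rw [← Finset.sum_filter_of_ne (p := Valid g)
    (fun p _ hne => by by_contra hv; exact hne (hG p hv))]
  exact Finset.sum_subtype _ (mem_filter_iff g) G

lemma euler (g : ℕ) (P : RelRing g) {a : ℤ} (h : IsWeightedHomogeneous (w1 g) P a) :
    ∑ p ∈ idx g, ((p.1 : ℕ) : RelRing g) * xv g (p.1 : ℤ) (p.2 : ℤ) * dv g p P = (a : ℚ) • P := by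
  refine IsWeightedHomogeneous.induction_on
    (motive := fun P _ => ∑ p ∈ idx g, ((p.1 : ℕ) : RelRing g) * xv g (p.1 : ℤ) (p.2 : ℤ) * dv g p P
      = (a : ℚ) • P) ?_ ?_ ?_ h
  · simp [dv_zero]
  · intro p q _ _ ihp ihq
    simp only [dv_add, mul_add, Finset.sum_add_distrib, ihp, ihq, smul_add]
  · intro d r hr
    rw [sum_idx g _ (fun p hp => by rw [dv_not_valid g p hp, mul_zero])]
    have hterm : ∀ q : {p : ℕ × ℕ // Valid g p},
        ((q.1.1 : ℕ) : RelRing g) * xv g (q.1.1 : ℤ) (q.1.2 : ℤ) * dv g q.1 (monomial d r)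
          = ((d (some q) : ℚ) * (q.1.1 : ℚ)) • monomial d r := by
      rintro ⟨q, hq⟩
      dsimp only
      rw [xv_valid g q hq, dv_valid g q hq, mul_assoc, X_mul_pderiv_monomial]
      simp only [MvPolynomial.smul_eq_C_mul, nsmul_eq_mul, map_mul, map_natCast]
      ring
    rw [Finset.sum_congr rfl (fun q _ => hterm q), ← Finset.sum_smul]
    congr 1
    rw [← hr, Finsupp.weight_eq_sum, Fintype.sum_option, w1_none, smul_zero, zero_add]
    simp only [w1_some, nsmul_eq_mul]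
    push_cast
    rfl

lemma hom1_dv (g : ℕ) (p : ℕ × ℕ) {P : RelRing g} {a : ℤ}
    (h : IsWeightedHomogeneous (w1 g) P a) :
    IsWeightedHomogeneous (w1 g) (dv g p P) (a - p.1) := by
  unfold dv
  split_ifs with hv
  · exact h.pderiv (by show a - (p.1 : ℤ) + ((p.1 : ℕ) : ℤ) = a; ring)
  · exact isWeightedHomogeneous_zero _ _ _

lemma hom1_F (g : ℕ) {P : RelRing g} {a : ℤ} (h : IsWeightedHomogeneous (w1 g) P a) :
    IsWeightedHomogeneous (w1 g) (F g P) (a - 2) := by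
  rw [F_eq]
  refine IsWeightedHomogeneous.add ?_ ?_
  · show (1 / 2 : ℚ) • _ ∈ weightedHomogeneousSubmodule ℚ (w1 g) (a - 2)
    refine Submodule.smul_mem _ _ ?_
    show IsWeightedHomogeneous (w1 g) _ (a - 2)
    refine IsWeightedHomogeneous.sum _ _ _ (fun p _ =>
      IsWeightedHomogeneous.sum _ _ _ (fun q _ => ?_))
    have hD := hom1_dv g p (hom1_dv g q h)
    have hA : IsWeightedHomogeneous (w1 g)
        (X none * xv g ((p.1 : ℤ) - 1) ((p.2 : ℤ) - 1) * xv g ((q.1 : ℤ) - 1) ((q.2 : ℤ) - 1))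
        ((p.1 : ℤ) + q.1 - 2) := by
      have := ((isWeightedHomogeneous_X ℚ (w1 g) none).mul
        (hom1_xv g ((p.1 : ℤ) - 1) ((p.2 : ℤ) - 1))).mul
        (hom1_xv g ((q.1 : ℤ) - 1) ((q.2 : ℤ) - 1))
      convert this using 1
      rw [w1_none]; ring
    have hB : IsWeightedHomogeneous (w1 g)
        ((mergeCoeff p.1 q.1 : RelRing g) * xv g ((p.1 : ℤ) + q.1 - 2) ((p.2 : ℤ) + q.2))
        ((p.1 : ℤ) + q.1 - 2) := by
      have := (hom1_natCast g (mergeCoeff p.1 q.1)).mul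
        (hom1_xv g ((p.1 : ℤ) + q.1 - 2) ((p.2 : ℤ) + q.2))
      convert this using 1
      ring
    have := (hA.sub hB).mul hD
    unfold cf
    convert this using 1
    all_goals first | rfl | ring
  · refine IsWeightedHomogeneous.sum _ _ _ (fun p _ => ?_)
    have := (hom1_xv g ((p.1 : ℤ) - 2) (p.2 : ℤ)).mul (hom1_dv g p h)
    convert this using 1
    ring

lemma F_add (g : ℕ) (P Q : RelRing g) : F g (P + Q) = F g P + F g Q := by
  simp only [F_eq, dv_add, mul_add, Finset.sum_add_distrib, smul_add]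
  abel

lemma F_smul (g : ℕ) (c : ℚ) (P : RelRing g) : F g (c • P) = c • F g P := by
  simp only [F_eq, dv_smul, mul_smul_comm, ← Finset.smul_sum, smul_add]
  rw [smul_comm]

lemma hom1_iter (g : ℕ) {P : RelRing g} {a : ℤ} (h : IsWeightedHomogeneous (w1 g) P a) (m : ℕ) :
    IsWeightedHomogeneous (w1 g) ((F g)^[m] P) (a - 2 * m) := by
  induction m with
  | zero => simpa using h
  | succ m ih =>
    rw [Function.iterate_succ_apply']
    have := hom1_F g ih
    convert this using 1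
    push_cast; ring

lemma F_E (g : ℕ) (hg : 1 ≤ g) (P : RelRing g) {a : ℤ} (h : IsWeightedHomogeneous (w1 g) P a) :
    F g (E g P) = E g (F g P) + (((g : ℤ) - a : ℤ) : ℚ) • P := by
  unfold E
  rw [xv_20 g hg, F_eq, F_eq, sum_second g hg, sum_first g hg]
  simp only [cf_right_20, cf_left_20]
  have hE := euler g P h
  have hs : ∑ p ∈ idx g, -((p.1 : ℕ) : RelRing g) * xv g (p.1 : ℤ) (p.2 : ℤ) * dv g p P
      = -((a : ℚ) • P) := by
    rw [← hE, ← Finset.sum_neg_distrib]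
    exact Finset.sum_congr rfl (fun p _ => by ring)
  have hgP : (g : RelRing g) * P = (g : ℚ) • P := by
    rw [MvPolynomial.smul_eq_C_mul, map_natCast]
  rw [hs, hgP, mul_add, mul_smul_comm]
  push_cast
  module

lemma iter_E (g : ℕ) (hg : 1 ≤ g) {β : RelRing g} {a : ℤ}
    (h : IsWeightedHomogeneous (w1 g) β a) (m : ℕ) :
    (F g)^[m + 1] (E g β) = E g ((F g)^[m + 1] β)
      + ((((m : ℤ) + 1) * ((g : ℤ) - a + m) : ℤ) : ℚ) • (F g)^[m] β := by
  induction m with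
  | zero =>
    simp only [zero_add, Function.iterate_one, Function.iterate_zero, id_eq]
    rw [F_E g hg β h]
    norm_num
  | succ m ih =>
    rw [Function.iterate_succ_apply' (F g) (m + 1) (E g β), ih, F_add, F_smul,
      F_E g hg _ (hom1_iter g h (m + 1)), ← Function.iterate_succ_apply' (F g) (m + 1) β,
      ← Function.iterate_succ_apply' (F g) m β]
    push_cast
    module


/-- In the formal relation ring of genus g ≥ 1, for every element β which is bihomogeneous of bidegree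
(2g, n), the (g+1)-st iterate of the operator F kills x 2 0 · β. (Stated for every bihomogeneous β;
the case of a monomial β is equivalent by linearity.) -/
theorem result
    (g : ℕ) (hg : 1 ≤ g) (n : ℕ) (β : W4c3tautjacobian.RelRing g)
    (hβ : MvPolynomial.IsWeightedHomogeneous (W4c3tautjacobian.wt g) β ((2 * g, n) : ℕ × ℕ)) :
    (W4c3tautjacobian.F g)^[g + 1] (W4c3tautjacobian.E g β) = 0 := by
  have h1 := hom1_of g hβ
  rw [iter_E g hg h1 g]
  have hz : (W4c3tautjacobian.F g)^[g + 1] β = 0 :=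
    eq_zero_of_hom1_neg g (by push_cast; omega) (hom1_iter g h1 (g + 1))
  rw [hz]
  have hc : ((((g : ℤ) + 1) * ((g : ℤ) - ((2 * g : ℕ) : ℤ) + g) : ℤ) : ℚ) = 0 := by
    push_cast; ring
  rw [hc, zero_smul, add_zero]
  unfold W4c3tautjacobian.E
  rw [mul_zero]

end Groth.Agent.S16397
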