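import Groth.Statements.S16398
import Groth.Agent.S16397

set_option autoImplicit false
open W4c3tautjacobian

namespace Groth.Agent.S16398

open MvPolynomial W4c3tautjacobian Groth.Agent.S16397

/-- integer valued second-degree weight -/
def w2 (g : ℕ) (v : Var g) : ℤ := ((wt g v).2 : ℤ)

lemma w2_none (g : ℕ) : w2 g none = 2 := rfl

lemma w2_some (g : ℕ) (q : {p : ℕ × ℕ // Valid g p}) : w2 g (some q) = (q.1.2 : ℤ) := rfl

lemma weight_w2 (g : ℕ) (d : Var g →₀ ℕ) :
    Finsupp.weight (w2 g) d = (((Finsupp.weight (wt g) d).2 : ℕ) : ℤ) := by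
  rw [Finsupp.weight_apply, Finsupp.weight_apply, Finsupp.sum, Finsupp.sum, Prod.snd_sum]
  push_cast
  refine Finset.sum_congr rfl (fun i _ => ?_)
  simp [w2]

lemma hom2_natCast (g n : ℕ) : IsWeightedHomogeneous (w2 g) ((n : ℕ) : RelRing g) 0 := by
  rw [← map_natCast (C : ℚ →+* RelRing g)]
  exact isWeightedHomogeneous_C _ _

lemma hom2_xv (g : ℕ) (i j : ℤ) : IsWeightedHomogeneous (w2 g) (xv g i j) j := by
  unfold xv
  split_ifs with h1 h2
  · rw [h1.2]; exact hom2_natCast g g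
  · have := isWeightedHomogeneous_X ℚ (w2 g) (some ⟨(i.toNat, j.toNat), h2.2.2⟩)
    convert this using 1
    rw [w2_some]; exact (Int.toNat_of_nonneg h2.2.1).symm
  · exact isWeightedHomogeneous_zero _ _ _

lemma hom2_dv (g : ℕ) (p : ℕ × ℕ) {P : RelRing g} {b : ℤ}
    (h : IsWeightedHomogeneous (w2 g) P b) :
    IsWeightedHomogeneous (w2 g) (dv g p P) (b - p.2) := by
  unfold dv
  split_ifs with hv
  · exact h.pderiv (by show b - (p.2 : ℤ) + ((p.2 : ℕ) : ℤ) = b; ring)
  · exact isWeightedHomogeneous_zero _ _ _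

lemma hom2_F (g : ℕ) {P : RelRing g} {b : ℤ} (h : IsWeightedHomogeneous (w2 g) P b) :
    IsWeightedHomogeneous (w2 g) (F g P) b := by
  rw [F_eq]
  refine IsWeightedHomogeneous.add ?_ ?_
  · show (1 / 2 : ℚ) • _ ∈ weightedHomogeneousSubmodule ℚ (w2 g) b
    refine Submodule.smul_mem _ _ ?_
    show IsWeightedHomogeneous (w2 g) _ b
    refine IsWeightedHomogeneous.sum _ _ _ (fun p _ =>
      IsWeightedHomogeneous.sum _ _ _ (fun q _ => ?_))
    have hD := hom2_dv g p (hom2_dv g q h)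
    have hA : IsWeightedHomogeneous (w2 g)
        (X none * xv g ((p.1 : ℤ) - 1) ((p.2 : ℤ) - 1) * xv g ((q.1 : ℤ) - 1) ((q.2 : ℤ) - 1))
        ((p.2 : ℤ) + q.2) := by
      have := ((isWeightedHomogeneous_X ℚ (w2 g) none).mul
        (hom2_xv g ((p.1 : ℤ) - 1) ((p.2 : ℤ) - 1))).mul
        (hom2_xv g ((q.1 : ℤ) - 1) ((q.2 : ℤ) - 1))
      convert this using 1
      rw [w2_none]; ring
    have hB : IsWeightedHomogeneous (w2 g)
        ((mergeCoeff p.1 q.1 : RelRing g) * xv g ((p.1 : ℤ) + q.1 - 2) ((p.2 : ℤ) + q.2))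
        ((p.2 : ℤ) + q.2) := by
      have := (hom2_natCast g (mergeCoeff p.1 q.1)).mul
        (hom2_xv g ((p.1 : ℤ) + q.1 - 2) ((p.2 : ℤ) + q.2))
      convert this using 1
      ring
    have := (hA.sub hB).mul hD
    unfold cf
    convert this using 1
    all_goals first | rfl | ring
  · refine IsWeightedHomogeneous.sum _ _ _ (fun p _ => ?_)
    have := (hom2_xv g ((p.1 : ℤ) - 2) (p.2 : ℤ)).mul (hom2_dv g p h)
    convert this using 1
    ring

lemma hom2_iter (g : ℕ) {P : RelRing g} {b : ℤ} (h : IsWeightedHomogeneous (w2 g) P b) (m : ℕ) :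
    IsWeightedHomogeneous (w2 g) ((F g)^[m] P) b := by
  induction m with
  | zero => simpa using h
  | succ m ih =>
    rw [Function.iterate_succ_apply']
    exact hom2_F g ih

lemma E_zero (g : ℕ) : E g 0 = 0 := by unfold E; rw [mul_zero]

lemma hom1_E (g : ℕ) {P : RelRing g} {a : ℤ} (h : IsWeightedHomogeneous (w1 g) P a) :
    IsWeightedHomogeneous (w1 g) (E g P) (a + 2) := by
  unfold E
  have := (hom1_xv g 2 0).mul h
  convert this using 1
  ring

lemma hom1_E_iter (g : ℕ) {P : RelRing g} {a : ℤ} (h : IsWeightedHomogeneous (w1 g) P a)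
    (e : ℕ) : IsWeightedHomogeneous (w1 g) ((E g)^[e] P) (a + 2 * e) := by
  induction e with
  | zero => simpa using h
  | succ e ih =>
    rw [Function.iterate_succ_apply']
    have := hom1_E g ih
    convert this using 1
    push_cast; ring

lemma step (g : ℕ) (hg : 1 ≤ g) {v : RelRing g} {k : ℕ}
    (hv : IsWeightedHomogeneous (w1 g) v (2 * (k : ℤ))) (e : ℕ) :
    (F g)^[k + e + 1] ((E g)^[e + 1] v) =
      ((((((k + e : ℕ) : ℤ) + 1) *
        ((g : ℤ) - (2 * (k : ℤ) + 2 * (e : ℤ)) + ((k + e : ℕ) : ℤ)) : ℤ) : ℚ)) •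
        (F g)^[k + e] ((E g)^[e] v) := by
  have hβ := hom1_E_iter g hv e
  rw [Function.iterate_succ_apply' (E g) e v, iter_E g hg hβ (k + e)]
  have hz : (F g)^[k + e + 1] ((E g)^[e] v) = 0 :=
    eq_zero_of_hom1_neg g (by push_cast; omega) (hom1_iter g hβ (k + e + 1))
  rw [hz, E_zero, zero_add]

lemma killed (g : ℕ) (hg : 1 ≤ g) {v : RelRing g} {k : ℕ} (hk : k ≤ g)
    (hv : IsWeightedHomogeneous (w1 g) v (2 * (k : ℤ))) :
    ∀ e : ℕ, g + 1 ≤ k + e → (F g)^[k + e] ((E g)^[e] v) = 0 := by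
  intro e
  induction e with
  | zero => intro h; omega
  | succ e ih =>
    intro h
    show (F g)^[k + e + 1] ((E g)^[e + 1] v) = 0
    rw [step g hg hv e]
    by_cases h' : g + 1 ≤ k + e
    · rw [ih h', smul_zero]
    · have h0 : ((g : ℤ) - (2 * (k : ℤ) + 2 * (e : ℤ)) + ((k + e : ℕ) : ℤ)) = 0 := by
        push_cast; omega
      rw [h0, mul_zero, Int.cast_zero, zero_smul]

lemma E_iter (g : ℕ) (hg : 1 ≤ g) (e : ℕ) (Q : RelRing g) :
    (E g)^[e] Q = X (some ⟨(2, 0), valid20 g hg⟩) ^ e * Q := by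
  induction e with
  | zero => simp
  | succ e ih =>
    rw [Function.iterate_succ_apply', ih]
    unfold E
    rw [xv_20 g hg]
    ring

lemma monomial_eq_E_iter (g : ℕ) (hg : 1 ≤ g) (d0 : Var g →₀ ℕ) :
    monomial d0 (1 : ℚ) = (E g)^[d0 (some ⟨(2, 0), valid20 g hg⟩)]
      (monomial (d0.erase (some ⟨(2, 0), valid20 g hg⟩)) 1) := by
  rw [E_iter g hg, X_pow_eq_monomial, monomial_mul, one_mul, Finsupp.single_add_erase]

lemma wt_le (g : ℕ) (hg : 1 ≤ g) (v : Var g) (hv : v ≠ some ⟨(2, 0), valid20 g hg⟩) :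
    (wt g v).1 ≤ 3 * (wt g v).2 := by
  rcases v with _ | ⟨⟨i, j⟩, hval⟩
  · show 0 ≤ 3 * 2
    norm_num
  · show i ≤ 3 * j
    obtain ⟨h1, h2, h3, h4⟩ := hval
    dsimp only at h1 h2 h3 h4
    by_contra hcon
    have hj : j = 0 := by omega
    subst hj
    have hi : i = 2 := by
      rcases h3 with ⟨r, hr⟩
      have : i ≠ 0 := by rintro rfl; exact h4 rfl
      omega
    subst hi
    exact hv rfl

lemma weight_le (g : ℕ) (hg : 1 ≤ g) (d : Var g →₀ ℕ)
    (hd : d (some ⟨(2, 0), valid20 g hg⟩) = 0) :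
    (Finsupp.weight (wt g) d).1 ≤ 3 * (Finsupp.weight (wt g) d).2 := by
  rw [Finsupp.weight_apply, Finsupp.sum, Prod.fst_sum, Prod.snd_sum, Finset.mul_sum]
  refine Finset.sum_le_sum (fun v hv => ?_)
  have hne : v ≠ some ⟨(2, 0), valid20 g hg⟩ := by
    rintro rfl
    exact (Finsupp.mem_support_iff.mp hv) hd
  have := wt_le g hg v hne
  simp only [Prod.smul_fst, Prod.smul_snd, smul_eq_mul]
  calc d v * (wt g v).1 ≤ d v * (3 * (wt g v).2) := Nat.mul_le_mul_left _ this
    _ = 3 * (d v * (wt g v).2) := by ring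

lemma weight_decomp (g : ℕ) (hg : 1 ≤ g) (d0 : Var g →₀ ℕ) :
    Finsupp.weight (wt g) d0 = (2 * d0 (some ⟨(2, 0), valid20 g hg⟩), 0)
      + Finsupp.weight (wt g) (d0.erase (some ⟨(2, 0), valid20 g hg⟩)) := by
  conv_lhs => rw [← Finsupp.single_add_erase (some ⟨(2, 0), valid20 g hg⟩) d0]
  rw [map_add, Finsupp.weight_single]
  congr 1
  show d0 (some ⟨(2, 0), valid20 g hg⟩) • ((2, 0) : ℕ × ℕ) = _
  ext <;> simp [mul_comm]

/-- the ideal of polynomials with no monomials of bidegree `(0, n')`, `3 n' ≤ 2 g` -/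
def K (g : ℕ) : Ideal (RelRing g) where
  carrier := {Q | ∀ d : Var g →₀ ℕ, (Finsupp.weight (wt g) d).1 = 0 →
    3 * (Finsupp.weight (wt g) d).2 ≤ 2 * g → coeff d Q = 0}
  zero_mem' := by
    intro d _ _
    simp
  add_mem' := by
    intro P Q hP hQ d h1 h2
    rw [coeff_add, hP d h1 h2, hQ d h1 h2, add_zero]
  smul_mem' := by
    intro r Q hQ d h1 h2
    rw [smul_eq_mul, coeff_mul]
    refine Finset.sum_eq_zero (fun x hx => ?_)
    have hx' := Finset.mem_antidiagonal.mp hx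
    have hw : Finsupp.weight (wt g) x.1 + Finsupp.weight (wt g) x.2
        = Finsupp.weight (wt g) d := by rw [← map_add, hx']
    have e1 : (Finsupp.weight (wt g) x.2).1 = 0 := by
      have := congrArg Prod.fst hw
      simp only [Prod.fst_add] at this
      omega
    have e2 : 3 * (Finsupp.weight (wt g) x.2).2 ≤ 2 * g := by
      have := congrArg Prod.snd hw
      simp only [Prod.snd_add] at this
      omega
    rw [hQ x.2 e1 e2, mul_zero]

lemma relIdeal_le_K (g : ℕ) (hg : 1 ≤ g) : relIdeal g ≤ K g := by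
  refine Ideal.span_le.mpr ?_
  rintro G ⟨d0, m, hd0, rfl⟩
  intro d h1 h2
  by_contra hne
  have hm1 : IsWeightedHomogeneous (w1 g) (monomial d0 (1 : ℚ))
      (((Finsupp.weight (wt g) d0).1 : ℕ) : ℤ) :=
    isWeightedHomogeneous_monomial _ _ _ (weight_w1 g d0)
  have hm2 : IsWeightedHomogeneous (w2 g) (monomial d0 (1 : ℚ))
      (((Finsupp.weight (wt g) d0).2 : ℕ) : ℤ) :=
    isWeightedHomogeneous_monomial _ _ _ (weight_w2 g d0)
  have hG1 := hom1_iter g hm1 m hne
  have hG2 := hom2_iter g hm2 m hne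
  rw [weight_w1] at hG1
  rw [weight_w2] at hG2
  have hdec := weight_decomp g hg d0
  have hle := weight_le g hg (d0.erase (some ⟨(2, 0), valid20 g hg⟩)) Finsupp.erase_same
  have hA : (Finsupp.weight (wt g) d0).1 = 2 * d0 (some ⟨(2, 0), valid20 g hg⟩)
      + (Finsupp.weight (wt g) (d0.erase (some ⟨(2, 0), valid20 g hg⟩))).1 := by
    have := congrArg Prod.fst hdec
    simpa using this
  have hB : (Finsupp.weight (wt g) d0).2
      = (Finsupp.weight (wt g) (d0.erase (some ⟨(2, 0), valid20 g hg⟩))).2 := by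
    have := congrArg Prod.snd hdec
    simpa using this
  obtain ⟨k, hk⟩ : ∃ k, m = k + d0 (some ⟨(2, 0), valid20 g hg⟩) :=
    ⟨m - d0 (some ⟨(2, 0), valid20 g hg⟩), by omega⟩
  subst hk
  have hv : IsWeightedHomogeneous (w1 g)
      (monomial (d0.erase (some ⟨(2, 0), valid20 g hg⟩)) (1 : ℚ)) (2 * (k : ℤ)) :=
    isWeightedHomogeneous_monomial _ _ _ (by rw [weight_w1]; omega)
  have hzero : (F g)^[k + d0 (some ⟨(2, 0), valid20 g hg⟩)] (monomial d0 (1 : ℚ)) = 0 := by
    rw [monomial_eq_E_iter g hg d0]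
    exact killed g hg (by omega) hv _ (by omega)
  exact hne (by rw [hzero, coeff_zero])


/-- In the formal relation ring of genus g ≥ 1, an element of the relation ideal which is bihomogeneous
of bidegree (0, n) with 3n ≤ 2g vanishes; that is, the relations impose nothing on the
first-degree-0 part in second degree at most 2g/3. -/
theorem result
    (g : ℕ) (hg : 1 ≤ g) (n : ℕ) (hn : 3 * n ≤ 2 * g) (P : W4c3tautjacobian.RelRing g)
    (hP : P ∈ W4c3tautjacobian.relIdeal g)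
    (hhom : MvPolynomial.IsWeightedHomogeneous (W4c3tautjacobian.wt g) P ((0, n) : ℕ × ℕ)) :
    P = 0 := by
  have hPK : P ∈ K g := relIdeal_le_K g hg hP
  by_contra hP0
  obtain ⟨d, hd⟩ := MvPolynomial.ne_zero_iff.mp hP0
  have hw := hhom hd
  exact hd (hPK d (by rw [hw]) (by rw [hw]; exact hn))

end Groth.Agent.S16398
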