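import Groth.Statements.S1640
import Mathlib
import Groth.Agent.H46.SemilocalVal

set_option autoImplicit false
set_option linter.style.haveILetI false
universe u
open Variety

namespace Groth.Agent.S1640

/-- Let K be a field, A ⊆ K a subring with fraction field K, and B_1, …, B_r ⊆ K Noetherian
one-dimensional subrings with finitely many maximal ideals and fraction field K, such that for each
i the subring generated by A and B_i is all of K. Then some nonzero x ∈ A has x⁻¹ lying in B_i and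
in the Jacobson radical of B_i for every i. -/
theorem result (K : Type u) [Field K] (A : Subring K) [IsFractionRing A K]
    (r : ℕ) (B : Fin r → Subring K) [∀ i, IsNoetherianRing (B i)] [∀ i, IsFractionRing (B i) K]
    (hdim : ∀ i, ringKrullDim (B i) = 1) (hsl : ∀ i, Finite (MaximalSpectrum (B i)))
    (hgen : ∀ i, A ⊔ B i = ⊤) :
    ∃ x : K, x ∈ A ∧ x ≠ 0 ∧ ∀ i, ∃ hx : x⁻¹ ∈ B i, (⟨x⁻¹, hx⟩ : B i) ∈ (⊥ : Ideal (B i)).jacobson := by
  classical
  have hex := fun i => Groth.Agent.H46.SLV.exists_valuations K (B i) (hdim i) (hsl i)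
  choose ι hfin w hw1 hw2 hw3 using hex
  haveI : ∀ i, Finite (ι i) := hfin
  haveI : ∀ i, Fintype (ι i) := fun i => Fintype.ofFinite (ι i)
  let W : (Σ i : Fin r, ι i) → Valuation K (WithZero (Multiplicative ℤ)) := fun p => w p.1 p.2
  have hA : ∀ p ∈ (Finset.univ : Finset (Σ i : Fin r, ι i)), ∃ a ∈ A, 1 < W p a := by
    rintro ⟨i, j⟩ -
    by_contra hcon
    push Not at hcon
    have hle : A ⊔ B i ≤ (w i j).integer := by
      apply sup_le
      · intro a ha; exact (Valuation.mem_integer_iff _ _).mpr (hcon a ha)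
      · intro b hb; exact (Valuation.mem_integer_iff _ _).mpr (hw1 i j b hb)
    rw [hgen i] at hle
    obtain ⟨c, hc⟩ := hw2 i j
    have := (Valuation.mem_integer_iff _ _).mp (hle (Subring.mem_top c))
    exact absurd hc (not_lt.mpr this)
  obtain ⟨x0, hx0A, hx0ne, hx0⟩ := Groth.Agent.H46.SLV.exists_mem_forall_lt A Finset.univ W hA
  have hy : ∀ i j, w i j x0⁻¹ < 1 := by
    intro i j
    have h1 : 1 < w i j x0 := hx0 ⟨i, j⟩ (Finset.mem_univ _)
    rw [map_inv₀]
    exact inv_lt_one_of_one_lt₀ h1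
  have hn := fun i => hw3 i x0⁻¹ (hy i)
  choose n hnpos hnk using hn
  have hNpos : 0 < ∏ i, n i := Finset.prod_pos fun i _ => hnpos i
  refine ⟨x0 ^ (∏ i, n i), A.pow_mem hx0A _, pow_ne_zero _ hx0ne, fun i => ?_⟩
  have hNi : ∏ i, n i = n i * ∏ i' ∈ Finset.univ.erase i, n i' :=
    (Finset.mul_prod_erase Finset.univ n (Finset.mem_univ i)).symm
  have hkpos : 0 < ∏ i' ∈ Finset.univ.erase i, n i' := Finset.prod_pos fun i' _ => hnpos i'
  obtain ⟨hmem, hjac⟩ := hnk i _ hkpos
  have heq : (x0 ^ (∏ i, n i))⁻¹ = x0⁻¹ ^ (n i * ∏ i' ∈ Finset.univ.erase i, n i') := by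
    rw [← hNi, inv_pow]
  have hmem' : (x0 ^ (∏ i, n i))⁻¹ ∈ B i := by rw [heq]; exact hmem
  refine ⟨hmem', ?_⟩
  have h2 : (⟨(x0 ^ (∏ i, n i))⁻¹, hmem'⟩ : B i) =
      ⟨x0⁻¹ ^ (n i * ∏ i' ∈ Finset.univ.erase i, n i'), hmem⟩ := Subtype.ext heq
  rw [h2]
  exact hjac

end Groth.Agent.S1640
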