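import Groth.Statements.S16400
import Mathlib.Tactic.LinearCombination
import Mathlib.Algebra.BigOperators.Pi
import Mathlib.Data.Finset.Max

set_option autoImplicit false
universe u v
open CAlgX

namespace Groth.Agent.S16400

section helpers

variable {K : Type u} [Field K] {N : Type v} [Fintype N] [DecidableEq N]

/-- every subspace of `K^N` has a coordinate complement -/
theorem exists_coord_compl (U : Submodule K (N → K)) :
    ∃ J : Finset N, (∀ u ∈ U, (∀ i ∉ J, u i = 0) → u = 0) ∧
      ∀ x : N → K, ∃ u ∈ U, ∀ i ∉ J, x i = u i := by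
  classical
  let P : Finset N → Prop := fun J => ∀ u ∈ U, (∀ i ∉ J, u i = 0) → u = 0
  have hP0 : P ∅ := by
    intro u _ h
    funext i
    exact h i (Finset.notMem_empty i)
  obtain ⟨J, hJmem, hJmax⟩ := Finset.exists_max_image (Finset.univ.filter P) Finset.card
    ⟨∅, Finset.mem_filter.mpr ⟨Finset.mem_univ _, hP0⟩⟩
  have hPJ : P J := (Finset.mem_filter.mp hJmem).2
  refine ⟨J, hPJ, ?_⟩
  let S : Submodule K (N → K) :=
    { carrier := {x | ∀ i ∉ J, x i = 0}
      add_mem' := by
        intro a b ha hb i hi
        show a i + b i = 0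
        rw [ha i hi, hb i hi, add_zero]
      zero_mem' := by intro i _; rfl
      smul_mem' := by
        intro c a ha i hi
        show c * a i = 0
        rw [ha i hi, mul_zero] }
  have hS : ∀ x, x ∈ S ↔ ∀ i ∉ J, x i = 0 := fun x => Iff.rfl
  have hsingle : ∀ i, (Pi.single i (1 : K) : N → K) ∈ U ⊔ S := by
    intro i
    by_cases hi : i ∈ J
    · apply Submodule.mem_sup_right
      rw [hS]
      intro j hj
      have hji : j ≠ i := fun h => hj (h ▸ hi)
      rw [Pi.single_apply, if_neg hji]
    · have hnot : ¬ P (insert i J) := by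
        intro hPi
        have h1 := hJmax (insert i J) (Finset.mem_filter.mpr ⟨Finset.mem_univ _, hPi⟩)
        rw [Finset.card_insert_of_notMem hi] at h1
        omega
      by_contra hcon
      apply hnot
      intro u huU husupp
      by_cases hc : u i = 0
      · apply hPJ u huU
        intro j hj
        by_cases hji : j = i
        · rw [hji]; exact hc
        · exact husupp j (by rw [Finset.mem_insert, not_or]; exact ⟨hji, hj⟩)
      · exfalso
        apply hcon
        have hs : u - u i • (Pi.single i (1 : K) : N → K) ∈ S := by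
          rw [hS]
          intro j hj
          by_cases hji : j = i
          · subst hji
            simp
          · have h0 : u j = 0 := husupp j (by rw [Finset.mem_insert, not_or]; exact ⟨hji, hj⟩)
            simp [Pi.single_apply, hji, h0]
        have heq : (Pi.single i (1 : K) : N → K) =
            (u i)⁻¹ • u + (-(u i)⁻¹) • (u - u i • (Pi.single i (1 : K) : N → K)) := by
          funext j
          simp only [Pi.add_apply, Pi.smul_apply, Pi.sub_apply, smul_eq_mul]
          have h1 : (u i)⁻¹ * u i = 1 := inv_mul_cancel₀ hc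
          linear_combination (-((Pi.single i (1 : K) : N → K) j)) * h1
        rw [heq]
        exact Submodule.add_mem _ (Submodule.mem_sup_left (U.smul_mem _ huU))
          (Submodule.mem_sup_right (S.smul_mem _ hs))
  have htop : ∀ x : N → K, x ∈ U ⊔ S := by
    intro x
    have hx : x = ∑ i, x i • (Pi.single i (1 : K) : N → K) := by
      funext j
      simp [Finset.sum_apply, Pi.single_apply]
    rw [hx]
    exact Submodule.sum_mem _ (fun i _ => Submodule.smul_mem _ _ (hsingle i))
  intro x
  obtain ⟨u, hu, s, hs, rfl⟩ := Submodule.mem_sup.mp (htop x)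
  refine ⟨u, hu, fun i hi => ?_⟩
  show u i + s i = u i
  rw [(hS s).mp hs i hi, add_zero]

theorem block_bijective (A : Matrix N N K)
    (hA : LinearMap.ker A.mulVecLin = LinearMap.range A.mulVecLin) (J : Finset N)
    (ha : ∀ u ∈ LinearMap.ker A.mulVecLin, (∀ i ∉ J, u i = 0) → u = 0)
    (hb : ∀ x : N → K, ∃ u ∈ LinearMap.ker A.mulVecLin, ∀ i ∉ J, x i = u i)
    {ρ : Type*} (r : ρ → N) (hr : Function.Injective r) (hrJ : ∀ t, r t ∉ J)
    (hrs : ∀ i, i ∉ J → ∃ t, r t = i) :
    Function.Bijective (A.submatrix r (Subtype.val : ↥J → N)).mulVecLin := by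
  classical
  let ext : (↥J → K) → (N → K) := fun v i => if h : i ∈ J then v ⟨i, h⟩ else 0
  have hext_supp : ∀ v i, i ∉ J → ext v i = 0 := fun v i hi => dif_neg hi
  have hext_val : ∀ v (j : ↥J), ext v j.1 = v j := fun v j => by
    show (if h : j.1 ∈ J then v ⟨j.1, h⟩ else 0) = v j
    rw [dif_pos j.2]
  have hB : ∀ v t, (A.submatrix r (Subtype.val : ↥J → N)).mulVecLin v t =
      A.mulVecLin (ext v) (r t) := by
    intro v t
    simp only [Matrix.mulVecLin_apply, Matrix.mulVec, dotProduct, Matrix.submatrix_apply]
    rw [← Finset.sum_subset (Finset.subset_univ J)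
      (fun j _ hj => by rw [hext_supp v j hj, mul_zero]),
      ← Finset.sum_attach J, Finset.univ_eq_attach]
    refine Finset.sum_congr rfl fun j _ => ?_
    rw [hext_val]
  constructor
  · rw [injective_iff_map_eq_zero]
    intro v hv
    have hw : A.mulVecLin (ext v) = 0 := by
      apply ha
      · rw [hA]; exact LinearMap.mem_range_self _ _
      · intro i hi
        obtain ⟨t, rfl⟩ := hrs i hi
        rw [← hB, hv]; rfl
    have hv0 : ext v = 0 := ha _ (LinearMap.mem_ker.mpr hw) (fun i hi => hext_supp v i hi)
    funext j
    rw [← hext_val v j, hv0]; rfl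
  · intro z
    choose g hg using hrs
    let zt : N → K := fun i => if h : i ∈ J then 0 else z (g i h)
    obtain ⟨u, hu, hzu⟩ := hb zt
    rw [hA] at hu
    obtain ⟨y, rfl⟩ := hu
    obtain ⟨u', hu', hyu'⟩ := hb y
    refine ⟨fun j => (y - u') j.1, ?_⟩
    funext t
    rw [hB]
    have hext : ext (fun j : ↥J => (y - u') j.1) = y - u' := by
      funext i
      by_cases hi : i ∈ J
      · show (if h : i ∈ J then (y - u') i else 0) = _
        rw [dif_pos hi]
      · have h0 := hext_supp (fun j : ↥J => (y - u') j.1) i hi
        rw [h0]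
        simp [hyu' i hi]
    rw [hext, map_sub, LinearMap.mem_ker.mp hu', sub_zero, ← hzu (r t) (hrJ t)]
    show (if h : r t ∈ J then 0 else z (g (r t) h)) = z t
    rw [dif_neg (hrJ t)]
    congr 1
    exact hr (hg (r t) (hrJ t))

end helpers

/-- Let K be a field, N a finite index set and A a square matrix over K indexed by N whose linear map on
column vectors has kernel equal to its range (so A composed with A is zero and the three-term
sequence it defines is exact in the middle). Then there are subsets N₁₂, N₂₁, N₃₁ of N such that the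
block of A with rows in N₃₁ and columns in N₂₁, and the block of A with rows outside N₂₁ and columns
in N₁₂, both act bijectively on column vectors. (In the original setting K is the prime field and
middle exactness is supplied by the Cartier isomorphism; here exactness is the hypothesis and K is
any field.) -/
theorem result
    {K : Type u} [Field K] {N : Type v} [Fintype N] [DecidableEq N]
    (A : Matrix N N K)
    (hA : LinearMap.ker A.mulVecLin = LinearMap.range A.mulVecLin) :
    ∃ N₁₂ N₂₁ N₃₁ : Finset N,
      Function.Bijective (A.submatrix (Subtype.val : ↥N₃₁ → N) (Subtype.val : ↥N₂₁ → N)).mulVecLin ∧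
      Function.Bijective
        (A.submatrix (Subtype.val : {x : N // x ∉ N₂₁} → N) (Subtype.val : ↥N₁₂ → N)).mulVecLin := by
  obtain ⟨J, ha, hb⟩ := exists_coord_compl (LinearMap.ker A.mulVecLin)
  refine ⟨J, J, Finset.univ \ J, ?_, ?_⟩
  · exact block_bijective A hA J ha hb (Subtype.val : ↥(Finset.univ \ J) → N)
      Subtype.val_injective (fun t => (Finset.mem_sdiff.mp t.2).2)
      (fun i hi => ⟨⟨i, Finset.mem_sdiff.mpr ⟨Finset.mem_univ i, hi⟩⟩, rfl⟩)
  · exact block_bijective A hA J ha hb (Subtype.val : {x : N // x ∉ J} → N)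
      Subtype.val_injective (fun t => t.2) (fun i hi => ⟨⟨i, hi⟩, rfl⟩)

end Groth.Agent.S16400
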