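import Groth.Statements.S16401
import Mathlib.LinearAlgebra.Matrix.Adjugate
import Mathlib.Tactic.Abel

set_option autoImplicit false
universe u v
open CAlgX

namespace Groth.Agent.S16401

/-- Let R be a commutative ring and (E_a), a ∈ ι, a family of additive subgroups of R indexed by an
additive commutative group ι, with E_0 = R and E_a · E_b ⊆ E_{a+b}. Let β, γ : Fin r → ι be weight
vectors with Σ_j β_j = Σ_i γ_i, and let ϑ be an r × r matrix over R with ϑ_{ij} ∈ E_{γ_i − β_j} for
all i, j and with unit determinant. Then a column vector u satisfies u_j ∈ E_{β_j} for every j if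
and only if (ϑ u)_i ∈ E_{γ_i} for every i; since ϑ is invertible this says that ϑ maps the box Π_j
E_{β_j} bijectively onto the box Π_i E_{γ_i}. -/
theorem result
    {R : Type u} [CommRing R] {ι : Type v} [AddCommGroup ι]
    (E : ι → AddSubgroup R) (h0 : E 0 = ⊤)
    (hmul : ∀ a b : ι, ∀ x ∈ E a, ∀ y ∈ E b, x * y ∈ E (a + b))
    {r : ℕ} (wβ wγ : Fin r → ι) (hsum : ∑ j, wβ j = ∑ i, wγ i)
    (ϑ : Matrix (Fin r) (Fin r) R) (hϑ : ∀ i j, ϑ i j ∈ E (wγ i - wβ j))
    (hdet : IsUnit ϑ.det) (u : Fin r → R) :
    (∀ j, u j ∈ E (wβ j)) ↔ ∀ i, ϑ.mulVec u i ∈ E (wγ i) := by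
  classical
  -- multiplication by arbitrary elements preserves each `E a`
  have hD : ∀ (a : ι) (x y : R), y ∈ E a → x * y ∈ E a := by
    intro a x y hy
    have hx : x ∈ E 0 := by rw [h0]; exact AddSubgroup.mem_top x
    have := hmul 0 a x hx y hy
    rwa [zero_add] at this
  have hone : (1 : R) ∈ E 0 := by rw [h0]; exact AddSubgroup.mem_top _
  -- products
  have hprod : ∀ (s : Finset (Fin r)) (x : Fin r → R) (w : Fin r → ι),
      (∀ k ∈ s, x k ∈ E (w k)) → ∏ k ∈ s, x k ∈ E (∑ k ∈ s, w k) := by
    intro s x w
    induction s using Finset.induction_on with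
    | empty => intro _; simpa using hone
    | insert a s ha ih =>
      intro h
      rw [Finset.prod_insert ha, Finset.sum_insert ha]
      exact hmul _ _ _ (h a (Finset.mem_insert_self a s)) _
        (ih fun k hk => h k (Finset.mem_insert_of_mem hk))
  -- matrices with entries in the right pieces act on boxes
  have hA : ∀ (M : Matrix (Fin r) (Fin r) R) (a b : Fin r → ι) (v : Fin r → R),
      (∀ i j, M i j ∈ E (a i - b j)) → (∀ j, v j ∈ E (b j)) → ∀ i, M.mulVec v i ∈ E (a i) := by
    intro M a b v hM hv i
    show ∑ j, M i j * v j ∈ E (a i)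
    refine AddSubgroup.sum_mem _ fun j _ => ?_
    have := hmul _ _ _ (hM i j) _ (hv j)
    rwa [sub_add_cancel] at this
  -- entries of the adjugate
  have hC : ∀ j i, ϑ.adjugate j i ∈ E (wβ j - wγ i) := by
    intro j i
    rw [Matrix.adjugate_apply, Matrix.det_apply]
    refine AddSubgroup.sum_mem _ fun σ _ => ?_
    rw [Units.smul_def]
    refine AddSubgroup.zsmul_mem _ ?_ _
    by_cases hσ : σ j = i
    · set g : Fin r → ι := fun k => wγ (σ k) - wβ k with hg
      set w : Fin r → ι := fun k => g k - (if k = j then g j else 0) with hw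
      have hmem : ∀ k ∈ (Finset.univ : Finset (Fin r)),
          (ϑ.updateRow i (Pi.single j 1)) (σ k) k ∈ E (w k) := by
        intro k _
        by_cases hk : k = j
        · subst hk
          rw [hσ, Matrix.updateRow_self, Pi.single_eq_same]
          simpa [hw] using hone
        · have hne : σ k ≠ i := by
            intro h
            exact hk (σ.injective (h.trans hσ.symm))
          rw [Matrix.updateRow_ne hne]
          simpa [hw, hk, hg] using hϑ (σ k) k
      have hsumw : ∑ k, w k = wβ j - wγ i := by
        simp only [hw, Finset.sum_sub_distrib, Finset.sum_ite_eq', Finset.mem_univ, if_true]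
        have : ∑ k, g k = 0 := by
          simp only [hg, Finset.sum_sub_distrib]
          rw [Equiv.sum_comp σ wγ, hsum, sub_self]
        rw [this, zero_sub, hg]
        simp only [hσ]
        abel
      rw [← hsumw]
      exact hprod Finset.univ _ w hmem
    · have : ∏ k, (ϑ.updateRow i (Pi.single j 1)) (σ k) k = 0 := by
        refine Finset.prod_eq_zero (Finset.mem_univ (σ.symm i)) ?_
        rw [Equiv.apply_symm_apply, Matrix.updateRow_self]
        refine Pi.single_eq_of_ne ?_ _
        intro h
        exact hσ (by rw [← h, Equiv.apply_symm_apply])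
      rw [this]
      exact AddSubgroup.zero_mem _
  constructor
  · intro hu
    exact hA ϑ wγ wβ u hϑ hu
  · intro hv
    have hinv : ∀ j i, ϑ⁻¹ j i ∈ E (wβ j - wγ i) := by
      intro j i
      rw [Matrix.inv_def, Matrix.smul_apply, smul_eq_mul]
      exact hD _ _ _ (hC j i)
    have := hA ϑ⁻¹ wβ wγ (ϑ.mulVec u) hinv hv
    rwa [Matrix.mulVec_mulVec, Matrix.nonsing_inv_mul _ hdet, Matrix.one_mulVec] at this

end Groth.Agent.S16401
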