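import Groth.Statements.S16402
import Groth.Agent.H43.SymB

set_option autoImplicit false
open SymBasis

namespace Groth.Agent.S16402

open Groth.Agent.H43

/-- coefficient ring `ℤ[c]`. -/
abbrev Rc (n : ℕ) : Type := MvPolynomial (Fin n) ℤ

/-- `c_i ↦ e_{i+1}(t)`, `t_i ↦ t_i`. -/
noncomputable def rho (n : ℕ) : MvPolynomial (Fin n) (Rc n) →+* MvPolynomial (Fin n) ℤ :=
  MvPolynomial.eval₂Hom
    ((MvPolynomial.aeval (fun i : Fin n => MvPolynomial.esymm (Fin n) ℤ ((i : ℕ) + 1)) :
      Rc n →ₐ[ℤ] MvPolynomial (Fin n) ℤ) : Rc n →+* MvPolynomial (Fin n) ℤ)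
    (fun i => MvPolynomial.X i)

/-- the inclusion `ℤ[t] → ℤ[c][t]`. -/
noncomputable def incl (n : ℕ) : MvPolynomial (Fin n) ℤ →+* MvPolynomial (Fin n) (Rc n) :=
  MvPolynomial.map (algebraMap ℤ (Rc n))

theorem rho_C (n : ℕ) (r : Rc n) : rho n (MvPolynomial.C r) =
    MvPolynomial.aeval (fun i : Fin n => MvPolynomial.esymm (Fin n) ℤ ((i : ℕ) + 1)) r := by
  unfold rho
  rw [MvPolynomial.eval₂Hom_C]
  rfl

theorem rho_X (n : ℕ) (i : Fin n) : rho n (MvPolynomial.X i) = MvPolynomial.X i := by
  unfold rho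
  rw [MvPolynomial.eval₂Hom_X']

theorem rho_stMon (n : ℕ) (d : ∀ i : Fin n, Fin (n - (i : ℕ))) :
    rho n (stMon n d) = ∏ i : Fin n, MvPolynomial.X i ^ ((d i : ℕ)) := by
  unfold stMon
  rw [map_prod]
  apply Finset.prod_congr rfl
  intro i _
  rw [map_pow, rho_X]

theorem rho_esymm (n k : ℕ) :
    rho n (MvPolynomial.esymm (Fin n) (Rc n) k) = MvPolynomial.esymm (Fin n) ℤ k := by
  rw [map_esymm_eq_es (rho n) (fun i => MvPolynomial.X i) (rho_X n) k]
  rfl

theorem rho_symIdeal (n : ℕ) :
    ∀ y ∈ symIdeal n (fun i : Fin n => (MvPolynomial.X i : Rc n)), rho n y = 0 := by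
  have hle : symIdeal n (fun i : Fin n => (MvPolynomial.X i : Rc n)) ≤ RingHom.ker (rho n) := by
    unfold symIdeal
    rw [Ideal.span_le]
    rintro _ ⟨i, rfl⟩
    rw [SetLike.mem_coe, RingHom.mem_ker, map_sub, rho_esymm, rho_C, MvPolynomial.aeval_X,
      sub_self]
  intro y hy
  exact hle hy

theorem rho_incl (n : ℕ) (x : MvPolynomial (Fin n) ℤ) : rho n (incl n x) = x := by
  have h : (rho n).comp (incl n) = RingHom.id _ := by
    apply MvPolynomial.ringHom_ext
    · intro r
      exact RingHom.congr_fun (RingHom.ext_int (((rho n).comp (incl n)).comp MvPolynomial.C)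
        ((RingHom.id _).comp MvPolynomial.C)) r
    · intro i
      rw [RingHom.comp_apply, RingHom.id_apply]
      unfold incl
      rw [MvPolynomial.map_X, rho_X]
  exact RingHom.congr_fun h x

theorem sub_incl_rho_mem (n : ℕ) (y : MvPolynomial (Fin n) (Rc n)) :
    y - incl n (rho n y) ∈ symIdeal n (fun i : Fin n => (MvPolynomial.X i : Rc n)) := by
  rw [← Ideal.Quotient.eq]
  have h : Ideal.Quotient.mk (symIdeal n (fun i : Fin n => (MvPolynomial.X i : Rc n))) =
      ((Ideal.Quotient.mk (symIdeal n (fun i : Fin n => (MvPolynomial.X i : Rc n)))).comp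
        (incl n)).comp (rho n) := by
    apply MvPolynomial.ringHom_ext
    · intro r
      have h2 : (Ideal.Quotient.mk (symIdeal n (fun i : Fin n => (MvPolynomial.X i : Rc n)))).comp
            MvPolynomial.C =
          (((Ideal.Quotient.mk (symIdeal n (fun i : Fin n => (MvPolynomial.X i : Rc n)))).comp
            (incl n)).comp (rho n)).comp MvPolynomial.C := by
        apply MvPolynomial.ringHom_ext
        · intro k
          exact RingHom.congr_fun (RingHom.ext_int
            (((Ideal.Quotient.mk (symIdeal n (fun i : Fin n => (MvPolynomial.X i : Rc n)))).comp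
              MvPolynomial.C).comp MvPolynomial.C)
            (((((Ideal.Quotient.mk (symIdeal n (fun i : Fin n => (MvPolynomial.X i : Rc n)))).comp
              (incl n)).comp (rho n)).comp MvPolynomial.C).comp MvPolynomial.C)) k
        · intro i
          rw [RingHom.comp_apply, RingHom.comp_apply, RingHom.comp_apply, RingHom.comp_apply,
            rho_C, MvPolynomial.aeval_X]
          unfold incl
          rw [MvPolynomial.map_esymm]
          refine (Ideal.Quotient.eq.mpr ?_).symm
          exact Ideal.subset_span ⟨i, rfl⟩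
      exact RingHom.congr_fun h2 r
    · intro i
      rw [RingHom.comp_apply, RingHom.comp_apply, rho_X]
      unfold incl
      rw [MvPolynomial.map_X]
  exact RingHom.congr_fun h y

/-- For n ≥ 2, the polynomial ring ℤ[t_1, …, t_n] is a free module of rank n! over ℤ[c_1, …, c_n] acting
through c_i ↦ e_i(t), the i-th elementary symmetric polynomial in the t_j, and the monomials
t_1^{d_1} ⋯ t_n^{d_n} with 0 ≤ d_i ≤ n − i form a basis: every polynomial is in exactly one way a
sum Σ_d f(p_d) · t^d with p_d ∈ ℤ[c_1, …, c_n], f the substitution c_i ↦ e_i(t). The published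
statement is phrased for the Chow ring of the classifying stack of the diagonal torus as a module
over that of the classifying stack of GL_n, identified with ℤ[t_1, …, t_n] ⊇ ℤ[c_1, …, c_n] in this
way. -/
theorem result (n : ℕ) (hn : 2 ≤ n) :
    Function.Bijective (fun p : (Π i : Fin n, Fin (n - (i : ℕ))) → MvPolynomial (Fin n) ℤ =>
      ∑ d : (Π i : Fin n, Fin (n - (i : ℕ))),
        (MvPolynomial.aeval (fun i : Fin n => MvPolynomial.esymm (Fin n) ℤ ((i : ℕ) + 1))) (p d) *
          ∏ i : Fin n, MvPolynomial.X i ^ ((d i : ℕ))) := by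
  classical
  obtain ⟨L, hL, hind⟩ := sym_main n (fun i : Fin n => (MvPolynomial.X i : Rc n))
  have hΦ : ∀ P : (Π i : Fin n, Fin (n - (i : ℕ))) → MvPolynomial (Fin n) ℤ,
      (∑ d : (Π i : Fin n, Fin (n - (i : ℕ))),
        (MvPolynomial.aeval (fun i : Fin n => MvPolynomial.esymm (Fin n) ℤ ((i : ℕ) + 1))) (P d) *
          ∏ i : Fin n, MvPolynomial.X i ^ ((d i : ℕ))) =
        rho n (∑ d, MvPolynomial.C (P d) * stMon n d) := by
    intro P
    rw [map_sum]
    apply Finset.sum_congr rfl
    intro d _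
    rw [map_mul, rho_C, rho_stMon]
  constructor
  · intro P Q hPQ
    simp only [hΦ] at hPQ
    have h0 : rho n (∑ d, MvPolynomial.C ((P - Q) d) * stMon n d) = 0 := by
      have h1 : (∑ d, MvPolynomial.C ((P - Q) d) * stMon n d : MvPolynomial (Fin n) (Rc n)) =
          (∑ d, MvPolynomial.C (P d) * stMon n d) - ∑ d, MvPolynomial.C (Q d) * stMon n d := by
        rw [← Finset.sum_sub_distrib]
        apply Finset.sum_congr rfl
        intro d _
        rw [Pi.sub_apply, map_sub, sub_mul]
      rw [h1, map_sub, hPQ, sub_self]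
    have h2 := sub_incl_rho_mem n (∑ d, MvPolynomial.C ((P - Q) d) * stMon n d)
    rw [h0, map_zero, sub_zero] at h2
    exact sub_eq_zero.mp (hind (P - Q) h2)
  · intro x
    refine ⟨fun d => L (incl n x) d, ?_⟩
    show (∑ d : (Π i : Fin n, Fin (n - (i : ℕ))),
        (MvPolynomial.aeval (fun i : Fin n => MvPolynomial.esymm (Fin n) ℤ ((i : ℕ) + 1)))
          (L (incl n x) d) * ∏ i : Fin n, MvPolynomial.X i ^ ((d i : ℕ))) = x
    rw [hΦ (fun d => L (incl n x) d)]
    have h1 := rho_symIdeal n _ (hL (incl n x))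
    rw [map_sub, rho_incl, sub_eq_zero] at h1
    exact h1.symm

end Groth.Agent.S16402
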