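import Groth.Statements.S16403
import Groth.Agent.H43.SymB

set_option autoImplicit false
universe u
open SymBasis

namespace Groth.Agent.S16403

open Groth.Agent.H43

/-- Let R be a commutative ring and a_1, …, a_n ∈ R with n ≥ 2, making R an algebra over ℤ[c_1, …, c_n]
by c_i ↦ a_i. The base change R ⊗ ℤ[t_1, …, t_n] over ℤ[c_1, …, c_n], where c_i ↦ e_i(t) is the i-th
elementary symmetric polynomial, is R[t_1, …, t_n]/I with I the ideal generated by the elements
e_i(t) − a_i, and the extension of an ideal J of R to it is (I + J·R[t])/I. For families (α_d),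
(β_d) of elements of R indexed by the exponent vectors d with 0 ≤ d_i ≤ n − i, the sums Σ_d α_d t^d
and Σ_d β_d t^d agree modulo I + J·R[t] if and only if α_d ≡ β_d mod J for every d. The published
statement takes R positively graded over ℤ[c_1, …, c_n] and each α_d homogeneous of degree k − |d|
for a fixed integer k ≥ 0; this row assumes neither. -/
theorem result {R : Type u} [CommRing R] (n : ℕ) (hn : 2 ≤ n)
    (a : Fin n → R) (J : Ideal R) (α β : (Π i : Fin n, Fin (n - (i : ℕ))) → R) :
    (∑ d : (Π i : Fin n, Fin (n - (i : ℕ))), MvPolynomial.C (α d) * ∏ i : Fin n, MvPolynomial.X i ^ ((d i : ℕ))) -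
        (∑ d : (Π i : Fin n, Fin (n - (i : ℕ))), MvPolynomial.C (β d) * ∏ i : Fin n, MvPolynomial.X i ^ ((d i : ℕ)))
      ∈ Ideal.span (Set.range fun i : Fin n => MvPolynomial.esymm (Fin n) R ((i : ℕ) + 1) - MvPolynomial.C (a i))
        ⊔ Ideal.map (MvPolynomial.C : R →+* MvPolynomial (Fin n) R) J
    ↔ ∀ d : (Π i : Fin n, Fin (n - (i : ℕ))), α d - β d ∈ J := by
  classical
  have hsub : (∑ d : (Π i : Fin n, Fin (n - (i : ℕ))), MvPolynomial.C (α d) * ∏ i : Fin n, MvPolynomial.X i ^ ((d i : ℕ))) -
        (∑ d : (Π i : Fin n, Fin (n - (i : ℕ))), MvPolynomial.C (β d) * ∏ i : Fin n, MvPolynomial.X i ^ ((d i : ℕ))) =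
      ∑ d : (Π i : Fin n, Fin (n - (i : ℕ))), MvPolynomial.C (α d - β d) * stMon n d := by
    rw [← Finset.sum_sub_distrib]
    apply Finset.sum_congr rfl
    intro d _
    rw [map_sub, sub_mul]
    rfl
  rw [hsub]
  change _ ∈ symIdeal n a ⊔ _ ↔ _
  constructor
  · intro hx
    obtain ⟨y, hy, z, hz, hyz⟩ := Submodule.mem_sup.mp hx
    obtain ⟨L, -, hind⟩ := sym_main n (fun i => Ideal.Quotient.mk J (a i))
    have hPI : ∀ y ∈ symIdeal n a, MvPolynomial.map (Ideal.Quotient.mk J) y ∈
        symIdeal n (fun i => Ideal.Quotient.mk J (a i)) := by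
      have hle : symIdeal n a ≤ Ideal.comap (MvPolynomial.map (Ideal.Quotient.mk J))
          (symIdeal n (fun i => Ideal.Quotient.mk J (a i))) := by
        unfold symIdeal
        rw [Ideal.span_le]
        rintro _ ⟨i, rfl⟩
        rw [SetLike.mem_coe, Ideal.mem_comap, map_sub, MvPolynomial.map_esymm, MvPolynomial.map_C]
        exact Ideal.subset_span ⟨i, rfl⟩
      intro y hy
      exact hle hy
    have hz0 : MvPolynomial.map (Ideal.Quotient.mk J) z = 0 := by
      have : z ∈ RingHom.ker (MvPolynomial.map (σ := Fin n) (Ideal.Quotient.mk J)) := by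
        rw [MvPolynomial.ker_map, Ideal.mk_ker]
        exact hz
      exact this
    have h1 : MvPolynomial.map (Ideal.Quotient.mk J)
          (∑ d : (Π i : Fin n, Fin (n - (i : ℕ))), MvPolynomial.C (α d - β d) * stMon n d) =
        ∑ d : (Π i : Fin n, Fin (n - (i : ℕ))),
          MvPolynomial.C (Ideal.Quotient.mk J (α d - β d)) * stMon n d := by
      rw [map_sum]
      apply Finset.sum_congr rfl
      intro d _
      rw [map_mul, MvPolynomial.map_C]
      congr 1
      unfold stMon
      rw [map_prod]
      apply Finset.prod_congr rfl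
      intro i _
      rw [map_pow, MvPolynomial.map_X]
    have h2 : ∑ d : (Π i : Fin n, Fin (n - (i : ℕ))),
          MvPolynomial.C (Ideal.Quotient.mk J (α d - β d)) * stMon n d ∈
        symIdeal n (fun i => Ideal.Quotient.mk J (a i)) := by
      rw [← h1, ← hyz, map_add, hz0, add_zero]
      exact hPI y hy
    have h3 := hind (fun d => Ideal.Quotient.mk J (α d - β d)) h2
    intro d
    have h4 := congrFun h3 d
    exact Ideal.Quotient.eq_zero_iff_mem.mp h4
  · intro h
    apply Ideal.mem_sup_right
    apply Ideal.sum_mem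
    intro d _
    exact Ideal.mul_mem_right _ _ (Ideal.mem_map_of_mem _ (h d))

end Groth.Agent.S16403
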