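import Groth.Statements.S16405
-- import your own Groth.Agent.* helpers here

set_option autoImplicit false
universe u v
open InvQ

namespace Groth.Agent.S16405

/-- In weight form. Let b : L → ℤ^r be an injective homomorphism of abelian groups (the case in view: L
the character group of a maximal torus T of a semisimple group over ℂ and b the map dual to the
surjection of the rank-r split torus T' onto T that sends the i-th coordinate cocharacter to the
primitive generator of the i-th ray of the Weyl chamber; only the injectivity of b is used, and ℂ is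
replaced by any commutative ring k). Grade the monoid algebra k[L × ℕ^r] (the coordinate ring of T ×
𝔸^r) by ℤ^r, the monomial (w, n) having weight b(w) + n (the weights of the T'-action u·(t, v) =
(b^∨(u) t, u v)), and grade k[ℕ^r] by ℤ^r/b(L), the monomial n having weight the class of n (the
weights of the action on 𝔸^r of the diagonalizable kernel Z of T' → T, a finite group in the case in
view). For a diagonalizable group acting on an affine scheme the ring of invariants is the
weight-zero part, so the two weight-zero parts are the coordinate rings of the quotients (T ×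
𝔸^r)//T' and 𝔸^r//Z. The statement: the algebra map k[L × ℕ^r] → k[ℕ^r] induced by the projection L
× ℕ^r → ℕ^r (restriction to the slice 1 × 𝔸^r) maps the weight-zero part of k[L × ℕ^r] bijectively
onto the weight-zero part of k[ℕ^r]; hence it induces an isomorphism of k-algebras between them. -/
theorem result
    (k : Type u) [CommRing k] (r : ℕ) (L : Type v) [AddCommGroup L]
    (b : L →+ (Fin r → ℤ)) (hb : Function.Injective b) :
    Set.BijOn
      (AddMonoidAlgebra.mapDomainAlgHom k k (AddMonoidHom.snd L (Fin r → ℕ)))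
      (AddMonoidAlgebra.gradeBy k
        (b.comp (AddMonoidHom.fst L (Fin r → ℕ)) +
          (AddMonoidHom.compLeft (Nat.castAddMonoidHom ℤ) (Fin r)).comp (AddMonoidHom.snd L (Fin r → ℕ))) 0 :
        Set (AddMonoidAlgebra k (L × (Fin r → ℕ))))
      (AddMonoidAlgebra.gradeBy k
        ((QuotientAddGroup.mk' b.range).comp (AddMonoidHom.compLeft (Nat.castAddMonoidHom ℤ) (Fin r))) 0 :
        Set (AddMonoidAlgebra k (Fin r → ℕ))) := by
  classical
  set c : (Fin r → ℕ) →+ (Fin r → ℤ) :=
    AddMonoidHom.compLeft (Nat.castAddMonoidHom ℤ) (Fin r) with hc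
  set w₁ : L × (Fin r → ℕ) →+ (Fin r → ℤ) :=
    b.comp (AddMonoidHom.fst L (Fin r → ℕ)) + c.comp (AddMonoidHom.snd L (Fin r → ℕ)) with hw₁
  set w₂ : (Fin r → ℕ) →+ (Fin r → ℤ) ⧸ b.range := (QuotientAddGroup.mk' b.range).comp c with hw₂
  have hw₁x : ∀ x : L × (Fin r → ℕ), w₁ x = b x.1 + c x.2 := fun x => rfl
  have hw₂n : ∀ n : Fin r → ℕ, w₂ n = 0 ↔ ∃ l : L, b l = -(c n) := by
    intro n
    change (QuotientAddGroup.mk' b.range) (c n) = 0 ↔ _
    rw [QuotientAddGroup.mk'_apply, QuotientAddGroup.eq_zero_iff]
    constructor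
    · rintro ⟨l, hl⟩
      exact ⟨-l, by rw [map_neg, hl]⟩
    · rintro ⟨l, hl⟩
      exact ⟨-l, by rw [map_neg, hl, neg_neg]⟩
  have hcoeff : ∀ x : AddMonoidAlgebra k (L × (Fin r → ℕ)),
      (AddMonoidAlgebra.mapDomainAlgHom k k (AddMonoidHom.snd L (Fin r → ℕ)) x).coeff =
        Finsupp.mapDomain Prod.snd x.coeff := fun x => rfl
  refine ⟨?_, ?_, ?_⟩
  · -- MapsTo
    intro a ha m hm
    rw [hcoeff] at hm
    have := Finsupp.mapDomain_support hm
    rw [Finset.mem_image] at this
    obtain ⟨x, hx, rfl⟩ := this
    have h1 : w₁ x = 0 := ha x hx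
    change w₂ x.2 = 0
    rw [hw₂n]
    refine ⟨x.1, ?_⟩
    rw [hw₁x] at h1
    exact eq_neg_of_add_eq_zero_left h1
  · -- InjOn
    intro a ha a' ha' h
    apply AddMonoidAlgebra.coeff_injective
    have hinj : Set.InjOn (Prod.snd : L × (Fin r → ℕ) → (Fin r → ℕ)) {x | w₁ x = 0} := by
      intro x hx y hy hxy
      have h1 : b x.1 + c x.2 = 0 := hx
      have h2 : b y.1 + c y.2 = 0 := hy
      have h3 : x.2 = y.2 := hxy
      rw [h3] at h1
      have : b x.1 = b y.1 := by
        rw [eq_neg_of_add_eq_zero_left h1, eq_neg_of_add_eq_zero_left h2]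
      exact Prod.ext (hb this) h3
    refine Finsupp.mapDomain_injOn _ hinj ?_ ?_ ?_
    · intro x hx; exact ha x hx
    · intro x hx; exact ha' x hx
    · have := congrArg AddMonoidAlgebra.coeff h
      rwa [hcoeff, hcoeff] at this
  · -- SurjOn
    intro c' hc'
    let s : (Fin r → ℕ) → L × (Fin r → ℕ) := fun n =>
      (if h : ∃ l : L, b l = -(c n) then h.choose else 0, n)
    refine ⟨AddMonoidAlgebra.ofCoeff (Finsupp.mapDomain s c'.coeff), ?_, ?_⟩
    · intro x hx
      rw [AddMonoidAlgebra.coeff_ofCoeff] at hx
      have := Finsupp.mapDomain_support hx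
      rw [Finset.mem_image] at this
      obtain ⟨n, hn, rfl⟩ := this
      have h1 : w₂ n = 0 := hc' n hn
      rw [hw₂n] at h1
      change w₁ (s n) = 0
      rw [hw₁x]
      simp only [s, dif_pos h1]
      rw [h1.choose_spec, neg_add_cancel]
    · apply AddMonoidAlgebra.coeff_injective
      rw [hcoeff, AddMonoidAlgebra.coeff_ofCoeff, ← Finsupp.mapDomain_comp]
      have : (Prod.snd ∘ s) = id := rfl
      rw [this, Finsupp.mapDomain_id]

end Groth.Agent.S16405
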