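import Groth.Statements.S16409
import Groth.Agent.H82.TriLemmas

set_option autoImplicit false
universe v u
open CategoryTheory CategoryTheory.Limits CategoryTheory.Pretriangulated
open W4c3perfectstacks W4c3perfectstacks.MVSq

namespace Groth.Agent.S16409

/-- In a Mayer–Vietoris square of triangulated categories (single-square form), let M be an object over
X' whose restriction to U' is zero and let N be any object over X. Then the pullback functor along
X' → X is bijective on morphisms f_* M ⟶ N; since the counit f^* f_* M ⟶ M is invertible for such M,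
composing with its inverse gives a bijection Hom(f_* M, N) ≃ Hom(M, f^* N). (The four categories are
taken in common universes.) -/
theorem result
    (S S' R R' : Type u) [Category.{v} S] [Category.{v} S'] [Category.{v} R] [Category.{v} R']
    [Preadditive S] [Preadditive S'] [Preadditive R] [Preadditive R']
    [HasZeroObject S] [HasZeroObject S'] [HasZeroObject R] [HasZeroObject R']
    [HasShift S ℤ] [HasShift S' ℤ] [HasShift R ℤ] [HasShift R' ℤ]
    [∀ n : ℤ, (shiftFunctor S n).Additive] [∀ n : ℤ, (shiftFunctor S' n).Additive]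
    [∀ n : ℤ, (shiftFunctor R n).Additive] [∀ n : ℤ, (shiftFunctor R' n).Additive]
    [Pretriangulated S] [Pretriangulated S'] [Pretriangulated R] [Pretriangulated R']
    [IsTriangulated S] [IsTriangulated S'] [IsTriangulated R] [IsTriangulated R']
    (q : W4c3perfectstacks.MVSq S S' R R')
    [q.jst.CommShift ℤ] [q.fst.CommShift ℤ] [q.jpst.CommShift ℤ] [q.gst.CommShift ℤ]
    [q.jst.IsTriangulated] [q.fst.IsTriangulated] [q.jpst.IsTriangulated] [q.gst.IsTriangulated]
    (hq : q.IsMV) (M : S') (hM : IsZero (q.jpst.obj M)) (N : S) :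
    Function.Bijective (fun g : q.fls.obj M ⟶ N => q.fst.map g) := by
  classical
  have addJls : q.jls.Additive := q.adjJ.right_adjoint_additive
  have addJpls : q.jpls.Additive := q.adjJp.right_adjoint_additive
  letI csJls : q.jls.CommShift ℤ := q.adjJ.rightAdjointCommShift ℤ
  letI csJpls : q.jpls.CommShift ℤ := q.adjJp.rightAdjointCommShift ℤ
  -- K = f_* M is killed by j^*
  have hK : IsZero (q.jst.obj (q.fls.obj M)) := by
    haveI := hq.isIso_bcApp M
    exact (H82.isZero_rightAdjoint_obj q.adjG hM).of_iso (asIso (q.bcApp M))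
  -- f^* K is killed by j'^*
  have hK' : IsZero (q.jpst.obj (q.fst.obj (q.fls.obj M))) :=
    (q.gst.map_isZero hK).of_iso ((q.e.app (q.fls.obj M)).symm)
  -- shifts
  have hKs : ∀ n : ℤ, IsZero (q.jst.obj ((q.fls.obj M)⟦n⟧)) := fun n =>
    (((shiftFunctor R n).map_isZero hK)).of_iso ((q.jst.commShiftIso n).app (q.fls.obj M))
  -- the local cohomology triangle of N
  obtain ⟨Γ, ι, h, hT⟩ := distinguished_cocone_triangle₁ (q.adjJ.unit.app N)
  -- j^* Γ = 0
  have hΓ : IsZero (q.jst.obj Γ) := by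
    have hT' := q.jst.map_distinguished _ hT
    refine (Triangle.isZero₁_iff_isIso₂ _ hT').mpr ?_
    change IsIso (q.jst.map (q.adjJ.unit.app N))
    haveI := hq.isIso_counitJ
    exact IsIso.of_isIso_fac_right (hh := IsIso.id _) (q.adjJ.left_triangle_components N)
  haveI : IsIso (q.adjF.unit.app Γ) := hq.isIso_unitF Γ hΓ
  -- step 2: top row
  have top := H82.comp_mor₁_bijective _ hT (q.fls.obj M)
    (fun g => H82.adj_hom_ext q.adjJ hK g 0)
    (fun g => by
      have φ : (q.jls.obj (q.jst.obj N))⟦(-1 : ℤ)⟧ ≅ q.jls.obj ((q.jst.obj N)⟦(-1 : ℤ)⟧) :=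
        ((q.jls.commShiftIso (-1 : ℤ)).app (q.jst.obj N)).symm
      have h0 : g ≫ φ.hom = 0 := H82.adj_hom_ext q.adjJ hK _ 0
      exact (cancel_mono φ.hom).mp (h0.trans zero_comp.symm))
  -- step 3: bottom row
  have hT' := q.fst.map_distinguished _ hT
  haveI := hq.isIso_bc2App (q.jst.obj N)
  have bot := H82.comp_mor₁_bijective _ hT' (q.fst.obj (q.fls.obj M))
    (fun g => by
      have ψ : q.fst.obj (q.jls.obj (q.jst.obj N)) ≅ q.jpls.obj (q.gst.obj (q.jst.obj N)) :=
        asIso (q.bc2App (q.jst.obj N))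
      have h0 : g ≫ ψ.hom = 0 := H82.adj_hom_ext q.adjJp hK' _ 0
      exact (cancel_mono ψ.hom).mp (h0.trans zero_comp.symm))
    (fun g => by
      have ψ : q.fst.obj (q.jls.obj (q.jst.obj N)) ≅ q.jpls.obj (q.gst.obj (q.jst.obj N)) :=
        asIso (q.bc2App (q.jst.obj N))
      have φ : (q.fst.obj (q.jls.obj (q.jst.obj N)))⟦(-1 : ℤ)⟧ ≅
          q.jpls.obj ((q.gst.obj (q.jst.obj N))⟦(-1 : ℤ)⟧) :=
        ((shiftFunctor S' (-1 : ℤ)).mapIso ψ) ≪≫
          ((q.jpls.commShiftIso (-1 : ℤ)).app (q.gst.obj (q.jst.obj N))).symm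
      have h0 : g ≫ φ.hom = 0 := H82.adj_hom_ext q.adjJp hK' _ 0
      exact (cancel_mono φ.hom).mp (h0.trans zero_comp.symm))
  -- step 4: left column
  have left := H82.map_bijective_of_isIso_unit q.adjF (q.fls.obj M) Γ
  have top' : ∀ g : q.fls.obj M ⟶ N, ∃ g' : q.fls.obj M ⟶ Γ, g' ≫ ι = g := top.2
  have bot' : Function.Bijective
      (fun g : q.fst.obj (q.fls.obj M) ⟶ q.fst.obj Γ => g ≫ q.fst.map ι) := bot
  constructor
  · intro g₁ g₂ hg
    have hg' : q.fst.map g₁ = q.fst.map g₂ := hg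
    obtain ⟨g₁', rfl⟩ := top' g₁
    obtain ⟨g₂', rfl⟩ := top' g₂
    rw [q.fst.map_comp g₁' ι, q.fst.map_comp g₂' ι] at hg'
    have h1 : q.fst.map g₁' = q.fst.map g₂' := bot'.1 hg'
    have h2 : g₁' = g₂' := left.1 h1
    rw [h2]
  · intro h
    obtain ⟨h', rfl⟩ := bot'.2 h
    obtain ⟨g', rfl⟩ := left.2 h'
    exact ⟨g' ≫ ι, q.fst.map_comp g' ι⟩

end Groth.Agent.S16409
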