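import Groth.Statements.S16418
import Mathlib.RingTheory.WittVector.DiscreteValuationRing
import Mathlib.Tactic

set_option autoImplicit false
universe u v
open Dieud

namespace Groth.Agent.S16418

/-- Step of the proof: for a prime p and a perfect field k of characteristic p, write W = W(k) and σ for
its Frobenius; let M be a W-module with additive maps F (σ-semilinear) and V (with V(σ(a)m) = aV(m))
such that FV = VF = p, V is injective, ⋂_n V^n M = 0 and M/VM is finitely generated over W. Put M₁ =
{x ∈ M : for every n there is m with V^m x ∈ F^n M} and M₂ = {x ∈ M : F^n x = 0 for some n}. Then M₂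
is killed by a single power of F, and F is injective on M₁. (The published text makes these
assertions inside a proof, for the V-reduced Cartier module of a connected smooth formal group of
finite dimension over k; only the listed structure is used, and V-adic completeness is not needed.) -/
theorem result
    (p : ℕ) [Fact p.Prime] (k : Type u) [Field k] [CharP k p] [PerfectRing k p]
    (M : Type v) [AddCommGroup M] [Module (WittVector p k) M]
    (F V : M →+ M)
    (hF : ∀ (a : WittVector p k) (m : M), F (a • m) = WittVector.frobenius a • F m)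
    (hV : ∀ (a : WittVector p k) (m : M), V (WittVector.frobenius a • m) = a • V m)
    (hFV : ∀ m : M, F (V m) = (p : WittVector p k) • m)
    (hVF : ∀ m : M, V (F m) = (p : WittVector p k) • m)
    (hVinj : Function.Injective V)
    (hsep : ∀ x : M, (∀ n : ℕ, ∃ y : M, x = (⇑V)^[n] y) → x = 0)
    (hfin : Module.Finite (WittVector p k) (M ⧸ Submodule.span (WittVector p k) (Set.range V))) :
    (∃ c : ℕ, ∀ x : M, (∃ n : ℕ, (⇑F)^[n] x = 0) → (⇑F)^[c] x = 0) ∧
    (∀ x : M, (∀ n : ℕ, ∃ (m : ℕ) (y : M), (⇑V)^[m] x = (⇑F)^[n] y) → F x = 0 → x = 0) := by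
  classical
  -- F and V commute
  have hcomm : Function.Commute (⇑F) (⇑V) := fun m => by rw [hFV, hVF]
  -- elements of the span of the range of V are values of V
  have hVM : ∀ x ∈ Submodule.span (WittVector p k) (Set.range V), ∃ y, x = V y := by
    intro x hx
    induction hx using Submodule.span_induction with
    | mem x hx => obtain ⟨y, rfl⟩ := hx; exact ⟨y, rfl⟩
    | zero => exact ⟨0, (map_zero V).symm⟩
    | add x y _ _ hx hy =>
      obtain ⟨x', rfl⟩ := hx; obtain ⟨y', rfl⟩ := hy
      exact ⟨x' + y', (map_add V _ _).symm⟩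
    | smul a x _ hx =>
      obtain ⟨x', rfl⟩ := hx
      exact ⟨WittVector.frobenius a • x', (hV a x').symm⟩
  have hFn0 : ∀ n : ℕ, (⇑F)^[n] 0 = 0 := fun n => iterate_map_zero F n
  have hVn0 : ∀ n : ℕ, (⇑V)^[n] 0 = 0 := fun n => iterate_map_zero V n
  have hFnadd : ∀ (n : ℕ) (x y : M), (⇑F)^[n] (x + y) = (⇑F)^[n] x + (⇑F)^[n] y :=
    fun n x y => iterate_map_add F n x y
  have hFnsmul : ∀ (n : ℕ) (a : WittVector p k) (x : M),
      (⇑F)^[n] (a • x) = ((⇑(WittVector.frobenius : WittVector p k →+* WittVector p k))^[n] a) • (⇑F)^[n] x := by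
    intro n
    induction n with
    | zero => intro a x; rfl
    | succ n ih =>
      intro a x
      rw [Function.iterate_succ_apply', Function.iterate_succ_apply', Function.iterate_succ_apply', ih, hF]
  -- the kernels of the iterates of F
  let K : ℕ → Submodule (WittVector p k) M := fun n =>
    { carrier := {x | (⇑F)^[n] x = 0}
      zero_mem' := hFn0 n
      add_mem' := by
        intro x y hx hy
        change (⇑F)^[n] (x + y) = 0
        rw [hFnadd, hx, hy, add_zero]
      smul_mem' := by
        intro a x hx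
        change (⇑F)^[n] (a • x) = 0
        rw [hFnsmul, hx, smul_zero] }
  have hKmem : ∀ n x, x ∈ K n ↔ (⇑F)^[n] x = 0 := fun n x => Iff.rfl
  have hKmono : Monotone K := by
    apply monotone_nat_of_le_succ
    intro n x hx
    rw [hKmem] at hx ⊢
    rw [Function.iterate_succ_apply', hx, map_zero]
  -- noetherianity of the quotient
  haveI : IsNoetherian (WittVector p k) (M ⧸ Submodule.span (WittVector p k) (Set.range V)) :=
    isNoetherian_of_isNoetherianRing_of_finite _ _
  let π := (Submodule.span (WittVector p k) (Set.range V)).mkQ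
  let f : ℕ →o Submodule (WittVector p k) (M ⧸ Submodule.span (WittVector p k) (Set.range V)) :=
    ⟨fun n => (K n).map π, fun a b hab => Submodule.map_mono (hKmono hab)⟩
  obtain ⟨c, hc⟩ := monotone_stabilizes_iff_noetherian.mpr inferInstance f
  -- decomposition
  have hA : ∀ n, c ≤ n → ∀ x ∈ K n, ∃ xc ∈ K c, ∃ y ∈ K n, x = xc + V y := by
    intro n hn x hx
    have h1 : π x ∈ (K n).map π := Submodule.mem_map_of_mem hx
    have h2 : π x ∈ (K c).map π := by
      have := hc n hn
      change (K c).map π = (K n).map π at this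
      rw [this]; exact h1
    obtain ⟨xc, hxc, hxc'⟩ := h2
    have h3 : x - xc ∈ Submodule.span (WittVector p k) (Set.range V) := by
      rw [← Submodule.Quotient.mk_eq_zero, Submodule.Quotient.mk_sub]
      change π x - π xc = 0
      rw [hxc', sub_self]
    obtain ⟨y, hy⟩ := hVM _ h3
    refine ⟨xc, hxc, y, ?_, by rw [← hy]; abel⟩
    rw [hKmem]
    apply hVinj
    rw [map_zero, ← hcomm.iterate_left n y, ← hy]
    have hx' : (⇑F)^[n] x = 0 := hx
    have hxc'' : (⇑F)^[n] xc = 0 := hKmono hn hxc
    have : x - xc = x + (-1 : WittVector p k) • xc := by simp [sub_eq_add_neg]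
    rw [this, hFnadd, hFnsmul, hx', hxc'', smul_zero, add_zero]
  have hB : ∀ r n, c ≤ n → ∀ x ∈ K n, ∃ z, (⇑F)^[c] x = (⇑V)^[r] z := by
    intro r
    induction r with
    | zero => intro n _ x _; exact ⟨_, rfl⟩
    | succ r ih =>
      intro n hn x hx
      obtain ⟨xc, hxc, y, hy, rfl⟩ := hA n hn x hx
      obtain ⟨z, hz⟩ := ih n hn y hy
      refine ⟨z, ?_⟩
      have hxc' : (⇑F)^[c] xc = 0 := hxc
      rw [hFnadd, hxc', zero_add, hcomm.iterate_left c y, hz, Function.iterate_succ_apply']
  have h1 : ∀ x : M, (∃ n : ℕ, (⇑F)^[n] x = 0) → (⇑F)^[c] x = 0 := by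
    rintro x ⟨n, hn⟩
    rcases le_total c n with h | h
    · apply hsep
      intro r
      exact hB r n h x hn
    · exact hKmono h hn
  refine ⟨⟨c, h1⟩, ?_⟩
  intro x hx hFx
  obtain ⟨m, y, hmy⟩ := hx c
  have h2 : F ((⇑V)^[m] x) = 0 := by
    rw [hcomm.iterate_right m x, hFx, hVn0]
  have h3 : (⇑F)^[c + 1] y = 0 := by
    rw [Function.iterate_succ_apply', ← hmy, h2]
  have h4 : (⇑F)^[c] y = 0 := h1 y ⟨c + 1, h3⟩
  rw [h4] at hmy
  apply hVinj.iterate m
  rw [hmy, hVn0]

end Groth.Agent.S16418
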