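import Groth.Statements.S16420
import Mathlib
import Groth.Agent.H97.Milnor

set_option autoImplicit false
set_option linter.style.haveILetI false
set_option linter.unusedSectionVars false
universe u v
open CAlg

namespace Groth.Agent.S16420

section aux

open TensorProduct

variable {R : Type*} [CommRing R]

/-- linear maps send `I • p` into `I • q` when they send `p` into `q`. -/
theorem map_mem_smul {M M' : Type*} [AddCommGroup M] [Module R M] [AddCommGroup M'] [Module R M']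
    (ℓ : M →ₗ[R] M') (I : Ideal R) (p : Submodule R M) (q : Submodule R M')
    (h : ∀ x ∈ p, ℓ x ∈ q) {z : M} (hz : z ∈ I • p) : ℓ z ∈ I • q := by
  refine Submodule.smul_induction_on hz (fun r hr n hn => ?_) (fun x y hx hy => ?_)
  · rw [map_smul]
    exact Submodule.smul_mem_smul hr (h n hn)
  · rw [map_add]
    exact add_mem hx hy

/-- A projection onto a submodule with projective quotient. -/
theorem exists_proj {M : Type*} [AddCommGroup M] [Module R M] (p : Submodule R M)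
    [Module.Projective R (M ⧸ p)] :
    ∃ π : M →ₗ[R] M, (∀ x, π x ∈ p) ∧ ∀ x ∈ p, π x = x := by
  obtain ⟨s, hs⟩ := Module.projective_lifting_property p.mkQ LinearMap.id
    (Submodule.mkQ_surjective p)
  have hs' : ∀ q, p.mkQ (s q) = q := fun q => LinearMap.congr_fun hs q
  refine ⟨LinearMap.id - s ∘ₗ p.mkQ, fun x => ?_, fun x hx => ?_⟩
  · refine (Submodule.Quotient.mk_eq_zero p).mp ?_
    show p.mkQ ((LinearMap.id - s ∘ₗ p.mkQ : M →ₗ[R] M) x) = 0
    rw [LinearMap.sub_apply, LinearMap.id_apply, LinearMap.comp_apply, map_sub, hs', sub_self]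
  · have h0 : p.mkQ x = 0 := by
      rw [Submodule.mkQ_apply]
      exact (Submodule.Quotient.mk_eq_zero p).mpr hx
    rw [LinearMap.sub_apply, LinearMap.id_apply, LinearMap.comp_apply, h0, map_zero, sub_zero]

theorem mem_smul_of_mem_smul_top {M : Type*} [AddCommGroup M] [Module R M] (p : Submodule R M)
    [Module.Projective R (M ⧸ p)] (I : Ideal R) {z : M} (hz : z ∈ I • (⊤ : Submodule R M))
    (hzp : z ∈ p) : z ∈ I • p := by
  obtain ⟨π, hπ, hπ'⟩ := exists_proj p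
  have := map_mem_smul π I ⊤ p (fun x _ => hπ x) hz
  rwa [hπ' z hzp] at this

theorem one_tmul_eq_zero {M : Type*} [AddCommGroup M] [Module R M] (I : Ideal R) {z : M}
    (hz : z ∈ I • (⊤ : Submodule R M)) : ((1 : R ⧸ I) ⊗ₜ[R] z : (R ⧸ I) ⊗[R] M) = 0 := by
  refine Submodule.smul_induction_on hz (fun r hr n _ => ?_) (fun x y hx hy => ?_)
  · have h0 : r • (1 : R ⧸ I) = 0 := by
      rw [Algebra.smul_def, mul_one, Ideal.Quotient.algebraMap_eq]
      exact Ideal.Quotient.eq_zero_iff_mem.mpr hr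
    rw [TensorProduct.tmul_smul, TensorProduct.smul_tmul', h0, TensorProduct.zero_tmul]
  · rw [TensorProduct.tmul_add, hx, hy, add_zero]

theorem mem_smul_top_of_one_tmul_eq_zero {M : Type*} [AddCommGroup M] [Module R M] (I : Ideal R)
    {z : M} (hz : ((1 : R ⧸ I) ⊗ₜ[R] z : (R ⧸ I) ⊗[R] M) = 0) :
    z ∈ I • (⊤ : Submodule R M) := by
  have hsurj : Function.Surjective (algebraMap R (R ⧸ I)) := by
    rw [Ideal.Quotient.algebraMap_eq]
    exact Ideal.Quotient.mk_surjective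
  have := Groth.Agent.H97.Milnor.mem_ker_smul_top (R := R) (S := R ⧸ I) hsurj z hz
  rwa [Ideal.Quotient.algebraMap_eq, Ideal.mk_ker] at this

theorem exists_sub_mem_of_baseChange_le {M : Type*} [AddCommGroup M] [Module R M] (I : Ideal R)
    (p q : Submodule R M) (h : q.baseChange (R ⧸ I) ≤ p.baseChange (R ⧸ I)) {x' : M}
    (hx' : x' ∈ q) : ∃ x₀ ∈ p, x' - x₀ ∈ I • (⊤ : Submodule R M) := by
  have hsurj : Function.Surjective (algebraMap R (R ⧸ I)) := by
    rw [Ideal.Quotient.algebraMap_eq]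
    exact Ideal.Quotient.mk_surjective
  have h1 : ((1 : R ⧸ I) ⊗ₜ[R] x' : (R ⧸ I) ⊗[R] M) ∈ p.baseChange (R ⧸ I) :=
    h (Submodule.tmul_mem_baseChange_of_mem 1 hx')
  obtain ⟨w, hw⟩ := LinearMap.mem_range.mp h1
  obtain ⟨x₀, rfl⟩ := Groth.Agent.H97.Milnor.exists_one_tmul (R := R) (S := R ⧸ I) hsurj w
  refine ⟨x₀, x₀.2, ?_⟩
  apply mem_smul_top_of_one_tmul_eq_zero
  rw [TensorProduct.tmul_sub, ← hw, LinearMap.baseChange_tmul, Submodule.subtype_apply, sub_self]

theorem forall_mem_of_basis {ι M M' : Type*} [AddCommGroup M] [Module R M] [AddCommGroup M']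
    [Module R M'] (b : Module.Basis ι R M) (ℓ : M →ₗ[R] M') (q : Submodule R M')
    (h : ∀ i, ℓ (b i) ∈ q) (z : M) : ℓ z ∈ q := by
  have h1 : Submodule.span R (Set.range b) ≤ Submodule.comap ℓ q := by
    rw [Submodule.span_le]
    rintro _ ⟨i, rfl⟩
    exact h i
  exact h1 (b.mem_span z)

end aux


open TensorProduct in
/-- For a commutative local Artinian ring R and an exact sequence 0 → H₁ → H → H₂ → 0 of finite free
R-modules, let F₁ ⊆ H₁ and F₂ ⊆ H₂ be submodules with free quotients, 𝔫 an ideal of R of square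
zero, R̄ = R/𝔫, and F̄ ⊆ H̄ = R̄ ⊗ H an R̄-submodule with free quotient meeting the image of R̄ ⊗ H₁
in the image of R̄ ⊗ F₁ and mapping onto the image of R̄ ⊗ F₂; let L be the set of direct summands F
of H with F ∩ H₁ = F₁, with image F̄ in H̄ and with image F₂ in H₂. Then L is a torsor under
Hom_R(F₂, 𝔫(H₁/F₁)), acting as follows: an R-linear u : H₂ → H₁ with u(H₂) ⊆ 𝔫H₁ moves F ∈ L to the
image of F under x ↦ x + f(u(g(x))). Precisely, for F ∈ L: (1) that image again lies in L; (2) it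
equals F if and only if u(F₂) ⊆ 𝔫F₁; (3) every F' ∈ L is obtained from F in this way for some such
u. (The published statement phrases the torsor under the R̄-linear maps from F̄₂ to 𝔫 ⊗ (H̄₁/F̄₁), a
group identified with the maps u as above modulo those with u(F₂) ⊆ 𝔫F₁, and describes the action
through a lift F₂ → 𝔫 ⊗ H₁ composed with F → F/F₁ ≅ F₂; restricted to F this is x ↦ f(u(g(x))).) -/
theorem result
    (R : Type u) [CommRing R] [IsArtinianRing R] [IsLocalRing R]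
    (H₁ : Type v) (H : Type v) (H₂ : Type v)
    [AddCommGroup H₁] [Module R H₁] [AddCommGroup H] [Module R H] [AddCommGroup H₂] [Module R H₂]
    [Module.Free R H₁] [Module.Finite R H₁] [Module.Free R H] [Module.Finite R H]
    [Module.Free R H₂] [Module.Finite R H₂]
    (f : H₁ →ₗ[R] H) (g : H →ₗ[R] H₂) (hf : Function.Injective f) (hg : Function.Surjective g)
    (hfg : Function.Exact f g)
    (F₁ : Submodule R H₁) (F₂ : Submodule R H₂) [Module.Free R (H₁ ⧸ F₁)] [Module.Free R (H₂ ⧸ F₂)]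
    (𝔫 : Ideal R) (hn : 𝔫 * 𝔫 = ⊥)
    (Fb : Submodule (R ⧸ 𝔫) ((R ⧸ 𝔫) ⊗[R] H))
    [Module.Free (R ⧸ 𝔫) (((R ⧸ 𝔫) ⊗[R] H) ⧸ Fb)]
    (h1 : Fb ⊓ LinearMap.range (f.baseChange (R ⧸ 𝔫)) =
      Submodule.map (f.baseChange (R ⧸ 𝔫)) (F₁.baseChange (R ⧸ 𝔫)))
    (h2 : Submodule.map (g.baseChange (R ⧸ 𝔫)) Fb = F₂.baseChange (R ⧸ 𝔫))
    (F F' : Submodule R H)
    (hF : (∃ C : Submodule R H, IsCompl (F) C) ∧
      (F) ⊓ LinearMap.range f = Submodule.map f F₁ ∧
      Submodule.baseChange (R ⧸ 𝔫) (F) = Fb ∧ Submodule.map g (F) = F₂)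
    (hF' : (∃ C : Submodule R H, IsCompl (F') C) ∧
      (F') ⊓ LinearMap.range f = Submodule.map f F₁ ∧
      Submodule.baseChange (R ⧸ 𝔫) (F') = Fb ∧ Submodule.map g (F') = F₂) :
    (∀ u : H₂ →ₗ[R] H₁, (∀ y : H₂, u y ∈ 𝔫 • (⊤ : Submodule R H₁)) →
      (∃ C : Submodule R H, IsCompl (Submodule.map (LinearMap.id + f ∘ₗ u ∘ₗ g) F) C) ∧
      (Submodule.map (LinearMap.id + f ∘ₗ u ∘ₗ g) F) ⊓ LinearMap.range f = Submodule.map f F₁ ∧
      Submodule.baseChange (R ⧸ 𝔫) (Submodule.map (LinearMap.id + f ∘ₗ u ∘ₗ g) F) = Fb ∧ Submodule.map g (Submodule.map (LinearMap.id + f ∘ₗ u ∘ₗ g) F) = F₂) ∧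
    (∀ u : H₂ →ₗ[R] H₁, (∀ y : H₂, u y ∈ 𝔫 • (⊤ : Submodule R H₁)) →
      (Submodule.map (LinearMap.id + f ∘ₗ u ∘ₗ g) F = F ↔ ∀ y ∈ F₂, u y ∈ 𝔫 • F₁)) ∧
    (∃ u : H₂ →ₗ[R] H₁, (∀ y : H₂, u y ∈ 𝔫 • (⊤ : Submodule R H₁)) ∧
      F' = Submodule.map (LinearMap.id + f ∘ₗ u ∘ₗ g) F) := by
  classical
  obtain ⟨⟨C, hC⟩, hFf, hFb, hFg⟩ := hF
  obtain ⟨⟨C', hC'⟩, hF'f, hF'b, hF'g⟩ := hF'
  have hgf : ∀ h, g (f h) = 0 := fun h => (hfg (f h)).mpr ⟨h, rfl⟩
  have hker : ∀ x, g x = 0 → ∃ h, f h = x := fun x hx => (hfg x).mp hx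
  have hφ : ∀ (u : H₂ →ₗ[R] H₁) (x : H),
      (LinearMap.id + f ∘ₗ u ∘ₗ g : H →ₗ[R] H) x = x + f (u (g x)) := fun u x => rfl
  have hφf : ∀ (u : H₂ →ₗ[R] H₁) (h : H₁), (LinearMap.id + f ∘ₗ u ∘ₗ g : H →ₗ[R] H) (f h) = f h := by
    intro u h
    rw [hφ, hgf, map_zero, map_zero, add_zero]
  have hgφ : ∀ (u : H₂ →ₗ[R] H₁) (x : H), g ((LinearMap.id + f ∘ₗ u ∘ₗ g : H →ₗ[R] H) x) = g x := by
    intro u x
    rw [hφ, map_add, hgf, add_zero]
  have hinv : ∀ (u : H₂ →ₗ[R] H₁) (x : H),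
      (LinearMap.id + f ∘ₗ u ∘ₗ g : H →ₗ[R] H) (x - f (u (g x))) = x := by
    intro u x
    rw [hφ, map_sub, hgf, sub_zero, sub_add_cancel]
  have memF : ∀ (G : Submodule R H), G ⊓ LinearMap.range f = Submodule.map f F₁ →
      (∀ t ∈ F₁, f t ∈ G) ∧ (∀ x ∈ G, g x = 0 → ∃ t ∈ F₁, f t = x) := by
    intro G hG
    constructor
    · intro t ht
      have h1 : f t ∈ G ⊓ LinearMap.range f := by
        rw [hG]
        exact Submodule.mem_map_of_mem ht
      exact (Submodule.mem_inf.mp h1).1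
    · intro x hx hgx
      have h1 : x ∈ G ⊓ LinearMap.range f := by
        refine Submodule.mem_inf.mpr ⟨hx, ?_⟩
        obtain ⟨h, rfl⟩ := hker x hgx
        exact LinearMap.mem_range_self f h
      rw [hG] at h1
      obtain ⟨t, ht, rfl⟩ := Submodule.mem_map.mp h1
      exact ⟨t, ht, rfl⟩
  refine ⟨fun u hu => ⟨?_, ?_, ?_, ?_⟩, fun u hu => ⟨fun hEq y hy => ?_, fun hU => ?_⟩, ?_⟩
  · -- (1a) direct summand
    refine ⟨Submodule.map (LinearMap.id + f ∘ₗ u ∘ₗ g : H →ₗ[R] H) C, ?_⟩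
    have hinj : Function.Injective (LinearMap.id + f ∘ₗ u ∘ₗ g : H →ₗ[R] H) := by
      intro a b hab
      have h1 : g a = g b := by rw [← hgφ u a, ← hgφ u b, hab]
      have h2 := hab
      rw [hφ, hφ, h1] at h2
      exact add_right_cancel h2
    rw [isCompl_iff]
    constructor
    · rw [Submodule.disjoint_def]
      rintro z hz1 hz2
      obtain ⟨a, ha, rfl⟩ := Submodule.mem_map.mp hz1
      obtain ⟨c, hc, hac⟩ := Submodule.mem_map.mp hz2
      have hca : c = a := hinj hac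
      subst hca
      have h0 : c = 0 := (Submodule.disjoint_def.mp hC.disjoint) c ha hc
      rw [h0, map_zero]
    · rw [Submodule.codisjoint_iff_exists_add_eq]
      intro z
      obtain ⟨a, c, ha, hc, hac⟩ :=
        (Submodule.codisjoint_iff_exists_add_eq.mp hC.codisjoint) (z - f (u (g z)))
      refine ⟨_, _, Submodule.mem_map_of_mem ha, Submodule.mem_map_of_mem hc, ?_⟩
      rw [← map_add, hac, hinv]
  · -- (1b)
    apply le_antisymm
    · intro z hz
      obtain ⟨hz1, hz2⟩ := Submodule.mem_inf.mp hz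
      obtain ⟨x, hx, rfl⟩ := Submodule.mem_map.mp hz1
      obtain ⟨h, hh⟩ := LinearMap.mem_range.mp hz2
      have hgx : g x = 0 := by rw [← hgφ u x, ← hh, hgf]
      obtain ⟨t, ht, rfl⟩ := (memF F hFf).2 x hx hgx
      rw [hφf]
      exact Submodule.mem_map_of_mem ht
    · intro z hz
      obtain ⟨t, ht, rfl⟩ := Submodule.mem_map.mp hz
      refine Submodule.mem_inf.mpr ⟨?_, LinearMap.mem_range_self f t⟩
      exact Submodule.mem_map.mpr ⟨f t, (memF F hFf).1 t ht, hφf u t⟩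
  · -- (1c)
    have hmk : (TensorProduct.mk R (R ⧸ 𝔫) H 1) ∘ₗ (LinearMap.id + f ∘ₗ u ∘ₗ g : H →ₗ[R] H) =
        TensorProduct.mk R (R ⧸ 𝔫) H 1 := by
      refine LinearMap.ext fun x => ?_
      have h0 := one_tmul_eq_zero 𝔫
        (map_mem_smul f 𝔫 ⊤ ⊤ (fun _ _ => Submodule.mem_top) (hu (g x)))
      rw [LinearMap.comp_apply, hφ, map_add, TensorProduct.mk_apply, TensorProduct.mk_apply, h0,
        add_zero]
    rw [← hFb, Submodule.baseChange_eq_span, Submodule.baseChange_eq_span, ← Submodule.map_comp,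
      hmk]
  · -- (1d)
    have h1 : g ∘ₗ (LinearMap.id + f ∘ₗ u ∘ₗ g : H →ₗ[R] H) = g := LinearMap.ext (fun x => hgφ u x)
    rw [← hFg, ← Submodule.map_comp, h1]
  · -- (2 ⇒)
    rw [← hFg] at hy
    obtain ⟨x, hx, rfl⟩ := Submodule.mem_map.mp hy
    have h1 : (LinearMap.id + f ∘ₗ u ∘ₗ g : H →ₗ[R] H) x ∈ F := by
      rw [← hEq]
      exact Submodule.mem_map_of_mem hx
    have h2 : f (u (g x)) ∈ F := by
      have h3 := F.sub_mem h1 hx
      rwa [hφ, add_sub_cancel_left] at h3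
    obtain ⟨t, ht, htx⟩ := (memF F hFf).2 _ h2 (hgf _)
    have htu : t = u (g x) := hf htx
    rw [← htu]
    refine mem_smul_of_mem_smul_top F₁ 𝔫 ?_ ht
    rw [htu]
    exact hu (g x)
  · -- (2 ⇐)
    have hkey : ∀ x ∈ F, f (u (g x)) ∈ F := by
      intro x hx
      have hgx : g x ∈ F₂ := by
        rw [← hFg]
        exact Submodule.mem_map_of_mem hx
      exact (memF F hFf).1 _ (Submodule.smul_le_right (hU _ hgx))
    apply le_antisymm
    · intro z hz
      obtain ⟨x, hx, rfl⟩ := Submodule.mem_map.mp hz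
      rw [hφ]
      exact F.add_mem hx (hkey x hx)
    · intro x hx
      exact Submodule.mem_map.mpr ⟨x - f (u (g x)), F.sub_mem hx (hkey x hx), hinv u x⟩
  · -- (3)
    obtain ⟨s, hs⟩ := Module.projective_lifting_property g LinearMap.id hg
    have hsp : (∃ l, g ∘ₗ l = LinearMap.id) ↔ ∃ l, l ∘ₗ f = LinearMap.id :=
      (hfg.split_tfae hf hg).out 0 1
    obtain ⟨ρ, hρ⟩ := hsp.mp ⟨s, hs⟩
    have hρ' : ∀ h, ρ (f h) = h := fun h => LinearMap.congr_fun hρ h
    obtain ⟨π₂, hπ₂, hπ₂'⟩ := exists_proj F₂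
    have K4 : ∀ y ∈ F₂, ∃ x ∈ F, ∃ h ∈ 𝔫 • (⊤ : Submodule R H₁), g x = y ∧ x + f h ∈ F' := by
      intro y hy
      have hy' := hy
      rw [← hF'g] at hy'
      obtain ⟨x', hx', rfl⟩ := Submodule.mem_map.mp hy'
      obtain ⟨x₀, hx₀, hn⟩ :=
        exists_sub_mem_of_baseChange_le 𝔫 F F' (by rw [hFb, hF'b]) hx'
      have hgn1 : g (x' - x₀) ∈ 𝔫 • (⊤ : Submodule R H₂) :=
        map_mem_smul g 𝔫 ⊤ ⊤ (fun _ _ => Submodule.mem_top) hn
      have hgx₀ : g x₀ ∈ F₂ := by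
        rw [← hFg]
        exact Submodule.mem_map_of_mem hx₀
      have hgn2 : g (x' - x₀) ∈ F₂ := by
        rw [map_sub]
        exact F₂.sub_mem hy hgx₀
      have hgn3 : g (x' - x₀) ∈ 𝔫 • F₂ := mem_smul_of_mem_smul_top F₂ 𝔫 hgn1 hgn2
      rw [← hFg, ← Submodule.map_smul''] at hgn3
      obtain ⟨z, hz, hgz⟩ := Submodule.mem_map.mp hgn3
      have hzF : z ∈ F := Submodule.smul_le_right hz
      have hzn : z ∈ 𝔫 • (⊤ : Submodule R H) := Submodule.smul_mono le_rfl le_top hz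
      have hsplit : x' - (x₀ + z) = (x' - x₀) - z := by abel
      have hd : x' - (x₀ + z) ∈ 𝔫 • (⊤ : Submodule R H) := by
        rw [hsplit]
        exact Submodule.sub_mem _ hn hzn
      have hgd : g (x' - (x₀ + z)) = 0 := by
        rw [hsplit, map_sub, hgz, sub_self]
      obtain ⟨h, hh⟩ := hker _ hgd
      refine ⟨x₀ + z, F.add_mem hx₀ hzF, h, ?_, ?_, ?_⟩
      · have h5 := map_mem_smul ρ 𝔫 ⊤ ⊤ (fun _ _ => Submodule.mem_top) hd
        rwa [← hh, hρ'] at h5
      · have h6 := hgd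
        rw [map_sub, sub_eq_zero] at h6
        exact h6.symm
      · rw [hh, add_sub_cancel]
        exact hx'
    let b := Module.Free.chooseBasis R H₂
    choose X hXF hh hhn hgX hXF' using fun i => K4 (π₂ (b i)) (hπ₂ (b i))
    obtain ⟨σ, hσb⟩ : ∃ σ : H₂ →ₗ[R] H, ∀ i, σ (b i) = X i :=
      ⟨b.constr R X, fun i => b.constr_basis R X i⟩
    obtain ⟨u, hub⟩ : ∃ u : H₂ →ₗ[R] H₁, ∀ i, u (b i) = hh i :=
      ⟨b.constr R hh, fun i => b.constr_basis R hh i⟩
    have hσF : ∀ z, σ z ∈ F :=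
      forall_mem_of_basis b σ F (fun i => by rw [hσb]; exact hXF i)
    have hun : ∀ z, u z ∈ 𝔫 • (⊤ : Submodule R H₁) :=
      forall_mem_of_basis b u _ (fun i => by rw [hub]; exact hhn i)
    have hσ'F' : ∀ z, σ z + f (u z) ∈ F' := by
      intro z
      exact forall_mem_of_basis b (σ + f ∘ₗ u) F' (fun i => by
        rw [LinearMap.add_apply, LinearMap.comp_apply, hσb, hub]
        exact hXF' i) z
    have hgσ : ∀ z, g (σ z) = π₂ z := by
      have h1 : g ∘ₗ σ = π₂ := b.ext (fun i => by rw [LinearMap.comp_apply, hσb, hgX])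
      exact fun z => LinearMap.congr_fun h1 z
    refine ⟨u, hun, ?_⟩
    apply le_antisymm
    · intro x' hx'
      have hy : g x' ∈ F₂ := by
        rw [← hF'g]
        exact Submodule.mem_map_of_mem hx'
      have hgs : g (σ (g x') + f (u (g x'))) = g x' := by
        rw [map_add, hgf, add_zero, hgσ, hπ₂' _ hy]
      obtain ⟨t, ht, htx⟩ := (memF F' hF'f).2 (x' - (σ (g x') + f (u (g x'))))
        (F'.sub_mem hx' (hσ'F' _)) (by rw [map_sub, hgs, sub_self])
      refine Submodule.mem_map.mpr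
        ⟨σ (g x') + f t, F.add_mem (hσF _) ((memF F hFf).1 t ht), ?_⟩
      rw [map_add, hφf, hφ, hgσ, hπ₂' _ hy, htx]
      abel
    · intro z hz
      obtain ⟨x, hx, rfl⟩ := Submodule.mem_map.mp hz
      have hy : g x ∈ F₂ := by
        rw [← hFg]
        exact Submodule.mem_map_of_mem hx
      have hgs : g (σ (g x)) = g x := by rw [hgσ, hπ₂' _ hy]
      obtain ⟨t, ht, htx⟩ := (memF F hFf).2 (x - σ (g x)) (F.sub_mem hx (hσF _))
        (by rw [map_sub, hgs, sub_self])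
      rw [hφ]
      have h7 : x + f (u (g x)) = (σ (g x) + f (u (g x))) + f t := by
        rw [htx]
        abel
      rw [h7]
      exact F'.add_mem (hσ'F' _) ((memF F' hF'f).1 t ht)

end Groth.Agent.S16420
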