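import Groth.Statements.S16419
import Mathlib
import Groth.Agent.H97.Milnor
import Groth.Agent.S16420

set_option autoImplicit false
set_option linter.style.haveILetI false
set_option linter.unusedSectionVars false
universe u v
open CAlg

namespace Groth.Agent.S16419

theorem exists_isCompl_of_proj {R M : Type*} [CommRing R] [AddCommGroup M] [Module R M]
    (p : Submodule R M) (P : M →ₗ[R] M) (h1 : ∀ x, P x ∈ p) (h2 : ∀ x ∈ p, P x = x) :
    ∃ C : Submodule R M, IsCompl p C := by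
  refine ⟨LinearMap.ker P, ?_⟩
  rw [isCompl_iff]
  constructor
  · rw [Submodule.disjoint_def]
    intro x hx hx'
    have h3 := LinearMap.mem_ker.mp hx'
    rw [h2 x hx] at h3
    exact h3
  · rw [Submodule.codisjoint_iff_exists_add_eq]
    intro z
    refine ⟨P z, z - P z, h1 z, ?_, by abel⟩
    rw [LinearMap.mem_ker, map_sub, h2 _ (h1 z), sub_self]


open TensorProduct in
/-- For a commutative local Artinian ring R and an exact sequence 0 → H₁ → H → H₂ → 0 of finite free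
R-modules, let F₁ ⊆ H₁ and F₂ ⊆ H₂ be submodules with H₁/F₁ and H₂/F₂ free; let 𝔫 be an ideal of R
of square zero, R̄ = R/𝔫, and F̄ an R̄-submodule of H̄ = R̄ ⊗ H with free quotient such that F̄
meets the image of R̄ ⊗ H₁ in the image of R̄ ⊗ F₁ and the image of F̄ in R̄ ⊗ H₂ is the image of R̄
⊗ F₂. Then there is a direct summand F of H with F ∩ H₁ = F₁, whose image in H̄ is F̄ and whose
image in H₂ is F₂. -/
theorem result
    (R : Type u) [CommRing R] [IsArtinianRing R] [IsLocalRing R]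
    (H₁ : Type v) (H : Type v) (H₂ : Type v)
    [AddCommGroup H₁] [Module R H₁] [AddCommGroup H] [Module R H] [AddCommGroup H₂] [Module R H₂]
    [Module.Free R H₁] [Module.Finite R H₁] [Module.Free R H] [Module.Finite R H]
    [Module.Free R H₂] [Module.Finite R H₂]
    (f : H₁ →ₗ[R] H) (g : H →ₗ[R] H₂) (hf : Function.Injective f) (hg : Function.Surjective g)
    (hfg : Function.Exact f g)
    (F₁ : Submodule R H₁) (F₂ : Submodule R H₂) [Module.Free R (H₁ ⧸ F₁)] [Module.Free R (H₂ ⧸ F₂)]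
    (𝔫 : Ideal R) (hn : 𝔫 * 𝔫 = ⊥)
    (Fb : Submodule (R ⧸ 𝔫) ((R ⧸ 𝔫) ⊗[R] H))
    [Module.Free (R ⧸ 𝔫) (((R ⧸ 𝔫) ⊗[R] H) ⧸ Fb)]
    (h1 : Fb ⊓ LinearMap.range (f.baseChange (R ⧸ 𝔫)) =
      Submodule.map (f.baseChange (R ⧸ 𝔫)) (F₁.baseChange (R ⧸ 𝔫)))
    (h2 : Submodule.map (g.baseChange (R ⧸ 𝔫)) Fb = F₂.baseChange (R ⧸ 𝔫)) :
    ∃ F : Submodule R H, (∃ C : Submodule R H, IsCompl F C) ∧
      F ⊓ LinearMap.range f = Submodule.map f F₁ ∧
      F.baseChange (R ⧸ 𝔫) = Fb ∧ Submodule.map g F = F₂ := by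
  classical
  have hgf : ∀ h, g (f h) = 0 := fun h => (hfg (f h)).mpr ⟨h, rfl⟩
  have hker : ∀ x, g x = 0 → ∃ h, f h = x := fun x hx => (hfg x).mp hx
  have hsurj : Function.Surjective (algebraMap R (R ⧸ 𝔫)) := by
    rw [Ideal.Quotient.algebraMap_eq]
    exact Ideal.Quotient.mk_surjective
  have hlift : ∀ y ∈ 𝔫 • (⊤ : Submodule R H₂), ∃ z ∈ 𝔫 • (⊤ : Submodule R H), g z = y := by
    intro y hy
    have h3 : Submodule.map g (𝔫 • (⊤ : Submodule R H)) = 𝔫 • (⊤ : Submodule R H₂) := by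
      rw [Submodule.map_smul'', Submodule.map_top, LinearMap.range_eq_top.mpr hg]
    rw [← h3] at hy
    obtain ⟨z, hz, hgz⟩ := Submodule.mem_map.mp hy
    exact ⟨z, hz, hgz⟩
  have hA : ∀ y ∈ F₂, ∃ x : H, g x = y ∧
      ((1 : R ⧸ 𝔫) ⊗ₜ[R] x : (R ⧸ 𝔫) ⊗[R] H) ∈ Fb := by
    intro y hy
    have h3 : ((1 : R ⧸ 𝔫) ⊗ₜ[R] y : (R ⧸ 𝔫) ⊗[R] H₂) ∈
        Submodule.map (g.baseChange (R ⧸ 𝔫)) Fb := by
      rw [h2]
      exact Submodule.tmul_mem_baseChange_of_mem 1 hy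
    obtain ⟨w, hw, hgw⟩ := Submodule.mem_map.mp h3
    obtain ⟨x₁, rfl⟩ := Groth.Agent.H97.Milnor.exists_one_tmul (R := R) (S := R ⧸ 𝔫) hsurj w
    rw [LinearMap.baseChange_tmul] at hgw
    have h4 : g x₁ - y ∈ 𝔫 • (⊤ : Submodule R H₂) := by
      apply S16420.mem_smul_top_of_one_tmul_eq_zero
      rw [TensorProduct.tmul_sub, hgw, sub_self]
    obtain ⟨z, hz, hgz⟩ := hlift _ h4
    refine ⟨x₁ - z, by rw [map_sub, hgz]; abel, ?_⟩
    rw [TensorProduct.tmul_sub, S16420.one_tmul_eq_zero 𝔫 hz, sub_zero]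
    exact hw
  obtain ⟨π₂, hπ₂, hπ₂'⟩ := S16420.exists_proj F₂
  let b := Module.Free.chooseBasis R H₂
  choose X hgX hXb using fun i => hA (π₂ (b i)) (hπ₂ (b i))
  obtain ⟨σ, hσb⟩ : ∃ σ : H₂ →ₗ[R] H, ∀ i, σ (b i) = X i :=
    ⟨b.constr R X, fun i => b.constr_basis R X i⟩
  have hgσ : ∀ z, g (σ z) = π₂ z := by
    have h1 : g ∘ₗ σ = π₂ := b.ext (fun i => by rw [LinearMap.comp_apply, hσb, hgX])
    exact fun z => LinearMap.congr_fun h1 z
  have hσFb : ∀ z, ((1 : R ⧸ 𝔫) ⊗ₜ[R] σ z : (R ⧸ 𝔫) ⊗[R] H) ∈ Fb := by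
    intro z
    exact S16420.forall_mem_of_basis b ((TensorProduct.mk R (R ⧸ 𝔫) H 1) ∘ₗ σ)
      (Fb.restrictScalars R) (fun i => by
        rw [LinearMap.comp_apply, hσb]
        exact hXb i) z
  have hmem : ∀ x, x ∈ Submodule.map f F₁ ⊔ Submodule.map σ F₂ ↔
      ∃ t ∈ F₁, ∃ y ∈ F₂, f t + σ y = x := by
    intro x
    rw [Submodule.mem_sup]
    constructor
    · rintro ⟨a, ha, c, hc, rfl⟩
      obtain ⟨t, ht, rfl⟩ := Submodule.mem_map.mp ha
      obtain ⟨y, hy, rfl⟩ := Submodule.mem_map.mp hc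
      exact ⟨t, ht, y, hy, rfl⟩
    · rintro ⟨t, ht, y, hy, rfl⟩
      exact ⟨f t, Submodule.mem_map_of_mem ht, σ y, Submodule.mem_map_of_mem hy, rfl⟩
  have hgF : ∀ t, ∀ y ∈ F₂, g (f t + σ y) = y := by
    intro t y hy
    rw [map_add, hgf, zero_add, hgσ, hπ₂' y hy]
  refine ⟨Submodule.map f F₁ ⊔ Submodule.map σ F₂, ?_, ?_, ?_, ?_⟩
  · -- direct summand
    obtain ⟨s, hs⟩ := Module.projective_lifting_property g LinearMap.id hg
    have hs' : ∀ y, g (s y) = y := fun y => LinearMap.congr_fun hs y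
    have hsp : (∃ l, g ∘ₗ l = LinearMap.id) ↔ ∃ l, l ∘ₗ f = LinearMap.id :=
      (hfg.split_tfae hf hg).out 0 1
    obtain ⟨l, hl⟩ := hsp.mp ⟨s, hs⟩
    have hl' : ∀ h, l (f h) = h := fun h => LinearMap.congr_fun hl h
    obtain ⟨π₁, hπ₁, hπ₁'⟩ := S16420.exists_proj F₁
    obtain ⟨s', hs'def⟩ : ∃ s' : H₂ →ₗ[R] H, ∀ y, s' y = σ (π₂ y) + s (y - π₂ y) :=
      ⟨σ ∘ₗ π₂ + s ∘ₗ (LinearMap.id - π₂), fun y => rfl⟩
    have hs'2 : ∀ y ∈ F₂, s' y = σ y := by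
      intro y hy
      rw [hs'def, hπ₂' y hy, sub_self, map_zero, add_zero]
    obtain ⟨P, hP⟩ : ∃ P : H →ₗ[R] H,
        ∀ x, P x = f (π₁ (l (x - s' (g x)))) + σ (π₂ (g x)) :=
      ⟨f ∘ₗ π₁ ∘ₗ l ∘ₗ (LinearMap.id - s' ∘ₗ g) + σ ∘ₗ π₂ ∘ₗ g, fun x => rfl⟩
    have hP1 : ∀ x, P x ∈ Submodule.map f F₁ ⊔ Submodule.map σ F₂ :=
      fun x => (hmem _).mpr ⟨_, hπ₁ _, _, hπ₂ _, (hP x).symm⟩
    have hP2 : ∀ x ∈ Submodule.map f F₁ ⊔ Submodule.map σ F₂, P x = x := by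
      intro x hx
      obtain ⟨t, ht, y, hy, rfl⟩ := (hmem x).mp hx
      rw [hP, hgF t y hy, hs'2 y hy, add_sub_cancel_right, hl', hπ₁' t ht, hπ₂' y hy]
    exact exists_isCompl_of_proj _ P hP1 hP2
  · -- F ∩ range f
    apply le_antisymm
    · intro x hx
      obtain ⟨hx1, hx2⟩ := Submodule.mem_inf.mp hx
      obtain ⟨t, ht, y, hy, rfl⟩ := (hmem x).mp hx1
      obtain ⟨h, hh⟩ := LinearMap.mem_range.mp hx2
      have h5 : g (f t + σ y) = 0 := by rw [← hh, hgf]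
      rw [hgF t y hy] at h5
      rw [h5, map_zero, add_zero]
      exact Submodule.mem_map_of_mem ht
    · intro x hx
      obtain ⟨t, ht, rfl⟩ := Submodule.mem_map.mp hx
      exact Submodule.mem_inf.mpr ⟨(hmem _).mpr ⟨t, ht, 0, F₂.zero_mem, by
        rw [map_zero, add_zero]⟩, LinearMap.mem_range_self f t⟩
  · -- base change
    apply le_antisymm
    · rw [Submodule.baseChange_eq_span, Submodule.span_le]
      rintro _ ⟨x, hx, rfl⟩
      obtain ⟨t, ht, y, hy, rfl⟩ := (hmem x).mp hx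
      show (1 : R ⧸ 𝔫) ⊗ₜ[R] (f t + σ y) ∈ Fb
      rw [TensorProduct.tmul_add]
      refine Fb.add_mem ?_ (hσFb y)
      have h3 : (f.baseChange (R ⧸ 𝔫)) ((1 : R ⧸ 𝔫) ⊗ₜ[R] t) ∈
          Fb ⊓ LinearMap.range (f.baseChange (R ⧸ 𝔫)) := by
        rw [h1]
        exact Submodule.mem_map_of_mem (Submodule.tmul_mem_baseChange_of_mem 1 ht)
      rw [LinearMap.baseChange_tmul] at h3
      exact (Submodule.mem_inf.mp h3).1
    · intro w hw
      have h3 : (g.baseChange (R ⧸ 𝔫)) w ∈ F₂.baseChange (R ⧸ 𝔫) := by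
        rw [← h2]
        exact Submodule.mem_map_of_mem hw
      obtain ⟨v, hv⟩ := LinearMap.mem_range.mp h3
      obtain ⟨y, rfl⟩ := Groth.Agent.H97.Milnor.exists_one_tmul (R := R) (S := R ⧸ 𝔫) hsurj v
      rw [LinearMap.baseChange_tmul, Submodule.subtype_apply] at hv
      obtain ⟨w', hw'⟩ : ∃ w', w' = w - (1 : R ⧸ 𝔫) ⊗ₜ[R] σ (y : H₂) := ⟨_, rfl⟩
      have hw'Fb : w' ∈ Fb := by
        rw [hw']
        exact Fb.sub_mem hw (hσFb _)
      have hgw' : (g.baseChange (R ⧸ 𝔫)) w' = 0 := by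
        rw [hw', map_sub, LinearMap.baseChange_tmul, hgσ, hπ₂' _ y.2, hv, sub_self]
      obtain ⟨x, hx⟩ := Groth.Agent.H97.Milnor.exists_one_tmul (R := R) (S := R ⧸ 𝔫) hsurj w'
      have h4 : g x ∈ 𝔫 • (⊤ : Submodule R H₂) := by
        apply S16420.mem_smul_top_of_one_tmul_eq_zero
        have h5 := hgw'
        rw [← hx, LinearMap.baseChange_tmul] at h5
        exact h5
      obtain ⟨z, hz, hgz⟩ := hlift _ h4
      obtain ⟨h, hh⟩ := hker (x - z) (by rw [map_sub, hgz, sub_self])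
      have h5 : w' = (f.baseChange (R ⧸ 𝔫)) ((1 : R ⧸ 𝔫) ⊗ₜ[R] h) := by
        rw [LinearMap.baseChange_tmul, hh, TensorProduct.tmul_sub,
          S16420.one_tmul_eq_zero 𝔫 hz, sub_zero, hx]
      have h6 : w' ∈ Fb ⊓ LinearMap.range (f.baseChange (R ⧸ 𝔫)) := by
        refine Submodule.mem_inf.mpr ⟨hw'Fb, ?_⟩
        rw [h5]
        exact LinearMap.mem_range_self _ _
      rw [h1] at h6
      obtain ⟨v₁, hv₁, hv₁w⟩ := Submodule.mem_map.mp h6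
      obtain ⟨v₂, hv₂⟩ := LinearMap.mem_range.mp hv₁
      obtain ⟨t, rfl⟩ := Groth.Agent.H97.Milnor.exists_one_tmul (R := R) (S := R ⧸ 𝔫) hsurj v₂
      rw [LinearMap.baseChange_tmul, Submodule.subtype_apply] at hv₂
      have e1 : (f.baseChange (R ⧸ 𝔫)) ((1 : R ⧸ 𝔫) ⊗ₜ[R] (t : H₁)) =
          (1 : R ⧸ 𝔫) ⊗ₜ[R] f (t : H₁) := by
        rw [LinearMap.baseChange_tmul]
      have h7 : w = (1 : R ⧸ 𝔫) ⊗ₜ[R] (f (t : H₁) + σ (y : H₂)) := by
        rw [TensorProduct.tmul_add, ← e1, hv₂, hv₁w, hw', sub_add_cancel]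
      rw [h7]
      exact Submodule.tmul_mem_baseChange_of_mem 1 ((hmem _).mpr ⟨t, t.2, y, y.2, rfl⟩)
  · -- image under g
    apply le_antisymm
    · intro z hz
      obtain ⟨x, hx, rfl⟩ := Submodule.mem_map.mp hz
      obtain ⟨t, ht, y, hy, rfl⟩ := (hmem x).mp hx
      rw [hgF t y hy]
      exact hy
    · intro y hy
      refine Submodule.mem_map.mpr ⟨σ y, (hmem _).mpr ⟨0, F₁.zero_mem, y, hy, by
        rw [map_zero, zero_add]⟩, ?_⟩
      rw [hgσ, hπ₂' y hy]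

end Groth.Agent.S16419
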