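import Groth.Statements.S1642
import Groth.Agent.H53.MReg2
import Groth.Agent.S1071

set_option autoImplicit false
universe u
open CategoryTheory CategoryTheory.Limits AlgebraicGeometry
open Variety

namespace Groth.Agent.S1642

/-- A coherent module on P^n_k which is m-regular in the sense of Castelnuovo–Mumford is also (m +
1)-regular. -/
theorem result (k : Type u) [Field k] (n : ℕ) (F : (CohB1.ProjSpace n k).Modules) (hF : Coh.IsCoh F) (m : ℤ)
    (h : Curv2.IsMRegular k n F m) : Curv2.IsMRegular k n F (m + 1) := by
  exact Groth.Agent.H53.MReg.mRegular_succ_of_koszul n k F hF m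
    (fun a => Groth.Agent.S1071.result n k a) h

end Groth.Agent.S1642
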