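import Groth.Statements.S16421
import Mathlib.FieldTheory.PerfectClosure
import Mathlib.FieldTheory.Perfect
import Mathlib.RingTheory.Flat.EquationalCriterion
import Mathlib.RingTheory.RingHom.Flat
import Mathlib.RingTheory.RingHom.FaithfullyFlat
import Mathlib.Algebra.CharP.Reduced
import Mathlib.Algebra.CharP.Frobenius

set_option autoImplicit false
universe u
open FrobAlg

namespace Groth.Agent.S16421

section aux

variable {R S : Type u} [CommRing R] [CommRing S]

theorem trivial_of_flat (g : R →+* S) (hg : g.Flat) {l : ℕ} (f : Fin l → R) (y : Fin l → S)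
    (h : ∑ i, g (f i) * y i = 0) :
    ∃ (k : ℕ) (a : Fin l → Fin k → R) (z : Fin k → S),
      (∀ i, y i = ∑ j, g (a i j) * z j) ∧ ∀ j, ∑ i, f i * a i j = 0 := by
  letI := g.toAlgebra
  haveI : Module.Flat R S := hg
  have h' : ∑ i, f i • y i = 0 := by
    simpa only [Algebra.smul_def, RingHom.algebraMap_toAlgebra] using h
  obtain ⟨k, a, z, h1, h2⟩ := Module.Flat.isTrivialRelation_of_sum_smul_eq_zero h'
  refine ⟨k, a, z, fun i => ?_, h2⟩
  have h3 := h1 i
  simpa only [Algebra.smul_def, RingHom.algebraMap_toAlgebra] using h3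

theorem flat_of_trivial (g : R →+* S)
    (H : ∀ {l : ℕ} (f : Fin l → R) (y : Fin l → S), ∑ i, g (f i) * y i = 0 →
      ∃ (k : ℕ) (a : Fin l → Fin k → R) (z : Fin k → S),
        (∀ i, y i = ∑ j, g (a i j) * z j) ∧ ∀ j, ∑ i, f i * a i j = 0) : g.Flat := by
  letI := g.toAlgebra
  show Module.Flat R S
  apply Module.Flat.of_forall_isTrivialRelation
  intro l f y h
  have h' : ∑ i, g (f i) * y i = 0 := by
    simpa only [Algebra.smul_def, RingHom.algebraMap_toAlgebra] using h
  obtain ⟨k, a, z, h1, h2⟩ := H f y h'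
  refine ⟨k, a, z, fun i => ?_, h2⟩
  have h3 := h1 i
  simpa only [Algebra.smul_def, RingHom.algebraMap_toAlgebra] using h3

theorem faithfullyFlat_of (g : R →+* S) (hg : g.Flat)
    (H : ∀ m : Ideal R, m.IsMaximal → m.map g ≠ ⊤) : g.FaithfullyFlat := by
  letI := g.toAlgebra
  haveI : Module.Flat R S := hg
  show Module.FaithfullyFlat R S
  refine ⟨fun m hm => ?_⟩
  rw [Ideal.smul_top_eq_map]
  exact (Submodule.restrictScalars_eq_top_iff _ _ _).ne.mpr (H m hm)

end aux

section pbasis

variable (p : ℕ) [Fact p.Prime] (R : Type u) [CommRing R] [CharP R p] (ι : Type u) (x : ι → R)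

theorem frobenius_flat
    (hx : Function.Bijective
      (fun c : {e : ι →₀ ℕ // ∀ i, e i < p} →₀ R =>
        c.sum (fun e r => r ^ p * e.1.prod (fun i n => x i ^ n)))) :
    (frobenius R p).Flat := by
  classical
  have hp0 : p ≠ 0 := (Fact.out : p.Prime).ne_zero
  set mon : {e : ι →₀ ℕ // ∀ i, e i < p} → R := fun e => e.1.prod (fun i n => x i ^ n) with hmon
  -- additive version of the map
  let Φ : ({e : ι →₀ ℕ // ∀ i, e i < p} →₀ R) →+ R :=
    AddMonoidHom.mk' (fun c => c.sum (fun e r => r ^ p * mon e)) (by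
      intro c c'
      apply Finsupp.sum_add_index'
      · intro e; simp [hp0]
      · intro e a b; rw [add_pow_char, add_mul])
  have hΦsmul : ∀ (r : R) (c : {e : ι →₀ ℕ // ∀ i, e i < p} →₀ R), Φ (r • c) = r ^ p * Φ c := by
    intro r c
    change (r • c).sum (fun e r => r ^ p * mon e) = r ^ p * c.sum (fun e r => r ^ p * mon e)
    rw [Finsupp.sum_smul_index' (by intro e; simp [hp0]), Finsupp.mul_sum]
    refine Finsupp.sum_congr (fun e _ => ?_)
    rw [smul_eq_mul, mul_pow, mul_assoc]
  have hΦinj : Function.Injective Φ := hx.1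
  have hΦsurj : Function.Surjective Φ := hx.2
  apply flat_of_trivial
  intro l f y h
  choose c hc using fun i => hΦsurj (y i)
  -- the finite set of all exponents involved
  let s : Finset {e : ι →₀ ℕ // ∀ i, e i < p} := Finset.univ.biUnion (fun i => (c i).support)
  have hsum : ∀ i, y i = ∑ e ∈ s, (c i e) ^ p * mon e := by
    intro i
    rw [← hc i]
    change (c i).sum (fun e r => r ^ p * mon e) = _
    rw [Finsupp.sum]
    apply Finset.sum_subset
    · intro e he
      exact Finset.mem_biUnion.2 ⟨i, Finset.mem_univ _, he⟩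
    · intro e _ he
      rw [Finsupp.notMem_support_iff.1 he, zero_pow hp0, zero_mul]
  have hrel : ∑ i, f i • c i = 0 := by
    apply hΦinj
    rw [map_sum, map_zero]
    rw [← h]
    refine Finset.sum_congr rfl (fun i _ => ?_)
    rw [hΦsmul, hc i, frobenius_def]
  refine ⟨s.card, fun i j => c i (s.equivFin.symm j).1, fun j => mon (s.equivFin.symm j).1,
    fun i => ?_, fun j => ?_⟩
  · rw [hsum i, ← Finset.sum_coe_sort s]
    rw [← s.equivFin.symm.sum_comp (fun e : s => (c i e.1) ^ p * mon e.1)]
    simp only [frobenius_def]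
  · have h1 := DFunLike.congr_fun hrel (s.equivFin.symm j).1
    simpa [Finsupp.finset_sum_apply, Finsupp.smul_apply] using h1

theorem isReduced_of_pbasis
    (hx : Function.Bijective
      (fun c : {e : ι →₀ ℕ // ∀ i, e i < p} →₀ R =>
        c.sum (fun e r => r ^ p * e.1.prod (fun i n => x i ^ n)))) :
    IsReduced R := by
  classical
  have hp : p.Prime := Fact.out
  have hF : ∀ r : R, r ^ p = 0 → r = 0 := by
    intro r hr
    let e0 : {e : ι →₀ ℕ // ∀ i, e i < p} := ⟨0, fun i => by simpa using hp.pos⟩
    have h1 : (fun c : {e : ι →₀ ℕ // ∀ i, e i < p} →₀ R =>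
        c.sum (fun e r => r ^ p * e.1.prod (fun i n => x i ^ n))) (Finsupp.single e0 r)
        = (fun c : {e : ι →₀ ℕ // ∀ i, e i < p} →₀ R =>
        c.sum (fun e r => r ^ p * e.1.prod (fun i n => x i ^ n))) 0 := by
      simp only [Finsupp.sum_zero_index]
      rw [Finsupp.sum_single_index (by simp [hp.ne_zero])]
      rw [hr, zero_mul]
    have h2 := hx.1 h1
    exact (Finsupp.single_eq_zero.1 h2)
  have hFn : ∀ (n : ℕ) (r : R), r ^ p ^ n = 0 → r = 0 := by
    intro n
    induction n with
    | zero => intro r hr; simpa using hr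
    | succ n ih =>
      intro r hr
      rw [pow_succ, pow_mul] at hr
      exact ih r (hF _ hr)
  refine ⟨fun r hr => ?_⟩
  obtain ⟨k, hk⟩ := hr
  exact hFn k r (pow_eq_zero_of_le (Nat.lt_pow_self hp.one_lt).le hk)

end pbasis

section pc

variable (p : ℕ) [Fact p.Prime] (R : Type u) [CommRing R] [CharP R p]

theorem exists_pow_eq_of (z : PerfectClosure R p) :
    ∃ (N : ℕ) (y : R), z ^ p ^ N = PerfectClosure.of R p y := by
  refine PerfectClosure.induction_on z ?_
  rintro ⟨n, y⟩
  refine ⟨n, y, ?_⟩
  rw [← iterate_frobenius, PerfectClosure.iterate_frobenius_mk]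

theorem pow_add_eq_of {z : PerfectClosure R p} {N : ℕ} {y : R}
    (h : z ^ p ^ N = PerfectClosure.of R p y) (M : ℕ) :
    z ^ p ^ (N + M) = PerfectClosure.of R p (y ^ p ^ M) := by
  rw [pow_add, pow_mul, h, map_pow]

theorem of_injective [IsReduced R] : Function.Injective (PerfectClosure.of R p) := by
  intro a b hab
  rw [PerfectClosure.of_apply, PerfectClosure.of_apply, PerfectClosure.eq_iff] at hab
  simpa using hab

end pc

/-- Let p be a prime and R a commutative ring of characteristic p with a p-basis (x_i), meaning that the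
monomials ∏ x_i^(e i) with every exponent e i < p form a basis of R as a module over itself through
the Frobenius, i.e. the map sending a finitely supported family of coefficients c to ∑_e (c e)^p · ∏
x_i^(e i) is a bijection onto R. Then the canonical ring map from R to its perfect closure is
faithfully flat. -/
theorem result (p : ℕ) [Fact p.Prime]
    (R : Type u) [CommRing R] [CharP R p] (ι : Type u) (x : ι → R)
    (hx : Function.Bijective
      (fun c : {e : ι →₀ ℕ // ∀ i, e i < p} →₀ R =>
        c.sum (fun e r => r ^ p * e.1.prod (fun i n => x i ^ n)))) :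
    (PerfectClosure.of R p).FaithfullyFlat := by
  classical
  have hp : p.Prime := Fact.out
  haveI hred : IsReduced R := isReduced_of_pbasis p R ι x hx
  have hFflat : (frobenius R p).Flat := frobenius_flat p R ι x hx
  have hNflat : ∀ N : ℕ, (iterateFrobenius R p N).Flat := by
    intro N
    induction N with
    | zero => rw [iterateFrobenius_zero]; exact RingHom.Flat.id R
    | succ N ih =>
      rw [add_comm, iterateFrobenius_add, iterateFrobenius_one]
      exact RingHom.Flat.comp ih hFflat
  have hofinj : Function.Injective (PerfectClosure.of R p) := of_injective p R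
  have hflat : (PerfectClosure.of R p).Flat := by
    apply flat_of_trivial
    intro l f z h
    choose Ni yi hNy using fun i => exists_pow_eq_of p R (z i)
    set N : ℕ := ∑ i, Ni i with hN
    have hle : ∀ i, Ni i ≤ N := fun i => Finset.single_le_sum (fun _ _ => Nat.zero_le _) (Finset.mem_univ i)
    set y' : Fin l → R := fun i => yi i ^ p ^ (N - Ni i) with hy'
    have hz : ∀ i, z i ^ p ^ N = PerfectClosure.of R p (y' i) := by
      intro i
      have := pow_add_eq_of p R (hNy i) (N - Ni i)
      rwa [Nat.add_sub_cancel' (hle i)] at this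
    have h1 : ∑ i, iterateFrobenius R p N (f i) * y' i = 0 := by
      apply hofinj
      rw [map_sum, map_zero]
      have h2 := congrArg (iterateFrobenius (PerfectClosure R p) p N) h
      rw [map_sum, map_zero] at h2
      rw [← h2]
      refine Finset.sum_congr rfl (fun i _ => ?_)
      rw [map_mul, map_mul, iterateFrobenius_def, iterateFrobenius_def, iterateFrobenius_def,
        hz i, map_pow]
    obtain ⟨k, a, w, hw1, hw2⟩ := trivial_of_flat (iterateFrobenius R p N) (hNflat N) f y' h1
    have hsurj := (bijective_iterateFrobenius (PerfectClosure R p) p N).2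
    choose v hv using fun j => hsurj (PerfectClosure.of R p (w j))
    refine ⟨k, a, v, fun i => ?_, hw2⟩
    apply (bijective_iterateFrobenius (PerfectClosure R p) p N).1
    rw [map_sum, iterateFrobenius_def, hz i, hw1 i, map_sum]
    refine Finset.sum_congr rfl (fun j _ => ?_)
    rw [map_mul, map_mul, hv j, iterateFrobenius_def, iterateFrobenius_def, map_pow]
  apply faithfullyFlat_of _ hflat
  intro m hm htop
  -- every element of the extended ideal has a p-power in the image of m
  have key : ∀ z ∈ m.map (PerfectClosure.of R p),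
      ∃ (N : ℕ) (y : R), y ∈ m ∧ z ^ p ^ N = PerfectClosure.of R p y := by
    intro z hz
    unfold Ideal.map at hz
    induction hz using Submodule.span_induction with
    | mem z hz =>
      obtain ⟨r, hr, rfl⟩ := hz
      exact ⟨0, r, hr, by simp⟩
    | zero => exact ⟨0, 0, m.zero_mem, by simp⟩
    | add a b _ _ ha hb =>
      obtain ⟨N₁, y₁, hy₁, h₁⟩ := ha
      obtain ⟨N₂, y₂, hy₂, h₂⟩ := hb
      refine ⟨N₁ + N₂, y₁ ^ p ^ N₂ + y₂ ^ p ^ N₁,
        m.add_mem (m.pow_mem_of_mem hy₁ _ (pow_pos hp.pos _)) (m.pow_mem_of_mem hy₂ _ (pow_pos hp.pos _)), ?_⟩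
      have e1 := pow_add_eq_of p R h₁ N₂
      have e2 := pow_add_eq_of p R h₂ N₁
      rw [add_comm N₂ N₁] at e2
      rw [← iterateFrobenius_def, map_add, iterateFrobenius_def, iterateFrobenius_def, e1, e2, map_add]
    | smul c a _ ha =>
      obtain ⟨N₁, y₁, hy₁, h₁⟩ := ha
      obtain ⟨N₂, y₂, h₂⟩ := exists_pow_eq_of p R c
      refine ⟨N₁ + N₂, y₂ ^ p ^ N₁ * y₁ ^ p ^ N₂,
        m.mul_mem_left _ (m.pow_mem_of_mem hy₁ _ (pow_pos hp.pos _)), ?_⟩
      have e1 := pow_add_eq_of p R h₁ N₂
      have e2 := pow_add_eq_of p R h₂ N₁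
      rw [add_comm N₂ N₁] at e2
      rw [smul_eq_mul, mul_pow, e1, e2, map_mul]
  obtain ⟨N, y, hy, h1⟩ := key 1 (by rw [htop]; trivial)
  rw [one_pow, ← map_one (PerfectClosure.of R p)] at h1
  have h2 : (1 : R) = y := hofinj h1
  exact hm.ne_top ((Ideal.eq_top_iff_one m).2 (h2 ▸ hy))

end Groth.Agent.S16421
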