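import Groth.Statements.S16430
import Mathlib
import Groth.Agent.H22.MonogenicLift

set_option linter.style.haveILetI false

set_option autoImplicit false
universe u
open Hensel

namespace Groth.Agent.S16430

/-- For a Noetherian local ring A with residue field k and a finite separable field extension l of k,
there is a local ring E, finite and etale over A with local structure map, whose residue field is
k-isomorphic to l. -/
theorem result (A : Type u)
    [CommRing A] [IsLocalRing A] [IsNoetherianRing A] (l : Type u) [Field l]
    [Algebra (IsLocalRing.ResidueField A) l] [FiniteDimensional (IsLocalRing.ResidueField A) l]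
    [Algebra.IsSeparable (IsLocalRing.ResidueField A) l] :
    ∃ (E : Type u) (_ : CommRing E) (_ : IsLocalRing E) (_ : Algebra A E)
      (_ : IsLocalHom (algebraMap A E)),
      Module.Finite A E ∧ Algebra.Etale A E ∧
        Nonempty (IsLocalRing.ResidueField E ≃ₐ[IsLocalRing.ResidueField A] l) := by
  classical
  obtain ⟨α, hα⟩ := Field.exists_primitive_element (IsLocalRing.ResidueField A) l
  have hint : IsIntegral (IsLocalRing.ResidueField A) α := Algebra.IsIntegral.isIntegral α
  have hmonic0 := minpoly.monic hint
  obtain ⟨f, hf, -, hmonic⟩ := Polynomial.lifts_and_natDegree_eq_and_monic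
    (Polynomial.mem_lifts_of_surjective (f := IsLocalRing.residue A)
      IsLocalRing.residue_surjective _) hmonic0
  have hmax := Groth.Agent.H22.MonogenicLift.isMaximal_map α f hf hint hα
  haveI hloc : IsLocalRing (AdjoinRoot f) :=
    Groth.Agent.H22.MonogenicLift.isLocalRing α f hf hint hα hmonic
  haveI hlh : IsLocalHom (algebraMap A (AdjoinRoot f)) :=
    Groth.Agent.H22.MonogenicLift.isLocalHom α f hf hint hα
  haveI : Module.Finite A (AdjoinRoot f) := hmonic.finite_adjoinRoot
  haveI : Module.Free A (AdjoinRoot f) := hmonic.free_adjoinRoot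
  have hmE : (IsLocalRing.maximalIdeal A).map (algebraMap A (AdjoinRoot f)) =
      IsLocalRing.maximalIdeal (AdjoinRoot f) := IsLocalRing.eq_maximalIdeal hmax
  have hker : IsLocalRing.maximalIdeal (AdjoinRoot f) =
      RingHom.ker (Groth.Agent.H22.MonogenicLift.phi α f hf) := by
    rw [Groth.Agent.H22.MonogenicLift.ker_phi, hmE]
  have hsurj := Groth.Agent.H22.MonogenicLift.phi_surjective α f hf hint hα
  let e₀ : IsLocalRing.ResidueField (AdjoinRoot f) ≃+* l :=
    (Ideal.quotEquivOfEq hker).trans (RingHom.quotientKerEquivOfSurjective hsurj)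
  have he₀ : ∀ y : AdjoinRoot f, e₀ (IsLocalRing.residue _ y) =
      Groth.Agent.H22.MonogenicLift.phi α f hf y := fun y => rfl
  let e : IsLocalRing.ResidueField (AdjoinRoot f) ≃ₐ[IsLocalRing.ResidueField A] l :=
    AlgEquiv.ofRingEquiv (f := e₀) (by
      intro x
      obtain ⟨a, rfl⟩ := IsLocalRing.residue_surjective x
      have h1 : algebraMap (IsLocalRing.ResidueField A) (IsLocalRing.ResidueField (AdjoinRoot f))
          (IsLocalRing.residue A a) = IsLocalRing.residue _ (algebraMap A (AdjoinRoot f) a) := rfl
      rw [h1, he₀, Groth.Agent.H22.MonogenicLift.phi_algebraMap])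
  haveI : Algebra.IsSeparable (IsLocalRing.ResidueField A)
      (IsLocalRing.ResidueField (AdjoinRoot f)) :=
    Algebra.IsSeparable.of_algHom _ l e.toAlgHom
  haveI : Algebra.FormallyUnramified A (AdjoinRoot f) :=
    Algebra.FormallyUnramified.of_map_maximalIdeal hmE
  haveI : Algebra.Etale A (AdjoinRoot f) := Algebra.Etale.of_formallyUnramified_of_flat
  exact ⟨AdjoinRoot f, inferInstance, hloc, inferInstance, hlh, inferInstance, inferInstance, ⟨e⟩⟩

end Groth.Agent.S16430
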