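import Groth.Statements.S16442
import Mathlib
import Groth.Agent.H47.HensNoeth2

set_option autoImplicit false
universe u
open EGA4loc

namespace Groth.Agent.S16442



/-- Let A be a reduced local ring with finitely many minimal prime ideals, S a strict henselization of
A, and D an A-subalgebra of S which is a local ring dominated by S (local inclusion) and essentially
of finite type over A. Then D is contained in some A-subalgebra E of S which is a local ring and an
essentially etale local A-algebra. -/
theorem result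
    (A S : Type u) [CommRing A] [IsLocalRing A] [IsReduced A] (hmin : (minimalPrimes A).Finite)
    [CommRing S] [IsLocalRing S] [Algebra A S] [IsLocalHom (algebraMap A S)]
    [Hensel.IsStrictHenselization A S] (D : Subalgebra A S) [IsLocalRing D]
    [IsLocalHom (algebraMap D S)] [Algebra.EssFiniteType A D] :
    ∃ E : Subalgebra A S, D ≤ E ∧ ∃ _ : IsLocalRing E, EGA4loc.IsEssentiallyEtale A E := by
  classical
  have hI := Groth.Agent.H47.HensNoeth.isIndEtaleLocal_of_isStrictHenselization A S
  haveI : Module.Flat A S := hI.flat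
  obtain ⟨σ, hσ⟩ := (Algebra.essFiniteType_iff A D).mp (inferInstance : Algebra.EssFiniteType A D)
  obtain ⟨C, _, _, hC, φ, hφ⟩ := hI.rep (σ.image (Subtype.val))
  let Q : Ideal C := (IsLocalRing.maximalIdeal S).comap φ.toRingHom
  haveI hQ : Q.IsPrime := Ideal.comap_isPrime _ _
  have hQmem : ∀ c : C, c ∈ Q → ¬ IsUnit (φ c) := fun c h =>
    (IsLocalRing.mem_maximalIdeal _).mp h
  have hunit : ∀ y : Q.primeCompl, IsUnit (φ y) := fun y => by
    by_contra h
    exact y.2 ((IsLocalRing.mem_maximalIdeal _).mpr h)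
  let ĝ : Localization.AtPrime Q →ₐ[A] S :=
    IsLocalization.liftAlgHom (M := Q.primeCompl) (f := φ) hunit
  have hĝ : ∀ c : C, ĝ (algebraMap C _ c) = φ c := fun c => by
    show IsLocalization.liftAlgHom (M := Q.primeCompl) (f := φ) hunit _ = _
    rw [IsLocalization.liftAlgHom_apply, IsLocalization.lift_eq]
    rfl
  letI algLS : Algebra (Localization.AtPrime Q) S := ĝ.toRingHom.toAlgebra
  haveI : IsScalarTower A (Localization.AtPrime Q) S :=
    IsScalarTower.of_algebraMap_eq (fun a => (ĝ.commutes a).symm)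
  haveI : Module.Flat (Localization.AtPrime Q) S :=
    Algebra.FormallyUnramified.flat_of_restrictScalars A _ S
  haveI : IsLocalHom (algebraMap (Localization.AtPrime Q) S) := ⟨fun x hx => by
    obtain ⟨⟨a, s⟩, hxs⟩ := IsLocalization.surj Q.primeCompl x
    have hx' : IsUnit (ĝ x) := hx
    have h1 : ĝ x * φ s = φ a := by
      rw [← hĝ, ← hĝ, ← map_mul]
      exact congrArg ĝ hxs
    have h2 : IsUnit (φ a) := by
      rw [← h1]
      exact hx'.mul (hunit s)
    have h3 : a ∉ Q := fun h => hQmem a h h2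
    have h4 : IsUnit (algebraMap C (Localization.AtPrime Q) a) :=
      IsLocalization.map_units _ (⟨a, h3⟩ : Q.primeCompl)
    rw [← hxs] at h4
    exact isUnit_of_mul_isUnit_left h4⟩
  haveI : Module.FaithfullyFlat (Localization.AtPrime Q) S :=
    Module.FaithfullyFlat.of_flat_of_isLocalHom
  have hinj : Function.Injective ĝ :=
    FaithfulSMul.algebraMap_injective (Localization.AtPrime Q) S
  have hadj : ∀ x ∈ Algebra.adjoin A (σ : Set D), ∃ c : C, φ c = (x : S) := by
    intro x hx
    induction hx using Algebra.adjoin_induction with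
    | mem y hy => exact hφ _ (Finset.mem_image_of_mem _ hy)
    | algebraMap r => exact ⟨algebraMap A C r, φ.commutes r⟩
    | add x y _ _ hx hy =>
      obtain ⟨a, ha⟩ := hx
      obtain ⟨b, hb⟩ := hy
      exact ⟨a + b, by rw [map_add, ha, hb]; rfl⟩
    | mul x y _ _ hx hy =>
      obtain ⟨a, ha⟩ := hx
      obtain ⟨b, hb⟩ := hy
      exact ⟨a * b, by rw [map_mul, ha, hb]; rfl⟩
  have hDE : D ≤ ĝ.range := by
    intro d hd
    obtain ⟨t, ht, htu, hdt⟩ := hσ ⟨d, hd⟩
    obtain ⟨c, hc⟩ := hadj t ht
    obtain ⟨c', hc'⟩ := hadj _ hdt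
    have hcu : IsUnit (φ c) := by
      rw [hc]
      exact htu.map (algebraMap D S)
    have hcQ : c ∉ Q := fun h => hQmem c h hcu
    refine ⟨IsLocalization.mk' (Localization.AtPrime Q) c' (⟨c, hcQ⟩ : Q.primeCompl), ?_⟩
    have h1 : ĝ (IsLocalization.mk' (Localization.AtPrime Q) c' (⟨c, hcQ⟩ : Q.primeCompl)) *
        φ c = φ c' := by
      rw [← hĝ c, ← map_mul, IsLocalization.mk'_spec, hĝ]
    have h2 : φ c' = d * φ c := by
      rw [hc', hc]
      rfl
    exact hcu.mul_left_injective (h1.trans h2)
  let eE : Localization.AtPrime Q ≃ₐ[A] ĝ.range := AlgEquiv.ofInjective ĝ hinj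
  haveI hEloc : IsLocalRing ĝ.range := eE.toRingEquiv.isLocalRing
  refine ⟨ĝ.range, hDE, hEloc, C, inferInstance, inferInstance, Q, hQ, hC, ?_, ⟨eE.symm⟩⟩
  ext a
  show φ (algebraMap A C a) ∈ IsLocalRing.maximalIdeal S ↔ a ∈ IsLocalRing.maximalIdeal A
  rw [φ.commutes, IsLocalRing.mem_maximalIdeal, IsLocalRing.mem_maximalIdeal, mem_nonunits_iff,
    mem_nonunits_iff, isUnit_map_iff]

end Groth.Agent.S16442
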