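import Groth.Statements.S16443
import Mathlib
import Groth.Agent.S16448

set_option autoImplicit false
universe u
open EGA4loc

namespace Groth.Agent.S16443



/-- Let A be a reduced local ring with finitely many minimal prime ideals, E a local ring which is an
essentially etale local A-algebra with local structure map, K_E the total ring of fractions of E,
and L an A-subalgebra of K_E containing an inverse of the image of every non-zero-divisor of A (so L
is an intermediate ring between the total rings of fractions of A and of E). Then the preimage D of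
L in E is (the underlying set of) an A-subalgebra of E which is a local ring with local inclusion
into E — its maximal ideal lies under that of E — and L is the total ring of fractions of D in the
sense that every element of L is the image of an element of D times the inverse of the image of a
non-zero-divisor of A. -/
theorem result
    (A E : Type u) [CommRing A] [IsLocalRing A] [IsReduced A] (hmin : (minimalPrimes A).Finite)
    [CommRing E] [IsLocalRing E] [Algebra A E] [IsLocalHom (algebraMap A E)]
    (hE : EGA4loc.IsEssentiallyEtale A E) (L : Subalgebra A (FractionRing E))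
    (hL : ∀ s ∈ nonZeroDivisors A, ∃ y ∈ L, algebraMap A (FractionRing E) s * y = 1) :
    ∃ D : Subalgebra A E, (D : Set E) = (algebraMap E (FractionRing E)) ⁻¹' (L : Set (FractionRing E)) ∧
      ∃ _ : IsLocalRing D, IsLocalHom (algebraMap D E) ∧
        ∀ l ∈ L, ∃ d ∈ D, ∃ s ∈ nonZeroDivisors A, ∃ y ∈ L,
          algebraMap A (FractionRing E) s * y = 1 ∧ l = algebraMap E (FractionRing E) d * y := by
  classical
  obtain ⟨hloc, t, ht⟩ := Groth.Agent.S16448.result A E hmin hE
  let F := FractionRing E
  let K := FractionRing A
  haveI := hloc
  have hg : ∀ y : nonZeroDivisors A, IsUnit (algebraMap A F y) := by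
    intro y
    rw [IsScalarTower.algebraMap_apply A E F]
    exact IsLocalization.map_units F
      (⟨algebraMap A E y, ⟨y, y.2, rfl⟩⟩ : (nonZeroDivisors A).map (algebraMap A E))
  let φ : K →+* F := IsLocalization.lift hg
  letI : Algebra K F := φ.toAlgebra
  haveI : IsScalarTower A K F :=
    IsScalarTower.of_algebraMap_eq (fun a => (IsLocalization.lift_eq hg a).symm)
  haveI : IsArtinianRing K := Groth.Agent.S16448.isArtinianRing_fractionRing hmin
  haveI : Module.Finite K F := by
    refine ⟨⟨t, eq_top_iff.mpr (fun x _ => ?_)⟩⟩
    obtain ⟨a, ha, hax⟩ := ht x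
    have h1 : algebraMap A F a * x ∈ Submodule.span K (t : Set F) :=
      Submodule.span_le_restrictScalars A K _ hax
    obtain ⟨u, hu⟩ := IsLocalization.map_units K (⟨a, ha⟩ : nonZeroDivisors A)
    have hu' : (u : K) = algebraMap A K a := hu
    have h2 : x = (↑u⁻¹ : K) • (algebraMap A F a * x) := by
      rw [IsScalarTower.algebraMap_apply A K F, ← Algebra.smul_def, smul_smul, ← hu',
        Units.inv_mul, one_smul]
    rw [h2]; exact Submodule.smul_mem _ _ h1
  let L' : Subalgebra K F :=
    { L.toSubsemiring with
      algebraMap_mem' := fun k => by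
        obtain ⟨⟨a, s⟩, hk⟩ := IsLocalization.surj (nonZeroDivisors A) k
        obtain ⟨y, hyL, hy⟩ := hL s.1 s.2
        have h1 : algebraMap K F k * algebraMap A F s.1 = algebraMap A F a := by
          rw [IsScalarTower.algebraMap_apply A K F, IsScalarTower.algebraMap_apply A K F a,
            ← map_mul, hk]
        have h2 : algebraMap K F k = algebraMap A F a * y := by
          calc algebraMap K F k = algebraMap K F k * (algebraMap A F s.1 * y) := by
                rw [hy, mul_one]
            _ = (algebraMap K F k * algebraMap A F s.1) * y := by ring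
            _ = _ := by rw [h1]
        show algebraMap K F k ∈ L
        rw [h2]; exact L.mul_mem (L.algebraMap_mem a) hyL }
  haveI : Module.Finite K L' :=
    Module.Finite.of_injective L'.val.toLinearMap Subtype.val_injective
  haveI : IsArtinianRing L' := IsArtinianRing.of_finite K L'
  have hunit : ∀ x : F, x ∈ L → ∀ y : F, x * y = 1 → y ∈ L := by
    intro x hx y hxy
    let x' : L' := ⟨x, hx⟩
    have hnzd : x' ∈ nonZeroDivisors L' := by
      rw [mem_nonZeroDivisors_iff_left]
      intro z hz
      have h0 : x * (z : F) = 0 := congrArg Subtype.val hz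
      apply Subtype.ext
      calc (z : F) = (y * x) * z := by rw [mul_comm y x, hxy, one_mul]
        _ = y * (x * z) := by ring
        _ = 0 := by rw [h0, mul_zero]
    obtain ⟨u, hu⟩ := IsArtinianRing.isUnit_of_mem_nonZeroDivisors hnzd
    have h1 : x * ((↑u⁻¹ : L') : F) = 1 := by
      have h := congrArg Subtype.val (show x' * ↑u⁻¹ = 1 by rw [← hu, Units.mul_inv])
      exact h
    have h2 : y = ((↑u⁻¹ : L') : F) := by
      calc y = y * (x * ((↑u⁻¹ : L') : F)) := by rw [h1, mul_one]
        _ = (x * y) * ((↑u⁻¹ : L') : F) := by ring
        _ = _ := by rw [hxy, one_mul]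
    rw [h2]; exact (↑u⁻¹ : L').2
  let ι : E →ₐ[A] F := IsScalarTower.toAlgHom A E F
  let D : Subalgebra A E := L.comap ι
  have hlocal : IsLocalHom (algebraMap D E) := by
    constructor
    intro d hd
    obtain ⟨e, he⟩ := hd.exists_right_inv
    have heL : algebraMap E F e ∈ L := by
      apply hunit (algebraMap E F (d : E)) d.2
      rw [← map_mul]
      show algebraMap E F ((d : E) * e) = 1
      rw [show (d : E) * e = 1 from he, map_one]
    exact isUnit_iff_exists_inv.mpr ⟨⟨e, heL⟩, Subtype.ext he⟩
  refine ⟨D, rfl, RingHom.domain_isLocalRing (algebraMap D E), hlocal, ?_⟩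
  intro l hl
  obtain ⟨⟨e, s'⟩, hes⟩ := IsLocalization.surj ((nonZeroDivisors A).map (algebraMap A E)) l
  obtain ⟨s, hs, hss'⟩ := s'.2
  obtain ⟨y, hyL, hy⟩ := hL s hs
  have h1 : algebraMap E F e = l * algebraMap A F s := by
    rw [← hes, ← hss', IsScalarTower.algebraMap_apply A E F]
  refine ⟨e, ?_, s, hs, y, hyL, hy, ?_⟩
  · show algebraMap E F e ∈ L
    rw [h1]; exact L.mul_mem hl (L.algebraMap_mem s)
  · rw [h1]
    calc l = l * (algebraMap A F s * y) := by rw [hy, mul_one]
      _ = _ := by ring

end Groth.Agent.S16443
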