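import Groth.Statements.S16452
import Mathlib.RingTheory.Etale.Basic
import Mathlib.RingTheory.Ideal.Quotient.Operations

set_option autoImplicit false
universe u
open CAlg

namespace Groth.Agent.S16452

theorem map_bijective_of {A B : Type u} [CommRing A] [CommRing B] {φ : A →+* B}
    {𝓕 : FiltBl.IdealFiltration A} {𝓖 : FiltBl.IdealFiltration B} (h : AssocGr.IsFiltHom φ 𝓕 𝓖)
    (hinj : ∀ (n : ℕ) (a : A), a ∈ 𝓕.F n → φ a ∈ 𝓖.F (n + 1) → a ∈ 𝓕.F (n + 1))
    (hsurj : ∀ (n : ℕ) (b : B), b ∈ 𝓖.F n → ∃ a ∈ 𝓕.F n, φ a - b ∈ 𝓖.F (n + 1)) :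
    Function.Bijective (AssocGr.map h) := by
  classical
  constructor
  · rw [injective_iff_map_eq_zero]
    intro x hx
    obtain ⟨f, rfl⟩ := AssocGr.mkG_surjective 𝓕 x
    rw [AssocGr.map_mkG, AssocGr.mkG_eq_zero_iff, AssocGr.mem_succIdeal_iff] at hx
    rw [AssocGr.mkG_eq_zero_iff, AssocGr.mem_succIdeal_iff]
    intro n
    have h1 := hx n
    rw [AssocGr.coe_reesMap, Polynomial.coeff_map] at h1
    exact hinj n _ (f.2 n) h1
  · intro y
    obtain ⟨g, rfl⟩ := AssocGr.mkG_surjective 𝓖 y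
    have hlift : ∀ n : ℕ, ∃ a : A, a ∈ 𝓕.F n ∧
        φ a - (g : Polynomial B).coeff n ∈ 𝓖.F (n + 1) ∧
        ((g : Polynomial B).coeff n = 0 → a = 0) := by
      intro n
      by_cases h0 : (g : Polynomial B).coeff n = 0
      · refine ⟨0, Ideal.zero_mem _, ?_, fun _ => rfl⟩
        rw [h0, map_zero, sub_zero]
        exact Ideal.zero_mem _
      · obtain ⟨a, ha1, ha2⟩ := hsurj n _ (g.2 n)
        exact ⟨a, ha1, ha2, fun h => absurd h h0⟩
    choose a ha hmk hzero using hlift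
    let fp : Polynomial A :=
      ∑ n ∈ (g : Polynomial B).support, Polynomial.monomial n (a n)
    have hcoeff : ∀ n, fp.coeff n = a n := by
      intro n
      simp only [fp, Polynomial.finsetSum_coeff, Polynomial.coeff_monomial]
      rw [Finset.sum_ite_eq']
      split_ifs with h
      · rfl
      · rw [Polynomial.notMem_support_iff] at h
        exact (hzero n h).symm
    have hfp : fp ∈ 𝓕.rees := fun n => by
      rw [hcoeff]
      exact ha n
    refine ⟨AssocGr.mkG 𝓕 ⟨fp, hfp⟩, ?_⟩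
    rw [AssocGr.map_mkG]
    have h0 : AssocGr.mkG 𝓖 (AssocGr.reesMap h ⟨fp, hfp⟩ - g) = 0 := by
      rw [AssocGr.mkG_eq_zero_iff, AssocGr.mem_succIdeal_iff]
      intro n
      rw [Subalgebra.coe_sub, AssocGr.coe_reesMap, Polynomial.coeff_sub, Polynomial.coeff_map]
      change φ (fp.coeff n) - _ ∈ 𝓖.F (n + 1)
      rw [hcoeff]
      exact hmk n
    rw [map_sub, sub_eq_zero] at h0
    exact h0

theorem ker_pow_eq_bot {T C : Type u} [CommRing T] [CommRing C] (K : Ideal T) (n : ℕ)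
    (g : T ⧸ K ^ (n + 1) →+* C) (hg : ∀ t : T, g (Ideal.Quotient.mk _ t) = 0 → t ∈ K) :
    RingHom.ker g ^ (n + 1) = ⊥ := by
  have h1 : RingHom.ker g ≤ K.map (Ideal.Quotient.mk (K ^ (n + 1))) := by
    intro y hy
    obtain ⟨t, rfl⟩ := Ideal.Quotient.mk_surjective y
    exact Ideal.mem_map_of_mem _ (hg t (RingHom.mem_ker.1 hy))
  have h2 : K.map (Ideal.Quotient.mk (K ^ (n + 1))) ^ (n + 1) = ⊥ := by
    rw [← Ideal.map_pow, Ideal.map_quotient_self]
  have h3 := Ideal.pow_right_mono h1 (n + 1)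
  rw [h2] at h3
  exact le_bot_iff.1 h3

section Constr

variable (R : Type u) [CommRing R] (S : Type u) [CommRing S] [Algebra R S]
  (J : Ideal S) (n : ℕ)

theorem algebraMap_quot (K : Ideal S) (a : R) :
    algebraMap R (S ⧸ K) a = Ideal.Quotient.mk K (algebraMap R S a) := rfl

/-- `R/I^(n+1) → S/J` -/
noncomputable def g1 : R ⧸ (J.comap (algebraMap R S)) ^ (n + 1) →ₐ[R] S ⧸ J :=
  Ideal.Quotient.liftₐ ((J.comap (algebraMap R S)) ^ (n + 1)) (Algebra.ofId R (S ⧸ J)) (by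
    intro a ha
    have ha' : a ∈ J.comap (algebraMap R S) := Ideal.pow_le_self (Nat.succ_ne_zero n) ha
    rw [Algebra.ofId_apply, algebraMap_quot, Ideal.Quotient.eq_zero_iff_mem]
    exact ha')

theorem g1_mk (a : R) :
    g1 R S J n (Ideal.Quotient.mk _ a) = Ideal.Quotient.mk J (algebraMap R S a) :=
  (g1 R S J n).commutes a

theorem g1_ker : RingHom.ker (g1 R S J n).toRingHom ^ (n + 1) = ⊥ := by
  refine ker_pow_eq_bot _ n _ ?_
  intro t ht
  have h := g1_mk R S J n t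
  rw [Ideal.mem_comap, ← Ideal.Quotient.eq_zero_iff_mem, ← h]
  exact ht

/-- `R/I^(n+1) → S/J^(n+1)` -/
noncomputable def iota : R ⧸ (J.comap (algebraMap R S)) ^ (n + 1) →ₐ[R] S ⧸ J ^ (n + 1) :=
  Ideal.Quotient.liftₐ ((J.comap (algebraMap R S)) ^ (n + 1)) (Algebra.ofId R (S ⧸ J ^ (n + 1))) (by
    intro a ha
    rw [Algebra.ofId_apply, algebraMap_quot, Ideal.Quotient.eq_zero_iff_mem]
    have h1 : algebraMap R S a ∈ ((J.comap (algebraMap R S)) ^ (n + 1)).map (algebraMap R S) :=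
      Ideal.mem_map_of_mem _ ha
    rw [Ideal.map_pow] at h1
    exact Ideal.pow_right_mono Ideal.map_comap_le (n + 1) h1)

theorem iota_mk (a : R) :
    iota R S J n (Ideal.Quotient.mk _ a) = Ideal.Quotient.mk (J ^ (n + 1)) (algebraMap R S a) :=
  (iota R S J n).commutes a

/-- `S/J^(n+1) → S/J` -/
noncomputable def g2 : S ⧸ J ^ (n + 1) →+* S ⧸ J :=
  Ideal.Quotient.factor (Ideal.pow_le_self (Nat.succ_ne_zero n))

theorem g2_mk (s : S) : g2 S J n (Ideal.Quotient.mk _ s) = Ideal.Quotient.mk J s := rfl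

theorem g2_ker : RingHom.ker (g2 S J n) ^ (n + 1) = ⊥ := by
  refine ker_pow_eq_bot _ n _ ?_
  intro t ht
  rw [← Ideal.Quotient.eq_zero_iff_mem, ← g2_mk S J n t]
  exact ht

variable [Algebra.FormallyEtale R S] (hJ : Function.Surjective (algebraMap R (S ⧸ J)))

include hJ

theorem g1_surj : Function.Surjective (g1 R S J n) := by
  intro c
  obtain ⟨a, rfl⟩ := hJ c
  exact ⟨Ideal.Quotient.mk _ a, g1_mk R S J n a⟩

/-- the lift `S → R/I^(n+1)` -/
noncomputable def psi : S →ₐ[R] R ⧸ (J.comap (algebraMap R S)) ^ (n + 1) :=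
  Algebra.FormallySmooth.liftOfSurjective (Ideal.Quotient.mkₐ R J) (g1 R S J n)
    (g1_surj R S J n hJ) ⟨n + 1, (g1_ker R S J n).trans Ideal.zero_eq_bot.symm⟩

theorem psi_spec (s : S) : g1 R S J n (psi R S J n hJ s) = Ideal.Quotient.mk J s :=
  Algebra.FormallySmooth.liftOfSurjective_apply (Ideal.Quotient.mkₐ R J) (g1 R S J n)
    (g1_surj R S J n hJ) ⟨n + 1, (g1_ker R S J n).trans Ideal.zero_eq_bot.symm⟩ s

theorem claim_i (a : R) (ha : algebraMap R S a ∈ J ^ (n + 1)) :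
    a ∈ (J.comap (algebraMap R S)) ^ (n + 1) := by
  have hψJ : J ≤ (RingHom.ker (g1 R S J n).toRingHom).comap
      (psi R S J n hJ) := by
    intro s hs
    rw [Ideal.mem_comap, RingHom.mem_ker]
    exact (psi_spec R S J n hJ s).trans (Ideal.Quotient.eq_zero_iff_mem.2 hs)
  have hmap : (J ^ (n + 1)).map (psi R S J n hJ) ≤ ⊥ := by
    rw [Ideal.map_pow, ← g1_ker R S J n]
    exact Ideal.pow_right_mono (Ideal.map_le_iff_le_comap.2 hψJ) (n + 1)
  have h0 : psi R S J n hJ (algebraMap R S a) = 0 :=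
    (Submodule.mem_bot _).1 (hmap (Ideal.mem_map_of_mem _ ha))
  rw [AlgHom.commutes] at h0
  exact Ideal.Quotient.eq_zero_iff_mem.1 h0

theorem claim_ii (s : S) : ∃ a : R, algebraMap R S a - s ∈ J ^ (n + 1) := by
  have hqθ : Ideal.Quotient.mkₐ R (J ^ (n + 1)) = (iota R S J n).comp (psi R S J n hJ) := by
    refine Algebra.FormallyUnramified.ext' (g2 S J n)
      ⟨n + 1, (g2_ker S J n).trans Ideal.zero_eq_bot.symm⟩ _ _ ?_
    intro x
    obtain ⟨a, ha⟩ := Ideal.Quotient.mk_surjective (psi R S J n hJ x)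
    have h1 := psi_spec R S J n hJ x
    rw [← ha, g1_mk] at h1
    rw [AlgHom.comp_apply, ← ha, iota_mk, g2_mk, h1, Ideal.Quotient.mkₐ_eq_mk, g2_mk]
  obtain ⟨a, ha⟩ := Ideal.Quotient.mk_surjective (psi R S J n hJ s)
  refine ⟨a, ?_⟩
  have h := AlgHom.congr_fun hqθ s
  rw [AlgHom.comp_apply, ← ha, iota_mk, Ideal.Quotient.mkₐ_eq_mk] at h
  exact Ideal.Quotient.eq.1 h.symm

end Constr

/-- Let R → S be formally étale and J an ideal of S such that the composite R → S → S/J is surjective;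
let I ⊆ R be its kernel, the preimage of J in R. Then the homomorphism of associated graded rings ⊕ₙ
Iⁿ/Iⁿ⁺¹ → ⊕ₙ Jⁿ/Jⁿ⁺¹ induced by R → S (which carries I into J) is bijective. -/
theorem result (R : Type u) [CommRing R] (S : Type u)
    [CommRing S] [Algebra R S] [Algebra.FormallyEtale R S] (J : Ideal S)
    (hJ : Function.Surjective (algebraMap R (S ⧸ J))) :
    Function.Bijective (AssocGr.map (AssocGr.IsFiltHom.adic
      (Ideal.map_comap_le : (J.comap (algebraMap R S)).map (algebraMap R S) ≤ J))) := by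
  refine map_bijective_of _ ?_ ?_
  · intro n a _ ha
    exact claim_i R S J n hJ a ha
  · intro n b hb
    obtain ⟨a, ha⟩ := claim_ii R S J n hJ b
    refine ⟨a, ?_, ha⟩
    cases n with
    | zero =>
      change a ∈ (J.comap (algebraMap R S)) ^ 0
      rw [pow_zero, Ideal.one_eq_top]
      trivial
    | succ k =>
      refine claim_i R S J k hJ a ?_
      have e : algebraMap R S a = (algebraMap R S a - b) + b := by ring
      rw [e]
      exact Ideal.add_mem _ (Ideal.pow_le_pow_right (Nat.le_succ _) ha) hb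

end Groth.Agent.S16452
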