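import Groth.Statements.S16453
import Mathlib.Tactic

set_option autoImplicit false
universe u
open AdicGr

namespace Groth.Agent.S16453

/-- Let A be a commutative ring, I an ideal and Â the I-adic completion, filtered by the kernels Âₙ of
the projections Â → A/Iⁿ. Then the homomorphism of associated graded rings ⊕ₙ Iⁿ/Iⁿ⁺¹ → ⊕ₙ Âₙ/Âₙ₊₁
induced by the canonical map A → Â is bijective. No hypothesis on A or I is needed. (The published
statement is for an arbitrary filtered ring and also asserts the analogous isomorphism for a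
compatibly filtered module; this row is the ring assertion for the filtration by the powers of one
ideal.) -/
theorem result (A : Type u) [CommRing A] (I : Ideal A) :
    Function.Bijective (AssocGr.map (AssocGr.isFiltHom_kerFilt I)) := by
  classical
  set 𝓕 := FiltBl.IdealFiltration.adic I with h𝓕
  set 𝓖 := AssocGr.kerFilt I with h𝓖
  have hfilt : AssocGr.IsFiltHom (algebraMap A (AdicCompletion I A)) 𝓕 𝓖 := AssocGr.isFiltHom_kerFilt I
  -- the value of the structure map in the components
  have hval : ∀ (a : A) (n : ℕ), (algebraMap A (AdicCompletion I A) a).val n =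
      Ideal.Quotient.mk (I ^ n • ⊤ : Ideal A) a := fun a n => rfl
  have hmk0 : ∀ (a : A) (n : ℕ), Ideal.Quotient.mk (I ^ n • ⊤ : Ideal A) a = 0 ↔ a ∈ I ^ n := by
    intro a n
    rw [Ideal.Quotient.eq_zero_iff_mem, AssocGr.pow_smul_top]
  constructor
  · rw [injective_iff_map_eq_zero]
    intro x hx
    obtain ⟨f, rfl⟩ := AssocGr.mkG_surjective 𝓕 x
    rw [AssocGr.map_mkG, AssocGr.mkG_eq_zero_iff, AssocGr.mem_succIdeal_iff] at hx
    rw [AssocGr.mkG_eq_zero_iff, AssocGr.mem_succIdeal_iff]
    intro n
    have h1 := hx n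
    rw [AssocGr.coe_reesMap, Polynomial.coeff_map] at h1
    change _ ∈ (AssocGr.kerFilt I).F (n + 1) at h1
    rw [AssocGr.mem_kerFilt_iff_val, hval, hmk0] at h1
    exact h1
  · intro y
    obtain ⟨g, rfl⟩ := AssocGr.mkG_surjective 𝓖 y
    -- lift the coefficients
    have hlift : ∀ n : ℕ, ∃ a : A, a ∈ I ^ n ∧
        Ideal.Quotient.mk (I ^ (n + 1) • ⊤ : Ideal A) a = ((g : Polynomial (AdicCompletion I A)).coeff n).val (n + 1) ∧
        ((g : Polynomial (AdicCompletion I A)).coeff n = 0 → a = 0) := by
      intro n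
      by_cases h0 : (g : Polynomial (AdicCompletion I A)).coeff n = 0
      · refine ⟨0, Ideal.zero_mem _, ?_, fun _ => rfl⟩
        rw [h0, map_zero]; rfl
      · obtain ⟨a, ha⟩ := Ideal.Quotient.mk_surjective
          (((g : Polynomial (AdicCompletion I A)).coeff n).val (n + 1))
        refine ⟨a, ?_, ha, fun h => absurd h h0⟩
        have h1 : (g : Polynomial (AdicCompletion I A)).coeff n ∈ (AssocGr.kerFilt I).F n := g.2 n
        rw [AssocGr.mem_kerFilt_iff_val] at h1
        have h2 := AdicCompletion.transitionMap_comp_eval_apply I A (Nat.le_succ n)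
          ((g : Polynomial (AdicCompletion I A)).coeff n)
        rw [h1, ← ha, AdicCompletion.transitionMap_ideal_mk] at h2
        exact (hmk0 a n).mp h2
    choose a ha hmk hzero using hlift
    let fp : Polynomial A := ∑ n ∈ (g : Polynomial (AdicCompletion I A)).support, Polynomial.monomial n (a n)
    have hcoeff : ∀ n, fp.coeff n = a n := by
      intro n
      simp only [fp, Polynomial.finsetSum_coeff, Polynomial.coeff_monomial]
      rw [Finset.sum_ite_eq']
      split_ifs with h
      · rfl
      · rw [Polynomial.notMem_support_iff] at h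
        exact (hzero n h).symm
    have hfp : fp ∈ 𝓕.rees := fun n => by rw [hcoeff]; exact ha n
    refine ⟨AssocGr.mkG 𝓕 ⟨fp, hfp⟩, ?_⟩
    rw [AssocGr.map_mkG]
    have h0 : AssocGr.mkG 𝓖 (AssocGr.reesMap hfilt ⟨fp, hfp⟩ - g) = 0 := by
      rw [AssocGr.mkG_eq_zero_iff, AssocGr.mem_succIdeal_iff]
      intro n
      rw [Subalgebra.coe_sub, AssocGr.coe_reesMap, Polynomial.coeff_sub, Polynomial.coeff_map]
      change _ ∈ (AssocGr.kerFilt I).F (n + 1)
      rw [AssocGr.mem_kerFilt_iff_val, AdicCompletion.val_sub_apply, hval]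
      change Ideal.Quotient.mk (I ^ (n + 1) • ⊤ : Ideal A) (fp.coeff n) - _ = 0
      rw [hcoeff, hmk, sub_self]
    rw [map_sub, sub_eq_zero] at h0
    exact h0

end Groth.Agent.S16453
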