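import Groth.Statements.S16454
import Mathlib
import Groth.Agent.H2.NilpCriterion

set_option autoImplicit false
universe u
open TensorProduct
open EGA43

namespace Groth.Agent.S16454


section aux

variable {A : Type u} [CommRing A] (I : Ideal A) (M : Type u) [AddCommGroup M] [Module A M]

local notation "𝓕" => FiltBl.IdealFiltration.adic I

/-- the multiplication map `Iⁿ ⊗ M → M` -/
noncomputable def α (n : ℕ) : (↥((𝓕).F n) ⊗[A] M) →ₗ[A] M :=
  (TensorProduct.lid A M).toLinearMap ∘ₗ LinearMap.rTensor M (Submodule.subtype ((𝓕).F n))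

theorem α_tmul (n : ℕ) (a : ↥((𝓕).F n)) (m : M) : α I M n (a ⊗ₜ m) = (a : A) • m := by
  simp [α]

theorem smul_gr_eq_zero (n : ℕ) {a : A} (ha : a ∈ I) (g : ↥(AssocGr.gr 𝓕 n)) : a • g = 0 := by
  obtain ⟨b, rfl⟩ := AssocGr.inDeg_surjective 𝓕 n g
  rw [← map_smul, AssocGr.inDeg_eq_zero_iff]
  show a • (b : A) ∈ I ^ (n + 1)
  rw [pow_succ', smul_eq_mul]
  exact Ideal.mul_mem_mul ha b.2

theorem lTensor_mkQ_injective (n : ℕ) :
    Function.Injective
      (LinearMap.lTensor (↥(AssocGr.gr 𝓕 n)) (I • (⊤ : Submodule A M)).mkQ) := by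
  rw [injective_iff_map_eq_zero]
  intro u hu
  have hex := lTensor_exact (↥(AssocGr.gr 𝓕 n))
    (LinearMap.exact_subtype_mkQ (I • (⊤ : Submodule A M))) (Submodule.mkQ_surjective _)
  obtain ⟨w, rfl⟩ := (hex u).mp hu
  clear hu
  induction w using TensorProduct.induction_on with
  | zero => simp
  | tmul g y =>
    rw [LinearMap.lTensor_tmul]
    obtain ⟨y, hy⟩ := y
    show g ⊗ₜ[A] y = 0
    refine Submodule.smul_induction_on hy (fun a ha m _ => ?_) (fun y₁ y₂ h₁ h₂ => ?_)
    · rw [← TensorProduct.smul_tmul, smul_gr_eq_zero I n ha, TensorProduct.zero_tmul]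
    · rw [TensorProduct.tmul_add, h₁, h₂, add_zero]
  | add w₁ w₂ h₁ h₂ => rw [map_add, h₁, h₂, add_zero]

theorem step
    (hinj : ∀ (n k : ℕ) (a : Fin k → ↥((FiltBl.IdealFiltration.adic I).F n))
      (x : Fin k → ↥((Rees.powFilt I M).N 0)),
      (∑ i, (AssocGr.inDeg (FiltBl.IdealFiltration.adic I) n (a i) :
          AssocGr.GrRing (FiltBl.IdealFiltration.adic I)) •
        (AssocGr.inDegM (Rees.powFilt I M) 0 (x i) : AssocGr.GrMod (Rees.powFilt I M))) = 0 →
      (∑ i, (AssocGr.inDeg (FiltBl.IdealFiltration.adic I) n (a i)) ⊗ₜ[A]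
          (Submodule.Quotient.mk (x i : M)) :
        ↥(AssocGr.gr (FiltBl.IdealFiltration.adic I) n) ⊗[A] (M ⧸ (I • (⊤ : Submodule A M)))) = 0)
    (n : ℕ) (hP : Function.Injective (α I M (n + 1))) : Function.Injective (α I M n) := by
  rw [injective_iff_map_eq_zero]
  intro t ht
  obtain ⟨k, a, x, rfl⟩ := TensorProduct.exists_sum_tmul_eq t
  have hsum : ∑ i, (a i : A) • x i = 0 := by
    rw [← ht, map_sum]
    exact Finset.sum_congr rfl (fun i _ => (α_tmul I M n (a i) (x i)).symm)
  have hx0 : ∀ m : M, m ∈ (Rees.powFilt I M).N 0 := by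
    intro m
    show m ∈ I ^ 0 • (⊤ : Submodule A M)
    rw [pow_zero, Ideal.one_eq_top, Submodule.top_smul]
    trivial
  let x' : Fin k → ↥((Rees.powFilt I M).N 0) := fun i => ⟨x i, hx0 (x i)⟩
  let y : Fin k → ↥((Rees.powFilt I M).N (n + 0)) := fun i =>
    ⟨(a i : A) • (x i), (Rees.powFilt I M).pow_smul_le n 0
      (Submodule.smul_mem_smul (show (a i : A) ∈ I ^ n from (a i).2) (x' i).2)⟩
  have hy : ∑ i, y i = 0 := by
    apply Subtype.ext
    rw [Submodule.coe_sum]
    exact hsum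
  have hprem : (∑ i, (AssocGr.inDeg 𝓕 n (a i) : AssocGr.GrRing 𝓕) •
      (AssocGr.inDegM (Rees.powFilt I M) 0 (x' i) : AssocGr.GrMod (Rees.powFilt I M))) = 0 := by
    calc (∑ i, (AssocGr.inDeg 𝓕 n (a i) : AssocGr.GrRing 𝓕) •
        (AssocGr.inDegM (Rees.powFilt I M) 0 (x' i) : AssocGr.GrMod (Rees.powFilt I M)))
        = ∑ i, ((AssocGr.inDegM (Rees.powFilt I M) (n + 0) (y i) :
            ↥(AssocGr.grM (Rees.powFilt I M) (n + 0))) : AssocGr.GrMod (Rees.powFilt I M)) :=
          Finset.sum_congr rfl (fun i _ =>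
            AssocGr.inDeg_smul_inDegM (Rees.powFilt I M) n 0 (a i) (x' i))
      _ = ((∑ i, AssocGr.inDegM (Rees.powFilt I M) (n + 0) (y i) :
            ↥(AssocGr.grM (Rees.powFilt I M) (n + 0))) : AssocGr.GrMod (Rees.powFilt I M)) :=
          (AddSubmonoidClass.coe_finsetSum _ _).symm
      _ = ((AssocGr.inDegM (Rees.powFilt I M) (n + 0) (∑ i, y i) :
            ↥(AssocGr.grM (Rees.powFilt I M) (n + 0))) : AssocGr.GrMod (Rees.powFilt I M)) := by
          rw [map_sum]
      _ = 0 := by rw [hy, map_zero]; rfl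
  have hconc := hinj n k a x' hprem
  have hu : LinearMap.lTensor (↥(AssocGr.gr 𝓕 n)) (I • (⊤ : Submodule A M)).mkQ
      (LinearMap.rTensor M (AssocGr.inDeg 𝓕 n) (∑ i, a i ⊗ₜ[A] x i)) = 0 := by
    rw [map_sum, map_sum]
    simp only [LinearMap.rTensor_tmul, LinearMap.lTensor_tmul, Submodule.mkQ_apply]
    exact hconc
  have hu' := lTensor_mkQ_injective I M n (hu.trans (map_zero _).symm)
  have hex : Function.Exact (Submodule.inclusion ((𝓕).antitone (Nat.le_succ n)))
      (AssocGr.inDeg 𝓕 n) := by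
    intro b
    rw [AssocGr.inDeg_eq_zero_iff]
    constructor
    · intro hb; exact ⟨⟨b, hb⟩, rfl⟩
    · rintro ⟨c, rfl⟩; exact c.2
  obtain ⟨t', ht'⟩ := (rTensor_exact M hex (AssocGr.inDeg_surjective 𝓕 n) _).mp hu'
  have hα : ∀ s, α I M n (LinearMap.rTensor M
      (Submodule.inclusion ((𝓕).antitone (Nat.le_succ n))) s) = α I M (n + 1) s := by
    intro s
    induction s using TensorProduct.induction_on with
    | zero => simp
    | tmul c m => rw [LinearMap.rTensor_tmul, α_tmul, α_tmul]; rfl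
    | add s₁ s₂ h₁ h₂ => rw [map_add, map_add, h₁, h₂, map_add]
  have ht'0 : t' = 0 := hP (by rw [← hα, ht', ht, map_zero])
  rw [← ht', ht'0, map_zero]

end aux

/-- Let A be a commutative ring, I a nilpotent ideal of A and M an A-module, and form the associated
graded ring G = ⊕ₙ Iⁿ/Iⁿ⁺¹ and the associated graded G-module gr_I(M) = ⊕ₙ IⁿM/Iⁿ⁺¹M. Assume that
M/IM is flat over A/I and that the canonical homomorphism (M/IM) ⊗ G → gr_I(M), [x] ⊗ [a] ↦ [a·x],
is injective: degree by degree, whenever elements a_i ∈ Iⁿ and x_i ∈ M satisfy Σ_i [a_i]·[x_i] = 0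
in gr_I(M) (that is Σ a_i x_i ∈ Iⁿ⁺¹M), the element Σ_i [a_i] ⊗ [x_i] of (Iⁿ/Iⁿ⁺¹) ⊗ (M/IM) is zero.
Then M is a flat A-module. (The published lemma is stated for any finite decreasing multiplicative
filtration A = J₀ ⊇ J₁ ⊇ … ⊇ J_N₊₁ = 0 of A with M filtered by the submodules JₙM; this row is its
case Jₙ = Iⁿ.) -/
theorem result (A : Type u) [CommRing A] (I : Ideal A)
    (hI : IsNilpotent I) (M : Type u) [AddCommGroup M] [Module A M]
    (hflat : Module.Flat (A ⧸ I) (M ⧸ (I • (⊤ : Submodule A M))))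
    (hinj : ∀ (n k : ℕ) (a : Fin k → ↥((FiltBl.IdealFiltration.adic I).F n))
      (x : Fin k → ↥((Rees.powFilt I M).N 0)),
      (∑ i, (AssocGr.inDeg (FiltBl.IdealFiltration.adic I) n (a i) :
          AssocGr.GrRing (FiltBl.IdealFiltration.adic I)) •
        (AssocGr.inDegM (Rees.powFilt I M) 0 (x i) : AssocGr.GrMod (Rees.powFilt I M))) = 0 →
      (∑ i, (AssocGr.inDeg (FiltBl.IdealFiltration.adic I) n (a i)) ⊗ₜ[A]
          (Submodule.Quotient.mk (x i : M)) :
        ↥(AssocGr.gr (FiltBl.IdealFiltration.adic I) n) ⊗[A] (M ⧸ (I • (⊤ : Submodule A M)))) = 0) :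
    Module.Flat A M := by
  obtain ⟨N, hN⟩ := hI
  have hN' : I ^ (N + 1) = 0 := by rw [pow_succ, hN, zero_mul]
  have hbase : Function.Injective (α I M (N + 1)) := by
    have hsub : ∀ a : ↥((FiltBl.IdealFiltration.adic I).F (N + 1)), a = 0 := by
      intro a
      apply Subtype.ext
      have h := a.2
      change (a : A) ∈ I ^ (N + 1) at h
      rw [hN'] at h
      exact h
    have hzero : ∀ t : ↥((FiltBl.IdealFiltration.adic I).F (N + 1)) ⊗[A] M, t = 0 := by
      intro t
      induction t using TensorProduct.induction_on with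
      | zero => rfl
      | tmul a m => rw [hsub a, TensorProduct.zero_tmul]
      | add t₁ t₂ h₁ h₂ => rw [h₁, h₂, add_zero]
    intro t₁ t₂ _
    rw [hzero t₁, hzero t₂]
  have hall : ∀ d n, n + d = N + 1 → Function.Injective (α I M n) := by
    intro d
    induction d with
    | zero =>
      intro n hn
      rw [Nat.add_zero] at hn
      subst hn
      exact hbase
    | succ d ih =>
      intro n hn
      exact step I M hinj n (ih (n + 1) (by omega))
  have h1 : Function.Injective (α I M 1) := hall N 1 (by omega)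
  have h1' : Function.Injective
      (LinearMap.rTensor M (Submodule.subtype ((FiltBl.IdealFiltration.adic I).F 1))) := by
    intro s₁ s₂ h
    apply h1
    simp only [α, LinearMap.comp_apply, h]
  have key : ∀ J : Ideal A, J = (FiltBl.IdealFiltration.adic I).F 1 →
      Function.Injective (LinearMap.rTensor M (Submodule.subtype J)) := by
    rintro J rfl
    exact h1'
  have hJ : I = (FiltBl.IdealFiltration.adic I).F 1 := (pow_one I).symm
  have hflat' : Module.Flat (A ⧸ I) ((A ⧸ I) ⊗[A] M) :=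
    Module.Flat.of_linearEquiv ((TensorProduct.quotTensorEquivQuotSMul M I).extendScalarsOfSurjective
      Ideal.Quotient.mk_surjective)
  exact Groth.Agent.H2.flat_of_nilpotent_criterion I (N + 1) (hN'.trans Ideal.zero_eq_bot)
    (key I hJ)

end Groth.Agent.S16454
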