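import Groth.Statements.S16455
import Mathlib

set_option autoImplicit false
universe u
open EGA4

namespace Groth.Agent.S16455


section aux

variable {A : Type u} [CommRing A] (I : Ideal A) (M : Type u) [AddCommGroup M] [Module A M]

/-- the piece `IⁿM / I·IⁿM` -/
abbrev Piece (n : ℕ) : Type u :=
  ↥(I ^ n • (⊤ : Submodule A M)) ⧸ (I • (⊤ : Submodule A ↥(I ^ n • (⊤ : Submodule A M))))

noncomputable def inclA (n : ℕ) :
    ↥(I ^ n • (⊤ : Submodule A M)) →ₗ[A] AssocGr.GrMod (Rees.powFilt I M) where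
  toFun x := (AssocGr.inDegM (Rees.powFilt I M) n x : AssocGr.GrMod (Rees.powFilt I M))
  map_add' x y := congrArg Subtype.val ((AssocGr.inDegM (Rees.powFilt I M) n).map_add x y)
  map_smul' a x := by
    rw [RingHom.id_apply]
    exact AssocGr.coe_inDegM_smul (Rees.powFilt I M) n a x

theorem inclA_apply (n : ℕ) (x : ↥(I ^ n • (⊤ : Submodule A M))) :
    inclA I M n x = AssocGr.mkGM (Rees.powFilt I M) (AssocGr.monomM (Rees.powFilt I M) n x) := rfl

theorem smul_top_le_ker_inclA (n : ℕ) :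
    (I • (⊤ : Submodule A ↥(I ^ n • (⊤ : Submodule A M)))) ≤ LinearMap.ker (inclA I M n) := by
  rw [Submodule.smul_le]
  intro a ha z _
  rw [LinearMap.mem_ker]
  have hz : AssocGr.inDegM (Rees.powFilt I M) n (a • z) = 0 :=
    (AssocGr.inDegM_eq_zero_iff (Rees.powFilt I M) n (a • z)).mpr
      ((Rees.powFilt I M).smul_le n (Submodule.smul_mem_smul ha z.2))
  show ((AssocGr.inDegM (Rees.powFilt I M) n (a • z) :
    ↥(AssocGr.grM (Rees.powFilt I M) n)) : AssocGr.GrMod (Rees.powFilt I M)) = 0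
  rw [hz]; rfl

noncomputable def inclQ (n : ℕ) : Piece I M n →ₗ[A ⧸ I] AssocGr.GrMod (Rees.powFilt I M) :=
  (Submodule.liftQ _ (inclA I M n) (smul_top_le_ker_inclA I M n)).extendScalarsOfSurjective
    Ideal.Quotient.mk_surjective

theorem inclQ_mk (n : ℕ) (x : ↥(I ^ n • (⊤ : Submodule A M))) :
    inclQ I M n (Submodule.Quotient.mk x) =
      AssocGr.mkGM (Rees.powFilt I M) (AssocGr.monomM (Rees.powFilt I M) n x) := rfl

noncomputable def coeffA (n : ℕ) : AssocGr.ReesM (Rees.powFilt I M) →ₗ[A] Piece I M n where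
  toFun y := Submodule.Quotient.mk ⟨AssocGr.ReesM.coeff _ y n, AssocGr.ReesM.coeff_mem _ y n⟩
  map_add' y y' := by
    rw [← Submodule.Quotient.mk_add]
    congr 1
  map_smul' a y := by
    rw [RingHom.id_apply, ← Submodule.Quotient.mk_smul]
    congr 1

theorem mem_smul_top_of_mem_succ (n : ℕ) (z : ↥(I ^ n • (⊤ : Submodule A M)))
    (hz : (z : M) ∈ I ^ (n + 1) • (⊤ : Submodule A M)) :
    z ∈ (I • (⊤ : Submodule A ↥(I ^ n • (⊤ : Submodule A M)))) := by
  have h1 : (I ^ (n + 1) • (⊤ : Submodule A M)) =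
      Submodule.map (I ^ n • (⊤ : Submodule A M)).subtype (I • ⊤) := by
    rw [Submodule.map_smul'', Submodule.map_subtype_top, pow_succ', Submodule.mul_smul]
  rw [h1] at hz
  obtain ⟨z', hz', hzz'⟩ := hz
  have : z' = z := Subtype.ext hzz'
  rwa [← this]

noncomputable def coeffQA (n : ℕ) : AssocGr.GrMod (Rees.powFilt I M) →ₗ[A] Piece I M n :=
  (Submodule.liftQ ((AssocGr.succMod (Rees.powFilt I M)).restrictScalars A) (coeffA I M n) (by
    intro y hy
    rw [LinearMap.mem_ker]
    show Submodule.Quotient.mk _ = 0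
    rw [Submodule.Quotient.mk_eq_zero]
    exact mem_smul_top_of_mem_succ I M n _
      ((AssocGr.mem_succMod_iff _ y).mp ((Submodule.restrictScalars_mem A _ y).mp hy) n))) ∘ₗ
    (Submodule.Quotient.restrictScalarsEquiv A
      (AssocGr.succMod (Rees.powFilt I M))).symm.toLinearMap

theorem coeffQA_mkGM (n : ℕ) (y : AssocGr.ReesM (Rees.powFilt I M)) :
    coeffQA I M n (AssocGr.mkGM (Rees.powFilt I M) y) =
      Submodule.Quotient.mk ⟨AssocGr.ReesM.coeff _ y n, AssocGr.ReesM.coeff_mem _ y n⟩ := rfl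

noncomputable def coeffQ (n : ℕ) : AssocGr.GrMod (Rees.powFilt I M) →ₗ[A ⧸ I] Piece I M n :=
  (coeffQA I M n).extendScalarsOfSurjective Ideal.Quotient.mk_surjective

theorem coeffQ_inclQ_same (n : ℕ) (z : Piece I M n) : coeffQ I M n (inclQ I M n z) = z := by
  obtain ⟨x, rfl⟩ := Submodule.Quotient.mk_surjective _ z
  rw [inclQ_mk]
  show coeffQA I M n (AssocGr.mkGM _ _) = _
  rw [coeffQA_mkGM]
  congr 1
  apply Subtype.ext
  show AssocGr.ReesM.coeff _ (AssocGr.monomM (Rees.powFilt I M) n x) n = x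
  rw [AssocGr.ReesM.coeff_monomM, if_pos rfl]

theorem coeffQ_inclQ_ne (n m : ℕ) (h : n ≠ m) (z : Piece I M n) :
    coeffQ I M m (inclQ I M n z) = 0 := by
  obtain ⟨x, rfl⟩ := Submodule.Quotient.mk_surjective _ z
  rw [inclQ_mk]
  show coeffQA I M m (AssocGr.mkGM _ _) = _
  rw [coeffQA_mkGM]
  have : (⟨AssocGr.ReesM.coeff _ (AssocGr.monomM (Rees.powFilt I M) n x) m,
      AssocGr.ReesM.coeff_mem (Rees.powFilt I M) _ m⟩ : ↥(I ^ m • (⊤ : Submodule A M))) = 0 := by
    apply Subtype.ext
    show AssocGr.ReesM.coeff _ (AssocGr.monomM (Rees.powFilt I M) n x) m = 0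
    rw [AssocGr.ReesM.coeff_monomM, if_neg h]
  rw [this, Submodule.Quotient.mk_zero]

open DirectSum in
noncomputable def Φ : (⨁ n, Piece I M n) →ₗ[A ⧸ I] AssocGr.GrMod (Rees.powFilt I M) :=
  DirectSum.toModule (A ⧸ I) ℕ _ (fun n => inclQ I M n)

open DirectSum in
theorem coeffQ_Φ (m : ℕ) (x : ⨁ n, Piece I M n) : coeffQ I M m (Φ I M x) = x m := by
  classical
  induction x using DirectSum.induction_on with
  | zero => rw [map_zero, map_zero]; rfl
  | of n z =>
    rw [Φ, ← DirectSum.lof_eq_of (A ⧸ I), DirectSum.toModule_lof, DirectSum.lof_eq_of]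
    by_cases h : n = m
    · subst h
      rw [coeffQ_inclQ_same, DirectSum.of_eq_same]
    · rw [coeffQ_inclQ_ne I M n m h, DirectSum.of_eq_of_ne _ _ _ (Ne.symm h)]
  | add x y hx hy => rw [map_add, map_add, hx, hy]; rfl

open DirectSum in
theorem Φ_bijective : Function.Bijective (Φ I M) := by
  classical
  constructor
  · rw [injective_iff_map_eq_zero]
    intro x hx
    apply DFinsupp.ext
    intro m
    rw [← coeffQ_Φ I M m x, hx, map_zero]
    rfl
  · intro g
    obtain ⟨y, rfl⟩ := AssocGr.mkGM_surjective _ g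
    obtain ⟨s, hs⟩ : ∃ s : Finset ℕ, ∑ n ∈ s, AssocGr.termM (Rees.powFilt I M) y n = y :=
      ⟨_, AssocGr.sum_termM (Rees.powFilt I M) y⟩
    refine ⟨∑ n ∈ s, DirectSum.lof (A ⧸ I) ℕ (fun n => Piece I M n) n
      (Submodule.Quotient.mk ⟨AssocGr.ReesM.coeff _ y n, AssocGr.ReesM.coeff_mem _ y n⟩), ?_⟩
    rw [map_sum]
    conv_rhs => rw [← hs, map_sum]
    refine Finset.sum_congr rfl (fun n _ => ?_)
    rw [Φ, DirectSum.toModule_lof]
    rfl

end aux

/-- For a commutative ring A, an ideal I of A and an A-module M, the following are equivalent: every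
quotient IⁿM/Iⁿ⁺¹M (n ≥ 0) is a flat A/I-module; the associated graded module gr_I(M) = ⊕ₙ
IⁿM/Iⁿ⁺¹M, as one module over A/I, is flat. Either condition says that M is normally flat along I.
(The source defines normal flatness for a coherent module on a locally Noetherian scheme through the
second condition and notes it amounts to the first; the equivalence holds for every ring and
module.) -/
theorem result (A : Type u) [CommRing A] (I : Ideal A) (M : Type u)
    [AddCommGroup M] [Module A M] :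
    EGA4.IsNormallyFlat I M ↔ Module.Flat (A ⧸ I) (AssocGr.GrMod (Rees.powFilt I M)) := by
  constructor
  · intro h
    have hflat : ∀ n, Module.Flat (A ⧸ I) (Piece I M n) := h
    exact Module.Flat.of_linearEquiv (LinearEquiv.ofBijective (Φ I M) (Φ_bijective I M)).symm
  · intro h n
    exact Module.Flat.of_retract (inclQ I M n) (coeffQ I M n)
      (LinearMap.ext fun z => coeffQ_inclQ_same I M n z)

end Groth.Agent.S16455
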