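import Groth.Statements.S16456
import Mathlib.Tactic

set_option autoImplicit false
universe u
open AdicGr

namespace Groth.Agent.S16456

/-- Let φ : A → B be a ring homomorphism, I ⊆ A and J ⊆ B ideals with φ(I)B ⊆ J, so that φ is a
homomorphism of filtered rings for the I-adic and J-adic filtrations. Assume that A is I-adically
complete in the sense that every I-adically Cauchy sequence has a limit, that B is J-adically
separated, and that the induced homomorphism of associated graded rings ⊕ₙ Iⁿ/Iⁿ⁺¹ → ⊕ₙ Jⁿ/Jⁿ⁺¹ is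
surjective. Then φ is surjective, φ is strict (Jⁿ = φ(Iⁿ)B for all n, that is J = φ(I)B), and B is
J-adically separated and complete. (The published statement is for a homomorphism of filtered
modules over a filtered ring, with arbitrary compatible filtrations; this row is its case of a ring
homomorphism with adic filtrations.) -/
theorem result (A : Type u) [CommRing A] (B : Type u)
    [CommRing B] (φ : A →+* B) (I : Ideal A) (J : Ideal B) (hIJ : I.map φ ≤ J)
    [IsPrecomplete I A] [IsHausdorff J B]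
    (h : Function.Surjective (AssocGr.map (AssocGr.IsFiltHom.adic hIJ))) :
    Function.Surjective φ ∧ I.map φ = J ∧ IsAdicComplete J B := by
  classical
  set 𝓕 := FiltBl.IdealFiltration.adic I with h𝓕
  set 𝓖 := FiltBl.IdealFiltration.adic J with h𝓖
  have hfilt : AssocGr.IsFiltHom φ 𝓕 𝓖 := AssocGr.IsFiltHom.adic hIJ
  have hAmem : ∀ (n : ℕ) (x : A), x ∈ (I ^ n • ⊤ : Submodule A A) ↔ x ∈ I ^ n := by
    intro n x; rw [smul_eq_mul, Ideal.mul_top]
  have hBmem : ∀ (n : ℕ) (x : B), x ∈ (J ^ n • ⊤ : Submodule B B) ↔ x ∈ J ^ n := by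
    intro n x; rw [smul_eq_mul, Ideal.mul_top]
  have hφpow : ∀ (n : ℕ) (a : A), a ∈ I ^ n → φ a ∈ J ^ n := fun n a ha => hfilt n ha
  -- step 1: approximation in each degree
  have step1 : ∀ (n : ℕ) (b : B), b ∈ J ^ n → ∃ a ∈ I ^ n, b - φ a ∈ J ^ (n + 1) := by
    intro n b hb
    obtain ⟨x, hx⟩ := h (AssocGr.inDeg 𝓖 n ⟨b, hb⟩ : AssocGr.GrRing 𝓖)
    obtain ⟨f, rfl⟩ := AssocGr.mkG_surjective 𝓕 x
    rw [AssocGr.map_mkG, AssocGr.coe_inDeg] at hx
    have h0 : AssocGr.mkG 𝓖 (AssocGr.reesMap hfilt f - (AssocGr.monom 𝓖 n ⟨b, hb⟩ : 𝓖.rees)) = 0 := by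
      rw [map_sub, hx, sub_self]
    rw [AssocGr.mkG_eq_zero_iff, AssocGr.mem_succIdeal_iff] at h0
    have h1 := h0 n
    rw [Subalgebra.coe_sub, AssocGr.coe_reesMap, AssocGr.coe_coe_monom, Polynomial.coeff_sub,
      Polynomial.coeff_map, Polynomial.coeff_monomial, if_pos rfl] at h1
    refine ⟨(f : Polynomial A).coeff n, f.2 n, ?_⟩
    have : b - φ ((f : Polynomial A).coeff n) = -(φ ((f : Polynomial A).coeff n) - b) := by ring
    rw [this]
    exact Ideal.neg_mem_iff _ |>.mpr h1
  -- step 2: strict surjectivity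
  have step2 : ∀ (n : ℕ) (b : B), b ∈ J ^ n → ∃ a ∈ I ^ n, φ a = b := by
    intro n b hb
    have stepk : ∀ (k : ℕ) (s : {s : A // s ∈ I ^ n ∧ b - φ s ∈ J ^ (n + k)}),
        ∃ s' : {s : A // s ∈ I ^ n ∧ b - φ s ∈ J ^ (n + (k + 1))}, s'.1 - s.1 ∈ I ^ (n + k) := by
      intro k s
      obtain ⟨a, ha, hba⟩ := step1 (n + k) (b - φ s.1) s.2.2
      refine ⟨⟨s.1 + a, ?_, ?_⟩, ?_⟩
      · exact Ideal.add_mem _ s.2.1 (Ideal.pow_le_pow_right (Nat.le_add_right n k) ha)
      · have : b - φ (s.1 + a) = b - φ s.1 - φ a := by rw [map_add]; ring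
        rw [this]; exact hba
      · simpa using ha
    choose next hnext using stepk
    let seq : ∀ k : ℕ, {s : A // s ∈ I ^ n ∧ b - φ s ∈ J ^ (n + k)} := fun k =>
      Nat.rec ⟨0, Ideal.zero_mem _, by simpa using hb⟩ (fun k s => next k s) k
    have hseq : ∀ k, (seq (k + 1)).1 - (seq k).1 ∈ I ^ (n + k) := fun k => hnext k (seq k)
    have hcauchy : ∀ m m' : ℕ, m ≤ m' → (seq m').1 - (seq m).1 ∈ I ^ (n + m) := by
      intro m m' hmm'
      induction m', hmm' using Nat.le_induction with
      | base => simp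
      | succ m' hm' ih =>
        have h1 := hseq m'
        have h2 : (seq (m' + 1)).1 - (seq m).1 =
            ((seq (m' + 1)).1 - (seq m').1) + ((seq m').1 - (seq m).1) := by ring
        rw [h2]
        exact Ideal.add_mem _ (Ideal.pow_le_pow_right (by omega) h1) ih
    obtain ⟨L, hL⟩ := IsPrecomplete.prec' (I := I) (fun k => (seq k).1) (by
      intro m m' hmm'
      rw [SModEq.sub_mem, hAmem]
      have := hcauchy m m' hmm'
      have h3 : (seq m).1 - (seq m').1 = -((seq m').1 - (seq m).1) := by ring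
      rw [h3]
      exact (Ideal.neg_mem_iff _).mpr (Ideal.pow_le_pow_right (Nat.le_add_left m n) this))
    have hL' : ∀ k, (seq k).1 - L ∈ I ^ k := fun k => by
      have := hL k
      rwa [SModEq.sub_mem, hAmem] at this
    refine ⟨L, ?_, ?_⟩
    · have h1 : L = (seq n).1 - ((seq n).1 - L) := by ring
      rw [h1]
      exact Ideal.sub_mem _ (seq n).2.1 (hL' n)
    · have h0 : b - φ L = 0 := by
        apply IsHausdorff.haus' (I := J)
        intro k
        rw [SModEq.sub_mem, sub_zero, hBmem]
        have h1 : b - φ L = (b - φ (seq k).1) + φ ((seq k).1 - L) := by rw [map_sub]; ring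
        rw [h1]
        exact Ideal.add_mem _ (Ideal.pow_le_pow_right (Nat.le_add_left k n) (seq k).2.2)
          (hφpow k _ (hL' k))
      exact (sub_eq_zero.mp h0).symm
  refine ⟨?_, ?_, ?_⟩
  · intro b
    obtain ⟨a, _, ha⟩ := step2 0 b (by simp)
    exact ⟨a, ha⟩
  · apply le_antisymm hIJ
    intro b hb
    obtain ⟨a, ha, rfl⟩ := step2 1 b (by simpa using hb)
    exact Ideal.mem_map_of_mem φ (by simpa using ha)
  · refine { toIsHausdorff := inferInstance, toIsPrecomplete := ⟨?_⟩ }
    intro f hf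
    have hd : ∀ k, ∃ e ∈ I ^ k, φ e = f (k + 1) - f k := by
      intro k
      apply step2 k
      have := hf (Nat.le_succ k)
      rw [SModEq.sub_mem, hBmem] at this
      have h3 : f (k + 1) - f k = -(f k - f (k + 1)) := by ring
      rw [h3]
      exact (Ideal.neg_mem_iff _).mpr this
    choose e he hφe using hd
    obtain ⟨a₀, _, ha₀⟩ := step2 0 (f 0) (by simp)
    let t : ℕ → A := fun k => a₀ + ∑ i ∈ Finset.range k, e i
    have hφt : ∀ k, φ (t k) = f k := by
      intro k
      induction k with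
      | zero => simp [t, ha₀]
      | succ k ih =>
        have : t (k + 1) = t k + e k := by
          simp only [t, Finset.sum_range_succ]; ring
        rw [this, map_add, ih, hφe]; ring
    have htc : ∀ m m' : ℕ, m ≤ m' → t m' - t m ∈ I ^ m := by
      intro m m' hmm'
      induction m', hmm' using Nat.le_induction with
      | base => simp
      | succ m' hm' ih =>
        have : t (m' + 1) - t m = e m' + (t m' - t m) := by
          simp only [t, Finset.sum_range_succ]; ring
        rw [this]
        exact Ideal.add_mem _ (Ideal.pow_le_pow_right hm' (he m')) ih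
    obtain ⟨L, hL⟩ := IsPrecomplete.prec' (I := I) t (by
      intro m m' hmm'
      rw [SModEq.sub_mem, hAmem]
      have h3 : t m - t m' = -(t m' - t m) := by ring
      rw [h3]
      exact (Ideal.neg_mem_iff _).mpr (htc m m' hmm'))
    refine ⟨φ L, fun k => ?_⟩
    rw [SModEq.sub_mem, hBmem, ← hφt, ← map_sub]
    apply hφpow
    have := hL k
    rwa [SModEq.sub_mem, hAmem] at this

end Groth.Agent.S16456
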