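import Groth.Statements.S16457
import Groth.Agent.H82.AssocGrLemmas

set_option autoImplicit false
universe u
open AdicGr

namespace Groth.Agent.S16457

/-- Let A be a commutative ring and I an ideal such that every I-adically Cauchy sequence in A has a
limit; let M be an A-module with an I-filtration M = N₀ ⊇ N₁ ⊇ N₂ ⊇ … (I·Nₙ ⊆ Nₙ₊₁) which is
separated, ⋂ₙ Nₙ = 0; and let x₁, …, x_k be finitely many elements of M with x_i ∈ N_{d_i}. If the
classes of the x_i in degrees d_i generate the associated graded module gr(M) = ⊕ₙ Nₙ/Nₙ₊₁ as a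
module over the associated graded ring ⊕ₙ Iⁿ/Iⁿ⁺¹, then the x_i generate M. (The published statement
allows any complete filtered ring and also concludes that M is complete; this row takes the I-adic
filtration on A and states the generation.) -/
theorem result (A : Type u) [CommRing A] (I : Ideal A)
    [IsPrecomplete I A] (M : Type u) [AddCommGroup M] [Module A M] (F : I.Filtration M)
    (h0 : F.N 0 = ⊤) (hsep : ⨅ n, F.N n = ⊥) {k : ℕ} (d : Fin k → ℕ) (x : (i : Fin k) → ↥(F.N (d i)))
    (hgen : Submodule.span (AssocGr.GrRing (FiltBl.IdealFiltration.adic I))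
      (Set.range fun i => (AssocGr.inDegM F (d i) (x i) : AssocGr.GrMod F)) = ⊤) :
    Submodule.span A (Set.range fun i => ((x i : ↥(F.N (d i))) : M)) = ⊤ := by
  classical
  rw [eq_top_iff]
  intro y _
  have step : ∀ (n : ℕ) (s : {s : Fin k → A // y - ∑ i, s i • ((x i : ↥(F.N (d i))) : M) ∈ F.N n}),
      ∃ s' : {s : Fin k → A // y - ∑ i, s i • ((x i : ↥(F.N (d i))) : M) ∈ F.N (n + 1)},
        ∀ i, s'.1 i - s.1 i ∈ I ^ (n - d i) := by
    intro n s
    obtain ⟨a, ha, hya⟩ := H82.approx_of_span_inDegM F d x hgen n _ s.2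
    refine ⟨⟨fun i => s.1 i + a i, ?_⟩, fun i => by simpa using ha i⟩
    have : y - ∑ i, (s.1 i + a i) • ((x i : ↥(F.N (d i))) : M) =
        (y - ∑ i, s.1 i • ((x i : ↥(F.N (d i))) : M)) - ∑ i, a i • ((x i : ↥(F.N (d i))) : M) := by
      simp only [add_smul, Finset.sum_add_distrib]; abel
    rw [this]; exact hya
  choose next hnext using step
  let seq : ∀ n : ℕ, {s : Fin k → A // y - ∑ i, s i • ((x i : ↥(F.N (d i))) : M) ∈ F.N n} := fun n =>
    Nat.rec ⟨0, by rw [h0]; trivial⟩ (fun n s => next n s) n
  have hseq : ∀ n i, (seq (n + 1)).1 i - (seq n).1 i ∈ I ^ (n - d i) := fun n i => hnext n (seq n) i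
  have hcauchy : ∀ (i : Fin k) (m m' : ℕ), m ≤ m' →
      (seq (m' + d i)).1 i - (seq (m + d i)).1 i ∈ I ^ m := by
    intro i m m' hmm'
    induction m', hmm' using Nat.le_induction with
    | base => simp
    | succ m' hm' ih =>
      have h1 := hseq (m' + d i) i
      have e : m' + 1 + d i = m' + d i + 1 := by omega
      rw [e]
      have h2 : (seq (m' + d i + 1)).1 i - (seq (m + d i)).1 i =
          ((seq (m' + d i + 1)).1 i - (seq (m' + d i)).1 i) +
            ((seq (m' + d i)).1 i - (seq (m + d i)).1 i) := by ring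
      rw [h2]
      refine Ideal.add_mem _ (Ideal.pow_le_pow_right ?_ h1) ih
      omega
  have hlim : ∀ i : Fin k, ∃ L : A, ∀ n, (seq (n + d i)).1 i - L ∈ I ^ n := by
    intro i
    obtain ⟨L, hL⟩ := IsPrecomplete.prec' (I := I) (fun n => (seq (n + d i)).1 i) (by
      intro m m' hmm'
      rw [SModEq.sub_mem, smul_eq_mul, Ideal.mul_top]
      have := hcauchy i m m' hmm'
      have h3 : (seq (m + d i)).1 i - (seq (m' + d i)).1 i =
          -((seq (m' + d i)).1 i - (seq (m + d i)).1 i) := by ring
      rw [h3]; exact (Ideal.neg_mem_iff _).mpr this)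
    refine ⟨L, fun n => ?_⟩
    have := hL n
    rwa [SModEq.sub_mem, smul_eq_mul, Ideal.mul_top] at this
  choose L hL using hlim
  have hy : y - ∑ i, L i • ((x i : ↥(F.N (d i))) : M) = 0 := by
    have hmem : y - ∑ i, L i • ((x i : ↥(F.N (d i))) : M) ∈ (⨅ n, F.N n) := by
      rw [Submodule.mem_iInf]
      intro n
      have hdD : ∀ i, d i ≤ ∑ j, d j := fun i =>
        Finset.single_le_sum (fun _ _ => Nat.zero_le _) (Finset.mem_univ i)
      generalize hD : ∑ j, d j = D at hdD
      have h1 : y - ∑ i, L i • ((x i : ↥(F.N (d i))) : M) =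
          (y - ∑ i, (seq (n + D)).1 i • ((x i : ↥(F.N (d i))) : M)) +
            ∑ i, ((seq (n + D)).1 i - L i) • ((x i : ↥(F.N (d i))) : M) := by
        simp only [sub_smul, Finset.sum_sub_distrib]; abel
      rw [h1]
      refine Submodule.add_mem _ (F.antitone (Nat.le_add_right n D) (seq (n + D)).2)
        (Submodule.sum_mem _ fun i _ => ?_)
      have e : n + D = (n + D - d i) + d i := by have := hdD i; omega
      have h2 : (seq (n + D)).1 i - L i ∈ I ^ (n + D - d i) := by
        have := hL i (n + D - d i)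
        rwa [← e] at this
      have h3 := F.pow_smul_le (n + D - d i) (d i) (Submodule.smul_mem_smul h2 (x i).2)
      rw [← e] at h3
      exact F.antitone (Nat.le_add_right n D) h3
    rw [hsep] at hmem
    exact hmem
  rw [sub_eq_zero] at hy
  rw [hy]
  exact Submodule.sum_mem _ fun i _ => Submodule.smul_mem _ _ (Submodule.subset_span ⟨i, rfl⟩)

end Groth.Agent.S16457
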