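import Groth.Statements.S16458
import Groth.Agent.S16457

set_option autoImplicit false
universe u
open AdicGr

namespace Groth.Agent.S16458

/-- Let A be a commutative ring and I an ideal such that every I-adically Cauchy sequence in A has a
limit, and let M be an A-module with an I-filtration M = N₀ ⊇ N₁ ⊇ … (I·Nₙ ⊆ Nₙ₊₁) which is
separated, ⋂ₙ Nₙ = 0. If the associated graded module gr(M) = ⊕ₙ Nₙ/Nₙ₊₁ is finitely generated as a
module over the associated graded ring ⊕ₙ Iⁿ/Iⁿ⁺¹, then M is a finitely generated A-module. (The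
published statement allows any complete filtered ring and also concludes that M is complete for its
filtration; this row takes the I-adic filtration on A and states the finiteness.) -/
theorem result (A : Type u) [CommRing A] (I : Ideal A)
    [IsPrecomplete I A] (M : Type u) [AddCommGroup M] [Module A M] (F : I.Filtration M)
    (h0 : F.N 0 = ⊤) (hsep : ⨅ n, F.N n = ⊥)
    [Module.Finite (AssocGr.GrRing (FiltBl.IdealFiltration.adic I)) (AssocGr.GrMod F)] :
    Module.Finite A M := by
  classical
  obtain ⟨S, hS⟩ := (Module.Finite.fg_top :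
    (⊤ : Submodule (AssocGr.GrRing (FiltBl.IdealFiltration.adic I)) (AssocGr.GrMod F)).FG)
  choose y hy using fun ξ : AssocGr.GrMod F => AssocGr.mkGM_surjective F ξ
  let supp : AssocGr.GrMod F → Finset ℕ := fun ξ =>
    ((AssocGr.toReesM F).symm (y ξ) : PolynomialModule A M).coeff.support
  let T : Finset (Σ _ : AssocGr.GrMod F, ℕ) := S.sigma supp
  let e := T.equivFin
  let d : Fin T.card → ℕ := fun i => (e.symm i).1.2
  let x : (i : Fin T.card) → ↥(F.N (d i)) := fun i =>
    ⟨AssocGr.ReesM.coeff F (y (e.symm i).1.1) (d i), AssocGr.ReesM.coeff_mem F _ _⟩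
  have hgen : Submodule.span (AssocGr.GrRing (FiltBl.IdealFiltration.adic I))
      (Set.range fun i => (AssocGr.inDegM F (d i) (x i) : AssocGr.GrMod F)) = ⊤ := by
    rw [eq_top_iff, ← hS, Submodule.span_le]
    intro ξ hξ
    have h1 : ξ = ∑ n ∈ supp ξ, AssocGr.mkGM F (AssocGr.termM F (y ξ) n) := by
      rw [← map_sum, AssocGr.sum_termM, hy]
    rw [h1]
    refine Submodule.sum_mem _ fun n hn => Submodule.subset_span ?_
    have hmem : (⟨ξ, n⟩ : Σ _ : AssocGr.GrMod F, ℕ) ∈ T := by
      rw [Finset.mem_sigma]; exact ⟨hξ, hn⟩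
    refine ⟨e ⟨⟨ξ, n⟩, hmem⟩, ?_⟩
    have key : ∀ i : Fin T.card, (AssocGr.inDegM F (d i) (x i) : AssocGr.GrMod F) =
        AssocGr.mkGM F (AssocGr.termM F (y (e.symm i).1.1) (e.symm i).1.2) := fun i => rfl
    change (AssocGr.inDegM F (d (e ⟨⟨ξ, n⟩, hmem⟩)) (x (e ⟨⟨ξ, n⟩, hmem⟩)) : AssocGr.GrMod F) = _
    rw [key, Equiv.symm_apply_apply]
  have hspan := Groth.Agent.S16457.result A I M F h0 hsep d x hgen
  exact ⟨by rw [← hspan]; exact Submodule.fg_span (Set.finite_range _)⟩

end Groth.Agent.S16458
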