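import Groth.Statements.S16459
import Groth.Agent.H82.AssocGrLemmas

set_option autoImplicit false
universe u
open AdicGr

namespace Groth.Agent.S16459

open AssocGr Polynomial

section helpers

variable {A : Type u} [CommRing A] {I : Ideal A} {M : Type u} [AddCommGroup M] [Module A M]
  (F : I.Filtration M)

/-- relative version of helper82's `approx_of_span_inDegM`. -/
theorem approx_of_mem_span {k : ℕ} (d : Fin k → ℕ) (x : (i : Fin k) → ↥(F.N (d i)))
    (n : ℕ) (y : M) (hy : y ∈ F.N n)
    (hmem : (inDegM F n ⟨y, hy⟩ : GrMod F) ∈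
      Submodule.span (GrRing (FiltBl.IdealFiltration.adic I))
        (Set.range fun i => (inDegM F (d i) (x i) : GrMod F))) :
    ∃ a : Fin k → A, (∀ i, a i ∈ I ^ (n - d i)) ∧
      y - ∑ i, a i • ((x i : ↥(F.N (d i))) : M) ∈ F.N (n + 1) := by
  classical
  rw [Submodule.mem_span_range_iff_exists_fun] at hmem
  obtain ⟨c, hc⟩ := hmem
  choose f hf using fun i => mkG_surjective (FiltBl.IdealFiltration.adic I) (c i)
  have h1 : mkGM F (∑ i, f i • monomM F (d i) (x i)) = mkGM F (monomM F n ⟨y, hy⟩) := by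
    rw [map_sum, ← coe_inDegM, ← hc]
    refine Finset.sum_congr rfl fun i _ => ?_
    rw [← hf i, coe_inDegM, mkG_smul_mkGM]
  have h2 : mkGM F (monomM F n ⟨y, hy⟩ - ∑ i, f i • monomM F (d i) (x i)) = 0 := by
    rw [map_sub, h1, sub_self]
  rw [mkGM_eq_zero_iff, mem_succMod_iff] at h2
  have h3 := h2 n
  rw [← ReesM.coeffHom_apply, map_sub, map_sum] at h3
  simp only [ReesM.coeffHom_apply, ReesM.coeff_monomM, Groth.Agent.H82.coeff_smul_monomM] at h3
  refine ⟨fun i => if d i ≤ n then
      ((f i : ↥(FiltBl.IdealFiltration.adic I).rees) : A[X]).coeff (n - d i) else 0,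
    fun i => ?_, ?_⟩
  · simp only
    split_ifs with h
    · exact (f i).2 (n - d i)
    · exact Ideal.zero_mem _
  · have h4 : ∑ i, (fun i => if d i ≤ n then
          ((f i : ↥(FiltBl.IdealFiltration.adic I).rees) : A[X]).coeff (n - d i) else 0) i •
          ((x i : ↥(F.N (d i))) : M) =
        ∑ i, (if d i ≤ n then
          ((f i : ↥(FiltBl.IdealFiltration.adic I).rees) : A[X]).coeff (n - d i) •
          ((x i : ↥(F.N (d i))) : M) else 0) := by
      refine Finset.sum_congr rfl fun i _ => ?_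
      by_cases h : d i ≤ n
      · simp only [if_pos h]
      · simp only [if_neg h, zero_smul]
    rw [h4]
    simpa using h3

/-- relative version of helper82's S16457. -/
theorem le_span_of_forall_mem_span [IsPrecomplete I A] (h0 : F.N 0 = ⊤) (hsep : ⨅ n, F.N n = ⊥)
    (P : Submodule A M) {k : ℕ} (d : Fin k → ℕ) (x : (i : Fin k) → ↥(F.N (d i)))
    (hxP : ∀ i, ((x i : ↥(F.N (d i))) : M) ∈ P)
    (hP : ∀ (n : ℕ) (y : M) (hy : y ∈ F.N n), y ∈ P →
      (inDegM F n ⟨y, hy⟩ : GrMod F) ∈
        Submodule.span (GrRing (FiltBl.IdealFiltration.adic I))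
          (Set.range fun i => (inDegM F (d i) (x i) : GrMod F))) :
    P ≤ Submodule.span A (Set.range fun i => ((x i : ↥(F.N (d i))) : M)) := by
  classical
  intro y hyP
  have hP' : ∀ s : Fin k → A, y - ∑ i, s i • ((x i : ↥(F.N (d i))) : M) ∈ P := fun s =>
    P.sub_mem hyP (P.sum_mem fun i _ => P.smul_mem _ (hxP i))
  have step : ∀ (n : ℕ) (s : {s : Fin k → A // y - ∑ i, s i • ((x i : ↥(F.N (d i))) : M) ∈ F.N n}),
      ∃ s' : {s : Fin k → A // y - ∑ i, s i • ((x i : ↥(F.N (d i))) : M) ∈ F.N (n + 1)},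
        ∀ i, s'.1 i - s.1 i ∈ I ^ (n - d i) := by
    intro n s
    obtain ⟨a, ha, hya⟩ := approx_of_mem_span F d x n _ s.2 (hP n _ s.2 (hP' s.1))
    refine ⟨⟨fun i => s.1 i + a i, ?_⟩, fun i => by simpa using ha i⟩
    have : y - ∑ i, (s.1 i + a i) • ((x i : ↥(F.N (d i))) : M) =
        (y - ∑ i, s.1 i • ((x i : ↥(F.N (d i))) : M)) - ∑ i, a i • ((x i : ↥(F.N (d i))) : M) := by
      simp only [add_smul, Finset.sum_add_distrib]; abel
    rw [this]; exact hya
  choose next hnext using step
  let seq : ∀ n : ℕ, {s : Fin k → A // y - ∑ i, s i • ((x i : ↥(F.N (d i))) : M) ∈ F.N n} := fun n =>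
    Nat.rec ⟨0, by rw [h0]; trivial⟩ (fun n s => next n s) n
  have hseq : ∀ n i, (seq (n + 1)).1 i - (seq n).1 i ∈ I ^ (n - d i) := fun n i => hnext n (seq n) i
  have hcauchy : ∀ (i : Fin k) (m m' : ℕ), m ≤ m' →
      (seq (m' + d i)).1 i - (seq (m + d i)).1 i ∈ I ^ m := by
    intro i m m' hmm'
    induction m', hmm' using Nat.le_induction with
    | base => simp
    | succ m' hm' ih =>
      have h1 := hseq (m' + d i) i
      have e : m' + 1 + d i = m' + d i + 1 := by omega
      rw [e]
      have h2 : (seq (m' + d i + 1)).1 i - (seq (m + d i)).1 i =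
          ((seq (m' + d i + 1)).1 i - (seq (m' + d i)).1 i) +
            ((seq (m' + d i)).1 i - (seq (m + d i)).1 i) := by ring
      rw [h2]
      refine Ideal.add_mem _ (Ideal.pow_le_pow_right ?_ h1) ih
      omega
  have hlim : ∀ i : Fin k, ∃ L : A, ∀ n, (seq (n + d i)).1 i - L ∈ I ^ n := by
    intro i
    obtain ⟨L, hL⟩ := IsPrecomplete.prec' (I := I) (fun n => (seq (n + d i)).1 i) (by
      intro m m' hmm'
      rw [SModEq.sub_mem, smul_eq_mul, Ideal.mul_top]
      have := hcauchy i m m' hmm'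
      have h3 : (seq (m + d i)).1 i - (seq (m' + d i)).1 i =
          -((seq (m' + d i)).1 i - (seq (m + d i)).1 i) := by ring
      rw [h3]; exact (Ideal.neg_mem_iff _).mpr this)
    refine ⟨L, fun n => ?_⟩
    have := hL n
    rwa [SModEq.sub_mem, smul_eq_mul, Ideal.mul_top] at this
  choose L hL using hlim
  have hy : y - ∑ i, L i • ((x i : ↥(F.N (d i))) : M) = 0 := by
    have hmem : y - ∑ i, L i • ((x i : ↥(F.N (d i))) : M) ∈ (⨅ n, F.N n) := by
      rw [Submodule.mem_iInf]
      intro n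
      have hdD : ∀ i, d i ≤ ∑ j, d j := fun i =>
        Finset.single_le_sum (fun _ _ => Nat.zero_le _) (Finset.mem_univ i)
      generalize hD : ∑ j, d j = D at hdD
      have h1 : y - ∑ i, L i • ((x i : ↥(F.N (d i))) : M) =
          (y - ∑ i, (seq (n + D)).1 i • ((x i : ↥(F.N (d i))) : M)) +
            ∑ i, ((seq (n + D)).1 i - L i) • ((x i : ↥(F.N (d i))) : M) := by
        simp only [sub_smul, Finset.sum_sub_distrib]; abel
      rw [h1]
      refine Submodule.add_mem _ (F.antitone (Nat.le_add_right n D) (seq (n + D)).2)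
        (Submodule.sum_mem _ fun i _ => ?_)
      have e : n + D = (n + D - d i) + d i := by have := hdD i; omega
      have h2 : (seq (n + D)).1 i - L i ∈ I ^ (n + D - d i) := by
        have := hL i (n + D - d i)
        rwa [← e] at this
      have h3 := F.pow_smul_le (n + D - d i) (d i) (Submodule.smul_mem_smul h2 (x i).2)
      rw [← e] at h3
      exact F.antitone (Nat.le_add_right n D) h3
    rw [hsep] at hmem
    exact hmem
  rw [sub_eq_zero] at hy
  rw [hy]
  exact Submodule.sum_mem _ fun i _ => Submodule.smul_mem _ _ (Submodule.subset_span ⟨i, rfl⟩)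

end helpers


/-- Let A be a commutative ring and I an ideal such that every I-adically Cauchy sequence in A has a
limit, and let M be an A-module with an I-filtration M = N₀ ⊇ N₁ ⊇ … (I·Nₙ ⊆ Nₙ₊₁) which is
separated, ⋂ₙ Nₙ = 0. If the associated graded module gr(M) = ⊕ₙ Nₙ/Nₙ₊₁ is a Noetherian module over
the associated graded ring ⊕ₙ Iⁿ/Iⁿ⁺¹, then M is a Noetherian A-module and every submodule M' of M
is closed for the topology defined by the filtration, that is ⋂ₙ (M' + Nₙ) = M'. (The published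
statement allows any complete filtered ring; this row takes the I-adic filtration on A.) -/
theorem result (A : Type u) [CommRing A]
    (I : Ideal A) [IsPrecomplete I A] (M : Type u) [AddCommGroup M] [Module A M] (F : I.Filtration M)
    (h0 : F.N 0 = ⊤) (hsep : ⨅ n, F.N n = ⊥)
    [IsNoetherian (AssocGr.GrRing (FiltBl.IdealFiltration.adic I)) (AssocGr.GrMod F)] :
    IsNoetherian A M ∧ ∀ M' : Submodule A M, ⨅ n, M' ⊔ F.N n = M' := by
  classical
  have key : ∀ M' : Submodule A M, ∃ (k : ℕ) (d : Fin k → ℕ) (x : (i : Fin k) → ↥(F.N (d i))),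
      (∀ i, ((x i : ↥(F.N (d i))) : M) ∈ M') ∧
      (⨅ n, M' ⊔ F.N n) ≤ Submodule.span A (Set.range fun i => ((x i : ↥(F.N (d i))) : M)) := by
    intro M'
    let T : Set (AssocGr.GrMod F) :=
      {g | ∃ (d : ℕ) (y : ↥(F.N d)), (y : M) ∈ M' ∧ (AssocGr.inDegM F d y : AssocGr.GrMod F) = g}
    have hfg : (Submodule.span (AssocGr.GrRing (FiltBl.IdealFiltration.adic I)) T).FG :=
      IsNoetherian.noetherian _
    obtain ⟨T', hT'T, hT'⟩ := (Submodule.fg_span_iff_fg_span_finset_subset T).mp hfg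
    let e : Fin T'.card ≃ T' := T'.equivFin.symm
    choose d y hyM' hy using fun i : Fin T'.card => hT'T (e i).2
    refine ⟨T'.card, d, y, hyM', ?_⟩
    apply le_span_of_forall_mem_span F h0 hsep _ d y
      (fun i => (Submodule.mem_iInf _).mpr fun n => Submodule.mem_sup_left (hyM' i))
    intro n z hz hzP
    have hz1 := (Submodule.mem_iInf _).mp hzP (n + 1)
    obtain ⟨y', hy', w, hw, hyw⟩ := Submodule.mem_sup.mp hz1
    have hy'n : y' ∈ F.N n := by
      have h1 := (F.N n).sub_mem hz (F.antitone (Nat.le_succ n) hw)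
      rwa [← hyw, add_sub_cancel_right] at h1
    have heq : (AssocGr.inDegM F n ⟨z, hz⟩ : AssocGr.GrMod F) = AssocGr.inDegM F n ⟨y', hy'n⟩ := by
      have h1 : AssocGr.inDegM F n (⟨z, hz⟩ - ⟨y', hy'n⟩) = 0 :=
        (AssocGr.inDegM_eq_zero_iff F n _).mpr (by
          change z - y' ∈ F.N (n + 1)
          rw [← hyw, add_sub_cancel_left]
          exact hw)
      rw [map_sub, sub_eq_zero] at h1
      rw [h1]
    rw [heq]
    have h1 : (AssocGr.inDegM F n ⟨y', hy'n⟩ : AssocGr.GrMod F) ∈
        Submodule.span (AssocGr.GrRing (FiltBl.IdealFiltration.adic I)) T :=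
      Submodule.subset_span ⟨n, ⟨y', hy'n⟩, hy', rfl⟩
    rw [hT'] at h1
    refine Submodule.span_mono ?_ h1
    intro g hg
    refine ⟨e.symm ⟨g, hg⟩, ?_⟩
    simp only
    rw [hy]
    simp
  have hclosed : ∀ M' : Submodule A M, ⨅ n, M' ⊔ F.N n = M' := by
    intro M'
    obtain ⟨k, d, x, hxM', hle⟩ := key M'
    apply le_antisymm
    · exact hle.trans (Submodule.span_le.mpr (by rintro _ ⟨i, rfl⟩; exact hxM' i))
    · exact le_iInf fun n => le_sup_left
  refine ⟨?_, hclosed⟩
  rw [isNoetherian_def]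
  intro M'
  obtain ⟨k, d, x, hxM', hle⟩ := key M'
  have hM' : M' = Submodule.span A (Set.range fun i => ((x i : ↥(F.N (d i))) : M)) :=
    le_antisymm ((hclosed M').ge.trans hle)
      (Submodule.span_le.mpr (by rintro _ ⟨i, rfl⟩; exact hxM' i))
  rw [hM']
  exact Submodule.fg_span (Set.finite_range _)

end Groth.Agent.S16459
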