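import Groth.Statements.S16474
import Groth.Agent.H62.GLnWeight
import Groth.Agent.H62.TensMat
import Groth.Agent.H62.CompRed

set_option autoImplicit false
open LaurentPolynomial
open ComodTens

namespace Groth.Agent.S16474

section Helpers

open TensorProduct CoordGrp Groth.Agent.H62.TensMat Groth.Agent.H62.GLnWeight
  Groth.Agent.H62.CompRed Groth.Agent.H62.GLnRed

/-- coefficient functions of a homogeneous comodule have the same weight -/
theorem coeffMap_mem_Wt (r : ℕ) (V : Type) [AddCommGroup V] [Module ℂ V]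
    (ρ : HopfRep.Comod ℂ (GLn r ℂ) V) (h : ℤ)
    (hh : @HopfRep.eigenspace ℂ ℂ[T;T⁻¹] _ _ _ V _ _
      (GLin.comodAlong (GLn.diag r ℂ (fun _ => 1)) ρ) (T h) = ⊤)
    (φ : V →ₗ[ℂ] ℂ) (v : V) :
    @Groth.Agent.H74.Coeff.coeffMap ℂ _ (GLn r ℂ) _ _ _ V _ _ ρ φ v ∈ Wt r ℂ h := by
  letI := ρ
  have hv : v ∈ @HopfRep.eigenspace ℂ ℂ[T;T⁻¹] _ _ _ V _ _
      (GLin.comodAlong (GLn.diag r ℂ (fun _ => 1)) ρ) (T h) := by rw [hh]; trivial
  have hv' : ((GLn.diag r ℂ (fun _ => 1) : GLn r ℂ →ₗ[ℂ] ℂ[T;T⁻¹])).lTensor V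
      (Groth.Agent.H40.ρ ℂ (GLn r ℂ) V v) = v ⊗ₜ[ℂ] T h := hv
  have key : ((GLn.diag r ℂ (fun _ => 1) : GLn r ℂ →ₗ[ℂ] ℂ[T;T⁻¹])).lTensor (GLn r ℂ)
      (CoalgebraStruct.comul (R := ℂ) (Groth.Agent.H74.Coeff.coeffMap (C := GLn r ℂ) φ v)) =
      (Groth.Agent.H74.Coeff.coeffMap (C := GLn r ℂ) φ v) ⊗ₜ[ℂ] T h := by
    rw [Groth.Agent.H74.Coeff.comul_coeffMap, ComodTens.lTensor_rTensor_comm, hv',
      LinearMap.rTensor_tmul]
  exact key

theorem coeffMap_basis {k : Type} [Field k] {A : Type} [CommRing A] [Bialgebra k A]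
    {X : Type} [AddCommGroup X] [Module k X] {ι : Type} [Fintype ι] [DecidableEq ι]
    (c : HopfRep.Comod k A X) (B : Module.Basis ι k X) (m : ι → ι → A) (hB : HasMat c B m)
    (p J : ι) :
    @Groth.Agent.H74.Coeff.coeffMap k _ A _ _ _ X _ _ c (B.coord p) (B J) = m p J := by
  letI := c
  rw [Groth.Agent.H74.Coeff.coeffMap_apply]
  change Groth.Agent.H74.Coeff.contrL A (B.coord p) (c.coact (B J)) = _
  rw [hB J, map_sum, Finset.sum_eq_single p]
  · simp
  · intro I _ hI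
    simp [Finsupp.single_apply, hI]
  · intro h
    exact absurd (Finset.mem_univ p) h

end Helpers

/-- Let r ≥ 1 and let V be a finite-dimensional rational representation of the general linear group GL_r
over the complex numbers (a finite-dimensional comodule over its coordinate Hopf algebra) which is
homogeneous of some integer degree h, i.e. restricted to the scalar one-parameter subgroup t ↦ t·1
every vector of V has weight h. Then there are natural numbers a, b, c with c > 0 such that V is a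
direct summand, as a representation, of ((ℂ^r)^(⊗a))^(⊕b) ⊗ det^(-c): there are equivariant linear
maps i : V → E and p : E → V with p ∘ i the identity, where E is the direct sum of b copies of the
a-th tensor power of the standard representation on ℂ^r, twisted by the (−c)-th power of the
determinant character. -/
theorem result (r : ℕ) (hr : 0 < r)
    (V : Type) [AddCommGroup V] [Module ℂ V] [Module.Finite ℂ V] (ρ : HopfRep.Comod ℂ (CoordGrp.GLn r ℂ) V)
    (h : ℤ)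
    (hh : @HopfRep.eigenspace ℂ ℂ[T;T⁻¹] _ _ _ V _ _
      (GLin.comodAlong (CoordGrp.GLn.diag r ℂ (fun _ => 1)) ρ) (T h) = ⊤) :
    ∃ (a b c : ℕ), 0 < c ∧
      ∃ (i : V →ₗ[ℂ] (Fin b → TensorPower ℂ a (Fin r → ℂ)))
        (p : (Fin b → TensorPower ℂ a (Fin r → ℂ)) →ₗ[ℂ] V),
        p ∘ₗ i = LinearMap.id ∧
        @Hoch.IsComodHom ℂ _ (CoordGrp.GLn r ℂ) _ _ _ V _ _ ρ (Fin b → TensorPower ℂ a (Fin r → ℂ)) _ _
          (ComodTens.Comod.twist
            (ComodTens.Comod.pi fun _ : Fin b =>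
              ComodTens.Comod.tpow (GLin.comodAlong (CoordGrp.Mat.toGLn r ℂ) (ComodTens.stdVec r ℂ)) a)
            (CoordGrp.GLn.Dinv ^ c) (IsGroupLikeElem.pow ⟨CoordGrp.GLn.counit_Dinv, CoordGrp.GLn.comul_Dinv⟩)) i ∧
        @Hoch.IsComodHom ℂ _ (CoordGrp.GLn r ℂ) _ _ _ (Fin b → TensorPower ℂ a (Fin r → ℂ)) _ _
          (ComodTens.Comod.twist
            (ComodTens.Comod.pi fun _ : Fin b =>
              ComodTens.Comod.tpow (GLin.comodAlong (CoordGrp.Mat.toGLn r ℂ) (ComodTens.stdVec r ℂ)) a)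
            (CoordGrp.GLn.Dinv ^ c) (IsGroupLikeElem.pow ⟨CoordGrp.GLn.counit_Dinv, CoordGrp.GLn.comul_Dinv⟩)) V _ _ ρ p := by
  classical
  open TensorProduct CoordGrp Groth.Agent.H62.TensMat Groth.Agent.H62.GLnWeight
    Groth.Agent.H62.CompRed Groth.Agent.H62.GLnRed in
  letI instV : HopfRep.Comod ℂ (GLn r ℂ) V := ρ
  let bV := Module.finBasis ℂ V
  let F : Fin (Module.finrank ℂ V) → V →ₗ[ℂ] GLn r ℂ := fun l =>
    Groth.Agent.H74.Coeff.coeffMap (C := GLn r ℂ) (bV.coord l)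
  have hFhom : ∀ l, Hoch.IsComodHom (GLn r ℂ) (F l) := fun l =>
    Groth.Agent.H74.Coeff.isComodHom_coeffMap _
  have hFwt : ∀ l v, F l v ∈ Wt r ℂ h := fun l v => coeffMap_mem_Wt r V ρ h hh _ v
  -- choose `c` and `a`
  obtain ⟨c, hcpos, a, ha, hmem⟩ : ∃ c : ℕ, 0 < c ∧ ∃ a : ℕ, (a : ℤ) = h + r * c ∧
      ∀ l v, F l v ∈ Cd r ℂ a c := by
    choose c₀ hc₀ using fun p : Fin (Module.finrank ℂ V) × Fin (Module.finrank ℂ V) =>
      exists_mem_Cd r ℂ hr h (F p.1 (bV p.2)) (hFwt _ _)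
    obtain ⟨c00, h00⟩ := exists_mem_Cd r ℂ hr h 0 (zero_mem _)
    let c := Finset.univ.sup c₀ + c00 + 1
    obtain ⟨a, ha, -⟩ := h00 c (by omega)
    refine ⟨c, by omega, a, ha, ?_⟩
    have hbasis : ∀ l j, F l (bV j) ∈ Cd r ℂ a c := by
      intro l j
      obtain ⟨d, hd, hmem⟩ := hc₀ (l, j) c (by
        have : c₀ (l, j) ≤ Finset.univ.sup c₀ := Finset.le_sup (Finset.mem_univ _)
        omega)
      have : d = a := by
        apply Nat.cast_injective (R := ℤ)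
        rw [hd, ha]
      rwa [this] at hmem
    intro l v
    rw [← bV.sum_repr v, map_sum]
    refine Submodule.sum_mem _ fun j _ => ?_
    rw [map_smul]
    exact Submodule.smul_mem _ _ (hbasis l j)
  -- the tensor power and its matrix
  have hstd : HasMat (GLin.comodAlong (Mat.toGLn r ℂ) (ComodTens.stdVec r ℂ))
      (Pi.basisFun ℂ (Fin r)) (fun j i => (GLn.X j i : GLn r ℂ)) := by
    have := (hasMat_stdVec (k := ℂ) r).comodAlong (Mat.toGLn r ℂ)
    intro j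
    rw [this j]
    simp only [Mat.toGLn_X]
  obtain ⟨ι, i1, i2, B, m, hB, hspan⟩ := exists_hasMat_tpow
    (GLin.comodAlong (Mat.toGLn r ℂ) (ComodTens.stdVec r ℂ)) (Pi.basisFun ℂ (Fin r)) _ hstd a
  have hg : IsGroupLikeElem ℂ ((GLn.Dinv : GLn r ℂ) ^ c) :=
    IsGroupLikeElem.pow ⟨GLn.counit_Dinv, GLn.comul_Dinv⟩
  have hB' := hB.twist ((GLn.Dinv : GLn r ℂ) ^ c) hg
  -- index set
  obtain ⟨b, ⟨eqv⟩⟩ : ∃ b : ℕ, Nonempty (Fin (Module.finrank ℂ V) × ι ≃ Fin b) :=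
    ⟨_, ⟨Fintype.equivFin _⟩⟩
  refine ⟨a, b, c, hcpos, ?_⟩
  -- structures
  letI cT : HopfRep.Comod ℂ (GLn r ℂ) (TensorPower ℂ a (Fin r → ℂ)) :=
    ComodTens.Comod.twist (ComodTens.Comod.tpow
      (GLin.comodAlong (Mat.toGLn r ℂ) (ComodTens.stdVec r ℂ)) a) ((GLn.Dinv : GLn r ℂ) ^ c) hg
  letI cE : HopfRep.Comod ℂ (GLn r ℂ) (Fin b → TensorPower ℂ a (Fin r → ℂ)) :=
    ComodTens.Comod.twist (ComodTens.Comod.pi fun _ : Fin b => ComodTens.Comod.tpow
      (GLin.comodAlong (Mat.toGLn r ℂ) (ComodTens.stdVec r ℂ)) a) ((GLn.Dinv : GLn r ℂ) ^ c) hg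
  letI cN : HopfRep.Comod ℂ (GLn r ℂ) (Fin (Module.finrank ℂ V) → GLn r ℂ) :=
    ComodTens.Comod.pi fun _ : Fin (Module.finrank ℂ V) => HopfRep.Comod.regular ℂ (GLn r ℂ)
  -- row maps
  let R : ι → TensorPower ℂ a (Fin r → ℂ) →ₗ[ℂ] GLn r ℂ := fun p =>
    Groth.Agent.H74.Coeff.coeffMap (C := GLn r ℂ) (B.coord p)
  have hR : ∀ p, Hoch.IsComodHom (GLn r ℂ) (R p) := fun p =>
    Groth.Agent.H74.Coeff.isComodHom_coeffMap _
  have hRB : ∀ p J, R p (B J) = m p J * (GLn.Dinv : GLn r ℂ) ^ c := fun p J =>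
    coeffMap_basis cT B _ hB' p J
  have hproj : ∀ β : Fin b, Hoch.IsComodHom (GLn r ℂ)
      (LinearMap.proj β : (Fin b → TensorPower ℂ a (Fin r → ℂ)) →ₗ[ℂ] TensorPower ℂ a (Fin r → ℂ)) :=
    fun β => isComodHom_twist _ _ _ hg _ (isComodHom_proj (fun _ : Fin b => ComodTens.Comod.tpow
      (GLin.comodAlong (Mat.toGLn r ℂ) (ComodTens.stdVec r ℂ)) a) β)
  let Pl : Fin (Module.finrank ℂ V) → (Fin b → TensorPower ℂ a (Fin r → ℂ)) →ₗ[ℂ] GLn r ℂ :=
    fun l => ∑ p, R p ∘ₗ LinearMap.proj (eqv (l, p))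
  have hPl : ∀ l, Hoch.IsComodHom (GLn r ℂ) (Pl l) := fun l =>
    isComodHom_sum _ _ fun p => Groth.Agent.H93.isComodHom_comp (hproj _) (hR p)
  let P : (Fin b → TensorPower ℂ a (Fin r → ℂ)) →ₗ[ℂ] (Fin (Module.finrank ℂ V) → GLn r ℂ) :=
    LinearMap.pi Pl
  have hP : Hoch.IsComodHom (GLn r ℂ) P := isComodHom_pi _ cE Pl hPl
  let f : V →ₗ[ℂ] (Fin (Module.finrank ℂ V) → GLn r ℂ) := LinearMap.pi F
  have hf : Hoch.IsComodHom (GLn r ℂ) f := isComodHom_pi _ ρ F hFhom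
  have hfinj : Function.Injective f := by
    rw [← LinearMap.ker_eq_bot, LinearMap.ker_eq_bot']
    intro v hv
    apply bV.ext_elem
    intro l
    have h0 : F l v = 0 := congrFun hv l
    have h1 := Groth.Agent.H74.Coeff.counit_coeffMap (C := GLn r ℂ) (bV.coord l) v
    change CoalgebraStruct.counit (R := ℂ) (F l v) = _ at h1
    rw [h0, map_zero] at h1
    simpa using h1.symm
  -- the range condition
  have hgen : ∀ y ∈ Submodule.span ℂ (Set.range fun q : ι × ι => m q.1 q.2),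
      ∃ w : ι → TensorPower ℂ a (Fin r → ℂ), ∑ p, R p (w p) = y * (GLn.Dinv : GLn r ℂ) ^ c := by
    intro y hy
    induction hy using Submodule.span_induction with
    | mem y hy =>
      obtain ⟨⟨p, J⟩, rfl⟩ := hy
      refine ⟨Pi.single p (B J), ?_⟩
      rw [Finset.sum_eq_single p]
      · rw [Pi.single_eq_same, hRB]
      · intro p' _ hp'
        rw [Pi.single_eq_of_ne hp', map_zero]
      · intro h
        exact absurd (Finset.mem_univ p) h
    | zero => exact ⟨0, by simp⟩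
    | add y z _ _ hy hz =>
      obtain ⟨w1, h1⟩ := hy
      obtain ⟨w2, h2⟩ := hz
      exact ⟨w1 + w2, by simp only [Pi.add_apply, map_add, Finset.sum_add_distrib, h1, h2, add_mul]⟩
    | smul t y _ hy =>
      obtain ⟨w1, h1⟩ := hy
      exact ⟨t • w1, by simp only [Pi.smul_apply, map_smul, ← Finset.smul_sum, h1, smul_mul_assoc]⟩
  have hrange : LinearMap.range f ≤ LinearMap.range P := by
    rintro _ ⟨v, rfl⟩
    have hex : ∀ l, ∃ w : ι → TensorPower ℂ a (Fin r → ℂ), ∑ p, R p (w p) = F l v := by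
      intro l
      obtain ⟨y, hy, hyv⟩ := (mem_Cd r ℂ).mp (hmem l v)
      have hy' : y ∈ Submodule.span ℂ (Set.range fun q : ι × ι => m q.1 q.2) := by
        rw [hspan]
        exact hy
      obtain ⟨w, hw⟩ := hgen y hy'
      exact ⟨w, hw.trans hyv⟩
    choose w hw using hex
    refine ⟨fun β => w (eqv.symm β).1 (eqv.symm β).2, ?_⟩
    ext l
    change Pl l _ = F l v
    rw [← hw l]
    simp only [Pl, LinearMap.sum_apply, LinearMap.comp_apply, LinearMap.proj_apply,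
      Equiv.symm_apply_apply]
  -- semisimplicity
  haveI : Module.Finite ℂ (TensorPower ℂ a (Fin r → ℂ)) := Module.Finite.of_basis B
  have hss : HopfRep.IsSemisimpleComod ℂ (GLn r ℂ) (Fin b → TensorPower ℂ a (Fin r → ℂ)) :=
    isLinearlyReductive_GLn r ℂ (Fin b → TensorPower ℂ a (Fin r → ℂ)) inferInstance
  obtain ⟨i, hi, hPi⟩ := exists_lift hss hP hf hrange
  have hiinj : Function.Injective i := by
    intro x y hxy
    apply hfinj
    rw [← hPi, LinearMap.comp_apply, LinearMap.comp_apply, hxy]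
  obtain ⟨p, hp, hpi⟩ := exists_retraction hss hi hiinj
  exact ⟨i, p, hpi, hi, hp⟩

end Groth.Agent.S16474
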