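import Groth.Statements.S16478
import Groth.Agent.H80.FormalChar

set_option autoImplicit false
set_option linter.unusedSectionVars false
set_option linter.unusedVariables false
set_option linter.unusedSimpArgs false
universe u
open GaDual

namespace Groth.Agent.S16478

open Groth.Agent.H80.Lazard Groth.Agent.H80.GaSplit Groth.Agent.H80.GaChar in
lemma box_sum_eq {A : Type*} [CommRing A] (F : MvPolynomial (Fin 2) A) (q : ℕ)
    (h : ∀ i j, (q ≤ i ∨ q ≤ j) → cf F i j = 0) :
    F = ∑ i ∈ Finset.range q, ∑ j ∈ Finset.range q, MvPolynomial.monomial (mon2 i j) (cf F i j) := by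
  classical
  apply ext_cf
  intro i' j'
  rw [cf_sum]
  simp_rw [cf_sum]
  have key : ∀ i j, cf (MvPolynomial.monomial (mon2 i j) (cf F i j)) i' j' =
      if i = i' ∧ j = j' then cf F i j else 0 := by
    intro i j
    rw [cf, MvPolynomial.coeff_monomial]
    simp only [mon2_inj]
  simp_rw [key]
  by_cases hb : i' < q ∧ j' < q
  · rw [Finset.sum_eq_single i', Finset.sum_eq_single j']
    · simp
    · intro j _ hj
      rw [if_neg (fun h => hj h.2)]
    · intro hj; exact absurd (Finset.mem_range.mpr hb.2) hj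
    · intro i _ hi
      apply Finset.sum_eq_zero
      intro j _
      rw [if_neg (fun h => hi h.1)]
    · intro hi; exact absurd (Finset.mem_range.mpr hb.1) hi
  · rw [h i' j' (by omega)]
    symm
    apply Finset.sum_eq_zero
    intro i hi
    apply Finset.sum_eq_zero
    intro j hj
    rw [if_neg]
    rintro ⟨rfl, rfl⟩
    exact hb ⟨Finset.mem_range.mp hi, Finset.mem_range.mp hj⟩


/-- Let A be a commutative ring of prime characteristic p and n ≥ 1, and let φ be the comorphism of the
closed immersion α_{p^n} → G_a over A: the bialgebra map from the Hopf algebra of the additive group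
(generator t primitive) to A[x]/(x^(p^n)) (x primitive) sending t to x. Then the restriction map on
characters, from those of the additive group over A to those of α_{p^n} over A, is surjective: every
group-like element of A[x]/(x^(p^n)) is the image under φ of a group-like element of the Hopf
algebra of the additive group. -/
theorem result (p : ℕ) [Fact p.Prime] (A : Type u) [CommRing A] [CharP A p]
    (n : ℕ) (hn : 1 ≤ n) (φ : SekSuwa.A A 0 →ₐc[A] AlphaPn.A p n A) (hφ : φ SekSuwa.A.t = AlphaPn.x p n A)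
    (u : AlphaPn.A p n A) (hu : IsGroupLikeElem A u) :
    ∃ g : SekSuwa.A A 0, IsGroupLikeElem A g ∧ φ g = u := by
  classical
  have hpp := (Fact.out : p.Prime)
  have hnt : Nontrivial A := CharP.nontrivial_of_char_ne_one (R := A) hpp.ne_one
  have hq0 : 0 < p ^ n := pow_pos hpp.pos n
  -- a representative of degree < p^n
  obtain ⟨f₀, hf₀⟩ := AlphaPn.mk_surjective p n A u
  have hmonic : ((Polynomial.X : Polynomial A) ^ (p ^ n)).Monic := Polynomial.monic_X_pow _
  have hne1 : ((Polynomial.X : Polynomial A) ^ (p ^ n)) ≠ 1 := by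
    intro h
    have := congrArg Polynomial.natDegree h
    rw [Polynomial.natDegree_X_pow, Polynomial.natDegree_one] at this
    omega
  set f := f₀ %ₘ ((Polynomial.X : Polynomial A) ^ (p ^ n)) with hf
  have hfdeg : f.natDegree < p ^ n := by
    have := Polynomial.natDegree_modByMonic_lt f₀ hmonic hne1
    simpa using this
  have hfu : AlphaPn.mk p n A f = u := by
    rw [← hf₀]
    show AdjoinRoot.mk _ f = AdjoinRoot.mk _ f₀
    rw [AdjoinRoot.mk_eq_mk]
    refine ⟨-(f₀ /ₘ ((Polynomial.X : Polynomial A) ^ (p ^ n))), ?_⟩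
    have := Polynomial.modByMonic_add_div f₀ ((Polynomial.X : Polynomial A) ^ (p ^ n))
    linear_combination this
  have hux : u = Polynomial.aeval (AlphaPn.x p n A) f := by rw [AlphaPn.aeval_x, hfu]
  -- coefficient 0
  have h0 : f.coeff 0 = 1 := by
    have h1 := hu.counit_eq_one
    rw [hux, ← Bialgebra.counitAlgHom_apply, ← Polynomial.aeval_algHom_apply, Bialgebra.counitAlgHom_apply,
      AlphaPn.counit_x, ← Polynomial.coeff_zero_eq_aeval_zero] at h1
    exact h1
  -- comultiplication
  have hcomul : Coalgebra.comul (R := A) u =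
      Polynomial.aeval (AlphaPn.x p n A ⊗ₜ[A] (1 : AlphaPn.A p n A) + (1 : AlphaPn.A p n A) ⊗ₜ[A] AlphaPn.x p n A) f := by
    rw [hux, ← Bialgebra.comulAlgHom_apply, ← Polynomial.aeval_algHom_apply, Bialgebra.comulAlgHom_apply,
      AlphaPn.comul_x]
  have hl : u ⊗ₜ[A] (1 : AlphaPn.A p n A) = Polynomial.aeval (AlphaPn.x p n A ⊗ₜ[A] (1 : AlphaPn.A p n A)) f := by
    rw [hux]
    have := Polynomial.aeval_algHom_apply
      (Algebra.TensorProduct.includeLeft : AlphaPn.A p n A →ₐ[A] TensorProduct A (AlphaPn.A p n A) (AlphaPn.A p n A))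
      (AlphaPn.x p n A) f
    simpa using this.symm
  have hr : (1 : AlphaPn.A p n A) ⊗ₜ[A] u = Polynomial.aeval ((1 : AlphaPn.A p n A) ⊗ₜ[A] AlphaPn.x p n A) f := by
    rw [hux]
    have := Polynomial.aeval_algHom_apply
      (Algebra.TensorProduct.includeRight : AlphaPn.A p n A →ₐ[A] TensorProduct A (AlphaPn.A p n A) (AlphaPn.A p n A))
      (AlphaPn.x p n A) f
    simpa using this.symm
  have huu : u ⊗ₜ[A] u = Polynomial.aeval (AlphaPn.x p n A ⊗ₜ[A] (1 : AlphaPn.A p n A)) f *
      Polynomial.aeval ((1 : AlphaPn.A p n A) ⊗ₜ[A] AlphaPn.x p n A) f := by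
    rw [← hl, ← hr, Algebra.TensorProduct.tmul_mul_tmul, mul_one, one_mul]
  -- the polynomial P
  set P : MvPolynomial (Fin 2) A :=
    Polynomial.aeval (MvPolynomial.X 0 + MvPolynomial.X 1 : MvPolynomial (Fin 2) A) f -
      Polynomial.aeval (MvPolynomial.X 0 : MvPolynomial (Fin 2) A) f *
        Polynomial.aeval (MvPolynomial.X 1 : MvPolynomial (Fin 2) A) f with hP
  have hΨP : MvPolynomial.aeval ![AlphaPn.x p n A ⊗ₜ[A] (1 : AlphaPn.A p n A),
      (1 : AlphaPn.A p n A) ⊗ₜ[A] AlphaPn.x p n A] P = 0 := by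
    simp only [hP, map_sub, map_mul, ← Polynomial.aeval_algHom_apply, map_add, MvPolynomial.aeval_X,
      Matrix.cons_val_zero, Matrix.cons_val_one, Matrix.cons_val_fin_one]
    rw [← hcomul, ← huu, hu.comul_eq_tmul_self, sub_self]
  have hcfP : ∀ i j, Groth.Agent.H80.Lazard.cf P i j =
      f.coeff (i + j) * (((i + j).choose i : ℕ) : A) - f.coeff i * f.coeff j := by
    intro i j
    simp only [hP, Groth.Agent.H80.Lazard.cf_sub, Groth.Agent.H80.GaChar.cf_paeval_add,
      Groth.Agent.H80.GaChar.cf_paeval_mul]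
  have hbig : ∀ i j, (p ^ n ≤ i ∨ p ^ n ≤ j) → Groth.Agent.H80.Lazard.cf P i j = 0 := by
    intro i j h
    rw [hcfP, Polynomial.coeff_eq_zero_of_natDegree_lt (by omega : f.natDegree < i + j)]
    rcases h with h | h
    · rw [Polynomial.coeff_eq_zero_of_natDegree_lt (by omega : f.natDegree < i)]; ring
    · rw [Polynomial.coeff_eq_zero_of_natDegree_lt (by omega : f.natDegree < j)]; ring
  have hbox := box_sum_eq P (p ^ n) hbig
  -- linear independence
  have hsum : ∑ i ∈ Finset.range (p ^ n), ∑ j ∈ Finset.range (p ^ n),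
      Groth.Agent.H80.Lazard.cf P i j • ((AlphaPn.x p n A ^ i) ⊗ₜ[A] (AlphaPn.x p n A ^ j)) = 0 := by
    rw [hbox] at hΨP
    simp only [map_sum] at hΨP
    rw [← hΨP]
    apply Finset.sum_congr rfl
    intro i _
    apply Finset.sum_congr rfl
    intro j _
    have e : MvPolynomial.monomial (Groth.Agent.H80.Lazard.mon2 i j) (Groth.Agent.H80.Lazard.cf P i j) =
        MvPolynomial.C (Groth.Agent.H80.Lazard.cf P i j) *
          ((MvPolynomial.X 0 : MvPolynomial (Fin 2) A) ^ i * MvPolynomial.X 1 ^ j) := by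
      rw [Groth.Agent.H80.Lazard.X_pow_mul_X_pow2, MvPolynomial.C_mul_monomial, mul_one]
    rw [e, map_mul, MvPolynomial.aeval_C, map_mul, map_pow, map_pow, MvPolynomial.aeval_X, MvPolynomial.aeval_X]
    simp only [Matrix.cons_val_zero, Matrix.cons_val_one, Matrix.cons_val_fin_one]
    rw [Algebra.TensorProduct.tmul_pow, Algebra.TensorProduct.tmul_pow, one_pow, one_pow,
      Algebra.TensorProduct.tmul_mul_tmul, mul_one, one_mul, Algebra.smul_def]
  have hzero : ∀ i j, i < p ^ n → j < p ^ n → Groth.Agent.H80.Lazard.cf P i j = 0 := by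
    intro i j hi hj
    let b := AlphaPn.basis p n A
    let B := b.tensorProduct b
    have hB : ∑ ij : Fin (p ^ n) × Fin (p ^ n),
        Groth.Agent.H80.Lazard.cf P (ij.1 : ℕ) (ij.2 : ℕ) • B ij = 0 := by
      rw [Fintype.sum_prod_type]
      rw [Finset.sum_range] at hsum
      rw [← hsum]
      apply Finset.sum_congr rfl
      intro i' _
      rw [Finset.sum_range]
      apply Finset.sum_congr rfl
      intro j' _
      simp only [B, b, Module.Basis.tensorProduct_apply, AlphaPn.basis_apply]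
    have := Fintype.linearIndependent_iff.mp B.linearIndependent
      (fun ij => Groth.Agent.H80.Lazard.cf P (ij.1 : ℕ) (ij.2 : ℕ)) hB (⟨i, hi⟩, ⟨j, hj⟩)
    exact this
  have hrel : ∀ i j, i < p ^ n → j < p ^ n →
      f.coeff (i + j) * (((i + j).choose i : ℕ) : A) = f.coeff i * f.coeff j := by
    intro i j hi hj
    have := hzero i j hi hj
    rw [hcfP] at this
    exact sub_eq_zero.mp this
  obtain ⟨h1, h2⟩ := Groth.Agent.H80.GaChar.charCoeff p n f.coeff h0 hrel
  -- f is the product of truncated exponentials, hence a character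
  have hfPn : f = Groth.Agent.H80.GaChar.Pn p n (fun i => if i < n then f.coeff (p ^ i) else 0) := by
    have e : Groth.Agent.H80.GaChar.Pn p n (fun i => if i < n then f.coeff (p ^ i) else 0) =
        Groth.Agent.H80.GaChar.Pn p n (fun i => f.coeff (p ^ i)) := by
      rw [Groth.Agent.H80.GaChar.Pn, Groth.Agent.H80.GaChar.Pn]
      apply Finset.prod_congr rfl
      intro i hi
      rw [if_pos (Finset.mem_range.mp hi)]
    rw [e]
    ext k
    by_cases hk : k < p ^ n
    · exact h2 k hk
    · rw [Groth.Agent.H80.GaChar.Pn_coeff_ge p n _ k (by omega),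
        Polynomial.coeff_eq_zero_of_natDegree_lt (by omega)]
  have hchar : Groth.Agent.H80.GaChar.PolyChar f := by
    rw [hfPn]
    apply Groth.Agent.H80.GaChar.polyChar_prod
    intro i _
    apply Groth.Agent.H80.GaChar.polyChar_Ea
    show (if i < n then f.coeff (p ^ i) else 0) ^ p = 0
    split_ifs with h
    · exact h1 i h
    · exact zero_pow hpp.ne_zero
  -- the lift
  refine ⟨Polynomial.aeval (SekSuwa.A.t : SekSuwa.A A 0) f, ⟨?_, ?_⟩, ?_⟩
  · rw [← Bialgebra.counitAlgHom_apply, ← Polynomial.aeval_algHom_apply, Bialgebra.counitAlgHom_apply,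
      SekSuwa.A.counit_t, ← Polynomial.coeff_zero_eq_aeval_zero]
    exact h0
  · rw [← Bialgebra.comulAlgHom_apply, ← Polynomial.aeval_algHom_apply, Bialgebra.comulAlgHom_apply,
      SekSuwa.A.comul_t, zero_smul, add_zero]
    have hl' : (Polynomial.aeval (SekSuwa.A.t : SekSuwa.A A 0) f) ⊗ₜ[A] (1 : SekSuwa.A A 0) =
        Polynomial.aeval ((SekSuwa.A.t : SekSuwa.A A 0) ⊗ₜ[A] (1 : SekSuwa.A A 0)) f := by
      have := Polynomial.aeval_algHom_apply
        (Algebra.TensorProduct.includeLeft : SekSuwa.A A 0 →ₐ[A] TensorProduct A (SekSuwa.A A 0) (SekSuwa.A A 0))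
        (SekSuwa.A.t : SekSuwa.A A 0) f
      simpa using this.symm
    have hr' : (1 : SekSuwa.A A 0) ⊗ₜ[A] (Polynomial.aeval (SekSuwa.A.t : SekSuwa.A A 0) f) =
        Polynomial.aeval ((1 : SekSuwa.A A 0) ⊗ₜ[A] (SekSuwa.A.t : SekSuwa.A A 0)) f := by
      have := Polynomial.aeval_algHom_apply
        (Algebra.TensorProduct.includeRight : SekSuwa.A A 0 →ₐ[A] TensorProduct A (SekSuwa.A A 0) (SekSuwa.A A 0))
        (SekSuwa.A.t : SekSuwa.A A 0) f
      simpa using this.symm
    have hgg : (Polynomial.aeval (SekSuwa.A.t : SekSuwa.A A 0) f) ⊗ₜ[A] (Polynomial.aeval (SekSuwa.A.t : SekSuwa.A A 0) f) =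
        Polynomial.aeval ((SekSuwa.A.t : SekSuwa.A A 0) ⊗ₜ[A] (1 : SekSuwa.A A 0)) f *
          Polynomial.aeval ((1 : SekSuwa.A A 0) ⊗ₜ[A] (SekSuwa.A.t : SekSuwa.A A 0)) f := by
      rw [← hl', ← hr', Algebra.TensorProduct.tmul_mul_tmul, mul_one, one_mul]
    rw [hgg]
    have := congrArg (MvPolynomial.aeval ![(SekSuwa.A.t : SekSuwa.A A 0) ⊗ₜ[A] (1 : SekSuwa.A A 0),
      (1 : SekSuwa.A A 0) ⊗ₜ[A] (SekSuwa.A.t : SekSuwa.A A 0)]) hchar.2
    simp only [map_mul, ← Polynomial.aeval_algHom_apply, map_add, MvPolynomial.aeval_X,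
      Matrix.cons_val_zero, Matrix.cons_val_one, Matrix.cons_val_fin_one] at this
    exact this
  · rw [← Polynomial.aeval_algHom_apply, hφ, ← hux]

end Groth.Agent.S16478
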