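import Groth.Statements.S16482
-- import your own Groth.Agent.* helpers here

set_option autoImplicit false
open CategoryTheory CategoryTheory.Limits AlgebraicGeometry
universe u
open FrobSch

namespace Groth.Agent.S16482


lemma eq_of_pow_eq {R : Type u} [CommRing R] [IsReduced R] (p : ℕ) [Fact p.Prime]
    (hp : (p : R) = 0) (x y : R) (h : x ^ p = y ^ p) : x = y := by
  have h1 : (x - y) ^ p = 0 := by
    have := map_sub (powHom p R hp) x y
    simp only [powHom_apply] at this
    rw [this, h, sub_self]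
  have h2 : IsNilpotent (x - y) := ⟨p, h1⟩
  exact sub_eq_zero.mp (IsReduced.eq_zero _ h2)

/-- If `frob Y ≫ g₁ = frob Y ≫ g₂` with `Y` reduced then `g₁ = g₂`. -/
lemma eq_of_frob_comp_eq (p : ℕ) [Fact p.Prime] {Y Z : Scheme.{u}} [IsCharP Y p] [IsReduced Y]
    (g₁ g₂ : Y ⟶ Z) (h : frob Y p ≫ g₁ = frob Y p ≫ g₂) : g₁ = g₂ := by
  have hb : g₁.base = g₂.base := by
    have := congrArg (fun f => f.base) h
    simpa [Scheme.Hom.comp_base, frob_base] using this
  refine Scheme.Hom.ext hb (fun U => ?_)
  ext s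
  have hU : g₂ ⁻¹ᵁ U = g₁ ⁻¹ᵁ U := congr((TopologicalSpace.Opens.map $hb.symm).obj U)
  have h1 := Scheme.Hom.congr_app h U
  rw [Scheme.Hom.comp_app, Scheme.Hom.comp_app] at h1
  have h2 := congr($h1 s)
  have h3 : (g₁.app U s) ^ p =
      Y.presheaf.map (eqToHom hU.symm).op ((g₂.app U s) ^ p) := h2
  have h4 := congrArg (Y.presheaf.map (eqToHom hU).op) h3
  rw [map_pow] at h4
  have h5 : Y.presheaf.map (eqToHom hU).op
      (Y.presheaf.map (eqToHom hU.symm).op ((g₂.app U s) ^ p)) = (g₂.app U s) ^ p := by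
    rw [← CommRingCat.comp_apply, ← Functor.map_comp, ← op_comp, eqToHom_trans, eqToHom_refl,
      op_id, Y.presheaf.map_id]
    rfl
  rw [h5] at h4
  exact eq_of_pow_eq p (natCast_eq_zero_app Y p _) _ _ h4


/-- Let p be a prime and S a reduced scheme on which p = 0 whose absolute Frobenius is flat; let Y be a
reduced S-scheme with structure map a, Z an S-scheme with structure map b, and g₁, g₂ : Y ⟶ Z two
S-morphisms. For i = 1, 2 let h_i : Y ⟶ Z^(p) be the relative Frobenius F_{Y/S} : Y ⟶ Y^(p) followed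
by the base change Y^(p) ⟶ Z^(p) of g_i along the absolute Frobenius of S. If h₁ = h₂, then g₁ = g₂.
(The published statement works over the reduced special fibre of a flat formal scheme of finite type
over the Witt vectors of a perfect field; only reducedness of S and flatness of its absolute
Frobenius are kept here.) -/
theorem result (p : ℕ) [Fact p.Prime]
    {Y Z S : Scheme.{u}} [FrobSch.IsCharP S p] [IsReduced S] [Flat (FrobSch.frob S p)]
    [IsReduced Y] (a : Y ⟶ S) (b : Z ⟶ S) (g₁ g₂ : Y ⟶ Z) (hg₁ : g₁ ≫ b = a) (hg₂ : g₂ ≫ b = a)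
    (h : FrobSch.relFrob a p ≫ pullback.map a (FrobSch.frob S p) b (FrobSch.frob S p) g₁ (𝟙 S) (𝟙 S)
        ((Category.comp_id a).trans hg₁.symm) ((Category.comp_id _).trans (Category.id_comp _).symm) =
      FrobSch.relFrob a p ≫ pullback.map a (FrobSch.frob S p) b (FrobSch.frob S p) g₂ (𝟙 S) (𝟙 S)
        ((Category.comp_id a).trans hg₂.symm) ((Category.comp_id _).trans (Category.id_comp _).symm)) :
    g₁ = g₂ := by
  haveI : IsCharP Y p := IsCharP.of_hom a p
  apply eq_of_frob_comp_eq p
  have h1 := congr($h ≫ pullback.fst b (frob S p))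
  simp only [Category.assoc, pullback.lift_fst, pullback.map] at h1
  rw [← Category.assoc, ← Category.assoc, relFrob_fst] at h1
  exact h1

end Groth.Agent.S16482
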