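import Groth.Statements.S16483
import Mathlib.AlgebraicGeometry.IdealSheaf.Functorial
import Mathlib.AlgebraicGeometry.Morphisms.ClosedImmersion

set_option autoImplicit false
open CategoryTheory CategoryTheory.Limits AlgebraicGeometry
universe u
open FrobSch

namespace Groth.Agent.S16483

open CategoryTheory.Limits

section
set_option backward.isDefEq.respectTransparency false
set_option backward.isDefEq.respectTransparency.types false

lemma frobIter_comm (p : ℕ) [Fact p.Prime] (T : Scheme.{u}) [FrobSch.IsCharP T p] (n : ℕ) :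
    FrobSch.frobIter T p n ≫ FrobSch.frob T p = FrobSch.frobIter T p (n + 1) := by
  rw [FrobSch.frobIter_succ, FrobSch.frob_comp p (FrobSch.frobIter T p n)]

theorem main (p : ℕ) [Fact p.Prime]
    (k : Type u) [Field k] [CharP k p] [PerfectField k] (n : ℕ)
    {T X : Scheme.{u}} [FrobSch.IsCharP T p] (t : T ⟶ Spec (CommRingCat.of k))
    (x : X ⟶ Spec (CommRingCat.of k))
    (i : T.nilradical.subscheme ⟶ (FrobSch.frobIter T p (n + 1)).ker.subscheme)
    (hi : i ≫ (FrobSch.frobIter T p (n + 1)).ker.subschemeι = T.nilradical.subschemeι)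
    (j : T.nilradical.subscheme ⟶ (FrobSch.frobIter T p n).ker.subscheme)
    (hj : j ≫ (FrobSch.frobIter T p n).ker.subschemeι = T.nilradical.subschemeι)
    (w : (FrobSch.frobIter T p (n + 1)).ker.subscheme ⟶ X)
    (hw : w ≫ x = (FrobSch.frobIter T p (n + 1)).ker.subschemeι ≫ t) :
    ∃ v : (FrobSch.frobIter T p n).ker.subscheme ⟶ FrobSch.frobTwist x p,
      v ≫ pullback.snd x (FrobSch.frob (Spec (CommRingCat.of k)) p) =
          (FrobSch.frobIter T p n).ker.subschemeι ≫ t ∧
        j ≫ v = i ≫ w ≫ FrobSch.relFrob x p := by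
  have : FrobSch.IsCharP X p := FrobSch.IsCharP.of_hom x p
  have : FrobSch.IsCharP (FrobSch.frobIter T p (n + 1)).ker.subscheme p :=
    FrobSch.IsCharP.of_hom (FrobSch.frobIter T p (n + 1)).ker.subschemeι p
  have : FrobSch.IsCharP (FrobSch.frobIter T p n).ker.subscheme p :=
    FrobSch.IsCharP.of_hom (FrobSch.frobIter T p n).ker.subschemeι p
  have : FrobSch.IsCharP T.nilradical.subscheme p :=
    FrobSch.IsCharP.of_hom T.nilradical.subschemeι p
  have H : (FrobSch.frobIter T p (n + 1)).ker.subschemeι.ker ≤
      ((FrobSch.frobIter T p n).ker.subschemeι ≫ FrobSch.frob T p).ker := by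
    rw [Scheme.IdealSheafData.ker_subschemeι, Scheme.Hom.ker_comp,
      Scheme.IdealSheafData.ker_subschemeι, Scheme.IdealSheafData.map_ker, frobIter_comm]
  let Φ := IsClosedImmersion.lift (FrobSch.frobIter T p (n + 1)).ker.subschemeι
    ((FrobSch.frobIter T p n).ker.subschemeι ≫ FrobSch.frob T p) H
  have hΦ : Φ ≫ (FrobSch.frobIter T p (n + 1)).ker.subschemeι =
      (FrobSch.frobIter T p n).ker.subschemeι ≫ FrobSch.frob T p := IsClosedImmersion.lift_fac _ _ H
  have cond : (Φ ≫ w) ≫ x = ((FrobSch.frobIter T p n).ker.subschemeι ≫ t) ≫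
      FrobSch.frob (Spec (CommRingCat.of k)) p := by
    rw [Category.assoc, hw, ← Category.assoc, hΦ, Category.assoc, Category.assoc,
      FrobSch.frob_comp p t]
  refine ⟨pullback.lift (Φ ≫ w) ((FrobSch.frobIter T p n).ker.subschemeι ≫ t) cond,
    pullback.lift_snd _ _ _, ?_⟩
  have hjΦ : j ≫ Φ = FrobSch.frob T.nilradical.subscheme p ≫ i := by
    rw [← cancel_mono (FrobSch.frobIter T p (n + 1)).ker.subschemeι, Category.assoc, hΦ,
      ← Category.assoc, hj, Category.assoc, hi, FrobSch.frob_comp p T.nilradical.subschemeι]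
  apply pullback.hom_ext
  · rw [Category.assoc, pullback.lift_fst, Category.assoc, Category.assoc, FrobSch.relFrob_fst,
      ← FrobSch.frob_comp p w, ← Category.assoc, ← Category.assoc, hjΦ]
    simp only [Category.assoc]
    rw [← Category.assoc, FrobSch.frob_comp p i, Category.assoc]
  · rw [Category.assoc, pullback.lift_snd, Category.assoc, Category.assoc, FrobSch.relFrob_snd,
      hw, ← Category.assoc, ← Category.assoc, hj, hi]

end

/-- Let p be a prime, k a perfect field of characteristic p, T a k-scheme and X a k-scheme with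
Frobenius twist X^(p) = X ×_{Spec k, F} Spec k and relative Frobenius F_{X/k} : X ⟶ X^(p). For m ≥ 0
write T^(m) for the closed subscheme of T cut out by the sections whose p^m-th power vanishes (the
scheme-theoretic image of the m-fold absolute Frobenius F_T^m), and T_0 for the reduced closed
subscheme of T; the inclusions T_0 ⟶ T^(n+1) and T_0 ⟶ T^(n) over T are the given morphisms i and j.
Then for every k-morphism w : T^(n+1) ⟶ X there is a k-morphism v : T^(n) ⟶ X^(p) whose restriction
to T_0 is F_{X/k} composed with the restriction of w to T_0. (The published statement takes T to be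
the special fibre of a flat p-adic formal scheme of finite type over the Witt vectors of k, is
phrased for categories of such objects, and takes X locally of finite type over k; none of this is
used, so T and X are arbitrary k-schemes here.) -/
theorem result (p : ℕ) [Fact p.Prime]
    (k : Type u) [Field k] [CharP k p] [PerfectField k] (n : ℕ)
    {T X : Scheme.{u}} [FrobSch.IsCharP T p] (t : T ⟶ Spec (CommRingCat.of k))
    (x : X ⟶ Spec (CommRingCat.of k))
    (i : T.nilradical.subscheme ⟶ (FrobSch.frobIter T p (n + 1)).ker.subscheme)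
    (hi : i ≫ (FrobSch.frobIter T p (n + 1)).ker.subschemeι = T.nilradical.subschemeι)
    (j : T.nilradical.subscheme ⟶ (FrobSch.frobIter T p n).ker.subscheme)
    (hj : j ≫ (FrobSch.frobIter T p n).ker.subschemeι = T.nilradical.subschemeι)
    (w : (FrobSch.frobIter T p (n + 1)).ker.subscheme ⟶ X)
    (hw : w ≫ x = (FrobSch.frobIter T p (n + 1)).ker.subschemeι ≫ t) :
    ∃ v : (FrobSch.frobIter T p n).ker.subscheme ⟶ FrobSch.frobTwist x p,
      v ≫ pullback.snd x (FrobSch.frob (Spec (CommRingCat.of k)) p) =
          (FrobSch.frobIter T p n).ker.subschemeι ≫ t ∧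
        j ≫ v = i ≫ w ≫ FrobSch.relFrob x p := by
  exact main p k n t x i hi j hj w hw

end Groth.Agent.S16483
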