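import Groth.Statements.S16486
import Groth.Agent.H17.NormalRefl
import Groth.Agent.H17.StalkSeq
import Groth.Agent.H17.FTSubQCoh
import Groth.Agent.H17.ReflDualDomain

set_option autoImplicit false
universe u
open CategoryTheory AlgebraicGeometry
open SGA3

namespace Groth.Agent.S16486

/-- Let S be a Noetherian normal scheme, A a flat quasi-coherent O_S-module, F ⊆ A a sub-O_S-module of
finite type, and U ⊆ S the set of points s at which the stalk F_s is a flat O_{S,s}-module (the
flatness locus of F, which is open); write j : U → S for the inclusion of the corresponding open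
subscheme. Then the bidual F^** = 𝓗om(𝓗om(F, O_S), O_S) is identified with j_* j^* F: there is an
isomorphism F^** ≅ j_*(F|_U) whose composite with the canonical map F → F^** is the unit F → j_* j^*
F of the adjunction between restriction to U and direct image (such an isomorphism is unique). The
openness of U is taken as part of the hypothesis that U is an open with this underlying set. -/
theorem result (S : Scheme.{u}) [IsNoetherian S]
    (hS : Pi1.IsNormalScheme S) (A F : S.Modules) (hA : Coh.IsQCoh A) (hAfl : FlatMod.IsFlat A)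
    (ι : F ⟶ A) [Mono ι] (hF : CohB1.IsFT F) (U : S.Opens) (hU : (U : Set S) = {s : S | FlatMod.IsFlatAt F s}) :
    ∃ e : RefHull.ddual F ≅ (Scheme.Modules.pushforward U.ι).obj (F.restrict U.ι),
      RefHull.bidualMap F ≫ e.hom = (Scheme.Modules.restrictAdjunction U.ι).unit.app F := by
  haveI : IsLocallyNoetherian S := inferInstance
  haveI : A.IsQuasicoherent := hA
  haveI : SheafOfModules.IsFiniteType (R := S.ringCatSheaf) F := hF
  have hFq : F.IsQuasicoherent :=
    Groth.Agent.H17.FTSubQCoh.isQuasicoherent_of_mono_of_isFiniteType ι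
  have hFc : Coh.IsCoh F := ⟨hFq, hF⟩
  have hmemU : ∀ x : S, x ∈ U ↔ FlatMod.IsFlatAt F x := fun x => by
    have h1 : x ∈ (U : Set S) ↔ x ∈ {s : S | FlatMod.IsFlatAt F s} := by rw [hU]
    exact h1
  -- the complement of `U` has codimension at least two
  have hcodim : ∀ x : S, x ∉ U → (2 : WithBot ℕ∞) ≤ ringKrullDim (S.presheaf.stalk x) := by
    intro x hx
    by_contra hdim
    rw [not_le] at hdim
    apply hx
    rw [hmemU]
    haveI : IsDomain (S.presheaf.stalk x) := (hS x).1
    haveI : IsIntegrallyClosed (S.presheaf.stalk x) := (hS x).2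
    haveI : IsNoetherianRing (S.presheaf.stalk x) := inferInstance
    haveI := Groth.Agent.S7862.isPrincipalIdealRing_of_dim_lt_two (S.presheaf.stalk x) hdim
    haveI : Module.Flat (S.presheaf.stalk x) (A.presheaf.stalk x) := hAfl x
    haveI : Module.IsTorsionFree (S.presheaf.stalk x) (A.presheaf.stalk x) := inferInstance
    haveI : Module.IsTorsionFree (S.presheaf.stalk x) (F.presheaf.stalk x) :=
      Function.Injective.moduleIsTorsionFree (Groth.Agent.H17.StalkSeq.stalkMapₗ ι x)
        (Groth.Agent.H17.StalkSeq.stalkMap_injective_of_mono ι x) (fun r m => map_smul _ r m)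
    haveI : Module.Finite (S.presheaf.stalk x) (F.presheaf.stalk x) :=
      Groth.Agent.H8.finite_stalk_of_isCoh F hFc x
    haveI : Module.Free (S.presheaf.stalk x) (F.presheaf.stalk x) :=
      Module.free_of_finite_type_torsion_free'
    exact (inferInstance : Module.Flat (S.presheaf.stalk x) (F.presheaf.stalk x))
  -- `F` is reflexive at the points of `U`
  have hA' : ∀ x : S, x ∈ U → RefHull.IsReflexiveAt F x := by
    intro x hx
    haveI hfl : Module.Flat (S.presheaf.stalk x) (F.presheaf.stalk x) := (hmemU x).mp hx
    haveI : Module.Finite (S.presheaf.stalk x) (F.presheaf.stalk x) :=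
      Groth.Agent.H8.finite_stalk_of_isCoh F hFc x
    haveI : Module.Free (S.presheaf.stalk x) (F.presheaf.stalk x) :=
      Module.free_of_flat_of_isLocalRing
    exact (inferInstance : Module.IsReflexive (S.presheaf.stalk x) (F.presheaf.stalk x))
  have hB : ∀ x : S, x ∈ U →
      Function.Bijective (Groth.Agent.H8.stalkMap (RefHull.bidualMap F) x) :=
    fun x hx => (Groth.Agent.H17.ReflSheaf.isReflexiveAt_iff F hFc x).mp (hA' x hx)
  -- the restriction of the biduality map to `U` is an isomorphism
  haveI hC : IsIso ((Scheme.Modules.restrictFunctor U.ι).map (RefHull.bidualMap F)) := by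
    rw [Scheme.Modules.Hom.isIso_iff_isIso_app]
    intro W'
    have hb : Function.Bijective ((RefHull.bidualMap F).app (U.ι ''ᵁ W')) := by
      apply Groth.Agent.H17.ReflNormal.app_bijective_of_stalk_bijective
      rintro _ ⟨y, -, rfl⟩
      exact hB _ y.2
    have hi : IsIso ((RefHull.bidualMap F).app (U.ι ''ᵁ W')) :=
      (ConcreteCategory.isIso_iff_bijective _).mpr hb
    exact hi
  -- the unit of the bidual is an isomorphism
  have hdd : Coh.IsCoh (RefHull.ddual F) := Groth.Agent.H17.ReflSheaf.isCoh_ddual F hFc
  have hddr : RefHull.IsReflexive (RefHull.ddual F) :=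
    Groth.Agent.H17.ReflDualDomain.isReflexive_dual (fun x => (hS x).1) (RefHull.dual F)
      (Groth.Agent.H17.ReflSheaf.isCoh_dual F hFc)
  haveI hD : IsIso ((Scheme.Modules.restrictAdjunction U.ι).unit.app (RefHull.ddual F)) :=
    Groth.Agent.H17.NormalRefl.isIso_unit_of_isReflexive_of_normal hS _ hdd
      (fun x => Groth.Agent.H17.ReflSheaf.isReflexiveAt_of_isReflexive _ hdd hddr x) U hcodim
  have hnat := (Scheme.Modules.restrictAdjunction U.ι).unit.naturality (RefHull.bidualMap F)
  refine ⟨asIso ((Scheme.Modules.restrictAdjunction U.ι).unit.app (RefHull.ddual F)) ≪≫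
    (Scheme.Modules.pushforward U.ι).mapIso
      (asIso ((Scheme.Modules.restrictFunctor U.ι).map (RefHull.bidualMap F))).symm, ?_⟩
  have h1 : RefHull.bidualMap F ≫
      (Scheme.Modules.restrictAdjunction U.ι).unit.app (RefHull.ddual F) =
      (Scheme.Modules.restrictAdjunction U.ι).unit.app F ≫
        (Scheme.Modules.pushforward U.ι).map
          ((Scheme.Modules.restrictFunctor U.ι).map (RefHull.bidualMap F)) := hnat
  show RefHull.bidualMap F ≫
      ((Scheme.Modules.restrictAdjunction U.ι).unit.app (RefHull.ddual F) ≫
        (Scheme.Modules.pushforward U.ι).map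
          (inv ((Scheme.Modules.restrictFunctor U.ι).map (RefHull.bidualMap F)))) = _
  rw [← Category.assoc, h1, Category.assoc, ← Functor.map_comp, IsIso.hom_inv_id,
    CategoryTheory.Functor.map_id]
  exact Category.comp_id _

end Groth.Agent.S16486
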