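import Groth.Statements.S5965
import Mathlib
import Groth.Agent.H93.ThickHom

set_option autoImplicit false
set_option maxHeartbeats 400000
universe u
open CategoryTheory CategoryTheory.Limits AlgebraicGeometry TopologicalSpace Opposite
open Nrm16

namespace Groth.Agent.S5965

/-- Let g : X ⟶ Y be a morphism locally of finite type with a section f : Y ⟶ X which is a closed
immersion. Then for every n the n-th infinitesimal neighbourhood of Y in X, mapped to Y through its
inclusion into X followed by g, is finite over Y. (The published statement allows any section f and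
says that the structure sheaf of the neighbourhood is a quasi-coherent O_Y-algebra which is an
O_Y-module of finite type; this row assumes f a closed immersion and states the conclusion as
finiteness of the morphism to Y.) -/
theorem result {X Y : Scheme.{u}} (g : X ⟶ Y) [LocallyOfFiniteType g] (f : Y ⟶ X)
    [IsClosedImmersion f] (hf : f ≫ g = 𝟙 Y) (n : ℕ) :
    IsFinite (PrinPart.infNbhdι f n ≫ g) := by
  have htι : PrinPart.toInfNbhd f n ≫ PrinPart.infNbhdι f n = f := PrinPart.toInfNbhd_ι f n
  haveI hι : IsClosedImmersion (PrinPart.infNbhdι f n) := by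
    rw [PrinPart.infNbhdι]; infer_instance
  haveI ht : IsClosedImmersion (PrinPart.toInfNbhd f n) := by
    haveI : IsClosedImmersion (PrinPart.toInfNbhd f n ≫ PrinPart.infNbhdι f n) := by
      rw [htι]; infer_instance
    exact IsClosedImmersion.of_comp (PrinPart.toInfNbhd f n) (PrinPart.infNbhdι f n)
  have hsurj : Function.Surjective (PrinPart.toInfNbhd f n).base := by
    intro x
    have hx : PrinPart.infNbhdι f n x ∈ Set.range f := by
      have h1 : PrinPart.infNbhdι f n x ∈ Set.range (f.ker ^ (n + 1)).subschemeι := ⟨x, rfl⟩
      rw [Scheme.IdealSheafData.range_subschemeι,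
        Scheme.IdealSheafData.support_pow _ (n + 1) (by omega), f.support_ker,
        f.isClosedEmbedding.isClosed_range.closure_eq] at h1
      exact h1
    obtain ⟨y, hy⟩ := hx
    refine ⟨y, ?_⟩
    apply (PrinPart.infNbhdι f n).isClosedEmbedding.injective
    have h2 : PrinPart.infNbhdι f n (PrinPart.toInfNbhd f n y) = f y :=
      congrArg (fun φ : Y ⟶ X => φ y) htι
    exact h2.trans hy
  have w : PrinPart.toInfNbhd f n ≫ (PrinPart.infNbhdι f n ≫ g) = 𝟙 Y ≫ 𝟙 Y := by
    rw [← Category.assoc, htι, hf, Category.comp_id]
  rw [IsFinite.iff_isIntegralHom_and_locallyOfFiniteType]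
  refine ⟨?_, inferInstance⟩
  exact (Groth.Agent.H93.ThickHom.integralHom_iff (PrinPart.toInfNbhd f n) (𝟙 Y) (𝟙 Y)
    (PrinPart.infNbhdι f n ≫ g) hsurj w).mp inferInstance

end Groth.Agent.S5965
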