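import Groth.Statements.S5971
-- import your own Groth.Agent.* helpers here
import Groth.Agent.S5965
import Groth.Agent.H39.FinitePush
import Groth.Agent.H39.ConormalStalk
import Groth.Agent.H24.ModLimIso
import Groth.Agent.H24.LimDescend2
import Groth.Agent.H24.IdealDescend

set_option autoImplicit false
universe u
open CategoryTheory CategoryTheory.Limits AlgebraicGeometry TopologicalSpace Opposite
open Nrm16

namespace Groth.Agent.S5971


open PrinPart in
/-- The first projection of the infinitesimal neighbourhood of the diagonal is finite. -/
theorem isFinite_pr1 {X S : Scheme.{u}} (f : X ⟶ S) [LocallyOfFiniteType f] (n : ℕ) :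
    IsFinite (PrinPart.pr1 f n) := by
  have hsec : PrinPart.diagCl f ≫ ((pullback.diagonal f).coborderRange.ι ≫ pullback.fst f f) =
      𝟙 X := by
    rw [← Category.assoc]
    show ((pullback.diagonal f).liftCoborder ≫ (pullback.diagonal f).coborderRange.ι) ≫
      pullback.fst f f = 𝟙 X
    rw [Scheme.Hom.liftCoborder_ι, pullback.diagonal_fst]
  have h := Groth.Agent.S5965.result
    ((pullback.diagonal f).coborderRange.ι ≫ pullback.fst f f) (PrinPart.diagCl f) hsec n
  have e : PrinPart.pr1 f n = PrinPart.infNbhdι (PrinPart.diagCl f) n ≫
      ((pullback.diagonal f).coborderRange.ι ≫ pullback.fst f f) := by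
    rw [PrinPart.pr1, PrinPart.nbhdι, Category.assoc]
  rw [e]
  exact h

/-- The first projection of the infinitesimal neighbourhood of the diagonal is locally of finite
presentation when `f` is. -/
theorem lfp_pr1 {X S : Scheme.{u}} (f : X ⟶ S) [LocallyOfFinitePresentation f] (n : ℕ) :
    LocallyOfFinitePresentation (PrinPart.pr1 f n) := by
  haveI hΔ : LocallyOfFinitePresentation (pullback.diagonal f) :=
    Groth.Agent.H24.locallyOfFinitePresentation_diagonal f
  haveI hcl : LocallyOfFinitePresentation (PrinPart.diagCl f) := by
    haveI : LocallyOfFinitePresentation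
        (PrinPart.diagCl f ≫ (pullback.diagonal f).coborderRange.ι) := by
      show LocallyOfFinitePresentation
        ((pullback.diagonal f).liftCoborder ≫ (pullback.diagonal f).coborderRange.ι)
      rw [Scheme.Hom.liftCoborder_ι]
      exact hΔ
    exact Groth.Agent.H24.locallyOfFinitePresentation_of_comp (PrinPart.diagCl f)
      (pullback.diagonal f).coborderRange.ι
  haveI h1 : LocallyOfFinitePresentation (PrinPart.infNbhdι (PrinPart.diagCl f) n) := by
    rw [PrinPart.infNbhdι]
    apply Groth.Agent.H24.locallyOfFinitePresentation_subschemeι_of_fg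
    intro U
    show ((PrinPart.diagCl f).ker.ideal U ^ (n + 1)).FG
    rw [Scheme.Hom.ker_apply]
    exact Submodule.FG.pow
      (Groth.Agent.H39.ConormalStalk.ker_fg (PrinPart.diagCl f) U.2
        (U.2.preimage (PrinPart.diagCl f)) ((PrinPart.diagCl f).app_surjective U.1 U.2)) (n + 1)
  rw [PrinPart.pr1, PrinPart.nbhdι]
  infer_instance


/-- Let f : X ⟶ S be a morphism locally of finite presentation, n a natural number and F a
quasi-coherent O_X-module of finite presentation. Then the sheaf of principal parts P^n_{X/S}(F),
with its left O_X-module structure, is of finite presentation. (The published statement asserts this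
for either of the two O_X-module structures of P^n_{X/S}(F); this row states it for the left
structure, the one the sheaf of principal parts carries here.) -/
theorem result {X S : Scheme.{u}} (f : X ⟶ S) [LocallyOfFinitePresentation f] (n : ℕ)
    (F : X.Modules) (hF : CohB1.IsFP F) :
    CohB1.IsFP (PrinPart.PMod f n F) := by
  haveI : SheafOfModules.IsFinitePresentation (R := X.ringCatSheaf) F := hF
  haveI : F.IsQuasicoherent := inferInstance
  haveI : LocallyOfFiniteType f := inferInstance
  haveI hfin : IsFinite (PrinPart.pr1 f n) := isFinite_pr1 f n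
  haveI hlfp : LocallyOfFinitePresentation (PrinPart.pr1 f n) := lfp_pr1 f n
  haveI hfp2 : SheafOfModules.IsFinitePresentation (R := (PrinPart.nbhd f n).ringCatSheaf)
      ((Scheme.Modules.pullback (PrinPart.pr2 f n)).obj F) :=
    Groth.Agent.H24.ModLimIso.isFinitePresentation_pullback (PrinPart.pr2 f n) F
  exact Groth.Agent.H39.FinitePush.isFinitePresentation_pushforward (PrinPart.pr1 f n)
    ((Scheme.Modules.pullback (PrinPart.pr2 f n)).obj F)

end Groth.Agent.S5971
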