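import Groth.Statements.S16491
import Groth.Agent.H17.LocFreeRank
import Groth.Agent.H17.RankOneSheaf
import Groth.Agent.H17.ReflRankOne
import Groth.Agent.H17.ReflSheaf
import Groth.Agent.H26.RegUFD
import Groth.Agent.H8.Coh

set_option autoImplicit false
universe u
open CategoryTheory CategoryTheory.Limits AlgebraicGeometry TopologicalSpace
open VBPn

namespace Groth.Agent.S16491

/-- Let X be an integral locally Noetherian scheme all of whose local rings are regular, and F a
coherent O_X-module which is reflexive (the canonical map F → F^** is an isomorphism) and of rank 1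
(F restricts to an invertible module on some dense open subset of X). Then F is invertible: every
point has an open neighbourhood on which F is isomorphic to the structure sheaf. The published
statement is for reflexive coherent analytic sheaves of rank 1 on a complex manifold; this row is
its statement on a regular integral locally Noetherian scheme, whose local rings are factorial as
the argument requires. -/
theorem result (X : Scheme.{u}) [IsIntegral X] [IsLocallyNoetherian X]
    (hreg : ∀ x : X, IsRegularLocalRing (X.presheaf.stalk x)) (F : X.Modules) (hF : Coh.IsCoh F)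
    (hrefl : RefHull.IsReflexive F) (hrk : RefHull.GenInvertible F) :
    PicF.IsInvertible F := by
  haveI : F.IsQuasicoherent := hF.1
  haveI : SheafOfModules.IsFiniteType (R := X.ringCatSheaf) F := hF.2
  obtain ⟨U₂, hη, hsec⟩ := Groth.Agent.H17.RankOneSheaf.exists_secRankOne F hrk
  apply Groth.Agent.H8.isInvertible_of_isFinLocFreeOfRank_one
  apply Groth.Agent.H17.LocFreeRank.isFinLocFreeOfRank_of_free_stalk F 1
  · intro U hU
    haveI : IsNoetherianRing Γ(X, U) := IsLocallyNoetherian.component_noetherian ⟨U, hU⟩
    haveI := Groth.Agent.H8.finite_sections_of_isCoh F hF hU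
    exact Module.finitePresentation_of_finite Γ(X, U) Γ(F, U)
  · intro x
    haveI := hreg x
    haveI : UniqueFactorizationMonoid (X.presheaf.stalk x) :=
      Groth.Agent.H26.RegUFD.ufm_of_isRegularLocalRing (X.presheaf.stalk x)
    haveI : IsDomain (X.presheaf.stalk x) := inferInstance
    haveI : IsNoetherianRing (X.presheaf.stalk x) := inferInstance
    haveI : Module.IsReflexive (X.presheaf.stalk x) (F.presheaf.stalk x) :=
      Groth.Agent.H17.ReflSheaf.isReflexiveAt_of_isReflexive F hF hrefl x
    haveI := Groth.Agent.H17.RankOneSheaf.nontrivial_stalk F hη hsec x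
    obtain ⟨e⟩ := Groth.Agent.H17.ReflRankOne.nonempty_linearEquiv_of_rank_one
      (F.presheaf.stalk x) (Groth.Agent.H17.RankOneSheaf.stalk_rank_one F hη hsec x)
    exact ⟨e.trans (LinearEquiv.funUnique (Fin 1) (X.presheaf.stalk x) (X.presheaf.stalk x)).symm⟩

end Groth.Agent.S16491
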