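import Groth.Statements.S16500
import Mathlib.Tactic

set_option autoImplicit false
universe u
open Curves

namespace Groth.Agent.S16500

/-- Let k be a field of odd characteristic p, g ≤ p a natural number and f ∈ k[x] of degree at most 2g +
2. Let F be f with its coefficients reversed in degrees 0, …, 2g + 2, i.e. F(X) = X^(2g+2) f(1/X)
(Mathlib's reflect (2g+2) f), and write f^((p-1)/2) = Σ_l c_l x^l and F^((p-1)/2) = Σ_l C_l X^l.
Then C_{ip-j} = c_{(g+1-i)p-(g+1-j)} for all i, j = 1, …, g; that is, the g × g Cartier–Manin matrix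
of F is that of f with the order of both rows and columns reversed (below the indices run over Fin
g, the entry at (i, j) being the coefficient of degree (i+1)p-(j+1), and reversal is Fin.rev). In
particular the two matrices have the same determinant. (The source applies this to f with f(0) = 0,
separable of degree 2g + 2 over a perfect field, so that F has odd degree 2g + 1; the identity uses
none of that.) -/
theorem result (k : Type u) [Field k] (p : ℕ) [Fact p.Prime] (hp : p ≠ 2) [CharP k p]
    (g : ℕ) (hg : g ≤ p) (f : Polynomial k) (hf : f.natDegree ≤ 2 * g + 2) :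
    (Matrix.of fun i j : Fin g =>
        ((Polynomial.reflect (2 * g + 2) f) ^ ((p - 1) / 2)).coeff (((i : ℕ) + 1) * p - ((j : ℕ) + 1))) =
      Matrix.of fun i j : Fin g =>
        (f ^ ((p - 1) / 2)).coeff (((Fin.rev i : ℕ) + 1) * p - ((Fin.rev j : ℕ) + 1)) := by
  classical
  have hpow : ∀ m : ℕ, (Polynomial.reflect (2 * g + 2) f) ^ m
      = Polynomial.reflect ((2 * g + 2) * m) (f ^ m) := by
    intro m
    induction m with
    | zero =>
      simp only [pow_zero, Nat.mul_zero]
      ext n
      rw [Polynomial.coeff_reflect, Polynomial.coeff_one, Polynomial.coeff_one]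
      by_cases hn : n = 0
      · subst hn; simp [Polynomial.revAt_le]
      · rw [Polynomial.revAt_eq_self_of_lt (Nat.pos_of_ne_zero hn)]
    | succ m ih =>
      rw [pow_succ, pow_succ, ih, Nat.mul_succ]
      rw [Polynomial.reflect_mul _ _ _ hf]
      calc (f ^ m).natDegree ≤ m * f.natDegree := Polynomial.natDegree_pow_le
        _ ≤ m * (2 * g + 2) := Nat.mul_le_mul_left _ hf
        _ = (2 * g + 2) * m := Nat.mul_comm _ _
  have hp2 : 2 ≤ p := (Fact.out : p.Prime).two_le
  have hodd : p % 2 = 1 := by
    rcases (Fact.out : p.Prime).eq_two_or_odd with h | h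
    · exact absurd h hp
    · exact h
  have hm : 2 * ((p - 1) / 2) = p - 1 := by omega
  ext i j
  simp only [Matrix.of_apply]
  rw [hpow, Polynomial.coeff_reflect]
  have hi : (i : ℕ) < g := i.2
  have hj : (j : ℕ) < g := j.2
  have hri : ((Fin.rev i : Fin g) : ℕ) = g - 1 - i := by
    rw [Fin.val_rev]; omega
  have hrj : ((Fin.rev j : Fin g) : ℕ) = g - 1 - j := by
    rw [Fin.val_rev]; omega
  rw [hri, hrj]
  have hNm : (2 * g + 2) * ((p - 1) / 2) = (g + 1) * (p - 1) := by
    have : (2 * g + 2) * ((p - 1) / 2) = (g + 1) * (2 * ((p - 1) / 2)) := by ring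
    rw [this, hm]
  rw [hNm]
  -- key arithmetic
  have h1 : ((i : ℕ) + 1) * p ≤ g * p := Nat.mul_le_mul_right p hi
  have hgp : g * p + p = (g + 1) * (p - 1) + (g + 1) := by
    have : (g + 1) * (p - 1) + (g + 1) = (g + 1) * ((p - 1) + 1) := by ring
    rw [this, Nat.sub_add_cancel (by omega : 1 ≤ p)]; ring
  have hle : ((i : ℕ) + 1) * p - ((j : ℕ) + 1) ≤ (g + 1) * (p - 1) := by omega
  rw [Polynomial.revAt_le hle]
  congr 1
  have h2 : (g - 1 - (i : ℕ) + 1) * p = g * p - ((i : ℕ) + 1) * p + p := by
    have : g - 1 - (i : ℕ) + 1 = g - (i : ℕ) := by omega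
    rw [this]
    have h3 : g * p = (g - (i:ℕ)) * p + (i : ℕ) * p := by
      rw [← Nat.add_mul]; congr 1; omega
    have h4 : ((i : ℕ) + 1) * p = (i : ℕ) * p + p := by ring
    have h5 : p ≤ (g - (i : ℕ)) * p := Nat.le_mul_of_pos_left p (by omega)
    omega
  rw [h2]
  have h6 : 1 * p ≤ ((i : ℕ) + 1) * p := Nat.mul_le_mul_right p (by omega)
  omega

end Groth.Agent.S16500
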