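import Mathlib
import Groth.Statements.S16515

set_option autoImplicit false
universe u
open RatCurv

namespace Groth.Agent.S16515

section
variable (K : Type u) [Field K]

lemma finrank_binary (m : ℕ) :
    Module.finrank K (MvPolynomial.homogeneousSubmodule (Fin 2) K m) = m + 1 := by
  classical
  let e : {d : Fin 2 →₀ ℕ // d ∈ {d : Fin 2 →₀ ℕ | d.degree = m}} ≃ Fin (m + 1) :=
    { toFun := fun d => ⟨d.1 0, by
        have h : d.1.degree = m := d.2
        rw [Finsupp.degree_eq_sum, Fin.sum_univ_two] at h
        omega⟩
      invFun := fun i => ⟨Finsupp.single 0 (i : ℕ) + Finsupp.single 1 (m - i), by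
        show (Finsupp.single (0 : Fin 2) (i : ℕ) + Finsupp.single 1 (m - i)).degree = m
        rw [map_add, Finsupp.degree_single, Finsupp.degree_single]
        have := i.2
        omega⟩
      left_inv := fun d => by
        have h : d.1.degree = m := d.2
        rw [Finsupp.degree_eq_sum, Fin.sum_univ_two] at h
        apply Subtype.ext
        ext j
        fin_cases j
        · simp
        · simp; omega
      right_inv := fun i => by
        apply Fin.ext
        simp }
  haveI : Fintype {d : Fin 2 →₀ ℕ // d ∈ {d : Fin 2 →₀ ℕ | d.degree = m}} :=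
    Fintype.ofEquiv _ e.symm
  rw [MvPolynomial.homogeneousSubmodule_eq_finsupp_supported,
    LinearEquiv.finrank_eq (AddMonoidAlgebra.supportedEquivFinsupp _),
    Module.finrank_finsupp_self, Fintype.card_congr e, Fintype.card_fin]

lemma finite_binary (m : ℕ) :
    Module.Finite K (MvPolynomial.homogeneousSubmodule (Fin 2) K m) :=
  Module.finite_of_finrank_pos (by rw [finrank_binary]; omega)

/-- multiplication of binary forms modulo a subspace, as a bilinear map -/
noncomputable def Phi (n k : ℕ) (hkn : k ≤ n)
    (U' : Submodule K (MvPolynomial.homogeneousSubmodule (Fin 2) K n)) :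
    (MvPolynomial.homogeneousSubmodule (Fin 2) K k) →ₗ[K]
      (MvPolynomial.homogeneousSubmodule (Fin 2) K (n - k)) →ₗ[K]
        ((MvPolynomial.homogeneousSubmodule (Fin 2) K n) ⧸ U') :=
  LinearMap.mk₂ K (fun g h => Submodule.Quotient.mk
      (⟨g.1 * h.1, by
        have := ((MvPolynomial.mem_homogeneousSubmodule _ _).mp g.2).mul
          ((MvPolynomial.mem_homogeneousSubmodule _ _).mp h.2)
        rw [Nat.add_sub_cancel' hkn] at this
        exact (MvPolynomial.mem_homogeneousSubmodule _ _).mpr this⟩ :
        MvPolynomial.homogeneousSubmodule (Fin 2) K n))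
    (fun g₁ g₂ h => by
      rw [← Submodule.Quotient.mk_add]; congr 1; apply Subtype.ext
      show (g₁.1 + g₂.1) * h.1 = g₁.1 * h.1 + g₂.1 * h.1
      exact add_mul _ _ _)
    (fun c g h => by
      rw [← Submodule.Quotient.mk_smul]; congr 1; apply Subtype.ext
      show (c • g.1) * h.1 = c • (g.1 * h.1)
      exact smul_mul_assoc _ _ _)
    (fun g h₁ h₂ => by
      rw [← Submodule.Quotient.mk_add]; congr 1; apply Subtype.ext
      show g.1 * (h₁.1 + h₂.1) = g.1 * h₁.1 + g.1 * h₂.1
      exact mul_add _ _ _)
    (fun c g h => by
      rw [← Submodule.Quotient.mk_smul]; congr 1; apply Subtype.ext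
      show g.1 * (c • h.1) = c • (g.1 * h.1)
      exact mul_smul_comm _ _ _)

end

/-- If C ⊂ P^n is a rational normal curve and P ⊂ P^n a linear r-plane with (r + 2) k ≥ (r + 1)(n + 1),
then P is contained in a k-secant (k − 1)-plane of C, i.e. in the span of some effective divisor of
degree k on C. Stated through the identification of the linear forms on P^n with the binary forms of
degree n on C ≅ P^1: the r-plane P is recorded by the space U of degree-n binary forms vanishing on
it (of codimension r + 1), an effective divisor of degree k on C by a nonzero binary form g of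
degree k, and P ⊂ span(div g) says that every degree-n form divisible by g lies in U. Here k ≤ n,
and the ground field is arbitrary (the source works over the complex numbers). -/
theorem result (K : Type u) [Field K] (n r k : ℕ)
    (hkn : k ≤ n) (hineq : (r + 1) * (n + 1) ≤ (r + 2) * k)
    (U : Submodule K (MvPolynomial (Fin 2) K))
    (hU : U ≤ MvPolynomial.homogeneousSubmodule (Fin 2) K n)
    (hcodim : Module.finrank K ↥U + (r + 1) = n + 1) :
    ∃ g ∈ MvPolynomial.homogeneousSubmodule (Fin 2) K k, g ≠ 0 ∧
      ∀ h ∈ MvPolynomial.homogeneousSubmodule (Fin 2) K (n - k), g * h ∈ U := by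
  classical
  have harith : (n - k + 1) * (r + 1) < k + 1 := by
    obtain ⟨m, rfl⟩ := Nat.exists_eq_add_of_le hkn
    rw [Nat.add_sub_cancel_left]
    nlinarith [hineq]
  haveI := finite_binary K k
  haveI := finite_binary K (n - k)
  haveI := finite_binary K n
  let U' : Submodule K (MvPolynomial.homogeneousSubmodule (Fin 2) K n) :=
    Submodule.comap (MvPolynomial.homogeneousSubmodule (Fin 2) K n).subtype U
  have hU' : Module.finrank K U' = Module.finrank K U :=
    LinearEquiv.finrank_eq (Submodule.comapSubtypeEquivOfLe hU)
  have hq : Module.finrank K ((MvPolynomial.homogeneousSubmodule (Fin 2) K n) ⧸ U') = r + 1 := by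
    have := Submodule.finrank_quotient_add_finrank U'
    rw [finrank_binary, hU'] at this
    omega
  have hhom : Module.finrank K ((MvPolynomial.homogeneousSubmodule (Fin 2) K (n - k)) →ₗ[K]
      ((MvPolynomial.homogeneousSubmodule (Fin 2) K n) ⧸ U')) = (n - k + 1) * (r + 1) := by
    rw [Module.finrank_linearMap, finrank_binary, hq]
  have hnotinj : ¬ Function.Injective (Phi K n k hkn U') := by
    intro hinj
    have := LinearMap.finrank_le_finrank_of_injective hinj
    rw [finrank_binary, hhom] at this
    omega
  rw [injective_iff_map_eq_zero] at hnotinj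
  push Not at hnotinj
  obtain ⟨g, hg0, hgne⟩ := hnotinj
  refine ⟨g.1, g.2, fun h => hgne (Subtype.ext h), fun h hh => ?_⟩
  have h1 : Phi K n k hkn U' g ⟨h, hh⟩ = 0 := by rw [hg0]; rfl
  rw [Phi, LinearMap.mk₂_apply, Submodule.Quotient.mk_eq_zero] at h1
  exact h1

end Groth.Agent.S16515
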