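import Groth.Statements.S16516
import Mathlib
import Groth.Agent.S16515

set_option autoImplicit false
universe u
open RatCurv

namespace Groth.Agent.S16516

lemma aux_pair {K V W : Type*} [Field K] [AddCommGroup V] [Module K V] [AddCommGroup W] [Module K W]
    [FiniteDimensional K V] [FiniteDimensional K W] (B : V →ₗ[K] W →ₗ[K] K)
    (hinj : Function.Injective B.flip) (hd : Module.finrank K V = Module.finrank K W + 1) :
    ∃ g : V, g ≠ 0 ∧ B g = 0 ∧ ∀ g' : V, B g' = 0 → ∃ c : K, g' = c • g := by
  have hsurj : Function.Surjective B := LinearMap.flip_injective_iff₁.mp hinj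
  have hker : Module.finrank K (LinearMap.ker B) = 1 := by
    have h1 := LinearMap.finrank_range_add_finrank_ker B
    have h2 : Module.finrank K (LinearMap.range B) = Module.finrank K W := by
      rw [LinearMap.range_eq_top.mpr hsurj, finrank_top, Subspace.dual_finrank_eq]
    rw [h2, hd] at h1
    omega
  obtain ⟨g, hg0, hgspan⟩ := finrank_eq_one_iff'.mp hker
  refine ⟨g.1, fun h => hg0 (Subtype.ext h), LinearMap.mem_ker.mp g.2, fun g' hg' => ?_⟩
  obtain ⟨c, hc⟩ := hgspan ⟨g', LinearMap.mem_ker.mpr hg'⟩
  exact ⟨c, (congrArg Subtype.val hc).symm⟩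


/-- A smooth nondegenerate rational quintic curve C ⊂ P^4 has exactly one 3-secant line. Stated for C
given as the image of P^1 under a 5-dimensional linear series V of binary quintic forms which
separates every length-2 subscheme of P^1 (for every nonzero quadratic form e the forms of V
together with the multiples of e span all quintic forms), so that P^1 → P(V^*) = P^4 is a closed
embedding with nondegenerate image; the linear forms on P^4 are the elements of V, a line L ⊂ P^4 is
recorded by the 3-dimensional space of linear forms vanishing on it, and L ∩ C has length at least 3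
exactly when that space consists of the multiples g · K[s,t]_2 of a cubic form g. The conclusion: a
nonzero cubic g with g · K[s,t]_2 ⊆ V exists and is unique up to a scalar. (That such a line meets C
in length exactly 3, i.e. is not 4-secant, is immediate in this description and is not restated; the
ground field is algebraically closed of characteristic zero in place of the complex numbers.) -/
theorem result (K : Type u) [Field K] [IsAlgClosed K]
    [CharZero K] (V : Submodule K (MvPolynomial (Fin 2) K))
    (hV : V ≤ MvPolynomial.homogeneousSubmodule (Fin 2) K 5) (hdim : Module.finrank K ↥V = 5)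
    (hsep : ∀ e ∈ MvPolynomial.homogeneousSubmodule (Fin 2) K 2, e ≠ 0 →
      ∀ F ∈ MvPolynomial.homogeneousSubmodule (Fin 2) K 5, ∃ v ∈ V,
        ∃ h ∈ MvPolynomial.homogeneousSubmodule (Fin 2) K 3, F = v + e * h) :
    ∃ g ∈ MvPolynomial.homogeneousSubmodule (Fin 2) K 3, g ≠ 0 ∧
      (∀ h ∈ MvPolynomial.homogeneousSubmodule (Fin 2) K 2, g * h ∈ V) ∧
      ∀ g' ∈ MvPolynomial.homogeneousSubmodule (Fin 2) K 3,
        (∀ h ∈ MvPolynomial.homogeneousSubmodule (Fin 2) K 2, g' * h ∈ V) → ∃ c : K, g' = c • g := by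
  classical
  have := Groth.Agent.S16515.finite_binary K 2
  have := Groth.Agent.S16515.finite_binary K 3
  have := Groth.Agent.S16515.finite_binary K 5
  have hV' : Module.finrank K (Submodule.comap (MvPolynomial.homogeneousSubmodule (Fin 2) K 5).subtype V) = 5 :=
    (LinearEquiv.finrank_eq (Submodule.comapSubtypeEquivOfLe hV)).trans hdim
  have hq : Module.finrank K ((MvPolynomial.homogeneousSubmodule (Fin 2) K 5) ⧸
      (Submodule.comap (MvPolynomial.homogeneousSubmodule (Fin 2) K 5).subtype V)) = 1 := by
    have := Submodule.finrank_quotient_add_finrank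
      (Submodule.comap (MvPolynomial.homogeneousSubmodule (Fin 2) K 5).subtype V)
    rw [Groth.Agent.S16515.finrank_binary, hV'] at this
    omega
  let iso : ((MvPolynomial.homogeneousSubmodule (Fin 2) K 5) ⧸
      (Submodule.comap (MvPolynomial.homogeneousSubmodule (Fin 2) K 5).subtype V)) ≃ₗ[K] K :=
    LinearEquiv.ofFinrankEq _ _ (by rw [hq, Module.finrank_self])
  let φ : (MvPolynomial.homogeneousSubmodule (Fin 2) K 5) →ₗ[K] K :=
    iso.toLinearMap ∘ₗ (Submodule.comap (MvPolynomial.homogeneousSubmodule (Fin 2) K 5).subtype V).mkQ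
  have hφ : ∀ x : (MvPolynomial.homogeneousSubmodule (Fin 2) K 5), φ x = 0 ↔ x.1 ∈ V := by
    intro x
    show iso (Submodule.Quotient.mk x) = 0 ↔ _
    rw [LinearEquiv.map_eq_zero_iff, Submodule.Quotient.mk_eq_zero]
    rfl
  obtain ⟨Φ, hΦ⟩ := LinearMap.exists_extend φ
  let B : (MvPolynomial.homogeneousSubmodule (Fin 2) K 3) →ₗ[K]
      (MvPolynomial.homogeneousSubmodule (Fin 2) K 2) →ₗ[K] K :=
    ((LinearMap.mul K (MvPolynomial (Fin 2) K)).domRestrict₁₂ _ _).compr₂ Φ
  have hBapp : ∀ g h, B g h = Φ (g.1 * h.1) := fun g h => rfl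
  have hB : ∀ (g : MvPolynomial.homogeneousSubmodule (Fin 2) K 3)
      (h : MvPolynomial.homogeneousSubmodule (Fin 2) K 2), B g h = 0 ↔ g.1 * h.1 ∈ V := by
    intro g h
    have hmem : g.1 * h.1 ∈ MvPolynomial.homogeneousSubmodule (Fin 2) K 5 := by
      have := ((MvPolynomial.mem_homogeneousSubmodule _ _).mp g.2).mul
        ((MvPolynomial.mem_homogeneousSubmodule _ _).mp h.2)
      exact (MvPolynomial.mem_homogeneousSubmodule _ _).mpr this
    have h1 : Φ (g.1 * h.1) = φ ⟨g.1 * h.1, hmem⟩ := LinearMap.congr_fun hΦ ⟨g.1 * h.1, hmem⟩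
    rw [hBapp, h1, hφ]
  have hinj : Function.Injective B.flip := by
    rw [injective_iff_map_eq_zero]
    intro e he
    by_contra hne
    have he1 : e.1 ≠ 0 := fun h => hne (Subtype.ext h)
    have hall : ∀ F ∈ MvPolynomial.homogeneousSubmodule (Fin 2) K 5, F ∈ V := by
      intro F hF
      obtain ⟨v, hv, h, hh, rfl⟩ := hsep e.1 e.2 he1 F hF
      have h0 : B ⟨h, hh⟩ e = 0 := by
        have := LinearMap.congr_fun he ⟨h, hh⟩
        simpa using this
      have h2 := (hB ⟨h, hh⟩ e).mp h0
      refine V.add_mem hv ?_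
      rw [mul_comm]
      exact h2
    have htop : Submodule.comap (MvPolynomial.homogeneousSubmodule (Fin 2) K 5).subtype V = ⊤ := by
      rw [eq_top_iff]
      intro x _
      exact hall x.1 x.2
    rw [htop, finrank_top, Groth.Agent.S16515.finrank_binary] at hV'
    omega
  obtain ⟨g, hg0, hgB, hgspan⟩ := aux_pair B hinj (by
    rw [Groth.Agent.S16515.finrank_binary, Groth.Agent.S16515.finrank_binary])
  refine ⟨g.1, g.2, fun h => hg0 (Subtype.ext h), ?_, ?_⟩
  · intro h hh
    have h0 : B g ⟨h, hh⟩ = 0 := by rw [hgB]; rfl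
    exact (hB g ⟨h, hh⟩).mp h0
  · intro g' hg' hall'
    have hmem : B (⟨g', hg'⟩ : MvPolynomial.homogeneousSubmodule (Fin 2) K 3) = 0 := by
      apply LinearMap.ext
      intro h
      exact (hB ⟨g', hg'⟩ h).mpr (hall' h.1 h.2)
    obtain ⟨c, hc⟩ := hgspan ⟨g', hg'⟩ hmem
    exact ⟨c, congrArg Subtype.val hc⟩
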