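import Groth.Statements.S16519
import Mathlib

set_option autoImplicit false
open CubicSurf

namespace Groth.Agent.S16519

/-- the explicit finite set of solutions -/
noncomputable def sols : Finset (ℤ × (Fin 6 → ℤ)) :=
  (Finset.Icc (1 : ℤ) 5).biUnion fun a =>
    ((Fintype.piFinset fun _ : Fin 6 => Finset.Icc ((a - 2) / 2) ((a + 1) / 2)).filter
      (fun b => 3 * a - (Finset.univ.sum fun i => b i) = 3 ∧
        a ^ 2 - (Finset.univ.sum fun i => b i ^ 2) = 1)).image (fun b => (a, b))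

lemma sols_card : sols.card = 72 := by
  decide +kernel

lemma sq_le_eight {t : ℤ} (h : t ^ 2 ≤ 8) : -2 ≤ t ∧ t ≤ 2 := by
  constructor
  · by_contra hlt
    push Not at hlt
    nlinarith
  · by_contra hlt
    push Not at hlt
    nlinarith

lemma bound (a : ℤ) (b : Fin 6 → ℤ)
    (h1 : 3 * a - (Finset.univ.sum fun i => b i) = 3)
    (h2 : a ^ 2 - (Finset.univ.sum fun i => b i ^ 2) = 1) :
    (1 ≤ a ∧ a ≤ 5) ∧ ∀ i, (a - 2) / 2 ≤ b i ∧ b i ≤ (a + 1) / 2 := by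
  rw [Fin.sum_univ_six] at h1 h2
  have hsum : (2 * b 0 - (a - 1)) ^ 2 + (2 * b 1 - (a - 1)) ^ 2 + (2 * b 2 - (a - 1)) ^ 2 +
      (2 * b 3 - (a - 1)) ^ 2 + (2 * b 4 - (a - 1)) ^ 2 + (2 * b 5 - (a - 1)) ^ 2
      = 2 * (a - 1) * (5 - a) := by
    have e1 : b 0 + b 1 + b 2 + b 3 + b 4 + b 5 = 3 * a - 3 := by linarith
    have e2 : b 0 ^ 2 + b 1 ^ 2 + b 2 ^ 2 + b 3 ^ 2 + b 4 ^ 2 + b 5 ^ 2 = a ^ 2 - 1 := by linarith
    have : (2 * b 0 - (a - 1)) ^ 2 + (2 * b 1 - (a - 1)) ^ 2 + (2 * b 2 - (a - 1)) ^ 2 +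
      (2 * b 3 - (a - 1)) ^ 2 + (2 * b 4 - (a - 1)) ^ 2 + (2 * b 5 - (a - 1)) ^ 2
      = 4 * (b 0 ^ 2 + b 1 ^ 2 + b 2 ^ 2 + b 3 ^ 2 + b 4 ^ 2 + b 5 ^ 2)
        - 4 * (a - 1) * (b 0 + b 1 + b 2 + b 3 + b 4 + b 5) + 6 * (a - 1) ^ 2 := by ring
    rw [this, e1, e2]
    ring
  have hnn : ∀ i, 0 ≤ (2 * b i - (a - 1)) ^ 2 := fun i => sq_nonneg _
  have htot : 0 ≤ 2 * (a - 1) * (5 - a) := by
    rw [← hsum]
    have := hnn 0; have := hnn 1; have := hnn 2; have := hnn 3; have := hnn 4; have := hnn 5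
    positivity
  have ha : 1 ≤ a ∧ a ≤ 5 := by
    constructor <;> nlinarith
  have hle8 : 2 * (a - 1) * (5 - a) ≤ 8 := by nlinarith [sq_nonneg (a - 3)]
  have hsum' : ∑ j, (2 * b j - (a - 1)) ^ 2 = 2 * (a - 1) * (5 - a) := by
    rw [Fin.sum_univ_six]
    exact hsum
  have hi : ∀ i, (2 * b i - (a - 1)) ^ 2 ≤ 8 := by
    intro i
    have : (2 * b i - (a - 1)) ^ 2 ≤ ∑ j, (2 * b j - (a - 1)) ^ 2 :=
      Finset.single_le_sum (f := fun j => (2 * b j - (a - 1)) ^ 2) (fun j _ => sq_nonneg _)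
        (Finset.mem_univ i)
    linarith
  refine ⟨ha, fun i => ?_⟩
  obtain ⟨l, u⟩ := sq_le_eight (hi i)
  constructor <;> omega

/-- On a smooth cubic surface there are exactly 72 divisor classes L with L² = 1 and L · K = −3. Stated
in the lattice ℤ^{1,6} with basis l, e_1, …, e_6 (l² = 1, e_i² = −1, K = −3l + Σ e_i): the integer
vectors (a, b) ∈ ℤ × ℤ^6, standing for a·l − Σ b_i e_i, with 3a − Σ b_i = 3 and a² − Σ b_i² = 1 form
a set of exactly 72 elements. -/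
theorem result :
    {p : ℤ × (Fin 6 → ℤ) | 3 * p.1 - (Finset.univ.sum fun i => p.2 i) = 3 ∧
        p.1 ^ 2 - (Finset.univ.sum fun i => p.2 i ^ 2) = 1}.ncard = 72 := by
  have hset : {p : ℤ × (Fin 6 → ℤ) | 3 * p.1 - (Finset.univ.sum fun i => p.2 i) = 3 ∧
        p.1 ^ 2 - (Finset.univ.sum fun i => p.2 i ^ 2) = 1} = ↑sols := by
    ext ⟨a, b⟩
    simp only [Set.mem_ofPred_eq, sols, Finset.coe_biUnion, Finset.coe_image, Finset.coe_filter,
      Set.mem_iUnion, Set.mem_image, Finset.mem_coe, Finset.mem_Icc, Fintype.mem_piFinset,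
      Prod.mk.injEq, exists_prop]
    constructor
    · rintro ⟨h1, h2⟩
      obtain ⟨ha, hb⟩ := bound a b h1 h2
      exact ⟨a, ha, b, ⟨hb, h1, h2⟩, rfl, rfl⟩
    · rintro ⟨a', _, b', ⟨_, h1, h2⟩, rfl, rfl⟩
      exact ⟨h1, h2⟩
  rw [hset, Set.ncard_coe_finset, sols_card]

end Groth.Agent.S16519
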