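import Groth.Statements.S1652
import Groth.Agent.H18.SectionIntegral

open Groth.Agent.H18 Groth.Agent.H18.SectionIntegral Groth.Agent.H18.TensorGen Groth.Agent.H18.TensorPowIso

set_option autoImplicit false
universe u
open CategoryTheory CategoryTheory.Limits AlgebraicGeometry
open Variety

namespace Groth.Agent.S1652

/-- On a proper curve over a field, if L and M are invertible modules with L ⊗ M ≅ O_X and both L and M
have a nonzero global section, then L is isomorphic to the structure sheaf. -/
theorem result (k : Type u) [Field k] (X : Scheme.{u}) [X.Over (Spec (CommRingCat.of k))]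
    [IsIntegral X] [IsProper (X ↘ (Spec (CommRingCat.of k)))] (hdim : topologicalKrullDim X = 1)
    (L M : X.Modules) (hL : PicF.IsInvertible L) (hM : PicF.IsInvertible M) (hLM : ClSub.IsInverseOf L M)
    (s : Coh.structureModule X ⟶ L) (hs : s ≠ 0) (t : Coh.structureModule X ⟶ M) (ht : t ≠ 0) :
    Nonempty (L ≅ Coh.structureModule X) := by
  obtain ⟨e⟩ := hLM
  have hfield : IsField (Γ(X, ⊤) : Type u) :=
    isField_of_universallyClosed k (X ↘ (Spec (CommRingCat.of k)))
  have hp : SecTwist.tmulHom s t ≠ 0 := tmulHom_ne_zero hL hM s t hs ht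
  have hu : SecTwist.tmulHom s t ≫ e.hom ≠ 0 := by
    intro h0
    apply hp
    rw [← cancel_mono e.hom, h0, Limits.zero_comp]
  have h1 := genLocus_eq_top_of_ne_zero hfield _ hu
  rw [TwistAmple.genLocus_comp_iso, genLocus_tmulHom hL hM] at h1
  have h2 : CohB1.genLocus L s = ⊤ := top_le_iff.mp (h1 ▸ inf_le_left)
  have h3 := isIso_of_genLocus_eq_top s h2
  exact ⟨(asIso s).symm⟩

end Groth.Agent.S1652
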