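import Groth.Statements.S1654
import Groth.Agent.H37.CompFix2

set_option autoImplicit false
universe u
open CategoryTheory CategoryTheory.Limits AlgebraicGeometry
open Variety

namespace Groth.Agent.S1654

/-- Let X be a k-scheme locally of finite type, having only finitely many irreducible components. There
is then a finite separable extension k' of k such that every irreducible component of X_{k'}, with
its reduced induced structure, is geometrically irreducible over k'. -/
theorem result (k : Type u) [Field k] (X : Scheme.{u}) [X.Over (Spec (CommRingCat.of k))] [LocallyOfFiniteType (X ↘ (Spec (CommRingCat.of k)))]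
    (hirr : (irreducibleComponents (X : Type u)).Finite) :
    ∃ (k' : Type u) (_ : Field k') (_ : Algebra k k'), FiniteDimensional k k' ∧ Algebra.IsSeparable k k' ∧
      ∀ (T : Set (Curv2.bc k X k')) (hT : T ∈ irreducibleComponents (Curv2.bc k X k' : Type u)),
        GeometricallyIrreducible
          ((Scheme.IdealSheafData.vanishingIdeal ⟨T, isClosed_of_mem_irreducibleComponents T hT⟩).subschemeι ≫
            Curv2.bcSnd k X k') := by
  haveI : Finite ↥(irreducibleComponents ↥X) := hirr.to_subtype
  have key : ∀ Z : ↥(irreducibleComponents ↥X), ∃ E : H37.FinSub k (SeparableClosure k),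
      ∀ σ : SeparableClosure k ≃ₐ[k] SeparableClosure k, (∀ a, a ∈ E.1 → σ a = a) →
      ∀ y : ↥(Curv2.bc k X (SeparableClosure k)),
        Curv2.bcFst k X (SeparableClosure k) y = Z.2.1.genericPoint →
        Curv2.galAct k X (SeparableClosure k) σ y = y := by
    intro Z
    obtain ⟨φ, hφ, hfin⟩ :=
      H37.exists_residueFieldProp (X ↘ Spec (CommRingCat.of k)) Z.2.1.genericPoint
    exact H37.exists_finSub_fixing_fibre X _ φ hφ hfin
  choose Efun hEfun using key
  obtain ⟨E, hE⟩ := Finite.exists_le Efun
  have hE' : ∀ (Z : Set ↥X) (hZ : Z ∈ irreducibleComponents ↥X)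
      (σ : SeparableClosure k ≃ₐ[k] SeparableClosure k),
      (∀ a : SeparableClosure k, a ∈ E.1 → σ a = a) →
      ∀ y : ↥(Curv2.bc k X (SeparableClosure k)),
      Curv2.bcFst k X (SeparableClosure k) y = hZ.1.genericPoint →
      Curv2.galAct k X (SeparableClosure k) σ y = y := by
    intro Z hZ σ hσ y hy
    exact hEfun ⟨Z, hZ⟩ σ
      (fun a ha => hσ a ((show (Efun ⟨Z, hZ⟩).1 ≤ E.1 from hE ⟨Z, hZ⟩) ha)) y hy
  haveI := E.2
  refine ⟨↥E.1, inferInstance, inferInstance, E.2,
    Algebra.isSeparable_tower_bot_of_isSeparable k ↥E.1 (SeparableClosure k), ?_⟩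
  intro T hT
  have hirr' := H37.isIrreducible_preimage_eLeg k X (SeparableClosure k) E hE' T hT
  have hr : Set.range (Scheme.IdealSheafData.vanishingIdeal
      ⟨T, isClosed_of_mem_irreducibleComponents T hT⟩).subschemeι = T := by
    rw [Scheme.IdealSheafData.range_subschemeι, Scheme.IdealSheafData.coe_support_vanishingIdeal]
    rfl
  have hirr'' : IsIrreducible (⇑(H37.eLeg k X (SeparableClosure k) E) ⁻¹'
      Set.range (Scheme.IdealSheafData.vanishingIdeal
        ⟨T, isClosed_of_mem_irreducibleComponents T hT⟩).subschemeι) := by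
    rw [hr]; exact hirr'
  exact H37.geomIrr_of_isPullback (SeparableClosure k)
    (H37.eLeg_isPullback k X (SeparableClosure k) E) _ hirr''

end Groth.Agent.S1654
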