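import Groth.Statements.S16547
import Mathlib
import Groth.Agent.H75.EakinNagata

set_option autoImplicit false
universe u
open CAlg

namespace Groth.Agent.S16547

section Action

variable {A : Type*} {G : Type*} [CommRing A] [Group G] [MulSemiringAction G A]

theorem smul_dvd_smul' (g : G) {a b : A} (h : a ∣ b) : g • a ∣ g • b := by
  obtain ⟨c, rfl⟩ := h
  exact ⟨g • c, smul_mul' g a c⟩

theorem isUnit_smul' (g : G) {a : A} (h : IsUnit a) : IsUnit (g • a) := by
  have := h.map (MulSemiringAction.toRingHom G A g)
  simpa using this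

theorem associated_smul' (g : G) {a b : A} (h : Associated a b) :
    Associated (g • a) (g • b) := by
  obtain ⟨u, rfl⟩ := h
  rw [smul_mul']
  exact associated_mul_unit_right _ _ (isUnit_smul' g u.isUnit)

theorem prime_smul' (g : G) {a : A} (h : Prime a) : Prime (g • a) := by
  have := (MulEquiv.prime_iff (MulSemiringAction.toRingEquiv G A g)).mpr h
  simpa using this

/-- the decomposition group of the prime element `π` -/
def stab (π : A) : Subgroup G where
  carrier := {g | Associated (g • π) π}
  one_mem' := by
    show Associated ((1 : G) • π) π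
    rw [one_smul]
  mul_mem' := by
    intro g h hg hh
    simp only [Set.mem_setOf_eq] at hg hh ⊢
    rw [mul_smul]
    exact (associated_smul' g hh).trans hg
  inv_mem' := by
    intro g hg
    simp only [Set.mem_setOf_eq] at hg ⊢
    have := associated_smul' g⁻¹ hg
    rw [inv_smul_smul] at this
    exact this.symm

variable {B : Type*} [CommRing B] [Algebra B A] [SMulCommClass G B A]

/-- the subalgebra of elements fixed by the subgroup `D` -/
def fixedSub (D : Subgroup G) : Subalgebra B A where
  carrier := {a | ∀ h ∈ D, h • a = a}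
  mul_mem' := fun {a b} ha hb h hh => by rw [smul_mul', ha h hh, hb h hh]
  add_mem' := fun {a b} ha hb h hh => by rw [smul_add, ha h hh, hb h hh]
  algebraMap_mem' := fun r h _ => smul_algebraMap h r

end Action

theorem prod_dvd_of_pow_dvd {A ι : Type*} [CommRing A] [IsDomain A] [UniqueFactorizationMonoid A]
    (f : ι → A) (hf : ∀ i, Prime (f i)) (b : A) (e : ℕ) :
    ∀ (S : Finset ι),
      (∀ i ∈ S, ∀ T : Finset ι, T ⊆ S → (∀ j ∈ T, Associated (f j) (f i)) → T.card ≤ e) →
      (∀ i ∈ S, f i ^ e ∣ b) → ∏ i ∈ S, f i ∣ b := by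
  classical
  intro S
  induction S using Finset.strongInduction with
  | H S ih =>
    intro hcount hb
    rcases S.eq_empty_or_nonempty with rfl | ⟨i₀, hi₀⟩
    · simp
    · have hsplit : ∏ i ∈ S, f i = (∏ i ∈ S.filter (fun j => Associated (f j) (f i₀)), f i) *
          ∏ i ∈ S.filter (fun j => ¬ Associated (f j) (f i₀)), f i :=
        (Finset.prod_filter_mul_prod_filter_not S _ f).symm
      rw [hsplit]
      have h0 : ∏ i ∈ S.filter (fun j => Associated (f j) (f i₀)), f i ∣ b := by
        have h1 : ∏ i ∈ S.filter (fun j => Associated (f j) (f i₀)), f i ∣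
            ∏ _i ∈ S.filter (fun j => Associated (f j) (f i₀)), f i₀ :=
          Finset.prod_dvd_prod_of_dvd _ _ (fun j hj => ((Finset.mem_filter.mp hj).2).dvd)
        rw [Finset.prod_const] at h1
        have h2 : (S.filter (fun j => Associated (f j) (f i₀))).card ≤ e :=
          hcount i₀ hi₀ _ (Finset.filter_subset _ _) (fun j hj => (Finset.mem_filter.mp hj).2)
        exact h1.trans ((pow_dvd_pow _ h2).trans (hb i₀ hi₀))
      have hlt : S.filter (fun j => ¬ Associated (f j) (f i₀)) ⊂ S := by
        refine Finset.filter_ssubset.mpr ⟨i₀, hi₀, ?_⟩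
        exact not_not.mpr (Associated.refl _)
      have h1 : ∏ i ∈ S.filter (fun j => ¬ Associated (f j) (f i₀)), f i ∣ b := by
        apply ih _ hlt
        · intro i hi T hT hTi
          exact hcount i (Finset.mem_filter.mp hi).1 T (hT.trans (Finset.filter_subset _ _)) hTi
        · intro i hi
          exact hb i (Finset.mem_filter.mp hi).1
      have hrel : IsRelPrime (∏ i ∈ S.filter (fun j => Associated (f j) (f i₀)), f i)
          (∏ i ∈ S.filter (fun j => ¬ Associated (f j) (f i₀)), f i) := by
        apply IsRelPrime.prod_left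
        intro j hj
        apply IsRelPrime.prod_right
        intro k hk
        rw [(hf j).irreducible.isRelPrime_iff_not_dvd]
        intro hdvd
        have hjk := (hf j).associated_of_dvd (hf k) hdvd
        exact (Finset.mem_filter.mp hk).2 (hjk.symm.trans (Finset.mem_filter.mp hj).2)
      exact hrel.mul_dvd h0 h1

theorem prod_smul_dvd {A G : Type*} [CommRing A] [IsDomain A] [UniqueFactorizationMonoid A]
    [Group G] [Fintype G] [MulSemiringAction G A] (π : A) (hπ : Prime π) (b : A)
    (hb : ∀ g : G, (g • π) ^ Nat.card (stab (G := G) π) ∣ b) : (∏ g : G, g • π) ∣ b := by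
  classical
  apply prod_dvd_of_pow_dvd (fun g : G => g • π) (fun g => prime_smul' g hπ) b
    (Nat.card (stab (G := G) π)) Finset.univ
  · intro g _ T _ hT
    haveI : Fintype (stab (G := G) π) := Fintype.ofFinite _
    rw [Nat.card_eq_fintype_card, ← Finset.card_univ,
      ← Finset.card_map ⟨Subtype.val, Subtype.val_injective⟩]
    apply Finset.card_le_card_of_injOn (fun g' => g⁻¹ * g')
    · intro g' hg'
      simp only [Finset.coe_map, Function.Embedding.coeFn_mk, Set.mem_image, Finset.coe_univ,
        Set.mem_univ, true_and]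
      refine ⟨⟨g⁻¹ * g', ?_⟩, rfl⟩
      show Associated ((g⁻¹ * g') • π) π
      have := associated_smul' g⁻¹ (hT g' hg')
      rwa [smul_smul, inv_smul_smul] at this
    · intro x _ y _ hxy
      exact mul_left_cancel hxy
  · intro g _
    exact hb g

theorem pow_card_dvd {A B G : Type*} [CommRing A] [IsDomain A] [UniqueFactorizationMonoid A]
    [CommRing B] [Algebra B A] [Module.Finite B A] [Group G] [Finite G]
    [MulSemiringAction G A] [FaithfulSMul G A] [SMulCommClass G B A]
    (π : A) (hπ : Prime π) (D : Subgroup G) (hD : ∀ h ∈ D, Associated (h • π) π)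
    (hres : ∀ a : A, ∃ b c : B, ¬ π ∣ algebraMap B A c ∧
      π ∣ algebraMap B A c * a - algebraMap B A b)
    (t : A) (htD : ∀ h ∈ D, h • t = t) (htπ : π ∣ t) : π ^ Nat.card D ∣ t := by
  classical
  by_cases ht0 : t = 0
  · rw [ht0]; exact dvd_zero _
  obtain ⟨m, u, hu, ht⟩ := WfDvdMonoid.max_power_factor ht0 hπ.irreducible
  by_contra hnot
  have hm : m < Nat.card D := by
    by_contra hge
    push_neg at hge
    exact hnot (ht ▸ Dvd.dvd.mul_right (pow_dvd_pow π hge) u)
  haveI : Fintype D := Fintype.ofFinite D
  have hcard : Nat.card D = Fintype.card D := Nat.card_eq_fintype_card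
  -- the fixed subalgebra
  let C : Subalgebra B A := fixedSub (B := B) D
  have hCmem : ∀ x : A, x ∈ C ↔ ∀ h ∈ D, h • x = x := fun x => Iff.rfl
  -- (i) the norm of u
  let y : A := ∏ h : D, (h : G) • u
  have hyC : y ∈ C := by
    rw [hCmem]
    intro h' hh'
    show h' • (∏ h : D, (h : G) • u) = ∏ h : D, (h : G) • u
    rw [Finset.smul_prod']
    exact Fintype.prod_equiv (Equiv.mulLeft (⟨h', hh'⟩ : D)) _ _ (fun h => by simp [mul_smul])
  have hyπ : ¬ π ∣ y := by
    intro hdvd
    obtain ⟨h, -, hh⟩ := (Prime.dvd_finsetProd_iff hπ _).mp hdvd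
    have h1 : (h : G)⁻¹ • π ∣ u := by
      have := smul_dvd_smul' (h : G)⁻¹ hh
      rwa [inv_smul_smul] at this
    have h2 : Associated ((h : G)⁻¹ • π) π := hD _ (D.inv_mem h.2)
    exact hu (h2.symm.dvd.trans h1)
  obtain ⟨y', hy'⟩ : u ∣ y := by
    have := Finset.dvd_prod_of_mem (fun h : D => (h : G) • u) (Finset.mem_univ (1 : D))
    simpa using this
  have hty : π ^ m * y = t * y' := by rw [ht, hy']; ring
  -- (ii) expansion in powers of π
  have hstep : ∀ n : ℕ, ∀ a : A, ∃ (S : B) (β : ℕ → B) (a' : A), ¬ π ∣ algebraMap B A S ∧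
      algebraMap B A S * a
        = ∑ i ∈ Finset.range n, algebraMap B A (β i) * π ^ i + π ^ n * a' := by
    intro n
    induction n with
    | zero =>
      intro a
      exact ⟨1, fun _ => 0, a, by rw [map_one]; exact hπ.not_dvd_one, by simp⟩
    | succ n ih =>
      intro a
      obtain ⟨S, β, a', hS, hSa⟩ := ih a
      obtain ⟨b, c, hc, a'', ha''⟩ := hres a'
      refine ⟨c * S, fun i => if i = n then b else c * β i, a'', ?_, ?_⟩
      · rw [map_mul]
        intro hdvd
        rcases hπ.dvd_or_dvd hdvd with h | h
        · exact hc h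
        · exact hS h
      · rw [Finset.sum_range_succ]
        simp only [eq_self_iff_true, if_true]
        have hsum : ∑ i ∈ Finset.range n, algebraMap B A (if i = n then b else c * β i) * π ^ i
            = algebraMap B A c * ∑ i ∈ Finset.range n, algebraMap B A (β i) * π ^ i := by
          rw [Finset.mul_sum]
          apply Finset.sum_congr rfl
          intro i hi
          rw [if_neg (ne_of_lt (Finset.mem_range.mp hi)), map_mul, mul_assoc]
        rw [hsum, map_mul]
        linear_combination (algebraMap B A c) * hSa + π ^ n * ha''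
  -- (iii) Nakayama over C
  haveI : Module.Finite C A := Module.Finite.of_restrictScalars_finite B C A
  let tC : C := ⟨t, htD⟩
  let I : Ideal C := Ideal.span {tC}
  let N' : Submodule C A := Submodule.span C (Set.range fun i : Fin m => π ^ (i : ℕ))
  let T : Submodule C A := I • (⊤ : Submodule C A)
  have hpoint : ∀ a : A, ∃ s : C, ¬ π ∣ (s : A) ∧ s • a ∈ N' ⊔ T := by
    intro a
    obtain ⟨S, β, a', hS, hSa⟩ := hstep m a
    refine ⟨⟨y * algebraMap B A S, C.mul_mem hyC (C.algebraMap_mem S)⟩, ?_, ?_⟩
    · intro hdvd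
      rcases hπ.dvd_or_dvd hdvd with h | h
      · exact hyπ h
      · exact hS h
    · have hcalc : (⟨y * algebraMap B A S, C.mul_mem hyC (C.algebraMap_mem S)⟩ : C) • a
          = (∑ i : Fin m, (⟨y * algebraMap B A (β i),
              C.mul_mem hyC (C.algebraMap_mem (β i))⟩ : C) • π ^ (i : ℕ))
            + tC • (y' * a') := by
        show y * algebraMap B A S * a
          = (∑ i : Fin m, (y * algebraMap B A (β i)) * π ^ (i : ℕ)) + t * (y' * a')
        rw [mul_assoc, hSa, ← Fin.sum_univ_eq_sum_range (fun i => algebraMap B A (β i) * π ^ i) m,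
          mul_add, Finset.mul_sum]
        congr 1
        · apply Finset.sum_congr rfl
          intro i _
          ring
        · linear_combination a' * hty
      rw [hcalc]
      apply Submodule.add_mem
      · exact Submodule.mem_sup_left (Submodule.sum_mem _ fun i _ =>
          Submodule.smul_mem _ _ (Submodule.subset_span ⟨i, rfl⟩))
      · exact Submodule.mem_sup_right
          (Submodule.smul_mem_smul (Ideal.subset_span rfl) Submodule.mem_top)
  obtain ⟨n, gen, hgen⟩ := Module.Finite.exists_fin (R := C) (M := A)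
  choose sj hsjπ hsj using fun j => hpoint (gen j)
  let s : C := ∏ j, sj j
  have hsπ : ¬ π ∣ (s : A) := by
    intro hdvd
    have hcoe : (s : A) = ∏ j, (sj j : A) := map_prod (Subalgebra.val C) _ _
    rw [hcoe] at hdvd
    obtain ⟨j, -, hj⟩ := (Prime.dvd_finsetProd_iff hπ _).mp hdvd
    exact hsjπ j hj
  have hsA : ∀ a : A, s • a ∈ N' ⊔ T := by
    intro a
    have ha : a ∈ Submodule.span C (Set.range gen) := by rw [hgen]; exact Submodule.mem_top
    induction ha using Submodule.span_induction with
    | mem x hx =>
      obtain ⟨j, rfl⟩ := hx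
      have hsplit : s = (∏ j' ∈ Finset.univ.erase j, sj j') * sj j :=
        (Finset.prod_erase_mul _ _ (Finset.mem_univ j)).symm
      rw [hsplit, mul_smul]
      exact Submodule.smul_mem _ _ (hsj j)
    | zero => rw [smul_zero]; exact Submodule.zero_mem _
    | add x z _ _ hx hz => rw [smul_add]; exact Submodule.add_mem _ hx hz
    | smul c x _ hx => rw [smul_comm]; exact Submodule.smul_mem _ _ hx
  let f : Module.End C (A ⧸ N') := algebraMap C (Module.End C (A ⧸ N')) s
  have hrange : LinearMap.range f ≤ I • (⊤ : Submodule C (A ⧸ N')) := by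
    rintro _ ⟨x, rfl⟩
    obtain ⟨a, rfl⟩ := Submodule.Quotient.mk_surjective N' x
    have hfa : f (Submodule.Quotient.mk a) = Submodule.Quotient.mk (s • a) := rfl
    rw [hfa]
    obtain ⟨n₁, hn₁, w, hw, hsum⟩ := Submodule.mem_sup.mp (hsA a)
    rw [← hsum, Submodule.Quotient.mk_add, (Submodule.Quotient.mk_eq_zero N').mpr hn₁, zero_add]
    have hmap : Submodule.map N'.mkQ T ≤ I • (⊤ : Submodule C (A ⧸ N')) := by
      show Submodule.map N'.mkQ (I • ⊤) ≤ _
      rw [Submodule.map_smul'']
      exact Submodule.smul_mono le_rfl le_top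
    exact hmap (Submodule.mem_map_of_mem hw)
  obtain ⟨P, hPmonic, -, hPcoeff, hPf⟩ :=
    LinearMap.exists_monic_and_natDegree_eq_and_coeff_mem_pow_and_aeval_eq_zero C f I hrange
  let s' : C := Polynomial.aeval s P
  have hs'Q : ∀ x : A ⧸ N', s' • x = 0 := by
    intro x
    have h1 : Polynomial.aeval f P = algebraMap C (Module.End C (A ⧸ N')) s' :=
      Polynomial.aeval_algebraMap_apply (Module.End C (A ⧸ N')) s P
    have h2 : algebraMap C (Module.End C (A ⧸ N')) s' x = s' • x := rfl
    rw [← h2, ← h1, hPf]
    rfl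
  have hs'π : ¬ π ∣ (s' : A) := by
    intro hdvd
    have hdecomp : s' = (∑ k ∈ Finset.range P.natDegree, P.coeff k • s ^ k)
        + s ^ P.natDegree := by
      show Polynomial.aeval s P = _
      rw [Polynomial.aeval_eq_sum_range, Finset.sum_range_succ, hPmonic.coeff_natDegree, one_smul]
    have hI : (∑ k ∈ Finset.range P.natDegree, P.coeff k • s ^ k) ∈ I := by
      apply Ideal.sum_mem
      intro k hk
      have hk' : P.natDegree - k ≠ 0 := by
        have := Finset.mem_range.mp hk
        omega
      rw [smul_eq_mul]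
      exact Ideal.mul_mem_right _ _ (Ideal.pow_le_self hk' (hPcoeff k))
    obtain ⟨r, hr⟩ := Ideal.mem_span_singleton'.mp hI
    have h1 : π ∣ ((∑ k ∈ Finset.range P.natDegree, P.coeff k • s ^ k : C) : A) := by
      rw [← hr]
      show π ∣ (r : A) * t
      exact Dvd.dvd.mul_left htπ _
    have hA : (s' : A) = ((∑ k ∈ Finset.range P.natDegree, P.coeff k • s ^ k : C) : A)
        + (s : A) ^ P.natDegree := by
      rw [hdecomp, Subalgebra.coe_add, Subalgebra.coe_pow]
    have h2 : π ∣ (s : A) ^ P.natDegree := by
      have h3 : (s : A) ^ P.natDegree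
          = (s' : A) - ((∑ k ∈ Finset.range P.natDegree, P.coeff k • s ^ k : C) : A) := by
        rw [hA]; ring
      rw [h3]
      exact dvd_sub hdvd h1
    exact hsπ (hπ.dvd_of_dvd_pow h2)
  have hs'A : ∀ a : A, ∃ c : Fin m → C, ∑ i, c i • π ^ (i : ℕ) = s' • a := by
    intro a
    have h0 := hs'Q (Submodule.Quotient.mk a)
    rw [← Submodule.Quotient.mk_smul, Submodule.Quotient.mk_eq_zero] at h0
    exact (Submodule.mem_span_range_iff_exists_fun C).mp h0
  -- (iv) independence of characters
  let F := FractionRing A
  let σ : D → (A →* F) := fun h =>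
    ((algebraMap A F).comp (MulSemiringAction.toRingHom G A (h : G))).toMonoidHom
  have hσ : ∀ (h : D) (a : A), σ h a = algebraMap A F ((h : G) • a) := fun h a => rfl
  have hσinj : Function.Injective σ := by
    intro h h' hh
    apply Subtype.ext
    apply FaithfulSMul.eq_of_smul_eq_smul (α := A)
    intro a
    apply IsFractionRing.injective A F
    rw [← hσ, ← hσ, hh]
  have hLI : LinearIndependent F (fun h : D => (σ h : A → F)) :=
    (linearIndependent_monoidHom A F).comp σ hσinj
  let w : D → (Fin m → F) := fun h i => algebraMap A F ((h : G) • π ^ (i : ℕ))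
  have hnot : ¬ LinearIndependent F w := by
    intro hli
    have := hli.fintype_card_le_finrank
    rw [Module.finrank_fin_fun] at this
    omega
  obtain ⟨lam, hlam, h₀, hlam₀⟩ := Fintype.not_linearIndependent_iff.mp hnot
  have hlami : ∀ i : Fin m, ∑ h : D, lam h * algebraMap A F ((h : G) • π ^ (i : ℕ)) = 0 := by
    intro i
    have := congrFun hlam i
    simpa [Finset.sum_apply, Pi.smul_apply, smul_eq_mul, w] using this
  have hs'0 : algebraMap A F (s' : A) ≠ 0 := by
    intro h0
    have h1 : (s' : A) = 0 := (IsFractionRing.injective A F) (by rw [h0, map_zero])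
    exact hs'π (h1 ▸ dvd_zero π)
  have hzero : ∀ a : A, ∑ h : D, lam h * algebraMap A F ((h : G) • a) = 0 := by
    intro a
    obtain ⟨c, hc⟩ := hs'A a
    have hc' : (s' : A) * a = ∑ i, (c i : A) * π ^ (i : ℕ) := hc.symm
    have key : ∀ h : D, algebraMap A F (s' : A) * algebraMap A F ((h : G) • a)
        = ∑ i, algebraMap A F (c i : A) * algebraMap A F ((h : G) • π ^ (i : ℕ)) := by
      intro h
      have e1 : (h : G) • ((s' : A) * a) = (s' : A) * ((h : G) • a) := by
        rw [smul_mul', (hCmem _).mp s'.2 h h.2]
      have e2 : (h : G) • (∑ i, (c i : A) * π ^ (i : ℕ))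
          = ∑ i, (c i : A) * ((h : G) • π ^ (i : ℕ)) := by
        rw [Finset.smul_sum]
        apply Finset.sum_congr rfl
        intro i _
        rw [smul_mul', (hCmem _).mp (c i).2 h h.2]
      rw [← map_mul, ← e1, hc', e2, map_sum]
      simp only [map_mul]
    have hprod : algebraMap A F (s' : A) * ∑ h : D, lam h * algebraMap A F ((h : G) • a) = 0 := by
      rw [Finset.mul_sum]
      have hsw : ∀ h : D, algebraMap A F (s' : A) * (lam h * algebraMap A F ((h : G) • a))
          = ∑ i, algebraMap A F (c i : A) * (lam h * algebraMap A F ((h : G) • π ^ (i : ℕ))) := by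
        intro h
        rw [mul_left_comm, key h, Finset.mul_sum]
        apply Finset.sum_congr rfl
        intro i _
        ring
      rw [Finset.sum_congr rfl (fun h _ => hsw h), Finset.sum_comm]
      apply Finset.sum_eq_zero
      intro i _
      rw [← Finset.mul_sum, hlami i, mul_zero]
    exact (mul_eq_zero.mp hprod).resolve_left hs'0
  have hall := Fintype.linearIndependent_iff.mp hLI lam (by
    funext a
    simp only [Finset.sum_apply, Pi.smul_apply, smul_eq_mul, Pi.zero_apply]
    rw [← hzero a]
    apply Finset.sum_congr rfl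
    intro h _
    rw [hσ])
  exact hlam₀ (hall h₀)

/-- Let A be a Noetherian factorial local domain and G a finite group acting faithfully on A by ring
automorphisms; let B be a ring with an injective ring map to A whose image is exactly the ring of
invariants of G, and assume A is a finite B-module. Let q be a prime ideal of B of height one and p
a prime ideal of A lying over q such that the extension of residue fields of the local rings B_q and
A_p is trivial (every element of A is congruent modulo p to some c⁻¹b with b, c in B, c outside q).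
Then q is a principal ideal; and if moreover B/q is a regular local ring, then B is a regular local
ring. -/
theorem result
    {A B G : Type u} [CommRing A] [IsDomain A] [IsNoetherianRing A] [IsLocalRing A]
    [UniqueFactorizationMonoid A]
    [CommRing B] [Algebra B A] [FaithfulSMul B A] [Module.Finite B A]
    [Group G] [Finite G] [MulSemiringAction G A] [FaithfulSMul G A] [SMulCommClass G B A]
    [Algebra.IsInvariant B A G]
    (q : Ideal B) [q.IsPrime] (hq : q.height = 1) (p : Ideal A) [p.IsPrime] [p.LiesOver q]
    (hres : ∀ a : A, ∃ b c : B, c ∉ q ∧ algebraMap B A c * a - algebraMap B A b ∈ p) :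
    Submodule.IsPrincipal q ∧ (IsRegularLocalRing (B ⧸ q) → IsRegularLocalRing B) := by
  classical
  haveI : Fintype G := Fintype.ofFinite G
  have hinj : Function.Injective (algebraMap B A) := FaithfulSMul.algebraMap_injective B A
  haveI : IsDomain B := hinj.isDomain (algebraMap B A)
  have hq0 : q ≠ ⊥ := by
    rintro rfl
    rw [Ideal.height_bot] at hq
    exact zero_ne_one hq
  have hqp : q = p.comap (algebraMap B A) := Ideal.LiesOver.over (P := p) (p := q)
  have hp0 : p ≠ ⊥ := by
    intro hp
    apply hq0
    rw [hqp, hp, Ideal.comap_bot_of_injective _ hinj]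
  obtain ⟨π, hπp, hπ⟩ := Ideal.IsPrime.exists_mem_prime_of_ne_bot (inferInstance : p.IsPrime) hp0
  have hpπ : p = Ideal.span {π} := by
    by_contra hne
    have hle : Ideal.span {π} ≤ p := (Ideal.span_singleton_le_iff_mem _).mpr hπp
    haveI hPrime : (Ideal.span {π}).IsPrime := (Ideal.span_singleton_prime hπ.ne_zero).mpr hπ
    obtain ⟨x, hxp, hxπ⟩ := SetLike.exists_of_lt (lt_of_le_of_ne hle (Ne.symm hne))
    have hlt : (Ideal.span {π}).comap (algebraMap B A) < p.comap (algebraMap B A) :=
      Ideal.comap_lt_comap_of_integral_mem_sdiff hle ⟨hxp, hxπ⟩ (Algebra.IsIntegral.isIntegral x)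
    rw [← hqp] at hlt
    haveI : q.FiniteHeight := ⟨Or.inr (by rw [hq]; exact ENat.one_ne_top)⟩
    haveI : ((Ideal.span {π}).comap (algebraMap B A)).IsPrime := Ideal.comap_isPrime _ _
    have hh := Ideal.height_strict_mono_of_isPrime_of_isPrime hlt
    rw [hq, Order.lt_one_iff, Ideal.height_eq_zero_iff,
      IsDomain.minimalPrimes_eq_singleton_bot] at hh
    exact Ideal.comap_ne_bot_of_integral_mem hπ.ne_zero (Ideal.mem_span_singleton_self π)
      (Algebra.IsIntegral.isIntegral π) (Set.mem_singleton_iff.mp hh)
  have hπq : ∀ c : B, π ∣ algebraMap B A c ↔ c ∈ q := by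
    intro c
    rw [hqp, Ideal.mem_comap, hpπ, Ideal.mem_span_singleton]
  have hres' : ∀ a : A, ∃ b c : B, ¬ π ∣ algebraMap B A c ∧
      π ∣ algebraMap B A c * a - algebraMap B A b := by
    intro a
    obtain ⟨b, c, hc, h⟩ := hres a
    refine ⟨b, c, fun hd => hc ((hπq c).mp hd), ?_⟩
    rw [hpπ] at h
    exact Ideal.mem_span_singleton.mp h
  have hX : ∀ b ∈ q, π ^ Nat.card (stab (G := G) π) ∣ algebraMap B A b := fun b hb =>
    pow_card_dvd (B := B) π hπ (stab (G := G) π) (fun h hh => hh) hres' (algebraMap B A b)
      (fun h _ => smul_algebraMap h b) ((hπq b).mpr hb)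
  have hνinv : ∀ g : G, g • (∏ g' : G, g' • π) = ∏ g' : G, g' • π := by
    intro g
    rw [Finset.smul_prod']
    exact Fintype.prod_equiv (Equiv.mulLeft g) _ _ (fun h => by simp [mul_smul])
  obtain ⟨νB, hνB⟩ := Algebra.IsInvariant.isInvariant (A := B) (B := A) (G := G)
    (∏ g' : G, g' • π) hνinv
  have hν0 : (∏ g' : G, g' • π) ≠ 0 :=
    Finset.prod_ne_zero_iff.mpr (fun g _ => (prime_smul' g hπ).ne_zero)
  have hνB0 : νB ≠ 0 := by
    rintro rfl
    rw [map_zero] at hνB
    exact hν0 hνB.symm
  have hνBq : νB ∈ q := by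
    rw [← hπq, hνB]
    have := Finset.dvd_prod_of_mem (fun g : G => g • π) (Finset.mem_univ (1 : G))
    simpa using this
  have hqν : q = Ideal.span {νB} := by
    apply le_antisymm
    · intro b hb
      have hdvd : (∏ g' : G, g' • π) ∣ algebraMap B A b := by
        apply prod_smul_dvd π hπ
        intro g
        have := smul_dvd_smul' g (hX b hb)
        rwa [smul_pow', smul_algebraMap] at this
      obtain ⟨c, hc⟩ := hdvd
      have hcinv : ∀ g : G, g • c = c := by
        intro g
        have h1 : g • algebraMap B A b = g • ((∏ g' : G, g' • π) * c) := by rw [hc]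
        rw [smul_algebraMap, smul_mul', hνinv g, hc] at h1
        exact (mul_left_cancel₀ hν0 h1).symm
      obtain ⟨cB, hcB⟩ := Algebra.IsInvariant.isInvariant (A := B) (B := A) (G := G) c hcinv
      rw [Ideal.mem_span_singleton]
      refine ⟨cB, hinj ?_⟩
      rw [map_mul, hνB, hcB, hc]
    · rw [Ideal.span_le]
      simpa using hνBq
  refine ⟨⟨⟨νB, hqν⟩⟩, ?_⟩
  intro hreg
  have hunit : ∀ b : B, IsUnit (algebraMap B A b) → IsUnit b := by
    intro b hb
    by_contra hnu
    obtain ⟨m, hm, hbm⟩ := exists_max_ideal_of_mem_nonunits hnu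
    obtain ⟨Q, hQ, hQm⟩ := Ideal.exists_ideal_over_maximal_of_isIntegral (S := A) m
      (by rw [(RingHom.injective_iff_ker_eq_bot _).mp hinj]; exact bot_le)
    have hbQ : algebraMap B A b ∈ Q := by
      have : b ∈ Q.comap (algebraMap B A) := hQm ▸ hbm
      exact this
    exact hQ.ne_top (Ideal.eq_top_of_isUnit_mem _ hbQ hb)
  haveI : IsLocalRing B := IsLocalRing.of_nonunits_add (by
    intro a b ha hb
    rw [mem_nonunits_iff] at ha hb ⊢
    intro hab
    have ha' : algebraMap B A a ∈ nonunits A := fun h => ha (hunit a h)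
    have hb' : algebraMap B A b ∈ nonunits A := fun h => hb (hunit b h)
    have hsum := IsLocalRing.nonunits_add ha' hb'
    apply hsum
    rw [← map_add]
    exact hab.map _)
  haveI : IsNoetherianRing B := Groth.Agent.H75.EakinNagata.isNoetherianRing_of_finite hinj
  haveI : IsLocalRing (B ⧸ q) := hreg.toIsLocalRing
  haveI : IsNoetherianRing (B ⧸ q) := inferInstance
  have hdim : ringKrullDim (B ⧸ q) + 1 ≤ ringKrullDim B := by
    have h1 := ringKrullDim_quotient_succ_le_of_nonZeroDivisor
      (mem_nonZeroDivisors_of_ne_zero hνB0)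
    have h2 : ringKrullDim (B ⧸ q) = ringKrullDim (B ⧸ Ideal.span {νB}) :=
      ringKrullDim_eq_of_ringEquiv (Ideal.quotEquivOfEq hqν)
    rw [h2]
    exact h1
  obtain ⟨s, hscard, hsspan⟩ := Submodule.FG.exists_span_finset_card_eq_spanFinrank
    (p := IsLocalRing.maximalIdeal (B ⧸ q)) (IsNoetherian.noetherian _)
  have hqne : q ≠ ⊤ := Ideal.IsPrime.ne_top inferInstance
  have hqle : q ≤ IsLocalRing.maximalIdeal B := IsLocalRing.le_maximalIdeal hqne
  have hS : Ideal.span (Function.surjInv (Ideal.Quotient.mk_surjective (I := q)) '' (s : Set (B ⧸ q))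
      ∪ {νB}) = IsLocalRing.maximalIdeal B := by
    apply le_antisymm
    · rw [Ideal.span_le]
      rintro x (⟨z, hz, rfl⟩ | hx)
      · have hz' : z ∈ IsLocalRing.maximalIdeal (B ⧸ q) := by
          rw [← hsspan]
          exact Submodule.subset_span hz
        show Function.surjInv (Ideal.Quotient.mk_surjective (I := q)) z ∈ IsLocalRing.maximalIdeal B
        rw [IsLocalRing.mem_maximalIdeal, mem_nonunits_iff]
        intro hu
        have hu' := hu.map (Ideal.Quotient.mk q)
        rw [Function.surjInv_eq (Ideal.Quotient.mk_surjective (I := q)) z] at hu'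
        exact (IsLocalRing.mem_maximalIdeal _).mp hz' hu'
      · rw [Set.mem_singleton_iff] at hx
        rw [hx]
        exact hqle hνBq
    · intro x hx
      have hx' : Ideal.Quotient.mk q x ∈ IsLocalRing.maximalIdeal (B ⧸ q) := by
        rw [IsLocalRing.mem_maximalIdeal, mem_nonunits_iff]
        intro hu
        obtain ⟨z, hz⟩ := hu.exists_right_inv
        obtain ⟨z', rfl⟩ := Ideal.Quotient.mk_surjective z
        have h1 : x * z' - 1 ∈ q := by
          rw [← Ideal.Quotient.eq, map_mul, hz, map_one]
        have h2 : x * z' - 1 ∈ IsLocalRing.maximalIdeal B := hqle h1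
        have h3 : x * z' ∈ IsLocalRing.maximalIdeal B := Ideal.mul_mem_right _ _ hx
        have h4 : (1 : B) ∈ IsLocalRing.maximalIdeal B := by
          have := Ideal.sub_mem _ h3 h2
          simpa using this
        exact (Ideal.ne_top_iff_one _).mp (IsLocalRing.maximalIdeal.isMaximal B).ne_top h4
      rw [← hsspan] at hx'
      have himg : Ideal.span (s : Set (B ⧸ q)) = Ideal.map (Ideal.Quotient.mk q)
          (Ideal.span (Function.surjInv (Ideal.Quotient.mk_surjective (I := q)) ''
            (s : Set (B ⧸ q)))) := by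
        rw [Ideal.map_span, ← Set.image_comp]
        congr 1
        ext z
        simp [Function.surjInv_eq]
      have hx'' : x ∈ Ideal.comap (Ideal.Quotient.mk q) (Ideal.map (Ideal.Quotient.mk q)
          (Ideal.span (Function.surjInv (Ideal.Quotient.mk_surjective (I := q)) ''
            (s : Set (B ⧸ q))))) := by
        rw [Ideal.mem_comap, ← himg]
        exact hx'
      rw [Ideal.comap_map_of_surjective _ Ideal.Quotient.mk_surjective,
        ← RingHom.ker_eq_comap_bot, Ideal.mk_ker] at hx''
      exact (sup_le (Ideal.span_mono Set.subset_union_left)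
        (hqν.le.trans (Ideal.span_mono Set.subset_union_right))) hx''
  have hfin : (Function.surjInv (Ideal.Quotient.mk_surjective (I := q)) '' (s : Set (B ⧸ q))
      ∪ {νB}).Finite := (s.finite_toSet.image _).union (Set.finite_singleton _)
  have hle : (IsLocalRing.maximalIdeal B).spanFinrank ≤ s.card + 1 := by
    rw [← hS]
    refine (Submodule.spanFinrank_span_le_ncard_of_finite hfin).trans ?_
    refine (Set.ncard_union_le _ _).trans ?_
    rw [Set.ncard_singleton]
    have := Set.ncard_image_le (f := Function.surjInv (Ideal.Quotient.mk_surjective (I := q)))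
      s.finite_toSet
    rw [Set.ncard_coe_finset] at this
    omega
  apply IsRegularLocalRing.of_spanFinrank_maximalIdeal_le
  calc ((IsLocalRing.maximalIdeal B).spanFinrank : WithBot ℕ∞)
      ≤ ((s.card + 1 : ℕ) : WithBot ℕ∞) := by exact_mod_cast hle
    _ = ((IsLocalRing.maximalIdeal (B ⧸ q)).spanFinrank : WithBot ℕ∞) + 1 := by
        rw [hscard]; push_cast; rfl
    _ = ringKrullDim (B ⧸ q) + 1 := by rw [hreg.spanFinrank_maximalIdeal]
    _ ≤ ringKrullDim B := hdim

end Groth.Agent.S16547
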