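import Groth.Statements.S1655
import Groth.Agent.H73.PushforwardIso
import Groth.Agent.H73.NormalPoint
import Groth.Agent.H73.RestrictIso

set_option autoImplicit false
universe u
open CategoryTheory CategoryTheory.Limits AlgebraicGeometry
open Variety

namespace Groth.Agent.S1655

/-- Let X be a Noetherian integral scheme, Y an integral scheme, and f : Y → X a proper morphism that
restricts to an isomorphism over some nonempty open subscheme of X. If x is a point of X whose local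
ring is integrally closed and f is quasi-finite at some point lying over x, then f restricts to an
isomorphism over an open neighbourhood of x. -/
theorem result {X Y : Scheme.{u}} [IsNoetherian X] [IsIntegral X] [IsIntegral Y]
    (f : Y ⟶ X) [IsProper f] (W : X.Opens) (hW : (W : Set X).Nonempty) (hfW : IsIso (f ∣_ W))
    (x : X) (hx : IsIntegrallyClosed (X.presheaf.stalk x)) (y : Y) (hy : f.base y = x) (hq : f.QuasiFiniteAt y) :
    ∃ V : X.Opens, x ∈ V ∧ IsIso (f ∣_ V) := by
  classical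
  -- generic points
  have hξW : genericPoint X ∈ W := by
    obtain ⟨w, hw⟩ := hW
    exact ((genericPoint_spec X).mem_open_set_iff W.2).mpr ⟨w, trivial, hw⟩
  have hgen : f (genericPoint Y) = genericPoint X := by
    haveI := hfW
    let w : (W : Scheme) := ⟨genericPoint X, hξW⟩
    obtain ⟨y', hy'⟩ := (f ∣_ W).surjective w
    have h2 : f y'.1 = genericPoint X :=
      (morphismRestrict_base_coe f W y').symm.trans (congrArg Subtype.val hy')
    have h3 : f (genericPoint Y) ⤳ genericPoint X := by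
      rw [← h2]
      exact (genericPoint_specializes _).map f.continuous
    exact (h3.antisymm (genericPoint_specializes _)).eq
  have hξY : genericPoint Y ∈ f ⁻¹ᵁ W := by
    change f (genericPoint Y) ∈ W
    rw [hgen]; exact hξW
  have hbir : Function.Bijective (f.stalkMap (genericPoint Y)) := by
    haveI := hfW
    let yy : ((f ⁻¹ᵁ W : Y.Opens) : Scheme) := ⟨genericPoint Y, hξY⟩
    have h1 : IsIso ((f ∣_ W).stalkMap yy) := inferInstance
    have h2 : IsIso (f.stalkMap (genericPoint Y)) :=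
      ((MorphismProperty.isomorphisms CommRingCat).arrow_mk_iso_iff
        (morphismRestrictStalkMap f W yy)).mp h1
    exact ConcreteCategory.bijective_of_isIso _
  -- the fibre over `x` is `{y}`
  obtain ⟨V', hyV', hV'iso⟩ := f.exists_mem_and_isIso_morphismRestrict_toNormalization y hq
  have hfac : ∀ z : Y, f.fromNormalization (f.toNormalization z) = f z := fun z => by
    rw [← Scheme.Hom.comp_apply, f.toNormalization_fromNormalization]
  have hfib : ∀ z : Y, f z = x → z = y := by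
    intro z hz
    have h1 : f.toNormalization z = f.toNormalization y :=
      Groth.Agent.H73.NormalPoint.fromNormalization_injOn_fibre f hgen hbir x hx _ _
        ((hfac z).trans hz) ((hfac y).trans hy)
    have hzV' : z ∈ f.toNormalization ⁻¹ᵁ V' := by
      change f.toNormalization z ∈ V'; rw [h1]; exact hyV'
    haveI := hV'iso
    have h2 : (f.toNormalization ∣_ V') ⟨z, hzV'⟩ = (f.toNormalization ∣_ V') ⟨y, hyV'⟩ :=
      Subtype.ext ((morphismRestrict_base_coe f.toNormalization V' ⟨z, hzV'⟩).trans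
        (h1.trans (morphismRestrict_base_coe f.toNormalization V' ⟨y, hyV'⟩).symm))
    have h3 := (f.toNormalization ∣_ V').isOpenEmbedding.injective h2
    exact congrArg Subtype.val h3
  have hfin : (f ⁻¹' {x}).Finite :=
    (Set.finite_singleton y).subset fun z hz => hfib z hz
  obtain ⟨V₀, hxV₀, hV₀fin⟩ := exists_isFinite_morphismRestrict_of_finite_preimage_singleton f x hfin
  -- an affine neighbourhood
  obtain ⟨_, ⟨U₁, hU₁, rfl⟩, hxU₁, hU₁V₀⟩ :=
    X.isBasis_affineOpens.exists_subset_of_mem_open hxV₀ V₀.2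
  have hfinU₁ : IsFinite (f ∣_ U₁) :=
    Groth.Agent.H73.RestrictIso.isFinite_morphismRestrict_of_le f hV₀fin hU₁V₀
  have haff₁ : IsAffineOpen (f ⁻¹ᵁ U₁) :=
    Groth.Agent.H73.RestrictIso.isAffineOpen_preimage_of_isFinite f hfinU₁ hU₁
  have hfa : (f.app U₁).hom.Finite :=
    Groth.Agent.H73.RestrictIso.finite_app_of_isFinite f hfinU₁ hU₁
  -- uniform denominator
  have hstar : ∀ b : Γ(Y, f ⁻¹ᵁ U₁), ∃ s a : Γ(X, U₁), x ∈ X.basicOpen s ∧
      f.app U₁ s * b = f.app U₁ a := fun b =>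
    Groth.Agent.H73.NormalPoint.exists_mul_eq_of_isIntegralElem f hgen hbir x hx hU₁ hxU₁ b
      (hfa.to_isIntegral b)
  choose sf af hsf hsaf using hstar
  letI := (f.app U₁).hom.toAlgebra
  have hfg : (⊤ : Submodule Γ(X, U₁) Γ(Y, f ⁻¹ᵁ U₁)).FG := (show Module.Finite _ _ from hfa).fg_top
  obtain ⟨G, hG⟩ := hfg
  let s : Γ(X, U₁) := ∏ g ∈ G, sf g
  have hxs : x ∈ X.basicOpen s := by
    rw [Scheme.mem_basicOpen X s x hxU₁, map_prod, IsUnit.prod_iff]
    intro g _
    exact (Scheme.mem_basicOpen X (sf g) x hxU₁).mp (hsf g)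
  have hunif : ∀ b : Γ(Y, f ⁻¹ᵁ U₁), ∃ a : Γ(X, U₁), f.app U₁ s * b = f.app U₁ a := by
    intro b
    have hb : b ∈ Submodule.span Γ(X, U₁) (G : Set Γ(Y, f ⁻¹ᵁ U₁)) := by rw [hG]; trivial
    induction hb using Submodule.span_induction with
    | mem g hg =>
      obtain ⟨t, ht⟩ := Finset.dvd_prod_of_mem sf hg
      refine ⟨t * af g, ?_⟩
      change f.app U₁ s * g = _
      rw [show s = sf g * t from ht, map_mul, map_mul, ← hsaf g]
      ring
    | zero => exact ⟨0, by rw [mul_zero, map_zero]⟩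
    | add b₁ b₂ _ _ h₁ h₂ =>
      obtain ⟨a₁, ha₁⟩ := h₁
      obtain ⟨a₂, ha₂⟩ := h₂
      exact ⟨a₁ + a₂, by rw [mul_add, ha₁, ha₂, map_add]⟩
    | smul r b₁ _ h₁ =>
      obtain ⟨a₁, ha₁⟩ := h₁
      refine ⟨r * a₁, ?_⟩
      rw [Algebra.smul_def, map_mul, ← ha₁]
      change f.app U₁ s * (f.app U₁ r * b₁) = _
      ring
  -- the open `V`
  have hVU₁ : X.basicOpen s ≤ U₁ := X.basicOpen_le s
  have hVaff : IsAffineOpen (X.basicOpen s) := hU₁.basicOpen s
  have hfinV : IsFinite (f ∣_ X.basicOpen s) :=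
    Groth.Agent.H73.RestrictIso.isFinite_morphismRestrict_of_le f hV₀fin (hVU₁.trans hU₁V₀)
  have haffV : IsAffineOpen (f ⁻¹ᵁ X.basicOpen s) :=
    Groth.Agent.H73.RestrictIso.isAffineOpen_preimage_of_isFinite f hfinV hVaff
  refine ⟨X.basicOpen s, hxs,
    Groth.Agent.H73.RestrictIso.isIso_morphismRestrict_of_isIso_app f hVaff haffV ?_⟩
  rw [ConcreteCategory.isIso_iff_bijective]
  have hξV : genericPoint X ∈ X.basicOpen s :=
    ((genericPoint_spec X).mem_open_set_iff (X.basicOpen s).2).mpr ⟨x, trivial, hxs⟩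
  have hdom : f.base (genericPoint Y) ⤳ genericPoint X := by
    rw [show f.base (genericPoint Y) = genericPoint X from hgen]
  refine ⟨Groth.Agent.H73.PushforwardIso.app_injective f hdom _ hξV, fun t => ?_⟩
  have e : f ⁻¹ᵁ X.basicOpen s = Y.basicOpen (f.app U₁ s) := Scheme.preimage_basicOpen f s
  let i : f ⁻¹ᵁ X.basicOpen s ⟶ f ⁻¹ᵁ U₁ := homOfLE (f.preimage_mono hVU₁)
  let ρY : Γ(Y, f ⁻¹ᵁ U₁) →+* Γ(Y, f ⁻¹ᵁ X.basicOpen s) := (Y.presheaf.map i.op).hom
  let ρX : Γ(X, U₁) →+* Γ(X, X.basicOpen s) := (X.presheaf.map (homOfLE hVU₁).op).hom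
  have hnat : ∀ r : Γ(X, U₁), ρY (f.app U₁ r) = f.app (X.basicOpen s) (ρX r) := fun r =>
    (congr($(f.naturality (homOfLE hVU₁).op) r)).symm
  letI algY : Algebra Γ(Y, f ⁻¹ᵁ U₁) Γ(Y, f ⁻¹ᵁ X.basicOpen s) := ρY.toAlgebra
  haveI := haff₁.isLocalization_of_eq_basicOpen (f.app U₁ s) i e
  obtain ⟨⟨b, m⟩, hbm⟩ := IsLocalization.surj (Submonoid.powers (f.app U₁ s)) t
  obtain ⟨n, hn⟩ := m.2
  obtain ⟨a, ha⟩ := hunif b
  have hbm' : t * (ρY (f.app U₁ s)) ^ n = ρY b := by
    have := hbm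
    simp only at this
    rw [← hn, map_pow] at this
    exact this
  have hu : IsUnit (ρX s) := X.toRingedSpace.isUnit_res_basicOpen s
  obtain ⟨u, hu'⟩ := hu
  refine ⟨ρX a * ((u⁻¹ : (Γ(X, X.basicOpen s))ˣ) : Γ(X, X.basicOpen s)) ^ (n + 1), ?_⟩
  have h1 : f.app (X.basicOpen s) (ρX a) = t * (ρY (f.app U₁ s)) ^ (n + 1) := by
    rw [← hnat a, ← ha, map_mul, ← hbm']
    ring
  have h2 : ρY (f.app U₁ s) * f.app (X.basicOpen s) ((u⁻¹ : (Γ(X, X.basicOpen s))ˣ) :
      Γ(X, X.basicOpen s)) = 1 := by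
    rw [hnat s, ← map_mul, ← hu', Units.mul_inv, map_one]
  rw [map_mul, map_pow, h1, mul_assoc, ← mul_pow, h2, one_pow, mul_one]

end Groth.Agent.S1655
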