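import Groth.Statements.S16572
import Mathlib

set_option autoImplicit false
universe u
open CAlg

namespace Groth.Agent.S16572

open Polynomial

/-- index type: monic polynomials of positive degree -/
abbrev Idx (A : Type u) [CommRing A] := {P : Polynomial A // P.Monic ∧ 0 < P.natDegree}

/-- the ideal generated by the `P(X_P)` -/
noncomputable abbrev J (A : Type u) [CommRing A] : Ideal (MvPolynomial (Idx A) A) :=
  Ideal.span (Set.range fun P : Idx A => Polynomial.aeval (MvPolynomial.X (R := A) P) P.1)

/-- the ring `T` -/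
abbrev T (A : Type u) [CommRing A] := MvPolynomial (Idx A) A ⧸ J A

/-- the class of `X_P` -/
noncomputable def xi (A : Type u) [CommRing A] (P : Idx A) : T A :=
  Ideal.Quotient.mk (J A) (MvPolynomial.X P)

lemma aeval_xi (A : Type u) [CommRing A] (P : Idx A) : Polynomial.aeval (xi A P) P.1 = 0 := by
  have h1 : Polynomial.aeval (xi A P) P.1 =
      (Ideal.Quotient.mkₐ A (J A)) (Polynomial.aeval (MvPolynomial.X (R := A) P) P.1) :=
    Polynomial.aeval_algHom_apply (Ideal.Quotient.mkₐ A (J A)) (MvPolynomial.X P) P.1
  rw [h1, Ideal.Quotient.mkₐ_eq_mk, Ideal.Quotient.eq_zero_iff_mem]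
  exact Ideal.subset_span ⟨P, rfl⟩

lemma isIntegral_T (A : Type u) [CommRing A] (t : T A) : IsIntegral A t := by
  have h1 : Algebra.adjoin A (Set.range (xi A)) = ⊤ := by
    have h2 : (Algebra.adjoin A (Set.range (MvPolynomial.X : Idx A → MvPolynomial (Idx A) A))) = ⊤ :=
      MvPolynomial.adjoin_range_X
    have h3 : Set.range (xi A) = (Ideal.Quotient.mkₐ A (J A)) '' (Set.range MvPolynomial.X) := by
      rw [← Set.range_comp]
      rfl
    rw [h3, ← AlgHom.map_adjoin, h2, Algebra.map_top, AlgHom.range_eq_top]
    exact Ideal.Quotient.mkₐ_surjective A (J A)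
  have h4 : Algebra.adjoin A (Set.range (xi A)) ≤ integralClosure A (T A) := by
    apply Algebra.adjoin_le
    rintro _ ⟨P, rfl⟩
    exact ⟨P.1, P.2.1, by rw [← Polynomial.aeval_def]; exact aeval_xi A P⟩
  rw [h1] at h4
  exact h4 Algebra.mem_top

theorem surj (A : Type u) [CommRing A] :
    Function.Surjective (PrimeSpectrum.comap (algebraMap A (T A))) := by
  classical
  intro p
  let κ := p.asIdeal.ResidueField
  let Ω := AlgebraicClosure κ
  let φ₀ : A →+* Ω := (algebraMap κ Ω).comp (algebraMap A κ)
  have hroot : ∀ P : Idx A, ∃ r : Ω, Polynomial.eval₂ φ₀ r P.1 = 0 := by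
    intro P
    have hdeg : (P.1.map φ₀).degree ≠ 0 := by
      rw [Polynomial.degree_map_eq_of_leadingCoeff_ne_zero]
      · intro h0
        have h2 := Polynomial.natDegree_eq_of_degree_eq_some (n := 0) h0
        have h1 := P.2.2
        rw [h2] at h1
        exact lt_irrefl _ h1
      · rw [P.2.1.leadingCoeff, map_one]
        exact one_ne_zero
    obtain ⟨r, hr⟩ := IsAlgClosed.exists_root (P.1.map φ₀) hdeg
    exact ⟨r, by rwa [Polynomial.IsRoot, Polynomial.eval_map] at hr⟩
  choose r hr using hroot
  let Φ₀ : MvPolynomial (Idx A) A →+* Ω := MvPolynomial.eval₂Hom φ₀ r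
  have hΦ₀ : ∀ x ∈ J A, Φ₀ x = 0 := by
    intro x hx
    have : J A ≤ RingHom.ker Φ₀ := by
      rw [Ideal.span_le]
      rintro _ ⟨P, rfl⟩
      change Φ₀ (Polynomial.aeval (MvPolynomial.X P) P.1) = 0
      rw [Polynomial.aeval_def, Polynomial.hom_eval₂]
      have h1 : Φ₀.comp (algebraMap A (MvPolynomial (Idx A) A)) = φ₀ := by
        ext a
        simp [Φ₀, MvPolynomial.algebraMap_eq]
      have h2 : Φ₀ (MvPolynomial.X P) = r P := by simp [Φ₀]
      rw [h1, h2]
      exact hr P
    exact this hx
  let Φ : T A →+* Ω := Ideal.Quotient.lift (J A) Φ₀ hΦ₀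
  have hΦalg : ∀ a : A, Φ (algebraMap A (T A) a) = φ₀ a := by
    intro a
    have : algebraMap A (T A) a = Ideal.Quotient.mk (J A) (MvPolynomial.C a) := rfl
    rw [this, Ideal.Quotient.lift_mk]
    simp [Φ₀]
  refine ⟨⟨RingHom.ker Φ, RingHom.ker_isPrime Φ⟩, ?_⟩
  apply PrimeSpectrum.ext
  ext a
  change algebraMap A (T A) a ∈ RingHom.ker Φ ↔ a ∈ p.asIdeal
  rw [RingHom.mem_ker, hΦalg]
  change algebraMap κ Ω (algebraMap A κ a) = 0 ↔ _
  rw [map_eq_zero_iff _ (algebraMap κ Ω).injective]
  exact Ideal.algebraMap_residueField_eq_zero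

theorem main2 (A T : Type u) [CommRing A] [CommRing T] [Algebra A T]
    (hintA : ∀ t : T, IsIntegral A t)
    (hrootA : ∀ P : Polynomial A, P.Monic → 0 < P.natDegree → ∃ t : T, Polynomial.aeval t P = 0)
    (Q : Ideal T) [Q.IsPrime] :
    IsAlgClosed Q.ResidueField ∧
      (Ideal.ResidueField.map (Q.comap (algebraMap A T)) Q (algebraMap A T) rfl).IsIntegral := by
  classical
  set p : Ideal A := Q.comap (algebraMap A T) with hp
  set ι : p.ResidueField →+* Q.ResidueField :=
    Ideal.ResidueField.map p Q (algebraMap A T) rfl with hι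
  letI : Algebra p.ResidueField Q.ResidueField := ι.toAlgebra
  have hcomm : (algebraMap p.ResidueField Q.ResidueField).comp (algebraMap A p.ResidueField) =
      (algebraMap T Q.ResidueField).comp (algebraMap A T) := by
    ext a
    exact Ideal.ResidueField.map_algebraMap p Q (algebraMap A T) rfl a
  -- images of elements of T are integral
  have hintT : ∀ t : T, IsIntegral p.ResidueField (algebraMap T Q.ResidueField t) := by
    intro t
    exact IsIntegral.map_of_comp_eq (algebraMap A p.ResidueField)
      (algebraMap T Q.ResidueField) hcomm (hintA t)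
  have hint : ∀ z : Q.ResidueField, IsIntegral p.ResidueField z := by
    intro z
    obtain ⟨x, y, -, rfl⟩ := @IsFractionRing.div_surjective (T ⧸ Q) _ Q.ResidueField _ _ _ z
    obtain ⟨x, rfl⟩ := Ideal.Quotient.mk_surjective x
    obtain ⟨y, rfl⟩ := Ideal.Quotient.mk_surjective y
    have hx : algebraMap (T ⧸ Q) Q.ResidueField (Ideal.Quotient.mk Q x) =
        algebraMap T Q.ResidueField x := by
      rw [← Ideal.Quotient.algebraMap_eq, ← IsScalarTower.algebraMap_apply]
    have hy : algebraMap (T ⧸ Q) Q.ResidueField (Ideal.Quotient.mk Q y) =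
        algebraMap T Q.ResidueField y := by
      rw [← Ideal.Quotient.algebraMap_eq, ← IsScalarTower.algebraMap_apply]
    rw [hx, hy, div_eq_mul_inv]
    exact (hintT x).mul (hintT y).inv
  have hιint : ι.IsIntegral := fun z => hint z
  refine ⟨?_, hιint⟩
  haveI : Algebra.IsIntegral p.ResidueField Q.ResidueField := ⟨hint⟩
  haveI : Algebra.IsAlgebraic p.ResidueField Q.ResidueField := Algebra.IsIntegral.isAlgebraic
  have hroots : ∀ F : (p.ResidueField)[X], F.Monic → Irreducible F →
      ∃ x : Q.ResidueField, Polynomial.aeval x F = 0 := by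
    intro F hFm hFirr
    set d := F.natDegree with hd
    have hdpos : 0 < d := Polynomial.natDegree_pos_iff_degree_pos.mpr
      (Polynomial.degree_pos_of_irreducible hFirr)
    -- common denominator
    obtain ⟨⟨b, hb⟩, hbint⟩ := IsLocalization.exist_integer_multiples
      (nonZeroDivisors (A ⧸ p)) (Finset.range d) (fun i => F.coeff i)
    obtain ⟨b₀, rfl⟩ := Ideal.Quotient.mk_surjective b
    set β : p.ResidueField := algebraMap A p.ResidueField b₀ with hβ
    have hβne : β ≠ 0 := by
      rw [hβ, Ne, Ideal.algebraMap_residueField_eq_zero]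
      intro hmem
      have : (Ideal.Quotient.mk p b₀) = 0 := Ideal.Quotient.eq_zero_iff_mem.mpr hmem
      rw [this] at hb
      exact zero_notMem_nonZeroDivisors hb
    have hβcoeff : ∀ i ∈ Finset.range d, β * F.coeff i ∈ Set.range (algebraMap A p.ResidueField) := by
      intro i hi
      obtain ⟨c, hc⟩ := hbint i hi
      obtain ⟨c₀, rfl⟩ := Ideal.Quotient.mk_surjective c
      refine ⟨c₀, ?_⟩
      have h1 : algebraMap (A ⧸ p) p.ResidueField (Ideal.Quotient.mk p c₀) =
          algebraMap A p.ResidueField c₀ := by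
        rw [← Ideal.Quotient.algebraMap_eq, ← IsScalarTower.algebraMap_apply]
      have h2 : algebraMap (A ⧸ p) p.ResidueField (Ideal.Quotient.mk p b₀) = β := by
        rw [← Ideal.Quotient.algebraMap_eq, ← IsScalarTower.algebraMap_apply]
      rw [← h1, hc]
      change (Ideal.Quotient.mk p b₀) • F.coeff i = β * F.coeff i
      rw [Algebra.smul_def, h2]
    -- the scaled polynomial lifts to a monic polynomial over A
    have hlifts : Polynomial.scaleRoots F β ∈ Polynomial.lifts (algebraMap A p.ResidueField) := by
      rw [Polynomial.lifts_iff_coeff_lifts]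
      intro n
      rw [Polynomial.coeff_scaleRoots]
      rcases lt_trichotomy n d with hn | hn | hn
      · have h1 : F.coeff n * β ^ (F.natDegree - n) =
            (β * F.coeff n) * β ^ (d - n - 1) := by
          rw [← hd]
          obtain ⟨k, hk⟩ : ∃ k, d - n = k + 1 := ⟨d - n - 1, by omega⟩
          have hk' : d - n - 1 = k := by omega
          rw [hk', hk, pow_succ]
          ring
        rw [h1]
        obtain ⟨c, hc⟩ := hβcoeff n (Finset.mem_range.mpr hn)
        exact ⟨c * b₀ ^ (d - n - 1), by rw [map_mul, map_pow, hc]⟩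
      · rw [hn, hd, Nat.sub_self, pow_zero, mul_one, Polynomial.coeff_natDegree, hFm.leadingCoeff]
        exact ⟨1, map_one _⟩
      · rw [Polynomial.coeff_eq_zero_of_natDegree_lt (by rw [← hd]; exact hn), zero_mul]
        exact ⟨0, map_zero _⟩
    have hmonic : (Polynomial.scaleRoots F β).Monic := (Polynomial.monic_scaleRoots_iff β).mpr hFm
    obtain ⟨G, hGmap, hGdeg, hGmonic⟩ :=
      Polynomial.lifts_and_natDegree_eq_and_monic hlifts hmonic
    have hGpos : 0 < G.natDegree := by
      rw [hGdeg, Polynomial.natDegree_scaleRoots]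
      exact hdpos
    obtain ⟨t₀, ht₀⟩ := hrootA G hGmonic hGpos
    set η : Q.ResidueField := algebraMap T Q.ResidueField t₀ with hη
    -- η is a root of the scaled polynomial
    have hη0 : Polynomial.eval₂ (algebraMap p.ResidueField Q.ResidueField) η
        (Polynomial.scaleRoots F β) = 0 := by
      rw [← hGmap, Polynomial.eval₂_map, hcomm, ← Polynomial.hom_eval₂]
      have := ht₀
      rw [Polynomial.aeval_def] at this
      change algebraMap T Q.ResidueField (Polynomial.eval₂ (algebraMap A T) t₀ G) = 0
      rw [this, map_zero]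
    set β' : Q.ResidueField := algebraMap p.ResidueField Q.ResidueField β with hβ'
    have hβ'ne : β' ≠ 0 := by
      rw [hβ', Ne, map_eq_zero_iff _ (algebraMap p.ResidueField Q.ResidueField).injective]
      exact hβne
    refine ⟨η / β', ?_⟩
    have h5 := Polynomial.scaleRoots_eval₂_mul (p := F)
      (algebraMap p.ResidueField Q.ResidueField) (η / β') β
    rw [← hβ', mul_div_cancel₀ _ hβ'ne, hη0] at h5
    rw [Polynomial.aeval_def]
    have h6 : β' ^ F.natDegree ≠ 0 := pow_ne_zero _ hβ'ne
    exact (mul_eq_zero.mp h5.symm).resolve_left h6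
  haveI : IsAlgClosure p.ResidueField Q.ResidueField := IsAlgClosure.of_exists_root hroots
  exact IsAlgClosure.isAlgClosed p.ResidueField

/-- Let A be a commutative ring and T the quotient of the polynomial ring over A in indeterminates X_P,
one for each monic polynomial P over A of positive degree, by the ideal generated by the elements
P(X_P). Then the map on prime spectra Spec T → Spec A is surjective, and for every prime ideal Q of
T, with p its contraction to A, the residue field of Q is algebraically closed and integral over the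
residue field of p under the induced map of residue fields (so it is an algebraic closure of it). -/
theorem result (A : Type u) [CommRing A] :
    Function.Surjective (PrimeSpectrum.comap (algebraMap A (MvPolynomial {P : Polynomial A // P.Monic ∧ 0 < P.natDegree} A ⧸
      Ideal.span (Set.range fun P : {P : Polynomial A // P.Monic ∧ 0 < P.natDegree} =>
        Polynomial.aeval (MvPolynomial.X (R := A) P) P.1)))) ∧
    ∀ (Q : Ideal (MvPolynomial {P : Polynomial A // P.Monic ∧ 0 < P.natDegree} A ⧸
      Ideal.span (Set.range fun P : {P : Polynomial A // P.Monic ∧ 0 < P.natDegree} =>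
        Polynomial.aeval (MvPolynomial.X (R := A) P) P.1))) [Q.IsPrime],
      IsAlgClosed Q.ResidueField ∧
      (Ideal.ResidueField.map (Q.comap (algebraMap A (MvPolynomial {P : Polynomial A // P.Monic ∧ 0 < P.natDegree} A ⧸
      Ideal.span (Set.range fun P : {P : Polynomial A // P.Monic ∧ 0 < P.natDegree} =>
        Polynomial.aeval (MvPolynomial.X (R := A) P) P.1)))) Q (algebraMap A (MvPolynomial {P : Polynomial A // P.Monic ∧ 0 < P.natDegree} A ⧸
      Ideal.span (Set.range fun P : {P : Polynomial A // P.Monic ∧ 0 < P.natDegree} =>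
        Polynomial.aeval (MvPolynomial.X (R := A) P) P.1))) rfl).IsIntegral := by
  exact ⟨surj A, fun Q _ => main2 A (T A) (isIntegral_T A) (fun P hP hP' => ⟨xi A ⟨P, hP, hP'⟩, aeval_xi A ⟨P, hP, hP'⟩⟩) Q⟩

end Groth.Agent.S16572
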