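import Groth.Statements.S16573
import Mathlib

set_option autoImplicit false
universe u
open CategoryTheory AlgebraicGeometry
open EtCore

open CategoryTheory.Limits

namespace Groth.Agent.S16573

open Polynomial

section Ring

variable (A : Type u) [CommRing A]

/-- the product of algebraic closures of all residue fields -/
abbrev Prd : Type u := ∀ p : PrimeSpectrum A, AlgebraicClosure p.asIdeal.ResidueField

/-- integral closure of `A` in the product -/
abbrev B : Type u := ↥(integralClosure A (Prd A))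

theorem exists_root_B (q : (B A)[X]) (hq : q.Monic) (hd : q.natDegree ≠ 0) :
    ∃ b : B A, q.eval b = 0 := by
  classical
  let ι : B A →+* Prd A := algebraMap (B A) (Prd A)
  have hroot : ∀ p : PrimeSpectrum A, ∃ r : AlgebraicClosure p.asIdeal.ResidueField,
      (q.map ((Pi.evalRingHom _ p).comp ι)).IsRoot r := by
    intro p
    apply IsAlgClosed.exists_root
    intro h
    apply hd
    have h1 : (q.map ((Pi.evalRingHom _ p).comp ι)).natDegree = q.natDegree :=
      hq.natDegree_map _
    rw [← h1]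
    exact Polynomial.natDegree_eq_zero_iff_degree_le_zero.mpr h.le
  choose r hr using hroot
  have hr0 : eval₂ ι (r : Prd A) q = 0 := by
    funext p
    have h1 := hr p
    rw [Polynomial.IsRoot.def, Polynomial.eval_map] at h1
    have h2 := Polynomial.hom_eval₂ q ι (Pi.evalRingHom _ p) r
    exact h2.trans h1
  have hint : IsIntegral (B A) (r : Prd A) := ⟨q, hq, hr0⟩
  have hintA : IsIntegral A (r : Prd A) := isIntegral_trans (R := A) (A := B A) r hint
  refine ⟨⟨r, hintA⟩, ?_⟩
  have h3 : ι (q.eval (⟨r, hintA⟩ : B A)) = 0 := by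
    rw [Polynomial.eval, Polynomial.hom_eval₂, RingHom.comp_id]
    exact hr0
  exact Subtype.ext h3

theorem isAlgClosed_of_fractionRing (D K : Type u) [CommRing D] [IsDomain D] [Field K]
    [Algebra D K] [IsFractionRing D K]
    (H : ∀ q : D[X], q.Monic → q.natDegree ≠ 0 → ∃ d : D, q.eval d = 0) : IsAlgClosed K := by
  apply IsAlgClosed.of_exists_root
  intro P hP hirr
  have hn : P.natDegree ≠ 0 :=
    (Polynomial.natDegree_pos_iff_degree_pos.mpr (Polynomial.degree_pos_of_irreducible hirr)).ne'
  obtain ⟨b, hb⟩ := IsLocalization.exist_integer_multiples_of_finset (nonZeroDivisors D) P.coeffs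
  have hs0 : algebraMap D K b ≠ 0 :=
    map_ne_zero_of_mem_nonZeroDivisors (algebraMap D K) (IsFractionRing.injective D K) b.2
  have hlift : P.scaleRoots (algebraMap D K b) ∈ Polynomial.lifts (algebraMap D K) := by
    rw [Polynomial.lifts_iff_coeff_lifts]
    intro i
    rw [Polynomial.coeff_scaleRoots]
    rcases lt_trichotomy i P.natDegree with hi | hi | hi
    · by_cases hc : P.coeff i = 0
      · rw [hc, zero_mul]
        exact ⟨0, map_zero _⟩
      · obtain ⟨c, hc'⟩ := hb (P.coeff i) (Polynomial.coeff_mem_coeffs hc)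
        obtain ⟨k, hk⟩ : ∃ k, P.natDegree - i = k + 1 := ⟨P.natDegree - i - 1, by omega⟩
        refine ⟨c * b ^ k, ?_⟩
        rw [map_mul, map_pow, hc', Algebra.smul_def, hk, pow_succ]
        ring
    · subst hi
      rw [Nat.sub_self, pow_zero, mul_one, hP.coeff_natDegree]
      exact ⟨1, map_one _⟩
    · rw [Polynomial.coeff_eq_zero_of_natDegree_lt hi, zero_mul]
      exact ⟨0, map_zero _⟩
  have hmonic : (P.scaleRoots (algebraMap D K b)).Monic :=
    (Polynomial.monic_scaleRoots_iff _).mpr hP
  obtain ⟨Q, hQmap, hQdeg, hQmonic⟩ :=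
    Polynomial.lifts_and_natDegree_eq_and_monic hlift hmonic
  have hQn : Q.natDegree ≠ 0 := by
    rw [hQdeg, Polynomial.natDegree_scaleRoots]
    exact hn
  obtain ⟨d, hd⟩ := H Q hQmonic hQn
  refine ⟨algebraMap D K d / algebraMap D K b, ?_⟩
  have h1 : (P.scaleRoots (algebraMap D K b)).eval (algebraMap D K d) = 0 := by
    rw [← hQmap, Polynomial.eval_map, Polynomial.eval₂_at_apply, hd, map_zero]
  have h2 := Polynomial.scaleRoots_eval_mul P (algebraMap D K d / algebraMap D K b)
    (algebraMap D K b)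
  rw [mul_div_cancel₀ _ hs0, h1] at h2
  exact (mul_eq_zero.mp h2.symm).resolve_left (pow_ne_zero _ hs0)

theorem exists_root_quotient (q : PrimeSpectrum (B A)) (Q : (B A ⧸ q.asIdeal)[X])
    (hQ : Q.Monic) (hd : Q.natDegree ≠ 0) : ∃ d, Q.eval d = 0 := by
  have hl : Q ∈ Polynomial.lifts (Ideal.Quotient.mk q.asIdeal) := by
    rw [Polynomial.lifts_iff_coeff_lifts]
    intro n
    exact Ideal.Quotient.mk_surjective _
  obtain ⟨Q', hmap, hdeg, hmon⟩ := Polynomial.lifts_and_natDegree_eq_and_monic hl hQ
  obtain ⟨b, hb⟩ := exists_root_B A Q' hmon (by rw [hdeg]; exact hd)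
  refine ⟨Ideal.Quotient.mk _ b, ?_⟩
  rw [← hmap, Polynomial.eval_map, Polynomial.eval₂_at_apply, hb, map_zero]

theorem isAlgClosed_residueField (q : PrimeSpectrum (B A)) :
    IsAlgClosed q.asIdeal.ResidueField :=
  isAlgClosed_of_fractionRing (B A ⧸ q.asIdeal) q.asIdeal.ResidueField
    (exists_root_quotient A q)

theorem comap_surjective (p : PrimeSpectrum A) :
    ∃ q : PrimeSpectrum (B A), PrimeSpectrum.comap (algebraMap A (B A)) q = p := by
  let π : B A →+* AlgebraicClosure p.asIdeal.ResidueField :=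
    (Pi.evalRingHom _ p).comp (algebraMap (B A) (Prd A))
  refine ⟨⟨RingHom.ker π, RingHom.ker_isPrime π⟩, ?_⟩
  apply PrimeSpectrum.ext
  ext x
  show algebraMap A (B A) x ∈ RingHom.ker π ↔ x ∈ p.asIdeal
  rw [RingHom.mem_ker]
  have h1 : π (algebraMap A (B A) x) =
      algebraMap p.asIdeal.ResidueField (AlgebraicClosure p.asIdeal.ResidueField)
        (algebraMap A p.asIdeal.ResidueField x) := by
    show algebraMap A (AlgebraicClosure p.asIdeal.ResidueField) x = _
    exact IsScalarTower.algebraMap_apply A p.asIdeal.ResidueField (AlgebraicClosure _) x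
  rw [h1, map_eq_zero_iff _ (algebraMap p.asIdeal.ResidueField
    (AlgebraicClosure p.asIdeal.ResidueField)).injective]
  exact Ideal.algebraMap_residueField_eq_zero

end Ring

theorem isIntegral_comp {K L M : CommRingCat.{u}} (a : K ⟶ L) (b : L ⟶ M)
    (ha : a.hom.IsIntegral) (hb : b.hom.IsIntegral) : (a ≫ b).hom.IsIntegral := by
  rw [CommRingCat.hom_comp]
  exact RingHom.IsIntegral.trans _ _ ha hb

theorem isIntegral_of_isIso {K L : CommRingCat.{u}} (a : K ⟶ L) [IsIso a] : a.hom.IsIntegral :=
  RingHom.isIntegral_of_surjective _ (ConcreteCategory.bijective_of_isIso a).2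

theorem integral_of_comp {X' Y X : Scheme.{u}} (a : Y ⟶ X') [IsOpenImmersion a] (F : X' ⟶ X)
    (G : Y ⟶ X) (h : a ≫ F = G) (y : Y) (hG : (G.residueFieldMap y).hom.IsIntegral) :
    (F.residueFieldMap (a y)).hom.IsIntegral := by
  subst h
  rw [Scheme.residueFieldMap_comp] at hG
  have : F.residueFieldMap (a y) =
      (F.residueFieldMap (a y) ≫ a.residueFieldMap y) ≫ inv (a.residueFieldMap y) := by simp
  rw [this]
  exact isIntegral_comp _ _ hG (isIntegral_of_isIso (inv (a.residueFieldMap y)))

theorem integral_comp_openImmersion {Y Z X : Scheme.{u}} (G₁ : Y ⟶ Z) (b : Z ⟶ X)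
    [IsOpenImmersion b] (y : Y) (h1 : (G₁.residueFieldMap y).hom.IsIntegral) :
    ((G₁ ≫ b).residueFieldMap y).hom.IsIntegral := by
  rw [Scheme.residueFieldMap_comp]
  exact isIntegral_comp _ _ (isIntegral_of_isIso (b.residueFieldMap (G₁ y))) h1

theorem residueFieldMap_isIntegral {A B : CommRingCat.{u}} (φ : A ⟶ B) (hφ : φ.hom.IsIntegral)
    (y : Spec B) : ((Spec.map φ).residueFieldMap y).hom.IsIntegral := by
  let evB : B ⟶ (Spec B).residueField y :=
    (Scheme.ΓSpecIso B).inv ≫ (Spec B).presheaf.germ ⊤ y trivial ≫ (Spec B).residue y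
  let evA : A ⟶ (Spec A).residueField (Spec.map φ y) :=
    (Scheme.ΓSpecIso A).inv ≫ (Spec A).presheaf.germ ⊤ (Spec.map φ y) trivial ≫
      (Spec A).residue (Spec.map φ y)
  have hnat : evA ≫ (Spec.map φ).residueFieldMap y = φ ≫ evB := by
    simp only [evA, evB, Category.assoc]
    rw [Scheme.residue_residueFieldMap, Scheme.Hom.germ_stalkMap_assoc,
      Scheme.ΓSpecIso_inv_naturality_assoc]
    rfl
  have hc : ((Spec.map φ).residueFieldMap y).hom.comp evA.hom = evB.hom.comp φ.hom := by
    have := congrArg CommRingCat.Hom.hom hnat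
    simpa using this
  have hintb : ∀ b : B, ((Spec.map φ).residueFieldMap y).hom.IsIntegralElem (evB.hom b) := by
    intro b
    obtain ⟨m, hm, hmb⟩ := hφ b
    refine ⟨m.map evA.hom, hm.map _, ?_⟩
    rw [Polynomial.eval₂_map, hc, ← Polynomial.hom_eval₂, hmb, map_zero]
  let e := Scheme.Spec.residueFieldIso B y
  have hev : ∀ b : B, evB.hom b = e.inv.hom (algebraMap B y.asIdeal.ResidueField b) := by
    intro b
    have := Scheme.Spec.algebraMap_residueFieldIso_inv B y
    exact (congrArg (fun t => t.hom b) this).symm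
  intro z
  obtain ⟨a, c, hc0, hac⟩ := IsFractionRing.div_surjective (A := B ⧸ y.asIdeal) (e.hom.hom z)
  obtain ⟨a', rfl⟩ := Ideal.Quotient.mk_surjective a
  obtain ⟨c', rfl⟩ := Ideal.Quotient.mk_surjective c
  have hz : z = evB.hom a' / evB.hom c' := by
    rw [hev, hev, ← map_div₀]
    have h1 : algebraMap (B ⧸ y.asIdeal) y.asIdeal.ResidueField (Ideal.Quotient.mk _ a') =
        algebraMap B y.asIdeal.ResidueField a' := rfl
    have h2 : algebraMap (B ⧸ y.asIdeal) y.asIdeal.ResidueField (Ideal.Quotient.mk _ c') =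
        algebraMap B y.asIdeal.ResidueField c' := rfl
    rw [← h1, ← h2, hac]
    exact (congrArg (fun t => t.hom z) e.hom_inv_id).symm
  rw [hz, div_eq_mul_inv]
  letI := ((Spec.map φ).residueFieldMap y).hom.toAlgebra
  exact IsIntegral.mul (hintb a') (IsIntegral.inv (hintb c'))


/-- For a quasi-compact quasi-separated scheme X there are an affine scheme X' and a quasi-compact
surjective morphism f : X' → X such that for every point x' of X' the residue field of x' is
algebraically closed and integral over the residue field of f(x') under the induced map of residue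
fields, that is, an algebraic closure of it. -/
theorem result
    (X : Scheme.{u}) [CompactSpace X] [QuasiSeparatedSpace X] :
    ∃ (X' : Scheme.{u}) (f : X' ⟶ X), IsAffine X' ∧ QuasiCompact f ∧ Surjective f ∧
      ∀ x' : X', IsAlgClosed (X'.residueField x') ∧ (f.residueFieldMap x').hom.IsIntegral := by
  classical
  let 𝒰 : X.OpenCover := X.affineCover.finiteSubcover
  haveI : ∀ i, IsAffine (𝒰.X i) := fun i => by
    dsimp [𝒰]
    infer_instance
  let R : 𝒰.I₀ → CommRingCat.{u} := fun i => Γ(𝒰.X i, ⊤)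
  let BB : 𝒰.I₀ → CommRingCat.{u} := fun i => CommRingCat.of (B (R i))
  let φ : ∀ i, R i ⟶ BB i := fun i => CommRingCat.ofHom (algebraMap (R i) (B (R i)))
  have hφ : ∀ i, (φ i).hom.IsIntegral := fun i => by
    have : Algebra.IsIntegral (R i) (B (R i)) := inferInstance
    exact fun b => Algebra.IsIntegral.isIntegral b
  let j : ∀ i, Spec (R i) ⟶ X := fun i => (𝒰.X i).isoSpec.inv ≫ 𝒰.f i
  let g : ∀ i, Spec (BB i) ⟶ X := fun i => Spec.map (φ i) ≫ j i
  refine ⟨∐ fun i => Spec (BB i), Sigma.desc g, inferInstance, inferInstance, ⟨?_⟩, ?_⟩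
  · intro x
    obtain ⟨i, z, hz⟩ := 𝒰.exists_eq x
    obtain ⟨q, hq⟩ := comap_surjective (R i) ((𝒰.X i).isoSpec.hom z)
    refine ⟨Sigma.ι (fun i => Spec (BB i)) i q, ?_⟩
    rw [← Scheme.Hom.comp_apply, Sigma.ι_desc]
    show (𝒰.f i) ((𝒰.X i).isoSpec.inv (Spec.map (φ i) q)) = x
    have h1 : Spec.map (φ i) q = (𝒰.X i).isoSpec.hom z := hq
    rw [h1, ← Scheme.Hom.comp_apply, ← Scheme.Hom.comp_apply, Iso.hom_inv_id_assoc]
    exact hz
  · intro x'
    obtain ⟨i, y, rfl⟩ := (sigmaOpenCover fun i => Spec (BB i)).exists_eq x'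
    constructor
    · haveI := isAlgClosed_residueField (R i) y
      let e1 := asIso ((Sigma.ι (fun i => Spec (BB i)) i).residueFieldMap y)
      let e2 := Scheme.Spec.residueFieldIso (BB i) y
      exact IsAlgClosed.of_ringEquiv _ _ ((e2.symm ≪≫ e1.symm).commRingCatIsoToRingEquiv)
    · refine integral_of_comp (Sigma.ι (fun i => Spec (BB i)) i) (Sigma.desc g) (g i)
        (Sigma.ι_desc g i) y ?_
      exact integral_comp_openImmersion (Spec.map (φ i)) (j i) y
        (residueFieldMap_isIntegral (φ i) (hφ i) y)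

end Groth.Agent.S16573
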