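import Groth.Statements.S16574
import Groth.Agent.H73.FiniteExt2

set_option autoImplicit false
universe u
open CategoryTheory AlgebraicGeometry
open AffSch

namespace Groth.Agent.S16574

/-- Let A be a commutative ring, U a quasi-compact open subscheme of Spec A and U' → U a finite
morphism. Then there exist a finite A-algebra B and a morphism U' → Spec B such that the square
formed by U' → U, U' → Spec B, Spec B → Spec A and the inclusion of U is cartesian; in particular U'
→ Spec B is the open immersion of the preimage of U. (If U contains the complement of the closed set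
of an ideal I then this preimage contains the complement of the closed set of IB; that clause is
automatic and omitted.) -/
theorem result
    (A : Type u) [CommRing A] (U : (Spec (CommRingCat.of A)).Opens) (hU : IsCompact (U : Set (Spec (CommRingCat.of A))))
    (U' : Scheme.{u}) (g : U' ⟶ (U : Scheme.{u})) [IsFinite g] :
    ∃ (B : Type u) (_ : CommRing B) (_ : Algebra A B) (i : U' ⟶ Spec (CommRingCat.of B)),
      Module.Finite A B ∧ IsPullback i g (Spec.map (CommRingCat.ofHom (algebraMap A B))) U.ι := by
  obtain ⟨V', π, i₀, hπ, hpb⟩ :=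
    Groth.Agent.H73.FiniteExt.exists_finite_extension U hU g
  have haff : IsAffine V' := isAffine_of_isAffineHom π
  let φ : CommRingCat.of A ⟶ Γ(V', ⊤) := (Scheme.ΓSpecIso (CommRingCat.of A)).inv ≫ π.appTop
  have hfacπ : V'.isoSpec.hom ≫ Spec.map φ = π := by
    have h1 := Scheme.toSpecΓ_naturality π
    rw [← SpecMap_ΓSpecIso_hom] at h1
    have h2 : π = V'.toSpecΓ ≫ Spec.map π.appTop ≫
        Spec.map (Scheme.ΓSpecIso (CommRingCat.of A)).inv := by
      rw [← Category.assoc, ← h1, Category.assoc, ← Spec.map_comp, Iso.inv_hom_id, Spec.map_id,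
        Category.comp_id]
    rw [Spec.map_comp]
    exact h2.symm
  have hfin : IsFinite (Spec.map φ) := by
    have : Spec.map φ = V'.isoSpec.inv ≫ π := by rw [← hfacπ, Iso.inv_hom_id_assoc]
    rw [this]; infer_instance
  have hφ : φ.hom.Finite := (IsFinite.SpecMap_iff φ).mp hfin
  letI : Algebra A Γ(V', ⊤) := φ.hom.toAlgebra
  refine ⟨Γ(V', ⊤), inferInstance, inferInstance, i₀ ≫ V'.isoSpec.hom, hφ, ?_⟩
  have hmap : Spec.map (CommRingCat.ofHom (algebraMap A Γ(V', ⊤))) = Spec.map φ := rfl
  rw [hmap]
  refine IsPullback.of_iso hpb (Iso.refl _) V'.isoSpec (Iso.refl _) (Iso.refl _) ?_ ?_ ?_ ?_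
  · simp
  · simp
  · simp [hfacπ]
  · simp

end Groth.Agent.S16574
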