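import Groth.Statements.S9242
import Groth.Agent.H47.HensCompletion
import Groth.Agent.H47.HensNoeth
import Groth.Agent.H47.DimOneComp
import Groth.Agent.Lead.CompleteNoetherian

set_option autoImplicit false
universe u
open Brnch

namespace Groth.Agent.S9242

/-- Let A be a Noetherian local ring with henselization S and completion A^, let ψ : S → A^ be the ring
map compatible with the structure maps from A, and let q be a minimal prime of A^ with dim(A^/q) =
1. Then q is the radical of the extension along ψ of some minimal prime of S. -/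
theorem result (A S : Type u) [CommRing A]
    [IsLocalRing A] [IsNoetherianRing A] [CommRing S] [IsLocalRing S] [Algebra A S]
    [IsLocalHom (algebraMap A S)] [Hensel.IsHenselization A S]
    (ψ : S →+* AdicCompletion (IsLocalRing.maximalIdeal A) A)
    (hψ : ψ.comp (algebraMap A S) = algebraMap A (AdicCompletion (IsLocalRing.maximalIdeal A) A))
    (q : Ideal (AdicCompletion (IsLocalRing.maximalIdeal A) A))
    (hq : q ∈ minimalPrimes (AdicCompletion (IsLocalRing.maximalIdeal A) A))
    (hdim : ringKrullDim (AdicCompletion (IsLocalRing.maximalIdeal A) A ⧸ q) = 1) :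
    ∃ q' ∈ minimalPrimes S, (Ideal.map ψ q').radical = q := by
  classical
  haveI hlocC : IsLocalHom (algebraMap A (AdicCompletion (IsLocalRing.maximalIdeal A) A)) := by
    refine ((IsLocalRing.local_hom_TFAE
      (algebraMap A (AdicCompletion (IsLocalRing.maximalIdeal A) A))).out 0 2).mpr ?_
    rw [AdicCompletion.maximalIdeal_eq_map]
  haveI hNC : IsNoetherianRing (AdicCompletion (IsLocalRing.maximalIdeal A) A) :=
    Groth.Agent.Lead.isNoetherianRing_adicCompletion (IsLocalRing.maximalIdeal A)
      (IsLocalRing.maximalIdeal A).fg_of_isNoetherianRing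
  letI : Algebra S (AdicCompletion (IsLocalRing.maximalIdeal A) A) := ψ.toAlgebra
  haveI : IsScalarTower A S (AdicCompletion (IsLocalRing.maximalIdeal A) A) :=
    IsScalarTower.of_algebraMap_eq (fun a => (RingHom.congr_fun hψ a).symm)
  haveI := Groth.Agent.H47.HensCompletion.flat_completion A S
  haveI := Groth.Agent.H47.HensCompletion.isLocalHom_completion A S
  have hI := Groth.Agent.H47.HensNoeth.isIndEtaleLocal_of_isHenselization A S
  haveI : IsNoetherianRing S := hI.isNoetherianRing
  haveI : HenselianLocalRing S := Hensel.IsHenselization.henselian (R := A) (S := S)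
  have hmax : (IsLocalRing.maximalIdeal S).map
      (algebraMap S (AdicCompletion (IsLocalRing.maximalIdeal A) A)) =
      IsLocalRing.maximalIdeal (AdicCompletion (IsLocalRing.maximalIdeal A) A) := by
    rw [← hI.map_max, Ideal.map_map, ← IsScalarTower.algebraMap_eq,
      ← AdicCompletion.maximalIdeal_eq_map]
  have hres : ∀ t : AdicCompletion (IsLocalRing.maximalIdeal A) A, ∃ s : S,
      t - algebraMap S (AdicCompletion (IsLocalRing.maximalIdeal A) A) s ∈
        IsLocalRing.maximalIdeal (AdicCompletion (IsLocalRing.maximalIdeal A) A) := by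
    intro t
    obtain ⟨z, hz⟩ := (AdicCompletion.residueField_map_bijective A).2 (IsLocalRing.residue _ t)
    obtain ⟨a, rfl⟩ := IsLocalRing.residue_surjective z
    refine ⟨algebraMap A S a, ?_⟩
    rw [← IsScalarTower.algebraMap_apply, ← IsLocalRing.residue_eq_zero_iff, map_sub, ← hz,
      IsLocalRing.ResidueField.map_residue, sub_self]
  have hqp : q.IsPrime := hq.1.1
  have hqne : q ≠ IsLocalRing.maximalIdeal (AdicCompletion (IsLocalRing.maximalIdeal A) A) := by
    intro h
    have hmaxq : q.IsMaximal := by rw [h]; infer_instance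
    have hF := (Ideal.Quotient.maximal_ideal_iff_isField_quotient q).mp hmaxq
    rw [ringKrullDim_eq_zero_of_isField hF] at hdim
    exact zero_ne_one hdim
  have hdim' : ∀ P : Ideal (AdicCompletion (IsLocalRing.maximalIdeal A) A), P.IsPrime → q < P →
      P = IsLocalRing.maximalIdeal (AdicCompletion (IsLocalRing.maximalIdeal A) A) := by
    intro P hP hqP
    by_contra hPne
    have hPlt : P < IsLocalRing.maximalIdeal (AdicCompletion (IsLocalRing.maximalIdeal A) A) :=
      lt_of_le_of_ne (IsLocalRing.le_maximalIdeal hP.ne_top) hPne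
    rw [ringKrullDim_quotient] at hdim
    have hle : Order.krullDim
        (PrimeSpectrum.zeroLocus (R := AdicCompletion (IsLocalRing.maximalIdeal A) A) q) ≤ 1 :=
      hdim.le
    rw [Order.krullDim_le_one_iff] at hle
    let a0 : PrimeSpectrum.zeroLocus (R := AdicCompletion (IsLocalRing.maximalIdeal A) A) q :=
      ⟨⟨q, hqp⟩, (PrimeSpectrum.mem_zeroLocus _ _).mpr (SetLike.coe_subset_coe.mpr le_rfl)⟩
    let a1 : PrimeSpectrum.zeroLocus (R := AdicCompletion (IsLocalRing.maximalIdeal A) A) q :=
      ⟨⟨P, hP⟩, (PrimeSpectrum.mem_zeroLocus _ _).mpr (SetLike.coe_subset_coe.mpr hqP.le)⟩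
    let a2 : PrimeSpectrum.zeroLocus (R := AdicCompletion (IsLocalRing.maximalIdeal A) A) q :=
      ⟨⟨IsLocalRing.maximalIdeal _, inferInstance⟩, (PrimeSpectrum.mem_zeroLocus _ _).mpr
        (SetLike.coe_subset_coe.mpr (IsLocalRing.le_maximalIdeal hqp.ne_top))⟩
    have h01 : a0 < a1 := Subtype.mk_lt_mk.mpr ((PrimeSpectrum.asIdeal_lt_asIdeal _ _).mp hqP)
    have h12 : a1 < a2 := Subtype.mk_lt_mk.mpr ((PrimeSpectrum.asIdeal_lt_asIdeal _ _).mp hPlt)
    rcases hle a1 with h | h
    · exact not_isMin_of_lt h01 h
    · exact not_isMax_of_lt h12 h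
  refine ⟨q.comap (algebraMap S (AdicCompletion (IsLocalRing.maximalIdeal A) A)),
    Groth.Agent.H47.HensCompletion.comap_mem_minimalPrimes hq, ?_⟩
  have hψalg : algebraMap S (AdicCompletion (IsLocalRing.maximalIdeal A) A) = ψ :=
    RingHom.algebraMap_toAlgebra ψ
  have := Groth.Agent.H47.DimOneComp.radical_map_comap_eq hmax hres hq hqne hdim'
  rw [hψalg] at this
  rw [hψalg]
  exact this

end Groth.Agent.S9242
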