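import Groth.Statements.S16575
import Groth.Agent.H23.C2Gen
import Groth.Agent.H23.C2Cpl
import Groth.Agent.S9242
import Groth.Agent.H3.HInt
import Groth.Agent.Lead.CompleteNoetherian

set_option autoImplicit false
universe u
open CAlg

namespace Groth.Agent.S16575


/-- Let A be a Noetherian local ring, S a henselization of A, S' a strict henselization of A, A' the
integral closure of the reduction of A in its total ring of fractions, and Â the completion of A at
its maximal ideal. The following are equivalent: (i) for every maximal ideal m' of A' the local ring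
of A' at m' has Krull dimension at least 2; (ii) every irreducible component of Spec S has dimension
at least 2; (ii bis) every irreducible component of Spec S' has dimension at least 2; (iii) every
irreducible component of Spec Â has dimension at least 2. (A closed subscheme Z of a Noetherian
scheme X is called c_2 when these hold at the local ring of every point of Z; condition (i) at all
points of Z says that the preimage of Z in the normalization has codimension at least 2.) -/
theorem result
    (A : Type u) [CommRing A] [IsNoetherianRing A] [IsLocalRing A]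
    (S : Type u) [CommRing S] [IsLocalRing S] [Algebra A S] [IsLocalHom (algebraMap A S)]
    [Hensel.IsHenselization A S]
    (S' : Type u) [CommRing S'] [IsLocalRing S'] [Algebra A S'] [IsLocalHom (algebraMap A S')]
    [Hensel.IsStrictHenselization A S'] :
    List.TFAE [
      ∀ m' : MaximalSpectrum (CAlg2.normRed A), (2 : WithBot ℕ∞) ≤ ringKrullDim (Localization.AtPrime m'.asIdeal),
      ∀ p ∈ minimalPrimes S, (2 : WithBot ℕ∞) ≤ ringKrullDim (S ⧸ p),
      ∀ p ∈ minimalPrimes S', (2 : WithBot ℕ∞) ≤ ringKrullDim (S' ⧸ p),
      ∀ q ∈ minimalPrimes (AdicCompletion (IsLocalRing.maximalIdeal A) A), (2 : WithBot ℕ∞) ≤ ringKrullDim (AdicCompletion (IsLocalRing.maximalIdeal A) A ⧸ q)] := by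
  classical
  have hIS := Groth.Agent.H47.HensNoeth.isIndEtaleLocal_of_isHenselization A S
  have hIS' := Groth.Agent.H47.HensNoeth.isIndEtaleLocal_of_isStrictHenselization A S'
  haveI hhS : HenselianLocalRing S := Hensel.IsHenselization.henselian (R := A)
  haveI hhS' : HenselianLocalRing S' := Hensel.IsStrictHenselization.henselian (R := A)
  haveI : Module.Flat A S := hIS.flat
  haveI : Module.Flat A S' := hIS'.flat
  have hfin : (minimalPrimes A).Finite := minimalPrimes.finite_of_isNoetherianRing A
  haveI : Algebra.IsIntegral A (CAlg2.normRed A) :=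
    Groth.Agent.H47.MinPrimeTensor.isIntegral_normRed A
  have hN : ∀ (N : Ideal (CAlg2.normRed A)) [N.IsMaximal],
      IsDomain (Localization.AtPrime N) ∧ IsIntegrallyClosed (Localization.AtPrime N) :=
    fun N _ => Groth.Agent.H47.BranchCount.normRed_localization A hfin N
  have h12 := Groth.Agent.H23.C2Gen.c2_iff A S (CAlg2.normRed A) hIS
    (Groth.Agent.H47.MinPrimeTensor.bijOn_minimalPrimes_normRed A S)
    (fun m _ => Groth.Agent.H47.BranchCount.locDom_of_isHenselization A S (CAlg2.normRed A) hN m) 2
  have h13 := Groth.Agent.H23.C2Gen.c2_iff A S' (CAlg2.normRed A) hIS'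
    (Groth.Agent.H47.MinPrimeTensor.bijOn_minimalPrimes_normRed A S')
    (fun m _ => Groth.Agent.H47.BranchCount.locDom_of_isStrictHenselization A S'
      (CAlg2.normRed A) hN m) 2
  -- the completion
  haveI hlocC : IsLocalHom (algebraMap A (AdicCompletion (IsLocalRing.maximalIdeal A) A)) := by
    refine ((IsLocalRing.local_hom_TFAE
      (algebraMap A (AdicCompletion (IsLocalRing.maximalIdeal A) A))).out 0 2).mpr ?_
    rw [AdicCompletion.maximalIdeal_eq_map]
  haveI : HenselianLocalRing (AdicCompletion (IsLocalRing.maximalIdeal A) A) :=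
    Groth.Agent.H3.henselianLocalRing_of_henselianRing_maximalIdeal _
  haveI hNC : IsNoetherianRing (AdicCompletion (IsLocalRing.maximalIdeal A) A) :=
    Groth.Agent.Lead.isNoetherianRing_adicCompletion (IsLocalRing.maximalIdeal A)
      (IsLocalRing.maximalIdeal A).fg_of_isNoetherianRing
  obtain ⟨ψ, hψ, -⟩ := Hensel.IsHenselization.universal (R := A) (S := S)
    (AdicCompletion (IsLocalRing.maximalIdeal A) A)
    (algebraMap A (AdicCompletion (IsLocalRing.maximalIdeal A) A)) hlocC
  letI : Algebra S (AdicCompletion (IsLocalRing.maximalIdeal A) A) := ψ.toAlgebra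
  haveI : IsScalarTower A S (AdicCompletion (IsLocalRing.maximalIdeal A) A) :=
    IsScalarTower.of_algebraMap_eq (fun a => (RingHom.congr_fun hψ a).symm)
  haveI := Groth.Agent.H47.HensCompletion.flat_completion A S
  haveI := Groth.Agent.H47.HensCompletion.isLocalHom_completion A S
  haveI : IsNoetherianRing S := hIS.isNoetherianRing
  have hmax : (IsLocalRing.maximalIdeal S).map
      (algebraMap S (AdicCompletion (IsLocalRing.maximalIdeal A) A)) =
      IsLocalRing.maximalIdeal (AdicCompletion (IsLocalRing.maximalIdeal A) A) := by
    rw [← hIS.map_max, Ideal.map_map, ← IsScalarTower.algebraMap_eq,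
      ← AdicCompletion.maximalIdeal_eq_map]
  have h24 := Groth.Agent.H23.C2Cpl.c2_cpl_iff S (AdicCompletion (IsLocalRing.maximalIdeal A) A)
    hmax (fun q hq hd => Groth.Agent.S9242.result A S ψ hψ q hq hd)
  have e2 : ((2 : ℕ) : WithBot ℕ∞) = (2 : WithBot ℕ∞) := rfl
  rw [e2] at h12 h13
  tfae_have 1 ↔ 2 := h12
  tfae_have 1 ↔ 3 := h13
  tfae_have 2 ↔ 4 := h24
  tfae_finish

end Groth.Agent.S16575
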