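import Groth.Statements.S16576
import Groth.Agent.H23.C2Flat

set_option autoImplicit false
universe u
open CAlg

namespace Groth.Agent.S16576


/-- Let A → B be a flat local homomorphism of Noetherian local rings and let Â, B̂ be their completions
at the maximal ideals. If every irreducible component of Spec Â has dimension at least 2, then every
irreducible component of Spec B̂ has dimension at least 2. (This is the c_2 condition in its
completed form; globally: the preimage of a c_2 closed subset under a flat morphism of Noetherian
schemes is c_2, in particular the condition is invariant under Zariski and étale localization.) -/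
theorem result
    (A B : Type u) [CommRing A] [CommRing B] [IsNoetherianRing A] [IsNoetherianRing B]
    [IsLocalRing A] [IsLocalRing B] (f : A →+* B) [IsLocalHom f] (hf : f.Flat)
    (hA : ∀ q ∈ minimalPrimes (AdicCompletion (IsLocalRing.maximalIdeal A) A), (2 : WithBot ℕ∞) ≤ ringKrullDim (AdicCompletion (IsLocalRing.maximalIdeal A) A ⧸ q)) :
    ∀ q ∈ minimalPrimes (AdicCompletion (IsLocalRing.maximalIdeal B) B), (2 : WithBot ℕ∞) ≤ ringKrullDim (AdicCompletion (IsLocalRing.maximalIdeal B) B ⧸ q) := by
  have hle : (IsLocalRing.maximalIdeal A).map f ≤ IsLocalRing.maximalIdeal B := by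
    have h := (IsLocalRing.local_hom_TFAE f).out 0 2
    exact h.mp inferInstance
  have hgflat := Groth.Agent.H87.ComplFlat.complMap_flat (IsLocalRing.maximalIdeal A)
    (IsLocalRing.maximalIdeal B) f hf hle
  letI : Algebra (AdicCompletion (IsLocalRing.maximalIdeal A) A)
      (AdicCompletion (IsLocalRing.maximalIdeal B) B) :=
    (FSch.complMap (IsLocalRing.maximalIdeal A) (IsLocalRing.maximalIdeal B) f hle).toAlgebra
  haveI : Module.Flat (AdicCompletion (IsLocalRing.maximalIdeal A) A)
      (AdicCompletion (IsLocalRing.maximalIdeal B) B) := hgflat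
  haveI : IsLocalHom (algebraMap (AdicCompletion (IsLocalRing.maximalIdeal A) A)
      (AdicCompletion (IsLocalRing.maximalIdeal B) B)) := by
    have h := (IsLocalRing.local_hom_TFAE
      (FSch.complMap (IsLocalRing.maximalIdeal A) (IsLocalRing.maximalIdeal B) f hle)).out 0 2
    refine h.mpr ?_
    rw [AdicCompletion.maximalIdeal_eq_map, Ideal.map_map, Ideal.map_le_iff_le_comap]
    intro a ha
    rw [Ideal.mem_comap, RingHom.comp_apply, Groth.Agent.H87.ComplFlat.complMap_algebraMap,
      AdicCompletion.maximalIdeal_eq_map]
    exact Ideal.mem_map_of_mem _ (hle (Ideal.mem_map_of_mem _ ha))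
  exact Groth.Agent.H23.C2Flat.main (AdicCompletion (IsLocalRing.maximalIdeal A) A)
    (AdicCompletion (IsLocalRing.maximalIdeal B) B) hA

end Groth.Agent.S16576
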