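import Groth.Statements.S16577
import Groth.Agent.H47.HensNoeth
import Groth.Agent.H70.FibreBranchRing
import Groth.Agent.S5043

set_option autoImplicit false
universe u
open Hensel

namespace Groth.Agent.S16577

/-- Let A be a Noetherian local ring with a strict henselization S', and p a prime ideal of A. Call p an
immediate étale generization of the closed point when the strict henselization S'/pS' of A/p has an
irreducible component of dimension 1, that is, some minimal prime P over pS' has dim S'/P = 1. Then
p is an immediate étale generization of the closed point if and only if p is the contraction of some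
prime ideal P of S' with dim S'/P = 1. -/
theorem result
    (A : Type u) [CommRing A] [IsNoetherianRing A] [IsLocalRing A]
    (S' : Type u) [CommRing S'] [IsLocalRing S'] [Algebra A S'] [IsLocalHom (algebraMap A S')]
    [Hensel.IsStrictHenselization A S']
    (p : Ideal A) [p.IsPrime] :
    (∃ P ∈ (p.map (algebraMap A S')).minimalPrimes, ringKrullDim (S' ⧸ P) = 1) ↔
    (∃ P : Ideal S', P.IsPrime ∧ P.comap (algebraMap A S') = p ∧ ringKrullDim (S' ⧸ P) = 1) := by
  classical
  have hI := Groth.Agent.H47.HensNoeth.isIndEtaleLocal_of_isStrictHenselization A S'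
  haveI : Module.Flat A S' := hI.flat
  constructor
  · rintro ⟨P, hP, hdim⟩
    haveI : P.IsPrime := hP.1.1
    refine ⟨P, inferInstance, ?_, hdim⟩
    have h1 := Groth.Agent.H70.FibreBranchRing.comap_mem_minimalPrimes_over (S := A) (T := S') hP
    rw [Ideal.minimalPrimes_eq_subsingleton_self] at h1
    exact h1
  · rintro ⟨P, hPp, hPc, hdim⟩
    haveI := hPp
    have hle : p.map (algebraMap A S') ≤ P := by
      rw [Ideal.map_le_iff_le_comap, hPc]
    obtain ⟨P', hP', hP'le⟩ := Ideal.exists_minimalPrimes_le hle
    haveI : P'.IsPrime := hP'.1.1
    have h1 := Groth.Agent.H70.FibreBranchRing.comap_mem_minimalPrimes_over (S := A) (T := S') hP'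
    rw [Ideal.minimalPrimes_eq_subsingleton_self] at h1
    have h2 : P'.comap (algebraMap A S') = P.comap (algebraMap A S') := by
      rw [hPc]; exact h1
    have h3 : P' = P := Groth.Agent.S5043.eq_of_le_of_comap_eq hI hP'le h2
    exact ⟨P, h3 ▸ hP', hdim⟩

end Groth.Agent.S16577
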