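import Groth.Statements.S16578
import Groth.Agent.H47.ImmGen
import Groth.Agent.H47.HensTransport
import Groth.Agent.H47.HensCompletion
import Groth.Agent.H47.HensNoeth
import Groth.Agent.Lead.CompleteNoetherian
import Groth.Agent.S9237
import Groth.Agent.S9238
import Groth.Agent.S0547

set_option autoImplicit false
universe u
open Hensel

namespace Groth.Agent.S16578

section Main

variable (A : Type u) [CommRing A] [IsNoetherianRing A] [IsLocalRing A]

local notation "Â" => AdicCompletion (IsLocalRing.maximalIdeal A) A

open IsLocalRing in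
theorem main
    (S' : Type u) [CommRing S'] [IsLocalRing S'] [Algebra A S'] [IsLocalHom (algebraMap A S')]
    [Hensel.IsStrictHenselization A S']
    (T' : Type u) [CommRing T'] [IsLocalRing T'] [Algebra Â T'] [IsLocalHom (algebraMap Â T')]
    [Hensel.IsStrictHenselization Â T']
    (p : Ideal A) [p.IsPrime] :
    (∃ P ∈ (p.map (algebraMap A S')).minimalPrimes, ringKrullDim (S' ⧸ P) = 1) ↔
    (∃ q ∈ (p.map (algebraMap A Â)).minimalPrimes,
      ∃ Q ∈ (q.map (algebraMap Â T')).minimalPrimes, ringKrullDim (T' ⧸ Q) = 1) := by
  classical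
  haveI hlocC : IsLocalHom (algebraMap A Â) := by
    refine ((IsLocalRing.local_hom_TFAE (algebraMap A Â)).out 0 2).mpr ?_
    rw [AdicCompletion.maximalIdeal_eq_map]
  haveI : HenselianLocalRing Â :=
    Groth.Agent.H3.henselianLocalRing_of_henselianRing_maximalIdeal _
  haveI hNC : IsNoetherianRing Â :=
    Groth.Agent.Lead.isNoetherianRing_adicCompletion (maximalIdeal A)
      (maximalIdeal A).fg_of_isNoetherianRing
  obtain ⟨σ, hσ⟩ := Groth.Agent.H47.HensTransport.exists_sigma A Â S' T'
  letI : Algebra A T' := ((algebraMap Â T').comp (algebraMap A Â)).toAlgebra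
  haveI : IsScalarTower A Â T' := IsScalarTower.of_algebraMap_eq (fun _ => rfl)
  letI : Algebra S' T' := σ.toAlgebra
  haveI : IsScalarTower A S' T' :=
    IsScalarTower.of_algebraMap_eq (fun a => (RingHom.congr_fun hσ a).symm)
  have hI₁ := Groth.Agent.H47.HensNoeth.isIndEtaleLocal_of_isStrictHenselization A S'
  have hI₂ := Groth.Agent.H47.HensNoeth.isIndEtaleLocal_of_isStrictHenselization Â T'
  haveI : Module.Flat A S' := hI₁.flat
  haveI : Module.Flat Â T' := hI₂.flat
  haveI : Module.Flat A T' := Module.Flat.trans A Â _
  haveI : Module.Flat S' T' := Groth.Agent.H47.HensCompletion.flat_of_rep hI₁.rep _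
  haveI : IsLocalHom (algebraMap A T') := by
    show IsLocalHom ((algebraMap Â T').comp (algebraMap A Â))
    infer_instance
  have hmax : (maximalIdeal S').map (algebraMap S' T') = maximalIdeal T' := by
    rw [← hI₁.map_max, Ideal.map_map, ← IsScalarTower.algebraMap_eq,
      IsScalarTower.algebraMap_eq A Â T', ← Ideal.map_map, ← AdicCompletion.maximalIdeal_eq_map,
      hI₂.map_max]
  haveI : IsLocalHom (algebraMap S' T') := by
    refine ((IsLocalRing.local_hom_TFAE (algebraMap S' T')).out 0 2).mpr ?_
    rw [hmax]
  haveI : IsNoetherianRing S' := hI₁.isNoetherianRing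
  haveI : IsNoetherianRing T' := hI₂.isNoetherianRing
  haveI : HenselianLocalRing S' := Hensel.IsStrictHenselization.henselian (R := A) (S := S')
  have hres : ∀ t : T', ∃ s : S', t - algebraMap S' T' s ∈ maximalIdeal T' := by
    intro t
    haveI : IsSepClosed (ResidueField S') :=
      (Hensel.IsStrictHenselization.isSepClosure (R := A) (S := S')).sep_closed
    haveI hsep₂ : Algebra.IsSeparable (ResidueField Â) (ResidueField T') :=
      (Hensel.IsStrictHenselization.isSepClosure (R := Â) (S := T')).separable
    have hbij : Function.Bijective (algebraMap (ResidueField A) (ResidueField Â)) := by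
      have h := AdicCompletion.residueField_map_bijective A
      have e : ⇑(algebraMap (ResidueField A) (ResidueField Â)) =
          ⇑(ResidueField.map (algebraMap A Â)) := by
        ext z
        obtain ⟨a, rfl⟩ := residue_surjective z
        rfl
      rw [e]; exact h
    haveI : Algebra.IsSeparable (ResidueField A) (ResidueField T') := by
      refine Algebra.IsSeparable.of_equiv_equiv (RingEquiv.ofBijective _ hbij).symm
        (RingEquiv.refl _) (RingHom.ext fun z => ?_)
      obtain ⟨w, rfl⟩ := hbij.2 z
      show algebraMap (ResidueField A) (ResidueField T')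
          ((RingEquiv.ofBijective _ hbij).symm
            (algebraMap (ResidueField A) (ResidueField Â) w)) =
        algebraMap (ResidueField Â) (ResidueField T')
          (algebraMap (ResidueField A) (ResidueField Â) w)
      rw [← IsScalarTower.algebraMap_apply]
      congr 1
      exact (RingEquiv.ofBijective _ hbij).symm_apply_apply w
    haveI : Algebra.IsSeparable (ResidueField S') (ResidueField T') :=
      Algebra.isSeparable_tower_top_of_isSeparable (ResidueField A) (ResidueField S')
        (ResidueField T')
    obtain ⟨z, hz⟩ := IsSepClosed.algebraMap_surjective (ResidueField S') (ResidueField T')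
      (residue _ t)
    obtain ⟨s, rfl⟩ := residue_surjective z
    refine ⟨s, ?_⟩
    rw [← residue_eq_zero_iff, map_sub, ← hz, ResidueField.algebraMap_residue, sub_self]
  have hmapS : (p.map (algebraMap A S')).map (algebraMap S' T') = p.map (algebraMap A T') := by
    rw [Ideal.map_map, ← IsScalarTower.algebraMap_eq A S' T']
  have hmapC : (p.map (algebraMap A Â)).map (algebraMap Â T') = p.map (algebraMap A T') := by
    rw [Ideal.map_map, ← IsScalarTower.algebraMap_eq A Â T']
  constructor
  · rintro ⟨P, hP, hdimP⟩
    haveI hPp : P.IsPrime := hP.1.1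
    obtain ⟨hPne, hPall⟩ := (Groth.Agent.H47.ImmGen.ringKrullDim_quotient_eq_one_iff P).mp hdimP
    have hPle : P.map (algebraMap S' T') ≤ maximalIdeal T' := by
      rw [← hmax]; exact Ideal.map_mono (le_maximalIdeal hPp.ne_top)
    obtain ⟨Q, hQ, -⟩ := Ideal.exists_minimalPrimes_le hPle
    haveI hQp : Q.IsPrime := hQ.1.1
    have hQ1 : Q ∈ ((p.map (algebraMap A S')).map (algebraMap S' T')).minimalPrimes :=
      Groth.Agent.H47.ImmGen.mem_minimalPrimes_map_of_mem_of_mem hP hQ
    rw [hmapS, ← hmapC] at hQ1
    obtain ⟨hQne, hQall⟩ :=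
      Groth.Agent.H47.ImmGen.dimOne_of_minimal_over_map hmax hPne hPall hQ
    refine ⟨Q.comap (algebraMap Â T'),
      Groth.Agent.H47.ImmGen.comap_mem_minimalPrimes_of_map hQ1, Q,
      Groth.Agent.H47.ImmGen.mem_minimalPrimes_map_comap hQ1, ?_⟩
    exact (Groth.Agent.H47.ImmGen.ringKrullDim_quotient_eq_one_iff Q).mpr ⟨hQne, hQall⟩
  · rintro ⟨q, hq, Q, hQ, hdimQ⟩
    haveI hQp : Q.IsPrime := hQ.1.1
    obtain ⟨hQne, hQall⟩ := (Groth.Agent.H47.ImmGen.ringKrullDim_quotient_eq_one_iff Q).mp hdimQ
    have hQ1 : Q ∈ ((p.map (algebraMap A Â)).map (algebraMap Â T')).minimalPrimes :=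
      Groth.Agent.H47.ImmGen.mem_minimalPrimes_map_of_mem_of_mem hq hQ
    rw [hmapC, ← hmapS] at hQ1
    have hPmem : Q.comap (algebraMap S' T') ∈ (p.map (algebraMap A S')).minimalPrimes :=
      Groth.Agent.H47.ImmGen.comap_mem_minimalPrimes_of_map hQ1
    have hQm : Q ∈ ((Q.comap (algebraMap S' T')).map (algebraMap S' T')).minimalPrimes :=
      Groth.Agent.H47.ImmGen.mem_minimalPrimes_map_comap hQ1
    obtain ⟨hPne, hPall⟩ := Groth.Agent.H47.ImmGen.dimOne_comap hmax hres hQm hQne hQall
    haveI : (Q.comap (algebraMap S' T')).IsPrime := Ideal.comap_isPrime _ _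
    exact ⟨Q.comap (algebraMap S' T'), hPmem,
      (Groth.Agent.H47.ImmGen.ringKrullDim_quotient_eq_one_iff _).mpr ⟨hPne, hPall⟩⟩

end Main


/-- Let A be a Noetherian local ring with completion Â at its maximal ideal, S' a strict henselization
of A, T' a strict henselization of Â, and p a prime ideal of A. Say that a prime p of a Noetherian
local ring with strict henselization S is an immediate étale generization of the closed point when
some minimal prime P over pS has dim S/P = 1. Then p is an immediate étale generization of the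
closed point of A if and only if some minimal prime q over pÂ (a maximal point of the fibre over p
of Spec Â → Spec A) is an immediate étale generization of the closed point of Â. -/
theorem result
    (A : Type u) [CommRing A] [IsNoetherianRing A] [IsLocalRing A]
    (S' : Type u) [CommRing S'] [IsLocalRing S'] [Algebra A S'] [IsLocalHom (algebraMap A S')]
    [Hensel.IsStrictHenselization A S']
    (T' : Type u) [CommRing T'] [IsLocalRing T'] [Algebra (AdicCompletion (IsLocalRing.maximalIdeal A) A) T'] [IsLocalHom (algebraMap (AdicCompletion (IsLocalRing.maximalIdeal A) A) T')]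
    [Hensel.IsStrictHenselization (AdicCompletion (IsLocalRing.maximalIdeal A) A) T']
    (p : Ideal A) [p.IsPrime] :
    (∃ P ∈ (p.map (algebraMap A S')).minimalPrimes, ringKrullDim (S' ⧸ P) = 1) ↔
    (∃ q ∈ (p.map (algebraMap A (AdicCompletion (IsLocalRing.maximalIdeal A) A))).minimalPrimes,
      ∃ Q ∈ (q.map (algebraMap (AdicCompletion (IsLocalRing.maximalIdeal A) A) T')).minimalPrimes, ringKrullDim (T' ⧸ Q) = 1) := by
  exact main A S' T' p

end Groth.Agent.S16578
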