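import Groth.Statements.S16583
import Mathlib
import Groth.Agent.S10853

set_option autoImplicit false
set_option maxHeartbeats 400000
universe u
open CategoryTheory AlgebraicGeometry
open EtCore

namespace Groth.Agent.S16583

open CategoryTheory CategoryTheory.Limits AlgebraicGeometry

theorem stalk_bijective {X Y : Scheme.{u}} (f : Y ⟶ X) [Etale f] (y : Y)
    (hF : IsField (X.presheaf.stalk (f y))) (hC : IsAlgClosed (X.residueField (f y))) :
    Function.Bijective (f.stalkMap y).hom := by
  algebraize [(f.stalkMap y).hom]
  haveI hloc : IsLocalHom (algebraMap (X.presheaf.stalk (f y)) (Y.presheaf.stalk y)) :=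
    inferInstanceAs <| IsLocalHom (f.stalkMap y).hom
  haveI : Algebra.EssFiniteType (X.presheaf.stalk (f y)) (Y.presheaf.stalk y) := by
    rw [← RingHom.essFiniteType_algebraMap, RingHom.algebraMap_toAlgebra]
    exact LocallyOfFiniteType.stalkMap f y
  haveI : Algebra.FormallyUnramified (X.presheaf.stalk (f y)) (Y.presheaf.stalk y) := by
    rw [← RingHom.formallyUnramified_algebraMap, RingHom.algebraMap_toAlgebra]
    exact FormallyUnramified.stalkMap f y
  have hA : IsLocalRing.maximalIdeal (X.presheaf.stalk (f y)) = ⊥ :=
    IsLocalRing.isField_iff_maximalIdeal_eq.mp hF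
  have hB : IsLocalRing.maximalIdeal (Y.presheaf.stalk y) = ⊥ := by
    rw [← Algebra.FormallyUnramified.map_maximalIdeal (R := X.presheaf.stalk (f y)), hA,
      Ideal.map_bot]
  haveI : IsAlgClosed (IsLocalRing.ResidueField (X.presheaf.stalk (f y))) := hC
  haveI : Algebra.IsIntegral (IsLocalRing.ResidueField (X.presheaf.stalk (f y)))
      (IsLocalRing.ResidueField (Y.presheaf.stalk y)) := Algebra.IsIntegral.of_finite _ _
  have hres := IsAlgClosed.algebraMap_bijective_of_isIntegral
    (k := IsLocalRing.ResidueField (X.presheaf.stalk (f y)))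
    (K := IsLocalRing.ResidueField (Y.presheaf.stalk y))
  change Function.Bijective (algebraMap (X.presheaf.stalk (f y)) (Y.presheaf.stalk y))
  refine ⟨?_, fun b => ?_⟩
  · letI := hF.toField
    exact RingHom.injective _
  · obtain ⟨abar, ha⟩ := hres.2 (IsLocalRing.residue _ b)
    obtain ⟨a, rfl⟩ := IsLocalRing.residue_surjective abar
    refine ⟨a, ?_⟩
    rw [IsLocalRing.ResidueField.algebraMap_residue] at ha
    have hmem := Ideal.Quotient.eq.mp ha
    rw [hB, Ideal.mem_bot, sub_eq_zero] at hmem
    exact hmem

set_option backward.isDefEq.respectTransparency.types false in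

/-- Let X be a scheme such that every local ring of X is a field and every residue field of X is
algebraically closed, and let f : Y → X be an étale morphism. Then f is Zariski-locally trivial: for
every point y of Y there exist an open V of X containing f(y) and a section s : V → Y of f over V
whose image contains y. (The published lemma is stated for a specific scheme X^c attached to a
coherent scheme — the constructible topology of a suitable integral cover, which has these two
properties by construction; the row states the assertion for every scheme with these two properties,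
which is all the printed proof uses. The lemma's further assertions about the étale and Zariski
topoi, torsors and gerbes on X^c are not included.) -/
theorem result
    (X Y : Scheme.{u}) (hX : ∀ x : X, IsField (X.presheaf.stalk x))
    (hX' : ∀ x : X, IsAlgClosed (X.residueField x))
    (f : Y ⟶ X) [Etale f] (y : Y) :
    ∃ (V : X.Opens) (s : (V : Scheme.{u}) ⟶ Y), f.base y ∈ V ∧ s ≫ f = V.ι ∧ y ∈ Set.range s.base := by
  have hbij := stalk_bijective f y (hX (f y)) (hX' (f y))
  haveI : IsIso ((forget CommRingCat).map (f.stalkMap y)) := (isIso_iff_bijective _).mpr hbij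
  haveI : IsIso (f.stalkMap y) := isIso_of_reflects_iso _ (forget CommRingCat)
  have h : f.stalkMap y ≫ inv (f.stalkMap y) =
      X.presheaf.stalkSpecializes (Inseparable.of_eq (rfl : (𝟙 X : X ⟶ X) (f y) = f y)).specializes ≫
        (𝟙 X : X ⟶ X).stalkMap (f y) := by
    rw [IsIso.hom_inv_id, Scheme.Hom.stalkMap_id]
    exact ((Category.comp_id _).trans (TopCat.Presheaf.stalkSpecializes_refl _ _)).symm
  obtain ⟨U, hxU, s, h1, h2⟩ := Groth.Agent.S10853.result (𝟙 X) f (x := f y) (y := y) rfl
    (inv (f.stalkMap y)) h
  refine ⟨U, s, hxU, by simpa using h2, ?_⟩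
  have h3 : (Spec.map (inv (f.stalkMap y)) ≫ Y.fromSpecStalk y)
      (IsLocalRing.closedPoint (X.presheaf.stalk (f y))) =
      (U.fromSpecStalkOfMem (f y) hxU ≫ s) (IsLocalRing.closedPoint (X.presheaf.stalk (f y))) := by
    rw [h1]
  rw [Scheme.Hom.comp_apply, Spec_closedPoint, Scheme.fromSpecStalk_closedPoint,
    Scheme.Hom.comp_apply] at h3
  exact ⟨_, h3.symm⟩

end Groth.Agent.S16583
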