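import Groth.Statements.S1659
import Groth.Agent.H59.CartierEq

set_option autoImplicit false
universe u
open CategoryTheory CategoryTheory.Limits AlgebraicGeometry
open Divisors

namespace Groth.Agent.S1659

/-- Let X be Noetherian, D an effective Cartier divisor and D_1, …, D_r effective Cartier divisors which
are integral as closed subschemes, with D contained set-theoretically in their union. Then D = Σ a_i
D_i for some a_i ≥ 0, i.e. the ideal sheaf of D is the product of the a_i-th powers of the ideal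
sheaves of the D_i. -/
theorem result (X : Scheme.{u}) [IsNoetherian X] (D : X.IdealSheafData) (hD : BlowUp.IsEffCartierIdeal D)
    (r : ℕ) (Ds : Fin r → X.IdealSheafData) (hDs : ∀ i, BlowUp.IsEffCartierIdeal (Ds i)) (hint : ∀ i, IsIntegral (Ds i).subscheme)
    (hsub : (D.support : Set X) ⊆ ⋃ i, ((Ds i).support : Set X)) :
    ∃ a : Fin r → ℕ, D = ∏ i, Ds i ^ a i := by
  classical
  have G0 : ∀ ζ ∈ D.support, (1 : WithBot ℕ∞) ≤ ringKrullDim (X.presheaf.stalk ζ) :=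
    fun ζ hζ => Groth.Agent.H59.CartierSum.one_le_dim_of_mem_support hD ζ hζ
  let P : Set X.IdealSheafData := {𝓔 | (∃ i, Ds i = 𝓔) ∧ D ≤ 𝓔}
  have hP : ∀ 𝓔 ∈ P, BlowUp.IsEffCartierIdeal 𝓔 ∧ IsIntegral 𝓔.subscheme ∧ D ≤ 𝓔 := by
    rintro 𝓔 ⟨⟨i, rfl⟩, hle⟩
    exact ⟨hDs i, hint i, hle⟩
  have hfin : P.Finite := by
    apply (Set.finite_range Ds).subset
    rintro 𝓔 ⟨⟨i, rfl⟩, -⟩
    exact ⟨i, rfl⟩
  let T : Finset X.IdealSheafData := hfin.toFinset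
  have hTmem : ∀ 𝓔, 𝓔 ∈ T ↔ 𝓔 ∈ P := fun 𝓔 => hfin.mem_toFinset
  have hα : ∀ 𝓔 : X.IdealSheafData, ∃ n : ℕ, 𝓔 ∈ T → D ≤ 𝓔 ^ n ∧ ¬ D ≤ 𝓔 ^ (n + 1) := by
    intro 𝓔
    by_cases h : 𝓔 ∈ T
    · obtain ⟨hE, hint', -⟩ := hP 𝓔 ((hTmem 𝓔).mp h)
      obtain ⟨n, hn⟩ := Groth.Agent.H59.CartierSum.exists_alpha D G0 hE hint'
      exact ⟨n, fun _ => hn⟩
    · exact ⟨0, fun h' => absurd h' h⟩
  choose α hα using hα
  have hr : ∀ 𝓔 : {𝓔 // 𝓔 ∈ T}, ∃ i : Fin r, Ds i = 𝓔.1 := fun 𝓔 => ((hTmem 𝓔.1).mp 𝓔.2).1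
  choose rep hrep using hr
  let a : Fin r →₀ ℕ := ∑ 𝓔 ∈ T.attach, Finsupp.single (rep 𝓔) (α 𝓔.1)
  have ha : a.prod (fun i n => Ds i ^ n) = ∏ 𝓔 ∈ T, 𝓔 ^ α 𝓔 := by
    show (∑ 𝓔 ∈ T.attach, Finsupp.single (rep 𝓔) (α 𝓔.1)).prod (fun i n => Ds i ^ n) = _
    rw [← Finsupp.prod_finsetSum_index (h := fun i n => Ds i ^ n) (fun i => pow_zero _)
        (fun i m n => pow_add _ m n),
      ← Finset.prod_attach T]
    apply Finset.prod_congr rfl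
    intro 𝓔 _
    rw [Finsupp.prod_single_index (h := fun i n => Ds i ^ n) (pow_zero _), hrep 𝓔]
  have ha' : ∏ i, Ds i ^ a i = ∏ 𝓔 ∈ T, 𝓔 ^ α 𝓔 := by
    rw [← ha, Finsupp.prod_fintype _ _ (fun i => pow_zero _)]
  have hT1 : ∀ 𝓔 ∈ T, BlowUp.IsEffCartierIdeal 𝓔 ∧ IsIntegral 𝓔.subscheme ∧ D ≤ 𝓔 ^ α 𝓔 := by
    intro 𝓔 h𝓔
    obtain ⟨hE, hint', -⟩ := hP 𝓔 ((hTmem 𝓔).mp h𝓔)
    exact ⟨hE, hint', (hα 𝓔 h𝓔).1⟩
  have hle : D ≤ ∏ 𝓔 ∈ T, 𝓔 ^ α 𝓔 := Groth.Agent.H59.CartierSum.le_prod D T α hT1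
  refine ⟨fun i => a i, ?_⟩
  rw [ha']
  apply le_antisymm hle
  apply Groth.Agent.H59.CartierSum.le_of_le_codim_one hD hle
  · intro x
    exact Groth.Agent.H59.CartierSum.st_prod_principal T α (fun 𝓔 h𝓔 => (hT1 𝓔 h𝓔).1) x
  · intro z hz hdim
    obtain ⟨i, hi⟩ := Set.mem_iUnion.mp (hsub hz)
    exact Groth.Agent.H59.CartierSum.st_prod_le_of_dim_le_one D T α (fun 𝓔 h𝓔 => hα 𝓔 h𝓔)
      (hDs i) (hint i) (fun hle' => (hTmem _).mpr ⟨⟨i, rfl⟩, hle'⟩) z hz hi hdim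

end Groth.Agent.S1659
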