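import Groth.Statements.S16597
import Groth.Agent.H82.LGLemmas
import Mathlib.RingTheory.Spectrum.Prime.FreeLocus

set_option autoImplicit false
universe u v
open LGRing

namespace Groth.Agent.S16597

/-- Let R be an LG-ring and M a finite locally free (finitely generated projective) R-module of constant
rank. Then M is free. In particular invertible R-modules are trivial: Pic(R) = 0. -/
theorem result {R : Type u} [CommRing R] (hR : LGRing.IsLGRing R)
    (M : Type v) [AddCommGroup M] [Module R M] [Module.Finite R M] [Module.Projective R M] (d : ℕ)
    (hd : ∀ p : PrimeSpectrum R, Module.rankAtStalk M p = d) : Module.Free R M := by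
  classical
  induction d generalizing M with
  | zero =>
    have h0 : Module.rankAtStalk (R := R) M = 0 := funext fun p => hd p
    haveI : Subsingleton M := Module.rankAtStalk_eq_zero_iff_subsingleton.mp h0
    exact Module.Free.of_subsingleton R M
  | succ d ih =>
    rcases subsingleton_or_nontrivial R with hRs | hRn
    · haveI : Subsingleton M := Module.subsingleton R M
      exact Module.Free.of_subsingleton R M
    -- a unimodular element
    have hM : ∀ (m : Ideal R) [m.IsMaximal], ¬ ((⊤ : Submodule R M) ≤ m • (⊤ : Submodule R M)) := by
      intro m hm hle
      obtain ⟨r, hr1, hr2⟩ := Submodule.exists_sub_one_mem_and_smul_eq_zero_of_fg_of_le_smul m ⊤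
        Module.Finite.fg_top hle
      have hp : (⟨m, hm.isPrime⟩ : PrimeSpectrum R) ∈ Module.support R M := by
        rw [← Module.rankAtStalk_pos_iff_mem_support, hd]; omega
      rw [Module.mem_support_iff_of_finite] at hp
      have hr : r ∈ Module.annihilator R M := by
        rw [Module.mem_annihilator]; intro x; exact hr2 x trivial
      have hrm : r ∈ m := hp hr
      have h1 : (1 : R) ∈ m := by
        have : (1 : R) = r - (r - 1) := by ring
        rw [this]; exact Ideal.sub_mem _ hrm hr1
      exact hm.ne_top ((Ideal.eq_top_iff_one _).mpr h1)
    obtain ⟨x, φ, hφx⟩ := H82.exists_unimodular_of_forall_maximal hR M hM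
    -- splitting
    let K := LinearMap.ker φ
    let pr : M →ₗ[R] K :=
      { toFun := fun m => ⟨m - φ m • x, by
          rw [LinearMap.mem_ker, map_sub, map_smul, hφx, smul_eq_mul, mul_one, sub_self]⟩
        map_add' := fun a b => Subtype.ext (by
          simp only [map_add, add_smul, Submodule.coe_add]; abel)
        map_smul' := fun c a => Subtype.ext (by
          simp only [map_smul, smul_eq_mul, RingHom.id_apply, Submodule.coe_smul, smul_sub, mul_smul]) }
    have hpr : ∀ k : K, pr k.1 = k := by
      intro k
      apply Subtype.ext
      change k.1 - φ k.1 • x = k.1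
      have : φ k.1 = 0 := k.2
      rw [this, zero_smul, sub_zero]
    let e : M ≃ₗ[R] (R × K) :=
      { toFun := fun m => (φ m, pr m)
        map_add' := fun a b => by simp only [map_add, Prod.mk_add_mk]
        map_smul' := fun c a => by simp only [map_smul, RingHom.id_apply, Prod.smul_mk]
        invFun := fun q => q.1 • x + q.2.1
        left_inv := fun m => by
          change φ m • x + (m - φ m • x) = m
          abel
        right_inv := fun q => by
          have h1 : φ (q.1 • x + q.2.1) = q.1 := by
            have : φ q.2.1 = 0 := q.2.2
            rw [map_add, map_smul, hφx, this, smul_eq_mul, mul_one, add_zero]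
          apply Prod.ext
          · exact h1
          · apply Subtype.ext
            change (q.1 • x + q.2.1) - φ (q.1 • x + q.2.1) • x = q.2.1
            rw [h1]; abel }
    haveI : Module.Finite R K := Module.Finite.of_surjective pr (fun k => ⟨k.1, hpr k⟩)
    haveI : Module.Projective R K :=
      Module.Projective.of_split K.subtype pr (LinearMap.ext fun k => hpr k)
    have hrank : ∀ p : PrimeSpectrum R, Module.rankAtStalk K p = d := by
      intro p
      have h1 := Module.rankAtStalk_eq_of_equiv (R := R) e
      have h2 := Module.rankAtStalk_prod (R := R) R K
      have h3 := Module.rankAtStalk_self (R := R)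
      have h4 : Module.rankAtStalk (R := R) M p = (1 : PrimeSpectrum R → ℕ) p + Module.rankAtStalk K p := by
        rw [h1, h2, h3]; rfl
      rw [hd] at h4
      simp only [Pi.one_apply] at h4
      omega
    haveI : Module.Free R K := ih K hrank
    exact Module.Free.of_equiv e.symm

end Groth.Agent.S16597
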