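import Groth.Statements.S16599
import Mathlib.Tactic

set_option autoImplicit false
open AlgebraicGeometry
universe u
open LGRing

namespace Groth.Agent.S16599

/-- Let R be an LG-ring, n ≥ 0, and U an open quasi-compact subscheme of affine n-space Spec R[X₁, …,
Xₙ]. If U has an (R ⧸ m)-valued point over R for every maximal ideal m of R, then U has an R-valued
point: some n-tuple x over R defines a section Spec R ⟶ Spec R[X₁, …, Xₙ] with image inside U. -/
theorem result {R : Type u} [CommRing R] (hR : LGRing.IsLGRing R)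
    (n : ℕ) (U : (Spec (CommRingCat.of (MvPolynomial (Fin n) R))).Opens)
    (hU : IsCompact (U : Set ↥(Spec (CommRingCat.of (MvPolynomial (Fin n) R)))))
    (h : ∀ (m : Ideal R) [m.IsMaximal], ∃ x : Fin n → R ⧸ m,
      Set.range (Spec.map (CommRingCat.ofHom (MvPolynomial.eval₂Hom (Ideal.Quotient.mk m) x))).base ⊆
        (U : Set ↥(Spec (CommRingCat.of (MvPolynomial (Fin n) R))))) :
    ∃ x : Fin n → R, Set.range (Spec.map (CommRingCat.ofHom (MvPolynomial.eval x))).base ⊆
      (U : Set ↥(Spec (CommRingCat.of (MvPolynomial (Fin n) R)))) := by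
  classical
  let U' : Set (PrimeSpectrum (MvPolynomial (Fin n) R)) := U.1
  obtain ⟨t, ht⟩ := (PrimeSpectrum.isCompact_isOpen_iff (R := MvPolynomial (Fin n) R)
    (s := U')).mp ⟨hU, U.2⟩
  -- translation of the range condition
  have key : ∀ (S : Type u) [CommRing S] (φ : MvPolynomial (Fin n) R →+* S),
      Set.range (Spec.map (CommRingCat.ofHom φ)).base ⊆
        (U : Set ↥(Spec (CommRingCat.of (MvPolynomial (Fin n) R)))) ↔
      ∀ q : PrimeSpectrum S, ∃ f ∈ t, φ f ∉ q.asIdeal := by
    intro S _ φ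
    constructor
    · intro hsub q
      have hq : PrimeSpectrum.comap φ q ∈ U' :=
        hsub ⟨q, rfl⟩
      rw [← ht, Set.mem_compl_iff, PrimeSpectrum.mem_zeroLocus, Set.not_subset] at hq
      obtain ⟨f, hft, hf⟩ := hq
      exact ⟨f, hft, hf⟩
    · rintro hq _ ⟨q, rfl⟩
      change PrimeSpectrum.comap φ q ∈ U'
      rw [← ht, Set.mem_compl_iff, PrimeSpectrum.mem_zeroLocus, Set.not_subset]
      obtain ⟨f, hft, hf⟩ := hq q
      exact ⟨f, hft, hf⟩
  -- enumerate t
  let e := t.equivFin
  let f : Fin t.card → MvPolynomial (Fin n) R := fun i => (e.symm i).1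
  have hfmem : ∀ i, f i ∈ t := fun i => (e.symm i).2
  have hfsurj : ∀ g ∈ t, ∃ i, f i = g := fun g hg => ⟨e ⟨g, hg⟩, by simp [f]⟩
  let F : MvPolynomial (Fin (n + t.card)) R :=
    ∑ i, MvPolynomial.X (Fin.natAdd n i) * MvPolynomial.rename (Fin.castAdd t.card) (f i)
  have hF : ∀ (S : Type u) [CommRing S] [Algebra R S] (s : Fin (n + t.card) → S),
      MvPolynomial.aeval s F =
        ∑ i, s (Fin.natAdd n i) * MvPolynomial.aeval (fun j => s (Fin.castAdd t.card j)) (f i) := by
    intro S _ _ s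
    simp only [F, map_sum, map_mul, MvPolynomial.aeval_X, MvPolynomial.aeval_rename]
    rfl
  have hloc : ∀ (m : Ideal R) [m.IsMaximal], LGRing.RepresentsUnit F (R ⧸ m) := by
    intro m hm
    letI : Field (R ⧸ m) := Ideal.Quotient.field m
    obtain ⟨x, hx⟩ := h m
    rw [key] at hx
    obtain ⟨g, hgt, hg⟩ := hx ⟨⊥, Ideal.isPrime_bot⟩
    obtain ⟨i, rfl⟩ := hfsurj g hgt
    refine ⟨Fin.append x (Pi.single i 1), ?_⟩
    rw [hF]
    simp only [Fin.append_left, Fin.append_right]
    rw [Finset.sum_eq_single i]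
    · rw [Pi.single_eq_same, one_mul, isUnit_iff_ne_zero]
      intro h0
      apply hg
      change _ ∈ (⊥ : Ideal (R ⧸ m))
      rw [Ideal.mem_bot, ← h0]
      rfl
    · intro j _ hj; rw [Pi.single_eq_of_ne hj, zero_mul]
    · intro h; exact absurd (Finset.mem_univ _) h
  obtain ⟨s, hs⟩ := hR (n + t.card) F hloc
  rw [hF] at hs
  refine ⟨fun j => s (Fin.castAdd t.card j), ?_⟩
  change Set.range (Spec.map (CommRingCat.ofHom
    (MvPolynomial.eval (fun j => s (Fin.castAdd t.card j)) : MvPolynomial (Fin n) R →+* R))).base ⊆ _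
  rw [key]
  intro q
  by_contra hcon
  push Not at hcon
  have : (∑ i, s (Fin.natAdd n i) *
      MvPolynomial.aeval (fun j => s (Fin.castAdd t.card j)) (f i)) ∈ q.asIdeal := by
    refine Ideal.sum_mem _ fun i _ => Ideal.mul_mem_left _ _ ?_
    have := hcon (f i) (hfmem i)
    rwa [← MvPolynomial.coe_aeval_eq_eval] at this
  exact q.2.ne_top (Ideal.eq_top_of_isUnit_mem _ this hs)

end Groth.Agent.S16599
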