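import Groth.Statements.S16600
import Mathlib.RingTheory.Spectrum.Prime.Topology
import Mathlib.RingTheory.Finiteness.Cardinality
import Mathlib.Algebra.Module.Projective
import Mathlib.Tactic

set_option autoImplicit false
open AlgebraicGeometry
universe u
open LGRing

namespace Groth.Agent.S16600

open MvPolynomial

section LG
variable {R : Type u} [CommRing R]

theorem lg_fintype (hR : LGRing.IsLGRing R) {σ : Type} [Fintype σ] (f : MvPolynomial σ R)
    (h : ∀ (m : Ideal R) [m.IsMaximal], LGRing.RepresentsUnit f (R ⧸ m)) :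
    LGRing.RepresentsUnit f R := by
  classical
  let e := Fintype.equivFin σ
  have h' : ∀ (m : Ideal R) [m.IsMaximal], LGRing.RepresentsUnit (rename e f) (R ⧸ m) := by
    intro m _
    obtain ⟨s, hs⟩ := h m
    refine ⟨s ∘ e.symm, ?_⟩
    rw [aeval_rename]
    have : (s ∘ e.symm) ∘ e = s := by ext i; simp
    rw [this]; exact hs
  obtain ⟨s, hs⟩ := hR _ _ h'
  refine ⟨s ∘ e, ?_⟩
  rw [aeval_rename] at hs
  exact hs

end LG

section Gen
variable {R : Type u} [CommRing R] {M : Type u} [AddCommGroup M] [Module R M]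
variable {R' : Type u} [CommRing R'] [Algebra R R']

def phiOf {n : ℕ} (x : Fin n → M) (a : Fin n → R') : Module.Dual R M →ₗ[R] R' where
  toFun ℓ := ∑ i, ℓ (x i) • a i
  map_add' ℓ ℓ' := by simp [add_smul, Finset.sum_add_distrib]
  map_smul' r ℓ := by simp [Finset.smul_sum, mul_smul]

theorem phiOf_apply {n : ℕ} (x : Fin n → M) (a : Fin n → R') (ℓ : Module.Dual R M) :
    phiOf x a ℓ = ∑ i, ℓ (x i) • a i := rfl

theorem expand {n : ℕ} (x : Fin n → M) (c : Fin n → Module.Dual R M)
    (hxc : ∀ y : M, ∑ i, c i y • x i = y) (φ : Module.Dual R M →ₗ[R] R') :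
    φ = phiOf x (fun i => φ (c i)) := by
  ext ℓ
  have hℓ : ℓ = ∑ i, ℓ (x i) • c i := by
    ext y
    calc ℓ y = ℓ (∑ i, c i y • x i) := by rw [hxc y]
      _ = (∑ i, ℓ (x i) • c i) y := by
        rw [map_sum, LinearMap.sum_apply]
        refine Finset.sum_congr rfl fun i _ => ?_
        rw [map_smul, LinearMap.smul_apply, smul_eq_mul, smul_eq_mul, mul_comm]
  calc φ ℓ = φ (∑ i, ℓ (x i) • c i) := by rw [← hℓ]
    _ = ∑ i, ℓ (x i) • φ (c i) := by
      rw [map_sum]; exact Finset.sum_congr rfl fun i _ => map_smul φ _ _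

noncomputable def Theta {n : ℕ} (x : Fin n → M) :
    SymmetricAlgebra R (Module.Dual R M) →ₐ[R] MvPolynomial (Fin n) R :=
  SymmetricAlgebra.lift (phiOf x (fun i => (X i : MvPolynomial (Fin n) R)))

theorem aeval_comp_Theta {n : ℕ} (x : Fin n → M) (a : Fin n → R') :
    (aeval a : MvPolynomial (Fin n) R →ₐ[R] R').comp (Theta x) =
      SymmetricAlgebra.lift (phiOf x a) := by
  apply SymmetricAlgebra.algHom_ext
  ext ℓ
  show (aeval a : MvPolynomial (Fin n) R →ₐ[R] R')
      ((SymmetricAlgebra.lift (phiOf x (fun i => (X i : MvPolynomial (Fin n) R))))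
        (SymmetricAlgebra.ι R _ ℓ)) =
    (SymmetricAlgebra.lift (phiOf x a)) (SymmetricAlgebra.ι R _ ℓ)
  rw [SymmetricAlgebra.lift_ι_apply, SymmetricAlgebra.lift_ι_apply, phiOf_apply, phiOf_apply,
    map_sum]
  refine Finset.sum_congr rfl fun i _ => ?_
  rw [map_smul, aeval_X]

noncomputable def bigF {n r : ℕ} (x : Fin n → M)
    (f : Fin r → SymmetricAlgebra R (Module.Dual R M)) : MvPolynomial (Fin n ⊕ Fin r) R :=
  ∑ j, rename Sum.inl (Theta x (f j)) * X (Sum.inr j)

theorem aeval_bigF {n r : ℕ} (x : Fin n → M)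
    (f : Fin r → SymmetricAlgebra R (Module.Dual R M)) (s : Fin n ⊕ Fin r → R') :
    aeval s (bigF x f) =
      ∑ j, SymmetricAlgebra.lift (phiOf x (s ∘ Sum.inl)) (f j) * s (Sum.inr j) := by
  rw [bigF, map_sum]
  refine Finset.sum_congr rfl fun j _ => ?_
  rw [map_mul, aeval_X, aeval_rename, ← aeval_comp_Theta]
  rfl

end Gen

section Spec

theorem crit {S : Type u} [CommRing S] {R' : Type u} [CommRing R'] (g : S →+* R') (t : Finset S)
    {r : ℕ} (f : Fin r → S) (hf : ∀ a ∈ t, ∃ j, f j = a) (hf' : ∀ j, f j ∈ t) :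
    (∀ q : PrimeSpectrum R', ∃ a ∈ t, g a ∉ q.asIdeal) ↔
      ∃ v : Fin r → R', ∑ j, v j * g (f j) = 1 := by
  constructor
  · intro h
    have hJ : Ideal.span (Set.range fun j => g (f j)) = ⊤ := by
      by_contra hJ
      obtain ⟨q, hq, hle⟩ := Ideal.exists_le_maximal _ hJ
      obtain ⟨a, hat, ha⟩ := h ⟨q, hq.isPrime⟩
      obtain ⟨j, rfl⟩ := hf a hat
      exact ha (hle (Ideal.subset_span ⟨j, rfl⟩))
    have h1 : (1 : R') ∈ Ideal.span (Set.range fun j => g (f j)) := by rw [hJ]; trivial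
    exact Ideal.mem_span_range_iff_exists_fun.mp h1
  · rintro ⟨v, hv⟩ q
    by_contra hcon
    push Not at hcon
    have : (1 : R') ∈ q.asIdeal := by
      rw [← hv]
      exact Ideal.sum_mem _ fun j _ => Ideal.mul_mem_left _ _ (hcon _ (hf' j))
    exact q.2.ne_top ((Ideal.eq_top_iff_one _).mpr this)

theorem range_subset_iff {S R' : Type u} [CommRing S] [CommRing R'] (g : S →+* R') (t : Finset S)
    (U : (Spec (CommRingCat.of S)).Opens)
    (hU : (PrimeSpectrum.zeroLocus (t : Set S))ᶜ = (U : Set ↥(Spec (CommRingCat.of S)))) :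
    Set.range (Spec.map (CommRingCat.ofHom g)).base ⊆ (U : Set ↥(Spec (CommRingCat.of S))) ↔
      ∀ q : PrimeSpectrum R', ∃ a ∈ t, g a ∉ q.asIdeal := by
  rw [← hU]
  constructor
  · intro h q
    have this : PrimeSpectrum.comap g q ∉ PrimeSpectrum.zeroLocus (t : Set S) := h ⟨q, rfl⟩
    rw [PrimeSpectrum.mem_zeroLocus, Set.not_subset] at this
    obtain ⟨a, hat, ha⟩ := this
    exact ⟨a, hat, ha⟩
  · rintro h _ ⟨q, rfl⟩
    show PrimeSpectrum.comap g q ∉ PrimeSpectrum.zeroLocus (t : Set S)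
    rw [PrimeSpectrum.mem_zeroLocus, Set.not_subset]
    obtain ⟨a, hat, ha⟩ := h q
    exact ⟨a, hat, ha⟩

end Spec

/-- Let R be an LG-ring, M a finite locally free R-module, W(M) = Spec Sym(M^∨) the vector bundle of M
(its points with values in an R-algebra R' are the R-algebra maps Sym(M^∨) → R', i.e. the R-linear
maps M^∨ → R'), and U ⊆ W(M) an open quasi-compact subscheme. Then U(R) is non-empty if and only if
U(R ⧸ m) is non-empty for every maximal ideal m of R. -/
theorem result {R : Type u} [CommRing R]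
    (hR : LGRing.IsLGRing R) (M : Type u) [AddCommGroup M] [Module R M] [Module.Finite R M] [Module.Projective R M]
    (U : (Spec (CommRingCat.of (SymmetricAlgebra R (Module.Dual R M)))).Opens)
    (hU : IsCompact (U : Set ↥(Spec (CommRingCat.of (SymmetricAlgebra R (Module.Dual R M)))))) :
    (∃ φ : Module.Dual R M →ₗ[R] R,
      Set.range (Spec.map (CommRingCat.ofHom (SymmetricAlgebra.lift φ).toRingHom)).base ⊆
        (U : Set ↥(Spec (CommRingCat.of (SymmetricAlgebra R (Module.Dual R M)))))) ↔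
    ∀ (m : Ideal R) [m.IsMaximal], ∃ φ : Module.Dual R M →ₗ[R] (R ⧸ m),
      Set.range (Spec.map (CommRingCat.ofHom (SymmetricAlgebra.lift φ).toRingHom)).base ⊆
        (U : Set ↥(Spec (CommRingCat.of (SymmetricAlgebra R (Module.Dual R M))))) := by
  constructor
  · rintro ⟨φ, hφ⟩ m _
    refine ⟨(Algebra.linearMap R (R ⧸ m)).comp φ, ?_⟩
    have hc : SymmetricAlgebra.lift ((Algebra.linearMap R (R ⧸ m)).comp φ) =
        (Algebra.ofId R (R ⧸ m)).comp (SymmetricAlgebra.lift φ) := by
      apply SymmetricAlgebra.algHom_ext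
      ext ℓ
      simp
    rintro _ ⟨q, rfl⟩
    apply hφ
    refine ⟨(Spec.map (CommRingCat.ofHom (algebraMap R (R ⧸ m)))).base q, ?_⟩
    rw [hc]
    rfl
  · intro h
    classical
    obtain ⟨t, ht⟩ := (PrimeSpectrum.isCompact_isOpen_iff
      (R := SymmetricAlgebra R (Module.Dual R M))).mp ⟨hU, U.2⟩
    obtain ⟨n, π, hπ⟩ := Module.Finite.exists_fin' R M
    obtain ⟨sec, hsec⟩ := Module.projective_lifting_property π LinearMap.id hπ
    set x : Fin n → M := fun i => π (fun j => if i = j then 1 else 0) with hx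
    set c : Fin n → Module.Dual R M := fun i => (LinearMap.proj i).comp sec with hc
    have hxc : ∀ y : M, ∑ i, c i y • x i = y := by
      intro y
      have := LinearMap.pi_apply_eq_sum_univ π (sec y)
      rw [show π (sec y) = y from LinearMap.congr_fun hsec y] at this
      exact this.symm
    let fj : Fin t.card → SymmetricAlgebra R (Module.Dual R M) := fun j => (t.equivFin.symm j : _)
    have hfj : ∀ a ∈ t, ∃ j, fj j = a := fun a ha => ⟨t.equivFin ⟨a, ha⟩, by simp [fj]⟩
    have hfj' : ∀ j, fj j ∈ t := fun j => (t.equivFin.symm j).2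
    have hloc : ∀ (m : Ideal R) [m.IsMaximal], LGRing.RepresentsUnit (bigF x fj) (R ⧸ m) := by
      intro m _
      obtain ⟨φ, hφ⟩ := h m
      rw [range_subset_iff _ t U ht, crit _ t fj hfj hfj'] at hφ
      obtain ⟨v, hv⟩ := hφ
      refine ⟨Sum.elim (fun i => φ (c i)) v, ?_⟩
      rw [aeval_bigF]
      have e1 : (Sum.elim (fun i => φ (c i)) v) ∘ Sum.inl = fun i => φ (c i) := rfl
      rw [e1, ← expand x c hxc φ]
      have : ∑ j, (SymmetricAlgebra.lift φ) (fj j) * Sum.elim (fun i => φ (c i)) v (Sum.inr j) = 1 := by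
        rw [← hv]; refine Finset.sum_congr rfl fun j _ => ?_; rw [mul_comm]; rfl
      rw [this]; exact isUnit_one
    obtain ⟨s, hs⟩ := lg_fintype hR _ hloc
    rw [aeval_bigF] at hs
    refine ⟨phiOf x (s ∘ Sum.inl), ?_⟩
    rw [range_subset_iff _ t U ht]
    intro q
    by_contra hcon
    push Not at hcon
    have hmem : ∑ j, (SymmetricAlgebra.lift (phiOf x (s ∘ Sum.inl))) (fj j) * s (Sum.inr j) ∈ q.asIdeal :=
      Ideal.sum_mem _ fun j _ => Ideal.mul_mem_right _ _ (hcon _ (hfj' j))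
    exact q.2.ne_top (Ideal.eq_top_of_isUnit_mem _ hmem hs)

end Groth.Agent.S16600
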