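import Groth.Statements.S16601
import Groth.Agent.S16600
import Mathlib.Algebra.MvPolynomial.Funext
import Mathlib.RingTheory.Polynomial.Basic

set_option autoImplicit false
open AlgebraicGeometry
universe u
open LGRing

namespace Groth.Agent.S16601

open MvPolynomial Groth.Agent.S16600

/-- Let R be an LG-ring whose residue fields at maximal ideals are all infinite (R satisfies the
primitive criterion), M a finite locally free R-module with vector bundle W(M) = Spec Sym(M^∨), and
U ⊆ W(M) an open quasi-compact subscheme which is fibrewise dense over the closed points of Spec R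
(for every maximal ideal m, the trace of U on the closed fibre Spec (Sym(M^∨) ⧸ m Sym(M^∨)) is
dense). Then U has an R-valued point. (The source asks U to be R-dense in W(M); only density of the
closed fibres is used, which is what is assumed here.) -/
theorem result {R : Type u} [CommRing R]
    (hR : LGRing.IsLGRing R) (hinf : ∀ (m : Ideal R) [m.IsMaximal], Infinite (R ⧸ m))
    (M : Type u) [AddCommGroup M] [Module R M] [Module.Finite R M] [Module.Projective R M]
    (U : (Spec (CommRingCat.of (SymmetricAlgebra R (Module.Dual R M)))).Opens)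
    (hU : IsCompact (U : Set ↥(Spec (CommRingCat.of (SymmetricAlgebra R (Module.Dual R M))))))
    (hdense : ∀ (m : Ideal R) [m.IsMaximal],
      Dense ((Spec.map (CommRingCat.ofHom (Ideal.Quotient.mk
        (Ideal.map (algebraMap R (SymmetricAlgebra R (Module.Dual R M))) m)))).base ⁻¹'
          (U : Set ↥(Spec (CommRingCat.of (SymmetricAlgebra R (Module.Dual R M))))))) :
    ∃ φ : Module.Dual R M →ₗ[R] R,
      Set.range (Spec.map (CommRingCat.ofHom (SymmetricAlgebra.lift φ).toRingHom)).base ⊆
        (U : Set ↥(Spec (CommRingCat.of (SymmetricAlgebra R (Module.Dual R M))))) := by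
  classical
  refine (Groth.Agent.S16600.result hR M U hU).mpr ?_
  intro m _
  obtain ⟨t, ht⟩ := (PrimeSpectrum.isCompact_isOpen_iff
    (R := SymmetricAlgebra R (Module.Dual R M))).mp ⟨hU, U.2⟩
  obtain ⟨n, π, hπ⟩ := Module.Finite.exists_fin' R M
  obtain ⟨sec, hsec⟩ := Module.projective_lifting_property π LinearMap.id hπ
  set x : Fin n → M := fun i => π (fun j => if i = j then 1 else 0) with hx
  set c : Fin n → Module.Dual R M := fun i => (LinearMap.proj i).comp sec with hc
  have hxc : ∀ y : M, ∑ i, c i y • x i = y := by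
    intro y
    have := LinearMap.pi_apply_eq_sum_univ π (sec y)
    rw [show π (sec y) = y from LinearMap.congr_fun hsec y] at this
    exact this.symm
  have hne : Ideal.map (algebraMap R (SymmetricAlgebra R (Module.Dual R M))) m ≠ ⊤ := by
    intro htop
    have hle : Ideal.map (algebraMap R (SymmetricAlgebra R (Module.Dual R M))) m ≤
        Ideal.comap (SymmetricAlgebra.algebraMapInv (R := R) (M := Module.Dual R M)).toRingHom m := by
      rw [Ideal.map_le_iff_le_comap]
      intro r hr
      show (SymmetricAlgebra.algebraMapInv (R := R) (M := Module.Dual R M)) (algebraMap R _ r) ∈ m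
      rw [AlgHom.commutes]; exact hr
    have h1 : (1 : SymmetricAlgebra R (Module.Dual R M)) ∈
        Ideal.map (algebraMap R (SymmetricAlgebra R (Module.Dual R M))) m := by rw [htop]; trivial
    have h2 := hle h1
    rw [Ideal.mem_comap, map_one] at h2
    exact (Ideal.IsMaximal.ne_top ‹_›) ((Ideal.eq_top_iff_one _).mpr h2)
  have hnt : Nontrivial (SymmetricAlgebra R (Module.Dual R M) ⧸
      Ideal.map (algebraMap R (SymmetricAlgebra R (Module.Dual R M))) m) :=
    Ideal.Quotient.nontrivial_iff.mpr hne
  have hnonempty : Nonempty ↥(Spec (CommRingCat.of (SymmetricAlgebra R (Module.Dual R M) ⧸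
      Ideal.map (algebraMap R (SymmetricAlgebra R (Module.Dual R M))) m))) :=
    inferInstanceAs (Nonempty (PrimeSpectrum (SymmetricAlgebra R (Module.Dual R M) ⧸
      Ideal.map (algebraMap R (SymmetricAlgebra R (Module.Dual R M))) m)))
  obtain ⟨Q, hQ⟩ := (hdense m).nonempty
  have hQ' : PrimeSpectrum.comap (Ideal.Quotient.mk
      (Ideal.map (algebraMap R (SymmetricAlgebra R (Module.Dual R M))) m)) Q ∉
      PrimeSpectrum.zeroLocus (t : Set (SymmetricAlgebra R (Module.Dual R M))) := by
    have h3 : (Spec.map (CommRingCat.ofHom (Ideal.Quotient.mk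
      (Ideal.map (algebraMap R (SymmetricAlgebra R (Module.Dual R M))) m)))).base Q ∈
        (U : Set ↥(Spec (CommRingCat.of (SymmetricAlgebra R (Module.Dual R M))))) := hQ
    rw [← ht] at h3; exact h3
  rw [PrimeSpectrum.mem_zeroLocus, Set.not_subset] at hQ'
  obtain ⟨f, hft, hf⟩ := hQ'
  have hfm : f ∉ Ideal.map (algebraMap R (SymmetricAlgebra R (Module.Dual R M))) m := by
    intro hmem
    apply hf
    show Ideal.Quotient.mk _ f ∈ Q.asIdeal
    rw [Ideal.Quotient.eq_zero_iff_mem.mpr hmem]; exact Q.asIdeal.zero_mem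
  set P := MvPolynomial.map (Ideal.Quotient.mk m) (Theta x f) with hP
  have hPne : P ≠ 0 := by
    intro h0
    apply hfm
    have hker : Theta x f ∈ Ideal.map (C : R →+* MvPolynomial (Fin n) R) m := by
      have h4 : Theta x f ∈ RingHom.ker
          (MvPolynomial.map (Ideal.Quotient.mk m) : MvPolynomial (Fin n) R →+* _) := h0
      rwa [MvPolynomial.ker_map, Ideal.mk_ker] at h4
    let Ψ : MvPolynomial (Fin n) R →ₐ[R] SymmetricAlgebra R (Module.Dual R M) :=
      aeval (fun i => SymmetricAlgebra.ι R _ (c i))
    have hΨΘ : Ψ.comp (Theta x) = AlgHom.id R (SymmetricAlgebra R (Module.Dual R M)) := by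
      apply SymmetricAlgebra.algHom_ext
      ext ℓ
      show Ψ ((SymmetricAlgebra.lift (phiOf x (fun i => (X i : MvPolynomial (Fin n) R))))
        (SymmetricAlgebra.ι R _ ℓ)) = SymmetricAlgebra.ι R _ ℓ
      have e := LinearMap.congr_fun (expand x c hxc (SymmetricAlgebra.ι R (Module.Dual R M))) ℓ
      refine Eq.trans ?_ e.symm
      rw [SymmetricAlgebra.lift_ι_apply, phiOf_apply, phiOf_apply, map_sum]
      refine Finset.sum_congr rfl fun i _ => ?_
      rw [map_smul, aeval_X]
    have hf_eq : f = Ψ (Theta x f) := (AlgHom.congr_fun hΨΘ f).symm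
    rw [hf_eq]
    have h5 := Ideal.mem_map_of_mem Ψ.toRingHom hker
    rw [Ideal.map_map] at h5
    have hcomp : Ψ.toRingHom.comp (C : R →+* MvPolynomial (Fin n) R) =
        algebraMap R (SymmetricAlgebra R (Module.Dual R M)) := by
      ext r; exact Ψ.commutes r
    rw [hcomp] at h5
    exact h5
  have hinf' : Infinite (R ⧸ m) := hinf m
  obtain ⟨a, ha⟩ : ∃ a : Fin n → R ⧸ m, MvPolynomial.eval a P ≠ 0 := by
    by_contra hcon
    push Not at hcon
    exact hPne (MvPolynomial.funext fun a => by rw [hcon a, map_zero])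
  refine ⟨phiOf x a, ?_⟩
  rw [range_subset_iff _ t U ht]
  intro Q'
  refine ⟨f, hft, ?_⟩
  intro hmem
  have hval : (SymmetricAlgebra.lift (phiOf x a)).toRingHom f = MvPolynomial.eval a P := by
    show (SymmetricAlgebra.lift (phiOf x a)) f = _
    rw [← aeval_comp_Theta, AlgHom.comp_apply, hP, MvPolynomial.eval_map, MvPolynomial.aeval_def]
    rfl
  rw [hval] at hmem
  obtain ⟨b, hb⟩ := ((Ideal.Quotient.maximal_ideal_iff_isField_quotient m).mp ‹_›).mul_inv_cancel ha
  exact Q'.2.ne_top ((Ideal.eq_top_iff_one _).mpr (hb ▸ Ideal.mul_mem_right _ _ hmem))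

end Groth.Agent.S16601
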