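import Groth.Statements.S16602
import Mathlib
import Groth.Agent.H83.LGAzB

set_option autoImplicit false
universe u v w
open Brauer

namespace Groth.Agent.S16602

theorem bijective_of_surjective_of_indecomposable {A : Type*} [Ring A] (P Q : Type*)
    [AddCommGroup P] [Module A P] [AddCommGroup Q] [Module A Q] [Module.Projective A Q]
    [Nontrivial Q]
    (hP : ∀ e : Module.End A P, IsIdempotentElem e → e = 0 ∨ e = 1) (f : P →ₗ[A] Q)
    (hf : Function.Surjective f) : Function.Bijective f := by
  obtain ⟨s, hs⟩ := Module.projective_lifting_property f LinearMap.id hf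
  have hs' : ∀ q, f (s q) = q := fun q => LinearMap.congr_fun hs q
  let e : Module.End A P := s ∘ₗ f
  have he : IsIdempotentElem e := by
    change e * e = e
    ext x
    simp only [e, Module.End.mul_apply, LinearMap.comp_apply, hs']
  rcases hP e he with h0 | h1
  · exfalso
    obtain ⟨q, hq⟩ := exists_ne (0 : Q)
    apply hq
    have h1 : e (s q) = 0 := by rw [h0]; rfl
    have h2 : s q = 0 := by
      simpa only [e, LinearMap.comp_apply, hs'] using h1
    rw [← hs' q, h2, map_zero]
  · refine ⟨fun x y hxy => ?_, hf⟩
    have hx : e x = x := by rw [h1]; rfl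
    have hy : e y = y := by rw [h1]; rfl
    rw [← hx, ← hy]
    change s (f x) = s (f y)
    rw [hxy]

/-- Let R be an LG-ring with Spec R connected and A an Azumaya R-algebra. Then any two indecomposable
finitely generated projective left A-modules are isomorphic (a module is indecomposable when it is
non-zero and the only idempotents of its endomorphism ring are 0 and 1). (This extends the semilocal
case.) -/
theorem result {R : Type u} [CommRing R]
    (hR : LGRing.IsLGRing R) [ConnectedSpace (PrimeSpectrum R)] {A : Type v} [Ring A] [Algebra R A] [IsAzumaya R A]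
    (P Q : Type w) [AddCommGroup P] [Module A P] [Module.Finite A P] [Module.Projective A P] [Nontrivial P]
    [AddCommGroup Q] [Module A Q] [Module.Finite A Q] [Module.Projective A Q] [Nontrivial Q]
    (hP : ∀ e : Module.End A P, IsIdempotentElem e → e = 0 ∨ e = 1)
    (hQ : ∀ e : Module.End A Q, IsIdempotentElem e → e = 0 ∨ e = 1) : Nonempty (P ≃ₗ[A] Q) := by
  classical
  letI : Module R P := Module.compHom P (algebraMap R A)
  letI : Module R Q := Module.compHom Q (algebraMap R A)
  have : IsScalarTower R A P := ⟨fun r a x => by
    change (r • a) • x = (algebraMap R A r) • (a • x)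
    rw [Algebra.smul_def, mul_smul]⟩
  have : IsScalarTower R A Q := ⟨fun r a x => by
    change (r • a) • x = (algebraMap R A r) • (a • x)
    rw [Algebra.smul_def, mul_smul]⟩
  have : Module.Finite R P := Module.Finite.trans A P
  have : Module.Finite R Q := Module.Finite.trans A Q
  have : Module.Projective R P := Groth.Agent.H83.LGAz.projective_of_tower (R := R) (A := A) P
  have : Module.Projective R Q := Groth.Agent.H83.LGAz.projective_of_tower (R := R) (A := A) Q
  have : Module.FinitePresentation R P := Module.finitePresentation_of_projective R P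
  have : Module.FinitePresentation R Q := Module.finitePresentation_of_projective R Q
  have hcP := Module.isLocallyConstant_rankAtStalk (R := R) (M := P)
  have hcQ := Module.isLocallyConstant_rankAtStalk (R := R) (M := Q)
  obtain ⟨p₀⟩ : Nonempty (PrimeSpectrum R) := inferInstance
  have hrP : ∀ p, Module.rankAtStalk P p = Module.rankAtStalk P p₀ :=
    fun p => hcP.apply_eq_of_preconnectedSpace p p₀
  have hrQ : ∀ p, Module.rankAtStalk Q p = Module.rankAtStalk Q p₀ :=
    fun p => hcQ.apply_eq_of_preconnectedSpace p p₀
  rcases le_total (Module.rankAtStalk Q p₀) (Module.rankAtStalk P p₀) with hle | hle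
  · obtain ⟨f, hf⟩ := Groth.Agent.H83.LGAz.exists_surjective (A := A) hR P Q
      (fun p => by rw [hrP, hrQ]; exact hle)
    exact ⟨LinearEquiv.ofBijective f (bijective_of_surjective_of_indecomposable P Q hP f hf)⟩
  · obtain ⟨f, hf⟩ := Groth.Agent.H83.LGAz.exists_surjective (A := A) hR Q P
      (fun p => by rw [hrP, hrQ]; exact hle)
    exact ⟨(LinearEquiv.ofBijective f
      (bijective_of_surjective_of_indecomposable Q P hQ f hf)).symm⟩

end Groth.Agent.S16602
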