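import Groth.Statements.S16605
import Groth.Agent.H83.LGIso

set_option autoImplicit false
universe u v
open LGRing

namespace Groth.Agent.S16605

/-- Let R be an LG-ring, M₁ and M₂ finite projective R-modules and n ≥ 1 an integer. If M₁ⁿ ≅ M₂ⁿ as
R-modules then M₁ ≅ M₂ (cancellation of modules). -/
theorem result {R : Type u} [CommRing R] (hR : LGRing.IsLGRing R)
    (M₁ M₂ : Type v) [AddCommGroup M₁] [Module R M₁] [Module.Finite R M₁] [Module.Projective R M₁]
    [AddCommGroup M₂] [Module R M₂] [Module.Finite R M₂] [Module.Projective R M₂] (n : ℕ) (hn : 0 < n)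
    (e : (Fin n → M₁) ≃ₗ[R] (Fin n → M₂)) : Nonempty (M₁ ≃ₗ[R] M₂) := by
  classical
  apply Groth.Agent.H83.nonempty_linearEquiv_of_rankAtStalk_eq hR M₁ M₂
  intro p
  have h1 := congrFun (Module.rankAtStalk_eq_of_equiv (R := R) e) p
  rw [Module.rankAtStalk_pi, Module.rankAtStalk_pi, finsum_eq_sum_of_fintype,
    finsum_eq_sum_of_fintype, Finset.sum_const, Finset.sum_const, Finset.card_univ,
    Fintype.card_fin, smul_eq_mul, smul_eq_mul] at h1
  exact Nat.eq_of_mul_eq_mul_left hn h1

end Groth.Agent.S16605
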