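import Groth.Statements.S16607
import Mathlib
import Groth.Agent.H83.LGAzD

set_option autoImplicit false
universe u v
open Brauer

namespace Groth.Agent.S16607

open TensorProduct

/-- Let R be an LG-ring, A and B Azumaya R-algebras and n ≥ 1. If Mₙ(A) ≅ Mₙ(B) as R-algebras then A ≅ B
as R-algebras (cancellation of Azumaya algebras). -/
theorem result {R : Type u} [CommRing R]
    (hR : LGRing.IsLGRing R) (A B : Type v) [Ring A] [Algebra R A] [IsAzumaya R A] [Ring B] [Algebra R B]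
    [IsAzumaya R B] (n : ℕ) (hn : 0 < n)
    (e : Matrix (Fin n) (Fin n) A ≃ₐ[R] Matrix (Fin n) (Fin n) B) : Nonempty (A ≃ₐ[R] B) := by
  classical
  have : Nonempty (Fin n) := ⟨⟨0, hn⟩⟩
  have : IsAzumaya R (Matrix (Fin n) (Fin n) R) := IsAzumaya.matrix R (Fin n)
  have : FaithfulSMul R (Fin n → R) := ⟨fun {r₁ r₂} h => by
    have h1 := congrFun (h (fun _ => (1 : R))) ⟨0, hn⟩
    simpa using h1⟩
  let μ : Matrix (Fin n) (Fin n) R ≃ₐ[R] Module.End R (Fin n → R) :=
    (LinearMap.toMatrixAlgEquiv' (R := R) (n := Fin n)).symm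
  let e' : A ⊗[R] Module.End R (Fin n → R) ≃ₐ[R] B ⊗[R] Module.End R (Fin n → R) :=
    (Algebra.TensorProduct.congr (AlgEquiv.refl : A ≃ₐ[R] A) μ.symm).trans
      ((matrixEquivTensor (Fin n) R A).symm.trans
        (e.trans ((matrixEquivTensor (Fin n) R B).trans
          (Algebra.TensorProduct.congr (AlgEquiv.refl : B ≃ₐ[R] B) μ))))
  have hdeg : ∀ p : PrimeSpectrum R, Module.rankAtStalk A p = Module.rankAtStalk B p := by
    intro p
    let e'' : A ⊗[R] Matrix (Fin n) (Fin n) R ≃ₐ[R] B ⊗[R] Matrix (Fin n) (Fin n) R :=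
      (matrixEquivTensor (Fin n) R A).symm.trans (e.trans (matrixEquivTensor (Fin n) R B))
    have h1 : Module.rankAtStalk (A ⊗[R] Matrix (Fin n) (Fin n) R) p =
        Module.rankAtStalk (B ⊗[R] Matrix (Fin n) (Fin n) R) p := by
      rw [Module.rankAtStalk_eq_of_equiv e''.toLinearEquiv]
    rw [Module.rankAtStalk_tensorProduct, Module.rankAtStalk_tensorProduct, Pi.mul_apply,
      Pi.mul_apply] at h1
    have hC : 0 < Module.rankAtStalk (Matrix (Fin n) (Fin n) R) p :=
      Groth.Agent.H83.LGAz.one_le_rankAtStalk (Matrix (Fin n) (Fin n) R) p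
    exact Nat.eq_of_mul_eq_mul_right hC h1
  exact Groth.Agent.H83.LGAz.algEquiv_of_tensor_end hR A B hdeg (Fin n → R) (Fin n → R) e'

end Groth.Agent.S16607
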