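import Groth.Statements.S1661
import Groth.Agent.H9.RegImm

set_option autoImplicit false
universe u
open CategoryTheory CategoryTheory.Limits AlgebraicGeometry
open Divisors

namespace Groth.Agent.S1661

/-- If i : Z → Y and j : Y → X are regular closed immersions then so is their composite Z → X. This is
the closed-immersion case of the published statement. -/
theorem result {Z Y X : Scheme.{u}} (i : Z ⟶ Y) (j : Y ⟶ X)
    (hi : Mor2.IsRegularClosedImmersion i) (hj : Mor2.IsRegularClosedImmersion j) : Mor2.IsRegularClosedImmersion (i ≫ j) := by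
  obtain ⟨hci, hi⟩ := hi
  obtain ⟨hcj, hj⟩ := hj
  haveI := hci
  haveI := hcj
  refine ⟨inferInstance, fun z => ?_⟩
  obtain ⟨U, hU, hxU, rs, hrs, hjker⟩ := hj (i z)
  obtain ⟨V, hV, hyV, ss, hss, hiker⟩ := hi z
  have hU' : IsAffineOpen (j ⁻¹ᵁ U) := hU.preimage j
  have hyU' : i z ∈ j ⁻¹ᵁ U := hxU
  obtain ⟨f', g, hfg, hyf'⟩ := exists_basicOpen_le_affine_inter hU' hV (i z) ⟨hyU', hyV⟩
  obtain ⟨f, hf⟩ := j.app_surjective U hU f'
  have hW : IsAffineOpen (X.basicOpen f) := hU.basicOpen f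
  have hpre : j ⁻¹ᵁ X.basicOpen f = Y.basicOpen f' := by
    rw [Scheme.preimage_basicOpen]
    exact congrArg Y.basicOpen hf
  have hxW : j (i z) ∈ X.basicOpen f := by
    have h1 : i z ∈ j ⁻¹ᵁ X.basicOpen f := by rw [hpre]; exact hyf'
    exact h1
  have hWU : X.basicOpen f ≤ U := X.basicOpen_le f
  have hW'V : j ⁻¹ᵁ X.basicOpen f ≤ V := by rw [hpre, hfg]; exact Y.basicOpen_le g
  have hW' : IsAffineOpen (j ⁻¹ᵁ X.basicOpen f) := hW.preimage j
  obtain ⟨hrs', hjker'⟩ := Groth.Agent.H9.isWeaklyRegular_restrict j.ker (U := ⟨U, hU⟩)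
    (W := ⟨X.basicOpen f, hW⟩) hWU rs hrs.toIsWeaklyRegular hjker
  obtain ⟨hss', hiker'⟩ := Groth.Agent.H9.isWeaklyRegular_restrict i.ker (U := ⟨V, hV⟩)
    (W := ⟨j ⁻¹ᵁ X.basicOpen f, hW'⟩) hW'V ss hss.toIsWeaklyRegular hiker
  set rs' := rs.map (X.presheaf.map (homOfLE hWU).op).hom with hrs'def
  set ss' := ss.map (Y.presheaf.map (homOfLE hW'V).op).hom with hss'def
  have hψsurj : Function.Surjective (j.app (X.basicOpen f)).hom := j.app_surjective _ hW
  obtain ⟨ts, hts⟩ := (List.map_surjective_iff.2 hψsurj) ss'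
  have hψker : RingHom.ker (j.app (X.basicOpen f)).hom = Ideal.ofList rs' := by
    rw [← hjker', Scheme.Hom.ker_apply]
  have hiker'' : RingHom.ker (i.app (j ⁻¹ᵁ X.basicOpen f)).hom = Ideal.ofList ss' := by
    rw [← hiker', Scheme.Hom.ker_apply]
  have hkercomp : RingHom.ker ((i ≫ j).app (X.basicOpen f)).hom = Ideal.ofList (rs' ++ ts) := by
    have h0 : RingHom.ker ((i ≫ j).app (X.basicOpen f)).hom =
        (RingHom.ker (i.app (j ⁻¹ᵁ X.basicOpen f)).hom).comap (j.app (X.basicOpen f)).hom := by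
      ext a
      rw [RingHom.mem_ker, Ideal.mem_comap, RingHom.mem_ker]
      exact Iff.rfl
    rw [h0, hiker'', ← hts, ← Ideal.map_ofList,
      Ideal.comap_map_of_surjective _ hψsurj, Ideal.ofList_append, sup_comm]
    congr 1
  have hideal : (i ≫ j).ker.ideal ⟨X.basicOpen f, hW⟩ = Ideal.ofList (rs' ++ ts) :=
    (Scheme.Hom.ker_apply (i ≫ j) ⟨X.basicOpen f, hW⟩).trans hkercomp
  refine ⟨X.basicOpen f, hW, ?_, rs' ++ ts, ?_, hideal⟩
  · rw [Scheme.Hom.comp_apply]; exact hxW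
  · rw [Groth.Agent.H9.isRegular_ring_iff]
    constructor
    · rw [RingTheory.Sequence.isWeaklyRegular_append_iff]
      refine ⟨hrs', ?_⟩
      algebraize [(j.app (X.basicOpen f)).hom]
      have h1 : RingTheory.Sequence.IsWeaklyRegular Γ(Y, j ⁻¹ᵁ X.basicOpen f) ts := by
        rw [← RingTheory.Sequence.isWeaklyRegular_map_algebraMap_iff
          Γ(Y, j ⁻¹ᵁ X.basicOpen f) Γ(Y, j ⁻¹ᵁ X.basicOpen f) ts]
        have h2 : ts.map (algebraMap Γ(X, X.basicOpen f) Γ(Y, j ⁻¹ᵁ X.basicOpen f)) = ss' := hts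
        rw [h2]
        exact hss'
      have hEq : (Ideal.ofList rs' • ⊤ : Submodule Γ(X, X.basicOpen f) Γ(X, X.basicOpen f)) =
          LinearMap.ker (Algebra.linearMap Γ(X, X.basicOpen f) Γ(Y, j ⁻¹ᵁ X.basicOpen f)) := by
        rw [smul_eq_mul, Ideal.mul_top, ← hψker]
        ext a
        rw [RingHom.mem_ker, LinearMap.mem_ker]
        rfl
      exact (((Submodule.quotEquivOfEq _ _ hEq).trans
        ((Algebra.linearMap Γ(X, X.basicOpen f)
          Γ(Y, j ⁻¹ᵁ X.basicOpen f)).quotKerEquivOfSurjective hψsurj)).isWeaklyRegular_congr ts).2 h1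
    · rw [← hideal]
      exact Groth.Agent.H9.ker_ideal_ne_top (i ≫ j) ⟨X.basicOpen f, hW⟩ z
        (by rw [Scheme.Hom.comp_apply]; exact hxW)

end Groth.Agent.S1661
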