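import Groth.Statements.S16611
import Groth.Agent.H43.MTInst
import Groth.Agent.H1.HomDiag.Crit
import Groth.Agent.H1.HomDiag.MonoTorus

set_option autoImplicit false
open CategoryTheory MonoidalCategory CartesianMonoidalCategory MonObj GrpObj AlgebraicGeometry
universe u
open SGA3x

namespace Groth.Agent.S16611
open Groth.Agent.H43.MT in
theorem isMultTypeFT_of_isTorus {S : Scheme.{u}} (T : Over S) [GrpObj T] (hT : Red.IsTorus T) :
    SGA3x.IsMultTypeFT T := by
  obtain ⟨S', g, hfl, hsu, hq, hloc⟩ := hT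
  refine ⟨S', g, hfl, hsu, hq, fun s' => ?_⟩
  obtain ⟨U, hU, r, hr⟩ := hloc s'
  exact ⟨U, hU, Fin r → ℤ, inferInstance, (Module.Finite.iff_addGroup_fg).1 inferInstance, hr⟩


/-- Over an arbitrary scheme S, a monomorphism f : T ⟶ T' of S-tori with the same rank function (at
every point of S the geometric fibres of T and T' are split tori of the same rank) is an
isomorphism. -/
theorem result {S : Scheme.{u}} {T T' : Over S} [GrpObj T] [GrpObj T']
    (hT : Red.IsTorus T) (hT' : Red.IsTorus T') (f : T ⟶ T') [IsMonHom f] [Mono f]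
    (hrk : ∀ s : ↥S, ∃ r : ℕ, Red.IsSplitTorusWith (Fin r → ℤ) (Red.geomFibre s T) ∧
      Red.IsSplitTorusWith (Fin r → ℤ) (Red.geomFibre s T')) : IsIso f := by
  obtain ⟨U, -, hU, hUiso⟩ := Groth.Agent.H43.MT.locus (MorphismProperty.isomorphisms Scheme.{u})
    (fun {N M} _ _ φ => Function.Bijective φ)
    (fun X {N M} _ _ φ h => Groth.Agent.H1.HomDiag.isIso_of_bijective X φ h)
    (fun X _ {N M} _ _ φ h => Groth.Agent.H1.HomDiag.bijective_of_isIso X φ h)
    T T' (isMultTypeFT_of_isTorus T hT) (isMultTypeFT_of_isTorus T' hT') f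
  have hall : ∀ s : S, s ∈ U := by
    intro s
    rw [hU]
    obtain ⟨r, ⟨a⟩, ⟨b⟩⟩ := hrk s
    obtain ⟨a₀, ha₀⟩ : ∃ a₀ : Red.geomFibre s T ≅ Red.DS _ (Fin r → ℤ),
      a₀ = Groth.Agent.H91.MultGa.isoOfGrpIso a := ⟨_, rfl⟩
    obtain ⟨b₀, hb₀⟩ : ∃ b₀ : Red.geomFibre s T' ≅ Red.DS _ (Fin r → ℤ),
      b₀ = Groth.Agent.H91.MultGa.isoOfGrpIso b := ⟨_, rfl⟩
    have hma : IsMonHom a₀.hom := by rw [ha₀]; infer_instance
    have hma' : IsMonHom a₀.inv := inferInstance
    have hmb : IsMonHom b₀.hom := by rw [hb₀]; infer_instance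
    obtain ⟨fs, hfs⟩ : ∃ fs : Red.geomFibre s T ⟶ Red.geomFibre s T',
      fs = (Over.pullback (Red.geomPt s)).map f := ⟨_, rfl⟩
    have hmf : IsMonHom fs := by rw [hfs]; infer_instance
    have hmonofs : Mono fs := by rw [hfs]; infer_instance
    obtain ⟨v, hv⟩ : ∃ v : Red.DS (Spec (CommRingCat.of (AlgebraicClosure (S.residueField s))))
        (Fin r → ℤ) ⟶ Red.DS _ (Fin r → ℤ), v = a₀.inv ≫ fs ≫ b₀.hom := ⟨_, rfl⟩
    have hvm : IsMonHom v := by rw [hv]; infer_instance
    have hvmono : Mono v := by rw [hv]; infer_instance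
    have hmono : Mono v.left := inferInstance
    have hiso : IsIso v.left :=
      Groth.Agent.H1.HomDiag.isIso_of_mono_torus (AlgebraicClosure (S.residueField s)) r v hmono
    have hs : Groth.Agent.H43.MT.Sim fs v := by
      refine ⟨a₀, b₀, ?_⟩
      rw [hv, Iso.hom_inv_id_assoc]
    have h1 : IsIso fs.left := (hs.iff (MorphismProperty.isomorphisms Scheme.{u})).2 hiso
    have s1 := Groth.Agent.H43.MT.Sim.bc_comp
      (Spec.map (CommRingCat.ofHom (algebraMap (S.residueField s)
        (AlgebraicClosure (S.residueField s)))))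
      (S.fromSpecResidueField s) (Red.geomPt s) rfl f
    rw [← hfs] at s1
    have h2 := (s1.iff (MorphismProperty.isomorphisms Scheme.{u})).2 h1
    obtain ⟨hfl, hsu, hqc⟩ := Groth.Agent.H43.MT.field_map_props
      (K := S.residueField s) (L := CommRingCat.of (AlgebraicClosure (S.residueField s)))
      (Field.toIsField _) (Field.toIsField _)
      (CommRingCat.ofHom (algebraMap (S.residueField s) (AlgebraicClosure (S.residueField s))))
    exact Groth.Agent.H43.MT.desc_bc (MorphismProperty.isomorphisms Scheme.{u}) _ _ h2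
  have hUtop : U = ⊤ := eq_top_iff.2 fun s _ => hall s
  rw [hUtop] at hUiso
  have hι : IsIso (⊤ : S.Opens).ι := (inferInstance : IsIso S.topIso.hom)
  have h3 : IsIso f.left :=
    Groth.Agent.H43.MT.desc_bc (MorphismProperty.isomorphisms Scheme.{u}) (⊤ : S.Opens).ι f hUiso
  have h4 : IsIso ((Over.forget S).map f) := h3
  exact isIso_of_reflects_iso f (Over.forget S)

end Groth.Agent.S16611
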