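import Groth.Statements.S16612
import Groth.Agent.H43.TQ4Sum
import Groth.Agent.H43.MSMain
import Groth.Agent.H43.MSRank

set_option autoImplicit false
open CategoryTheory MonoidalCategory CartesianMonoidalCategory MonObj GrpObj AlgebraicGeometry
universe u
open SGA3x

namespace Groth.Agent.S16612
open Groth.Agent.H43.MS Groth.Agent.H43.TQ2


/-- Let S be a connected scheme and G an S-group of finite multiplicative type. Then G admits a unique
maximal split subtorus; equivalently, since split subtori form a directed family, a greatest one: a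
monomorphism T ⟶ G from a split torus T ≅ D_S(ℤ^r) through which every split subtorus T' ⟶ G of G
factors. -/
theorem result {S : Scheme.{u}} [ConnectedSpace ↥S]
    {G : Over S} [GrpObj G] (hG : SGA3x.IsMultTypeFT G) :
    ∃ (T : Over S) (_ : GrpObj T) (j : T ⟶ G) (r : ℕ), IsMonHom j ∧ Mono j ∧ Red.IsSplitTorusWith (Fin r → ℤ) T ∧
      ∀ (T' : Over S) [GrpObj T'] (j' : T' ⟶ G) [IsMonHom j'] [Mono j'] (r' : ℕ),
        Red.IsSplitTorusWith (Fin r' → ℤ) T' → ∃ g : T' ⟶ T, g ≫ j = j' := by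
  have hS : Nonempty S := inferInstance
  obtain ⟨b, hb⟩ := rank_bound hG
  obtain ⟨Q, hQ⟩ : ∃ Q : ℕ → Prop, Q = fun r => ∃ (T : Over S) (_ : GrpObj T) (j : T ⟶ G),
      IsMonHom j ∧ Mono j ∧ Red.IsSplitTorusWith (Fin r → ℤ) T := ⟨_, rfl⟩
  have hQ0 : Q 0 := by rw [hQ]; exact exists_trivial_subtorus G
  have hQb : ∀ r, Q r → r ≤ b := by
    intro r hr
    rw [hQ] at hr
    obtain ⟨T, iT, j, hj, hm, hs⟩ := hr
    exact @hb T iT j hj hm r hs
  classical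
  have hr : Q (Nat.findGreatest Q b) := Nat.findGreatest_spec (Nat.zero_le b) hQ0
  have hmax : ∀ r', Q r' → r' ≤ Nat.findGreatest Q b := fun r' h =>
    Nat.le_findGreatest (hQb r' h) h
  obtain ⟨r, hrdef⟩ : ∃ r, r = Nat.findGreatest Q b := ⟨_, rfl⟩
  rw [← hrdef] at hr hmax
  rw [hQ] at hr
  obtain ⟨T, iT, j, hj, hm, hs⟩ := hr
  refine ⟨T, iT, j, r, hj, hm, hs, ?_⟩
  intro T' iT' j' hj' hm' r' hs'
  obtain ⟨a⟩ := hs
  obtain ⟨a'⟩ := hs'
  obtain ⟨β, hβ⟩ : ∃ β : T ≅ Red.DS S (Fin r → ℤ), IsMonHom β.hom :=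
    ⟨Groth.Agent.H91.MultGa.isoOfGrpIso a, inferInstance⟩
  obtain ⟨β', hβ'⟩ : ∃ β' : T' ≅ Red.DS S (Fin r' → ℤ), IsMonHom β'.hom :=
    ⟨Groth.Agent.H91.MultGa.isoOfGrpIso a', inferInstance⟩
  have hβi : IsMonHom β.inv := inferInstance
  have hβ'i : IsMonHom β'.inv := inferInstance
  have hj₁ : IsMonHom (β.inv ≫ j) := inferInstance
  have hj₂ : IsMonHom (β'.inv ≫ j') := inferInstance
  obtain ⟨r₃, T₃, iT₃, j₃, g₁, g₂, hj₃m, hj₃mono, hs₃, hg₁, hg₂⟩ :=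
    exists_sum_of_connected hG r r' (β.inv ≫ j) (β'.inv ≫ j')
  obtain ⟨g, hg⟩ : ∃ g : T ⟶ T₃, g = β.hom ≫ g₁ := ⟨_, rfl⟩
  have hgj : g ≫ j₃ = j := by
    rw [hg, Category.assoc, hg₁, Iso.hom_inv_id_assoc]
  have hgj' : IsMonHom (g ≫ j₃) := by rw [hgj]; exact hj
  have hgm : IsMonHom g := isMonHom_of_comp_mono' g j₃ hgj'
  have hgmono : Mono g := by
    have : Mono (g ≫ j₃) := by rw [hgj]; exact hm
    exact mono_of_mono g j₃
  have h1 : r₃ ≤ r := hmax r₃ (by rw [hQ]; exact ⟨T₃, iT₃, j₃, hj₃m, hj₃mono, hs₃⟩)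
  have h2 : r ≤ r₃ := rank_le_of_mono r r₃ ⟨a⟩ hs₃ g
  obtain rfl : r = r₃ := le_antisymm h2 h1
  have hgiso : IsIso g := isIso_of_mono_split r ⟨a⟩ hs₃ g
  refine ⟨β'.hom ≫ g₂ ≫ inv g, ?_⟩
  have h3 : inv g ≫ j = j₃ := by
    rw [← hgj, IsIso.inv_hom_id_assoc]
  rw [Category.assoc, Category.assoc, h3, hg₂, Iso.hom_inv_id_assoc]

end Groth.Agent.S16612
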