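import Groth.Statements.S16614
import Groth.Agent.H43.MSRank

set_option autoImplicit false
open CategoryTheory MonoidalCategory CartesianMonoidalCategory MonObj GrpObj AlgebraicGeometry
universe u
open SGA3x

namespace Groth.Agent.S16614
open Groth.Agent.H43.MS

theorem isMonHom_of_comp_mono {S : Scheme.{u}} {T T' G : Over S} [GrpObj T] [GrpObj T'] [GrpObj G]
    (g : T ⟶ T') (j' : T' ⟶ G) [IsMonHom j'] [Mono j'] (h : IsMonHom (g ≫ j')) : IsMonHom g where
  one_hom := by
    rw [← cancel_mono j', Category.assoc, h.one_hom, IsMonHom.one_hom]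
  mul_hom := by
    rw [← cancel_mono j', Category.assoc, h.mul_hom, Category.assoc, IsMonHom.mul_hom,
      ← Category.assoc, ← tensorHom_comp_tensorHom, Category.assoc]


/-- Over an arbitrary scheme S, an S-group G of finite multiplicative type admits a maximal split
subtorus: a monomorphism T ⟶ G from a split torus T ≅ D_S(ℤ^r) which is maximal among split subtori
(if T factors through a split subtorus T' ⟶ G then the factoring morphism is an isomorphism). -/
theorem result {S : Scheme.{u}} {G : Over S} [GrpObj G]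
    (hG : SGA3x.IsMultTypeFT G) :
    ∃ (T : Over S) (_ : GrpObj T) (j : T ⟶ G) (r : ℕ), IsMonHom j ∧ Mono j ∧ Red.IsSplitTorusWith (Fin r → ℤ) T ∧
      ∀ (T' : Over S) [GrpObj T'] (j' : T' ⟶ G) [IsMonHom j'] [Mono j'] (r' : ℕ) (g : T ⟶ T'),
        Red.IsSplitTorusWith (Fin r' → ℤ) T' → g ≫ j' = j → IsIso g := by
  by_cases hS : Nonempty S
  · obtain ⟨b, hb⟩ := rank_bound hG
    obtain ⟨Q, hQ⟩ : ∃ Q : ℕ → Prop, Q = fun r => ∃ (T : Over S) (_ : GrpObj T) (j : T ⟶ G),
        IsMonHom j ∧ Mono j ∧ Red.IsSplitTorusWith (Fin r → ℤ) T := ⟨_, rfl⟩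
    have hQ0 : Q 0 := by rw [hQ]; exact exists_trivial_subtorus G
    have hQb : ∀ r, Q r → r ≤ b := by
      intro r hr
      rw [hQ] at hr
      obtain ⟨T, iT, j, hj, hm, hs⟩ := hr
      exact @hb T iT j hj hm r hs
    classical
    have hr : Q (Nat.findGreatest Q b) := Nat.findGreatest_spec (Nat.zero_le b) hQ0
    have hmax : ∀ r', Q r' → r' ≤ Nat.findGreatest Q b := fun r' h =>
      Nat.le_findGreatest (hQb r' h) h
    obtain ⟨r, hrdef⟩ : ∃ r, r = Nat.findGreatest Q b := ⟨_, rfl⟩
    rw [← hrdef] at hr hmax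
    rw [hQ] at hr
    obtain ⟨T, iT, j, hj, hm, hs⟩ := hr
    refine ⟨T, iT, j, r, hj, hm, hs, ?_⟩
    intro T' iT' j' hj' hm' r' g hs' hg
    have hgj : IsMonHom (g ≫ j') := by rw [hg]; exact hj
    have hgm : IsMonHom g := isMonHom_of_comp_mono g j' hgj
    have hgmono : Mono g := by
      have : Mono (g ≫ j') := by rw [hg]; exact hm
      exact mono_of_mono g j'
    have h1 : r' ≤ r := hmax r' (by rw [hQ]; exact ⟨T', iT', j', hj', hm', hs'⟩)
    have h2 : r ≤ r' := rank_le_of_mono r r' hs hs' g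
    obtain rfl : r = r' := le_antisymm h2 h1
    exact isIso_of_mono_split r hs hs' g
  · obtain ⟨T, iT, j, hj, hm, hs⟩ := exists_trivial_subtorus G
    refine ⟨T, iT, j, 0, hj, hm, hs, ?_⟩
    intro T' iT' j' hj' hm' r' g hs' hg
    have hempty : IsEmpty S := not_nonempty_iff.mp hS
    have : IsEmpty T'.left := Function.isEmpty T'.hom.base
    have h3 : IsIso g.left := isIso_of_isEmpty g.left
    have h4 : IsIso ((Over.forget S).map g) := h3
    exact isIso_of_reflects_iso g (Over.forget S)

end Groth.Agent.S16614
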