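import Groth.Statements.S16615
import Groth.Agent.H43.TQLocal
import Groth.Agent.H19.TQ_COV
import Groth.Agent.H33.TQ_BC
import Groth.Agent.H43.MTLocSplit

set_option autoImplicit false
open CategoryTheory MonoidalCategory CartesianMonoidalCategory MonObj GrpObj AlgebraicGeometry
universe u
open SGA3x

namespace Groth.Agent.S16615
open CategoryTheory.Limits
open Groth.Agent.H33.TQ_BC Groth.Agent.H43.TQ Groth.Agent.H43.MT Groth.Agent.H19.TQ_COV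

/-- Over an arbitrary scheme S, the quotient Q = T/H of an S-torus T by a subgroup scheme H of (finite)
multiplicative type, when represented by an S-group Q with a homomorphism q : T ⟶ Q which is an fppf
covering identifying T ×_S H with T ×_Q T, is again a torus. -/
theorem result {S : Scheme.{u}} {T H Q : Over S} [GrpObj T] [GrpObj H]
    [GrpObj Q] (hT : Red.IsTorus T) (i : H ⟶ T) [IsMonHom i] [Mono i] (hH : SGA3x.IsMultTypeFT H)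
    (q : T ⟶ Q) [IsMonHom q] (hq : RedSub.IsQuotient i q) : Red.IsTorus Q := by
  obtain ⟨S₁, f₁, hf₁fl, hf₁su, hf₁c, hT⟩ := hT
  obtain ⟨S₂, f₂, hf₂fl, hf₂su, hf₂c, hH⟩ := hH
  have := hf₁fl
  have := hf₁su
  have := hf₂fl
  have := hf₂su
  obtain ⟨hfl, hsu, hcov⟩ := prod_cover f₁ f₂ hf₁c hf₂c
  refine ⟨pullback f₁ f₂, pullback.fst f₁ f₂ ≫ f₁, hfl, hsu, hcov, ?_⟩
  intro s'
  obtain ⟨U₁, hs₁, r, ⟨e₁⟩⟩ := hT ((pullback.fst f₁ f₂).base s')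
  obtain ⟨U₂, hs₂, M, iM, hM, ⟨e₂⟩⟩ := hH ((pullback.snd f₁ f₂).base s')
  obtain ⟨Y, hYdef⟩ : ∃ Y : (pullback f₁ f₂).Opens,
      Y = (pullback.fst f₁ f₂) ⁻¹ᵁ U₁ ⊓ (pullback.snd f₁ f₂) ⁻¹ᵁ U₂ := ⟨_, rfl⟩
  have hsY : s' ∈ Y := by rw [hYdef]; exact ⟨hs₁, hs₂⟩
  have hYmem : ∀ z : ↥(pullback f₁ f₂), z ∈ Y →
      z ∈ (pullback.fst f₁ f₂) ⁻¹ᵁ U₁ ⊓ (pullback.snd f₁ f₂) ⁻¹ᵁ U₂ := by
    intro z hz
    rw [hYdef] at hz
    exact hz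
  have hr₁ : Set.range (Y.ι ≫ pullback.fst f₁ f₂).base ⊆ Set.range U₁.ι.base := by
    rintro _ ⟨a, rfl⟩
    rw [Scheme.Opens.range_ι]
    exact (hYmem a.1 a.2).1
  have hr₂ : Set.range (Y.ι ≫ pullback.snd f₁ f₂).base ⊆ Set.range U₂.ι.base := by
    rintro _ ⟨a, rfl⟩
    rw [Scheme.Opens.range_ι]
    exact (hYmem a.1 a.2).2
  obtain ⟨k₁, hk₁⟩ : ∃ k₁ : (Y : Scheme.{u}) ⟶ (U₁ : Scheme.{u}),
      k₁ ≫ U₁.ι = Y.ι ≫ pullback.fst f₁ f₂ :=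
    ⟨IsOpenImmersion.lift U₁.ι (Y.ι ≫ pullback.fst f₁ f₂) hr₁, IsOpenImmersion.lift_fac _ _ _⟩
  obtain ⟨k₂, hk₂⟩ : ∃ k₂ : (Y : Scheme.{u}) ⟶ (U₂ : Scheme.{u}),
      k₂ ≫ U₂.ι = Y.ι ≫ pullback.snd f₁ f₂ :=
    ⟨IsOpenImmersion.lift U₂.ι (Y.ι ≫ pullback.snd f₁ f₂) hr₂, IsOpenImmersion.lift_fac _ _ _⟩
  obtain ⟨gY, hgY⟩ : ∃ gY : (Y : Scheme.{u}) ⟶ S, gY = Y.ι ≫ pullback.fst f₁ f₂ ≫ f₁ := ⟨_, rfl⟩
  have hg₁ : k₁ ≫ (U₁.ι ≫ f₁) = gY := by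
    rw [hgY, ← Category.assoc, hk₁, Category.assoc]
  have hg₂ : k₂ ≫ (U₂.ι ≫ f₂) = gY := by
    rw [hgY, ← Category.assoc, hk₂, Category.assoc, ← pullback.condition]
  obtain ⟨βY, hβY, hβYi⟩ := split_bc T (U₁.ι ≫ f₁) (Fin r → ℤ) e₁ k₁ gY hg₁
  obtain ⟨αY, hαY, hαYi⟩ := split_bc H (U₂.ι ≫ f₂) M e₂ k₂ gY hg₂
  have hbi : IsMonHom ((Over.pullback gY).map i) := inferInstance
  obtain ⟨v, hv⟩ : ∃ v : Red.DS (Y : Scheme.{u}) M ⟶ Red.DS (Y : Scheme.{u}) (Fin r → ℤ),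
      v = αY.inv ≫ (Over.pullback gY).map i ≫ βY.hom := ⟨_, rfl⟩
  have hvm : IsMonHom v := by rw [hv]; infer_instance
  obtain ⟨X, j', hj', ⟨x, hx⟩, φ, α', β', hα', hβ', w'⟩ :=
    classify_localG (Groth.Agent.H43.MS.fg_fin r) v (⟨s', hsY⟩ : (Y : Scheme.{u}))
  have := hj'
  have hXne : Nonempty X := ⟨x⟩
  -- the base change to X
  obtain ⟨gX, hgX⟩ : ∃ gX : X ⟶ S, gX = j' ≫ gY := ⟨_, rfl⟩
  have S1 : SimG ((Over.pullback gX).map i) ((Over.pullback j').map ((Over.pullback gY).map i)) :=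
    (SimG.bc_comp j' gY gX hgX.symm i).symm
  have S2 : SimG ((Over.pullback gY).map i) v := by
    refine ⟨αY, βY, hαY, hβY, ?_⟩
    rw [hv, Iso.hom_inv_id_assoc]
  have S3 : SimG ((Over.pullback j').map v) (Red.DSmap X φ) := ⟨α', β', hα', hβ', w'⟩
  obtain ⟨αX, βX, hαX, hβX, wX⟩ := S1.trans ((SimG.map j' S2).trans S3)
  have hmono : Mono ((Over.pullback gX).map i) := by
    have : (Over.pullback gX).IsRightAdjoint := (Over.mapPullbackAdj gX).isRightAdjoint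
    infer_instance
  have hqX : RedSub.IsQuotient ((Over.pullback gX).map i) ((Over.pullback gX).map q) :=
    isQuotient_bc gX i q hq
  have hqm : IsMonHom ((Over.pullback gX).map q) := inferInstance
  obtain ⟨r', -, ⟨eQ⟩⟩ := local_split_quot r M ((Over.pullback gX).map i)
    ((Over.pullback gX).map q) hqX αX βX hβX φ wX
  -- back to an open of the cover
  obtain ⟨jj, hjj⟩ : ∃ jj : X ⟶ pullback f₁ f₂, jj = j' ≫ Y.ι := ⟨_, rfl⟩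
  have hjjo : IsOpenImmersion jj := by rw [hjj]; infer_instance
  refine ⟨jj.opensRange, ?_, r', ?_⟩
  · refine ⟨x, ?_⟩
    rw [hjj]
    show Y.ι.base (j'.base x) = s'
    rw [hx]
    rfl
  · have hk : jj.isoOpensRange.inv ≫ gX = jj.opensRange.ι ≫ pullback.fst f₁ f₂ ≫ f₁ := by
      have h1 : jj.isoOpensRange.inv ≫ jj = jj.opensRange.ι := by
        rw [Iso.inv_comp_eq]
        exact (Scheme.Hom.isoOpensRange_hom_ι jj).symm
      have hjjg : jj ≫ pullback.fst f₁ f₂ ≫ f₁ = gX := by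
        rw [hgX, hgY, hjj, Category.assoc]
      rw [← h1, Category.assoc, hjjg]
    obtain ⟨gam, hgam, -⟩ := split_bc Q gX (Fin r' → ℤ) eQ jj.isoOpensRange.inv
      (jj.opensRange.ι ≫ pullback.fst f₁ f₂ ≫ f₁) hk
    exact ⟨Grp.mkIso' gam⟩

end Groth.Agent.S16615
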