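import Groth.Statements.S16616
import Groth.Agent.H43.TQ3DGL
import Groth.Agent.H43.TQLocal
import Groth.Agent.H33.TQ_BC
import Groth.Agent.H43.MTLocSplit

set_option autoImplicit false
open CategoryTheory MonoidalCategory CartesianMonoidalCategory MonObj GrpObj AlgebraicGeometry
universe u
open SGA3x

namespace Groth.Agent.S16616
open CategoryTheory.Limits
open Groth.Agent.H33.TQ_BC Groth.Agent.H43.TQ Groth.Agent.H43.TQ2 Groth.Agent.H43.MT
open Groth.Agent.H2.T3_MTBC (isMultTypeFT_bc_open)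


/-- Over an arbitrary scheme S, let T be a locally split S-torus (Zariski-locally on S isomorphic to
split tori), H a subgroup scheme of T of (finite) multiplicative type and q : T ⟶ Q a homomorphism
presenting Q as the fppf quotient T/H. Then Q is a locally split torus. -/
theorem result {S : Scheme.{u}} {T H Q : Over S} [GrpObj T]
    [GrpObj H] [GrpObj Q] (hT : (∀ s : ↥S, ∃ U : S.Opens, s ∈ U ∧ ∃ r : ℕ, Red.IsSplitTorusWith (Fin r → ℤ) (Red.bc U.ι T)))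
    (i : H ⟶ T) [IsMonHom i] [Mono i] (hH : SGA3x.IsMultTypeFT H) (q : T ⟶ Q) [IsMonHom q]
    (hq : RedSub.IsQuotient i q) :
    (∀ s : ↥S, ∃ U : S.Opens, s ∈ U ∧ ∃ r : ℕ, Red.IsSplitTorusWith (Fin r → ℤ) (Red.bc U.ι Q)) := by
  intro s
  obtain ⟨U₀, hsU₀, r, ⟨e₀⟩⟩ := hT s
  obtain ⟨βT₀, hβT₀⟩ : ∃ βT₀ : Red.bc U₀.ι T ≅ Red.DS (U₀ : Scheme.{u}) (Fin r → ℤ),
      IsMonHom βT₀.hom := ⟨Groth.Agent.H91.MultGa.isoOfGrpIso e₀, inferInstance⟩
  have hH₀ : SGA3x.IsMultTypeFT (Red.bc U₀.ι H) := isMultTypeFT_bc_open H hH U₀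
  have hi₀m : IsMonHom ((Over.pullback U₀.ι).map i) := inferInstance
  have hi₀mono : Mono ((Over.pullback U₀.ι).map i) := by
    have : (Over.pullback U₀.ι).IsRightAdjoint := (Over.mapPullbackAdj U₀.ι).isRightAdjoint
    infer_instance
  obtain ⟨i', hi'⟩ : ∃ i' : Red.bc U₀.ι H ⟶ Red.DS (U₀ : Scheme.{u}) (Fin r → ℤ),
      i' = (Over.pullback U₀.ι).map i ≫ βT₀.hom := ⟨_, rfl⟩
  have hi'm : IsMonHom i' := by rw [hi']; infer_instance
  have hi'mono : Mono i' := by rw [hi']; infer_instance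
  obtain ⟨x₀, hx₀⟩ : ∃ x₀ : (U₀ : Scheme.{u}), U₀.ι.base x₀ = s := ⟨⟨s, hsU₀⟩, rfl⟩
  obtain ⟨X, j, hj, ⟨x, hx⟩, N, S3⟩ :=
    exists_diag_local x₀ hH₀ (Groth.Agent.H43.MS.fg_fin r) i'
  have := hj
  have hXne : Nonempty X := ⟨x⟩
  obtain ⟨gX, hgX⟩ : ∃ gX : X ⟶ S, gX = j ≫ U₀.ι := ⟨_, rfl⟩
  have hgXo : IsOpenImmersion gX := by rw [hgX]; infer_instance
  have S1 : SimG ((Over.pullback gX).map i) ((Over.pullback j).map ((Over.pullback U₀.ι).map i)) :=
    (SimG.bc_comp j U₀.ι gX hgX.symm i).symm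
  have S2 : SimG ((Over.pullback U₀.ι).map i) i' := by
    refine ⟨Iso.refl _, βT₀, ?_, hβT₀, ?_⟩
    · show IsMonHom (𝟙 _)
      infer_instance
    · rw [hi', Iso.refl_hom, Category.id_comp]
  obtain ⟨αX, βX, hαX, hβX, wX⟩ := S1.trans ((SimG.map j S2).trans S3)
  have hmono : Mono ((Over.pullback gX).map i) := by
    have : (Over.pullback gX).IsRightAdjoint := (Over.mapPullbackAdj gX).isRightAdjoint
    infer_instance
  have hqX : RedSub.IsQuotient ((Over.pullback gX).map i) ((Over.pullback gX).map q) :=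
    isQuotient_bc gX i q hq
  have hqm : IsMonHom ((Over.pullback gX).map q) := inferInstance
  obtain ⟨r', -, ⟨eQ⟩⟩ := local_split_quot r ((Fin r → ℤ) ⧸ N) ((Over.pullback gX).map i)
    ((Over.pullback gX).map q) hqX αX βX hβX (QuotientAddGroup.mk' N) wX
  refine ⟨gX.opensRange, ?_, r', ?_⟩
  · refine ⟨x, ?_⟩
    rw [hgX]
    show U₀.ι.base (j.base x) = s
    rw [hx, hx₀]
  · have hk : gX.isoOpensRange.inv ≫ gX = gX.opensRange.ι := by
      rw [Iso.inv_comp_eq]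
      exact (Scheme.Hom.isoOpensRange_hom_ι gX).symm
    obtain ⟨gam, hgam, -⟩ := split_bc Q gX (Fin r' → ℤ) eQ gX.isoOpensRange.inv
      gX.opensRange.ι hk
    exact ⟨Grp.mkIso' gam⟩

end Groth.Agent.S16616
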