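import Groth.Statements.S16617
import Groth.Agent.H43.TQ2Conn
import Groth.Agent.H43.TQLocal

set_option autoImplicit false
open CategoryTheory MonoidalCategory CartesianMonoidalCategory MonObj GrpObj AlgebraicGeometry
universe u
open SGA3x

namespace Groth.Agent.S16617
open Groth.Agent.H43.TQ Groth.Agent.H43.TQ2


/-- Let S be a connected scheme, T ≅ D_S(ℤ^r) a split S-torus, H a subgroup scheme of T of (finite)
multiplicative type and q : T ⟶ Q a homomorphism presenting Q as the fppf quotient T/H. Then Q is a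
split torus of rank at most r. -/
theorem result {S : Scheme.{u}} [ConnectedSpace ↥S]
    {T H Q : Over S} [GrpObj T] [GrpObj H] [GrpObj Q] (r : ℕ) (hT : Red.IsSplitTorusWith (Fin r → ℤ) T)
    (i : H ⟶ T) [IsMonHom i] [Mono i] (hH : SGA3x.IsMultTypeFT H) (q : T ⟶ Q) [IsMonHom q]
    (hq : RedSub.IsQuotient i q) : ∃ r' : ℕ, r' ≤ r ∧ Red.IsSplitTorusWith (Fin r' → ℤ) Q := by
  obtain ⟨a⟩ := hT
  obtain ⟨βT, hβT⟩ : ∃ βT : T ≅ Red.DS S (Fin r → ℤ), IsMonHom βT.hom :=
    ⟨Groth.Agent.H91.MultGa.isoOfGrpIso a, inferInstance⟩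
  have := hβT
  obtain ⟨i', hi'⟩ : ∃ i' : H ⟶ Red.DS S (Fin r → ℤ), i' = i ≫ βT.hom := ⟨_, rfl⟩
  have hi'm : IsMonHom i' := by rw [hi']; infer_instance
  have hi'mono : Mono i' := by rw [hi']; infer_instance
  obtain ⟨N, α, hα⟩ := exists_diag_of_connected hH (Groth.Agent.H43.MS.fg_fin r) i'
  have hne : Nonempty S := inferInstance
  exact local_split_quot r ((Fin r → ℤ) ⧸ N) i q hq α βT hβT (QuotientAddGroup.mk' N)
    (by rw [← hi', hα])

end Groth.Agent.S16617
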