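import Groth.Statements.S16619
import Mathlib
import Groth.Agent.H83.LGAzE

set_option autoImplicit false
open scoped TensorProduct
universe u
open Brauer

namespace Groth.Agent.S16619

open TensorProduct Groth.Agent.H83.LGAz

/-- Let R be a connected commutative ring. Then every class of the Brauer group of R is represented by
an Azumaya algebra B with idemp(B) = {0, 1}: for every Azumaya R-algebra A there are such a B and
faithfully projective R-modules P, Q with A ⊗_R End_R(P) ≅ B ⊗_R End_R(Q) as R-algebras. -/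
theorem result {R : Type u} [CommRing R]
    [ConnectedSpace (PrimeSpectrum R)] (A : Type u) [Ring A] [Algebra R A] [IsAzumaya R A] :
    ∃ (B : Type u) (_ : Ring B) (_ : Algebra R B) (_ : IsAzumaya R B) (P Q : Type u) (_ : AddCommGroup P)
      (_ : Module R P) (_ : AddCommGroup Q) (_ : Module R Q),
      (∀ b : B, IsIdempotentElem b → b = 0 ∨ b = 1) ∧ Module.Finite R P ∧ Module.Projective R P ∧
      FaithfulSMul R P ∧ Module.Finite R Q ∧ Module.Projective R Q ∧ FaithfulSMul R Q ∧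
      Nonempty (A ⊗[R] Module.End R P ≃ₐ[R] B ⊗[R] Module.End R Q) := by
  classical
  obtain ⟨p₀⟩ : Nonempty (PrimeSpectrum R) := inferInstance
  have hAnt : Nontrivial A := by
    have : Nontrivial R :=
      ⟨⟨0, 1, fun h01 => p₀.2.ne_top ((Ideal.eq_top_iff_one _).mpr (h01 ▸ p₀.asIdeal.zero_mem))⟩⟩
    exact (FaithfulSMul.algebraMap_injective R A).nontrivial
  let μ : A → ℕ := fun ε => Module.rankAtStalk (R := R) (Lid ε) p₀
  have hex : ∃ n, ∃ ε : A, IsIdempotentElem ε ∧ ε ≠ 0 ∧ μ ε = n :=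
    ⟨μ 1, 1, IsIdempotentElem.one, one_ne_zero, rfl⟩
  obtain ⟨ε, hε, hε0, hμ⟩ := Nat.find_spec hex
  have hmin : ∀ φ : A, IsIdempotentElem φ → φ ≠ 0 → μ ε ≤ μ φ := by
    intro φ hφ hφ0
    rw [hμ]
    exact Nat.find_min' hex ⟨φ, hφ, hφ0, rfl⟩
  have hLfin : ∀ φ : A, Module.Finite R (Lid φ) := fun φ => Module.Finite.trans A (Lid φ)
  have hLproj : ∀ φ : A, IsIdempotentElem φ → Module.Projective R (Lid φ) := fun φ hφ => by
    have := projective_Lid hφ
    exact projective_of_tower (R := R) (A := A) (Lid φ)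
  have hLnt : ∀ φ : A, IsIdempotentElem φ → φ ≠ 0 → Nontrivial (Lid φ) := fun φ hφ h0 =>
    ⟨⟨⟨φ, self_mem_Lid hφ⟩, 0, fun h => h0 (congrArg Subtype.val h)⟩⟩
  -- trivial idempotents
  have hidem : ∀ b : hε.Corner, IsIdempotentElem b → b = 0 ∨ b = 1 := by
    intro b hb
    by_contra hcon
    push Not at hcon
    obtain ⟨hb0, hb1⟩ := hcon
    have hφ : IsIdempotentElem b.1 := congrArg Subtype.val hb.eq
    have hφ0 : b.1 ≠ 0 := fun h => hb0 (Subtype.ext h)
    have hεφ : ε * b.1 = b.1 := corner_left hε b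
    have hφε : b.1 * ε = b.1 := corner_right hε b
    have hψ : IsIdempotentElem (ε - b.1) := by
      change (ε - b.1) * (ε - b.1) = ε - b.1
      rw [mul_sub, sub_mul, sub_mul, hε.eq, hφε, hεφ, hφ.eq]
      abel
    have hψ0 : ε - b.1 ≠ 0 := fun h => hb1 (Subtype.ext (sub_eq_zero.mp h).symm)
    have h1 : b.1 * (ε - b.1) = 0 := by rw [mul_sub, hφε, hφ.eq, sub_self]
    have h2 : (ε - b.1) * b.1 = 0 := by rw [sub_mul, hεφ, hφ.eq, sub_self]
    obtain ⟨E⟩ := nonempty_Lid_prod (R := R) hφ hψ h1 h2 ε (by abel)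
    have := hLfin b.1
    have := hLfin (ε - b.1)
    have := hLproj b.1 hφ
    have := hLproj (ε - b.1) hψ
    have := hLnt (ε - b.1) hψ hψ0
    have hrk : μ ε = μ b.1 + μ (ε - b.1) := by
      change Module.rankAtStalk (R := R) (Lid ε) p₀ = _
      rw [Module.rankAtStalk_eq_of_equiv E, Module.rankAtStalk_prod]
      rfl
    have hpos : 0 < μ (ε - b.1) := rank_pos_of_connected (Lid (ε - b.1)) p₀
    have := hmin b.1 hφ hφ0
    omega
  -- B is Azumaya
  have hBfin : Module.Finite R hε.Corner := finite_corner hε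
  have hBproj : Module.Projective R hε.Corner := projective_corner hε
  have hBnt : Nontrivial hε.Corner := ⟨⟨1, 0, fun h => hε0 (congrArg Subtype.val h)⟩⟩
  have hBfaith : FaithfulSMul R hε.Corner :=
    faithful_of_rank_pos (R := R) hε.Corner (fun p => rank_pos_of_connected (R := R) hε.Corner p)
  have hBaz : IsAzumaya R hε.Corner :=
    { bij := mulLeftRight_corner_bijective hε IsAzumaya.bij }
  have := hLfin ε
  have := hLproj ε hε
  have := hLnt ε hε hε0
  have hLfaith : FaithfulSMul R (Lid ε) :=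
    faithful_of_rank_pos (R := R) (Lid ε) (fun p => rank_pos_of_connected (R := R) (Lid ε) p)
  let φB : hε.Corner ⊗[R] hε.Cornerᵐᵒᵖ ≃ₐ[R] Module.End R hε.Corner :=
    AlgEquiv.ofBijective (AlgHom.mulLeftRight R hε.Corner) hBaz.bij
  let ψL : A ⊗[R] hε.Cornerᵐᵒᵖ ≃ₐ[R] Module.End R (Lid ε) :=
    AlgEquiv.ofBijective (PsiL (R := R) hε) (PsiL_bijective hε IsAzumaya.bij)
  let iso : A ⊗[R] Module.End R hε.Corner ≃ₐ[R] hε.Corner ⊗[R] Module.End R (Lid ε) :=
    (Algebra.TensorProduct.congr (AlgEquiv.refl : A ≃ₐ[R] A) φB.symm).trans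
      ((Algebra.TensorProduct.congr (AlgEquiv.refl : A ≃ₐ[R] A)
          (Algebra.TensorProduct.comm R hε.Corner hε.Cornerᵐᵒᵖ)).trans
        ((Algebra.TensorProduct.assoc R R R A hε.Cornerᵐᵒᵖ hε.Corner).symm.trans
          ((Algebra.TensorProduct.congr ψL (AlgEquiv.refl : hε.Corner ≃ₐ[R] hε.Corner)).trans
            (Algebra.TensorProduct.comm R (Module.End R (Lid ε)) hε.Corner))))
  exact ⟨hε.Corner, inferInstance, inferInstance, hBaz, hε.Corner, Lid ε, inferInstance,
    inferInstance, inferInstance, inferInstance, hidem, hBfin, hBproj, hBfaith, hLfin ε,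
    hLproj ε hε, hLfaith, ⟨iso⟩⟩

end Groth.Agent.S16619
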