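import Groth.Statements.S16620
import Groth.Agent.H43.TQ4Sum
import Groth.Agent.H43.MSMain

set_option autoImplicit false
open CategoryTheory MonoidalCategory CartesianMonoidalCategory MonObj GrpObj AlgebraicGeometry
universe u
open SGA3x

namespace Groth.Agent.S16620
open Groth.Agent.H43.MS Groth.Agent.H43.TQ2

theorem isMultTypeFT_of_isTorus {S : Scheme.{u}} {T : Over S} [GrpObj T] (hT : Red.IsTorus T) :
    SGA3x.IsMultTypeFT T := by
  obtain ⟨S', f, hfl, hsu, hcov, hch⟩ := hT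
  refine ⟨S', f, hfl, hsu, hcov, ?_⟩
  intro s'
  obtain ⟨U, hU, r, hr⟩ := hch s'
  exact ⟨U, hU, Fin r → ℤ, inferInstance, fg_fin r, hr⟩


/-- Let S be a connected, normal, locally Noetherian scheme, T an S-torus and T₀ ⟶ T its unique maximal
split subtorus, i.e. a split subtorus through which every split subtorus of T factors. Then every
cocharacter λ : 𝔾_m ⟶ T over S factors through T₀; this is the equality X_*(T₀)(S) = X_*(T)(S) of
groups of cocharacters defined over S. -/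
theorem result {S : Scheme.{u}} [ConnectedSpace ↥S]
    [IsLocallyNoetherian S] (hnorm : ∀ x : ↥S, IsDomain (S.presheaf.stalk x) ∧ IsIntegrallyClosed (S.presheaf.stalk x))
    {T T₀ : Over S} [GrpObj T] [GrpObj T₀] (hT : Red.IsTorus T) (j₀ : T₀ ⟶ T) [IsMonHom j₀] [Mono j₀] (r₀ : ℕ)
    (hT₀ : Red.IsSplitTorusWith (Fin r₀ → ℤ) T₀)
    (hmax : ∀ (T' : Over S) [GrpObj T'] (j' : T' ⟶ T) [IsMonHom j'] [Mono j'] (r' : ℕ),
      Red.IsSplitTorusWith (Fin r' → ℤ) T' → ∃ g : T' ⟶ T₀, g ≫ j₀ = j')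
    (lam : Red.Gm S ⟶ T) [IsMonHom lam] : ∃ mu : Red.Gm S ⟶ T₀, mu ≫ j₀ = lam := by
  have hTm : SGA3x.IsMultTypeFT T := isMultTypeFT_of_isTorus hT
  obtain ⟨a⟩ := Groth.Agent.H43.TQ.DS_grpIso S (AddEquiv.funUnique (Fin 1) ℤ)
  obtain ⟨β, hβ⟩ : ∃ β : Red.DS S (Fin 1 → ℤ) ≅ Red.DS S ℤ, IsMonHom β.hom :=
    ⟨Groth.Agent.H91.MultGa.isoOfGrpIso a, inferInstance⟩
  have hβi : IsMonHom β.inv := inferInstance
  have hl : IsMonHom (β.hom ≫ lam) := inferInstance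
  obtain ⟨r₃, T₃, iT₃, j₃, g₁, g₂, hj₃m, hj₃mono, hs₃, hg₁, hg₂⟩ :=
    exists_sum_of_connected hTm 1 1 (β.hom ≫ lam) (β.hom ≫ lam)
  obtain ⟨g, hg⟩ := hmax T₃ j₃ r₃ hs₃
  refine ⟨β.inv ≫ g₁ ≫ g, ?_⟩
  rw [Category.assoc, Category.assoc, hg, hg₁, Iso.inv_hom_id_assoc]

end Groth.Agent.S16620
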