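import Groth.Statements.S16621
import Groth.Agent.H43.LSDefs
import Groth.Agent.H43.LSKey2
import Groth.Agent.H10.LS_DENSE
import Groth.Agent.H10.LS_GLUE
import Groth.Agent.H70.LS_LISO
import Groth.Agent.H62.LS_LMON
import Groth.Agent.H62.LS_SEP
import Groth.Agent.H60.LS_INT
import Groth.Agent.H89.LS_OPEN
import Groth.Agent.H63.LS_RED
import Groth.Agent.H27.DiagHom
import Groth.Agent.H91.KummerKer
import Groth.Agent.H91.MultGa

set_option autoImplicit false
open CategoryTheory MonoidalCategory CartesianMonoidalCategory MonObj GrpObj AlgebraicGeometry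
universe u
open SGA3x

namespace Groth.Agent.S16621
open CategoryTheory.Limits
open Groth.Agent.H43.LS Groth.Agent.H27.DiagHom
open Groth.Agent.H43.LSKey Groth.Agent.H10.LS_DENSE Groth.Agent.H10.LS_GLUE Groth.Agent.H70.LS_LISO
  Groth.Agent.H62.LS_LMON Groth.Agent.H62.LS_SEP Groth.Agent.H60.LS_INT Groth.Agent.H89.LS_OPEN
  Groth.Agent.H63.LS_RED

/-- `bc U.ι (D_S(M)) ≅ D_U(M)`. -/
noncomputable def cDS {S : Scheme.{u}} (U : S.Opens) (M : Type) [AddCommGroup M] :
    Red.bc U.ι (Red.DS S M) ≅ Red.DS (U : Scheme.{u}) M :=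
  ActBC.bcCompIso U.ι (Limits.IsTerminal.from specULiftZIsTerminal S) (Red.diag (ULift.{u} ℤ) M)
    (specULiftZIsTerminal.hom_ext _ _)

instance cDS_isMonHom {S : Scheme.{u}} (U : S.Opens) (M : Type) [AddCommGroup M] :
    IsMonHom (cDS U M).hom :=
  ActBC.bcCompIso_isMonHom U.ι (Limits.IsTerminal.from specULiftZIsTerminal S)
    (G := Red.diag (ULift.{u} ℤ) M) (specULiftZIsTerminal.hom_ext _ _)

theorem isIso_DSmap_equiv (S : Scheme.{u}) {N N' : Type} [AddCommGroup N] [AddCommGroup N']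
    (e : N ≃+ N') : IsIso (Red.DSmap S e.toAddMonoidHom) := by
  have h1 : Red.DSmap S e.symm.toAddMonoidHom ≫ Red.DSmap S e.toAddMonoidHom = 𝟙 _ := by
    rw [← DSmap_comp, ← DSmap_id]
    congr 1
    ext m
    exact e.symm_apply_apply m
  have h2 : Red.DSmap S e.toAddMonoidHom ≫ Red.DSmap S e.symm.toAddMonoidHom = 𝟙 _ := by
    rw [← DSmap_comp, ← DSmap_id]
    congr 1
    ext n
    exact e.apply_symm_apply n
  exact ⟨⟨_, h2, h1⟩⟩

/-- A Zariski-locally split torus over a connected normal locally Noetherian base is split. -/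
theorem split_of_locSplit {S : Scheme.{u}} [ConnectedSpace ↥S] [IsLocallyNoetherian S]
    (hnorm : ∀ x : ↥S, IsDomain (S.presheaf.stalk x) ∧ IsIntegrallyClosed (S.presheaf.stalk x))
    {T : Over S} [GrpObj T]
    (hT : ∀ s : ↥S, ∃ U : S.Opens, s ∈ U ∧ ∃ r : ℕ, Red.IsSplitTorusWith (Fin r → ℤ) (Red.bc U.ι T)) :
    ∃ r : ℕ, Red.IsSplitTorusWith (Fin r → ℤ) T := by
  have hint : IsIntegral S := isIntegral_of_normal hnorm
  have hred : IsReduced T.left := isReduced_of_locSplit hT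
  have hopen : IsOpenMap T.hom.base := isOpenMap_of_locSplit hT
  choose U hsU r hr using hT
  obtain ⟨s₀⟩ : Nonempty ↥S := inferInstance
  -- local trivialisations with values in `bc U.ι (D_S(M))`
  have hE : ∀ s : ↥S, ∃ E : Red.bc (U s).ι T ⟶ Red.bc (U s).ι (Red.DS S (Fin (r s) → ℤ)),
      IsIso E ∧ IsMonHom E := by
    intro s
    obtain ⟨e₁⟩ := hr s
    exact ⟨(Groth.Agent.H91.MultGa.isoOfGrpIso e₁).hom ≫ (cDS (U s) (Fin (r s) → ℤ)).inv,
      inferInstance, inferInstance⟩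
  choose E hEiso hEmon using hE
  -- normalise against the reference `s₀`
  have hA : ∀ s : ↥S, ∃ A : (Fin (r s₀) → ℤ) ≃+ (Fin (r s) → ℤ),
      Compat (E s ≫ (Over.pullback (U s).ι).map (Red.DSmap S A.toAddMonoidHom)) (E s₀) := by
    intro s
    have := hEiso s
    have := hEmon s
    have := hEiso s₀
    have := hEmon s₀
    exact exists_transition (U s) (U s₀) ⟨s, hsU s⟩ ⟨s₀, hsU s₀⟩ (r s) (r s₀) (E s) (E s₀)
  choose A hA using hA
  have hsep : IsSeparated (Red.DS S (Fin (r s₀) → ℤ)).hom := isSeparated_DS S _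
  have hcompat : ∀ s t : ↥S,
      Compat (E s ≫ (Over.pullback (U s).ι).map (Red.DSmap S (A s).toAddMonoidHom))
        (E t ≫ (Over.pullback (U t).ι).map (Red.DSmap S (A t).toAddMonoidHom)) := fun s t =>
    compat_of_compat_ref hopen (U s) (U t) (U s₀) ⟨s₀, hsU s₀⟩ _ _ (E s₀) (hA s) (hA t)
  obtain ⟨φ, hφ⟩ := exists_glue_over U (fun s => ⟨s, hsU s⟩)
    (fun s => E s ≫ (Over.pullback (U s).ι).map (Red.DSmap S (A s).toAddMonoidHom)) hcompat
  have hDiso : ∀ s, IsIso (Red.DSmap S (A s).toAddMonoidHom) := fun s => isIso_DSmap_equiv S (A s)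
  have hDmon : ∀ s, IsMonHom (Red.DSmap S (A s).toAddMonoidHom) := fun s =>
    Groth.Agent.H91.KummerKer.dsMap_isMonHom S _
  have hφiso : IsIso φ := by
    refine isIso_of_local φ U (fun s => ⟨s, hsU s⟩) (fun s => ?_)
    rw [hφ s]
    have := hEiso s
    have := hDiso s
    infer_instance
  have hφmon : IsMonHom φ := by
    refine isMonHom_of_local φ U (fun s => ⟨s, hsU s⟩) (fun s => ?_)
    rw [hφ s]
    have := hEmon s
    have := hDmon s
    infer_instance
  exact ⟨r s₀, ⟨Grp.mkIso' (asIso φ)⟩⟩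


/-- Let S be a connected, normal, locally Noetherian scheme, T an S-torus and T₀ ⟶ T its unique maximal
split subtorus (a split subtorus through which every split subtorus of T factors). Then T₀ is also
the unique maximal locally split subtorus of T: every subtorus T₁ ⟶ T which is split Zariski-locally
on S factors through T₀. (Without normality this fails.) -/
theorem result {S : Scheme.{u}} [ConnectedSpace ↥S]
    [IsLocallyNoetherian S] (hnorm : ∀ x : ↥S, IsDomain (S.presheaf.stalk x) ∧ IsIntegrallyClosed (S.presheaf.stalk x))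
    {T T₀ T₁ : Over S} [GrpObj T] [GrpObj T₀] [GrpObj T₁] (hT : Red.IsTorus T) (j₀ : T₀ ⟶ T) [IsMonHom j₀] [Mono j₀]
    (r₀ : ℕ) (hT₀ : Red.IsSplitTorusWith (Fin r₀ → ℤ) T₀)
    (hmax : ∀ (T' : Over S) [GrpObj T'] (j' : T' ⟶ T) [IsMonHom j'] [Mono j'] (r' : ℕ),
      Red.IsSplitTorusWith (Fin r' → ℤ) T' → ∃ g : T' ⟶ T₀, g ≫ j₀ = j')
    (j₁ : T₁ ⟶ T) [IsMonHom j₁] [Mono j₁]
    (hT₁ : ∀ s : ↥S, ∃ U : S.Opens, s ∈ U ∧ ∃ r : ℕ, Red.IsSplitTorusWith (Fin r → ℤ) (Red.bc U.ι T₁)) :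
    ∃ g : T₁ ⟶ T₀, g ≫ j₀ = j₁ := by
  obtain ⟨r, hr⟩ := split_of_locSplit hnorm hT₁
  exact hmax T₁ j₁ r hr

end Groth.Agent.S16621
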