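import Groth.Statements.S16627
import Groth.Agent.H82.ProjSerre
import Groth.Agent.H18.TensorAssoc
import Groth.Agent.H18.TensorModIso

set_option autoImplicit false
universe u
open Variety

namespace Groth.Agent.S16627

open AlgebraicGeometry CategoryTheory CategoryTheory.Limits in
/-- Let k be a field, F a coherent module on projective n-space P^n_k which is m-regular, and ι : F ⊗
O(-1) → F a monomorphism of O-modules (such as multiplication by a linear form that is a
nonzerodivisor on F, i.e. a hyperplane avoiding the associated points of F). Then the cokernel of ι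
— the restriction of F to the hyperplane, as a module on P^n_k — is again m-regular. (Stated for an
arbitrary monomorphism F(-1) → F and an arbitrary ground field.) -/
theorem result (k : Type u) [Field k] (n : ℕ)
    (F : (CohB1.ProjSpace n k).Modules) (hF : Coh.IsCoh F) (m : ℤ) (hreg : Curv2.IsMRegular k n F m)
    (ι : CohB1.tensorMod F (Twist.twistProjSpace n k (-1)) ⟶ F) [Mono ι] :
    Curv2.IsMRegular k n (cokernel ι) m := by
  intro i hi1 hin
  have hL : PicF.IsInvertible (Twist.twistProjSpace n k (m - (i : ℤ))) :=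
    Groth.Agent.H82.ProjSerre.isInvertible_Fd n k _
  have hL1 : PicF.IsInvertible (Twist.twistProjSpace n k (-1)) :=
    Groth.Agent.H82.ProjSerre.isInvertible_Fd n k _
  let S : ShortComplex (CohB1.ProjSpace n k).Modules :=
    ShortComplex.mk ι (cokernel.π ι) (cokernel.condition ι)
  have hS : S.ShortExact :=
    { exact := ShortComplex.exact_of_g_is_cokernel S (cokernelIsCokernel ι)
      mono_f := inferInstanceAs (Mono ι)
      epi_g := inferInstanceAs (Epi (cokernel.π ι)) }
  have hS' := Groth.Agent.H82.ProjSerre.shortExact_map_T (X := CohB1.ProjSpace n k) hL S hS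
  have h₂ : Subsingleton (Coh.HH (CohB1.ProjSpace n k)
      (S.map (Groth.Agent.H82.ProjSerre.T (Twist.twistProjSpace n k (m - (i : ℤ))))).X₂ i) :=
    hreg i hi1 hin
  have h₁ : Subsingleton (Coh.HH (CohB1.ProjSpace n k)
      (S.map (Groth.Agent.H82.ProjSerre.T (Twist.twistProjSpace n k (m - (i : ℤ))))).X₁ (i + 1)) := by
    by_cases hi2 : i + 1 ≤ n
    · obtain ⟨e1⟩ := Groth.Agent.H18.TensorAssoc.nonempty_tensorMod_assoc F _ _ hL1 hL
      obtain ⟨e2⟩ := Groth.Agent.H82.ProjSerre.nonempty_tensor_iso n k (-1) (m - (i : ℤ))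
      obtain ⟨e3⟩ := Groth.Agent.H18.TensorModIso.nonempty_tensorMod_congr (Iso.refl F) e2
      have e : (-1 + (m - (i : ℤ))) = m - ((i + 1 : ℕ) : ℤ) := by
        push_cast
        ring
      have h3 := hreg (i + 1) (by omega) hi2
      rw [← e] at h3
      exact Groth.Agent.H82.ProjCoh.subsingleton_HH_of_iso (e1.trans e3).symm (i + 1) h3
    · haveI : Coh.IsQCoh (S.map (Groth.Agent.H82.ProjSerre.T
          (Twist.twistProjSpace n k (m - (i : ℤ))))).X₁ :=
        (Groth.Agent.H18.TensorCoh.isCoh_tensorMod
          (Groth.Agent.H18.TensorCoh.isCoh_tensorMod hF hL1) hL).1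
      exact Groth.Agent.H82.ProjFinite.subsingleton_HH_above n k _ (i + 1) (by omega)
  have key : ∀ x : Coh.HH (CohB1.ProjSpace n k)
      (S.map (Groth.Agent.H82.ProjSerre.T (Twist.twistProjSpace n k (m - (i : ℤ))))).X₃ i,
      x = 0 := by
    intro x
    obtain ⟨y, hy⟩ := Groth.Agent.H82.HHFinite.δ_exact _ hS' i x (Subsingleton.elim _ _)
    rw [← hy, Subsingleton.elim y 0, _root_.map_zero]
  exact ⟨fun x y => (key x).trans (key y).symm⟩

end Groth.Agent.S16627
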