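import Groth.Statements.S1664
import Groth.Agent.H18.GlobGenConv
import Groth.Agent.H18.AmpleTensor

open Groth.Agent.H18 Groth.Agent.H18.TensorGen Groth.Agent.H18.TensorPowIso Groth.Agent.H18.GlobGen Groth.Agent.H18.GlobGenConv Groth.Agent.H18.AmpleTensor

set_option autoImplicit false
universe u
open CategoryTheory CategoryTheory.Limits AlgebraicGeometry
open Variety

namespace Groth.Agent.S1664

/-- Let X be quasi-compact. Suppose every point of X lies in the locus where some global section s of
some globally generated invertible module L generates L, with that locus affine. Then X has an ample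
invertible module. -/
theorem result (X : Scheme.{u}) [CompactSpace X]
    (h : ∀ x : X, ∃ (L : X.Modules) (s : Coh.structureModule X ⟶ L), PicF.IsInvertible L ∧ Curv2.IsGloballyGenerated L ∧
      x ∈ CohB1.genLocus L s ∧ IsAffineOpen (CohB1.genLocus L s)) :
    ∃ M : X.Modules, CohB1.IsAmple M := by
  classical
  choose L s hinv hgg hx haff using h
  have hnv : ∀ x y : X, ∃ t : Coh.structureModule X ⟶ L x, y ∈ CohB1.genLocus (L x) t :=
    fun x y => exists_section_of_ggAt (hinv x) y
      (ggAt_of_isGloballyGenerated (L x) (hgg x) y)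
  obtain ⟨T, hT⟩ := isCompact_univ.elim_finite_subcover
    (fun x => ((CohB1.genLocus (L x) (s x) : X.Opens) : Set X))
    (fun x => (CohB1.genLocus (L x) (s x)).2) (fun y _ => Set.mem_iUnion.mpr ⟨y, hx y⟩)
  have key : ∀ T : Finset X, ∃ M : X.Modules, PicF.IsInvertible M ∧
      (∀ y : X, ∃ σ : Coh.structureModule X ⟶ M, y ∈ CohB1.genLocus M σ) ∧
      ∀ y : X, (∃ x ∈ T, y ∈ CohB1.genLocus (L x) (s x)) →
        ∃ (n : ℕ) (σ : Coh.structureModule X ⟶ CohB1.tensorPow M (n + 1)),
          y ∈ CohB1.genLocus _ σ ∧ IsAffineOpen (CohB1.genLocus _ σ) := by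
    intro T
    induction T using Finset.induction_on with
    | empty =>
      refine ⟨Coh.structureModule X, Groth.Agent.H8.isInvertible_structureModule X,
        fun y => ⟨𝟙 _, ?_⟩, ?_⟩
      · rw [genLocus_id]
        trivial
      · rintro y ⟨x, hxT, -⟩
        exact absurd hxT (Finset.notMem_empty x)
    | insert x T hxT ih =>
      obtain ⟨M, hM, hMnv, hMaff⟩ := ih
      refine ⟨CohB1.tensorMod M (L x), isInvertible_tensorMod hM (hinv x), fun y => ?_, ?_⟩
      · obtain ⟨σ, hσ⟩ := hMnv y
        obtain ⟨t, ht⟩ := hnv x y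
        refine ⟨SecTwist.tmulHom σ t, ?_⟩
        rw [genLocus_tmulHom hM (hinv x)]
        exact ⟨hσ, ht⟩
      · rintro y ⟨x', hx'T, hy⟩
        rw [Finset.mem_insert] at hx'T
        rcases hx'T with rfl | hx'T
        · obtain ⟨τ, hτ⟩ := hMnv y
          have hM' := isInvertible_tensorMod hM (hinv x')
          have h1 := genLocus_tmulHom hM (hinv x') τ (s x')
          have h2 := genLocus_tmulHom (Groth.Agent.H8.isInvertible_structureModule X) hM'
            (𝟙 _) (SecTwist.tmulHom τ (s x'))
          have h3 : CohB1.genLocus (CohB1.tensorPow (CohB1.tensorMod M (L x')) (0 + 1))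
              (SecTwist.tmulHom (𝟙 (Coh.structureModule X)) (SecTwist.tmulHom τ (s x'))) =
              CohB1.genLocus M τ ⊓ CohB1.genLocus (L x') (s x') :=
            h2.trans (by rw [genLocus_id, h1, top_inf_eq])
          refine ⟨0, SecTwist.tmulHom (𝟙 _) (SecTwist.tmulHom τ (s x')), ?_, ?_⟩
          · rw [h3]
            exact ⟨hτ, hy⟩
          · rw [h3]
            exact isAffineOpen_genLocus_inf hM τ (haff x')
        · obtain ⟨n, σ, hyσ, haffσ⟩ := hMaff y ⟨x', hx'T, hy⟩
          obtain ⟨t, ht⟩ := hnv x y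
          obtain ⟨e⟩ := nonempty_tensorPow_tensorMod hM (hinv x) (n + 1)
          have hpow := genLocus_powHom_succ (hinv x) t n
          have hLn := isInvertible_tensorPow (hinv x) (n + 1)
          have hMn := isInvertible_tensorPow hM (n + 1)
          have h1 := genLocus_tmulHom hMn hLn σ (SecTwist.powHom t (n + 1))
          have h3 : CohB1.genLocus _ (SecTwist.tmulHom σ (SecTwist.powHom t (n + 1)) ≫ e.hom) =
              CohB1.genLocus _ σ ⊓ CohB1.genLocus _ (SecTwist.powHom t (n + 1)) := by
            rw [TwistAmple.genLocus_comp_iso, h1]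
          refine ⟨n, SecTwist.tmulHom σ (SecTwist.powHom t (n + 1)) ≫ e.hom, ?_, ?_⟩
          · rw [h3, hpow]
            exact ⟨hyσ, ht⟩
          · rw [h3, inf_comm]
            exact isAffineOpen_genLocus_inf hLn _ haffσ
  obtain ⟨M, hM, -, hMaff⟩ := key T
  refine ⟨M, hM, inferInstance, fun y => hMaff y ?_⟩
  have h1 := hT (Set.mem_univ y)
  simp only [Set.mem_iUnion] at h1
  obtain ⟨x, hxT, hy⟩ := h1
  exact ⟨x, hxT, hy⟩

end Groth.Agent.S1664
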