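import Groth.Statements.S16644
import Mathlib.RingTheory.Ideal.Quotient.Basic
import Mathlib.RingTheory.Ideal.Span
import Mathlib.LinearAlgebra.Matrix.Determinant.Basic
import Mathlib.Algebra.MvPolynomial.Basic
import Mathlib.RingTheory.Polynomial.Basic

set_option autoImplicit false
open QuadZ

namespace Groth.Agent.S16644

theorem det_skew_odd {R : Type*} [CommRing R] [IsDomain R] (h2 : (2 : R) ≠ 0) (n : ℕ) (hn : Odd n)
    (N : Matrix (Fin n) (Fin n) R) (hN : N.transpose = -N) : N.det = 0 := by
  have h1 : N.det = -N.det := by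
    conv_lhs => rw [← Matrix.det_transpose, hN, Matrix.det_neg]
    simp [hn.neg_one_pow]
  have h3 : (2 : R) * N.det = 0 := by
    rw [two_mul]
    nth_rewrite 1 [h1]
    simp
  rcases mul_eq_zero.mp h3 with h | h
  · exact absurd h h2
  · exact h

/-- For odd n, the discriminant of the universal quadratic form Σ_{i ≤ j} A_{ij} x_i x_j in n variables
(variables A_{ij} indexed by unordered pairs), i.e. the determinant of the symmetric matrix with
diagonal entries 2 A_{ii} and off-diagonal entries A_{ij}, is divisible by 2 in the integral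
polynomial ring ℤ[A_{ij}] (so the half-discriminant is an integral polynomial). -/
theorem result (n : ℕ) (hn : Odd n) :
    (2 : MvPolynomial (Sym2 (Fin n)) ℤ) ∣
      (Matrix.of fun i j : Fin n =>
        if i = j then 2 * MvPolynomial.X (R := ℤ) (σ := Sym2 (Fin n)) (Sym2.mk i j)
        else MvPolynomial.X (R := ℤ) (σ := Sym2 (Fin n)) (Sym2.mk i j)).det := by
  classical
  set R := MvPolynomial (Sym2 (Fin n)) ℤ with hR
  set M : Matrix (Fin n) (Fin n) R := (Matrix.of fun i j : Fin n =>
        if i = j then 2 * MvPolynomial.X (R := ℤ) (σ := Sym2 (Fin n)) (Sym2.mk i j)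
        else MvPolynomial.X (R := ℤ) (σ := Sym2 (Fin n)) (Sym2.mk i j)) with hM
  let N : Matrix (Fin n) (Fin n) R := Matrix.of fun i j : Fin n =>
    if i = j then 0 else if i < j then MvPolynomial.X (Sym2.mk i j) else - MvPolynomial.X (Sym2.mk i j)
  have hNt : N.transpose = -N := by
    apply Matrix.ext
    intro i j
    simp only [N, Matrix.transpose_apply, Matrix.of_apply, Matrix.neg_apply]
    rcases lt_trichotomy i j with h | h | h
    · have hne : j ≠ i := h.ne'
      have hne' : i ≠ j := h.ne
      simp [hne, hne', h, not_lt.mpr h.le, Sym2.eq_swap]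
    · subst h; simp
    · have hne : j ≠ i := h.ne
      have hne' : i ≠ j := h.ne'
      simp only [hne, hne', h, not_lt.mpr h.le, if_false, if_true, Sym2.eq_swap]
      exact (neg_neg _).symm
  have h2 : (2 : R) ≠ 0 := by
    intro h
    have h' := congrArg (MvPolynomial.eval (fun _ => (0 : ℤ))) h
    rw [map_ofNat, map_zero] at h'
    exact absurd h' (by norm_num)
  have hdetN : N.det = 0 := det_skew_odd h2 n hn N hNt
  let π : R →+* R ⧸ Ideal.span {(2 : R)} := Ideal.Quotient.mk _
  have hMN : π.mapMatrix M = π.mapMatrix N := by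
    apply Matrix.ext
    intro i j
    simp only [RingHom.mapMatrix_apply, Matrix.map_apply]
    rw [Ideal.Quotient.eq, Ideal.mem_span_singleton]
    simp only [M, N, Matrix.of_apply]
    rcases lt_trichotomy i j with h | h | h
    · simp [h.ne, h]
    · subst h; simp
    · simp only [h.ne', if_false, not_lt.mpr h.le]
      exact ⟨MvPolynomial.X (Sym2.mk i j), by ring⟩
  have : π M.det = 0 := by
    rw [RingHom.map_det, hMN, ← RingHom.map_det, hdetN, map_zero]
  rw [Ideal.Quotient.eq_zero_iff_mem, Ideal.mem_span_singleton] at this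
  exact this

end Groth.Agent.S16644
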