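import Groth.Statements.S16647
import Groth.Agent.H40.FpqcDesc3
import Groth.Agent.H40.KerSquare
import Groth.Agent.H40.MaxOpen3

set_option autoImplicit false
open CategoryTheory MonoidalCategory CartesianMonoidalCategory MonObj GrpObj AlgebraicGeometry
universe u
open GrpSch

namespace Groth.Agent.S16647

/-- In a commutative diagram of short exact sequences of S-group schemes that are flat, separated and of
finite presentation over a scheme S (in each row the first homomorphism is the kernel of the second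
and the second is a flat surjection), if the two outer vertical homomorphisms are closed immersions
then so is the middle one. -/
theorem result {S : Scheme.{u}}
    {H₁' H₁ H₁'' H₂' H₂ H₂'' : Over S} [GrpObj H₁'] [GrpObj H₁] [GrpObj H₁''] [GrpObj H₂'] [GrpObj H₂] [GrpObj H₂'']
    [Flat H₁'.hom] [Flat H₁.hom] [Flat H₁''.hom] [Flat H₂'.hom] [Flat H₂.hom] [Flat H₂''.hom]
    [IsSeparated H₁'.hom] [IsSeparated H₁.hom] [IsSeparated H₁''.hom]
    [IsSeparated H₂'.hom] [IsSeparated H₂.hom] [IsSeparated H₂''.hom]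
    [QuasiCompact H₁'.hom] [QuasiCompact H₁.hom] [QuasiCompact H₁''.hom]
    [QuasiCompact H₂'.hom] [QuasiCompact H₂.hom] [QuasiCompact H₂''.hom]
    [LocallyOfFinitePresentation H₁'.hom] [LocallyOfFinitePresentation H₁.hom] [LocallyOfFinitePresentation H₁''.hom]
    [LocallyOfFinitePresentation H₂'.hom] [LocallyOfFinitePresentation H₂.hom] [LocallyOfFinitePresentation H₂''.hom]
    (a₁ : H₁' ⟶ H₁) (b₁ : H₁ ⟶ H₁'') (a₂ : H₂' ⟶ H₂) (b₂ : H₂ ⟶ H₂'')
    [IsMonHom a₁] [IsMonHom b₁] [IsMonHom a₂] [IsMonHom b₂]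
    (h₁ : AlgGrp.IsKernel a₁ b₁) (hb₁ : Flat b₁.left ∧ Surjective b₁.left)
    (h₂ : AlgGrp.IsKernel a₂ b₂) (hb₂ : Flat b₂.left ∧ Surjective b₂.left)
    (j' : H₁' ⟶ H₂') (j : H₁ ⟶ H₂) (j'' : H₁'' ⟶ H₂'') [IsMonHom j'] [IsMonHom j] [IsMonHom j'']
    (sq₁ : a₁ ≫ j = j' ≫ a₂) (sq₂ : b₁ ≫ j'' = j ≫ b₂)
    (hj' : IsClosedImmersion j'.left) (hj'' : IsClosedImmersion j''.left) :
    IsClosedImmersion j.left := by
  open Groth.Agent.H40.FpqcFam Groth.Agent.H40.MaxOpen in
  have hpb₁ := Groth.Agent.H40.KerSquare.isPullback_fst_mul_of_isKernel a₁ b₁ h₁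
  have hpb₂ := Groth.Agent.H40.KerSquare.isPullback_fst_mul_of_isKernel a₂ b₂ h₂
  have hmono₁ : Mono a₁ := ⟨fun x y hxy => h₁.hom_ext hxy (toUnit_unique _ _)⟩
  have hmono₂ : Mono a₂ := ⟨fun x y hxy => h₂.hom_ext hxy (toUnit_unique _ _)⟩
  have hcancel : ∀ {G₀ T : Over S} [GrpObj G₀] (x y z : T ⟶ G₀), x * y = x * z → y = z :=
    fun x y z h => mul_left_cancel h
  -- the maps g₁ g₂ and the conditions
  have hg₁ : ∀ {T : Over S} (x : T ⟶ H₁) (h' : T ⟶ H₂'),
      ((x ≫ j) * (h' ≫ a₂)) ≫ b₂ = (x ≫ b₁) ≫ j'' := by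
    intro T x h'
    rw [MonObj.mul_comp, Category.assoc h' a₂ b₂,
      show h' ≫ a₂ ≫ b₂ = (h' ≫ a₂) ≫ b₂ from (Category.assoc _ _ _).symm,
      Groth.Agent.H40.FlatDesc.comp_eq_one_of_isKernel a₂ b₂ h₂, _root_.mul_one, Category.assoc,
      Category.assoc, sq₂]
  have hcond : ((fst H₁ H₂' ≫ j) * (snd H₁ H₂' ≫ a₂)) ≫ b₂ = (fst H₁ H₂' ≫ b₁) ≫ j'' := hg₁ _ _
  obtain ⟨g, hgdef⟩ : ∃ g : H₁ ⊗ H₂' ⟶ Limits.pullback b₂ j'',
      g = Limits.pullback.lift ((fst H₁ H₂' ≫ j) * (snd H₁ H₂' ≫ a₂)) (fst H₁ H₂' ≫ b₁) hcond := ⟨_, rfl⟩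
  have hgp₁ : ∀ {T : Over S} (x : T ⟶ H₁) (h' : T ⟶ H₂'),
      lift x h' ≫ g ≫ Limits.pullback.fst b₂ j'' = (x ≫ j) * (h' ≫ a₂) := by
    intro T x h'
    rw [hgdef, Limits.pullback.lift_fst, MonObj.comp_mul, lift_fst_assoc, lift_snd_assoc]
  have hgp₂ : g ≫ Limits.pullback.snd b₂ j'' = fst H₁ H₂' ≫ b₁ := by
    rw [hgdef, Limits.pullback.lift_snd]
  obtain ⟨k, hkdef⟩ : ∃ k : H₁ ⟶ Limits.pullback b₂ j'', k = Limits.pullback.lift j b₁ sq₂.symm := ⟨_, rfl⟩
  have hk₁ : k ≫ Limits.pullback.fst b₂ j'' = j := by rw [hkdef, Limits.pullback.lift_fst]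
  have hk₂ : k ≫ Limits.pullback.snd b₂ j'' = b₁ := by rw [hkdef, Limits.pullback.lift_snd]
  have hpinv₁ : ∀ {T : Over S} (x : T ⟶ H₁) (n : T ⟶ H₁'), (x * (n ≫ a₁)) ≫ b₁ = x ≫ b₁ := by
    intro T x n
    rw [MonObj.mul_comp, Groth.Agent.H40.FlatDesc.comp_eq_one_of_isKernel a₁ b₁ h₁, _root_.mul_one]
  -- (★) the pullback of `k` along `g` is `H₁ ◁ j'`
  have star : IsPullback ((H₁ ◁ a₁) ≫ μ[H₁]) (H₁ ◁ j') k g := by
    refine isPullback_of_pts ?_ ?_
    · apply AlgGrp.Action.hom_ext_lift₂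
      intro T x n
      have hL : lift x n ≫ ((H₁ ◁ a₁) ≫ μ[H₁]) = x * (n ≫ a₁) := by
        rw [lift_whiskerLeft_assoc, ← Hom.mul_def]
      have hR : lift x n ≫ (H₁ ◁ j') = lift x (n ≫ j') := lift_whiskerLeft _ _ _
      rw [← Category.assoc, hL, ← Category.assoc, hR]
      apply Limits.pullback.hom_ext
      · rw [Category.assoc, hk₁, Category.assoc, hgp₁, MonObj.mul_comp, Category.assoc n a₁ j,
          sq₁, Category.assoc]
      · rw [Category.assoc, hk₂, hpinv₁, Category.assoc, hgp₂, lift_fst_assoc]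
    · intro T y z hyz
      have hz : z = lift (z ≫ fst H₁ H₂') (z ≫ snd H₁ H₂') := by
        apply CartesianMonoidalCategory.hom_ext
        · rw [lift_fst]
        · rw [lift_snd]
      have e1 : y ≫ j = ((z ≫ fst H₁ H₂') ≫ j) * ((z ≫ snd H₁ H₂') ≫ a₂) := by
        have := congrArg (fun m => m ≫ Limits.pullback.fst b₂ j'') hyz
        simp only [Category.assoc] at this
        rw [hk₁] at this
        rw [this]
        conv_lhs => rw [hz]
        exact hgp₁ _ _
      have e2 : (z ≫ fst H₁ H₂') ≫ b₁ = y ≫ b₁ := by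
        have := congrArg (fun m => m ≫ Limits.pullback.snd b₂ j'') hyz
        simp only [Category.assoc] at this
        rw [hk₂, hgp₂] at this
        rw [this, Category.assoc]
      obtain ⟨n, hn⟩ := exact_diff hpb₁ _ _ e2
      have hnj : (n ≫ j') = z ≫ snd H₁ H₂' := by
        rw [← cancel_mono a₂]
        apply hcancel ((z ≫ fst H₁ H₂') ≫ j)
        rw [← e1, hn, MonObj.mul_comp, Category.assoc n, Category.assoc n, sq₁]
      refine ⟨lift (z ≫ fst H₁ H₂') n, ⟨?_, ?_⟩, ?_⟩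
      · rw [lift_whiskerLeft_assoc, ← Hom.mul_def, hn]
      · rw [lift_whiskerLeft, hnj, ← hz]
      · rintro q ⟨hq1, hq2⟩
        have hqf : q ≫ fst H₁ H₁' = z ≫ fst H₁ H₂' := by
          rw [← hq2, Category.assoc, whiskerLeft_fst]
        have hq : q = lift (q ≫ fst H₁ H₁') (q ≫ snd H₁ H₁') := by
          apply CartesianMonoidalCategory.hom_ext
          · rw [lift_fst]
          · rw [lift_snd]
        have hqm : (z ≫ fst H₁ H₂') * ((q ≫ snd H₁ H₁') ≫ a₁) = y := by
          rw [← hq1, ← hqf, Hom.mul_def, ← lift_whiskerLeft_assoc, ← hq]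
        apply CartesianMonoidalCategory.hom_ext
        · rw [lift_fst, hqf]
        · rw [lift_snd, ← cancel_mono a₁]
          apply hcancel (z ≫ fst H₁ H₂')
          rw [hqm, hn]
  -- (★★) `g` is the base change of `b₁`
  have star2 : IsPullback g (fst H₁ H₂') (Limits.pullback.snd b₂ j'') b₁ := by
    refine isPullback_of_pts hgp₂ ?_
    intro T π x hπx
    have e : (x ≫ j) ≫ b₂ = (π ≫ Limits.pullback.fst b₂ j'') ≫ b₂ := by
      rw [Category.assoc, Category.assoc, Limits.pullback.condition, ← Category.assoc π, hπx,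
        Category.assoc, sq₂]
    obtain ⟨h', hh'⟩ := exact_diff hpb₂ _ _ e
    refine ⟨lift x h', ⟨?_, lift_fst _ _⟩, ?_⟩
    · apply Limits.pullback.hom_ext
      · rw [Category.assoc, hgp₁, hh']
      · rw [Category.assoc, hgp₂, lift_fst_assoc, hπx]
    · rintro q ⟨hq1, hq2⟩
      have hq : q = lift x (q ≫ snd H₁ H₂') := by
        apply CartesianMonoidalCategory.hom_ext
        · rw [lift_fst, hq2]
        · rw [lift_snd]
      rw [hq]
      congr 1
      rw [← cancel_mono a₂]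
      apply hcancel (x ≫ j)
      rw [← hh', ← hq1, ← hgp₁, ← Category.assoc, ← hq]
  -- scheme level
  have starS : IsPullback ((H₁ ◁ a₁) ≫ μ[H₁]).left (H₁ ◁ j').left k.left g.left :=
    star.map (Over.forget S)
  have star2S : IsPullback g.left (fst H₁ H₂').left (Limits.pullback.snd b₂ j'').left b₁.left :=
    star2.map (Over.forget S)
  have hb₁qc : QuasiCompact b₁.left := by
    have : QuasiCompact (b₁.left ≫ H₁''.hom) := by rw [Over.w]; infer_instance
    exact MorphismProperty.of_postcomp (W := @QuasiCompact) b₁.left H₁''.hom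
      (inferInstance : QuasiSeparated H₁''.hom) this
  have hgflat : Flat g.left := MorphismProperty.of_isPullback (P := @Flat) star2S.flip hb₁.1
  have hgsurj : Surjective g.left :=
    MorphismProperty.of_isPullback (P := @Surjective) star2S.flip hb₁.2
  have hgqc : QuasiCompact g.left :=
    MorphismProperty.of_isPullback (P := @QuasiCompact) star2S.flip hb₁qc
  have hcov : Presieve.singleton g.left ∈ Scheme.fpqcPrecoverage (Limits.pullback b₂ j'').left := by
    refine singleton_mem_fpqc g.left fun V hV => ⟨g.left ⁻¹ᵁ V, ?_, ?_⟩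
    · exact g.left.isCompact_preimage hV.isCompact
    · exact Set.image_preimage_eq _ g.left.surjective
  have hjclosed : IsClosedImmersion (H₁ ◁ j').left :=
    MorphismProperty.of_isPullback (P := @IsClosedImmersion)
      ((sq_snd' (G := H₁) j').map (Over.forget S)) hj'
  have hk : IsClosedImmersion k.left := by
    refine isClosedImmersion_desc_along_fpqc k.left hcov ?_
    rintro T g' ⟨⟩
    exact ⟨_, _, _, starS, hjclosed⟩
  have hp₁ : IsClosedImmersion (Limits.pullback.fst b₂ j'').left :=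
    MorphismProperty.of_isPullback (P := @IsClosedImmersion)
      ((IsPullback.of_hasPullback b₂ j'').map (Over.forget S)).flip hj''
  rw [← hk₁, Over.comp_left]
  infer_instance

end Groth.Agent.S16647
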