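import Groth.Statements.S1665
import Mathlib
import Groth.Agent.H46.KrullAkizuki

set_option autoImplicit false
set_option linter.style.haveILetI false
universe u
open Variety

namespace Groth.Agent.S1665

/-- Let B be a Noetherian domain of dimension one with finitely many maximal ideals and B' its integral
closure in its fraction field. Then B' is a Dedekind domain with finitely many maximal ideals, and
for every nonzero x in the Jacobson radical of B' and every y ∈ B' some power x^n satisfies x^n y ∈
B. -/
theorem result (B : Type u) [CommRing B] [IsDomain B] [IsNoetherianRing B]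
    (hdim : ringKrullDim B = 1) (hsl : Finite (MaximalSpectrum B)) :
    IsDedekindDomain (integralClosure B (FractionRing B)) ∧ Finite (MaximalSpectrum (integralClosure B (FractionRing B))) ∧
      ∀ x : integralClosure B (FractionRing B), x ≠ 0 → x ∈ (⊥ : Ideal (integralClosure B (FractionRing B))).jacobson →
        ∀ y : integralClosure B (FractionRing B), ∃ n : ℕ, (x ^ n * y).1 ∈ (algebraMap B (FractionRing B)).range := by
  classical
  haveI : Ring.KrullDimLE 1 B := Ring.krullDimLE_iff.mpr (by rw [hdim, Nat.cast_one])
  refine ⟨Groth.Agent.H46.KA.isDedekindDomain_of_isIntegralClosure B (FractionRing B)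
    (FractionRing B) (integralClosure B (FractionRing B)),
    Groth.Agent.H46.KA.finite_maximalSpectrum B (FractionRing B)
    (FractionRing B) (integralClosure B (FractionRing B)) hsl, ?_⟩
  intro x _ hxjac y
  obtain ⟨n, b, hb⟩ := Groth.Agent.H46.KA.exists_pow_mul_mem B (FractionRing B)
    (integralClosure B (FractionRing B)) Subtype.val_injective x hxjac y
  exact ⟨n, b, hb⟩

end Groth.Agent.S1665
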