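import Groth.Statements.S16661
import Groth.Agent.H83.ConnAlong

set_option autoImplicit false
universe v u
open TensorProduct
open Conn

namespace Groth.Agent.S16661

theorem trace_comm_aux {A : Type v} {B M : Type u} [CommRing A] [CommRing B] [Algebra A B]
    [AddCommGroup M] [Module B M] [Module A M] [IsScalarTower A B M] [Module.Finite B M] [Module.Free B M]
    (D : M →ₗ[A] M) (d : B →ₗ[A] B) (hD : ∀ (b : B) (m : M), D (b • m) = b • D m + d b • m)
    (φ ψ : M →ₗ[B] M) (hψ : ∀ m, ψ m = D (φ m) - φ (D m)) :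
    LinearMap.trace B M ψ = d (LinearMap.trace B M φ) := by
  classical
  let b := Module.Free.chooseBasis B M
  rw [LinearMap.trace_eq_matrix_trace B b ψ, LinearMap.trace_eq_matrix_trace B b φ]
  simp only [Matrix.trace, Matrix.diag_apply, LinearMap.toMatrix_apply, map_sum]
  have h1 : ∀ i, φ (b i) = ∑ j, b.repr (φ (b i)) j • b j := fun i => (b.sum_repr _).symm
  have h2 : ∀ i, D (b i) = ∑ j, b.repr (D (b i)) j • b j := fun i => (b.sum_repr _).symm
  have h3 : ∀ i, b.repr (ψ (b i)) i =
      (∑ j, b.repr (φ (b i)) j * b.repr (D (b j)) i) + d (b.repr (φ (b i)) i)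
        - ∑ j, b.repr (D (b i)) j * b.repr (φ (b j)) i := by
    intro i
    rw [hψ]
    conv_lhs => rw [h1 i]; arg 1; arg 2; arg 2; rw [h2 i]
    simp only [map_sum, hD, map_add, map_smul, map_sub, Finsupp.coe_sub, Finsupp.coe_add,
      Finsupp.coe_smul, Pi.sub_apply, Pi.add_apply, Pi.smul_apply, Finsupp.coe_finsetSum,
      Finset.sum_apply, smul_eq_mul, Module.Basis.repr_self, Finset.sum_add_distrib]
    congr 1
    congr 1
    simp [Finsupp.single_apply]
  simp only [h3, Finset.sum_sub_distrib, Finset.sum_add_distrib]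
  rw [Finset.sum_comm]
  have : ∀ x y, b.repr (φ (b y)) x * b.repr (D (b x)) y = b.repr (D (b x)) y * b.repr (φ (b y)) x :=
    fun x y => mul_comm _ _
  simp only [this]
  abel

/-- Let B be an A-algebra with a receptacle of differentials (Ω, δ), Ω a finite free B-module (the
affine-local form of differentials locally free of finite type), let M be a finite free B-module
(the local form of a vector bundle) with a connection ∇ : M → M ⊗ Ω, and let ∇_E be the induced
connection on the B-linear endomorphisms of M, the one with (ev_m ⊗ 1)(∇_E φ) = ∇(φ m) − (φ ⊗ 1)(∇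
m). Give B the connection b ↦ 1 ⊗ δ b. Then the trace map End_B(M) → B is horizontal: 1 ⊗ δ(tr φ) =
(tr ⊗ 1)(∇_E φ) for every endomorphism φ. -/
theorem result {A : Type v} {B Ω M : Type u}
    [CommRing A] [CommRing B] [Algebra A B]
    [AddCommGroup Ω] [Module B Ω] [Module A Ω] [IsScalarTower A B Ω] [Module.Finite B Ω] [Module.Free B Ω]
    [AddCommGroup M] [Module B M] [Module A M] [IsScalarTower A B M] [Module.Finite B M] [Module.Free B M]
    (δ : Derivation A B Ω) (nabla : M →ₗ[A] M ⊗[B] Ω) (hc : Conn.IsConn δ nabla)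
    (nablaE : (M →ₗ[B] M) →ₗ[A] (M →ₗ[B] M) ⊗[B] Ω) (hE : Conn.IsHomConn nabla nabla nablaE) :
    Conn.IsHorizontal nablaE (Conn.triv δ) (LinearMap.trace B M) := by
  apply Groth.Agent.H83.isHorizontal_of_along
  intro θ φ
  rw [Groth.Agent.H83.along_eq, Conn.triv_apply, Groth.Agent.H83.contr_tmul, smul_eq_mul, mul_one]
  symm
  refine trace_comm_aux (Conn.along nabla θ) ((θ.restrictScalars A) ∘ₗ (δ : B →ₗ[A] Ω)) ?_ φ _ ?_
  · intro b m
    rw [Groth.Agent.H83.along_smul δ nabla hc]
    rfl
  · intro m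
    exact Groth.Agent.H83.along_hom nabla nabla nablaE hE θ φ m

end Groth.Agent.S16661
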