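import Groth.Statements.S16663
import Groth.Agent.H83.ConnAlong
import Groth.Agent.S16661

set_option autoImplicit false
universe v u
open TensorProduct
open Conn

namespace Groth.Agent.S16663

/-- Let B be an A-algebra with a receptacle of differentials (Ω, δ), Ω a finite free B-module (the local
form of a weakly smooth scheme), and let M be a finitely ℤ-graded B-module presented as a finite
family of finite free B-modules M_i with integer degrees deg i (the local form of a graded vector
bundle), with total module Π_i M_i. Let ∇ be a connection on Π_i M_i preserving the grading, in the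
sense that (pr_j ⊗ 1)(∇(ι_i m)) = 0 for m ∈ M_i whenever deg i ≠ deg j, and let ∇_E be the induced
connection on the B-linear endomorphisms, the one with (ev_m ⊗ 1)(∇_E φ) = ∇(φ m) − (φ ⊗ 1)(∇ m).
Give B the connection b ↦ 1 ⊗ δ b. Then the supertrace, φ ↦ tr(ε ∘ φ) with ε = Σ_i (−1)^{deg i} ι_i
∘ pr_i the grading involution, is a horizontal map End_B(Π_i M_i) → B. -/
theorem result {A : Type v} {B Ω ι : Type u}
    [CommRing A] [CommRing B] [Algebra A B]
    [AddCommGroup Ω] [Module B Ω] [Module A Ω] [IsScalarTower A B Ω] [Module.Finite B Ω] [Module.Free B Ω]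
    [Fintype ι] [DecidableEq ι] (deg : ι → ℤ) (M : ι → Type u)
    [∀ i, AddCommGroup (M i)] [∀ i, Module B (M i)] [∀ i, Module A (M i)] [∀ i, IsScalarTower A B (M i)]
    [∀ i, Module.Free B (M i)] [∀ i, Module.Finite B (M i)]
    (δ : Derivation A B Ω) (nabla : (Π k, M k) →ₗ[A] (Π k, M k) ⊗[B] Ω) (hc : Conn.IsConn δ nabla)
    (hgr : ∀ i j : ι, deg i ≠ deg j → ∀ m : M i,
      TensorProduct.map (LinearMap.proj j : (Π k, M k) →ₗ[B] M j) LinearMap.id (nabla (LinearMap.single B M i m)) = 0)
    (nablaE : ((Π k, M k) →ₗ[B] (Π k, M k)) →ₗ[A] ((Π k, M k) →ₗ[B] (Π k, M k)) ⊗[B] Ω)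
    (hE : Conn.IsHomConn nabla nabla nablaE) :
    Conn.IsHorizontal nablaE (Conn.triv δ)
      (LinearMap.trace B (Π k, M k) ∘ₗ LinearMap.llcomp B (Π k, M k) (Π k, M k) (Π k, M k)
        (∑ i : ι, (LinearMap.single B M i) ∘ₗ (((-1 : B) ^ (deg i).natAbs) • (LinearMap.proj i : (Π k, M k) →ₗ[B] M i)))) := by
  classical
  apply Groth.Agent.H83.isHorizontal_of_along
  intro θ φ
  rw [Groth.Agent.H83.along_eq, Conn.triv_apply, Groth.Agent.H83.contr_tmul, smul_eq_mul, mul_one]
  symm
  set ε : (Π k, M k) →ₗ[B] (Π k, M k) :=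
    ∑ i : ι, (LinearMap.single B M i) ∘ₗ
      (((-1 : B) ^ (deg i).natAbs) • (LinearMap.proj i : (Π k, M k) →ₗ[B] M i)) with hε
  set D := Conn.along nabla θ with hD
  have hεapp : ∀ (x : Π k, M k) (j : ι), ε x j = ((-1 : B) ^ (deg j).natAbs) • x j := by
    intro x j
    simp [hε, Pi.single_apply]
  have hsign : ∀ (n : ℕ) (x : Π k, M k), D (((-1 : B) ^ n) • x) = ((-1 : B) ^ n) • D x := by
    intro n x
    have : ((-1 : B) ^ n) • x = ((-1 : A) ^ n) • x := by
      rw [← algebraMap_smul B (((-1 : A) ^ n)) x]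
      simp
    rw [this, map_smul, ← algebraMap_smul B (((-1 : A) ^ n)) (D x)]
    simp
  have hcomm1 : ∀ (i : ι) (m : M i), D (ε (LinearMap.single B M i m)) = ε (D (LinearMap.single B M i m)) := by
    intro i m
    have h1 : ε (LinearMap.single B M i m) = ((-1 : B) ^ (deg i).natAbs) • LinearMap.single B M i m := by
      ext j
      rw [hεapp]
      by_cases hij : j = i
      · subst hij; simp
      · simp [Pi.single_apply, hij]
    rw [h1, hsign]
    ext j
    rw [hεapp, Pi.smul_apply]
    by_cases hd : deg i = deg j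
    · rw [hd]
    · have h0 : D (LinearMap.single B M i m) j = 0 := by
        have := hgr i j hd m
        have h2 : D (LinearMap.single B M i m) j =
            Groth.Agent.H83.contr θ (TensorProduct.map (LinearMap.proj j : (Π k, M k) →ₗ[B] M j)
              LinearMap.id (nabla (LinearMap.single B M i m))) := by
          rw [Groth.Agent.H83.contr_map]
          rfl
        rw [h2, this, map_zero]
      rw [h0, smul_zero, smul_zero]
  have hcomm : ∀ x : Π k, M k, D (ε x) = ε (D x) := by
    intro x
    have hx : x = ∑ i, LinearMap.single B M i (x i) := by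
      ext j
      simp [Pi.single_apply]
    rw [hx]
    simp only [map_sum, hcomm1]
  have key := Groth.Agent.S16661.trace_comm_aux D ((θ.restrictScalars A) ∘ₗ (δ : B →ₗ[A] Ω)) ?_
    (ε ∘ₗ φ) (ε ∘ₗ Conn.along nablaE θ φ) ?_
  · exact key
  · intro b m
    rw [hD, Groth.Agent.H83.along_smul δ nabla hc]
    rfl
  · intro m
    simp only [LinearMap.comp_apply]
    rw [Groth.Agent.H83.along_hom nabla nabla nablaE hE θ φ m, map_sub, ← hcomm]

end Groth.Agent.S16663
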