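import Groth.Statements.S16664
import Groth.Agent.H83.ConnAlong

set_option autoImplicit false
universe v u
open TensorProduct
open Conn

namespace Groth.Agent.S16664

/-- Let B be an A-algebra with a receptacle of differentials (Ω, δ), Ω free on a finite basis ω_1, …,
ω_n, let M be a finitely presented B-module with a connection ∇, let ∇_E be the induced connection
on the B-linear endomorphisms of M (the one with (ev_m ⊗ 1)(∇_E φ) = ∇(φ m) − (φ ⊗ 1)(∇ m)), and for
each q let ∇_q = (1 ⊗ ω_q^*) ∘ ∇_E be the covariant derivative on End_B(M) along the q-th vector of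
the dual basis. If an endomorphism φ satisfies φ ∘ ∇_q(φ) + ∇_q(φ) ∘ φ = 0 for every q, then for all
q, r one has φ ∘ ∇_q(∇_r(φ)) + ∇_q(∇_r(φ)) ∘ φ + ∇_q(φ) ∘ ∇_r(φ) + ∇_r(φ) ∘ ∇_q(φ) = 0. (The
published statement takes M graded with ∇ preserving the grading and φ of odd degree, and is written
with supercommutators; for such φ the supercommutators in question are exactly these
anticommutators, and the identity holds for an arbitrary endomorphism.) -/
theorem result {A : Type v} {B Ω M : Type u}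
    [CommRing A] [CommRing B] [Algebra A B]
    [AddCommGroup Ω] [Module B Ω] [Module A Ω] [IsScalarTower A B Ω] {n : ℕ} (bΩ : Module.Basis (Fin n) B Ω)
    [AddCommGroup M] [Module B M] [Module A M] [IsScalarTower A B M] [Module.FinitePresentation B M]
    (δ : Derivation A B Ω) (nabla : M →ₗ[A] M ⊗[B] Ω) (hc : Conn.IsConn δ nabla)
    (nablaE : (M →ₗ[B] M) →ₗ[A] (M →ₗ[B] M) ⊗[B] Ω) (hE : Conn.IsHomConn nabla nabla nablaE)
    (φ : M →ₗ[B] M)
    (hφ : ∀ q : Fin n, φ ∘ₗ Conn.along nablaE (bΩ.coord q) φ + Conn.along nablaE (bΩ.coord q) φ ∘ₗ φ = 0)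
    (q r : Fin n) :
    φ ∘ₗ Conn.along nablaE (bΩ.coord q) (Conn.along nablaE (bΩ.coord r) φ)
      + Conn.along nablaE (bΩ.coord q) (Conn.along nablaE (bΩ.coord r) φ) ∘ₗ φ
      + Conn.along nablaE (bΩ.coord q) φ ∘ₗ Conn.along nablaE (bΩ.coord r) φ
      + Conn.along nablaE (bΩ.coord r) φ ∘ₗ Conn.along nablaE (bΩ.coord q) φ = 0 := by
  set Dq := Conn.along nabla (bΩ.coord q) with hDq
  set φr := Conn.along nablaE (bΩ.coord r) φ with hφr
  have e1 : ∀ x, (Conn.along nablaE (bΩ.coord q) φr) x = Dq (φr x) - φr (Dq x) :=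
    fun x => Groth.Agent.H83.along_hom nabla nabla nablaE hE (bΩ.coord q) φr x
  have e2 : ∀ x, (Conn.along nablaE (bΩ.coord q) φ) x = Dq (φ x) - φ (Dq x) :=
    fun x => Groth.Agent.H83.along_hom nabla nabla nablaE hE (bΩ.coord q) φ x
  have h0 : ∀ x, φ (φr x) + φr (φ x) = 0 := by
    intro x
    have := congrArg (fun f : M →ₗ[B] M => f x) (hφ r)
    simpa using this
  apply LinearMap.ext
  intro m
  simp only [LinearMap.add_apply, LinearMap.comp_apply, LinearMap.zero_apply, e1, e2, map_sub]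
  have h1 := h0 (Dq m)
  have h2 : Dq (φ (φr m)) + Dq (φr (φ m)) = 0 := by
    rw [← map_add, h0 m, map_zero]
  have : φ (Dq (φr m)) - φ (φr (Dq m)) + (Dq (φr (φ m)) - φr (Dq (φ m))) +
      (Dq (φ (φr m)) - φ (Dq (φr m))) + (φr (Dq (φ m)) - φr (φ (Dq m))) =
      (Dq (φ (φr m)) + Dq (φr (φ m))) - (φ (φr (Dq m)) + φr (φ (Dq m))) := by abel
  rw [this, h1, h2, sub_zero]

end Groth.Agent.S16664
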