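import Groth.Statements.S16674
import Groth.Agent.H1.FinHopf.Etale
import Groth.Agent.H96.CartDualLocal

set_option autoImplicit false
universe u
open CartDual

namespace Groth.Agent.S16674

open TensorProduct WithConv Groth.Agent.H96.CartDualLocal



section B
variable (k : Type u) [Field k] (A : Type u) [CommRing A] [HopfAlgebra k A]
  [Coalgebra.IsCocomm k A] [Module.Finite k A]
variable (K : Type u) [Field K] [Algebra k K]

instance towerD : IsScalarTower k K (CartDual.D K (K ⊗[k] A)) := by
  refine IsScalarTower.of_algebraMap_eq (fun x => ?_)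
  apply WithConv.ext
  apply LinearMap.ext
  intro c
  change x • algebraMap K K (Coalgebra.counit (R := K) c) =
    (algebraMap k K x) • algebraMap K K (Coalgebra.counit (R := K) c)
  rw [algebraMap_smul]

/-- base change of functionals as an algebra map -/
noncomputable def bcAlg : CartDual.D k A →ₐ[k] CartDual.D K (K ⊗[k] A) :=
  AlgHom.ofLinearMap
    { toFun := fun φ => toConv (bc k A K φ.ofConv)
      map_add' := fun φ ψ => by
        apply WithConv.ext
        apply TensorProduct.AlgebraTensorModule.ext
        intro c a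
        change bc k A K (φ + ψ).ofConv (c ⊗ₜ a) = bc k A K φ.ofConv (c ⊗ₜ a) + bc k A K ψ.ofConv (c ⊗ₜ a)
        rw [bc_tmul, bc_tmul, bc_tmul]
        change (φ.ofConv a + ψ.ofConv a) • c = _
        rw [add_smul]
      map_smul' := fun r φ => by
        apply WithConv.ext
        apply TensorProduct.AlgebraTensorModule.ext
        intro c a
        change bc k A K (r • φ).ofConv (c ⊗ₜ a) = r • bc k A K φ.ofConv (c ⊗ₜ a)
        rw [bc_tmul, bc_tmul]
        change (r • φ.ofConv a) • c = _
        rw [smul_assoc] }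
    (bc_one k A K) (fun φ ψ => bc_mul k A K φ ψ)

theorem bcAlg_apply (φ : CartDual.D k A) (c : K) (a : A) :
    (bcAlg k A K φ) (c ⊗ₜ a) = φ a • c := bc_tmul k A K φ.ofConv c a

/-- the comparison map `K ⊗ D(A) → D(K ⊗ A)` -/
noncomputable def Phi : K ⊗[k] CartDual.D k A →ₐ[K] CartDual.D K (K ⊗[k] A) :=
  Algebra.TensorProduct.lift (Algebra.ofId K _) (bcAlg k A K) (fun _ _ => Commute.all _ _)

theorem Phi_surjective : Function.Surjective (Phi k A K) := by
  classical
  intro ψ
  let b := Module.finBasis k A
  refine ⟨∑ i, ψ ((1 : K) ⊗ₜ b i) ⊗ₜ[k] (toConv (b.coord i) : CartDual.D k A), ?_⟩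
  rw [map_sum]
  apply WithConv.ext
  apply TensorProduct.AlgebraTensorModule.ext
  intro c a
  have hPhi : ∀ (x : K) (φ : CartDual.D k A), Phi k A K (x ⊗ₜ φ) = x • bcAlg k A K φ := by
    intro x φ
    change Algebra.TensorProduct.lift _ _ _ (x ⊗ₜ φ) = _
    rw [Algebra.TensorProduct.lift_tmul, Algebra.smul_def]
    rfl
  simp only [hPhi]
  rw [WithConv.ofConv_sum, LinearMap.sum_apply]
  have h1 : ∀ i, (ψ.ofConv (1 ⊗ₜ b i) • bcAlg k A K (toConv (b.coord i))).ofConv (c ⊗ₜ a) =
      ψ.ofConv (1 ⊗ₜ b i) * (b.coord i a • c) := by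
    intro i
    rw [WithConv.ofConv_smul, LinearMap.smul_apply, smul_eq_mul]
    congr 1
  simp only [h1]
  have h2 : (c ⊗ₜ[k] a : K ⊗[k] A) = ∑ i, (b.coord i a) • (c • ((1 : K) ⊗ₜ[k] b i)) := by
    conv_lhs => rw [← b.sum_repr a]
    rw [TensorProduct.tmul_sum]
    refine Finset.sum_congr rfl (fun i _ => ?_)
    rw [TensorProduct.tmul_smul, TensorProduct.smul_tmul']
    change _ = (b.repr a) i • c • ((1 : K) ⊗ₜ[k] b i)
    rw [TensorProduct.smul_tmul' c, smul_eq_mul, mul_one, TensorProduct.smul_tmul']
  rw [h2, map_sum]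
  refine Finset.sum_congr rfl (fun i _ => ?_)
  rw [LinearMap.map_smul_of_tower, map_smul, smul_eq_mul]
  rw [Algebra.smul_def, Algebra.smul_def]
  ring


set_option maxHeartbeats 100000 in
theorem fuD [Algebra.Etale k (CartDual.D k A)] :
    Algebra.FormallyUnramified K (CartDual.D K (K ⊗[k] A)) := by
  have h1 : Algebra.FormallyUnramified K (K ⊗[k] CartDual.D k A) := inferInstance
  exact @Algebra.FormallyUnramified.of_surjective K _ (K ⊗[k] CartDual.D k A)
    (CartDual.D K (K ⊗[k] A)) _ _ _ _ h1 (Phi k A K) (Phi_surjective k A K)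

theorem isReduced_dual_baseChange [Algebra.Etale k (CartDual.D k A)] :
    IsReduced (CartDual.D K (K ⊗[k] A)) := by
  haveI := fuD k A K
  exact Algebra.FormallyUnramified.isReduced_of_field K _

end B

section A
variable (p : ℕ) [Fact p.Prime] (K : Type u) [Field K] [IsAlgClosed K] [CharP K p]
  (B : Type u) [CommRing B] [HopfAlgebra K B] [Coalgebra.IsCocomm K B]
  [Module.Finite K B] [Algebra.Etale K B]

theorem not_isReduced_dual (hp : p ∣ Module.finrank K B) : ¬ IsReduced (CartDual.D K B) := by
  classical
  intro hred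
  have hli := linearIndependent_algHom_toLinearMap K B K
  have hsp := span_algHom_eq_top K B
  let b : Module.Basis (B →ₐ[K] K) K (B →ₗ[K] K) := Module.Basis.mk hli hsp.ge
  haveI : Finite (B →ₐ[K] K) := Module.Finite.finite_basis b
  haveI := Fintype.ofFinite (B →ₐ[K] K)
  have hcard : Nat.card (WithConv (B →ₐ[K] K)) = Module.finrank K B := by
    rw [Nat.card_congr (WithConv.equiv (B →ₐ[K] K)), ← Module.finrank_eq_nat_card_basis b]
    exact Subspace.dual_finrank_eq
  haveI : Finite (WithConv (B →ₐ[K] K)) := Finite.of_equiv _ (WithConv.equiv (B →ₐ[K] K)).symm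
  obtain ⟨γ, hγ⟩ := exists_prime_orderOf_dvd_card' p (hcard ▸ hp)
  have h1 : γ ^ p = 1 := by rw [← hγ]; exact pow_orderOf_eq_one γ
  have h2 : (toConv γ.ofConv.toLinearMap : CartDual.D K B) ^ p = 1 := by
    have := AlgHom.toLinearMap_convPow γ p
    rw [h1] at this
    rw [← this]
    rfl
  haveI : Nontrivial (CartDual.D K B) := by
    refine nontrivial_of_ne (1 : CartDual.D K B) 0 (fun h => ?_)
    have := congrArg (fun φ : CartDual.D K B => φ 1) h
    simp at this
  haveI : CharP (CartDual.D K B) p :=
    charP_of_injective_algebraMap (algebraMap K (CartDual.D K B)).injective p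
  have h3 : ((toConv γ.ofConv.toLinearMap : CartDual.D K B) - 1) ^ p = 0 := by
    rw [sub_pow_char, h2, one_pow, sub_self]
  have h4 : (toConv γ.ofConv.toLinearMap : CartDual.D K B) - 1 = 0 := IsNilpotent.eq_zero ⟨p, h3⟩
  have h5 : γ = 1 := by
    apply WithConv.ofConv_injective
    apply AlgHom.toLinearMap_injective
    have h6 := sub_eq_zero.mp h4
    have h7 := congrArg WithConv.ofConv h6
    exact h7
  rw [h5, orderOf_one] at hγ
  exact (Fact.out : p.Prime).ne_one hγ.symm

end A

theorem finrank_dual (k : Type u) [Field k] (A : Type u) [CommRing A] [HopfAlgebra k A]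
    [FiniteDimensional k A] : Module.finrank k (CartDual.D k A) = Module.finrank k A := by
  rw [(CartDual.toDual k A).finrank_eq]
  exact Subspace.dual_finrank_eq

/-- Let k be a field of characteristic p > 0 and A a finite-dimensional commutative and cocommutative
Hopf algebra over k, the coordinate ring of a finite commutative k-group scheme G, with Cartier dual
the convolution Hopf algebra Hom_k(A, k). Then G is étale-étale, i.e. both A and its dual are étale
k-algebras, if and only if p does not divide the rank dim_k A of G. -/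
theorem result (k : Type u) [Field k] (p : ℕ) [Fact p.Prime] [CharP k p]
    (A : Type u) [CommRing A] [HopfAlgebra k A] [Coalgebra.IsCocomm k A] [FiniteDimensional k A] :
    (Algebra.Etale k A ∧ Algebra.Etale k (CartDual.D k A)) ↔ ¬ p ∣ Module.finrank k A := by
  constructor
  · rintro ⟨hA, hD⟩ hp
    let K := AlgebraicClosure k
    haveI : CharP K p := charP_of_injective_algebraMap (algebraMap k K).injective p
    have hB : p ∣ Module.finrank K (K ⊗[k] A) := by rw [Module.finrank_baseChange]; exact hp
    exact not_isReduced_dual p K (K ⊗[k] A) hB (isReduced_dual_baseChange k A K)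
  · intro hp
    have h0 : (Module.finrank k A : k) ≠ 0 := by
      rw [Ne, CharP.cast_eq_zero_iff k p]
      exact hp
    refine ⟨Groth.Agent.H1.FinHopf.etale_of_finrank_ne_zero k A h0, ?_⟩
    apply Groth.Agent.H1.FinHopf.etale_of_finrank_ne_zero k (CartDual.D k A)
    rw [finrank_dual]
    exact h0

end Groth.Agent.S16674
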