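import Groth.Statements.S16676
import Groth.Agent.H40.KerSquare
import Mathlib.AlgebraicGeometry.Morphisms.QuasiFinite
import Mathlib.AlgebraicGeometry.Morphisms.UniversallyInjective
import Mathlib.Topology.Separation.Connected

set_option autoImplicit false
universe u
open CategoryTheory CategoryTheory.Limits MonoidalCategory CartesianMonoidalCategory MonObj GrpObj AlgebraicGeometry
open AbVar

namespace Groth.Agent.S16676

open Topology in
/-- a morphism with a surjective section is universally injective -/
theorem universallyInjective_of_surjective_section {X Y : Scheme.{u}} (f : X ⟶ Y) (e : Y ⟶ X)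
    (he : e ≫ f = 𝟙 Y) [Surjective e] : UniversallyInjective f := by
  refine ⟨?_⟩
  intro X' Y' i₁ i₂ f' hpb
  have hc : 𝟙 Y' ≫ i₂ = (i₂ ≫ e) ≫ f := by rw [Category.assoc, he, Category.id_comp, Category.comp_id]
  have h1 : hpb.lift (𝟙 Y') (i₂ ≫ e) hc ≫ f' = 𝟙 Y' := hpb.lift_fst _ _ _
  have h2 : hpb.lift (𝟙 Y') (i₂ ≫ e) hc ≫ i₁ = i₂ ≫ e := hpb.lift_snd _ _ _
  have hbig : IsPullback (hpb.lift (𝟙 Y') (i₂ ≫ e) hc ≫ f') i₂ i₂ (e ≫ f) := by
    rw [h1, he]
    exact IsPullback.of_horiz_isIso ⟨by simp⟩
  have hleft : IsPullback (hpb.lift (𝟙 Y') (i₂ ≫ e) hc) i₂ i₁ e := IsPullback.of_right hbig h2 hpb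
  have hs : Surjective (hpb.lift (𝟙 Y') (i₂ ≫ e) hc) :=
    MorphismProperty.of_isPullback (P := @Surjective) hleft.flip inferInstance
  intro a b hab
  obtain ⟨a₀, rfl⟩ := hs.surj a
  obtain ⟨b₀, rfl⟩ := hs.surj b
  have ha : f' (hpb.lift (𝟙 Y') (i₂ ≫ e) hc a₀) = a₀ := by
    rw [← Scheme.Hom.comp_apply, h1]; rfl
  have hb : f' (hpb.lift (𝟙 Y') (i₂ ≫ e) hc b₀) = b₀ := by
    rw [← Scheme.Hom.comp_apply, h1]; rfl
  rw [ha, hb] at hab
  rw [hab]


/-- The equivalence of its second and third conditions. Let X and Y be abelian varieties over a field k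
(proper, geometrically integral k-group schemes), f : X → Y a homomorphism which is finite, flat and
surjective (an isogeny), and i : N → X the kernel of f (the square formed by i, f, the unit section
of Y and the structure map of N is cartesian). Then f is universally injective (a purely inseparable
morphism) if and only if the scheme N is connected. (The published item also includes the equivalent
condition that the function field of X is purely inseparable over that of Y; that clause is not part
of this statement.) -/
theorem result (k : Type u) [Field k]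
    (X Y : Over (Spec (CommRingCat.of k)))
    [GrpObj X] [IsProper X.hom] [GeometricallyIntegral X.hom]
    [GrpObj Y] [IsProper Y.hom] [GeometricallyIntegral Y.hom]
    (f : X ⟶ Y) [IsMonHom f] [IsFinite f.left] [Flat f.left] [Surjective f.left]
    (N : Over (Spec (CommRingCat.of k))) (i : N ⟶ X) (hN : AlgGrp.IsKernel i f) :
    UniversallyInjective f.left ↔ ConnectedSpace ↥N.left := by
  haveI : QuasiCompact f.left := inferInstance
  have hfin : IsFinite N.hom := Groth.Agent.H40.KerSquare.kernel_of (P := @IsFinite) i f hN inferInstance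
  -- the unit section of the kernel
  have hc : η[X] ≫ f = 𝟙 (𝟙_ _) ≫ η[Y] := by rw [IsMonHom.one_hom, Category.id_comp]
  have he : (hN.lift η[X] (𝟙 _) hc).left ≫ N.hom = 𝟙 _ := Over.w (hN.lift η[X] (𝟙 _) hc)
  haveI : Subsingleton (Spec (CommRingCat.of k)) :=
    inferInstanceAs (Subsingleton (PrimeSpectrum k))
  haveI : Nonempty (Spec (CommRingCat.of k)) :=
    inferInstanceAs (Nonempty (PrimeSpectrum k))
  have hmain : UniversallyInjective N.hom ↔ ConnectedSpace ↥N.left := by
    constructor
    · intro h
      haveI : Subsingleton ↥N.left := (N.hom.injective).subsingleton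
      haveI : Nonempty ↥N.left := ⟨(hN.lift η[X] (𝟙 _) hc).left (Classical.arbitrary (Spec (CommRingCat.of k)))⟩
      exact { toPreconnectedSpace := inferInstance, toNonempty := inferInstance }
    · intro h
      haveI : LocallyQuasiFinite N.hom := inferInstance
      have hd : _root_.IsDiscrete (N.hom ⁻¹' {Classical.arbitrary (Spec (CommRingCat.of k))}) :=
        N.hom.isDiscrete_preimage_singleton _
      have huniv : (N.hom ⁻¹' {Classical.arbitrary (Spec (CommRingCat.of k))}) = Set.univ := by
        ext z
        simp only [Set.mem_preimage, Set.mem_singleton_iff, Set.mem_univ, iff_true]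
        exact Subsingleton.elim _ _
      rw [huniv] at hd
      haveI : DiscreteTopology ↥N.left := by
        have := hd.to_subtype
        exact (Homeomorph.Set.univ ↥N.left).discreteTopology
      haveI : Subsingleton ↥N.left := PreconnectedSpace.trivial_of_discrete
      haveI : Surjective (hN.lift η[X] (𝟙 _) hc).left :=
        ⟨fun z => ⟨Classical.arbitrary (Spec (CommRingCat.of k)), Subsingleton.elim _ _⟩⟩
      exact universallyInjective_of_surjective_section N.hom _ he
  rw [← hmain]
  constructor
  · intro h
    exact Groth.Agent.H40.KerSquare.kernel_of (P := @UniversallyInjective) i f hN h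
  · intro h
    exact Groth.Agent.H40.KerSquare.of_kernel (P := @UniversallyInjective) i f hN h

end Groth.Agent.S16676
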