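import Groth.Statements.S1668
import Mathlib
import Groth.Agent.H25.StalkBC

set_option autoImplicit false
universe u
open CategoryTheory CategoryTheory.Limits AlgebraicGeometry
open Variety

namespace Groth.Agent.S1668

set_option linter.style.haveILetI false
set_option linter.unusedVariables false


/-- Let X be a scheme over k such that X_{k'} is a normal scheme (all local rings integrally closed
domains) for every finite purely inseparable extension k' of k. Then X_K is a normal scheme for
every field extension K of k. -/
theorem result (k : Type u) [Field k] (X : Scheme.{u}) [X.Over (Spec (CommRingCat.of k))]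
    (h : ∀ (k' : Type u) [Field k'] [Algebra k k'] [FiniteDimensional k k'] [IsPurelyInseparable k k'],
      Pi1.IsNormalScheme (Curv2.bc k X k'))
    (K : Type u) [Field K] [Algebra k K] : Pi1.IsNormalScheme (Curv2.bc k X K) := by
  intro x'
  exact Groth.Agent.H25.StalkBC.geomNormalAt_of_stalks k X (Curv2.bcFst k X K x')
    (fun k' _ _ _ _ x'' _ => h k' x'') K x' rfl

end Groth.Agent.S1668
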