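import Groth.Statements.S16685
import Groth.Agent.H1.FinHopf.GrAugHopf
import Groth.Agent.H1.FinHopf.HeightOneGen

set_option autoImplicit false
universe u
open HopfRep

namespace Groth.Agent.S16685

/-- The description of the kernel of Frobenius established in the course of the proof. Let k be a field
of characteristic p > 0 and A a finite-dimensional commutative Hopf algebra over k which is a local
ring, the coordinate ring of a connected finite k-group scheme G; let I be the augmentation ideal
(the kernel of the counit), d = dim_k I/I² the dimension of the tangent space at the identity, and J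
⊆ A the ideal generated by the p-th powers of the elements of I, so that A/J is the coordinate ring
of the kernel G[F] of the relative Frobenius. Then A/J is isomorphic as a k-algebra to k[X_1, …,
X_d]/(X_1^p, …, X_d^p) (existence of an isomorphism; it depends on the choice of elements of I
lifting a basis of I/I²); in particular G[F] has rank p^d. -/
theorem result (k : Type u) [Field k] (p : ℕ) [Fact p.Prime] [CharP k p]
    (A : Type u) [CommRing A] [HopfAlgebra k A] [FiniteDimensional k A] [IsLocalRing A]
    (d : ℕ) (hd : Module.finrank k (RingHom.ker (Bialgebra.counitAlgHom k A).toRingHom).Cotangent = d) :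
    Nonempty ((A ⧸ Ideal.span ((fun a : A => a ^ p) '' (RingHom.ker (Bialgebra.counitAlgHom k A).toRingHom : Set A))) ≃ₐ[k]
      (MvPolynomial (Fin d) k ⧸ Ideal.span (Set.range fun i : Fin d => (MvPolynomial.X i : MvPolynomial (Fin d) k) ^ p))) := by
  classical
  have hp : p.Prime := Fact.out
  have hI : RingHom.ker (Bialgebra.counitAlgHom k A).toRingHom =
      RingHom.ker (Bialgebra.counitAlgHom k A) := rfl
  rw [hI] at hd ⊢
  subst hd
  haveI : Nontrivial A := (Bialgebra.counitAlgHom k A : A →+* k).domain_nontrivial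
  haveI : CharP A p := charP_of_injective_algebraMap (algebraMap k A).injective p
  obtain ⟨x, D, hx, hD, hspan⟩ := Groth.Agent.H1.FinHopf.exists_data_cot (k := k) (A := A)
  set J : Ideal A := Ideal.span ((fun a : A => a ^ p) '' ((RingHom.ker (Bialgebra.counitAlgHom k A)) : Set A)) with hJ
  have hJI : J ≤ (RingHom.ker (Bialgebra.counitAlgHom k A)) := by
    rw [hJ, Ideal.span_le]
    rintro _ ⟨a, ha, rfl⟩
    exact Ideal.pow_mem_of_mem (RingHom.ker (Bialgebra.counitAlgHom k A)) ha p hp.pos
  have hDJ : ∀ (d : Derivation k A A), ∀ a ∈ J, d a ∈ J := by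
    intro d a ha
    refine Submodule.span_induction (p := fun a _ => d a ∈ J) ?_ ?_ ?_ ?_ ha
    · rintro _ ⟨a, _, rfl⟩
      show d (a ^ p) ∈ J
      rw [Derivation.leibniz_pow, nsmul_eq_mul, CharP.cast_eq_zero, zero_mul]
      exact J.zero_mem
    · rw [map_zero]
      exact J.zero_mem
    · intro a b _ _ ha hb
      rw [map_add]
      exact J.add_mem ha hb
    · intro c a ha' hda
      rw [smul_eq_mul, Derivation.leibniz]
      apply J.add_mem
      · rw [smul_eq_mul]
        exact J.mul_mem_left c hda
      · rw [smul_eq_mul]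
        exact J.mul_mem_right _ ha'
  let q : A →ₐ[k] A ⧸ J := Ideal.Quotient.mkₐ k J
  have hq : Function.Surjective q := Ideal.Quotient.mkₐ_surjective k J
  have hq0 : ∀ a, q a = 0 ↔ a ∈ J := fun a => Ideal.Quotient.eq_zero_iff_mem
  let εB : (A ⧸ J) →ₐ[k] k :=
    Ideal.Quotient.liftₐ J (Bialgebra.counitAlgHom k A) (fun a ha => (RingHom.mem_ker).mp (hJI ha))
  have hεB : ∀ a, εB (q a) = (Bialgebra.counitAlgHom k A) a := fun a => rfl
  let DB : Fin (Module.finrank k (RingHom.ker (Bialgebra.counitAlgHom k A)).Cotangent) → Derivation k (A ⧸ J) (A ⧸ J) := fun i =>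
    Derivation.liftOfSurjective hq (d := D i)
      (fun a ha => (hq0 _).mpr (hDJ (D i) a ((hq0 a).mp ha)))
  have hDB : ∀ i a, DB i (q a) = q (D i a) :=
    fun i a => Derivation.liftOfSurjective_apply hq _ a
  haveI : Module.Finite k (A ⧸ J) := Module.Finite.of_surjective q.toLinearMap hq
  have h1B : ∀ b : A ⧸ J, εB b = 0 → b ^ p = 0 := by
    intro b hb
    obtain ⟨a, rfl⟩ := hq b
    rw [hεB] at hb
    rw [← map_pow, hq0]
    exact Ideal.subset_span ⟨a, (RingHom.mem_ker).mpr hb, rfl⟩
  have hDB' : ∀ i j, εB (DB i (q (x j))) = if i = j then 1 else 0 := by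
    intro i j
    rw [hDB, hεB, hD]
  have hspanB : ∀ v, εB v = 0 → ∃ c : Fin (Module.finrank k (RingHom.ker (Bialgebra.counitAlgHom k A)).Cotangent) → k,
      v - ∑ i, c i • q (x i) ∈ (RingHom.ker εB) ^ 2 := by
    intro v hv
    obtain ⟨a, rfl⟩ := hq v
    rw [hεB] at hv
    obtain ⟨c, hc⟩ := hspan a hv
    refine ⟨c, ?_⟩
    have e : q a - ∑ i, c i • q (x i) = q (a - ∑ i, c i • x i) := by
      rw [map_sub, map_sum]
      simp only [map_smul]
    rw [e]
    have hle : Ideal.map q ((RingHom.ker (Bialgebra.counitAlgHom k A)) ^ 2) ≤ (RingHom.ker εB) ^ 2 := by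
      rw [Ideal.map_pow]
      apply Ideal.pow_right_mono
      rw [Ideal.map_le_iff_le_comap]
      intro a ha
      rw [Ideal.mem_comap, RingHom.mem_ker, hεB]
      exact (RingHom.mem_ker).mp ha
    exact hle (Ideal.mem_map_of_mem q hc)
  have hbij := Groth.Agent.H1.FinHopf.height_one_basis_gen p εB h1B (fun i => q (x i)) DB
    hDB' hspanB
  exact Groth.Agent.H1.FinHopf.algEquiv_truncated p _ hp.pos (fun i => q (x i))
    (fun i => h1B _ (by rw [hεB]; exact hx i)) hbij

end Groth.Agent.S16685
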