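import Groth.Statements.S16688
import Groth.Agent.H83.HopfAux

set_option autoImplicit false
universe u v w
open ComodSub

namespace Groth.Agent.S16688

open TensorProduct in
theorem aux (k : Type u) [CommRing k]
    (A : Type v) [CommRing A] [HopfAlgebra k A]
    (M : Type w) [AddCommGroup M] [Module k M] (l : ComodSub.LComod k A M) :
    ∃ c : HopfRep.Comod k A M, c.coact = ComodSub.rcoactOfLeft l := by
  classical
  let S : A →ₗ[k] A := HopfAlgebraStruct.antipode k
  let T : A ⊗[k] M →ₗ[k] M ⊗[k] A := (TensorProduct.comm k A M).toLinearMap ∘ₗ S.rTensor M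
  have hT : ∀ (a : A) (w : M), T (a ⊗ₜ[k] w) = w ⊗ₜ[k] S a := fun a w => rfl
  have hr : ∀ v, ComodSub.rcoactOfLeft l v = T (l.coact v) := fun v => rfl
  have key : ∀ (w : M) (z : A ⊗[k] A),
      TensorProduct.assoc k M A A (TensorProduct.map T S (TensorProduct.comm k A (A ⊗[k] M)
        (TensorProduct.assoc k A A M (z ⊗ₜ[k] w)))) =
      w ⊗ₜ[k] (TensorProduct.map S S (TensorProduct.comm k A A z)) := by
    intro w z
    induction z using TensorProduct.induction_on with
    | zero => simp
    | tmul a b => simp [hT]
    | add x y hx hy => simp only [TensorProduct.tmul_add, TensorProduct.add_tmul, map_add, hx, hy]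
  have h1 : ∀ x : A ⊗[k] M, (ComodSub.rcoactOfLeft l).rTensor A (T x) =
      TensorProduct.map T S (TensorProduct.comm k A (A ⊗[k] M) (l.coact.lTensor A x)) := by
    intro x
    induction x using TensorProduct.induction_on with
    | zero => simp
    | tmul a w => simp [hT, hr]
    | add x y hx hy => simp only [map_add, hx, hy]
  have h2 : ∀ x : A ⊗[k] M,
      TensorProduct.assoc k M A A (TensorProduct.map T S (TensorProduct.comm k A (A ⊗[k] M)
        (TensorProduct.assoc k A A M ((CoalgebraStruct.comul (R := k) (A := A)).rTensor M x)))) =
      (CoalgebraStruct.comul (R := k) (A := A)).lTensor M (T x) := by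
    intro x
    induction x using TensorProduct.induction_on with
    | zero => simp
    | tmul a w =>
      rw [LinearMap.rTensor_tmul, key, hT, LinearMap.lTensor_tmul]
      congr 1
      exact (Groth.Agent.H83.comul_antipode k A a).symm
    | add x y hx hy => simp only [map_add, hx, hy]
  refine ⟨{ coact := ComodSub.rcoactOfLeft l, coassoc := ?_, counit_comp := ?_ }, rfl⟩
  · apply LinearMap.ext
    intro v
    simp only [LinearMap.comp_apply, LinearEquiv.coe_coe]
    rw [hr v, h1, ← h2]
    have hc := LinearMap.congr_fun l.coassoc v
    simp only [LinearMap.comp_apply, LinearEquiv.coe_coe] at hc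
    rw [← hc]
  · apply LinearMap.ext
    intro v
    simp only [LinearMap.comp_apply]
    have h3 : ∀ x : A ⊗[k] M, (CoalgebraStruct.counit (R := k) (A := A)).lTensor M (T x) =
        TensorProduct.comm k k M ((CoalgebraStruct.counit (R := k) (A := A)).rTensor M x) := by
      intro x
      induction x using TensorProduct.induction_on with
      | zero => simp
      | tmul a w => simp [hT, S]
      | add x y hx hy => simp only [map_add, hx, hy]
    rw [hr v, h3]
    have hc := LinearMap.congr_fun l.counit_comp v
    simp only [LinearMap.comp_apply] at hc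
    rw [hc]
    simp


/-- Let `k` be a commutative ring, `A` a commutative Hopf algebra over `k` with antipode `S`, and `M` a
`k`-module with a left `A`-comodule structure `m ↦ Σ m₋₁ ⊗ m₀`. Then the map `M → M ⊗ A`, `m ↦ Σ m₀
⊗ S(m₋₁)`, is coassociative and counital: it is the coaction of a right `A`-comodule structure on
`M` (a right structure is determined by its coaction, so this structure is unique). -/
theorem result (k : Type u) [CommRing k]
    (A : Type v) [CommRing A] [HopfAlgebra k A]
    (M : Type w) [AddCommGroup M] [Module k M] (l : ComodSub.LComod k A M) :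
    ∃ c : HopfRep.Comod k A M, c.coact = ComodSub.rcoactOfLeft l := by
  exact aux k A M l

end Groth.Agent.S16688
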