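import Groth.Statements.S16689
import Groth.Agent.H83.HopfAux

set_option autoImplicit false
universe u v w
open ComodSub

namespace Groth.Agent.S16689

open TensorProduct in
theorem aux (k : Type u) [CommRing k]
    (A : Type v) [CommRing A] [HopfAlgebra k A]
    (M : Type w) [AddCommGroup M] [Module k M] (c : HopfRep.Comod k A M) :
    ∃ l : ComodSub.LComod k A M, l.coact = ComodSub.lcoactOfRight c := by
  classical
  let S : A →ₗ[k] A := HopfAlgebraStruct.antipode k
  let T : M ⊗[k] A →ₗ[k] A ⊗[k] M := (TensorProduct.comm k M A).toLinearMap ∘ₗ S.lTensor M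
  have hT : ∀ (w : M) (a : A), T (w ⊗ₜ[k] a) = S a ⊗ₜ[k] w := fun w a => rfl
  have hlam : ∀ v, ComodSub.lcoactOfRight c v = T (c.coact v) := fun v => rfl
  -- key identity on `M ⊗ (A ⊗ A)`
  have key : ∀ (w : M) (z : A ⊗[k] A),
      TensorProduct.map S T (TensorProduct.comm k (M ⊗[k] A) A
        ((TensorProduct.assoc k M A A).symm (w ⊗ₜ[k] z))) =
      TensorProduct.assoc k A A M ((TensorProduct.map S S (TensorProduct.comm k A A z)) ⊗ₜ[k] w) := by
    intro w z
    induction z using TensorProduct.induction_on with
    | zero => simp
    | tmul a b => simp [hT]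
    | add x y hx hy => simp only [TensorProduct.tmul_add, TensorProduct.add_tmul, map_add, hx, hy]
  have h1 : ∀ x : M ⊗[k] A, (ComodSub.lcoactOfRight c).lTensor A (T x) =
      TensorProduct.map S T (TensorProduct.comm k (M ⊗[k] A) A (c.coact.rTensor A x)) := by
    intro x
    induction x using TensorProduct.induction_on with
    | zero => simp
    | tmul w a => simp [hT, hlam]
    | add x y hx hy => simp only [map_add, hx, hy]
  have h2 : ∀ x : M ⊗[k] A,
      TensorProduct.map S T (TensorProduct.comm k (M ⊗[k] A) A
        ((TensorProduct.assoc k M A A).symm ((CoalgebraStruct.comul (R := k) (A := A)).lTensor M x))) =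
      TensorProduct.assoc k A A M ((CoalgebraStruct.comul (R := k) (A := A)).rTensor M (T x)) := by
    intro x
    induction x using TensorProduct.induction_on with
    | zero => simp
    | tmul w a =>
      rw [LinearMap.lTensor_tmul, key, hT, LinearMap.rTensor_tmul]
      congr 2
      exact (Groth.Agent.H83.comul_antipode k A a).symm
    | add x y hx hy => simp only [map_add, hx, hy]
  refine ⟨{ coact := ComodSub.lcoactOfRight c, coassoc := ?_, counit_comp := ?_ }, rfl⟩
  · apply LinearMap.ext
    intro v
    simp only [LinearMap.comp_apply, LinearEquiv.coe_coe]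
    rw [hlam v, h1, ← h2]
    have hc := LinearMap.congr_fun c.coassoc v
    simp only [LinearMap.comp_apply, LinearEquiv.coe_coe] at hc
    rw [← hc, LinearEquiv.symm_apply_apply]
  · apply LinearMap.ext
    intro v
    simp only [LinearMap.comp_apply]
    have h3 : ∀ x : M ⊗[k] A, (CoalgebraStruct.counit (R := k) (A := A)).rTensor M (T x) =
        TensorProduct.comm k M k ((CoalgebraStruct.counit (R := k) (A := A)).lTensor M x) := by
      intro x
      induction x using TensorProduct.induction_on with
      | zero => simp
      | tmul w a => simp [hT, S]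
      | add x y hx hy => simp only [map_add, hx, hy]
    rw [hlam v, h3]
    have hc := LinearMap.congr_fun c.counit_comp v
    simp only [LinearMap.comp_apply] at hc
    rw [hc]
    simp


/-- Let `k` be a commutative ring, `A` a commutative Hopf algebra over `k` with antipode `S`, and `M` a
`k`-module with a right `A`-comodule structure `m ↦ Σ m₀ ⊗ m₁`. Then the map `M → A ⊗ M`, `m ↦ Σ
S(m₁) ⊗ m₀`, is coassociative and counital: it is the coaction of a left `A`-comodule structure on
`M` (a left structure is determined by its coaction, so this structure is unique). -/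
theorem result (k : Type u) [CommRing k]
    (A : Type v) [CommRing A] [HopfAlgebra k A]
    (M : Type w) [AddCommGroup M] [Module k M] (c : HopfRep.Comod k A M) :
    ∃ l : ComodSub.LComod k A M, l.coact = ComodSub.lcoactOfRight c := by
  exact aux k A M c

end Groth.Agent.S16689
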