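import Groth.Statements.S7606
import Groth.Agent.H63.GeomRegAt
import Groth.Agent.H63.GeomRegKey

set_option autoImplicit false
universe u
open CategoryTheory CategoryTheory.Limits AlgebraicGeometry
attribute [local instance] Curv2.stalkAlgebra
open Variety

namespace Groth.Agent.S7606

/-- Let X be a locally Noetherian scheme over a field k and x a point of X. These conditions are
equivalent: (1) the scheme X is geometrically regular at x; (2) whenever k'/k is finite and purely
inseparable, the local ring O_{X_{k'}, x'} is regular at each point x' of X_{k'} lying over x; (3)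
the local ring O_{X, x} is geometrically regular over k (k' ⊗_k O_{X, x} is a regular ring for every
finite extension k' of k). Stated as (1) ↔ (2) together with (2) ↔ (3). -/
theorem result (k : Type u) [Field k] (X : Scheme.{u}) [X.Over (Spec (CommRingCat.of k))] [IsLocallyNoetherian X] (x : ↥X) :
    (Curv2.IsGeomRegularAt k X x ↔
      ∀ (k' : Type u) [Field k'] [Algebra k k'] [FiniteDimensional k k'] [IsPurelyInseparable k k'] (x' : ↥(Curv2.bc k X k')),
        Curv2.bcFst k X k' x' = x → IsRegularLocalRing ↥((Curv2.bc k X k').presheaf.stalk x')) ∧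
    ((∀ (k' : Type u) [Field k'] [Algebra k k'] [FiniteDimensional k k'] [IsPurelyInseparable k k'] (x' : ↥(Curv2.bc k X k')),
        Curv2.bcFst k X k' x' = x → IsRegularLocalRing ↥((Curv2.bc k X k').presheaf.stalk x')) ↔
      CAlg.IsGeometricallyRegular k ↥(X.presheaf.stalk x)) := by
  haveI hN : IsNoetherianRing (X.presheaf.stalk x) := inferInstance
  -- (2) ⇒ (3)
  have h23 : (∀ (k' : Type u) [Field k'] [Algebra k k'] [FiniteDimensional k k']
      [IsPurelyInseparable k k'] (x' : ↥(Curv2.bc k X k')),
        Curv2.bcFst k X k' x' = x → IsRegularLocalRing ↥((Curv2.bc k X k').presheaf.stalk x')) →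
      CAlg.IsGeometricallyRegular k ↥(X.presheaf.stalk x) := by
    intro h
    refine Groth.Agent.H63.GeomRegKey.isGeometricallyRegular_of_purelyInseparable k
      (X.presheaf.stalk x) ?_
    intro k' _ _ hfin hpi
    haveI := hfin
    haveI := hpi
    exact Groth.Agent.H63.GeomRegAt.isRegularRing_tensor_of_stalk_purelyInseparable k X x k'
      (fun x' hx' => h k' x' hx')
  -- (3) ⇒ (1)
  have h31 : CAlg.IsGeometricallyRegular k ↥(X.presheaf.stalk x) → Curv2.IsGeomRegularAt k X x := by
    intro h K _ _ hfg x' hx'
    haveI : Algebra.EssFiniteType k K := IntermediateField.fg_top_iff.mp hfg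
    exact Groth.Agent.H63.GeomRegAt.isRegularLocalRing_stalk_of_isRegularRing_tensor k X x K x' hx'
      (Groth.Agent.H63.GeomRegKey.isRegularRing_tensor_of_isGeometricallyRegular k
        (X.presheaf.stalk x) h K)
  -- (1) ⇒ (2)
  have h12 : Curv2.IsGeomRegularAt k X x →
      ∀ (k' : Type u) [Field k'] [Algebra k k'] [FiniteDimensional k k']
      [IsPurelyInseparable k k'] (x' : ↥(Curv2.bc k X k')),
        Curv2.bcFst k X k' x' = x → IsRegularLocalRing ↥((Curv2.bc k X k').presheaf.stalk x') := by
    intro h k' _ _ _ _ x' hx'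
    exact h k' (IntermediateField.fg_top k k') x' hx'
  refine ⟨⟨h12, fun h => h31 (h23 h)⟩, ⟨h23, fun h => h12 (h31 h)⟩⟩

end Groth.Agent.S7606
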