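import Groth.Statements.S16690
import Mathlib

set_option autoImplicit false
universe u v w
open ComodSub

namespace Groth.Agent.S16690

open TensorProduct

section K1
variable {k : Type u} [CommRing k]

theorem natS {M M' : Type*} {B : Type*} [AddCommGroup M] [Module k M] [AddCommGroup M']
    [Module k M'] [AddCommGroup B] [Module k B] (u : M' →ₗ[k] M) :
    dualTensorHom k M' B ∘ₗ (u.lcomp k k).rTensor B = u.lcomp k B ∘ₗ dualTensorHom k M B := by
  ext; simp

theorem dTH_bijective (M : Type*) (B : Type*) [AddCommGroup M] [Module k M] [AddCommGroup B]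
    [Module k B] [Module.FinitePresentation k M] [Module.Flat k B] :
    Function.Bijective (dualTensorHom k M B) := by
  obtain ⟨n, m, f, g, hf, hfg⟩ := Module.FinitePresentation.exists_fin' k M
  have hex : Function.Exact (f.lcomp k k) (g.lcomp k k) :=
    LinearMap.exact_lcomp_of_exact_of_surjective k hfg hf
  have hinj : Function.Injective (f.lcomp k k) := LinearMap.lcomp_injective_of_surjective f hf
  have hexB : Function.Exact ((f.lcomp k k).rTensor B) ((g.lcomp k k).rTensor B) :=
    Module.Flat.rTensor_exact B hex
  have hinjB : Function.Injective ((f.lcomp k k).rTensor B) :=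
    Module.Flat.rTensor_preserves_injective_linearMap _ hinj
  have hexH : Function.Exact (f.lcomp k B) (g.lcomp k B) :=
    LinearMap.exact_lcomp_of_exact_of_surjective B hfg hf
  have hinjH : Function.Injective (f.lcomp k B) := LinearMap.lcomp_injective_of_surjective f hf
  have hn : Function.Bijective (dualTensorHom k (Fin n → k) B) := dualTensorHom_bijective
  have hm : Function.Bijective (dualTensorHom k (Fin m → k) B) := dualTensorHom_bijective
  have nf : ∀ ξ, dualTensorHom k (Fin n → k) B ((f.lcomp k k).rTensor B ξ) =
      f.lcomp k B (dualTensorHom k M B ξ) := fun ξ => LinearMap.congr_fun (natS f) ξ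
  have ng : ∀ ξ, dualTensorHom k (Fin m → k) B ((g.lcomp k k).rTensor B ξ) =
      g.lcomp k B (dualTensorHom k (Fin n → k) B ξ) := fun ξ => LinearMap.congr_fun (natS g) ξ
  constructor
  · rw [injective_iff_map_eq_zero]
    intro ξ hξ
    apply hinjB
    apply hn.1
    rw [nf, hξ, map_zero, map_zero, map_zero]
  · intro h
    obtain ⟨η, hη⟩ := hn.2 (f.lcomp k B h)
    have h0 : (g.lcomp k k).rTensor B η = 0 := by
      apply hm.1
      rw [ng, hη, map_zero]
      exact (hexH _).mpr ⟨h, rfl⟩
    obtain ⟨ξ, hξ⟩ := (hexB η).mp h0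
    refine ⟨ξ, hinjH ?_⟩
    rw [← nf, hξ, hη]

variable (M : Type w) [AddCommGroup M] [Module k M]

/-- `b ⊗ φ ↦ (m ↦ φ m • b)` -/
noncomputable def Th (B : Type*) [AddCommGroup B] [Module k B] :
    B ⊗[k] Module.Dual k M →ₗ[k] (M →ₗ[k] B) :=
  dualTensorHom k M B ∘ₗ (TensorProduct.comm k B (Module.Dual k M)).toLinearMap

theorem Th_tmul {B : Type*} [AddCommGroup B] [Module k B] (b : B) (φ : Module.Dual k M) (m : M) :
    Th M B (b ⊗ₜ φ) m = φ m • b := rfl

theorem Th_injective (B : Type*) [AddCommGroup B] [Module k B] [Module.FinitePresentation k M]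
    [Module.Flat k B] : Function.Injective (Th (k := k) M B) := by
  intro x y hxy
  apply (TensorProduct.comm k B (Module.Dual k M)).injective
  exact (dTH_bijective M B).1 hxy

theorem Th_nat {B B' : Type*} [AddCommGroup B] [Module k B] [AddCommGroup B'] [Module k B']
    (lam : B →ₗ[k] B') (ζ : B ⊗[k] Module.Dual k M) :
    Th M B' (lam.rTensor (Module.Dual k M) ζ) = lam ∘ₗ Th M B ζ := by
  induction ζ using TensorProduct.induction_on with
  | zero => simp
  | tmul b φ =>
    ext m
    rw [LinearMap.rTensor_tmul, Th_tmul, LinearMap.comp_apply, Th_tmul, map_smul]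
  | add x y hx hy => rw [map_add, map_add, hx, hy, map_add, LinearMap.comp_add]

end K1

section main
variable {k : Type u} [CommRing k]
    {A : Type v} [AddCommGroup A] [Module k A] [Coalgebra k A]
    {M : Type w} [AddCommGroup M] [Module k M]

theorem Th_assoc (a : A) (η : A ⊗[k] Module.Dual k M) (m : M) :
    Th M (A ⊗[k] A) ((TensorProduct.assoc k A A (Module.Dual k M)).symm (a ⊗ₜ η)) m =
      a ⊗ₜ (Th M A η m) := by
  induction η using TensorProduct.induction_on with
  | zero => simp
  | tmul b χ => rw [TensorProduct.assoc_symm_tmul, Th_tmul, Th_tmul, TensorProduct.tmul_smul]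
  | add x y hx hy =>
    rw [TensorProduct.tmul_add, map_add, map_add, LinearMap.add_apply, hx, hy, map_add,
      LinearMap.add_apply, TensorProduct.tmul_add]

theorem I3a (a : A) (φ : Module.Dual k M) (t : M ⊗[k] A) :
    a ⊗ₜ[k] (TensorProduct.lid k A (φ.rTensor A t)) = (Th M A (a ⊗ₜ φ)).rTensor A t := by
  induction t using TensorProduct.induction_on with
  | zero => simp
  | tmul m₀ a₁ =>
    rw [LinearMap.rTensor_tmul, TensorProduct.lid_tmul, LinearMap.rTensor_tmul, Th_tmul,
      TensorProduct.tmul_smul, TensorProduct.smul_tmul']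
  | add x y hx hy => rw [map_add, map_add, TensorProduct.tmul_add, hx, hy, map_add]

theorem I3 (c : HopfRep.Comod k A M) (coact : Module.Dual k M →ₗ[k] A ⊗[k] Module.Dual k M)
    (hco : ∀ φ, Th M A (coact φ) = ComodSub.ldualFun c φ) (ζ : A ⊗[k] Module.Dual k M) (m : M) :
    Th M (A ⊗[k] A) ((TensorProduct.assoc k A A (Module.Dual k M)).symm (coact.lTensor A ζ)) m =
      (Th M A ζ).rTensor A (c.coact m) := by
  induction ζ using TensorProduct.induction_on with
  | zero => simp
  | tmul a φ => rw [LinearMap.lTensor_tmul, Th_assoc, hco, ComodSub.ldualFun_apply, I3a]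
  | add x y hx hy =>
    rw [map_add, map_add, map_add, LinearMap.add_apply, hx, hy, map_add, LinearMap.rTensor_add,
      LinearMap.add_apply]

theorem I6 (g : Module.Dual k M) (m₀ : M) (u : A ⊗[k] A) :
    (TensorProduct.lid k A).toLinearMap.rTensor A ((g.rTensor A).rTensor A
      ((TensorProduct.assoc k M A A).symm (m₀ ⊗ₜ u))) = g m₀ • u := by
  induction u using TensorProduct.induction_on with
  | zero => simp
  | tmul a₁ a₂ =>
    rw [TensorProduct.assoc_symm_tmul, LinearMap.rTensor_tmul, LinearMap.rTensor_tmul,
      LinearMap.rTensor_tmul, LinearEquiv.coe_coe, TensorProduct.lid_tmul,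
      TensorProduct.smul_tmul']
  | add x y hx hy => rw [TensorProduct.tmul_add, map_add, map_add, map_add, hx, hy, smul_add]

theorem I5 (g : Module.Dual k M) (t : M ⊗[k] A) :
    (TensorProduct.lid k A).toLinearMap.rTensor A ((g.rTensor A).rTensor A
      ((TensorProduct.assoc k M A A).symm
        ((CoalgebraStruct.comul (R := k) (A := A)).lTensor M t))) =
      CoalgebraStruct.comul (R := k) (A := A) (TensorProduct.lid k A (g.rTensor A t)) := by
  induction t using TensorProduct.induction_on with
  | zero => simp
  | tmul m₀ a =>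
    rw [LinearMap.lTensor_tmul, I6, LinearMap.rTensor_tmul, TensorProduct.lid_tmul, map_smul]
  | add x y hx hy => simp only [map_add, hx, hy]

theorem I4 (c : HopfRep.Comod k A M) (g : Module.Dual k M) (m : M) :
    (ComodSub.ldualFun c g).rTensor A (c.coact m) =
      CoalgebraStruct.comul (R := k) (A := A) (ComodSub.ldualFun c g m) := by
  have h1 : (TensorProduct.assoc k M A A) (c.coact.rTensor A (c.coact m)) =
      (CoalgebraStruct.comul (R := k) (A := A)).lTensor M (c.coact m) :=
    LinearMap.congr_fun c.coassoc m
  have h2 : c.coact.rTensor A (c.coact m) = (TensorProduct.assoc k M A A).symm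
      ((CoalgebraStruct.comul (R := k) (A := A)).lTensor M (c.coact m)) := by
    rw [← h1, LinearEquiv.symm_apply_apply]
  have h3 : ComodSub.ldualFun c g =
      (TensorProduct.lid k A).toLinearMap ∘ₗ g.rTensor A ∘ₗ c.coact := rfl
  rw [h3, LinearMap.rTensor_comp, LinearMap.rTensor_comp, LinearMap.comp_apply,
    LinearMap.comp_apply, h2, I5]
  rfl

theorem C1 (g : Module.Dual k M) (t : M ⊗[k] A) :
    CoalgebraStruct.counit (R := k) (A := A) (TensorProduct.lid k A (g.rTensor A t)) =
      g (TensorProduct.rid k M ((CoalgebraStruct.counit (R := k) (A := A)).lTensor M t)) := by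
  induction t using TensorProduct.induction_on with
  | zero => simp
  | tmul m₀ a =>
    rw [LinearMap.rTensor_tmul, TensorProduct.lid_tmul, map_smul, LinearMap.lTensor_tmul,
      TensorProduct.rid_tmul, map_smul, smul_eq_mul, smul_eq_mul, mul_comm]
  | add x y hx hy => simp only [map_add, hx, hy]

/-- `g ↦ ldualFun c g` as a linear map -/
noncomputable def Lmap (c : HopfRep.Comod k A M) : Module.Dual k M →ₗ[k] (M →ₗ[k] A) where
  toFun g := ComodSub.ldualFun c g
  map_add' g h := by
    ext m
    simp only [ComodSub.ldualFun_apply, LinearMap.rTensor_add, LinearMap.add_apply, map_add]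
  map_smul' r g := by
    ext m
    simp only [ComodSub.ldualFun_apply, LinearMap.rTensor_smul, LinearMap.smul_apply, map_smul,
      RingHom.id_apply]

end main


/-- Let `k` be a commutative ring, `A` a `k`-coalgebra that is flat over `k`, and `M` a finitely
presented `k`-module with a right `A`-comodule structure `m ↦ Σ m₀ ⊗ m₁`. Then the dual module `M^*
= Hom(M, k)` carries a left `A`-comodule structure whose coaction sends a form `g` to the element of
`A ⊗ M^*` that reads, through `a ⊗ φ ↦ (m ↦ φ(m) a)`, as the map `m ↦ Σ g(m₀) m₁` (the left dual of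
the given structure). (The published statement takes coalgebras to be commutative algebras whose
comultiplication and counit are algebra maps; the construction uses no multiplication on `A`, so
here `A` is any flat coalgebra.) -/
theorem result (k : Type u) [CommRing k]
    (A : Type v) [AddCommGroup A] [Module k A] [Coalgebra k A] [Module.Flat k A]
    (M : Type w) [AddCommGroup M] [Module k M] [Module.FinitePresentation k M]
    (c : HopfRep.Comod k A M) :
    ∃ l : ComodSub.LComod k A (Module.Dual k M), ComodSub.LComod.IsLDual c l := by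
  classical
  have hbij := dTH_bijective (k := k) M A
  let E : (Module.Dual k M ⊗[k] A) ≃ₗ[k] (M →ₗ[k] A) :=
    LinearEquiv.ofBijective (dualTensorHom k M A) hbij
  let coact : Module.Dual k M →ₗ[k] A ⊗[k] Module.Dual k M :=
    (TensorProduct.comm k (Module.Dual k M) A).toLinearMap ∘ₗ E.symm.toLinearMap ∘ₗ Lmap c
  have hco : ∀ φ, Th M A (coact φ) = ComodSub.ldualFun c φ := by
    intro φ
    show dualTensorHom k M A (TensorProduct.comm k A (Module.Dual k M)
      (TensorProduct.comm k (Module.Dual k M) A (E.symm (Lmap c φ)))) = _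
    rw [TensorProduct.comm_comm]
    exact E.apply_symm_apply (Lmap c φ)
  refine ⟨{ coact := coact, coassoc := ?_, counit_comp := ?_ }, ?_⟩
  · apply LinearMap.ext
    intro g
    apply (TensorProduct.assoc k A A (Module.Dual k M)).symm.injective
    apply Th_injective M (A ⊗[k] A)
    apply LinearMap.ext
    intro m
    simp only [LinearMap.comp_apply, LinearEquiv.coe_coe, LinearEquiv.symm_apply_apply]
    rw [I3 c coact hco, hco, Th_nat, hco, LinearMap.comp_apply, I4]
  · apply LinearMap.ext
    intro g
    apply Th_injective M k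
    apply LinearMap.ext
    intro m
    rw [LinearMap.comp_apply, Th_nat, hco, LinearMap.comp_apply, ComodSub.ldualFun_apply, C1]
    have h1 : (CoalgebraStruct.counit (R := k) (A := A)).lTensor M (c.coact m) = m ⊗ₜ (1 : k) :=
      LinearMap.congr_fun c.counit_comp m
    rw [h1, TensorProduct.rid_tmul, one_smul]
    show g m = Th M k ((1 : k) ⊗ₜ g) m
    rw [Th_tmul, smul_eq_mul, mul_one]
  · exact hco

end Groth.Agent.S16690
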