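import Groth.Statements.S16697
import Groth.Agent.H32.Cover
import Groth.Agent.H32.StQC
import Groth.Agent.H32.StTop
import Groth.Agent.H32.DiagApps
import Groth.Agent.S10267
import Groth.Agent.S10271
-- import your own Groth.Agent.* helpers here

set_option autoImplicit false
universe u
open AlgSt AlgSt.IsWellNighAffine

namespace Groth.Agent.S16697

section aux
open CategoryTheory CategoryTheory.Limits AlgebraicGeometry Opposite
open FibCat Stk Groth.Agent.H32.FibProd Groth.Agent.H32.Fp2 Groth.Agent.H32.Fp3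
  Groth.Agent.H32.Fp4 Groth.Agent.H32.SpBridge Groth.Agent.H32.PFacts
  Groth.Agent.H32.AlgStackEquiv Groth.Agent.H32.AtlasRep Groth.Agent.H32.SpComp
  Groth.Agent.H32.StackOps Groth.Agent.H32.Magic Groth.Agent.H32.Sect Groth.Agent.H32.Repr
  Groth.Agent.H32.SectSt Groth.Agent.H32.DiagRep Groth.Agent.H32.GoodMore
  Groth.Agent.H32.AtlasCover Groth.Agent.H32.DiagApps Groth.Agent.H32.DiagDescent
  Groth.Agent.H32.Prod Groth.Agent.H32.Cover Groth.Agent.H32.StTop Groth.Agent.H32.StQC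
  Groth.Agent.H32.StPoints

variable {S : Scheme.{u}}

/-- `with_imp` for implications between properties of morphisms of algebraic spaces. -/
theorem with_imp' {Q Q' : MorphismProperty (AlgSp.Sp S)}
    (himp : ∀ ⦃X Y : AlgSp.Space S⦄ (a : X ⟶ Y), Q a.hom → Q' a.hom) {𝒳 𝒴 : AlgSt.Cat S}
    {f : 𝒳 ⥤ᵇ 𝒴} (hf : AlgSt.RepByAlgSpWith Q f) : AlgSt.RepByAlgSpWith Q' f := fun U y => by
  obtain ⟨F, e, he, h⟩ := hf U y
  exact ⟨F, e, he, himp (X := F) (Y := ⟨(AlgSp.yon S).obj U, AlgSp.IsAlgSpace.yon_obj U⟩)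
    (ObjectProperty.homMk (AlgSt.spMapOfOver (BasedFunctor.comp e (fpFst y f)))) h⟩

theorem lqf_of_isFiniteMor ⦃X Y : AlgSp.Space S⦄ (a : X ⟶ Y) (ha : AlgSp.IsFiniteMor a.hom) :
    AlgSp.LocP (@LocallyQuasiFinite ⊓ @LocallyOfFiniteType) a.hom := by
  have h1 : AlgSp.RepWith @IsFinite a.hom := (Groth.Agent.S10267.result a).2.1 ha
  have hle : ∀ ⦃A B : Scheme.{u}⦄ (g : A ⟶ B), IsFinite g →
      (@LocallyQuasiFinite ⊓ @LocallyOfFiniteType) g := fun A B g hg => by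
    have : IsFinite g := hg
    exact ⟨(inferInstance : LocallyQuasiFinite g), (inferInstance : LocallyOfFiniteType g)⟩
  have := (Groth.Agent.H52.etLocal_lqf.{u}).mult
  exact Groth.Agent.H50.locP_of_repWith (P := @LocallyQuasiFinite ⊓ @LocallyOfFiniteType)
    Groth.Agent.H52.etLocal_lqf.etale (Groth.Agent.H50.repWith_mono hle h1)

theorem isSeparatedMor_of_repWith {F' : AlgSp.Sp S} {U : Over S}
    (snd : F' ⟶ (AlgSp.yon S).obj U) (h : AlgSp.RepWith @IsSeparated snd) :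
    AlgSp.IsSeparatedMor snd := by
  obtain ⟨W, i, fst, sq⟩ := h.rep (𝟙 ((AlgSp.yon S).obj U))
  have hi : IsSeparated i.left := h.property _ _ _ sq
  have hfst : IsIso fst := sq.isIso_fst_of_isIso
  have e : snd = inv fst ≫ (AlgSp.yon S).map i := by
    rw [IsIso.eq_inv_comp]
    simpa using sq.w
  have h1 : AlgSp.IsSeparatedMor ((AlgSp.yon S).map i) :=
    (AlgSp.isSeparatedMor_yon_map_iff i).2 hi
  have := AlgSp.repWith_isStableUnderBaseChange (S := S) @IsClosedImmersion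
  have : (AlgSp.RepWith (S := S) @IsClosedImmersion).RespectsIso :=
    MorphismProperty.IsStableUnderBaseChange.respectsIso
  rw [e]
  exact (MorphismProperty.cancel_left_of_respectsIso
    (AlgSp.RepWith (S := S) @IsClosedImmersion).diagonal _ _).2 h1

theorem isSeparatedMor_respectsIso : (AlgSp.IsSeparatedMor (S := S)).RespectsIso := by
  have := AlgSp.repWith_isStableUnderBaseChange (S := S) @IsClosedImmersion
  have : (AlgSp.RepWith (S := S) @IsClosedImmersion).RespectsIso :=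
    MorphismProperty.IsStableUnderBaseChange.respectsIso
  exact inferInstanceAs ((AlgSp.RepWith (S := S) @IsClosedImmersion).diagonal.RespectsIso)

/-- the structure functor of a scheme `U` over `S` has the property of `U ⟶ S`. -/
theorem with_toSelf_overCat (P : MorphismProperty Scheme.{u}) [P.IsStableUnderBaseChange]
    (Q : MorphismProperty (AlgSp.Sp S)) [Q.RespectsIso]
    (hPQ : ∀ ⦃F' : AlgSp.Sp S⦄ ⦃U : Over S⦄ (snd : F' ⟶ (AlgSp.yon S).obj U),
      AlgSp.RepWith P snd → Q snd) (U : Over S) (hU : P U.hom) :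
    AlgSt.RepByAlgSpWith Q (FibCat.toSelf (FibCat.overCat U)) := by
  obtain ⟨u, hu⟩ : ∃ u : U ⟶ T₀ S, u.left = U.hom := ⟨Over.homMk U.hom (by simp [T₀]), rfl⟩
  have h1 : AlgSt.RepByAlgSpWith Q (AlgSt.overMap u) := overMap_with P Q hPQ u (by rw [hu]; exact hU)
  have h2 : AlgSt.RepByAlgSpWith Q (BasedFunctor.comp (AlgSt.overMap u)
      (FibCat.toSelf (FibCat.overCat (T₀ S)))) :=
    (with_postcomp_equiv Q (Groth.Agent.S6411.over_isFibGrpd U)
      (Groth.Agent.S6411.over_isFibGrpd (T₀ S)) self_isFibGrpd (AlgSt.overMap u) _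
      toSelf_T₀_isEquivOver).2 h1
  rwa [eq_toSelf (BasedFunctor.comp (AlgSt.overMap u) (FibCat.toSelf (FibCat.overCat (T₀ S))))]
    at h2

/-- variant of `with_diag_toSelf_of_cover` with the diagonal of the projection supplied. -/
theorem with_diag_toSelf_of_cover' {Q : MorphismProperty (AlgSp.Sp S)} (hG : Good Q)
    {𝒳 𝒲 : AlgSt.Cat S} (h𝒳 : IsFibGrpd 𝒳.p)
    (h𝒳d : AlgSt.RepByAlgSp1 (FibCat.diag (FibCat.toSelf 𝒳)))
    (h𝒲 : IsFibGrpd 𝒲.p) (w : 𝒲 ⥤ᵇ 𝒳)
    (hw₁ : AlgSt.RepByAlgSpWith (AlgSp.LocP @Flat) w)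
    (hw₂ : AlgSt.RepByAlgSpWith (AlgSp.LocP @LocallyOfFinitePresentation) w)
    (hw₃ : AlgSt.RepByAlgSpWith AlgSp.IsSurjectiveMor w)
    (hwQ : AlgSt.RepByAlgSpWith Q w)
    (hΔc : AlgSt.RepByAlgSpWith Q (FibCat.diag
      (fpFst (BasedFunctor.comp w (FibCat.toSelf 𝒳)) (BasedFunctor.comp w (FibCat.toSelf 𝒳))))) :
    AlgSt.RepByAlgSpWith Q (FibCat.diag (FibCat.toSelf 𝒳)) := by
  have hself : IsFibGrpd (FibCat.selfOver (Over S)).p := self_isFibGrpd
  have iWW : IsFibGrpd (fp (BasedFunctor.comp w (FibCat.toSelf 𝒳))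
      (BasedFunctor.comp w (FibCat.toSelf 𝒳))).p := fp_isFibGrpd _ _ h𝒲 h𝒲 hself
  have iww : IsFibGrpd (fp w w).p := fp_isFibGrpd _ _ h𝒲 h𝒲 h𝒳
  have itt : IsFibGrpd (fp (FibCat.toSelf 𝒳) (FibCat.toSelf 𝒳)).p := fp_isFibGrpd _ _ h𝒳 h𝒳 hself
  have hac : AlgSt.RepByAlgSpWith Q (BasedFunctor.comp (diagMap w (FibCat.toSelf 𝒳))
      (fpFst (BasedFunctor.comp w (FibCat.toSelf 𝒳)) (BasedFunctor.comp w (FibCat.toSelf 𝒳)))) :=
    Groth.Agent.S12779.result h𝒲 h𝒳 h𝒲 Q w w hwQ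
  have ha : AlgSt.RepByAlgSpWith Q (diagMap w (FibCat.toSelf 𝒳)) :=
    with_cancel hG iww iWW h𝒲 _ _ hac hΔc
  have i2 : IsFibGrpd (fp (prodF w w (FibCat.toSelf 𝒳)) (diag (FibCat.toSelf 𝒳))).p :=
    fp_isFibGrpd _ _ iWW h𝒳 itt
  have hπ : AlgSt.RepByAlgSpWith Q (fpFst (prodF w w (FibCat.toSelf 𝒳))
      (diag (FibCat.toSelf 𝒳))) :=
    (Groth.Agent.S12782.result iww iWW i2 iWW Q (diagMap w (FibCat.toSelf 𝒳))
      (fpFst (prodF w w (FibCat.toSelf 𝒳)) (diag (FibCat.toSelf 𝒳)))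
      (magic w w (FibCat.toSelf 𝒳)) (BasedFunctor.id _) (magic_isEquivOver w w _)
      (isEquivOver_id _) (diagMapIso w (FibCat.toSelf 𝒳)).symm).mp ha
  exact with_of_fpFst_cover Q hG.loc h𝒳 itt _ h𝒳d (prodF w w (FibCat.toSelf 𝒳))
    (with_prodF good_flat h𝒲 h𝒲 h𝒳 hself w w _ hw₁ hw₁)
    (with_prodF good_lfp h𝒲 h𝒲 h𝒳 hself w w _ hw₂ hw₂)
    (with_prodF good_surjective h𝒲 h𝒲 h𝒳 hself w w _ hw₃ hw₃) hπ

theorem wna_main (𝒳 : AlgSt.Cat S)
    (h𝒳 : AlgSt.IsAlgStack Scheme.fppfPrecoverage 𝒳) (hw : AlgSt.IsWellNighAffine 𝒳) :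
    AlgSt.IsQuasiCompact 𝒳 ∧ AlgSt.IsQuasiDMOver 𝒳 ∧ AlgSt.IsSeparatedOver 𝒳 := by
  obtain ⟨U, x, hU, hx⟩ := hw
  have hsurj : AlgSt.RepByAlgSpWith AlgSp.IsSurjectiveMor x :=
    with_imp (fun _ _ a ha => ha.1.1.1) hx
  have hflat : AlgSt.RepByAlgSpWith (AlgSp.LocP @Flat) x :=
    with_imp (fun _ _ a ha => ha.1.1.2) hx
  have hfin : AlgSt.RepByAlgSpWith AlgSp.IsFiniteMor x :=
    with_imp (fun _ _ a ha => ha.1.2) hx
  have hlfp : AlgSt.RepByAlgSpWith (AlgSp.LocP @LocallyOfFinitePresentation) x :=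
    with_imp (fun _ _ a ha => ha.2) hx
  have hUg := Groth.Agent.S6411.over_isFibGrpd U
  have hself : IsFibGrpd (FibCat.selfOver (Over S)).p := self_isFibGrpd
  refine ⟨?_, ?_, ?_⟩
  · -- quasi-compact
    have hcU : CompactSpace ↥U.left := by
      have := hU
      infer_instance
    have hc : CompactSpace (AlgSt.Points 𝒳) := by
      refine ⟨?_⟩
      rw [← Set.image_univ_of_surjective (ofChart_surjective h𝒳 x hsurj)]
      exact isCompact_univ.image (ofChart_continuous h𝒳 U x)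
    exact isQuasiCompact_of_compactSpace h𝒳 hc
  · -- quasi-DM
    have hlqf : AlgSt.RepByAlgSpWith (AlgSp.LocP (@LocallyQuasiFinite ⊓ @LocallyOfFiniteType)) x :=
      with_imp' lqf_of_isFiniteMor hfin
    exact with_diag_toSelf_of_cover good_lqf sec_lqf h𝒳.isStack.1 h𝒳.diag hUg
      (repByAlgSp_overCat U) x hflat hlfp hsurj hlqf
  · -- separated
    have hprop : AlgSt.RepByAlgSpWith AlgSp.IsProperMor x :=
      with_imp' (fun X Y a ha => ((Groth.Agent.S10271.result a).1 ha).2) hfin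
    have hsepU : IsSeparated U.hom := by
      have := hU
      infer_instance
    have iQ := isSeparatedMor_respectsIso (S := S)
    have hwt : AlgSt.RepByAlgSpWith AlgSp.IsSeparatedMor
        (BasedFunctor.comp x (FibCat.toSelf 𝒳)) := by
      rw [eq_toSelf (BasedFunctor.comp x (FibCat.toSelf 𝒳))]
      exact with_toSelf_overCat @IsSeparated AlgSp.IsSeparatedMor
        (fun F' V snd h => isSeparatedMor_of_repWith snd h) U hsepU
    have hW : AlgSt.RepByAlgSp (FibCat.overCat U) := repByAlgSp_overCat U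
    have hwt_rep : AlgSt.RepByAlgSp1 (BasedFunctor.comp x (FibCat.toSelf 𝒳)) :=
      repByAlgSp1_of_repByAlgSp hW repByAlgSp_selfOver _
    have hWW : AlgSt.RepByAlgSp (fp (BasedFunctor.comp x (FibCat.toSelf 𝒳))
        (BasedFunctor.comp x (FibCat.toSelf 𝒳))) :=
      Groth.Agent.S12766.result hUg hself hUg _ _ hwt_rep hW
    have iWW : IsFibGrpd (fp (BasedFunctor.comp x (FibCat.toSelf 𝒳))
        (BasedFunctor.comp x (FibCat.toSelf 𝒳))).p := fp_isFibGrpd _ _ hUg hUg hself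
    have hc : AlgSt.RepByAlgSp1 (fpFst (BasedFunctor.comp x (FibCat.toSelf 𝒳))
        (BasedFunctor.comp x (FibCat.toSelf 𝒳))) := repByAlgSp1_of_repByAlgSp hWW hW _
    have hcsep : AlgSt.RepByAlgSpWith AlgSp.IsSeparatedMor
        (fpFst (BasedFunctor.comp x (FibCat.toSelf 𝒳)) (BasedFunctor.comp x (FibCat.toSelf 𝒳))) :=
      Groth.Agent.S12779.result hUg hself hUg _ _ _ hwt
    have hΔc := isSeparatedMor_of_rep_separated iWW hUg _ hc hcsep
    exact with_diag_toSelf_of_cover' good_proper h𝒳.isStack.1 h𝒳.diag hUg x hflat hlfp hsurj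
      hprop hΔc

end aux

open CategoryTheory AlgebraicGeometry in
/-- A well-nigh affine algebraic stack is quasi-compact, quasi-DM over `S` and separated over `S` (for
`S = Spec ℤ` these are the absolute notions of the published statement). The characterisation by
presentations `[U/R]` with `U`, `R` affine and `s`, `t` finite locally free is not stated. -/
theorem result (S : Scheme.{u}) (𝒳 : AlgSt.Cat S)
    (h𝒳 : AlgSt.IsAlgStack Scheme.fppfPrecoverage 𝒳) (hw : AlgSt.IsWellNighAffine 𝒳) :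
    AlgSt.IsQuasiCompact 𝒳 ∧ AlgSt.IsQuasiDMOver 𝒳 ∧ AlgSt.IsSeparatedOver 𝒳 := by
  exact wna_main 𝒳 h𝒳 hw

end Groth.Agent.S16697
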