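import Groth.Statements.S16699
import Groth.Agent.H32.StTop
import Groth.Agent.H32.DiagDict
import Groth.Agent.H32.SpComp
import Groth.Agent.H32.StackOps
-- import your own Groth.Agent.* helpers here

set_option autoImplicit false
universe u
open AlgSt AlgSt.IsWellNighAffine

namespace Groth.Agent.S16699

section aux
open CategoryTheory CategoryTheory.Limits AlgebraicGeometry Opposite
open FibCat Stk Groth.Agent.H32.FibProd Groth.Agent.H32.Fp2 Groth.Agent.H32.Fp3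
  Groth.Agent.H32.Fp4 Groth.Agent.H32.SpBridge Groth.Agent.H32.PFacts
  Groth.Agent.H32.AlgStackEquiv Groth.Agent.H32.AtlasRep Groth.Agent.H32.SpComp
  Groth.Agent.H32.StackOps Groth.Agent.H32.Repr Groth.Agent.H32.DiagDict

variable {S : Scheme.{u}}

theorem wna_of_affine (𝒳 𝒳' : AlgSt.Cat S)
    (h𝒳 : AlgSt.IsAlgStack Scheme.fppfPrecoverage 𝒳)
    (h𝒳' : AlgSt.IsAlgStack Scheme.fppfPrecoverage 𝒳')
    (hw : AlgSt.IsWellNighAffine 𝒳) (f : 𝒳' ⥤ᵇ 𝒳)
    (hf : AlgSt.RepByAlgSpWith AlgSp.IsAffineMor f) : AlgSt.IsWellNighAffine 𝒳' := by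
  obtain ⟨U, x, hU, hx⟩ := hw
  obtain ⟨F, e, he, ha⟩ := hf U x
  obtain ⟨W, i, fst, sq, hW⟩ := ha hU (𝟙 _)
  have hfst : IsIso fst := sq.isIso_fst_of_isIso
  have hfst' : IsIso fst.hom :=
    (inferInstance : IsIso ((sheafToPresheaf (AlgSp.J S) (Type (u + 1))).map fst))
  have haE : IsEquivOver (BasedFunctor.comp (ofPoint fst.hom) e) :=
    isEquivOver_comp _ _ (isEquivOver_comp _ _ (ofOverCat_isEquivOver W)
      (ofPshMap_isEquivOver fst.hom)) he
  have hWg := Groth.Agent.S6411.over_isFibGrpd W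
  have hUg := Groth.Agent.S6411.over_isFibGrpd U
  have hxf : IsFibGrpd (fp x f).p := fp_isFibGrpd x f hUg h𝒳'.isStack.1 h𝒳.isStack.1
  refine ⟨W, BasedFunctor.comp (BasedFunctor.comp (ofPoint fst.hom) e) (fpSnd x f), hW, ?_⟩
  exact with_precomp_equiv _ hWg hxf h𝒳'.isStack.1 _ haE _ (repByAlgSpWith_fpSnd _ x f hx)

end aux

open CategoryTheory AlgebraicGeometry in
/-- An algebraic stack affine over a well-nigh affine algebraic stack is well-nigh affine. -/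
theorem result (S : Scheme.{u}) (𝒳 𝒳' : AlgSt.Cat S)
    (h𝒳 : AlgSt.IsAlgStack Scheme.fppfPrecoverage 𝒳) (h𝒳' : AlgSt.IsAlgStack Scheme.fppfPrecoverage 𝒳')
    (hw : AlgSt.IsWellNighAffine 𝒳) (f : 𝒳' ⥤ᵇ 𝒳) (hf : AlgSt.RepByAlgSpWith AlgSp.IsAffineMor f) :
    AlgSt.IsWellNighAffine 𝒳' := by
  exact wna_of_affine 𝒳 𝒳' h𝒳 h𝒳' hw f hf

end Groth.Agent.S16699
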