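import Groth.Statements.S16707
import Mathlib.RingTheory.LocalRing.Module
import Mathlib.LinearAlgebra.TensorProduct.Quotient

set_option autoImplicit false
universe u v
open CAlg

namespace Groth.Agent.S16707

open TensorProduct in
theorem subsingleton_of_tensor_quot {A : Type u} [CommRing A] (I : Ideal A) (hI : IsNilpotent I)
    (C : Type v) [AddCommGroup C] [Module A C] (h : Subsingleton ((A ⧸ I) ⊗[A] C)) :
    Subsingleton C := by
  have h1 : Subsingleton (C ⧸ (I • (⊤ : Submodule A C))) :=
    (TensorProduct.quotTensorEquivQuotSMul C I).symm.injective.subsingleton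
  have h2 : I • (⊤ : Submodule A C) = ⊤ := Submodule.Quotient.subsingleton_iff.mp h1
  obtain ⟨n, hn⟩ := hI
  have h3 : ∀ k : ℕ, (I ^ k) • (⊤ : Submodule A C) = ⊤ := by
    intro k
    induction k with
    | zero => simp
    | succ k ih => rw [pow_succ, Submodule.mul_smul, h2, ih]
  have h4 : (⊤ : Submodule A C) = ⊥ := by
    rw [← h3 n, hn, Ideal.zero_eq_bot, Submodule.bot_smul]
  exact (Submodule.subsingleton_iff A).mp ⟨fun a b => by
    rw [eq_bot_iff.mpr (h4 ▸ le_top : a ≤ ⊥), eq_bot_iff.mpr (h4 ▸ le_top : b ≤ ⊥)]⟩

open TensorProduct in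
theorem surj {A : Type u} [CommRing A] (I : Ideal A)
    (hI : IsNilpotent I) (M N : Type v) [AddCommGroup M] [Module A M] [AddCommGroup N] [Module A N]
    (f : M →ₗ[A] N)
    (hf : Function.Surjective (f.baseChange (A ⧸ I))) :
    Function.Surjective f := by
  have hsub : Subsingleton ((A ⧸ I) ⊗[A] (N ⧸ LinearMap.range f)) := by
    refine ⟨fun a b => ?_⟩
    have hz : ∀ x : (A ⧸ I) ⊗[A] (N ⧸ LinearMap.range f), x = 0 := by
      intro x
      obtain ⟨y, rfl⟩ := LinearMap.lTensor_surjective (A ⧸ I) (LinearMap.range f).mkQ_surjective x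
      obtain ⟨z, rfl⟩ := hf y
      rw [LinearMap.baseChange_eq_ltensor, ← LinearMap.comp_apply, ← LinearMap.lTensor_comp]
      have : (LinearMap.range f).mkQ ∘ₗ f = 0 := by
        apply LinearMap.ext
        intro m
        simp
      rw [this, LinearMap.lTensor_zero, LinearMap.zero_apply]
    rw [hz a, hz b]
  have := subsingleton_of_tensor_quot I hI _ hsub
  rw [← LinearMap.range_eq_top]
  exact Submodule.Quotient.subsingleton_iff.mp this


open TensorProduct in
/-- Let A be a commutative ring, I a nilpotent ideal of A and f : M → N a homomorphism of A-modules with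
N flat over A (no finiteness assumption on M or N). If the base change of f to A/I, that is M/IM →
N/IN, is bijective, then f is bijective. -/
theorem result (A : Type u) [CommRing A] (I : Ideal A)
    (hI : IsNilpotent I) (M N : Type v) [AddCommGroup M] [Module A M] [AddCommGroup N] [Module A N]
    [Module.Flat A N] (f : M →ₗ[A] N)
    (hf : Function.Bijective (f.baseChange (A ⧸ I))) :
    Function.Bijective f := by
  have hs : Function.Surjective f := surj I hI M N f hf.2
  refine ⟨?_, hs⟩
  have hex : Function.Exact (LinearMap.ker f).subtype f := LinearMap.exact_subtype_ker_map f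
  have hinj : Function.Injective ((LinearMap.ker f).subtype.lTensor (A ⧸ I)) := by
    refine lTensor_injective_of_exact_of_exact_of_rTensor_injective
      (f₁ := I.subtype) (f₂ := I.mkQ) (g₁ := (LinearMap.ker f).subtype) (g₂ := f)
      (LinearMap.exact_subtype_mkQ I) (Submodule.mkQ_surjective I) hex hs ?_ ?_
    · exact Module.Flat.rTensor_preserves_injective_linearMap _ (Submodule.injective_subtype _)
    · exact Module.Flat.lTensor_preserves_injective_linearMap _ (Submodule.injective_subtype _)
  have hsub : Subsingleton ((A ⧸ I) ⊗[A] (LinearMap.ker f)) := by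
    refine ⟨fun a b => ?_⟩
    have hz : ∀ x : (A ⧸ I) ⊗[A] (LinearMap.ker f), x = 0 := by
      intro x
      apply hinj
      apply hf.1
      rw [LinearMap.baseChange_eq_ltensor, ← LinearMap.comp_apply, ← LinearMap.lTensor_comp,
        hex.linearMap_comp_eq_zero]
      simp
    rw [hz a, hz b]
  have hK := subsingleton_of_tensor_quot I hI _ hsub
  rw [← LinearMap.ker_eq_bot]
  exact (Submodule.subsingleton_iff_eq_bot).mp hK

end Groth.Agent.S16707
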