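import Groth.Statements.S16708
import Mathlib
import Groth.Agent.H74.TraceInt2
-- import your own Groth.Agent.* helpers here

set_option autoImplicit false
universe u
open HopfRep

namespace Groth.Agent.S16708

/-- Let G be a finite group and k a field in which the order of G is a nonzero element. Then the
constant group scheme of G over k is linearly reductive: every finite-dimensional comodule over its
coordinate Hopf algebra (the algebra of functions G → k with the Hopf structure of the constant
group) is semisimple, i.e. every subcomodule admits a complementary subcomodule. -/
theorem result (k : Type u) [Field k] (G : Type u) [Group G]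
    [Fintype G] [DecidableEq G] (hG : ((Fintype.card G : ℕ) : k) ≠ 0) :
    HopfRep.IsLinearlyReductive k (ConstGrp.F k G) := by
  intro V _ _ _ _
  refine Groth.Agent.H74.TraceInt.isSemisimpleComod_of_finrank_ne_zero ?_ V
  have h : Module.finrank k (ConstGrp.F k G) = Fintype.card G :=
    Module.finrank_fintype_fun_eq_card (R := k) (η := G)
  rw [h]
  exact hG

end Groth.Agent.S16708
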