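import Groth.Statements.S16713
import Groth.Agent.H61.LciUnmixed

set_option autoImplicit false
universe u
open CotT

namespace Groth.Agent.S16713

/-- The final assertion, in the case where the base is a field. Let k be a field and A a k-algebra which
is a local complete intersection over k (of finite type, presented by a polynomial algebra in
finitely many variables with Koszul-regular kernel) and generically smooth over k, in the sense that
the localization of A at each of its minimal primes is formally smooth over k. Then H^1 of the naive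
cotangent complex L_{A/k} vanishes: for the presentation A = P/I by the polynomial k-algebra P on
the elements of A, the conormal map I/I² → Ω_{P/k} ⊗_P A is injective, so that L_{A/k} is
quasi-isomorphic to Ω_{A/k}. (The published statement is for a generically smooth syntomic morphism
over an arbitrary base, where it fails when the base has embedded points: over B = k[s,t]/(s², st)
with 2 invertible in k, the algebra B[x]/(x² − t) is a relative complete intersection, free of rank
two and smooth where x is invertible, yet the class of s·x·(x² − t) is a non-zero element of the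
kernel of its conormal map. This row states the case of an algebra of finite type over a field.) -/
theorem result (k : Type u) [Field k]
    (A : Type u) [CommRing A] [Algebra k A] (hlci : LCI.IsLCI k A)
    (hgs : ∀ (p : Ideal A) [p.IsPrime], p ∈ minimalPrimes A → Algebra.FormallySmooth k (Localization.AtPrime p)) :
    Subsingleton (Algebra.H1Cotangent k A) := by
  classical
  obtain ⟨hft, n, f, hf, hI⟩ := hlci
  haveI := hft
  haveI : IsNoetherianRing A := Algebra.FiniteType.isNoetherianRing k A
  have haev : MvPolynomial.aeval (R := k) (fun i : Fin n => f (MvPolynomial.X i)) = f := by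
    refine MvPolynomial.algHom_ext fun i => ?_
    rw [MvPolynomial.aeval_X]
  have hsurj : Function.Surjective
      (MvPolynomial.aeval (R := k) (fun i : Fin n => f (MvPolynomial.X i))) := by
    rw [haev]; exact hf
  let G : Algebra.Generators k A (Fin n) := Algebra.Generators.ofSurjective _ hsurj
  set I : Ideal (MvPolynomial (Fin n) k) := RingHom.ker f.toRingHom with hIdef
  have halg : ∀ y : G.toExtension.Ring,
      algebraMap G.toExtension.Ring A y = f (y : MvPolynomial (Fin n) k) := by
    intro y
    exact (Algebra.Generators.algebraMap_apply G y).trans (DFunLike.congr_fun haev y)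
  have hkerI : (G.toExtension.ker : Ideal (MvPolynomial (Fin n) k)) = I := by
    ext y
    change algebraMap G.toExtension.Ring A y = 0 ↔ f y = 0
    rw [halg]
  have hmemI : ∀ w : G.toExtension.Ring,
      w ∈ G.toExtension.ker ↔ (w : MvPolynomial (Fin n) k) ∈ I := by
    intro w
    rw [← hkerI]
    exact Iff.rfl
  have hmemI2 : ∀ w : G.toExtension.Ring,
      w ∈ G.toExtension.ker ^ 2 ↔ (w : MvPolynomial (Fin n) k) ∈ I ^ 2 := by
    intro w
    rw [← hkerI]
    exact Iff.rfl
  -- non-zero-divisors
  have hnzd : ∀ s : MvPolynomial (Fin n) k, (∀ 𝔮 ∈ I.minimalPrimes, s ∉ 𝔮) →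
      ∀ a, s * a ∈ I → a ∈ I := by
    intro s hs a hsa
    by_contra ha
    have hne : (Ideal.Quotient.mk I a : MvPolynomial (Fin n) k ⧸ I) ≠ 0 := by
      rwa [Ne, Ideal.Quotient.eq_zero_iff_mem]
    obtain ⟨𝔮, h𝔮, hle⟩ := exists_le_isAssociatedPrime_of_isNoetherianRing
      (MvPolynomial (Fin n) k) _ hne
    have hs𝔮 : s ∈ 𝔮 := by
      apply hle
      rw [Submodule.mem_colon_singleton, Submodule.mem_bot, ← Ideal.Quotient.mk_eq_mk,
        ← Submodule.Quotient.mk_smul, Ideal.Quotient.mk_eq_mk, Ideal.Quotient.eq_zero_iff_mem,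
        smul_eq_mul]
      exact hsa
    exact hs 𝔮 (Groth.Agent.H61.LciUnmixed.mem_minimalPrimes_of_mem_associatedPrimes I hI 𝔮 h𝔮) hs𝔮
  -- every class vanishes
  have hzero : ∀ z : Algebra.H1Cotangent k A, z = 0 := by
    intro z
    -- generic vanishing
    have h1 : ∀ p ∈ minimalPrimes A, ∃ c : A, c ∉ p ∧ c • z = 0 := by
      intro p hp
      haveI : p.IsPrime := hp.1.1
      haveI := hgs p hp
      have h0 : Algebra.H1Cotangent.map k k A (Localization.AtPrime p) z = 0 := Subsingleton.elim _ _
      obtain ⟨c, hc⟩ := (IsLocalizedModule.eq_zero_iff p.primeCompl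
        (Algebra.H1Cotangent.map k k A (Localization.AtPrime p))).mp h0
      exact ⟨c, c.2, hc⟩
    -- prime avoidance
    have hfin : (minimalPrimes A).Finite := minimalPrimes.finite_of_isNoetherianRing A
    obtain ⟨sb, hsz, hsmin⟩ : ∃ sb : A, sb • z = 0 ∧ ∀ p ∈ minimalPrimes A, sb ∉ p := by
      by_contra hcon
      push Not at hcon
      set Ann : Ideal A := (⊥ : Submodule A (Algebra.H1Cotangent k A)).colon {z} with hAnn
      have hAnnmem : ∀ c, c ∈ Ann ↔ c • z = 0 := fun c => by
        rw [hAnn, Submodule.mem_colon_singleton, Submodule.mem_bot]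
      have hsub : (Ann : Set A) ⊆ ⋃ p ∈ (hfin.toFinset : Set (Ideal A)), (p : Set A) := by
        intro c hc
        obtain ⟨p, hp, hcp⟩ := hcon c ((hAnnmem c).mp hc)
        simp only [Set.mem_iUnion]
        exact ⟨p, by simpa using hp, hcp⟩
      obtain ⟨p, hp, hle⟩ := (Ideal.subset_union_prime (R := A) (s := hfin.toFinset)
        (f := fun p => p) ⊥ ⊥ (fun p hp _ _ => ((Set.Finite.mem_toFinset hfin).mp hp).1.1)).mp hsub
      have hp' := (Set.Finite.mem_toFinset hfin).mp hp
      obtain ⟨c, hcp, hcz⟩ := h1 p hp'
      exact hcp (hle ((hAnnmem c).mpr hcz))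
    -- transfer to `I/I²`
    set x : G.toExtension.H1Cotangent := (G.equivH1Cotangent).symm z with hx
    have hsx : sb • x = 0 := by
      rw [hx, ← map_smul, hsz, map_zero]
    obtain ⟨y, hy⟩ := Algebra.Extension.Cotangent.mk_surjective x.val
    obtain ⟨s, rfl⟩ := hf sb
    obtain ⟨s', hs'⟩ : ∃ s' : G.toExtension.Ring, s' = (s : MvPolynomial (Fin n) k) := ⟨_, rfl⟩
    have hsy : Algebra.Extension.Cotangent.mk (s' • y) = 0 := by
      rw [map_smul, hy, ← algebraMap_smul A s' x.val, halg, hs']
      have := congrArg Subtype.val hsx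
      exact this
    rw [Algebra.Extension.Cotangent.mk_eq_zero_iff] at hsy
    obtain ⟨y0, hy0⟩ : ∃ y0 : MvPolynomial (Fin n) k, y0 = (y : G.toExtension.Ring) := ⟨_, rfl⟩
    have hyI : y0 ∈ I := by
      rw [hy0]
      exact (hmemI _).mp y.2
    have hsyI : s * y0 ∈ I ^ 2 := by
      rw [hy0, ← hs']
      exact (hmemI2 _).mp hsy
    have hsmin' : ∀ 𝔮 ∈ I.minimalPrimes, s ∉ 𝔮 := by
      intro 𝔮 h𝔮 hs𝔮
      have hcomap : I = Ideal.comap f.toRingHom ⊥ := rfl
      rw [hcomap, Ideal.comap_minimalPrimes_eq_of_surjective (f := f.toRingHom) hf] at h𝔮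
      obtain ⟨p, hp, rfl⟩ := h𝔮
      exact hsmin p hp hs𝔮
    have hy2 := Groth.Agent.H61.LciCot.mem_sq_of_mul_mem_sq I hI s y0 hyI hsyI (hnzd s hsmin')
    have hxval : x.val = 0 := by
      rw [← hy, Algebra.Extension.Cotangent.mk_eq_zero_iff, hmemI2, ← hy0]
      exact hy2
    have hx0 : x = 0 := Subtype.ext hxval
    have : z = (G.equivH1Cotangent) x := by rw [hx, LinearEquiv.apply_symm_apply]
    rw [this, hx0, map_zero]
  exact ⟨fun a b => by rw [hzero a, hzero b]⟩

end Groth.Agent.S16713
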