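import Groth.Statements.S16717
import Groth.Agent.H40.LinRedCrit

set_option autoImplicit false
universe u v
open HopfRep

namespace Groth.Agent.S16717

open TensorProduct in
/-- Equivalence of the exactness of invariants with complete reducibility of finite-dimensional
representations. Let k be a field and A a finitely generated commutative Hopf algebra over k (the
coordinate ring of an affine algebraic group G). Then every finite-dimensional A-comodule is
semisimple if and only if taking fixed vectors is exact, i.e. for every surjective comodule map φ :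
V → W between A-comodules (of any dimension; φ k-linear with (φ ⊗ id) ∘ ρ_V = ρ_W ∘ φ) every fixed
vector of W is the image of a fixed vector of V. -/
theorem result (k : Type u) [Field k] (A : Type v)
    [CommRing A] [HopfAlgebra k A] (hA : Algebra.FiniteType k A) :
    HopfRep.IsLinearlyReductive k A ↔
      ∀ (V W : Type v) [AddCommGroup V] [Module k V] [HopfRep.Comod k A V]
        [AddCommGroup W] [Module k W] [HopfRep.Comod k A W] (φ : V →ₗ[k] W),
        LinearMap.rTensor A φ ∘ₗ HopfRep.Comod.coact (k := k) (A := A) (V := V) =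
            HopfRep.Comod.coact (k := k) (A := A) (V := W) ∘ₗ φ →
          Function.Surjective φ →
            ∀ w ∈ HopfRep.fixedPts k A W, ∃ v ∈ HopfRep.fixedPts k A V, φ v = w := by
  constructor
  · intro hG V W _ _ _ _ _ _ φ hφ hsurj w hw
    have hφ' : Hoch.IsComodHom A φ := hφ.symm
    obtain ⟨v₀, hv₀⟩ := hsurj w
    refine ⟨Groth.Agent.H62.reynolds V hG v₀, Groth.Agent.H62.reynolds_mem hG v₀, ?_⟩
    rw [← Groth.Agent.H62.reynolds_natural hG hφ' v₀, hv₀,
      Groth.Agent.H62.reynolds_of_mem_fixedPts hG hw]
  · intro Hex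
    apply Groth.Agent.H40.LinRedCrit.isLinearlyReductive_of_lifting k A
    intro E _ _ _ hfin π hsurj hπ
    have hK : HopfRep.IsSubcomod (k := k) (A := A) (LinearMap.ker π) := by
      letI : HopfRep.Comod k A k := HopfRep.Comod.trivial k A k
      have hπ' : Hoch.IsComodHom A π := hπ.symm
      exact Groth.Agent.H93.isSubcomod_ker hπ'
    letI cQ : HopfRep.Comod k A (E ⧸ LinearMap.ker π) :=
      Groth.Agent.H93.quotComod (LinearMap.ker π) hK
    have hq : Hoch.IsComodHom A (LinearMap.ker π).mkQ :=
      Groth.Agent.H93.isComodHom_mkQ (LinearMap.ker π) hK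
    obtain ⟨x₀, hx₀⟩ := hsurj 1
    have hπx : ∀ x : E, π.rTensor A (HopfRep.Comod.coact (k := k) (A := A) x) =
        TensorProduct.tmul k (π x) (1 : A) := by
      intro x
      have := LinearMap.congr_fun hπ x
      simpa using this
    have hw : (LinearMap.ker π).mkQ x₀ ∈ HopfRep.fixedPts k A (E ⧸ LinearMap.ker π) := by
      change HopfRep.Comod.coact (k := k) (A := A) ((LinearMap.ker π).mkQ x₀) =
        TensorProduct.tmul k ((LinearMap.ker π).mkQ x₀) (1 : A)
      rw [Groth.Agent.H93.comodHom_apply hq, ← LinearMap.rTensor_tmul, ← sub_eq_zero, ← map_sub,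
        ← Groth.Agent.H40.mem_range_rTensor_subtype_iff, ← Groth.Agent.H93.ker_rTensor_eq,
        LinearMap.mem_ker, map_sub, hπx, LinearMap.rTensor_tmul, sub_self]
    obtain ⟨v, hv, hvw⟩ := Hex E (E ⧸ LinearMap.ker π) (LinearMap.ker π).mkQ hq.symm
      (Submodule.mkQ_surjective _) _ hw
    refine ⟨v, hv, ?_⟩
    have h1 : v - x₀ ∈ LinearMap.ker π := by
      rw [← Submodule.Quotient.mk_eq_zero, Submodule.Quotient.mk_sub, sub_eq_zero]
      exact hvw
    have h2 : π v = 1 := by
      rw [← hx₀, ← sub_eq_zero, ← map_sub]
      exact h1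
    rw [h2]
    exact one_ne_zero

end Groth.Agent.S16717
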