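import Groth.Statements.S16718
import Groth.Agent.H40.Comod
import Mathlib.RingTheory.FiniteType
import Mathlib.RingTheory.Polynomial.Basic

set_option autoImplicit false
universe u v w
open TensorProduct
open GLin

namespace Groth.Agent.S16718

/-- Let k be a field, A a finitely generated commutative Hopf algebra over k (an affine algebraic group
G), R a finitely generated commutative k-algebra carrying an A-comodule structure whose coaction is
an algebra homomorphism (an action of G on X = Spec R), and I an ideal of R which is a subcomodule
(a G-invariant closed subscheme Z of X). Then there is a finite-dimensional subcomodule W of R with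
W ⊆ I generating I as an ideal; equivalently there is a G-equivariant morphism f from X to the
affine space of a finite-dimensional G-representation with f⁻¹(0) = Z as closed subschemes. -/
theorem result (k : Type u) [Field k]
    (A : Type v) [CommRing A] [HopfAlgebra k A] (hA : Algebra.FiniteType k A)
    (R : Type w) [CommRing R] [Algebra k R] [HopfRep.Comod k A R] [GLin.IsCoactAlg k A R]
    (hR : Algebra.FiniteType k R) (I : Ideal R)
    (hI : HopfRep.IsSubcomod (k := k) (A := A) (I.restrictScalars k)) :
    ∃ W : Submodule k R, Module.Finite k W ∧ HopfRep.IsSubcomod (k := k) (A := A) W ∧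
      W ≤ I.restrictScalars k ∧ Ideal.span (W : Set R) = I := by
  classical
  have := hR
  have hnoeth : IsNoetherianRing R := Algebra.FiniteType.isNoetherianRing k R
  obtain ⟨t, ht⟩ := (IsNoetherian.noetherian I : (I : Submodule R R).FG)
  have hloc : ∀ r : R, ∃ W : Submodule k R, Module.Finite k W ∧ r ∈ W ∧
      HopfRep.IsSubcomod (k := k) (A := A) W :=
    fun r => H40.exists_finite_subcomod_mem (k := k) (C := A) r
  choose Wf hWfin hWmem hWsub using hloc
  have htI : ∀ r ∈ t, r ∈ I := by
    intro r hr
    rw [← ht]
    exact Submodule.subset_span hr
  refine ⟨⨆ r ∈ t, (Wf r ⊓ I.restrictScalars k), ?_, ?_, ?_, ?_⟩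
  · rw [Module.Finite.iff_fg]
    refine Submodule.fg_biSup t _ (fun r _ => ?_)
    have := hWfin r
    have hfin : Module.Finite k ↥(Wf r ⊓ I.restrictScalars k) :=
      Module.Finite.of_injective (Submodule.inclusion (inf_le_left : Wf r ⊓ I.restrictScalars k ≤ Wf r))
        (Submodule.inclusion_injective _)
    exact Module.Finite.iff_fg.mp hfin
  · exact H40.isSubcomod_iSup (fun r => H40.isSubcomod_iSup
      (fun _ => H40.isSubcomod_inf (hWsub r) hI))
  · exact iSup_le (fun r => iSup_le fun _ => inf_le_right)
  · apply le_antisymm
    · refine Ideal.span_le.mpr ?_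
      intro x hx
      have h1 : (⨆ r ∈ t, (Wf r ⊓ I.restrictScalars k)) ≤ I.restrictScalars k :=
        iSup_le (fun r => iSup_le fun _ => inf_le_right)
      exact h1 hx
    · intro x hx
      have hx' : x ∈ Submodule.span R (t : Set R) := by rw [ht]; exact hx
      refine Submodule.span_mono ?_ hx'
      intro r hr
      exact Submodule.mem_iSup_of_mem r (Submodule.mem_iSup_of_mem hr ⟨hWmem r, htI r hr⟩)

end Groth.Agent.S16718
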