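import Groth.Statements.S16737
import Mathlib.Algebra.CharP.Invertible
import Mathlib.Algebra.MvPolynomial.PDeriv

set_option autoImplicit false
universe u v
open DeRham

namespace Groth.Agent.S16737

theorem D_eq_zero_iff (R : Type u) [CommRing R] (σ : Type v) (f : MvPolynomial σ R) :
    KaehlerDifferential.D R (MvPolynomial σ R) f = 0 ↔ ∀ i, MvPolynomial.pderiv i f = 0 := by
  constructor
  · intro h i
    rw [← KaehlerDifferential.mvPolynomialBasis_repr_apply, h, map_zero]
    rfl
  · intro h
    apply (KaehlerDifferential.mvPolynomialBasis R σ).repr.injective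
    ext i : 1
    rw [KaehlerDifferential.mvPolynomialBasis_repr_apply, h i, map_zero]
    rfl

theorem pderiv_expand (p : ℕ) (R : Type u) [CommRing R] [CharP R p] (σ : Type v)
    (g : MvPolynomial σ R) (i : σ) : MvPolynomial.pderiv i (MvPolynomial.expand p g) = 0 := by
  induction g using MvPolynomial.induction_on with
  | C a => simp
  | add f g hf hg => simp [hf, hg]
  | mul_X f j hf =>
    rw [map_mul, MvPolynomial.expand_X, Derivation.leibniz, hf, smul_zero, add_zero,
      Derivation.leibniz_pow]
    have : (p : MvPolynomial σ R) = 0 := by
      rw [← map_natCast (MvPolynomial.C (σ := σ) (R := R)), CharP.cast_eq_zero, map_zero]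
    rw [← Nat.cast_smul_eq_nsmul (MvPolynomial σ R) p, this, zero_smul, smul_zero]

theorem dvd_of_pderiv_eq_zero (p : ℕ) [Fact p.Prime] (R : Type u) [CommRing R] [CharP R p] (σ : Type v)
    (f : MvPolynomial σ R) (h : ∀ i, MvPolynomial.pderiv i f = 0) (s : σ →₀ ℕ) (hs : s ∈ f.support)
    (i : σ) : p ∣ s i := by
  classical
  by_contra hnd
  have hpos : 1 ≤ s i := by
    rcases Nat.eq_zero_or_pos (s i) with h0 | h0
    · rw [h0] at hnd; exact absurd (dvd_zero p) hnd
    · exact h0
  have hsm : s = (s - Finsupp.single i 1) + Finsupp.single i 1 := by
    ext j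
    by_cases hj : j = i
    · subst hj; simp; omega
    · simp [Ne.symm hj]
  have h1 := MvPolynomial.coeff_pderiv (i := i) f (s - Finsupp.single i 1)
  rw [h i, MvPolynomial.coeff_zero, ← hsm] at h1
  have h2 : (((s - Finsupp.single i 1 : σ →₀ ℕ) i : ℕ) : R) + 1 = ((s i : ℕ) : R) := by
    have : (s - Finsupp.single i 1 : σ →₀ ℕ) i + 1 = s i := by simp; omega
    rw [← this]; push_cast; rfl
  rw [h2] at h1
  have hu : IsUnit ((s i : ℕ) : R) := (CharP.isUnit_natCast_iff (Fact.out : p.Prime)).2 hnd
  have h3 : MvPolynomial.coeff s f = 0 := by
    have := h1.symm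
    exact (hu.mul_left_eq_zero).1 this
  exact (MvPolynomial.mem_support_iff.mp hs) h3


/-- The case of affine space over an affine base of characteristic p, in degree zero. Let p be a prime
and R a commutative ring with p = 0 in R. For a polynomial f over R in any set of variables t_i, the
Kähler differential df in Ω_{R[t]/R} vanishes if and only if f is a polynomial in the p-th powers of
the variables, f = g(t_i^p). Equivalently, the functions on affine space over R killed by the
differential of the de Rham complex are exactly the functions on its Frobenius twist. (The published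
computation is for finitely many variables over a noetherian base of characteristic p; the statement
here allows any commutative ring with p = 0 and any set of variables.) -/
theorem result (p : ℕ) [Fact p.Prime]
    (R : Type u) [CommRing R] [CharP R p] (σ : Type v) (f : MvPolynomial σ R) :
    KaehlerDifferential.D R (MvPolynomial σ R) f = 0 ↔
      ∃ g : MvPolynomial σ R, f = MvPolynomial.expand p g := by
  classical
  rw [D_eq_zero_iff]
  constructor
  · intro h
    have hdvd := dvd_of_pderiv_eq_zero p R σ f h
    refine ⟨∑ s ∈ f.support, MvPolynomial.monomial (s.mapRange (· / p) (Nat.zero_div p))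
      (MvPolynomial.coeff s f), ?_⟩
    rw [map_sum]
    conv_lhs => rw [f.as_sum]
    apply Finset.sum_congr rfl
    intro s hs
    rw [MvPolynomial.expand_monomial]
    have hs' : p • s.mapRange (· / p) (Nat.zero_div p) = s := by
      ext i
      simp only [Finsupp.smul_apply, Finsupp.mapRange_apply, smul_eq_mul]
      exact Nat.mul_div_cancel' (hdvd s hs i)
    rw [hs']
  · rintro ⟨g, rfl⟩ i
    exact pderiv_expand p R σ g i

end Groth.Agent.S16737
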