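import Groth.Statements.S16742
import Groth.Agent.H2.NilpCriterion
import Mathlib.RingTheory.TensorProduct.Quotient

set_option autoImplicit false
universe u
open CAlg

namespace Groth.Agent.S16742

/-- The equivalence in affine form, with flatness of the reduction in place of smoothness. Let p be a
prime, A~ a commutative ring flat over Z/p^2 and B~ an A~-algebra such that B~/pB~ is flat over
A~/pA~. Then B~ is flat over A~ if and only if every element of B~ killed by p is a multiple of p;
equivalently multiplication by p identifies B~/pB~ with pB~. (The published statement assumes the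
reduction smooth over A~/pA~ and the schemes noetherian, and phrases (b) as B~ being a lifting, that
is flat over A~; the statement here assumes only that the reduction is flat, where the equivalence
still holds by the local flatness criterion for the square-zero ideal generated by p.) -/
theorem result (p : ℕ) [Fact p.Prime]
    (Al : Type u) [CommRing Al] [Algebra (ZMod (p ^ 2)) Al] [Module.Flat (ZMod (p ^ 2)) Al]
    (Bl : Type u) [CommRing Bl] [Algebra Al Bl]
    (hB : Module.Flat (Al ⧸ Ideal.span {(p : Al)})
      (Bl ⧸ (Ideal.span {(p : Al)}).map (algebraMap Al Bl))) :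
    Module.Flat Al Bl ↔ ∀ b : Bl, (p : Bl) * b = 0 → b ∈ Ideal.span {(p : Bl)} := by
  have hp2 : (p : Al) * (p : Al) = 0 := by
    have h : ((p ^ 2 : ℕ) : ZMod (p ^ 2)) = 0 := ZMod.natCast_self _
    have h2 := congrArg (algebraMap (ZMod (p ^ 2)) Al) h
    rw [map_natCast, map_zero] at h2
    rw [← pow_two]
    exact_mod_cast h2
  constructor
  · intro hflat b hb
    let _ : Module (ZMod (p ^ 2)) Bl := Module.compHom Bl (algebraMap (ZMod (p ^ 2)) Al)
    have : IsScalarTower (ZMod (p ^ 2)) Al Bl :=
      IsScalarTower.of_algebraMap_smul fun _ _ => rfl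
    have : Module.Flat (ZMod (p ^ 2)) Bl := Module.Flat.trans (ZMod (p ^ 2)) Al Bl
    have hsm : ∀ x : Bl, (p : ZMod (p ^ 2)) • x = (p : Bl) * x := by
      intro x
      show (algebraMap (ZMod (p ^ 2)) Al (p : ZMod (p ^ 2))) • x = _
      rw [map_natCast, Algebra.smul_def, map_natCast]
    have hrel : ∑ i : Fin 1, (fun _ => (p : ZMod (p ^ 2))) i • (fun _ => b) i = 0 := by
      simp only [Finset.univ_unique, Finset.sum_singleton]
      rw [hsm]; exact hb
    obtain ⟨κ, α, z, hz, hα⟩ := Module.Flat.isTrivialRelation_of_sum_smul_eq_zero hrel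
    have : NeZero (p ^ 2) := ⟨pow_ne_zero 2 (Fact.out : p.Prime).ne_zero⟩
    have hdiv : ∀ j, ∃ c : ZMod (p ^ 2), α 0 j = (p : ZMod (p ^ 2)) * c := by
      intro j
      have h1 := hα j
      simp only [Finset.univ_unique, Finset.sum_singleton] at h1
      have h2 : (α default j) = ((α default j).val : ZMod (p ^ 2)) :=
        (ZMod.natCast_zmod_val _).symm
      rw [h2, ← Nat.cast_mul, ZMod.natCast_eq_zero_iff] at h1
      have h1' : p * p ∣ p * (α default j).val := by rw [← pow_two]; exact h1
      obtain ⟨c', hc'⟩ := Nat.dvd_of_mul_dvd_mul_left (Fact.out : p.Prime).pos h1'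
      refine ⟨(c' : ZMod (p ^ 2)), ?_⟩
      show α default j = _
      rw [h2, hc', Nat.cast_mul]
    choose c hc using hdiv
    have hb' : b = (p : Bl) * ∑ j, c j • z j := by
      have h0 := hz 0
      simp only at h0
      rw [h0, Finset.mul_sum]
      refine Finset.sum_congr rfl fun j _ => ?_
      rw [hc j, mul_smul, hsm]
    rw [hb']
    exact Ideal.mem_span_singleton'.mpr ⟨_, mul_comm _ _⟩
  · intro hyp
    set J : Ideal Al := Ideal.span {(p : Al)} with hJdef
    have hpJ : (p : Al) ∈ J := Ideal.subset_span rfl
    have hJ2 : J ^ 2 = ⊥ := by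
      rw [hJdef, Ideal.span_singleton_pow, pow_two, hp2, Ideal.span_singleton_eq_bot]
    have : Module.Flat (Al ⧸ J) (TensorProduct Al (Al ⧸ J) Bl) :=
      Module.Flat.of_linearEquiv
        (Algebra.TensorProduct.quotIdealMapEquivQuotTensor Bl J).symm.toLinearEquiv
    refine Groth.Agent.H2.flat_of_nilpotent_criterion J 2 hJ2 ?_
    have hform : ∀ z : TensorProduct Al J Bl, ∃ b : Bl,
        z = TensorProduct.tmul Al (⟨(p : Al), hpJ⟩ : J) b := by
      intro z
      induction z using TensorProduct.induction_on with
      | zero => exact ⟨0, (TensorProduct.tmul_zero _ _).symm⟩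
      | tmul x b =>
        obtain ⟨x, hx⟩ := x
        obtain ⟨a, rfl⟩ := Ideal.mem_span_singleton'.mp hx
        refine ⟨a • b, ?_⟩
        rw [← TensorProduct.smul_tmul]
        congr 1
      | add x y hx hy =>
        obtain ⟨b, rfl⟩ := hx
        obtain ⟨b', rfl⟩ := hy
        exact ⟨b + b', (TensorProduct.tmul_add _ _ _).symm⟩
    rw [injective_iff_map_eq_zero]
    intro z hz
    obtain ⟨b, rfl⟩ := hform z
    rw [LinearMap.rTensor_tmul, Submodule.subtype_apply] at hz
    have h0 : (p : Al) • b = 0 := by
      have := congrArg (TensorProduct.lid Al Bl) hz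
      simpa using this
    rw [Algebra.smul_def, map_natCast] at h0
    obtain ⟨b', hb'⟩ := Ideal.mem_span_singleton'.mp (hyp b h0)
    rw [← hb']
    have e1 : b' * (p : Bl) = (p : Al) • b' := by
      rw [Algebra.smul_def, map_natCast, mul_comm]
    rw [e1, ← TensorProduct.smul_tmul]
    have e2 : (p : Al) • (⟨(p : Al), hpJ⟩ : J) = 0 :=
      Subtype.ext (by simpa [smul_eq_mul] using hp2)
    rw [e2, TensorProduct.zero_tmul]

end Groth.Agent.S16742
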