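import Groth.Statements.S16754
import Mathlib
import Groth.Agent.H68.GeomConnAlg
import Groth.Agent.H74.H0Top
import Groth.Agent.S1536
import Groth.Agent.H25.SmoothStalk
import Groth.Agent.H70.LocDomain

set_option autoImplicit false
universe u
open CurvSt

open CategoryTheory CategoryTheory.Limits AlgebraicGeometry

namespace Groth.Agent.S16754

open Groth.Agent.H68.GeomConnAlg TensorProduct Groth.Agent.H74.H0Top

theorem stalk_spec_field (K : Type u) [Field K] (t : ↥(Spec (CommRingCat.of K))) :
    IsDomain ((Spec (CommRingCat.of K)).presheaf.stalk t) ∧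
      IsIntegrallyClosed ((Spec (CommRingCat.of K)).presheaf.stalk t) := by
  let e : Localization.AtPrime t.asIdeal ≃+* (Spec (CommRingCat.of K)).presheaf.stalk t :=
    (StructureSheaf.stalkIso K t).toRingEquiv
  haveI : IsIntegrallyClosed (Localization.AtPrime t.asIdeal) :=
    isIntegrallyClosed_of_isLocalization (Localization.AtPrime t.asIdeal) t.asIdeal.primeCompl
      t.asIdeal.primeCompl_le_nonZeroDivisors
  exact ⟨inferInstance, IsIntegrallyClosed.of_equiv e⟩


open CategoryTheory CategoryTheory.Limits AlgebraicGeometry in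
/-- Let k be a field and X a scheme which is proper and smooth over k and of dimension one. Then the
following are equivalent: dim_k H^0(X, O_X) = 1 (the ground field is the ring of global functions);
X is geometrically connected over k; X is geometrically integral over k. (The remaining conditions
of the source concern membership in an open substack of the stack of curves and are not stated.) -/
theorem result (k : Type u) [Field k]
    (X : Scheme.{u}) [X.Over (Spec (CommRingCat.of k))] [IsProper (X ↘ Spec (CommRingCat.of k))]
    [Smooth (X ↘ Spec (CommRingCat.of k))] (hdim : topologicalKrullDim ↥X = 1) :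
    (Module.finrank k (Coh.HH X (Coh.structureModule X) 0) = 1 ↔ GeometricallyConnected (X ↘ Spec (CommRingCat.of k))) ∧
      (GeometricallyConnected (X ↘ Spec (CommRingCat.of k)) ↔ GeometricallyIntegral (X ↘ Spec (CommRingCat.of k))) := by
  have _ := hdim
  have hst : ∀ ⦃K : Type u⦄ [Field K] (y : Spec (CommRingCat.of K) ⟶ Spec (CommRingCat.of k))
      ⦃Z : Scheme.{u}⦄ (fst : Z ⟶ X) (snd : Z ⟶ Spec (CommRingCat.of K)),
      IsPullback fst snd (X ↘ Spec (CommRingCat.of k)) y →
      ∀ s : ↥Z, IsDomain (Z.presheaf.stalk s) := by
    intro K _ y Z fst snd h s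
    haveI : Smooth snd := MorphismProperty.of_isPullback (P := @Smooth) h inferInstance
    have hmem : s ∈ snd.smoothLocus := by
      rw [Scheme.Hom.smoothLocus_eq_top]; trivial
    have h := (Groth.Agent.H25.SmoothStalk.reduced_normal_iff_of_smoothAt
      snd s hmem).2.mpr (stalk_spec_field K _)
    exact h.1
  haveI hgr : GeometricallyReduced (X ↘ Spec (CommRingCat.of k)) := by
    refine (geometricallyReduced_iff _).mpr fun K _ y Z fst snd h => ?_
    haveI : ∀ s : ↥Z, _root_.IsReduced (Z.presheaf.stalk s) := fun s => by
      haveI := hst y fst snd h s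
      infer_instance
    exact isReduced_of_isReduced_stalk _
  refine ⟨⟨fun h0 => ?_, fun hc => ?_⟩, ⟨fun hc => ?_, fun hi => ?_⟩⟩
  · -- `h⁰ = 1 ⇒` geometrically connected
    letI : Algebra k Γ(X, ⊤) := (strMap (X ↘ Spec (CommRingCat.of k))).hom.toAlgebra
    have hsurj : ∀ s : Γ(X, ⊤), ∃ c : k, algebraMap k Γ(X, ⊤) c = s :=
      toGlobal_surjective X k h0
    haveI : Nontrivial Γ(X, ⊤) := by
      by_contra hne
      haveI : Subsingleton Γ(X, ⊤) := not_nontrivial_iff_subsingleton.mp hne
      haveI : Subsingleton (Coh.Γtop X) := ‹Subsingleton Γ(X, ⊤)›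
      haveI : Subsingleton (Coh.HH X (Coh.structureModule X) 0) :=
        (e' X).injective.subsingleton
      have := Module.finrank_zero_of_subsingleton (R := k)
        (M := Coh.HH X (Coh.structureModule X) 0)
      omega
    have hpi : ∀ a : Γ(X, ⊤), ∃ (n : ℕ) (c : k),
        IsNilpotent (a ^ (ringExpChar k) ^ n - algebraMap k Γ(X, ⊤) c) := by
      intro a
      obtain ⟨c, hc⟩ := hsurj a
      exact ⟨0, c, by rw [hc, pow_zero, pow_one, sub_self]; exact IsNilpotent.zero⟩
    rw [geometricallyConnected_iff, geometrically_iff_of_isClosedUnderIsomorphisms]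
    intro K _ y
    obtain ⟨φ, rfl⟩ := Spec.map_surjective y
    obtain ⟨e⟩ := exists_tensor_equiv (X ↘ Spec (CommRingCat.of k)) φ
    letI : Algebra k K := φ.hom.toAlgebra
    have hT : ConnRing (K ⊗[k] Γ(X, ⊤)) := connRing_tensor (K := K) (ringExpChar k) hpi
    exact connectedSpace_of_connRing _ (hT.of_ringEquiv e)
  · haveI := hc
    exact Groth.Agent.S1536.result k X
  · refine (geometricallyIntegral_iff _).mpr fun K _ y Z fst snd h => ?_
    haveI : ConnectedSpace ↥Z := hc.geometrically_connectedSpace y fst snd h
    haveI : LocallyOfFiniteType snd :=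
      MorphismProperty.of_isPullback (P := @LocallyOfFiniteType) h inferInstance
    haveI : IsLocallyNoetherian Z := LocallyOfFiniteType.isLocallyNoetherian snd
    exact Groth.Agent.H70.LocDomain.isIntegral_of_connected_of_isDomain_stalk (hst y fst snd h)
  · refine (geometricallyConnected_iff _).mpr fun K _ y Z fst snd h => ?_
    haveI : IsIntegral Z := hi.geometrically_isIntegral y fst snd h
    infer_instance

end Groth.Agent.S16754
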