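import Groth.Statements.S16762
-- import your own Groth.Agent.* helpers here

set_option autoImplicit false
universe u
open CAlgX

namespace Groth.Agent.S16762

open TensorProduct in
theorem fwd (A A' : Type u) [CommRing A] [CommRing A']
    [Algebra A A'] {M N : Type u} [AddCommGroup M] [Module A M]
    [AddCommGroup N] [Module A N] (u : M →ₗ[A] N)
    (hu : CAlgX.UniversallyInjective A u) :
    CAlgX.UniversallyInjective A' (u.baseChange A') := by
  intro Q' _ _
  let _ : Module A Q' := Module.compHom Q' (algebraMap A A')
  have : IsScalarTower A A' Q' := IsScalarTower.of_algebraMap_smul (fun r x => rfl)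
  have hinj : Function.Injective (u.lTensor Q') :=
    (u.lTensor_inj_iff_rTensor_inj Q').2 (hu Q')
  let eM : (A' ⊗[A] M) ⊗[A'] Q' ≃ₗ[A'] Q' ⊗[A] M :=
    (TensorProduct.comm A' (A' ⊗[A] M) Q') ≪≫ₗ
      (TensorProduct.AlgebraTensorModule.cancelBaseChange A A' A' Q' M)
  let eN : (A' ⊗[A] N) ⊗[A'] Q' ≃ₗ[A'] Q' ⊗[A] N :=
    (TensorProduct.comm A' (A' ⊗[A] N) Q') ≪≫ₗ
      (TensorProduct.AlgebraTensorModule.cancelBaseChange A A' A' Q' N)
  have hsq : ∀ x, eN ((u.baseChange A').rTensor Q' x) = u.lTensor Q' (eM x) := by
    intro x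
    induction x using TensorProduct.induction_on with
    | zero => simp
    | tmul y q =>
      induction y using TensorProduct.induction_on with
      | zero => simp
      | tmul a m => simp [eM, eN]
      | add y₁ y₂ h₁ h₂ => simp only [TensorProduct.add_tmul, map_add, h₁, h₂]
    | add x y hx hy => simp only [map_add, hx, hy]
  intro x y hxy
  apply eM.injective
  apply hinj
  rw [← hsq, ← hsq, hxy]

open TensorProduct in
theorem bwd (A A' : Type u) [CommRing A] [CommRing A']
    [Algebra A A'] [Module.FaithfullyFlat A A'] {M N : Type u} [AddCommGroup M] [Module A M]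
    [AddCommGroup N] [Module A N] (u : M →ₗ[A] N)
    (hu : CAlgX.UniversallyInjective A' (u.baseChange A')) :
    CAlgX.UniversallyInjective A u := by
  intro Q _ _
  rw [← Module.FaithfullyFlat.lTensor_injective_iff_injective A A']
  have hinj := hu (A' ⊗[A] Q)
  let eM : (A' ⊗[A] M) ⊗[A'] (A' ⊗[A] Q) ≃ₗ[A'] A' ⊗[A] (M ⊗[A] Q) :=
    (TensorProduct.AlgebraTensorModule.distribBaseChange A A' M Q).symm
  let eN : (A' ⊗[A] N) ⊗[A'] (A' ⊗[A] Q) ≃ₗ[A'] A' ⊗[A] (N ⊗[A] Q) :=
    (TensorProduct.AlgebraTensorModule.distribBaseChange A A' N Q).symm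
  have hsq : ∀ x, (u.rTensor Q).lTensor A' (eM x) = eN ((u.baseChange A').rTensor (A' ⊗[A] Q) x) := by
    intro x
    induction x using TensorProduct.induction_on with
    | zero => simp
    | tmul y q =>
      induction y using TensorProduct.induction_on with
      | zero => simp
      | tmul a m =>
        induction q using TensorProduct.induction_on with
        | zero => simp
        | tmul a' q => simp [eM, eN, TensorProduct.AlgebraTensorModule.distribBaseChange, TensorProduct.smul_tmul']
        | add y₁ y₂ h₁ h₂ => simp only [TensorProduct.tmul_add, map_add, h₁, h₂]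
      | add y₁ y₂ h₁ h₂ => simp only [TensorProduct.add_tmul, map_add, h₁, h₂]
    | add x y hx hy => simp only [map_add, hx, hy]
  intro x y hxy
  obtain ⟨x', rfl⟩ := eM.surjective x
  obtain ⟨y', rfl⟩ := eM.surjective y
  rw [hsq, hsq] at hxy
  rw [hinj (eN.injective hxy)]


/-- Let A → A' be faithfully flat and u : M → N a map of A-modules. Then u is universally injective (u ⊗
id_Q injective for every A-module Q) if and only if its base change A' ⊗_A M → A' ⊗_A N is
universally injective as a map of A'-modules. -/
theorem result (A A' : Type u) [CommRing A] [CommRing A']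
    [Algebra A A'] [Module.FaithfullyFlat A A'] {M N : Type u} [AddCommGroup M] [Module A M]
    [AddCommGroup N] [Module A N] (u : M →ₗ[A] N) :
    CAlgX.UniversallyInjective A u ↔ CAlgX.UniversallyInjective A' (u.baseChange A') := by
  exact ⟨fwd A A' u, bwd A A' u⟩

end Groth.Agent.S16762
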