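import Groth.Statements.S16771
import Groth.Agent.H73.FixLoc11

set_option autoImplicit false
open CategoryTheory MonoidalCategory CartesianMonoidalCategory MonObj GrpObj AlgebraicGeometry
universe u
open SGA3x

namespace Groth.Agent.S16771

/-- Let G be an affine group scheme of finite presentation over a scheme S, Y ⊆ G a closed subscheme
which is finite, flat and of finite presentation over S, and Y' ⊆ G a closed subscheme of finite
presentation over S. Then the transporter of Y into Y' (points g of G such that g y g⁻¹ is a point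
of Y' for every point y of Y after any base change) is representable by a closed subscheme of G of
finite presentation over S. -/
theorem result {S : Scheme.{u}} (G Y Y' : Over S) [GrpObj G]
    (hGa : IsAffineHom G.hom) (hGfp : LocallyOfFinitePresentation G.hom)
    (y : Y ⟶ G) (hy : IsClosedImmersion y.left) (hYf : IsFinite Y.hom) (hYfl : Flat Y.hom)
    (hYfp : LocallyOfFinitePresentation Y.hom)
    (y' : Y' ⟶ G) (hy' : IsClosedImmersion y'.left) (hY'fp : LocallyOfFinitePresentation Y'.hom) :
    ∃ (C : Over S) (c : C ⟶ G), IsClosedImmersion c.left ∧ LocallyOfFinitePresentation C.hom ∧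
      ∀ (X : Over S) (g : X ⟶ G), (∃ z : X ⟶ C, z ≫ c = g) ↔
        ∀ (X' : Over S) (x : X' ⟶ X) (a : X' ⟶ Y), ∃ a' : X' ⟶ Y', (x ≫ g) * (a ≫ y) * (x ≫ g)⁻¹ = a' ≫ y' := by
  have : IsAffineHom G.hom := hGa
  have : LocallyOfFinitePresentation G.hom := hGfp
  have : IsFinite Y.hom := hYf
  have : Flat Y.hom := hYfl
  have : LocallyOfFinitePresentation Y.hom := hYfp
  have : IsClosedImmersion y'.left := hy'
  have hy'fp : LocallyOfFinitePresentation y'.left := by
    apply Groth.Agent.H73.FixLoc.lfp_of_comp (g := G.hom) inferInstance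
    rw [Over.w y']
    exact hY'fp
  let κ : G ⊗ Y ⟶ G := fst G Y * (snd G Y ≫ y) * (fst G Y)⁻¹
  have hsqE := (IsPullback.of_hasPullback κ y').map (Over.forget S)
  have hEc : IsClosedImmersion (Limits.pullback.fst κ y').left :=
    MorphismProperty.of_isPullback (P := @IsClosedImmersion) hsqE.flip ‹_›
  have hEfp : LocallyOfFinitePresentation (Limits.pullback.fst κ y').left :=
    MorphismProperty.of_isPullback (P := @LocallyOfFinitePresentation) hsqE.flip hy'fp
  obtain ⟨C, c, hc, hcfp, key⟩ :=
    Groth.Agent.H73.FixLoc.exists_closed_over G Y (Limits.pullback κ y') (Limits.pullback.fst κ y')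
  have hcfp' := hcfp hEfp
  refine ⟨C, c, hc, ?_, ?_⟩
  · rw [← Over.w c]
    infer_instance
  intro X g
  rw [key X g]
  have hκ : ∀ (X' : Over S) (x : X' ⟶ X) (a : X' ⟶ Y),
      lift (x ≫ g) a ≫ κ = (x ≫ g) * (a ≫ y) * (x ≫ g)⁻¹ := by
    intro X' x a
    rw [MonObj.comp_mul, MonObj.comp_mul, GrpObj.comp_inv, lift_fst, ← Category.assoc, lift_snd]
  constructor
  · intro h X' x a
    obtain ⟨w, hw⟩ := h X' x a
    refine ⟨w ≫ Limits.pullback.snd κ y', ?_⟩
    rw [← hκ, ← hw, Category.assoc, Category.assoc, Limits.pullback.condition]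
  · intro h X' x a
    obtain ⟨a', ha'⟩ := h X' x a
    refine ⟨Limits.pullback.lift (lift (x ≫ g) a) a' ?_, Limits.pullback.lift_fst _ _ _⟩
    rw [hκ, ha']

end Groth.Agent.S16771
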