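import Groth.Statements.S16772
import Groth.Agent.H73.FixLoc11

set_option autoImplicit false
open CategoryTheory MonoidalCategory CartesianMonoidalCategory MonObj GrpObj AlgebraicGeometry
universe u
open SGA3x

namespace Groth.Agent.S16772

/-- Let G be an affine group scheme of finite presentation over a scheme S and Y ⊆ G a closed subscheme
which is finite, flat and of finite presentation over S. Then the centralizer of Y in G (points of G
commuting with every point of Y after any base change) is representable by a closed subscheme of G. -/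
theorem result {S : Scheme.{u}} (G Y : Over S) [GrpObj G]
    (hGa : IsAffineHom G.hom) (hGfp : LocallyOfFinitePresentation G.hom)
    (y : Y ⟶ G) (hy : IsClosedImmersion y.left) (hYf : IsFinite Y.hom) (hYfl : Flat Y.hom)
    (hYfp : LocallyOfFinitePresentation Y.hom) :
    ∃ (C : Over S) (c : C ⟶ G), IsClosedImmersion c.left ∧
      ∀ (X : Over S) (g : X ⟶ G), (∃ z : X ⟶ C, z ≫ c = g) ↔
        ∀ (X' : Over S) (x : X' ⟶ X) (a : X' ⟶ Y), (x ≫ g) * (a ≫ y) = (a ≫ y) * (x ≫ g) := by
  have : IsAffineHom G.hom := hGa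
  have : IsSeparated G.hom := inferInstance
  have : IsFinite Y.hom := hYf
  have : Flat Y.hom := hYfl
  have : LocallyOfFinitePresentation Y.hom := hYfp
  let α : G ⊗ Y ⟶ G := fst G Y * (snd G Y ≫ y)
  let β : G ⊗ Y ⟶ G := (snd G Y ≫ y) * fst G Y
  have : IsClosedImmersion (Limits.equalizer.ι α β).left := isClosedImmersion_equalizer_ι_left _ _
  obtain ⟨C, c, hc, -, key⟩ :=
    Groth.Agent.H73.FixLoc.exists_closed_over G Y (Limits.equalizer α β) (Limits.equalizer.ι α β)
  refine ⟨C, c, hc, ?_⟩
  intro X g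
  rw [key X g]
  have hα : ∀ (X' : Over S) (x : X' ⟶ X) (a : X' ⟶ Y),
      lift (x ≫ g) a ≫ α = (x ≫ g) * (a ≫ y) := by
    intro X' x a
    rw [MonObj.comp_mul, lift_fst, ← Category.assoc, lift_snd]
  have hβ : ∀ (X' : Over S) (x : X' ⟶ X) (a : X' ⟶ Y),
      lift (x ≫ g) a ≫ β = (a ≫ y) * (x ≫ g) := by
    intro X' x a
    rw [MonObj.comp_mul, lift_fst, ← Category.assoc, lift_snd]
  constructor
  · intro h X' x a
    obtain ⟨w, hw⟩ := h X' x a
    rw [← hα, ← hβ, ← hw, Category.assoc, Category.assoc, Limits.equalizer.condition]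
  · intro h X' x a
    refine ⟨Limits.equalizer.lift (lift (x ≫ g) a) ?_, Limits.equalizer.lift_ι _ _⟩
    rw [hα, hβ]
    exact h X' x a

end Groth.Agent.S16772
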