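import Groth.Statements.S16794
import Groth.Agent.H84.Jacobson
import Groth.Agent.H84.Hoch
import Mathlib

set_option autoImplicit false
universe v u
open PCurv

namespace Groth.Agent.S16794

open Groth.Agent.H84.Jac Groth.Agent.H84.Hoch
open TensorProduct

section Aux

variable {A : Type v} {B M : Type u} [CommRing A] [CommRing B] [Algebra A B]
  [AddCommGroup M] [Module B M] [Module A M] [IsScalarTower A B M]

/-- scalar multiplication by `B` as a ring hom into the `A`-linear endomorphisms -/
noncomputable def iot : B →+* Module.End A M := Module.toModuleEnd A (S := B) M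

theorem iot_apply (b : B) (m : M) : iot (A := A) b m = b • m := rfl

theorem along_add (nabla : M →ₗ[A] M ⊗[B] Ω[B⁄A]) (φ ψ : Ω[B⁄A] →ₗ[B] B) :
    Conn.along nabla (φ + ψ) = Conn.along nabla φ + Conn.along nabla ψ := by
  ext m
  simp only [Conn.along_apply, LinearMap.add_apply, TensorProduct.map_add_right, map_add]

theorem along_smul (nabla : M →ₗ[A] M ⊗[B] Ω[B⁄A]) (f : B) (φ : Ω[B⁄A] →ₗ[B] B) :
    Conn.along nabla (f • φ) = iot f * Conn.along nabla φ := by
  ext m
  simp only [Conn.along_apply, Module.End.mul_apply, iot_apply, TensorProduct.map_smul_right,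
    LinearMap.smul_apply, map_smul]

theorem along_leibniz (nabla : M →ₗ[A] M ⊗[B] Ω[B⁄A])
    (hc : Conn.IsConn (KaehlerDifferential.D A B) nabla) (θ : Derivation A B B) (b : B) :
    Conn.alongDer nabla θ * iot b = iot b * Conn.alongDer nabla θ + iot (θ b) := by
  ext m
  simp only [Module.End.mul_apply, LinearMap.add_apply, iot_apply]
  show Conn.along nabla θ.liftKaehlerDifferential (b • m) =
    b • Conn.along nabla θ.liftKaehlerDifferential m + θ b • m
  rw [Conn.along_apply, Conn.along_apply, hc b m, map_add, map_add, map_smul, map_smul,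
    TensorProduct.map_tmul, TensorProduct.rid_tmul, LinearMap.id_apply,
    Derivation.liftKaehlerDifferential_comp_D]

theorem ad_iter {E : Type*} [Ring E] (ι : B →+* E) (D : E) (δ : B → B)
    (hD : ∀ b, D * ι b = ι b * D + ι (δ b)) (a : B) (j : ℕ) :
    (fun w => D * w - w * D)^[j] (ι a) = ι (δ^[j] a) := by
  induction j with
  | zero => rfl
  | succ j ih =>
    rw [Function.iterate_succ_apply', ih, Function.iterate_succ_apply', hD, add_sub_cancel_left]

theorem self_leibniz (θ : Derivation A B B) (b : B) :
    (θ : B →ₗ[A] B) * iot (A := A) (B := B) (M := B) b =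
      iot (A := A) (B := B) (M := B) b * (θ : B →ₗ[A] B) + iot (A := A) (B := B) (M := B) (θ b) := by
  ext x
  simp only [Module.End.mul_apply, LinearMap.add_apply, iot_apply, smul_eq_mul]
  show θ (b * x) = b * θ x + θ b * x
  rw [θ.leibniz, smul_eq_mul, smul_eq_mul]
  ring

/-- the `p`-th iterate of a derivation in characteristic `p` is a derivation -/
theorem iter_derivation (p : ℕ) [hp : Fact p.Prime] [CharP B p] (θ : Derivation A B B) :
    ∃ θp : Derivation A B B, ∀ b, θp b = (⇑θ)^[p] b := by
  have hpE : ((p : ℕ) : Module.End A B) = 0 := by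
    rw [← map_natCast (iot (A := A) (B := B) (M := B)), CharP.cast_eq_zero, map_zero]
  have hleib : ∀ a b : B, ((θ : B →ₗ[A] B) ^ p) (a * b) =
      a • ((θ : B →ₗ[A] B) ^ p) b + b • ((θ : B →ₗ[A] B) ^ p) a := by
    intro a b
    have h1 := ad_pow_char p hp.out hpE (θ : B →ₗ[A] B) (iot (A := A) (B := B) (M := B) a)
    rw [ad_iter (iot (A := A) (B := B) (M := B)) (θ : B →ₗ[A] B) (⇑θ) (self_leibniz θ) a p] at h1
    have h2 := LinearMap.congr_fun h1 b
    have hpow : ∀ x : B, ((θ : B →ₗ[A] B) ^ p) x = (⇑θ)^[p] x := fun x => by
      rw [Module.End.pow_apply]; rfl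
    simp only [LinearMap.sub_apply, Module.End.mul_apply, iot_apply, smul_eq_mul, hpow] at h2 ⊢
    linear_combination -h2
  refine ⟨Derivation.mk' ((θ : B →ₗ[A] B) ^ p) hleib, fun b => ?_⟩
  show ((θ : B →ₗ[A] B) ^ p) b = _
  rw [Module.End.pow_apply]
  rfl

end Aux

open TensorProduct in

open TensorProduct in
/-- Let p be a prime number and B a commutative algebra of characteristic p over a commutative ring A
whose module Ω of Kähler differentials over A is free of rank one on a form ω; let θ₀ be the
A-derivation of B dual to ω (its B-linear functional Ω → B takes the value 1 on ω), and let ∇ be a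
connection on a finite free B-module M. Then the p-curvature of ∇ vanishes identically — for every
A-derivation θ of B and every derivation θ' that agrees with the p-fold iterate of θ, the
endomorphism (∇_θ)^p − ∇_{θ'} of M is zero — if and only if it vanishes for the single derivation
θ₀. -/
theorem result {A : Type v} {B M : Type u} [CommRing A] [CommRing B]
    [Algebra A B] (p : ℕ) [Fact p.Prime] [CharP B p]
    [AddCommGroup M] [Module B M] [Module A M] [IsScalarTower A B M] [Module.Finite B M] [Module.Free B M]
    (bΩ : Module.Basis (Fin 1) B (KaehlerDifferential A B)) (θ₀ : Derivation A B B)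
    (hθ₀ : θ₀.liftKaehlerDifferential (bΩ 0) = 1)
    (nabla : M →ₗ[A] M ⊗[B] KaehlerDifferential A B)
    (hc : Conn.IsConn (KaehlerDifferential.D A B) nabla) :
    (∀ θ θp : Derivation A B B, Conn.IsIterPow θ p θp → Conn.pCurv p nabla θ θp = 0) ↔
      (∀ θp : Derivation A B B, Conn.IsIterPow θ₀ p θp → Conn.pCurv p nabla θ₀ θp = 0) := by
  constructor
  · intro h θp hθp
    exact h θ₀ θp hθp
  · intro h θ θp hθp
    obtain ⟨θ₀p, hθ₀p⟩ := iter_derivation (A := A) p θ₀
    have h0 := h θ₀p hθ₀p
    set f : B := θ.liftKaehlerDifferential (bΩ 0) with hf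
    have hlift : θ.liftKaehlerDifferential = f • θ₀.liftKaehlerDifferential := by
      refine bΩ.ext fun i => ?_
      have hi : i = 0 := Subsingleton.elim _ _
      rw [hi, LinearMap.smul_apply, hθ₀, smul_eq_mul, mul_one]
    have hθ : ∀ b, θ b = f * θ₀ b := by
      intro b
      have h1 := Derivation.liftKaehlerDifferential_comp_D θ b
      rw [hlift, LinearMap.smul_apply, Derivation.liftKaehlerDifferential_comp_D, smul_eq_mul] at h1
      exact h1.symm
    -- the ℤ-derivation underlying θ₀
    let d : Derivation ℤ B B :=
      Derivation.mk' ((θ₀ : B →ₗ[A] B).toAddMonoidHom.toIntLinearMap) (fun a b => θ₀.leibniz a b)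
    have hd : ∀ b, d b = θ₀ b := fun b => rfl
    set c : B := (⇑(f • d))^[p - 1] f with hcdef
    -- Hochschild in End_A(B)
    have H1 := hochschild p (iot (A := A) (B := B) (M := B)) (θ₀ : B →ₗ[A] B) d (self_leibniz θ₀) f
    have hθlin : iot (A := A) (B := B) (M := B) f * (θ₀ : B →ₗ[A] B) = (θ : B →ₗ[A] B) := by
      ext x
      simp only [Module.End.mul_apply, iot_apply, smul_eq_mul]
      exact (hθ x).symm
    have hθp' : ∀ b, θp b = f ^ p * θ₀p b + c * θ₀ b := by
      intro b
      have h2 := LinearMap.congr_fun H1 b
      rw [hθlin] at h2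
      simp only [LinearMap.add_apply, Module.End.mul_apply, iot_apply, smul_eq_mul,
        Module.End.pow_apply] at h2
      rw [hθp b, hθ₀p b]
      exact h2
    have hliftp : θp.liftKaehlerDifferential =
        (f ^ p) • θ₀p.liftKaehlerDifferential + c • θ₀.liftKaehlerDifferential := by
      refine LinearMap.ext_on (KaehlerDifferential.span_range_derivation A B) ?_
      rintro _ ⟨b, rfl⟩
      rw [LinearMap.add_apply, LinearMap.smul_apply, LinearMap.smul_apply,
        Derivation.liftKaehlerDifferential_comp_D, Derivation.liftKaehlerDifferential_comp_D,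
        Derivation.liftKaehlerDifferential_comp_D, smul_eq_mul, smul_eq_mul]
      exact hθp' b
    -- Hochschild in End_A(M)
    set N : Module.End A M := Conn.alongDer nabla θ₀ with hN
    have H2 := hochschild p (iot (A := A) (B := B) (M := M)) N d (along_leibniz nabla hc θ₀) f
    have e1 : Conn.alongDer nabla θ = iot f * N := by
      show Conn.along nabla θ.liftKaehlerDifferential = _
      rw [hlift, along_smul]
      rfl
    have e2 : Conn.alongDer nabla θp = iot (f ^ p) * Conn.alongDer nabla θ₀p + iot c * N := by
      show Conn.along nabla θp.liftKaehlerDifferential = _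
      rw [hliftp, along_add, along_smul, along_smul]
      rfl
    have h0' : N ^ p = Conn.alongDer nabla θ₀p := by
      have h3 := h0
      unfold Conn.pCurv at h3
      exact sub_eq_zero.1 h3
    show Conn.alongDer nabla θ ^ p - Conn.alongDer nabla θp = 0
    rw [e1, e2, H2, h0']
    exact sub_self _

end Groth.Agent.S16794
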