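import Groth.Statements.S1683
import Groth.Agent.H9.BlowUpPullback
import Groth.Agent.H9.FactorPrincipal

set_option autoImplicit false
universe u
open CategoryTheory CategoryTheory.Limits AlgebraicGeometry TopologicalSpace
open SDiv

namespace Groth.Agent.S1683

/-- Let 𝓘, 𝓙 be quasi-coherent ideal sheaves on X, b : X' ⟶ X a blowing-up along 𝓘 and b' : X'' ⟶ X' a
blowing-up along the inverse image ideal of 𝓙. Then b' ≫ b : X'' ⟶ X is a blowing-up of X along the
product ideal 𝓘𝓙. -/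
theorem result {X X' X'' : Scheme.{u}} (𝓘 𝓙 : X.IdealSheafData) (b : X' ⟶ X) (hb : BlowUp.IsBlowUp b 𝓘)
    (b' : X'' ⟶ X') (hb' : BlowUp.IsBlowUp b' (𝓙.comap b)) : BlowUp.IsBlowUp (b' ≫ b) (𝓘 * 𝓙) := by
  constructor
  · rw [Groth.Agent.H9.comap_mul, Scheme.IdealSheafData.comap_comp,
      Scheme.IdealSheafData.comap_comp]
    exact Groth.Agent.H9.isEffCartierIdeal_mul
      (Groth.Agent.H9.isEffCartierIdeal_comap_of_isBlowUp (𝓙.comap b) (𝓘.comap b) b' hb' hb.1)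
      hb'.1
  · intro Y g hg
    rw [Groth.Agent.H9.comap_mul] at hg
    have hg₁ := Groth.Agent.H9.isEffCartierIdeal_of_mul_left hg
    have hg₂ := Groth.Agent.H9.isEffCartierIdeal_of_mul_right hg
    obtain ⟨h₁, hh₁, hu₁⟩ := hb.2 Y g hg₁
    have hg₂' : BlowUp.IsEffCartierIdeal ((𝓙.comap b).comap h₁) := by
      rw [← Scheme.IdealSheafData.comap_comp, hh₁]
      exact hg₂
    obtain ⟨h₂, hh₂, hu₂⟩ := hb'.2 Y h₁ hg₂'
    refine ⟨h₂, ?_, ?_⟩
    · show h₂ ≫ b' ≫ b = g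
      rw [← Category.assoc, hh₂, hh₁]
    · intro k hk
      have hk' : (k ≫ b') ≫ b = g := by rw [Category.assoc]; exact hk
      exact hu₂ k (hu₁ (k ≫ b') hk')

end Groth.Agent.S1683
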