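import Groth.Statements.S16833
import Groth.Agent.S10649
import Groth.Agent.H52.LocPOps
import Groth.Agent.H52.Charts
import Groth.Agent.H52.Points
import Groth.Agent.H52.EtLocalInst

set_option autoImplicit false
universe u
open AlgSp

namespace Groth.Agent.S16833

open CategoryTheory CategoryTheory.Limits AlgebraicGeometry AlgSp in
open Groth.Agent.H50 Groth.Agent.H52 in
/-- Let p : U → X and f : X → Y be morphisms of algebraic spaces over a scheme S with p etale and
surjective and f separated. If the composite U → Y is finite, then f is finite. -/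
theorem result {S : Scheme.{u}}
    {U X Y : AlgSp.Space S} (p : U ⟶ X) (f : X ⟶ Y)
    (hp : AlgSp.IsEtaleMor p.hom) (hps : AlgSp.IsSurjectiveMor p.hom)
    (hf : AlgSp.IsSeparatedMor f.hom) (h : AlgSp.IsFiniteMor (p ≫ f).hom) :
    AlgSp.IsFiniteMor f.hom := by
  have hU : IsAlgSpace U.obj := U.property
  have hX : IsAlgSpace X.obj := X.property
  have hY : IsAlgSpace Y.obj := Y.property
  have hprop := ((Groth.Agent.S10271.result (p ≫ f)).1 h).2
  have hucpf : IsUnivClosedMor (p.hom ≫ f.hom) := hprop.2.2
  -- (b) universally closed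
  have huc : IsUnivClosedMor f.hom := by
    intro Z Z' hZ g fst snd sq
    have sq2 : IsPullback (pullback.fst p.hom fst) (pullback.snd p.hom fst) p.hom fst :=
      IsPullback.of_hasPullback p.hom fst
    have big : IsPullback (pullback.fst p.hom fst) (pullback.snd p.hom fst ≫ snd) (p.hom ≫ f.hom) g :=
      sq2.paste_vert sq
    have hcl : IsClosedMap (Points.map (pullback.snd p.hom fst ≫ snd)) := hucpf hZ g _ _ big
    have hsurj : Function.Surjective (Points.map (pullback.snd p.hom fst)) := by
      intro z'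
      obtain ⟨u, hu⟩ := hps (Points.map fst z')
      obtain ⟨z'', -, hz''⟩ := Groth.Agent.H52.exists_point_of_isPullback sq2 u z' hu
      exact ⟨z'', hz''⟩
    show IsClosedMap (Points.map snd)
    intro C hC
    have himg : Points.map snd '' C =
        Points.map (pullback.snd p.hom fst ≫ snd) '' (Points.map (pullback.snd p.hom fst) ⁻¹' C) := by
      ext z
      constructor
      · rintro ⟨c, hc, rfl⟩
        obtain ⟨c'', rfl⟩ := hsurj c
        exact ⟨c'', hc, Points.map_comp _ _ _⟩
      · rintro ⟨c'', hc, rfl⟩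
        exact ⟨_, hc, (Points.map_comp _ _ _).symm⟩
    rw [himg]
    exact hcl _ (hC.preimage (Points.continuous_map _))
  -- (a) locally quasi-finite
  have hqf : LocP (@LocallyQuasiFinite ⊓ @LocallyOfFiniteType) f.hom := by
    obtain ⟨U0, φ0, hφ0e, hφ0s⟩ := hU.atlas
    have hφe : RepWith @Etale (φ0 ≫ p.hom) := hp φ0 hφ0e
    have hφs : RepWith @Surjective (φ0 ≫ p.hom) :=
      repWith_surjective_of_surjective_ofPt _ hφe.rep (by
        intro x
        obtain ⟨u, hu⟩ := hps x
        obtain ⟨u0, hu0⟩ := surjective_ofPt_of_surjective φ0 hφ0s u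
        refine ⟨u0, ?_⟩
        rw [← Points.map_ofPt, hu0, hu])
    refine locP_of_source_cover etLocal_lqf hY f.hom (φ0 ≫ p.hom) hφe hφs ?_
    have hfin : RepWith @IsFinite (p ≫ f).hom := (Groth.Agent.S10267.result (p ≫ f)).2.1 h
    haveI := (etLocal_lqf.{u}).mult
    have hlqf_pf : LocP (@LocallyQuasiFinite ⊓ @LocallyOfFiniteType) (p.hom ≫ f.hom) :=
      Groth.Agent.H50.locP_of_repWith (etLocal_lqf.{u}).etale
        (repWith_mono (fun _ _ g (hg : IsFinite g) => ⟨inferInstance, inferInstance⟩) hfin)
    have hφ0l : LocP (@LocallyQuasiFinite ⊓ @LocallyOfFiniteType) φ0 :=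
      Groth.Agent.H50.locP_of_repWith (etLocal_lqf.{u}).etale
        (repWith_mono (fun _ _ g (hg : Etale g) => (etLocal_lqf.{u}).etale g hg) hφ0e)
    rw [Category.assoc]
    exact locP_comp etLocal_lqf hU φ0 (p.hom ≫ f.hom) hφ0l hlqf_pf
  exact Groth.Agent.S10649.isFiniteMor_of_sep_uc_lqf f hf huc hqf

end Groth.Agent.S16833
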