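import Groth.Statements.S16836
import Mathlib

set_option autoImplicit false
universe u v
open scoped Classical
open AbVar

namespace Groth.Agent.S16836

open Polynomial UniqueFactorizationMonoid

theorem nf_map {K : Type u} {L : Type v} [Field K] [Field L] [Algebra K L]
    (f : K[X]) (hf : f ≠ 0) :
    normalizedFactors (f.map (algebraMap K L)) =
      (normalizedFactors f).bind (fun P => normalizedFactors (P.map (algebraMap K L))) := by
  have hlc : (algebraMap K L) f.leadingCoeff ≠ 0 := by
    simpa using leadingCoeff_ne_zero.mpr hf
  have hu : IsUnit (C (algebraMap K L f.leadingCoeff) : L[X]) :=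
    Polynomial.isUnit_C.mpr (IsUnit.mk0 _ hlc)
  have h0' : (0 : L[X]) ∉ (normalizedFactors f).map (Polynomial.map (algebraMap K L)) := by
    intro h
    obtain ⟨P, hP, hP0⟩ := Multiset.mem_map.mp h
    rw [Polynomial.map_eq_zero] at hP0
    exact zero_notMem_normalizedFactors f (hP0 ▸ hP)
  conv_lhs => rw [← Polynomial.leadingCoeff_mul_prod_normalizedFactors f]
  rw [Polynomial.map_mul, Polynomial.map_C, Polynomial.map_multiset_prod,
    normalizedFactors_mul hu.ne_zero (Multiset.prod_ne_zero h0'), normalizedFactors_of_isUnit hu,
    zero_add, normalizedFactors_multiset_prod _ h0', Multiset.map_map]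
  rfl

open Polynomial UniqueFactorizationMonoid in
/-- Let K ⊆ L be a field extension and f₁, f₂ non-zero polynomials in K[t]. For a field F and
polynomials g₁, g₂ over F put r_F(g₁, g₂) = Σ_P mult_P(g₁) · mult_P(g₂) · deg P, the sum running
over the monic irreducible polynomials P in F[t] (mult_P the multiplicity of P as an irreducible
factor). Assume K is perfect. Then r_K(f₁, f₂) = r_L(f₁, f₂): the number does not depend on the
field over which the factorisations are taken. (Perfectness of K cannot be dropped: for K = F_p(s),
L = K(s^{1/p}) and f₁ = f₂ = t^p − s the number is p over K and p² over L, since the irreducible t^p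
− s becomes a p-th power over L; the published statement has no restriction on K, and its proof
requires the relevant K[t]-modules to remain semisimple after base change, which holds when every
irreducible factor stays squarefree over L, in particular for K perfect.) -/
theorem result (K : Type u) (L : Type v) [Field K] [PerfectField K] [Field L] [Algebra K L]
    (f₁ f₂ : K[X]) (h₁ : f₁ ≠ 0) (h₂ : f₂ ≠ 0) :
    ∑ P ∈ (normalizedFactors (f₁.map (algebraMap K L))).toFinset,
        (normalizedFactors (f₁.map (algebraMap K L))).count P *
          (normalizedFactors (f₂.map (algebraMap K L))).count P * P.natDegree =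
      ∑ P ∈ (normalizedFactors f₁).toFinset,
        (normalizedFactors f₁).count P * (normalizedFactors f₂).count P * P.natDegree := by
  obtain ⟨i, hi⟩ : ∃ i : K →+* L, i = algebraMap K L := ⟨_, rfl⟩
  have hmem : ∀ {f : K[X]}, f ≠ 0 → ∀ P ∈ normalizedFactors f, Irreducible P ∧ P.Monic :=
    fun hf P hP =>
      have h := (Polynomial.mem_normalizedFactors_iff hf).mp hP
      ⟨h.1, h.2.1⟩
  have hnodup : ∀ P : K[X], Irreducible P → (normalizedFactors (P.map i)).Nodup := by
    intro P hP
    have hsep : (P.map i).Separable := (PerfectField.separable_of_irreducible hP).map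
    have hne : P.map i ≠ 0 := (Polynomial.map_ne_zero hP.ne_zero)
    exact (squarefree_iff_nodup_normalizedFactors hne).mp hsep.squarefree
  have hdisj : ∀ P P' : K[X], Irreducible P → P.Monic → Irreducible P' → P'.Monic → P ≠ P' →
      ∀ R, R ∈ normalizedFactors (P.map i) → R ∉ normalizedFactors (P'.map i) := by
    intro P P' hP hPm hP' hPm' hne R hR hR'
    have hcop : IsCoprime P P' := by
      rw [hP.coprime_iff_not_dvd]
      intro hdvd
      have hassoc : Associated P P' := hP.associated_of_dvd hP' hdvd
      exact hne (eq_of_monic_of_associated hPm hPm' hassoc)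
    have hcop' : IsCoprime (P.map i) (P'.map i) := hcop.map (Polynomial.mapRingHom i)
    have hu := hcop'.isUnit_of_dvd' (dvd_of_mem_normalizedFactors hR)
      (dvd_of_mem_normalizedFactors hR')
    exact (irreducible_of_normalized_factor R hR).not_isUnit hu
  have hC : ∀ (f : K[X]) (hf : f ≠ 0) (P : K[X]), Irreducible P → P.Monic →
      ∀ R ∈ normalizedFactors (P.map i),
      (normalizedFactors (f.map i)).count R = (normalizedFactors f).count P := by
    intro f hf P hP hPm R hR
    rw [hi, nf_map f hf, Multiset.count_bind, ← hi]
    have hall := hmem hf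
    generalize normalizedFactors f = m at hall
    induction m using Multiset.induction_on with
    | empty => simp
    | cons P' m ih =>
      rw [Multiset.map_cons, Multiset.sum_cons, Multiset.count_cons,
        ih (fun Q hQ => hall Q (Multiset.mem_cons_of_mem hQ)), add_comm]
      congr 1
      have hP' := hall P' (Multiset.mem_cons_self _ _)
      by_cases h : P = P'
      · subst h
        rw [if_pos rfl]
        exact Multiset.count_eq_one_of_mem (hnodup P hP) hR
      · rw [if_neg h]
        exact Multiset.count_eq_zero_of_notMem (hdisj P P' hP hPm hP'.1 hP'.2 h R hR)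
  rw [← hi]
  have hfin : (normalizedFactors (f₁.map i)).toFinset =
      (normalizedFactors f₁).toFinset.biUnion
        (fun P => (normalizedFactors (P.map i)).toFinset) := by
    ext R
    rw [hi, nf_map f₁ h₁]
    simp only [Multiset.mem_toFinset, Finset.mem_biUnion, Multiset.mem_bind]
  rw [hfin, Finset.sum_biUnion]
  · refine Finset.sum_congr rfl (fun P hP => ?_)
    rw [Multiset.mem_toFinset] at hP
    obtain ⟨hPi, hPm⟩ := hmem h₁ P hP
    have hterm : ∀ R ∈ (normalizedFactors (P.map i)).toFinset,
        (normalizedFactors (f₁.map i)).count R * (normalizedFactors (f₂.map i)).count R *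
          R.natDegree =
        (normalizedFactors f₁).count P * (normalizedFactors f₂).count P * R.natDegree := by
      intro R hR
      rw [Multiset.mem_toFinset] at hR
      rw [hC f₁ h₁ P hPi hPm R hR, hC f₂ h₂ P hPi hPm R hR]
    rw [Finset.sum_congr rfl hterm, ← Finset.mul_sum]
    congr 1
    have hmon : (P.map i).Monic := hPm.map i
    have hprod : (normalizedFactors (P.map i)).prod = P.map i := by
      rw [prod_normalizedFactors_eq hmon.ne_zero, hmon.normalize_eq_self]
    rw [Finset.sum_eq_multiset_sum, Multiset.toFinset_val,
      Multiset.dedup_eq_self.mpr (hnodup P hPi),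
      ← Polynomial.natDegree_multiset_prod_of_monic _
        (fun R hR => ((Polynomial.mem_normalizedFactors_iff hmon.ne_zero).mp hR).2.1),
      hprod, hPm.natDegree_map]
  · intro P hP P' hP' hne
    rw [Function.onFun, Finset.disjoint_left]
    intro R hR hR'
    simp only [Finset.mem_coe, Multiset.mem_toFinset] at hP hP' hR hR'
    exact hdisj P P' (hmem h₁ P hP).1 (hmem h₁ P hP).2 (hmem h₁ P' hP').1 (hmem h₁ P' hP').2
      hne R hR hR'

end Groth.Agent.S16836
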