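import Groth.Statements.S1684
import Groth.Agent.H9.SpreadPrincipal
import Mathlib.RingTheory.UniqueFactorizationDomain.Ideal
import Mathlib.RingTheory.Ideal.Height
import Mathlib.AlgebraicGeometry.Properties

set_option autoImplicit false
universe u
open CategoryTheory CategoryTheory.Limits AlgebraicGeometry TopologicalSpace
open SDiv

namespace Groth.Agent.S1684

/-- Let X be a locally Noetherian scheme and 𝓘 a quasi-coherent ideal sheaf whose closed subscheme D is
integral, of codimension 1 in X (the local ring of X at the generic point of D has dimension 1), and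
such that the local ring of X at every point of D is a unique factorisation domain. Then 𝓘 is the
ideal sheaf of an effective Cartier divisor. -/
theorem result (X : Scheme.{u}) [IsLocallyNoetherian X] (𝓘 : X.IdealSheafData)
    [IsIntegral 𝓘.subscheme]
    (hcodim : ringKrullDim (X.presheaf.stalk (𝓘.subschemeι (genericPoint ↥𝓘.subscheme))) = 1)
    (hufd : ∀ x : ↥X, x ∈ 𝓘.support → IsDomain (X.presheaf.stalk x) ∧ UniqueFactorizationMonoid (X.presheaf.stalk x)) :
    BlowUp.IsEffCartierIdeal 𝓘 := by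
  intro x
  by_cases hx : x ∈ 𝓘.support
  swap
  · -- away from the support the ideal is the unit ideal near `x`
    obtain ⟨U, hU, hxU, -⟩ := exists_isAffineOpen_mem_and_subset (x := x) (U := ⊤) trivial
    have hnz : x ∉ X.zeroLocus (U := U) (𝓘.ideal ⟨U, hU⟩ : Set Γ(X, U)) := fun h =>
      hx ((Scheme.IdealSheafData.mem_support_iff_of_mem (U := ⟨U, hU⟩) hxU).2 h)
    rw [Scheme.mem_zeroLocus_iff] at hnz
    push Not at hnz
    obtain ⟨f, hfI, hxf⟩ := hnz
    have := hU.isLocalization_basicOpen f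
    refine ⟨X.affineBasicOpen (U := ⟨U, hU⟩) f, hxf, 1, one_mem _, ?_⟩
    rw [Ideal.span_singleton_one, ← 𝓘.map_ideal_basicOpen ⟨U, hU⟩ f]
    apply Ideal.eq_top_of_isUnit_mem _ (Ideal.mem_map_of_mem _ hfI)
    exact IsLocalization.Away.algebraMap_isUnit f
  · obtain ⟨U, hU, hxU, -⟩ := exists_isAffineOpen_mem_and_subset (x := x) (U := ⊤) trivial
    have hN : IsNoetherianRing Γ(X, U) := IsLocallyNoetherian.component_noetherian ⟨U, hU⟩
    set ι := 𝓘.subschemeι with hι
    obtain ⟨d, hd⟩ : x ∈ Set.range ι := by rw [hι, 𝓘.range_subschemeι]; exact hx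
    set ξ := genericPoint ↥𝓘.subscheme with hξ
    have hdU : d ∈ ι ⁻¹ᵁ U := by change ι d ∈ U; rw [hd]; exact hxU
    have : Nonempty ↥(ι ⁻¹ᵁ U) := ⟨⟨d, hdU⟩⟩
    have hdom : IsDomain Γ(𝓘.subscheme, ι ⁻¹ᵁ U) :=
      @IsIntegral.component_integral _ _ (ι ⁻¹ᵁ U) ⟨⟨d, hdU⟩⟩
    set I := 𝓘.ideal ⟨U, hU⟩ with hI
    have hker : RingHom.ker (ι.app U).hom = I := 𝓘.ker_subschemeι_app ⟨U, hU⟩
    have hIprime : I.IsPrime := by rw [← hker]; exact RingHom.ker_isPrime _
    -- the generic point lies over `U`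
    have hξU : ξ ∈ ι ⁻¹ᵁ U :=
      ((genericPoint_spec ↥𝓘.subscheme).mem_open_set_iff (ι ⁻¹ᵁ U).isOpen).2
        ⟨d, trivial, hdU⟩
    have hξU' : ι ξ ∈ U := hξU
    -- the prime of the generic point is `I`
    have hq : (hU.primeIdealOf ⟨ι ξ, hξU'⟩).asIdeal = I := by
      apply le_antisymm
      · intro f hf
        rw [Groth.Agent.H9.mem_primeIdealOf_iff] at hf
        have hξf : ξ ∉ ι ⁻¹ᵁ (X.basicOpen f) := hf
        rw [Scheme.preimage_basicOpen] at hξf
        have hbot : 𝓘.subscheme.basicOpen (ι.app U f) = ⊥ := by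
          by_contra hne
          obtain ⟨y, hy⟩ := (Opens.ne_bot_iff_nonempty _).1 hne
          exact hξf (((genericPoint_spec ↥𝓘.subscheme).mem_open_set_iff
            (𝓘.subscheme.basicOpen (ι.app U f)).isOpen).2 ⟨y, trivial, hy⟩)
        rw [basicOpen_eq_bot_iff] at hbot
        rw [← hker]
        exact hbot
      · intro f hf
        rw [Groth.Agent.H9.mem_primeIdealOf_iff]
        have hsupp : ι ξ ∈ 𝓘.support := by
          rw [← SetLike.mem_coe, ← 𝓘.range_subschemeι]; exact ⟨ξ, rfl⟩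
        have := (Scheme.IdealSheafData.mem_support_iff_of_mem (U := ⟨U, hU⟩) hξU').1 hsupp
        rw [Scheme.mem_zeroLocus_iff] at this
        exact this f hf
    -- height of `I`
    have hheight : I.height = 1 := by
      let : Algebra Γ(X, U) (X.presheaf.stalk (ι ξ)) :=
        X.presheaf.algebra_section_stalk ⟨ι ξ, hξU'⟩
      have : IsLocalization.AtPrime (X.presheaf.stalk (ι ξ))
          (hU.primeIdealOf ⟨ι ξ, hξU'⟩).asIdeal := hU.isLocalization_stalk ⟨ι ξ, hξU'⟩
      have h1 := IsLocalization.AtPrime.ringKrullDim_eq_height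
        (hU.primeIdealOf ⟨ι ξ, hξU'⟩).asIdeal (X.presheaf.stalk (ι ξ))
      rw [hcodim] at h1
      have h2 : (hU.primeIdealOf ⟨ι ξ, hξU'⟩).asIdeal.height = 1 := by
        have : ((1 : ℕ∞) : WithBot ℕ∞) = ((hU.primeIdealOf ⟨ι ξ, hξU'⟩).asIdeal.height : WithBot ℕ∞) := by
          rw [← h1]; rfl
        exact (WithBot.coe_injective this).symm
      simp only [hq] at h2
      exact h2
    -- the local ring at `x`
    obtain ⟨hAdom, hAufd⟩ := hufd x hx
    let : Algebra Γ(X, U) (X.presheaf.stalk x) := X.presheaf.algebra_section_stalk ⟨x, hxU⟩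
    have : IsLocalization.AtPrime (X.presheaf.stalk x) (hU.primeIdealOf ⟨x, hxU⟩).asIdeal :=
      hU.isLocalization_stalk ⟨x, hxU⟩
    have hle : I ≤ (hU.primeIdealOf ⟨x, hxU⟩).asIdeal := by
      intro f hf
      rw [Groth.Agent.H9.mem_primeIdealOf_iff]
      have := (Scheme.IdealSheafData.mem_support_iff_of_mem (U := ⟨U, hU⟩) hxU).1 hx
      rw [Scheme.mem_zeroLocus_iff] at this
      exact this f hf
    have hdisj : Disjoint ((hU.primeIdealOf ⟨x, hxU⟩).asIdeal.primeCompl : Set Γ(X, U))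
        (I : Set Γ(X, U)) :=
      Set.disjoint_left.2 fun a ha haI => ha (hle haI)
    have hJprime : (I.map (algebraMap Γ(X, U) (X.presheaf.stalk x))).IsPrime :=
      IsLocalization.isPrime_of_isPrime_disjoint _ _ I hIprime hdisj
    have hJheight : (I.map (algebraMap Γ(X, U) (X.presheaf.stalk x))).height = 1 := by
      rw [IsLocalization.height_map_of_disjoint _ I hdisj, hheight]
    have hJne := Ideal.ne_bot_of_height_eq_one hJheight
    obtain ⟨p, hpJ, hp⟩ := hJprime.exists_mem_prime_of_ne_bot hJne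
    have hJ := Ideal.eq_span_singleton_of_height_eq_one hJheight hpJ hp
    obtain ⟨V, hxV, -, f, hf, hfI⟩ := Groth.Agent.H9.exists_affine_principal_of_stalk 𝓘 ⟨U, hU⟩ x hxU p
      (mem_nonZeroDivisors_of_ne_zero hp.ne_zero) hJ
    exact ⟨V, hxV, f, hf, hfI⟩

end Groth.Agent.S1684
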