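import Groth.Statements.S16860
import Groth.Agent.H65.GerbeFlat

set_option autoImplicit false
universe u
open CategoryTheory AlgebraicGeometry
open Gerb

namespace Groth.Agent.S16860


/-- For a morphism f of algebraic stacks, the source is a gerbe over the target along f if and only if f
and its diagonal are both surjective, flat and locally of finite presentation. -/
theorem result
    (S : Scheme.{u}) (𝒳 𝒴 : AlgSt.Cat S)
    (h𝒳 : AlgSt.IsAlgStack Scheme.fppfPrecoverage 𝒳) (h𝒴 : AlgSt.IsAlgStack Scheme.fppfPrecoverage 𝒴)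
    (f : 𝒳 ⥤ᵇ 𝒴) :
    Gerb.IsGerbeOver (QuotSh.J Scheme.fppfPrecoverage S) f ↔
      (AlgSt.IsSurjective f ∧ AlgSt.LocQ (AlgSp.LocP @Flat) f ∧
        AlgSt.LocQ (AlgSp.LocP @LocallyOfFinitePresentation) f) ∧
      (AlgSt.IsSurjective (FibCat.diag f) ∧ AlgSt.LocQ (AlgSp.LocP @Flat) (FibCat.diag f) ∧
        AlgSt.LocQ (AlgSp.LocP @LocallyOfFinitePresentation) (FibCat.diag f)) := by
  have hff := Groth.Agent.H32.InertiaSt.isAlgStack_fp_self h𝒳 h𝒴 f
  have hrep1 := Groth.Agent.H32.InertiaSt.repByAlgSp1_diag' h𝒳 h𝒴 f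
  constructor
  · intro hf
    obtain ⟨hd1, hd2, hd3⟩ := Groth.Agent.H65.GerbeFlat.diag_with h𝒳 h𝒴 f hf
    refine ⟨⟨Groth.Agent.H65.GerbeHomeo.surjective_of_locSurjObj h𝒳.isStack.1 f hf.1, ?_, ?_⟩,
      hd3, ?_, ?_⟩
    · exact Groth.Agent.H65.GerbeFlat.locQ_of_gerbe _ Groth.Agent.H65.SmoothST.isSmoothLocalST_flat
        Groth.Agent.H32.GoodMore.good_flat
        (fun g h hg => (Groth.Agent.S10557.result g h hg).1)
        Groth.Agent.H65.LocQRep.flat_of_smooth h𝒳 h𝒴 f hf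
    · exact Groth.Agent.H65.GerbeFlat.locQ_of_gerbe _ Groth.Agent.H65.SmoothST.isSmoothLocalST_lfp
        Groth.Agent.H32.GoodMore.good_lfp
        (fun g h hg => (Groth.Agent.S10557.result g h hg).2.2)
        Groth.Agent.H65.LocQRep.lfp_of_smooth h𝒳 h𝒴 f hf
    · exact (Groth.Agent.S12993.result S _ Groth.Agent.H65.SmoothST.isSmoothLocalST_flat
        Groth.Agent.H32.GoodMore.good_flat.bc Groth.Agent.H32.GoodMore.good_flat.loc 𝒳 _ h𝒳 hff
        (FibCat.diag f) hrep1).mpr hd1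
    · exact (Groth.Agent.S12993.result S _ Groth.Agent.H65.SmoothST.isSmoothLocalST_lfp
        Groth.Agent.H32.GoodMore.good_lfp.bc Groth.Agent.H32.GoodMore.good_lfp.loc 𝒳 _ h𝒳 hff
        (FibCat.diag f) hrep1).mpr hd2
  · rintro ⟨⟨hf1, hf2, hf3⟩, hd1, hd2, hd3⟩
    exact ⟨Groth.Agent.H65.GerbeFlat.locSurjObj_of_fppf h𝒳 h𝒴 f hf1 hf2 hf3,
      Groth.Agent.H65.GerbeFlat.locSurjHom_of_diag_fppf h𝒳 h𝒴 f hd1 hd2 hd3⟩

end Groth.Agent.S16860
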