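import Groth.Statements.S16862
import Groth.Agent.H65.GerbeFlat
import Groth.Agent.S12779

set_option autoImplicit false
universe u
open CategoryTheory AlgebraicGeometry
open Gerb

namespace Groth.Agent.S16862


/-- If a morphism f of algebraic stacks makes its source a gerbe over its target, then the relative
inertia of f is flat and locally of finite presentation over the source. -/
theorem result
    (S : Scheme.{u}) (𝒳 𝒴 : AlgSt.Cat S)
    (h𝒳 : AlgSt.IsAlgStack Scheme.fppfPrecoverage 𝒳) (h𝒴 : AlgSt.IsAlgStack Scheme.fppfPrecoverage 𝒴)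
    (f : 𝒳 ⥤ᵇ 𝒴) (hf : Gerb.IsGerbeOver (QuotSh.J Scheme.fppfPrecoverage S) f) :
    AlgSt.LocQ (AlgSp.LocP @Flat) (FibCat.inertiaToBase f) ∧
      AlgSt.LocQ (AlgSp.LocP @LocallyOfFinitePresentation) (FibCat.inertiaToBase f) := by
  have hff := Groth.Agent.H32.InertiaSt.isAlgStack_fp_self h𝒳 h𝒴 f
  have hI := Groth.Agent.H32.InertiaSt.isAlgStack_inertia h𝒳 h𝒴 f
  obtain ⟨hd1, hd2, -⟩ := Groth.Agent.H65.GerbeFlat.diag_with h𝒳 h𝒴 f hf
  have h1 : AlgSt.RepByAlgSpWith (AlgSp.LocP @Flat) (FibCat.inertiaToBase f) :=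
    (Groth.Agent.H32.InertiaSt.inertiaToBase_with_iff h𝒳 h𝒴 f _).mpr
      (Groth.Agent.S12779.result h𝒳.isStack.1 hff.isStack.1 h𝒳.isStack.1 _ (FibCat.diag f)
        (FibCat.diag f) hd1)
  have h2 : AlgSt.RepByAlgSpWith (AlgSp.LocP @LocallyOfFinitePresentation)
      (FibCat.inertiaToBase f) :=
    (Groth.Agent.H32.InertiaSt.inertiaToBase_with_iff h𝒳 h𝒴 f _).mpr
      (Groth.Agent.S12779.result h𝒳.isStack.1 hff.isStack.1 h𝒳.isStack.1 _ (FibCat.diag f)
        (FibCat.diag f) hd2)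
  have hrep1 : AlgSt.RepByAlgSp1 (FibCat.inertiaToBase f) :=
    Groth.Agent.H65.LocQ.rep1_of_with h1
  exact ⟨(Groth.Agent.S12993.result S _ Groth.Agent.H65.SmoothST.isSmoothLocalST_flat
      Groth.Agent.H32.GoodMore.good_flat.bc Groth.Agent.H32.GoodMore.good_flat.loc _ 𝒳 hI h𝒳
      (FibCat.inertiaToBase f) hrep1).mpr h1,
    (Groth.Agent.S12993.result S _ Groth.Agent.H65.SmoothST.isSmoothLocalST_lfp
      Groth.Agent.H32.GoodMore.good_lfp.bc Groth.Agent.H32.GoodMore.good_lfp.loc _ 𝒳 hI h𝒳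
      (FibCat.inertiaToBase f) hrep1).mpr h2⟩

end Groth.Agent.S16862
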