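import Groth.Statements.S16863
import Groth.Agent.H65.GerbeFlat
import Groth.Agent.H32.CompMap

set_option autoImplicit false
universe u
open CategoryTheory AlgebraicGeometry
open Gerb

namespace Groth.Agent.S16863


/-- If f makes 𝒳 a gerbe over 𝒴, then for morphisms x₁ : T₁ → 𝒳, x₂ : T₂ → 𝒳 from algebraic spaces the
comparison morphism T₁ ×_𝒳 T₂ → T₁ ×_𝒴 T₂ (induced by the two projections and the 2-isomorphism
obtained by applying f to the canonical one) is surjective, flat and locally of finite presentation. -/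
theorem result
    (S : Scheme.{u}) (𝒳 𝒴 : AlgSt.Cat S)
    (h𝒳 : AlgSt.IsAlgStack Scheme.fppfPrecoverage 𝒳) (h𝒴 : AlgSt.IsAlgStack Scheme.fppfPrecoverage 𝒴)
    (f : 𝒳 ⥤ᵇ 𝒴) (hf : Gerb.IsGerbeOver (QuotSh.J Scheme.fppfPrecoverage S) f)
    (T₁ T₂ : AlgSp.Space S) (x₁ : AlgSt.ofSp T₁.obj ⥤ᵇ 𝒳) (x₂ : AlgSt.ofSp T₂.obj ⥤ᵇ 𝒳)
    (e : BasedFunctor.comp (FibCat.fpFst x₁ x₂) (BasedFunctor.comp x₁ f) ≅
      BasedFunctor.comp (FibCat.fpSnd x₁ x₂) (BasedFunctor.comp x₂ f))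
    (he : ∀ a, e.hom.toNatTrans.app a = f.map a.obj.iso.hom) :
    AlgSt.IsSurjective (FibCat.fpLift (FibCat.fpFst x₁ x₂) (FibCat.fpSnd x₁ x₂) e) ∧
      AlgSt.LocQ (AlgSp.LocP @Flat) (FibCat.fpLift (FibCat.fpFst x₁ x₂) (FibCat.fpSnd x₁ x₂) e) ∧
      AlgSt.LocQ (AlgSp.LocP @LocallyOfFinitePresentation)
        (FibCat.fpLift (FibCat.fpFst x₁ x₂) (FibCat.fpSnd x₁ x₂) e) := by
  have iX := h𝒳.isStack.1
  have iY := h𝒴.isStack.1
  have hT₁ := Groth.Agent.H32.AtlasRep.isAlgStack_ofSp T₁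
  have hT₂ := Groth.Agent.H32.AtlasRep.isAlgStack_ofSp T₂
  have hff := Groth.Agent.H32.InertiaSt.isAlgStack_fp_self h𝒳 h𝒴 f
  have hrepΔ := Groth.Agent.H32.InertiaSt.repByAlgSp1_diag' h𝒳 h𝒴 f
  have hsrc : AlgSt.IsAlgStack Scheme.fppfPrecoverage (FibCat.fp x₁ x₂) :=
    Groth.Agent.H32.AlgStackFp.isAlgStack_fp iX h𝒳.diag hT₁ hT₂ x₁ x₂
  have htgt : AlgSt.IsAlgStack Scheme.fppfPrecoverage
      (FibCat.fp (BasedFunctor.comp x₁ f) (BasedFunctor.comp x₂ f)) :=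
    Groth.Agent.H32.AlgStackFp.isAlgStack_fp iY h𝒴.diag hT₁ hT₂ _ _
  obtain ⟨hd1, hd2, hd3⟩ := Groth.Agent.H65.GerbeFlat.diag_with h𝒳 h𝒴 f hf
  have hd3' := (Groth.Agent.S12819.result h𝒳 hff (FibCat.diag f) hrepΔ).mp hd3
  have c1 := Groth.Agent.H32.CompMap.with_compMap x₁ x₂ f e he _ hT₁.isStack.1 hT₂.isStack.1
    iX iY hd1
  have c2 := Groth.Agent.H32.CompMap.with_compMap x₁ x₂ f e he _ hT₁.isStack.1 hT₂.isStack.1
    iX iY hd2
  have c3 := Groth.Agent.H32.CompMap.with_compMap x₁ x₂ f e he _ hT₁.isStack.1 hT₂.isStack.1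
    iX iY hd3'
  have hrep1 := Groth.Agent.H65.LocQ.rep1_of_with c1
  exact ⟨(Groth.Agent.S12819.result hsrc htgt _ hrep1).mpr c3,
    (Groth.Agent.S12993.result S _ Groth.Agent.H65.SmoothST.isSmoothLocalST_flat
      Groth.Agent.H32.GoodMore.good_flat.bc Groth.Agent.H32.GoodMore.good_flat.loc _ _ hsrc htgt
      _ hrep1).mpr c1,
    (Groth.Agent.S12993.result S _ Groth.Agent.H65.SmoothST.isSmoothLocalST_lfp
      Groth.Agent.H32.GoodMore.good_lfp.bc Groth.Agent.H32.GoodMore.good_lfp.loc _ _ hsrc htgt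
      _ hrep1).mpr c2⟩

end Groth.Agent.S16863
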