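import Groth.Statements.S16865
import Groth.Agent.H65.GerbeDesc

set_option autoImplicit false
universe u
open CategoryTheory AlgebraicGeometry
open Gerb

namespace Groth.Agent.S16865

open FibCat Groth.Agent.H32.FibProd Groth.Agent.H65.GerbeDesc Groth.Agent.H65.FieldMono

/-- Being a gerbe descends along a surjective, flat, locally finitely presented base change: if g : 𝒴' →
𝒴 is such a morphism of algebraic stacks and 𝒴' ×_𝒴 𝒳 is a gerbe over 𝒴' along the first projection,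
then 𝒳 is a gerbe over 𝒴 along f. -/
theorem result
    (S : Scheme.{u}) (𝒳 𝒴 𝒴' : AlgSt.Cat S)
    (h𝒳 : AlgSt.IsAlgStack Scheme.fppfPrecoverage 𝒳) (h𝒴 : AlgSt.IsAlgStack Scheme.fppfPrecoverage 𝒴)
    (h𝒴' : AlgSt.IsAlgStack Scheme.fppfPrecoverage 𝒴')
    (f : 𝒳 ⥤ᵇ 𝒴) (g : 𝒴' ⥤ᵇ 𝒴)
    (hg₁ : AlgSt.IsSurjective g) (hg₂ : AlgSt.LocQ (AlgSp.LocP @Flat) g)
    (hg₃ : AlgSt.LocQ (AlgSp.LocP @LocallyOfFinitePresentation) g)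
    (h : Gerb.IsGerbeOver (QuotSh.J Scheme.fppfPrecoverage S) (FibCat.fpFst g f)) :
    Gerb.IsGerbeOver (QuotSh.J Scheme.fppfPrecoverage S) f := by
  have iX := h𝒳.isStack.1
  have iY := h𝒴.isStack.1
  have iY' := h𝒴'.isStack.1
  obtain ⟨hO, hH⟩ := h
  refine ⟨?_, ?_⟩
  · intro y
    let R : Sieve (𝒴.p.obj y) :=
      { arrows := fun V h => ∃ (x : 𝒳.obj) (m : f.obj x ⟶ y), 𝒴.p.IsHomLift h m
        downward_closed := by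
          rintro V V' h ⟨x, m, hm⟩ k
          have hx : 𝒳.p.obj x = V := (f.w_obj x).symm.trans (IsHomLift.domain_eq 𝒴.p h m)
          obtain ⟨x', φ, hφ⟩ := exists_lift_of_eq 𝒳.p iX hx k
          exact ⟨x', f.map φ ≫ m, inferInstance⟩ }
    refine ⟨R, ?_, fun V h hh => hh⟩
    obtain ⟨y', w, τ, h1, h2, h3, h4⟩ := exists_fppf_lift' h𝒴' h𝒴 g hg₁ hg₂ hg₃ y _ rfl
    obtain ⟨R', hR', hR'2⟩ := hO y'
    refine mem_J_of_comp w h1 h2 h3 R R' hR' ?_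
    intro V v hv
    obtain ⟨ξ, m, hm⟩ := hR'2 v hv
    have hξ : 𝒴.p.IsHomLift (𝟙 (𝒴'.p.obj ξ.obj.fst)) ξ.obj.iso.hom := fp_iso_isHomLift g f ξ
    have hV : 𝒴'.p.obj ((fpFst g f).obj ξ) = V := IsHomLift.domain_eq 𝒴'.p v m
    have hξ' : 𝒴.p.IsHomLift (𝟙 V) ξ.obj.iso.inv := by
      have := isHomLift_id_of_eq 𝒴.p hV _ hξ
      infer_instance
    have hgm : 𝒴.p.IsHomLift v (g.map m) := inferInstance
    refine ⟨ξ.obj.snd, ξ.obj.iso.inv ≫ g.map m ≫ τ, ?_⟩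
    have hgm2 : 𝒴.p.IsHomLift (v ≫ w) (g.map m ≫ τ) := inferInstance
    exact lift_id_comp _ _ _ _ hξ' hgm2
  · intro x x' b hb
    let R : Sieve (𝒳.p.obj x) :=
      { arrows := fun V h => ∃ (x₀ : 𝒳.obj) (φ : x₀ ⟶ x) (ψ : x₀ ⟶ x'),
          𝒳.p.IsHomLift h φ ∧ 𝒳.p.IsHomLift h ψ ∧ f.map φ ≫ b = f.map ψ
        downward_closed := by
          rintro V V' h ⟨x₀, φ, ψ, hφ, hψ, e⟩ k
          have hx : 𝒳.p.obj x₀ = V := IsHomLift.domain_eq 𝒳.p h φ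
          obtain ⟨x₁, κ, hκ⟩ := exists_lift_of_eq 𝒳.p iX hx k
          refine ⟨x₁, κ ≫ φ, κ ≫ ψ, inferInstance, inferInstance, ?_⟩
          rw [f.map_comp, Category.assoc, e, ← f.map_comp] }
    refine ⟨R, ?_, fun V h hh => hh⟩
    have hfx : 𝒴.p.obj (f.obj x) = 𝒳.p.obj x := f.w_obj x
    obtain ⟨y', w, τ, h1, h2, h3, h4⟩ :=
      exists_fppf_lift' h𝒴' h𝒴 g hg₁ hg₂ hg₃ (f.obj x) (𝒳.p.obj x) hfx
    obtain ⟨xW, φ₀, hφ₀⟩ := exists_lift_of_eq 𝒳.p iX (rfl : 𝒳.p.obj x = 𝒳.p.obj x) w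
    have hx' : 𝒳.p.obj x' = 𝒳.p.obj x :=
      (f.w_obj x').symm.trans (IsHomLift.codomain_eq 𝒴.p (𝟙 (𝒳.p.obj x)) b)
    obtain ⟨xW', φ₀', hφ₀'⟩ := exists_lift_of_eq 𝒳.p iX hx' w
    have hf1 : 𝒴.p.IsHomLift w (f.map φ₀) := inferInstance
    have hf2 : 𝒴.p.IsHomLift w (f.map φ₀') := inferInstance
    have sc1 : 𝒴.p.IsStronglyCartesian w (f.map φ₀) := sc_of_isFibGrpd 𝒴.p iY w (f.map φ₀)
    have sc2 : 𝒴.p.IsStronglyCartesian w (f.map φ₀') := sc_of_isFibGrpd 𝒴.p iY w (f.map φ₀')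
    have hτb : 𝒴.p.IsHomLift w (τ ≫ b) := lift_comp_id _ _ _ _ h4 hb
    obtain ⟨σ, hσl, hσ⟩ : ∃ σ : g.obj y' ⟶ f.obj xW,
        𝒴.p.IsHomLift (𝟙 (𝒴'.p.obj y')) σ ∧ σ ≫ f.map φ₀ = τ :=
      ⟨Functor.IsCartesian.map 𝒴.p w (f.map φ₀) τ, inferInstance,
        Functor.IsCartesian.fac 𝒴.p w (f.map φ₀) τ⟩
    obtain ⟨σ', hσl', hσ'⟩ : ∃ σ' : g.obj y' ⟶ f.obj xW',
        𝒴.p.IsHomLift (𝟙 (𝒴'.p.obj y')) σ' ∧ σ' ≫ f.map φ₀' = τ ≫ b :=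
      ⟨Functor.IsCartesian.map 𝒴.p w (f.map φ₀') (τ ≫ b), inferInstance,
        Functor.IsCartesian.fac 𝒴.p w (f.map φ₀') (τ ≫ b)⟩
    have iσ : IsIso σ := isIso_of_isFibGrpd 𝒴.p iY (𝟙 (𝒴'.p.obj y')) σ
    have iσ' : IsIso σ' := isIso_of_isFibGrpd 𝒴.p iY (𝟙 (𝒴'.p.obj y')) σ'
    let ξ : (fp g f).obj := mkObj g f y' xW (asIso σ) hσl
    let ξ' : (fp g f).obj := mkObj g f y' xW' (asIso σ') hσl'
    have hid : 𝒴'.p.IsHomLift (𝟙 ((fp g f).p.obj ξ))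
        (𝟙 y' : (fpFst g f).obj ξ ⟶ (fpFst g f).obj ξ') :=
      inferInstanceAs (𝒴'.p.IsHomLift (𝟙 (𝒴'.p.obj y')) (𝟙 y'))
    obtain ⟨R', hR', hR'2⟩ := hH ξ ξ' (𝟙 y') hid
    refine mem_J_of_comp w h1 h2 h3 R R' hR' ?_
    intro V v hv
    obtain ⟨ξ₀, Φ, Ψ, hΦ, hΨ, e⟩ := hR'2 v hv
    have e' : Φ.hom.fst = Ψ.hom.fst := (Category.comp_id Φ.hom.fst).symm.trans e
    have wΦ : g.map Φ.hom.fst ≫ σ = ξ₀.obj.iso.hom ≫ f.map Φ.hom.snd := Φ.hom.w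
    have wΨ : g.map Ψ.hom.fst ≫ σ' = ξ₀.obj.iso.hom ≫ f.map Ψ.hom.snd := Ψ.hom.w
    have hΦ2 : 𝒳.p.IsHomLift v Φ.hom.snd := fp_isHomLift_snd' g f v Φ (h := hΦ)
    have hΨ2 : 𝒳.p.IsHomLift v Ψ.hom.snd := fp_isHomLift_snd' g f v Ψ (h := hΨ)
    obtain ⟨c, a, a', ha, ha', wa, wa'⟩ : ∃ (c : ξ₀.obj.fst ⟶ y') (a : ξ₀.obj.snd ⟶ xW)
        (a' : ξ₀.obj.snd ⟶ xW'), 𝒳.p.IsHomLift v a ∧ 𝒳.p.IsHomLift v a' ∧
        g.map c ≫ σ = ξ₀.obj.iso.hom ≫ f.map a ∧ g.map c ≫ σ' = ξ₀.obj.iso.hom ≫ f.map a' :=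
      ⟨Φ.hom.fst, Φ.hom.snd, Ψ.hom.snd, hΦ2, hΨ2, wΦ, e' ▸ wΨ⟩
    refine ⟨ξ₀.obj.snd, a ≫ φ₀, a' ≫ φ₀', inferInstance, inferInstance, ?_⟩
    rw [← cancel_epi ξ₀.obj.iso.hom, f.map_comp, f.map_comp]
    calc ξ₀.obj.iso.hom ≫ (f.map a ≫ f.map φ₀) ≫ b
        = (ξ₀.obj.iso.hom ≫ f.map a) ≫ f.map φ₀ ≫ b := by simp
      _ = (g.map c ≫ σ) ≫ f.map φ₀ ≫ b := by rw [wa]
      _ = g.map c ≫ τ ≫ b := by rw [Category.assoc, ← Category.assoc σ, hσ]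
      _ = g.map c ≫ σ' ≫ f.map φ₀' := by rw [hσ']
      _ = (ξ₀.obj.iso.hom ≫ f.map a') ≫ f.map φ₀' := by rw [← wa', Category.assoc]
      _ = ξ₀.obj.iso.hom ≫ f.map a' ≫ f.map φ₀' := by simp

end Groth.Agent.S16865
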