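import Groth.Statements.S16867
import Groth.Agent.H65.GerbeAut

set_option autoImplicit false
universe u
open CategoryTheory AlgebraicGeometry
open Gerb

namespace Groth.Agent.S16867


/-- Let π : 𝒳 → U make the algebraic stack 𝒳 a gerbe over the scheme U, let x be a section of π, and let
G be a group scheme over U representing the automorphism functor of x. Then G is flat and locally of
finite presentation over U. (Stated for U a scheme and the automorphism group a scheme; in general
both are algebraic spaces.) -/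
theorem result
    (S : Scheme.{u}) (U : Over S) (𝒳 : AlgSt.Cat S) (h𝒳 : AlgSt.IsAlgStack Scheme.fppfPrecoverage 𝒳)
    (π : 𝒳 ⥤ᵇ FibCat.overCat U) (hπ : Gerb.IsGerbeOver (QuotSh.J Scheme.fppfPrecoverage S) π)
    (x : FibCat.overCat U ⥤ᵇ 𝒳) (e : BasedFunctor.comp x π ≅ BasedFunctor.id (FibCat.overCat U))
    (G : Over U.left) [GrpObj G] (r : Gerb.AutRep x (Gerb.ptsGrp U G)) :
    Flat G.hom ∧ LocallyOfFinitePresentation G.hom := by
  have h𝒰 := Groth.Agent.H65.LocQ.isAlgStack_overCat U
  have hx := Groth.Agent.H65.LocQRep.rep1_chart h𝒳 x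
  have hfl : AlgSt.RepByAlgSpWith (AlgSp.LocP @Flat) x :=
    Groth.Agent.H65.GerbeSect.with_gerbe_section _ Groth.Agent.H32.GoodMore.good_flat
      (fun g h hg => (Groth.Agent.S10557.result g h hg).1) (fun _ _ _ h _ => h) h𝒳 h𝒰 π hπ.2 x e hx
  have hfp : AlgSt.RepByAlgSpWith (AlgSp.LocP @LocallyOfFinitePresentation) x :=
    Groth.Agent.H65.GerbeSect.with_gerbe_section _ Groth.Agent.H32.GoodMore.good_lfp
      (fun g h hg => (Groth.Agent.S10557.result g h hg).2.2) (fun _ _ _ _ h => h) h𝒳 h𝒰 π hπ.2 x e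
      hx
  exact ⟨Groth.Agent.H65.GerbeAut.locP_autGrp x h𝒳.isStack.1 r π e hfl,
    Groth.Agent.H65.GerbeAut.locP_autGrp x h𝒳.isStack.1 r π e hfp⟩

end Groth.Agent.S16867
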