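import Groth.Statements.S1688
import Groth.Agent.H8.LocFreeStalk
import Groth.Agent.H8.LocFreeSections
import Groth.Agent.H8.Coh
import Mathlib.RingTheory.RegularLocalRing.Defs
import Mathlib.RingTheory.DiscreteValuationRing.TFAE
import Mathlib.AlgebraicGeometry.FunctionField
import Mathlib.AlgebraicGeometry.Noetherian

set_option autoImplicit false
universe u
open CategoryTheory CategoryTheory.Limits AlgebraicGeometry TopologicalSpace
open SDiv

namespace Groth.Agent.S1688

section Helpers

theorem coheight_le_topologicalKrullDim (X : Scheme.{u}) (x : X) :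
    (Order.coheight x : WithBot ℕ∞) ≤ topologicalKrullDim X := by
  have h := Order.coheight_orderIso (irreducibleSetEquivPoints (α := X)).symm x
  have h2 : (Order.coheight x : WithBot ℕ∞) =
      Order.coheight ((irreducibleSetEquivPoints (α := X)).symm x) :=
    congrArg _ h.symm
  rw [h2]
  exact Order.coheight_le_krullDim _

lemma isPrincipalIdealRing_of_regular (R : Type*) [CommRing R] [IsDomain R]
    [IsRegularLocalRing R] (h : ringKrullDim R ≤ 1) : IsPrincipalIdealRing R := by
  have h1 : (Module.finrank (IsLocalRing.ResidueField R) (IsLocalRing.CotangentSpace R) :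
      WithBot ℕ∞) = ringKrullDim R :=
    (IsRegularLocalRing.iff_finrank_cotangentSpace R).mp inferInstance
  have h2 : Module.finrank (IsLocalRing.ResidueField R) (IsLocalRing.CotangentSpace R) ≤ 1 := by
    rw [← h1] at h
    exact_mod_cast h
  exact ((tfae_of_isNoetherianRing_of_isLocalRing_of_isDomain R).out 5 0).mp h2

end Helpers

/-- Let X be a locally Noetherian integral scheme of dimension at most 1 all of whose local rings are
regular, and F a coherent module on X. Then F is torsion free (every stalk is a torsion-free module
over the local ring) if and only if F is finite locally free. -/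
theorem result (X : Scheme.{u}) [IsIntegral X] [IsLocallyNoetherian X] (hreg : ∀ x : ↥X, IsRegularLocalRing (X.presheaf.stalk x))
    (hdim : topologicalKrullDim ↥X ≤ 1) (F : X.Modules) (hF : Coh.IsCoh F) :
    (∀ x : ↥X, NoZeroSMulDivisors (X.presheaf.stalk x) (F.presheaf.stalk x)) ↔ FlatMod.IsFinLocFree F := by
  haveI : F.IsQuasicoherent := hF.1
  constructor
  · intro htf x
    obtain ⟨U, hU, hxU, -⟩ := exists_isAffineOpen_mem_and_subset (x := x)
      (U := (⊤ : X.Opens)) trivial
    haveI : IsNoetherianRing Γ(X, U) := IsLocallyNoetherian.component_noetherian ⟨U, hU⟩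
    haveI := Groth.Agent.H8.finite_sections_of_isCoh F hF hU
    haveI : Module.FinitePresentation Γ(X, U) Γ(F, U) := Module.finitePresentation_of_finite _ _
    haveI := hreg x
    have hd : ringKrullDim (X.presheaf.stalk x) ≤ 1 := by
      rw [ringKrullDim_stalk_eq_coheight]
      exact (coheight_le_topologicalKrullDim X x).trans hdim
    haveI : IsPrincipalIdealRing (X.presheaf.stalk x) := isPrincipalIdealRing_of_regular _ hd
    haveI := htf x
    haveI : Module.Finite (X.presheaf.stalk x) (F.presheaf.stalk x) :=
      Groth.Agent.H8.finite_stalk_of_isCoh F hF x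
    haveI : Module.Free (X.presheaf.stalk x) (F.presheaf.stalk x) :=
      Module.free_of_finite_type_torsion_free'
    obtain ⟨f, hxf, n, hn⟩ :=
      Groth.Agent.H8.exists_basicOpen_restrict_iso_freeMod_of_free_stalk F hU x hxU
    exact ⟨X.basicOpen f, n, hxf, hn⟩
  · intro h x
    obtain ⟨U, hU, hxU, -⟩ := exists_isAffineOpen_mem_and_subset (x := x)
      (U := (⊤ : X.Opens)) trivial
    obtain ⟨hfp, hproj⟩ :=
      Groth.Agent.H8.finitePresentation_projective_sections_of_isFinLocFree F h hU
    haveI := hproj
    haveI := hfp
    haveI : Module.Free (X.presheaf.stalk x) (F.presheaf.stalk x) :=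
      Groth.Agent.H8.free_stalk_of_finite_flat_sections F hU x hxU
    exact ⟨fun h => smul_eq_zero.mp h⟩

end Groth.Agent.S1688
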