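import Groth.Statements.S16883
import Groth.Agent.H84.Gerbe

set_option autoImplicit false
open CategoryTheory
universe v u
open Gerb

namespace Groth.Agent.S16883

open Groth.Agent.H84

/-- Let `𝒳`, `𝒴`, `𝒵` be stacks in groupoids over the site `(C, J)` and `F : 𝒳 ⟶ 𝒴`, `G : 𝒴 ⟶ 𝒵`
functors over `C`. If `𝒳` is a gerbe over `𝒴` along `F` and `𝒴` is a gerbe over `𝒵` along `G`, then
`𝒳` is a gerbe over `𝒵` along the composite functor. -/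
theorem result {C : Type u} [Category.{v} C] (J : GrothendieckTopology C)
    {𝒳 𝒴 𝒵 : BasedCategory.{v, max u v} C}
    (h𝒳 : Stk.IsStack J 𝒳) (h𝒴 : Stk.IsStack J 𝒴) (h𝒵 : Stk.IsStack J 𝒵)
    (F : 𝒳 ⥤ᵇ 𝒴) (G : 𝒴 ⥤ᵇ 𝒵)
    (hF : Gerb.IsGerbeOver J F) (hG : Gerb.IsGerbeOver J G) :
    Gerb.IsGerbeOver J (BasedFunctor.comp F G) := by
  haveI : FibCat.IsFibGrpd 𝒳.p := h𝒳.1
  haveI : FibCat.IsFibGrpd 𝒴.p := h𝒴.1
  haveI : FibCat.IsFibGrpd 𝒵.p := h𝒵.1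
  constructor
  · -- objects
    intro z
    obtain ⟨R, hR, H⟩ := hG.1 z
    refine cover_trans J
      (T := fun W k => ∃ (x : 𝒳.obj) (g : (BasedFunctor.comp F G).obj x ⟶ z), 𝒵.p.IsHomLift k g)
      R hR ?_
    intro V f hf
    obtain ⟨y, g, hg⟩ := H f hf
    have e : 𝒴.p.obj y = V := (G.w_obj y).symm.trans (IsHomLift.domain_eq 𝒵.p f g)
    obtain ⟨R', hR', H'⟩ := hF.1 y
    refine ⟨𝒴.p.obj y, e, R', hR', ?_⟩
    intro W k hk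
    obtain ⟨x, g', hg'⟩ := H' k hk
    refine ⟨x, G.map g' ≫ g, ?_⟩
    have h1 : 𝒵.p.IsHomLift k (G.map g') := inferInstance
    have h2 : 𝒵.p.IsHomLift (eqToHom e ≫ f) g := inferInstance
    exact IsHomLift.comp 𝒵.p k (eqToHom e ≫ f) (G.map g') g
  · -- morphisms
    intro x x' b hb
    have hb' : 𝒵.p.IsHomLift (𝟙 (𝒴.p.obj (F.obj x))) b := by
      rw [F.w_obj x]; exact hb
    obtain ⟨R₁, hR₁, H₁⟩ := hG.2 (F.obj x) (F.obj x') b hb'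
    obtain ⟨R₁', hR₁', H₁'⟩ := cover_transport J (F.w_obj x) R₁ hR₁
    refine cover_trans J
      (T := fun V f => ∃ (x₀ : 𝒳.obj) (φ : x₀ ⟶ x) (ψ : x₀ ⟶ x'),
        𝒳.p.IsHomLift f φ ∧ 𝒳.p.IsHomLift f ψ ∧
          (BasedFunctor.comp F G).map φ ≫ b = (BasedFunctor.comp F G).map ψ) R₁' hR₁' ?_
    intro V f hf
    obtain ⟨y₀, φ, ψ, hφ, hψ, hcomm⟩ := H₁ _ (H₁' f hf)
    have e : 𝒴.p.obj y₀ = V := IsHomLift.domain_eq 𝒴.p (f ≫ eqToHom (F.w_obj x).symm) φ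
    rw [IsHomLift.lift_comp_eqToHom_iff] at hφ hψ
    -- second level
    obtain ⟨R₂, hR₂, H₂⟩ := hF.1 y₀
    have key := cover_trans J
      (T := fun W k => ∃ (x₀ : 𝒳.obj) (φ' : x₀ ⟶ x) (ψ' : x₀ ⟶ x'),
        𝒳.p.IsHomLift (k ≫ eqToHom e ≫ f) φ' ∧ 𝒳.p.IsHomLift (k ≫ eqToHom e ≫ f) ψ' ∧
          (BasedFunctor.comp F G).map φ' ≫ b = (BasedFunctor.comp F G).map ψ') R₂ hR₂ ?_
    · obtain ⟨S, hS, HS⟩ := key
      exact ⟨𝒴.p.obj y₀, e, S, hS, HS⟩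
    intro V' f' hf'
    obtain ⟨x₁, g, hg⟩ := H₂ f' hf'
    have e' : 𝒳.p.obj x₁ = V' := (F.w_obj x₁).symm.trans (IsHomLift.domain_eq 𝒴.p f' g)
    obtain ⟨R₃, hR₃, H₃⟩ := locSurjHom_strong J F hF.2 x₁ x (g ≫ φ)
    obtain ⟨R₃', hR₃', H₃'⟩ := locSurjHom_strong J F hF.2 x₁ x' (g ≫ ψ)
    refine ⟨𝒳.p.obj x₁, e', R₃ ⊓ R₃', J.intersection_covering hR₃ hR₃', ?_⟩
    intro W h hh
    obtain ⟨x₃, φ₃, hφ₃⟩ := exists_lift_of_eq 𝒳.p h rfl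
    obtain ⟨ψ₃, hψ₃⟩ := H₃ h hh.1 x₃ φ₃ hφ₃
    obtain ⟨ψ₃', hψ₃'⟩ := H₃' h hh.2 x₃ φ₃ hφ₃
    have hlift : 𝒴.p.IsHomLift ((h ≫ eqToHom e' ≫ f') ≫ eqToHom e ≫ f) (F.map φ₃ ≫ g ≫ φ) := by
      rw [Category.assoc]
      infer_instance
    have hlift' : 𝒴.p.IsHomLift ((h ≫ eqToHom e' ≫ f') ≫ eqToHom e ≫ f) (F.map φ₃ ≫ g ≫ ψ) := by
      rw [Category.assoc]
      infer_instance
    refine ⟨x₃, ψ₃, ψ₃', ?_, ?_, ?_⟩
    · rw [← BasedFunctor.isHomLift_iff F, ← hψ₃]; exact hlift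
    · rw [← BasedFunctor.isHomLift_iff F, ← hψ₃']; exact hlift'
    · change G.map (F.map ψ₃) ≫ b = G.map (F.map ψ₃')
      rw [← hψ₃, ← hψ₃']
      simp only [Functor.map_comp, Category.assoc]
      exact congrArg (fun t => G.map (F.map φ₃) ≫ G.map g ≫ t) hcomm

end Groth.Agent.S16883
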