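import Groth.Statements.S16885
import Groth.Agent.H84.StackEquiv

set_option autoImplicit false
open CategoryTheory
universe v u
open Gerb

namespace Groth.Agent.S16885

universe v₃ u₃ v₂ u₂

theorem basedFunctor_ext {C : Type u} [Category.{v} C] {𝒳 : BasedCategory.{v₂, u₂} C}
    {𝒴 : BasedCategory.{v₃, u₃} C}
    (G H : 𝒳 ⥤ᵇ 𝒴) (h : G.toFunctor = H.toFunctor) : G = H := by
  obtain ⟨f1, w1⟩ := G
  obtain ⟨f2, w2⟩ := H
  simp only at h
  subst h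
  rfl

theorem toSelf_eq {C : Type u} [Category.{v} C] {𝒮₁ 𝒮₂ : BasedCategory.{v, max u v} C}
    (F : 𝒮₁ ⥤ᵇ 𝒮₂) : BasedFunctor.comp F (FibCat.toSelf 𝒮₂) = FibCat.toSelf 𝒮₁ :=
  basedFunctor_ext _ _ F.w

/-- Let `𝒮₁`, `𝒮₂` be categories over `C` and `F : 𝒮₁ ⟶ 𝒮₂` a functor over `C` which is an equivalence
in the 2-category of categories over `C`. Then, for a topology `J` on `C`, `𝒮₁` is a gerbe over the
site `(C, J)` if and only if `𝒮₂` is. -/
theorem result {C : Type u} [Category.{v} C] (J : GrothendieckTopology C)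
    {𝒮₁ 𝒮₂ : BasedCategory.{v, max u v} C} (F : 𝒮₁ ⥤ᵇ 𝒮₂) (hF : FibCat.IsEquivOver F) :
    Gerb.IsGerbe J 𝒮₁ ↔ Gerb.IsGerbe J 𝒮₂ := by
  obtain ⟨F', hF'⟩ := Groth.Agent.H84.isEquivOver_symm hF
  constructor
  · rintro ⟨hs, hg⟩
    refine ⟨Groth.Agent.H84.isStack_of_isEquivOver J F hF hs, ?_⟩
    rw [← toSelf_eq F] at hg
    exact Groth.Agent.H84.isGerbeOver_of_comp_isEquivOver J F hF _ hg
  · rintro ⟨hs, hg⟩
    refine ⟨Groth.Agent.H84.isStack_of_isEquivOver J F' hF' hs, ?_⟩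
    rw [← toSelf_eq F]
    exact Groth.Agent.H84.isGerbeOver_comp_of_isEquivOver J F hF _ hg

end Groth.Agent.S16885
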