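import Groth.Statements.S16886
import Mathlib
import Groth.Agent.H84.StackEquiv
import Groth.Agent.H84.Gerbe
import Groth.Agent.S12804
import Groth.Agent.S12801

set_option autoImplicit false
open CategoryTheory
universe v u
open Gerb

namespace Groth.Agent.S16886

universe w₁ w₂ w₃ w₄

theorem eq_eqToHom_of_lift_id {D : Type w₁} [Category.{w₂} D] {X Y : D} (β : X ⟶ Y)
    (hβ : (𝟭 D).IsHomLift (𝟙 X) β) : ∃ e : X = Y, β = eqToHom e := by
  haveI := hβ
  have e : Y = X := IsHomLift.codomain_eq (𝟭 D) (𝟙 X) β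
  subst e
  refine ⟨rfl, ?_⟩
  have h := IsHomLift.fac' (𝟭 D) (𝟙 Y) β
  simpa using h

theorem isHomLift_of_eqToHom {D : Type w₁} [Category.{w₂} D] {E : Type w₃} [Category.{w₄} E]
    (p : E ⥤ D) {R : D} {a b b' : E} (f : R ⟶ p.obj b) (φ : a ⟶ b) (ψ : a ⟶ b')
    (e : p.obj b = p.obj b') (hφ : p.IsHomLift f φ) (h : p.map φ ≫ eqToHom e = p.map ψ) :
    p.IsHomLift f ψ := by
  haveI := hφ
  have ha : p.obj a = R := IsHomLift.domain_eq p f φ
  refine IsHomLift.of_fac' p f ψ ha e.symm ?_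
  rw [← h, IsHomLift.fac' p f φ]
  simp

/-- the sieve on `y` of all arrows whose source is in the image of `p` on objects -/
def imSieve {D : Type w₁} [Category.{w₂} D] {E : Type w₃} [Category.{w₄} E] (p : E ⥤ D)
    [FibCat.IsFibGrpd p] (y : D) : Sieve y where
  arrows := fun V _ => ∃ x : E, p.obj x = V
  downward_closed := by
    rintro V W f ⟨x, hx⟩ g
    obtain ⟨x₁, χ, hχ⟩ := Groth.Agent.H84.exists_lift_of_eq p g hx
    haveI := hχ
    exact ⟨x₁, IsHomLift.domain_eq p g χ⟩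

/-- the sieve on `p x` of arrows over which `x` and `x'` become isomorphic compatibly with `b` -/
def locIsoSieve {D : Type w₁} [Category.{w₂} D] {E : Type w₃} [Category.{w₄} E] (p : E ⥤ D)
    [FibCat.IsFibGrpd p] (x x' : E) (b : p.obj x ⟶ p.obj x') : Sieve (p.obj x) where
  arrows := fun V f => ∃ (x₀ : E) (φ : x₀ ⟶ x) (ψ : x₀ ⟶ x'),
      p.IsHomLift f φ ∧ p.IsHomLift f ψ ∧ p.map φ ≫ b = p.map ψ
  downward_closed := by
    rintro V W f ⟨x₀, φ, ψ, hφ, hψ, hc⟩ g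
    haveI := hφ
    haveI := hψ
    obtain ⟨x₁, χ, hχ⟩ := Groth.Agent.H84.exists_lift_of_eq p g (IsHomLift.domain_eq p f φ)
    haveI := hχ
    refine ⟨x₁, χ ≫ φ, χ ≫ ψ, inferInstance, inferInstance, ?_⟩
    rw [p.map_comp, Category.assoc, hc, ← p.map_comp]

/-- (2) ⇒ (1): let `𝒳`, `𝒴` be stacks in groupoids over the site `(C, J)` and `F : 𝒳 ⟶ 𝒴` a functor over
`C` making `𝒳` a gerbe over `𝒴` (objects of `𝒴` come from `𝒳` locally and morphisms between images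
lift locally). Then for every factorization `F = a ⋙ F'` through a category `𝒳'` over `C` with `a :
𝒳 ⟶ 𝒳'` an equivalence in the 2-category of categories over `C` and `F' : 𝒳' ⟶ 𝒴` a functor whose
underlying functor makes `𝒳'` fibred in groupoids over `𝒴`, the category `𝒳'` over `𝒴` (through
`F'`) is a gerbe over the site `𝒴` with the topology inherited from `J`. (Only this implication is
stated; the converse is asserted in the published item with its verification not carried out.) -/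
theorem result {C : Type u} [Category.{v} C]
    (J : GrothendieckTopology C) {𝒳 𝒴 𝒳' : BasedCategory.{v, max u v} C}
    (h𝒳 : Stk.IsStack J 𝒳) (h𝒴 : Stk.IsStack J 𝒴) (F : 𝒳 ⥤ᵇ 𝒴) (hF : Gerb.IsGerbeOver J F)
    (a : 𝒳 ⥤ᵇ 𝒳') (ha : FibCat.IsEquivOver a) (F' : 𝒳' ⥤ᵇ 𝒴) (hF' : FibCat.IsFibGrpd F'.toFunctor)
    (hfac : BasedFunctor.comp a F' = F) :
    Gerb.IsGerbe (𝒴.p.restrictedTopology J) (BasedCategory.ofFunctor F'.toFunctor) := by
  subst hfac
  have h𝒳' : Stk.IsStack J 𝒳' := Groth.Agent.H84.isStack_of_isEquivOver J a ha h𝒳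
  obtain ⟨G, ⟨η⟩, ⟨ε⟩⟩ := ha
  haveI hfib𝒳 : FibCat.IsFibGrpd 𝒳.p := h𝒳.1
  haveI hfib𝒴 : FibCat.IsFibGrpd 𝒴.p := h𝒴.1
  haveI hfibF' : FibCat.IsFibGrpd F'.toFunctor := hF'
  have key : ∀ x : 𝒳'.obj, ∃ (u : a.obj (G.obj x) ⟶ x) (v : x ⟶ a.obj (G.obj x)),
      u ≫ v = 𝟙 _ ∧ v ≫ u = 𝟙 _ ∧ 𝒳'.p.IsHomLift (𝟙 (𝒳.p.obj (G.obj x))) u := by
    intro x
    let εn := (BasedNatTrans.forgetful 𝒳' 𝒳').mapIso ε
    refine ⟨εn.hom.app x, εn.inv.app x, εn.hom_inv_id_app x, εn.inv_hom_id_app x, ?_⟩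
    exact BasedNatTrans.isHomLift ε.hom (G.w_obj x).symm
  refine And.intro (Groth.Agent.S12804.result J h𝒳' h𝒴 F' hF') (And.intro ?_ ?_)
  · -- objects come from `𝒳'` locally
    intro y
    obtain ⟨R₀, hR₀, H⟩ := hF.1 y
    refine ⟨imSieve F'.toFunctor y, ?_, ?_⟩
    · refine (Groth.Agent.S12801.result 𝒴.p hfib𝒴 J (imSieve F'.toFunctor y)).mpr ?_
      refine J.superset_covering ?_ hR₀
      intro V f hf
      obtain ⟨x, g, hg⟩ := H f hf
      haveI := hg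
      refine ⟨(BasedFunctor.comp a F').obj x, g,
        eqToHom (IsHomLift.domain_eq 𝒴.p f g).symm, ⟨a.obj x, rfl⟩, ?_⟩
      rw [IsHomLift.fac' 𝒴.p f g]
      simp
    · intro V f hf
      obtain ⟨x, hx⟩ := hf
      subst hx
      exact ⟨x, f, (show (𝟭 𝒴.obj).IsHomLift ((𝟭 𝒴.obj).map f) f from inferInstance)⟩
  · -- two objects of one fibre are locally isomorphic
    intro x x' b hb
    obtain ⟨e, hbe⟩ : ∃ e : F'.obj x = F'.obj x', b = eqToHom e :=
      eq_eqToHom_of_lift_id (D := 𝒴.obj) (X := F'.obj x) (Y := F'.obj x') b hb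
    subst hbe
    obtain ⟨u, v, huv, hvu, hu⟩ := key x
    obtain ⟨u', v', huv', hvu', hu'⟩ := key x'
    obtain ⟨R₀, hR₀, H⟩ := Groth.Agent.H84.locSurjHom_strong J (BasedFunctor.comp a F') hF.2
      (G.obj x) (G.obj x') (F'.map u ≫ eqToHom e ≫ F'.map v')
    have E : 𝒳.p.obj (G.obj x) = 𝒴.p.obj (F'.obj x) := (G.w_obj x).trans (F'.w_obj x).symm
    refine ⟨locIsoSieve F'.toFunctor x x' (eqToHom e), ?_, ?_⟩
    · refine (Groth.Agent.S12801.result 𝒴.p hfib𝒴 J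
        (locIsoSieve F'.toFunctor x x' (eqToHom e))).mpr ?_
      refine J.superset_covering ?_ (J.pullback_stable (eqToHom E.symm) hR₀)
      intro V h hh
      obtain ⟨x₀, φ₀, hφ₀⟩ := FibCat.IsFibGrpd.exists_lift (p := 𝒳.p) (x := G.obj x)
        (h ≫ eqToHom E.symm)
      haveI := hφ₀
      obtain ⟨ψ₀, hψ₀⟩ := H (h ≫ eqToHom E.symm) hh x₀ φ₀ hφ₀
      have hψ₀' : F'.map (a.map φ₀) ≫ (F'.map u ≫ eqToHom e ≫ F'.map v') = F'.map (a.map ψ₀) :=
        hψ₀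
      have heq : F'.map (a.map φ₀ ≫ u) ≫ eqToHom e = F'.map (a.map ψ₀ ≫ u') := by
        rw [F'.map_comp, F'.map_comp, ← hψ₀']
        simp only [Category.assoc]
        rw [← F'.map_comp v' u', hvu', F'.map_id, Category.comp_id]
      have hφ : 𝒳'.p.IsHomLift (h ≫ eqToHom E.symm) (a.map φ₀ ≫ u) := by
        haveI := hu
        exact IsHomLift.comp_lift_id_right 𝒳'.p (h ≫ eqToHom E.symm) (a.map φ₀) u
      haveI := hφ
      have hFφ : 𝒴.p.IsHomLift (h ≫ eqToHom E.symm) (F'.map (a.map φ₀ ≫ u)) := inferInstance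
      haveI := hFφ
      refine ⟨F'.obj (a.obj x₀), F'.map (a.map φ₀ ≫ u),
        eqToHom (IsHomLift.domain_eq 𝒴.p (h ≫ eqToHom E.symm) (F'.map (a.map φ₀ ≫ u))).symm,
        ?_, ?_⟩
      · have h1 : F'.toFunctor.IsHomLift (F'.toFunctor.map (a.map φ₀ ≫ u)) (a.map φ₀ ≫ u) :=
          inferInstance
        exact ⟨a.obj x₀, a.map φ₀ ≫ u, a.map ψ₀ ≫ u', h1,
          isHomLift_of_eqToHom F'.toFunctor _ (a.map φ₀ ≫ u) (a.map ψ₀ ≫ u') e h1 heq, heq⟩
      · rw [IsHomLift.fac' 𝒴.p (h ≫ eqToHom E.symm) (F'.map (a.map φ₀ ≫ u))]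
        simp
    · intro V f hf
      exact hf

end Groth.Agent.S16886
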