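import Groth.Statements.S1689
import Groth.Agent.H17.ReflFree
import Groth.Agent.H8.Coh
import Groth.Agent.H8.LocFreeStalk
import Groth.Agent.H8.RankLocFree
import Groth.Agent.H9.SchemeDimStalk

set_option autoImplicit false
universe u
open CategoryTheory CategoryTheory.Limits AlgebraicGeometry TopologicalSpace
open SDiv

namespace Groth.Agent.S1689

set_option linter.style.haveILetI false in
open Groth.Agent.H8 in
/-- Let X be a locally Noetherian scheme of dimension at most 2 all of whose local rings are regular,
and F a coherent module on X. Then F is reflexive (every stalk is a reflexive module over the local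
ring) if and only if F is finite locally free. -/
theorem result (X : Scheme.{u}) [IsLocallyNoetherian X]
    (hreg : ∀ x : ↥X, IsRegularLocalRing (X.presheaf.stalk x)) (hdim : topologicalKrullDim ↥X ≤ 2) (F : X.Modules)
    (hF : Coh.IsCoh F) : (∀ x : ↥X, Module.IsReflexive (X.presheaf.stalk x) (F.presheaf.stalk x)) ↔ FlatMod.IsFinLocFree F := by
  haveI : F.IsQuasicoherent := hF.1
  constructor
  · intro h x
    obtain ⟨_, ⟨U, hU, rfl⟩, hxU, -⟩ :=
      X.isBasis_affineOpens.exists_subset_of_mem_open (Set.mem_univ x) isOpen_univ
    replace hU : IsAffineOpen U := hU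
    haveI : IsNoetherianRing Γ(X, U) := IsLocallyNoetherian.component_noetherian ⟨U, hU⟩
    haveI := finite_sections_of_isCoh F hF hU
    haveI : Module.FinitePresentation Γ(X, U) Γ(F, U) :=
      Module.finitePresentation_of_finite _ _
    haveI := hreg x
    haveI := h x
    haveI : Module.Finite (X.presheaf.stalk x) (F.presheaf.stalk x) :=
      finite_stalk_of_isCoh F hF x
    have hd : ringKrullDim (X.presheaf.stalk x) ≤ 2 :=
      (Groth.Agent.H9.FibDim.ringKrullDim_stalk_le X x).trans hdim
    haveI : Module.Free (X.presheaf.stalk x) (F.presheaf.stalk x) :=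
      Groth.Agent.H17.ReflFree.free_of_isReflexive_of_dim_le_two _ hd _
    obtain ⟨f, hxf, n, he⟩ := exists_basicOpen_restrict_iso_freeMod_of_free_stalk F hU x hxU
    exact ⟨X.basicOpen f, n, hxf, he⟩
  · intro h x
    obtain ⟨U, n, hxU, ⟨e⟩⟩ := h x
    obtain ⟨b⟩ := exists_basis_stalk_of_restrict_iso F e x hxU
    haveI : Module.Free (X.presheaf.stalk x) (F.presheaf.stalk x) := Module.Free.of_basis b
    haveI : Module.Finite (X.presheaf.stalk x) (F.presheaf.stalk x) :=
      Module.Finite.of_basis b
    infer_instance

end Groth.Agent.S1689
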