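import Groth.Statements.S1690
import Groth.Agent.H17.NormalRefl
import Groth.Agent.H8.RankLocFree
import Groth.Agent.H8.FreeMod

set_option autoImplicit false
universe u
open CategoryTheory CategoryTheory.Limits AlgebraicGeometry TopologicalSpace
open SDiv

namespace Groth.Agent.S1690

/-- (1) if and only if (3): let X be an integral locally Noetherian normal scheme and F a coherent
module. Then F is reflexive (stalkwise) if and only if there is an open subscheme j : U ⟶ X such
that every point outside U has local ring of dimension at least 2, the restriction of F to U is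
finite locally free, and the canonical map F ⟶ j_* j^* F is an isomorphism. -/
theorem result (X : Scheme.{u}) [IsIntegral X] [IsLocallyNoetherian X] (hX : Pi1.IsNormalScheme X)
    (F : X.Modules) (hF : Coh.IsCoh F) :
    (∀ x : ↥X, Module.IsReflexive (X.presheaf.stalk x) (F.presheaf.stalk x)) ↔
      ∃ U : X.Opens, (∀ x : ↥X, x ∉ U → (2 : WithBot ℕ∞) ≤ ringKrullDim (X.presheaf.stalk x)) ∧
        FlatMod.IsFinLocFree (F.restrict U.ι) ∧ IsIso ((Scheme.Modules.restrictAdjunction U.ι).unit.app F) := by
  constructor
  · intro h
    have htf : ∀ x : X, Module.IsTorsionFree (X.presheaf.stalk x) (F.presheaf.stalk x) := by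
      intro x
      haveI := (hX x).1
      haveI := h x
      exact Groth.Agent.H17.NormalRefl.isTorsionFree_of_isReflexive
    obtain ⟨U, hU, hfree⟩ := Groth.Agent.H17.NormalRefl.exists_bigOpen_isFinLocFree hX F hF htf
    exact ⟨U, hU, hfree,
      Groth.Agent.H17.NormalRefl.isIso_unit_of_isReflexive_of_normal hX F hF h U hU⟩
  · rintro ⟨U, hU, hfree, hiso⟩
    -- stalks at points of `U` are free
    have hA : ∀ x : X, x ∈ U → RefHull.IsReflexiveAt F x := by
      intro x hx
      obtain ⟨V', n, hxV', ⟨e'⟩⟩ := hfree ⟨x, hx⟩
      have hι : (U.ι ''ᵁ V').ι = (U.ι.isoImage V').inv ≫ V'.ι ≫ U.ι :=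
        (U.ι.isoImage_inv_ι V').symm
      have e : F.restrict (U.ι ''ᵁ V').ι ≅ FlatMod.freeMod (↑(U.ι ''ᵁ V')) n :=
        (Scheme.Modules.restrictFunctorCongr hι).app F ≪≫
        (Scheme.Modules.restrictFunctorComp (U.ι.isoImage V').inv (V'.ι ≫ U.ι)).app F ≪≫
        (Scheme.Modules.restrictFunctor (U.ι.isoImage V').inv).mapIso
          ((Scheme.Modules.restrictFunctorComp V'.ι U.ι).app F) ≪≫
        (Scheme.Modules.restrictFunctor (U.ι.isoImage V').inv).mapIso e' ≪≫
        Groth.Agent.H8.restrictFreeIso (U.ι.isoImage V').inv n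
      have hxV : x ∈ U.ι ''ᵁ V' := ⟨⟨x, hx⟩, hxV', rfl⟩
      haveI : F.IsQuasicoherent := hF.1
      obtain ⟨b⟩ := Groth.Agent.H8.exists_basis_stalk_of_restrict_iso F e x hxV
      haveI : Module.Free (X.presheaf.stalk x) (F.presheaf.stalk x) := Module.Free.of_basis b
      haveI : Module.Finite (X.presheaf.stalk x) (F.presheaf.stalk x) :=
        Module.Finite.of_basis b
      exact (inferInstance : Module.IsReflexive (X.presheaf.stalk x) (F.presheaf.stalk x))
    have hB : ∀ x : X, x ∈ U →
        Function.Bijective (Groth.Agent.H8.stalkMap (RefHull.bidualMap F) x) :=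
      fun x hx => (Groth.Agent.H17.ReflSheaf.isReflexiveAt_iff F hF x).mp (hA x hx)
    -- the restriction of the biduality map to `U` is an isomorphism
    haveI hC : IsIso ((Scheme.Modules.restrictFunctor U.ι).map (RefHull.bidualMap F)) := by
      rw [Scheme.Modules.Hom.isIso_iff_isIso_app]
      intro W'
      have hb : Function.Bijective ((RefHull.bidualMap F).app (U.ι ''ᵁ W')) := by
        apply Groth.Agent.H17.ReflNormal.app_bijective_of_stalk_bijective
        rintro _ ⟨y, -, rfl⟩
        exact hB _ y.2
      have hi : IsIso ((RefHull.bidualMap F).app (U.ι ''ᵁ W')) :=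
        (ConcreteCategory.isIso_iff_bijective _).mpr hb
      exact hi
    -- the unit of the bidual is an isomorphism
    have hdd : Coh.IsCoh (RefHull.ddual F) := Groth.Agent.H17.ReflSheaf.isCoh_ddual F hF
    have hddr : RefHull.IsReflexive (RefHull.ddual F) :=
      Groth.Agent.H17.ReflNormal.isReflexive_dual (RefHull.dual F)
        (Groth.Agent.H17.ReflSheaf.isCoh_dual F hF)
    haveI hD : IsIso ((Scheme.Modules.restrictAdjunction U.ι).unit.app (RefHull.ddual F)) :=
      Groth.Agent.H17.NormalRefl.isIso_unit_of_isReflexive_of_normal hX _ hdd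
        (fun x => Groth.Agent.H17.ReflSheaf.isReflexiveAt_of_isReflexive _ hdd hddr x) U hU
    have hnat := (Scheme.Modules.restrictAdjunction U.ι).unit.naturality (RefHull.bidualMap F)
    have hβ : IsIso (RefHull.bidualMap F) := by
      have h1 : RefHull.bidualMap F =
          (Scheme.Modules.restrictAdjunction U.ι).unit.app F ≫
            (Scheme.Modules.pushforward U.ι).map
              ((Scheme.Modules.restrictFunctor U.ι).map (RefHull.bidualMap F)) ≫
            inv ((Scheme.Modules.restrictAdjunction U.ι).unit.app (RefHull.ddual F)) := by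
        rw [← Category.assoc, IsIso.eq_comp_inv]
        exact hnat
      rw [h1]
      infer_instance
    intro x
    exact Groth.Agent.H17.ReflSheaf.isReflexiveAt_of_isReflexive F hF hβ x

end Groth.Agent.S1690
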