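import Groth.Statements.S1691
import Groth.Agent.H17.NormalRefl
import Groth.Agent.H17.ReflRestrict
import Groth.Agent.H90.QCohHom
import Groth.Agent.S2252

set_option autoImplicit false
universe u
open CategoryTheory CategoryTheory.Limits AlgebraicGeometry TopologicalSpace
open SDiv

namespace Groth.Agent.S1691

/-- Let X be an integral locally Noetherian scheme and j : U ⟶ X an open subscheme such that the local
ring of X at every point outside U has depth at least 2. Then (a) for every coherent reflexive
module F on X the canonical map F ⟶ j_* j^* F is an isomorphism, and (b) for every coherent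
reflexive module G on U the direct image j_* G is coherent and reflexive (so that j^* and j_* are
mutually inverse equivalences). -/
theorem result (X : Scheme.{u}) [IsIntegral X] [IsLocallyNoetherian X] (U : X.Opens)
    (hU : ∀ x : ↥X, x ∉ U → (2 : ℕ∞) ≤ LocCoh.depth (X.presheaf.stalk x) (X.presheaf.stalk x)) :
    (∀ F : X.Modules, Coh.IsCoh F → (∀ x : ↥X, Module.IsReflexive (X.presheaf.stalk x) (F.presheaf.stalk x)) →
        IsIso ((Scheme.Modules.restrictAdjunction U.ι).unit.app F)) ∧
      (∀ G : (U : Scheme.{u}).Modules, Coh.IsCoh G → (∀ x : ↥(U : Scheme.{u}), Module.IsReflexive ((U : Scheme.{u}).presheaf.stalk x) (G.presheaf.stalk x)) →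
        Coh.IsCoh ((Scheme.Modules.pushforward U.ι).obj G) ∧
          (∀ x : ↥X, Module.IsReflexive (X.presheaf.stalk x) (((Scheme.Modules.pushforward U.ι).obj G).presheaf.stalk x))) := by
  have hA : ∀ F : X.Modules, Coh.IsCoh F →
      (∀ x : ↥X, Module.IsReflexive (X.presheaf.stalk x) (F.presheaf.stalk x)) →
      IsIso ((Scheme.Modules.restrictAdjunction U.ι).unit.app F) := by
    intro F hF hr
    apply Groth.Agent.H17.NormalRefl.isIso_unit_of_depth F hF U
    intro y hy
    haveI : Module.Finite (X.presheaf.stalk y) (F.presheaf.stalk y) :=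
      Groth.Agent.H8.finite_stalk_of_isCoh F hF y
    haveI := hr y
    exact Groth.Agent.H17.ReflDepth.two_le_depth_of_isReflexive _ (hU y hy) _
  refine ⟨hA, ?_⟩
  intro G hG hGr
  haveI : Coh.IsQCoh G := hG.1
  have hX : ∀ x : X, ∃ V : X.Opens, x ∈ V ∧ TopologicalSpace.NoetherianSpace (V : Set X) := by
    intro x
    obtain ⟨_, ⟨V, hV, rfl⟩, hxV, -⟩ := X.isBasis_affineOpens.exists_subset_of_mem_open
      (Set.mem_univ x) isOpen_univ
    replace hV : IsAffineOpen V := hV
    haveI : IsNoetherianRing Γ(X, V) := IsLocallyNoetherian.component_noetherian ⟨V, hV⟩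
    exact ⟨V, hxV, noetherianSpace_of_isAffineOpen V hV⟩
  obtain ⟨G', hG'q, hG'ft, ⟨e⟩⟩ := Groth.Agent.S2252.result hX U G hG.2
  have hG'c : Coh.IsCoh G' := ⟨hG'q, hG'ft⟩
  -- the reflexive hull of the extension
  have hdd : Coh.IsCoh (RefHull.ddual G') := Groth.Agent.H17.ReflSheaf.isCoh_ddual G' hG'c
  have hddr : RefHull.IsReflexive (RefHull.ddual G') :=
    Groth.Agent.H17.ReflNormal.isReflexive_dual (RefHull.dual G')
      (Groth.Agent.H17.ReflSheaf.isCoh_dual G' hG'c)
  have hHr : ∀ x : X, Module.IsReflexive (X.presheaf.stalk x)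
      ((RefHull.ddual G').presheaf.stalk x) :=
    fun x => Groth.Agent.H17.ReflSheaf.isReflexiveAt_of_isReflexive _ hdd hddr x
  haveI hD : IsIso ((Scheme.Modules.restrictAdjunction U.ι).unit.app (RefHull.ddual G')) :=
    hA _ hdd hHr
  -- the extension is reflexive at the points of `U`
  have hA' : ∀ x : X, x ∈ U → RefHull.IsReflexiveAt G' x := by
    intro x hx
    let z : (U : Scheme.{u}) := ⟨x, hx⟩
    have h1 : Module.IsReflexive ((U : Scheme.{u}).presheaf.stalk z)
        ((G'.restrict U.ι).presheaf.stalk z) :=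
      Groth.Agent.H17.ReflRestrict.isReflexive_stalk_of_iso e.symm z (hGr z)
    exact (Groth.Agent.H17.ReflRestrict.isReflexive_stalk_restrict_iff U G' z).mp h1
  have hB : ∀ x : X, x ∈ U →
      Function.Bijective (Groth.Agent.H8.stalkMap (RefHull.bidualMap G') x) :=
    fun x hx => (Groth.Agent.H17.ReflSheaf.isReflexiveAt_iff G' hG'c x).mp (hA' x hx)
  haveI hC : IsIso ((Scheme.Modules.restrictFunctor U.ι).map (RefHull.bidualMap G')) := by
    rw [Scheme.Modules.Hom.isIso_iff_isIso_app]
    intro W'
    have hb : Function.Bijective ((RefHull.bidualMap G').app (U.ι ''ᵁ W')) := by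
      apply Groth.Agent.H17.ReflNormal.app_bijective_of_stalk_bijective
      rintro _ ⟨y, -, rfl⟩
      exact hB _ y.2
    have hi : IsIso ((RefHull.bidualMap G').app (U.ι ''ᵁ W')) :=
      (ConcreteCategory.isIso_iff_bijective _).mpr hb
    exact hi
  -- `j_* G` is isomorphic to the reflexive hull of the extension
  let Φ : (Scheme.Modules.pushforward U.ι).obj G ≅ RefHull.ddual G' :=
    (Scheme.Modules.pushforward U.ι).mapIso
      (e.symm ≪≫ asIso ((Scheme.Modules.restrictFunctor U.ι).map (RefHull.bidualMap G'))) ≪≫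
    (asIso ((Scheme.Modules.restrictAdjunction U.ι).unit.app (RefHull.ddual G'))).symm
  exact ⟨Groth.Agent.H90.QH.isCoh_of_iso Φ.symm hdd,
    fun x => Groth.Agent.H17.ReflRestrict.isReflexive_stalk_of_iso Φ.symm x (hHr x)⟩

end Groth.Agent.S1691
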