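import Groth.Statements.S16919
import Mathlib

set_option autoImplicit false
universe u
open TensorProduct
open CAlg

namespace Groth.Agent.S16919

open Cardinal

attribute [local instance] Algebra.TensorProduct.rightAlgebra

theorem card_aux {a x κ : Cardinal.{u}} (ha : a < ℵ₀) (hκ : ℵ₀ ≤ κ) (h : a + x = κ) : x = κ := by
  have hx : ℵ₀ ≤ x := by
    by_contra hlt
    push Not at hlt
    have h1 := Cardinal.add_lt_aleph0 ha hlt
    rw [h] at h1
    exact absurd hκ (not_le.mpr h1)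
  rw [← h, Cardinal.add_eq_right hx (le_trans ha.le hx)]

theorem lemmaB (k₀ k R₀ : Type u) [Field k₀] [Field k] [Algebra k₀ k] [CommRing R₀] [Algebra k₀ R₀]
    [Algebra.FiniteType k₀ R₀] [IsDomain (k ⊗[k₀] R₀)]
    (hinjT : Function.Injective (algebraMap R₀ (k ⊗[k₀] R₀)))
    (hκ : ℵ₀ ≤ Algebra.trdeg k₀ k) :
    Function.Injective (algebraMap R₀ (AlgebraicClosure (FractionRing (k ⊗[k₀] R₀)))) ∧
    Algebra.trdeg R₀ (AlgebraicClosure (FractionRing (k ⊗[k₀] R₀))) = Algebra.trdeg k₀ k ∧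
    ∀ r : R₀, algebraMap R₀ (AlgebraicClosure (FractionRing (k ⊗[k₀] R₀))) r =
      algebraMap (k ⊗[k₀] R₀) (AlgebraicClosure (FractionRing (k ⊗[k₀] R₀))) (1 ⊗ₜ[k₀] r) := by
  haveI : Nontrivial R₀ := (algebraMap R₀ (k ⊗[k₀] R₀)).domain_nontrivial
  haveI : FaithfulSMul R₀ (k ⊗[k₀] R₀) := (faithfulSMul_iff_algebraMap_injective _ _).mpr hinjT
  haveI : FaithfulSMul k₀ R₀ :=
    (faithfulSMul_iff_algebraMap_injective _ _).mpr (algebraMap k₀ R₀).injective
  haveI : FaithfulSMul k (k ⊗[k₀] R₀) :=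
    (faithfulSMul_iff_algebraMap_injective _ _).mpr (algebraMap k (k ⊗[k₀] R₀)).injective
  haveI : FaithfulSMul k₀ k :=
    (faithfulSMul_iff_algebraMap_injective _ _).mpr (algebraMap k₀ k).injective
  have hinjKbar : Function.Injective
      (algebraMap (k ⊗[k₀] R₀) (AlgebraicClosure (FractionRing (k ⊗[k₀] R₀)))) := by
    rw [IsScalarTower.algebraMap_eq (k ⊗[k₀] R₀) (FractionRing (k ⊗[k₀] R₀))
        (AlgebraicClosure (FractionRing (k ⊗[k₀] R₀)))]
    exact (algebraMap (FractionRing (k ⊗[k₀] R₀)) _).injective.comp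
      (IsFractionRing.injective (k ⊗[k₀] R₀) (FractionRing (k ⊗[k₀] R₀)))
  haveI : FaithfulSMul (k ⊗[k₀] R₀) (AlgebraicClosure (FractionRing (k ⊗[k₀] R₀))) :=
    (faithfulSMul_iff_algebraMap_injective _ _).mpr hinjKbar
  have hmap : ∀ r : R₀, algebraMap R₀ (AlgebraicClosure (FractionRing (k ⊗[k₀] R₀))) r =
      algebraMap (k ⊗[k₀] R₀) (AlgebraicClosure (FractionRing (k ⊗[k₀] R₀))) (1 ⊗ₜ[k₀] r) := by
    intro r
    rw [IsScalarTower.algebraMap_apply R₀ (k ⊗[k₀] R₀) (AlgebraicClosure (FractionRing (k ⊗[k₀] R₀)))]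
    rfl
  have h2 : Algebra.trdeg k₀ k + Algebra.trdeg k (k ⊗[k₀] R₀) = Algebra.trdeg k₀ (k ⊗[k₀] R₀) :=
    trdeg_add_eq k₀ k (A := k ⊗[k₀] R₀)
  have hfin1 : Algebra.trdeg k₀ R₀ < ℵ₀ := trdeg_lt_aleph0_of_finiteType
  have hfin2 : Algebra.trdeg k (k ⊗[k₀] R₀) < ℵ₀ := trdeg_lt_aleph0_of_finiteType
  have hT0 : Algebra.trdeg k₀ (k ⊗[k₀] R₀) = Algebra.trdeg k₀ k := by
    rw [← h2, Cardinal.add_eq_left hκ (hfin2.le.trans hκ)]
  have h3 : Algebra.trdeg k₀ R₀ + Algebra.trdeg R₀ (k ⊗[k₀] R₀) = Algebra.trdeg k₀ (k ⊗[k₀] R₀) :=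
    trdeg_add_eq k₀ R₀ (A := k ⊗[k₀] R₀)
  have hT : Algebra.trdeg R₀ (k ⊗[k₀] R₀) = Algebra.trdeg k₀ k := card_aux hfin1 hκ (h3.trans hT0)
  have h4 : Algebra.trdeg R₀ (k ⊗[k₀] R₀) +
      Algebra.trdeg (k ⊗[k₀] R₀) (AlgebraicClosure (FractionRing (k ⊗[k₀] R₀))) =
      Algebra.trdeg R₀ (AlgebraicClosure (FractionRing (k ⊗[k₀] R₀))) :=
    trdeg_add_eq R₀ (k ⊗[k₀] R₀) (A := AlgebraicClosure (FractionRing (k ⊗[k₀] R₀)))
  haveI halg : Algebra.IsAlgebraic (k ⊗[k₀] R₀) (AlgebraicClosure (FractionRing (k ⊗[k₀] R₀))) := by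
    haveI : Algebra.IsAlgebraic (k ⊗[k₀] R₀) (FractionRing (k ⊗[k₀] R₀)) :=
      IsLocalization.isAlgebraic (FractionRing (k ⊗[k₀] R₀)) (nonZeroDivisors (k ⊗[k₀] R₀))
    exact Algebra.IsAlgebraic.trans (k ⊗[k₀] R₀) (FractionRing (k ⊗[k₀] R₀)) _
  have h5 : Algebra.trdeg (k ⊗[k₀] R₀) (AlgebraicClosure (FractionRing (k ⊗[k₀] R₀))) = 0 :=
    trdeg_eq_zero
  refine ⟨?_, ?_, hmap⟩
  · have : (algebraMap R₀ (AlgebraicClosure (FractionRing (k ⊗[k₀] R₀))) : R₀ → _) =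
        (algebraMap (k ⊗[k₀] R₀) (AlgebraicClosure (FractionRing (k ⊗[k₀] R₀)))) ∘
          (algebraMap R₀ (k ⊗[k₀] R₀)) := by
      funext r
      exact hmap r
    rw [this]
    exact hinjKbar.comp hinjT
  · rw [← h4, h5, add_zero, hT]

theorem lemmaAC (k₀ k R₀ : Type u) [Field k₀] [Field k] [Algebra k₀ k] [IsAlgClosed k] [CommRing R₀]
    [Algebra k₀ R₀] [Algebra.FiniteType k₀ R₀]
    (f : R₀ →+* k) (hf : Function.Injective f)
    (hcomp : ∀ c, f (algebraMap k₀ R₀ c) = algebraMap k₀ k c) (hκ : ℵ₀ ≤ Algebra.trdeg k₀ k)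
    (L : Type u) [Field L] [IsAlgClosed L] [Algebra R₀ L] (hL : Function.Injective (algebraMap R₀ L))
    (hLtr : Algebra.trdeg R₀ L = Algebra.trdeg k₀ k) :
    ∃ e : L ≃+* k, ∀ r, e (algebraMap R₀ L r) = f r := by
  letI : Algebra R₀ k := f.toAlgebra
  haveI : IsScalarTower k₀ R₀ k := IsScalarTower.of_algebraMap_eq fun c => (hcomp c).symm
  haveI : Nontrivial R₀ := f.domain_nontrivial
  haveI : FaithfulSMul R₀ k := (faithfulSMul_iff_algebraMap_injective _ _).mpr hf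
  haveI : FaithfulSMul R₀ L := (faithfulSMul_iff_algebraMap_injective _ _).mpr hL
  haveI : FaithfulSMul k₀ R₀ :=
    (faithfulSMul_iff_algebraMap_injective _ _).mpr (algebraMap k₀ R₀).injective
  have h1 : Algebra.trdeg k₀ R₀ + Algebra.trdeg R₀ k = Algebra.trdeg k₀ k :=
    trdeg_add_eq k₀ R₀ (A := k)
  have hfin1 : Algebra.trdeg k₀ R₀ < ℵ₀ := trdeg_lt_aleph0_of_finiteType
  have hk : Algebra.trdeg R₀ k = Algebra.trdeg k₀ k := card_aux hfin1 hκ h1
  obtain ⟨ι, v, hv⟩ := exists_isTranscendenceBasis' R₀ L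
  obtain ⟨ι', w, hw⟩ := exists_isTranscendenceBasis' R₀ k
  have hcard : #ι = #ι' := by
    rw [hv.cardinalMk_eq_trdeg, hw.cardinalMk_eq_trdeg, hLtr, hk]
  obtain ⟨eι⟩ := Cardinal.eq.mp hcard
  haveI := IsAlgClosed.isAlgClosure_of_transcendence_basis v hv
  haveI := IsAlgClosed.isAlgClosure_of_transcendence_basis w hw
  let e₀ : Algebra.adjoin R₀ (Set.range v) ≃ₐ[R₀] Algebra.adjoin R₀ (Set.range w) :=
    hv.1.aevalEquiv.symm.trans ((MvPolynomial.renameEquiv R₀ eι).trans hw.1.aevalEquiv)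
  refine ⟨IsAlgClosure.equivOfEquiv L k e₀.toRingEquiv, fun r => ?_⟩
  have h6 : algebraMap R₀ L r =
      algebraMap (Algebra.adjoin R₀ (Set.range v)) L (algebraMap R₀ _ r) :=
    IsScalarTower.algebraMap_apply R₀ (Algebra.adjoin R₀ (Set.range v)) L r
  rw [h6, IsAlgClosure.equivOfEquiv_algebraMap]
  have h7 : e₀.toRingEquiv (algebraMap R₀ _ r) = algebraMap R₀ _ r := e₀.commutes r
  rw [h7, ← IsScalarTower.algebraMap_apply R₀ (Algebra.adjoin R₀ (Set.range w)) k]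
  rfl

/-- Let k₀ → k be an extension of fields with k algebraically closed and of infinite transcendence
degree over k₀, R₀ a finitely generated k₀-algebra whose base change R = k ⊗ R₀ is an integral
domain (so Spec R is an integral affine k-scheme of finite type with the model Spec R₀ over k₀), and
P a k-point of Spec R, i.e. a k-algebra homomorphism ev : R → k, lying over the generic point of
Spec R₀, i.e. with ev injective on R₀. Then there is a field isomorphism e from an algebraic closure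
of the fraction field of R (the function field of Spec R) onto k such that e(1 ⊗ r) = ev(1 ⊗ r) for
every r in R₀: e extends evaluation at P on R₀. (The published setting has k algebraically closed of
characteristic zero and of infinite transcendence degree over its prime field, and k₀ the subfield
generated by the coefficients of equations of Spec R, which is finitely generated over the prime
field, so that k has infinite transcendence degree over k₀; only this last property and no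
characteristic assumption enter here. The isomorphism is not canonical.) -/
theorem result (k₀ k : Type u)
    [Field k₀] [Field k] [Algebra k₀ k] [IsAlgClosed k] (hinf : ∃ x : ℕ → k, AlgebraicIndependent k₀ x)
    (R₀ : Type u) [CommRing R₀] [Algebra k₀ R₀] [Algebra.FiniteType k₀ R₀] [IsDomain (k ⊗[k₀] R₀)]
    (ev : k ⊗[k₀] R₀ →ₐ[k] k) (hP : Function.Injective fun r : R₀ => ev (1 ⊗ₜ[k₀] r)) :
    ∃ e : AlgebraicClosure (FractionRing (k ⊗[k₀] R₀)) ≃+* k,
      ∀ r : R₀, e (algebraMap (k ⊗[k₀] R₀) (AlgebraicClosure (FractionRing (k ⊗[k₀] R₀)))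
        (1 ⊗ₜ[k₀] r)) = ev (1 ⊗ₜ[k₀] r) := by
  classical
  have hκ : ℵ₀ ≤ Algebra.trdeg k₀ k := by
    obtain ⟨x, hx⟩ := hinf
    have := hx.lift_cardinalMk_le_trdeg
    simpa using this
  have hinjT : Function.Injective (algebraMap R₀ (k ⊗[k₀] R₀)) := by
    intro a b h
    exact hP (congrArg ev h)
  obtain ⟨hL, hLtr, hmap⟩ := lemmaB k₀ k R₀ hinjT hκ
  have hcomp : ∀ c : k₀, (ev.toRingHom.comp (algebraMap R₀ (k ⊗[k₀] R₀))) (algebraMap k₀ R₀ c) =
      algebraMap k₀ k c := by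
    intro c
    have h1 : algebraMap R₀ (k ⊗[k₀] R₀) (algebraMap k₀ R₀ c) = algebraMap k₀ (k ⊗[k₀] R₀) c :=
      (Algebra.TensorProduct.includeRight : R₀ →ₐ[k₀] k ⊗[k₀] R₀).commutes c
    rw [RingHom.comp_apply, h1, IsScalarTower.algebraMap_apply k₀ k (k ⊗[k₀] R₀)]
    exact ev.commutes _
  obtain ⟨e, he⟩ := lemmaAC k₀ k R₀ (ev.toRingHom.comp (algebraMap R₀ (k ⊗[k₀] R₀))) hP hcomp hκ
    (AlgebraicClosure (FractionRing (k ⊗[k₀] R₀))) hL hLtr
  refine ⟨e, fun r => ?_⟩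
  rw [← hmap r, he r]
  rfl

end Groth.Agent.S16919
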