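import Groth.Statements.S1692


set_option autoImplicit false
universe u
open CategoryTheory CategoryTheory.Limits AlgebraicGeometry TopologicalSpace
open SDiv

namespace Groth.Agent.S1692

theorem enat_aux (c d : ℕ∞) (h1 : c + 1 ≤ 1) (h2 : d + 1 ≤ c) : False := by
  have hc : c = 0 := by
    cases c using ENat.recTopCoe with
    | top => simp at h1
    | coe n =>
      have h3 : n + 1 ≤ 1 := by exact_mod_cast h1
      have h4 : n = 0 := by omega
      simp [h4]
  rw [hc] at h2
  simp at h2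


/-- Let X be a locally Noetherian integral scheme and f a nonzero rational function. Then the closures
of the codimension-one points at which f has nonzero order of vanishing form a locally finite family
of closed subsets of X. -/
theorem result (X : Scheme.{u}) [IsIntegral X] [IsLocallyNoetherian X] (f : ↑X.functionField) (hf : f ≠ 0) :
    LocallyFinite (fun ξ : {ξ : ↥X // Order.coheight ξ = 1 ∧ Scheme.ord f ξ ≠ 0} => closure ({ξ.1} : Set ↥X)) := by
  intro x
  obtain ⟨_, ⟨W, hW, rfl⟩, hxW, -⟩ :=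
    X.isBasis_affineOpens.exists_subset_of_mem_open (Set.mem_univ x) isOpen_univ
  refine ⟨W, W.isOpen.mem_nhds hxW, ?_⟩
  have hne : Nonempty W := ⟨⟨x, hxW⟩⟩
  have hnoeth : IsNoetherianRing Γ(X, W) := IsLocallyNoetherian.component_noetherian ⟨W, hW⟩
  have hfrac : IsFractionRing Γ(X, W) X.functionField :=
    functionField_isFractionRing_of_isAffineOpen X W hW
  have hoi : IsOpenImmersion hW.fromSpec := hW.isOpenImmersion_fromSpec
  have hinj : Function.Injective hW.fromSpec := hW.fromSpec.isOpenEmbedding.injective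
  obtain ⟨a, b, hb, hab⟩ := IsFractionRing.div_surjective (A := Γ(X, W)) f
  have hb0 : b ≠ 0 := nonZeroDivisors.ne_zero hb
  have ha0 : a ≠ 0 := by
    rintro rfl
    apply hf
    rw [← hab, map_zero, zero_div]
  have hab0 : a * b ≠ 0 := mul_ne_zero ha0 hb0
  have key : ∀ (ξ : X) (hξW : ξ ∈ W), Order.coheight ξ = 1 → Scheme.ord f ξ ≠ 0 →
      (hW.primeIdealOf ⟨ξ, hξW⟩).asIdeal ∈ (Ideal.span {a * b}).minimalPrimes := by
    intro ξ hξW hco hord
    let qξ : PrimeSpectrum Γ(X, W) := hW.primeIdealOf ⟨ξ, hξW⟩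
    let algξ : Algebra Γ(X, W) (X.presheaf.stalk ξ) :=
      TopCat.Presheaf.algebra_section_stalk X.presheaf ⟨ξ, hξW⟩
    have hloc : IsLocalization.AtPrime (X.presheaf.stalk ξ) qξ.asIdeal :=
      hW.isLocalization_stalk ⟨ξ, hξW⟩
    have hmem : a * b ∈ qξ.asIdeal := by
      by_contra hs
      have hunit : IsUnit (X.presheaf.germ W ξ hξW (a * b)) :=
        IsLocalization.map_units (M := qξ.asIdeal.primeCompl) (X.presheaf.stalk ξ) ⟨a * b, hs⟩
      have hξU : ξ ∈ X.basicOpen (a * b) := (X.mem_basicOpen (a * b) ξ hξW).mpr hunit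
      have hneU : Nonempty (X.basicOpen (a * b)) := ⟨⟨ξ, hξU⟩⟩
      have hru : IsUnit ((X.presheaf.map (homOfLE (X.basicOpen_le (a * b))).op) (a * b)) :=
        RingedSpace.isUnit_res_basicOpen X.toRingedSpace (a * b)
      rw [map_mul] at hru
      have hra : IsUnit ((X.presheaf.map (homOfLE (X.basicOpen_le (a * b))).op) a) :=
        isUnit_of_mul_isUnit_left hru
      have hrb : IsUnit ((X.presheaf.map (homOfLE (X.basicOpen_le (a * b))).op) b) :=
        isUnit_of_mul_isUnit_right hru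
      obtain ⟨ub, hub⟩ := hrb
      have hu : IsUnit ((X.presheaf.map (homOfLE (X.basicOpen_le (a * b))).op) a *
          ((ub⁻¹ : (Γ(X, X.basicOpen (a * b)))ˣ) : Γ(X, X.basicOpen (a * b)))) :=
        hra.mul (Units.isUnit _)
      have hgerm : ∀ s : Γ(X, W), X.germToFunctionField (X.basicOpen (a * b))
          ((X.presheaf.map (homOfLE (X.basicOpen_le (a * b))).op) s) =
            algebraMap Γ(X, W) X.functionField s := by
        intro s
        exact TopCat.Presheaf.germ_res_apply X.presheaf (homOfLE (X.basicOpen_le (a * b)))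
          (genericPoint X) _ s
      have hfeq : X.germToFunctionField (X.basicOpen (a * b))
          ((X.presheaf.map (homOfLE (X.basicOpen_le (a * b))).op) a *
          ((ub⁻¹ : (Γ(X, X.basicOpen (a * b)))ˣ) : Γ(X, X.basicOpen (a * b)))) = f := by
        rw [map_mul, hgerm a, ← hab]
        have h1 : X.germToFunctionField (X.basicOpen (a * b))
            ((X.presheaf.map (homOfLE (X.basicOpen_le (a * b))).op) b) *
            X.germToFunctionField (X.basicOpen (a * b))
              ((ub⁻¹ : (Γ(X, X.basicOpen (a * b)))ˣ) : Γ(X, X.basicOpen (a * b))) = 1 := by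
          rw [← map_mul, ← hub, Units.mul_inv, map_one]
        rw [hgerm b] at h1
        rw [div_eq_mul_inv]
        congr 1
        exact eq_inv_of_mul_eq_one_right h1
      apply hord
      rw [← hfeq]
      exact Scheme.ord_of_isUnit hu hξU
    refine ⟨⟨qξ.isPrime, (Ideal.span_singleton_le_iff_mem _).mpr hmem⟩, ?_⟩
    rintro q ⟨hqp, hqle⟩ hqξ
    by_contra hnle
    have hqne : q ≠ qξ.asIdeal := fun h => hnle (h ▸ le_rfl)
    let q' : PrimeSpectrum Γ(X, W) := ⟨q, hqp⟩
    let bot' : PrimeSpectrum Γ(X, W) := ⟨⊥, Ideal.isPrime_bot⟩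
    have hfξ : hW.fromSpec qξ = ξ := hW.fromSpec_primeIdealOf ⟨ξ, hξW⟩
    have h1 : hW.fromSpec q' ⤳ ξ := by
      have h := ((PrimeSpectrum.le_iff_specializes q' qξ).mp hqξ).map hW.fromSpec.continuous
      rwa [hfξ] at h
    have h2 : hW.fromSpec bot' ⤳ hW.fromSpec q' :=
      ((PrimeSpectrum.le_iff_specializes bot' q').mp bot_le).map hW.fromSpec.continuous
    have hne1 : hW.fromSpec q' ≠ ξ := by
      intro h
      rw [← hfξ] at h
      exact hqne (congrArg PrimeSpectrum.asIdeal (hinj h))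
    have hne2 : hW.fromSpec bot' ≠ hW.fromSpec q' := by
      intro h
      have h3 : (⊥ : Ideal Γ(X, W)) = q := congrArg PrimeSpectrum.asIdeal (hinj h)
      have hq : a * b ∈ q := hqle (Ideal.mem_span_singleton_self _)
      rw [← h3] at hq
      exact hab0 ((Ideal.mem_bot).mp hq)
    have hlt1 : ξ < hW.fromSpec q' :=
      lt_iff_le_not_ge.mpr ⟨h1, fun h => hne1 ((Specializes.antisymm h1 h).eq)⟩
    have hlt2 : hW.fromSpec q' < hW.fromSpec bot' :=
      lt_iff_le_not_ge.mpr ⟨h2, fun h => hne2 ((Specializes.antisymm h2 h).eq)⟩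
    have c1 := Order.coheight_add_one_le hlt1
    have c2 := Order.coheight_add_one_le hlt2
    rw [hco] at c1
    exact enat_aux _ _ c1 c2
  have hsub : {i : {ξ : ↥X // Order.coheight ξ = 1 ∧ Scheme.ord f ξ ≠ 0} |
      (closure ({i.1} : Set ↥X) ∩ (W : Set ↥X)).Nonempty} ⊆ {i | i.1 ∈ W} := by
    rintro i ⟨y, hy1, hy2⟩
    have h : i.1 ⤳ y := specializes_iff_mem_closure.mpr hy1
    exact h.mem_open W.isOpen hy2
  refine Set.Finite.subset ?_ hsub
  have hfinmin := Ideal.finite_minimalPrimes_of_isNoetherianRing Γ(X, W) (Ideal.span {a * b})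
  have hfin2 : Finite ((Ideal.span {a * b}).minimalPrimes) := hfinmin.to_subtype
  let F : {i : {ξ : ↥X // Order.coheight ξ = 1 ∧ Scheme.ord f ξ ≠ 0} | i.1 ∈ W} →
      (Ideal.span {a * b}).minimalPrimes :=
    fun i => ⟨(hW.primeIdealOf ⟨i.1.1, i.2⟩).asIdeal, key i.1.1 i.2 i.1.2.1 i.1.2.2⟩
  have hF : Function.Injective F := by
    intro i j hij
    have h1 : (hW.primeIdealOf ⟨i.1.1, i.2⟩).asIdeal = (hW.primeIdealOf ⟨j.1.1, j.2⟩).asIdeal :=
      congrArg Subtype.val hij
    have h2 : hW.primeIdealOf ⟨i.1.1, i.2⟩ = hW.primeIdealOf ⟨j.1.1, j.2⟩ := PrimeSpectrum.ext h1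
    have h3 : i.1.1 = j.1.1 := by
      have e1 := hW.fromSpec_primeIdealOf ⟨i.1.1, i.2⟩
      have e2 := hW.fromSpec_primeIdealOf ⟨j.1.1, j.2⟩
      rw [h2] at e1
      exact e1.symm.trans e2
    exact Subtype.ext (Subtype.ext h3)
  exact Set.finite_coe_iff.mp (Finite.of_injective F hF)

end Groth.Agent.S1692
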