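import Groth.Statements.S1693
-- import your own Groth.Agent.* helpers here

set_option autoImplicit false
universe u
open CategoryTheory CategoryTheory.Limits AlgebraicGeometry TopologicalSpace
open SDiv

namespace Groth.Agent.S1693

theorem finite_irreducibleComponents_meeting {Z : Type*} [TopologicalSpace Z] (W : Set Z)
    (hW : IsOpen W) [NoetherianSpace W] :
    {T : Set Z | T ∈ irreducibleComponents Z ∧ (T ∩ W).Nonempty}.Finite := by
  have hf : Topology.IsOpenEmbedding (Subtype.val : W → Z) := hW.isOpenEmbedding_subtypeVal
  have hfin : (irreducibleComponents W).Finite := NoetherianSpace.finite_irreducibleComponents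
  refine (hfin.image (fun C => closure (Subtype.val '' C))).subset ?_
  rintro T ⟨hT, hne⟩
  have hne' : (T ∩ Set.range (Subtype.val : W → Z)).Nonempty := by
    simpa using hne
  refine ⟨Subtype.val ⁻¹' T, preimage_mem_irreducibleComponents hT hf hne', ?_⟩
  refine closure_image_preimage_of_isPreirreducible _ hf.isOpenMap T ?_ hT.1.2
    (isClosed_of_mem_irreducibleComponents T hT)
  obtain ⟨z, hzT, hzW⟩ := hne
  exact ⟨⟨z, hzW⟩, hzT⟩


/-- Let X be a locally Noetherian scheme and Z a closed subset. Then the irreducible components of Z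
form a locally finite family of subsets of X. -/
theorem result (X : Scheme.{u}) [IsLocallyNoetherian X] (Z : Set ↥X) (hZ : IsClosed Z) :
    LocallyFinite (fun T : ↥(irreducibleComponents ↥Z) => ((↑) '' (T.1 : Set ↥Z) : Set ↥X)) := by
  intro x
  obtain ⟨U, hU, hxU, -⟩ := exists_isAffineOpen_mem_and_subset (x := x) (U := ⊤) trivial
  haveI : IsNoetherianRing Γ(X, U) := IsLocallyNoetherian.component_noetherian ⟨U, hU⟩
  haveI hN : NoetherianSpace ((U : Set X)) := noetherianSpace_of_isAffineOpen U hU
  refine ⟨U, U.isOpen.mem_nhds hxU, ?_⟩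
  let W : Set Z := Subtype.val ⁻¹' (U : Set X)
  have hWo : IsOpen W := U.isOpen.preimage continuous_subtype_val
  haveI : NoetherianSpace W := by
    let i : W → ↥(U : Set X) := fun w => ⟨w.1.1, w.2⟩
    have hic : Continuous i :=
      Continuous.subtype_mk (continuous_subtype_val.comp continuous_subtype_val) _
    have h1 : Topology.IsInducing (Subtype.val ∘ i) :=
      (Topology.IsInducing.subtypeVal.comp Topology.IsInducing.subtypeVal :
        Topology.IsInducing (fun w : W => (w.1.1 : X)))
    exact Topology.IsInducing.noetherianSpace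
      (Topology.IsInducing.of_comp hic continuous_subtype_val h1)
  have hfin := finite_irreducibleComponents_meeting W hWo
  refine (hfin.preimage Subtype.val_injective.injOn).subset ?_
  rintro T ⟨y, ⟨z, hzT, rfl⟩, hzU⟩
  exact ⟨T.2, z, hzT, hzU⟩

end Groth.Agent.S1693
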