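import Groth.Statements.S16954
import Groth.Agent.H42.CmpLib

set_option autoImplicit false
universe u
open CohCmp

namespace Groth.Agent.S16954

section Aux

open AlgebraicGeometry CategoryTheory Scheme.Modules Opposite Limits Groth.Agent.H42.CmpLib

theorem map_app_naturality {Y : Scheme.{u}} {M N : Y.Modules} (φ : M ⟶ N) {W W' : Y.Opens}
    (h : W' ≤ W) (s : M.presheaf.obj (op W)) :
    φ.app W' (M.presheaf.map (homOfLE h).op s) = N.presheaf.map (homOfLE h).op (φ.app W s) := by
  have := φ.mapPresheaf.naturality (homOfLE h).op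
  exact ConcreteCategory.congr_hom this s

theorem aux {X Y : Scheme.{u}} (f : X ⟶ Y) [HasInjectiveResolutions X.Modules]
    {Δ : RDer.DerivedLES (pushforward f)} (E : CohCmp.SectCmp f Δ) (p : ℕ) :
    ∀ (F : X.Modules) (V : Y.Opens) (t : ((Coh.Rpush f p).obj F).presheaf.obj (op V)) (y : Y)
      (_ : y ∈ V),
    ∃ (W : Y.Opens) (hWV : W ≤ V), y ∈ W ∧
      ∃ x : Coh.HHon X F (f ⁻¹ᵁ W) p,
        E.ε W F p x = ((Coh.Rpush f p).obj F).presheaf.map (homOfLE hWV).op t := by
  induction p with
  | zero =>
    intro F V t y hy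
    have : PreservesFiniteLimits (pushforward f) := by
      have : PreservesLimitsOfSize.{0, 0} (pushforward f) :=
        (pullbackPushforwardAdjunction f).rightAdjoint_preservesLimits
      exact PreservesLimitsOfSize.preservesFiniteLimits _
    have hiso : IsIso ((pushforward f).toRightDerivedZero.app F) := inferInstance
    let s : F.presheaf.obj (op (f ⁻¹ᵁ V)) :=
      (inv ((pushforward f).toRightDerivedZero.app F)).app V t
    refine ⟨V, le_rfl, hy, CohPull.sectH0 F (f ⁻¹ᵁ V) s, ?_⟩
    refine (E.zero V F s).trans ?_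
    have h1 : ((pushforward f).toRightDerivedZero.app F).app V s = t := by
      have h2 : (inv ((pushforward f).toRightDerivedZero.app F)).app V ≫
          ((pushforward f).toRightDerivedZero.app F).app V = 𝟙 _ := by
        rw [← Hom.comp_app, IsIso.inv_hom_id, Hom.id_app]
      exact ConcreteCategory.congr_hom h2 t
    rw [h1]
    have h3 : (homOfLE (le_refl V)).op = 𝟙 (op V) := rfl
    rw [h3, CategoryTheory.Functor.map_id]
    rfl
  | succ p ih =>
    intro F V t y hy
    let R := injectiveResolution F
    let I := R.cocomplex.X 0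
    let i : F ⟶ I := R.ι.f 0
    have hi : Mono i := (inferInstance : Mono (R.ι.f 0))
    let S : ShortComplex X.Modules := ShortComplex.mk i (cokernel.π i) (cokernel.condition i)
    have hS : S.ShortExact :=
      { exact := ShortComplex.exact_cokernel i
        mono_f := hi
        epi_g := inferInstanceAs (Epi (cokernel.π i)) }
    have hI : Injective I := R.injective 0
    have hz : IsZero ((Coh.Rpush f (p + 1)).obj I) :=
      Functor.isZero_rightDerived_obj_injective_succ _ _ _
    have hepi : Epi (Δ.δ S hS p (p + 1) rfl) :=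
      (Δ.exact₁ S hS p (p + 1) rfl).epi_f (hz.eq_of_tgt _ _)
    obtain ⟨W, hWV, hyW, t', ht'⟩ := exists_local_lift (Δ.δ S hS p (p + 1) rfl) V t y hy
    obtain ⟨W', hW'W, hyW', x', hx'⟩ := ih S.X₃ W t' y hyW
    have hA := shortExact_map_toAbOn X (f ⁻¹ᵁ W') hS
    refine ⟨W', hW'W.trans hWV, hyW', CohCmp.extδ hA p x', ?_⟩
    refine (E.delta W' S hS hA p x').trans ?_
    rw [hx']
    refine (map_app_naturality (Δ.δ S hS p (p + 1) rfl) hW'W t').trans ?_
    rw [ht']
    have h4 : (homOfLE (hW'W.trans hWV)).op = (homOfLE hWV).op ≫ (homOfLE hW'W).op := rfl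
    rw [h4, CategoryTheory.Functor.map_comp]
    rfl

end Aux

open AlgebraicGeometry CategoryTheory Scheme.Modules Opposite in
/-- The comparison map is locally surjective. Let f : X → Y be a morphism of schemes, F an O_X-module
and p a natural number; R^p f_* F is the p-th right derived functor of direct image on O-modules and
ε_V : H^p(f⁻¹V, F|_{f⁻¹V}) → Γ(V, R^p f_* F) the pinned comparison maps (the structure SectCmp,
taken as a hypothesis). Then for every open V of Y, every section t of R^p f_* F over V and every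
point y of V there are an open neighbourhood W ⊆ V of y and a class x ∈ H^p(f⁻¹W, F|_{f⁻¹W}) with
ε_W(x) equal to the restriction of t to W. -/
theorem result
    {X Y : Scheme.{u}} (f : X ⟶ Y) [HasInjectiveResolutions X.Modules]
    {Δ : RDer.DerivedLES (pushforward f)} (E : CohCmp.SectCmp f Δ) (F : X.Modules) (p : ℕ)
    (V : Y.Opens) (t : ((Coh.Rpush f p).obj F).presheaf.obj (op V)) (y : Y) (hy : y ∈ V) :
    ∃ (W : Y.Opens) (hWV : W ≤ V), y ∈ W ∧
      ∃ x : Coh.HHon X F (f ⁻¹ᵁ W) p,
        E.ε W F p x = ((Coh.Rpush f p).obj F).presheaf.map (homOfLE hWV).op t := by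
  exact aux f E p F V t y hy

end Groth.Agent.S16954
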