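import Groth.Statements.S16955
import Groth.Agent.S16954
import Groth.Agent.H42.ResLE9

set_option autoImplicit false
universe u
open CohCmp

namespace Groth.Agent.S16955

section Aux

open AlgebraicGeometry CategoryTheory Scheme.Modules Opposite Limits Groth.Agent.H42.CmpLib
  Groth.Agent.H42.ResLE Groth.Agent.H42.Efface Groth.Agent.S16954

variable {X Y : Scheme.{u}} (f : X ⟶ Y) [HasInjectiveResolutions X.Modules]
  {Δ : RDer.DerivedLES (pushforward f)} (E : CohCmp.SectCmp f Δ)

/-- Variant of `extδ_mapH` with the class given up to a propositional equality. -/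
theorem extδ_mapH' {X : Scheme.{u}} {U : X.Opens} (S : ShortComplex X.Modules)
    (hU : (S.map (CohCmp.toAbOn X U)).ShortExact) (p : ℕ) (z : Coh.HHon X S.X₂ U p)
    (w : Coh.HHon X S.X₃ U p)
    (hw : w = CohPull.mapH ((restrictFunctor U.ι).map S.g) p z) :
    CohCmp.extδ hU p w = 0 := by
  subst hw
  exact extδ_mapH S hU p z

set_option maxHeartbeats 1600000 in
theorem aux (p : ℕ) : ∀ (F : X.Modules) (V : Y.Opens) (x : Coh.HHon X F (f ⁻¹ᵁ V) p)
    (_ : E.ε V F p x = 0) (y : Y) (_ : y ∈ V),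
    ∃ (W : Y.Opens) (hWV : W ≤ V), y ∈ W ∧ CohPull.resLE F (f.preimage_mono hWV) p x = 0 := by
  induction p with
  | zero =>
    intro F V x hx y hy
    have : PreservesFiniteLimits (pushforward f) := by
      have : PreservesLimitsOfSize.{0, 0} (pushforward f) :=
        (pullbackPushforwardAdjunction f).rightAdjoint_preservesLimits
      exact PreservesLimitsOfSize.preservesFiniteLimits _
    have hiso : IsIso ((pushforward f).toRightDerivedZero.app F) := inferInstance
    obtain ⟨s, rfl⟩ := (CohPull.sectH0 F (f ⁻¹ᵁ V)).surjective x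
    have h1 : ((pushforward f).toRightDerivedZero.app F).app V s = 0 := (E.zero V F s).symm.trans hx
    have h2 : ((pushforward f).toRightDerivedZero.app F).app V ≫
        (inv ((pushforward f).toRightDerivedZero.app F)).app V = 𝟙 _ := by
      rw [← Hom.comp_app, IsIso.hom_inv_id, Hom.id_app]
    have h3 : s = 0 := by
      have h4 : (inv ((pushforward f).toRightDerivedZero.app F)).app V
          (((pushforward f).toRightDerivedZero.app F).app V s) = s :=
        ConcreteCategory.congr_hom h2 s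
      rw [h1, map_zero] at h4
      exact h4.symm
    refine ⟨V, le_rfl, hy, ?_⟩
    rw [h3, map_zero, map_zero]
  | succ p ih =>
    intro F V x hx y hy
    obtain ⟨x', rfl⟩ := exists_extδ_eq F (f ⁻¹ᵁ V) p x
    have hS := shiftSC_shortExact F
    -- the section `t' = ε_V(x')` is killed by the connecting morphism
    have ht' : (Δ.δ (shiftSC F) hS p (p + 1) rfl).app V (E.ε V (shiftSC F).X₃ p x') = 0 :=
      (E.delta V (shiftSC F) hS (shiftSC_toAbOn F (f ⁻¹ᵁ V)) p x').symm.trans hx
    obtain ⟨W₁, hW₁, hyW₁, z, hz⟩ := exists_local_lift_of_exact _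
      (Δ.exact₃ (shiftSC F) hS p (p + 1) rfl) V (E.ε V (shiftSC F).X₃ p x') ht' y hy
    obtain ⟨W₂, hW₂, hyW₂, z', hz'⟩ := Groth.Agent.S16954.aux f E p (shiftSC F).X₂ W₁ z y hyW₁
    have hW₂V : W₂ ≤ V := hW₂.trans hW₁
    -- the difference class
    let w : Coh.HHon X (shiftSC F).X₃ (f ⁻¹ᵁ W₂) p :=
      CohPull.resLE (shiftSC F).X₃ (f.preimage_mono hW₂V) p x' -
        CohPull.mapH ((restrictFunctor (f ⁻¹ᵁ W₂).ι).map (shiftSC F).g) p z'
    have hw : E.ε W₂ (shiftSC F).X₃ p w = 0 := by
      have e1 : E.ε W₂ (shiftSC F).X₃ p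
          (CohPull.resLE (shiftSC F).X₃ (f.preimage_mono hW₂V) p x') =
          ((Coh.Rpush f p).obj (shiftSC F).X₃).presheaf.map (homOfLE hW₂V).op
            (E.ε V (shiftSC F).X₃ p x') := ε_resLE f E p (shiftSC F).X₃ hW₂V x'
      have e2 : E.ε W₂ (shiftSC F).X₃ p
          (CohPull.mapH ((restrictFunctor (f ⁻¹ᵁ W₂).ι).map (shiftSC F).g) p z') =
          ((Coh.Rpush f p).obj (shiftSC F).X₃).presheaf.map (homOfLE hW₂V).op
            (E.ε V (shiftSC F).X₃ p x') := by
        refine (E.natural W₂ (shiftSC F).g p z').trans ?_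
        refine (congrArg (((Coh.Rpush f p).map (shiftSC F).g).app W₂) hz').trans ?_
        refine (map_app_naturality ((Coh.Rpush f p).map (shiftSC F).g) hW₂ z).trans ?_
        refine (congrArg (((Coh.Rpush f p).obj (shiftSC F).X₃).presheaf.map (homOfLE hW₂).op)
          hz).trans ?_
        exact presheaf_map_trans _ hW₁ hW₂ _
      have e3 : E.ε W₂ (shiftSC F).X₃ p w =
          E.ε W₂ (shiftSC F).X₃ p
            (CohPull.resLE (shiftSC F).X₃ (f.preimage_mono hW₂V) p x') -
          E.ε W₂ (shiftSC F).X₃ p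
            (CohPull.mapH ((restrictFunctor (f ⁻¹ᵁ W₂).ι).map (shiftSC F).g) p z') :=
        map_sub _ _ _
      rw [e3, e1, e2, sub_self]
    obtain ⟨W₃, hW₃, hyW₃, hres⟩ := ih (shiftSC F).X₃ W₂ w hw y hyW₂
    have hW₃V : W₃ ≤ V := hW₃.trans hW₂V
    refine ⟨W₃, hW₃V, hyW₃, ?_⟩
    -- restriction of `x'` to `W₃` comes from the middle term
    have h5 : CohPull.resLE (shiftSC F).X₃ (f.preimage_mono hW₃V) p x' =
        CohPull.mapH ((restrictFunctor (f ⁻¹ᵁ W₃).ι).map (shiftSC F).g) p
          (CohPull.resLE (shiftSC F).X₂ (f.preimage_mono hW₃) p z') := by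
      have e4 : CohPull.resLE (shiftSC F).X₃ (f.preimage_mono hW₃) p w =
          CohPull.resLE (shiftSC F).X₃ (f.preimage_mono hW₃) p
            (CohPull.resLE (shiftSC F).X₃ (f.preimage_mono hW₂V) p x') -
          CohPull.resLE (shiftSC F).X₃ (f.preimage_mono hW₃) p
            (CohPull.mapH ((restrictFunctor (f ⁻¹ᵁ W₂).ι).map (shiftSC F).g) p z') :=
        map_sub _ _ _
      have e5 := sub_eq_zero.mp (e4.symm.trans hres)
      refine (resLE_trans p (shiftSC F).X₃ (f.preimage_mono hW₂V) (f.preimage_mono hW₃) x').symm.trans ?_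
      refine e5.trans ?_
      exact resLE_mapH (f.preimage_mono hW₃) (shiftSC F).g p z'
    have h6 := resLE_extδ (f.preimage_mono hW₃V) (shiftSC F) (shiftSC_toAbOn F (f ⁻¹ᵁ V))
      (shiftSC_toAbOn F (f ⁻¹ᵁ W₃)) p x'
    have h7 := extδ_mapH' (shiftSC F) (shiftSC_toAbOn F (f ⁻¹ᵁ W₃)) p _ _ h5
    exact h6.trans h7

end Aux

open AlgebraicGeometry CategoryTheory Scheme.Modules in
/-- The comparison map is locally injective. Let f : X → Y be a morphism of schemes, F an O_X-module and
p a natural number; R^p f_* F is the p-th right derived functor of direct image on O-modules and ε_V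
: H^p(f⁻¹V, F|_{f⁻¹V}) → Γ(V, R^p f_* F) the pinned comparison maps (the structure SectCmp, taken as
a hypothesis). If a class x over f⁻¹V satisfies ε_V(x) = 0, then every point y of V has an open
neighbourhood W ⊆ V such that the restriction of x to H^p(f⁻¹W, F|_{f⁻¹W}) vanishes. -/
theorem result
    {X Y : Scheme.{u}} (f : X ⟶ Y) [HasInjectiveResolutions X.Modules]
    {Δ : RDer.DerivedLES (pushforward f)} (E : CohCmp.SectCmp f Δ) (F : X.Modules) (p : ℕ)
    (V : Y.Opens) (x : Coh.HHon X F (f ⁻¹ᵁ V) p) (hx : E.ε V F p x = 0) (y : Y) (hy : y ∈ V) :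
    ∃ (W : Y.Opens) (hWV : W ≤ V), y ∈ W ∧ CohPull.resLE F (f.preimage_mono hWV) p x = 0 := by
  exact aux f E p F V x hx y hy

end Groth.Agent.S16955
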