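import Groth.Statements.S1696
-- import your own Groth.Agent.* helpers here
import Groth.Agent.H8.PullbackStalk
import Groth.Agent.H8.QCohStalk

set_option autoImplicit false
set_option linter.style.haveILetI false
universe u
open CategoryTheory CategoryTheory.Limits AlgebraicGeometry TopologicalSpace Opposite
open SDiv

namespace Groth.Agent.S1696

/-- Pure algebra: if `N` is flat over `A`, `B` an `A`-algebra and `τ : B` a nonzerodivisor, then
`τ` acts injectively on `B ⊗[A] N`. -/
lemma smul_tensor_injective {A B N : Type u} [CommRing A] [CommRing B] [Algebra A B]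
    [AddCommGroup N] [Module A N] [Module.Flat A N] (τ : B) (hτ : τ ∈ nonZeroDivisors B)
    (z : TensorProduct A B N) (hz : τ • z = 0) : z = 0 := by
  have hinj : Function.Injective ((LinearMap.mulLeft A τ).rTensor N) := by
    apply Module.Flat.rTensor_preserves_injective_linearMap
    intro a b hab
    simp only [LinearMap.mulLeft_apply] at hab
    exact (mul_cancel_left_mem_nonZeroDivisors hτ).mp hab
  have key : ∀ w : TensorProduct A B N, τ • w = (LinearMap.mulLeft A τ).rTensor N w := by
    intro w
    induction w using TensorProduct.induction_on with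
    | zero => simp
    | tmul x y => simp [TensorProduct.smul_tmul']
    | add x y hx hy => rw [smul_add, map_add, hx, hy]
  apply hinj
  rw [← key, hz, map_zero]

variable {S S' : Scheme.{u}}

lemma stalk_smul_injective (b : S' ⟶ S) (F : S.Modules) [F.IsQuasicoherent] (x : S')
    (τ : S'.presheaf.stalk x)
    (h : IsUnit τ ∨ (τ ∈ nonZeroDivisors (S'.presheaf.stalk x) ∧ FlatMod.IsFlatAt F (b x)))
    (z : ((Scheme.Modules.pullback b).obj F).presheaf.stalk x) (hz : τ • z = 0) : z = 0 := by
  rcases h with h | ⟨h1, h2⟩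
  · exact (IsUnit.smul_eq_zero h).mp hz
  · letI := (b.stalkMap x).hom.toAlgebra
    obtain ⟨e⟩ := Groth.Agent.H8.nonempty_stalk_pullback_equiv b F x
    haveI : Module.Flat (S.presheaf.stalk (b x)) (F.presheaf.stalk (b x)) := h2
    have h3 : τ • e z = 0 := by rw [← map_smul, hz, map_zero]
    have h4 := smul_tensor_injective τ h1 (e z) h3
    exact e.map_eq_zero_iff.mp h4

lemma stalk_pow_smul_injective (b : S' ⟶ S) (F : S.Modules) [F.IsQuasicoherent] (x : S')
    (τ : S'.presheaf.stalk x)
    (h : IsUnit τ ∨ (τ ∈ nonZeroDivisors (S'.presheaf.stalk x) ∧ FlatMod.IsFlatAt F (b x)))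
    (n : ℕ) (z : ((Scheme.Modules.pullback b).obj F).presheaf.stalk x) (hz : τ ^ n • z = 0) :
    z = 0 := by
  induction n with
  | zero => simpa using hz
  | succ k ih =>
    apply ih
    apply stalk_smul_injective b F x τ h
    rw [smul_smul, ← pow_succ']
    exact hz


/-- The germ of a generator of an effective Cartier ideal. -/
lemma germ_cases (E : S'.IdealSheafData) (U : S'.affineOpens) (t : Γ(S', U.1))
    (ht : t ∈ nonZeroDivisors Γ(S', U.1)) (hUt : E.ideal U = Ideal.span {t}) (x : S') (hxU : x ∈ U.1) :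
    (x ∉ E.support → IsUnit (S'.presheaf.germ U.1 x hxU t)) ∧
      S'.presheaf.germ U.1 x hxU t ∈ nonZeroDivisors (S'.presheaf.stalk x) := by
  constructor
  · intro hx
    rw [Scheme.IdealSheafData.mem_support_iff_of_mem (U := U) hxU, Scheme.mem_zeroLocus_iff] at hx
    push Not at hx
    obtain ⟨f, hf, hxf⟩ := hx
    rw [hUt] at hf
    obtain ⟨r, rfl⟩ := Ideal.mem_span_singleton'.mp hf
    rw [Scheme.basicOpen_mul] at hxf
    exact (Scheme.mem_basicOpen _ _ _ hxU).mp hxf.2
  · haveI := U.2.isLocalization_stalk ⟨x, hxU⟩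
    letI := S'.presheaf.algebra_section_stalk ⟨x, hxU⟩
    exact IsLocalization.map_nonZeroDivisors_le (U.2.primeIdealOf ⟨x, hxU⟩).asIdeal.primeCompl
      (S'.presheaf.stalk x) (Submonoid.mem_map_of_mem _ ht)



/-- Let b : S' → S be the blowing-up of a scheme S in a quasi-coherent sheaf of ideals 𝓘 and F a
quasi-coherent O_S-module which is flat at every point of V(𝓘), the support of O_S/𝓘. Then the
pullback b^*F is its own strict transform (via the identity map): no nonzero local section of b^*F
is annihilated by a power of the exceptional ideal. -/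
theorem result {S S' : Scheme.{u}} (𝓘 : S.IdealSheafData) (b : S' ⟶ S) (hb : BlowUp.IsBlowUp b 𝓘)
    (F : S.Modules) (hF : Coh.IsQCoh F) (hflat : ∀ s : ↥S, s ∈ 𝓘.support → FlatMod.IsFlatAt F s) :
    BlowUp.IsStrictTransform b 𝓘 F ((Scheme.Modules.pullback b).obj F) (𝟙 _) := by
  haveI : F.IsQuasicoherent := hF
  set G := (Scheme.Modules.pullback b).obj F with hG
  set E := 𝓘.comap b with hE
  refine ⟨inferInstance, fun V m => ⟨?_, ?_⟩⟩
  · intro h
    have hm : m = 0 := h
    subst hm
    exact ⟨0, fun a _ => smul_zero a⟩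
  · rintro ⟨n, hn⟩
    change m = 0
    change ∀ a, a ∈ (E ^ n).ideal V → a • m = 0 at hn
    apply TopCat.Presheaf.section_ext ⟨G.presheaf, G.isSheaf⟩ V.1 m 0
    intro x hx
    rw [map_zero]
    obtain ⟨U, hxU, t, ht, hUt⟩ := hb.1 x
    obtain ⟨W, hW, hxW, hWle⟩ := exists_isAffineOpen_mem_and_subset (x := x) (U := U.1 ⊓ V.1)
      ⟨hxU, hx⟩
    let W' : S'.affineOpens := ⟨W, hW⟩
    have hWU : W' ≤ U := fun y hy => (hWle hy).1
    have hWV : W' ≤ V := fun y hy => (hWle hy).2
    have h1 : (E.ideal V ^ n).map (S'.presheaf.map (homOfLE hWV).op).hom = (E.ideal W') ^ n := by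
      rw [Ideal.map_pow, E.map_ideal hWV]
    have h2 : E.ideal W' = Ideal.span {S'.presheaf.map (homOfLE hWU).op t} := by
      rw [← E.map_ideal hWU, hUt, Ideal.map_span, Set.image_singleton]
    have h3 : (S'.presheaf.map (homOfLE hWU).op t) ^ n ∈
        (E.ideal V ^ n).map (S'.presheaf.map (homOfLE hWV).op).hom := by
      rw [h1, h2, Ideal.span_singleton_pow]
      exact Ideal.mem_span_singleton_self _
    have h4 : ∀ c ∈ (E.ideal V ^ n).map (S'.presheaf.map (homOfLE hWV).op).hom,
        c • (G.presheaf.map (homOfLE hWV).op m) = 0 := by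
      intro c hc
      refine Submodule.span_induction ?_ ?_ ?_ ?_ hc
      · rintro _ ⟨a, ha, rfl⟩
        have e1 := G.map_smul (homOfLE hWV) a m
        rw [hn a ha, map_zero] at e1
        exact e1.symm
      · exact zero_smul _ _
      · intro c d _ _ hc hd
        rw [add_smul, hc, hd, add_zero]
      · intro r c _ hc
        rw [smul_eq_mul, mul_smul, hc, smul_zero]
    have h5 := h4 _ h3
    have h6 := congrArg (G.presheaf.germ W x hxW) h5
    have e2 : S'.presheaf.germ W x hxW (S'.presheaf.map (homOfLE hWU).op t) =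
        S'.presheaf.germ U.1 x hxU t := TopCat.Presheaf.germ_res_apply _ _ _ _ _
    have e3 : G.presheaf.germ W x hxW (G.presheaf.map (homOfLE hWV).op m) =
        G.presheaf.germ V.1 x hx m := TopCat.Presheaf.germ_res_apply _ _ _ _ _
    rw [Groth.Agent.H8.germ_smul, map_pow, e2, e3, map_zero] at h6
    obtain ⟨g1, g2⟩ := germ_cases E U t ht hUt x hxU
    refine stalk_pow_smul_injective b F x _ ?_ n _ h6
    by_cases hxs : x ∈ E.support
    · right
      refine ⟨g2, hflat _ ?_⟩
      rw [hE, Scheme.IdealSheafData.support_comap] at hxs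
      exact hxs
    · left
      exact g1 hxs


end Groth.Agent.S1696
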