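import Groth.Statements.S16962
-- no extra imports

set_option autoImplicit false
universe u
open ConstAct

namespace Groth.Agent.S16962

open TensorProduct

section
variable (R : Type u) [CommRing R] (B : Type u) [CommRing B] [Algebra R B]
  (Γ : Type u) [Group Γ] [Fintype Γ] [DecidableEq Γ]

/-- coefficient of `e g`, as an algebra map -/
noncomputable def coefA (g : Γ) : B ⊗[R] ConstGrp.F R Γ →ₐ[R] B :=
  (Algebra.TensorProduct.rid R R B).toAlgHom.comp
    (Algebra.TensorProduct.map (AlgHom.id R B) (ConstGrp.ev R g))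

theorem coefA_tmul (g : Γ) (b : B) (f : ConstGrp.F R Γ) : coefA R B Γ g (b ⊗ₜ f) = f g • b := by
  simp [coefA]

theorem eq_sum_coef (t : B ⊗[R] ConstGrp.F R Γ) :
    t = ∑ g : Γ, coefA R B Γ g t ⊗ₜ[R] ConstGrp.e R g := by
  induction t using TensorProduct.induction_on with
  | zero => simp
  | tmul b f =>
    simp only [coefA_tmul]
    conv_lhs => rw [ConstGrp.eq_sum_smul_e f]
    rw [TensorProduct.tmul_sum]
    refine Finset.sum_congr rfl fun g _ => ?_
    rw [TensorProduct.smul_tmul]
  | add x y hx hy =>
    simp only [map_add, TensorProduct.add_tmul, Finset.sum_add_distrib]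
    rw [← hx, ← hy]

/-- evaluation at a pair -/
noncomputable def ev2 (g h : Γ) : ConstGrp.F R Γ ⊗[R] ConstGrp.F R Γ →ₗ[R] R :=
  (TensorProduct.lid R R).toLinearMap ∘ₗ
    TensorProduct.map (ConstGrp.ev R g).toLinearMap (ConstGrp.ev R h).toLinearMap

theorem ev2_tmul (g h : Γ) (f₁ f₂ : ConstGrp.F R Γ) : ev2 R Γ g h (f₁ ⊗ₜ f₂) = f₁ g * f₂ h := by
  simp [ev2]

theorem ev2_comul (g h : Γ) (f : ConstGrp.F R Γ) :
    ev2 R Γ g h (Coalgebra.comul (R := R) f) = f (g * h) := by
  rw [ConstGrp.comul_eq_sum]
  simp only [map_sum, map_smul, ev2_tmul, ConstGrp.e_apply, smul_eq_mul]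
  rw [Finset.sum_eq_single g]
  · rw [Finset.sum_eq_single h]
    · simp
    · intro b _ hb; simp [Ne.symm hb]
    · intro hh; exact absurd (Finset.mem_univ _) hh
  · intro a _ ha
    apply Finset.sum_eq_zero
    intro b _
    simp [Ne.symm ha]
  · intro hh; exact absurd (Finset.mem_univ _) hh

/-- the functional `b ⊗ (f₁ ⊗ f₂) ↦ f₁ g f₂ h b` -/
noncomputable def Phi (g h : Γ) : B ⊗[R] (ConstGrp.F R Γ ⊗[R] ConstGrp.F R Γ) →ₗ[R] B :=
  (TensorProduct.rid R B).toLinearMap ∘ₗ (ev2 R Γ g h).lTensor B

theorem Phi_tmul (g h : Γ) (b : B) (t : ConstGrp.F R Γ ⊗[R] ConstGrp.F R Γ) :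
    Phi R B Γ g h (b ⊗ₜ t) = ev2 R Γ g h t • b := by
  simp [Phi]

theorem Phi_assoc (g h : Γ) (s : B ⊗[R] ConstGrp.F R Γ) (f : ConstGrp.F R Γ) :
    Phi R B Γ g h (TensorProduct.assoc R B (ConstGrp.F R Γ) (ConstGrp.F R Γ) (s ⊗ₜ f)) =
      f h • coefA R B Γ g s := by
  induction s using TensorProduct.induction_on with
  | zero => simp
  | tmul c f' =>
    rw [TensorProduct.assoc_tmul, Phi_tmul, ev2_tmul, coefA_tmul, smul_smul, mul_comm]
  | add x y hx hy =>
    rw [TensorProduct.add_tmul, map_add, map_add, hx, hy, map_add, smul_add]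

variable [HopfRep.Comod R (ConstGrp.F R Γ) B] [GLin.IsCoactAlg R (ConstGrp.F R Γ) B]

/-- the coaction as an algebra map -/
noncomputable abbrev rho : B →ₐ[R] B ⊗[R] ConstGrp.F R Γ := GLin.coactAlgHom R (ConstGrp.F R Γ) B

theorem coef_one (b : B) : coefA R B Γ 1 (rho R B Γ b) = b := by
  have h := LinearMap.congr_fun (HopfRep.Comod.counit_comp (k := R) (A := ConstGrp.F R Γ) (V := B)) b
  simp only [LinearMap.comp_apply, LinearMap.flip_apply, TensorProduct.mk_apply] at h
  have key : ∀ t : B ⊗[R] ConstGrp.F R Γ, coefA R B Γ 1 t =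
      TensorProduct.rid R B ((Coalgebra.counit (R := R) (A := ConstGrp.F R Γ)).lTensor B t) := by
    intro t
    induction t using TensorProduct.induction_on with
    | zero => simp
    | tmul c f => simp [coefA_tmul]
    | add x y hx hy => simp only [map_add, hx, hy]
  rw [key]
  change TensorProduct.rid R B ((Coalgebra.counit (R := R) (A := ConstGrp.F R Γ)).lTensor B
    (HopfRep.Comod.coact (k := R) (A := ConstGrp.F R Γ) b)) = b
  rw [h]
  simp

theorem coef_mul (g h : Γ) (b : B) :
    coefA R B Γ (g * h) (rho R B Γ b) = coefA R B Γ g (rho R B Γ (coefA R B Γ h (rho R B Γ b))) := by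
  have hco := LinearMap.congr_fun (HopfRep.Comod.coassoc (k := R) (A := ConstGrp.F R Γ) (V := B)) b
  simp only [LinearMap.comp_apply, LinearEquiv.coe_coe] at hco
  have hL : ∀ t : B ⊗[R] ConstGrp.F R Γ,
      Phi R B Γ g h (TensorProduct.assoc R B (ConstGrp.F R Γ) (ConstGrp.F R Γ)
        ((HopfRep.Comod.coact (k := R) (A := ConstGrp.F R Γ) (V := B)).rTensor (ConstGrp.F R Γ) t)) =
      coefA R B Γ g (rho R B Γ (coefA R B Γ h t)) := by
    intro t
    induction t using TensorProduct.induction_on with
    | zero => simp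
    | tmul c f =>
      rw [LinearMap.rTensor_tmul, Phi_assoc, coefA_tmul, map_smul, map_smul]
      rfl
    | add x y hx hy => simp only [map_add, hx, hy]
  have hR : ∀ t : B ⊗[R] ConstGrp.F R Γ,
      Phi R B Γ g h ((Coalgebra.comul (R := R) (A := ConstGrp.F R Γ)).lTensor B t) =
      coefA R B Γ (g * h) t := by
    intro t
    induction t using TensorProduct.induction_on with
    | zero => simp
    | tmul c f => rw [LinearMap.lTensor_tmul, Phi_tmul, ev2_comul, coefA_tmul]
    | add x y hx hy => simp only [map_add, hx, hy]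
  have := congrArg (Phi R B Γ g h) hco
  rw [hL, hR] at this
  exact this.symm

/-- the action attached to the coaction -/
noncomputable def act : MulSemiringAction Γ B where
  smul g b := coefA R B Γ g (rho R B Γ b)
  one_smul b := coef_one R B Γ b
  mul_smul g h b := coef_mul R B Γ g h b
  smul_zero g := by change coefA R B Γ g (rho R B Γ 0) = 0; simp
  smul_add g x y := by
    change coefA R B Γ g (rho R B Γ (x + y)) = coefA R B Γ g (rho R B Γ x) + coefA R B Γ g (rho R B Γ y)
    simp
  smul_one g := by
    change coefA R B Γ g (HopfRep.Comod.coact (k := R) (A := ConstGrp.F R Γ) (1 : B)) = 1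
    rw [GLin.IsCoactAlg.coact_one (k := R) (A := ConstGrp.F R Γ) (R := B), map_one]
  smul_mul g x y := by
    change coefA R B Γ g (HopfRep.Comod.coact (k := R) (A := ConstGrp.F R Γ) (x * y)) =
      coefA R B Γ g (HopfRep.Comod.coact (k := R) (A := ConstGrp.F R Γ) x) *
        coefA R B Γ g (HopfRep.Comod.coact (k := R) (A := ConstGrp.F R Γ) y)
    rw [GLin.IsCoactAlg.coact_mul (k := R) (A := ConstGrp.F R Γ) (R := B), map_mul]

theorem act_smul (g : Γ) (b : B) :
    (act R B Γ).toSMul.smul g b = coefA R B Γ g (HopfRep.Comod.coact (k := R) (A := ConstGrp.F R Γ) b) :=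
  rfl

end

theorem msa_ext {Γ B : Type u} [Group Γ] [CommRing B] (a a' : MulSemiringAction Γ B)
    (h : ∀ (g : Γ) (b : B), a.toSMul.smul g b = a'.toSMul.smul g b) : a = a' := by
  rcases a with @⟨a1, h1, h2⟩
  rcases a' with @⟨a1', h1', h2'⟩
  have : a1 = a1' := by
    apply DistribMulAction.ext
    funext g b
    exact h g b
  subst this
  rfl

open TensorProduct in
/-- Let R be a commutative ring, Γ a finite group and B a commutative R-algebra equipped with a comodule
structure over the Hopf algebra of R-valued functions on Γ (the coordinate ring of the constant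
group scheme of Γ over Spec R, with basis the indicator functions e_γ) whose coaction B → B ⊗ Fun(Γ,
R) is a homomorphism of algebras, i.e. an action of the constant group scheme on Spec B. Then there
is exactly one action of Γ on B by R-algebra automorphisms whose associated coaction b ↦ Σ_γ (γ · b)
⊗ e_γ is the given coaction; and for that action the ring of invariants of the comodule algebra (the
b whose coaction is b ⊗ 1) equals the ring of elements fixed by Γ. (That the coaction associated
with an action is a comodule algebra structure is the other direction of the published equivalence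
and is a construction here.) -/
theorem result (R : Type u) [CommRing R]
    (B : Type u) [CommRing B] [Algebra R B] (Γ : Type u) [Group Γ] [Fintype Γ] [DecidableEq Γ]
    [HopfRep.Comod R (ConstGrp.F R Γ) B] [GLin.IsCoactAlg R (ConstGrp.F R Γ) B] :
    ∃! a : MulSemiringAction Γ B, ∃ _ : SMulCommClass Γ R B,
      ConstAct.coactLin R B Γ = HopfRep.Comod.coact (k := R) (A := ConstGrp.F R Γ) (V := B) ∧
        GLin.invariants R (ConstGrp.F R Γ) B = ConstAct.inv R B Γ := by
  refine ⟨act R B Γ, ?_, ?_⟩
  · letI := act R B Γ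
    have hsmul : ∀ (g : Γ) (b : B), g • b =
        coefA R B Γ g (HopfRep.Comod.coact (k := R) (A := ConstGrp.F R Γ) b) := fun g b => rfl
    have hcomm : SMulCommClass Γ R B := ⟨fun g r b => by
      rw [hsmul, hsmul, map_smul, map_smul]⟩
    refine ⟨hcomm, ?_, ?_⟩
    · apply LinearMap.ext
      intro b
      rw [ConstAct.coactLin_apply]
      conv_rhs => rw [eq_sum_coef R B Γ (HopfRep.Comod.coact (k := R) (A := ConstGrp.F R Γ) b)]
      exact Finset.sum_congr rfl (fun g _ => by rw [hsmul])
    · ext f
      rw [GLin.mem_invariants_iff, ConstAct.mem_inv]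
      constructor
      · intro hf g
        rw [hsmul, hf, coefA_tmul]
        simp
      · intro hf
        rw [eq_sum_coef R B Γ (HopfRep.Comod.coact (k := R) (A := ConstGrp.F R Γ) f)]
        have : ∀ g : Γ, coefA R B Γ g (HopfRep.Comod.coact (k := R) (A := ConstGrp.F R Γ) f) = f :=
          fun g => (hsmul g f).symm.trans (hf g)
        simp only [this]
        rw [← TensorProduct.tmul_sum, ConstGrp.sum_e]
  · rintro a' ⟨hcomm', hco', -⟩
    apply msa_ext
    intro g b
    rw [act_smul]
    rw [← hco']
    letI := a'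
    rw [ConstAct.coactLin_apply, map_sum]
    simp only [coefA_tmul, ConstGrp.e_apply]
    rw [Finset.sum_eq_single g]
    · simp; rfl
    · intro k _ hk
      rw [if_neg (Ne.symm hk), zero_smul]
    · intro hh; exact absurd (Finset.mem_univ _) hh

end Groth.Agent.S16962
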