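import Groth.Statements.S16963
-- no extra imports

set_option autoImplicit false
universe u
open scoped BigOperators
open ConstAct

namespace Groth.Agent.S16963

open TensorProduct

/-- coefficient of `e h` -/
noncomputable def coef (R : Type u) [CommRing R] (B : Type u) [CommRing B] [Algebra R B]
    (Γ : Type u) (h : Γ) : B ⊗[R] ConstGrp.F R Γ →ₗ[R] B :=
  (TensorProduct.rid R B).toLinearMap ∘ₗ (ConstGrp.ev R h).toLinearMap.lTensor B

theorem coef_tmul (R : Type u) [CommRing R] (B : Type u) [CommRing B] [Algebra R B]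
    (Γ : Type u) [DecidableEq Γ] (h k : Γ) (b : B) :
    coef R B Γ h (b ⊗ₜ ConstGrp.e R k) = if h = k then b else 0 := by
  simp only [coef, LinearMap.comp_apply, LinearMap.lTensor_tmul, LinearEquiv.coe_coe,
    TensorProduct.rid_tmul, AlgHom.toLinearMap_apply, ConstGrp.ev_apply, ConstGrp.e_apply]
  split_ifs <;> simp

open TensorProduct in
/-- Let R be a commutative ring and Γ a finite group acting on a commutative R-algebra B by R-algebra
automorphisms; regard B as a comodule algebra over the Hopf algebra of R-valued functions on Γ (the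
constant group scheme of Γ acting on Spec B) through the coaction b ↦ Σ_γ (γ · b) ⊗ e_γ. Then the
action is tame — there is a comodule map α from the Hopf algebra, with its regular coaction, to B
with α(1) = 1 (a total integral) — if and only if the trace b ↦ Σ_γ γ · b, which takes values in the
ring of invariants B^Γ, maps B onto B^Γ. -/
theorem result (R : Type u) [CommRing R]
    (B : Type u) [CommRing B] [Algebra R B] (Γ : Type u) [Group Γ] [Fintype Γ] [DecidableEq Γ]
    [MulSemiringAction Γ B] [SMulCommClass Γ R B] :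
    letI := ConstAct.comod R B Γ
    (∃ α : ConstGrp.F R Γ →ₗ[R] B, Hoch.IsComodHom (ConstGrp.F R Γ) α ∧ α 1 = 1) ↔
      ∀ c : B, c ∈ ConstAct.inv R B Γ → ∃ b : B, ∑ γ : Γ, γ • b = c := by
  constructor
  · rintro ⟨α, hα, hα1⟩ c hc
    have hα' : ∀ x : ConstGrp.F R Γ, ConstAct.coactLin R B Γ (α x) =
        α.rTensor (ConstGrp.F R Γ) (Coalgebra.comul (R := R) x) := fun x => LinearMap.congr_fun hα x
    have key : ∀ h : Γ, h • α (ConstGrp.e R 1) = α (ConstGrp.e R h⁻¹) := by
      intro h
      have := congrArg (coef R B Γ h) (hα' (ConstGrp.e R 1))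
      rw [ConstAct.coactLin_apply, ConstGrp.comul_e, map_sum, map_sum, map_sum] at this
      simp only [LinearMap.rTensor_tmul, coef_tmul, mul_one] at this
      rw [Finset.sum_ite_eq, if_pos (Finset.mem_univ _)] at this
      rw [this]
      rw [Finset.sum_eq_single h⁻¹]
      · simp
      · intro a _ ha
        rw [if_neg]
        intro h'
        apply ha
        rw [h', inv_inv]
      · intro h'; exact absurd (Finset.mem_univ _) h'
    have htr : ∑ h : Γ, h • α (ConstGrp.e R 1) = 1 := by
      simp_rw [key]
      rw [← map_sum]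
      have : ∑ h : Γ, ConstGrp.e R h⁻¹ = (1 : ConstGrp.F R Γ) := by
        rw [← ConstGrp.sum_e (R := R) (G := Γ)]
        exact Fintype.sum_equiv (Equiv.inv Γ) _ _ (fun k => rfl)
      rw [this, hα1]
    refine ⟨c * α (ConstGrp.e R 1), ?_⟩
    have hc' : ∀ g : Γ, g • c = c := hc
    simp_rw [smul_mul', hc']
    rw [← Finset.mul_sum, htr, mul_one]
  · intro H
    obtain ⟨b, hb⟩ := H 1 (one_mem _)
    let α : ConstGrp.F R Γ →ₗ[R] B := (ConstGrp.basis R Γ).constr R (fun k => k⁻¹ • b)
    have hαe : ∀ k, α (ConstGrp.e R k) = k⁻¹ • b := by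
      intro k
      rw [← ConstGrp.basis_apply, Module.Basis.constr_basis]
    refine ⟨α, ?_, ?_⟩
    · apply ConstGrp.linearMap_ext
      intro g
      change ConstAct.coactLin R B Γ (α (ConstGrp.e R g)) =
        α.rTensor (ConstGrp.F R Γ) (Coalgebra.comul (R := R) (ConstGrp.e R g))
      rw [ConstAct.coactLin_apply, ConstGrp.comul_e, map_sum]
      simp only [LinearMap.rTensor_tmul, hαe]
      symm
      refine Fintype.sum_equiv ((Equiv.inv Γ).trans (Equiv.mulRight g)) _ _ (fun a => ?_)
      simp only [Equiv.trans_apply, Equiv.inv_apply, Equiv.coe_mulRight]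
      rw [← mul_smul, mul_assoc, mul_inv_cancel, mul_one]
    · rw [← ConstGrp.sum_e (R := R) (G := Γ), map_sum]
      simp only [hαe]
      rw [← hb]
      exact Fintype.sum_equiv (Equiv.inv Γ) _ _ (fun k => rfl)

end Groth.Agent.S16963
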