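import Groth.Statements.S16979
import Mathlib.LinearAlgebra.Matrix.Charpoly.Eigs
import Mathlib.LinearAlgebra.Matrix.Charpoly.Minpoly
import Mathlib.FieldTheory.IsAlgClosed.AlgebraicClosure
import Mathlib.FieldTheory.IsAlgClosed.Spectrum
import Mathlib.Algebra.Polynomial.Splits

set_option autoImplicit false
universe u v
open CAlg

namespace Groth.Agent.S16979

open Polynomial in
theorem dvd_of_aeval_eq_zero
    {R : Type u} [CommRing R] [IsDomain R] {n : Type v} [Fintype n] [DecidableEq n]
    (φ : Matrix n n R)
    (hsep : (φ.charpoly.map (algebraMap R (FractionRing R))).Separable)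
    (f : R[X]) (hf : Polynomial.aeval (R := R) φ f = 0) : φ.charpoly ∣ f := by
  classical
  by_cases hf0 : f = 0
  · subst hf0; exact dvd_zero _
  let K := FractionRing R
  let L := AlgebraicClosure K
  let ι : R →+* L := (algebraMap K L).comp (algebraMap R K)
  have hι : Function.Injective ι :=
    (algebraMap K L).injective.comp (IsFractionRing.injective R K)
  rw [← Polynomial.map_dvd_map ι hι (Matrix.charpoly_monic φ)]
  let ψ : Matrix n n L := φ.map ι
  have hψ : ψ.charpoly = φ.charpoly.map ι := by
    simp only [ψ]
    exact (Matrix.charpoly_map φ ι)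
  rw [← hψ]
  have hsepL : ψ.charpoly.Separable := by
    rw [hψ, ← Polynomial.map_map]
    exact hsep.map
  have hg : Polynomial.aeval ψ (f.map ι) = 0 := by
    have h1 : Polynomial.aeval ψ (f.map ι) = (Polynomial.aeval φ f).map ι := by
      have := Polynomial.hom_eval₂ f (algebraMap R (Matrix n n R)) (RingHom.mapMatrix ι) φ
      simp only [Polynomial.aeval_def, Polynomial.eval₂_map]
      rw [show (Polynomial.eval₂ (algebraMap R (Matrix n n R)) φ f).map ι =
        (RingHom.mapMatrix ι) (Polynomial.eval₂ (algebraMap R (Matrix n n R)) φ f) from rfl, this]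
      congr 1
      ext r i j
      simp [Matrix.algebraMap_matrix_apply]
      split_ifs <;> simp
    rw [h1, hf]; simp
  have hne : ψ.charpoly ≠ 0 := (Matrix.charpoly_monic ψ).ne_zero
  have hg0 : f.map ι ≠ 0 := by
    rwa [Ne, Polynomial.map_eq_zero_iff hι]
  refine (IsAlgClosed.splits ψ.charpoly).dvd_of_roots_le_roots hne ?_
  rw [Multiset.le_iff_subset (Polynomial.nodup_roots hsepL)]
  intro μ hμ
  rw [Polynomial.mem_roots hne] at hμ
  rw [Polynomial.mem_roots hg0]
  have hμs : μ ∈ spectrum L ψ := Matrix.mem_spectrum_iff_isRoot_charpoly.mpr hμ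
  have := spectrum.subset_polynomial_aeval ψ (f.map ι) ⟨μ, hμs, rfl⟩
  rw [hg] at this
  have h0 : (Polynomial.eval μ (f.map ι)) = 0 := by
    by_contra hne0
    have hu : IsUnit (algebraMap L (Matrix n n L) (Polynomial.eval μ (f.map ι)) - 0) := by
      rw [sub_zero]
      exact (IsUnit.mk0 _ hne0).map _
    exact this hu
  exact h0


/-- Let R be an integral domain with fraction field K and φ a square matrix over R whose characteristic
polynomial becomes separable in K[T] (equivalently, K[T] modulo the characteristic polynomial is
geometrically reduced over K). Then a polynomial f over R satisfies f(φ) = 0 exactly when the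
characteristic polynomial of φ divides f in R[T]: the kernel of evaluation at φ (the minimal ideal
of φ) is the principal ideal generated by the characteristic polynomial. -/
theorem result
    {R : Type u} [CommRing R] [IsDomain R] {n : Type v} [Fintype n] [DecidableEq n]
    (φ : Matrix n n R)
    (hsep : (φ.charpoly.map (algebraMap R (FractionRing R))).Separable) :
    RingHom.ker (Polynomial.aeval (R := R) φ) = Ideal.span {φ.charpoly} := by
  ext f
  rw [RingHom.mem_ker, Ideal.mem_span_singleton]
  constructor
  · intro hf
    exact dvd_of_aeval_eq_zero φ hsep f hf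
  · rintro ⟨g, rfl⟩
    rw [map_mul, Matrix.aeval_self_charpoly, zero_mul]

end Groth.Agent.S16979
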