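import Groth.Statements.S16980
import Mathlib
-- import your own Groth.Agent.* helpers here

set_option autoImplicit false
universe u
open CAlg

namespace Groth.Agent.S16980


open TrivSqZeroExt

section Helpers

variable {A : Type u} [CommRing A] {J : Type u} [AddCommGroup J] [Module A J] [Module Aᵐᵒᵖ J]
  [IsCentralScalar A J] {B' : Type u} [CommRing B'] [Algebra (TrivSqZeroExt A J) B'] [Algebra A B']
  [IsScalarTower A (TrivSqZeroExt A J) B']

theorem algebraMap_eq (z : TrivSqZeroExt A J) :
    algebraMap (TrivSqZeroExt A J) B' z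
      = algebraMap A B' z.fst + algebraMap (TrivSqZeroExt A J) B' (inr z.snd) := by
  conv_lhs => rw [← TrivSqZeroExt.inl_fst_add_inr_snd_eq z]
  rw [map_add]
  congr 1
  rw [IsScalarTower.algebraMap_apply A (TrivSqZeroExt A J) B']
  rfl

theorem iota_mul (j j' : J) :
    algebraMap (TrivSqZeroExt A J) B' (inr j) * algebraMap (TrivSqZeroExt A J) B' (inr j') = 0 := by
  rw [← map_mul, TrivSqZeroExt.inr_mul_inr, map_zero]

theorem iota_smul (a : A) (j : J) :
    algebraMap (TrivSqZeroExt A J) B' (inr (a • j))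
      = algebraMap A B' a * algebraMap (TrivSqZeroExt A J) B' (inr j) := by
  rw [← TrivSqZeroExt.inl_mul_inr, map_mul, IsScalarTower.algebraMap_apply A (TrivSqZeroExt A J) B']
  rfl

theorem iota_mem (j : J) : algebraMap (TrivSqZeroExt A J) B' (inr j) ∈
    Ideal.map (algebraMap (TrivSqZeroExt A J) B') (TrivSqZeroExt.kerIdeal A J) := by
  apply Ideal.mem_map_of_mem
  rw [TrivSqZeroExt.mem_kerIdeal_iff_inr, TrivSqZeroExt.snd_inr]

theorem sq_zero (u v : B')
    (hu : u ∈ Ideal.map (algebraMap (TrivSqZeroExt A J) B') (TrivSqZeroExt.kerIdeal A J))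
    (hv : v ∈ Ideal.map (algebraMap (TrivSqZeroExt A J) B') (TrivSqZeroExt.kerIdeal A J)) :
    u * v = 0 := by
  have h1 : Ideal.map (algebraMap (TrivSqZeroExt A J) B') (TrivSqZeroExt.kerIdeal A J)
      * Ideal.map (algebraMap (TrivSqZeroExt A J) B') (TrivSqZeroExt.kerIdeal A J) = ⊥ := by
    rw [← Ideal.map_mul, ← pow_two, TrivSqZeroExt.kerIdeal_sq, Ideal.map_bot]
  have h2 := Ideal.mul_mem_mul hu hv
  rw [h1] at h2
  exact h2

/-- the ring homomorphism `a + εj ↦ a + c·εj` -/
noncomputable def phi (c : B') : TrivSqZeroExt A J →+* B' where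
  toFun z := algebraMap A B' z.fst + c * algebraMap (TrivSqZeroExt A J) B' (inr z.snd)
  map_one' := by
    simp only [TrivSqZeroExt.fst_one, TrivSqZeroExt.snd_one, TrivSqZeroExt.inr_zero, map_one,
      map_zero, mul_zero, add_zero]
  map_mul' z w := by
    simp only [TrivSqZeroExt.fst_mul, TrivSqZeroExt.snd_mul, map_mul, TrivSqZeroExt.inr_add,
      map_add, op_smul_eq_smul]
    rw [iota_smul, iota_smul]
    have h := iota_mul (A := A) (B' := B') z.snd w.snd
    linear_combination (-(c * c)) * h
  map_zero' := by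
    simp only [TrivSqZeroExt.fst_zero, TrivSqZeroExt.snd_zero, TrivSqZeroExt.inr_zero, map_zero,
      mul_zero, add_zero]
  map_add' z w := by
    simp only [TrivSqZeroExt.fst_add, TrivSqZeroExt.snd_add, TrivSqZeroExt.inr_add, map_add]
    ring

theorem phi_apply (c : B') (z : TrivSqZeroExt A J) :
    phi c z = algebraMap A B' z.fst + c * algebraMap (TrivSqZeroExt A J) B' (inr z.snd) := rfl

variable (x y : B') (τ : TrivSqZeroExt A J)
  (hxy : x * y = algebraMap (TrivSqZeroExt A J) B' τ)
  (hind : ∀ (Pred : B' → Prop), (∀ z, Pred (algebraMap (TrivSqZeroExt A J) B' z)) →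
    (∀ a b, Pred a → Pred b → Pred (a + b)) → (∀ b, Pred b → Pred (b * x)) →
    (∀ b, Pred b → Pred (b * y)) → ∀ b, Pred b)
  (hlift : ∀ (C : Type u) [CommRing C] (φ : TrivSqZeroExt A J →+* C) (X Y : C), X * Y = φ τ →
    ∃ θ : B' →+* C, θ x = X ∧ θ y = Y ∧ ∀ z, θ (algebraMap (TrivSqZeroExt A J) B' z) = φ z)

include hxy hind in
theorem nf (b : B') : ∃ p q : Polynomial (TrivSqZeroExt A J),
    b = Polynomial.aeval x p + y * Polynomial.aeval y q := by
  refine hind (fun b => ∃ p q : Polynomial (TrivSqZeroExt A J),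
    b = Polynomial.aeval x p + y * Polynomial.aeval y q) ?_ ?_ ?_ ?_ b
  · intro z
    exact ⟨Polynomial.C z, 0, by rw [Polynomial.aeval_C, map_zero, mul_zero, add_zero]⟩
  · rintro a b ⟨p, q, rfl⟩ ⟨p', q', rfl⟩
    exact ⟨p + p', q + q', by rw [map_add, map_add]; ring⟩
  · rintro b ⟨p, q, rfl⟩
    refine ⟨p * Polynomial.X + Polynomial.C (τ * q.coeff 0), Polynomial.C τ * Polynomial.divX q, ?_⟩
    have hq : Polynomial.aeval y q = Polynomial.aeval y (Polynomial.divX q) * y
        + algebraMap (TrivSqZeroExt A J) B' (q.coeff 0) := by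
      conv_lhs => rw [← Polynomial.divX_mul_X_add q]
      rw [map_add, map_mul, Polynomial.aeval_X, Polynomial.aeval_C]
    rw [hq]
    simp only [map_add, map_mul, Polynomial.aeval_X, Polynomial.aeval_C]
    linear_combination (Polynomial.aeval y (Polynomial.divX q) * y
      + algebraMap (TrivSqZeroExt A J) B' (q.coeff 0)) * hxy
  · rintro b ⟨p, q, rfl⟩
    refine ⟨Polynomial.C τ * Polynomial.divX p, Polynomial.C (p.coeff 0) + Polynomial.X * q, ?_⟩
    have hp : Polynomial.aeval x p = Polynomial.aeval x (Polynomial.divX p) * x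
        + algebraMap (TrivSqZeroExt A J) B' (p.coeff 0) := by
      conv_lhs => rw [← Polynomial.divX_mul_X_add p]
      rw [map_add, map_mul, Polynomial.aeval_X, Polynomial.aeval_C]
    rw [hp]
    simp only [map_add, map_mul, Polynomial.aeval_X, Polynomial.aeval_C]
    linear_combination (Polynomial.aeval x (Polynomial.divX p)) * hxy

include hxy hind hlift in
theorem eq_zero_of_mul (b : B') (hx : x * b = 0) (hy : y * b = 0) : b = 0 := by
  obtain ⟨θ₁, h1x, h1y, h1z⟩ := hlift (LaurentPolynomial (TrivSqZeroExt A J)) LaurentPolynomial.C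
    (LaurentPolynomial.T 1) (LaurentPolynomial.C τ * LaurentPolynomial.T (-1)) (by
      rw [mul_left_comm, ← LaurentPolynomial.T_add]
      simp)
  obtain ⟨θ₂, h2x, h2y, h2z⟩ := hlift (LaurentPolynomial (TrivSqZeroExt A J)) LaurentPolynomial.C
    (LaurentPolynomial.C τ * LaurentPolynomial.T (-1)) (LaurentPolynomial.T 1) (by
      rw [mul_assoc, ← LaurentPolynomial.T_add]
      simp)
  have key1 : ∀ r : Polynomial (TrivSqZeroExt A J),
      θ₁ (Polynomial.aeval x r) = Polynomial.toLaurent r := by
    intro r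
    have h : θ₁.comp (Polynomial.aeval x : Polynomial (TrivSqZeroExt A J) →ₐ[_] B').toRingHom
        = Polynomial.toLaurent := by
      apply Polynomial.ringHom_ext
      · intro a
        simp [h1z]
      · simp [h1x]
    exact RingHom.congr_fun h r
  have key2 : ∀ r : Polynomial (TrivSqZeroExt A J),
      θ₂ (Polynomial.aeval y r) = Polynomial.toLaurent r := by
    intro r
    have h : θ₂.comp (Polynomial.aeval y : Polynomial (TrivSqZeroExt A J) →ₐ[_] B').toRingHom
        = Polynomial.toLaurent := by
      apply Polynomial.ringHom_ext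
      · intro a
        simp [h2z]
      · simp [h2y]
    exact RingHom.congr_fun h r
  have key3 : ∀ r : Polynomial (TrivSqZeroExt A J),
      LaurentPolynomial.trunc (θ₁ (y * Polynomial.aeval y r)) = 0 := by
    intro r
    induction r using Polynomial.induction_on' with
    | add p q hp hq => rw [map_add, mul_add, map_add, map_add, hp, hq, add_zero]
    | monomial n a =>
      rw [Polynomial.aeval_monomial, map_mul θ₁, map_mul θ₁, map_pow θ₁, h1y, h1z]
      have e : (LaurentPolynomial.C τ * LaurentPolynomial.T (-1))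
          * (LaurentPolynomial.C a * (LaurentPolynomial.C τ * LaurentPolynomial.T (-1)) ^ n)
          = LaurentPolynomial.C (τ * a * τ ^ n) * LaurentPolynomial.T (-((n : ℤ) + 1)) := by
        have hT : (LaurentPolynomial.T (-1) : LaurentPolynomial (TrivSqZeroExt A J))
            * LaurentPolynomial.T (↑n * -1) = LaurentPolynomial.T (-((n : ℤ) + 1)) := by
          rw [← LaurentPolynomial.T_add]
          congr 1
          ring
        rw [mul_pow, LaurentPolynomial.T_pow, map_mul, map_mul, map_pow, ← hT]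
        ring
      rw [e, LaurentPolynomial.trunc_C_mul_T, if_neg (by omega)]
  obtain ⟨p, q, rfl⟩ := nf x y τ hxy hind b
  have hθ1 : θ₁ (Polynomial.aeval x p + y * Polynomial.aeval y q) = 0 := by
    have h := congrArg θ₁ hx
    rw [map_mul, map_zero, h1x] at h
    exact (LaurentPolynomial.isUnit_T 1).mul_right_eq_zero.mp h
  have hp : p = 0 := by
    have h := congrArg LaurentPolynomial.trunc hθ1
    rw [map_add, map_add, key1, key3, Polynomial.trunc_toLaurent, add_zero, map_zero] at h
    exact h
  subst hp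
  rw [map_zero, zero_add] at hy ⊢
  have hθ2 : θ₂ (y * Polynomial.aeval y q) = 0 := by
    have h := congrArg θ₂ hy
    rw [map_mul, map_zero, h2y] at h
    exact (LaurentPolynomial.isUnit_T 1).mul_right_eq_zero.mp h
  rw [map_mul, h2y, key2] at hθ2
  have hq : q = 0 :=
    Polynomial.toLaurent_eq_zero.mp ((LaurentPolynomial.isUnit_T 1).mul_right_eq_zero.mp hθ2)
  rw [hq, map_zero, mul_zero]

include hxy hind hlift in
theorem exists_der : ∃ d : Derivation A B' B',
    (∀ b, d b ∈ Ideal.map (algebraMap (TrivSqZeroExt A J) B') (TrivSqZeroExt.kerIdeal A J)) ∧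
    ∀ i ∈ Ideal.map (algebraMap (TrivSqZeroExt A J) B') (TrivSqZeroExt.kerIdeal A J),
      d i = y * i := by
  obtain ⟨σ, hσx, hσy, hσz⟩ := hlift B' (phi (1 + y))
    (x + algebraMap (TrivSqZeroExt A J) B' (inr τ.snd)) y (by
      rw [phi_apply]
      have h1 := algebraMap_eq (B' := B') τ
      linear_combination hxy + h1)
  have S1 : ∀ b, σ b - b ∈
      Ideal.map (algebraMap (TrivSqZeroExt A J) B') (TrivSqZeroExt.kerIdeal A J) := by
    refine hind (fun b => σ b - b ∈
      Ideal.map (algebraMap (TrivSqZeroExt A J) B') (TrivSqZeroExt.kerIdeal A J)) ?_ ?_ ?_ ?_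
    · intro z
      show σ (algebraMap (TrivSqZeroExt A J) B' z) - algebraMap (TrivSqZeroExt A J) B' z ∈ _
      rw [hσz, phi_apply, algebraMap_eq z]
      have e : algebraMap A B' z.fst + (1 + y) * algebraMap (TrivSqZeroExt A J) B' (inr z.snd)
          - (algebraMap A B' z.fst + algebraMap (TrivSqZeroExt A J) B' (inr z.snd))
          = y * algebraMap (TrivSqZeroExt A J) B' (inr z.snd) := by ring
      rw [e]
      exact Ideal.mul_mem_left _ _ (iota_mem _)
    · intro a b ha hb
      show σ (a + b) - (a + b) ∈ _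
      have e : σ (a + b) - (a + b) = (σ a - a) + (σ b - b) := by rw [map_add]; ring
      rw [e]
      exact Ideal.add_mem _ ha hb
    · intro b hb
      show σ (b * x) - b * x ∈ _
      have e : σ (b * x) - b * x
          = (σ b - b) * (x + algebraMap (TrivSqZeroExt A J) B' (inr τ.snd))
            + b * algebraMap (TrivSqZeroExt A J) B' (inr τ.snd) := by
        rw [map_mul, hσx]; ring
      rw [e]
      exact Ideal.add_mem _ (Ideal.mul_mem_right _ _ hb) (Ideal.mul_mem_left _ _ (iota_mem _))
    · intro b hb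
      show σ (b * y) - b * y ∈ _
      have e : σ (b * y) - b * y = (σ b - b) * y := by rw [map_mul, hσy]; ring
      rw [e]
      exact Ideal.mul_mem_right _ _ hb
  have S2 : ∀ i ∈ Ideal.map (algebraMap (TrivSqZeroExt A J) B') (TrivSqZeroExt.kerIdeal A J),
      σ i - i = y * i ∧
        i ∈ Ideal.map (algebraMap (TrivSqZeroExt A J) B') (TrivSqZeroExt.kerIdeal A J) := by
    intro i hi
    refine Submodule.span_induction (p := fun i _ => σ i - i = y * i ∧
      i ∈ Ideal.map (algebraMap (TrivSqZeroExt A J) B') (TrivSqZeroExt.kerIdeal A J))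
      ?_ ?_ ?_ ?_ hi
    · rintro _ ⟨k, hk, rfl⟩
      refine ⟨?_, Ideal.mem_map_of_mem _ hk⟩
      have hk' := (TrivSqZeroExt.mem_kerIdeal_iff_inr A J k).mp hk
      rw [hk', hσz, phi_apply, TrivSqZeroExt.fst_inr, TrivSqZeroExt.snd_inr, map_zero]
      ring
    · exact ⟨by rw [map_zero, sub_zero, mul_zero], Ideal.zero_mem _⟩
    · rintro a b _ _ ⟨ha, ha'⟩ ⟨hb, hb'⟩
      refine ⟨?_, Ideal.add_mem _ ha' hb'⟩
      rw [map_add]
      linear_combination ha + hb
    · rintro b i _ ⟨hi1, hi2⟩
      refine ⟨?_, Ideal.mul_mem_left _ _ hi2⟩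
      have hσi : σ i ∈
          Ideal.map (algebraMap (TrivSqZeroExt A J) B') (TrivSqZeroExt.kerIdeal A J) := by
        have e : σ i = i + y * i := by linear_combination hi1
        rw [e]
        exact Ideal.add_mem _ hi2 (Ideal.mul_mem_left _ _ hi2)
      have h0 := sq_zero _ _ (S1 b) hσi
      rw [smul_eq_mul, map_mul]
      linear_combination h0 + b * hi1
  have hσα : ∀ a : A, σ (algebraMap A B' a) = algebraMap A B' a := by
    intro a
    rw [IsScalarTower.algebraMap_apply A (TrivSqZeroExt A J) B', hσz, phi_apply]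
    have e1 : (algebraMap A (TrivSqZeroExt A J) a).fst = a := rfl
    have e2 : (algebraMap A (TrivSqZeroExt A J) a).snd = 0 := rfl
    rw [e1, e2, TrivSqZeroExt.inr_zero, map_zero, mul_zero, add_zero]
    exact (IsScalarTower.algebraMap_apply A (TrivSqZeroExt A J) B' a).symm ▸ rfl
  let D0 : B' →ₗ[A] B' :=
    { toFun := fun b => σ b - b
      map_add' := fun a b => by
        show σ (a + b) - (a + b) = (σ a - a) + (σ b - b)
        rw [map_add]; ring
      map_smul' := fun a b => by
        show σ (a • b) - a • b = a • (σ b - b)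
        rw [Algebra.smul_def, Algebra.smul_def, map_mul, hσα]
        ring }
  refine ⟨Derivation.mk' D0 (fun a b => ?_), fun b => S1 b, fun i hi => (S2 i hi).1⟩
  show σ (a * b) - a * b = a • (σ b - b) + b • (σ a - a)
  have h0 := sq_zero _ _ (S1 a) (S1 b)
  rw [map_mul, smul_eq_mul, smul_eq_mul]
  linear_combination h0

end Helpers



/-- Let A be a commutative ring, J an A-module, A′ = A ⊕ εJ the trivial square-zero extension of A by J,
and τ any element of A′. Let B′ be the A′-algebra A′[x,y]/(xy − τ), presented by two generators x, y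
with the evaluation map from the polynomial ring in two variables over A′ surjective and with kernel
generated by XY − τ. Let I ⊆ B′ be the ideal generated by the square-zero ideal J of A′, so that B =
B′/I is A[x,y]/(xy − t) with t the A-component of τ. Then the first map of the conormal sequence of
B′ → B relative to A, namely I → B ⊗_{B′} Ω_{B′/A}, i ↦ 1 ⊗ di, is injective (so the sequence 0 → I
→ B ⊗_{B′} Ω_{B′/A} → Ω_{B/A} → 0 is exact on the left as well; this is the local computation at a
node for first-order deformations of nodal curves). -/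
theorem result
    (A : Type u) [CommRing A] (J : Type u) [AddCommGroup J] [Module A J] [Module Aᵐᵒᵖ J]
    [IsCentralScalar A J] (τ : TrivSqZeroExt A J)
    (B' : Type u) [CommRing B'] [Algebra (TrivSqZeroExt A J) B'] [Algebra A B']
    [IsScalarTower A (TrivSqZeroExt A J) B'] (x y : B')
    (hsurj : Function.Surjective
      (MvPolynomial.aeval ![x, y] : MvPolynomial (Fin 2) (TrivSqZeroExt A J) →ₐ[TrivSqZeroExt A J] B'))
    (hker : RingHom.ker
      (MvPolynomial.aeval ![x, y] : MvPolynomial (Fin 2) (TrivSqZeroExt A J) →ₐ[TrivSqZeroExt A J] B') =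
      Ideal.span {MvPolynomial.X 0 * MvPolynomial.X 1 - MvPolynomial.C τ}) :
    Function.Injective (KaehlerDifferential.kerToTensor A B'
      (B' ⧸ Ideal.map (algebraMap (TrivSqZeroExt A J) B') (TrivSqZeroExt.kerIdeal A J))) := by
  classical
  -- basic consequences of the presentation
  have hxy : x * y = algebraMap (TrivSqZeroExt A J) B' τ := by
    have h1 : (MvPolynomial.X 0 * MvPolynomial.X 1 - MvPolynomial.C τ :
        MvPolynomial (Fin 2) (TrivSqZeroExt A J)) ∈ RingHom.ker
        (MvPolynomial.aeval ![x, y] :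
          MvPolynomial (Fin 2) (TrivSqZeroExt A J) →ₐ[TrivSqZeroExt A J] B') := by
      rw [hker]
      exact Ideal.subset_span rfl
    have h2 := RingHom.mem_ker.mp h1
    simp only [map_sub, map_mul, MvPolynomial.aeval_X, MvPolynomial.aeval_C,
      Matrix.cons_val_zero, Matrix.cons_val_one] at h2
    exact sub_eq_zero.mp h2
  have hind : ∀ (Pred : B' → Prop), (∀ z, Pred (algebraMap (TrivSqZeroExt A J) B' z)) →
      (∀ a b, Pred a → Pred b → Pred (a + b)) → (∀ b, Pred b → Pred (b * x)) →
      (∀ b, Pred b → Pred (b * y)) → ∀ b, Pred b := by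
    intro Pred hz hadd hmx hmy b
    obtain ⟨P, rfl⟩ := hsurj b
    induction P using MvPolynomial.induction_on with
    | C z =>
      rw [MvPolynomial.aeval_C]
      exact hz z
    | add p q hp hq =>
      rw [map_add]
      exact hadd _ _ hp hq
    | mul_X p l hp =>
      rw [map_mul, MvPolynomial.aeval_X]
      fin_cases l
      · exact hmx _ hp
      · exact hmy _ hp
  have hlift : ∀ (C : Type u) [CommRing C] (φ : TrivSqZeroExt A J →+* C) (X Y : C),
      X * Y = φ τ →
      ∃ θ : B' →+* C, θ x = X ∧ θ y = Y ∧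
        ∀ z, θ (algebraMap (TrivSqZeroExt A J) B' z) = φ z := by
    intro C _ φ X Y hXY
    let f₀r : MvPolynomial (Fin 2) (TrivSqZeroExt A J) →+* B' :=
      (MvPolynomial.aeval ![x, y] :
        MvPolynomial (Fin 2) (TrivSqZeroExt A J) →ₐ[TrivSqZeroExt A J] B').toRingHom
    have hsurj' : Function.Surjective f₀r := hsurj
    have hker' : RingHom.ker f₀r = Ideal.span {MvPolynomial.X 0 * MvPolynomial.X 1
        - MvPolynomial.C τ} := hker
    let g : MvPolynomial (Fin 2) (TrivSqZeroExt A J) →+* C := MvPolynomial.eval₂Hom φ ![X, Y]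
    have hle : RingHom.ker f₀r ≤ RingHom.ker g := by
      rw [hker', Ideal.span_le, Set.singleton_subset_iff]
      show g _ = 0
      simp only [g, map_sub, map_mul, MvPolynomial.eval₂Hom_X', MvPolynomial.eval₂Hom_C,
        Matrix.cons_val_zero, Matrix.cons_val_one]
      exact sub_eq_zero.mpr hXY
    refine ⟨(f₀r.liftOfSurjective hsurj') ⟨g, hle⟩, ?_, ?_, ?_⟩
    · have e0 : f₀r (MvPolynomial.X 0) = x := by simp [f₀r]
      rw [← e0, RingHom.liftOfSurjective_comp_apply]
      simp [g]
    · have e1 : f₀r (MvPolynomial.X 1) = y := by simp [f₀r]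
      rw [← e1, RingHom.liftOfSurjective_comp_apply]
      simp [g]
    · intro z
      have e2 : f₀r (MvPolynomial.C z) = algebraMap (TrivSqZeroExt A J) B' z := by simp [f₀r]
      rw [← e2, RingHom.liftOfSurjective_comp_apply]
      simp [g]
  -- the swapped versions
  have hxy' : y * x = algebraMap (TrivSqZeroExt A J) B' τ := by rw [mul_comm]; exact hxy
  have hind' : ∀ (Pred : B' → Prop), (∀ z, Pred (algebraMap (TrivSqZeroExt A J) B' z)) →
      (∀ a b, Pred a → Pred b → Pred (a + b)) → (∀ b, Pred b → Pred (b * y)) →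
      (∀ b, Pred b → Pred (b * x)) → ∀ b, Pred b :=
    fun Pred hz hadd hmy hmx => hind Pred hz hadd hmx hmy
  have hlift' : ∀ (C : Type u) [CommRing C] (φ : TrivSqZeroExt A J →+* C) (X Y : C),
      X * Y = φ τ →
      ∃ θ : B' →+* C, θ y = X ∧ θ x = Y ∧
        ∀ z, θ (algebraMap (TrivSqZeroExt A J) B' z) = φ z := by
    intro C _ φ X Y hXY
    obtain ⟨θ, h1, h2, h3⟩ := hlift C φ Y X (by rw [mul_comm]; exact hXY)
    exact ⟨θ, h2, h1, h3⟩
  obtain ⟨d₁, hd₁I, hd₁⟩ := exists_der x y τ hxy hind hlift
  obtain ⟨d₂, hd₂I, hd₂⟩ := exists_der y x τ hxy' hind' hlift'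
  rw [injective_iff_map_eq_zero]
  intro z hz
  have hzI : z.1 ∈ Ideal.map (algebraMap (TrivSqZeroExt A J) B') (TrivSqZeroExt.kerIdeal A J) := by
    have h1 : Ideal.Quotient.mk (Ideal.map (algebraMap (TrivSqZeroExt A J) B')
        (TrivSqZeroExt.kerIdeal A J)) z.1 = 0 := RingHom.mem_ker.mp z.2
    exact Ideal.Quotient.eq_zero_iff_mem.mp h1
  -- `D z ∈ I' • ⊤`
  have hD : KaehlerDifferential.D A B' z.1 ∈
      (Ideal.map (algebraMap (TrivSqZeroExt A J) B') (TrivSqZeroExt.kerIdeal A J)) •
        (⊤ : Submodule B' (KaehlerDifferential A B')) := by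
    rw [KaehlerDifferential.kerToTensor_apply] at hz
    have h1 := congrArg (TensorProduct.quotTensorEquivQuotSMul (KaehlerDifferential A B')
      (Ideal.map (algebraMap (TrivSqZeroExt A J) B') (TrivSqZeroExt.kerIdeal A J))) hz
    rw [map_zero] at h1
    have h2 : (1 : B' ⧸ Ideal.map (algebraMap (TrivSqZeroExt A J) B') (TrivSqZeroExt.kerIdeal A J))
        = Ideal.Quotient.mk _ 1 := rfl
    rw [h2, TensorProduct.quotTensorEquivQuotSMul_mk_tmul, one_smul,
      Submodule.Quotient.mk_eq_zero] at h1
    exact h1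
  -- a derivation with values in `I'` kills `z`
  have hkill : ∀ d : Derivation A B' B',
      (∀ b, d b ∈ Ideal.map (algebraMap (TrivSqZeroExt A J) B') (TrivSqZeroExt.kerIdeal A J)) →
      d z.1 = 0 := by
    intro d hdI
    have hrange : ∀ ω : KaehlerDifferential A B', d.liftKaehlerDifferential ω ∈
        Ideal.map (algebraMap (TrivSqZeroExt A J) B') (TrivSqZeroExt.kerIdeal A J) := by
      intro ω
      have hω : ω ∈ Submodule.span B' (Set.range (KaehlerDifferential.D A B')) := by
        rw [KaehlerDifferential.span_range_derivation]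
        exact Submodule.mem_top
      refine Submodule.span_induction (p := fun ω _ => d.liftKaehlerDifferential ω ∈
        Ideal.map (algebraMap (TrivSqZeroExt A J) B') (TrivSqZeroExt.kerIdeal A J))
        ?_ ?_ ?_ ?_ hω
      · rintro _ ⟨b, rfl⟩
        rw [Derivation.liftKaehlerDifferential_comp_D]
        exact hdI b
      · rw [map_zero]
        exact Ideal.zero_mem _
      · intro a b _ _ ha hb
        rw [map_add]
        exact Ideal.add_mem _ ha hb
      · intro r a _ ha
        rw [map_smul, smul_eq_mul]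
        exact Ideal.mul_mem_left _ _ ha
    have h3 : d.liftKaehlerDifferential (KaehlerDifferential.D A B' z.1) = 0 := by
      refine Submodule.smul_induction_on hD ?_ ?_
      · intro r hr ω _
        rw [map_smul, smul_eq_mul]
        exact sq_zero _ _ hr (hrange ω)
      · intro a b ha hb
        rw [map_add, ha, hb, add_zero]
    rw [Derivation.liftKaehlerDifferential_comp_D] at h3
    exact h3
  have h1 := hkill d₁ hd₁I
  have h2 := hkill d₂ hd₂I
  rw [hd₁ _ hzI] at h1
  rw [hd₂ _ hzI] at h2
  have h0 := eq_zero_of_mul x y τ hxy hind hlift z.1 h2 h1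
  exact Subtype.ext h0

end Groth.Agent.S16980
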