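import Groth.Statements.S16981
import Mathlib

set_option autoImplicit false
universe u v
open CAlg

namespace Groth.Agent.S16981

/-- A square-zero extension of a Noetherian ring by a finitely generated ideal is Noetherian. -/
theorem noeth_of_sqZero {A : Type u} {E : Type v} [CommRing A] [CommRing E] [IsNoetherianRing A]
    (f : E →+* A) (hf : Function.Surjective f)
    (hsq : RingHom.ker f ^ 2 = ⊥) (hfg : (RingHom.ker f).FG) : IsNoetherianRing E := by
  classical
  set K := RingHom.ker f with hK
  letI : Algebra E A := f.toAlgebra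
  haveI : RingHomSurjective f := ⟨hf⟩
  haveI : IsNoetherian E A := by
    let l : A →ₛₗ[f] A := ⟨AddHom.id _, fun _ _ => rfl⟩
    exact (l.isNoetherian_iff_of_bijective Function.bijective_id).mpr inferInstance
  have hT : Module.IsTorsionBySet E ↥K (K : Set E) := by
    intro x a
    apply Subtype.ext
    have h1 : (a : E) * (x : E) ∈ K ^ 2 := by
      rw [pow_two]; exact Ideal.mul_mem_mul a.2 x.2
    rw [hsq] at h1
    simpa using h1
  letI : Module (E ⧸ K) ↥K := hT.module
  haveI : IsScalarTower E (E ⧸ K) ↥K := hT.isScalarTower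
  haveI : IsNoetherianRing (E ⧸ K) :=
    isNoetherianRing_of_ringEquiv A (RingHom.quotientKerEquivOfSurjective hf).symm
  haveI : Module.Finite E ↥K := Module.Finite.iff_fg.mpr hfg
  haveI : Module.Finite (E ⧸ K) ↥K := Module.Finite.of_restrictScalars_finite E (E ⧸ K) ↥K
  haveI : IsNoetherian (E ⧸ K) ↥K := isNoetherian_of_isNoetherianRing_of_finite (E ⧸ K) ↥K
  haveI : IsNoetherian E ↥K := by
    let l : ↥K →ₛₗ[Ideal.Quotient.mk K] ↥K := ⟨AddHom.id _, fun _ _ => rfl⟩
    exact (l.isNoetherian_iff_of_bijective Function.bijective_id).mpr inferInstance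
  have hrk : LinearMap.range K.subtype = LinearMap.ker (Algebra.linearMap E A) := by
    rw [Submodule.range_subtype]
    ext x
    simp [hK, RingHom.mem_ker, Algebra.linearMap_apply, RingHom.algebraMap_toAlgebra]
  exact isNoetherian_of_range_eq_ker K.subtype (Algebra.linearMap E A) hrk

/-- Let A be a complete Noetherian local ring and f : E → A a surjective ring homomorphism whose kernel
has square zero and is finitely generated (equivalently, is a finite A-module for the induced module
structure). Then E is separated and complete for the adic topology of the inverse image of the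
maximal ideal of A. (The published statement takes A to be the completion of a local ring of a
scheme of finite type over an Artinian local ring and the kernel the completion of a finite module;
this row assumes only that A is complete Noetherian local and the kernel finitely generated.) -/
theorem result
    {A : Type u} {E : Type v} [CommRing A] [CommRing E] [IsNoetherianRing A] [IsLocalRing A]
    [IsAdicComplete (IsLocalRing.maximalIdeal A) A]
    (f : E →+* A) (hf : Function.Surjective f)
    (hsq : RingHom.ker f ^ 2 = ⊥) (hfg : (RingHom.ker f).FG) :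
    IsAdicComplete ((IsLocalRing.maximalIdeal A).comap f) E := by
  classical
  haveI hN : IsNoetherianRing E := noeth_of_sqZero f hf hsq hfg
  set K := RingHom.ker f with hK
  set m := IsLocalRing.maximalIdeal A with hm
  set n := m.comap f with hn
  have hmapn : n.map f = m := Ideal.map_comap_of_surjective f hf m
  have hmapk : ∀ k, (n ^ k).map f = m ^ k := fun k => by rw [Ideal.map_pow, hmapn]
  have hA' : ∀ k (u : E), u ∈ n ^ k → f u ∈ m ^ k := fun k u hu => by
    rw [← hmapk k]; exact Ideal.mem_map_of_mem f hu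
  have hA : ∀ k (u : E), f u ∈ m ^ k → ∃ y ∈ n ^ k, u - y ∈ K := fun k u hu => by
    rw [← hmapk k, Ideal.mem_map_iff_of_surjective f hf] at hu
    obtain ⟨y, hy, hyu⟩ := hu
    exact ⟨y, hy, by rw [hK, RingHom.mem_ker, map_sub, hyu, sub_self]⟩
  have hKK : ∀ a ∈ K, ∀ b ∈ K, a * b = 0 := fun a ha b hb => by
    have h1 : a * b ∈ K ^ 2 := by rw [pow_two]; exact Ideal.mul_mem_mul ha hb
    rw [hsq] at h1
    simpa using h1
  -- Hausdorff
  have hjac : n ≤ Ideal.jacobson ⊥ := by
    intro x hx
    rw [Ideal.mem_jacobson_bot]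
    intro y
    have hxj : f x ∈ Ideal.jacobson (⊥ : Ideal A) := by
      rw [IsLocalRing.jacobson_eq_maximalIdeal ⊥ bot_ne_top]; exact hx
    have hu : IsUnit (f (x * y + 1)) := by
      rw [map_add, map_mul, map_one]
      exact Ideal.mem_jacobson_bot.mp hxj (f y)
    obtain ⟨w, hw⟩ := hu.exists_right_inv
    obtain ⟨v, rfl⟩ := hf w
    obtain ⟨κ, hκ⟩ : ∃ κ, κ = (x * y + 1) * v - 1 := ⟨_, rfl⟩
    have h1 : κ ∈ K := by
      rw [hK, RingHom.mem_ker, hκ, map_sub, map_mul, hw, map_one, sub_self]
    have hκ2 : κ * κ = 0 := hKK κ h1 κ h1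
    have h2 : (x * y + 1) * (v * (1 - κ)) = 1 := by
      have h3 : (x * y + 1) * v = 1 + κ := by rw [hκ]; ring
      calc (x * y + 1) * (v * (1 - κ)) = ((x * y + 1) * v) * (1 - κ) := by ring
        _ = (1 + κ) * (1 - κ) := by rw [h3]
        _ = 1 - κ * κ := by ring
        _ = 1 := by rw [hκ2, sub_zero]
    exact IsUnit.of_mul_eq_one _ h2
  have hH : IsHausdorff n E := IsHausdorff.of_le_jacobson n E hjac
  -- limits in A
  have hB : ∀ r : ℕ → E, (∀ k, r (k + 1) - r k ∈ n ^ k) →
      ∃ ε : E, ∀ k, ∃ y ∈ n ^ k, ε - r k - y ∈ K := by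
    intro r hr
    have hc : AdicCompletion.IsAdicCauchy m A (fun k => f (r k)) := by
      rw [AdicCompletion.isAdicCauchy_iff]
      intro k
      rw [SModEq.sub_mem, smul_eq_mul, Ideal.mul_top]
      have h1 := hA' k _ (hr k)
      rw [map_sub] at h1
      have h2 := (m ^ k).neg_mem h1
      rwa [neg_sub] at h2
    obtain ⟨L, hL⟩ := IsPrecomplete.prec' (I := m) (fun k => f (r k)) (fun {a b} hab => hc hab)
    obtain ⟨ε, rfl⟩ := hf L
    refine ⟨ε, fun k => hA k _ ?_⟩
    have h1 := hL k
    rw [SModEq.sub_mem, smul_eq_mul, Ideal.mul_top] at h1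
    rw [map_sub]
    have h2 := (m ^ k).neg_mem h1
    rwa [neg_sub] at h2
  -- Artin–Rees
  obtain ⟨c, hc⟩ := Ideal.exists_pow_inf_eq_pow_smul n (K : Submodule E E)
  have hAR : ∀ j, ∀ u ∈ n ^ (j + c), u ∈ K → u ∈ n ^ j • K := by
    intro j u hu huK
    have h1 : u ∈ (n ^ (j + c) • ⊤ ⊓ K : Submodule E E) :=
      ⟨by rw [smul_eq_mul, Ideal.mul_top]; exact hu, huK⟩
    rw [hc (j + c) (Nat.le_add_left _ _), Nat.add_sub_cancel] at h1
    exact Submodule.smul_mono le_rfl inf_le_right h1
  obtain ⟨r, g, hg⟩ := Submodule.fg_iff_exists_fin_generating_family.mp hfg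
  have hgK : ∀ i, g i ∈ K := fun i => by rw [← hg]; exact Submodule.subset_span ⟨i, rfl⟩
  have hP : IsPrecomplete n E := by
    refine ⟨fun x hx => ?_⟩
    have hx' : ∀ a b, a ≤ b → x b - x a ∈ n ^ a := by
      intro a b hab
      have h1 := hx hab
      rw [SModEq.sub_mem, smul_eq_mul, Ideal.mul_top] at h1
      have h2 := (n ^ a).neg_mem h1
      rwa [neg_sub] at h2
    obtain ⟨e, he⟩ := hB x (fun k => hx' k (k + 1) (Nat.le_succ k))
    choose y hy hzK' using he
    obtain ⟨z, hz⟩ : ∃ z : ℕ → E, ∀ k, z k = e - x k - y k := ⟨_, fun _ => rfl⟩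
    have hzK : ∀ k, z k ∈ K := fun k => by rw [hz]; exact hzK' k
    have hzd : ∀ a b, a ≤ b → z b - z a ∈ n ^ a := by
      intro a b hab
      have h1 : z b - z a = -(x b - x a) + (y a - y b) := by rw [hz, hz]; ring
      rw [h1]
      refine add_mem (neg_mem (hx' a b hab)) (sub_mem (hy a) ?_)
      exact Ideal.pow_le_pow_right hab (hy b)
    have hd : ∀ j, ∃ (a : Fin r →₀ E) (_ : ∀ i, a i ∈ n ^ j),
        (a.sum fun i c => c • g i) = z (j + c + 1) - z (j + c) := by
      intro j
      apply (Submodule.mem_ideal_smul_span_iff_exists_sum (n ^ j) g _).mp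
      rw [hg]
      exact hAR j _ (hzd (j + c) (j + c + 1) (Nat.le_succ _)) (K.sub_mem (hzK _) (hzK _))
    choose a ha hsum using hd
    have hsum' : ∀ j, ∑ i, a j i * g i = z (j + c + 1) - z (j + c) := by
      intro j
      rw [← hsum j]
      exact (Finsupp.sum_fintype (a j) (fun i c => c • g i) (fun i => zero_smul _ _)).symm
    obtain ⟨R, hR⟩ : ∃ R : Fin r → ℕ → E, ∀ i k, R i k = ∑ j ∈ Finset.range k, a j i :=
      ⟨_, fun _ _ => rfl⟩
    have hRs : ∀ i k, R i (k + 1) - R i k ∈ n ^ k := by
      intro i k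
      rw [hR, hR, Finset.sum_range_succ, add_sub_cancel_left]
      exact ha k i
    have hε := fun i => hB (R i) (hRs i)
    choose ε hε using hε
    choose y' hy' hκ using hε
    have hzc : ∀ k, z (k + c) = z c + ∑ i, R i k * g i := by
      intro k
      induction k with
      | zero => simp [hR]
      | succ k ih =>
        have h1 : z (k + 1 + c) = z (k + c) + (z (k + c + 1) - z (k + c)) := by
          rw [show k + 1 + c = k + c + 1 by ring]; ring
        rw [h1, ← hsum' k, ih, add_assoc, ← Finset.sum_add_distrib]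
        congr 1
        refine Finset.sum_congr rfl (fun i _ => ?_)
        rw [hR, hR, Finset.sum_range_succ]
        ring
    refine ⟨e - z c - ∑ i, ε i * g i, fun k => ?_⟩
    rw [SModEq.sub_mem, smul_eq_mul, Ideal.mul_top]
    have key : x k - (e - z c - ∑ i, ε i * g i) =
        - y k + (z (k + c) - z k) + ∑ i, (ε i - R i k) * g i := by
      rw [hzc k, hz k]
      simp only [sub_mul, Finset.sum_sub_distrib]
      ring
    rw [key]
    refine add_mem (add_mem (neg_mem (hy k))
      (hzd k (k + c) (Nat.le_add_right _ _))) ?_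
    refine Ideal.sum_mem _ (fun i _ => ?_)
    have h1 : (ε i - R i k) * g i = y' i k * g i := by
      have h2 := hKK _ (hκ i k) _ (hgK i)
      linear_combination h2
    rw [h1]
    exact Ideal.mul_mem_right _ _ (hy' i k)
  exact { toIsHausdorff := hH, toIsPrecomplete := hP }

end Groth.Agent.S16981
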