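import Groth.Statements.S16982
import Groth.Agent.S16981
import Mathlib

set_option autoImplicit false
universe u v w w'
open CAlg

namespace Groth.Agent.S16982

/-- A power series differs from its total-degree truncation by an element of `(X)^k`. -/
theorem sub_truncTotal_mem {R : Type u} [CommRing R] {σ : Type v} [Finite σ]
    (p : MvPowerSeries σ R) (k : ℕ) :
    p - ((MvPowerSeries.truncTotal k p : MvPolynomial σ R) : MvPowerSeries σ R) ∈
      (Ideal.span (Set.range (MvPowerSeries.X (R := R) (σ := σ)))) ^ k := by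
  classical
  obtain ⟨d, hd⟩ : ∃ d, d = p - ((MvPowerSeries.truncTotal k p : MvPolynomial σ R) :
      MvPowerSeries σ R) := ⟨_, rfl⟩
  rw [← hd]
  have h1 : ((MvPowerSeries.toAdicCompletionAlgEquiv σ R) d).val k = 0 := by
    rw [hd, map_sub, AdicCompletion.val_sub_apply, MvPowerSeries.toAdicCompletionAlgEquiv_apply,
      MvPowerSeries.toAdicCompletionAlgEquiv_apply, MvPowerSeries.toAdicCompletion_coe,
      MvPowerSeries.toAdicCompletion_apply_eq_mk_truncTotal, AdicCompletion.of_apply]
    exact sub_self _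
  have h2 : (MvPowerSeries.toAdicCompletionAlgEquiv σ R) d ∈
      (MvPolynomial.idealOfVars σ R ^ k • ⊤ : Submodule (MvPolynomial σ R)
        (AdicCompletion (MvPolynomial.idealOfVars σ R) (MvPolynomial σ R))) := by
    rw [AdicCompletion.pow_smul_top_eq_ker_eval (MvPolynomial.idealOfVars_fg σ R),
      LinearMap.mem_ker, AdicCompletion.eval_apply]
    exact h1
  have h3 : ∀ y ∈ (MvPolynomial.idealOfVars σ R ^ k • ⊤ : Submodule (MvPolynomial σ R)
        (AdicCompletion (MvPolynomial.idealOfVars σ R) (MvPolynomial σ R))),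
      (MvPowerSeries.toAdicCompletionAlgEquiv σ R).symm y ∈
        (MvPolynomial.idealOfVars σ R ^ k • ⊤ :
          Submodule (MvPolynomial σ R) (MvPowerSeries σ R)) := by
    intro y hy
    refine Submodule.smul_induction_on hy (fun r hr x _ => ?_) (fun x y hx hy => ?_)
    · rw [map_smul]; exact Submodule.smul_mem_smul hr trivial
    · rw [map_add]; exact add_mem hx hy
  have h4 := h3 _ h2
  rw [AlgEquiv.symm_apply_apply, Ideal.smul_top_eq_map] at h4
  have h5 : (MvPolynomial.idealOfVars σ R).map
      (algebraMap (MvPolynomial σ R) (MvPowerSeries σ R)) =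
      Ideal.span (Set.range MvPowerSeries.X) := by
    rw [MvPolynomial.idealOfVars, Ideal.map_span, ← Set.range_comp]
    congr 2
    ext1 i
    simp [MvPowerSeries.algebraMap_apply']
  rw [Ideal.map_pow, h5] at h4
  exact h4

/-- Let R be a commutative ring, A a complete Noetherian local R-algebra written as a quotient of a
power series ring over R in finitely many variables by a surjective R-algebra map π, and f : E → A a
surjective R-algebra map whose kernel has square zero and is finitely generated. Then π lifts along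
f to an R-algebra map λ from the power series ring to E with f ∘ λ = π. (The published statement
takes R Artinian local and asks for a lift that is continuous for the adic topologies; this row
allows any commutative R and asks for any lift.) -/
theorem result
    {R : Type u} [CommRing R] {σ : Type v} [Finite σ]
    {A : Type w} {E : Type w'} [CommRing A] [CommRing E] [Algebra R A] [Algebra R E]
    [IsNoetherianRing A] [IsLocalRing A] [IsAdicComplete (IsLocalRing.maximalIdeal A) A]
    (π : MvPowerSeries σ R →ₐ[R] A) (hπ : Function.Surjective π)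
    (f : E →ₐ[R] A) (hf : Function.Surjective f)
    (hsq : RingHom.ker f.toRingHom ^ 2 = ⊥) (hfg : (RingHom.ker f.toRingHom).FG) :
    ∃ l : MvPowerSeries σ R →ₐ[R] E, f.comp l = π := by
  classical
  haveI hE : IsAdicComplete ((IsLocalRing.maximalIdeal A).comap f.toRingHom) E :=
    Groth.Agent.S16981.result f.toRingHom hf hsq hfg
  obtain ⟨m, hm⟩ : ∃ m, m = IsLocalRing.maximalIdeal A := ⟨_, rfl⟩
  obtain ⟨n, hn⟩ : ∃ n, n = (IsLocalRing.maximalIdeal A).comap f.toRingHom := ⟨_, rfl⟩
  rw [← hn] at hE
  have hπX : ∀ i, π (MvPowerSeries.X i) ∈ IsLocalRing.maximalIdeal A := by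
    intro i
    by_contra h
    have hu : IsUnit (π (MvPowerSeries.X i)) := IsLocalRing.notMem_maximalIdeal.mp h
    obtain ⟨b, hb⟩ := hu.exists_right_inv
    obtain ⟨w, rfl⟩ := hπ b
    have hunit : IsUnit (1 - MvPowerSeries.X i * w : MvPowerSeries σ R) := by
      rw [MvPowerSeries.isUnit_iff_constantCoeff]
      simp
    have h0 : π (1 - MvPowerSeries.X i * w) = 0 := by
      rw [map_sub, map_one, map_mul, hb, sub_self]
    have h1 := hunit.map π
    rw [h0] at h1
    exact not_isUnit_zero h1
  choose e he using fun i => hf (π (MvPowerSeries.X i))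
  have hen : ∀ i, e i ∈ n := fun i => by
    rw [hn, Ideal.mem_comap]
    show f (e i) ∈ _
    rw [he i]; exact hπX i
  obtain ⟨φ, hφ⟩ : ∃ φ : MvPolynomial σ R →ₐ[R] E, φ = MvPolynomial.aeval e := ⟨_, rfl⟩
  have hφX : ∀ i, φ (MvPolynomial.X i) = e i := fun i => by rw [hφ, MvPolynomial.aeval_X]
  have hφI : MvPolynomial.idealOfVars σ R ≤ n.comap φ.toRingHom := by
    rw [MvPolynomial.idealOfVars, Ideal.span_le]
    rintro _ ⟨i, rfl⟩
    show φ (MvPolynomial.X i) ∈ n
    rw [hφX]; exact hen i
  have hφIk : ∀ k, MvPolynomial.idealOfVars σ R ^ k ≤ (n ^ k).comap φ.toRingHom := fun k =>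
    (Ideal.pow_right_mono hφI k).trans (Ideal.le_comap_pow _ _)
  let lk : ∀ k, MvPowerSeries σ R →ₐ[R] E ⧸ n ^ k := fun k =>
    { toRingHom := (Ideal.quotientMap (n ^ k) φ.toRingHom (hφIk k)).comp
        (MvPowerSeries.truncTotalAlgHom σ R k).toRingHom
      commutes' := fun r => by
        show (Ideal.quotientMap (n ^ k) φ.toRingHom (hφIk k))
          ((MvPowerSeries.truncTotalAlgHom σ R k) (algebraMap R (MvPowerSeries σ R) r)) =
            algebraMap R (E ⧸ n ^ k) r
        have h1 : algebraMap R (MvPowerSeries σ R) r =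
            algebraMap (MvPolynomial σ R) (MvPowerSeries σ R) (MvPolynomial.C r) := by
          simp [MvPowerSeries.algebraMap_apply', MvPowerSeries.algebraMap_apply]
        rw [h1, AlgHom.commutes, Ideal.Quotient.algebraMap_eq, Ideal.quotientMap_mk]
        show Ideal.Quotient.mk (n ^ k) (φ (MvPolynomial.C r)) = _
        rw [← MvPolynomial.algebraMap_eq, AlgHom.commutes]
        rfl }
  have hlk : ∀ k p, lk k p = Ideal.Quotient.mk (n ^ k) (φ (MvPowerSeries.truncTotal k p)) :=
    fun k p => rfl
  have compat : ∀ {a b : ℕ} (hle : a ≤ b),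
      (Ideal.Quotient.factorₐ R (Ideal.pow_le_pow_right hle)).comp (lk b) = lk a := by
    intro a b hle
    refine AlgHom.ext (fun p => ?_)
    rw [AlgHom.comp_apply, hlk, hlk, Ideal.Quotient.factorₐ_apply_mk, Ideal.Quotient.eq,
      ← map_sub]
    exact hφIk a (MvPowerSeries.truncTotal_sub_truncTotal_mem_pow_idealOfVars hle le_rfl p)
  obtain ⟨l, hl⟩ : ∃ l : MvPowerSeries σ R →ₐ[R] E,
      ∀ k p, Ideal.Quotient.mk (n ^ k) (l p) = lk k p :=
    ⟨IsAdicComplete.liftAlgHom n lk compat, fun k p => IsAdicComplete.mk_liftAlgHom n lk compat k p⟩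
  have c1 : ∀ p k, l p - φ (MvPowerSeries.truncTotal k p) ∈ n ^ k := fun p k => by
    rw [← Ideal.Quotient.eq, hl, hlk]
  have c2 : ∀ q : MvPolynomial σ R, f (φ q) = π (q : MvPowerSeries σ R) := by
    have h1 : f.toRingHom.comp φ.toRingHom =
        π.toRingHom.comp (MvPolynomial.coeToMvPowerSeries.ringHom) := by
      refine MvPolynomial.ringHom_ext (fun r => ?_) (fun i => ?_)
      · show f (φ (MvPolynomial.C r)) = π ((MvPolynomial.C r : MvPolynomial σ R) : MvPowerSeries σ R)
        have h2 : (MvPowerSeries.C r : MvPowerSeries σ R) = algebraMap R (MvPowerSeries σ R) r := by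
          simp [MvPowerSeries.algebraMap_apply]
        rw [← MvPolynomial.algebraMap_eq, AlgHom.commutes, AlgHom.commutes,
          MvPolynomial.algebraMap_eq, MvPolynomial.coe_C, h2, AlgHom.commutes]
      · show f (φ (MvPolynomial.X i)) = π ((MvPolynomial.X i : MvPolynomial σ R) : MvPowerSeries σ R)
        rw [hφX, he, MvPolynomial.coe_X]
    intro q
    exact RingHom.congr_fun h1 q
  have c4 : ∀ k, (Ideal.span (Set.range (MvPowerSeries.X (R := R) (σ := σ)))) ^ k ≤
      (IsLocalRing.maximalIdeal A ^ k).comap π.toRingHom := fun k => by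
    refine (Ideal.pow_right_mono ?_ k).trans (Ideal.le_comap_pow _ _)
    rw [Ideal.span_le]
    rintro _ ⟨i, rfl⟩
    exact hπX i
  have c5 : ∀ k, n ^ k ≤ (IsLocalRing.maximalIdeal A ^ k).comap f.toRingHom := fun k => by
    rw [hn]; exact Ideal.le_comap_pow _ _
  refine ⟨l, AlgHom.ext (fun p => ?_)⟩
  rw [AlgHom.comp_apply, ← sub_eq_zero]
  apply IsHausdorff.haus' (I := IsLocalRing.maximalIdeal A)
  intro k
  rw [SModEq.zero, smul_eq_mul, Ideal.mul_top]
  have key : f (l p) - π p = f (l p - φ (MvPowerSeries.truncTotal k p)) -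
      π (p - ((MvPowerSeries.truncTotal k p : MvPolynomial σ R) : MvPowerSeries σ R)) := by
    rw [map_sub, map_sub, c2]; ring
  rw [key]
  exact sub_mem (c5 k (c1 p k)) (c4 k (sub_truncTotal_mem p k))

end Groth.Agent.S16982
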