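import Groth.Statements.S16983
import Mathlib.Tactic

set_option autoImplicit false
universe u
open DeformData

namespace Groth.Agent.S16983

/-- if `p^i * (h/m)` is an integer with `m` coprime to `p` then `h/m` is an integer -/
theorem int_of_pow_mul (p : ℕ) (i : ℕ) (m : ℕ) (hm : 0 < m) (hmp : Nat.Coprime m p) (h : ℤ)
    (hf : Int.fract ((p : ℚ) ^ i * ((h : ℚ) / (m : ℚ))) = 0) :
    Int.fract ((h : ℚ) / (m : ℚ)) = 0 := by
  rw [Int.fract_eq_iff] at hf
  obtain ⟨-, -, n, hn⟩ := hf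
  have hm0 : (m : ℚ) ≠ 0 := by exact_mod_cast hm.ne'
  have h1 : ((p : ℤ) ^ i * h : ℤ) = n * (m : ℤ) := by
    have : ((p : ℚ) ^ i * h) = n * m := by
      field_simp at hn
      linarith
    exact_mod_cast this
  have hdvd : (m : ℤ) ∣ (p : ℤ) ^ i * h := ⟨n, by rw [h1]; ring⟩
  have hcop : IsCoprime (m : ℤ) ((p : ℤ) ^ i) := by
    have : Nat.Coprime m (p ^ i) := Nat.Coprime.pow_right i hmp
    exact_mod_cast Nat.isCoprime_iff_coprime.mpr this
  have hdvd' : (m : ℤ) ∣ h := hcop.dvd_of_dvd_mul_left hdvd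
  obtain ⟨h', rfl⟩ := hdvd'
  rw [Int.fract_eq_iff]
  refine ⟨le_refl _, by norm_num, h', ?_⟩
  push_cast
  field_simp
  ring

/-- Let p be a prime, s ≥ 1, B a finite index set with a subset B₀ of exactly three elements, m_j ≥ 1
integers coprime to p, and σ_{i,j} (i < s, j ∈ B) rational numbers with m_j σ_{i,j} an integer, such
that Σ_j (σ_{i,j} − 1) = −2 for every i, the fractional part of σ_{i,j} equals that of p^i σ_{0,j},
no σ_{i,j} equals 1, and the minimum over i of ⌊σ_{i,j}⌋ is 0 for j ∈ B₀ and 1 for j ∉ B₀. Then for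
every i the fractional parts ⟨σ_{i,j}⟩ sum over j to 1 (purity), and ⌊σ_{i,j}⌋ is 0 on B₀ and 1 off
B₀ for every i. (The hypotheses are exactly the properties of the signature of a special deformation
datum on the projective line: each entry is an integer divided by a stabilizer order m_j in a group
of order prime to p, the degree identity coming from Riemann–Hurwitz, the Frobenius-twist relation
between fractional parts, and the speciality conditions; the statement is given here for any such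
tuple.) -/
theorem result
    {B : Type u} [Fintype B] [DecidableEq B] (B₀ : Finset B) (hB₀ : B₀.card = 3)
    (p : ℕ) (hp : p.Prime) (s : ℕ) (hs : 0 < s)
    (m : B → ℕ) (hm : ∀ j, 0 < m j) (hmp : ∀ j, Nat.Coprime (m j) p)
    (σ : Fin s → B → ℚ) (hint : ∀ i j, ∃ h : ℤ, σ i j = (h : ℚ) / (m j : ℚ))
    (hsum : ∀ i, ∑ j, (σ i j - 1) = -2)
    (hfract : ∀ i j, Int.fract (σ i j) = Int.fract ((p : ℚ) ^ (i : ℕ) * σ ⟨0, hs⟩ j))
    (hne : ∀ i j, σ i j ≠ 1)
    (hB₀min : ∀ j ∈ B₀, (∃ i, ⌊σ i j⌋ = 0) ∧ ∀ i, 0 ≤ ⌊σ i j⌋)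
    (hBmin : ∀ j ∉ B₀, (∃ i, ⌊σ i j⌋ = 1) ∧ ∀ i, 1 ≤ ⌊σ i j⌋) :
    (∀ i, ∑ j, Int.fract (σ i j) = 1) ∧ (∀ i j, ⌊σ i j⌋ = if j ∈ B₀ then 0 else 1) := by
  classical
  -- the minimal floors
  set c : B → ℤ := fun j => if j ∈ B₀ then 0 else 1 with hc
  have hge : ∀ i j, 0 ≤ ⌊σ i j⌋ - c j := by
    intro i j
    by_cases hj : j ∈ B₀
    · simp only [hc, hj, if_true, sub_zero]; exact (hB₀min j hj).2 i
    · simp only [hc, hj, if_false]; linarith [(hBmin j hj).2 i]
  have hcsum : ∑ j : B, ((c j : ℚ) - 1) = -3 := by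
    have h1 : ∀ j : B, ((c j : ℚ) - 1) = if j ∈ B₀ then (-1 : ℚ) else 0 := by
      intro j
      by_cases hj : j ∈ B₀ <;> simp [hc, hj]
    simp only [h1]
    rw [Finset.sum_ite_mem, Finset.univ_inter]
    simp [hB₀]
  -- key identity
  have key : ∀ i, ((∑ j, (⌊σ i j⌋ - c j) : ℤ) : ℚ) + ∑ j, Int.fract (σ i j) = 1 := by
    intro i
    have h2 : ∑ j, (σ i j - 1) =
        ((∑ j, (⌊σ i j⌋ - c j) : ℤ) : ℚ) + ∑ j, Int.fract (σ i j) + ∑ j : B, ((c j : ℚ) - 1) := by
      push_cast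
      rw [← Finset.sum_add_distrib, ← Finset.sum_add_distrib]
      refine Finset.sum_congr rfl fun j _ => ?_
      have := Int.floor_add_fract (σ i j)
      linarith
    rw [hsum i, hcsum] at h2
    linarith
  have hFnonneg : ∀ i, 0 ≤ ∑ j, Int.fract (σ i j) := fun i =>
    Finset.sum_nonneg fun j _ => Int.fract_nonneg _
  have hEnonneg : ∀ i, 0 ≤ ∑ j, (⌊σ i j⌋ - c j) := fun i =>
    Finset.sum_nonneg fun j _ => hge i j
  -- main claim: E_i = 0
  have hE : ∀ i, ∑ j, (⌊σ i j⌋ - c j) = 0 := by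
    intro i
    by_contra hne0
    have hpos : 1 ≤ ∑ j, (⌊σ i j⌋ - c j) := by
      have := hEnonneg i
      omega
    have hle : ∑ j, (⌊σ i j⌋ - c j) ≤ 1 := by
      have h1 := key i
      have h2 := hFnonneg i
      have : ((∑ j, (⌊σ i j⌋ - c j) : ℤ) : ℚ) ≤ 1 := by linarith
      exact_mod_cast this
    have hEi : ∑ j, (⌊σ i j⌋ - c j) = 1 := le_antisymm hle hpos
    have hFi : ∑ j, Int.fract (σ i j) = 0 := by
      have h1 := key i
      rw [hEi] at h1
      push_cast at h1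
      linarith
    have hfr_i : ∀ j, Int.fract (σ i j) = 0 := by
      intro j
      exact (Finset.sum_eq_zero_iff_of_nonneg (fun j _ => Int.fract_nonneg _)).mp hFi j (Finset.mem_univ j)
    -- σ 0 j integral
    have hfr0 : ∀ j, Int.fract (σ ⟨0, hs⟩ j) = 0 := by
      intro j
      obtain ⟨h, hh⟩ := hint ⟨0, hs⟩ j
      rw [hh]
      apply int_of_pow_mul p (i : ℕ) (m j) (hm j) (hmp j) h
      rw [← hh, ← hfract i j]
      exact hfr_i j
    have hfr_all : ∀ i' j, Int.fract (σ i' j) = 0 := by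
      intro i' j
      rw [hfract i' j]
      have h0 := hfr0 j
      rw [Int.fract_eq_iff] at h0 ⊢
      obtain ⟨-, -, n, hn⟩ := h0
      refine ⟨le_refl _, by norm_num, (p : ℤ) ^ (i' : ℕ) * n, ?_⟩
      push_cast
      have : σ ⟨0, hs⟩ j = n := by linarith
      rw [this]; ring
    have hval : ∀ i' j, σ i' j = ⌊σ i' j⌋ := by
      intro i' j
      have := Int.floor_add_fract (σ i' j)
      rw [hfr_all i' j] at this
      linarith
    -- a j₀ with positive excess
    obtain ⟨j₀, -, hj₀⟩ : ∃ j ∈ (Finset.univ : Finset B), 0 < ⌊σ i j⌋ - c j := by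
      by_contra hcon
      push Not at hcon
      have : ∑ j, (⌊σ i j⌋ - c j) ≤ 0 := Finset.sum_nonpos hcon
      omega
    have hj₀le : ⌊σ i j₀⌋ - c j₀ ≤ 1 := by
      have := Finset.single_le_sum (f := fun j => ⌊σ i j⌋ - c j) (fun j _ => hge i j)
        (Finset.mem_univ j₀)
      have this' : ⌊σ i j₀⌋ - c j₀ ≤ ∑ j, (⌊σ i j⌋ - c j) := this
      omega
    have hj₀eq : ⌊σ i j₀⌋ = c j₀ + 1 := by omega
    by_cases hjB : j₀ ∈ B₀
    · have : ⌊σ i j₀⌋ = 1 := by simp [hj₀eq, hc, hjB]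
      apply hne i j₀
      rw [hval i j₀, this]; norm_num
    · obtain ⟨i', hi'⟩ := (hBmin j₀ hjB).1
      apply hne i' j₀
      rw [hval i' j₀, hi']; norm_num
  constructor
  · intro i
    have h1 := key i
    rw [hE i] at h1
    push_cast at h1
    linarith
  · intro i j
    have := (Finset.sum_eq_zero_iff_of_nonneg (fun j _ => hge i j)).mp (hE i) j (Finset.mem_univ j)
    have h2 : ⌊σ i j⌋ = c j := by linarith
    rw [h2]

end Groth.Agent.S16983
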