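import Groth.Statements.S16984
-- no extra imports

set_option autoImplicit false
universe u v w
open Hoch

namespace Groth.Agent.S16984

open TensorProduct

section aux
variable (k : Type u) [CommRing k] (A : Type v) [CommRing A] [Bialgebra k A]
  (P : Type w) [AddCommGroup P] [Module k P]

/-- `id ⊗ ε : P ⊗ A → P`. -/
noncomputable def cou : P ⊗[k] A →ₗ[k] P :=
  (TensorProduct.rid k P).toLinearMap ∘ₗ (Coalgebra.counit (R := k) (A := A)).lTensor P

theorem cou_tmul (p : P) (a : A) : cou k A P (p ⊗ₜ a) = Coalgebra.counit (R := k) a • p := by
  simp [cou]

theorem cou_rTensor_coactAux (x : P ⊗[k] A) :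
    (cou k A P).rTensor A (Hoch.Ind.coactAux k A P x) = x := by
  induction x using TensorProduct.induction_on with
  | zero => simp
  | add x y hx hy => rw [map_add, map_add, hx, hy]
  | tmul p a =>
    have key : (cou k A P).rTensor A ∘ₗ (TensorProduct.assoc k P A A).symm.toLinearMap ∘ₗ
        TensorProduct.mk k P (A ⊗[k] A) p =
        TensorProduct.mk k P A p ∘ₗ (TensorProduct.lid k A).toLinearMap ∘ₗ
          (Coalgebra.counit (R := k) (A := A)).rTensor A := by
      ext a b
      simp [cou_tmul, TensorProduct.smul_tmul]
    have := LinearMap.congr_fun key (Coalgebra.comul (R := k) a)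
    simp only [LinearMap.comp_apply, LinearEquiv.coe_coe, TensorProduct.mk_apply,
      Coalgebra.rTensor_counit_comul, TensorProduct.lid_tmul, one_smul] at this
    rw [Hoch.Ind.coactAux_tmul]
    exact this

end aux

open TensorProduct in
/-- Let k be a commutative ring, A a commutative k-bialgebra that is flat over k (the coordinate ring of
a flat affine group scheme over Spec k; flatness and commutativity are the standing hypotheses of
the appendix and are not needed for the assertion) and P a k-module. Then p ↦ p ⊗ 1 is an injection
of P into the induced comodule P ⊗ A (coaction id ⊗ Δ) whose image is exactly the submodule of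
invariants, i.e. the elements with coaction x ↦ x ⊗ 1. (The published statement writes the
coordinate-ring factor on the left and calls this module coinduced; this row is its degree-zero
part, the identification of P with the invariants of the coinduced module.) -/
theorem result (k : Type u) [CommRing k] (A : Type v) [CommRing A] [Bialgebra k A]
    [Module.Flat k A] (P : Type w) [AddCommGroup P] [Module k P] :
    Function.Injective ((Hoch.Ind.equiv k A P).toLinearMap ∘ₗ (TensorProduct.mk k P A).flip (1 : A)) ∧
    LinearMap.range ((Hoch.Ind.equiv k A P).toLinearMap ∘ₗ (TensorProduct.mk k P A).flip (1 : A)) =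
      HopfRep.fixedPts k A (Hoch.Ind k A P) := by
  constructor
  · intro p q h
    have := congrArg (Hoch.Ind.counit k A P) h
    simpa using this
  · ext x
    constructor
    · rintro ⟨p, rfl⟩
      change HopfRep.Comod.coact (k := k) (A := A) (V := Hoch.Ind k A P) _ = _
      simp only [LinearMap.comp_apply, LinearMap.flip_apply, TensorProduct.mk_apply,
        LinearEquiv.coe_coe]
      have := Hoch.Ind.coact_equiv_tmul k A P p (1 : A)
      rw [Bialgebra.comul_one] at this
      exact this
    · intro hx
      obtain ⟨y, rfl⟩ := (Hoch.Ind.equiv k A P).surjective x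
      have hx' : Hoch.Ind.coactAux k A P y = y ⊗ₜ[k] (1 : A) := hx
      refine ⟨cou k A P y, ?_⟩
      have h1 := cou_rTensor_coactAux k A P y
      rw [hx', LinearMap.rTensor_tmul] at h1
      simp only [LinearMap.comp_apply, LinearMap.flip_apply, TensorProduct.mk_apply,
        LinearEquiv.coe_coe]
      rw [h1]

end Groth.Agent.S16984
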