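import Groth.Statements.S16985
-- no extra imports

set_option autoImplicit false
universe u v
open Hoch

namespace Groth.Agent.S16985

open TensorProduct

section aux
variable (k : Type u) [CommRing k] (A : Type v) [CommRing A] [Bialgebra k A]
  (P : Type v) [AddCommGroup P] [Module k P]

/-- `id ⊗ ε : P ⊗ A → P`. -/
noncomputable def cou : P ⊗[k] A →ₗ[k] P :=
  (TensorProduct.rid k P).toLinearMap ∘ₗ (Coalgebra.counit (R := k) (A := A)).lTensor P

theorem cou_tmul (p : P) (a : A) : cou k A P (p ⊗ₜ a) = Coalgebra.counit (R := k) a • p := by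
  simp [cou]

theorem cou_rTensor_coactAux (x : P ⊗[k] A) :
    (cou k A P).rTensor A (Hoch.Ind.coactAux k A P x) = x := by
  induction x using TensorProduct.induction_on with
  | zero => simp
  | add x y hx hy => rw [map_add, map_add, hx, hy]
  | tmul p a =>
    have key : (cou k A P).rTensor A ∘ₗ (TensorProduct.assoc k P A A).symm.toLinearMap ∘ₗ
        TensorProduct.mk k P (A ⊗[k] A) p =
        TensorProduct.mk k P A p ∘ₗ (TensorProduct.lid k A).toLinearMap ∘ₗ
          (Coalgebra.counit (R := k) (A := A)).rTensor A := by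
      ext a b
      simp [cou_tmul, TensorProduct.smul_tmul]
    have := LinearMap.congr_fun key (Coalgebra.comul (R := k) a)
    simp only [LinearMap.comp_apply, LinearEquiv.coe_coe, TensorProduct.mk_apply,
      Coalgebra.rTensor_counit_comul, TensorProduct.lid_tmul, one_smul] at this
    rw [Hoch.Ind.coactAux_tmul]
    exact this

/-- naturality of reassociation -/
theorem assoc_symm_natural {M N : Type v} [AddCommGroup M] [Module k M] [AddCommGroup N] [Module k N]
    (f : M →ₗ[k] N) (m : M) (t : A ⊗[k] A) :
    (f.rTensor A).rTensor A ((TensorProduct.assoc k M A A).symm (m ⊗ₜ t)) =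
      (TensorProduct.assoc k N A A).symm (f m ⊗ₜ t) := by
  induction t using TensorProduct.induction_on with
  | zero => simp
  | add x y hx hy => simp only [TensorProduct.tmul_add, map_add, hx, hy]
  | tmul a b => simp

theorem tail_natural {M N : Type v} [AddCommGroup M] [Module k M] [AddCommGroup N] [Module k N]
    (f : M →ₗ[k] N) (x : M ⊗[k] A) :
    Hoch.tail k A N (f.rTensor A x) = (f.rTensor A).rTensor A (Hoch.tail k A M x) := by
  induction x using TensorProduct.induction_on with
  | zero => simp
  | add x y hx hy => simp only [map_add, hx, hy]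
  | tmul m a =>
    rw [LinearMap.rTensor_tmul, Hoch.tail_tmul, Hoch.tail_tmul, assoc_symm_natural]

end aux

section general
variable (k : Type u) [CommRing k] (A : Type v) [CommRing A] [Bialgebra k A]
  (V : Type v) [AddCommGroup V] [Module k V] [HopfRep.Comod k A V]
  (σ : V ⊗[k] A →ₗ[k] V)

/-- the contracting homotopy built from `σ` -/
noncomputable def s : (n : ℕ) → ((Hoch.cochain k A V (n + 1) : Type v) →ₗ[k]
    (Hoch.cochain k A V n : Type v))
  | 0 => σ
  | n + 1 => (s n).rTensor A

theorem s_zero : s k A V σ 0 = σ := rfl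

theorem s_succ (n : ℕ) : s k A V σ (n + 1) = (s k A V σ n).rTensor A := rfl

theorem base
    (h1 : ∀ y : V, σ (HopfRep.Comod.coact (k := k) (A := A) y) = y)
    (h2 : ∀ (y : V) (b : A), HopfRep.Comod.coact (k := k) (A := A) (σ (y ⊗ₜ b)) =
      σ.rTensor A ((TensorProduct.assoc k V A A).symm (y ⊗ₜ Coalgebra.comul (R := k) b)))
    (x : V ⊗[k] A) :
    Hoch.d k A V 0 (σ x) + σ.rTensor A (Hoch.d k A V 1 x) = x := by
  induction x using TensorProduct.induction_on with
  | zero => simp
  | add x y hx hy =>
    simp only [map_add]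
    conv_rhs => rw [← hx, ← hy]
    abel
  | tmul y b =>
    have e3 : Hoch.d k A V 1 (y ⊗ₜ b) =
        (HopfRep.Comod.coact (k := k) (A := A) y - y ⊗ₜ[k] (1 : A)) ⊗ₜ[k] b
          - (TensorProduct.assoc k V A A).symm
              (y ⊗ₜ (Coalgebra.comul (R := k) b - b ⊗ₜ 1 - 1 ⊗ₜ b)) := by
      rw [Hoch.d_succ]
      simp only [LinearMap.add_apply, LinearMap.smul_apply, zero_add, pow_one, neg_smul, one_smul]
      rw [← sub_eq_add_neg]
      rfl
    rw [e3, Hoch.d_zero_apply, h2]
    simp only [TensorProduct.tmul_sub, TensorProduct.sub_tmul, map_sub, TensorProduct.assoc_symm_tmul,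
      LinearMap.rTensor_tmul, h1]
    abel

theorem homotopy
    (h1 : ∀ y : V, σ (HopfRep.Comod.coact (k := k) (A := A) y) = y)
    (h2 : ∀ (y : V) (b : A), HopfRep.Comod.coact (k := k) (A := A) (σ (y ⊗ₜ b)) =
      σ.rTensor A ((TensorProduct.assoc k V A A).symm (y ⊗ₜ Coalgebra.comul (R := k) b)))
    (n : ℕ) :
    ∀ x : (Hoch.cochain k A V (n + 1) : Type v),
      Hoch.d k A V n (s k A V σ n x) + s k A V σ (n + 1) (Hoch.d k A V (n + 1) x) = x := by
  induction n with
  | zero =>
    intro x
    exact base k A V σ h1 h2 x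
  | succ n ih =>
    intro x
    have ih' : (Hoch.d k A V n) ∘ₗ (s k A V σ n) + (s k A V σ (n + 1)) ∘ₗ (Hoch.d k A V (n + 1)) =
        LinearMap.id := LinearMap.ext fun x => ih x
    have h3 : (LinearMap.rTensor A (Hoch.d k A V n)) ((LinearMap.rTensor A (s k A V σ n)) x) +
        (LinearMap.rTensor A (s k A V σ (n + 1))) ((LinearMap.rTensor A (Hoch.d k A V (n + 1))) x) = x := by
      have := congrArg (fun f => (LinearMap.rTensor A f) x) ih'
      simp only [LinearMap.rTensor_add, LinearMap.rTensor_comp, LinearMap.rTensor_id,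
        LinearMap.add_apply, LinearMap.comp_apply, LinearMap.id_apply] at this
      exact this
    have e1 : Hoch.d k A V (n + 1) (s k A V σ (n + 1) x) =
        (Hoch.d k A V n).rTensor A ((s k A V σ n).rTensor A x) +
          ((-1 : k) ^ (n + 1)) • (s k A V σ (n + 1)).rTensor A
            (Hoch.tail k A (Hoch.cochain k A V (n + 1)) x) := by
      rw [Hoch.d_succ k A V n, s_succ k A V σ n]
      simp only [LinearMap.add_apply, LinearMap.smul_apply]
      rw [tail_natural k A (s k A V σ n) x]
    have e2 : s k A V σ (n + 2) (Hoch.d k A V (n + 2) x) =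
        (s k A V σ (n + 1)).rTensor A ((Hoch.d k A V (n + 1)).rTensor A x) -
          ((-1 : k) ^ (n + 1)) • (s k A V σ (n + 1)).rTensor A
            (Hoch.tail k A (Hoch.cochain k A V (n + 1)) x) := by
      rw [Hoch.d_succ k A V (n + 1), s_succ k A V σ (n + 1)]
      simp only [LinearMap.add_apply, LinearMap.smul_apply, map_add, map_smul]
      rw [pow_succ (-1 : k) (n + 1)]
      simp only [mul_neg, mul_one, neg_smul]
      rw [sub_eq_add_neg]
    rw [e1, e2]
    have habc : ∀ a b c : (Hoch.cochain k A V (n + 1 + 1) : Type v), a + c + (b - c) = a + b := by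
      intro a b c; abel
    rw [habc]
    exact h3

end general

section specific
variable (k : Type u) [CommRing k] (A : Type v) [CommRing A] [Bialgebra k A]
  (P : Type v) [AddCommGroup P] [Module k P]

/-- the contracting homotopy in degree zero -/
noncomputable def s0 : (Hoch.Ind k A P) ⊗[k] A →ₗ[k] Hoch.Ind k A P :=
  (cou k A P).rTensor A

theorem s0_rTensor_assoc_symm (y : Hoch.Ind k A P) (t : A ⊗[k] A) :
    (s0 k A P).rTensor A ((TensorProduct.assoc k (Hoch.Ind k A P) A A).symm (y ⊗ₜ t)) =
      (TensorProduct.assoc k P A A).symm ((cou k A P y) ⊗ₜ t) := by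
  have key : (s0 k A P).rTensor A ∘ₗ (TensorProduct.assoc k (Hoch.Ind k A P) A A).symm.toLinearMap ∘ₗ
      TensorProduct.mk k (Hoch.Ind k A P) (A ⊗[k] A) y =
      ((TensorProduct.assoc k P A A).symm.toLinearMap ∘ₗ
        TensorProduct.mk k P (A ⊗[k] A) (cou k A P y) : A ⊗[k] A →ₗ[k] (Hoch.Ind k A P) ⊗[k] A) := by
    refine TensorProduct.ext' fun a b => ?_
    rfl
  exact LinearMap.congr_fun key t

end specific

open TensorProduct in
/-- Let k be a commutative ring, A a commutative k-bialgebra flat over k (the coordinate ring of a flat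
affine group scheme over Spec k; flatness and commutativity are the standing hypotheses of the
appendix and are not needed for the assertion) and P a k-module. Then the cochain complex of the
induced comodule P ⊗ A (coaction id ⊗ Δ), with n-cochains (P ⊗ A) ⊗ A ⊗ ⋯ ⊗ A, has every
(n+1)-cocycle an (n+1)-coboundary, for all n. (The published statement is the vanishing of the
higher derived functors of invariants on coinduced modules; this row states the vanishing in
positive degrees of the cohomology of the cochain complex above, which the same appendix identifies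
with those derived functors. P is taken in the universe of A, as the cochain modules require.) -/
theorem result (k : Type u) [CommRing k] (A : Type v) [CommRing A]
    [Bialgebra k A] [Module.Flat k A] (P : Type v) [AddCommGroup P] [Module k P] (n : ℕ) :
    Hoch.cocycles k A (Hoch.Ind k A P) (n + 1) ≤ Hoch.coboundaries k A (Hoch.Ind k A P) (n + 1) := by
  intro x hx
  have hx' : Hoch.d k A (Hoch.Ind k A P) (n + 1) x = 0 := hx
  have h1 : ∀ y : Hoch.Ind k A P, s0 k A P (HopfRep.Comod.coact (k := k) (A := A) y) = y :=
    fun y => cou_rTensor_coactAux k A P y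
  have h2 : ∀ (y : Hoch.Ind k A P) (b : A),
      HopfRep.Comod.coact (k := k) (A := A) (s0 k A P (y ⊗ₜ b)) =
      (s0 k A P).rTensor A ((TensorProduct.assoc k (Hoch.Ind k A P) A A).symm
        (y ⊗ₜ Coalgebra.comul (R := k) b)) := by
    intro y b
    rw [s0_rTensor_assoc_symm]
    rfl
  have := homotopy k A (Hoch.Ind k A P) (s0 k A P) h1 h2 n x
  rw [hx', map_zero, add_zero] at this
  exact ⟨_, this⟩

end Groth.Agent.S16985
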