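import Groth.Statements.S16990
import Groth.Agent.H80.ClDet

set_option autoImplicit false
universe u v
open QuadGrp

namespace Groth.Agent.S16990

/-- Comparison with SO′: over a commutative ring in which 2 is invertible, for a quadratic form Q on a
finite free module of even rank 2m ≥ 2 whose polar form is a perfect pairing, the isometries
satisfying the Dickson condition are exactly the isometries of determinant one. -/
theorem result {R : Type u} [CommRing R] [Invertible (2 : R)]
    {M : Type v} [AddCommGroup M] [Module R M] [Module.Free R M] [Module.Finite R M]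
    (m : ℕ) (hm : 1 ≤ m) (hM : Module.finrank R M = 2 * m) (Q : QuadraticForm R M) (hQ : QuadGrp.IsRegular Q) :
    QuadGrp.SOeven Q = QuadGrp.SO' Q := by
  classical
  have hnt : Nontrivial R := by
    by_contra h
    rw [not_nontrivial_iff_subsingleton] at h
    have := Module.finrank_subsingleton (R := R) (M := M)
    omega
  have b : Module.Basis (Fin (2 * m)) R M := Module.finBasisOfFinrankEq R M hM
  apply le_antisymm
  · rintro g ⟨hg, hD⟩
    refine ⟨hg, ?_⟩
    change LinearEquiv.det g = 1
    apply Units.ext
    rw [LinearEquiv.coe_det, Units.val_one]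
    exact Groth.Agent.H80.ClDet.det_eq_one_of_dickson Q m b hQ g hg hD
  · rintro g ⟨hg, hdet⟩
    refine ⟨hg, ?_⟩
    have hdet' : LinearEquiv.det g = 1 := hdet
    have h1 : LinearMap.det (g : M →ₗ[R] M) = 1 := by
      rw [← LinearEquiv.coe_det, hdet', Units.val_one]
    exact Groth.Agent.H80.ClDet.dickson_of_det_eq_one Q m b hQ g hg h1

end Groth.Agent.S16990
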