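import Groth.Statements.S17006
import Groth.Agent.H84.QuadCenter2
import Mathlib

set_option autoImplicit false
universe u
open scoped TensorProduct
open QuadGrp

namespace Groth.Agent.S17006

open Groth.Agent.H84

theorem mem_O_of_mem_SO {R : Type u} [CommRing R] {M : Type*} [AddCommGroup M] [Module R M]
    (Q : QuadraticForm R M) (g : M ≃ₗ[R] M) (hg : g ∈ QuadGrp.SO Q) : g ∈ QuadGrp.O Q := by
  unfold QuadGrp.SO at hg
  split_ifs at hg
  · exact hg.1
  · exact hg.1

/-- Let Q be a quadratic form on R^{2m}, m ≥ 2, over a commutative ring R, whose polar form is a perfect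
pairing. An isometry g of Q satisfying the Dickson condition commutes, after base change to every
R-algebra A, with every isometry of Q_A satisfying the Dickson condition if and only if g is
multiplication by a scalar whose square is one. (Points-level form of: for even rank at least 4 the
functorial centre of the special orthogonal group is the central μ₂ and coincides with that of the
naive one.) -/
theorem result (R : Type u) [CommRing R] (m : ℕ) (hm : 2 ≤ m)
    (Q : QuadraticForm R (Fin (2 * m) → R)) (hQ : QuadGrp.IsRegular Q)
    (g : (Fin (2 * m) → R) ≃ₗ[R] (Fin (2 * m) → R)) (hg : g ∈ QuadGrp.SO Q) :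
    (∀ (A : Type u) [CommRing A] [Algebra R A], ∀ h ∈ QuadGrp.sorth Q A,
        g.baseChange R A (Fin (2 * m) → R) (Fin (2 * m) → R) * h = h * g.baseChange R A (Fin (2 * m) → R) (Fin (2 * m) → R)) ↔
      ∃ c : R, c * c = 1 ∧ ∀ v, g v = c • v := by
  classical
  have hgO : g ∈ QuadGrp.O Q := mem_O_of_mem_SO Q g hg
  constructor
  · intro H
    rcases subsingleton_or_nontrivial R with hR | hR
    · exact ⟨1, Subsingleton.elim _ _, fun v => Subsingleton.elim _ _⟩
    -- the dual family
    have hdual : ∀ i : Fin (2 * m), ∃ d : Fin (2 * m) → R,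
        ∀ y, QuadraticMap.polar Q d y = y i := by
      intro i
      obtain ⟨d, hd⟩ := hQ.2 (LinearMap.proj i)
      exact ⟨d, fun y => by
        have := LinearMap.congr_fun hd y
        simpa using this⟩
    choose d hd using hdual
    -- commutation with the infinitesimal isometries
    have heven : Even (Module.finrank (DualNumber R) ((DualNumber R) ⊗[R] (Fin (2 * m) → R))) := by
      rw [Module.finrank_baseChange, Module.finrank_fin_fun]
      exact even_two_mul m
    have hcomm : ∀ x u w : Fin (2 * m) → R,
        g (QuadraticMap.polarBilin Q x u • w - QuadraticMap.polarBilin Q x w • u) =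
          QuadraticMap.polarBilin Q (g x) u • w - QuadraticMap.polarBilin Q (g x) w • u := by
      intro x u w
      have hmem : infIsom (QuadGrp.baseChangeForm (DualNumber R) Q) (DualNumber.eps : DualNumber R)
          DualNumber.eps_mul_eps ((1 : DualNumber R) ⊗ₜ[R] u) ((1 : DualNumber R) ⊗ₜ[R] w) ∈
          QuadGrp.sorth Q (DualNumber R) := by
        rw [QuadGrp.sorth, QuadGrp.SO, if_pos heven]
        exact infIsom_mem_SOeven _ _ _ _ _
      have h1 := H (DualNumber R) _ hmem
      have h2 := congrArg (fun f => sndExtract (f ((1 : DualNumber R) ⊗ₜ[R] x))) h1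
      simp only [LinearEquiv.mul_apply, infIsom_one_tmul, map_add, LinearEquiv.baseChange_tmul,
        sndExtract_tmul] at h2
      simpa using h2
    obtain ⟨c, hc, hcd⟩ := scalar_of_commute (by omega) (QuadraticMap.polarBilin Q) d
      (fun i y => by simpa using hd i y) g hcomm
    refine ⟨c, ?_, hc⟩
    -- c² = 1
    have hpol : ∀ x y, QuadraticMap.polar Q (g x) (g y) = QuadraticMap.polar Q x y := by
      intro x y
      simp only [QuadraticMap.polar, ← map_add, hgO _]
    have h3 := hpol (d ⟨0, by omega⟩) (Pi.single ⟨0, by omega⟩ 1)
    rw [hc (d _), hc (Pi.single _ 1), QuadraticMap.polar_smul_left, QuadraticMap.polar_smul_right,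
      hd, Pi.single_eq_same] at h3
    simpa using h3
  · rintro ⟨c, -, hc⟩ A _ _ h _
    have hgA : ∀ y : A ⊗[R] (Fin (2 * m) → R),
        g.baseChange R A (Fin (2 * m) → R) (Fin (2 * m) → R) y = c • y := by
      intro y
      induction y using TensorProduct.induction_on with
      | zero => simp
      | tmul a v => rw [LinearEquiv.baseChange_tmul, hc, TensorProduct.tmul_smul]
      | add x y hx hy => rw [map_add, hx, hy, smul_add]
    ext y
    rw [LinearEquiv.mul_apply, LinearEquiv.mul_apply, hgA, hgA, ← algebraMap_smul A c,
      ← algebraMap_smul A c, map_smul]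

end Groth.Agent.S17006
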