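import Groth.Statements.S17009
import Groth.Agent.H80.ClGenA
import Groth.Agent.H80.ClEvenData
import Groth.Agent.H80.ClPin

set_option autoImplicit false
universe u v
open QuadGrp

namespace Groth.Agent.S17009

open CliffordAlgebra Groth.Agent.H80

theorem center_eq_bot {R : Type u} [CommRing R] [Nontrivial R] {M : Type v} [AddCommGroup M] [Module R M]
    [Module.Free R M] [Module.Finite R M]
    (m : ℕ) (hM : Module.finrank R M = 2 * m) (Q : QuadraticForm R M) (hQ : QuadGrp.IsRegular Q) :
    Subalgebra.center R (CliffordAlgebra Q) = ⊥ := by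
  let b : Module.Basis (Fin (2 * m)) R M := Module.finBasisOfFinrankEq R M hM
  obtain ⟨A, _, _, hff, -, f, b', hf, hb⟩ := ClEvenData.exists_split_data_even m b Q hQ
  haveI := hff
  exact ClGenA.center_eq_bot_of_Phi Q (ClSplit.qH A (Fin m)) f hf b b' hb
    (FaithfulSMul.algebraMap_injective R A) (ClSplit.center_eq_bot (R := A) (J := Fin m))

theorem mem_center_of_comm_ι {R : Type u} [CommRing R] {M : Type v} [AddCommGroup M] [Module R M]
    (Q : QuadraticForm R M) (z : CliffordAlgebra Q) (h : ∀ v, z * ι Q v = ι Q v * z) :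
    z ∈ Subalgebra.center R (CliffordAlgebra Q) := by
  rw [Subalgebra.mem_center_iff]
  intro x
  induction x using CliffordAlgebra.induction with
  | algebraMap r => exact Algebra.commutes r z
  | ι v => exact (h v).symm
  | mul a b ha hb => rw [mul_assoc, hb, ← mul_assoc, ha, mul_assoc]
  | add a b ha hb => rw [add_mul, mul_add, ha, hb]

/-- For a quadratic form Q on a finite free module M of even rank 2m ≥ 2 over a commutative ring whose
polar form is a perfect pairing, every unit of the Clifford algebra normalising M is locally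
homogeneous for the ℤ/2-grading (some idempotent e of the base has e u even and (1 − e) u odd), so
the naive Clifford group is contained in, hence equal to, the Clifford group of locally homogeneous
normalising units. (False for degenerate forms: for the zero form on a rank-two module over the
field with two elements, 1 + v normalises the module and is not locally homogeneous.) -/
theorem result {R : Type u} [CommRing R] {M : Type v} [AddCommGroup M] [Module R M] [Module.Free R M] [Module.Finite R M]
    (m : ℕ) (hm : 1 ≤ m) (hM : Module.finrank R M = 2 * m) (Q : QuadraticForm R M) (hQ : QuadGrp.IsRegular Q) :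
    QuadGrp.GPin' Q ≤ QuadGrp.LH Q := by
  rcases subsingleton_or_nontrivial R with hR | hR
  · intro u _
    rw [QuadGrp.mem_LH]
    haveI : Subsingleton (CliffordAlgebra Q) := Module.subsingleton R _
    refine ⟨0, IsIdempotentElem.zero, ?_, ?_⟩
    · rw [Subsingleton.elim ((0 : R) • (u : CliffordAlgebra Q)) 0]
      exact Submodule.zero_mem _
    · rw [Subsingleton.elim ((1 - 0 : R) • (u : CliffordAlgebra Q)) 0]
      exact Submodule.zero_mem _
  intro u hu
  rw [QuadGrp.mem_LH]
  have hcen := center_eq_bot m hM Q hQ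
  obtain ⟨u₀, h₀, u₁, h₁, hu01⟩ := ClBasic.exists_even_odd Q (u : CliffordAlgebra Q)
  -- `u₀` intertwines
  have hint : ∀ v : M, ∃ w : M, u₀ * ι Q v = ι Q w * u₀ ∧ (↑u⁻¹ : CliffordAlgebra Q) * ι Q w =
      ι Q v * ↑u⁻¹ := by
    intro v
    obtain ⟨w, hw⟩ := ClPin.conj_mem_of_GPin' Q hu v
    have h2 : (u : CliffordAlgebra Q) * ι Q v = ι Q w * u := by
      rw [← hw, mul_assoc, Units.inv_mul, mul_one]
    refine ⟨w, ?_, ?_⟩
    · rw [hu01, add_mul, mul_add] at h2
      have hιv : ι Q v ∈ evenOdd Q 1 := ι_mem_evenOdd_one Q v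
      have hιw : ι Q w ∈ evenOdd Q 1 := ι_mem_evenOdd_one Q w
      have e1 : u₀ * ι Q v ∈ evenOdd Q 1 := by
        have := ClBasic.mul_mem_evenOdd Q h₀ hιv
        simpa using this
      have h11 : (1 : ZMod 2) + 1 = 0 := by decide
      have e2 : u₁ * ι Q v ∈ evenOdd Q 0 := by
        have := ClBasic.mul_mem_evenOdd Q h₁ hιv
        rwa [h11] at this
      have e3 : ι Q w * u₀ ∈ evenOdd Q 1 := by
        have := ClBasic.mul_mem_evenOdd Q hιw h₀
        simpa using this
      have e4 : ι Q w * u₁ ∈ evenOdd Q 0 := by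
        have := ClBasic.mul_mem_evenOdd Q hιw h₁
        rwa [h11] at this
      have h3 : u₁ * ι Q v + u₀ * ι Q v = ι Q w * u₁ + ι Q w * u₀ := by
        rw [add_comm, h2, add_comm]
      exact (ClBasic.even_odd_unique Q e2 e1 e4 e3 h3).2
    · rw [← hw, ← mul_assoc, ← mul_assoc, Units.inv_mul, one_mul]
  have hz : (↑u⁻¹ : CliffordAlgebra Q) * u₀ ∈ Subalgebra.center R (CliffordAlgebra Q) := by
    apply mem_center_of_comm_ι
    intro v
    obtain ⟨w, hw1, hw2⟩ := hint v
    rw [mul_assoc, hw1, ← mul_assoc, hw2, mul_assoc]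
  rw [hcen] at hz
  obtain ⟨e, he⟩ := Algebra.mem_bot.mp hz
  have hu₀ : u₀ = e • (u : CliffordAlgebra Q) := by
    have : (u : CliffordAlgebra Q) * (↑u⁻¹ * u₀) = u₀ := by
      rw [← mul_assoc, Units.mul_inv, one_mul]
    rw [← this, ← he, Algebra.algebraMap_eq_smul_one, mul_smul_comm, mul_one]
  have hu₁ : u₁ = (1 - e) • (u : CliffordAlgebra Q) := by
    rw [sub_smul, one_smul, ← hu₀]
    rw [hu01]
    abel
  -- `e` is idempotent
  have hinj : Function.Injective (algebraMap R (CliffordAlgebra Q)) := by
    let b : Module.Basis (Fin (2 * m)) R M := Module.finBasisOfFinrankEq R M hM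
    obtain ⟨bC, hbC⟩ := ClBasic.exists_basis_finset b Q
    intro r s hrs
    rw [Algebra.algebraMap_eq_smul_one, Algebra.algebraMap_eq_smul_one, ← hbC] at hrs
    have := congrArg (fun x => bC.repr x ∅) hrs
    simpa using this
  have hidem : e * (1 - e) = 0 := by
    -- `e • u₁ = 0`
    have h5 : e • u₀ + e • u₁ = u₀ + 0 := by
      rw [← smul_add, ← hu01, ← hu₀, add_zero]
    have h6 := (ClBasic.even_odd_unique Q (Submodule.smul_mem _ e h₀) (Submodule.smul_mem _ e h₁)
      h₀ (Submodule.zero_mem _) h5).2
    rw [hu₁, smul_smul] at h6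
    apply hinj
    rw [map_zero, Algebra.algebraMap_eq_smul_one]
    have : (e * (1 - e)) • (1 : CliffordAlgebra Q) =
        ((e * (1 - e)) • (u : CliffordAlgebra Q)) * ↑u⁻¹ := by
      rw [smul_mul_assoc, Units.mul_inv]
    rw [this, h6, zero_mul]
  refine ⟨e, ?_, ?_, ?_⟩
  · rw [IsIdempotentElem]
    have : e * e = e - e * (1 - e) := by ring
    rw [this, hidem, sub_zero]
  · rw [← hu₀]
    exact h₀
  · rw [← hu₁]
    exact h₁

end Groth.Agent.S17009
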