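import Groth.Statements.S1701
import Groth.Agent.H9.EffCartier
import Groth.Agent.H9.FlatNak
import Mathlib.RingTheory.Flat.Localization
import Mathlib.RingTheory.Localization.Ideal

set_option autoImplicit false
universe u
open CategoryTheory CategoryTheory.Limits AlgebraicGeometry TopologicalSpace
open SDiv

namespace Groth.Agent.S1701

/-- Let f : X ⟶ S be a morphism, 𝓘 the ideal sheaf of an effective Cartier divisor D ⊂ X such that D ⟶ S
is flat (a relative effective Cartier divisor), and x a point of D at which the local ring of X is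
Noetherian. Then f is flat at x. -/
theorem result {X S : Scheme.{u}} (f : X ⟶ S) (𝓘 : X.IdealSheafData)
    (hD : (BlowUp.IsEffCartierIdeal 𝓘 ∧ Flat (𝓘.subschemeι ≫ f))) (d : ↥𝓘.subscheme) [IsNoetherianRing (X.presheaf.stalk (𝓘.subschemeι d))] :
    (f.stalkMap (𝓘.subschemeι d)).hom.Flat := by
  obtain ⟨hc, hf⟩ := hD
  have hxs : 𝓘.subschemeι d ∈ 𝓘.support := by
    rw [← SetLike.mem_coe, ← 𝓘.range_subschemeι]
    exact ⟨d, rfl⟩
  generalize 𝓘.subschemeι d = x at *
  obtain ⟨V, hV, hxV, -⟩ := exists_isAffineOpen_mem_and_subset (x := f x) (U := ⊤) trivial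
  obtain ⟨U, hxU, hUV, t, ht, hI⟩ :=
    Groth.Agent.H9.exists_affine_isPrincipalNZD hc (f ⁻¹ᵁ V) x hxV
  let φ : Γ(S, V) →+* Γ(X, U.1) := (f.appLE V U.1 hUV).hom
  algebraize [φ]
  letI algB : Algebra Γ(X, U.1) (X.presheaf.stalk x) := X.presheaf.algebra_section_stalk ⟨x, hxU⟩
  haveI hlocB : IsLocalization.AtPrime (X.presheaf.stalk x) (U.2.primeIdealOf ⟨x, hxU⟩).asIdeal :=
    U.2.isLocalization_stalk ⟨x, hxU⟩
  letI algAB : Algebra Γ(S, V) (X.presheaf.stalk x) :=
    ((algebraMap Γ(X, U.1) (X.presheaf.stalk x)).comp φ).toAlgebra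
  haveI : IsScalarTower Γ(S, V) Γ(X, U.1) (X.presheaf.stalk x) :=
    IsScalarTower.of_algebraMap_eq (fun _ => rfl)
  -- the generator in the stalk
  have hmap : (𝓘.ideal U).map (algebraMap Γ(X, U.1) (X.presheaf.stalk x)) =
      Ideal.span {algebraMap Γ(X, U.1) (X.presheaf.stalk x) t} := by
    rw [hI, Ideal.map_span, Set.image_singleton]
  have hflat0 : Module.Flat Γ(S, V) (Γ(X, U.1) ⧸ 𝓘.ideal U) := by
    have h0 := Groth.Agent.H9.flat_quotient_of_flat f 𝓘 hf ⟨V, hV⟩ U hUV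
    have e : (Ideal.Quotient.mk (𝓘.ideal U)).comp (f.appLE V U.1 hUV).hom =
        algebraMap Γ(S, V) (Γ(X, U.1) ⧸ 𝓘.ideal U) := rfl
    rwa [e, RingHom.flat_algebraMap_iff] at h0
  have hflat1 : Module.Flat (Γ(X, U.1) ⧸ 𝓘.ideal U)
      (X.presheaf.stalk x ⧸ (𝓘.ideal U).map (algebraMap Γ(X, U.1) (X.presheaf.stalk x))) :=
    IsLocalization.flat _ (Algebra.algebraMapSubmonoid (Γ(X, U.1) ⧸ 𝓘.ideal U)
      (U.2.primeIdealOf ⟨x, hxU⟩).asIdeal.primeCompl)
  haveI : IsScalarTower Γ(S, V) (Γ(X, U.1) ⧸ 𝓘.ideal U)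
      (X.presheaf.stalk x ⧸ (𝓘.ideal U).map (algebraMap Γ(X, U.1) (X.presheaf.stalk x))) :=
    IsScalarTower.of_algebraMap_eq (fun _ => rfl)
  have hflat2 : Module.Flat Γ(S, V)
      (X.presheaf.stalk x ⧸ (𝓘.ideal U).map (algebraMap Γ(X, U.1) (X.presheaf.stalk x))) :=
    Module.Flat.trans Γ(S, V) (Γ(X, U.1) ⧸ 𝓘.ideal U) _
  have hm : algebraMap Γ(X, U.1) (X.presheaf.stalk x) t ∈
      IsLocalRing.maximalIdeal (X.presheaf.stalk x) := by
    rw [IsLocalRing.mem_maximalIdeal, mem_nonunits_iff]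
    intro hu
    have h1 : x ∈ X.basicOpen t := (X.mem_basicOpen t x hxU).2 hu
    have h2 := (Scheme.IdealSheafData.mem_support_iff_of_mem (I := 𝓘) (U := U) hxU).1 hxs
    rw [Scheme.mem_zeroLocus_iff] at h2
    exact h2 t (by rw [SetLike.mem_coe, hI]; exact Ideal.mem_span_singleton_self t) h1
  have hnzd : algebraMap Γ(X, U.1) (X.presheaf.stalk x) t ∈
      nonZeroDivisors (X.presheaf.stalk x) :=
    IsLocalization.map_nonZeroDivisors_le (U.2.primeIdealOf ⟨x, hxU⟩).asIdeal.primeCompl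
      (X.presheaf.stalk x) (Submonoid.mem_map_of_mem _ ht)
  have key : ∀ J : Ideal (X.presheaf.stalk x),
      J = Ideal.span {algebraMap Γ(X, U.1) (X.presheaf.stalk x) t} →
      Module.Flat Γ(S, V) (X.presheaf.stalk x ⧸ J) → Module.Flat Γ(S, V) (X.presheaf.stalk x) := by
    rintro _ rfl hJ
    exact Groth.Agent.H9.flat_of_flat_quot_nzd _ hm hnzd
  have hflatB : Module.Flat Γ(S, V) (X.presheaf.stalk x) := key _ hmap hflat2
  -- pass to the stalk of `S`
  letI algC : Algebra Γ(S, V) (S.presheaf.stalk (f x)) :=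
    S.presheaf.algebra_section_stalk ⟨f x, hxV⟩
  haveI hlocC : IsLocalization.AtPrime (S.presheaf.stalk (f x))
      (hV.primeIdealOf ⟨f x, hxV⟩).asIdeal := hV.isLocalization_stalk ⟨f x, hxV⟩
  letI algCB : Algebra (S.presheaf.stalk (f x)) (X.presheaf.stalk x) :=
    (f.stalkMap x).hom.toAlgebra
  haveI : IsScalarTower Γ(S, V) (S.presheaf.stalk (f x)) (X.presheaf.stalk x) := by
    refine IsScalarTower.of_algebraMap_eq (fun a => ?_)
    show X.presheaf.germ U.1 x hxU (f.appLE V U.1 hUV a) =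
      f.stalkMap x (S.presheaf.germ V (f x) hxV a)
    rw [Scheme.Hom.germ_stalkMap_apply, Scheme.Hom.appLE, CommRingCat.comp_apply,
      TopCat.Presheaf.germ_res_apply]
  exact (Module.flat_iff_of_isLocalization (S.presheaf.stalk (f x))
    (hV.primeIdealOf ⟨f x, hxV⟩).asIdeal.primeCompl (X.presheaf.stalk x)).2 hflatB

end Groth.Agent.S1701
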