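import Groth.Statements.S17016
import Mathlib

set_option autoImplicit false
universe u
open QuadGrp

namespace Groth.Agent.S17016

section abstract
variable {A : Type*} [Ring A]

lemma list_sign {ι : Type*} (u : ι → A) (s : ι → ℤ) (x : A) (l : List ι)
    (h : ∀ i ∈ l, x * u i = s i • (u i * x)) :
    x * (l.map u).prod = (l.map s).prod • ((l.map u).prod * x) := by
  induction l with
  | nil => simp
  | cons i l ih =>
    have hi := h i List.mem_cons_self
    have ih' := ih (fun i' hi' => h i' (List.mem_cons_of_mem _ hi'))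
    rw [List.map_cons, List.prod_cons, List.map_cons, List.prod_cons, ← mul_assoc, hi,
      smul_mul_assoc, mul_assoc (u i), ih', mul_smul_comm, smul_smul, mul_assoc]

lemma list_sq {ι : Type*} (u : ι → A) (hc : ∀ i l, Commute (u i) (u l))
    (hsq : ∀ i, u i * u i = 1) (l : List ι) :
    (l.map u).prod * (l.map u).prod = 1 := by
  induction l with
  | nil => simp
  | cons i l ih =>
    have hcomm : Commute (u i) (l.map u).prod :=
      Commute.list_prod_right _ _ (fun y hy => by
        obtain ⟨i', _, rfl⟩ := List.mem_map.mp hy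
        exact hc i i')
    rw [List.map_cons, List.prod_cons]
    obtain ⟨P, hP⟩ : ∃ P, P = (l.map u).prod := ⟨_, rfl⟩
    rw [← hP] at ih hcomm ⊢
    calc u i * P * (u i * P) = u i * (P * u i) * P := by simp only [mul_assoc]
      _ = u i * (u i * P) * P := by rw [← hcomm.eq]
      _ = (u i * u i) * (P * P) := by simp only [mul_assoc]
      _ = 1 := by rw [hsq, ih, one_mul]

lemma commute_u (x a b : A) (ha : x * a = -(a * x)) (hb : x * b = -(b * x)) :
    Commute x (1 - 2 * (a * b)) := by
  have hab : Commute x (a * b) := by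
    change x * (a * b) = a * b * x
    rw [← mul_assoc, ha, neg_mul, mul_assoc a x b, hb, mul_neg, neg_neg, mul_assoc a b x]
  exact (Commute.one_right x).sub_right ((Commute.ofNat_right x 2).mul_right hab)

lemma usq (a b : A) (haa : a * a = 0) (hab : a * b + b * a = 1) :
    (1 - 2 * (a * b)) * (1 - 2 * (a * b)) = 1 := by
  have hba : b * a = 1 - a * b := by rw [← hab, add_sub_cancel_left]
  have hp : a * b * (a * b) = a * b := by
    calc a * b * (a * b) = a * (b * a) * b := by simp only [mul_assoc]
      _ = a * (1 - a * b) * b := by rw [hba]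
      _ = a * b - (a * a) * b * b := by simp only [mul_sub, sub_mul, mul_one, mul_assoc]
      _ = a * b := by rw [haa, zero_mul, zero_mul, sub_zero]
  simp only [two_mul, mul_sub, sub_mul, mul_add, add_mul, one_mul, mul_one, hp]
  abel

lemma anti_a (a b : A) (haa : a * a = 0) (hab : a * b + b * a = 1) :
    a * (1 - 2 * (a * b)) = -((1 - 2 * (a * b)) * a) := by
  have hba : b * a = 1 - a * b := by rw [← hab, add_sub_cancel_left]
  have h1 : a * (a * b) = 0 := by rw [← mul_assoc, haa, zero_mul]
  have h2 : a * b * a = a := by rw [mul_assoc, hba, mul_sub, mul_one, h1, sub_zero]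
  simp only [two_mul, mul_sub, sub_mul, mul_add, add_mul, one_mul, mul_one, h1, h2]
  abel

lemma anti_b (a b : A) (hbb : b * b = 0) (hab : a * b + b * a = 1) :
    b * (1 - 2 * (a * b)) = -((1 - 2 * (a * b)) * b) := by
  have hba : b * a = 1 - a * b := by rw [← hab, add_sub_cancel_left]
  have h1 : a * b * b = 0 := by rw [mul_assoc, hbb, mul_zero]
  have h2 : b * (a * b) = b := by rw [← mul_assoc, hba, sub_mul, one_mul, h1, sub_zero]
  simp only [two_mul, mul_sub, sub_mul, mul_add, add_mul, one_mul, mul_one, h1, h2]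
  abel

lemma abstract_main {m : ℕ} (a b : Fin m → A)
    (haa : ∀ i, a i * a i = 0) (hbb : ∀ i, b i * b i = 0)
    (hab : ∀ i, a i * b i + b i * a i = 1)
    (h1 : ∀ i l, i ≠ l → a i * a l = -(a l * a i))
    (h2 : ∀ i l, i ≠ l → a i * b l = -(b l * a i))
    (h3 : ∀ i l, i ≠ l → b i * b l = -(b l * b i))
    (w : A) (hw : w = ((List.finRange m).map fun i => 1 - 2 * (a i * b i)).prod) :
    w * w = 1 ∧ (∀ j, a j * w = -(w * a j)) ∧ (∀ j, b j * w = -(w * b j)) := by
  have h2' : ∀ i l, i ≠ l → b l * a i = -(a i * b l) := fun i l hil => by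
    rw [h2 i l hil, neg_neg]
  have hca : ∀ l i, l ≠ i → Commute (a l) (1 - 2 * (a i * b i)) := fun l i hli =>
    commute_u _ _ _ (h1 l i hli) (h2 l i hli)
  have hcb : ∀ l i, l ≠ i → Commute (b l) (1 - 2 * (a i * b i)) := fun l i hli =>
    commute_u _ _ _ (h2' i l hli.symm) (h3 l i hli)
  have hcu : ∀ l i, Commute (1 - 2 * (a l * b l)) (1 - 2 * (a i * b i)) := by
    intro l i
    rcases eq_or_ne l i with rfl | hli
    · exact Commute.refl _
    · exact (Commute.one_left _).sub_left
        ((Commute.ofNat_left 2 _).mul_left ((hca l i hli).mul_left (hcb l i hli)))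
  have hsign : ∀ j : Fin m,
      ((List.finRange m).map fun i => if i = j then (-1 : ℤ) else 1).prod = -1 := by
    intro j
    rw [← Fin.prod_univ_def]
    simp [Finset.prod_ite_eq']
  refine ⟨?_, ?_, ?_⟩
  · rw [hw]
    exact list_sq _ hcu (fun i => usq _ _ (haa i) (hab i)) _
  · intro j
    have hside : ∀ i ∈ List.finRange m, a j * (1 - 2 * (a i * b i)) =
        (if i = j then (-1 : ℤ) else 1) • ((1 - 2 * (a i * b i)) * a j) := by
      intro i _
      by_cases hij : i = j
      · subst hij
        rw [if_pos rfl, neg_smul, one_smul]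
        exact anti_a _ _ (haa i) (hab i)
      · rw [if_neg hij, one_smul]
        exact (hca j i (Ne.symm hij)).eq
    have := list_sign (fun i => 1 - 2 * (a i * b i)) (fun i => if i = j then (-1 : ℤ) else 1)
      (a j) (List.finRange m) hside
    rw [hsign j, neg_smul, one_smul] at this
    rw [hw]
    exact this
  · intro j
    have hside : ∀ i ∈ List.finRange m, b j * (1 - 2 * (a i * b i)) =
        (if i = j then (-1 : ℤ) else 1) • ((1 - 2 * (a i * b i)) * b j) := by
      intro i _
      by_cases hij : i = j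
      · subst hij
        rw [if_pos rfl, neg_smul, one_smul]
        exact anti_b _ _ (hbb i) (hab i)
      · rw [if_neg hij, one_smul]
        exact (hcb j i (Ne.symm hij)).eq
    have := list_sign (fun i => 1 - 2 * (a i * b i)) (fun i => if i = j then (-1 : ℤ) else 1)
      (b j) (List.finRange m) hside
    rw [hsign j, neg_smul, one_smul] at this
    rw [hw]
    exact this

end abstract

section clifford
variable (R : Type u) [CommRing R] (m : ℕ)

lemma splitForm_apply (x : Fin (m * 2) → R) :
    QuadGrp.splitForm R (m * 2) x =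
      ∑ i : Fin m, x (finProdFinEquiv (i, (0 : Fin 2))) * x (finProdFinEquiv (i, (1 : Fin 2))) := by
  have h2 : m * 2 / 2 = m := by omega
  have h0 : m * 2 % 2 = 0 := by omega
  have hne : ¬ (m * 2 % 2 = 1) := by omega
  unfold QuadGrp.splitForm
  rw [dif_neg hne, add_zero, QuadraticMap.sum_apply]
  refine Fintype.sum_equiv (finCongr h2) _ _ fun i => ?_
  rw [QuadraticMap.linMulLin_apply, LinearMap.proj_apply, LinearMap.proj_apply]
  congr 2 <;> (apply Fin.ext; simp; try omega)

lemma single_fpf (i i' : Fin m) (c c' : Fin 2) (r : R) :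
    (Pi.single (finProdFinEquiv (i, c)) r : Fin (m * 2) → R) (finProdFinEquiv (i', c')) =
      if i' = i ∧ c' = c then r else 0 := by
  rw [Pi.single_apply]
  simp only [EmbeddingLike.apply_eq_iff_eq, Prod.mk.injEq]

lemma splitForm_single (j : Fin (m * 2)) :
    QuadGrp.splitForm R (m * 2) (Pi.single j 1) = 0 := by
  obtain ⟨⟨i, c⟩, rfl⟩ := finProdFinEquiv.surjective j
  rw [splitForm_apply]
  refine Finset.sum_eq_zero fun i' _ => ?_
  rw [single_fpf, single_fpf]
  by_cases hc : (0 : Fin 2) = c
  · have : ¬ ((1 : Fin 2) = c) := by rw [← hc]; decide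
    have h1 : ¬ (i' = i ∧ (1 : Fin 2) = c) := fun h => this h.2
    rw [if_neg h1, mul_zero]
  · have h1 : ¬ (i' = i ∧ (0 : Fin 2) = c) := fun h => hc h.2
    rw [if_neg h1, zero_mul]

lemma polar_apply (x y : Fin (m * 2) → R) :
    QuadraticMap.polar (QuadGrp.splitForm R (m * 2)) x y =
      ∑ i : Fin m, (x (finProdFinEquiv (i, (0 : Fin 2))) * y (finProdFinEquiv (i, (1 : Fin 2))) +
        y (finProdFinEquiv (i, (0 : Fin 2))) * x (finProdFinEquiv (i, (1 : Fin 2)))) := by
  rw [QuadraticMap.polar, splitForm_apply, splitForm_apply, splitForm_apply,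
    ← Finset.sum_sub_distrib, ← Finset.sum_sub_distrib]
  refine Finset.sum_congr rfl fun i _ => ?_
  simp only [Pi.add_apply]
  ring

lemma polar_pair (i : Fin m) :
    QuadraticMap.polar (QuadGrp.splitForm R (m * 2))
      (Pi.single (finProdFinEquiv (i, (0 : Fin 2))) 1)
      (Pi.single (finProdFinEquiv (i, (1 : Fin 2))) 1) = 1 := by
  rw [polar_apply, Finset.sum_eq_single i]
  · simp only [single_fpf]
    simp
  · intro i' _ hi'
    simp only [single_fpf]
    simp [hi']
  · simp

lemma polar_ne (i l : Fin m) (hil : i ≠ l) (c c' : Fin 2) :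
    QuadraticMap.polar (QuadGrp.splitForm R (m * 2))
      (Pi.single (finProdFinEquiv (i, c)) 1) (Pi.single (finProdFinEquiv (l, c')) 1) = 0 := by
  rw [polar_apply]
  refine Finset.sum_eq_zero fun i' _ => ?_
  simp only [single_fpf]
  rcases eq_or_ne i' i with rfl | h
  · have : i' ≠ l := hil
    simp [this]
  · simp [h]

/-- the standard basis vectors in the Clifford algebra -/
noncomputable def e (j : Fin (m * 2)) : CliffordAlgebra (QuadGrp.splitForm R (m * 2)) :=
  CliffordAlgebra.ι (QuadGrp.splitForm R (m * 2)) (Pi.single j 1)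

lemma e_sq (j : Fin (m * 2)) : e R m j * e R m j = 0 := by
  rw [e, CliffordAlgebra.ι_sq_scalar, splitForm_single, map_zero]

lemma e_pair (i : Fin m) :
    e R m (finProdFinEquiv (i, (0 : Fin 2))) * e R m (finProdFinEquiv (i, (1 : Fin 2))) +
      e R m (finProdFinEquiv (i, (1 : Fin 2))) * e R m (finProdFinEquiv (i, (0 : Fin 2))) = 1 := by
  rw [e, e, CliffordAlgebra.ι_mul_ι_add_swap, polar_pair, map_one]

lemma e_anti (i l : Fin m) (hil : i ≠ l) (c c' : Fin 2) :
    e R m (finProdFinEquiv (i, c)) * e R m (finProdFinEquiv (l, c')) =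
      -(e R m (finProdFinEquiv (l, c')) * e R m (finProdFinEquiv (i, c))) := by
  rw [eq_neg_iff_add_eq_zero, e, e, CliffordAlgebra.ι_mul_ι_add_swap, polar_ne R m i l hil,
    map_zero]

end clifford

/-- For the standard split quadratic form Σ x_{2i} x_{2i+1} on R^{2m} over any commutative ring R, with
standard basis vectors e_j in the Clifford algebra, the product w of the elements 1 − 2 e_{2i}
e_{2i+1} (i < m, which pairwise commute) satisfies w² = 1 and anticommutes with every e_j. (Hence w
is central in the even Clifford algebra; over rings in which 2 is invertible (1 − w)/2 is the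
non-trivial central idempotent of the even part.) -/
theorem result (R : Type u) [CommRing R] (m : ℕ) :
    let Q := QuadGrp.splitForm R (m * 2)
    let e : Fin (m * 2) → CliffordAlgebra Q := fun j => CliffordAlgebra.ι Q (Pi.single j 1)
    let w : CliffordAlgebra Q :=
      ((List.finRange m).map fun i => 1 - 2 * (e (finProdFinEquiv (i, 0)) * e (finProdFinEquiv (i, 1)))).prod
    w * w = 1 ∧ ∀ j : Fin (m * 2), e j * w = -(w * e j) := by
  intro Q e' w
  have key := abstract_main (fun i => e R m (finProdFinEquiv (i, (0 : Fin 2))))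
    (fun i => e R m (finProdFinEquiv (i, (1 : Fin 2))))
    (fun i => e_sq R m _) (fun i => e_sq R m _) (e_pair R m)
    (fun i l hil => e_anti R m i l hil 0 0) (fun i l hil => e_anti R m i l hil 0 1)
    (fun i l hil => e_anti R m i l hil 1 1) w rfl
  refine ⟨key.1, fun j => ?_⟩
  obtain ⟨⟨i, c⟩, rfl⟩ := finProdFinEquiv.surjective j
  fin_cases c
  · exact key.2.1 i
  · exact key.2.2 i

end Groth.Agent.S17016
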