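import Groth.Statements.S17017
import Mathlib

set_option autoImplicit false
universe u
open QuadGrp

namespace Groth.Agent.S17017

section abstract

/-- the Clifford relations of `x₀² + x₁x₂` -/
structure Rel {A : Type*} [Ring A] (a b c : A) : Prop where
  haa : a * a = 1
  hbb : b * b = 0
  hcc : c * c = 0
  hba : b * a = -(a * b)
  hca : c * a = -(a * c)
  hcb : c * b = 1 - b * c

lemma Rel.prods {A : Type*} [Ring A] {a b c : A} (h : Rel a b c) :
    a * b * (a * b) = 0 ∧ a * b * (a * c) = -(b * c) ∧ a * b * (b * c) = 0 ∧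
    a * c * (a * b) = -(1 - b * c) ∧ a * c * (a * c) = 0 ∧ a * c * (b * c) = a * c ∧
    b * c * (a * b) = a * b ∧ b * c * (a * c) = 0 ∧ b * c * (b * c) = b * c := by
  obtain ⟨haa, hbb, hcc, hba, hca, hcb⟩ := h
  have haa' : ∀ y, a * (a * y) = y := fun y => by rw [← mul_assoc, haa, one_mul]
  have hbb' : ∀ y, b * (b * y) = 0 := fun y => by rw [← mul_assoc, hbb, zero_mul]
  have hcc' : ∀ y, c * (c * y) = 0 := fun y => by rw [← mul_assoc, hcc, zero_mul]
  have hba' : ∀ y, b * (a * y) = -(a * (b * y)) := fun y => by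
    rw [← mul_assoc, hba, neg_mul, mul_assoc]
  have hca' : ∀ y, c * (a * y) = -(a * (c * y)) := fun y => by
    rw [← mul_assoc, hca, neg_mul, mul_assoc]
  have hcb' : ∀ y, c * (b * y) = y - b * (c * y) := fun y => by
    rw [← mul_assoc, hcb, sub_mul, one_mul, mul_assoc]
  refine ⟨?_, ?_, ?_, ?_, ?_, ?_, ?_, ?_, ?_⟩ <;>
    simp only [mul_assoc, haa, hbb, hcc, hba, hcb, haa', hbb', hba', hca', hcb',
      mul_neg, mul_sub, mul_one, mul_zero, neg_neg, neg_zero, sub_zero]

variable (k : Type*) {A : Type*} [Field k] [Ring A] [Algebra k A]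

/-- The span of the four even monomials. -/
def S4 (a b c : A) : Submodule k A := Submodule.span k {1, a * b, a * c, b * c}

lemma S4_mul {a b c : A} (h : Rel a b c) {x y : A} (hx : x ∈ S4 k a b c)
    (hy : y ∈ S4 k a b c) : x * y ∈ S4 k a b c := by
  obtain ⟨P11, P12, P13, P21, P22, P23, P31, P32, P33⟩ := h.prods
  have h1 : (1 : A) ∈ S4 k a b c := Submodule.subset_span (Or.inl rfl)
  have hg1 : a * b ∈ S4 k a b c := Submodule.subset_span (Or.inr (Or.inl rfl))
  have hg2 : a * c ∈ S4 k a b c := Submodule.subset_span (Or.inr (Or.inr (Or.inl rfl)))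
  have hg3 : b * c ∈ S4 k a b c := Submodule.subset_span (Or.inr (Or.inr (Or.inr rfl)))
  have hle : S4 k a b c * S4 k a b c ≤ S4 k a b c := by
    unfold S4
    rw [Submodule.span_mul_span]
    refine Submodule.span_le.mpr ?_
    rintro _ ⟨p, hp, q, hq, rfl⟩
    simp only [Set.mem_insert_iff, Set.mem_singleton_iff] at hp hq
    rcases hp with rfl | rfl | rfl | rfl <;> rcases hq with rfl | rfl | rfl | rfl <;>
      simp only [one_mul, mul_one, P11, P12, P13, P21, P22, P23, P31, P32, P33] <;>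
      first
        | exact h1 | exact hg1 | exact hg2 | exact hg3
        | exact Submodule.zero_mem _
        | exact Submodule.neg_mem _ hg3
        | exact Submodule.neg_mem _ (Submodule.sub_mem _ h1 hg3)
  exact hle (Submodule.mul_mem_mul hx hy)

lemma VV_mem {a b c : A} (h : Rel a b c) {x y : A} (hx : x ∈ Submodule.span k {a, b, c})
    (hy : y ∈ Submodule.span k {a, b, c}) : x * y ∈ S4 k a b c := by
  obtain ⟨haa, hbb, hcc, hba, hca, hcb⟩ := h
  have h1 : (1 : A) ∈ S4 k a b c := Submodule.subset_span (Or.inl rfl)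
  have hg1 : a * b ∈ S4 k a b c := Submodule.subset_span (Or.inr (Or.inl rfl))
  have hg2 : a * c ∈ S4 k a b c := Submodule.subset_span (Or.inr (Or.inr (Or.inl rfl)))
  have hg3 : b * c ∈ S4 k a b c := Submodule.subset_span (Or.inr (Or.inr (Or.inr rfl)))
  have e1 : a * a ∈ S4 k a b c := by rw [haa]; exact h1
  have e2 : b * b ∈ S4 k a b c := by rw [hbb]; exact Submodule.zero_mem _
  have e3 : c * c ∈ S4 k a b c := by rw [hcc]; exact Submodule.zero_mem _
  have e4 : b * a ∈ S4 k a b c := by rw [hba]; exact Submodule.neg_mem _ hg1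
  have e5 : c * a ∈ S4 k a b c := by rw [hca]; exact Submodule.neg_mem _ hg2
  have e6 : c * b ∈ S4 k a b c := by rw [hcb]; exact Submodule.sub_mem _ h1 hg3
  have hle : Submodule.span k {a, b, c} * Submodule.span k {a, b, c} ≤ S4 k a b c := by
    rw [Submodule.span_mul_span]
    refine Submodule.span_le.mpr ?_
    rintro _ ⟨p, hp, q, hq, rfl⟩
    simp only [Set.mem_insert_iff, Set.mem_singleton_iff] at hp hq
    rcases hp with hp | hp | hp <;> rcases hq with hq | hq | hq <;> rw [hp, hq] <;>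
      first
        | exact hg1 | exact hg2 | exact hg3 | exact e1 | exact e2 | exact e3
        | exact e4 | exact e5 | exact e6
  exact hle (Submodule.mul_mem_mul hx hy)

lemma S4_inj {a b c : A} (ρ : A →ₐ[k] Matrix (Fin 2) (Fin 2) k)
    (ha : ρ a = !![1, 0; 0, -1]) (hb : ρ b = !![0, 1; 0, 0]) (hc : ρ c = !![0, 0; 1, 0])
    {y : A} (hy : y ∈ S4 k a b c) (h0 : ρ y = 0) : y = 0 := by
  unfold S4 at hy
  rw [Submodule.mem_span_insert] at hy
  obtain ⟨α, y1, hy1, rfl⟩ := hy
  rw [Submodule.mem_span_insert] at hy1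
  obtain ⟨β, y2, hy2, rfl⟩ := hy1
  rw [Submodule.mem_span_insert] at hy2
  obtain ⟨γ, y3, hy3, rfl⟩ := hy2
  rw [Submodule.mem_span_singleton] at hy3
  obtain ⟨δ, rfl⟩ := hy3
  simp only [map_add, map_smul, map_mul, map_one, ha, hb, hc] at h0
  have hα : α = 0 := by
    have := congrArg (fun M : Matrix (Fin 2) (Fin 2) k => M 1 1) h0
    simpa [Matrix.mul_apply, Fin.sum_univ_two] using this
  subst hα
  have hβ : β = 0 := by
    have := congrArg (fun M : Matrix (Fin 2) (Fin 2) k => M 0 1) h0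
    simpa [Matrix.mul_apply, Fin.sum_univ_two] using this
  subst hβ
  have hγ : γ = 0 := by
    have := congrArg (fun M : Matrix (Fin 2) (Fin 2) k => M 1 0) h0
    simpa [Matrix.mul_apply, Fin.sum_univ_two] using this
  subst hγ
  have hδ : δ = 0 := by
    have := congrArg (fun M : Matrix (Fin 2) (Fin 2) k => M 0 0) h0
    simpa [Matrix.mul_apply, Fin.sum_univ_two] using this
  subst hδ
  simp

end abstract

section clifford
open CliffordAlgebra
variable (k : Type u) [Field k]

lemma splitForm3_apply (x : Fin 3 → k) :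
    QuadGrp.splitForm k 3 x = x 1 * x 2 + x 0 * x 0 := by
  have h1 : (3 % 2 = 1) := by norm_num
  have hsum : ∀ g : Fin (3 / 2) → k, ∑ i, g i = g ⟨0, by norm_num⟩ := by
    intro g
    exact Fin.sum_univ_one g
  unfold QuadGrp.splitForm
  rw [dif_pos h1, add_apply, sum_apply, hsum]
  simp only [QuadraticMap.linMulLin_apply, LinearMap.proj_apply, QuadraticMap.comp_apply,
    QuadraticMap.sq_apply]
  rfl

/-- the standard basis vectors in the Clifford algebra -/
noncomputable def e (j : Fin 3) : CliffordAlgebra (QuadGrp.splitForm k 3) :=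
  ι (QuadGrp.splitForm k 3) (Pi.single j 1)

lemma rel : Rel (e k 0) (e k 1) (e k 2) where
  haa := by
    rw [e, ι_sq_scalar, splitForm3_apply]
    simp
  hbb := by
    rw [e, ι_sq_scalar, splitForm3_apply]
    simp
  hcc := by
    rw [e, ι_sq_scalar, splitForm3_apply]
    simp
  hba := by
    rw [eq_neg_iff_add_eq_zero, e, e, ι_mul_ι_add_swap, QuadraticMap.polar, splitForm3_apply,
      splitForm3_apply, splitForm3_apply]
    simp
  hca := by
    rw [eq_neg_iff_add_eq_zero, e, e, ι_mul_ι_add_swap, QuadraticMap.polar, splitForm3_apply,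
      splitForm3_apply, splitForm3_apply]
    simp
  hcb := by
    rw [eq_sub_iff_add_eq, e, e, ι_mul_ι_add_swap, QuadraticMap.polar, splitForm3_apply,
      splitForm3_apply, splitForm3_apply]
    simp

/-- the linear map `k³ → M₂(k)`, `(x₀,x₁,x₂) ↦ [[x₀,x₁],[x₂,-x₀]]` -/
def fLin : (Fin 3 → k) →ₗ[k] Matrix (Fin 2) (Fin 2) k where
  toFun v := !![v 0, v 1; v 2, -v 0]
  map_add' x y := by
    ext i j
    fin_cases i <;> fin_cases j <;> simp
    ring
  map_smul' r x := by
    ext i j
    fin_cases i <;> fin_cases j <;> simp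

lemma fLin_sq (v : Fin 3 → k) : fLin k v * fLin k v =
    algebraMap k (Matrix (Fin 2) (Fin 2) k) (QuadGrp.splitForm k 3 v) := by
  rw [splitForm3_apply]
  ext i j
  fin_cases i <;> fin_cases j <;>
    simp [fLin, Matrix.mul_apply, Fin.sum_univ_two, Matrix.algebraMap_matrix_apply] <;> ring

/-- the spin representation -/
noncomputable def rho : CliffordAlgebra (QuadGrp.splitForm k 3) →ₐ[k] Matrix (Fin 2) (Fin 2) k :=
  CliffordAlgebra.lift (QuadGrp.splitForm k 3) ⟨fLin k, fLin_sq k⟩

lemma rho_ι (v : Fin 3 → k) : rho k (ι (QuadGrp.splitForm k 3) v) = fLin k v :=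
  CliffordAlgebra.lift_ι_apply _ _ v

lemma rho_e0 : rho k (e k 0) = !![1, 0; 0, -1] := by
  rw [e, rho_ι]
  ext i j
  fin_cases i <;> fin_cases j <;> simp [fLin]

lemma rho_e1 : rho k (e k 1) = !![0, 1; 0, 0] := by
  rw [e, rho_ι]
  ext i j
  fin_cases i <;> fin_cases j <;> simp [fLin]

lemma rho_e2 : rho k (e k 2) = !![0, 0; 1, 0] := by
  rw [e, rho_ι]
  ext i j
  fin_cases i <;> fin_cases j <;> simp [fLin]

lemma ι_mem_span (v : Fin 3 → k) :
    ι (QuadGrp.splitForm k 3) v ∈ Submodule.span k {e k 0, e k 1, e k 2} := by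
  rw [LinearMap.pi_apply_eq_sum_univ (ι (QuadGrp.splitForm k 3)) v, Fin.sum_univ_three]
  have h : ∀ i : Fin 3, (fun j => if i = j then (1 : k) else 0) = Pi.single i 1 := by
    intro i
    ext j
    simp [Pi.single_apply, eq_comm]
  simp only [h]
  refine Submodule.add_mem _ (Submodule.add_mem _ ?_ ?_) ?_
  · exact Submodule.smul_mem _ _ (Submodule.subset_span (Or.inl rfl))
  · exact Submodule.smul_mem _ _ (Submodule.subset_span (Or.inr (Or.inl rfl)))
  · exact Submodule.smul_mem _ _ (Submodule.subset_span (Or.inr (Or.inr rfl)))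

lemma even_le (y : CliffordAlgebra (QuadGrp.splitForm k 3))
    (hy : y ∈ evenOdd (QuadGrp.splitForm k 3) 0) : y ∈ S4 k (e k 0) (e k 1) (e k 2) := by
  refine CliffordAlgebra.even_induction (QuadGrp.splitForm k 3)
    (motive := fun y _ => y ∈ S4 k (e k 0) (e k 1) (e k 2)) ?_ ?_ ?_ y hy
  · intro r
    rw [Algebra.algebraMap_eq_smul_one]
    exact Submodule.smul_mem _ _ (Submodule.subset_span (Or.inl rfl))
  · intro x y _ _ ihx ihy
    exact Submodule.add_mem _ ihx ihy
  · intro m₁ m₂ x _ ih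
    exact S4_mul k (rel k) (VV_mem k (rel k) (ι_mem_span k m₁) (ι_mem_span k m₂)) ih

lemma conj_mem (u : (CliffordAlgebra (QuadGrp.splitForm k 3))ˣ)
    (hu : u ∈ QuadGrp.evenUnits (QuadGrp.splitForm k 3)) (v : Fin 3 → k) :
    ∃ v', (u : CliffordAlgebra (QuadGrp.splitForm k 3)) * ι (QuadGrp.splitForm k 3) v *
      ((u⁻¹ : (CliffordAlgebra (QuadGrp.splitForm k 3))ˣ) : CliffordAlgebra (QuadGrp.splitForm k 3))
        = ι (QuadGrp.splitForm k 3) v' := by
  have hu0 : (u : CliffordAlgebra (QuadGrp.splitForm k 3)) ∈ evenOdd (QuadGrp.splitForm k 3) 0 := hu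
  have hu1 : ((u⁻¹ : (CliffordAlgebra (QuadGrp.splitForm k 3))ˣ) :
      CliffordAlgebra (QuadGrp.splitForm k 3)) ∈ evenOdd (QuadGrp.splitForm k 3) 0 :=
    (QuadGrp.evenUnits (QuadGrp.splitForm k 3)).inv_mem hu
  obtain ⟨M, hM⟩ : ∃ M, M = rho k u * fLin k v * rho k ↑u⁻¹ := ⟨_, rfl⟩
  have hinv : rho k ↑u⁻¹ * rho k u = 1 := by rw [← map_mul, Units.inv_mul, map_one]
  have htr : M 1 1 = - M 0 0 := by
    have : Matrix.trace M = 0 := by
      rw [hM, Matrix.trace_mul_comm, ← mul_assoc, hinv, one_mul]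
      simp [Matrix.trace_fin_two, fLin]
    rw [Matrix.trace_fin_two] at this
    exact eq_neg_of_add_eq_zero_right this
  have hfv' : fLin k ![M 0 0, M 0 1, M 1 0] = M := by
    ext i j
    fin_cases i <;> fin_cases j <;> simp [fLin, htr]
  have hx1 : (u : CliffordAlgebra (QuadGrp.splitForm k 3)) * ι (QuadGrp.splitForm k 3) v * ↑u⁻¹
      ∈ evenOdd (QuadGrp.splitForm k 3) 1 := by
    have := SetLike.mul_mem_graded (SetLike.mul_mem_graded hu0
      (ι_mem_evenOdd_one (QuadGrp.splitForm k 3) v)) hu1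
    simpa using this
  have hρx : rho k ((u : CliffordAlgebra (QuadGrp.splitForm k 3)) *
      ι (QuadGrp.splitForm k 3) v * ↑u⁻¹) = M := by
    rw [hM, map_mul, map_mul, rho_ι]
  have h2 : (1 + 1 : ZMod 2) = 0 := by decide
  have hex : e k 0 * ((u : CliffordAlgebra (QuadGrp.splitForm k 3)) *
      ι (QuadGrp.splitForm k 3) v * ↑u⁻¹) ∈ evenOdd (QuadGrp.splitForm k 3) 0 := by
    have := SetLike.mul_mem_graded
      (ι_mem_evenOdd_one (QuadGrp.splitForm k 3) (Pi.single 0 1)) hx1
    rwa [h2] at this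
  have hev' : e k 0 * ι (QuadGrp.splitForm k 3) ![M 0 0, M 0 1, M 1 0]
      ∈ evenOdd (QuadGrp.splitForm k 3) 0 := by
    have := SetLike.mul_mem_graded
      (ι_mem_evenOdd_one (QuadGrp.splitForm k 3) (Pi.single 0 1))
      (ι_mem_evenOdd_one (QuadGrp.splitForm k 3) ![M 0 0, M 0 1, M 1 0])
    rwa [h2] at this
  have hdiff : e k 0 * ((u : CliffordAlgebra (QuadGrp.splitForm k 3)) *
      ι (QuadGrp.splitForm k 3) v * ↑u⁻¹) -
      e k 0 * ι (QuadGrp.splitForm k 3) ![M 0 0, M 0 1, M 1 0] = 0 := by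
    refine S4_inj k (rho k) (rho_e0 k) (rho_e1 k) (rho_e2 k)
      (Submodule.sub_mem _ (even_le k _ hex) (even_le k _ hev')) ?_
    rw [map_sub, map_mul, hρx, map_mul, rho_ι, hfv', sub_self]
  refine ⟨![M 0 0, M 0 1, M 1 0], ?_⟩
  have := congrArg (fun t => e k 0 * t) (sub_eq_zero.mp hdiff)
  simp only [← mul_assoc, (rel k).haa, one_mul] at this
  simpa [mul_assoc] using this

end clifford

/-- Over a field k, for the standard split quadratic form x₀² + x₁x₂ on k³, every even unit of the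
Clifford algebra normalises the subspace k³, i.e. lies in the naive Clifford group; so the even
Clifford group is the whole unit group of the even Clifford algebra. (The published claim is made
over fields of characteristic different from 2; here it is stated for every field.) -/
theorem result (k : Type u) [Field k] :
    QuadGrp.evenUnits (QuadGrp.splitForm k 3) ≤ QuadGrp.GPin' (QuadGrp.splitForm k 3) := by
  intro u hu
  rw [QuadGrp.mem_GPin']
  apply le_antisymm
  · intro y hy
    obtain ⟨b, ⟨v, rfl⟩, rfl⟩ := (Submodule.mem_smul_pointwise_iff_exists _ _ _).mp hy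
    obtain ⟨v', hv'⟩ := conj_mem k u hu v
    rw [ConjAct.units_smul_def, ConjAct.ofConjAct_toConjAct, hv']
    exact LinearMap.mem_range_self _ _
  · rintro y ⟨v, rfl⟩
    obtain ⟨v', hv'⟩ := conj_mem k u⁻¹ ((QuadGrp.evenUnits _).inv_mem hu) v
    rw [inv_inv] at hv'
    refine (Submodule.mem_smul_pointwise_iff_exists _ _ _).mpr
      ⟨CliffordAlgebra.ι _ v', LinearMap.mem_range_self _ _, ?_⟩
    rw [ConjAct.units_smul_def, ConjAct.ofConjAct_toConjAct, ← hv']
    simp [mul_assoc]

end Groth.Agent.S17017
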