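import Groth.Statements.S17018
import Mathlib
import Groth.Agent.H69.QuotBasis
import Groth.Agent.S5136
import Groth.Agent.H9.ComapIdeal

set_option autoImplicit false
set_option linter.style.haveILetI false
set_option linter.unusedSectionVars false
set_option linter.unusedVariables false
universe u
open CategoryTheory CategoryTheory.Limits AlgebraicGeometry
open scoped TensorProduct
open Models

namespace Groth.Agent.S17018

section Helpers
open CategoryTheory AlgebraicGeometry TopologicalSpace Limits IsLocalRing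

/-- At a maximal point of a reduced scheme, non-units of the stalk vanish. -/
theorem eq_zero_of_not_isUnit {Y : Scheme.{u}} [IsReduced Y] (ξ : Y)
    (hξ : closure ({ξ} : Set Y) ∈ irreducibleComponents Y)
    (b : Y.presheaf.stalk ξ) (hb : ¬ IsUnit b) : b = 0 := by
  have hnil : IsNilpotent b := by
    rw [nilpotent_iff_mem_prime]
    intro J hJ
    obtain ⟨P, hPJ⟩ : ∃ P : Spec (Y.presheaf.stalk ξ),
        PrimeSpectrum.asIdeal (R := Y.presheaf.stalk ξ) P = J := ⟨⟨J, hJ⟩, rfl⟩
    have hy : Y.fromSpecStalk ξ P ⤳ ξ := by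
      have : Y.fromSpecStalk ξ P ∈ Set.range (Y.fromSpecStalk ξ) := Set.mem_range_self P
      rw [Scheme.range_fromSpecStalk] at this
      exact this
    have hy' : ξ ⤳ Y.fromSpecStalk ξ P := by
      rw [specializes_iff_closure_subset]
      exact hξ.2 (isIrreducible_singleton.closure) (specializes_iff_closure_subset.mp hy)
    have heq : Y.fromSpecStalk ξ P = ξ := (hy.antisymm hy').eq
    have hP : P = closedPoint (Y.presheaf.stalk ξ) := by
      apply (Y.fromSpecStalk ξ).isEmbedding.injective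
      rw [heq, Scheme.fromSpecStalk_closedPoint]
    rw [← hPJ, hP]
    exact (mem_maximalIdeal b).mpr hb
  exact hnil.eq_zero

variable {X Xs : Scheme.{u}} {R : Type u} [CommRing R] [IsLocalRing R]

theorem stalkMap_phi_eq_zero (f : X ⟶ Spec (CommRingCat.of R))
    (gs : Xs ⟶ X) (fs : Xs ⟶ Spec (CommRingCat.of (ResidueField R)))
    (hs : IsPullback gs fs f (Spec.map (CommRingCat.ofHom (residue R))))
    (ξ : Xs) (r : R) (hr : r ∈ maximalIdeal R) :
    (gs.stalkMap ξ).hom (((X.presheaf.germ ⊤ (gs.base ξ) trivial).hom.comp (Coh.toGlobal f)) r) = 0 := by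
  obtain ⟨j, hj⟩ : ∃ j, j = (Scheme.ΓSpecIso (CommRingCat.of R)).inv.hom r := ⟨_, rfl⟩
  have hjr : (Scheme.ΓSpecIso (CommRingCat.of R)).hom.hom j = r := by
    rw [hj]
    exact congr($((Scheme.ΓSpecIso (CommRingCat.of R)).inv_hom_id) r)
  have h0 : (Scheme.ΓSpecIso (CommRingCat.of (ResidueField R))).hom.hom
      ((Spec.map (CommRingCat.ofHom (residue R))).appTop.hom j) = 0 := by
    rw [Groth.Agent.H69.QuotBasis.ΓSpecIso_appTop, hjr]
    exact (residue_eq_zero_iff r).mpr hr
  have hcj : (Spec.map (CommRingCat.ofHom (residue R))).appTop.hom j = 0 := by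
    have hinj := (ConcreteCategory.bijective_of_isIso
      (Scheme.ΓSpecIso (CommRingCat.of (ResidueField R))).hom).1
    apply hinj
    rw [map_zero]
    exact h0
  have key : f.appTop ≫ gs.appTop =
      (Spec.map (CommRingCat.ofHom (residue R))).appTop ≫ fs.appTop := by
    rw [← Scheme.Hom.comp_appTop, ← Scheme.Hom.comp_appTop, hs.w]
  have h1 : (gs.stalkMap ξ).hom ((X.presheaf.germ ⊤ (gs.base ξ) trivial).hom (f.appTop.hom j)) =
      (Xs.presheaf.germ (gs ⁻¹ᵁ ⊤) ξ trivial).hom ((gs.app ⊤).hom (f.appTop.hom j)) :=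
    Scheme.Hom.germ_stalkMap_apply gs ⊤ ξ trivial (f.appTop.hom j)
  have h2 : (gs.app ⊤).hom (f.appTop.hom j) =
      fs.appTop.hom ((Spec.map (CommRingCat.ofHom (residue R))).appTop.hom j) := congr($key j)
  show (gs.stalkMap ξ).hom ((X.presheaf.germ ⊤ (gs.base ξ) trivial).hom
    (f.appTop.hom ((Scheme.ΓSpecIso (CommRingCat.of R)).inv.hom r))) = 0
  rw [← hj, h1, h2, hcj]
  have e0 : fs.appTop.hom 0 = 0 := map_zero _
  rw [e0]
  exact map_zero _

theorem stalk_ker_le (f : X ⟶ Spec (CommRingCat.of R)) [Flat f]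
    (gs : Xs ⟶ X) (fs : Xs ⟶ Spec (CommRingCat.of (ResidueField R)))
    (hs : IsPullback gs fs f (Spec.map (CommRingCat.ofHom (residue R))))
    (ξ : Xs) (a : X.presheaf.stalk (gs.base ξ)) (ha : (gs.stalkMap ξ).hom a = 0) :
    a ∈ Ideal.map ((X.presheaf.germ ⊤ (gs.base ξ) trivial).hom.comp (Coh.toGlobal f))
      (maximalIdeal R) := by
  obtain ⟨c, hc⟩ : ∃ c : Spec (CommRingCat.of (ResidueField R)) ⟶ Spec (CommRingCat.of R),
      c = Spec.map (CommRingCat.ofHom (residue R)) := ⟨_, rfl⟩
  rw [← hc] at hs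
  haveI hcl : IsClosedImmersion c := by
    rw [hc]
    exact IsClosedImmersion.spec_of_surjective _ residue_surjective
  haveI : IsClosedImmersion gs :=
    MorphismProperty.of_isPullback (P := @IsClosedImmersion) hs.flip hcl
  obtain ⟨U0, hx0, s, rfl⟩ := X.presheaf.exists_germ_eq a
  have h1 : Xs.presheaf.germ (gs ⁻¹ᵁ U0) ξ hx0 ((gs.app U0).hom s) = 0 :=
    (Scheme.Hom.germ_stalkMap_apply gs U0 ξ hx0 s).symm.trans ha
  have h2 : Xs.presheaf.germ (gs ⁻¹ᵁ U0) ξ hx0 ((gs.app U0).hom s) =
      Xs.presheaf.germ (gs ⁻¹ᵁ U0) ξ hx0 0 := by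
    rw [map_zero]; exact h1
  obtain ⟨W, hξW, iU, iV, hW⟩ := Xs.presheaf.germ_eq ξ hx0 hx0 _ _ h2
  rw [map_zero] at hW
  obtain ⟨T, hT, hTW⟩ := gs.isClosedEmbedding.isEmbedding.isInducing.isOpen_iff.mp W.2
  have hTW' : ∀ z, z ∈ W ↔ gs.base z ∈ T := fun z => by
    have := Set.ext_iff.mp hTW z
    exact this.symm
  have hxT : gs.base ξ ∈ T := (hTW' ξ).mp hξW
  obtain ⟨W2, hW2, hxW2, hW2sub⟩ := exists_isAffineOpen_mem_and_subset (x := gs.base ξ)
    (U := U0 ⊓ ⟨T, hT⟩) ⟨hx0, hxT⟩
  have hle0 : W2 ≤ U0 := fun y hy => (hW2sub hy).1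
  have hleT : ∀ y, y ∈ W2 → y ∈ T := fun y hy => (hW2sub hy).2
  have hleW : gs ⁻¹ᵁ W2 ≤ W := by
    intro z hz
    exact (hTW' z).mpr (hleT _ hz)
  have hs2 : (gs.app W2).hom ((X.presheaf.map (homOfLE hle0).op).hom s) = 0 := by
    rw [Groth.Agent.H69.QuotBasis.app_res gs W2 U0 hle0 s]
    have e1 : Xs.presheaf.map (homOfLE (gs.preimage_mono hle0)).op =
        Xs.presheaf.map iU.op ≫ Xs.presheaf.map (homOfLE hleW).op := by
      rw [← Functor.map_comp]
      exact congrArg (fun m => Xs.presheaf.map m) (Subsingleton.elim _ _)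
    rw [e1]
    show (Xs.presheaf.map (homOfLE hleW).op).hom ((Xs.presheaf.map iU.op).hom ((gs.app U0).hom s)) = 0
    have hW' : (Xs.presheaf.map iU.op).hom ((gs.app U0).hom s) = 0 := hW
    rw [hW', map_zero]
  have hmem : (X.presheaf.map (homOfLE hle0).op).hom s ∈ gs.ker.ideal ⟨W2, hW2⟩ := by
    rw [Scheme.Hom.ker_apply, RingHom.mem_ker]
    exact hs2
  rw [Groth.Agent.S5136.ker_eq_comap_of_isPullback hs,
    Groth.Agent.H9.comap_ideal f c.ker ⟨⊤, isAffineOpen_top _⟩ ⟨W2, hW2⟩ (fun _ _ => trivial)]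
    at hmem
  have hgm := Ideal.mem_map_of_mem (X.presheaf.germ W2 (gs.base ξ) hxW2).hom hmem
  rw [Ideal.map_map] at hgm
  have hgerm : (X.presheaf.germ W2 (gs.base ξ) hxW2).hom ((X.presheaf.map (homOfLE hle0).op).hom s) =
      X.presheaf.germ U0 (gs.base ξ) hx0 s :=
    X.presheaf.germ_res_apply (homOfLE hle0) (gs.base ξ) hxW2 s
  rw [hgerm] at hgm
  refine SetLike.le_def.mp (?_ : Ideal.map _ _ ≤ Ideal.map _ _) hgm
  rw [Ideal.map_le_iff_le_comap]
  intro j hj
  rw [Scheme.Hom.ker_apply, RingHom.mem_ker] at hj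
  rw [Ideal.mem_comap]
  have hr : (Scheme.ΓSpecIso (CommRingCat.of R)).hom.hom j ∈ maximalIdeal R := by
    rw [← residue_eq_zero_iff]
    have := Groth.Agent.H69.QuotBasis.ΓSpecIso_appTop (CommRingCat.ofHom (residue R)) j
    rw [← hc] at this
    rw [show c.appTop.hom j = 0 from hj, map_zero] at this
    exact this.symm
  have hjj : (Scheme.ΓSpecIso (CommRingCat.of R)).inv.hom
      ((Scheme.ΓSpecIso (CommRingCat.of R)).hom.hom j) = j :=
    congr($((Scheme.ΓSpecIso (CommRingCat.of R)).hom_inv_id) j)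
  have hφ : ((X.presheaf.germ W2 (gs.base ξ) hxW2).hom.comp
      (f.appLE ⊤ W2 (fun _ _ => trivial)).hom) j =
      ((X.presheaf.germ ⊤ (gs.base ξ) trivial).hom.comp (Coh.toGlobal f))
        ((Scheme.ΓSpecIso (CommRingCat.of R)).hom.hom j) := by
    show (X.presheaf.germ W2 (gs.base ξ) hxW2).hom
      ((X.presheaf.map (homOfLE _).op).hom ((f.app ⊤).hom j)) =
      (X.presheaf.germ ⊤ (gs.base ξ) trivial).hom (f.appTop.hom
        ((Scheme.ΓSpecIso (CommRingCat.of R)).inv.hom
          ((Scheme.ΓSpecIso (CommRingCat.of R)).hom.hom j)))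
    rw [hjj]
    exact X.presheaf.germ_res_apply (homOfLE _) (gs.base ξ) hxW2 _
  rw [hφ]
  exact Ideal.mem_map_of_mem _ hr

theorem main (f : X ⟶ Spec (CommRingCat.of R)) [Flat f]
    (gs : Xs ⟶ X) (fs : Xs ⟶ Spec (CommRingCat.of (ResidueField R)))
    (hs : IsPullback gs fs f (Spec.map (CommRingCat.ofHom (residue R)))) [IsReduced Xs]
    (ξ : Xs) (hξ : closure ({ξ} : Set Xs) ∈ irreducibleComponents Xs)
    (B : Type u) [CommRing B] [IsLocalRing B] [Algebra R B]
    (e : X.presheaf.stalk (gs.base ξ) ≅ CommRingCat.of B)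
    (he : e.hom.hom.comp ((X.presheaf.germ ⊤ (gs.base ξ) trivial).hom.comp (Coh.toGlobal f)) =
      algebraMap R B) :
    maximalIdeal B = Ideal.map (algebraMap R B) (maximalIdeal R) := by
  have hinv : ∀ a : X.presheaf.stalk (gs.base ξ), e.inv.hom (e.hom.hom a) = a :=
    fun a => congr($(e.hom_inv_id) a)
  have hinv' : ∀ b : B, e.hom.hom (e.inv.hom b) = b := fun b => congr($(e.inv_hom_id) b)
  apply le_antisymm
  · intro b hb
    have hnu : ¬ IsUnit (e.inv.hom b) := by
      intro hu
      have := hu.map e.hom.hom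
      rw [hinv'] at this
      exact (mem_maximalIdeal b).mp hb this
    have hnu' : ¬ IsUnit ((gs.stalkMap ξ).hom (e.inv.hom b)) :=
      fun hu => hnu (isUnit_of_map_unit (gs.stalkMap ξ).hom _ hu)
    have hz := eq_zero_of_not_isUnit ξ hξ _ hnu'
    have hmem := stalk_ker_le f gs fs hs ξ _ hz
    have := Ideal.mem_map_of_mem e.hom.hom hmem
    rw [Ideal.map_map, he, hinv'] at this
    exact this
  · rw [Ideal.map_le_iff_le_comap]
    intro r hr
    rw [Ideal.mem_comap, mem_maximalIdeal, mem_nonunits_iff]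
    intro hu
    rw [← he] at hu
    have hu2 : IsUnit (((X.presheaf.germ ⊤ (gs.base ξ) trivial).hom.comp (Coh.toGlobal f)) r) := by
      have := hu.map e.inv.hom
      rw [RingHom.comp_apply, hinv] at this
      exact this
    have hu3 := hu2.map (gs.stalkMap ξ).hom
    rw [stalkMap_phi_eq_zero f gs fs hs ξ r hr] at hu3
    exact not_isUnit_zero hu3

end Helpers


/-- Let R be a discrete valuation ring with algebraically closed residue field and f : X → Spec R a
proper flat morphism whose generic fibre (base change to the fraction field of R) is smooth of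
relative dimension 1 and connected and whose special fibre (base change to the residue field) is
connected and reduced; let ξ be the generic point of an irreducible component of the special fibre
and B a discrete valuation ring given with an isomorphism from the local ring of X at ξ under which
R → B is the map induced by f. Then the maximal ideal of B is the extension of the maximal ideal of
R: a uniformizer of R maps to a uniformizer of B. (The published setting takes everything
essentially of finite type over a field of characteristic zero; the printed argument does not use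
this and it is not imposed here.) -/
theorem result
    (R : Type u) [CommRing R] [IsDomain R] [IsDiscreteValuationRing R]
    [IsAlgClosed (IsLocalRing.ResidueField R)]
    (X : Scheme.{u}) (f : X ⟶ Spec (CommRingCat.of R)) [IsProper f] [Flat f]
    (XK : Scheme.{u}) (gK : XK ⟶ X) (fK : XK ⟶ Spec (CommRingCat.of (FractionRing R)))
    (hK : IsPullback gK fK f (Spec.map (CommRingCat.ofHom (algebraMap R (FractionRing R)))))
    [SmoothOfRelativeDimension 1 fK] [ConnectedSpace XK]
    (Xs : Scheme.{u}) (gs : Xs ⟶ X) (fs : Xs ⟶ Spec (CommRingCat.of (IsLocalRing.ResidueField R)))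
    (hs : IsPullback gs fs f (Spec.map (CommRingCat.ofHom (IsLocalRing.residue R))))
    [ConnectedSpace Xs] [IsReduced Xs]
    (ξ : Xs) (hξ : closure ({ξ} : Set Xs) ∈ irreducibleComponents Xs)
    (B : Type u) [CommRing B] [IsDomain B] [IsDiscreteValuationRing B] [Algebra R B]
    (e : X.presheaf.stalk (gs.base ξ) ≅ CommRingCat.of B)
    (he : e.hom.hom.comp ((X.presheaf.germ ⊤ (gs.base ξ) trivial).hom.comp (Coh.toGlobal f)) =
      algebraMap R B) :
    IsLocalRing.maximalIdeal B = Ideal.map (algebraMap R B) (IsLocalRing.maximalIdeal R) := by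
  exact main f gs fs hs ξ hξ B e he

end Groth.Agent.S17018
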