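import Groth.Statements.S1702
import Groth.Agent.H9.EffCartier

set_option autoImplicit false
universe u
open CategoryTheory CategoryTheory.Limits AlgebraicGeometry TopologicalSpace
open SDiv

namespace Groth.Agent.S1702

/-- Let f : X ⟶ S be a morphism and 𝓘₁, 𝓘₂ ideal sheaves of effective Cartier divisors on X whose closed
subschemes are flat over S. Then the product ideal 𝓘₁𝓘₂ (the sum of the divisors) is again the ideal
of an effective Cartier divisor flat over S. -/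
theorem result {X S : Scheme.{u}} (f : X ⟶ S) (𝓘₁ 𝓘₂ : X.IdealSheafData)
    (h₁ : (BlowUp.IsEffCartierIdeal 𝓘₁ ∧ Flat (𝓘₁.subschemeι ≫ f))) (h₂ : (BlowUp.IsEffCartierIdeal 𝓘₂ ∧ Flat (𝓘₂.subschemeι ≫ f))) : (BlowUp.IsEffCartierIdeal (𝓘₁ * 𝓘₂) ∧ Flat ((𝓘₁ * 𝓘₂).subschemeι ≫ f)) := by
  obtain ⟨hc₁, hf₁⟩ := h₁
  obtain ⟨hc₂, hf₂⟩ := h₂
  constructor
  · intro x
    obtain ⟨U, hxU, -, ⟨t₁, ht₁, hI₁⟩, ⟨t₂, ht₂, hI₂⟩⟩ :=
      Groth.Agent.H9.exists_affine_isPrincipalNZD₂ hc₁ hc₂ ⊤ x trivial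
    refine ⟨U, hxU, t₁ * t₂, mul_mem ht₁ ht₂, ?_⟩
    rw [Scheme.IdealSheafData.ideal_mul, Pi.mul_apply, hI₁, hI₂,
      Ideal.span_singleton_mul_span_singleton]
  · apply Groth.Agent.H9.flat_of_exists
    intro x _
    obtain ⟨V, hV, hxV, -⟩ := exists_isAffineOpen_mem_and_subset (x := f x) (U := ⊤) trivial
    obtain ⟨U, hxU, hUV, ⟨t₁, ht₁, hI₁⟩, ⟨t₂, ht₂, hI₂⟩⟩ :=
      Groth.Agent.H9.exists_affine_isPrincipalNZD₂ hc₁ hc₂ (f ⁻¹ᵁ V) x hxV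
    refine ⟨⟨V, hV⟩, U, hxU, hUV, ?_⟩
    rw [Scheme.IdealSheafData.ideal_mul, Pi.mul_apply, hI₁, hI₂,
      Ideal.span_singleton_mul_span_singleton]
    apply Groth.Agent.H9.ringHom_flat_quot_mul _ _ _ ht₁
    · rw [← hI₁]
      exact Groth.Agent.H9.flat_quotient_of_flat f 𝓘₁ hf₁ ⟨V, hV⟩ U hUV
    · rw [← hI₂]
      exact Groth.Agent.H9.flat_quotient_of_flat f 𝓘₂ hf₂ ⟨V, hV⟩ U hUV

end Groth.Agent.S1702
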