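import Groth.Statements.S17023
import Groth.Agent.S0549
import Mathlib

set_option autoImplicit false
universe u
open FlatMor

namespace Groth.Agent.S17023

section Lift

variable {B C : Type u} [CommRing B] [CommRing C] [Algebra B C] [Algebra.FormallySmooth B C]
  (m : Ideal B)

theorem ker_factor_sq (n : ℕ) :
    IsNilpotent (RingHom.ker ((Ideal.Quotient.factorₐ B
      (Ideal.pow_le_pow_right (I := m) (Nat.le_succ (n + 1))) :
        (B ⧸ m ^ (n + 1 + 1)) →ₐ[B] (B ⧸ m ^ (n + 1))) :
          (B ⧸ m ^ (n + 1 + 1)) →+* (B ⧸ m ^ (n + 1)))) := by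
  have h1 : RingHom.ker ((Ideal.Quotient.factorₐ B
      (Ideal.pow_le_pow_right (I := m) (Nat.le_succ (n + 1))) :
        (B ⧸ m ^ (n + 1 + 1)) →ₐ[B] (B ⧸ m ^ (n + 1))) :
          (B ⧸ m ^ (n + 1 + 1)) →+* (B ⧸ m ^ (n + 1))) =
      Ideal.map (Ideal.Quotient.mk (m ^ (n + 1 + 1))) (m ^ (n + 1)) :=
    Ideal.Quotient.factor_ker (Ideal.pow_le_pow_right (I := m) (Nat.le_succ (n + 1)))
  refine ⟨2, ?_⟩
  rw [h1, ← Ideal.map_pow, Ideal.zero_eq_bot, Ideal.map_eq_bot_iff_le_ker, Ideal.mk_ker, ← pow_mul]
  exact Ideal.pow_le_pow_right (by omega)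

/-- successive lifts of `τ0` to `B ⧸ m ^ (n+1)`. -/
noncomputable def tau (τ0 : C →ₐ[B] B ⧸ m ^ 1) : (n : ℕ) → C →ₐ[B] B ⧸ m ^ (n + 1)
  | 0 => τ0
  | (n + 1) => Algebra.FormallySmooth.liftOfSurjective (tau τ0 n)
      (Ideal.Quotient.factorₐ B (Ideal.pow_le_pow_right (I := m) (Nat.le_succ (n + 1))))
      (Ideal.Quotient.factor_surjective (Ideal.pow_le_pow_right (I := m) (Nat.le_succ (n + 1)))) (ker_factor_sq m n)

theorem tau_succ (τ0 : C →ₐ[B] B ⧸ m ^ 1) (n : ℕ) :
    (Ideal.Quotient.factorₐ B (Ideal.pow_le_pow_right (I := m) (Nat.le_succ (n + 1)))).comp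
      (tau m τ0 (n + 1)) = tau m τ0 n := by
  exact Algebra.FormallySmooth.comp_liftOfSurjective (tau m τ0 n)
      (Ideal.Quotient.factorₐ B (Ideal.pow_le_pow_right (I := m) (Nat.le_succ (n + 1))))
      (Ideal.Quotient.factor_surjective (Ideal.pow_le_pow_right (I := m) (Nat.le_succ (n + 1))))
      (ker_factor_sq m n)

theorem tau_le (τ0 : C →ₐ[B] B ⧸ m ^ 1) (k n : ℕ) (h : k ≤ n) :
    (Ideal.Quotient.factorₐ B (Ideal.pow_le_pow_right (I := m) (Nat.succ_le_succ h))).comp
      (tau m τ0 n) = tau m τ0 k := by
  induction n, h using Nat.le_induction with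
  | base =>
    rw [Ideal.Quotient.factorₐ_refl]
    exact AlgHom.id_comp _
  | succ n hkn ih =>
    rw [← ih, ← tau_succ m τ0 n, ← AlgHom.comp_assoc, Ideal.Quotient.factorₐ_comp]

theorem exists_algHom_adicCompletion (τ0 : C →ₐ[B] B ⧸ m ^ 1) :
    ∃ ψ : C →ₐ[B] AdicCompletion m B, ∀ x, AdicCompletion.evalₐ m 1 (ψ x) = τ0 x := by
  let f : (n : ℕ) → C →ₐ[B] B ⧸ m ^ n := fun n =>
    (Ideal.Quotient.factorₐ B (Ideal.pow_le_pow_right (I := m) (Nat.le_succ n))).comp (tau m τ0 n)
  have hf : ∀ {k n : ℕ} (hle : k ≤ n),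
      (Ideal.Quotient.factorₐ B (Ideal.pow_le_pow_right (I := m) hle)).comp (f n) = f k := by
    intro k n hle
    show (Ideal.Quotient.factorₐ B (Ideal.pow_le_pow_right (I := m) hle)).comp
      ((Ideal.Quotient.factorₐ B (Ideal.pow_le_pow_right (I := m) (Nat.le_succ n))).comp
        (tau m τ0 n)) =
      (Ideal.Quotient.factorₐ B (Ideal.pow_le_pow_right (I := m) (Nat.le_succ k))).comp
        (tau m τ0 k)
    rw [← tau_le m τ0 k n hle, ← AlgHom.comp_assoc, ← AlgHom.comp_assoc,
      Ideal.Quotient.factorₐ_comp, Ideal.Quotient.factorₐ_comp]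
  refine ⟨AdicCompletion.liftAlgHom m f hf, fun x => ?_⟩
  rw [AdicCompletion.evalₐ_liftAlgHom]
  show (Ideal.Quotient.factorₐ B (Ideal.pow_le_pow_right (I := m) (Nat.le_succ 1)))
    (tau m τ0 1 x) = τ0 x
  have := tau_succ m τ0 0
  exact congrArg (fun g => g x) this

theorem mem_max_iff (B : Type u) [CommRing B] [IsLocalRing B] [IsNoetherianRing B]
    (x : AdicCompletion (IsLocalRing.maximalIdeal B) B) :
    x ∈ IsLocalRing.maximalIdeal (AdicCompletion (IsLocalRing.maximalIdeal B) B) ↔
      AdicCompletion.evalₐ (IsLocalRing.maximalIdeal B) 1 x = 0 := by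
  rw [AdicCompletion.mem_maximalIdeal_iff_eval_one_eq_zero]
  constructor
  · intro h
    rw [← AdicCompletion.factor_eval_eq_evalₐ _ x (le_of_eq (Ideal.mul_top _))]
    show Ideal.Quotient.factor (le_of_eq (Ideal.mul_top _)) (x.1 1) = 0
    rw [h, map_zero]
  · intro h
    have := AdicCompletion.factor_evalₐ_eq_eval (n := 1) (IsLocalRing.maximalIdeal B) x
      (le_of_eq (Ideal.mul_top _).symm)
    rw [h, map_zero] at this
    exact this.symm

end Lift

/-- Let B be a discrete valuation ring, A a B-algebra of finite type and p a prime ideal of A which lies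
over the maximal ideal of B (a point of the special fibre), at which A is smooth over B (the
localization A_p is formally smooth over B), and such that B maps onto the residue field κ(p). Then
there are a discrete valuation ring B' and a ring map ψ : A → B' pulling the maximal ideal of B'
back to p, such that the composite B → A → B' is injective, the maximal ideal of B generates the
maximal ideal of B', and B maps onto the residue field of B'; in other words Spec B' → Spec A → Spec
B is surjective and unramified with trivial residue field extension. (The published statement does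
not say that the closed point of Spec B' goes to p; it is required here. The published setting takes
A essentially of finite type over a field of characteristic zero; here A is taken of finite type
over B, with no ground field.) -/
theorem result
    (B : Type u) [CommRing B] [IsDomain B] [IsDiscreteValuationRing B]
    (A : Type u) [CommRing A] [Algebra B A] [Algebra.FiniteType B A]
    (p : Ideal A) [p.IsPrime] (hp : p.comap (algebraMap B A) = IsLocalRing.maximalIdeal B)
    [Algebra.IsSmoothAt B p]
    (hres : Function.Surjective ((algebraMap A p.ResidueField).comp (algebraMap B A))) :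
    ∃ (B' : Type u) (_ : CommRing B') (_ : IsDomain B') (_ : IsDiscreteValuationRing B') (ψ : A →+* B'),
      Ideal.comap ψ (IsLocalRing.maximalIdeal B') = p ∧
      Function.Injective (ψ.comp (algebraMap B A)) ∧
      Ideal.map (ψ.comp (algebraMap B A)) (IsLocalRing.maximalIdeal B) = IsLocalRing.maximalIdeal B' ∧
      Function.Surjective ((IsLocalRing.residue B').comp (ψ.comp (algebraMap B A))) := by
  classical
  obtain ⟨hdom, hdvr⟩ := (Groth.Agent.S0549.result B).mp ⟨inferInstance, inferInstance⟩
  have : Algebra.FormallySmooth B (Localization.AtPrime p) := ‹Algebra.IsSmoothAt B p›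
  have hkerκ : RingHom.ker (algebraMap B p.ResidueField) = IsLocalRing.maximalIdeal B := by
    rw [IsScalarTower.algebraMap_eq B A p.ResidueField, ← RingHom.comap_ker,
      Ideal.ker_algebraMap_residueField, hp]
  let g : (B ⧸ IsLocalRing.maximalIdeal B ^ 1) →ₐ[B] p.ResidueField :=
    Ideal.Quotient.liftₐ _ (Algebra.ofId B p.ResidueField) (by
      intro b hb
      rw [pow_one, ← hkerκ] at hb
      exact hb)
  have hg : Function.Bijective g := by
    constructor
    · rw [injective_iff_map_eq_zero]
      intro x hx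
      obtain ⟨b, rfl⟩ := Ideal.Quotient.mk_surjective x
      have h1 : algebraMap B p.ResidueField b = 0 := hx
      rw [Ideal.Quotient.eq_zero_iff_mem, pow_one, ← hkerκ]
      exact h1
    · intro y
      obtain ⟨b, hb⟩ := hres y
      refine ⟨Ideal.Quotient.mk _ b, ?_⟩
      rw [← hb]
      show algebraMap B p.ResidueField b = _
      rw [IsScalarTower.algebraMap_eq B A p.ResidueField]
  let e := AlgEquiv.ofBijective g hg
  let τ0 : Localization.AtPrime p →ₐ[B] B ⧸ IsLocalRing.maximalIdeal B ^ 1 :=
    (e.symm : p.ResidueField →ₐ[B] _).comp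
      (IsScalarTower.toAlgHom B (Localization.AtPrime p) p.ResidueField)
  obtain ⟨ψ', hψ'⟩ := exists_algHom_adicCompletion (IsLocalRing.maximalIdeal B) τ0
  have hcomp : ((ψ' : Localization.AtPrime p →+* AdicCompletion (IsLocalRing.maximalIdeal B) B).comp
      (algebraMap A (Localization.AtPrime p))).comp (algebraMap B A) =
      algebraMap B (AdicCompletion (IsLocalRing.maximalIdeal B) B) := by
    refine RingHom.ext fun b => ?_
    show ψ' (algebraMap A (Localization.AtPrime p) (algebraMap B A b)) = _
    rw [← IsScalarTower.algebraMap_apply B A (Localization.AtPrime p)]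
    exact ψ'.commutes b
  refine ⟨AdicCompletion (IsLocalRing.maximalIdeal B) B, inferInstance, hdom, hdvr,
    (ψ' : Localization.AtPrime p →+* AdicCompletion (IsLocalRing.maximalIdeal B) B).comp
      (algebraMap A (Localization.AtPrime p)), ?_, ?_, ?_, ?_⟩
  · ext a
    rw [Ideal.mem_comap, mem_max_iff]
    show AdicCompletion.evalₐ (IsLocalRing.maximalIdeal B) 1
      (ψ' (algebraMap A (Localization.AtPrime p) a)) = 0 ↔ _
    rw [hψ']
    show e.symm (algebraMap (Localization.AtPrime p) p.ResidueField
      (algebraMap A (Localization.AtPrime p) a)) = 0 ↔ _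
    rw [← IsScalarTower.algebraMap_apply A (Localization.AtPrime p) p.ResidueField,
      EmbeddingLike.map_eq_zero_iff, ← RingHom.mem_ker, Ideal.ker_algebraMap_residueField]
  · rw [hcomp]
    exact AdicCompletion.of_injective (IsLocalRing.maximalIdeal B) B
  · rw [hcomp]
    exact AdicCompletion.maximalIdeal_eq_map.symm
  · rw [hcomp]
    intro y
    obtain ⟨z, hz⟩ := (AdicCompletion.residueField_map_bijective B).2 y
    obtain ⟨b, rfl⟩ := IsLocalRing.residue_surjective z
    refine ⟨b, ?_⟩
    rw [← hz, IsLocalRing.ResidueField.map_residue]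
    rfl

end Groth.Agent.S17023
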