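import Groth.Statements.S1703
import Groth.Agent.H79.KeyFlatSch
import Groth.Agent.H9.EffCartier

set_option autoImplicit false
universe u
open CategoryTheory CategoryTheory.Limits AlgebraicGeometry TopologicalSpace
open SDiv

namespace Groth.Agent.S1703

/-- Let f : X ⟶ S be locally of finite presentation and 𝓘 the ideal sheaf of an effective Cartier
divisor D ⊂ X with D ⟶ S flat. Then there is an open subscheme U of X containing D such that U ⟶ S
is flat. -/
theorem result {X S : Scheme.{u}} (f : X ⟶ S) [LocallyOfFinitePresentation f] (𝓘 : X.IdealSheafData)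
    (hD : (BlowUp.IsEffCartierIdeal 𝓘 ∧ Flat (𝓘.subschemeι ≫ f))) : ∃ U : X.Opens, (𝓘.support : Set ↥X) ⊆ U ∧ Flat (U.ι ≫ f) := by
  obtain ⟨hcart, hflat⟩ := hD
  refine ⟨⟨{x : X | (f.stalkMap x).hom.Flat}, Groth.Agent.S0386.result f⟩, ?_, ?_⟩
  · intro x hx
    show (f.stalkMap x).hom.Flat
    obtain ⟨V, hV, hfxV, -⟩ := exists_isAffineOpen_mem_and_subset (x := f x) (U := ⊤) trivial
    have hxW : x ∈ f ⁻¹ᵁ V := hfxV
    obtain ⟨U, hxU, hUW, t, ht, hI⟩ :=
      Groth.Agent.H9.exists_affine_isPrincipalNZD hcart (f ⁻¹ᵁ V) x hxW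
    have hq := Groth.Agent.H9.flat_quotient_of_flat f 𝓘 hflat ⟨V, hV⟩ U hUW
    rw [hI] at hq
    refine Groth.Agent.H79.KeyFlatSch.flat_stalkMap_of_regular_of_flat_quot f hV U.2 hUW t ht hq
      x hxU ?_
    have h1 : x ∈ X.zeroLocus (U := U.1) (𝓘.ideal U) :=
      (Scheme.IdealSheafData.mem_support_iff_of_mem (U := U) hxU).mp hx
    rw [Scheme.mem_zeroLocus_iff] at h1
    have h2 : x ∉ X.basicOpen t := h1 t (by rw [hI]; exact Ideal.mem_span_singleton_self t)
    by_contra hnot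
    apply h2
    have h3 : U.2.primeIdealOf ⟨x, hxU⟩ ∈ (PrimeSpectrum.basicOpen t) :=
      (PrimeSpectrum.mem_basicOpen _ _).2 hnot
    rw [← U.2.fromSpec_preimage_basicOpen t] at h3
    have h4 : U.2.fromSpec (U.2.primeIdealOf ⟨x, hxU⟩) ∈ X.basicOpen t := h3
    rwa [U.2.fromSpec_primeIdealOf ⟨x, hxU⟩] at h4
  · apply Flat.of_stalkMap
    intro d
    rw [Groth.Agent.H9.CMFlatSch.flat_stalkMap_comp_left]
    exact d.2

end Groth.Agent.S1703
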