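import Groth.Statements.S1705
import Groth.Agent.H8.AssPoints2

set_option autoImplicit false
universe u
open CategoryTheory CategoryTheory.Limits AlgebraicGeometry TopologicalSpace
open SDiv

namespace Groth.Agent.S1705

/-- Let X be a locally Noetherian scheme, F a quasi-coherent module and U an open subset containing
every associated point of F. Then the restriction map Γ(X, F) → Γ(U, F) is injective. -/
theorem result (X : Scheme.{u}) [IsLocallyNoetherian X] (F : X.Modules) (hF : Coh.IsQCoh F)
    (U : X.Opens) (hU : ∀ x : ↥X, Curv2.IsAssPoint F x → x ∈ U) :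
    Function.Injective (F.presheaf.map (homOfLE (le_top : U ≤ ⊤)).op) := by
  haveI : F.IsQuasicoherent := hF
  intro s t hst
  rw [← sub_eq_zero]
  have hs : F.presheaf.map (homOfLE (le_top : U ≤ ⊤)).op (s - t) = 0 := by
    rw [map_sub, sub_eq_zero]
    exact hst
  generalize s - t = r at hs
  by_contra hne
  have hex : ∃ x : X, F.presheaf.germ ⊤ x trivial r ≠ 0 := by
    by_contra hcon
    push Not at hcon
    apply hne
    exact TopCat.Presheaf.section_ext ⟨F.presheaf, F.isSheaf⟩ ⊤ r 0
      (fun x hx => by rw [map_zero]; exact hcon x)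
  obtain ⟨x, hx⟩ := hex
  obtain ⟨_, ⟨V, hV, rfl⟩, hxV, -⟩ := X.isBasis_affineOpens.exists_subset_of_mem_open
    (Set.mem_univ x) isOpen_univ
  have hn : F.presheaf.map (homOfLE (le_top : V ≤ ⊤)).op r ≠ 0 := by
    intro h
    apply hx
    rw [← TopCat.Presheaf.germ_res_apply F.presheaf (homOfLE (le_top : V ≤ ⊤)) x hxV r, h, map_zero]
  haveI : IsNoetherianRing Γ(X, V) := IsLocallyNoetherian.component_noetherian ⟨V, hV⟩
  obtain ⟨y, hyV, hyW, hgerm⟩ := H8.exists_isAssPoint_germ_ne_zero hV F _ hn
  have hyU : y ∈ U := hU y hyW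
  apply hgerm
  rw [TopCat.Presheaf.germ_res_apply,
    ← TopCat.Presheaf.germ_res_apply F.presheaf (homOfLE (le_top : U ≤ ⊤)) y hyU r, hs, map_zero]

end Groth.Agent.S1705
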