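import Groth.Statements.S17065
import Mathlib.RingTheory.Finiteness.Nakayama

set_option autoImplicit false
universe u
open CAlg

namespace Groth.Agent.S17065

/-- First step: the hypothesis on completions gives `J ^ n ≤ I ⊔ J ^ (n + 1)`. -/
theorem pow_le_sup (A : Type u) [CommRing A]
    (I J : Ideal A) (n : ℕ)
    (h : (J ^ n).map (algebraMap A (AdicCompletion J A)) ≤ I.map (algebraMap A (AdicCompletion J A))) :
    J ^ n ≤ I ⊔ J ^ (n + 1) := by
  have hcomp : ((AdicCompletion.evalₐ J (n + 1) : AdicCompletion J A →+* A ⧸ J ^ (n + 1))).comp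
      (algebraMap A (AdicCompletion J A)) = Ideal.Quotient.mk (J ^ (n + 1)) := by
    ext x
    simp
  have h2 := Ideal.map_mono (f := (AdicCompletion.evalₐ J (n + 1) : AdicCompletion J A →+* A ⧸ J ^ (n + 1))) h
  rw [Ideal.map_map, Ideal.map_map, hcomp] at h2
  intro x hx
  have hx' : Ideal.Quotient.mk (J ^ (n + 1)) x ∈ I.map (Ideal.Quotient.mk (J ^ (n + 1))) :=
    h2 (Ideal.mem_map_of_mem _ hx)
  obtain ⟨i, hi, hix⟩ := (Ideal.mem_map_iff_of_surjective _ Ideal.Quotient.mk_surjective).mp hx'
  have hd : x - i ∈ J ^ (n + 1) := by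
    rw [← Ideal.Quotient.eq]; exact hix.symm
  have : x = i + (x - i) := by ring
  rw [this]
  exact Submodule.add_mem_sup hi hd

/-- The local algebraic statement its proof establishes: let A be a Noetherian ring, I ≤ J radical
ideals and Â the J-adic completion of A. If J^n Â ⊆ I Â for some n, then the closed set V(J) is open
inside V(I) ⊆ Spec A. (Globally: if X₂ ⊆ X₁ are the completions of a locally Noetherian scheme along
nested closed subsets Z₂ ⊆ Z₁ and the ideal of Z₁ generates an ideal of definition of X₂, then X₂ is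
a union of connected components of X₁.) -/
theorem result (A : Type u) [CommRing A] [IsNoetherianRing A]
    (I J : Ideal A) (hIJ : I ≤ J) (hI : I.IsRadical) (hJ : J.IsRadical) (n : ℕ)
    (h : (J ^ n).map (algebraMap A (AdicCompletion J A)) ≤ I.map (algebraMap A (AdicCompletion J A))) :
    IsOpen ((fun x : PrimeSpectrum.zeroLocus (I : Set A) => (x : PrimeSpectrum A)) ⁻¹'
      PrimeSpectrum.zeroLocus (J : Set A)) := by
  have h1 := pow_le_sup A I J n h
  -- Nakayama for the image of `J ^ n` in `A ⧸ I`
  let N : Submodule A (A ⧸ I) := Submodule.map (Submodule.mkQ I) (J ^ n)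
  have hNfg : N.FG := Submodule.FG.map _ (IsNoetherian.noetherian _)
  have hN : N ≤ J • N := by
    rintro _ ⟨x, hx, rfl⟩
    obtain ⟨i, hi, y, hy, rfl⟩ := Submodule.mem_sup.mp (h1 hx)
    have hy' : y ∈ J • (J ^ n : Ideal A) := by
      rw [smul_eq_mul, ← pow_succ']; exact hy
    have : (Submodule.mkQ I) (i + y) = (Submodule.mkQ I) y := by
      rw [map_add]
      have : (Submodule.mkQ I) i = 0 := (Submodule.Quotient.mk_eq_zero I).mpr hi
      rw [this, zero_add]
    rw [this, ← Submodule.map_smul'']
    exact Submodule.mem_map_of_mem hy'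
  obtain ⟨r, hr1, hr0⟩ := Submodule.exists_sub_one_mem_and_smul_eq_zero_of_fg_of_le_smul J N hNfg hN
  have hrJ : ∀ x ∈ J ^ n, r * x ∈ I := by
    intro x hx
    have := hr0 _ (Submodule.mem_map_of_mem (f := Submodule.mkQ I) hx)
    rw [← map_smul, Submodule.mkQ_apply, Submodule.Quotient.mk_eq_zero] at this
    simpa using this
  have heq : ((fun x : PrimeSpectrum.zeroLocus (I : Set A) => (x : PrimeSpectrum A)) ⁻¹'
      PrimeSpectrum.zeroLocus (J : Set A)) =
      ((fun x : PrimeSpectrum.zeroLocus (I : Set A) => (x : PrimeSpectrum A)) ⁻¹'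
        (PrimeSpectrum.basicOpen r : Set (PrimeSpectrum A))) := by
    ext ⟨p, hp⟩
    simp only [Set.mem_preimage, PrimeSpectrum.mem_zeroLocus, SetLike.coe_subset_coe,
      SetLike.mem_coe, PrimeSpectrum.mem_basicOpen]
    rw [PrimeSpectrum.mem_zeroLocus, SetLike.coe_subset_coe] at hp
    constructor
    · intro hJp hrp
      have h1p : r - 1 ∈ p.asIdeal := hJp hr1
      have : (1 : A) ∈ p.asIdeal := by
        have := p.asIdeal.sub_mem hrp h1p
        simpa using this
      exact p.isPrime.ne_top ((Ideal.eq_top_iff_one _).mpr this)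
    · intro hrp
      have hpow : J ^ n ≤ p.asIdeal := by
        intro x hx
        have := hp (hrJ x hx)
        exact (p.isPrime.mem_or_mem this).resolve_left hrp
      exact p.isPrime.le_of_pow_le hpow
  rw [heq]
  exact (PrimeSpectrum.basicOpen r).isOpen.preimage continuous_subtype_val

end Groth.Agent.S17065
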