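import Groth.Statements.S1707
import Groth.Agent.H8.AssPoints

set_option autoImplicit false
universe u
open CategoryTheory CategoryTheory.Limits AlgebraicGeometry TopologicalSpace
open SDiv

namespace Groth.Agent.S1707

/-- Let X be a scheme, F a quasi-coherent module and x a point of the support of F such that no other
point of the support specializes to x. Then x is weakly associated to F. -/
theorem result (X : Scheme.{u}) (F : X.Modules) (hF : Coh.IsQCoh F) (x : ↥X)
    (hx : x ∈ CohB1.support F) (hmax : ∀ y : ↥X, y ∈ CohB1.support F → y ⤳ x → y = x) : Curv2.IsWeakAssPoint F x := by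
  haveI : F.IsQuasicoherent := hF
  obtain ⟨_, ⟨U, hU, rfl⟩, hxU, -⟩ := X.isBasis_affineOpens.exists_subset_of_mem_open
    (Set.mem_univ x) isOpen_univ
  haveI : Nontrivial (F.presheaf.stalk x) := not_subsingleton_iff_nontrivial.mp hx
  obtain ⟨m, hm⟩ := exists_ne (0 : F.presheaf.stalk x)
  refine ⟨m, ?_⟩
  set I := LinearMap.ker (LinearMap.toSpanSingleton (X.presheaf.stalk x) (F.presheaf.stalk x) m)
    with hI
  have hImem : ∀ b : X.presheaf.stalk x, b ∈ I ↔ b • m = 0 := fun b => by
    rw [hI, LinearMap.mem_ker, LinearMap.toSpanSingleton_apply]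
  have hIne : I ≠ ⊤ := by
    intro h
    have : (1 : X.presheaf.stalk x) ∈ I := h ▸ Submodule.mem_top
    rw [hImem, one_smul] at this
    exact hm this
  apply le_antisymm
  · have hle : I ≤ IsLocalRing.maximalIdeal (X.presheaf.stalk x) :=
      IsLocalRing.le_maximalIdeal hIne
    exact (Ideal.IsPrime.radical_le_iff (IsLocalRing.maximalIdeal.isMaximal _).isPrime).mpr hle
  · rw [Ideal.radical_eq_sInf]
    apply le_sInf
    rintro Q ⟨hIQ, hQ⟩
    haveI := hQ
    haveI : (Q.comap (X.presheaf.germ U x hxU).hom).IsPrime := Ideal.comap_isPrime _ Q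
    have hsupp := H8.pointOfPrime_mem_support hU x hxU F Q m
      (fun b hb => hIQ ((hImem b).mpr hb))
    have hsp := H8.pointOfPrime_specializes hU (Q.comap (X.presheaf.germ U x hxU).hom) x hxU
      (H8.comap_le_primeIdealOf hU x hxU Q)
    have hyx := hmax _ hsupp hsp
    rw [H8.eq_maximalIdeal_of_pointOfPrime_eq hU x hxU Q hyx]

end Groth.Agent.S1707
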