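import Groth.Statements.S17073
import Groth.Agent.H12.TopLC
import Groth.Agent.S0326

set_option autoImplicit false
open CategoryTheory
universe u
open LocCoh

namespace Groth.Agent.S17073

/-- Let R → S be a homomorphism of Noetherian rings, J an ideal of S containing elements u₁, …, u_d such
that S/(u₁, …, u_d) is a finite R-module and J lies in the radical of (u₁, …, u_d), and let F be a
finite R-module. Then the functor sending an S-module E to the set Hom_R(H^d_J(E), F) (d-th local
cohomology supported in J, scalars restricted to R) is representable by an S-module. (The published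
statement gives the representing module as the degree −d cohomology of RHom_R(RΓ_J S, F) and a
bifunctorial isomorphism; only representability is asserted here.) -/
theorem result
    (R S : Type u) [CommRing R] [CommRing S] [IsNoetherianRing R] [IsNoetherianRing S] [Algebra R S]
    (J : Ideal S) (d : ℕ) (u : Fin d → S) (hu : ∀ i, u i ∈ J)
    (hJ : J ≤ (Ideal.span (Set.range u)).radical) [Module.Finite R (S ⧸ Ideal.span (Set.range u))]
    (F : Type u) [AddCommGroup F] [Module R F] [Module.Finite R F] :
    ((localCohomology J d ⋙ ModuleCat.restrictScalars (algebraMap R S)).op ⋙
      yoneda.obj (ModuleCat.of R F)).IsRepresentable := by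
  classical
  -- cohomological dimension of `J` is at most `d`
  have hcd : LocCoh.CdLE S J d := by
    intro M _ _ i hi
    let s : Finset S := Finset.univ.image u
    have hs : (s : Set S) = Set.range u := by
      simp [s]
    have hcard : s.card ≤ d := by
      calc s.card ≤ (Finset.univ : Finset (Fin d)).card := Finset.card_image_le
        _ = d := by simp
    have hrad : J.radical = (Ideal.span (s : Set S)).radical := by
      rw [hs]
      apply le_antisymm
      · exact Ideal.radical_le_radical_iff.2 hJ
      · apply Ideal.radical_mono
        rw [Ideal.span_le]
        rintro _ ⟨i, rfl⟩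
        exact hu i
    have h1 : Subsingleton (LocCoh.H (Ideal.span (s : Set S)) i M) :=
      Groth.Agent.S0326.result S s M i (lt_of_le_of_lt hcard hi)
    let e := (localCohomology.isoOfSameRadical hrad i).app (ModuleCat.of S M)
    exact (e.toLinearEquiv.toEquiv).subsingleton
  obtain ⟨e⟩ := Groth.Agent.H12.TopLC.nonempty_iso J d hcd
  let N := (localCohomology J d).obj (ModuleCat.of S S)
  let adj := (ihom.adjunction N).comp
    (ModuleCat.restrictCoextendScalarsAdj.{u, u, u} (algebraMap R S))
  have hrep := adj.representableBy (ModuleCat.of R F)
  have e' : ((MonoidalCategory.tensorLeft N ⋙ ModuleCat.restrictScalars (algebraMap R S)).op ⋙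
      yoneda.obj (ModuleCat.of R F)) ≅
      ((localCohomology J d ⋙ ModuleCat.restrictScalars (algebraMap R S)).op ⋙
        yoneda.obj (ModuleCat.of R F)) :=
    Functor.isoWhiskerRight (NatIso.op (Functor.isoWhiskerRight e
      (ModuleCat.restrictScalars (algebraMap R S)))).symm _
  exact (hrep.ofIso e').isRepresentable

end Groth.Agent.S17073
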