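import Groth.Statements.S17075

set_option autoImplicit false
universe u
open CategoryTheory CategoryTheory.Limits AlgebraicGeometry
open MorSch

namespace Groth.Agent.S17075

/-- Let g : X → S be a proper morphism, i : V → X a closed immersion and j : U → X an open immersion.
Then there is an open subset S₀ of S such that, for every scheme S' and every morphism f : S' → S,
the image of f lies in S₀ if and only if the base change V ×_S S' → X ×_S S' of i factors through
the open subscheme U ×_S S', equivalently the composite V ×_S S' → V → X has image contained in the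
image of j. -/
theorem result
    {V X U S : Scheme.{u}} (g : X ⟶ S) [IsProper g] (i : V ⟶ X) [IsClosedImmersion i]
    (j : U ⟶ X) [IsOpenImmersion j] :
    ∃ S₀ : S.Opens, ∀ (S' : Scheme.{u}) (f : S' ⟶ S),
      Set.range f ⊆ (S₀ : Set S) ↔
        Set.range (pullback.fst (i ≫ g) f ≫ i) ⊆ Set.range j := by
  have hZ : IsClosed (Set.range i ∩ (Set.range j)ᶜ) :=
    i.isClosedEmbedding.isClosed_range.inter j.isOpenEmbedding.isOpen_range.isClosed_compl
  have hgZ : IsClosed (g '' (Set.range i ∩ (Set.range j)ᶜ)) := g.isClosedMap _ hZ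
  refine ⟨⟨(g '' (Set.range i ∩ (Set.range j)ᶜ))ᶜ, hgZ.isOpen_compl⟩, ?_⟩
  intro S' f
  have hr : Set.range (pullback.fst (i ≫ g) f ≫ i) = i '' ((i ≫ g) ⁻¹' Set.range f) := by
    rw [Scheme.Hom.comp_base, TopCat.coe_comp, Set.range_comp]
    congr 1
    exact Scheme.Pullback.range_fst (i ≫ g) f
  rw [hr]
  constructor
  · intro h x hx
    obtain ⟨v, hv, rfl⟩ := hx
    by_contra hnj
    have h1 : g (i v) ∈ g '' (Set.range i ∩ (Set.range j)ᶜ) := ⟨i v, ⟨⟨v, rfl⟩, hnj⟩, rfl⟩
    have h2 : (i ≫ g) v ∈ Set.range f := hv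
    exact h h2 (by simpa using h1)
  · intro h s hs
    obtain ⟨s', rfl⟩ := hs
    intro hmem
    obtain ⟨x, ⟨⟨v, rfl⟩, hxj⟩, hx⟩ := hmem
    apply hxj
    apply h
    refine ⟨v, ?_, rfl⟩
    change (i ≫ g) v ∈ Set.range f
    exact ⟨s', by simpa using hx.symm⟩

end Groth.Agent.S17075
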