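import Groth.Statements.S17076
import Groth.Agent.H54.IsoLoc_RK
import Groth.Agent.H85.IsoLocGeo
import Groth.Agent.H60.IsoLoc_GL
import Groth.Agent.H60.IsoLoc_BC
import Groth.Agent.H25.IsoLoc_ST

set_option autoImplicit false
universe u
open CategoryTheory CategoryTheory.Limits AlgebraicGeometry
open MorSch

namespace Groth.Agent.S17076

open Groth.Agent.H54.IsoLoc_RK Groth.Agent.H85.IsoLocGeo Groth.Agent.H60.IsoLoc
open Groth.Agent.H25.IsoLoc_ST

lemma appLE_congr {X S : Scheme.{u}} {g₁ g₂ : X ⟶ S} (h : g₁ = g₂) (U : S.Opens) (V : X.Opens)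
    (e : V ≤ g₁ ⁻¹ᵁ U) : g₁.appLE U V e = g₂.appLE U V (h ▸ e) := by
  subst h; rfl

lemma compat_aux {X Y : Scheme.{u}} (f : X ⟶ Y) (U U' : Y.Opens) (V' : X.Opens) (hU' : U' ≤ U)
    (hV' : V' ≤ f ⁻¹ᵁ U) (e' : V' ≤ f ⁻¹ᵁ U') :
    Y.presheaf.map (homOfLE hU').op ≫ f.appLE U' V' e' =
      f.app U ≫ X.presheaf.map (homOfLE hV').op := by
  rw [Scheme.Hom.map_appLE, Scheme.Hom.app_eq_appLE, Scheme.Hom.appLE_map]

theorem key {S : Scheme.{u}} [IsLocallyNoetherian S] (X Y : Over S) [IsProper X.hom]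
    [IsProper Y.hom] [Flat X.hom] (f : X ⟶ Y) (K : Type u) [Field K]
    (k : Spec (CommRingCat.of K) ⟶ S) (hk : IsIso ((Over.pullback k).map f).left)
    (y : Y.left) (hy : Y.hom y ∈ Set.range k) :
    ∃ U : Y.left.Opens, y ∈ U ∧ IsIso (f.left ∣_ U) := by
  have hw : f.left ≫ Y.hom = X.hom := Over.w f
  haveI : IsProper (f.left ≫ Y.hom) := by rw [hw]; infer_instance
  haveI : IsProper f.left := IsProper.of_comp f.left Y.hom
  haveI : IsLocallyNoetherian Y.left := LocallyOfFiniteType.isLocallyNoetherian Y.hom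
  have hfin : (f.left ⁻¹' {y}).Finite := (subsingleton_fibre f k hk y hy).finite
  obtain ⟨W, hyW, hW⟩ :=
    exists_isFinite_morphismRestrict_of_finite_preimage_singleton f.left y hfin
  -- affine opens
  obtain ⟨_, ⟨US, hUS, rfl⟩, hsUS, -⟩ :=
    S.isBasis_affineOpens.exists_subset_of_mem_open (Set.mem_univ (Y.hom y)) isOpen_univ
  replace hUS : IsAffineOpen US := hUS
  obtain ⟨_, ⟨UY, hUY, rfl⟩, hyUY, hUYO⟩ :=
    Y.left.isBasis_affineOpens.exists_subset_of_mem_open
      (show y ∈ ((W ⊓ Y.hom ⁻¹ᵁ US : Y.left.Opens) : Set Y.left) from ⟨hyW, hsUS⟩)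
      (W ⊓ Y.hom ⁻¹ᵁ US).2
  replace hUY : IsAffineOpen UY := hUY
  have hUYW : UY ≤ W := fun x hx => (hUYO hx).1
  have e : UY ≤ Y.hom ⁻¹ᵁ US := fun x hx => (hUYO hx).2
  haveI := hW
  obtain ⟨hUX, hφfin⟩ := affine_finite_of_isFinite_morphismRestrict f.left W UY hUYW hUY
  -- the field point factors through `Spec Γ(S, US)`
  obtain ⟨z₀, hz₀⟩ := hy
  have hsub : ∀ z : Spec (CommRingCat.of K), z = z₀ := fun z =>
    Subsingleton.elim (α := PrimeSpectrum K) z z₀
  have hrange : Set.range k ⊆ Set.range hUS.fromSpec := by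
    rw [hUS.range_fromSpec]
    rintro _ ⟨z, rfl⟩
    rw [hsub z, hz₀]; exact hsUS
  obtain ⟨κ, hκ⟩ : ∃ κ : Γ(S, US) ⟶ CommRingCat.of K, Spec.map κ ≫ hUS.fromSpec = k :=
    ⟨Spec.preimage (IsOpenImmersion.lift hUS.fromSpec k hrange), by
      rw [Spec.map_preimage]; exact IsOpenImmersion.lift_fac _ _ _⟩
  have hsq := isIso_spec_square f k hk US hUS UY hUY hUX e κ hκ
  -- ring data
  letI algRB : Algebra Γ(S, US) Γ(Y.left, UY) := (Y.hom.appLE US UY e).hom.toAlgebra
  letI algBA : Algebra Γ(Y.left, UY) Γ(X.left, f.left ⁻¹ᵁ UY) := (f.left.app UY).hom.toAlgebra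
  letI algRA : Algebra Γ(S, US) Γ(X.left, f.left ⁻¹ᵁ UY) :=
    (Y.hom.appLE US UY e ≫ f.left.app UY).hom.toAlgebra
  letI algRK : Algebra Γ(S, US) K := κ.hom.toAlgebra
  haveI : IsScalarTower Γ(S, US) Γ(Y.left, UY) Γ(X.left, f.left ⁻¹ᵁ UY) :=
    IsScalarTower.of_algebraMap_eq' rfl
  haveI : IsNoetherianRing Γ(Y.left, UY) := IsLocallyNoetherian.component_noetherian ⟨UY, hUY⟩
  haveI : Module.Finite Γ(Y.left, UY) Γ(X.left, f.left ⁻¹ᵁ UY) := hφfin
  have e' : f.left ⁻¹ᵁ UY ≤ X.hom ⁻¹ᵁ US := by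
    rw [← hw]; exact fun x hx => e hx
  have hcomp : Y.hom.appLE US UY e ≫ f.left.app UY = X.hom.appLE US (f.left ⁻¹ᵁ UY) e' := by
    rw [Scheme.Hom.app_eq_appLE, Scheme.Hom.appLE_comp_appLE]
    exact appLE_congr hw _ _ _
  haveI : Module.Flat Γ(S, US) Γ(X.left, f.left ⁻¹ᵁ UY) := by
    have h1 : (X.hom.appLE US (f.left ⁻¹ᵁ UY) e').hom.Flat :=
      HasRingHomProperty.appLE (P := @Flat) X.hom inferInstance ⟨US, hUS⟩ ⟨_, hUX⟩ e'
    rw [← hcomp] at h1
    exact h1
  have hbij := spec_to_tensor (R := Γ(S, US)) (B := Γ(Y.left, UY))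
    (A := Γ(X.left, f.left ⁻¹ᵁ UY)) (K := K) hsq
  -- the point of `Spec Γ(Y, UY)` over `y`
  obtain ⟨qy, hqy⟩ : ∃ qy : Spec Γ(Y.left, UY), hUY.fromSpec qy = y := by
    have : y ∈ Set.range hUY.fromSpec := by rw [hUY.range_fromSpec]; exact hyUY
    exact this
  have hpt : (Spec.map (Y.hom.appLE US UY e)) qy = (Spec.map κ) z₀ := by
    apply hUS.fromSpec.isOpenEmbedding.injective
    rw [← Scheme.Hom.comp_apply, ← Scheme.Hom.comp_apply, hκ, hz₀,
      IsAffineOpen.SpecMap_appLE_fromSpec Y.hom hUS hUY e, Scheme.Hom.comp_apply, hqy]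
  have hq : (PrimeSpectrum.asIdeal qy).comap (algebraMap Γ(S, US) Γ(Y.left, UY)) =
      RingHom.ker (algebraMap Γ(S, US) K) := by
    have h1 := congrArg PrimeSpectrum.asIdeal hpt
    have h2 : PrimeSpectrum.asIdeal z₀ = ⊥ :=
      @Ideal.eq_bot_of_prime K _ (PrimeSpectrum.asIdeal z₀) (PrimeSpectrum.isPrime z₀)
    calc (PrimeSpectrum.asIdeal qy).comap (algebraMap Γ(S, US) Γ(Y.left, UY))
        = PrimeSpectrum.asIdeal ((Spec.map (Y.hom.appLE US UY e)) qy) := rfl
      _ = PrimeSpectrum.asIdeal ((Spec.map κ) z₀) := h1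
      _ = (PrimeSpectrum.asIdeal z₀).comap κ.hom := rfl
      _ = RingHom.ker (algebraMap Γ(S, US) K) := by rw [h2]; rfl
  haveI : (PrimeSpectrum.asIdeal qy).IsPrime := PrimeSpectrum.isPrime qy
  obtain ⟨b, hbq, hb⟩ := ring_key (R := Γ(S, US)) (B := Γ(Y.left, UY))
    (A := Γ(X.left, f.left ⁻¹ᵁ UY)) (K := K) (PrimeSpectrum.asIdeal qy) hq hbij
  refine ⟨Y.left.basicOpen b, ?_, ?_⟩
  · have h1 : qy ∈ hUY.fromSpec ⁻¹ᵁ Y.left.basicOpen b := by
      rw [hUY.fromSpec_preimage_basicOpen]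
      exact hbq
    have h2 : hUY.fromSpec qy ∈ Y.left.basicOpen b := h1
    rwa [hqy] at h2
  · have epre : X.left.basicOpen (f.left.app UY b) = f.left ⁻¹ᵁ Y.left.basicOpen b :=
      (Scheme.preimage_basicOpen f.left b).symm
    refine isIso_morphismRestrict_of_bijective_appLE f.left (Y.left.basicOpen b)
      (X.left.basicOpen (f.left.app UY b)) epre (hUY.basicOpen b) (hUX.basicOpen _) ?_
    haveI := hUY.isLocalization_basicOpen b
    haveI : IsLocalization.Away (algebraMap Γ(Y.left, UY) Γ(X.left, f.left ⁻¹ᵁ UY) b)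
        Γ(X.left, X.left.basicOpen (f.left.app UY b)) :=
      hUX.isLocalization_basicOpen (f.left.app UY b)
    refine hb Γ(Y.left, Y.left.basicOpen b) Γ(X.left, X.left.basicOpen (f.left.app UY b))
      (f.left.appLE (Y.left.basicOpen b) (X.left.basicOpen (f.left.app UY b)) epre.le).hom ?_
    exact congrArg CommRingCat.Hom.hom
      (compat_aux f.left UY (Y.left.basicOpen b) (X.left.basicOpen (f.left.app UY b))
        (Y.left.basicOpen_le b) (X.left.basicOpen_le _) epre.le)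

/-- Let S be a locally Noetherian scheme, X and Y schemes proper over S with X flat over S, and f : X →
Y an S-morphism. Then there is an open subset S₀ of S such that, for every locally Noetherian scheme
S' and every morphism h : S' → S, the image of h lies in S₀ if and only if the base change X ×_S S'
→ Y ×_S S' of f is an isomorphism. (The published statement also supposes that some fibre of f is an
isomorphism; that hypothesis only serves to make S₀ nonempty and is not needed.) -/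
theorem result
    {S : Scheme.{u}} [IsLocallyNoetherian S] (X Y : Over S) [IsProper X.hom] [IsProper Y.hom]
    [Flat X.hom] (f : X ⟶ Y) :
    ∃ S₀ : S.Opens, ∀ (S' : Scheme.{u}) [IsLocallyNoetherian S'] (h : S' ⟶ S),
      Set.range h ⊆ (S₀ : Set S) ↔ IsIso ((Over.pullback h).map f).left := by
  classical
  let W : Y.left.Opens := ⨆ (U : {U : Y.left.Opens // IsIso (f.left ∣_ U)}), U.1
  have hW : IsIso (f.left ∣_ W) := isIso_morphismRestrict_of_forall_exists f.left W (by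
    intro y hy
    obtain ⟨U, hyU⟩ := TopologicalSpace.Opens.mem_iSup.mp hy
    exact ⟨U.1, hyU, U.2⟩)
  have hclosed : IsClosed (Y.hom '' ((W : Set Y.left)ᶜ)) :=
    Y.hom.isClosedMap _ W.isOpen.isClosed_compl
  refine ⟨⟨(Y.hom '' ((W : Set Y.left)ᶜ))ᶜ, hclosed.isOpen_compl⟩,
    fun S' _ h => ⟨fun hrange => ?_, fun hiso => ?_⟩⟩
  · have hpb := isPullback_map_left f h
    have hr : Set.range (pullback.fst Y.hom h) ⊆ (W : Set Y.left) := by
      rintro _ ⟨z, rfl⟩
      by_contra hz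
      have h2 : Y.hom (pullback.fst Y.hom h z) = h (pullback.snd Y.hom h z) := by
        rw [← Scheme.Hom.comp_apply, ← Scheme.Hom.comp_apply, pullback.condition]
      have h3 : h (pullback.snd Y.hom h z) ∈ (Y.hom '' ((W : Set Y.left)ᶜ))ᶜ :=
        hrange ⟨_, rfl⟩
      exact h3 ⟨_, hz, h2⟩
    haveI := hW
    haveI := isIso_pullback_snd_of_range_subset f.left W (pullback.fst Y.hom h) hr
    have hcomp : hpb.flip.isoPullback.hom ≫ pullback.snd f.left (pullback.fst Y.hom h) =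
        ((Over.pullback h).map f).left := hpb.flip.isoPullback_hom_snd
    rw [← hcomp]; infer_instance
  · rintro _ ⟨s', rfl⟩
    show h s' ∉ Y.hom '' ((W : Set Y.left)ᶜ)
    rintro ⟨y, hyW, hys⟩
    apply hyW
    have hk : IsIso ((Over.pullback (S'.fromSpecResidueField s' ≫ h)).map f).left :=
      isIso_pullback_map_comp f h _ hiso
    obtain ⟨z, hz⟩ : ∃ z, S'.fromSpecResidueField s' z = s' := by
      have : s' ∈ Set.range (S'.fromSpecResidueField s') := by
        rw [Scheme.range_fromSpecResidueField]; rfl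
      exact this
    have hyk : Y.hom y ∈ Set.range (S'.fromSpecResidueField s' ≫ h) :=
      ⟨z, by rw [Scheme.Hom.comp_apply, hz, hys]⟩
    obtain ⟨U, hyU, hU⟩ := key X Y f (S'.residueField s')
      (S'.fromSpecResidueField s' ≫ h) hk y hyk
    exact TopologicalSpace.Opens.mem_iSup.mpr ⟨⟨U, hU⟩, hyU⟩

end Groth.Agent.S17076
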