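import Groth.Statements.S17077
import Mathlib

set_option autoImplicit false
universe u
open RatCurve

namespace Groth.Agent.S17077

open MvPolynomial

lemma two_cases : ∀ i j : Fin 2, i ≠ j → (i = 0 ∧ j = 1) ∨ (i = 1 ∧ j = 0) := by decide

@[to_additive]
lemma prod_two {M : Type*} [CommMonoid M] {i j : Fin 2} (hij : i ≠ j) (f : Fin 2 → M) :
    ∏ x, f x = f i * f j := by
  rw [Fin.prod_univ_two]
  rcases two_cases i j hij with ⟨rfl, rfl⟩ | ⟨rfl, rfl⟩
  · rfl
  · exact mul_comm _ _

variable {k : Type u} [Field k]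

lemma key (a : Fin 2 → k) {i j : Fin 2} (hij : i ≠ j) (s : Fin 2 →₀ ℕ) :
    (C (a j) * X i - C (a i) * X j : MvPolynomial (Fin 2) k) ∣
      C (a j ^ (s i + s j)) * monomial s 1 - C (a j ^ s j * a i ^ s i) * X j ^ (s i + s j) := by
  have hm : (monomial s (1:k) : MvPolynomial (Fin 2) k) = X i ^ s i * X j ^ s j := by
    rw [monomial_eq, C_1, one_mul, Finsupp.prod_fintype _ _ (fun _ => pow_zero _)]
    exact prod_two hij _
  have : C (a j ^ (s i + s j)) * monomial s 1 - C (a j ^ s j * a i ^ s i) * X j ^ (s i + s j)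
      = (C (a j ^ s j) * X j ^ s j) * ((C (a j) * X i) ^ s i - (C (a i) * X j) ^ s i) := by
    rw [hm]
    simp only [map_pow, map_mul, pow_add, mul_pow]
    ring
  rw [this]
  exact Dvd.dvd.mul_left (sub_dvd_pow_sub_pow _ _ _) _

lemma dvd_of_eval_eq_zero {F : MvPolynomial (Fin 2) k} {d : ℕ} (hF : F.IsHomogeneous d)
    (a : Fin 2 → k) {i j : Fin 2} (hij : i ≠ j) (haj : a j ≠ 0) (h0 : eval a F = 0) :
    (C (a j) * X i - C (a i) * X j : MvPolynomial (Fin 2) k) ∣ F := by
  have h1 : (C (a j) * X i - C (a i) * X j : MvPolynomial (Fin 2) k) ∣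
      ∑ s ∈ F.support, C (coeff s F) * (C (a j ^ (s i + s j)) * monomial s 1
        - C (a j ^ s j * a i ^ s i) * X j ^ (s i + s j)) :=
    Finset.dvd_sum fun s _ => Dvd.dvd.mul_left (key a hij s) _
  have h2 : ∑ s ∈ F.support, C (coeff s F) * (C (a j ^ (s i + s j)) * monomial s 1
        - C (a j ^ s j * a i ^ s i) * X j ^ (s i + s j))
        = C (a j ^ d) * F - C (eval a F) * X j ^ d := by
    have hdeg : ∀ s ∈ F.support, s i + s j = d := by
      intro s hs
      have := hF (mem_support_iff.mp hs)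
      rw [← this, Finsupp.weight_apply, Finsupp.sum_fintype, sum_two hij]
      · simp
      · intro x
        simp
    have hFsum : C (a j ^ d) * F = ∑ s ∈ F.support, C (a j ^ d) * monomial s (coeff s F) := by
      rw [← Finset.mul_sum, support_sum_monomial_coeff]
    rw [hFsum, eval_eq', map_sum, Finset.sum_mul, ← Finset.sum_sub_distrib]
    refine Finset.sum_congr rfl fun s hs => ?_
    rw [hdeg s hs, prod_two hij (fun x => a x ^ s x)]
    rw [show (monomial s (coeff s F) : MvPolynomial (Fin 2) k) = C (coeff s F) * monomial s 1 by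
      rw [C_mul_monomial, mul_one]]
    simp only [map_mul, map_pow]
    ring
  rw [h2, h0, map_zero, zero_mul, sub_zero] at h1
  have hu : IsUnit (C (a j ^ d) : MvPolynomial (Fin 2) k) :=
    (isUnit_iff_ne_zero.mpr (pow_ne_zero _ haj)).map C
  exact hu.dvd_mul_left.mp h1

lemma exists_ne_zero_root [IsAlgClosed k] (H : MvPolynomial (Fin 2) k) (hH : ¬ IsUnit H) :
    ∃ a : Fin 2 → k, a ≠ 0 ∧ eval a H = 0 := by
  by_contra hcon
  push Not at hcon
  have hmem : ∀ i : Fin 2, (X i : MvPolynomial (Fin 2) k) ∈ (Ideal.span {H}).radical := by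
    intro i
    rw [← vanishingIdeal_zeroLocus_eq_radical (K := k), mem_vanishingIdeal_iff]
    intro x hx
    have hx0 : x = 0 := by
      by_contra hne
      refine hcon x hne ?_
      have := hx H (Ideal.subset_span rfl)
      simpa using this
    rw [hx0]
    simp
  obtain ⟨N, hN⟩ := hmem 1
  rw [Ideal.mem_span_singleton] at hN
  obtain ⟨M, hM⟩ := hmem 0
  rw [Ideal.mem_span_singleton] at hM
  obtain ⟨m, hm, hassoc⟩ := (dvd_prime_pow (X_prime (i := (0 : Fin 2))) M).mp hM
  rcases Nat.eq_zero_or_pos m with rfl | hmpos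
  · rw [pow_zero] at hassoc
    exact hH (associated_one_iff_isUnit.mp hassoc)
  · have h0 : (X 0 : MvPolynomial (Fin 2) k) ∣ X 1 ^ N :=
      ((dvd_pow_self _ hmpos.ne').trans hassoc.symm.dvd).trans hN
    obtain ⟨G, hG⟩ := h0
    have := congrArg (eval ![0, 1]) hG
    simp at this

/-- Let k be an algebraically closed field and F_0, …, F_{n-1} homogeneous polynomials in k[u, v] (of
possibly different degrees). Then the F_i have a common factor which is not a unit if and only if
they have a common zero (a, b) ≠ (0, 0) in k², that is, a common zero in the projective line. -/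
theorem result
    {k : Type u} [Field k] [IsAlgClosed k] {n : ℕ} (F : Fin n → MvPolynomial (Fin 2) k)
    (d : Fin n → ℕ) (hF : ∀ i, (F i).IsHomogeneous (d i)) :
    (∃ H : MvPolynomial (Fin 2) k, ¬ IsUnit H ∧ ∀ i, H ∣ F i) ↔
      ∃ a : Fin 2 → k, a ≠ 0 ∧ ∀ i, MvPolynomial.eval a (F i) = 0 := by
  constructor
  · rintro ⟨H, hH, hdiv⟩
    obtain ⟨a, ha, h0⟩ := exists_ne_zero_root H hH
    refine ⟨a, ha, fun i => ?_⟩
    obtain ⟨G, hG⟩ := hdiv i
    rw [hG, map_mul, h0, zero_mul]
  · rintro ⟨a, ha, h0⟩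
    refine ⟨C (a 1) * X 0 - C (a 0) * X 1, ?_, fun i => ?_⟩
    · intro hu
      obtain ⟨G, hG⟩ := hu.exists_right_inv
      have h := congrArg (eval a) hG
      rw [map_mul, map_sub, map_mul, map_mul, eval_C, eval_C, eval_X, eval_X, map_one,
        mul_comm (a 1) (a 0), sub_self, zero_mul] at h
      exact zero_ne_one h
    · by_cases h1 : a 1 = 0
      · have h00 : a 0 ≠ 0 := by
          intro h00
          apply ha
          funext x
          fin_cases x
          · exact h00
          · exact h1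
        have := dvd_of_eval_eq_zero (hF i) a (i := 1) (j := 0) (by decide) h00 (h0 i)
        rw [← neg_sub] at this
        exact neg_dvd.mp this
      · exact dvd_of_eval_eq_zero (hF i) a (i := 0) (j := 1) (by decide) h1 (h0 i)

end Groth.Agent.S17077
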