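import Groth.Statements.S17078
import Mathlib

set_option autoImplicit false
universe u
open RatCurve

namespace Groth.Agent.S17078


open MvPolynomial in
theorem fin2_cases {i j : Fin 2} (hij : i ≠ j) (l : Fin 2) : l = i ∨ l = j := by
  simp only [Fin.ext_iff, ne_eq] at hij ⊢
  omega

open MvPolynomial in
theorem fin2_univ {i j : Fin 2} (hij : i ≠ j) : (Finset.univ : Finset (Fin 2)) = {i, j} := by
  ext l
  simp only [Finset.mem_univ, Finset.mem_insert, Finset.mem_singleton, true_iff]
  exact fin2_cases hij l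

open MvPolynomial in
theorem deg_of_mem_support {k : Type*} [Field k] {F : MvPolynomial (Fin 2) k} {d : ℕ}
    (hF : F.IsHomogeneous d) {s : Fin 2 →₀ ℕ} (hs : s ∈ F.support) : ∑ i, s i = d := by
  have h : s.degree = d := by
    by_contra h
    exact (mem_support_iff.mp hs) (hF.coeff_eq_zero h)
  rwa [Finsupp.degree_eq_sum] at h

open MvPolynomial in
theorem eval_smul_of_homog {k : Type*} [Field k] {F : MvPolynomial (Fin 2) k} {d : ℕ}
    (hF : F.IsHomogeneous d) (c : k) (x : Fin 2 → k) :
    eval (c • x) F = c ^ d * eval x F := by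
  rw [eval_eq', eval_eq', Finset.mul_sum]
  refine Finset.sum_congr rfl fun s hs => ?_
  have hdeg := deg_of_mem_support hF hs
  simp only [Pi.smul_apply, smul_eq_mul, mul_pow, Finset.prod_mul_distrib,
    Finset.prod_pow_eq_pow_sum, hdeg]
  ring

open MvPolynomial in
theorem lin_dvd {k : Type*} [Field k] {F : MvPolynomial (Fin 2) k} {d : ℕ}
    (hF : F.IsHomogeneous d) (i j : Fin 2) (hij : i ≠ j) (γ : k)
    (h0 : eval (Function.update (fun _ => (1:k)) i γ) F = 0) :
    (X i - C γ * X j) ∣ F := by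
  have huniv := fin2_univ hij
  obtain ⟨L, hL⟩ : ∃ L : MvPolynomial (Fin 2) k, L = X i - C γ * X j := ⟨_, rfl⟩
  obtain ⟨φ, hφ⟩ : ∃ φ : MvPolynomial (Fin 2) k →ₐ[k] MvPolynomial (Fin 2) k,
      φ = aeval (Function.update X i (C γ * X j)) := ⟨_, rfl⟩
  have hφi : φ (X i) = C γ * X j := by rw [hφ, aeval_X, Function.update_self]
  have hφj : φ (X j) = X j := by rw [hφ, aeval_X, Function.update_of_ne hij.symm]
  have h1 : ∀ P, Ideal.Quotient.mk (Ideal.span {L}) (φ P) =
      Ideal.Quotient.mk (Ideal.span {L}) P := by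
    have hcomp : (Ideal.Quotient.mkₐ k (Ideal.span {L})).comp φ =
        Ideal.Quotient.mkₐ k (Ideal.span {L}) := by
      apply MvPolynomial.algHom_ext
      intro l
      rcases fin2_cases hij l with rfl | rfl
      · simp only [AlgHom.comp_apply, hφi, Ideal.Quotient.mkₐ_eq_mk]
        rw [Ideal.Quotient.eq, Ideal.mem_span_singleton']
        exact ⟨-1, by rw [hL]; ring⟩
      · simp only [AlgHom.comp_apply, hφj]
    intro P
    exact congrArg (fun f => f P) hcomp
  have h2 : φ F = C (eval (Function.update (fun _ => (1:k)) i γ) F) * X j ^ d := by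
    rw [hφ, aeval_def, eval₂_eq', eval_eq', map_sum, Finset.sum_mul]
    refine Finset.sum_congr rfl fun s hs => ?_
    have hdeg : s i + s j = d := by
      have := deg_of_mem_support hF hs
      rwa [huniv, Finset.sum_pair hij] at this
    rw [huniv, Finset.prod_pair hij, Finset.prod_pair hij, Function.update_self,
      Function.update_of_ne hij.symm, Function.update_self, Function.update_of_ne hij.symm,
      one_pow, mul_one, map_mul, map_pow, mul_pow, ← hdeg, pow_add, algebraMap_eq]
    ring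
  rw [h0, map_zero, zero_mul] at h2
  have h3 := h1 F
  rw [h2, map_zero] at h3
  have h4 := h3.symm
  rw [Ideal.Quotient.eq_zero_iff_mem, Ideal.mem_span_singleton] at h4
  rwa [hL] at h4

attribute [local instance] MvPolynomial.gradedAlgebra in
open MvPolynomial in
theorem hc_mul {k : Type*} [Field k] {F : MvPolynomial (Fin 2) k} {d m : ℕ}
    (hF : F.IsHomogeneous d) (hdm : d ≤ m) (G : MvPolynomial (Fin 2) k) :
    homogeneousComponent m (F * G) = F * homogeneousComponent (m - d) G := by
  have := DirectSum.coe_decompose_mul_of_left_mem_of_le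
    (𝒜 := homogeneousSubmodule (Fin 2) k) (b := G) ((mem_homogeneousSubmodule d F).mpr hF) hdm
  rw [← decomposition.decompose'_apply, ← decomposition.decompose'_apply]
  exact this

open MvPolynomial in
theorem forward {k : Type*} [Field k] [IsAlgClosed k] {n : ℕ}
    (F : Fin n → MvPolynomial (Fin 2) k)
    (d : ℕ) (hF : ∀ i, (F i).IsHomogeneous d)
    (h : ¬ ∃ H : MvPolynomial (Fin 2) k, ¬ IsUnit H ∧ ∀ i, H ∣ F i) :
    ∃ m : ℕ, d ≤ m ∧ ∀ P : MvPolynomial (Fin 2) k, P.IsHomogeneous m →
        ∃ G : Fin n → MvPolynomial (Fin 2) k, (∀ i, (G i).IsHomogeneous (m - d)) ∧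
          P = ∑ i, F i * G i := by
  have hz : ∀ x : Fin 2 → k, (∀ i, eval x (F i) = 0) → x = 0 := by
    intro x hx
    by_contra hne
    obtain ⟨j, hj⟩ : ∃ j, x j ≠ 0 := by
      by_contra hall
      push Not at hall
      exact hne (funext hall)
    obtain ⟨i, hij⟩ : ∃ i : Fin 2, i ≠ j := ⟨j + 1, by fin_cases j <;> decide⟩
    apply h
    refine ⟨X i - C (x i / x j) * X j, ?_, fun l => ?_⟩
    · intro hu
      have h0 := hu.map (eval (0 : Fin 2 → k))
      simp at h0
    · apply lin_dvd (hF l) i j hij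
      have hy : Function.update (fun _ => (1:k)) i (x i / x j) = (x j)⁻¹ • x := by
        funext l'
        rcases fin2_cases hij l' with rfl | rfl
        · rw [Function.update_self, Pi.smul_apply, smul_eq_mul, div_eq_inv_mul]
        · rw [Function.update_of_ne hij.symm, Pi.smul_apply, smul_eq_mul, inv_mul_cancel₀ hj]
      rw [hy, eval_smul_of_homog (hF l), hx l, mul_zero]
  obtain ⟨I, hI⟩ : ∃ I : Ideal (MvPolynomial (Fin 2) k), I = Ideal.span (Set.range F) :=
    ⟨_, rfl⟩
  have hrad : ∀ l : Fin 2, X l ∈ I.radical := by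
    intro l
    rw [← vanishingIdeal_zeroLocus_eq_radical (K := k) I, mem_vanishingIdeal_iff]
    intro x hx
    rw [mem_zeroLocus_iff] at hx
    have hx0 : x = 0 := hz x fun i => hx (F i) (by rw [hI]; exact Ideal.subset_span ⟨i, rfl⟩)
    rw [hx0, aeval_X]
    rfl
  obtain ⟨N0, hN0⟩ := Ideal.mem_radical_iff.mp (hrad 0)
  obtain ⟨N1, hN1⟩ := Ideal.mem_radical_iff.mp (hrad 1)
  have hmono : ∀ (s : Fin 2 →₀ ℕ) (c : k), N0 + N1 ≤ s 0 + s 1 → monomial s c ∈ I := by
    intro s c hs
    have hcase : N0 ≤ s 0 ∨ N1 ≤ s 1 := by omega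
    rcases hcase with h0 | h1
    · refine Ideal.mem_of_dvd I ?_ hN0
      rw [X_pow_eq_monomial, monomial_dvd_monomial]
      exact ⟨Or.inr (Finsupp.single_le_iff.mpr h0), one_dvd _⟩
    · refine Ideal.mem_of_dvd I ?_ hN1
      rw [X_pow_eq_monomial, monomial_dvd_monomial]
      exact ⟨Or.inr (Finsupp.single_le_iff.mpr h1), one_dvd _⟩
  refine ⟨max d (N0 + N1), le_max_left _ _, fun P hP => ?_⟩
  have hPI : P ∈ I := by
    rw [← support_sum_monomial_coeff P]
    refine Ideal.sum_mem I fun s hs => hmono s _ ?_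
    have := deg_of_mem_support hP hs
    rw [Fin.sum_univ_two] at this
    rw [this]
    exact le_max_right _ _
  rw [hI, Ideal.span, Submodule.mem_span_range_iff_exists_fun] at hPI
  obtain ⟨c, hc⟩ := hPI
  refine ⟨fun i => homogeneousComponent (max d (N0 + N1) - d) (c i),
    fun i => homogeneousComponent_isHomogeneous _ _, ?_⟩
  have hP1 : homogeneousComponent (max d (N0 + N1)) P = P := homogeneousComponent_eq_self hP
  rw [← hP1, ← hc, map_sum]
  refine Finset.sum_congr rfl fun i _ => ?_
  rw [smul_eq_mul, mul_comm, hc_mul (hF i) (le_max_left _ _)]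

open MvPolynomial in
theorem backward {k : Type*} [Field k] {n : ℕ} (F : Fin n → MvPolynomial (Fin 2) k)
    (d : ℕ)
    (h : ∃ m : ℕ, d ≤ m ∧ ∀ P : MvPolynomial (Fin 2) k, P.IsHomogeneous m →
        ∃ G : Fin n → MvPolynomial (Fin 2) k, (∀ i, (G i).IsHomogeneous (m - d)) ∧
          P = ∑ i, F i * G i) :
    ¬ ∃ H : MvPolynomial (Fin 2) k, ¬ IsUnit H ∧ ∀ i, H ∣ F i := by
  rintro ⟨H, hHu, hHF⟩
  obtain ⟨m, -, hm⟩ := h
  have hdvd : ∀ P : MvPolynomial (Fin 2) k, P.IsHomogeneous m → H ∣ P := by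
    intro P hP
    obtain ⟨G, -, rfl⟩ := hm P hP
    exact Finset.dvd_sum fun i _ => Dvd.dvd.mul_right (hHF i) _
  have h0 : H ∣ monomial (Finsupp.single 0 m) (1:k) := by
    rw [← X_pow_eq_monomial]; exact hdvd _ (isHomogeneous_X_pow 0 m)
  have h1 : H ∣ monomial (Finsupp.single 1 m) (1:k) := by
    rw [← X_pow_eq_monomial]; exact hdvd _ (isHomogeneous_X_pow 1 m)
  obtain ⟨a, u, ha, hu, hHa⟩ := dvd_monomial_one_iff_exists.mp h0
  obtain ⟨b, v, hb, hv, hHb⟩ := dvd_monomial_one_iff_exists.mp h1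
  have hab : a = b := by
    have hmm := hHa.symm.trans hHb
    rw [monomial_eq_monomial_iff] at hmm
    rcases hmm with ⟨h, _⟩ | ⟨h, _⟩
    · exact h
    · exact absurd h hu.ne_zero
  have ha0 : a = 0 := by
    ext l
    rcases fin2_cases (i := 0) (j := 1) (by decide) l with rfl | rfl
    · have h2 := hb 0
      rw [← hab] at h2
      simpa using h2
    · have h2 := ha 1
      simpa using h2
  apply hHu
  rw [hHa, ha0]
  exact hu.map C

/-- Let k be an algebraically closed field and F_0, …, F_{n-1} homogeneous polynomials of degree d in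
k[u, v]. Then the F_i have no common factor other than units if and only if there is an integer m ≥
d such that every homogeneous polynomial of degree m can be written Σ_i F_i G_i with each G_i
homogeneous of degree m − d, i.e. the k-linear map (G_i)_i ↦ Σ_i F_i G_i from n copies of k[u,
v]_{m−d} to k[u, v]_m is surjective. -/
theorem result
    {k : Type u} [Field k] [IsAlgClosed k] {n : ℕ} (F : Fin n → MvPolynomial (Fin 2) k)
    (d : ℕ) (hF : ∀ i, (F i).IsHomogeneous d) :
    (¬ ∃ H : MvPolynomial (Fin 2) k, ¬ IsUnit H ∧ ∀ i, H ∣ F i) ↔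
      ∃ m : ℕ, d ≤ m ∧ ∀ P : MvPolynomial (Fin 2) k, P.IsHomogeneous m →
        ∃ G : Fin n → MvPolynomial (Fin 2) k, (∀ i, (G i).IsHomogeneous (m - d)) ∧
          P = ∑ i, F i * G i := by
  exact ⟨forward F d hF, backward F d⟩

end Groth.Agent.S17078
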