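import Groth.Statements.S17079
import Mathlib

set_option autoImplicit false
universe u
open CategoryTheory CategoryTheory.Limits AlgebraicGeometry
open MorSch

namespace Groth.Agent.S17079

section helpers

variable {X S S' : Scheme.{u}}

attribute [local simp] pullback.lift_fst pullback.lift_snd pullback.lift_fst_assoc
  pullback.lift_snd_assoc

/-- `T' ×_{S'} (X ×_S S') ≅ T' ×_S X`. -/
noncomputable def thetaIso (gX : X ⟶ S) (h : S' ⟶ S) (T' : Over S') :
    pullback T'.hom (pullback.snd gX h) ≅ pullback (T'.hom ≫ h) gX where
  hom := pullback.lift (pullback.fst _ _) (pullback.snd _ _ ≫ pullback.fst gX h)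
    (by rw [pullback.condition_assoc, Category.assoc, pullback.condition])
  inv := pullback.lift (pullback.fst _ _)
    (pullback.lift (pullback.snd _ _) (pullback.fst _ _ ≫ T'.hom)
      (by rw [Category.assoc, pullback.condition]))
    (by rw [pullback.lift_snd])
  hom_inv_id := by
    apply pullback.hom_ext
    · simp
    · apply pullback.hom_ext
      · simp
      · simp [pullback.condition]
  inv_hom_id := by
    apply pullback.hom_ext <;> simp

/-- Beck–Chevalley-type isomorphism. -/
noncomputable def theta (gX : X ⟶ S) (h : S' ⟶ S) :
    (Over.pullback (pullback.snd gX h) ⋙ Over.map (pullback.snd gX h)) ⋙ Over.map h ≅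
      Over.map h ⋙ (Over.pullback gX ⋙ Over.map gX) :=
  NatIso.ofComponents (fun T' => Over.isoMk (thetaIso gX h T') (by
    simp [thetaIso, pullback.condition])) (by
    intro T₁ T₂ φ
    ext
    dsimp
    apply pullback.hom_ext <;> simp [thetaIso])

end helpers

/-- Let gX : X → S and gY : Y → S be morphisms and suppose the functor Mor_S(X, Y) — sending an S-scheme
T to the set of S-morphisms T ×_S X → Y, with base change as transition maps — is represented by an
S-scheme M. Then for every morphism h : S' → S the functor Mor_{S'}(X ×_S S', Y ×_S S') on
S'-schemes is represented by M ×_S S'. (The published statement assumes X and Y projective over S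
with X flat and S, S' locally Noetherian; this row assumes only that the functor is represented by
M. Only the existence of a representing structure on M ×_S S' is asserted, not its compatibility
with the one on M.) -/
theorem result
    {X Y S S' : Scheme.{u}} (gX : X ⟶ S) (gY : Y ⟶ S) (h : S' ⟶ S)
    (M : Over S) (e : (Flatn.morS gX gY).RepresentableBy M) :
    Nonempty ((Flatn.morS (pullback.snd gX h) (pullback.snd gY h)).RepresentableBy
      (Over.mk (pullback.snd M.hom h))) := by
  have iso₂ : (Over.map h).op ⋙ Flatn.morS gX gY ≅
      Flatn.morS (pullback.snd gX h) (pullback.snd gY h) :=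
    Functor.isoWhiskerRight (NatIso.op (theta gX h)) (yoneda.obj (Over.mk gY)) ≪≫
      Functor.isoWhiskerLeft (Over.pullback (pullback.snd gX h) ⋙ Over.map (pullback.snd gX h)).op
        (((Over.mapPullbackAdj h).compYonedaIso.app (Over.mk gY)).symm)
  have iso : yoneda.obj ((Over.pullback h).obj M) ≅
      Flatn.morS (pullback.snd gX h) (pullback.snd gY h) :=
    ((Over.mapPullbackAdj h).compYonedaIso.app M) ≪≫
      Functor.isoWhiskerLeft (Over.map h).op e.toIso ≪≫ iso₂
  exact ⟨Functor.representableByEquiv.symm iso⟩

end Groth.Agent.S17079
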