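import Groth.Statements.S17080
import Groth.Agent.H73.WeilLoc7

set_option autoImplicit false
universe u
open CategoryTheory CategoryTheory.Limits AlgebraicGeometry
open MorSch

namespace Groth.Agent.S17080

/-- Let gX : X → S be proper and flat, gY : Y → S separated and j : U → Y an open immersion, and suppose
the functor Mor_S(X, Y) — S-schemes T ↦ S-morphisms T ×_S X → Y — is represented by an S-scheme M
via e. Then there are an open subset M₀ of M and a representation e₀ of Mor_S(X, U) by the open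
subscheme M₀ (viewed over S through M) which is compatible with e: for every S-morphism φ : T → M₀,
the S-morphism T ×_S X → Y classified by φ followed by the inclusion M₀ → M is the S-morphism T ×_S
X → U classified by φ, followed by j. In particular the morphism Mor_S(X, U) → Mor_S(X, Y) induced
by j is an open immersion. (Published for X projective and flat and Y quasi-projective over a
locally Noetherian S, which is how M is known to exist there; representability is taken as a
hypothesis here.) -/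
theorem result
    {X Y U S : Scheme.{u}} (gX : X ⟶ S) [IsProper gX] [Flat gX] (gY : Y ⟶ S) [IsSeparated gY]
    (j : U ⟶ Y) [IsOpenImmersion j] (M : Over S) (e : (Flatn.morS gX gY).RepresentableBy M) :
    ∃ (M₀ : M.left.Opens)
      (e₀ : (Flatn.morS gX (j ≫ gY)).RepresentableBy (Over.mk (M₀.ι ≫ M.hom))),
      ∀ (T : Over S) (φ : T ⟶ Over.mk (M₀.ι ≫ M.hom)),
        (e.homEquiv (φ ≫ Over.homMk M₀.ι rfl) :
            (Over.map gX).obj ((Over.pullback gX).obj T) ⟶ Over.mk gY) =
          (e₀.homEquiv φ : (Over.map gX).obj ((Over.pullback gX).obj T) ⟶ Over.mk (j ≫ gY)) ≫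
            (Over.homMk j rfl : Over.mk (j ≫ gY) ⟶ Over.mk gY) := by
  classical
  let ξ : (Flatn.morS gX gY).obj (Opposite.op (Over.mk M.hom)) := e.homEquiv (𝟙 M)
  have he : ∀ {T : Over S} (ψ : T ⟶ M), e.homEquiv ψ =
      Groth.Agent.H73.SigF.res (Flatn.morS gX gY) ψ.left (Over.w ψ) ξ := by
    intro T ψ
    rw [e.homEquiv_eq]
    rfl
  let M₀ : M.left.Opens := Groth.Agent.H73.WeilLoc.locOpen M.hom ξ ⊤ j.opensRange
  let ι₀ : Over.mk (M₀.ι ≫ M.hom) ⟶ M := Over.homMk M₀.ι rfl
  let jj : Over.mk (j ≫ gY) ⟶ Over.mk gY := Over.homMk j rfl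
  haveI : Mono jj := by
    haveI : Mono jj.left := inferInstanceAs (Mono j)
    exact Over.mono_of_mono_left jj
  haveI : Mono ι₀ := by
    haveI : Mono ι₀.left := inferInstanceAs (Mono M₀.ι)
    exact Over.mono_of_mono_left ι₀
  have K1 : ∀ (T : Over S) (φ : T ⟶ Over.mk (M₀.ι ≫ M.hom))
      (y : ↑(Limits.pullback T.hom gX)),
      (Groth.Agent.H73.WeilLoc.lft gX gY (e.homEquiv (φ ≫ ι₀))) y ∈ j.opensRange := by
    intro T φ y
    rw [he]
    exact Groth.Agent.H73.WeilLoc.lands_of_mem_locOpen M.hom ξ ⊤ j.opensRange (φ ≫ ι₀).left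
      (Over.w (φ ≫ ι₀)) (fun x => (φ.left x).2) y
  have hΦ : ∀ (T : Over S) (φ : T ⟶ Over.mk (M₀.ι ≫ M.hom)),
      ∃ c : (Flatn.morS gX (j ≫ gY)).obj (Opposite.op T),
        (c : (Over.map gX).obj ((Over.pullback gX).obj T) ⟶ Over.mk (j ≫ gY)) ≫ jj =
          (e.homEquiv (φ ≫ ι₀) : (Over.map gX).obj ((Over.pullback gX).obj T) ⟶ Over.mk gY) := by
    intro T φ
    have hr : Set.range (Groth.Agent.H73.WeilLoc.lft gX gY (e.homEquiv (φ ≫ ι₀))) ⊆
        Set.range j := by
      rintro _ ⟨y, rfl⟩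
      exact K1 T φ y
    let l : Limits.pullback T.hom gX ⟶ U :=
      IsOpenImmersion.lift j (Groth.Agent.H73.WeilLoc.lft gX gY (e.homEquiv (φ ≫ ι₀))) hr
    have hl : l ≫ j = Groth.Agent.H73.WeilLoc.lft gX gY (e.homEquiv (φ ≫ ι₀)) :=
      IsOpenImmersion.lift_fac _ _ _
    refine ⟨Groth.Agent.H73.WeilLoc.mkS gX (j ≫ gY) T.hom l (by
      rw [← Category.assoc, hl]
      exact Groth.Agent.H73.WeilLoc.lft_w gX gY _), ?_⟩
    apply Over.OverMorphism.ext
    exact hl
  choose Φ hΦ' using hΦ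
  have hnat : ∀ {T T' : Over S} (a : T' ⟶ T) (c : (Flatn.morS gX (j ≫ gY)).obj (Opposite.op T)),
      ((Flatn.morS gX (j ≫ gY)).map a.op c :
        (Over.map gX).obj ((Over.pullback gX).obj T') ⟶ Over.mk (j ≫ gY)) ≫ jj =
      (Flatn.morS gX gY).map a.op
        ((c : (Over.map gX).obj ((Over.pullback gX).obj T) ⟶ Over.mk (j ≫ gY)) ≫ jj) := by
    intro T T' a c
    exact Category.assoc _ _ _
  have hbij : ∀ T : Over S, Function.Bijective (Φ T) := by
    intro T
    constructor
    · intro φ₁ φ₂ h12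
      have h1 := hΦ' T φ₁
      rw [h12, hΦ' T φ₂] at h1
      have h2 := e.homEquiv.injective h1
      exact ((cancel_mono ι₀).mp h2).symm
    · intro c
      let ψ : T ⟶ M := e.homEquiv.symm
        ((c : (Over.map gX).obj ((Over.pullback gX).obj T) ⟶ Over.mk (j ≫ gY)) ≫ jj)
      have hψ : e.homEquiv ψ =
          (c : (Over.map gX).obj ((Over.pullback gX).obj T) ⟶ Over.mk (j ≫ gY)) ≫ jj :=
        e.homEquiv.apply_symm_apply _
      have hψM : ∀ x, ψ.left x ∈ M₀ := by
        apply Groth.Agent.H73.WeilLoc.mem_locOpen_of_lands M.hom ξ ⊤ j.opensRange ψ.left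
          (Over.w ψ) (fun _ => trivial)
        intro y
        rw [← he ψ, hψ]
        exact ⟨c.left y, rfl⟩
      have hr : Set.range ψ.left ⊆ Set.range M₀.ι := by
        rintro _ ⟨x, rfl⟩
        rw [Scheme.Opens.range_ι]
        exact hψM x
      let φ₀ : T.left ⟶ M₀.toScheme := IsOpenImmersion.lift M₀.ι ψ.left hr
      have hφ₀ : φ₀ ≫ M₀.ι = ψ.left := IsOpenImmersion.lift_fac _ _ _
      let φ : T ⟶ Over.mk (M₀.ι ≫ M.hom) := Over.homMk φ₀ (by
        show φ₀ ≫ M₀.ι ≫ M.hom = T.hom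
        rw [← Category.assoc, hφ₀]
        exact Over.w ψ)
      have hφ : φ ≫ ι₀ = ψ := by
        apply Over.OverMorphism.ext
        exact hφ₀
      refine ⟨φ, ?_⟩
      have h1 := hΦ' T φ
      rw [hφ, hψ] at h1
      exact (cancel_mono jj).mp h1
  refine ⟨M₀,
    { homEquiv := fun {T} => Equiv.ofBijective (Φ T) (hbij T)
      homEquiv_comp := fun {T T'} a φ => ?_ }, fun T φ => (hΦ' T φ).symm⟩
  show Φ T (a ≫ φ) = (Flatn.morS gX (j ≫ gY)).map a.op (Φ T' φ)
  have h1 := hΦ' T (a ≫ φ)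
  rw [Category.assoc, e.homEquiv_comp, ← hΦ' T' φ, ← hnat] at h1
  exact (cancel_mono jj).mp h1

end Groth.Agent.S17080
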