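import Groth.Statements.S17081
import Groth.Agent.H85.HilbOpen1

set_option autoImplicit false
universe u
open CategoryTheory CategoryTheory.Limits AlgebraicGeometry
open MorSch

namespace Groth.Agent.S17081

section helpers

variable {X S : Scheme.{u}} (f : X ⟶ S)

theorem hilbPull_eq_comap {T T' : Over S} (g : T' ⟶ T) (I : (PicF.XT f T).IdealSheafData) :
    FGA.hilbPull f g I = I.comap (PicF.XTmap f g) := by
  unfold FGA.hilbPull Scheme.IdealSheafData.comap
  rw [← pullbackSymmetry_hom_comp_fst, Scheme.Hom.ker_comp_of_isIso]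

theorem XTmap_fst {T T' : Over S} (g : T' ⟶ T) :
    PicF.XTmap f g ≫ pullback.fst f T.hom = pullback.fst f T'.hom := by
  unfold PicF.XTmap
  rw [pullback.lift_fst]
  exact Category.comp_id _

theorem XTmap_snd {T T' : Over S} (g : T' ⟶ T) :
    PicF.XTmap f g ≫ pullback.snd f T.hom = pullback.snd f T'.hom ≫ g.left := by
  unfold PicF.XTmap
  rw [pullback.lift_snd]

variable {S' : Scheme.{u}} (h : S' ⟶ S)

/-- `X' ×_{S'} T ≅ X ×_S T`. -/
noncomputable def phi (T : Over S') :
    PicF.XT (pullback.snd f h) T ≅ PicF.XT f (Over.mk (T.hom ≫ h)) :=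
  pullbackLeftPullbackSndIso f h T.hom

theorem phi_hom_fst (T : Over S') :
    (phi f h T).hom ≫ pullback.fst f (T.hom ≫ h) =
      pullback.fst (pullback.snd f h) T.hom ≫ pullback.fst f h :=
  pullbackLeftPullbackSndIso_hom_fst f h T.hom

theorem phi_hom_snd (T : Over S') :
    (phi f h T).hom ≫ pullback.snd f (T.hom ≫ h) = pullback.snd (pullback.snd f h) T.hom :=
  pullbackLeftPullbackSndIso_hom_snd f h T.hom

/-- the comparison map `X' ×_{S'} H' ⟶ X ×_S H` of the statement. -/
noncomputable def bigM (H : Over S) :
    pullback (pullback.snd f h) (pullback.snd H.hom h) ⟶ pullback f H.hom :=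
  pullback.map (pullback.snd f h) (pullback.snd H.hom h) f H.hom
    (pullback.fst f h) (pullback.fst H.hom h) h pullback.condition.symm pullback.condition.symm

theorem bigM_fst (H : Over S) :
    bigM f h H ≫ pullback.fst f H.hom =
      pullback.fst (pullback.snd f h) (pullback.snd H.hom h) ≫ pullback.fst f h := by
  unfold bigM
  rw [pullback.lift_fst]

theorem bigM_snd (H : Over S) :
    bigM f h H ≫ pullback.snd f H.hom =
      pullback.snd (pullback.snd f h) (pullback.snd H.hom h) ≫ pullback.fst H.hom h := by
  unfold bigM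
  rw [pullback.lift_snd]

/-- compatibility: for `g : T ⟶ H'` over `S'` and `gS : T_S ⟶ H` over `S` with
`g.left ≫ fst = gS.left`. -/
theorem XTmap_bigM (H : Over S) {T : Over S'} (g : T ⟶ Over.mk (pullback.snd H.hom h))
    (gS : Over.mk (T.hom ≫ h) ⟶ H) (hg : g.left ≫ pullback.fst H.hom h = gS.left) :
    PicF.XTmap (pullback.snd f h) g ≫ bigM f h H = (phi f h T).hom ≫ PicF.XTmap f gS := by
  apply pullback.hom_ext
  · have h4 : (phi f h T).hom ≫ pullback.fst f (Over.mk (T.hom ≫ h)).hom =
        pullback.fst (pullback.snd f h) T.hom ≫ pullback.fst f h := phi_hom_fst f h T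
    rw [Category.assoc, bigM_fst, Category.assoc, XTmap_fst, h4]
    have h1 := XTmap_fst (pullback.snd f h) g
    rw [← Category.assoc]
    exact congrArg (· ≫ pullback.fst f h) h1
  · rw [Category.assoc, bigM_snd, Category.assoc, XTmap_snd, ← Category.assoc (phi f h T).hom]
    have h3 : (phi f h T).hom ≫ pullback.snd f (Over.mk (T.hom ≫ h)).hom =
        pullback.snd (pullback.snd f h) T.hom := phi_hom_snd f h T
    rw [h3, ← hg]
    have h2 := XTmap_snd (pullback.snd f h) g
    rw [← Category.assoc, ← Category.assoc]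
    exact congrArg (· ≫ pullback.fst H.hom h) h2

/-- transport a member of `Hilb_{X'/S'}(T)` to `Hilb_{X/S}(T_S)`. -/
theorem transport_mem (T : Over S') (Y : FGA.HilbSet (pullback.snd f h) T) :
    IsProper ((Y.1.comap (phi f h T).inv).subschemeι ≫ PicF.XTproj f (Over.mk (T.hom ≫ h))) ∧
      Flat ((Y.1.comap (phi f h T).inv).subschemeι ≫ PicF.XTproj f (Over.mk (T.hom ≫ h))) := by
  have hp : IsProper (Y.1.subschemeι ≫ pullback.snd (pullback.snd f h) T.hom) := Y.2.1
  have hf : Flat (Y.1.subschemeι ≫ pullback.snd (pullback.snd f h) T.hom) := Y.2.2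
  refine Groth.Agent.H85.HilbOpen1.hilb_restrict Y.1 (pullback.snd (pullback.snd f h) T.hom)
    (phi f h T).inv (pullback.snd f (T.hom ≫ h)) (𝟙 T.left) ?_ ?_ hp hf
  · rw [Category.comp_id, Iso.inv_comp_eq]
    exact (phi_hom_snd f h T).symm
  · intro z _
    exact ⟨(phi f h T).hom (Y.1.subschemeι z), by
      rw [← Scheme.Hom.comp_apply, Iso.hom_inv_id]
      rfl⟩

end helpers

/-- Let S and S' be Noetherian schemes, h : S' → S and f : X → S morphisms, and (H, Z) a pair
representing the Hilbert functor of X over S on locally Noetherian S-schemes (H locally Noetherian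
over S; Z ⊆ X ×_S H closed, proper and flat over H; every closed subscheme of X ×_S T proper and
flat over a locally Noetherian S-scheme T is the pullback of Z along a unique S-morphism T → H),
with H locally of finite type over S. Write X' = X ×_S S' → S' and H' = H ×_S S' → S', and let Z' ⊆
X' ×_{S'} H' be the closed subscheme pulled back from Z along the morphism X' ×_{S'} H' → X ×_S H
induced by the projections X' → X and H' → H. Then (H', Z') represents the Hilbert functor of X'
over S'. (Published for X flat and projective over S, which is how (H, Z) is known to exist there;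
representability is taken as a hypothesis here; the hypothesis that H is locally of finite type over
S is added here (it holds for the Hilbert scheme of a flat projective scheme) so that H ×_S S' is
locally Noetherian.) -/
theorem result
    {X S S' : Scheme.{u}} [IsNoetherian S] [IsNoetherian S'] (f : X ⟶ S) (h : S' ⟶ S)
    (H : Over S) (Z : FGA.HilbSet f H) (hH : FGA.HilbRepresentedBy f H Z)
    [LocallyOfFiniteType H.hom]
    (Z' : FGA.HilbSet (pullback.snd f h) (Over.mk (pullback.snd H.hom h)))
    (hZ' : Z'.1 = Z.1.comap (pullback.map (pullback.snd f h) (pullback.snd H.hom h) f H.hom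
      (pullback.fst f h) (pullback.fst H.hom h) h pullback.condition.symm pullback.condition.symm)) :
    FGA.HilbRepresentedBy (pullback.snd f h) (Over.mk (pullback.snd H.hom h)) Z' := by
  classical
  obtain ⟨hHN, hHrep⟩ := hH
  have hZ'' : Z'.1 = Z.1.comap (bigM f h H) := hZ'
  refine ⟨?_, ?_⟩
  · have : LocallyOfFiniteType (pullback.snd H.hom h) := inferInstance
    exact LocallyOfFiniteType.isLocallyNoetherian (pullback.snd H.hom h)
  · intro T hT Y
    have hTS : IsLocallyNoetherian (Over.mk (T.hom ≫ h)).left := hT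
    obtain ⟨gS, hgS, hgSuniq⟩ := hHrep (Over.mk (T.hom ≫ h))
      ⟨Y.1.comap (phi f h T).inv, transport_mem f h T Y⟩
    have hgS' : Z.1.comap (PicF.XTmap f gS) = Y.1.comap (phi f h T).inv := by
      rw [← hilbPull_eq_comap]
      exact hgS
    let g : T ⟶ Over.mk (pullback.snd H.hom h) :=
      Over.homMk (pullback.lift gS.left T.hom (Over.w gS)) (pullback.lift_snd _ _ _)
    have hgl : g.left ≫ pullback.fst H.hom h = gS.left := pullback.lift_fst _ _ _
    refine ⟨g, ?_, ?_⟩
    · show FGA.hilbPull (pullback.snd f h) g Z'.1 = Y.1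
      rw [hilbPull_eq_comap, hZ'', ← Scheme.IdealSheafData.comap_comp, XTmap_bigM f h H g gS hgl,
        Scheme.IdealSheafData.comap_comp, hgS', ← Scheme.IdealSheafData.comap_comp,
        Iso.hom_inv_id, Scheme.IdealSheafData.comap_id]
    · intro g₁ hg₁
      have hg₁' : FGA.hilbPull (pullback.snd f h) g₁ Z'.1 = Y.1 := hg₁
      let g₁S : Over.mk (T.hom ≫ h) ⟶ H :=
        Over.homMk (g₁.left ≫ pullback.fst H.hom h) (by
          show (g₁.left ≫ pullback.fst H.hom h) ≫ H.hom = T.hom ≫ h
          rw [Category.assoc, pullback.condition, ← Category.assoc]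
          exact congrArg (· ≫ h) (Over.w g₁))
      have hg₁l : g₁.left ≫ pullback.fst H.hom h = g₁S.left := rfl
      have hcomap : Z.1.comap (PicF.XTmap f g₁S) = Y.1.comap (phi f h T).inv := by
        rw [hilbPull_eq_comap, hZ'', ← Scheme.IdealSheafData.comap_comp,
          XTmap_bigM f h H g₁ g₁S hg₁l, Scheme.IdealSheafData.comap_comp] at hg₁'
        rw [← hg₁', ← Scheme.IdealSheafData.comap_comp, Iso.inv_hom_id,
          Scheme.IdealSheafData.comap_id]
      have hgg : g₁S = gS := hgSuniq g₁S (by
        show FGA.hilbPull f g₁S Z.1 = Y.1.comap (phi f h T).inv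
        rw [hilbPull_eq_comap]
        exact hcomap)
      apply Over.OverMorphism.ext
      apply pullback.hom_ext
      · rw [hg₁l, hgg, hgl]
      · have h1 : g₁.left ≫ pullback.snd H.hom h = T.hom := Over.w g₁
        have h2 : g.left ≫ pullback.snd H.hom h = T.hom := Over.w g
        rw [h1, h2]

end Groth.Agent.S17081
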