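import Groth.Statements.S17088
-- import your own Groth.Agent.* helpers here

set_option autoImplicit false
universe u
open CategoryTheory CategoryTheory.Limits AlgebraicGeometry
open MorSch

namespace Groth.Agent.S17088

theorem key {W X S : Scheme.{u}} (f : X ⟶ S) [IsSeparated f] (ι : W ⟶ X) [IsImmersion ι]
    (T : Over S) (V : FGA.HilbSet (ι ≫ f) T) :
    IsClosedImmersion (V.1.subschemeι ≫ pullback.map (ι ≫ f) T.hom f T.hom ι (𝟙 T.left) (𝟙 S)
          (Category.comp_id _) ((Category.comp_id _).trans (Category.id_comp _).symm)) := by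
  obtain ⟨m, hm⟩ : ∃ m : pullback (ι ≫ f) T.hom ⟶ pullback f T.hom,
      m = pullback.map (ι ≫ f) T.hom f T.hom ι (𝟙 T.left) (𝟙 S)
          (Category.comp_id _) ((Category.comp_id _).trans (Category.id_comp _).symm) := ⟨_, rfl⟩
  rw [← hm]
  have hmi : IsImmersion m := by
    rw [hm]
    have hcomp : MorphismProperty.IsStableUnderComposition @IsImmersion.{u} :=
      (inferInstance : MorphismProperty.IsMultiplicative @IsImmersion.{u}).toIsStableUnderComposition
    exact MorphismProperty.pullbackMap (P := @IsImmersion.{u}) (inferInstance : IsImmersion ι)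
      (inferInstance : IsImmersion (𝟙 T.left)) rfl (Category.id_comp _).symm
  have hsnd : m ≫ pullback.snd f T.hom = pullback.snd (ι ≫ f) T.hom := by
    rw [hm, pullback.lift_snd, Category.comp_id]
  have hprop : IsProper (V.1.subschemeι ≫ pullback.snd (ι ≫ f) T.hom) := V.2.1
  have hprop' : IsProper ((V.1.subschemeι ≫ m) ≫ pullback.snd f T.hom) := by
    rw [Category.assoc, hsnd]
    exact hprop
  have hp : IsProper (V.1.subschemeι ≫ m) :=
    IsProper.of_comp (V.1.subschemeι ≫ m) (pullback.snd f T.hom)
  have himm : IsImmersion (V.1.subschemeι ≫ m) := inferInstance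
  exact IsClosedImmersion.of_isPreimmersion _ (V.1.subschemeι ≫ m).isClosedMap.isClosed_range

/-- Let f : X → S be a separated morphism, ι : W → X an immersion and T an S-scheme. For every closed
subscheme V of W ×_S T which is proper and flat over T — a T-point of the Hilbert functor of W over
S — the composite V → W ×_S T → X ×_S T is a closed immersion, and the map sending V to the ideal
sheaf of this composite, from T-points of the Hilbert functor of W to ideal sheaves on X ×_S T, is
injective: an immersion induces a monomorphism of Hilbert functors. -/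
theorem result
    {W X S : Scheme.{u}} (f : X ⟶ S) [IsSeparated f] (ι : W ⟶ X) [IsImmersion ι]
    (T : Over S) :
    (∀ V : FGA.HilbSet (ι ≫ f) T,
      IsClosedImmersion (V.1.subschemeι ≫ pullback.map (ι ≫ f) T.hom f T.hom ι (𝟙 T.left) (𝟙 S)
          (Category.comp_id _) ((Category.comp_id _).trans (Category.id_comp _).symm))) ∧
    Function.Injective (fun V : FGA.HilbSet (ι ≫ f) T =>
      (V.1.subschemeι ≫ pullback.map (ι ≫ f) T.hom f T.hom ι (𝟙 T.left) (𝟙 S)
          (Category.comp_id _) ((Category.comp_id _).trans (Category.id_comp _).symm)).ker) := by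
  refine ⟨fun V => key f ι T V, ?_⟩
  intro V V' h
  dsimp only at h
  have hc : IsClosedImmersion (V.1.subschemeι ≫ pullback.map (ι ≫ f) T.hom f T.hom ι (𝟙 T.left)
      (𝟙 S) (Category.comp_id _) ((Category.comp_id _).trans (Category.id_comp _).symm)) :=
    key f ι T V
  have hc' : IsClosedImmersion (V'.1.subschemeι ≫ pullback.map (ι ≫ f) T.hom f T.hom ι (𝟙 T.left)
      (𝟙 S) (Category.comp_id _) ((Category.comp_id _).trans (Category.id_comp _).symm)) :=
    key f ι T V'
  obtain ⟨m, hm⟩ : ∃ m : pullback (ι ≫ f) T.hom ⟶ pullback f T.hom,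
      m = pullback.map (ι ≫ f) T.hom f T.hom ι (𝟙 T.left) (𝟙 S)
          (Category.comp_id _) ((Category.comp_id _).trans (Category.id_comp _).symm) := ⟨_, rfl⟩
  rw [← hm] at h hc hc'
  have hmi : IsImmersion m := by
    rw [hm]
    have hcomp : MorphismProperty.IsStableUnderComposition @IsImmersion.{u} :=
      (inferInstance : MorphismProperty.IsMultiplicative @IsImmersion.{u}).toIsStableUnderComposition
    exact MorphismProperty.pullbackMap (P := @IsImmersion.{u}) (inferInstance : IsImmersion ι)
      (inferInstance : IsImmersion (𝟙 T.left)) rfl (Category.id_comp _).symm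
  have hl : IsIso (IsClosedImmersion.lift (V.1.subschemeι ≫ m) (V'.1.subschemeι ≫ m) h.le) :=
    IsClosedImmersion.isIso_lift _ _ h
  have hfac : IsClosedImmersion.lift (V.1.subschemeι ≫ m) (V'.1.subschemeι ≫ m) h.le ≫
      V.1.subschemeι = V'.1.subschemeι := by
    rw [← cancel_mono m, Category.assoc]
    exact IsClosedImmersion.lift_fac _ _ _
  have hker := Scheme.Hom.ker_comp_of_isIso
    (IsClosedImmersion.lift (V.1.subschemeι ≫ m) (V'.1.subschemeι ≫ m) h.le) V.1.subschemeι
  rw [hfac, Scheme.IdealSheafData.ker_subschemeι, Scheme.IdealSheafData.ker_subschemeι] at hker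
  exact Subtype.ext hker.symm

end Groth.Agent.S17088
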