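import Groth.Statements.S17082
import Groth.Agent.H85.HilbOpen1
import Groth.Agent.H64.HilbOpen23
import Groth.Agent.S17088

set_option autoImplicit false
universe u
open CategoryTheory CategoryTheory.Limits AlgebraicGeometry
open MorSch

namespace Groth.Agent.S17082

section helpers


theorem exists_preimage_of_isPullback {P X Y Z : Scheme.{u}} {a : P ⟶ X} {b : P ⟶ Y} {c : X ⟶ Z}
    {d : Y ⟶ Z} (hP : IsPullback a b c d) (x : X) (y : Y) (h : c x = d y) :
    ∃ w : P, a w = x ∧ b w = y := by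
  obtain ⟨z, hz1, hz2⟩ := Scheme.Pullback.exists_preimage_pullback x y h
  refine ⟨hP.isoPullback.inv z, ?_, ?_⟩
  · rw [← Scheme.Hom.comp_apply, IsPullback.isoPullback_inv_fst]; exact hz1
  · rw [← Scheme.Hom.comp_apply, IsPullback.isoPullback_inv_snd]; exact hz2

variable {X S : Scheme.{u}} (f : X ⟶ S)

theorem hilbPull_eq_comap {T T' : Over S} (g : T' ⟶ T) (I : (PicF.XT f T).IdealSheafData) :
    FGA.hilbPull f g I = I.comap (PicF.XTmap f g) := by
  unfold FGA.hilbPull Scheme.IdealSheafData.comap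
  rw [← pullbackSymmetry_hom_comp_fst, Scheme.Hom.ker_comp_of_isIso]

theorem XTmap_fst {T T' : Over S} (g : T' ⟶ T) :
    PicF.XTmap f g ≫ pullback.fst f T.hom = pullback.fst f T'.hom := by
  unfold PicF.XTmap
  rw [pullback.lift_fst]
  exact Category.comp_id _

theorem XTmap_snd {T T' : Over S} (g : T' ⟶ T) :
    PicF.XTmap f g ≫ pullback.snd f T.hom = pullback.snd f T'.hom ≫ g.left := by
  unfold PicF.XTmap
  rw [pullback.lift_snd]

theorem isPullback_XTmap {T T' : Over S} (g : T' ⟶ T) :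
    IsPullback (PicF.XTmap f g) (pullback.snd f T'.hom) (pullback.snd f T.hom) g.left := by
  refine IsPullback.of_right ?_ (XTmap_snd f g) (IsPullback.of_hasPullback f T.hom)
  rw [XTmap_fst, Over.w g]
  exact IsPullback.of_hasPullback f T'.hom

variable {U : Scheme.{u}} (j : U ⟶ X)

/-- the base change `U ×_S T ⟶ X ×_S T` of `j`. -/
noncomputable def mU (T : Over S) : PicF.XT (j ≫ f) T ⟶ PicF.XT f T :=
  pullback.map (j ≫ f) T.hom f T.hom j (𝟙 T.left) (𝟙 S) (Category.comp_id _)
    ((Category.comp_id _).trans (Category.id_comp _).symm)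

theorem mU_fst (T : Over S) :
    mU f j T ≫ pullback.fst f T.hom = pullback.fst (j ≫ f) T.hom ≫ j := by
  unfold mU
  rw [pullback.lift_fst]

theorem mU_snd (T : Over S) :
    mU f j T ≫ pullback.snd f T.hom = pullback.snd (j ≫ f) T.hom := by
  unfold mU
  rw [pullback.lift_snd, Category.comp_id]

theorem isOpenImmersion_map [IsOpenImmersion j] {H H' : Scheme.{u}} (h : H ⟶ S) (ι : H' ⟶ H)
    [IsOpenImmersion ι] :
    IsOpenImmersion (pullback.map (j ≫ f) (ι ≫ h) f h j ι (𝟙 S) (Category.comp_id _)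
      (Category.comp_id _)) := by
  have hcomp : MorphismProperty.IsStableUnderComposition @IsOpenImmersion.{u} :=
    (inferInstance : MorphismProperty.IsMultiplicative @IsOpenImmersion.{u}).toIsStableUnderComposition
  exact MorphismProperty.pullbackMap (P := @IsOpenImmersion.{u}) (inferInstance : IsOpenImmersion j)
    (inferInstance : IsOpenImmersion ι) rfl rfl

theorem isOpenImmersion_mU [IsOpenImmersion j] (T : Over S) : IsOpenImmersion (mU f j T) := by
  have hcomp : MorphismProperty.IsStableUnderComposition @IsOpenImmersion.{u} :=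
    (inferInstance : MorphismProperty.IsMultiplicative @IsOpenImmersion.{u}).toIsStableUnderComposition
  exact MorphismProperty.pullbackMap (P := @IsOpenImmersion.{u}) (inferInstance : IsOpenImmersion j)
    (inferInstance : IsOpenImmersion (𝟙 T.left)) rfl (Category.id_comp _).symm

theorem range_mU (T : Over S) :
    Set.range (mU f j T) = pullback.fst f T.hom ⁻¹' Set.range j := by
  unfold mU
  rw [Scheme.Pullback.range_map]
  have : Set.range (𝟙 T.left : T.left ⟶ T.left) = Set.univ := by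
    ext x
    simp
  rw [this, Set.preimage_univ, Set.inter_univ]

theorem XTmap_mU {T T' : Over S} (g : T' ⟶ T) :
    PicF.XTmap (j ≫ f) g ≫ mU f j T = mU f j T' ≫ PicF.XTmap f g := by
  apply pullback.hom_ext
  · rw [Category.assoc, mU_fst, ← Category.assoc, XTmap_fst, Category.assoc, XTmap_fst, mU_fst]
  · rw [Category.assoc, mU_snd, XTmap_snd, Category.assoc, XTmap_snd, ← Category.assoc, mU_snd]

/-- push a member of `Hilb_{U/S}(T)` forward to `Hilb_{X/S}(T)`. -/
theorem push_mem [IsSeparated f] [IsOpenImmersion j] (T : Over S) (Y : FGA.HilbSet (j ≫ f) T) :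
    IsClosedImmersion (Y.1.subschemeι ≫ mU f j T) ∧
    IsProper ((Y.1.subschemeι ≫ mU f j T).ker.subschemeι ≫ PicF.XTproj f T) ∧
      Flat ((Y.1.subschemeι ≫ mU f j T).ker.subschemeι ≫ PicF.XTproj f T) := by
  have hc : IsClosedImmersion (Y.1.subschemeι ≫ mU f j T) := Groth.Agent.S17088.key f j T Y
  refine ⟨hc, ?_⟩
  have hp : IsProper (Y.1.subschemeι ≫ PicF.XTproj (j ≫ f) T) := Y.2.1
  have hf : Flat (Y.1.subschemeι ≫ PicF.XTproj (j ≫ f) T) := Y.2.2
  have heq : (Y.1.subschemeι ≫ mU f j T).ker.subschemeι ≫ PicF.XTproj f T =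
      inv (Y.1.subschemeι ≫ mU f j T).toImage ≫ (Y.1.subschemeι ≫ PicF.XTproj (j ≫ f) T) := by
    rw [IsIso.eq_inv_comp, ← Category.assoc]
    have h1 := (Y.1.subschemeι ≫ mU f j T).toImage_imageι
    unfold Scheme.Hom.imageι at h1
    rw [h1, Category.assoc]
    unfold PicF.XTproj
    rw [mU_snd]
  rw [heq]
  exact ⟨inferInstance, inferInstance⟩

/-- the map `U ×_S H₀ ⟶ X ×_S H` of the statement. -/
noncomputable def m0 (H : Over S) (H₀ : H.left.Opens) :
    pullback (j ≫ f) (H₀.ι ≫ H.hom) ⟶ pullback f H.hom :=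
  pullback.map (j ≫ f) (H₀.ι ≫ H.hom) f H.hom j H₀.ι (𝟙 S) (Category.comp_id _)
    (Category.comp_id _)

theorem m0_fst (H : Over S) (H₀ : H.left.Opens) :
    m0 f j H H₀ ≫ pullback.fst f H.hom = pullback.fst (j ≫ f) (H₀.ι ≫ H.hom) ≫ j := by
  unfold m0
  rw [pullback.lift_fst]

theorem m0_snd (H : Over S) (H₀ : H.left.Opens) :
    m0 f j H H₀ ≫ pullback.snd f H.hom = pullback.snd (j ≫ f) (H₀.ι ≫ H.hom) ≫ H₀.ι := by
  unfold m0
  rw [pullback.lift_snd]

theorem range_m0 (H : Over S) (H₀ : H.left.Opens) :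
    Set.range (m0 f j H H₀) =
      pullback.fst f H.hom ⁻¹' Set.range j ∩ pullback.snd f H.hom ⁻¹' (H₀ : Set H.left) := by
  unfold m0
  rw [Scheme.Pullback.range_map, Scheme.Opens.range_ι]

theorem XTmap_m0 (H : Over S) (H₀ : H.left.Opens) {T : Over S}
    (g₀ : T ⟶ Over.mk (H₀.ι ≫ H.hom)) (g : T ⟶ H) (hg : g₀.left ≫ H₀.ι = g.left) :
    PicF.XTmap (j ≫ f) g₀ ≫ m0 f j H H₀ = mU f j T ≫ PicF.XTmap f g := by
  apply pullback.hom_ext
  · rw [Category.assoc, m0_fst, Category.assoc, XTmap_fst, mU_fst]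
    have h1 := XTmap_fst (j ≫ f) g₀
    rw [← Category.assoc]
    exact congrArg (· ≫ j) h1
  · rw [Category.assoc, m0_snd, Category.assoc, XTmap_snd, ← Category.assoc (mU f j T), mU_snd,
      ← hg]
    have h2 := XTmap_snd (j ≫ f) g₀
    rw [← Category.assoc, ← Category.assoc]
    exact congrArg (· ≫ H₀.ι) h2

end helpers

/-- Let f : X → S be a separated morphism, j : U → X an open immersion, and (H, Z) a pair representing
the Hilbert functor of X over S on locally Noetherian S-schemes (H locally Noetherian over S; Z ⊆ X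
×_S H closed, proper and flat over H; every closed subscheme of X ×_S T proper and flat over a
locally Noetherian S-scheme T is the pullback of Z along a unique S-morphism T → H). Then there are
an open subset H₀ of H and a closed subscheme Z₀ ⊆ U ×_S H₀, proper and flat over H₀, such that Z₀
is the pullback of Z along the morphism U ×_S H₀ → X ×_S H induced by j and the inclusion of H₀, and
(H₀, Z₀) represents the Hilbert functor of U over S. So the Hilbert scheme of U over S exists and is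
an open subscheme of that of X. (Published for X projective and flat over a Noetherian S in the
representable case; this row assumes only X separated over S and takes the Hilbert scheme of X as
given.) -/
theorem result
    {X U S : Scheme.{u}} (f : X ⟶ S) [IsSeparated f] (j : U ⟶ X) [IsOpenImmersion j]
    (H : Over S) (Z : FGA.HilbSet f H) (hH : FGA.HilbRepresentedBy f H Z) :
    ∃ (H₀ : H.left.Opens) (Z₀ : FGA.HilbSet (j ≫ f) (Over.mk (H₀.ι ≫ H.hom))),
      Z₀.1 = Z.1.comap (pullback.map (j ≫ f) (H₀.ι ≫ H.hom) f H.hom j H₀.ι (𝟙 S)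
        (Category.comp_id _) (Category.comp_id _)) ∧
      FGA.HilbRepresentedBy (j ≫ f) (Over.mk (H₀.ι ≫ H.hom)) Z₀ := by
  classical
  obtain ⟨hHN, hHrep⟩ := hH
  have hpZ : IsProper (Z.1.subschemeι ≫ pullback.snd f H.hom) := Z.2.1
  have hfZ : Flat (Z.1.subschemeι ≫ pullback.snd f H.hom) := Z.2.2
  have hoU : IsOpenImmersion (mU f j H) := isOpenImmersion_mU f j H
  have hCclosed : IsClosed (⇑Z.1.subschemeι ⁻¹' (Set.range ⇑(mU f j H))ᶜ) :=
    ((mU f j H).isOpenEmbedding.isOpen_range.isClosed_compl).preimage Z.1.subschemeι.continuous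
  have hBclosed : IsClosed (⇑(Z.1.subschemeι ≫ pullback.snd f H.hom) ''
      (⇑Z.1.subschemeι ⁻¹' (Set.range ⇑(mU f j H))ᶜ)) :=
    (Z.1.subschemeι ≫ pullback.snd f H.hom).isClosedMap _ hCclosed
  obtain ⟨H₀, hH₀def⟩ : ∃ H₀ : H.left.Opens, (H₀ : Set H.left) =
      (⇑(Z.1.subschemeι ≫ pullback.snd f H.hom) ''
        (⇑Z.1.subschemeι ⁻¹' (Set.range ⇑(mU f j H))ᶜ))ᶜ := ⟨⟨_, hBclosed.isOpen_compl⟩, rfl⟩
  -- key property of `H₀`
  have hH₀ : ∀ z : Z.1.subscheme, (Z.1.subschemeι ≫ pullback.snd f H.hom) z ∈ (H₀ : Set H.left) →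
      pullback.fst f H.hom (Z.1.subschemeι z) ∈ Set.range j := by
    intro z hz
    by_contra hn
    rw [hH₀def] at hz
    apply hz
    refine ⟨z, ?_, rfl⟩
    show Z.1.subschemeι z ∈ (Set.range ⇑(mU f j H))ᶜ
    rw [range_mU]
    exact hn
  have hm₀ : IsOpenImmersion (m0 f j H H₀) := isOpenImmersion_map f j H.hom H₀.ι
  have hZ₀ := Groth.Agent.H85.HilbOpen1.hilb_restrict Z.1 (pullback.snd f H.hom)
    (m0 f j H H₀) (pullback.snd (j ≫ f) (H₀.ι ≫ H.hom)) H₀.ι (m0_snd f j H H₀)
    (fun z hz => by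
      rw [Scheme.Opens.range_ι] at hz
      rw [range_m0]
      refine ⟨hH₀ z hz, ?_⟩
      rw [Scheme.Hom.comp_apply] at hz
      exact hz) hpZ hfZ
  refine ⟨H₀, ⟨Z.1.comap (m0 f j H H₀), hZ₀⟩, rfl, ?_, ?_⟩
  · exact isLocallyNoetherian_of_isOpenImmersion H₀.ι
  · intro T hT Y
    obtain ⟨hc, hY'⟩ := push_mem f j T Y
    have hoT : IsOpenImmersion (mU f j T) := isOpenImmersion_mU f j T
    obtain ⟨g, hg, hguniq⟩ := hHrep T ⟨(Y.1.subschemeι ≫ mU f j T).ker, hY'⟩
    have hg' : Z.1.comap (PicF.XTmap f g) = (Y.1.subschemeι ≫ mU f j T).ker := by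
      rw [← hilbPull_eq_comap]
      exact hg
    -- general fact: points of the pulled back family over `H₀` lie in `U ×_S T`
    have hsupp : ∀ (g' : T ⟶ H) (w : ↥(PicF.XT f T)),
        w ∈ ((Z.1.comap (PicF.XTmap f g')).support : Set ↥(PicF.XT f T)) →
        g'.left (pullback.snd f T.hom w) ∈ (H₀ : Set H.left) →
        w ∈ Set.range ⇑(mU f j T) := by
      intro g' w hw hwH
      rw [Scheme.IdealSheafData.support_comap] at hw
      have hw' : PicF.XTmap f g' w ∈ (Z.1.support : Set ↥(PicF.XT f H)) := hw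
      rw [← Z.1.range_subschemeι] at hw'
      obtain ⟨z, hz⟩ := hw'
      rw [range_mU]
      show pullback.fst f T.hom w ∈ Set.range j
      have h1 : pullback.fst f T.hom w = pullback.fst f H.hom (PicF.XTmap f g' w) := by
        rw [← Scheme.Hom.comp_apply, XTmap_fst]
      rw [h1, ← hz]
      apply hH₀
      rw [Scheme.Hom.comp_apply, hz, ← Scheme.Hom.comp_apply, XTmap_snd, Scheme.Hom.comp_apply]
      exact hwH
    have hgH₀ : ∀ t : T.left, g.left t ∈ (H₀ : Set H.left) := by
      intro t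
      by_contra hn
      rw [hH₀def] at hn
      obtain ⟨z, hzC, hpz⟩ := not_not.mp hn
      obtain ⟨w, hw1, hw2⟩ := exists_preimage_of_isPullback (isPullback_XTmap f g)
        (Z.1.subschemeι z) t (by rw [← hpz, Scheme.Hom.comp_apply])
      have hwsupp : w ∈ ((Z.1.comap (PicF.XTmap f g)).support : Set ↥(PicF.XT f T)) := by
        rw [Scheme.IdealSheafData.support_comap]
        show PicF.XTmap f g w ∈ (Z.1.support : Set ↥(PicF.XT f H))
        rw [hw1, ← Z.1.range_subschemeι]
        exact ⟨z, rfl⟩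
      rw [hg', Scheme.Hom.support_ker, hc.isClosedEmbedding.isClosed_range.closure_eq] at hwsupp
      obtain ⟨y, hy⟩ := hwsupp
      have hwU : w ∈ Set.range ⇑(mU f j T) := ⟨Y.1.subschemeι y, by
        rw [← Scheme.Hom.comp_apply]; exact hy⟩
      rw [range_mU] at hwU
      apply hzC
      rw [range_mU]
      show pullback.fst f H.hom (Z.1.subschemeι z) ∈ Set.range j
      rw [← hw1, ← Scheme.Hom.comp_apply, XTmap_fst]
      exact hwU
    have hrange : Set.range ⇑g.left ⊆ Set.range ⇑H₀.ι := by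
      rw [Scheme.Opens.range_ι]
      rintro _ ⟨t, rfl⟩
      exact hgH₀ t
    let g₀ : T ⟶ Over.mk (H₀.ι ≫ H.hom) :=
      Over.homMk (IsOpenImmersion.lift H₀.ι g.left hrange) (by
        show IsOpenImmersion.lift H₀.ι g.left hrange ≫ H₀.ι ≫ H.hom = T.hom
        rw [← Category.assoc, IsOpenImmersion.lift_fac]
        exact Over.w g)
    have hg₀ : g₀.left ≫ H₀.ι = g.left := IsOpenImmersion.lift_fac _ _ _
    have hmonoT : Mono (mU f j T) := inferInstance
    refine ⟨g₀, ?_, ?_⟩
    · show FGA.hilbPull (j ≫ f) g₀ (Z.1.comap (m0 f j H H₀)) = Y.1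
      rw [hilbPull_eq_comap, ← Scheme.IdealSheafData.comap_comp, XTmap_m0 f j H H₀ g₀ g hg₀,
        Scheme.IdealSheafData.comap_comp, hg',
        Groth.Agent.H64.HilbOpen23.ker_comap_of_mono Y.1.subschemeι (mU f j T),
        Scheme.IdealSheafData.ker_subschemeι]
    · intro g₁ hg₁
      have hg₁' : FGA.hilbPull (j ≫ f) g₁ (Z.1.comap (m0 f j H H₀)) = Y.1 := hg₁
      -- the composite to `H`
      let g' : T ⟶ H := Over.homMk (g₁.left ≫ H₀.ι) (by
        have := Over.w g₁
        rw [Category.assoc]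
        exact this)
      have hg'l : g₁.left ≫ H₀.ι = g'.left := rfl
      have hcomap : (Z.1.comap (PicF.XTmap f g')).comap (mU f j T) = Y.1 := by
        rw [← Scheme.IdealSheafData.comap_comp, ← XTmap_m0 f j H H₀ g₁ g' hg'l,
          Scheme.IdealSheafData.comap_comp, ← hilbPull_eq_comap]
        exact hg₁'
      have hP3 := Groth.Agent.H64.HilbOpen23.ker_comap_comp_of_range_subset (mU f j T)
        (Z.1.comap (PicF.XTmap f g')) (fun z' => by
          apply hsupp g'
          · rw [← (Z.1.comap (PicF.XTmap f g')).range_subschemeι]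
            exact ⟨z', rfl⟩
          · show (g₁.left ≫ H₀.ι) _ ∈ (H₀ : Set H.left)
            rw [Scheme.Hom.comp_apply]
            exact (g₁.left _).2)
      rw [hcomap] at hP3
      have hgg : g' = g := hguniq g' (by
        show FGA.hilbPull f g' Z.1 = (Y.1.subschemeι ≫ mU f j T).ker
        rw [hilbPull_eq_comap]
        exact hP3.symm)
      apply Over.OverMorphism.ext
      rw [← cancel_mono H₀.ι, hg₀, hg'l, hgg]

end Groth.Agent.S17082
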