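import Groth.Statements.S17083
import Groth.Agent.H9.BlowUp
import Groth.Agent.H9.ComapMul
import Groth.Agent.H9.FactorPrincipal

set_option autoImplicit false
universe u
open CategoryTheory CategoryTheory.Limits AlgebraicGeometry
open MorSch

namespace Groth.Agent.S17083


variable {X : Scheme.{u}}

theorem inf_eq_mul (I₁ I₂ : X.IdealSheafData) (h : I₁ ⊔ I₂ = ⊤) : I₁ ⊓ I₂ = I₁ * I₂ := by
  apply Scheme.IdealSheafData.ext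
  funext U
  have h1 : I₁.ideal U ⊔ I₂.ideal U = ⊤ := by
    have := congrArg (fun I => Scheme.IdealSheafData.ideal I U) h
    simpa [Scheme.IdealSheafData.ideal_sup, Scheme.IdealSheafData.ideal_top] using this
  rw [Scheme.IdealSheafData.ideal_inf, Scheme.IdealSheafData.ideal_mul]
  exact Ideal.inf_eq_mul_of_isCoprime (Ideal.isCoprime_iff_sup_eq.2 h1)

theorem isEffCartierIdeal_of_locally {P : Scheme.{u}} (𝓘 : P.IdealSheafData)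
    (h : ∀ p : P, ∃ V : P.Opens, p ∈ V ∧ BlowUp.IsEffCartierIdeal (𝓘.comap V.ι)) :
    BlowUp.IsEffCartierIdeal 𝓘 := by
  intro p
  obtain ⟨V, hpV, hV⟩ := h p
  obtain ⟨U', hpU', f, hf, hI⟩ := hV ⟨p, hpV⟩
  have hbij : Function.Bijective (V.ι.appIso U'.1).inv.hom :=
    ConcreteCategory.bijective_of_isIso (V.ι.appIso U'.1).inv
  refine ⟨⟨V.ι ''ᵁ U'.1, U'.2.image_of_isOpenImmersion V.ι⟩, ⟨⟨p, hpV⟩, hpU', rfl⟩,
    (V.ι.appIso U'.1).inv.hom f, ?_, ?_⟩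
  · exact Groth.Agent.H9.map_mem_nonZeroDivisors_of_flat _ (RingHom.Flat.of_bijective hbij) hf
  · have e := Scheme.IdealSheafData.ideal_comap_of_isOpenImmersion 𝓘 V.ι U'
    rw [hI] at e
    rw [← Ideal.map_comap_of_surjective _ hbij.2
      (𝓘.ideal ⟨V.ι ''ᵁ U'.1, U'.2.image_of_isOpenImmersion V.ι⟩), ← e, Ideal.map_span,
      Set.image_singleton]

theorem isIso_restrict_of_isPullback {P B₁ B₂ : Scheme.{u}} {σ₁ : B₁ ⟶ X} {σ₂ : B₂ ⟶ X}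
    {p₁ : P ⟶ B₁} {p₂ : P ⟶ B₂} (sq : IsPullback p₁ p₂ σ₁ σ₂) (W : X.Opens)
    (hW : IsIso (σ₂ ∣_ W)) : IsIso (p₁ ∣_ (σ₁ ⁻¹ᵁ W)) := by
  have h1 := isPullback_morphismRestrict p₁ (σ₁ ⁻¹ᵁ W)
  have h3 := isPullback_morphismRestrict σ₂ W
  have hbig := h1.paste_vert sq
  have e1 : (σ₁ ⁻¹ᵁ W).ι ≫ σ₁ = (σ₁ ∣_ W) ≫ W.ι := (morphismRestrict_ι σ₁ W).symm
  rw [e1] at hbig
  obtain ⟨θ, hθ1, hθ2⟩ : ∃ θ : (p₁ ⁻¹ᵁ σ₁ ⁻¹ᵁ W : P.Opens).toScheme ⟶ (σ₂ ⁻¹ᵁ W : B₂.Opens).toScheme,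
      θ ≫ (σ₂ ∣_ W) = (p₁ ∣_ (σ₁ ⁻¹ᵁ W)) ≫ (σ₁ ∣_ W) ∧
      θ ≫ (σ₂ ⁻¹ᵁ W).ι = (p₁ ⁻¹ᵁ σ₁ ⁻¹ᵁ W).ι ≫ p₂ :=
    ⟨h3.lift ((p₁ ∣_ (σ₁ ⁻¹ᵁ W)) ≫ (σ₁ ∣_ W)) ((p₁ ⁻¹ᵁ σ₁ ⁻¹ᵁ W).ι ≫ p₂)
      (by rw [Category.assoc]; exact hbig.w), h3.lift_fst _ _ _, h3.lift_snd _ _ _⟩
  rw [← hθ2] at hbig
  have htop := IsPullback.of_bot hbig hθ1.symm h3
  exact MorphismProperty.of_isPullback (P := MorphismProperty.isomorphisms Scheme.{u}) htop.flip hW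

theorem key {P B₁ B₂ : Scheme.{u}} (I₁ I₂ : X.IdealSheafData) (σ₁ : B₁ ⟶ X) (σ₂ : B₂ ⟶ X)
    (p₁ : P ⟶ B₁) (p₂ : P ⟶ B₂) (sq : IsPullback p₁ p₂ σ₁ σ₂)
    (h₁ : BlowUp.IsEffCartierIdeal (I₁.comap σ₁)) (hσ₂ : BlowUp.IsBlowUp σ₂ I₂)
    (hsupp : ∀ x : X, x ∈ I₁.support → x ∈ I₂.support → False) :
    BlowUp.IsEffCartierIdeal (I₁.comap (p₁ ≫ σ₁)) := by
  apply isEffCartierIdeal_of_locally
  intro p
  by_cases hx : (p₁ ≫ σ₁) p ∈ I₂.support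
  · refine ⟨(p₁ ≫ σ₁) ⁻¹ᵁ I₁.support.compl, fun h => hsupp _ h hx, ?_⟩
    rw [← Scheme.IdealSheafData.comap_comp]
    apply Groth.Agent.H9.isEffCartierIdeal_comap_of_disjoint
    intro y
    exact y.2
  · refine ⟨p₁ ⁻¹ᵁ (σ₁ ⁻¹ᵁ I₂.support.compl), hx, ?_⟩
    haveI : IsIso (p₁ ∣_ (σ₁ ⁻¹ᵁ I₂.support.compl)) :=
      isIso_restrict_of_isPullback sq _
        (Groth.Agent.H9.isIso_morphismRestrict_compl_of_isBlowUp I₂ σ₂ hσ₂)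
    have e : (p₁ ⁻¹ᵁ (σ₁ ⁻¹ᵁ I₂.support.compl)).ι ≫ p₁ =
        (p₁ ∣_ (σ₁ ⁻¹ᵁ I₂.support.compl)) ≫ (σ₁ ⁻¹ᵁ I₂.support.compl).ι :=
      (morphismRestrict_ι p₁ _).symm
    rw [← Scheme.IdealSheafData.comap_comp, ← Category.assoc, e,
      Scheme.IdealSheafData.comap_comp]
    exact Groth.Agent.H9.isEffCartierIdeal_comap_of_flat _ _ h₁


/-- The closed immersion constructed in its proof, as follows. Let X be a scheme, I₁ and I₂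
quasi-coherent ideal sheaves on X with I₁ + I₂ = O_X, so that they cut out disjoint closed
subschemes Z₁ and Z₂, let σ : B → X be a blow-up of X in the ideal I₁ ∩ I₂ of Z₁ ∪ Z₂, and let σ₁ :
B₁ → X and σ₂ : B₂ → X be blow-ups of X in Z₁ and in Z₂ (blow-up in the sense of the universal
property: the inverse image ideal is effective Cartier, finally so). Then there is a morphism ι : B
→ B₁ ×_X B₂ over X which is a closed immersion; the components B → B_i are necessarily the unique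
X-morphisms given by the universal properties. (Published for X a projective space over an
algebraically closed field, Z₂ a closed point and Z₁ a finite set of closed points not containing
it, and iterated there to embed the blow-up at r distinct points as a closed subscheme of the fibre
product over X of the r blow-ups at single points.) -/
theorem result
    {X B B₁ B₂ : Scheme.{u}} (I₁ I₂ : X.IdealSheafData) (hdisj : I₁ ⊔ I₂ = ⊤)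
    (σ : B ⟶ X) (hσ : BlowUp.IsBlowUp σ (I₁ ⊓ I₂))
    (σ₁ : B₁ ⟶ X) (hσ₁ : BlowUp.IsBlowUp σ₁ I₁) (σ₂ : B₂ ⟶ X) (hσ₂ : BlowUp.IsBlowUp σ₂ I₂) :
    ∃ ι : B ⟶ pullback σ₁ σ₂, IsClosedImmersion ι ∧ ι ≫ pullback.fst σ₁ σ₂ ≫ σ₁ = σ := by
  have hmul : I₁ ⊓ I₂ = I₁ * I₂ := inf_eq_mul I₁ I₂ hdisj
  have hsupp : ∀ x : X, x ∈ I₁.support → x ∈ I₂.support → False := by
    intro x h1 h2
    have h3 : x ∈ (I₁ ⊔ I₂).support := by
      rw [Scheme.IdealSheafData.support_sup]; exact ⟨h1, h2⟩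
    rw [hdisj, Scheme.IdealSheafData.support_top] at h3
    exact h3
  have hprod : BlowUp.IsEffCartierIdeal (I₁.comap σ * I₂.comap σ) := by
    rw [← Groth.Agent.H9.comap_mul, ← hmul]; exact hσ.1
  have hc1 : BlowUp.IsEffCartierIdeal (I₁.comap σ) :=
    Groth.Agent.H9.isEffCartierIdeal_of_mul_left hprod
  have hc2 : BlowUp.IsEffCartierIdeal (I₂.comap σ) :=
    Groth.Agent.H9.isEffCartierIdeal_of_mul_right hprod
  obtain ⟨a₁, ha₁, -⟩ := hσ₁.2 B σ hc1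
  obtain ⟨a₂, ha₂, -⟩ := hσ₂.2 B σ hc2
  have hι : pullback.lift a₁ a₂ (ha₁.trans ha₂.symm) ≫ pullback.fst σ₁ σ₂ ≫ σ₁ = σ := by
    rw [pullback.lift_fst_assoc, ha₁]
  obtain ⟨ι, hιdef⟩ : ∃ ι : B ⟶ pullback σ₁ σ₂, ι = pullback.lift a₁ a₂ (ha₁.trans ha₂.symm) :=
    ⟨_, rfl⟩
  rw [← hιdef] at hι
  have sq : IsPullback (pullback.fst σ₁ σ₂) (pullback.snd σ₁ σ₂) σ₁ σ₂ :=
    IsPullback.of_hasPullback σ₁ σ₂
  have hP1 : BlowUp.IsEffCartierIdeal (I₁.comap (pullback.fst σ₁ σ₂ ≫ σ₁)) :=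
    key I₁ I₂ σ₁ σ₂ _ _ sq hσ₁.1 hσ₂ hsupp
  have hP2 : BlowUp.IsEffCartierIdeal (I₂.comap (pullback.fst σ₁ σ₂ ≫ σ₁)) := by
    have := key I₂ I₁ σ₂ σ₁ _ _ sq.flip hσ₂.1 hσ₁ (fun x h2 h1 => hsupp x h1 h2)
    rw [← pullback.condition] at this
    exact this
  have hPprod : BlowUp.IsEffCartierIdeal ((I₁ ⊓ I₂).comap (pullback.fst σ₁ σ₂ ≫ σ₁)) := by
    rw [hmul, Groth.Agent.H9.comap_mul]
    exact Groth.Agent.H9.isEffCartierIdeal_mul hP1 hP2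
  obtain ⟨b, hb, -⟩ := hσ.2 _ (pullback.fst σ₁ σ₂ ≫ σ₁) hPprod
  have h1 : ι ≫ b = 𝟙 B := by
    obtain ⟨u, -, hu⟩ := hσ.2 B σ hσ.1
    rw [hu (ι ≫ b) (by beta_reduce; rw [Category.assoc, hb, hι]), hu (𝟙 B) (by beta_reduce; rw [Category.id_comp])]
  have h2 : b ≫ ι = 𝟙 _ := by
    apply pullback.hom_ext
    · obtain ⟨u, -, hu⟩ := hσ₁.2 _ (pullback.fst σ₁ σ₂ ≫ σ₁) hP1
      rw [hu ((b ≫ ι) ≫ pullback.fst σ₁ σ₂) (by beta_reduce; rw [Category.assoc, Category.assoc, hι, hb]),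
        hu (𝟙 _ ≫ pullback.fst σ₁ σ₂) (by beta_reduce; rw [Category.id_comp])]
    · obtain ⟨u, -, hu⟩ := hσ₂.2 _ (pullback.fst σ₁ σ₂ ≫ σ₁) hP2
      rw [hu ((b ≫ ι) ≫ pullback.snd σ₁ σ₂)
          (by beta_reduce; rw [Category.assoc, Category.assoc, ← pullback.condition, hι, hb]),
        hu (𝟙 _ ≫ pullback.snd σ₁ σ₂) (by beta_reduce; rw [Category.id_comp, ← pullback.condition])]
  haveI : IsIso ι := ⟨b, h1, h2⟩
  exact ⟨ι, inferInstance, hι⟩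

end Groth.Agent.S17083
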