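import Groth.Statements.S17084
import Mathlib

set_option autoImplicit false
universe u
open CategoryTheory CategoryTheory.Limits AlgebraicGeometry
open MorSch

namespace Groth.Agent.S17084

/-- Let (X_i)_{i ∈ ι} be a finite family of schemes over S with structure morphisms g_i : X_i → S, let Y
→ S be a scheme over S and T an S-scheme. Then for every family of S-morphisms a_i : T ×_S X_i → Y
there is a unique S-morphism b : T ×_S (∐_i X_i) → Y whose restriction along each T ×_S X_i → T ×_S
(∐_i X_i) is a_i. In other words the canonical map Mor_S(∐_i X_i, Y) → ∏_i Mor_S(X_i, Y) of functors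
on S-schemes is an isomorphism. -/
theorem result
    {S Y : Scheme.{u}} {ι : Type u} [Finite ι] (X : ι → Scheme.{u}) (g : ∀ i, X i ⟶ S)
    (gY : Y ⟶ S) (T : Over S) (a : ∀ i, (Flatn.morS (g i) gY).obj (Opposite.op T)) :
    ∃! b : (Flatn.morS (Sigma.desc g) gY).obj (Opposite.op T),
      ∀ i, pullback.map T.hom (g i) T.hom (Sigma.desc g) (𝟙 T.left) (Sigma.ι X i) (𝟙 S)
          ((Category.comp_id _).trans (Category.id_comp _).symm)
          ((Category.comp_id _).trans (Sigma.ι_desc g i).symm) ≫ b.left = (a i).left := by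
  classical
  have hVK := (FinitaryExtensive.isVanKampen_finiteCoproducts
    (coproductIsCoproduct X)).isUniversal
  let ι' : ∀ i, pullback T.hom (g i) ⟶ pullback T.hom (Sigma.desc g) := fun i =>
    pullback.map T.hom (g i) T.hom (Sigma.desc g) (𝟙 T.left) (Sigma.ι X i) (𝟙 S)
      ((Category.comp_id _).trans (Category.id_comp _).symm)
      ((Category.comp_id _).trans (Sigma.ι_desc g i).symm)
  have hfst : ∀ i, ι' i ≫ pullback.fst T.hom (Sigma.desc g) = pullback.fst T.hom (g i) := by
    intro i
    simp only [ι']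
    rw [pullback.lift_fst, Category.comp_id]
  have hsnd : ∀ i, ι' i ≫ pullback.snd T.hom (Sigma.desc g) =
      pullback.snd T.hom (g i) ≫ Sigma.ι X i := by
    intro i
    simp only [ι']
    rw [pullback.lift_snd]
  let c' : Cofan (fun i => pullback T.hom (g i)) := Cofan.mk (pullback T.hom (Sigma.desc g)) ι'
  have hc' : IsColimit c' := by
    refine (hVK c' (Discrete.natTrans fun i => pullback.snd T.hom (g i.as))
      (pullback.snd T.hom (Sigma.desc g)) ?_ (.of_discrete _) ?_).some
    · ext ⟨i⟩
      simp only [NatTrans.comp_app, Discrete.natTrans_app, Functor.const_map_app]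
      exact (hsnd i).symm
    · rintro ⟨i⟩
      refine IsPullback.of_right (h₁₂ := pullback.fst T.hom (Sigma.desc g)) (v₁₃ := T.hom)
        (h₂₂ := Sigma.desc g) ?_ (hsnd i) (IsPullback.of_hasPullback _ _)
      have h1 : c'.ι.app ⟨i⟩ ≫ pullback.fst T.hom (Sigma.desc g) = pullback.fst T.hom (g i) :=
        hfst i
      have h2 : (Cofan.mk (∐ X) (Sigma.ι X)).ι.app ⟨i⟩ ≫ Sigma.desc g = g i := Sigma.ι_desc g i
      rw [h1, h2]
      exact IsPullback.of_hasPullback _ _
  have hinj : ∀ i, c'.inj i = ι' i := fun i => rfl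
  have hw : Cofan.IsColimit.desc hc' (fun i => (a i).left) ≫ gY =
      pullback.snd T.hom (Sigma.desc g) ≫ Sigma.desc g := by
    refine Cofan.IsColimit.hom_ext hc' _ _ (fun i => ?_)
    rw [Cofan.IsColimit.fac_assoc, hinj, ← Category.assoc, hsnd, Category.assoc, Sigma.ι_desc]
    exact Over.w (a i)
  refine ⟨Over.homMk (Cofan.IsColimit.desc hc' (fun i => (a i).left)) hw, ?_, ?_⟩
  · intro i
    exact Cofan.IsColimit.fac hc' _ i
  · intro b' hb'
    apply Over.OverMorphism.ext
    refine Cofan.IsColimit.hom_ext hc' _ _ (fun i => ?_)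
    rw [hinj]
    refine (hb' i).trans ?_
    exact (Cofan.IsColimit.fac hc' (fun i => (a i).left) i).symm

end Groth.Agent.S17084
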