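import Groth.Statements.S17086
import Groth.Agent.H73.ProjLine

set_option autoImplicit false
universe u
open CategoryTheory CategoryTheory.Limits AlgebraicGeometry
open RatCurve

namespace Groth.Agent.S17086

open CategoryTheory CategoryTheory.Limits AlgebraicGeometry

/-- On an irreducible scheme covered by spectra of principal ideal domains, an ideal sheaf whose
support is not the whole space is effective Cartier. -/
theorem isEffCartier_of_pid {P : Scheme.{u}} [IrreducibleSpace P]
    (hP : ∀ x : P, ∃ (R : Type u) (_ : CommRing R) (_ : IsDomain R) (_ : IsPrincipalIdealRing R)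
      (j : Spec (CommRingCat.of R) ⟶ P) (_ : IsOpenImmersion j), x ∈ Set.range j.base)
    (𝓘 : P.IdealSheafData) (h𝓘 : (𝓘.support : Set P) ≠ Set.univ) :
    BlowUp.IsEffCartierIdeal 𝓘 := by
  intro x
  obtain ⟨R, _, _, _, j, _, y, hy⟩ := hP x
  have hU : IsAffineOpen (j ''ᵁ ⊤) :=
    (isAffineOpen_top (Spec (CommRingCat.of R))).image_of_isOpenImmersion j
  have hxU : x ∈ j ''ᵁ ⊤ := ⟨y, trivial, hy⟩
  refine ⟨⟨j ''ᵁ ⊤, hU⟩, hxU, ?_⟩
  let e : Γ(P, j ''ᵁ ⊤) ≃+* R :=
    ((j.appIso ⊤) ≪≫ Scheme.ΓSpecIso (CommRingCat.of R)).commRingCatIsoToRingEquiv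
  haveI : IsDomain Γ(P, j ''ᵁ ⊤) := MulEquiv.isDomain R e.toMulEquiv
  haveI : IsPrincipalIdealRing Γ(P, j ''ᵁ ⊤) :=
    IsPrincipalIdealRing.of_surjective e.symm.toRingHom e.symm.surjective
  obtain ⟨g, hg⟩ := (IsPrincipalIdealRing.principal (𝓘.ideal ⟨j ''ᵁ ⊤, hU⟩)).principal
  refine ⟨g, ?_, hg⟩
  apply mem_nonZeroDivisors_of_ne_zero
  rintro rfl
  apply h𝓘
  have hsub : ((j ''ᵁ ⊤ : P.Opens) : Set P) ⊆ 𝓘.support := by
    intro z hz
    rw [SetLike.mem_coe,
      Scheme.IdealSheafData.mem_support_iff_of_mem (U := ⟨j ''ᵁ ⊤, hU⟩) hz,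
      Scheme.mem_zeroLocus_iff]
    intro f hf
    rw [SetLike.mem_coe, hg] at hf
    have hf0 : f = 0 := by simpa using hf
    rw [hf0, Scheme.basicOpen_zero]
    exact fun h => h
  have hdense : Dense ((j ''ᵁ ⊤ : P.Opens) : Set P) :=
    (j ''ᵁ ⊤).isOpen.dense ⟨x, hxU⟩
  have h1 : closure (𝓘.support : Set P) = Set.univ := (hdense.mono hsub).closure_eq
  rw [𝓘.support.isClosed.closure_eq] at h1
  exact h1

/-- Let k be an algebraically closed field, X a closed subscheme of P^n_k, Z ⊆ X a closed subscheme and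
σ : B → X a blow-up of X along Z (the inverse image ideal of Z is effective Cartier and σ is final
with this property). Then every k-morphism f : P^1_k → X whose image is not contained in Z lifts
uniquely along σ: there is exactly one morphism g : P^1_k → B with g ≫ σ = f. Equivalently, over the
open locus of morphisms meeting X ∖ Z, the morphism Mor(P^1_k, B) → Mor(P^1_k, X) induced by σ is a
bijection on k-points. -/
theorem result
    {k : Type u} [Field k] [IsAlgClosed k] {n : ℕ} (X : Scheme.{u})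
    (c : X ⟶ CohB1.ProjSpace n k) [IsClosedImmersion c]
    (Z : Scheme.{u}) (iZ : Z ⟶ X) [IsClosedImmersion iZ]
    (B : Scheme.{u}) (σ : B ⟶ X) (hσ : BlowUp.IsBlowUp σ iZ.ker)
    (f : CohB1.ProjSpace 1 k ⟶ X)
    (hf : f ≫ c ≫ CohB1.ProjSpace.toSpec n k = CohB1.ProjSpace.toSpec 1 k)
    (hfZ : ¬ Set.range f ⊆ Set.range iZ) :
    ∃! g : CohB1.ProjSpace 1 k ⟶ B, g ≫ σ = f := by
  classical
  apply hσ.2
  haveI : IrreducibleSpace (CohB1.ProjSpace 1 k) :=
    (inferInstance : IrreducibleSpace (Groth.Agent.H73.ProjLine.P1 k))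
  apply isEffCartier_of_pid
  · intro x
    obtain ⟨i, hi⟩ := Groth.Agent.H73.ProjLine.exists_chart k (x : Groth.Agent.H73.ProjLine.P1 k)
    have hc : IsOpenImmersion (Groth.Agent.H73.ProjLine.chart k i) := inferInstance
    exact ⟨Groth.Agent.H73.ProjLine.Ch k i, inferInstance, inferInstance, inferInstance,
      Groth.Agent.H73.ProjLine.chart k i, hc, hi⟩
  · intro h
    apply hfZ
    rintro _ ⟨y, rfl⟩
    have hy : y ∈ ((iZ.ker.comap f).support : Set _) := h ▸ Set.mem_univ y
    rw [Scheme.IdealSheafData.support_comap] at hy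
    have hy' : f y ∈ (iZ.ker.support : Set X) := hy
    rw [Scheme.Hom.support_ker, iZ.isClosedEmbedding.isClosed_range.closure_eq] at hy'
    exact hy'

end Groth.Agent.S17086
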