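import Groth.Statements.S17087
import Groth.Agent.S17076
import Groth.Agent.S17082
import Groth.Agent.H85.IsoLocGeo
import Groth.Agent.H85.MorHilbDefs
import Groth.Agent.H22.MorHilb_MB
import Groth.Agent.H22.MorHilb_MA

set_option autoImplicit false
universe u
open CategoryTheory CategoryTheory.Limits AlgebraicGeometry
open MorSch

namespace Groth.Agent.S17087

open Groth.Agent.H85.MorHilb Groth.Agent.H22.MorHilbMA Groth.Agent.H22.MorHilbMB

section conn

theorem isIso_iff_of_isPullback {C : Type*} [Category C] {Q₁ Q₂ W T₁ T₂ B : C} {b₁ : Q₁ ⟶ T₁}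
    {a₁ : Q₁ ⟶ W} {r₁ : T₁ ⟶ B} {p : W ⟶ B} {b₂ : Q₂ ⟶ T₂} {a₂ : Q₂ ⟶ W} {r₂ : T₂ ⟶ B}
    (sq₁ : IsPullback b₁ a₁ r₁ p) (sq₂ : IsPullback b₂ a₂ r₂ p) (ε : T₂ ≅ T₁)
    (hε : ε.hom ≫ r₁ = r₂) : IsIso b₁ ↔ IsIso b₂ := by
  have sqε : IsPullback ε.hom r₂ r₁ (𝟙 B) :=
    IsPullback.of_horiz_isIso ⟨by rw [hε, Category.comp_id]⟩
  have sq₂' : IsPullback (b₂ ≫ ε.hom) a₂ r₁ (p ≫ 𝟙 B) := sq₂.paste_horiz sqε
  rw [Category.comp_id] at sq₂'
  have hγ : (sq₂'.isoIsPullback _ _ sq₁).hom ≫ b₁ = b₂ ≫ ε.hom :=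
    sq₂'.isoIsPullback_hom_fst _ _ sq₁
  constructor
  · intro h
    have : IsIso (b₂ ≫ ε.hom) := by rw [← hγ]; infer_instance
    exact IsIso.of_isIso_comp_right b₂ ε.hom
  · intro h
    have : IsIso ((sq₂'.isoIsPullback _ _ sq₁).hom ≫ b₁) := by rw [hγ]; infer_instance
    exact IsIso.of_isIso_comp_left (sq₂'.isoIsPullback _ _ sq₁).hom b₁

variable {X Y S : Scheme.{u}} (gX : X ⟶ S) (gY : Y ⟶ S)

/-- `T ×_S X ⟶ H ×_S X` induced by `g : T ⟶ H`. -/
noncomputable def TXmap {H T : Over S} (g : T ⟶ H) : pullback T.hom gX ⟶ pullback H.hom gX :=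
  pullback.map T.hom gX H.hom gX g.left (𝟙 X) (𝟙 S) (by simp [Over.w g]) (by simp)

theorem TXmap_fst {H T : Over S} (g : T ⟶ H) :
    TXmap gX g ≫ pullback.fst H.hom gX = pullback.fst T.hom gX ≫ g.left := by
  unfold TXmap
  rw [pullback.lift_fst]

theorem TXmap_snd {H T : Over S} (g : T ⟶ H) :
    TXmap gX g ≫ pullback.snd H.hom gX = pullback.snd T.hom gX := by
  unfold TXmap
  rw [pullback.lift_snd]
  exact Category.comp_id _

theorem isPullback_TXmap {H T : Over S} (g : T ⟶ H) :
    IsPullback (TXmap gX g) (pullback.fst T.hom gX) (pullback.fst H.hom gX) g.left := by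
  refine IsPullback.of_right ?_ (TXmap_fst gX g) (IsPullback.of_hasPullback H.hom gX).flip
  rw [TXmap_snd, Over.w g]
  exact (IsPullback.of_hasPullback T.hom gX).flip

theorem q_TXmap {H T : Over S} (g : T ⟶ H) :
    q gX gY T ≫ TXmap gX g = PicF.XTmap (pullback.fst gX gY ≫ gX) g ≫ q gX gY H := by
  apply pullback.hom_ext
  · rw [Category.assoc, TXmap_fst, q_fst_assoc, Category.assoc, q_fst,
      Groth.Agent.S17082.XTmap_snd]
  · rw [Category.assoc, TXmap_snd, q_snd, Category.assoc, q_snd, ← Category.assoc,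
      Groth.Agent.S17082.XTmap_fst]

theorem isPullback_q {H T : Over S} (g : T ⟶ H) :
    IsPullback (q gX gY T) (PicF.XTmap (pullback.fst gX gY ≫ gX) g) (TXmap gX g)
      (q gX gY H) := by
  refine IsPullback.of_right ?_ (q_TXmap gX gY g) (isPullback_TXmap gX g).flip
  rw [q_fst, q_fst]
  exact (Groth.Agent.S17082.isPullback_XTmap (pullback.fst gX gY ≫ gX) g).flip

theorem isIso_map_iff {H T : Over S} (g : T ⟶ H)
    (I : (PicF.XT (pullback.fst gX gY ≫ gX) H).IdealSheafData)
    (p : (Over.mk (I.subschemeι ≫ PicF.XTproj (pullback.fst gX gY ≫ gX) H) : Over H.left) ⟶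
      Over.mk (pullback.fst H.hom gX))
    (hp : p.left = I.subschemeι ≫ q gX gY H) :
    IsIso ((Over.pullback g.left).map p).left ↔
      IsIso ((FGA.hilbPull (pullback.fst gX gY ≫ gX) g I).subschemeι ≫ q gX gY T) := by
  have sqA := Groth.Agent.H85.IsoLocGeo.isPullback_map_left p g.left
  rw [hp] at sqA
  have sqB : IsPullback
      (pullback.snd I.subschemeι (PicF.XTmap (pullback.fst gX gY ≫ gX) g) ≫ q gX gY T)
      (pullback.fst I.subschemeι (PicF.XTmap (pullback.fst gX gY ≫ gX) g)) (TXmap gX g)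
      (I.subschemeι ≫ q gX gY H) :=
    (IsPullback.of_hasPullback I.subschemeι
      (PicF.XTmap (pullback.fst gX gY ≫ gX) g)).flip.paste_horiz (isPullback_q gX gY g)
  have hε := (isPullback_TXmap gX g).isoPullback_hom_fst
  have h1 := isIso_iff_of_isPullback sqA sqB (isPullback_TXmap gX g).isoPullback hε
  rw [h1]
  have hker : FGA.hilbPull (pullback.fst gX gY ≫ gX) g I =
      (pullback.snd I.subschemeι (PicF.XTmap (pullback.fst gX gY ≫ gX) g)).ker := rfl
  rw [hker]
  have hc : (pullback.snd I.subschemeι (PicF.XTmap (pullback.fst gX gY ≫ gX) g)).toImage ≫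
      ((pullback.snd I.subschemeι (PicF.XTmap (pullback.fst gX gY ≫ gX) g)).ker.subschemeι ≫
        q gX gY T) =
      pullback.snd I.subschemeι (PicF.XTmap (pullback.fst gX gY ≫ gX) g) ≫ q gX gY T := by
    rw [← Category.assoc]
    congr 1
    exact Scheme.Hom.toImage_imageι _
  rw [← hc, isIso_comp_left_iff]

end conn

/-- Let S be a locally Noetherian scheme, gX : X → S proper and flat, gY : Y → S separated, and (H, Z) a
pair representing the Hilbert functor of X ×_S Y over S on locally Noetherian S-schemes (H locally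
Noetherian; Z ⊆ (X ×_S Y) ×_S H closed, proper and flat over H; universal). For an S-morphism a : T
×_S X → Y write Γ_a : T ×_S X → (X ×_S Y) ×_S T for its graph, a closed immersion. Then there is an
open subset H₀ of H such that, for every locally Noetherian S-scheme T: every S-morphism a : T ×_S X
→ Y has exactly one S-morphism g : T → H with image in H₀ along which Z pulls back to the closed
subscheme defined by Γ_a; and every S-morphism g : T → H with image in H₀ pulls Z back to the graph
of exactly one such a. Thus the functor Mor_S(X, Y) on locally Noetherian S-schemes is represented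
by the open subscheme H₀ of the Hilbert scheme of X ×_S Y, the universal family being a graph.
(Published for X and Y projective over S, with X flat; the Hilbert scheme is taken as given here.
The published statement also asserts that each irreducible component of the representing scheme is
of finite type over S; that clause is not part of this row.) -/
theorem result
    {X Y S : Scheme.{u}} [IsLocallyNoetherian S] (gX : X ⟶ S) [IsProper gX] [Flat gX]
    (gY : Y ⟶ S) [IsSeparated gY]
    (H : Over S) (Z : FGA.HilbSet (pullback.fst gX gY ≫ gX) H)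
    (hH : FGA.HilbRepresentedBy (pullback.fst gX gY ≫ gX) H Z) :
    ∃ H₀ : H.left.Opens, ∀ (T : Over S) [IsLocallyNoetherian T.left],
      (∀ a : (Flatn.morS gX gY).obj (Opposite.op T),
        ∃! g : T ⟶ H, Set.range g.left ⊆ (H₀ : Set H.left) ∧
          FGA.hilbPull (pullback.fst gX gY ≫ gX) g Z.1 =
            (pullback.lift
              (pullback.lift (pullback.snd T.hom gX) a.left (Over.w a).symm)
              (pullback.fst T.hom gX)
              ((pullback.lift_fst_assoc _ _ _ _).trans pullback.condition.symm)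
              : pullback T.hom gX ⟶ PicF.XT (pullback.fst gX gY ≫ gX) T).ker) ∧
      (∀ g : T ⟶ H, Set.range g.left ⊆ (H₀ : Set H.left) →
        ∃! a : (Flatn.morS gX gY).obj (Opposite.op T),
          FGA.hilbPull (pullback.fst gX gY ≫ gX) g Z.1 =
            (pullback.lift
              (pullback.lift (pullback.snd T.hom gX) a.left (Over.w a).symm)
              (pullback.fst T.hom gX)
              ((pullback.lift_fst_assoc _ _ _ _).trans pullback.condition.symm)
              : pullback T.hom gX ⟶ PicF.XT (pullback.fst gX gY ≫ gX) T).ker) := by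
  classical
  haveI : IsLocallyNoetherian H.left := hH.1
  haveI : IsProper (Over.mk (Z.1.subschemeι ≫
      PicF.XTproj (pullback.fst gX gY ≫ gX) H) : Over H.left).hom := Z.2.1
  haveI : Flat (Over.mk (Z.1.subschemeι ≫
      PicF.XTproj (pullback.fst gX gY ≫ gX) H) : Over H.left).hom := Z.2.2
  haveI : IsProper (Over.mk (pullback.fst H.hom gX) : Over H.left).hom :=
    (inferInstance : IsProper (pullback.fst H.hom gX))
  obtain ⟨p, hp⟩ : ∃ p : (Over.mk (Z.1.subschemeι ≫
      PicF.XTproj (pullback.fst gX gY ≫ gX) H) : Over H.left) ⟶ Over.mk (pullback.fst H.hom gX),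
      p.left = Z.1.subschemeι ≫ q gX gY H :=
    ⟨Over.homMk (Z.1.subschemeι ≫ q gX gY H) (by
      show (Z.1.subschemeι ≫ q gX gY H) ≫ pullback.fst H.hom gX =
        Z.1.subschemeι ≫ PicF.XTproj (pullback.fst gX gY ≫ gX) H
      rw [Category.assoc, q_fst]), rfl⟩
  obtain ⟨H₀, hH₀⟩ := Groth.Agent.S17076.result _ _ p
  refine ⟨H₀, fun T _ => ⟨fun a => ?_, fun g hg => ?_⟩⟩
  · have hmem := graph_ker_proper_flat gX gY T a.left (Over.w a).symm
    obtain ⟨g, hg, huniq⟩ := hH.2 T ⟨(graph gX gY T a.left (Over.w a).symm).ker, hmem⟩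
    have hg' : FGA.hilbPull (pullback.fst gX gY ≫ gX) g Z.1 =
        (graph gX gY T a.left (Over.w a).symm).ker := hg
    refine ⟨g, ⟨?_, hg'⟩, fun g' hg'' => huniq g' hg''.2⟩
    exact (hH₀ T.left g.left).mpr ((isIso_map_iff gX gY g Z.1 p hp).mpr
      (isIso_subschemeι_q_of_eq_ker gX gY T a.left (Over.w a).symm _ hg'))
  · have h1 : IsIso ((FGA.hilbPull (pullback.fst gX gY ≫ gX) g Z.1).subschemeι ≫ q gX gY T) :=
      (isIso_map_iff gX gY g Z.1 p hp).mp ((hH₀ T.left g.left).mp hg)
    obtain ⟨a₀, ha₀, hI⟩ := exists_eq_graph_ker gX gY T _ h1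
    refine ⟨(Over.homMk a₀ ha₀.symm :
      (Over.map gX).obj ((Over.pullback gX).obj T) ⟶ Over.mk gY), hI, fun a' ha' => ?_⟩
    have h2 : (a' : (Over.map gX).obj ((Over.pullback gX).obj T) ⟶ Over.mk gY).left = a₀ :=
      graph_ker_injective gX gY T a'.left a₀ (Over.w a').symm ha₀ (ha'.symm.trans hI)
    exact Over.OverMorphism.ext h2

end Groth.Agent.S17087
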