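import Groth.Statements.S1709
import Groth.Agent.H8.WeakAssPush

set_option autoImplicit false
universe u
open CategoryTheory CategoryTheory.Limits AlgebraicGeometry TopologicalSpace
open SDiv

namespace Groth.Agent.S1709

open Groth.Agent.H8 in
lemma image_ass_subset {X S : Scheme.{u}} (f : X ⟶ S) [IsAffineHom f] [IsLocallyNoetherian X]
    (F : X.Modules) [F.IsQuasicoherent] (x : X) (hx : Curv2.IsAssPoint F x) :
    Curv2.IsAssPoint ((Scheme.Modules.pushforward f).obj F) (f x) := by
  haveI := isQuasicoherent_pushforward f F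
  obtain ⟨_, ⟨V, hV, rfl⟩, hfxV, -⟩ := S.isBasis_affineOpens.exists_subset_of_mem_open
    (Set.mem_univ (f x)) isOpen_univ
  have hW : IsAffineOpen (f ⁻¹ᵁ V) := hV.preimage f
  haveI : IsNoetherianRing Γ(X, f ⁻¹ᵁ V) := IsLocallyNoetherian.component_noetherian ⟨_, hW⟩
  rw [isAssPoint_iff_isAssociatedPrime hW F x hfxV] at hx
  have h1 := isAssociatedPrime_comap_compHom (f.app V).hom hx
  have h2 := primeIdealOf_map f hV hW le_rfl x hfxV
  rw [f.appLE_eq_app] at h2
  refine isAssPoint_of_isAssociatedPrime hV _ (f x) hfxV ?_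
  rw [h2]
  exact h1


/-- Let f : X ⟶ S be an affine morphism with X locally Noetherian and F a quasi-coherent module on X.
Then the following subsets of S coincide: the image of the associated points of F, the associated
points of f_* F, the weakly associated points of f_* F, and the image of the weakly associated
points of F. -/
theorem result {X S : Scheme.{u}} (f : X ⟶ S) [IsAffineHom f] [IsLocallyNoetherian X] (F : X.Modules)
    (hF : Coh.IsQCoh F) :
    (fun x => f x) '' {x : ↥X | Curv2.IsAssPoint F x} = {s : ↥S | Curv2.IsAssPoint ((Scheme.Modules.pushforward f).obj F) s} ∧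
      {s : ↥S | Curv2.IsAssPoint ((Scheme.Modules.pushforward f).obj F) s} =
        {s : ↥S | Curv2.IsWeakAssPoint ((Scheme.Modules.pushforward f).obj F) s} ∧
      {s : ↥S | Curv2.IsWeakAssPoint ((Scheme.Modules.pushforward f).obj F) s} =
        (fun x => f x) '' {x : ↥X | Curv2.IsWeakAssPoint F x} := by
  haveI : F.IsQuasicoherent := hF
  have hA : ∀ s : S, Curv2.IsAssPoint ((Scheme.Modules.pushforward f).obj F) s →
      ∃ x, Curv2.IsAssPoint F x ∧ f x = s := fun s hs => by
    obtain ⟨x, hx, hxw⟩ := Groth.Agent.H8.exists_isWeakAssPoint_of_isWeakAssPoint_pushforward f F s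
      ((Groth.Agent.H8.isAssPoint_iff_isWeakAssPoint _ s).mp hs)
    exact ⟨x, (Groth.Agent.H8.isAssPoint_iff_isWeakAssPoint F x).mpr hxw, hx⟩
  refine ⟨?_, ?_, ?_⟩
  · apply Set.Subset.antisymm
    · rintro _ ⟨x, hx, rfl⟩
      exact image_ass_subset f F x hx
    · intro s hs
      obtain ⟨x, hx, hxs⟩ := hA s hs
      exact ⟨x, hx, hxs⟩
  · ext s
    exact Groth.Agent.H8.isAssPoint_iff_isWeakAssPoint _ s
  · apply Set.Subset.antisymm
    · intro s hs
      obtain ⟨x, hx, hxs⟩ := hA s ((Groth.Agent.H8.isAssPoint_iff_isWeakAssPoint _ s).mpr hs)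
      exact ⟨x, (Groth.Agent.H8.isAssPoint_iff_isWeakAssPoint F x).mp hx, hxs⟩
    · rintro _ ⟨x, hx, rfl⟩
      exact (Groth.Agent.H8.isAssPoint_iff_isWeakAssPoint _ _).mp
        (image_ass_subset f F x ((Groth.Agent.H8.isAssPoint_iff_isWeakAssPoint F x).mpr hx))

end Groth.Agent.S1709
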