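import Groth.Statements.S17141
import Groth.Agent.H85.IsocOrd
import Mathlib.Analysis.Subadditive

set_option autoImplicit false
universe u v
open Isoc

namespace Groth.Agent.S17141

open Groth.Agent.H85 in
/-- Let k be a perfect field of characteristic p, a ∈ ℤ, W = W(k) with fraction field L, and (N, F) a
σ^a-F-isocrystal over k (N finite-dimensional over L, F a bijective σ^a-semilinear endomorphism),
with N ≠ 0, and let M be any W-lattice in N. Then for every n ≥ 1 the order ord_M(F^n) (the largest
r with F^n(M) ⊆ p^r M) is defined, say o(n), and the limit of o(n)/n as n → ∞ exists in ℝ. -/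
theorem result (p : ℕ) [Fact p.Prime] (k : Type u) [Field k] [CharP k p] [PerfectRing k p] (a : ℤ)
    (N : Type v) [AddCommGroup N] [Module (WittVector p k) N] [Module (FractionRing (WittVector p k)) N]
    [IsScalarTower (WittVector p k) (FractionRing (WittVector p k)) N]
    [Nontrivial N] (F : N →ₛₗ[Isoc.frob p k a] N) (hF : Isoc.IsIsoc F)
    (M : Submodule (WittVector p k) N) (hM : M.IsLattice (FractionRing (WittVector p k))) :
    ∃ o : ℕ → ℤ, (∀ n : ℕ, 1 ≤ n → Isoc.IsOrd M F n (o n)) ∧
      ∃ lam : ℝ, Filter.Tendsto (fun n : ℕ => (o n : ℝ) / n) Filter.atTop (nhds lam) := by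
  have hτ : PresW (Isoc.frob p k a) := presW_frob a
  have hne : M ≠ ⊥ := by
    rintro rfl
    have h := hM.span_eq_top
    rw [Submodule.bot_coe, Submodule.span_singleton_eq_bot.mpr rfl] at h
    obtain ⟨x, hx⟩ := exists_ne (0 : N)
    have : x ∈ (⊥ : Submodule (FractionRing (WittVector p k)) N) := by rw [h]; trivial
    exact hx ((Submodule.mem_bot _).mp this)
  choose o ho using exists_isOrd hτ F hF.bijective.injective M hM hne
  refine ⟨o, fun n _ => ho n, ?_⟩
  have hsuper : ∀ m n : ℕ, o m + o n ≤ o (m + n) := fun m n =>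
    le_of_isOrd F M (m + n) (o (m + n)) (o m + o n) (ho (m + n))
      (latImg_le_pPow_comp F m n (o m) (o n) M (ho m).1 (ho n).1)
  obtain ⟨c, hc⟩ := exists_pPow_le_latImg_one hτ F hF.bijective.surjective M hM
  have hupper : ∀ n : ℕ, o n ≤ (c : ℤ) * n := fun n =>
    (pPow_le_pPow_iff_le M hM.fg hne _ _).mp ((pPow_mul_le_latImg hτ F M c hc n).trans (ho n).1)
  have hsub : Subadditive (fun n : ℕ => -(o n : ℝ)) := by
    intro m n
    have := hsuper m n
    have h' : ((o m + o n : ℤ) : ℝ) ≤ (o (m + n) : ℝ) := by exact_mod_cast this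
    push_cast at h'
    linarith
  have hbdd : BddBelow (Set.range fun n : ℕ => -(o n : ℝ) / n) := by
    refine ⟨-(c : ℝ), ?_⟩
    rintro _ ⟨n, rfl⟩
    rcases Nat.eq_zero_or_pos n with rfl | hn
    · simp
    · have hnR : (0 : ℝ) < n := by exact_mod_cast hn
      rw [le_div_iff₀ hnR]
      have := hupper n
      have h' : (o n : ℝ) ≤ ((c : ℤ) * n : ℤ) := by exact_mod_cast this
      push_cast at h'
      linarith
  refine ⟨-hsub.lim, ?_⟩
  have := (hsub.tendsto_lim hbdd).neg
  refine this.congr ?_
  intro n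
  ring

end Groth.Agent.S17141
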