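import Groth.Statements.S17139
import Groth.Agent.H85.IsocDet
import Groth.Agent.S17141

set_option autoImplicit false
universe u v
open Isoc

namespace Groth.Agent.S17139

open Groth.Agent.H85 in
/-- Let k be a perfect field of characteristic p, a ∈ ℤ, and (N, F) a non-zero σ^a-F-isocrystal over k
of height h, with b an L-basis of N indexed by Fin h and d the p-adic order of the determinant
coefficient of F in the basis b. If M is a W(k)-lattice in N and r ∈ ℤ, s > 0 satisfy F^s(M) = p^r ·
M, then the first Newton slope λ₁(N, F) equals r/s, and r · h = s · d. (The published statement adds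
that F^h(M) = p^d · M for the same lattice M; that clause is not established by the published proof
and fails when gcd(r, s) ≠ 1 — for a = 0, N = L², M = W², F with matrix rows (p, 1), (0, p) and p
odd one has F^p(M) = p^p · M, h = d = 2, but F²(M) ≠ p² · M — so it is omitted here; the converse
direction is a separate statement.) -/
theorem result (p : ℕ) [Fact p.Prime] (k : Type u) [Field k] [CharP k p] [PerfectRing k p] (a : ℤ)
    (N : Type v) [AddCommGroup N] [Module (WittVector p k) N] [Module (FractionRing (WittVector p k)) N]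
    [IsScalarTower (WittVector p k) (FractionRing (WittVector p k)) N]
    [Nontrivial N] (F : N →ₛₗ[Isoc.frob p k a] N) (hF : Isoc.IsIsoc F)
    (h : ℕ) (b : Module.Basis (Fin h) (FractionRing (WittVector p k)) N)
    (d : ℤ) (hd : Isoc.IsOrdP (Isoc.detCoeff b F) d)
    (M : Submodule (WittVector p k) N) (hM : M.IsLattice (FractionRing (WittVector p k)))
    (r : ℤ) (s : ℕ) (hs : 0 < s) (hFM : Isoc.latImg F s M = Isoc.pPow r M) :
    Isoc.IsFirstSlope F ((r : ℝ) / s) ∧ r * h = s * d := by
  refine ⟨?_, mul_height_eq_of_latImg_eq (presW_frob a) (surjW_frob a) b F d hd M hM s r hFM⟩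
  have hne : M ≠ ⊥ := by
    rintro rfl
    have h := hM.span_eq_top
    rw [Submodule.bot_coe, Submodule.span_singleton_eq_bot.mpr rfl] at h
    obtain ⟨x, hx⟩ := exists_ne (0 : N)
    have : x ∈ (⊥ : Submodule (FractionRing (WittVector p k)) N) := by rw [h]; trivial
    exact hx ((Submodule.mem_bot _).mp this)
  obtain ⟨o, ho, lam, hlam⟩ := Groth.Agent.S17141.result p k a N F hF M hM
  refine ⟨M, hM, o, ho, ?_⟩
  have hsub : ∀ j : ℕ, 1 ≤ j → o (s * j) = r * j := by
    intro j hj
    have h1 : IsOrd M F (s * j) (o (s * j)) := ho (s * j) (Nat.mul_pos hs hj)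
    have h2 : IsOrd M F (s * j) (r * j) := by
      have e := latImg_iterate_eq (presW_frob a) F M s r hFM j
      refine ⟨e.le, ?_⟩
      rw [e, pPow_le_pPow_iff_le M hM.fg hne]
      omega
    exact isOrd_unique F M (s * j) _ _ h1 h2
  have hmul : Filter.Tendsto (fun j : ℕ => s * j) Filter.atTop Filter.atTop :=
    Filter.tendsto_id.const_mul_atTop' hs
  have h1 := hlam.comp hmul
  have h2 : Filter.Tendsto ((fun n : ℕ => (o n : ℝ) / n) ∘ fun j : ℕ => s * j) Filter.atTop
      (nhds ((r : ℝ) / s)) := by
    refine tendsto_const_nhds.congr' ?_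
    filter_upwards [Filter.eventually_ge_atTop 1] with j hj
    have hjpos : (0 : ℝ) < j := by exact_mod_cast hj
    have hsR : (0 : ℝ) < s := by exact_mod_cast hs
    simp only [Function.comp_apply]
    rw [hsub j hj]
    push_cast
    field_simp
  have : lam = (r : ℝ) / s := tendsto_nhds_unique h1 h2
  rw [← this]
  exact hlam

end Groth.Agent.S17139
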