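import Groth.Statements.S17142
import Groth.Agent.H85.IsocBasic
import Mathlib.Analysis.SpecificLimits.Basic

set_option autoImplicit false
universe u v
open Isoc

namespace Groth.Agent.S17142

open Groth.Agent.H85 in
/-- Let k be a perfect field of characteristic p, a ∈ ℤ, W = W(k) with fraction field L, and (N, F) a
σ^a-F-isocrystal over k (N finite-dimensional over L, F a bijective σ^a-semilinear endomorphism).
Let M₁, M₂ be W-lattices in N and let o₁(n) = ord_{M₁}(F^n), o₂(n) = ord_{M₂}(F^n) for n ≥ 1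
(largest r with F^n(M_i) ⊆ p^r M_i). If o₁(n)/n → lam₁ and o₂(n)/n → lam₂ then lam₁ = lam₂; so the
limit defining the first Newton slope is independent of the chosen lattice. -/
theorem result (p : ℕ) [Fact p.Prime] (k : Type u) [Field k] [CharP k p] [PerfectRing k p] (a : ℤ)
    (N : Type v) [AddCommGroup N] [Module (WittVector p k) N] [Module (FractionRing (WittVector p k)) N]
    [IsScalarTower (WittVector p k) (FractionRing (WittVector p k)) N]
    (F : N →ₛₗ[Isoc.frob p k a] N) (hF : Isoc.IsIsoc F)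
    (M₁ M₂ : Submodule (WittVector p k) N) (hM₁ : M₁.IsLattice (FractionRing (WittVector p k))) (hM₂ : M₂.IsLattice (FractionRing (WittVector p k)))
    (o₁ o₂ : ℕ → ℤ) (ho₁ : ∀ n : ℕ, 1 ≤ n → Isoc.IsOrd M₁ F n (o₁ n))
    (ho₂ : ∀ n : ℕ, 1 ≤ n → Isoc.IsOrd M₂ F n (o₂ n)) (lam₁ lam₂ : ℝ)
    (h₁ : Filter.Tendsto (fun n : ℕ => (o₁ n : ℝ) / n) Filter.atTop (nhds lam₁))
    (h₂ : Filter.Tendsto (fun n : ℕ => (o₂ n : ℝ) / n) Filter.atTop (nhds lam₂)) :
    lam₁ = lam₂ := by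
  obtain ⟨c₁, hc₁⟩ := exists_pPow_le M₁ M₂ hM₁.fg hM₂.span_eq_top
  obtain ⟨c₂, hc₂⟩ := exists_pPow_le M₂ M₁ hM₂.fg hM₁.span_eq_top
  have hbound : ∀ n : ℕ, 1 ≤ n → |(o₁ n : ℝ) - o₂ n| ≤ (c₁ + c₂ : ℕ) := by
    intro n hn
    have a1 := le_of_isOrd F M₂ n (o₂ n) _ (ho₂ n hn)
      (latImg_le_of_commensurable F M₁ M₂ c₁ c₂ hc₁ hc₂ n (o₁ n) (ho₁ n hn).1)
    have a2 := le_of_isOrd F M₁ n (o₁ n) _ (ho₁ n hn)
      (latImg_le_of_commensurable F M₂ M₁ c₂ c₁ hc₂ hc₁ n (o₂ n) (ho₂ n hn).1)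
    rw [abs_le]
    constructor
    · have : (-(c₁ + c₂ : ℕ) : ℤ) ≤ o₁ n - o₂ n := by push_cast; omega
      exact_mod_cast this
    · have : o₁ n - o₂ n ≤ ((c₁ + c₂ : ℕ) : ℤ) := by push_cast; omega
      exact_mod_cast this
  have hdiff : Filter.Tendsto (fun n : ℕ => (o₁ n : ℝ) / n - (o₂ n : ℝ) / n) Filter.atTop
      (nhds (lam₁ - lam₂)) := h₁.sub h₂
  have hzero : Filter.Tendsto (fun n : ℕ => (o₁ n : ℝ) / n - (o₂ n : ℝ) / n) Filter.atTop
      (nhds 0) := by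
    rw [tendsto_zero_iff_abs_tendsto_zero]
    refine squeeze_zero' (Filter.Eventually.of_forall fun _ => abs_nonneg _) ?_
      (tendsto_const_div_atTop_nhds_zero_nat ((c₁ + c₂ : ℕ) : ℝ))
    filter_upwards [Filter.eventually_ge_atTop 1] with n hn
    have hnpos : (0 : ℝ) < n := by exact_mod_cast hn
    simp only [Function.comp_apply]
    rw [← sub_div, abs_div, abs_of_pos hnpos]
    exact div_le_div_of_nonneg_right (hbound n hn) hnpos.le
  have := tendsto_nhds_unique hdiff hzero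
  linarith

end Groth.Agent.S17142
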