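import Groth.Statements.S17143
import Groth.Agent.H85.IsocSlope
import Mathlib.Analysis.SpecificLimits.Basic

set_option autoImplicit false
universe u v
open Isoc

namespace Groth.Agent.S17143

open Groth.Agent.H85 in
/-- Let k be a perfect field of characteristic p, a ∈ ℤ, W = W(k) with fraction field L, and (N, F) a
σ^a-F-isocrystal over k (N finite-dimensional over L, F a bijective σ^a-semilinear endomorphism)
with first Newton slope λ₁(N, F) = lam. Then for m ∈ ℤ and n ∈ ℕ the twisted iterate (N, p^m F^n), a
σ^(an)-F-isocrystal, has first Newton slope n · lam + m. (The published statement allows every n ∈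
ℤ, with F^n the inverse iterate for n < 0; that case is false in general, since the first slope of
(N, F⁻¹) is minus the LARGEST slope of (N, F): for N = N_0 ⊕ N_1, the sum of the standard
isocrystals of slopes 0 and 1, λ₁(N, F) = 0 while λ₁(N, F⁻¹) = −1. Only n ≥ 0 is stated here.) -/
theorem result (p : ℕ) [Fact p.Prime] (k : Type u) [Field k] [CharP k p] [PerfectRing k p] (a : ℤ)
    (N : Type v) [AddCommGroup N] [Module (WittVector p k) N] [Module (FractionRing (WittVector p k)) N]
    [IsScalarTower (WittVector p k) (FractionRing (WittVector p k)) N]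
    (F : N →ₛₗ[Isoc.frob p k a] N) (hF : Isoc.IsIsoc F) (lam : ℝ) (hlam : Isoc.IsFirstSlope F lam) (m : ℤ) (n : ℕ) :
    Isoc.IsFirstSlope ((p : (FractionRing (WittVector p k))) ^ m • Isoc.iter F n) (n * lam + m) := by
  obtain ⟨M, hM, o, ho, hlim⟩ := hlam
  have hne : M ≠ ⊥ := ne_bot_of_isOrd F M 1 (o 1) (ho 1 le_rfl)
  refine ⟨M, hM, fun j => (if n = 0 then 0 else o (n * j)) + m * j, ?_, ?_⟩
  · intro j hj
    rw [isOrd_zpow_smul_iter_iff]
    by_cases hn : n = 0
    · subst hn
      simp only [if_true, zero_mul, zero_add, sub_self]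
      exact isOrd_zero F M hM.fg hne
    · simp only [if_neg hn, add_sub_cancel_right]
      exact ho (n * j) (Nat.one_le_iff_ne_zero.mpr (Nat.mul_ne_zero hn (by omega)))
  · by_cases hn : n = 0
    · subst hn
      simp only [if_true, zero_add, Nat.cast_zero, zero_mul]
      refine tendsto_const_nhds.congr' ?_
      filter_upwards [Filter.eventually_ge_atTop 1] with j hj
      have hjpos : (0 : ℝ) < j := by exact_mod_cast hj
      push_cast
      field_simp
    · simp only [if_neg hn]
      have hnpos : 0 < n := Nat.pos_of_ne_zero hn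
      have hmul : Filter.Tendsto (fun j : ℕ => n * j) Filter.atTop Filter.atTop :=
        Filter.tendsto_id.const_mul_atTop' hnpos
      have h1 := hlim.comp hmul
      have h2 : Filter.Tendsto (fun j : ℕ => (n : ℝ) * ((o (n * j) : ℝ) / ((n * j : ℕ) : ℝ)) + m)
          Filter.atTop (nhds (n * lam + m)) := (h1.const_mul (n : ℝ)).add_const (m : ℝ)
      refine h2.congr' ?_
      filter_upwards [Filter.eventually_ge_atTop 1] with j hj
      have hjpos : (0 : ℝ) < j := by exact_mod_cast hj
      have hnR : (0 : ℝ) < n := by exact_mod_cast hnpos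
      push_cast
      field_simp

end Groth.Agent.S17143
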