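import Groth.Statements.S17146
import Groth.Agent.H85.IsocFirst

set_option autoImplicit false
universe u v
open Isoc

namespace Groth.Agent.S17146

open Groth.Agent.H85 in
/-- Let k be a perfect field of characteristic p, a ∈ ℤ, W = W(k) with fraction field L, and (N, F) a
σ^a-F-isocrystal over k (N finite-dimensional over L, F a bijective σ^a-semilinear endomorphism) of
height h, with b an L-basis of N indexed by Fin h, d the p-adic order of the determinant coefficient
of F in b, and first Newton slope λ₁(N, F) = lam. Then there exist r ∈ ℤ, s ∈ ℕ with 0 < s ≤ h and a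
W-lattice M in N such that lam = r/s and ord_M(F^s) = r, i.e. F^s(M) ⊆ p^r · M and F^s(M) ⊄ p^(r+1)
· M; moreover r · h ≤ s · d, so that λ₁ is a rational number ≤ d/h with denominator at most h. (The
published statement asserts r ≤ d instead of r · h ≤ s · d; since F may have denominators, d can be
negative and then r ≤ d can fail: for N = N_{-2/3} ⊕ N_{-1/2}, the sum of the standard isocrystals
of slopes −2/3 and −1/2, one has h = 5, d = −3, λ₁ = −2/3, which forces s = 3 and r = −2 > d. What
the published argument gives is r/s = λ₁ ≤ d/h, stated here.) -/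
theorem result (p : ℕ) [Fact p.Prime] (k : Type u) [Field k] [CharP k p] [PerfectRing k p] (a : ℤ)
    (N : Type v) [AddCommGroup N] [Module (WittVector p k) N] [Module (FractionRing (WittVector p k)) N]
    [IsScalarTower (WittVector p k) (FractionRing (WittVector p k)) N]
    (F : N →ₛₗ[Isoc.frob p k a] N) (hF : Isoc.IsIsoc F)
    (h : ℕ) (b : Module.Basis (Fin h) (FractionRing (WittVector p k)) N)
    (d : ℤ) (hd : Isoc.IsOrdP (Isoc.detCoeff b F) d)
    (lam : ℝ) (hlam : Isoc.IsFirstSlope F lam) :
    ∃ (r : ℤ) (s : ℕ) (M : Submodule (WittVector p k) N), 0 < s ∧ s ≤ h ∧ lam = (r : ℝ) / s ∧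
      M.IsLattice (FractionRing (WittVector p k)) ∧ Isoc.IsOrd M F s r ∧ r * h ≤ s * d := by
  have hτ := presW_frob (p := p) (k := k) a
  have := hF.finite
  have hh : Module.finrank (FractionRing (WittVector p k)) N = h := by
    rw [Module.finrank_eq_card_basis b, Fintype.card_fin]
  obtain ⟨r, s, hs, hsh, hrs⟩ := exists_slope_eq_div hτ F hF lam hlam h hh
  obtain ⟨M, hM, hle⟩ := exists_lattice_of_le hτ F hF lam hlam r s hs hrs.ge
  have hsR : (s : ℝ) ≠ 0 := by exact_mod_cast hs.ne'
  refine ⟨r, s, M, hs, hsh, ?_, hM, ⟨hle, ?_⟩,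
    mul_height_le_of_latImg_le hτ b F d hd M hM s r hle⟩
  · rw [eq_div_iff hsR]
    exact hrs
  · intro hcon
    have := le_mul_of_latImg_le hτ F hF lam hlam M hM s hs (r + 1) hcon
    push_cast at this
    linarith

end Groth.Agent.S17146
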