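import Groth.Statements.S1715
import Groth.Agent.H71.DK.Glob2
import Groth.Agent.H12.AdjFin

set_option autoImplicit false
universe u
open CategoryTheory
attribute [local instance] HasDerivedCategory.standard
open LocCoh

namespace Groth.Agent.S1715

/-- For an affine scheme: let A be a Noetherian ring with a dualizing complex and M a finite A-module
satisfying Serre's condition (S_k). Then there are only finitely many primes p such that M_p has
depth exactly k while its support has dimension greater than k. (The source states this for coherent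
modules on a Noetherian scheme with a dualizing complex.) -/
theorem result (A : Type u) [CommRing A] [IsNoetherianRing A] (hA : ∃ ω : Dual.D A, Dual.IsDualizing A ω) (M : Type u) [AddCommGroup M] [Module A M] [Module.Finite A M] (k : ℕ) (hM : LocCoh.HasSk k A M) : Set.Finite {p : PrimeSpectrum A | LocCoh.depth (Localization.AtPrime p.asIdeal) (LocalizedModule p.asIdeal.primeCompl M) = k ∧ (k : WithBot ℕ∞) < Module.supportDim (Localization.AtPrime p.asIdeal) (LocalizedModule p.asIdeal.primeCompl M)} := by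
  classical
  obtain ⟨ω, hω⟩ := hA
  obtain ⟨a, b, hab⟩ := hω.finite_injective_dimension
  have hfin : ∀ j : ℤ, Module.Finite A (Dual.inD A M ⟶ ω⟦j⟧) := by
    intro j
    refine Groth.Agent.H12.AdjFin.finite_hom_single_of_bddBelow ω a ?_ hω.finite_cohomology
      (ModuleCat.of A M) j
    intro i hi
    exact Groth.Agent.H12.LocHom.isZero_homology_of_isDualizing ω a b hab i (Or.inl hi)
  have hrange : ∀ (j : ℤ) (p : PrimeSpectrum A),
      p ∈ Module.support A (Dual.inD A M ⟶ ω⟦j⟧) → a ≤ j ∧ j ≤ b := by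
    intro j p hp
    by_contra hcon
    haveI : Subsingleton (Dual.inD A M ⟶ ω⟦j⟧) := hab M j (by omega)
    rw [Module.support_eq_empty] at hp
    exact hp
  let T : Finset (ℤ × ℤ) := (Finset.Icc a b) ×ˢ (Finset.Icc a b)
  let I : ℤ × ℤ → Ideal A := fun t =>
    Module.annihilator A (Dual.inD A M ⟶ ω⟦t.1⟧) ⊔ Module.annihilator A (Dual.inD A M ⟶ ω⟦t.2⟧)
  have hfinite : (⋃ t ∈ (T : Set (ℤ × ℤ)),
      {p : PrimeSpectrum A | p.asIdeal ∈ (I t).minimalPrimes}).Finite := by
    refine Set.Finite.biUnion (Finset.finite_toSet T) (fun t _ => ?_)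
    have h1 : (I t).minimalPrimes.Finite := Ideal.finite_minimalPrimes_of_isNoetherianRing A (I t)
    exact Set.Finite.preimage (fun p _ q _ h => PrimeSpectrum.ext h) h1
  refine hfinite.subset ?_
  rintro p ⟨hdep, hdim⟩
  haveI hnt : Nontrivial (LocalizedModule p.asIdeal.primeCompl M) := by
    by_contra hnn
    rw [not_nontrivial_iff_subsingleton] at hnn
    rw [Module.supportDim_eq_bot_of_subsingleton] at hdim
    exact not_lt_bot hdim
  obtain ⟨e, n, he, hdepn, hbd, h1, h2⟩ := Groth.Agent.H71.DKG.global_package' ω hω M p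
  have hnk : n = k := by
    rw [hdep] at hdepn
    exact_mod_cast hdepn.symm
  subst hnk
  have hke : n < e := by
    by_contra hle
    rw [not_lt] at hle
    rw [he] at hdim
    have h3 : ((e : ℕ) : WithBot ℕ∞) ≤ (((n : ℕ) : ℕ∞) : WithBot ℕ∞) :=
      (Groth.Agent.H12.DualLoc.natCast_le_iff' e n).2 hle
    exact absurd h3 (not_le_of_gt hdim)
  set s := Groth.Agent.H71.DKG.shiftAt ω hω p with hs
  have hr1 := hrange _ p h1
  have hr2 := hrange _ p h2
  have hann1 : Module.annihilator A (Dual.inD A M ⟶ ω⟦(s - n)⟧) ≤ p.asIdeal := by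
    haveI := hfin (s - n)
    exact Module.mem_support_iff_of_finite.1 h1
  have hann2 : Module.annihilator A (Dual.inD A M ⟶ ω⟦(s - e)⟧) ≤ p.asIdeal := by
    haveI := hfin (s - e)
    exact Module.mem_support_iff_of_finite.1 h2
  rw [Set.mem_iUnion₂]
  refine ⟨(s - n, s - e), ?_, ?_⟩
  · simp only [T, Finset.coe_product, Set.mem_prod, Finset.coe_Icc, Set.mem_Icc]
    exact ⟨hr1, hr2⟩
  · refine ⟨⟨p.2, sup_le hann1 hann2⟩, ?_⟩
    rintro q' ⟨hq'prime, hq'le⟩ hq'p
    by_contra hnle
    have hlt : q' < p.asIdeal := lt_of_le_of_ne hq'p (fun h => hnle (h ▸ le_rfl))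
    have hQ1 : (⟨q', hq'prime⟩ : PrimeSpectrum A) ∈
        Module.support A (Dual.inD A M ⟶ ω⟦(s - n)⟧) := by
      haveI := hfin (s - n)
      exact Module.mem_support_iff_of_finite.2 (le_trans le_sup_left hq'le)
    have hQ2 : (⟨q', hq'prime⟩ : PrimeSpectrum A) ∈
        Module.support A (Dual.inD A M ⟶ ω⟦(s - e)⟧) := by
      haveI := hfin (s - e)
      exact Module.mem_support_iff_of_finite.2 (le_trans le_sup_right hq'le)
    haveI : Nontrivial (LocalizedModule
        (⟨q', hq'prime⟩ : PrimeSpectrum A).asIdeal.primeCompl M) :=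
      Groth.Agent.H12.DualLoc.nontrivial_localized_of_mem_support_hom ω hω M _ _ hQ1
    obtain ⟨e', n', he', hdep', hbd', -, -⟩ :=
      Groth.Agent.H71.DKG.global_package' ω hω M ⟨q', hq'prime⟩
    have hs' := Groth.Agent.H71.DKG.shiftAt_lt ω hω ⟨q', hq'prime⟩ p hlt
    have hb1 := hbd' _ hQ1
    have hb2 := hbd' _ hQ2
    have hSk := hM q'
    rw [he', hdep'] at hSk
    have hSk' : n ≤ n' ∨ e' ≤ n' := by
      rcases min_le_iff.1 hSk with h | h
      · exact Or.inl ((Groth.Agent.H12.DualLoc.natCast_le_iff' n n').1 h)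
      · exact Or.inr ((Groth.Agent.H12.DualLoc.natCast_le_iff' e' n').1 h)
    rw [← hs] at hs'
    omega

end Groth.Agent.S1715
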