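import Groth.Statements.S17156
import Groth.Agent.H85.IsocFrobChar

set_option autoImplicit false
universe u v w
open scoped Classical
open Isoc
open Groth.Agent.H85

namespace Groth.Agent.S17156

/-- Let k be a finite field with q = p^m elements, W = W(k) with fraction field L, a ∈ ℤ, and (N, F) a
σ^a-F-isocrystal over k. Then π := F^m is L-linear; let π be given as an L-linear endomorphism of N
agreeing with F^m pointwise, with characteristic polynomial f (monic of degree the height). Let Ω be
an algebraically closed field containing L, with the W-algebra structure through L. Each Newton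
slope of (N, F), counted with multiplicity, equals ord(α)/ord(q) for the corresponding root α of f
in Ω; here this is stated as: for every μ ∈ ℚ, written num/den in lowest terms, the multiplicity m_μ
of μ as a Newton slope (the L-dimension of the slope-μ part of N) equals the number of roots α of f
in Ω, counted with multiplicity, such that α^den · p^(−num·m) is a unit of the integral closure of W
in Ω (it and its inverse are integral over W) — which says ord(α) = μ · m for the valuation on Ω ⊇ L
normalised by ord(p) = 1, the ring W being a complete discrete valuation ring. -/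
theorem result
    (p : ℕ) [Fact p.Prime] (k : Type u) [Field k] [CharP k p] [PerfectRing k p] [Fintype k]
    (m : ℕ) (hk : Fintype.card k = p ^ m) (a : ℤ)
    (N : Type v) [AddCommGroup N] [Module (WittVector p k) N] [Module (FractionRing (WittVector p k)) N]
    [IsScalarTower (WittVector p k) (FractionRing (WittVector p k)) N]
    [Module.Finite (FractionRing (WittVector p k)) N]
    (F : N →ₛₗ[Isoc.frob p k a] N) (hF : Isoc.IsIsoc F)
    (π : N →ₗ[(FractionRing (WittVector p k))] N) (hπ : ∀ x : N, π x = (⇑F)^[m] x)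
    (Ω : Type w) [Field Ω] [IsAlgClosed Ω] [Algebra (WittVector p k) Ω] [Algebra (FractionRing (WittVector p k)) Ω]
    [IsScalarTower (WittVector p k) (FractionRing (WittVector p k)) Ω] (μ : ℚ) :
    Isoc.newtonMult F μ =
      Multiset.countP
        (fun α : Ω => IsIntegral (WittVector p k) (α ^ μ.den * (algebraMap (FractionRing (WittVector p k)) Ω (p : (FractionRing (WittVector p k)))) ^ (-(μ.num * (m : ℤ))))
          ∧ IsIntegral (WittVector p k) (α ^ μ.den * (algebraMap (FractionRing (WittVector p k)) Ω (p : (FractionRing (WittVector p k)))) ^ (-(μ.num * (m : ℤ))))⁻¹)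
        ((π.charpoly.map (algebraMap (FractionRing (WittVector p k)) Ω)).roots) := by
  have hτ : PresW (Isoc.frob p k a) := presW_frob a
  have hτ' : SurjW (Isoc.frob p k a) := surjW_frob a
  have hτb : Function.Bijective (Isoc.frob p k a) := frob_bijective a
  have hm : m ≠ 0 := by
    intro h0
    rw [h0, pow_zero] at hk
    have := Fintype.one_lt_card (α := k)
    omega
  have hint := isInternal_slopePart hτ hτ' hτb F hF
  have hfinite : {ν : ℚ | slopePart F ν ≠ ⊥}.Finite :=
    WellFoundedGT.finite_ne_bot_of_iSupIndep hint.submodule_iSupIndep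
  haveI : Fintype {ν : ℚ // slopePart F ν ≠ ⊥} := hfinite.fintype
  have hT : DirectSum.IsInternal (fun i : {ν : ℚ // slopePart F ν ≠ ⊥} => slopePart F i) :=
    DirectSum.isInternal_ne_bot_iff.mpr hint
  have hst : ∀ ν : ℚ, ∀ x ∈ slopePart F ν, F x ∈ slopePart F ν := fun ν => slopePart_stable F ν
  have hstπ : ∀ ν : ℚ, ∀ x ∈ slopePart F ν, π x ∈ slopePart F ν := by
    intro ν x hx
    rw [hπ]
    have hall : ∀ n : ℕ, (⇑F)^[n] x ∈ slopePart F ν := by
      intro n
      induction n with
      | zero => exact hx
      | succ n ih =>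
        rw [Function.iterate_succ_apply']
        exact hst ν _ ih
    exact hall m
  have hchar : π.charpoly =
      ∏ i : {ν : ℚ // slopePart F ν ≠ ⊥}, (π.restrict (hstπ i)).charpoly :=
    charpoly_eq_prod_restrict hT π (fun i => hstπ i)
  have hne : (∏ i : {ν : ℚ // slopePart F ν ≠ ⊥},
      ((π.restrict (hstπ i)).charpoly.map
        (algebraMap (FractionRing (WittVector p k)) Ω))) ≠ 0 := by
    rw [← Polynomial.map_prod, ← hchar]
    exact (π.charpoly_monic.map _).ne_zero
  have key : ∀ (i : {ν : ℚ // slopePart F ν ≠ ⊥}) (α : Ω),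
      α ∈ ((π.restrict (hstπ i)).charpoly.map
        (algebraMap (FractionRing (WittVector p k)) Ω)).roots →
      ∃ (r : ℤ) (s : ℕ), 0 < s ∧ (r : ℚ) / s = (i : ℚ) ∧ α ≠ 0 ∧
        IsIntU (WittVector p k) (α ^ s *
          (algebraMap (FractionRing (WittVector p k)) Ω
            (p : FractionRing (WittVector p k))) ^ (-(r * (m : ℤ)))) := by
    intro i α hα
    obtain ⟨M', hM', r, s, hs, hrs, hFM'⟩ :=
      isIsoclinic_restrict_of_isoOn hτ' F _ (hst i) i (isoOn_slopePart hτ hτ' F i)
    have hπ' : ∀ x : slopePart F (i : ℚ),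
        (π.restrict (hstπ i)) x = (⇑(F.restrict (hst i)))^[m] x := by
      intro x
      apply Subtype.ext
      rw [coe_iterate_restrict, LinearMap.coe_restrict_apply, hπ]
    obtain ⟨h1, h2⟩ := intU_of_isRoot hτ hτ' (F.restrict (hst i))
      (Module.finBasis (FractionRing (WittVector p k)) (slopePart F (i : ℚ)))
      M' hM' r s hs hFM' m (π.restrict (hstπ i)) hπ' α (Polynomial.mem_roots'.mp hα).2
    exact ⟨r, s, hs, hrs, h1, h2⟩
  have hA : ∀ i : {ν : ℚ // slopePart F ν ≠ ⊥}, (i : ℚ) = μ →
      ∀ α ∈ ((π.restrict (hstπ i)).charpoly.map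
        (algebraMap (FractionRing (WittVector p k)) Ω)).roots,
      IsIntU (WittVector p k) (α ^ μ.den *
        (algebraMap (FractionRing (WittVector p k)) Ω
          (p : FractionRing (WittVector p k))) ^ (-(μ.num * (m : ℤ)))) := by
    intro i hi α hα
    obtain ⟨r, s, hs, hrs, _, hU⟩ := key i α hα
    exact intU_of_slope α m μ r s hs (hrs.trans hi) hU
  have hB : ∀ i : {ν : ℚ // slopePart F ν ≠ ⊥}, (i : ℚ) ≠ μ →
      ∀ α ∈ ((π.restrict (hstπ i)).charpoly.map
        (algebraMap (FractionRing (WittVector p k)) Ω)).roots,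
      ¬ IsIntU (WittVector p k) (α ^ μ.den *
        (algebraMap (FractionRing (WittVector p k)) Ω
          (p : FractionRing (WittVector p k))) ^ (-(μ.num * (m : ℤ)))) := by
    intro i hi α hα hp
    obtain ⟨r, s, hs, hrs, hα0, hU⟩ := key i α hα
    have hcross := cross_eq_of_intU α hα0 m hm s μ.den r μ.num hU hp
    apply hi
    rw [← hrs]
    have hsQ : (s : ℚ) ≠ 0 := by exact_mod_cast hs.ne'
    rw [div_eq_iff hsQ]
    have hcQ : (r : ℚ) * (μ.den : ℚ) = (μ.num : ℚ) * (s : ℚ) := by exact_mod_cast hcross
    have hdQ : (μ.den : ℚ) ≠ 0 := by exact_mod_cast μ.den_nz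
    calc (r : ℚ) = (r * μ.den) / μ.den := by rw [mul_div_cancel_right₀ _ hdQ]
      _ = (μ.num * s) / μ.den := by rw [hcQ]
      _ = (μ.num / μ.den) * s := by ring
      _ = μ * s := by rw [Rat.num_div_den]
  rw [hchar, Polynomial.map_prod, Polynomial.roots_prod _ _ hne, countP_bind',
    ← Finset.sum_eq_multiset_sum]
  by_cases hμ : slopePart F μ = ⊥
  · have h0 : newtonMult F μ = 0 := by
      unfold Isoc.newtonMult
      rw [hμ, finrank_bot]
    rw [h0]
    symm
    apply Finset.sum_eq_zero
    intro i _
    apply Multiset.countP_eq_zero.mpr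
    intro α hα hp
    exact hB i (fun h => i.2 (by rw [h]; exact hμ)) α hα ⟨hp.1, hp.2⟩
  · symm
    rw [Finset.sum_eq_single (⟨μ, hμ⟩ : {ν : ℚ // slopePart F ν ≠ ⊥})]
    · refine (Multiset.countP_eq_card.mpr ?_).trans ?_
      · intro α hα
        have h1 := hA ⟨μ, hμ⟩ rfl α hα
        exact ⟨h1.int, h1.int_inv⟩
      · rw [IsAlgClosed.card_roots_eq_natDegree, Polynomial.natDegree_map,
          LinearMap.charpoly_natDegree]
        rfl
    · intro j _ hj
      apply Multiset.countP_eq_zero.mpr
      intro α hα hp
      exact hB j (fun h => hj (Subtype.ext h)) α hα ⟨hp.1, hp.2⟩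
    · intro h
      exact absurd (Finset.mem_univ _) h

end Groth.Agent.S17156
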