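import Groth.Statements.S17157
import Mathlib.FieldTheory.Finite.Basic

set_option autoImplicit false
universe u
open Isoc

namespace Groth.Agent.S17157

section aux

variable (p : ℕ) [Fact p.Prime] (k : Type u) [Field k] [CharP k p] [PerfectRing k p]
set_option linter.unusedSectionVars false

theorem natCast_witt_ne_zero (j : ℕ) (hj : j ≠ 0) : (j : WittVector p k) ≠ 0 := by
  obtain ⟨v, j', hj', rfl⟩ := Nat.exists_eq_pow_mul_and_not_dvd hj p (Fact.out : p.Prime).ne_one
  rw [Nat.cast_mul, Nat.cast_pow]
  refine mul_ne_zero (pow_ne_zero _ (WittVector.p_nonzero p k)) ?_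
  intro h0
  have := congrArg (WittVector.constantCoeff (p := p) (R := k)) h0
  rw [map_natCast, map_zero] at this
  exact hj' ((CharP.cast_eq_zero_iff k p j').mp this)

theorem natCast_frac_ne_zero (j : ℕ) (hj : j ≠ 0) : (j : FractionRing (WittVector p k)) ≠ 0 := by
  have h := natCast_witt_ne_zero p k j hj
  have := (IsFractionRing.injective (WittVector p k) (FractionRing (WittVector p k))).ne h
  simpa using this

theorem coeff_iterate_frobenius (i : ℕ) (w : WittVector p k) (n : ℕ) :
    ((WittVector.frobenius)^[i] w).coeff n = (w.coeff n) ^ (p ^ i) := by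
  induction i generalizing w with
  | zero => simp
  | succ i ih =>
    rw [Function.iterate_succ', Function.comp_apply, WittVector.coeff_frobenius_charP, ih,
      ← pow_mul, pow_succ]

theorem frob_iterate_algebraMap (i : ℕ) (w : WittVector p k) :
    (⇑(Isoc.frob p k 1))^[i] (algebraMap (WittVector p k) (FractionRing (WittVector p k)) w) =
      algebraMap (WittVector p k) (FractionRing (WittVector p k)) ((WittVector.frobenius)^[i] w) := by
  induction i with
  | zero => rfl
  | succ i ih =>
    rw [Function.iterate_succ', Function.comp_apply, ih, Isoc.frob_algebraMap, zpow_one,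
      Function.iterate_succ', Function.comp_apply]
    rfl

theorem frob_iterate_eq_self [Finite k] :
    ∃ m : ℕ, m ≠ 0 ∧ ∀ l : FractionRing (WittVector p k), (⇑(Isoc.frob p k 1))^[m] l = l := by
  classical
  have : Fintype k := Fintype.ofFinite k
  obtain ⟨n, -, hn⟩ := FiniteField.card k p
  refine ⟨n, n.pos.ne', ?_⟩
  have hW : ∀ w : WittVector p k, (WittVector.frobenius)^[(n : ℕ)] w = w := by
    intro w
    ext j
    rw [coeff_iterate_frobenius, ← hn, FiniteField.pow_card]
  intro l
  obtain ⟨a, b, hb, rfl⟩ := IsFractionRing.div_surjective (A := WittVector p k) l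
  have hpow : ∀ y : FractionRing (WittVector p k),
      (⇑(Isoc.frob p k 1))^[(n : ℕ)] y = ((Isoc.frob p k 1) ^ (n : ℕ)) y := by
    intro y; rw [RingHom.coe_pow]
  rw [hpow, map_div₀, ← hpow, ← hpow, frob_iterate_algebraMap, frob_iterate_algebraMap, hW, hW]

theorem no_solution [Finite k] (x : FractionRing (WittVector p k))
    (hx : x - Isoc.frob p k 1 x = 1) : False := by
  obtain ⟨m, hm, hfix⟩ := frob_iterate_eq_self p k
  have hstep : ∀ i : ℕ, (⇑(Isoc.frob p k 1))^[i] x = x - i := by
    intro i
    induction i with
    | zero => simp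
    | succ i ih =>
      rw [Function.iterate_succ', Function.comp_apply, ih, map_sub, map_natCast]
      have : Isoc.frob p k 1 x = x - 1 := by rw [← hx]; ring
      rw [this]; push_cast; ring
  have h1 := hstep m
  rw [hfix] at h1
  have : (m : FractionRing (WittVector p k)) = 0 := by
    have := sub_eq_zero.mpr h1
    simpa using this
  exact natCast_frac_ne_zero p k m hm this

end aux

/-- Let k be a finite field of characteristic p, W = W(k), L its fraction field with Frobenius σ, and
let U be the σ-semilinear endomorphism of L² = (Fin 2 → L) determined by U(e₀) = e₀ and U(e₁) = e₀ +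
e₁ on the standard basis. Then (L², U) is an F-isocrystal in which the sub-isocrystal L · e₀ admits
no U-stable complementary L-subspace; in particular the category of F-isocrystals over a finite
field is not semisimple. (Over an algebraically closed field a complement exists.) -/
theorem result
    (p : ℕ) [Fact p.Prime] (k : Type u) [Field k] [CharP k p] [PerfectRing k p] [Finite k]
    (U : (Fin 2 → (FractionRing (WittVector p k))) →ₛₗ[Isoc.frob p k 1] (Fin 2 → (FractionRing (WittVector p k))))
    (hU0 : U (Pi.single 0 1) = Pi.single 0 1)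
    (hU1 : U (Pi.single 1 1) = Pi.single 0 1 + Pi.single 1 1)
    (Q : Submodule (FractionRing (WittVector p k)) (Fin 2 → (FractionRing (WittVector p k)))) (hQ : ∀ x ∈ Q, U x ∈ Q) :
    ¬ IsCompl (Submodule.span (FractionRing (WittVector p k)) {(Pi.single 0 1 : Fin 2 → (FractionRing (WittVector p k)))}) Q := by
  intro hc
  set e₀ : Fin 2 → FractionRing (WittVector p k) := Pi.single 0 1 with he₀
  set e₁ : Fin 2 → FractionRing (WittVector p k) := Pi.single 1 1 with he₁
  have htop : e₁ ∈ Submodule.span (FractionRing (WittVector p k)) {e₀} ⊔ Q := by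
    rw [hc.sup_eq_top]; trivial
  obtain ⟨y, hy, z, hz, hyz⟩ := Submodule.mem_sup.mp htop
  obtain ⟨a, rfl⟩ := Submodule.mem_span_singleton.mp hy
  have hz' : z = e₁ - a • e₀ := by rw [← hyz]; abel
  have hUz : U z ∈ Q := hQ z hz
  have hUz' : U z = e₀ + e₁ - (Isoc.frob p k 1 a) • e₀ := by
    rw [hz', map_sub, map_smulₛₗ, hU0, hU1]
  have hdiff : U z - z = (1 - Isoc.frob p k 1 a + a) • e₀ := by
    rw [hUz', hz']
    simp only [sub_smul, add_smul, one_smul]
    abel
  have hmem : (1 - Isoc.frob p k 1 a + a) • e₀ ∈
      Submodule.span (FractionRing (WittVector p k)) {e₀} ⊓ Q := by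
    refine ⟨Submodule.smul_mem _ _ (Submodule.mem_span_singleton_self _), ?_⟩
    rw [← hdiff]
    exact Q.sub_mem hUz hz
  rw [hc.inf_eq_bot, Submodule.mem_bot] at hmem
  have h0 := congrFun hmem 0
  simp only [he₀, Pi.smul_apply, Pi.single_eq_same, smul_eq_mul, mul_one, Pi.zero_apply] at h0
  refine no_solution p k (-a) ?_
  rw [map_neg]
  linear_combination (-1 : FractionRing (WittVector p k)) * h0

end Groth.Agent.S17157
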