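import Groth.Statements.S1716
import Groth.Agent.H71.DK.Glob
import Groth.Agent.H71.SkSupport
import Groth.Agent.H12.AdjFin

set_option autoImplicit false
universe u
open CategoryTheory
attribute [local instance] HasDerivedCategory.standard
open Dual

namespace Groth.Agent.S1716

/-- Let A be a Noetherian ring with a dualizing complex and M a finite A-module. The set U of primes p
at which M_p is zero or a Cohen–Macaulay module is open in Spec A, and the primes of the support of
M at which M_p is Cohen–Macaulay are dense in the support of M. (The zero module is counted as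
Cohen–Macaulay here.) -/
theorem result (A : Type u) [CommRing A] [IsNoetherianRing A] (hA : ∃ ω : Dual.D A, Dual.IsDualizing A ω) (M : Type u) [AddCommGroup M] [Module A M] [Module.Finite A M] : IsOpen {p : PrimeSpectrum A | Subsingleton (LocalizedModule p.asIdeal.primeCompl M) ∨ LocCoh.IsCohenMacaulayModule (Localization.AtPrime p.asIdeal) (LocalizedModule p.asIdeal.primeCompl M)} ∧ Module.support A M ⊆ closure ({p : PrimeSpectrum A | LocCoh.IsCohenMacaulayModule (Localization.AtPrime p.asIdeal) (LocalizedModule p.asIdeal.primeCompl M)} ∩ Module.support A M) := by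
  classical
  obtain ⟨ω, hω⟩ := hA
  obtain ⟨a, b, hab⟩ := hω.finite_injective_dimension
  have hfin : ∀ j : ℤ, Module.Finite A (Dual.inD A M ⟶ ω⟦j⟧) := by
    intro j
    refine Groth.Agent.H12.AdjFin.finite_hom_single_of_bddBelow ω a ?_ hω.finite_cohomology
      (ModuleCat.of A M) j
    intro i hi
    exact Groth.Agent.H12.LocHom.isZero_homology_of_isDualizing ω a b hab i (Or.inl hi)
  have hrange : ∀ (j : ℤ) (p : PrimeSpectrum A),
      p ∈ Module.support A (Dual.inD A M ⟶ ω⟦j⟧) → a ≤ j ∧ j ≤ b := by
    intro j p hp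
    by_contra hcon
    haveI : Subsingleton (Dual.inD A M ⟶ ω⟦j⟧) := hab M j (by omega)
    rw [Module.support_eq_empty] at hp
    exact hp
  -- Cohen–Macaulayness in terms of the package
  have hCM : ∀ (p : PrimeSpectrum A) (e n : ℕ),
      Module.supportDim (Localization.AtPrime p.asIdeal)
        (LocalizedModule p.asIdeal.primeCompl M) = (e : WithBot ℕ∞) →
      LocCoh.depth (Localization.AtPrime p.asIdeal)
        (LocalizedModule p.asIdeal.primeCompl M) = n →
      (LocCoh.IsCohenMacaulayModule (Localization.AtPrime p.asIdeal)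
        (LocalizedModule p.asIdeal.primeCompl M) ↔ e = n) := by
    intro p e n he hdep
    unfold LocCoh.IsCohenMacaulayModule
    rw [he, hdep]
    have h2 : ((e : ℕ) : WithBot ℕ∞) = (((e : ℕ) : ℕ∞) : WithBot ℕ∞) := rfl
    rw [h2, WithBot.coe_inj, Nat.cast_inj]
  have key : ∀ p : PrimeSpectrum A,
      ¬ (Subsingleton (LocalizedModule p.asIdeal.primeCompl M) ∨
        LocCoh.IsCohenMacaulayModule (Localization.AtPrime p.asIdeal)
          (LocalizedModule p.asIdeal.primeCompl M)) ↔
      ∃ j j' : ℤ, j ≠ j' ∧ p ∈ Module.support A (Dual.inD A M ⟶ ω⟦j⟧) ∧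
        p ∈ Module.support A (Dual.inD A M ⟶ ω⟦j'⟧) := by
    intro p
    constructor
    · intro h
      rw [not_or] at h
      obtain ⟨h1, h2⟩ := h
      haveI : Nontrivial (LocalizedModule p.asIdeal.primeCompl M) :=
        not_subsingleton_iff_nontrivial.1 h1
      obtain ⟨s, e, n, he, hdep, hbd, hm1, hm2⟩ :=
        Groth.Agent.H71.DKG.global_package ω hω M p
      have hen : e ≠ n := fun h => h2 ((hCM p e n he hdep).2 h)
      exact ⟨s - n, s - e, by omega, hm1, hm2⟩
    · rintro ⟨j, j', hne, hm1, hm2⟩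
      haveI : Nontrivial (LocalizedModule p.asIdeal.primeCompl M) :=
        Groth.Agent.H12.DualLoc.nontrivial_localized_of_mem_support_hom ω hω M p j hm1
      obtain ⟨s, e, n, he, hdep, hbd, -, -⟩ :=
        Groth.Agent.H71.DKG.global_package ω hω M p
      have hb1 := hbd j hm1
      have hb2 := hbd j' hm2
      rw [not_or]
      refine ⟨not_subsingleton _, fun hcm => ?_⟩
      have hen := (hCM p e n he hdep).1 hcm
      omega
  -- closedness
  let T : Finset (ℤ × ℤ) :=
    ((Finset.Icc a b) ×ˢ (Finset.Icc a b)).filter (fun q => q.1 ≠ q.2)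
  have hclosed : IsClosed {p : PrimeSpectrum A | ∃ j j' : ℤ, j ≠ j' ∧
      p ∈ Module.support A (Dual.inD A M ⟶ ω⟦j⟧) ∧
        p ∈ Module.support A (Dual.inD A M ⟶ ω⟦j'⟧)} := by
    have hset : {p : PrimeSpectrum A | ∃ j j' : ℤ, j ≠ j' ∧
        p ∈ Module.support A (Dual.inD A M ⟶ ω⟦j⟧) ∧
          p ∈ Module.support A (Dual.inD A M ⟶ ω⟦j'⟧)} =
        ⋃ q ∈ T, (Module.support A (Dual.inD A M ⟶ ω⟦q.1⟧) ∩
          Module.support A (Dual.inD A M ⟶ ω⟦q.2⟧)) := by
      ext p
      simp only [Set.mem_setOf_eq, Set.mem_iUnion, Set.mem_inter_iff, exists_prop]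
      constructor
      · rintro ⟨j, j', hne, h1, h2⟩
        refine ⟨(j, j'), ?_, h1, h2⟩
        have hr1 := hrange j p h1
        have hr2 := hrange j' p h2
        simp only [T, Finset.mem_filter, Finset.mem_product, Finset.mem_Icc]
        exact ⟨⟨hr1, hr2⟩, hne⟩
      · rintro ⟨q, hq, h1, h2⟩
        simp only [T, Finset.mem_filter, Finset.mem_product, Finset.mem_Icc] at hq
        exact ⟨q.1, q.2, hq.2, h1, h2⟩
    rw [hset]
    refine isClosed_biUnion_finset (fun q _ => ?_)
    haveI := hfin q.1
    haveI := hfin q.2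
    exact Module.isClosed_support.inter Module.isClosed_support
  constructor
  · have hU : {p : PrimeSpectrum A | Subsingleton (LocalizedModule p.asIdeal.primeCompl M) ∨
        LocCoh.IsCohenMacaulayModule (Localization.AtPrime p.asIdeal)
          (LocalizedModule p.asIdeal.primeCompl M)} =
        {p : PrimeSpectrum A | ∃ j j' : ℤ, j ≠ j' ∧
          p ∈ Module.support A (Dual.inD A M ⟶ ω⟦j⟧) ∧
            p ∈ Module.support A (Dual.inD A M ⟶ ω⟦j'⟧)}ᶜ := by
      ext p
      rw [Set.mem_compl_iff, Set.mem_setOf_eq, Set.mem_setOf_eq, ← key p, not_not]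
    rw [hU]
    exact hclosed.isOpen_compl
  · intro p hp
    have hann : Module.annihilator A M ≤ p.asIdeal := Module.mem_support_iff_of_finite.1 hp
    obtain ⟨q, hqmin, hqp⟩ := Ideal.exists_minimalPrimes_le hann
    haveI hqprime : q.IsPrime := hqmin.1.1
    have hQsupp : (⟨q, hqprime⟩ : PrimeSpectrum A) ∈ Module.support A M :=
      Module.mem_support_iff_of_finite.2 hqmin.1.2
    have hcl : p ∈ closure ({⟨q, hqprime⟩} : Set (PrimeSpectrum A)) := by
      rw [PrimeSpectrum.closure_singleton, PrimeSpectrum.mem_zeroLocus]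
      exact hqp
    refine closure_mono ?_ hcl
    rw [Set.singleton_subset_iff]
    refine ⟨?_, hQsupp⟩
    haveI : Nontrivial (LocalizedModule (⟨q, hqprime⟩ : PrimeSpectrum A).asIdeal.primeCompl M) :=
      Module.mem_support_iff.1 hQsupp
    obtain ⟨s, e, n, he, hdep, hbd, h1, h2⟩ :=
      Groth.Agent.H71.DKG.global_package ω hω M ⟨q, hqprime⟩
    have hne : n ≤ e := by
      have := (hbd _ h1).1
      omega
    have he0 : e = 0 := by
      by_contra hpos
      have hlt : 0 < Module.supportDim (Localization.AtPrime q) (LocalizedModule q.primeCompl M) := by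
        rw [he]
        exact_mod_cast Nat.pos_of_ne_zero hpos
      obtain ⟨q', hq', hq'lt⟩ := (Groth.Agent.H71.SK.supportDim_pos_iff M q).1 hlt
      have hann' : Module.annihilator A M ≤ q'.asIdeal := Module.mem_support_iff_of_finite.1 hq'
      exact absurd (hqmin.2 ⟨q'.2, hann'⟩ hq'lt.le) (not_le_of_gt hq'lt)
    exact (hCM ⟨q, hqprime⟩ e n he hdep).2 (by omega)

end Groth.Agent.S1716
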