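import Groth.Statements.S1717
import Groth.Agent.H71.Catenary
import Groth.Agent.H71.HConnLocal

set_option autoImplicit false
universe u
open LocCoh

namespace Groth.Agent.S1717

/-- Let A be a catenary Noetherian local ring satisfying Serre's condition (S_2). Then Spec A is
equidimensional: for every minimal prime p of A the dimension of A/p equals the dimension of A. -/
theorem result (A : Type u) [CommRing A] [IsLocalRing A] [IsNoetherianRing A] (hc : CAlg.IsCatenary A) (hS : LocCoh.HasSk 2 A A) (p : Ideal A) (hp : p ∈ minimalPrimes A) : ringKrullDim (A ⧸ p) = ringKrullDim A := by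
  apply Groth.Agent.H71.CAT.equidim hc _ p hp
  intro q hq hq2
  have h1 := Groth.Agent.H71.HC.min_le_depth_of_hasSk 2 hS q
  rw [min_eq_left hq2] at h1
  have h2 := Groth.Agent.H71.HC.hasSeq_self_of_le_depth_localizedModule q 2 h1
  have h3 := (Groth.Agent.H15.Depth.le_idealDepth_iff
    Groth.Agent.H71.HC.smul_top_self_ne_top 2).mpr h2
  rw [Nat.cast_ofNat] at h3
  exact h3

end Groth.Agent.S1717
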