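import Groth.Statements.S17171
import Mathlib

set_option autoImplicit false
open QSymFn

namespace Groth.Agent.S17171

lemma decomp {n : ℕ} (e : Fin n →₀ ℕ) :
    ∃ (ℓ : ℕ) (s : Fin ℓ → Fin n) (a : Fin ℓ → ℕ), StrictMono s ∧ (∀ t, 0 < a t) ∧
      e = ∑ t : Fin ℓ, Finsupp.single (s t) (a t) := by
  classical
  refine ⟨e.support.card, fun t => e.support.orderEmbOfFin rfl t,
    fun t => e (e.support.orderEmbOfFin rfl t), ?_, ?_, ?_⟩
  · exact (e.support.orderEmbOfFin rfl).strictMono
  · intro t
    have : e.support.orderEmbOfFin rfl t ∈ e.support := Finset.orderEmbOfFin_mem _ _ _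
    exact Nat.pos_of_ne_zero (Finsupp.mem_support_iff.mp this)
  · calc e = e.sum Finsupp.single := (Finsupp.sum_single e).symm
      _ = ∑ x ∈ e.support, Finsupp.single x (e x) := rfl
      _ = ∑ x ∈ Finset.map (e.support.orderEmbOfFin rfl).toEmbedding Finset.univ,
            Finsupp.single x (e x) := by
          rw [Finset.map_orderEmbOfFin_univ]
      _ = ∑ t : Fin e.support.card, Finsupp.single (e.support.orderEmbOfFin rfl t)
            (e (e.support.orderEmbOfFin rfl t)) := by
          rw [Finset.sum_map]; rfl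

/-- a bound for the support -/
noncomputable def bnd (e : ℕ →₀ ℕ) : ℕ := e.support.sup (fun x => x + 1)

lemma lt_bnd {e : ℕ →₀ ℕ} {x : ℕ} (hx : x ∈ e.support) : x < bnd e :=
  Nat.lt_of_succ_le (Finset.le_sup (f := fun x => x + 1) hx)

/-- restriction to the initial segment -/
noncomputable def restr (e : ℕ →₀ ℕ) : Fin (bnd e) →₀ ℕ :=
  Finsupp.comapDomain (Fin.val : Fin (bnd e) → ℕ) e Fin.val_injective.injOn

lemma map_restr (e : ℕ →₀ ℕ) : Finsupp.mapDomain Fin.val (restr e) = e :=
  Finsupp.mapDomain_comapDomain _ Fin.val_injective e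
    (fun x hx => ⟨⟨x, lt_bnd (Finset.mem_coe.mp hx)⟩, rfl⟩)

lemma bnd_map_le {n : ℕ} (e' : Fin n →₀ ℕ) : bnd (Finsupp.mapDomain Fin.val e') ≤ n := by
  classical
  apply Finset.sup_le
  intro x hx
  have := Finsupp.mapDomain_support hx
  obtain ⟨y, _, rfl⟩ := Finset.mem_image.mp this
  exact Nat.succ_le_of_lt y.isLt

lemma key (f : (n : ℕ) → MvPolynomial (Fin n) ℤ)
    (hc : ∀ (n m : ℕ) (φ : Fin n ↪o Fin m) (e : Fin n →₀ ℕ),
        MvPolynomial.coeff e (f n) = MvPolynomial.coeff (Finsupp.mapDomain φ e) (f m))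
    {n : ℕ} (e' : Fin n →₀ ℕ) :
    MvPolynomial.coeff (restr (Finsupp.mapDomain Fin.val e'))
        (f (bnd (Finsupp.mapDomain Fin.val e'))) = MvPolynomial.coeff e' (f n) := by
  have hN := bnd_map_le e'
  rw [hc _ n (Fin.castLEOrderEmb hN) (restr (Finsupp.mapDomain Fin.val e'))]
  congr 1
  apply Finsupp.mapDomain_injective Fin.val_injective
  rw [← Finsupp.mapDomain_comp]
  have : (Fin.val ∘ (Fin.castLEOrderEmb hN) : Fin _ → ℕ) = Fin.val := by
    funext x; simp
  rw [this, map_restr]

lemma qs_aux (f : (n : ℕ) → MvPolynomial (Fin n) ℤ)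
    (hc : ∀ (n m : ℕ) (φ : Fin n ↪o Fin m) (e : Fin n →₀ ℕ),
        MvPolynomial.coeff e (f n) = MvPolynomial.coeff (Finsupp.mapDomain φ e) (f m))
    (F : MvPowerSeries ℕ ℤ)
    (hres : ∀ (n : ℕ) (e : Fin n →₀ ℕ),
        MvPowerSeries.coeff (Finsupp.mapDomain Fin.val e) F = MvPolynomial.coeff e (f n))
    (ℓ : ℕ) (i : Fin ℓ → ℕ) (a : Fin ℓ → ℕ) (hi : StrictMono i) :
    MvPowerSeries.coeff (∑ t : Fin ℓ, Finsupp.single (i t) (a t)) F =
      MvPolynomial.coeff (∑ t : Fin ℓ, Finsupp.single t (a t)) (f ℓ) := by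
  classical
  have hlt : ∀ t, i t < Finset.univ.sup (fun t => i t + 1) := fun t =>
    Nat.lt_of_succ_le (Finset.le_sup (f := fun t => i t + 1) (Finset.mem_univ t))
  have h1 : (∑ t : Fin ℓ, Finsupp.single (i t) (a t)) =
      Finsupp.mapDomain Fin.val (Finsupp.mapDomain
        (OrderEmbedding.ofStrictMono (fun t => (⟨i t, hlt t⟩ : Fin (Finset.univ.sup (fun t => i t + 1))))
          (fun x y h => hi h))
        (∑ t : Fin ℓ, Finsupp.single t (a t))) := by
    simp only [Finsupp.mapDomain_finsetSum, Finsupp.mapDomain_single]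
    rfl
  rw [h1, hres, ← hc]

/-- The ring QSym of quasisymmetric functions over ℤ, with its restriction maps to the polynomial rings
in finitely many ordered variables, is the limit of the diagram S ↦ ℤ[α_s : s ∈ S] over finite
ordered sets S and order-preserving injections (an injection φ : S → T acting by α_t ↦ α_s when t =
φ s and α_t ↦ 0 otherwise), the limit being taken in graded rings. Stated here on degree-d
components, with the variables indexed by ℕ in place of the positive integers and the finite ordered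
sets taken to be the Fin n: (a) if F is a formal power series over ℤ in variables indexed by ℕ which
is quasisymmetric (for strictly increasing i, j : Fin ℓ → ℕ and positive exponents a, the
coefficients of ∏ x_{i t}^{a t} and ∏ x_{j t}^{a t} agree) and all of whose monomials have degree d,
then its restrictions to the initial segments Fin n ⊂ ℕ are compatible with every order embedding
Fin n ↪o Fin m; (b) every family of degree-d homogeneous polynomials f n ∈ ℤ[x_s : s ∈ Fin n],
compatible with all order embeddings Fin n ↪o Fin m in this sense, is the family of restrictions of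
exactly one such quasisymmetric F of degree d. -/
theorem result (d : ℕ) :
    (∀ F : MvPowerSeries ℕ ℤ,
      (∀ (ℓ : ℕ) (i j : Fin ℓ → ℕ) (a : Fin ℓ → ℕ), StrictMono i → StrictMono j → (∀ t, 0 < a t) →
        MvPowerSeries.coeff (∑ t : Fin ℓ, Finsupp.single (i t) (a t)) F =
          MvPowerSeries.coeff (∑ t : Fin ℓ, Finsupp.single (j t) (a t)) F) →
      (∀ e : ℕ →₀ ℕ, MvPowerSeries.coeff e F ≠ 0 → e.degree = d) →
      ∀ (n m : ℕ) (φ : Fin n ↪o Fin m) (e : Fin n →₀ ℕ),
        MvPowerSeries.coeff (Finsupp.mapDomain Fin.val e) F =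
          MvPowerSeries.coeff (Finsupp.mapDomain Fin.val (Finsupp.mapDomain φ e)) F) ∧
    (∀ f : (n : ℕ) → MvPolynomial (Fin n) ℤ,
      (∀ n, (f n).IsHomogeneous d) →
      (∀ (n m : ℕ) (φ : Fin n ↪o Fin m) (e : Fin n →₀ ℕ),
        MvPolynomial.coeff e (f n) = MvPolynomial.coeff (Finsupp.mapDomain φ e) (f m)) →
      ∃! F : MvPowerSeries ℕ ℤ,
        (∀ (ℓ : ℕ) (i j : Fin ℓ → ℕ) (a : Fin ℓ → ℕ), StrictMono i → StrictMono j → (∀ t, 0 < a t) →
          MvPowerSeries.coeff (∑ t : Fin ℓ, Finsupp.single (i t) (a t)) F =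
            MvPowerSeries.coeff (∑ t : Fin ℓ, Finsupp.single (j t) (a t)) F) ∧
        (∀ e : ℕ →₀ ℕ, MvPowerSeries.coeff e F ≠ 0 → e.degree = d) ∧
        (∀ (n : ℕ) (e : Fin n →₀ ℕ),
          MvPowerSeries.coeff (Finsupp.mapDomain Fin.val e) F = MvPolynomial.coeff e (f n))) := by
  refine ⟨?_, ?_⟩
  · intro F hq _ n m φ e
    obtain ⟨ℓ, s, a, hs, ha, rfl⟩ := decomp e
    have h1 : Finsupp.mapDomain Fin.val (∑ t : Fin ℓ, Finsupp.single (s t) (a t)) =
        ∑ t : Fin ℓ, Finsupp.single ((s t : Fin n) : ℕ) (a t) := by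
      simp only [Finsupp.mapDomain_finsetSum, Finsupp.mapDomain_single]
    have h2 : Finsupp.mapDomain Fin.val (Finsupp.mapDomain φ
        (∑ t : Fin ℓ, Finsupp.single (s t) (a t))) =
        ∑ t : Fin ℓ, Finsupp.single ((φ (s t) : Fin m) : ℕ) (a t) := by
      simp only [Finsupp.mapDomain_finsetSum, Finsupp.mapDomain_single]
    rw [h1, h2]
    exact hq ℓ (fun t => ((s t : Fin n) : ℕ)) (fun t => ((φ (s t) : Fin m) : ℕ)) a
      (fun x y h => hs h) (fun x y h => φ.strictMono (hs h)) ha
  · intro f hf hc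
    have hF : ∀ e, MvPowerSeries.coeff e
        ((fun e => MvPolynomial.coeff (restr e) (f (bnd e))) : MvPowerSeries ℕ ℤ) =
        MvPolynomial.coeff (restr e) (f (bnd e)) := fun e => rfl
    have hres : ∀ (n : ℕ) (e : Fin n →₀ ℕ),
        MvPowerSeries.coeff (Finsupp.mapDomain Fin.val e)
          ((fun e => MvPolynomial.coeff (restr e) (f (bnd e))) : MvPowerSeries ℕ ℤ) =
        MvPolynomial.coeff e (f n) := by
      intro n e; rw [hF]; exact key f hc e
    refine ⟨(fun e => MvPolynomial.coeff (restr e) (f (bnd e))), ⟨?_, ?_, hres⟩, ?_⟩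
    · intro ℓ i j a hi hj _
      exact (qs_aux f hc _ hres ℓ i a hi).trans (qs_aux f hc _ hres ℓ j a hj).symm
    · intro e hne
      rw [hF] at hne
      have h := hf (bnd e) hne
      calc e.degree = (Finsupp.mapDomain Fin.val (restr e)).degree := by rw [map_restr]
        _ = (restr e).degree := Finsupp.degree_mapDomain _ _
        _ = d := (DFunLike.congr_fun (Finsupp.degree_eq_weight_one (R := ℕ)) (restr e)).trans h
    · rintro F' ⟨_, _, h3⟩
      ext e
      calc MvPowerSeries.coeff e F'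
          = MvPowerSeries.coeff (Finsupp.mapDomain Fin.val (restr e)) F' := by rw [map_restr]
        _ = MvPolynomial.coeff (restr e) (f (bnd e)) := h3 _ _
        _ = _ := (hF e).symm

end Groth.Agent.S17171
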