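import Groth.Statements.S17173
import Groth.Agent.H88.LabGraphBI
import Mathlib.Tactic

set_option autoImplicit false
universe u
open LabGraph

namespace Groth.Agent.S17173

open LabGraph in
/-- Let Γ be the weighted dual graph of a quasistable curve X of genus g ≥ 3 over an algebraically
closed field (vertices the irreducible components C_v with weight the geometric genus, one edge per
node, a loop for a node on a single component): Γ is connected, every weight-zero vertex without
loop is joined to the other vertices by at least two edges, and no edge joins two exceptional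
vertices (weight zero, no loop, exactly two edges to other vertices). Let d be a multidegree of any
total degree D (the combinatorial section fixes an arbitrary integer d; g ≥ 3 is the paper's
standing assumption). Then the degree class of d contains a representative satisfying the Basic
Inequality: there is a multidegree d', differing from d by the twist of some integer vertex
labelling (the multidegree of a divisor Σ φ_v C_v on the total space of a regular smoothing), such
that for every set Y of vertices 2·|(2g - 2)·d'_Y - D·canDeg Y| ≤ cut Y·(2g - 2), where canDeg Y = 2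
g_Y - 2 + cut Y is the degree of the dualizing sheaf on the subcurve Y and cut Y the number of nodes
where Y meets the rest of X. -/
theorem result {V E : Type u} [Fintype V] [Fintype E]
    [DecidableEq V] [DecidableEq E] (ends : E → V × V) (w : V → ℕ) (hX : IsQuasistableGraph ends w)
    (hg : 3 ≤ genus ends w) (d : V → ℤ) :
    ∃ d' : V → ℤ, TwistEquiv ends d' d ∧ SatisfiesBI ends w d' := by
  classical
  have hconn : Connected ends := hX.1.1
  have hKpos : 0 < canDeg ends w Finset.univ := by
    rw [Groth.Agent.H88.LG.canDeg_univ]; linarith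
  obtain ⟨K, hK⟩ : ∃ K : ℤ, K = canDeg ends w Finset.univ := ⟨_, rfl⟩
  obtain ⟨D, hD⟩ : ∃ D : ℤ, D = ∑ v, d v := ⟨_, rfl⟩
  rw [← hK] at hKpos
  have hx : ∑ v, (K * d v - D * (2 * (w v : ℤ) - 2 + (endCount ends Finset.univ v : ℤ))) = 0 := by
    rw [Finset.sum_sub_distrib, ← Finset.mul_sum, ← Finset.mul_sum, ← hD]
    have h0 : ∑ v, (2 * (w v : ℤ) - 2 + (endCount ends Finset.univ v : ℤ)) = K := by
      rw [hK]; rfl
    rw [h0]; ring
  obtain ⟨N, ψ, hN, hψ⟩ := Groth.Agent.H88.LG.exists_twist_eq_smul ends hconn _ hx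
  have hψ' : ∀ v, twist ends ψ v =
      N * (K * d v - D * (2 * (w v : ℤ) - 2 + (endCount ends Finset.univ v : ℤ))) :=
    fun v => hψ v
  have hM : 0 < N * K := mul_pos hN hKpos
  have hex : ∃ n : ℕ, ∃ φ : V → ℤ,
      Groth.Agent.H88.LG.energy ends (fun v => ψ v - (N * K) * φ v) = (n : ℤ) :=
    ⟨_, 0, (Int.toNat_of_nonneg (Groth.Agent.H88.LG.energy_nonneg ends _)).symm⟩
  obtain ⟨φ, hφ⟩ := Nat.find_spec hex
  have hmin : ∀ φ' : V → ℤ, Groth.Agent.H88.LG.energy ends (fun v => ψ v - (N * K) * φ v)
      ≤ Groth.Agent.H88.LG.energy ends (fun v => ψ v - (N * K) * φ' v) := by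
    intro φ'
    have h1 : Groth.Agent.H88.LG.energy ends (fun v => ψ v - (N * K) * φ' v) =
        ((Groth.Agent.H88.LG.energy ends (fun v => ψ v - (N * K) * φ' v)).toNat : ℤ) :=
      (Int.toNat_of_nonneg (Groth.Agent.H88.LG.energy_nonneg ends _)).symm
    have h2 := Nat.find_min' hex ⟨φ', h1⟩
    rw [hφ, h1]
    exact_mod_cast h2
  refine ⟨fun v => d v - twist ends φ v, ⟨fun v => - φ v, fun v => ?_⟩, ?_⟩
  · rw [Groth.Agent.H88.LG.twist_neg]; ring
  · intro Y
    have htot : ∑ v, (d v - twist ends φ v) = D := by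
      rw [Finset.sum_sub_distrib, Groth.Agent.H88.LG.sum_twist_univ, sub_zero, hD]
    have hτ : ∑ v ∈ Y, twist ends (fun u => ψ u - (N * K) * φ u) v =
        N * (K * (∑ v ∈ Y, (d v - twist ends φ v)) - D * canDeg ends w Y) := by
      rw [Finset.sum_congr rfl (fun v _ => Groth.Agent.H88.LG.twist_sub_mul ends ψ φ (N * K) v)]
      rw [Finset.sum_sub_distrib, ← Finset.mul_sum, Finset.sum_congr rfl (fun v _ => hψ' v)]
      unfold canDeg
      rw [← Finset.mul_sum, Finset.sum_sub_distrib, Finset.sum_sub_distrib, ← Finset.mul_sum,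
        ← Finset.mul_sum]
      ring
    have hstep : ∀ s : ℤ, 2 * ((N * K) * s) *
        (∑ v ∈ Y, twist ends (fun u => ψ u - (N * K) * φ u) v)
        ≤ ((N * K) * s) ^ 2 * (cut ends Y : ℤ) := by
      intro s
      have h1 := hmin (fun v => φ v - s * Groth.Agent.H88.LG.ind Y v)
      have h2 : (fun v => ψ v - (N * K) * (φ v - s * Groth.Agent.H88.LG.ind Y v)) =
          (fun v => (ψ v - (N * K) * φ v) + ((N * K) * s) * Groth.Agent.H88.LG.ind Y v) := by
        funext v; ring
      rw [h2, Groth.Agent.H88.LG.energy_add_ind ends (fun u => ψ u - (N * K) * φ u)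
        ((N * K) * s) Y] at h1
      linarith
    have hp := hstep 1
    have hm := hstep (-1)
    rw [hτ] at hp hm
    show 2 * |canDeg ends w Finset.univ * (∑ v ∈ Y, (d v - twist ends φ v))
      - (∑ v, (d v - twist ends φ v)) * canDeg ends w Y|
      ≤ (cut ends Y : ℤ) * canDeg ends w Finset.univ
    rw [htot, ← hK]
    obtain ⟨B, hB⟩ : ∃ B : ℤ, B = K * (∑ v ∈ Y, (d v - twist ends φ v)) - D * canDeg ends w Y :=
      ⟨_, rfl⟩
    rw [← hB] at hp hm ⊢
    have hNK : 0 < N * (N * K) := mul_pos hN hM
    have h1 : (N * (N * K)) * (2 * B) ≤ (N * (N * K)) * ((cut ends Y : ℤ) * K) := by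
      nlinarith [hp]
    have h2 : (N * (N * K)) * (2 * (-B)) ≤ (N * (N * K)) * ((cut ends Y : ℤ) * K) := by
      nlinarith [hm]
    have h3 := le_of_mul_le_mul_left h1 hNK
    have h4 := le_of_mul_le_mul_left h2 hNK
    rcases abs_cases B with ⟨h, _⟩ | ⟨h, _⟩ <;> rw [h] <;> linarith

end Groth.Agent.S17173
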