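import Groth.Statements.S17174
import Groth.Agent.H88.LabGraphBI
import Mathlib.Tactic

set_option autoImplicit false
universe u
open LabGraph

namespace Groth.Agent.S17174

open LabGraph in
/-- Let Γ be the weighted dual graph of a Deligne–Mumford semistable curve X of genus g ≥ 3 over an
algebraically closed field (connected; every weight-zero vertex without loop is joined to the other
vertices by at least two edges), and let d, d' be two multidegrees of the same (arbitrary) total
degree D (g ≥ 3 being the paper's standing assumption) which both satisfy the Basic Inequality and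
lie in the same degree class (d - d' is a twist). Then d - d' can be written in normal form: there
is a labelling h of the vertices by natural numbers taking exactly the values 0, 1, …, q, with d -
d' equal to the twist of h (that is, d - d' = Σ_v h(v)·c_v with c_v the multidegree of O(C_v)), such
that for distinct levels i ≠ j in {0, …, q} the subcurves on h⁻¹(i) and h⁻¹(j) meet (some edge joins
the two levels) exactly when |i - j| = 1. -/
theorem result {V E : Type u} [Fintype V] [Fintype E]
    [DecidableEq V] [DecidableEq E] (ends : E → V × V) (w : V → ℕ) (hX : IsSemistableGraph ends w)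
    (hg : 3 ≤ genus ends w) (d d' : V → ℤ)
    (hBI : SatisfiesBI ends w d) (hBI' : SatisfiesBI ends w d') (heq : TwistEquiv ends d d') :
    ∃ (q : ℕ) (h : V → ℕ), (∀ v : V, h v ≤ q) ∧ (∀ i : ℕ, i ≤ q → ∃ v : V, h v = i) ∧
      (∀ v : V, d v - d' v = twist ends (fun u => (h u : ℤ)) v) ∧
      (∀ i j : ℕ, i ≤ q → j ≤ q → i ≠ j →
        ((∃ e : E, (h (ends e).1 = i ∧ h (ends e).2 = j) ∨ (h (ends e).1 = j ∧ h (ends e).2 = i)) ↔
          (i + 1 = j ∨ j + 1 = i))) := by
  classical
  obtain ⟨hconn, _⟩ := hX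
  obtain ⟨φ, hφ⟩ := heq
  obtain ⟨v₀⟩ := hconn.1
  have hKpos : 0 < canDeg ends w Finset.univ := by
    rw [Groth.Agent.H88.LG.canDeg_univ]; linarith
  obtain ⟨v₁, -, hv₁⟩ := Finset.exists_min_image Finset.univ φ ⟨v₀, Finset.mem_univ _⟩
  obtain ⟨h, hh⟩ : ∃ h : V → ℕ, ∀ v, ((h v : ℕ) : ℤ) = φ v - φ v₁ :=
    ⟨fun v => (φ v - φ v₁).toNat, fun v => Int.toNat_of_nonneg (by
      have := hv₁ v (Finset.mem_univ v); linarith)⟩
  obtain ⟨v₂, -, hv₂⟩ := Finset.exists_max_image Finset.univ h ⟨v₀, Finset.mem_univ _⟩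
  have hh1 : h v₁ = 0 := by
    have h0 := hh v₁
    rw [sub_self] at h0
    exact_mod_cast h0
  have htw : ∀ v, d v - d' v = twist ends (fun u => (h u : ℤ)) v := by
    intro v
    rw [hφ v]
    have h0 : (fun u => ((h u : ℕ) : ℤ)) = fun u => φ u - φ v₁ := funext hh
    rw [h0, Groth.Agent.H88.LG.twist_shift]
  have hD : ∑ v, d v = ∑ v, d' v := by
    have h0 : ∑ v, (d v - d' v) = 0 := by
      rw [Finset.sum_congr rfl (fun v _ => hφ v), Groth.Agent.H88.LG.sum_twist_univ]
    rw [Finset.sum_sub_distrib] at h0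
    linarith
  -- no edge jumps by two or more levels
  have key : ∀ (t : ℕ) (e₀ : E),
      ¬ ((t ≤ h (ends e₀).1 ∧ h (ends e₀).2 + 1 < t) ∨
         (t ≤ h (ends e₀).2 ∧ h (ends e₀).1 + 1 < t)) := by
    intro t e₀ hcase
    have hge := Groth.Agent.H88.LG.BI_diff_ge ends w d d' hKpos hBI hBI' hD
      (Finset.univ.filter (fun v => t ≤ h v))
    rw [Finset.sum_congr rfl (fun v _ => htw v), Groth.Agent.H88.LG.sum_twist,
      Groth.Agent.H88.LG.cut_eq_sum] at hge
    have hsum : 0 ≤ ∑ e : E,
        ((Groth.Agent.H88.LG.ind (Finset.univ.filter (fun v => t ≤ h v)) (ends e).1 *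
            (((h (ends e).2 : ℕ) : ℤ) - ((h (ends e).1 : ℕ) : ℤ)) +
          Groth.Agent.H88.LG.ind (Finset.univ.filter (fun v => t ≤ h v)) (ends e).2 *
            (((h (ends e).1 : ℕ) : ℤ) - ((h (ends e).2 : ℕ) : ℤ))) +
          (Groth.Agent.H88.LG.ind (Finset.univ.filter (fun v => t ≤ h v)) (ends e).1 -
            Groth.Agent.H88.LG.ind (Finset.univ.filter (fun v => t ≤ h v)) (ends e).2) ^ 2) := by
      rw [Finset.sum_add_distrib]
      linarith
    have hlt : ∑ e : E,
        ((Groth.Agent.H88.LG.ind (Finset.univ.filter (fun v => t ≤ h v)) (ends e).1 *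
            (((h (ends e).2 : ℕ) : ℤ) - ((h (ends e).1 : ℕ) : ℤ)) +
          Groth.Agent.H88.LG.ind (Finset.univ.filter (fun v => t ≤ h v)) (ends e).2 *
            (((h (ends e).1 : ℕ) : ℤ) - ((h (ends e).2 : ℕ) : ℤ))) +
          (Groth.Agent.H88.LG.ind (Finset.univ.filter (fun v => t ≤ h v)) (ends e).1 -
            Groth.Agent.H88.LG.ind (Finset.univ.filter (fun v => t ≤ h v)) (ends e).2) ^ 2)
        < ∑ _e : E, (0 : ℤ) := by
      apply Finset.sum_lt_sum
      · intro e _
        simp only [Groth.Agent.H88.LG.ind, Finset.mem_filter, Finset.mem_univ, true_and]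
        by_cases h1 : t ≤ h (ends e).1 <;> by_cases h2 : t ≤ h (ends e).2
        · simp only [h1, h2, ↓reduceIte]
          linarith
        · have h1' : (t : ℤ) ≤ ((h (ends e).1 : ℕ) : ℤ) := by exact_mod_cast h1
          have h2' : ((h (ends e).2 : ℕ) : ℤ) < (t : ℤ) := by exact_mod_cast (not_le.mp h2)
          simp only [h1, h2, ↓reduceIte]
          linarith
        · have h1' : ((h (ends e).1 : ℕ) : ℤ) < (t : ℤ) := by exact_mod_cast (not_le.mp h1)
          have h2' : (t : ℤ) ≤ ((h (ends e).2 : ℕ) : ℤ) := by exact_mod_cast h2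
          simp only [h1, h2, ↓reduceIte]
          linarith
        · simp only [h1, h2, ↓reduceIte]
          linarith
      · refine ⟨e₀, Finset.mem_univ _, ?_⟩
        simp only [Groth.Agent.H88.LG.ind, Finset.mem_filter, Finset.mem_univ, true_and]
        rcases hcase with ⟨h1, h2⟩ | ⟨h1, h2⟩
        · have h3 : ¬ t ≤ h (ends e₀).2 := by omega
          have h1' : (t : ℤ) ≤ ((h (ends e₀).1 : ℕ) : ℤ) := by exact_mod_cast h1
          have h2' : ((h (ends e₀).2 : ℕ) : ℤ) + 1 < (t : ℤ) := by exact_mod_cast h2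
          simp only [h1, h3, ↓reduceIte]
          linarith
        · have h3 : ¬ t ≤ h (ends e₀).1 := by omega
          have h1' : (t : ℤ) ≤ ((h (ends e₀).2 : ℕ) : ℤ) := by exact_mod_cast h1
          have h2' : ((h (ends e₀).1 : ℕ) : ℤ) + 1 < (t : ℤ) := by exact_mod_cast h2
          simp only [h1, h3, ↓reduceIte]
          linarith
    rw [Finset.sum_const_zero] at hlt
    linarith
  have hnj : ∀ e : E, h (ends e).1 ≤ h (ends e).2 + 1 ∧ h (ends e).2 ≤ h (ends e).1 + 1 := by
    intro e
    by_contra hcon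
    by_cases h1 : h (ends e).1 ≤ h (ends e).2 + 1
    · have h2 : ¬ h (ends e).2 ≤ h (ends e).1 + 1 := fun h2 => hcon ⟨h1, h2⟩
      exact key (h (ends e).2) e (Or.inr ⟨le_rfl, by omega⟩)
    · exact key (h (ends e).1) e (Or.inl ⟨le_rfl, by omega⟩)
  have hcross : ∀ i : ℕ, i < h v₂ →
      ∃ e : E, (h (ends e).1 = i ∧ h (ends e).2 = i + 1) ∨
        (h (ends e).1 = i + 1 ∧ h (ends e).2 = i) := by
    intro i hi
    obtain ⟨e, he⟩ := Groth.Agent.H88.LG.exists_crossing ends hconn (fun v => h v ≤ i) v₁ v₂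
      (by show h v₁ ≤ i; omega) (by show ¬ h v₂ ≤ i; omega)
    have h3 := hnj e
    refine ⟨e, ?_⟩
    rcases he with ⟨h1, h2⟩ | ⟨h1, h2⟩
    · left
      have h1' : h (ends e).1 ≤ i := h1
      have h2' : ¬ h (ends e).2 ≤ i := h2
      omega
    · right
      have h1' : ¬ h (ends e).1 ≤ i := h1
      have h2' : h (ends e).2 ≤ i := h2
      omega
  refine ⟨h v₂, h, fun v => hv₂ v (Finset.mem_univ v), ?_, htw, ?_⟩
  · intro i hi
    cases i with
    | zero => exact ⟨v₁, hh1⟩
    | succ k =>
      obtain ⟨e, he⟩ := hcross k (by omega)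
      rcases he with ⟨_, h2⟩ | ⟨h1, _⟩
      · exact ⟨_, h2⟩
      · exact ⟨_, h1⟩
  · intro i j hi hj hij
    constructor
    · rintro ⟨e, ⟨h1, h2⟩ | ⟨h1, h2⟩⟩
      · have h3 := hnj e
        omega
      · have h3 := hnj e
        omega
    · rintro (hij' | hij')
      · subst hij'
        exact hcross i (by omega)
      · subst hij'
        obtain ⟨e, he⟩ := hcross j (by omega)
        exact ⟨e, he.symm⟩

end Groth.Agent.S17174
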