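import Groth.Statements.S17175

set_option autoImplicit false
universe u
open CAlg

namespace Groth.Agent.S17175

open PowerSeries in
/-- Let k be a field, O₀ = k[[x, y]]/(xy) the complete local ring of a node and Õ₀ = k[[x]] × k[[y]] its
normalization, O₀ being embedded in Õ₀ by h ↦ (h(x, 0), h(0, y)) as the subring of pairs with equal
constant coefficients. Regard Õ₀ as an O₀-module: it is the rank-one torsion-free O₀-module that is
not free. Then every O₀-linear endomorphism of this module is Õ₀-linear, i.e. it is multiplication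
by a unique element of Õ₀; consequently its O₀-endomorphism ring is Õ₀ and its O₀-automorphism group
is the unit group of Õ₀. Here an O₀-linear endomorphism is an additive map of k[[X]] × k[[X]]
commuting with multiplication by every pair whose two constant coefficients agree. (The source works
over an algebraically closed field; only the field structure is used.) -/
theorem result (k : Type u) [Field k]
    (φ : (k⟦X⟧ × k⟦X⟧) →+ (k⟦X⟧ × k⟦X⟧))
    (hφ : ∀ a s : k⟦X⟧ × k⟦X⟧, constantCoeff a.1 = constantCoeff a.2 → φ (a * s) = a * φ s) :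
    ∃! b : k⟦X⟧ × k⟦X⟧, ∀ s : k⟦X⟧ × k⟦X⟧, φ s = b * s := by
  set b : k⟦X⟧ × k⟦X⟧ := φ 1 with hb
  have hX0 : constantCoeff ((X : k⟦X⟧), (0 : k⟦X⟧)).1 = constantCoeff ((X : k⟦X⟧), (0 : k⟦X⟧)).2 := by
    simp
  have h0X : constantCoeff ((0 : k⟦X⟧), (X : k⟦X⟧)).1 = constantCoeff ((0 : k⟦X⟧), (X : k⟦X⟧)).2 := by
    simp
  -- φ (1, 0) = (b.1, 0)
  have he1 : φ (1, 0) = (b.1, 0) := by
    have h1 := hφ (X, 0) (1, 0) hX0
    have h2 := hφ (X, 0) 1 hX0
    have h3 := hφ (0, X) (1, 0) h0X
    have e1 : ((X : k⟦X⟧), (0 : k⟦X⟧)) * (1, 0) = (X, 0) * 1 := by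
      ext <;> simp
    have e2 : ((0 : k⟦X⟧), (X : k⟦X⟧)) * (1, 0) = 0 := by
      ext <;> simp
    rw [e1, h2] at h1
    rw [e2, map_zero] at h3
    have c1 : (φ (1, 0)).1 = b.1 := by
      have := congrArg Prod.fst h1
      simp only [Prod.fst_mul] at this
      exact (X_mul_cancel this).symm
    have c2 : (φ (1, 0)).2 = 0 := by
      have := congrArg Prod.snd h3
      simp only [Prod.snd_mul, Prod.snd_zero] at this
      have h' : (X : k⟦X⟧) * (φ (1, 0)).2 = X * 0 := by rw [mul_zero]; exact this.symm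
      exact X_mul_cancel h'
    exact Prod.ext c1 c2
  -- φ (0, 1) = (0, b.2)
  have he2 : φ (0, 1) = (0, b.2) := by
    have h1 := hφ (0, X) (0, 1) h0X
    have h2 := hφ (0, X) 1 h0X
    have h3 := hφ (X, 0) (0, 1) hX0
    have e1 : ((0 : k⟦X⟧), (X : k⟦X⟧)) * (0, 1) = (0, X) * 1 := by
      ext <;> simp
    have e2 : ((X : k⟦X⟧), (0 : k⟦X⟧)) * (0, 1) = 0 := by
      ext <;> simp
    rw [e1, h2] at h1
    rw [e2, map_zero] at h3
    have c1 : (φ (0, 1)).2 = b.2 := by
      have := congrArg Prod.snd h1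
      simp only [Prod.snd_mul] at this
      exact (X_mul_cancel this).symm
    have c2 : (φ (0, 1)).1 = 0 := by
      have := congrArg Prod.fst h3
      simp only [Prod.fst_mul, Prod.fst_zero] at this
      have h' : (X : k⟦X⟧) * (φ (0, 1)).1 = X * 0 := by rw [mul_zero]; exact this.symm
      exact X_mul_cancel h'
    exact Prod.ext c2 c1
  have hex : ∀ s : k⟦X⟧ × k⟦X⟧, φ s = b * s := by
    intro s
    have hs : s = (s.1, C (constantCoeff s.1)) * (1, 0) + (C (constantCoeff s.2), s.2) * (0, 1) := by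
      ext <;> simp
    have ha1 : constantCoeff (s.1, C (constantCoeff s.1)).1 =
        constantCoeff (s.1, (C (constantCoeff s.1) : k⟦X⟧)).2 := by simp
    have ha2 : constantCoeff ((C (constantCoeff s.2) : k⟦X⟧), s.2).1 =
        constantCoeff ((C (constantCoeff s.2) : k⟦X⟧), s.2).2 := by simp
    conv_lhs => rw [hs]
    rw [map_add, hφ _ _ ha1, hφ _ _ ha2, he1, he2]
    ext
    · simp [mul_comm]
    · simp [mul_comm]
  refine ⟨b, hex, ?_⟩
  intro b' hb'
  have := hb' 1
  rw [mul_one] at this
  exact this.symm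

end Groth.Agent.S17175
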