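import Groth.Statements.S17178
import Groth.Agent.H8.AssSch
import Groth.Agent.H8.Coh
import Groth.Agent.H8.CohKerCoker
import Groth.Agent.H8.StalkLocal
import Groth.Agent.H95.ZClosAss
import Mathlib.RingTheory.Ideal.MinimalPrime.Localization
import Mathlib.Topology.KrullDimension

set_option autoImplicit false
universe u
open CategoryTheory CategoryTheory.Limits AlgebraicGeometry
open Curves

namespace Groth.Agent.S17178

section Helpers

open CategoryTheory.Limits TopologicalSpace Opposite Groth.Agent.H8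

/-- In a reduced ring, an element of a minimal prime `P` is killed by some element outside `P`. -/
lemma exists_mul_eq_zero_of_mem_minimalPrimes {A : Type u} [CommRing A] [IsReduced A]
    {P : Ideal A} (hP : P ∈ minimalPrimes A) {x : A} (hx : x ∈ P) :
    ∃ a : A, a ∉ P ∧ a * x = 0 := by
  haveI : P.IsPrime := hP.1.1
  have h1 := IsLocalization.AtPrime.radical_map_of_mem_minimalPrimes
    (A := Localization.AtPrime P) P ⊥ hP
  have h2 : algebraMap A (Localization.AtPrime P) x ∈
      (Ideal.map (algebraMap A (Localization.AtPrime P)) ⊥).radical := by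
    rw [h1]; exact Ideal.mem_map_of_mem _ hx
  rw [Ideal.map_bot] at h2
  obtain ⟨n, hn⟩ := h2
  rw [Ideal.mem_bot, ← map_pow] at hn
  obtain ⟨t, ht⟩ := (IsLocalization.map_eq_zero_iff P.primeCompl _ _).mp hn
  refine ⟨t.1, t.2, ?_⟩
  have h3 : (t.1 * x) ^ (n + 1) = 0 := by
    have : (t.1 * x) ^ (n + 1) = (t.1 * x ^ n) * (t.1 ^ n * x) := by ring
    rw [this, ht, zero_mul]
  exact IsReduced.eq_zero _ ⟨n + 1, h3⟩

section Top

variable {Y : Type u} [TopologicalSpace Y]

lemma irreducible_preimage_val (Z C : Set Y) (hC : IsIrreducible C) (hCZ : C ⊆ Z) :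
    IsIrreducible ((Subtype.val : Z → Y) ⁻¹' C) := by
  constructor
  · obtain ⟨c, hc⟩ := hC.nonempty
    exact ⟨⟨c, hCZ hc⟩, hc⟩
  · intro a b ha hb hna hnb
    obtain ⟨a', ha', rfl⟩ := isOpen_induced_iff.mp ha
    obtain ⟨b', hb', rfl⟩ := isOpen_induced_iff.mp hb
    obtain ⟨p, hpC, hpa⟩ := hna
    obtain ⟨q, hqC, hqb⟩ := hnb
    obtain ⟨c, hcC, hca, hcb⟩ := hC.2 a' b' ha' hb' ⟨p.1, hpC, hpa⟩ ⟨q.1, hqC, hqb⟩
    exact ⟨⟨c, hCZ hcC⟩, hcC, hca, hcb⟩

/-- A set of dimension one cannot sit inside an irreducible closed set which is strictly contained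
in an irreducible closed subset of a set of dimension one. -/
lemma false_of_chain (Z S : Set Y) (hZ : topologicalKrullDim Z = 1)
    (hS : topologicalKrullDim S = 1)
    (T T' : Set Y) (hTirr : IsIrreducible T) (hTcl : IsClosed T) (hT'irr : IsIrreducible T')
    (hT'cl : IsClosed T') (hST : S ⊆ T) (hTT' : T ⊆ T') (hne : T ≠ T') (hT'Z : T' ⊆ Z) :
    False := by
  have h1 : (1 : WithBot ℕ∞) ≤ Order.krullDim (IrreducibleCloseds S) := by
    have := hS
    unfold topologicalKrullDim at this
    rw [this]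
  obtain ⟨c0, c1, h01⟩ := Order.one_le_krullDim_iff.mp h1
  have hι : StrictMono (IrreducibleCloseds.map (Subtype.val : S → Y) continuous_subtype_val) :=
    IrreducibleCloseds.map_strictMono_of_isInducing Topology.IsInducing.subtypeVal
  set C0 := IrreducibleCloseds.map (Subtype.val : S → Y) continuous_subtype_val c0 with hC0
  set C1 := IrreducibleCloseds.map (Subtype.val : S → Y) continuous_subtype_val c1 with hC1
  have hC01 : C0 < C1 := hι h01
  have hC1T : (C1 : Set Y) ⊆ T := by
    rw [hC1, IrreducibleCloseds.coe_map]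
    refine closure_minimal ?_ hTcl
    rintro _ ⟨a, -, rfl⟩
    exact hST a.2
  let Tc : IrreducibleCloseds Y := ⟨T, hTirr, hTcl⟩
  let Tc' : IrreducibleCloseds Y := ⟨T', hT'irr, hT'cl⟩
  have hC1Tc : C1 ≤ Tc := SetLike.coe_subset_coe.mp hC1T
  have hTcTc' : Tc < Tc' := by
    refine lt_of_le_of_ne (SetLike.coe_subset_coe.mp hTT') ?_
    intro h
    exact hne (congrArg (fun D : IrreducibleCloseds Y => (D : Set Y)) h)
  have hC1Tc' : C1 < Tc' := lt_of_le_of_lt hC1Tc hTcTc'
  have hsub : ∀ C : IrreducibleCloseds Y, C ≤ Tc' → (C : Set Y) ⊆ Z := fun C hC =>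
    (SetLike.coe_subset_coe.mpr hC).trans hT'Z
  let pre : (C : IrreducibleCloseds Y) → ((C : Set Y) ⊆ Z) → IrreducibleCloseds Z := fun C hC =>
    ⟨Subtype.val ⁻¹' (C : Set Y), irreducible_preimage_val Z C C.isIrreducible hC,
      C.isClosed.preimage continuous_subtype_val⟩
  have hpre : ∀ (C C' : IrreducibleCloseds Y) (hC : (C : Set Y) ⊆ Z) (hC' : (C' : Set Y) ⊆ Z),
      C < C' → pre C hC < pre C' hC' := by
    intro C C' hC hC' hlt
    have hsub' : (C : Set Y) ⊆ (C' : Set Y) := SetLike.coe_subset_coe.mpr hlt.le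
    have hle' : pre C hC ≤ pre C' hC' :=
      SetLike.coe_subset_coe.mp (Set.preimage_mono (f := (Subtype.val : Z → Y)) hsub')
    refine lt_of_le_of_ne hle' ?_
    intro heq
    apply hlt.ne
    apply IrreducibleCloseds.ext
    have h2 : (Subtype.val ⁻¹' (C : Set Y) : Set Z) = Subtype.val ⁻¹' (C' : Set Y) :=
      congrArg (fun D : IrreducibleCloseds Z => (D : Set Z)) heq
    have h3 := congrArg (Set.image Subtype.val) h2
    rwa [Subtype.image_preimage_coe, Subtype.image_preimage_coe, Set.inter_eq_right.mpr hC,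
      Set.inter_eq_right.mpr hC'] at h3
  have hd01 := hpre C0 C1 (hsub C0 (hC01.le.trans hC1Tc'.le)) (hsub C1 hC1Tc'.le) hC01
  have hd12 := hpre C1 Tc' (hsub C1 hC1Tc'.le) (hsub Tc' le_rfl) hC1Tc'
  have ha := Order.height_add_one_le hd01
  have hb := Order.height_add_one_le hd12
  have h2 : (2 : ℕ∞) ≤ Order.height (pre Tc' (hsub Tc' le_rfl)) := by
    calc (2 : ℕ∞) = 0 + 1 + 1 := by norm_num
      _ ≤ Order.height (pre C0 (hsub C0 (hC01.le.trans hC1Tc'.le))) + 1 + 1 := by
          gcongr; exact zero_le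
      _ ≤ Order.height (pre C1 (hsub C1 hC1Tc'.le)) + 1 := by gcongr
      _ ≤ _ := hb
  have h3 := Order.height_le_krullDim (pre Tc' (hsub Tc' le_rfl))
  have h4 : ((2 : ℕ∞) : WithBot ℕ∞) ≤ topologicalKrullDim Z :=
    (WithBot.coe_le_coe.mpr h2).trans h3
  rw [hZ] at h4
  have h5 : ((2 : ℕ∞) : WithBot ℕ∞) ≤ ((1 : ℕ∞) : WithBot ℕ∞) := h4
  rw [WithBot.coe_le_coe] at h5
  exact absurd h5 (by norm_num)

end Top

variable {X : Scheme.{u}}

lemma res_res_self (J : X.Modules) {A B : X.Opens} (h1 : B ≤ A) (h2 : A ≤ B)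
    (s : J.presheaf.obj (op A)) :
    J.presheaf.map (homOfLE h2).op (J.presheaf.map (homOfLE h1).op s) = s := by
  rw [Groth.Agent.H95.ZClos.map_map_apply]
  have : homOfLE (h2.trans h1) = 𝟙 A := Subsingleton.elim _ _
  rw [this, op_id, J.presheaf.map_id]
  rfl

/-- The sections of `J` killed by restriction to `W` have support in the complement of `W`. -/
lemma support_kernel_subset (J : X.Modules) (W : X.Opens) :
    CohB1.support (kernel ((ZClos.resPushUnit W).app J)) ⊆ (W : Set X)ᶜ := by
  intro z hz hzW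
  apply hz
  refine (subsingleton_stalk_iff z _).mpr fun t => ?_
  obtain ⟨V', hzV', k, rfl⟩ := TopCat.Presheaf.exists_germ_eq
    (kernel ((ZClos.resPushUnit W).app J)).presheaf t
  have hle : V' ⊓ W ≤ V' := inf_le_left
  have hz'' : z ∈ V' ⊓ W := ⟨hzV', hzW⟩
  rw [← germ_res z _ hle hz'' k]
  set k'' := (kernel ((ZClos.resPushUnit W).app J)).presheaf.map (homOfLE hle).op k with hk''
  have hk0 : k'' = 0 := by
    apply app_injective_of_mono (kernel.ι ((ZClos.resPushUnit W).app J)) (V' ⊓ W)
    rw [map_zero]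
    have h1 : ((ZClos.resPushUnit W).app J).app (V' ⊓ W)
        ((kernel.ι ((ZClos.resPushUnit W).app J)).app (V' ⊓ W) k'') = 0 :=
      app_comp_eq_zero (ShortComplex.mk (kernel.ι ((ZClos.resPushUnit W).app J))
        ((ZClos.resPushUnit W).app J) (kernel.condition _)) (V' ⊓ W) k''
    rw [ZClos.resPushUnit_app_app] at h1
    have e : V' ⊓ W ≤ W.ι ''ᵁ W.ι ⁻¹ᵁ (V' ⊓ W) := by
      rw [ZClos.ι_image_preimage]; exact le_inf inf_le_right le_rfl
    have h2 := res_res_self J (W.ι.image_preimage_le (V' ⊓ W)) e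
      ((kernel.ι ((ZClos.resPushUnit W).app J)).app (V' ⊓ W) k'')
    have h3 : J.presheaf.map (homOfLE (W.ι.image_preimage_le (V' ⊓ W))).op
        ((kernel.ι ((ZClos.resPushUnit W).app J)).app (V' ⊓ W) k'') = 0 := h1
    rw [← h2, h3, map_zero]
  rw [hk0, map_zero]

lemma not_isZero_kernel_of_section (J : X.Modules) (W V : X.Opens) (n : Γ(J, V)) (hn : n ≠ 0)
    (hres : J.presheaf.map (homOfLE (W.ι.image_preimage_le V)).op n = 0) :
    ¬ IsZero (kernel ((ZClos.resPushUnit W).app J)) := by
  intro hz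
  have hS : (ShortComplex.mk (kernel.ι ((ZClos.resPushUnit W).app J))
      ((ZClos.resPushUnit W).app J) (kernel.condition _)).Exact :=
    ShortComplex.exact_of_f_is_kernel _ (kernelIsKernel _)
  obtain ⟨k, hk⟩ := exists_app_eq_of_exact _ hS V n hres
  apply hn
  have h0 : kernel.ι ((ZClos.resPushUnit W).app J) = 0 := hz.eq_of_src _ _
  have : (kernel.ι ((ZClos.resPushUnit W).app J)).app V k = n := hk
  rw [← this, h0]
  rfl

/-- The point of an associated prime of the sections over a Noetherian affine open is an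
associated point. -/
lemma pointOfPrime_isAssPoint {U : X.Opens} (hU : IsAffineOpen U) [IsNoetherianRing Γ(X, U)]
    (N : X.Modules) [N.IsQuasicoherent] (P : Ideal Γ(X, U)) [hPp : P.IsPrime]
    (hP : IsAssociatedPrime P Γ(N, U)) :
    Curv2.IsAssPoint N (pointOfPrime hU P) := by
  rw [isAssPoint_iff_isAssociatedPrime hU N _ (pointOfPrime_mem hU P),
    primeIdealOf_pointOfPrime]
  exact hP

variable [IsLocallyNoetherian X]

lemma isCoh_kernel' {F G : X.Modules} (hF : Coh.IsCoh F) [G.IsQuasicoherent] (φ : F ⟶ G) :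
    Coh.IsCoh (kernel φ) := by
  haveI : F.IsQuasicoherent := hF.1
  haveI hq : (kernel φ).IsQuasicoherent := Groth.Agent.H22.QCohLimits.isQuasicoherent_kernel φ
  refine ⟨hq, ?_⟩
  apply isFiniteType_of_forall_affine_finite
  intro U
  haveI : IsNoetherianRing Γ(X, (U : X.Opens)) := IsLocallyNoetherian.component_noetherian U
  haveI : Module.Finite Γ(X, (U : X.Opens)) Γ(F, (U : X.Opens)) :=
    finite_sections_of_isCoh F hF U.2
  haveI : IsNoetherian Γ(X, (U : X.Opens)) Γ(F, (U : X.Opens)) :=
    isNoetherian_of_isNoetherianRing_of_finite _ _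
  exact Module.Finite.of_injective (appₗ (kernel.ι φ) (U : X.Opens))
    (appₗ_injective_of_mono (kernel.ι φ) (U : X.Opens))

/-- On a scheme whose irreducible components have dimension one, the associated primes of a
module which is pure of dimension one are minimal primes. -/
lemma minimal_of_pure (J : X.Modules) (hJc : Coh.IsCoh J) (hJp : ShStab.IsPure X J 1)
    (hequi : ∀ Z ∈ irreducibleComponents (X : Type u), topologicalKrullDim Z = 1)
    {V : X.Opens} (hV : IsAffineOpen V) (P : Ideal Γ(X, V)) [hPp : P.IsPrime]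
    (hP : IsAssociatedPrime P Γ(J, V)) :
    P ∈ minimalPrimes Γ(X, V) := by
  by_contra hmin
  haveI : J.IsQuasicoherent := hJc.1
  haveI : IsNoetherianRing Γ(X, V) := IsLocallyNoetherian.component_noetherian ⟨V, hV⟩
  obtain ⟨Q, hQmin, hQP⟩ := Ideal.exists_minimalPrimes_le (I := ⊥) (J := P) bot_le
  haveI hQp : Q.IsPrime := hQmin.1.1
  have hQne : Q ≠ P := fun h => hmin (h ▸ hQmin)
  obtain ⟨n', hPn⟩ := (isAssociatedPrime_iff.mp hP).2
  have hn' : n' ≠ 0 := by
    rintro rfl
    apply hPp.ne_top
    rw [hPn, Ideal.eq_top_iff_one, Submodule.mem_colon_singleton]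
    simp
  set y := pointOfPrime hV P with hy
  set η := pointOfPrime hV Q with hη
  have hyV : y ∈ V := pointOfPrime_mem hV P
  have hprime : (hV.primeIdealOf ⟨y, hyV⟩).asIdeal = P :=
    congrArg PrimeSpectrum.asIdeal (primeIdealOf_pointOfPrime hV P)
  let W : X.Opens := ⟨(closure {y})ᶜ, isClosed_closure.isOpen_compl⟩
  have hres : J.presheaf.map (homOfLE (W.ι.image_preimage_le V)).op n' = 0 := by
    refine TopCat.Presheaf.section_ext ⟨J.presheaf, J.isSheaf⟩ _ _ 0 (fun z hz => ?_)
    rw [map_zero]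
    have hz' : z ∈ W ⊓ V := by
      rw [← ZClos.ι_image_preimage]; exact hz
    have hzV : z ∈ V := hz'.2
    have e1 := germ_res z J (W.ι.image_preimage_le V) hz n'
    rw [e1]
    refine germ_eq_zero_of_not_specializes hV J y hyV n' ?_ z hzV ?_
    · rw [hprime, hPn]; exact Ideal.le_radical
    · intro hsp
      exact hz'.1 (specializes_iff_mem_closure.mp hsp)
  haveI : ((ZClos.resPush W).obj J).IsQuasicoherent :=
    Groth.Agent.H95.ZClos.isQuasicoherent_resPush (F := J) hJc.1 W
  have hFcoh : Coh.IsCoh (kernel ((ZClos.resPushUnit W).app J)) :=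
    isCoh_kernel' hJc ((ZClos.resPushUnit W).app J)
  have hFne := not_isZero_kernel_of_section J W V n' hn' hres
  have hdim := hJp _ (kernel.ι ((ZClos.resPushUnit W).app J)) inferInstance hFcoh hFne
  have hsupp : CohB1.support (kernel ((ZClos.resPushUnit W).app J)) ⊆ closure {y} := by
    refine (support_kernel_subset J W).trans ?_
    intro z hz
    by_contra hzc
    exact hz hzc
  obtain ⟨Z, hZ, hηZ⟩ := exists_mem_irreducibleComponents_subset_of_isIrreducible
    (closure {η}) (isIrreducible_singleton.closure)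
  have hspec : η ⤳ y := pointOfPrime_specializes hV Q y hyV (by rw [hprime]; exact hQP)
  refine false_of_chain Z _ (hequi Z hZ) (by simpa using hdim) (closure {y}) (closure {η})
    isIrreducible_singleton.closure isClosed_closure isIrreducible_singleton.closure
    isClosed_closure hsupp (specializes_iff_closure_subset.mp hspec) ?_ hηZ
  intro hcl
  have hsp2 : y ⤳ η := specializes_iff_closure_subset.mpr (le_of_eq hcl.symm)
  have hsp3 : (⟨P, hPp⟩ : PrimeSpectrum Γ(X, V)) ⤳ ⟨Q, hQp⟩ :=
    (hV.fromSpec.isOpenEmbedding.isInducing.specializes_iff).mp hsp2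
  have hPQ : P ≤ Q := (PrimeSpectrum.le_iff_specializes ⟨P, hPp⟩ ⟨Q, hQp⟩).mpr hsp3
  exact hQne (le_antisymm hQP hPQ)

lemma smul_section_eq_zero [IsReduced X] (J : X.Modules) (hJc : Coh.IsCoh J)
    (hJp : ShStab.IsPure X J 1)
    (hequi : ∀ Z ∈ irreducibleComponents (X : Type u), topologicalKrullDim Z = 1)
    (U : X.Opens) (f : X.presheaf.obj (Opposite.op U))
    (hf : ∀ x : X, x ∈ U → x ∈ CohB1.support J → x ∉ X.basicOpen f)
    {V : X.Opens} (hV : IsAffineOpen V) (hVU : V ≤ U) (s : Γ(J, V)) :
    (X.presheaf.map (homOfLE hVU).op f) • s = 0 := by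
  haveI : J.IsQuasicoherent := hJc.1
  haveI : IsNoetherianRing Γ(X, V) := IsLocallyNoetherian.component_noetherian ⟨V, hV⟩
  set f' : Γ(X, V) := X.presheaf.map (homOfLE hVU).op f with hf'
  by_contra hn0
  obtain ⟨P, hP, hle⟩ := exists_le_isAssociatedPrime_of_isNoetherianRing Γ(X, V) (f' • s) hn0
  haveI hPp : P.IsPrime := hP.isPrime
  have hmin := minimal_of_pure J hJc hJp hequi hV P hP
  set y := pointOfPrime hV P with hy
  have hyV : y ∈ V := pointOfPrime_mem hV P
  have hyAss : Curv2.IsAssPoint J y := pointOfPrime_isAssPoint hV J P hP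
  have hysupp : y ∈ CohB1.support J := by
    haveI := nontrivial_stalk_of_isAssPoint J y hyAss
    exact not_subsingleton _
  have hyf : y ∉ X.basicOpen f := hf y (hVU hyV) hysupp
  have hf'P : f' ∈ P := by
    by_contra h
    apply hyf
    have hprime : (hV.primeIdealOf ⟨y, hyV⟩).asIdeal = P :=
      congrArg PrimeSpectrum.asIdeal (primeIdealOf_pointOfPrime hV P)
    have h1 : y ∈ X.basicOpen f' := by
      refine (mem_basicOpen_iff_notMem_primeIdealOf hV y hyV f').mpr ?_
      show f' ∉ (hV.primeIdealOf ⟨y, hyV⟩).asIdeal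
      rw [hprime]
      exact h
    have h2 : X.basicOpen f' ≤ X.basicOpen f := by
      rw [hf', Scheme.basicOpen_res]; exact inf_le_right
    exact h2 h1
  obtain ⟨a, haP, haf⟩ := exists_mul_eq_zero_of_mem_minimalPrimes hmin hf'P
  apply haP
  apply hle
  rw [Submodule.mem_colon_singleton, Submodule.mem_bot, ← mul_smul, haf, zero_smul]

end Helpers

/-- Let k be an algebraically closed field and X a nodal curve over k: proper over k, reduced,
connected, every irreducible component of dimension one, with at-worst-nodal singularities. Let J be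
a coherent O_X-module which is pure of dimension one (every nonzero coherent submodule has
one-dimensional support), for instance a pure quotient with one-dimensional support of a rank-one
torsion-free sheaf. Let U be an open subset and f a function on U vanishing at every point of U
lying in the support Y of J. Then f acts as zero on J over U: for every x ∈ U the germ of f at x
annihilates the stalk J_x. In other words the ideal sheaf of the reduced subcurve Y annihilates J,
so J is an O_Y-module; this is the first assertion in the proof that every such quotient q : I → J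
of a rank-one torsion-free I factors through the torsion-free restriction of I to Y, the remaining
assertion (that the induced map is an isomorphism) not being part of this row. -/
theorem result
    (k : Type u) [Field k] [IsAlgClosed k] (X : Scheme.{u}) [X.Over (Spec (CommRingCat.of k))]
    [IsProper (X ↘ Spec (CommRingCat.of k))] [IsReduced X] [ConnectedSpace X]
    (hequi : ∀ Z ∈ irreducibleComponents (X : Type u), topologicalKrullDim Z = 1)
    (hX : Curv2.AtWorstNodal k X)
    (J : X.Modules) (hJc : Coh.IsCoh J) (hJp : ShStab.IsPure X J 1)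
    (U : X.Opens) (f : X.presheaf.obj (Opposite.op U))
    (hf : ∀ x : X, x ∈ U → x ∈ CohB1.support J → x ∉ X.basicOpen f)
    (x : X) (hx : x ∈ U) (t : J.presheaf.stalk x) :
    (X.presheaf.germ U x hx f) • t = 0 := by
  haveI : IsLocallyNoetherian X :=
    LocallyOfFiniteType.isLocallyNoetherian (X ↘ Spec (CommRingCat.of k))
  obtain ⟨W0, hxW0, s0, rfl⟩ := TopCat.Presheaf.exists_germ_eq J.presheaf t
  obtain ⟨_, ⟨V, hV, rfl⟩, hxV, hVsub⟩ := X.isBasis_affineOpens.exists_subset_of_mem_open
    (show x ∈ ((W0 ⊓ U : X.Opens) : Set X) from ⟨hxW0, hx⟩) (W0 ⊓ U).isOpen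
  have hVW0 : V ≤ W0 := fun z hz => (hVsub hz).1
  have hVU : V ≤ U := fun z hz => (hVsub hz).2
  have h0 := smul_section_eq_zero J hJc hJp hequi U f hf hV hVU
    (J.presheaf.map (homOfLE hVW0).op s0)
  have h1 := congrArg (J.presheaf.germ V x hxV) h0
  rw [Groth.Agent.H8.germ_smul J x hxV, map_zero, Groth.Agent.H8.germ_res x J hVW0 hxV s0,
    TopCat.Presheaf.germ_res_apply] at h1
  exact h1

end Groth.Agent.S17178
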