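import Groth.Statements.S17179
import Mathlib.Tactic

set_option autoImplicit false
universe u
open LabGraph

namespace Groth.Agent.S17179

section helpers
open LabGraph
variable {V E : Type u} [Fintype V] [Fintype E] [DecidableEq V] [DecidableEq E]

/-- integer indicator of a vertex set -/
private def ind (Y : Finset V) (v : V) : ℤ := if v ∈ Y then 1 else 0

private theorem cut_eq_sum (ends : E → V × V) (Y : Finset V) :
    (cut ends Y : ℤ) = ∑ e : E, (ind Y (ends e).1 - ind Y (ends e).2) ^ 2 := by
  unfold cut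
  rw [Finset.card_filter]
  push_cast
  apply Finset.sum_congr rfl
  intro e _
  unfold ind
  by_cases h1 : (ends e).1 ∈ Y <;> by_cases h2 : (ends e).2 ∈ Y <;> simp [h1, h2]

private theorem sum_twist (ends : E → V × V) (φ : V → ℤ) (Y : Finset V) :
    ∑ v ∈ Y, twist ends φ v = ∑ e : E, (ind Y (ends e).1 * (φ (ends e).2 - φ (ends e).1) +
      ind Y (ends e).2 * (φ (ends e).1 - φ (ends e).2)) := by
  unfold twist
  rw [Finset.sum_comm]
  apply Finset.sum_congr rfl
  intro e _
  rw [Finset.sum_add_distrib, Finset.sum_ite_eq, Finset.sum_ite_eq]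
  unfold ind
  by_cases h1 : (ends e).1 ∈ Y <;> by_cases h2 : (ends e).2 ∈ Y <;> simp [h1, h2]

private def mu (ends : E → V × V) (w : V → ℕ) (d : V → ℤ) (K D : ℤ) (v : V) : ℤ :=
  2 * (K * d v - D * (2 * (w v : ℤ) - 2 + (endCount ends Finset.univ v : ℤ)))

private theorem two_mul_eq_sum_mu (ends : E → V × V) (w : V → ℕ) (d : V → ℤ) (K D : ℤ)
    (S : Finset V) :
    2 * (K * (∑ v ∈ S, d v) - D * canDeg ends w S) = ∑ v ∈ S, mu ends w d K D v := by
  unfold canDeg mu
  rw [Finset.mul_sum, Finset.mul_sum, ← Finset.sum_sub_distrib, Finset.mul_sum]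

private theorem sum_endCount (ends : E → V × V) :
    (∑ v : V, (endCount ends Finset.univ v : ℤ)) = 2 * (Fintype.card E : ℤ) := by
  unfold endCount
  push_cast
  rw [Finset.sum_comm]
  have h : ∀ e ∈ (Finset.univ : Finset E), (∑ v : V, (((if (ends e).1 = v then 1 else 0) : ℤ) +
      (if (ends e).2 = v then 1 else 0))) = 2 := by
    intro e _
    rw [Finset.sum_add_distrib, Finset.sum_ite_eq, Finset.sum_ite_eq]
    simp
  rw [Finset.sum_congr rfl h, Finset.sum_const, Finset.card_univ, nsmul_eq_mul]
  ring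

private theorem canDeg_univ (ends : E → V × V) (w : V → ℕ) :
    canDeg ends w Finset.univ = 2 * genus ends w - 2 := by
  unfold canDeg genus
  rw [Finset.sum_add_distrib, Finset.sum_sub_distrib, sum_endCount, ← Finset.mul_sum,
    Finset.sum_const, Finset.card_univ, nsmul_eq_mul]
  ring

end helpers

open LabGraph in
/-- Let Γ be the weighted dual graph of a Deligne–Mumford semistable curve X of genus g ≥ 3 (connected;
every weight-zero vertex without loop joined to the other vertices by at least two edges), d a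
multidegree of total degree D satisfying the Basic Inequality, and Z a set of vertices whose degree
equals the upper extreme M_Z of the inequality, that is 2((2g - 2)·d_Z - D·canDeg Z) = cut Z·(2g -
2). Then d + z again satisfies the Basic Inequality, where z, the multidegree of O(Z) on the total
space of a regular smoothing, is the twist of the indicator function of Z (it lowers the degree on Z
by cut Z and raises it on each outside vertex by its number of edges to Z). -/
theorem result {V E : Type u} [Fintype V] [Fintype E]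
    [DecidableEq V] [DecidableEq E] (ends : E → V × V) (w : V → ℕ) (hX : IsSemistableGraph ends w)
    (hg : 3 ≤ genus ends w) (d : V → ℤ) (hBI : SatisfiesBI ends w d) (Z : Finset V)
    (hZ : 2 * (canDeg ends w Finset.univ * (∑ v ∈ Z, d v) - (∑ v : V, d v) * canDeg ends w Z) =
      (cut ends Z : ℤ) * canDeg ends w Finset.univ) :
    SatisfiesBI ends w (fun v => d v + twist ends (fun u => if u ∈ Z then 1 else 0) v) := by
  classical
  change SatisfiesBI ends w (fun v => d v + twist ends (ind Z) v)
  intro Y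
  have hK0 : 0 ≤ canDeg ends w Finset.univ := by
    rw [canDeg_univ]; linarith
  set K := canDeg ends w Finset.univ with hK
  set D := ∑ v : V, d v with hD
  have htot : ∑ v : V, twist ends (ind Z) v = 0 := by
    rw [sum_twist]
    apply Finset.sum_eq_zero
    intro e _
    simp only [ind, Finset.mem_univ, if_true]
    ring
  have hBI' : ∀ S : Finset V, |∑ v ∈ S, mu ends w d K D v| ≤ (cut ends S : ℤ) * K := by
    intro S
    have h0 := hBI S
    rw [← two_mul_eq_sum_mu, abs_mul, abs_two]
    exact h0
  have hZ' : ∑ v ∈ Z, mu ends w d K D v = (cut ends Z : ℤ) * K := by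
    rw [← two_mul_eq_sum_mu]; exact hZ
  -- edge inequalities
  have E1 : (cut ends (Y ∪ Z) : ℤ) + cut ends (Y ∩ Z) + 2 * (∑ v ∈ Y, twist ends (ind Z) v)
      ≤ cut ends Y + cut ends Z := by
    rw [cut_eq_sum, cut_eq_sum, cut_eq_sum, cut_eq_sum, sum_twist, Finset.mul_sum,
      ← Finset.sum_add_distrib, ← Finset.sum_add_distrib, ← Finset.sum_add_distrib]
    apply Finset.sum_le_sum
    intro e _
    simp only [ind]
    by_cases h1 : (ends e).1 ∈ Y <;> by_cases h2 : (ends e).2 ∈ Y <;>
      by_cases h3 : (ends e).1 ∈ Z <;> by_cases h4 : (ends e).2 ∈ Z <;>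
      simp [Finset.mem_union, Finset.mem_inter, h1, h2, h3, h4]
  have E2 : (cut ends (Y \ Z) : ℤ) + cut ends (Z \ Y)
      ≤ cut ends Z + 2 * (∑ v ∈ Y, twist ends (ind Z) v) + cut ends Y := by
    rw [cut_eq_sum, cut_eq_sum, cut_eq_sum, cut_eq_sum, sum_twist, Finset.mul_sum,
      ← Finset.sum_add_distrib, ← Finset.sum_add_distrib, ← Finset.sum_add_distrib]
    apply Finset.sum_le_sum
    intro e _
    simp only [ind]
    by_cases h1 : (ends e).1 ∈ Y <;> by_cases h2 : (ends e).2 ∈ Y <;>
      by_cases h3 : (ends e).1 ∈ Z <;> by_cases h4 : (ends e).2 ∈ Z <;>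
      simp [Finset.mem_sdiff, h1, h2, h3, h4]
  have E1K := mul_le_mul_of_nonneg_left E1 hK0
  have E2K := mul_le_mul_of_nonneg_left E2 hK0
  -- additivity
  have add1 := Finset.sum_union_inter (s₁ := Y) (s₂ := Z) (f := mu ends w d K D)
  have add2 := Finset.sum_inter_add_sum_sdiff Y Z (mu ends w d K D)
  have add3 := Finset.sum_inter_add_sum_sdiff Z Y (mu ends w d K D)
  rw [Finset.inter_comm Z Y] at add3
  have b1 := (abs_le.mp (hBI' (Y ∪ Z))).2
  have b2 := (abs_le.mp (hBI' (Y ∩ Z))).2
  have b3 := (abs_le.mp (hBI' (Y \ Z))).1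
  have b4 := (abs_le.mp (hBI' (Z \ Y))).2
  -- rewrite the goal
  have e1 : ∑ v ∈ Y, (d v + twist ends (ind Z) v) =
      ∑ v ∈ Y, d v + ∑ v ∈ Y, twist ends (ind Z) v := Finset.sum_add_distrib
  have e2 : ∑ v : V, (d v + twist ends (ind Z) v) = D := by
    rw [Finset.sum_add_distrib, htot, add_zero]
  have e3 : 2 * |K * (∑ v ∈ Y, (d v + twist ends (ind Z) v)) -
      (∑ v : V, (d v + twist ends (ind Z) v)) * canDeg ends w Y| =
      |∑ v ∈ Y, mu ends w d K D v + 2 * K * ∑ v ∈ Y, twist ends (ind Z) v| := by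
    rw [e1, e2, ← two_mul_eq_sum_mu, ← abs_two, ← abs_mul, abs_two]
    congr 1
    ring
  rw [e3, abs_le]
  constructor
  · nlinarith [E1K, E2K, add1, add2, add3, b1, b2, b3, b4, hZ']
  · nlinarith [E1K, E2K, add1, add2, add3, b1, b2, b3, b4, hZ']

end Groth.Agent.S17179
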