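import Groth.Statements.S1718
import Groth.Agent.H71.DK.Fin3
import Groth.Agent.H12.DualDepthMain
import Groth.Agent.S0364

set_option autoImplicit false
universe u
open CategoryTheory
attribute [local instance] HasDerivedCategory.standard
open Dual

namespace Groth.Agent.S1718

/-- Let A be a Noetherian local ring with maximal ideal m, residue field κ and a normalized dualizing
complex ω, and let κ → E be an injective hull. Then the degree-0 local cohomology of ω with support
in m (the direct limit of Hom(A/m^n, ω)) is isomorphic to E, and the local cohomology of ω in every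
other degree is zero. -/
theorem result (A : Type u) [CommRing A] [IsLocalRing A] [IsNoetherianRing A] (ω : Dual.D A) (hω : Dual.IsDualizing A ω) (hn : Dual.IsNormalized A ω) (E : Type u) [AddCommGroup E] [Module A E] (f : IsLocalRing.ResidueField A →ₗ[A] E) (hf : InjHull.IsInjectiveHull f) : Nonempty (Dual2.HDI A (IsLocalRing.maximalIdeal A) ω 0 ≃ₗ[A] E) ∧ ∀ i : ℤ, i ≠ 0 → Subsingleton (Dual2.HDI A (IsLocalRing.maximalIdeal A) ω i) := by
  classical
  have hW : ∀ i : ℤ, i ≠ 0 → Groth.Agent.H12.DualDepth.Van ω i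
      (ModuleCat.of A (A ⧸ IsLocalRing.maximalIdeal A)) :=
    fun i hi => Groth.Agent.H12.DualDepth.dualizing_hk ω hn i hi
  obtain ⟨n₀, h1, ⟨e⟩⟩ := Groth.Agent.S0364.result A ω hω (IsLocalRing.maximalIdeal A)
  have hn₀ : n₀ = 0 := by
    by_contra hne
    haveI : Subsingleton (Dual.inD A (A ⧸ IsLocalRing.maximalIdeal A) ⟶ ω⟦n₀⟧) :=
      (Groth.Agent.H12.DualDepth.van_iff_subsingleton _ _ _).1 (hW n₀ hne)
    haveI : Subsingleton (A ⧸ IsLocalRing.maximalIdeal A) := e.symm.toEquiv.subsingleton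
    exact not_subsingleton (A ⧸ IsLocalRing.maximalIdeal A) inferInstance
  subst hn₀
  haveI hκs : IsSimpleModule A (A ⧸ IsLocalRing.maximalIdeal A) :=
    isSimpleModule_iff_quot_maximal.mpr
      ⟨IsLocalRing.maximalIdeal A, inferInstance, ⟨LinearEquiv.refl A _⟩⟩
  have hsimple : IsSimpleModule A
      (Groth.Agent.H12.DualDepth.sM (ModuleCat.of A (A ⧸ IsLocalRing.maximalIdeal A)) ⟶
        ω⟦(0 : ℤ)⟧) := IsSimpleModule.congr e
  refine ⟨Groth.Agent.H71.DKF.exists_equiv_HYI ω hW hsimple hf, fun i hi => ?_⟩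
  have hz : ∀ x : Groth.Agent.H12.RGamHDI.HYI (IsLocalRing.maximalIdeal A) (ω⟦i⟧), x = 0 := by
    intro x
    obtain ⟨n, y, rfl⟩ := Groth.Agent.H71.DKF.exists_rep' (ω⟦i⟧) x
    have hy : y = 0 := Groth.Agent.H71.DKF.van_of_isFiniteLength ω hW _
      (Groth.Agent.H2.Matlis.isFiniteLength_quotient_pow A n) i hi y
    rw [hy, map_zero]
  exact ⟨fun x x' => (hz x).trans (hz x').symm⟩

end Groth.Agent.S1718
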