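import Groth.Statements.S1720
import Groth.Agent.H58.CD_P1
import Groth.Agent.H80.CD_P2
import Groth.Agent.H64.CD_P3a
import Groth.Agent.H17.CD_P3b
import Groth.Agent.H84.HL_CPL
import Groth.Agent.S0332

set_option autoImplicit false
universe u
open CategoryTheory
attribute [local instance] HasDerivedCategory.standard
open LocCoh
open CategoryTheory.Limits Opposite IsLocalRing
open Groth.Agent.H12.RGamHDI Groth.Agent.H58.S1720

namespace Groth.Agent.S1720

/-- Let A be a Noetherian local ring with a normalized dualizing complex ω and I an ideal. If the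
degree-0 local cohomology of ω with support in I is zero, then the cohomological dimension of I is
less than dim A: for every A-module M, H^i_I(M) = 0 for all i ≥ dim A. -/
theorem result (A : Type u) [CommRing A] [IsLocalRing A] [IsNoetherianRing A] (ω : Dual.D A) (hω : Dual.IsDualizing A ω) (hn : Dual.IsNormalized A ω) (I : Ideal A) (h0 : Subsingleton (Dual2.HDI A I ω 0)) (M : Type u) [AddCommGroup M] [Module A M] (i : ℕ) (hi : ringKrullDim A ≤ (i : WithBot ℕ∞)) : Subsingleton (LocCoh.H I i M) := by
  classical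
  by_cases hI : I = ⊤
  · subst hI
    exact subsingleton_H_top A M i
  -- dimension is a natural number
  obtain ⟨d, hd⟩ : ∃ d : ℕ, ringKrullDim A = d := by
    have h1 : ringKrullDim A < ⊤ := ringKrullDim_lt_top
    have h2 : 0 ≤ ringKrullDim A := ringKrullDim_nonneg_of_nontrivial
    generalize ringKrullDim A = y at h1 h2
    induction y using WithBot.recBotCoe with
    | bot => exact absurd h2 (by simp)
    | coe y =>
      induction y using ENat.recTopCoe with
      | top => exact absurd h1 (lt_irrefl _)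
      | coe n => exact ⟨n, rfl⟩
  have hdi : d ≤ i := by
    rw [hd] at hi
    exact_mod_cast hi
  obtain ⟨hBn, -, -, hBff⟩ := Groth.Agent.H84.HL_CPL.completion_facts A
  haveI := hBn
  haveI : Module.Flat A (AdicCompletion (maximalIdeal A) A) := hBff.toFlat
  have h0' : Subsingleton (HYI I (ω⟦(0 : ℤ)⟧)) := h0
  -- the colon condition
  have hcol : ∀ N : ℕ, ∃ N' : ℕ, N ≤ N' ∧ ∀ (k : ℕ) (a : A),
      (∀ b ∈ maximalIdeal A ^ k, b * a ∈ I ^ N') → a ∈ I ^ N := by
    intro N
    obtain ⟨N', h, hz⟩ := mapH_tr_eq_zero A ω hω hn I h0' N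
    exact ⟨N', h, fun k a ha =>
      Groth.Agent.H80.CD_P2.mem_pow_of_mapH_tr_eq_zero A (maximalIdeal A) I N N' h hz k a ha⟩
  refine Groth.Agent.S0332.result A I d hd ?_ M i hdi
  intro p hp _
  have h𝔞 : I.map (algebraMap A (AdicCompletion (maximalIdeal A) A)) ≠ ⊤ := by
    intro htop
    have hle : I.map (algebraMap A (AdicCompletion (maximalIdeal A) A)) ≤
        maximalIdeal (AdicCompletion (maximalIdeal A) A) := by
      rw [AdicCompletion.maximalIdeal_eq_map]
      exact Ideal.map_mono (le_maximalIdeal hI)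
    rw [htop] at hle
    exact (maximalIdeal.isMaximal (AdicCompletion (maximalIdeal A) A)).ne_top
      (top_le_iff.mp hle)
  refine Groth.Agent.H17.CD_P3b.one_le_dim_quotient_sup_minimalPrime (AdicCompletion (maximalIdeal A) A)
    (I.map (algebraMap A (AdicCompletion (maximalIdeal A) A))) h𝔞 ?_ p hp
  intro x hx
  have hmem : ∀ N : ℕ, x ∈ (I.map (algebraMap A (AdicCompletion (maximalIdeal A) A))) ^ N := by
    intro N
    obtain ⟨N', hNN', hc⟩ := hcol N
    obtain ⟨k, hk⟩ := hx N'
    rw [← Ideal.map_pow]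
    refine Groth.Agent.H64.CD_P3a.mem_map_of_forall_mul_mem_map A (AdicCompletion (maximalIdeal A) A) (I ^ N')
      (maximalIdeal A ^ k) (I ^ N) (hc k) x ?_
    intro b hb
    rw [Ideal.map_pow] at hb ⊢
    rw [← AdicCompletion.maximalIdeal_eq_map] at hb
    exact hk b hb
  have hbot : (⨅ N : ℕ, (I.map (algebraMap A (AdicCompletion (maximalIdeal A) A))) ^ N) = ⊥ :=
    Ideal.iInf_pow_eq_bot_of_isLocalRing _ h𝔞
  have hxm : x ∈ (⨅ N : ℕ, (I.map (algebraMap A (AdicCompletion (maximalIdeal A) A))) ^ N) := by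
    rw [Ideal.mem_iInf]; exact hmem
  rw [hbot] at hxm
  exact hxm

end Groth.Agent.S1720
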