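import Groth.Statements.S17243
import Mathlib
import Groth.Agent.H88.PolarW

set_option autoImplicit false
open W4c4effdivwronsk2

namespace Groth.Agent.S17243

open Groth.Agent.H88.PolarW


open Polynomial in
/-- Let `k` be a field of characteristic zero and take, on the projective line over `k`, the point `∞`
and `m` further distinct points `r_1, …, r_m` of the affine line, with positive integers `b` (at
`∞`) and `a_1, …, a_m`; put `N = b + ∑ a_j`. The sum of the spaces of differentials with a single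
pole, of order at most `b + 1` at `∞`, resp. at most `a_j + 1` at `r_j`, `V = H⁰(ω((b+1)∞)) + ∑_j
H⁰(ω((a_j+1)r_j)) ⊆ H⁰(ω((b+1)∞ + ∑_j (a_j+1)r_j)) ≅ H⁰(O(d))`, `d = b - 1 + ∑ (a_j+1)`, becomes,
after multiplying by `dX⁻¹ ∏_j (X - r_j)^(a_j+1)`, the subspace of `k[X]_{≤ d}` spanned by
`D·k[X]_{<b}` and the `D_i·k[X]_{<a_i}`, where `D = ∏_j (X - r_j)^(a_j+1)` and `D_i` omits the
`i`-th factor; a member `h` vanishes to order `n` at a point `q` of the affine line when `(X - q)^n
∣ h`, and to order `d - deg h` at `∞`. Let `V₁ ⊆ V` be a hyperplane (`dim V₁ = N - 1`) containing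
`H⁰(ω((b-1)∞)) + ∑_j H⁰(ω((a_j+1)r_j))`, i.e. containing `D·k[X]_{<b-2}` and every
`D_i·k[X]_{<a_i}`. Then `V₁` has at most one ramification point off the marked points, and that
point is simple: at every point `q` of the affine line other than the `r_j` the weight of `V₁` is at
most one (no nonzero member divisible by `(X - q)^N`, at most a line of members divisible by `(X -
q)^(N-2)`), and at most one such `q` has positive weight (a nonzero member divisible by `(X -
q)^(N-1)`). (The published statement is over the complex numbers with the distinguished marked point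
arbitrary; it is placed at `∞` here, so that the unmarked points are the points of the affine line
other than the `r_j`.) -/
theorem result
    (k : Type*) [Field k] [CharZero k] (m : ℕ) (r : Fin m → k) (hr : Function.Injective r)
    (a : Fin m → ℕ) (ha : ∀ j, 1 ≤ a j) (b : ℕ) (hb : 1 ≤ b) (N d : ℕ)
    (hN : N = (∑ j, a j) + b) (hd : d + 1 = (∑ j, (a j + 1)) + b)
    (V : Submodule k (Polynomial k))
    (hV : V = (Polynomial.degreeLT k b).map (LinearMap.mulLeft k (∏ j, (X - C (r j)) ^ (a j + 1))) ⊔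
      ⨆ i, (Polynomial.degreeLT k (a i)).map
        (LinearMap.mulLeft k (∏ j ∈ Finset.univ.erase i, (X - C (r j)) ^ (a j + 1))))
    (V₁ : Submodule k (Polynomial k)) (hV₁ : V₁ ≤ V) (hfin : Module.finrank k ↥V₁ + 1 = N)
    (hU : (Polynomial.degreeLT k (b - 2)).map (LinearMap.mulLeft k (∏ j, (X - C (r j)) ^ (a j + 1))) ⊔
      (⨆ i, (Polynomial.degreeLT k (a i)).map
        (LinearMap.mulLeft k (∏ j ∈ Finset.univ.erase i, (X - C (r j)) ^ (a j + 1)))) ≤ V₁) :
    (∀ q : k, (∀ j, q ≠ r j) →
      (V₁ ⊓ (Ideal.span {(X - C q) ^ N}).restrictScalars k) = ⊥ ∧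
      Module.finrank k ↥(V₁ ⊓ (Ideal.span {(X - C q) ^ (N - 2)}).restrictScalars k) ≤ 1) ∧
    (∀ q q' : k, (∀ j, q ≠ r j) → (∀ j, q' ≠ r j) →
      (V₁ ⊓ (Ideal.span {(X - C q) ^ (N - 1)}).restrictScalars k) ≠ ⊥ →
      (V₁ ⊓ (Ideal.span {(X - C q') ^ (N - 1)}).restrictScalars k) ≠ ⊥ → q = q') := by
  classical
  have hV' : V = Vb r a b := hV
  have hU' : Vb r a (b - 2) ≤ V₁ := hU
  have hNpos : 1 ≤ N := by omega
  have hVI : V = (degreeLT k (N + 1)).map (Wm r a Finset.univ) := by
    rw [hV', Vb_eq r a hr b, hN]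
  have hfdI : FiniteDimensional k ↥((degreeLT k (N + 1)).map (Wm r a Finset.univ)) :=
    map_finiteDimensional r a (N + 1)
  have hIfin : Module.finrank k ↥((degreeLT k (N + 1)).map (Wm r a Finset.univ)) = N := by
    rw [← hVI, hV', finrank_Vb r a hr b, hN]
  have hV₁I : V₁ ≤ (degreeLT k (N + 1)).map (Wm r a Finset.univ) := by
    rw [← hVI]; exact hV₁
  have hfdV₁ : FiniteDimensional k ↥V₁ := Submodule.finiteDimensional_of_le hV₁I
  have h0 : (degreeLT k (N - 1)).map (Wm r a Finset.univ) ≤ V₁ := by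
    refine le_trans ?_ hU'
    rw [Vb_eq r a hr (b - 2)]
    exact Submodule.map_mono (degreeLT_mono (by omega))
  have hcontra : ∀ (A B : k[X]), A ∈ degreeLT k (N - 1 + 1) → A.coeff (N - 1) ≠ 0 →
      Wm r a Finset.univ A ∈ V₁ → B ∈ degreeLT k (N - 1 + 2) → B.coeff (N - 1 + 1) ≠ 0 →
      Wm r a Finset.univ B ∈ V₁ → False := by
    intro A B hA hA' hWA hB hB' hWB
    have hall := hyper (Wm r a Finset.univ) V₁ (N - 1) h0 A hA hA' hWA B hB hB' hWB
    have e : N - 1 + 2 = N + 1 := by omega
    rw [e] at hall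
    have h1 := Submodule.finrank_mono hall
    rw [hIfin] at h1
    omega
  refine ⟨fun q hq => ⟨?_, ?_⟩, ?_⟩
  · rw [eq_bot_iff]
    refine le_trans (inf_le_inf_right _ hV₁) ?_
    rw [hV', inf_pow_eq_bot r a hr b N hN q hq]
  · rcases Nat.lt_or_ge N 3 with hN3 | hN3
    · refine le_trans (Submodule.finrank_mono inf_le_left) ?_
      omega
    · have e2 : N - 2 + 2 = N := by omega
      have hT : V₁ ⊓ (Ideal.span {(X - C q) ^ (N - 2)}).restrictScalars k ≤
          Submodule.span k {Wm r a Finset.univ ((X - C q) ^ (N - 2 + 1)),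
            Wm r a Finset.univ ((X - C q) ^ (N - 2 + 2))} := by
        refine le_trans (inf_le_inf_right _ hV₁) ?_
        rw [hV']
        exact inf_pow_le_span_pair r a hr b N hN q hq (N - 2) e2
      apply finrank_le_one_of _ _ _ hT
      rintro ⟨hu, hv⟩
      have hu' := (Submodule.mem_inf.mp hu).1
      have hv' := (Submodule.mem_inf.mp hv).1
      have e1 : N - 2 + 1 = N - 1 := by omega
      have e3 : N - 2 + 2 = N - 1 + 1 := by omega
      rw [e1] at hu'
      rw [e3] at hv'
      exact hcontra _ _ (pow_mem q (N - 1)) (by rw [coeff_pow_self]; exact one_ne_zero) hu'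
        (degreeLT_mono (by omega) (pow_mem q (N - 1 + 1)))
        (by rw [coeff_pow_self]; exact one_ne_zero) hv'
  · intro q q' hq hq' hne hne'
    by_contra hqq
    have hmem : ∀ q₀ : k, (∀ j, q₀ ≠ r j) →
        (V₁ ⊓ (Ideal.span {(X - C q₀) ^ (N - 1)}).restrictScalars k) ≠ ⊥ →
        Wm r a Finset.univ ((X - C q₀) ^ N) ∈ V₁ := by
      intro q₀ hq₀ hne₀
      obtain ⟨h, hh, hh0⟩ := Submodule.exists_mem_ne_zero_of_ne_bot hne₀
      obtain ⟨hh1, hh2⟩ := Submodule.mem_inf.mp hh
      have hdvd : (X - C q₀) ^ (N - 1) ∣ h :=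
        Ideal.mem_span_singleton.mp ((Submodule.restrictScalars_mem k _ h).mp hh2)
      have hhV : h ∈ Vb r a b := by rw [← hV']; exact hV₁ hh1
      obtain ⟨c, hc⟩ := exists_smul_of_mem r a hr b N hN q₀ hq₀ (N - 1) (by omega) h hhV hdvd
      have hc0 : c ≠ 0 := by
        rintro rfl
        rw [zero_smul] at hc
        exact hh0 hc
      have e : Wm r a Finset.univ ((X - C q₀) ^ N) = c⁻¹ • h := by
        rw [hc, smul_smul, inv_mul_cancel₀ hc0, one_smul]
      rw [e]
      exact V₁.smul_mem _ hh1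
    have h1 := hmem q hq hne
    have h2 := hmem q' hq' hne'
    have eN : N = N - 1 + 1 := by omega
    rw [eN] at h1 h2
    have hWA : Wm r a Finset.univ ((X - C q) ^ (N - 1 + 1) - (X - C q') ^ (N - 1 + 1)) ∈ V₁ := by
      rw [map_sub]; exact V₁.sub_mem h1 h2
    refine hcontra _ _ (pow_sub_pow_mem q q' (N - 1)) ?_ hWA
      (degreeLT_mono (by omega) (pow_mem q (N - 1 + 1)))
      (by rw [coeff_pow_self]; exact one_ne_zero) h1
    rw [coeff_sub, coeff_pow_pred, coeff_pow_pred]
    intro h3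
    apply hqq
    have hn : (((N - 1 : ℕ) : k) + 1) ≠ 0 := Nat.cast_add_one_ne_zero _
    have h4 : (((N - 1 : ℕ) : k) + 1) * (q' - q) = 0 := by linear_combination h3
    rcases mul_eq_zero.mp h4 with h5 | h5
    · exact absurd h5 hn
    · exact (sub_eq_zero.mp h5).symm

end Groth.Agent.S17243
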