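import Groth.Statements.S17244
import Mathlib
import Groth.Agent.H88.PolarW4

set_option autoImplicit false
open W4c4effdivwronsk2

namespace Groth.Agent.S17244

open Groth.Agent.H88.PolarW


open Polynomial in
/-- Let `k` be a field of characteristic zero and take, on the projective line over `k`, the point `∞`
and `m` further distinct points `r_1, …, r_m` of the affine line, with positive integers `b` (at
`∞`) and `a_1, …, a_m`; put `N = b + ∑ a_j`. The sum of the spaces of differentials with a single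
pole, of order at most `b + 1` at `∞`, resp. at most `a_j + 1` at `r_j`, `V = H⁰(ω((b+1)∞)) + ∑_j
H⁰(ω((a_j+1)r_j)) ⊆ H⁰(ω((b+1)∞ + ∑_j (a_j+1)r_j)) ≅ H⁰(O(d))`, `d = b - 1 + ∑ (a_j+1)`, becomes,
after multiplying by `dX⁻¹ ∏_j (X - r_j)^(a_j+1)`, the subspace of `k[X]_{≤ d}` spanned by
`D·k[X]_{<b}` and the `D_i·k[X]_{<a_i}`, where `D = ∏_j (X - r_j)^(a_j+1)` and `D_i` omits the
`i`-th factor; a member `h` vanishes to order `n` at a point `q` of the affine line when `(X - q)^n
∣ h`, and to order `d - deg h` at `∞`. Let `V₁ ⊆ V` be a hyperplane (`dim V₁ = N - 1`) containing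
`D·k[X]_{<b-2}` and every `D_i·k[X]_{<a_i}` (that is, containing `H⁰(ω((b-1)∞)) + ∑_j
H⁰(ω((a_j+1)r_j))`). The weight of `V₁` at a point is `∑_{n=1}^{d} dim V₁(-n·point) - (N-1 choose
2)` (the sum of the vanishing orders minus `0 + 1 + ⋯ + (N-2)`). Then the weight of `V₁` at `r_i` is
`∑_{j≠i} a_j + b - 1 + ε_i` and its weight at `∞` is `∑_j a_j + N - 2 + ε`, with `ε_i, ε ∈ {0, 1}`.
(The published statement is over the complex numbers with the distinguished marked point arbitrary;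
it is placed at `∞` here.) -/
theorem result
    (k : Type*) [Field k] [CharZero k] (m : ℕ) (r : Fin m → k) (hr : Function.Injective r)
    (a : Fin m → ℕ) (ha : ∀ j, 1 ≤ a j) (b : ℕ) (hb : 1 ≤ b) (N d : ℕ)
    (hN : N = (∑ j, a j) + b) (hd : d + 1 = (∑ j, (a j + 1)) + b)
    (V : Submodule k (Polynomial k))
    (hV : V = (Polynomial.degreeLT k b).map (LinearMap.mulLeft k (∏ j, (X - C (r j)) ^ (a j + 1))) ⊔
      ⨆ i, (Polynomial.degreeLT k (a i)).map
        (LinearMap.mulLeft k (∏ j ∈ Finset.univ.erase i, (X - C (r j)) ^ (a j + 1))))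
    (V₁ : Submodule k (Polynomial k)) (hV₁ : V₁ ≤ V) (hfin : Module.finrank k ↥V₁ + 1 = N)
    (hU : (Polynomial.degreeLT k (b - 2)).map (LinearMap.mulLeft k (∏ j, (X - C (r j)) ^ (a j + 1))) ⊔
      (⨆ i, (Polynomial.degreeLT k (a i)).map
        (LinearMap.mulLeft k (∏ j ∈ Finset.univ.erase i, (X - C (r j)) ^ (a j + 1)))) ≤ V₁) :
    (∀ i : Fin m, ∃ ε : ℕ, ε ≤ 1 ∧
      (∑ n ∈ Finset.range d, Module.finrank k ↥(V₁ ⊓ (Ideal.span {(X - C (r i)) ^ (n + 1)}).restrictScalars k)) + 1 =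
        (N - 1).choose 2 + (N - a i) + ε) ∧
    (∃ ε : ℕ, ε ≤ 1 ∧
      (∑ n ∈ Finset.range d, Module.finrank k ↥(V₁ ⊓ Polynomial.degreeLT k (d - n))) =
        (N - 1).choose 2 + (N - b) + (N - 2) + ε) := by
  classical
  have hV' : V = Vb r a b := hV
  have hU' : Vb r a (b - 2) ≤ V₁ := hU
  rw [hV'] at hV₁
  refine ⟨fun i => ?_, ?_⟩
  · apply weight_marked r a hr b N d hb hN hd V₁ hV₁ hfin i
    intro hN2 hcon
    obtain ⟨I, hI⟩ : ∃ I : Submodule k k[X],
        I = (Ideal.span {(X - C (r i)) ^ (N - 1)}).restrictScalars k := ⟨_, rfl⟩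
    rw [← hI] at hcon
    have hfdU : FiniteDimensional k ↥(Vb r a (b - 2)) := Vb_finiteDimensional r a (b - 2)
    have hfdV : FiniteDimensional k ↥(Vb r a b) := Vb_finiteDimensional r a b
    have hfdB : FiniteDimensional k ↥(Vb r a b ⊓ I) :=
      Submodule.finiteDimensional_of_le inf_le_left
    have hfdV₁ : FiniteDimensional k ↥V₁ := Submodule.finiteDimensional_of_le hV₁
    have hdim := Submodule.finrank_sup_add_finrank_inf_eq (Vb r a (b - 2)) (Vb r a b ⊓ I)
    have hsup : Vb r a (b - 2) ⊔ (Vb r a b ⊓ I) ≤ V₁ := sup_le hU' hcon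
    have h1 := Submodule.finrank_mono hsup
    have e : Vb r a (b - 2) ⊓ (Vb r a b ⊓ I) = Vb r a (b - 2) ⊓ I := by
      rw [← inf_assoc, inf_eq_left.mpr (le_trans hU' hV₁)]
    rw [e, finrank_Vb r a hr (b - 2)] at hdim
    have h2 : Module.finrank k ↥(Vb r a b ⊓ I) =
        if N - 1 ≤ a i then N - (N - 1) else N + 1 - (N - 1) := by
      rw [hI]; exact finrank_inf_mult r a hr b N hN i (N - 1)
    have h3 : Module.finrank k ↥(Vb r a (b - 2) ⊓ I) =
        if N - 1 ≤ a i then ((∑ j, a j) + (b - 2)) - (N - 1)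
        else ((∑ j, a j) + (b - 2)) + 1 - (N - 1) := by
      rw [hI]; exact finrank_inf_mult r a hr (b - 2) _ rfl i (N - 1)
    have hai : a i ≤ ∑ j, a j :=
      Finset.single_le_sum (fun j _ => Nat.zero_le _) (Finset.mem_univ i)
    rw [h2, h3] at hdim
    split_ifs at hdim <;> omega
  · apply weight_infty2 r a hr b N d hb hN hd V₁ hV₁ hfin
    rw [inf_degreeLT_eq_map r a hr b N d hN hd 2]
    refine le_trans ?_ hU'
    rw [Vb_eq r a hr (b - 2)]
    exact Submodule.map_mono (degreeLT_mono (by omega))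

end Groth.Agent.S17244
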