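import Groth.Statements.S17245
import Mathlib
import Groth.Agent.H88.PolarW

set_option autoImplicit false
open W4c4effdivwronsk2

namespace Groth.Agent.S17245

open Groth.Agent.H88.PolarW


open Polynomial in
/-- Let `k` be a field of characteristic zero and take, on the projective line over `k`, the point `∞`
and `m` further distinct points `r_1, …, r_m` of the affine line, with positive integers `b` (at
`∞`) and `a_1, …, a_m`; put `N = b + ∑ a_j`. The sum of the spaces of differentials with a single
pole, of order at most `b + 1` at `∞`, resp. at most `a_j + 1` at `r_j`, `V = H⁰(ω((b+1)∞)) + ∑_j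
H⁰(ω((a_j+1)r_j)) ⊆ H⁰(ω((b+1)∞ + ∑_j (a_j+1)r_j)) ≅ H⁰(O(d))`, `d = b - 1 + ∑ (a_j+1)`, becomes,
after multiplying by `dX⁻¹ ∏_j (X - r_j)^(a_j+1)`, the subspace of `k[X]_{≤ d}` spanned by
`D·k[X]_{<b}` and the `D_i·k[X]_{<a_i}`, where `D = ∏_j (X - r_j)^(a_j+1)` and `D_i` omits the
`i`-th factor; a member `h` vanishes to order `n` at a point `q` of the affine line when `(X - q)^n
∣ h`, and to order `d - deg h` at `∞`. Let `p` be a further point of the affine line, distinct from
the `r_j`, and `V₁ = V(-p)` the members divisible by `X - p`, an `(N-1)`-dimensional system in the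
line bundle twisted down by `p` (its vanishing orders at points `q ≠ p`, and at `∞`, are read off
exactly as for `V`; at `p` itself they are one less than the order of divisibility by `X - p`). Then
`dim V₁ = N - 1`, the point `p` is not a ramification point of `V₁` (no nonzero member of `V₁` is
divisible by `(X - p)^N`), and `V₁` has at most one ramification point off the marked points, a
simple one: at every `q` other than `p` and the `r_j`, no nonzero member is divisible by `(X - q)^N`
and at most a line of members is divisible by `(X - q)^(N-2)`, and at most one such `q` has a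
nonzero member divisible by `(X - q)^(N-1)`. (The published statement is over the complex numbers
with all points arbitrary; one marked point is placed at `∞` here and `p` is taken distinct from the
marked points.) -/
theorem result
    (k : Type*) [Field k] [CharZero k] (m : ℕ) (r : Fin m → k) (hr : Function.Injective r)
    (a : Fin m → ℕ) (ha : ∀ j, 1 ≤ a j) (b : ℕ) (hb : 1 ≤ b) (N d : ℕ)
    (hN : N = (∑ j, a j) + b) (hd : d + 1 = (∑ j, (a j + 1)) + b)
    (V : Submodule k (Polynomial k))
    (hV : V = (Polynomial.degreeLT k b).map (LinearMap.mulLeft k (∏ j, (X - C (r j)) ^ (a j + 1))) ⊔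
      ⨆ i, (Polynomial.degreeLT k (a i)).map
        (LinearMap.mulLeft k (∏ j ∈ Finset.univ.erase i, (X - C (r j)) ^ (a j + 1))))
    (p : k) (hp : ∀ j, p ≠ r j) (V₁ : Submodule k (Polynomial k))
    (hV₁ : V₁ = V ⊓ (Ideal.span {X - C p}).restrictScalars k) :
    Module.finrank k ↥V₁ + 1 = N ∧
    (V₁ ⊓ (Ideal.span {(X - C p) ^ N}).restrictScalars k) = ⊥ ∧
    (∀ q : k, (∀ j, q ≠ r j) → q ≠ p →
      (V₁ ⊓ (Ideal.span {(X - C q) ^ N}).restrictScalars k) = ⊥ ∧
      Module.finrank k ↥(V₁ ⊓ (Ideal.span {(X - C q) ^ (N - 2)}).restrictScalars k) ≤ 1) ∧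
    (∀ q q' : k, (∀ j, q ≠ r j) → q ≠ p → (∀ j, q' ≠ r j) → q' ≠ p →
      (V₁ ⊓ (Ideal.span {(X - C q) ^ (N - 1)}).restrictScalars k) ≠ ⊥ →
      (V₁ ⊓ (Ideal.span {(X - C q') ^ (N - 1)}).restrictScalars k) ≠ ⊥ → q = q') := by
  classical
  have hV' : V = Vb r a b := hV
  have hNpos : 1 ≤ N := by omega
  have hfdV : FiniteDimensional k ↥V := by rw [hV']; exact Vb_finiteDimensional r a b
  have hfinV : Module.finrank k ↥V = N := by rw [hV', finrank_Vb r a hr b, hN]
  have hV₁le : V₁ ≤ V := by rw [hV₁]; exact inf_le_left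
  have hfdV₁ : FiniteDimensional k ↥V₁ := Submodule.finiteDimensional_of_le hV₁le
  have hpmem : ∀ h : k[X], h ∈ V₁ ↔ h ∈ V ∧ h.eval p = 0 := by
    intro h
    rw [hV₁, Submodule.mem_inf, Submodule.restrictScalars_mem, Ideal.mem_span_singleton,
      dvd_iff_isRoot]
    exact Iff.rfl
  have hDV : Dp r a Finset.univ ∈ V := by rw [hV']; exact Dp_mem_Vb r a b hb
  have hDp : (Dp r a Finset.univ).eval p ≠ 0 :=
    Dp_eval_ne_zero r a Finset.univ p (fun j _ => hp j)
  have hRp : (Rp r Finset.univ).eval p ≠ 0 := Rp_eval_ne_zero r Finset.univ p (fun j _ => hp j)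
  have hfin1 : Module.finrank k ↥V₁ + 1 = N := by
    have hL : Module.finrank k ↥(Submodule.span k {Dp r a Finset.univ}) = 1 :=
      finrank_span_singleton (fun h0 => hDp (by rw [h0, eval_zero]))
    have hsup : V₁ ⊔ Submodule.span k {Dp r a Finset.univ} = V := by
      apply le_antisymm
      · exact sup_le hV₁le ((Submodule.span_singleton_le_iff_mem _ _).mpr hDV)
      · intro h hh
        obtain ⟨c, hc⟩ : ∃ c : k, c = h.eval p / (Dp r a Finset.univ).eval p := ⟨_, rfl⟩
        have h1 : h - c • Dp r a Finset.univ ∈ V₁ := by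
          rw [hpmem]
          refine ⟨V.sub_mem hh (V.smul_mem _ hDV), ?_⟩
          rw [eval_sub, eval_smul, smul_eq_mul, hc, div_mul_cancel₀ _ hDp, sub_self]
        have h2 : (h - c • Dp r a Finset.univ) + c • Dp r a Finset.univ ∈
            V₁ ⊔ Submodule.span k {Dp r a Finset.univ} :=
          Submodule.add_mem _ (Submodule.mem_sup_left h1)
            (Submodule.mem_sup_right (Submodule.smul_mem _ _ (Submodule.mem_span_singleton_self _)))
        rwa [sub_add_cancel] at h2
    have hinf : V₁ ⊓ Submodule.span k {Dp r a Finset.univ} = ⊥ := by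
      rw [eq_bot_iff]
      intro h hh
      obtain ⟨hh1, hh2⟩ := Submodule.mem_inf.mp hh
      obtain ⟨c, rfl⟩ := Submodule.mem_span_singleton.mp hh2
      have h3 := ((hpmem _).mp hh1).2
      rw [eval_smul, smul_eq_mul] at h3
      have hc0 : c = 0 := (mul_eq_zero.mp h3).resolve_right hDp
      rw [Submodule.mem_bot, hc0, zero_smul]
    have hsum := Submodule.finrank_sup_add_finrank_inf_eq V₁
      (Submodule.span k {Dp r a Finset.univ})
    rw [hsup, hinf, finrank_bot, hL, hfinV] at hsum
    omega
  have hbotV : ∀ q : k, (∀ j, q ≠ r j) →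
      V₁ ⊓ (Ideal.span {(X - C q) ^ N}).restrictScalars k = ⊥ := by
    intro q hq
    rw [eq_bot_iff]
    refine le_trans (inf_le_inf_right _ hV₁le) ?_
    rw [hV', inf_pow_eq_bot r a hr b N hN q hq]
  have hev : ∀ (q : k) (n : ℕ), q ≠ p → Wm r a Finset.univ ((X - C q) ^ (n + 1)) ∈ V₁ →
      ((n : k) + 1) * (Rp r Finset.univ).eval p = (Sp r a Finset.univ).eval p * (p - q) := by
    intro q n hqp hmem
    have h1 := ((hpmem _).mp hmem).2
    rw [eval_Wm_pow] at h1
    have hpq : p - q ≠ 0 := sub_ne_zero.mpr (Ne.symm hqp)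
    have h2 := (mul_eq_zero.mp h1).resolve_left (pow_ne_zero n hpq)
    exact sub_eq_zero.mp h2
  refine ⟨hfin1, hbotV p hp, fun q hq hqp => ⟨hbotV q hq, ?_⟩, ?_⟩
  · rcases Nat.lt_or_ge N 3 with hN3 | hN3
    · refine le_trans (Submodule.finrank_mono inf_le_left) ?_
      omega
    · obtain ⟨n, hn⟩ : ∃ n, n = N - 2 := ⟨_, rfl⟩
      rw [← hn]
      have e2 : n + 2 = N := by omega
      have hT : V₁ ⊓ (Ideal.span {(X - C q) ^ n}).restrictScalars k ≤
          Submodule.span k {Wm r a Finset.univ ((X - C q) ^ (n + 1)),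
            Wm r a Finset.univ ((X - C q) ^ (n + 2))} := by
        refine le_trans (inf_le_inf_right _ hV₁le) ?_
        rw [hV']
        exact inf_pow_le_span_pair r a hr b N hN q hq n e2
      apply finrank_le_one_of _ _ _ hT
      rintro ⟨hu, hv⟩
      have hu' := (Submodule.mem_inf.mp hu).1
      have hv' := (Submodule.mem_inf.mp hv).1
      have e1 := hev q n hqp hu'
      have e3 := hev q (n + 1) hqp hv'
      apply hRp
      push_cast at e3
      linear_combination e3 - e1
  · intro q q' hq hqp hq' hq'p hne hne'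
    by_contra hqq
    have hmem : ∀ q₀ : k, (∀ j, q₀ ≠ r j) →
        (V₁ ⊓ (Ideal.span {(X - C q₀) ^ (N - 1)}).restrictScalars k) ≠ ⊥ →
        Wm r a Finset.univ ((X - C q₀) ^ N) ∈ V₁ := by
      intro q₀ hq₀ hne₀
      obtain ⟨h, hh, hh0⟩ := Submodule.exists_mem_ne_zero_of_ne_bot hne₀
      obtain ⟨hh1, hh2⟩ := Submodule.mem_inf.mp hh
      have hdvd : (X - C q₀) ^ (N - 1) ∣ h :=
        Ideal.mem_span_singleton.mp ((Submodule.restrictScalars_mem k _ h).mp hh2)
      have hhV : h ∈ Vb r a b := by rw [← hV']; exact hV₁le hh1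
      obtain ⟨c, hc⟩ := exists_smul_of_mem r a hr b N hN q₀ hq₀ (N - 1) (by omega) h hhV hdvd
      have hc0 : c ≠ 0 := by
        rintro rfl
        rw [zero_smul] at hc
        exact hh0 hc
      have e : Wm r a Finset.univ ((X - C q₀) ^ N) = c⁻¹ • h := by
        rw [hc, smul_smul, inv_mul_cancel₀ hc0, one_smul]
      rw [e]
      exact V₁.smul_mem _ hh1
    have h1 := hmem q hq hne
    have h2 := hmem q' hq' hne'
    have eN : N = N - 1 + 1 := by omega
    rw [eN] at h1 h2
    have e1 := hev q (N - 1) hqp h1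
    have e2 := hev q' (N - 1) hq'p h2
    have h3 : (Sp r a Finset.univ).eval p * (q' - q) = 0 := by linear_combination e2 - e1
    have hS : (Sp r a Finset.univ).eval p = 0 := by
      rcases mul_eq_zero.mp h3 with h | h
      · exact h
      · exact absurd (sub_eq_zero.mp h).symm hqq
    rw [hS, zero_mul] at e1
    have hn : (((N - 1 : ℕ) : k) + 1) ≠ 0 := Nat.cast_add_one_ne_zero _
    exact hRp ((mul_eq_zero.mp e1).resolve_left hn)

end Groth.Agent.S17245
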