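import Groth.Statements.S17246
import Mathlib
import Groth.Agent.H88.PolarW4
import Groth.Agent.S17245

set_option autoImplicit false
open W4c4effdivwronsk2

namespace Groth.Agent.S17246

open Groth.Agent.H88.PolarW


open Polynomial in
/-- Let `k` be a field of characteristic zero and take, on the projective line over `k`, the point `∞`
and `m` further distinct points `r_1, …, r_m` of the affine line, with positive integers `b` (at
`∞`) and `a_1, …, a_m`; put `N = b + ∑ a_j`. The sum of the spaces of differentials with a single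
pole, of order at most `b + 1` at `∞`, resp. at most `a_j + 1` at `r_j`, `V = H⁰(ω((b+1)∞)) + ∑_j
H⁰(ω((a_j+1)r_j)) ⊆ H⁰(ω((b+1)∞ + ∑_j (a_j+1)r_j)) ≅ H⁰(O(d))`, `d = b - 1 + ∑ (a_j+1)`, becomes,
after multiplying by `dX⁻¹ ∏_j (X - r_j)^(a_j+1)`, the subspace of `k[X]_{≤ d}` spanned by
`D·k[X]_{<b}` and the `D_i·k[X]_{<a_i}`, where `D = ∏_j (X - r_j)^(a_j+1)` and `D_i` omits the
`i`-th factor; a member `h` vanishes to order `n` at a point `q` of the affine line when `(X - q)^n
∣ h`, and to order `d - deg h` at `∞`. Let `p` be a further point of the affine line, distinct from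
the `r_j`, and `V₁ = V(-p)` the members divisible by `X - p` (an `(N-1)`-dimensional system in the
line bundle twisted down by `p`, with vanishing orders at the marked points read off as for `V`).
With the weight of `V₁` at a marked point defined as `∑_{n=1}^{d} dim V₁(-n·point) - (N-1 choose
2)`: the weight at `r_i` is `∑_{j≠i} a_j + b - 1 + ε_i` and the weight at `∞` is `∑_j a_j - 1 + ε`,
with all `ε` in `{0, 1}`. (The published statement is over the complex numbers with all points
arbitrary; one marked point is placed at `∞` here and `p` is taken distinct from the marked points.) -/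
theorem result
    (k : Type*) [Field k] [CharZero k] (m : ℕ) (r : Fin m → k) (hr : Function.Injective r)
    (a : Fin m → ℕ) (ha : ∀ j, 1 ≤ a j) (b : ℕ) (hb : 1 ≤ b) (N d : ℕ)
    (hN : N = (∑ j, a j) + b) (hd : d + 1 = (∑ j, (a j + 1)) + b)
    (V : Submodule k (Polynomial k))
    (hV : V = (Polynomial.degreeLT k b).map (LinearMap.mulLeft k (∏ j, (X - C (r j)) ^ (a j + 1))) ⊔
      ⨆ i, (Polynomial.degreeLT k (a i)).map
        (LinearMap.mulLeft k (∏ j ∈ Finset.univ.erase i, (X - C (r j)) ^ (a j + 1))))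
    (p : k) (hp : ∀ j, p ≠ r j) (V₁ : Submodule k (Polynomial k))
    (hV₁ : V₁ = V ⊓ (Ideal.span {X - C p}).restrictScalars k) :
    (∀ i : Fin m, ∃ ε : ℕ, ε ≤ 1 ∧
      (∑ n ∈ Finset.range d, Module.finrank k ↥(V₁ ⊓ (Ideal.span {(X - C (r i)) ^ (n + 1)}).restrictScalars k)) + 1 =
        (N - 1).choose 2 + (N - a i) + ε) ∧
    (∃ ε : ℕ, ε ≤ 1 ∧
      (∑ n ∈ Finset.range d, Module.finrank k ↥(V₁ ⊓ Polynomial.degreeLT k (d - n))) + 1 =
        (N - 1).choose 2 + (N - b) + ε) := by
  classical
  have hV' : V = Vb r a b := hV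
  have hfin1 : Module.finrank k ↥V₁ + 1 = N :=
    (Groth.Agent.S17245.result k m r hr a ha b hb N d hN hd V hV p hp V₁ hV₁).1
  have hV₁le : V₁ ≤ V := by rw [hV₁]; exact inf_le_left
  have hpmem : ∀ h : k[X], h ∈ V₁ → h.eval p = 0 := by
    intro h hh
    rw [hV₁] at hh
    have h2 := (Submodule.mem_inf.mp hh).2
    exact dvd_iff_isRoot.mp (mem_mult.mp h2)
  have hRp : (Rp r Finset.univ).eval p ≠ 0 :=
    Rp_eval_ne_zero r Finset.univ p (fun j _ => hp j)
  rw [hV'] at hV₁le
  refine ⟨fun i => ?_, ?_⟩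
  · apply weight_marked r a hr b N d hb hN hd V₁ hV₁le hfin1 i
    intro hN2 hcon
    obtain ⟨n, hn⟩ : ∃ n, N = n + 2 := ⟨N - 2, by omega⟩
    have hN1 : N - 1 = n + 1 := by omega
    rw [hN1] at hcon
    have hmemW : ∀ s, n + 1 ≤ s → s ≤ N →
        Wm r a Finset.univ ((X - C (r i)) ^ s) ∈ V₁ := by
      intro s hs1 hs2
      apply hcon
      rw [inf_mult_eq_map r a hr b N hN i (n + 1)]
      refine Submodule.mem_map_of_mem (Submodule.mem_inf.mpr ⟨?_, ?_⟩)
      · exact degreeLT_mono (by omega) (pow_mem (r i) s)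
      · exact mem_mult.mpr (pow_dvd_pow _ hs1)
    have hev : ∀ n' : ℕ, Wm r a Finset.univ ((X - C (r i)) ^ (n' + 1)) ∈ V₁ →
        ((n' : k) + 1) * (Rp r Finset.univ).eval p =
          (Sp r a Finset.univ).eval p * (p - r i) := by
      intro n' hmem
      have h1 := hpmem _ hmem
      rw [eval_Wm_pow] at h1
      have hpq : p - r i ≠ 0 := sub_ne_zero.mpr (hp i)
      have h2 := (mul_eq_zero.mp h1).resolve_left (pow_ne_zero n' hpq)
      exact sub_eq_zero.mp h2
    have e1 := hev n (hmemW (n + 1) le_rfl (by omega))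
    have e2 := hev (n + 1) (hmemW (n + 1 + 1) (by omega) (by omega))
    apply hRp
    push_cast at e2
    linear_combination e2 - e1
  · apply weight_infty r a hr b N d hb hN hd V₁ hV₁le hfin1
    intro hN2 hcon
    have hmem : Wm r a Finset.univ ((X - C p) ^ (0 + 1)) ∈ V₁ := by
      apply hcon
      rw [inf_degreeLT_eq_map r a hr b N d hN hd (N - 1)]
      refine Submodule.mem_map_of_mem ?_
      have h2 : N + 1 - (N - 1) = 0 + 1 + 1 := by omega
      rw [h2]
      exact pow_mem p (0 + 1)
    have h1 := hpmem _ hmem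
    rw [eval_Wm_pow] at h1
    apply hRp
    simpa using h1

end Groth.Agent.S17246
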