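import Groth.Statements.S17247
import Groth.Agent.H81.GenusOneHyp

set_option autoImplicit false
open FunFld

namespace Groth.Agent.S17247

/-- Let `K/k` be a function field of one variable of genus one over an algebraically closed field `k` of
characteristic zero (an elliptic curve `E`), `A` a place, and `g ≥ 3` an odd integer. Inside
`H⁰(O_E((2g-2)A)) = L((2g-2)A)` consider `V = L(gA)` (dimension `g`) and any hyperplane `V₁` of it
containing `L((g-2)A)`: `L((g-2)A) ⊆ V₁ ⊆ L(gA)`, `dim V₁ = g - 1`. Vanishing orders are those of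
sections of `O_E((2g-2)A)`: a member `f` vanishes to order at least `n` at a place `Q` when `f ∈
L((2g-2)A - nQ)`, and the weight of `V₁` at `Q` is `∑_{n=1}^{2g-2} dim (V₁ ∩ L((2g-2)A - nQ)) - (g-1
choose 2)` (the sum of the `g - 1` vanishing orders minus `0 + 1 + ⋯ + (g-2)`). Then the weight of
`V₁` at every place `Q ≠ A` is at most `2`. (The published statement is for a smooth elliptic curve
over the complex numbers and allows every odd positive `g`; for `g = 1` the inclusion `O(gA) ⊆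
O((2g-2)A)` it uses fails, so `g ≥ 3` here.) -/
theorem result
    (k K : Type*) [Field k] [IsAlgClosed k] [CharZero k] [Field K] [Algebra k K]
    (hK : FunFld.IsFunctionField k K) (hg1 : FunFld.genus k K = 1)
    (g : ℕ) (hodd : Odd g) (h3 : 3 ≤ g) (A : FunFld.Place k K)
    (V₁ : Submodule k K) (hlo : FunFld.L (Finsupp.single A ((g : ℤ) - 2)) ≤ V₁)
    (hhi : V₁ ≤ FunFld.L (Finsupp.single A (g : ℤ))) (hdim : Module.finrank k ↥V₁ + 1 = g)
    (Q : FunFld.Place k K) (hQ : Q ≠ A) :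
    (∑ n ∈ Finset.range (2 * g - 2), Module.finrank k
        ↥(V₁ ⊓ FunFld.L (Finsupp.single A (2 * (g : ℤ) - 2) - Finsupp.single Q ((n : ℤ) + 1)))) ≤
      (g - 1).choose 2 + 2 := by
  classical
  obtain ⟨s, rfl⟩ : ∃ s, g = s + 3 := ⟨g - 3, by omega⟩
  have hsodd : Odd (s + 1) := by
    rcases hodd with ⟨j, hj⟩
    exact ⟨j - 1, by omega⟩
  have hV1 : Module.finrank k ↥V₁ = s + 2 := by omega
  haveI : FiniteDimensional k ↥V₁ := Module.finite_of_finrank_pos (by omega)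
  have hlo' : FunFld.L (Finsupp.single A ((s + 1 : ℕ) : ℤ)) ≤ V₁ := by
    have e : (((s + 3 : ℕ) : ℤ) - 2) = ((s + 1 : ℕ) : ℤ) := by push_cast; ring
    rwa [e] at hlo
  have hW : Module.finrank k ↥(FunFld.L (Finsupp.single A ((s + 1 : ℕ) : ℤ) : FunFld.Divisor k K)) = s + 1 :=
    Groth.Agent.H81.G1.ell_single hK hg1 A (s + 1) (by omega)
  set D : FunFld.Divisor k K := Finsupp.single A (2 * ((s + 3 : ℕ) : ℤ) - 2) with hD
  have hDQ : ∀ b : ℤ, D Q ≤ (Finsupp.single A b : FunFld.Divisor k K) Q := by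
    intro b
    rw [hD, Finsupp.single_eq_of_ne hQ, Finsupp.single_eq_of_ne hQ]
  -- the two bounds
  have bd1 : ∀ n : ℕ, Module.finrank k ↥(V₁ ⊓ FunFld.L (D - Finsupp.single Q (n : ℤ))) ≤
      FunFld.ell (Finsupp.single A ((s + 1 : ℕ) : ℤ) - Finsupp.single Q (n : ℤ) : FunFld.Divisor k K) + 1 := by
    intro n
    have h1 := Groth.Agent.H81.G1.finrank_inf_le_add_one _ V₁
      (FunFld.L (D - Finsupp.single Q (n : ℤ))) hlo' (by rw [hV1, hW])
    haveI := Groth.Agent.H55.L_finite hK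
      (Finsupp.single A ((s + 1 : ℕ) : ℤ) - Finsupp.single Q (n : ℤ) : FunFld.Divisor k K)
    have h2 := Submodule.finrank_mono
      (Groth.Agent.H81.G1.inf_L_le (Finsupp.single A ((s + 1 : ℕ) : ℤ)) D Q (n : ℤ) (hDQ _))
    change _ ≤ FunFld.ell _ at h2
    omega
  have bd2 : ∀ n : ℕ, Module.finrank k ↥(V₁ ⊓ FunFld.L (D - Finsupp.single Q (n : ℤ))) ≤
      FunFld.ell (Finsupp.single A ((s + 3 : ℕ) : ℤ) - Finsupp.single Q (n : ℤ) : FunFld.Divisor k K) := by
    intro n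
    haveI := Groth.Agent.H55.L_finite hK
      (Finsupp.single A ((s + 3 : ℕ) : ℤ) - Finsupp.single Q (n : ℤ) : FunFld.Divisor k K)
    exact Submodule.finrank_mono ((inf_le_inf_right _ hhi).trans
      (Groth.Agent.H81.G1.inf_L_le (Finsupp.single A ((s + 3 : ℕ) : ℤ)) D Q (n : ℤ) (hDQ _)))
  set d : ℕ → ℕ := fun n =>
    Module.finrank k ↥(V₁ ⊓ FunFld.L (D - Finsupp.single Q ((n + 1 : ℕ) : ℤ))) with hd
  have hsum : (∑ n ∈ Finset.range (2 * (s + 3) - 2), Module.finrank k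
        ↥(V₁ ⊓ FunFld.L (Finsupp.single A (2 * ((s + 3 : ℕ) : ℤ) - 2) - Finsupp.single Q ((n : ℤ) + 1)))) =
      ∑ n ∈ Finset.range (s + 3 + (s + 1)), d n := by
    have hN : 2 * (s + 3) - 2 = s + 3 + (s + 1) := by omega
    rw [hN]
    refine Finset.sum_congr rfl (fun n _ => ?_)
    rw [hd]
    have e : ((n : ℤ) + 1) = ((n + 1 : ℕ) : ℤ) := by push_cast; ring
    rw [e]
  rw [hsum, Finset.sum_range_add, Finset.sum_range_succ, Finset.sum_range_succ,
    Finset.sum_range_succ]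
  -- the pieces
  have p1 : ∑ n ∈ Finset.range s, d n ≤ ∑ n ∈ Finset.range s, (s + 1 - n) := by
    refine Finset.sum_le_sum (fun n hn => ?_)
    rw [Finset.mem_range] at hn
    have h := bd1 (n + 1)
    rw [Groth.Agent.H81.G1.ell_two hK hg1 A Q (s + 1) (n + 1) (by omega)] at h
    rw [hd]
    change Module.finrank k ↥(V₁ ⊓ FunFld.L (D - Finsupp.single Q ((n + 1 : ℕ) : ℤ))) ≤ _
    omega
  have p2 : d s ≤ FunFld.ell (Finsupp.single A ((s + 1 : ℕ) : ℤ) -
      Finsupp.single Q ((s + 1 : ℕ) : ℤ) : FunFld.Divisor k K) + 1 := bd1 (s + 1)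
  have p3 : d (s + 1) ≤ 1 := by
    have h := bd2 (s + 1 + 1)
    rw [Groth.Agent.H81.G1.ell_two hK hg1 A Q (s + 3) (s + 1 + 1) (by omega)] at h
    rw [hd]
    change Module.finrank k ↥(V₁ ⊓ FunFld.L (D - Finsupp.single Q ((s + 1 + 1 : ℕ) : ℤ))) ≤ _
    omega
  have p4 : d (s + 2) ≤ FunFld.ell (Finsupp.single A ((s + 3 : ℕ) : ℤ) -
      Finsupp.single Q ((s + 3 : ℕ) : ℤ) : FunFld.Divisor k K) := bd2 (s + 2 + 1)
  have p5 : ∑ x ∈ Finset.range (s + 1), d (s + 3 + x) = 0 := by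
    refine Finset.sum_eq_zero (fun x _ => ?_)
    have h := bd2 (s + 3 + x + 1)
    rw [Groth.Agent.H81.G1.ell_two_neg hK A Q (s + 3) (s + 3 + x + 1) (by omega)] at h
    rw [hd]
    change Module.finrank k ↥(V₁ ⊓ FunFld.L (D - Finsupp.single Q ((s + 3 + x + 1 : ℕ) : ℤ))) = 0
    omega
  have e1 := Groth.Agent.H81.G1.ell_two_eq_le_one hK hg1 A Q (s + 1) (by omega)
  have e2 := Groth.Agent.H81.G1.ell_two_eq_le_one hK hg1 A Q (s + 3) (by omega)
  have e12 : FunFld.ell (Finsupp.single A ((s + 1 : ℕ) : ℤ) -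
      Finsupp.single Q ((s + 1 : ℕ) : ℤ) : FunFld.Divisor k K) +
      FunFld.ell (Finsupp.single A ((s + 3 : ℕ) : ℤ) -
      Finsupp.single Q ((s + 3 : ℕ) : ℤ) : FunFld.Divisor k K) ≤ 1 := by
    by_contra hcon
    push_neg at hcon
    have h2' : 0 < FunFld.ell (Finsupp.single A ((s + 1 + 2 : ℕ) : ℤ) -
        Finsupp.single Q ((s + 1 + 2 : ℕ) : ℤ) : FunFld.Divisor k K) := by
      have e : s + 1 + 2 = s + 3 := rfl
      rw [e]; omega
    exact Groth.Agent.H81.G1.torsion_odd hK (by rw [hg1]; norm_num) hQ (s + 1) hsodd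
      (by omega) h2'
  have hch := Groth.Agent.H81.G1.sum_desc_eq_choose s
  have e3 : s + 3 - 1 = s + 2 := rfl
  rw [p5, e3]
  omega

end Groth.Agent.S17247
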