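import Groth.Statements.S17248
import Groth.Agent.H81.GenusOneHyp

set_option autoImplicit false
open FunFld

namespace Groth.Agent.S17248

/-- Let `K/k` be a function field of one variable of genus one over an algebraically closed field `k` of
characteristic zero (an elliptic curve `E`), `A` a place, and `g ≥ 3` an integer. Inside
`H⁰(O_E((2g-2)A)) = L((2g-2)A)` consider `V = L(gA)` (dimension `g`) and any hyperplane `V₁` of it
containing `L((g-2)A)`: `L((g-2)A) ⊆ V₁ ⊆ L(gA)`, `dim V₁ = g - 1`. Vanishing orders are those of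
sections of `O_E((2g-2)A)`: a member `f` vanishes to order at least `n` at a place `Q` when `f ∈
L((2g-2)A - nQ)`, and the weight of `V₁` at `Q` is `∑_{n=1}^{2g-2} dim (V₁ ∩ L((2g-2)A - nQ)) - (g-1
choose 2)` (the sum of the `g - 1` vanishing orders minus `0 + 1 + ⋯ + (g-2)`). Then the weight of
`V₁` at `A` is `(g-1)² + ε` with `ε ∈ {0, 1}`. (The published statement is for a smooth elliptic
curve over the complex numbers and `g` odd positive; `g ≥ 3` here since the ambient inclusion needs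
it; this row does not assume `g` odd.) -/
theorem result
    (k K : Type*) [Field k] [IsAlgClosed k] [CharZero k] [Field K] [Algebra k K]
    (hK : FunFld.IsFunctionField k K) (hg1 : FunFld.genus k K = 1)
    (g : ℕ) (h3 : 3 ≤ g) (A : FunFld.Place k K)
    (V₁ : Submodule k K) (hlo : FunFld.L (Finsupp.single A ((g : ℤ) - 2)) ≤ V₁)
    (hhi : V₁ ≤ FunFld.L (Finsupp.single A (g : ℤ))) (hdim : Module.finrank k ↥V₁ + 1 = g) :
    ∃ ε : ℕ, ε ≤ 1 ∧
      (∑ n ∈ Finset.range (2 * g - 2), Module.finrank k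
        ↥(V₁ ⊓ FunFld.L (Finsupp.single A (2 * (g : ℤ) - 2) - Finsupp.single A ((n : ℤ) + 1)))) =
      (g - 1).choose 2 + (g - 1) ^ 2 + ε := by
  classical
  obtain ⟨t, rfl⟩ : ∃ t, g = t + 2 := ⟨g - 2, by omega⟩
  have ht : 1 ≤ t := by omega
  have hV1 : Module.finrank k ↥V₁ = t + 1 := by omega
  haveI : FiniteDimensional k ↥V₁ := Module.finite_of_finrank_pos (by omega)
  have hlo' : FunFld.L (Finsupp.single A ((t : ℕ) : ℤ)) ≤ V₁ := by
    have e : (((t + 2 : ℕ) : ℤ) - 2) = ((t : ℕ) : ℤ) := by push_cast; ring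
    rwa [e] at hlo
  -- the dimension function
  set c : ℕ → ℕ := fun m => Module.finrank k ↥(V₁ ⊓ FunFld.L (Finsupp.single A (m : ℤ))) with hc
  have hmonoL : ∀ m m' : ℕ, m ≤ m' →
      FunFld.L (Finsupp.single A (m : ℤ) : FunFld.Divisor k K) ≤ FunFld.L (Finsupp.single A (m' : ℤ)) := by
    intro m m' h
    apply Groth.Agent.H55.L_mono
    intro R
    rw [Finsupp.single_apply, Finsupp.single_apply]
    split_ifs
    · exact_mod_cast h
    · exact le_refl _
  have hc_lo : ∀ m, m ≤ t → c m = FunFld.ell (Finsupp.single A (m : ℤ) : FunFld.Divisor k K) := by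
    intro m hm
    rw [hc]
    change Module.finrank k ↥(V₁ ⊓ FunFld.L (Finsupp.single A (m : ℤ))) = _
    rw [inf_eq_right.mpr ((hmonoL m t hm).trans hlo')]
    rfl
  have hc_hi : ∀ m, t + 2 ≤ m → c m = t + 1 := by
    intro m hm
    rw [hc]
    change Module.finrank k ↥(V₁ ⊓ FunFld.L (Finsupp.single A (m : ℤ))) = _
    rw [inf_eq_left.mpr (hhi.trans (hmonoL (t + 2) m hm)), hV1]
  have hc_mid_lo : t ≤ c (t + 1) := by
    have h1 : FunFld.L (Finsupp.single A ((t : ℕ) : ℤ)) ≤
        V₁ ⊓ FunFld.L (Finsupp.single A ((t + 1 : ℕ) : ℤ)) :=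
      le_inf hlo' (hmonoL t (t + 1) (by omega))
    haveI : FiniteDimensional k ↥(V₁ ⊓ FunFld.L (Finsupp.single A ((t + 1 : ℕ) : ℤ))) :=
      Submodule.finiteDimensional_of_le inf_le_left
    have h2 := Submodule.finrank_mono h1
    have h3 : Module.finrank k ↥(FunFld.L (Finsupp.single A ((t : ℕ) : ℤ) : FunFld.Divisor k K)) = t :=
      Groth.Agent.H81.G1.ell_single hK hg1 A t ht
    rw [h3] at h2
    exact h2
  have hc_mid_hi : c (t + 1) ≤ t + 1 := by
    have h2 := Submodule.finrank_mono (inf_le_left :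
      V₁ ⊓ FunFld.L (Finsupp.single A ((t + 1 : ℕ) : ℤ)) ≤ V₁)
    rw [hV1] at h2
    exact h2
  -- rewrite the sum
  have hN : 2 * (t + 2) - 2 = (t + 1) + 1 + t := by omega
  have hsum : (∑ n ∈ Finset.range (2 * (t + 2) - 2), Module.finrank k
        ↥(V₁ ⊓ FunFld.L (Finsupp.single A (2 * ((t + 2 : ℕ) : ℤ) - 2) - Finsupp.single A ((n : ℤ) + 1)))) =
      ∑ m ∈ Finset.range ((t + 1) + 1 + t), c m := by
    rw [hN, ← Finset.sum_range_reflect c]
    refine Finset.sum_congr rfl (fun n hn => ?_)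
    rw [Finset.mem_range] at hn
    rw [hc]
    have e : (Finsupp.single A (2 * ((t + 2 : ℕ) : ℤ) - 2) - Finsupp.single A ((n : ℤ) + 1) :
        FunFld.Divisor k K) = Finsupp.single A (((t + 1 + 1 + t - 1 - n : ℕ)) : ℤ) := by
      rw [← Finsupp.single_sub]
      congr 1
      omega
    rw [e]
  refine ⟨c (t + 1) - t, by omega, ?_⟩
  rw [hsum, Finset.sum_range_add, Finset.sum_range_succ, Finset.sum_range_succ']
  have h0 : c 0 = 1 := by
    rw [hc_lo 0 (by omega)]
    exact Groth.Agent.H81.G1.ell_single_zero hK A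
  have h1 : ∑ j ∈ Finset.range t, c (j + 1) = (t + 1).choose 2 := by
    rw [← Groth.Agent.H81.G1.sum_succ_eq_choose]
    refine Finset.sum_congr rfl (fun j hj => ?_)
    rw [Finset.mem_range] at hj
    rw [hc_lo (j + 1) (by omega)]
    exact Groth.Agent.H81.G1.ell_single hK hg1 A (j + 1) (by omega)
  have h2 : ∑ j ∈ Finset.range t, c (t + 1 + 1 + j) = t * (t + 1) := by
    rw [Finset.sum_congr rfl (fun j _ => hc_hi (t + 1 + 1 + j) (by omega)), Finset.sum_const,
      Finset.card_range, smul_eq_mul]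
  rw [h0, h1, h2]
  have e1 : t + 2 - 1 = t + 1 := rfl
  rw [e1]
  have : c (t + 1) = t + (c (t + 1) - t) := by omega
  generalize c (t + 1) - t = ε at this ⊢
  rw [this]
  ring

end Groth.Agent.S17248
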