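import Groth.Statements.S17249
import Groth.Agent.H81.RRTools

set_option autoImplicit false
open FunFld

namespace Groth.Agent.S17249

/-- Let `K/k` be a function field of one variable of genus two over an algebraically closed field `k` of
characteristic zero (a smooth curve `X` of genus `2`), `C` a canonical divisor, `A` a place with
`ℓ(2A) = 1` (not a Weierstrass point), and `P`, `Q` places with `Q ≠ A`. Then `ℓ(C + 2A - P - 3Q) =
1` and `ℓ(C + 2A - P - Q) = 2` do not both hold: the two-dimensional complete system `H⁰(ω_X(2A -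
P))` (of degree `3`) has no point `Q ≠ A` of weight three. (The published statement concerns a
general pointed curve `(X, A)` of genus two over the complex numbers and a point `P` of `X`; this
row assumes only `ℓ(2A) = 1`.) -/
theorem result
    (k K : Type*) [Field k] [IsAlgClosed k] [CharZero k] [Field K] [Algebra k K]
    (hK : FunFld.IsFunctionField k K) (hg : FunFld.genus k K = 2)
    (C : FunFld.Divisor k K) (hC : FunFld.IsCanonical k K C)
    (A P Q : FunFld.Place k K) (hA : Module.finrank k ↥(FunFld.L (Finsupp.single A (2 : ℤ))) = 1) (hQ : Q ≠ A) :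
    ¬ (Module.finrank k ↥(FunFld.L (C + Finsupp.single A (2 : ℤ) - Finsupp.single P (1 : ℤ) - Finsupp.single Q (3 : ℤ))) = 1 ∧
       Module.finrank k ↥(FunFld.L (C + Finsupp.single A (2 : ℤ) - Finsupp.single P (1 : ℤ) - Finsupp.single Q (1 : ℤ))) = 2) := by
  classical
  rintro ⟨-, h2⟩
  have hdeg1 : ∀ R : FunFld.Place k K, R.deg = 1 :=
    fun R => Groth.Agent.H55.deg_eq_one_of_isAlgClosed hK R
  obtain ⟨hellC, hdegC⟩ := Groth.Agent.H55.ell_canonical hK hC
  set D : FunFld.Divisor k K :=
    C + Finsupp.single A (2 : ℤ) - Finsupp.single P (1 : ℤ) - Finsupp.single Q (1 : ℤ) with hD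
  have hDdeg : FunFld.Divisor.deg D = 2 := by
    rw [hD, Groth.Agent.H55.deg_sub, Groth.Agent.H55.deg_sub, Groth.Agent.H55.deg_add,
      Groth.Agent.H55.deg_single, Groth.Agent.H55.deg_single, Groth.Agent.H55.deg_single,
      hdeg1, hdeg1, hdeg1, hdegC, hg]
    norm_num
  have hrr := Groth.Agent.H55.riemann_roch hK hC D
  have hellD : FunFld.ell D = 2 := h2
  rw [hellD, hDdeg, hg] at hrr
  have hellCD : 0 < FunFld.ell (C - D) := by
    have : (FunFld.ell (C - D) : ℤ) = 1 := by push_cast at hrr; linarith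
    omega
  have hCDdeg : FunFld.Divisor.deg (C - D) = 0 := by
    rw [Groth.Agent.H55.deg_sub, hDdeg, hdegC, hg]; norm_num
  obtain ⟨f, hf0, hf⟩ := Groth.Agent.H81.RR.exists_div_eq_neg hK (C - D) hCDdeg hellCD
  have hfi0 : f⁻¹ ≠ 0 := inv_ne_zero hf0
  have hdivi : FunFld.div k f⁻¹ = C - D := by
    rw [Groth.Agent.H55.div_inv hK, hf, neg_neg]
  have h2A : (0 : FunFld.Divisor k K) ≤ Finsupp.single A (2 : ℤ) :=
    Groth.Agent.H81.RR.single_nonneg A (by norm_num)
  have hmem : f⁻¹ ∈ FunFld.L (Finsupp.single A (2 : ℤ)) := by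
    refine Groth.Agent.H81.RR.mem_L_of_forall hK _ hfi0 (fun R => ?_)
    rw [hdivi, hD]
    simp only [Finsupp.coe_sub, Finsupp.coe_add, Pi.sub_apply, Pi.add_apply]
    have h1 : (0 : ℤ) ≤ (Finsupp.single P (1 : ℤ) : FunFld.Divisor k K) R :=
      Groth.Agent.H81.RR.single_nonneg P (by norm_num) R
    have h2' : (0 : ℤ) ≤ (Finsupp.single Q (1 : ℤ) : FunFld.Divisor k K) R :=
      Groth.Agent.H81.RR.single_nonneg Q (by norm_num) R
    linarith
  have hz := Groth.Agent.H81.RR.div_eq_zero_of_mem_L hK _ h2A hA hmem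
  rw [hdivi] at hz
  have hQ' := DFunLike.congr_fun hz Q
  rw [hD] at hQ'
  simp only [Finsupp.coe_sub, Finsupp.coe_add, Pi.sub_apply, Pi.add_apply, Finsupp.coe_zero,
    Pi.zero_apply, Finsupp.single_eq_same, Finsupp.single_eq_of_ne hQ] at hQ'
  have h1 : (0 : ℤ) ≤ (Finsupp.single P (1 : ℤ) : FunFld.Divisor k K) Q :=
    Groth.Agent.H81.RR.single_nonneg P (by norm_num) Q
  linarith

end Groth.Agent.S17249
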