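import Groth.Statements.S17250
import Groth.Agent.H81.RRTools

set_option autoImplicit false
open FunFld

namespace Groth.Agent.S17250

/-- Let `K/k` be a function field of one variable of genus two over an algebraically closed field `k` of
characteristic zero (a smooth curve `X` of genus `2`), `C` a canonical divisor, `A` a place with
`ℓ(2A) = 1`, and `P`, `Q` places different from `A`. Then `ℓ(C + 3A - P - 4Q) = 1` and `ℓ(C + 3A - P
- 2Q) = 2` do not both hold (the three-dimensional complete system `H⁰(ω_X(3A - P))`, of degree `4`,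
has no point `Q ≠ A` with two independent sections vanishing to order at least `2` there and one
vanishing to order at least `4`). (The published statement concerns a general pointed curve `(X, A)`
of genus two over the complex numbers and a point `P ≠ A`; this row assumes `ℓ(2A) = 1` in place of
generality.) -/
theorem result
    (k K : Type*) [Field k] [IsAlgClosed k] [CharZero k] [Field K] [Algebra k K]
    (hK : FunFld.IsFunctionField k K) (hg : FunFld.genus k K = 2)
    (C : FunFld.Divisor k K) (hC : FunFld.IsCanonical k K C)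
    (A P Q : FunFld.Place k K) (hA : Module.finrank k ↥(FunFld.L (Finsupp.single A (2 : ℤ))) = 1) (hP : P ≠ A) (hQ : Q ≠ A) :
    ¬ (Module.finrank k ↥(FunFld.L (C + Finsupp.single A (3 : ℤ) - Finsupp.single P (1 : ℤ) - Finsupp.single Q (4 : ℤ))) = 1 ∧
       Module.finrank k ↥(FunFld.L (C + Finsupp.single A (3 : ℤ) - Finsupp.single P (1 : ℤ) - Finsupp.single Q (2 : ℤ))) = 2) := by
  classical
  rintro ⟨h1, h2⟩
  have hdeg1 : ∀ R : FunFld.Place k K, R.deg = 1 :=
    fun R => Groth.Agent.H55.deg_eq_one_of_isAlgClosed hK R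
  obtain ⟨hellC, hdegC⟩ := Groth.Agent.H55.ell_canonical hK hC
  set D₂ : FunFld.Divisor k K :=
    C + Finsupp.single A (3 : ℤ) - Finsupp.single P (1 : ℤ) - Finsupp.single Q (2 : ℤ) with hD₂
  set D₁ : FunFld.Divisor k K :=
    C + Finsupp.single A (3 : ℤ) - Finsupp.single P (1 : ℤ) - Finsupp.single Q (4 : ℤ) with hD₁
  have hD₂deg : FunFld.Divisor.deg D₂ = 2 := by
    rw [hD₂, Groth.Agent.H55.deg_sub, Groth.Agent.H55.deg_sub, Groth.Agent.H55.deg_add,
      Groth.Agent.H55.deg_single, Groth.Agent.H55.deg_single, Groth.Agent.H55.deg_single,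
      hdeg1, hdeg1, hdeg1, hdegC, hg]
    norm_num
  have hD₁deg : FunFld.Divisor.deg D₁ = 0 := by
    rw [hD₁, Groth.Agent.H55.deg_sub, Groth.Agent.H55.deg_sub, Groth.Agent.H55.deg_add,
      Groth.Agent.H55.deg_single, Groth.Agent.H55.deg_single, Groth.Agent.H55.deg_single,
      hdeg1, hdeg1, hdeg1, hdegC, hg]
    norm_num
  have hrr := Groth.Agent.H55.riemann_roch hK hC D₂
  have hellD₂ : FunFld.ell D₂ = 2 := h2
  rw [hellD₂, hD₂deg, hg] at hrr
  have hellCD : 0 < FunFld.ell (C - D₂) := by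
    have : (FunFld.ell (C - D₂) : ℤ) = 1 := by push_cast at hrr; linarith
    omega
  have hCDdeg : FunFld.Divisor.deg (C - D₂) = 0 := by
    rw [Groth.Agent.H55.deg_sub, hD₂deg, hdegC, hg]; norm_num
  obtain ⟨u, hu0, hu⟩ := Groth.Agent.H81.RR.exists_div_eq_neg hK (C - D₂) hCDdeg hellCD
  have hellD₁ : 0 < FunFld.ell D₁ := by
    have : FunFld.ell D₁ = 1 := h1
    omega
  obtain ⟨f, hf0, hf⟩ := Groth.Agent.H81.RR.exists_div_eq_neg hK D₁ hD₁deg hellD₁
  -- z = (u² f)⁻¹
  have huf0 : u * u * f ≠ 0 := mul_ne_zero (mul_ne_zero hu0 hu0) hf0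
  have hz0 : (u * u * f)⁻¹ ≠ 0 := inv_ne_zero huf0
  have hdivz : FunFld.div k (u * u * f)⁻¹ = -(-(C - D₂) + -(C - D₂) + -D₁) := by
    rw [Groth.Agent.H55.div_inv hK, Groth.Agent.H55.div_mul hK (mul_ne_zero hu0 hu0) hf0,
      Groth.Agent.H55.div_mul hK hu0 hu0, hu, hf]
  have hE : Finsupp.single A (3 : ℤ) - Finsupp.single P (1 : ℤ) +
      FunFld.div k (u * u * f)⁻¹ = C := by
    rw [hdivz, hD₂, hD₁]
    ext R
    simp only [Finsupp.coe_sub, Finsupp.coe_add, Finsupp.coe_neg, Pi.sub_apply, Pi.add_apply,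
      Pi.neg_apply]
    have e : (Finsupp.single Q (4 : ℤ) : FunFld.Divisor k K) R =
        2 * (Finsupp.single Q (2 : ℤ) : FunFld.Divisor k K) R := by
      rw [Finsupp.single_apply, Finsupp.single_apply]; split_ifs <;> norm_num
    rw [e]; ring
  have hell3AP : FunFld.ell (Finsupp.single A (3 : ℤ) - Finsupp.single P (1 : ℤ) :
      FunFld.Divisor k K) = 2 := by
    rw [← Groth.Agent.H55.ell_add_div hK _ hz0, hE, hellC, hg]
  have hell3A : FunFld.ell (Finsupp.single A (3 : ℤ) : FunFld.Divisor k K) = 2 := by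
    have h := Groth.Agent.H55.ell_eq_of_deg_ge hK (Finsupp.single A (3 : ℤ) : FunFld.Divisor k K)
      (by rw [Groth.Agent.H55.deg_single, hdeg1, hg]; norm_num)
    rw [Groth.Agent.H55.deg_single, hdeg1, hg] at h
    have : (FunFld.ell (Finsupp.single A (3 : ℤ) : FunFld.Divisor k K) : ℤ) = 2 := by
      rw [h]; norm_num
    exact_mod_cast this
  have hle : FunFld.L (Finsupp.single A (3 : ℤ) - Finsupp.single P (1 : ℤ) :
      FunFld.Divisor k K) ≤ FunFld.L (Finsupp.single A (3 : ℤ)) :=
    Groth.Agent.H55.L_mono (sub_le_self _ (Groth.Agent.H81.RR.single_nonneg P (by norm_num)))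
  haveI := Groth.Agent.H55.L_finite hK (Finsupp.single A (3 : ℤ) : FunFld.Divisor k K)
  have heq := Submodule.eq_of_le_of_finrank_eq hle (by
    change FunFld.ell _ = FunFld.ell _
    rw [hell3AP, hell3A])
  have h1mem : (1 : K) ∈ FunFld.L (Finsupp.single A (3 : ℤ) - Finsupp.single P (1 : ℤ) :
      FunFld.Divisor k K) := by
    rw [heq]
    exact Groth.Agent.H81.RR.one_mem_L_of_nonneg
      (Groth.Agent.H81.RR.single_nonneg A (by norm_num))
  have hP1 := h1mem P
  rw [Finsupp.sub_apply, Finsupp.single_eq_same, Finsupp.single_eq_of_ne hP, map_one] at hP1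
  have : (WithZero.exp ((0 : ℤ) - 1) : WithZero (Multiplicative ℤ)) < 1 := by
    rw [← WithZero.exp_zero, WithZero.exp_lt_exp]; norm_num
  exact absurd hP1 (not_le.mpr this)

end Groth.Agent.S17250
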