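import Groth.Statements.S17251
import Groth.Agent.H81.RRTools

set_option autoImplicit false
open FunFld

namespace Groth.Agent.S17251

/-- Let `K/k` be a function field of one variable of genus two over an algebraically closed field `k` of
characteristic zero (a smooth curve `Y` of genus `2`), `C` a canonical divisor, `B` a place with
`ℓ(2B) = 1` (not a Weierstrass point) and `Q ≠ B` a place. Then `ℓ(C + B - 2Q) = 1` and `ℓ(C + 3B -
4Q) = 1` do not both hold: the complete systems `H⁰(ω_Y(B))` (dimension `2`, degree `3`) and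
`H⁰(ω_Y(3B))` (dimension `4`, degree `5`) have no ramification point in common on `Y` minus `B`.
(The published statement concerns a general pointed curve `(Y, B)` of genus two over the complex
numbers; this row assumes only `ℓ(2B) = 1`.) -/
theorem result
    (k K : Type*) [Field k] [IsAlgClosed k] [CharZero k] [Field K] [Algebra k K]
    (hK : FunFld.IsFunctionField k K) (hg : FunFld.genus k K = 2)
    (C : FunFld.Divisor k K) (hC : FunFld.IsCanonical k K C)
    (B Q : FunFld.Place k K) (hB : Module.finrank k ↥(FunFld.L (Finsupp.single B (2 : ℤ))) = 1) (hQ : Q ≠ B) :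
    ¬ (Module.finrank k ↥(FunFld.L (C + Finsupp.single B (1 : ℤ) - Finsupp.single Q (2 : ℤ))) = 1 ∧
       Module.finrank k ↥(FunFld.L (C + Finsupp.single B (3 : ℤ) - Finsupp.single Q (4 : ℤ))) = 1) := by
  classical
  rintro ⟨h1, h2⟩
  have hdeg1 : ∀ R : FunFld.Place k K, R.deg = 1 :=
    fun R => Groth.Agent.H55.deg_eq_one_of_isAlgClosed hK R
  obtain ⟨hellC, hdegC⟩ := Groth.Agent.H55.ell_canonical hK hC
  have hBQ : B ≠ Q := fun h => hQ h.symm
  set E₁ : FunFld.Divisor k K :=
    C + Finsupp.single B (1 : ℤ) - Finsupp.single Q (2 : ℤ) with hE₁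
  set D₀ : FunFld.Divisor k K :=
    C + Finsupp.single B (3 : ℤ) - Finsupp.single Q (4 : ℤ) with hD₀
  have hE₁deg : FunFld.Divisor.deg E₁ = 1 := by
    rw [hE₁, Groth.Agent.H55.deg_sub, Groth.Agent.H55.deg_add,
      Groth.Agent.H55.deg_single, Groth.Agent.H55.deg_single, hdeg1, hdeg1, hdegC, hg]
    norm_num
  -- step 1: a nonzero `f ∈ L(2Q - B)`
  have hrr := Groth.Agent.H55.riemann_roch hK hC E₁
  have hellE₁ : FunFld.ell E₁ = 1 := h1
  rw [hellE₁, hE₁deg, hg] at hrr
  have hellCE : 0 < FunFld.ell (C - E₁) := by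
    have : (FunFld.ell (C - E₁) : ℤ) = 1 := by push_cast at hrr; linarith
    omega
  obtain ⟨f, hf0, hfmem⟩ := Groth.Agent.H55.exists_ne_zero_of_ell_pos (C - E₁) hellCE
  have hfnn := Groth.Agent.H55.nonneg_of_mem_L hK (C - E₁) hf0 hfmem
  -- pointwise: div f R ≥ B R - 2Q R
  have hfpt : ∀ R : FunFld.Place k K,
      (Finsupp.single B (1 : ℤ) : FunFld.Divisor k K) R -
        (Finsupp.single Q (2 : ℤ) : FunFld.Divisor k K) R ≤ FunFld.div k f R := by
    intro R
    have h := hfnn R
    rw [hE₁] at h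
    simp only [Finsupp.coe_sub, Finsupp.coe_add, Pi.sub_apply, Pi.add_apply, Finsupp.coe_zero,
      Pi.zero_apply] at h
    linarith
  have h2Q : (0 : FunFld.Divisor k K) ≤ Finsupp.single Q (2 : ℤ) :=
    Groth.Agent.H81.RR.single_nonneg Q (by norm_num)
  have hfmem2 : f ∈ FunFld.L (Finsupp.single Q (2 : ℤ) : FunFld.Divisor k K) := by
    refine Groth.Agent.H81.RR.mem_L_of_forall hK _ hf0 (fun R => ?_)
    have h := hfpt R
    have hB : (0 : ℤ) ≤ (Finsupp.single B (1 : ℤ) : FunFld.Divisor k K) R :=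
      Groth.Agent.H81.RR.single_nonneg B (by norm_num) R
    linarith
  -- ℓ(2Q) ≥ 2
  haveI := Groth.Agent.H55.L_finite hK (Finsupp.single Q (2 : ℤ) : FunFld.Divisor k K)
  have hell2Q : 2 ≤ FunFld.ell (Finsupp.single Q (2 : ℤ) : FunFld.Divisor k K) := by
    have hpos : 1 ≤ FunFld.ell (Finsupp.single Q (2 : ℤ) : FunFld.Divisor k K) :=
      Groth.Agent.H81.LC.finrank_pos_of_mem _ hfmem2 hf0
    rcases Nat.lt_or_ge (FunFld.ell (Finsupp.single Q (2 : ℤ) : FunFld.Divisor k K)) 2 with hlt | hge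
    · exfalso
      have hone : Module.finrank k ↥(FunFld.L (Finsupp.single Q (2 : ℤ) : FunFld.Divisor k K)) = 1 := by
        change FunFld.ell _ = 1
        omega
      have hz := Groth.Agent.H81.RR.div_eq_zero_of_mem_L hK _ h2Q hone hfmem2
      have h := hfpt B
      rw [hz, Finsupp.single_eq_same, Finsupp.single_eq_of_ne hBQ] at h
      simp at h
    · exact hge
  -- `C ~ 2Q`
  have hrr2 := Groth.Agent.H55.riemann_roch hK hC (Finsupp.single Q (2 : ℤ) : FunFld.Divisor k K)
  rw [Groth.Agent.H55.deg_single, hdeg1, hg] at hrr2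
  have hellC2Q : 0 < FunFld.ell (C - Finsupp.single Q (2 : ℤ)) := by
    have : (2 : ℤ) ≤ (FunFld.ell (Finsupp.single Q (2 : ℤ) : FunFld.Divisor k K) : ℤ) := by
      exact_mod_cast hell2Q
    have h3 : (1 : ℤ) ≤ (FunFld.ell (C - Finsupp.single Q (2 : ℤ)) : ℤ) := by
      push_cast at hrr2; linarith
    omega
  have hC2Qdeg : FunFld.Divisor.deg (C - Finsupp.single Q (2 : ℤ)) = 0 := by
    rw [Groth.Agent.H55.deg_sub, Groth.Agent.H55.deg_single, hdeg1, hdegC, hg]; norm_num
  obtain ⟨w, hw0, hw⟩ := Groth.Agent.H81.RR.exists_div_eq_neg hK _ hC2Qdeg hellC2Q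
  -- step 2: `ℓ(3B - 2Q) = ℓ(D₀) = 1`
  have hD₀w : D₀ + FunFld.div k w =
      Finsupp.single B (3 : ℤ) - Finsupp.single Q (2 : ℤ) := by
    rw [hw, hD₀]
    ext R
    simp only [Finsupp.coe_sub, Finsupp.coe_add, Finsupp.coe_neg, Pi.sub_apply, Pi.add_apply,
      Pi.neg_apply]
    have e : (Finsupp.single Q (4 : ℤ) : FunFld.Divisor k K) R =
        2 * (Finsupp.single Q (2 : ℤ) : FunFld.Divisor k K) R := by
      rw [Finsupp.single_apply, Finsupp.single_apply]; split_ifs <;> norm_num
    rw [e]; ring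
  have hell3 : 0 < FunFld.ell (Finsupp.single B (3 : ℤ) - Finsupp.single Q (2 : ℤ) :
      FunFld.Divisor k K) := by
    rw [← hD₀w, Groth.Agent.H55.ell_add_div hK _ hw0]
    have : FunFld.ell D₀ = 1 := h2
    omega
  obtain ⟨g', hg'0, hg'mem⟩ := Groth.Agent.H55.exists_ne_zero_of_ell_pos _ hell3
  have hgnn := Groth.Agent.H55.nonneg_of_mem_L hK _ hg'0 hg'mem
  have hgpt : ∀ R : FunFld.Place k K,
      (Finsupp.single Q (2 : ℤ) : FunFld.Divisor k K) R -
        (Finsupp.single B (3 : ℤ) : FunFld.Divisor k K) R ≤ FunFld.div k g' R := by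
    intro R
    have h := hgnn R
    simp only [Finsupp.coe_sub, Finsupp.coe_add, Pi.sub_apply, Pi.add_apply, Finsupp.coe_zero,
      Pi.zero_apply] at h
    linarith
  -- step 3: `g' f` is constant
  have h2B : (0 : FunFld.Divisor k K) ≤ Finsupp.single B (2 : ℤ) :=
    Groth.Agent.H81.RR.single_nonneg B (by norm_num)
  have e3 : ∀ R : FunFld.Place k K, (Finsupp.single B (3 : ℤ) : FunFld.Divisor k K) R =
      (Finsupp.single B (1 : ℤ) : FunFld.Divisor k K) R +
        (Finsupp.single B (2 : ℤ) : FunFld.Divisor k K) R := by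
    intro R
    rw [Finsupp.single_apply, Finsupp.single_apply, Finsupp.single_apply]
    split_ifs <;> norm_num
  have hgf0 : g' * f ≠ 0 := mul_ne_zero hg'0 hf0
  have hgfdiv : FunFld.div k (g' * f) = FunFld.div k g' + FunFld.div k f :=
    Groth.Agent.H55.div_mul hK hg'0 hf0
  have hgfmem : g' * f ∈ FunFld.L (Finsupp.single B (2 : ℤ) : FunFld.Divisor k K) := by
    refine Groth.Agent.H81.RR.mem_L_of_forall hK _ hgf0 (fun R => ?_)
    rw [hgfdiv, Finsupp.add_apply]
    have h1' := hfpt R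
    have h2' := hgpt R
    have h3' := e3 R
    linarith
  have hgfz := Groth.Agent.H81.RR.div_eq_zero_of_mem_L hK _ h2B hB hgfmem
  rw [hgfdiv] at hgfz
  have hneg : ∀ R : FunFld.Place k K, FunFld.div k g' R = -FunFld.div k f R := by
    intro R
    have h := DFunLike.congr_fun hgfz R
    rw [Finsupp.add_apply] at h
    simp only [Finsupp.coe_zero, Pi.zero_apply] at h
    linarith
  -- the effective divisor `E = (2Q - B) + div f` is supported at `B`, of degree one
  set E : FunFld.Divisor k K :=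
    Finsupp.single Q (2 : ℤ) - Finsupp.single B (1 : ℤ) + FunFld.div k f with hE
  have hEoff : ∀ R : FunFld.Place k K, R ≠ B → E R = 0 := by
    intro R hR
    have h1' := hfpt R
    have h2' := hgpt R
    rw [hneg R, Finsupp.single_eq_of_ne hR] at h2'
    rw [Finsupp.single_eq_of_ne hR] at h1'
    rw [hE]
    simp only [Finsupp.coe_sub, Finsupp.coe_add, Pi.sub_apply, Pi.add_apply]
    rw [Finsupp.single_eq_of_ne hR]
    linarith
  have hEdeg : FunFld.Divisor.deg E = 1 := by
    rw [hE, Groth.Agent.H55.deg_add, Groth.Agent.H55.deg_div hK, Groth.Agent.H55.deg_sub,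
      Groth.Agent.H55.deg_single, Groth.Agent.H55.deg_single, hdeg1, hdeg1]
    norm_num
  have hEB : E B = 1 := by
    rw [← Groth.Agent.H81.LC.deg_of_support_single hK E B hEoff, hEdeg]
  have hfB : FunFld.div k f B = 2 := by
    rw [hE] at hEB
    simp only [Finsupp.coe_sub, Finsupp.coe_add, Pi.sub_apply, Pi.add_apply,
      Finsupp.single_eq_same, Finsupp.single_eq_of_ne hBQ] at hEB
    linarith
  -- step 4: `f⁻¹ ∈ L(2B)` is constant
  have hfi0 : f⁻¹ ≠ 0 := inv_ne_zero hf0
  have hfimem : f⁻¹ ∈ FunFld.L (Finsupp.single B (2 : ℤ) : FunFld.Divisor k K) := by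
    refine Groth.Agent.H81.RR.mem_L_of_forall hK _ hfi0 (fun R => ?_)
    rw [Groth.Agent.H55.div_inv hK, Finsupp.neg_apply]
    by_cases hR : R = B
    · rw [hR, hfB, Finsupp.single_eq_same]; norm_num
    · have h := hEoff R hR
      rw [hE] at h
      simp only [Finsupp.coe_sub, Finsupp.coe_add, Pi.sub_apply, Pi.add_apply] at h
      rw [Finsupp.single_eq_of_ne hR] at h ⊢
      have hq : (0 : ℤ) ≤ (Finsupp.single Q (2 : ℤ) : FunFld.Divisor k K) R := h2Q R
      linarith
  have hfiz := Groth.Agent.H81.RR.div_eq_zero_of_mem_L hK _ h2B hB hfimem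
  rw [Groth.Agent.H55.div_inv hK] at hfiz
  have h := DFunLike.congr_fun hfiz B
  rw [Finsupp.neg_apply, hfB] at h
  simp at h

end Groth.Agent.S17251
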