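import Groth.Statements.S17259
import Mathlib.RingTheory.Ideal.Maps
import Mathlib.RingTheory.Ideal.Quotient.Basic
-- import your own Groth.Agent.* helpers here

set_option autoImplicit false
open CAlg

namespace Groth.Agent.S17259

/-- Let A, B, C be rings, f : B → A and g : B → C ring homomorphisms, and φ : A → B a homomorphism of
additive groups such that the sequence A → B → C → 0 (maps φ, g) is exact and f ∘ φ is
multiplication by a central element a of A which is not a zero divisor. Then the projection p : A →
A/(a) composed with f factors through g as a ring homomorphism q : C → A/(a), the homomorphism (f,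
g) : B → A × C is injective, and its image is the fibre product of A and C over A/(a) along p and q;
thus (f, g) is a ring isomorphism from B onto that fibre product. (The two-sidedness of the ideal
generated by a, automatic for a central element, is carried as an instance hypothesis.) -/
theorem result {A B C : Type*} [Ring A] [Ring B] [Ring C]
    (f : B →+* A) (g : B →+* C) (φ : A →+ B) (a : A)
    (hc : ∀ x : A, Commute a x) (ha : a ∈ nonZeroDivisors A)
    (hex : Function.Exact φ g) (hg : Function.Surjective g)
    (hφ : ∀ x : A, f (φ x) = a * x)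
    [(Ideal.span ({a} : Set A)).IsTwoSided] :
    ∃ q : C →+* A ⧸ Ideal.span ({a} : Set A),
      q.comp g = (Ideal.Quotient.mk (Ideal.span ({a} : Set A))).comp f ∧
      Function.Injective (f.prod g) ∧
      (f.prod g).range = (Ideal.Quotient.mk (Ideal.span ({a} : Set A))).pullback q := by
  set I : Ideal A := Ideal.span ({a} : Set A) with hI
  have hgφ : ∀ x : A, g (φ x) = 0 := fun x => (hex (φ x)).mpr ⟨x, rfl⟩
  have hker : RingHom.ker g ≤ RingHom.ker ((Ideal.Quotient.mk I).comp f) := by
    intro y hy
    rw [RingHom.mem_ker] at hy ⊢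
    obtain ⟨x, rfl⟩ := (hex y).mp hy
    rw [RingHom.comp_apply, hφ, Ideal.Quotient.eq_zero_iff_mem, hI, Ideal.mem_span_singleton']
    exact ⟨x, ((hc x).eq).symm⟩
  let q : C →+* A ⧸ I := g.liftOfSurjective hg ⟨(Ideal.Quotient.mk I).comp f, hker⟩
  have hq : ∀ y : B, q (g y) = Ideal.Quotient.mk I (f y) := fun y =>
    g.liftOfRightInverse_comp_apply _ _ ⟨(Ideal.Quotient.mk I).comp f, hker⟩ y
  refine ⟨q, RingHom.ext hq, ?_, ?_⟩
  · rw [injective_iff_map_eq_zero]
    intro y hy
    have h1 : f y = 0 := congrArg Prod.fst hy
    have h2 : g y = 0 := congrArg Prod.snd hy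
    obtain ⟨x, rfl⟩ := (hex y).mp h2
    rw [hφ] at h1
    have hx : x = 0 := ha.1 x h1
    rw [hx, map_zero]
  · ext ⟨α, c⟩
    constructor
    · rintro ⟨y, hy⟩
      have h1 : f y = α := congrArg Prod.fst hy
      have h2 : g y = c := congrArg Prod.snd hy
      change Ideal.Quotient.mk I α = q c
      rw [← h1, ← h2, hq]
    · intro h
      have h' : Ideal.Quotient.mk I α = q c := h
      obtain ⟨y, rfl⟩ := hg c
      rw [hq, Ideal.Quotient.eq, hI, Ideal.mem_span_singleton'] at h'
      obtain ⟨x, hx⟩ := h'
      refine ⟨y + φ x, ?_⟩
      apply Prod.ext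
      · change f (y + φ x) = α
        rw [map_add, hφ, (hc x).eq, hx]
        abel
      · change g (y + φ x) = g y
        rw [map_add, hgφ, add_zero]

end Groth.Agent.S17259
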