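import Groth.Statements.S17272
import Groth.Agent.H32.DiagApps

set_option autoImplicit false
open CategoryTheory CategoryTheory.Limits AlgebraicGeometry
universe u
open AlgSt

namespace Groth.Agent.S17272

open FibCat Stk Groth.Agent.H32.FibProd Groth.Agent.H32.Fp2 Groth.Agent.H32.Fp3
  Groth.Agent.H32.Fp4 Groth.Agent.H32.SpBridge Groth.Agent.H32.PFacts
  Groth.Agent.H32.AlgStackEquiv Groth.Agent.H32.AtlasRep Groth.Agent.H32.SpComp
  Groth.Agent.H32.StackOps Groth.Agent.H32.Magic Groth.Agent.H32.Sect Groth.Agent.H32.Repr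
  Groth.Agent.H32.SectSt Groth.Agent.H32.PshFp Groth.Agent.H32.SpTrack Groth.Agent.H32.StkLoc
  Groth.Agent.H32.PshStack Groth.Agent.H32.DiagRep Groth.Agent.H32.DiagApps

/-- stack-level cancellation from space-level cancellation: if `c` and `a ≫ c` are representable by
algebraic spaces with `P`, then so is `a`. -/
theorem with_cancel_of_cancel {S : Scheme.{u}} (P : MorphismProperty (AlgSp.Sp S)) (hbc : BC P)
    (hcancel : ∀ ⦃X Y Z : AlgSp.Sp S⦄, AlgSp.IsAlgSpace X → AlgSp.IsAlgSpace Y → AlgSp.IsAlgSpace Z →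
      ∀ (a : X ⟶ Y) (b : Y ⟶ Z), P b → P (a ≫ b) → P a)
    {𝒳 ℬ ℬ' : AlgSt.Cat S} (h𝒳 : IsFibGrpd 𝒳.p) (hℬ : IsFibGrpd ℬ.p) (hℬ' : IsFibGrpd ℬ'.p)
    (a : 𝒳 ⥤ᵇ ℬ) (c : ℬ ⥤ᵇ ℬ')
    (hc : AlgSt.RepByAlgSpWith P c) (hac : AlgSt.RepByAlgSpWith P (BasedFunctor.comp a c)) :
    AlgSt.RepByAlgSpWith P a := by
  intro U ζ
  obtain ⟨y', hy'⟩ : ∃ y' : FibCat.overCat U ⥤ᵇ ℬ', y' = BasedFunctor.comp ζ c := ⟨_, rfl⟩
  obtain ⟨G, eG, heG, hPG⟩ := hc U y'
  obtain ⟨H, eH, heH, hPH⟩ := hac U y'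
  obtain ⟨E, hE, -, ⟨ε⟩⟩ := exists_inv_isEquivOver (assoc_isEquivOver y' c a)
  have hU : IsFibGrpd (FibCat.overCat U).p := Groth.Agent.S6411.over_isFibGrpd U
  have h𝒢 : IsFibGrpd (fp y' c).p := fp_isFibGrpd _ _ hU hℬ hℬ'
  have h𝒜 : IsFibGrpd (fp (fpSnd y' c) a).p := fp_isFibGrpd _ _ h𝒢 h𝒳 hℬ
  obtain ⟨G', ⟨γ⟩⟩ := exists_factor_iso heG
    (BasedFunctor.comp (BasedFunctor.comp eH E) (fpFst (fpSnd y' c) a))
  obtain ⟨α⟩ := ofPshMap_pshMapOf G'
  let s : H ⟶ G := ObjectProperty.homMk (ObjectProperty.homMk (pshMapOf G'))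
  have e : BasedFunctor.comp (AlgSt.ofSpMap s.hom) eG ≅
      BasedFunctor.comp (BasedFunctor.comp eH E) (fpFst (fpSnd y' c) a) :=
    whiskerRightIso α eG ≪≫ γ
  have hs : P s.hom := by
    refine hcancel H.property G.property (AlgSp.IsAlgSpace.yon_obj U) s.hom
      (AlgSt.spMapOfOver (BasedFunctor.comp eG (fpFst y' c))) hPG ?_
    have key : s.hom ≫ AlgSt.spMapOfOver (BasedFunctor.comp eG (fpFst y' c)) =
        AlgSt.spMapOfOver (BasedFunctor.comp eH (fpFst y' (BasedFunctor.comp a c))) := by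
      apply ObjectProperty.hom_ext
      change pshMapOf G' ≫ (AlgSt.spMapOfOver (BasedFunctor.comp eG (fpFst y' c))).hom =
        (AlgSt.spMapOfOver (BasedFunctor.comp eH (fpFst y' (BasedFunctor.comp a c)))).hom
      rw [spMapOfOver_hom, spMapOfOver_hom, ← pshMapOf_comp]
      have i1 : BasedFunctor.comp G' (BasedFunctor.comp (BasedFunctor.comp eG (fpFst y' c))
            (AlgSt.ofOverCat U)) ≅
          BasedFunctor.comp eH (BasedFunctor.comp (BasedFunctor.comp E (assoc y' c a))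
            (BasedFunctor.comp (fpFst y' (BasedFunctor.comp a c)) (AlgSt.ofOverCat U))) :=
        whiskerRightIso γ (BasedFunctor.comp (fpFst y' c) (AlgSt.ofOverCat U))
      have i2 : BasedFunctor.comp eH (BasedFunctor.comp (BasedFunctor.comp E (assoc y' c a))
            (BasedFunctor.comp (fpFst y' (BasedFunctor.comp a c)) (AlgSt.ofOverCat U))) ≅
          BasedFunctor.comp (BasedFunctor.comp eH (fpFst y' (BasedFunctor.comp a c)))
            (AlgSt.ofOverCat U) :=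
        whiskerLeftIso eH (whiskerRightIso ε
          (BasedFunctor.comp (fpFst y' (BasedFunctor.comp a c)) (AlgSt.ofOverCat U)))
      exact pshMapOf_congr (i1 ≪≫ i2).hom
    rw [key]
    exact hPH
  have hσ : AlgSt.RepByAlgSpWith P (fpFst (fpSnd y' c) a) :=
    with_of_space_map P hbc h𝒜 h𝒢 H G (BasedFunctor.comp eH E)
      (isEquivOver_comp _ _ heH hE) eG heG _ s e hs
  subst hy'
  let s₁ : FibCat.overCat U ⥤ᵇ fp (BasedFunctor.comp ζ c) c :=
    fpLift (F := BasedFunctor.comp ζ c) (G := c) (BasedFunctor.id _) ζ (Iso.refl _)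
  exact withAt_of_paste P (fpSnd (BasedFunctor.comp ζ c) c) a U s₁ (hσ U s₁)


/-- Let S be a scheme, P a property of morphisms of algebraic spaces over S (fppf sheaves on (Sch/S)
with representable diagonal and an etale surjective map from a scheme) which is stable under base
change (along every pullback square of sheaves whose corners are algebraic spaces) and under
composition, and assume the cancellation property: for morphisms a : X → Y and b : Y → Z of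
algebraic spaces over S, if b and the composite of a and b have P then a has P. Let 𝒳, 𝒴, 𝒵 be
algebraic stacks over (Sch/S) for the etale topology (stacks in groupoids with diagonal
representable by algebraic spaces and a smooth surjective presentation by a scheme), with functors f
: 𝒳 → 𝒴 and g : 𝒴 → 𝒵 over (Sch/S). If the diagonals 𝒴 → 𝒴 ×_𝒵 𝒴 of g and 𝒳 → 𝒳 ×_𝒵 𝒳 of g ∘ f are
representable by algebraic spaces and have property P, then the diagonal 𝒳 → 𝒳 ×_𝒴 𝒳 of f is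
representable by algebraic spaces and has property P. -/
theorem result (S : Scheme.{u}) (𝒳 𝒴 𝒵 : AlgSt.Cat S)
    (h𝒳 : AlgSt.IsAlgStack Scheme.etalePrecoverage 𝒳) (h𝒴 : AlgSt.IsAlgStack Scheme.etalePrecoverage 𝒴) (h𝒵 : AlgSt.IsAlgStack Scheme.etalePrecoverage 𝒵)
    (P : MorphismProperty (AlgSp.Sp S))
    (hPb : ∀ ⦃X₁ Y₁ X₂ Y₂ : AlgSp.Sp S⦄, AlgSp.IsAlgSpace X₁ → AlgSp.IsAlgSpace Y₁ → AlgSp.IsAlgSpace X₂ →
      AlgSp.IsAlgSpace Y₂ → ∀ (a : X₁ ⟶ Y₁) (b : Y₂ ⟶ Y₁) (a' : X₂ ⟶ Y₂) (b' : X₂ ⟶ X₁),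
      IsPullback b' a' a b → P a → P a')
    (hPc : ∀ ⦃X Y Z : AlgSp.Sp S⦄, AlgSp.IsAlgSpace X → AlgSp.IsAlgSpace Y → AlgSp.IsAlgSpace Z →
      ∀ (a : X ⟶ Y) (b : Y ⟶ Z), P a → P b → P (a ≫ b))
    (hcancel : ∀ ⦃X Y Z : AlgSp.Sp S⦄, AlgSp.IsAlgSpace X → AlgSp.IsAlgSpace Y → AlgSp.IsAlgSpace Z →
      ∀ (a : X ⟶ Y) (b : Y ⟶ Z), P b → P (a ≫ b) → P a)
    (f : 𝒳 ⥤ᵇ 𝒴) (g : 𝒴 ⥤ᵇ 𝒵) :
    AlgSt.RepByAlgSpWith P (FibCat.diag g) → AlgSt.RepByAlgSpWith P (FibCat.diag (BasedFunctor.comp f g)) →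
      AlgSt.RepByAlgSpWith P (FibCat.diag f) := by
  intro hg hfg
  have i𝒳 := h𝒳.isStack.1
  have i𝒴 := h𝒴.isStack.1
  have i𝒵 := h𝒵.isStack.1
  have hff : IsFibGrpd (fp f f).p := fp_isFibGrpd _ _ i𝒳 i𝒳 i𝒴
  have h1 : IsFibGrpd (fp (BasedFunctor.comp f g) (BasedFunctor.comp f g)).p :=
    fp_isFibGrpd _ _ i𝒳 i𝒳 i𝒵
  have hm : AlgSt.RepByAlgSpWith P (diagMap f g) := with_diagMap P i𝒳 i𝒴 i𝒵 f g hg
  have hδm : AlgSt.RepByAlgSpWith P (BasedFunctor.comp (FibCat.diag f) (diagMap f g)) :=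
    with_of_iso P i𝒳 h1 (diagCompIso f g) hfg
  exact with_cancel_of_cancel P hPb hcancel i𝒳 hff h1 (FibCat.diag f) (diagMap f g) hm hδm

end Groth.Agent.S17272
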