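import Groth.Statements.S17287
import Mathlib
import Groth.Agent.H54.FibreDimTdeg
import Groth.Agent.H54.DimClosure
import Groth.Agent.H54.SchemeDim2
import Groth.Agent.H21.RedClosure

set_option autoImplicit false
universe u
open CategoryTheory CategoryTheory.Limits AlgebraicGeometry TopologicalSpace
open Variety

namespace Groth.Agent.S17287


section Helpers
open AlgebraicGeometry CategoryTheory CategoryTheory.Limits TopologicalSpace Topology Groth.Agent.H54

theorem irreducibleSpace_of_isInducing {A B : Type*} [TopologicalSpace A] [TopologicalSpace B]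
    (e : A → B) (he : IsInducing e) (h : IsIrreducible (Set.range e)) : IrreducibleSpace A := by
  haveI : Nonempty A := by
    obtain ⟨b, a, rfl⟩ := h.nonempty
    exact ⟨a⟩
  refine { isPreirreducible_univ := ?_, toNonempty := inferInstance }
  rintro U V hU hV ⟨a, -, haU⟩ ⟨b, -, hbV⟩
  obtain ⟨U', hU', rfl⟩ := he.isOpen_iff.mp hU
  obtain ⟨V', hV', rfl⟩ := he.isOpen_iff.mp hV
  obtain ⟨c, ⟨a', rfl⟩, hcU, hcV⟩ := h.isPreirreducible U' V' hU' hV'
    ⟨e a, ⟨a, rfl⟩, haU⟩ ⟨e b, ⟨b, rfl⟩, hbV⟩
  exact ⟨a', Set.mem_univ _, hcU, hcV⟩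

theorem main (k : Type u) [Field k] (X Y : Scheme.{u})
    (sX : X ⟶ Spec (CommRingCat.of k)) [IsProper sX]
    (sY : Y ⟶ Spec (CommRingCat.of k)) [IsProper sY]
    (f : Y ⟶ X) (hf : f ≫ sX = sY) [Surjective f]
    (C : X.IdealSheafData) [IsIntegral C.subscheme]
    (hC : topologicalKrullDim (C.support : Set X) = 1) :
    ∃ C' : Y.IdealSheafData, IsIntegral C'.subscheme ∧
      topologicalKrullDim (C'.support : Set Y) = 1 ∧
      f.base '' (C'.support : Set Y) = (C.support : Set X) := by
  haveI : IsProper (f ≫ sX) := by rw [hf]; infer_instance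
  haveI : IsProper f := IsProper.of_comp f sX
  haveI : LocallyOfFiniteType f := inferInstance
  obtain ⟨ξ, hξ⟩ : ∃ ξ : X, closure {ξ} = (C.support : Set X) := by
    refine ⟨C.subschemeι (genericPoint C.subscheme), ?_⟩
    have h1 := (genericPoint_spec C.subscheme).image C.subschemeι.continuous
    rw [Set.image_univ, C.range_subschemeι] at h1
    rw [h1.def, C.support.isClosed.closure_eq]
  have hξ1 : tdeg sX ξ = 1 := by
    have h1 := topologicalKrullDim_closure_singleton sX ξ
    rw [hξ, hC] at h1
    exact_mod_cast h1.symm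
  obtain ⟨y0, hy0⟩ := ‹Surjective f›.surj ξ
  obtain ⟨z0, -⟩ : y0 ∈ Set.range (f.fiberι ξ) := by
    rw [Scheme.Hom.range_fiberι]; exact hy0
  obtain ⟨z', -, hz'⟩ := isClosed_univ.exists_closed_singleton
    (⟨z0, trivial⟩ : (Set.univ : Set (f.fiber ξ)).Nonempty)
  obtain ⟨y, hy⟩ : ∃ y, y = f.fiberι ξ z' := ⟨_, rfl⟩
  have hfy : f y = ξ := by
    have h1 : y ∈ f ⁻¹' {ξ} := by
      rw [← Scheme.Hom.range_fiberι, hy]; exact ⟨z', rfl⟩
    exact h1
  have hty : tdeg sY y = 1 := by
    have h1 := tdeg_fibre_add sY sX f hf ξ z'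
    rw [← hy] at h1
    have h2 : tdeg sX (f.base y) = 1 := by
      have : f.base y = ξ := hfy
      rw [this]; exact hξ1
    rw [h2, tdeg_eq_zero_of_isClosed (fiberQ f ξ) z' hz'] at h1
    exact h1
  obtain ⟨I, hI⟩ : ∃ I, I = Scheme.IdealSheafData.vanishingIdeal
      (⟨closure {y}, isClosed_closure⟩ : Closeds Y) := ⟨_, rfl⟩
  have hsupp : (I.support : Set Y) = closure {y} := by
    rw [hI]; exact Scheme.IdealSheafData.coe_support_vanishingIdeal _
  refine ⟨I, ?_, ?_, ?_⟩
  · haveI : IsReduced I.subscheme := by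
      rw [hI]; exact Groth.Agent.H21.RedClosure.isReduced_subscheme_vanishingIdeal _
    haveI : IrreducibleSpace I.subscheme :=
      irreducibleSpace_of_isInducing _ I.subschemeι.isEmbedding.isInducing (by
        rw [I.range_subschemeι, hsupp]; exact isIrreducible_singleton.closure)
    exact isIntegral_of_irreducibleSpace_of_isReduced _
  · rw [hsupp, topologicalKrullDim_closure_singleton sY y, hty]
    norm_num
  · have h1 : closure (f '' {y}) = f '' closure {y} :=
      f.isClosedMap.closure_image_eq_of_continuous f.continuous {y}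
    rw [Set.image_singleton, hfy, hξ] at h1
    rw [hsupp]
    exact h1.symm

end Helpers


/-- Let f : Y → X be a surjective k-morphism of proper schemes over a field k and C ⊆ X an integral
closed subscheme of dimension one. Then there is an integral closed subscheme C' ⊆ Y of dimension
one with f(C') = C as closed subsets. (The source states this for proper algebraic spaces over k;
this is the case of schemes.) -/
theorem result (k : Type u) [Field k] (X Y : Scheme.{u})
    [X.Over (Spec (CommRingCat.of k))] [IsProper (X ↘ (Spec (CommRingCat.of k)))] [Y.Over (Spec (CommRingCat.of k))] [IsProper (Y ↘ (Spec (CommRingCat.of k)))]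
    (f : Y ⟶ X) (hf : f ≫ (X ↘ (Spec (CommRingCat.of k))) = Y ↘ (Spec (CommRingCat.of k))) [Surjective f]
    (C : X.IdealSheafData) [IsIntegral C.subscheme] (hC : topologicalKrullDim (C.support : Set X) = 1) :
    ∃ C' : Y.IdealSheafData, IsIntegral C'.subscheme ∧ topologicalKrullDim (C'.support : Set Y) = 1 ∧
      f.base '' (C'.support : Set Y) = (C.support : Set X) := by
  exact main k X Y (X ↘ (Spec (CommRingCat.of k))) (Y ↘ (Spec (CommRingCat.of k))) f hf C hC
end Groth.Agent.S17287
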