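import Groth.Statements.S17289
import Groth.Agent.H41.SymGraded3
import Groth.Agent.H41.PullTwist
import Groth.Agent.H41.RelProjExists
import Groth.Agent.H41.RelTwistExists
import Groth.Agent.H41.RelProjGlue
import Groth.Agent.H41.RelProjLib
import Groth.Agent.H22.PullAmple
import Groth.Agent.H22.QCohH1
import Groth.Agent.H22.QCohLimits
import Groth.Agent.H18.AmpleIso
import Groth.Agent.H8.LocFreeNearFinite
import Groth.Agent.S8292

set_option autoImplicit false
universe u
open CategoryTheory CategoryTheory.Limits AlgebraicGeometry TopologicalSpace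
open Variety

namespace Groth.Agent.S17289

/-- Suppose X is a proper scheme over a field k, and E, F are finite locally free O_X-modules with E → F
surjective. Assume E is ample, meaning that the fundamental module O(1) of the projective bundle
P(E) = Proj(Sym E) → X is ample (for any relative-Proj data of the graded symmetric algebra of E
with its O(1)); then F is ample in the same sense. (The source states this for proper algebraic
spaces over k, together with the analogous assertion for nef modules; this is the ample assertion in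
the case of schemes.) -/
theorem result (k : Type u) [Field k] (X : Scheme.{u})
    [X.Over (Spec (CommRingCat.of k))] [IsProper (X ↘ (Spec (CommRingCat.of k)))] (E F : X.Modules)
    (hE : FlatMod.IsFinLocFree E) (hF : FlatMod.IsFinLocFree F) (φ : E ⟶ F) [Epi φ]
    (hample : ∀ (𝒮 : RelProj.QCGrAlg X) (j : E ⟶ 𝒮.toModule) (P : Scheme.{u}) (p : P ⟶ X)
        (chart : ∀ (U : X.Opens) (hU : IsAffineOpen U),
          (((p ⁻¹ᵁ U : P.Opens) : Scheme.{u}) ≅ Proj (𝒮.deg U hU)))
        (O1 : P.Modules)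
        (lam : ∀ (U : X.Opens) (hU : IsAffineOpen U),
          O1 ⟶ (Scheme.Modules.pushforward (RelProj.emb p chart U hU)).obj (GrTwist.twist (𝒮.deg U hU) 1)),
        RelProj.IsGrSymAlg E 𝒮 j → RelProj.IsRelProj 𝒮 p chart → RelProj.IsRelTwist 𝒮 p chart 1 O1 lam →
        CohB1.IsAmple O1) :
    ∀ (𝒮 : RelProj.QCGrAlg X) (j : F ⟶ 𝒮.toModule) (P : Scheme.{u}) (p : P ⟶ X)
      (chart : ∀ (U : X.Opens) (hU : IsAffineOpen U),
        (((p ⁻¹ᵁ U : P.Opens) : Scheme.{u}) ≅ Proj (𝒮.deg U hU)))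
      (O1 : P.Modules)
      (lam : ∀ (U : X.Opens) (hU : IsAffineOpen U),
        O1 ⟶ (Scheme.Modules.pushforward (RelProj.emb p chart U hU)).obj (GrTwist.twist (𝒮.deg U hU) 1)),
      RelProj.IsGrSymAlg F 𝒮 j → RelProj.IsRelProj 𝒮 p chart → RelProj.IsRelTwist 𝒮 p chart 1 O1 lam →
      CohB1.IsAmple O1 := by
  classical
  intro 𝒮 j P p chart O1 lam hS hP hO1
  have hEq : E.IsQuasicoherent := Groth.Agent.H8.isQuasicoherent_of_isFinLocFree E hE
  have hFq : F.IsQuasicoherent := Groth.Agent.H8.isQuasicoherent_of_isFinLocFree F hF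
  obtain ⟨𝒯, jT, hT, hdeg⟩ := Groth.Agent.H41.SymGraded.exists_isGrSymAlg_deg E
  obtain ⟨PT, pT, chartT, hPT⟩ := Groth.Agent.H41.RelProjExists.exists_isRelProj 𝒯
  obtain ⟨OT, lamT, hOT⟩ := Groth.Agent.H41.RelTwistExists.exists_isRelTwist 𝒯 pT chartT hPT 1
  have hampT : CohB1.IsAmple OT := hample 𝒯 jT PT pT chartT OT lamT hT hPT hOT
  have hφsurj : ∀ (U : X.Opens), IsAffineOpen U → Function.Surjective (φ.app U) := by
    intro U hU
    haveI : (kernel φ).IsQuasicoherent := Groth.Agent.H22.QCohLimits.isQuasicoherent_kernel φ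
    let Sc : ShortComplex X.Modules := ShortComplex.mk (kernel.ι φ) φ (kernel.condition φ)
    have hSc : Sc.ShortExact :=
      { exact := ShortComplex.exact_of_f_is_kernel Sc (kernelIsKernel _)
        mono_f := inferInstanceAs (Mono (kernel.ι φ))
        epi_g := inferInstanceAs (Epi φ) }
    haveI : Sc.X₁.IsQuasicoherent := inferInstanceAs (kernel φ).IsQuasicoherent
    exact Groth.Agent.H22.QCohH1.app_surjective Sc hSc hU
  have hu1 : ∀ (U : X.Opens) (hU : IsAffineOpen U) (x : Γ(E, U)),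
      ((φ ≫ j).app U) x ∈ 𝒮.deg U hU 1 := fun U hU x => hS.2 U hU (φ.app U x)
  have husurj : ∀ (U : X.Opens) (hU : IsAffineOpen U) (s : 𝒮.presheaf.obj (Opposite.op U)),
      s ∈ 𝒮.deg U hU 1 → ∃ x : Γ(E, U), ((φ ≫ j).app U) x = s := by
    intro U hU s hs
    obtain ⟨m, hm⟩ := Groth.Agent.H41.SymGraded.exists_app_eq_of_mem_deg_one 𝒮 j hS U hU s hs
    obtain ⟨x, hx⟩ := hφsurj U hU m
    refine ⟨x, ?_⟩
    show (j.app U) ((φ.app U) x) = s
    rw [hx, hm]
  have hgen : 𝒮.IsGenDegOne := Groth.Agent.H41.SymGraded.isGenDegOne_of_isGrSymAlg 𝒮 j hS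
  have hgenT : 𝒯.IsGenDegOne := Groth.Agent.H41.SymGraded.isGenDegOne_of_isGrSymAlg 𝒯 jT hT
  obtain ⟨ubar, hubar, hju⟩ :=
    Groth.Agent.H41.SymGraded.exists_gradedHom 𝒯 jT hT hdeg 𝒮 (φ ≫ j) hu1
  have hirr := Groth.Agent.H41.SymGraded.irrelevant_le_map 𝒯 jT hT 𝒮 hgen (φ ≫ j) husurj ubar
    hubar hju
  obtain ⟨h, hh, -⟩ := Groth.Agent.H41.RelProjLib.existsUnique_relProjMap ubar hubar hirr
    chartT chart hPT hP
  have hci : IsClosedImmersion h := Groth.Agent.S8292.result 𝒮 𝒯 hgen E hEq (φ ≫ j) hu1 husurj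
    jT hT ubar hubar hju hirr pT p chartT chart hPT hP h hh
  obtain ⟨τ⟩ := Groth.Agent.H41.PullTwist.pullback_twist_iso ubar hubar hgenT hirr pT p chartT
    chart hPT hP h hh 1 OT lamT hOT O1 lam hO1
  haveI : CompactSpace PT := hampT.2.1
  haveI : CompactSpace P := h.isClosedEmbedding.compactSpace
  have hamp' : CohB1.IsAmple ((Scheme.Modules.pullback h).obj OT) :=
    Groth.Agent.H22.PullAmple.isAmple_pullback_of_isEmbedding h h.isEmbedding hampT
  exact Groth.Agent.H18.AmpleIso.isAmple_of_iso τ hamp'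

end Groth.Agent.S17289
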