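import Groth.Statements.S1729
-- import your own Groth.Agent.* helpers here

set_option autoImplicit false
universe u
open Dual2

namespace Groth.Agent.S1729

/-- Over a local ring, every finite module M admits a projective cover: a surjection from a projective
module P onto M such that no proper submodule of P maps onto M. -/
theorem result (R : Type u) [CommRing R] [IsLocalRing R] (M : Type u) [AddCommGroup M] [Module R M] [Module.Finite R M] : ∃ (P : Type u) (_ : AddCommGroup P) (_ : Module R P) (f : P →ₗ[R] M), Dual2.IsProjectiveCover f := by
  classical
  let k := IsLocalRing.ResidueField R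
  let V := TensorProduct R k M
  let n := Module.finrank k V
  let b : Module.Basis (Fin n) k V := Module.finBasis k V
  have hsurj : Function.Surjective (TensorProduct.mk R k M 1) :=
    TensorProduct.mk_surjective R M k Ideal.Quotient.mk_surjective
  choose m hm using fun i => hsurj (b i)
  let f : (Fin n → R) →ₗ[R] M := Fintype.linearCombination R m
  have hfs : Function.Surjective f := by
    rw [← LinearMap.range_eq_top, Fintype.range_linearCombination]
    exact IsLocalRing.span_eq_top_of_tmul_eq_basis m b hm
  have hker : LinearMap.ker f ≤ (IsLocalRing.maximalIdeal R) • (⊤ : Submodule R (Fin n → R)) := by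
    intro c hc
    rw [LinearMap.mem_ker, Fintype.linearCombination_apply] at hc
    have h1 : ∑ i, (IsLocalRing.residue R (c i)) • b i = 0 := by
      have := congrArg (TensorProduct.mk R k M 1) hc
      rw [map_sum, map_zero] at this
      rw [← this]
      refine Finset.sum_congr rfl fun i _ => ?_
      rw [map_smul, hm i]
      exact (IsScalarTower.algebraMap_smul k (c i) (b i))
    have h2 : ∀ i, c i ∈ IsLocalRing.maximalIdeal R := by
      intro i
      have := Fintype.linearIndependent_iff.1 b.linearIndependent
        (fun i => IsLocalRing.residue R (c i)) h1 i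
      exact (IsLocalRing.residue_eq_zero_iff _).1 this
    have h3 : c = ∑ i, c i • (Pi.single i (1 : R) : Fin n → R) := by
      ext j
      simp [Finset.sum_apply, Pi.single_apply]
    rw [h3]
    exact Submodule.sum_mem _ fun i _ => Submodule.smul_mem_smul (h2 i) Submodule.mem_top
  refine ⟨Fin n → R, inferInstance, inferInstance, f, ⟨inferInstance, hfs, ?_⟩⟩
  intro N hN
  rw [eq_top_iff]
  apply Submodule.le_of_le_smul_of_le_jacobson_bot (I := IsLocalRing.maximalIdeal R)
    Module.Finite.fg_top
  · rw [IsLocalRing.jacobson_eq_maximalIdeal ⊥ bot_ne_top]
  · intro p _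
    have : f p ∈ Submodule.map f N := by rw [hN]; exact Submodule.mem_top
    obtain ⟨q, hq, hqp⟩ := this
    have hpq : p - q ∈ LinearMap.ker f := by
      rw [LinearMap.mem_ker, map_sub, hqp, sub_self]
    have : p = q + (p - q) := by abel
    rw [this]
    exact Submodule.add_mem_sup hq (hker hpq)

end Groth.Agent.S1729
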