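import Groth.Statements.S1732
import Groth.Agent.H2.DModTors
import Groth.Agent.H61.PowerSeriesComplete

set_option autoImplicit false
universe u
open LocCoh

namespace Groth.Agent.S1732

theorem ps_maximalIdeal_eq {K : Type*} [Field K] (n : ℕ) :
    IsLocalRing.maximalIdeal (MvPowerSeries (Fin n) K) =
      Ideal.span (Set.range (MvPowerSeries.X : Fin n → MvPowerSeries (Fin n) K)) := by
  apply le_antisymm
  · intro f hf
    rw [Groth.Agent.H61.PS.mem_maximalIdeal_iff, IsLocalRing.maximalIdeal_eq_bot,
      Ideal.mem_bot] at hf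
    have h1 := Groth.Agent.H61.PS.mem_span_X_pow_of_coeff_eq_zero 1 f (fun x hx => by
      have hx0 : x = 0 := (Finsupp.degree_eq_zero_iff x).1 (by omega)
      rw [hx0, MvPowerSeries.coeff_zero_eq_constantCoeff_apply]
      exact hf)
    rwa [pow_one] at h1
  · exact Groth.Agent.H61.PS.span_X_le

/-- Let k be a field of characteristic zero, d ≥ 1, A = k[[x_1, …, x_d]] with maximal ideal m, and E an
injective hull of the residue field of A. Let M be an m-power torsion A-module equipped with
additive maps D_1, …, D_d such that D_i(f z) = θ_i(f) z + f D_i(z), where θ_i is the k-derivation of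
A with θ_i(x_j) = δ_ij (the partial derivative in x_i). Then M is, up to isomorphism, a direct sum
of copies of E. -/
theorem result (k : Type u) [Field k] [CharZero k] (d : ℕ) (hd : 1 ≤ d) (E : Type u) [AddCommGroup E] [Module (MvPowerSeries (Fin d) k) E] (e : IsLocalRing.ResidueField (MvPowerSeries (Fin d) k) →ₗ[MvPowerSeries (Fin d) k] E) (he : InjHull.IsInjectiveHull e) (θ : Fin d → Derivation k (MvPowerSeries (Fin d) k) (MvPowerSeries (Fin d) k)) (hθ : ∀ i j : Fin d, θ i (MvPowerSeries.X j) = if i = j then 1 else 0) (M : Type u) [AddCommGroup M] [Module (MvPowerSeries (Fin d) k) M] (hM : LocCoh.IsPowerTorsion (IsLocalRing.maximalIdeal (MvPowerSeries (Fin d) k)) M) (D : Fin d → M →+ M) (hD : ∀ (i : Fin d) (f : MvPowerSeries (Fin d) k) (z : M), D i (f • z) = θ i f • z + f • D i z) : ∃ J : Type u, Nonempty (M ≃ₗ[MvPowerSeries (Fin d) k] (J →₀ E)) := by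
  classical
  have hunit : ∀ n : ℕ, IsUnit (((n + 1 : ℕ) : MvPowerSeries (Fin d) k)) := by
    intro n
    have h1 : (((n + 1 : ℕ) : MvPowerSeries (Fin d) k)) =
        algebraMap k (MvPowerSeries (Fin d) k) ((n + 1 : ℕ) : k) := (map_natCast _ _).symm
    rw [h1]
    apply IsUnit.map
    exact isUnit_iff_ne_zero.mpr (by exact_mod_cast Nat.succ_ne_zero n)
  refine Groth.Agent.H2.DModTors.main d (MvPowerSeries.X : Fin d → MvPowerSeries (Fin d) k)
    (ps_maximalIdeal_eq d) hunit E e he M hM D ?_ ?_
  · intro i n z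
    rw [hD, Derivation.leibniz_pow, hθ, if_pos rfl]
    congr 1
    rw [Nat.add_sub_cancel, smul_eq_mul, mul_one, Nat.cast_smul_eq_nsmul, ← smul_assoc]
  · intro i j hji z
    rw [hD, hθ, if_neg (Ne.symm hji), zero_smul, zero_add]

end Groth.Agent.S1732
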