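import Groth.Statements.S17321
import Groth.Agent.H86.FinAlg
import Mathlib.RingTheory.Ideal.AssociatedPrime.Basic
import Mathlib.RingTheory.Ideal.IdempotentFG
import Mathlib.LinearAlgebra.Basis.VectorSpace
-- import your own Groth.Agent.* helpers here

set_option autoImplicit false
universe u v
open CAlg

namespace Groth.Agent.S17321

/-- a derivation kills idempotents -/
theorem deriv_idem_eq_zero {k : Type u} [Field k] {A : Type v} [CommRing A] [Algebra k A]
    (D : Derivation k A A) (e : A) (he : e * e = e) : D e = 0 := by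
  have h1 : D e = e • D e + e • D e := by
    conv_lhs => rw [← he]
    rw [D.leibniz]
  have h2 : e • D e = e • D e + e • D e := by
    conv_lhs => rw [h1]
    rw [smul_add, smul_smul, he]
  have h3 : e • D e = 0 := by
    have := h2
    rwa [left_eq_add] at this
  rw [h1, h3, add_zero]

/-- reduced finite algebras over an algebraically closed field have no derivations -/
theorem deriv_eq_zero_of_isReduced (k : Type u) [Field k] [IsAlgClosed k]
    (A : Type v) [CommRing A] [Algebra k A] [Module.Finite k A] [IsReduced A]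
    (D : Derivation k A A) : D = 0 := by
  classical
  haveI := Groth.Agent.H86.finite_char k A
  haveI : Fintype (A →ₐ[k] k) := Fintype.ofFinite _
  have hker := Groth.Agent.H86.ker_pi_char_eq_nilradical k A
  rw [nilradical_eq_zero] at hker
  have hevinj : Function.Injective (AlgHom.pi (R := k) (fun f : A →ₐ[k] k => f)) :=
    (RingHom.injective_iff_ker_eq_bot _).mpr hker
  have hevsurj := Groth.Agent.H86.pi_char_surjective k A
  choose e he using fun χ : A →ₐ[k] k => hevsurj (Pi.single χ 1)
  have hidem : ∀ χ, e χ * e χ = e χ := by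
    intro χ
    apply hevinj
    rw [map_mul, he]
    funext ψ
    by_cases h : ψ = χ
    · subst h; simp
    · simp [Pi.single_eq_of_ne h]
  have hDe : ∀ χ, D (e χ) = 0 := fun χ => deriv_idem_eq_zero D _ (hidem χ)
  have hsum : ∀ a : A, a = ∑ χ : A →ₐ[k] k, χ a • e χ := by
    intro a
    apply hevinj
    rw [map_sum]
    funext ψ
    rw [Finset.sum_apply]
    simp only [map_smul, he]
    change ψ a = ∑ χ : A →ₐ[k] k, (χ a • (Pi.single χ (1 : k) : (A →ₐ[k] k) → k)) ψ
    simp only [Pi.smul_apply, smul_eq_mul]
    rw [Finset.sum_eq_single ψ]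
    · simp
    · intro χ _ hne
      rw [Pi.single_eq_of_ne (Ne.symm hne), mul_zero]
    · intro h; exact absurd (Finset.mem_univ ψ) h
  ext a
  rw [hsum a, map_sum]
  simp [hDe]

/-- a non-reduced finite algebra over an algebraically closed field has a nonzero derivation -/
theorem exists_deriv_ne_zero (k : Type u) [Field k] [IsAlgClosed k]
    (A : Type v) [CommRing A] [Algebra k A] [Module.Finite k A] (hA : ¬ IsReduced A) :
    ∃ D : Derivation k A A, D ≠ 0 := by
  haveI : IsArtinianRing A := IsArtinianRing.of_finite k A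
  haveI : IsNoetherian k A := isNoetherian_of_isNoetherianRing_of_finite k A
  haveI : IsNoetherianRing A := isNoetherian_of_tower k inferInstance
  obtain ⟨x₀, hx₀nil, hx₀⟩ : ∃ x : A, IsNilpotent x ∧ x ≠ 0 := by
    by_contra h
    push Not at h
    exact hA ⟨fun x hx => h x hx⟩
  obtain ⟨P, hP, hle⟩ := exists_le_isAssociatedPrime_of_isNoetherianRing A x₀ hx₀
  rw [isAssociatedPrime_iff] at hP
  obtain ⟨hPprime, y, hPy⟩ := hP
  haveI := hPprime
  haveI hPmax : P.IsMaximal := inferInstance
  have hy : y ≠ 0 := by
    rintro rfl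
    apply hPprime.ne_top
    rw [hPy]
    ext r
    simp [Submodule.mem_colon_singleton]
  have hPy' : ∀ r : A, r ∈ P ↔ r * y = 0 := by
    intro r
    rw [hPy, Submodule.mem_colon_singleton]
    simp
  have hx₀P : x₀ ∈ P := by
    obtain ⟨n, hn⟩ := hx₀nil
    exact hPprime.mem_of_pow_mem n (hn ▸ P.zero_mem)
  have hann : ∀ r : A, r * x₀ = 0 → r ∈ P := by
    intro r hr
    apply hle
    rw [Submodule.mem_colon_singleton]
    simpa using hr
  -- P ≠ P * P
  have hPP : P * P ≠ P := by
    intro hPP
    have hidem : IsIdempotentElem P := hPP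
    obtain ⟨e, he, hPe⟩ := (Ideal.isIdempotentElem_iff_of_fg P (IsNoetherian.noetherian P)).mp hidem
    have hx₀e : x₀ ∈ Ideal.span {e} := by rw [← Ideal.submodule_span_eq, ← hPe]; exact hx₀P
    rw [Ideal.mem_span_singleton'] at hx₀e
    obtain ⟨c, hc⟩ := hx₀e
    have h1 : (1 - e) * x₀ = 0 := by
      rw [← hc]
      have : (1 - e) * (c * e) = c * (e - e * e) := by ring
      rw [this, he.eq, sub_self, mul_zero]
    have h2 : (1 - e) ∈ P := hann _ h1
    have h2' : (1 - e) ∈ Ideal.span {e} := by rw [← Ideal.submodule_span_eq, ← hPe]; exact h2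
    rw [Ideal.mem_span_singleton'] at h2'
    obtain ⟨t, ht⟩ := h2'
    have h3 : (1 - e) = 0 := by
      have : (1 - e) = (1 - e) * (1 - e) := by
        have : (1 - e) * (1 - e) = 1 - e - e + e * e := by ring
        rw [this, he.eq]; ring
      rw [this]
      nth_rewrite 2 [← ht]
      have : (1 - e) * (t * e) = t * (e - e * e) := by ring
      rw [this, he.eq, sub_self, mul_zero]
    have he1 : e = 1 := (sub_eq_zero.mp h3).symm
    apply hPprime.ne_top
    rw [hPe, he1]
    exact Ideal.span_singleton_one
  obtain ⟨z, hzP, hzPP⟩ : ∃ z, z ∈ P ∧ z ∉ P * P := by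
    by_contra h
    push Not at h
    exact hPP (le_antisymm Ideal.mul_le_right h)
  have hzPP' : z ∉ (P * P).restrictScalars k := hzPP
  obtain ⟨lam, hlamz, hlam⟩ := Submodule.exists_le_ker_of_notMem hzPP'
  obtain ⟨χ, hχ⟩ := Groth.Agent.H86.exists_char_ker_eq k A P
  have hχP : ∀ a : A, a - algebraMap k A (χ a) ∈ P := fun a =>
    hχ ▸ Groth.Agent.H86.sub_algebraMap_mem_ker χ a
  -- the linear functional a ↦ lam (a - χ a)
  let mu : A →ₗ[k] k := lam ∘ₗ (LinearMap.id - (Algebra.linearMap k A) ∘ₗ χ.toLinearMap)
  have hmu : ∀ a, mu a = lam (a - algebraMap k A (χ a)) := fun a => rfl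
  have hmumul : ∀ a b, mu (a * b) = χ a * mu b + χ b * mu a := by
    intro a b
    rw [hmu, hmu, hmu]
    have hdecomp : a * b - algebraMap k A (χ (a * b)) =
        (a - algebraMap k A (χ a)) * (b - algebraMap k A (χ b)) +
        (χ a • (b - algebraMap k A (χ b)) + χ b • (a - algebraMap k A (χ a))) := by
      rw [map_mul, map_mul, Algebra.smul_def, Algebra.smul_def]
      ring
    rw [hdecomp, map_add, map_add, map_smul, map_smul]
    have h0 : lam ((a - algebraMap k A (χ a)) * (b - algebraMap k A (χ b))) = 0 := by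
      have : (a - algebraMap k A (χ a)) * (b - algebraMap k A (χ b)) ∈ (P * P).restrictScalars k :=
        Ideal.mul_mem_mul (hχP a) (hχP b)
      exact hlam this
    rw [h0, zero_add]
    simp [smul_eq_mul]
  have hay : ∀ a : A, a * y = χ a • y := by
    intro a
    have := (hPy' _).mp (hχP a)
    rw [sub_mul, sub_eq_zero] at this
    rw [this, Algebra.smul_def]
  let D : Derivation k A A := Derivation.mk' (mu.smulRight y) (by
    intro a b
    simp only [LinearMap.smulRight_apply, smul_eq_mul]
    rw [hmumul, add_smul, mul_smul, mul_smul]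
    rw [mul_smul_comm, mul_smul_comm, hay a, hay b]
    rw [smul_comm (mu b) (χ a), smul_comm (mu a) (χ b)])
  refine ⟨D, ?_⟩
  intro hD
  have hDz : D z = 0 := by rw [hD]; rfl
  have hDz' : D z = mu z • y := rfl
  rw [hDz', hmu] at hDz
  have hχz : χ z = 0 := by
    have : z ∈ RingHom.ker χ := hχ ▸ hzP
    exact this
  rw [hχz, map_zero, sub_zero] at hDz
  rcases smul_eq_zero.mp hDz with h | h
  · exact hlamz h
  · exact hy h

/-- Let k be an algebraically closed field and A a commutative k-algebra which is finite-dimensional as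
a k-vector space (the coordinate ring of a finite k-scheme). Then the space Der(A) of k-derivations
A → A is zero if and only if A is reduced. -/
theorem result (k : Type u) [Field k] [IsAlgClosed k]
    (A : Type v) [CommRing A] [Algebra k A] [Module.Finite k A] :
    Subsingleton (Derivation k A A) ↔ IsReduced A := by
  constructor
  · intro hsub
    by_contra hA
    obtain ⟨D, hD⟩ := exists_deriv_ne_zero k A hA
    exact hD (Subsingleton.elim D 0)
  · intro hA
    refine ⟨fun D D' => ?_⟩
    rw [deriv_eq_zero_of_isReduced k A D, deriv_eq_zero_of_isReduced k A D']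

end Groth.Agent.S17321
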