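import Groth.Statements.S17336
import Groth.Agent.H86.FinAlg
import Mathlib.RingTheory.Idempotents
-- import your own Groth.Agent.* helpers here

set_option autoImplicit false
universe u v
open CAlg

namespace Groth.Agent.S17336

/-- Let k be an algebraically closed field and A a commutative k-algebra which is finite-dimensional as
a k-vector space (a finite scheme X = Spec A with largest reduced subscheme X_red = Spec
(A/nilradical A) and immersion i : X_red → X). Then there is a unique morphism r : X → X_red with r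
∘ i = id; on rings: the projection A → A/nilradical(A) admits exactly one section that is a
k-algebra homomorphism. -/
theorem result (k : Type u) [Field k]
    [IsAlgClosed k] (A : Type v) [CommRing A] [Algebra k A] [Module.Finite k A] :
    ∃! s : (A ⧸ nilradical A) →ₐ[k] A,
      (Ideal.Quotient.mkₐ k (nilradical A)).comp s = AlgHom.id k (A ⧸ nilradical A) := by
  classical
  haveI := Groth.Agent.H86.finite_char k A
  haveI : Fintype (A →ₐ[k] k) := Fintype.ofFinite _
  set ev : A →ₐ[k] ((A →ₐ[k] k) → k) := AlgHom.pi (R := k) (fun f : A →ₐ[k] k => f) with hev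
  have hker : RingHom.ker ev = nilradical A := Groth.Agent.H86.ker_pi_char_eq_nilradical k A
  have hsurj : Function.Surjective ev := Groth.Agent.H86.pi_char_surjective k A
  have hnil : ∀ x ∈ RingHom.ker (ev : A →+* ((A →ₐ[k] k) → k)), IsNilpotent x := by
    intro x hx
    have : x ∈ nilradical A := hker ▸ hx
    exact mem_nilradical.mp this
  obtain ⟨e, he, hee⟩ := CompleteOrthogonalIdempotents.lift_of_isNilpotent_ker
    (ev : A →+* ((A →ₐ[k] k) → k)) hnil
    (CompleteOrthogonalIdempotents.single (fun _ : (A →ₐ[k] k) => k))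
    (fun i => ⟨_, (hsurj _).choose_spec⟩)
  have heve : ∀ χ : A →ₐ[k] k, ev (e χ) = Pi.single χ 1 := fun χ => congrFun hee χ
  have hψe : ∀ ψ χ : A →ₐ[k] k, ψ (e χ) = if ψ = χ then 1 else 0 := by
    intro ψ χ
    have := congrFun (heve χ) ψ
    rw [Pi.single_apply] at this
    exact this
  -- decomposition
  have hdecomp : ∀ a : A, a - ∑ χ : A →ₐ[k] k, χ a • e χ ∈ nilradical A := by
    intro a
    rw [← hker, RingHom.mem_ker, map_sub, sub_eq_zero]
    funext ψ
    change ψ a = ψ (∑ χ : A →ₐ[k] k, χ a • e χ)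
    rw [map_sum]
    simp only [map_smul, hψe, smul_eq_mul, mul_ite, mul_one, mul_zero]
    rw [Finset.sum_ite_eq]
    simp
  -- the algebra map t : (E → k) → A
  let tl : ((A →ₐ[k] k) → k) →ₗ[k] A :=
    ∑ χ : A →ₐ[k] k, (LinearMap.proj χ : ((A →ₐ[k] k) → k) →ₗ[k] k).smulRight (e χ)
  have htl : ∀ φ, tl φ = ∑ χ : A →ₐ[k] k, φ χ • e χ := by
    intro φ
    simp [tl, LinearMap.sum_apply]
  let t : ((A →ₐ[k] k) → k) →ₐ[k] A := AlgHom.ofLinearMap tl
    (by rw [htl]; simp only [Pi.one_apply, one_smul]; exact he.complete)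
    (by
      intro φ ψ
      rw [htl, htl, htl, Finset.sum_mul_sum]
      simp only [smul_mul_smul_comm, he.mul_eq, smul_ite, smul_zero]
      simp only [Finset.sum_ite_eq, Finset.mem_univ, if_true, Pi.mul_apply])
  have ht : ∀ φ, t φ = ∑ χ : A →ₐ[k] k, φ χ • e χ := htl
  let evq : (A ⧸ nilradical A) →ₐ[k] ((A →ₐ[k] k) → k) :=
    Ideal.Quotient.liftₐ (nilradical A) ev (fun a ha => by rw [← hker] at ha; exact ha)
  have hevq : ∀ a : A, evq (Ideal.Quotient.mk _ a) = ev a := fun a => rfl
  have hmk : ∀ a : A, (Ideal.Quotient.mk (nilradical A)) a =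
      ∑ χ : A →ₐ[k] k, χ a • (Ideal.Quotient.mk (nilradical A)) (e χ) := by
    intro a
    have h1 := hdecomp a
    rw [← Ideal.Quotient.eq] at h1
    rw [h1, map_sum]
    refine Finset.sum_congr rfl fun χ _ => ?_
    rw [Algebra.smul_def, map_mul, Algebra.smul_def]
    rfl
  refine ⟨t.comp evq, ?_, ?_⟩
  · ext x
    obtain ⟨a, rfl⟩ := Ideal.Quotient.mk_surjective x
    change Ideal.Quotient.mk _ (t (evq (Ideal.Quotient.mk _ a))) = Ideal.Quotient.mk _ a
    rw [hevq, ht]
    symm
    rw [Ideal.Quotient.eq]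
    exact hdecomp a
  · intro s' hs'
    have hs'' : ∀ x, Ideal.Quotient.mk (nilradical A) (s' x) = x := fun x =>
      congrArg (fun f : (A ⧸ nilradical A) →ₐ[k] (A ⧸ nilradical A) => f x) hs'
    have hf : ∀ χ : A →ₐ[k] k, s' (Ideal.Quotient.mk _ (e χ)) = e χ := by
      intro χ
      apply eq_of_isNilpotent_sub_of_isIdempotentElem
      · exact ((he.idem χ).map (Ideal.Quotient.mk (nilradical A))).map s'
      · exact he.idem χ
      · rw [← mem_nilradical, ← Ideal.Quotient.eq]
        exact hs'' _
    ext x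
    obtain ⟨a, rfl⟩ := Ideal.Quotient.mk_surjective x
    change s' (Ideal.Quotient.mk _ a) = t (evq (Ideal.Quotient.mk _ a))
    rw [hevq, ht, hmk a, map_sum]
    refine Finset.sum_congr rfl fun χ _ => ?_
    rw [map_smul, hf]
    rfl

end Groth.Agent.S17336
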