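import Groth.Statements.S17323
import Groth.Agent.H86.FinAlg2
import Groth.Agent.S17336
import Mathlib.LinearAlgebra.FiniteDimensional.Basic
-- import your own Groth.Agent.* helpers here

set_option autoImplicit false
universe u v
open CAlg

namespace Groth.Agent.S17323

/-- Let k be an algebraically closed field and A a commutative k-algebra which is finite-dimensional as
a k-vector space. Then A has a largest reduced subalgebra: a k-subalgebra B which is reduced and
contains every reduced k-subalgebra of A; moreover the composite of the inclusion B → A with the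
projection A → A/nilradical(A) is bijective. -/
theorem result (k : Type u) [Field k] [IsAlgClosed k]
    (A : Type v) [CommRing A] [Algebra k A] [Module.Finite k A] :
    ∃ B : Subalgebra k A, IsReduced ↥B ∧ (∀ C : Subalgebra k A, IsReduced ↥C → C ≤ B) ∧
      Function.Bijective ((Ideal.Quotient.mkₐ k (nilradical A)).comp B.val) := by
  obtain ⟨s, hs, -⟩ := Groth.Agent.S17336.result k A
  have hs' : ∀ x, Ideal.Quotient.mk (nilradical A) (s x) = x := fun x =>
    congrArg (fun f : (A ⧸ nilradical A) →ₐ[k] (A ⧸ nilradical A) => f x) hs
  haveI hred : IsReduced (A ⧸ nilradical A) := Groth.Agent.H86.isReduced_quotient_nilradical A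
  have hsinj : Function.Injective s := fun x y h => by rw [← hs' x, ← hs' y, h]
  refine ⟨s.range, ?_, ?_, ?_⟩
  · -- reduced
    have hinj : Function.Injective
        ((Ideal.Quotient.mk (nilradical A)).comp (s.range.val : s.range →+* A)) := by
      rintro ⟨_, x, rfl⟩ ⟨_, y, rfl⟩ h
      have h' : Ideal.Quotient.mk (nilradical A) (s x) = Ideal.Quotient.mk (nilradical A) (s y) := h
      rw [hs', hs'] at h'
      subst h'
      rfl
    exact isReduced_of_injective _ hinj
  · -- largest
    intro C hC
    haveI : Module.Finite k C := FiniteDimensional.finiteDimensional_subalgebra C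
    have hidemB : ∀ f : A, IsIdempotentElem f → f ∈ s.range := by
      intro f hf
      refine ⟨Ideal.Quotient.mk (nilradical A) f, ?_⟩
      apply eq_of_isNilpotent_sub_of_isIdempotentElem
      · exact (hf.map (Ideal.Quotient.mk (nilradical A))).map s
      · exact hf
      · rw [← mem_nilradical, ← Ideal.Quotient.eq]
        exact hs' _
    intro c hc
    have hmem := Groth.Agent.H86.mem_span_idempotents_of_isReduced k C ⟨c, hc⟩
    have hmap : (⟨c, hc⟩ : C) ∈ Submodule.comap C.val.toLinearMap (Subalgebra.toSubmodule s.range) := by
      refine Submodule.span_le.mpr ?_ hmem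
      intro e he
      have : IsIdempotentElem (e : A) := he.map C.val
      exact hidemB _ this
    exact hmap
  · constructor
    · rintro ⟨_, x, rfl⟩ ⟨_, y, rfl⟩ h
      have h' : Ideal.Quotient.mk (nilradical A) (s x) = Ideal.Quotient.mk (nilradical A) (s y) := h
      rw [hs', hs'] at h'
      subst h'
      rfl
    · intro x
      exact ⟨⟨s x, x, rfl⟩, hs' x⟩

end Groth.Agent.S17323
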