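import Groth.Statements.S17324
import Groth.Agent.H86.FinAlg
import Mathlib.RingTheory.Artinian.Ring
import Mathlib.RingTheory.Jacobson.Ideal
import Mathlib.RingTheory.Ideal.Operations
-- import your own Groth.Agent.* helpers here

set_option autoImplicit false
universe u v
open CAlg

namespace Groth.Agent.S17324

/-- (i) ⟺ (ii): let k be an algebraically closed field, A a commutative k-algebra which is
finite-dimensional as a k-vector space and is a local ring with maximal ideal m, and a_1, …, a_m ∈
m. Then A is generated as a k-algebra by a_1, …, a_m if and only if m is generated as an ideal by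
a_1, …, a_m. (The printed lemma has a third equivalent condition, that the images of the a_i span
m/m²; its equivalence with (ii) is Nakayama's lemma.) -/
theorem result (k : Type u) [Field k] [IsAlgClosed k]
    (A : Type v) [CommRing A] [Algebra k A] [Module.Finite k A] [IsLocalRing A]
    (m : ℕ) (a : Fin m → A) (ha : ∀ i, a i ∈ IsLocalRing.maximalIdeal A) :
    Algebra.adjoin k (Set.range a) = ⊤ ↔ Ideal.span (Set.range a) = IsLocalRing.maximalIdeal A := by
  classical
  set 𝔪 := IsLocalRing.maximalIdeal A with h𝔪
  have hspan_le : Ideal.span (Set.range a) ≤ 𝔪 := by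
    rw [Ideal.span_le]
    rintro _ ⟨i, rfl⟩
    exact ha i
  constructor
  · intro hadj
    refine le_antisymm hspan_le ?_
    intro x hx
    have hxB : x ∈ Algebra.adjoin k (Set.range a) := hadj ▸ Algebra.mem_top
    have key : ∃ c : k, x - algebraMap k A c ∈ Ideal.span (Set.range a) := by
      refine Algebra.adjoin_induction (p := fun x _ => ∃ c : k, x - algebraMap k A c ∈ Ideal.span (Set.range a))
        ?_ ?_ ?_ ?_ hxB
      · intro y hy
        exact ⟨0, by simpa using Ideal.subset_span hy⟩
      · intro r
        exact ⟨r, by simp⟩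
      · rintro y z _ _ ⟨c₁, h₁⟩ ⟨c₂, h₂⟩
        refine ⟨c₁ + c₂, ?_⟩
        have : y + z - algebraMap k A (c₁ + c₂) = (y - algebraMap k A c₁) + (z - algebraMap k A c₂) := by
          rw [map_add]; ring
        rw [this]
        exact Ideal.add_mem _ h₁ h₂
      · rintro y z _ _ ⟨c₁, h₁⟩ ⟨c₂, h₂⟩
        refine ⟨c₁ * c₂, ?_⟩
        have : y * z - algebraMap k A (c₁ * c₂) =
            z * (y - algebraMap k A c₁) + algebraMap k A c₁ * (z - algebraMap k A c₂) := by
          rw [map_mul]; ring
        rw [this]
        exact Ideal.add_mem _ (Ideal.mul_mem_left _ _ h₁) (Ideal.mul_mem_left _ _ h₂)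
    obtain ⟨c, hc⟩ := key
    have hc𝔪 : algebraMap k A c ∈ 𝔪 := by
      have h1 : x - algebraMap k A c ∈ 𝔪 := hspan_le hc
      have : algebraMap k A c = x - (x - algebraMap k A c) := by ring
      rw [this]
      exact Ideal.sub_mem _ hx h1
    have hc0 : c = 0 := by
      by_contra hne
      have hunit : IsUnit (algebraMap k A c) := (IsUnit.mk0 c hne).map _
      exact (IsLocalRing.mem_maximalIdeal _).mp hc𝔪 hunit
    rw [hc0, map_zero, sub_zero] at hc
    exact hc
  · intro hspan
    haveI : IsArtinianRing A := IsArtinianRing.of_finite k A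
    have hnil : IsNilpotent 𝔪 := by
      rw [h𝔪, ← IsLocalRing.jacobson_eq_maximalIdeal ⊥ bot_ne_top]
      exact IsArtinianRing.isNilpotent_jacobson_bot
    obtain ⟨N, hN⟩ := hnil
    obtain ⟨χ, hχ⟩ := Groth.Agent.H86.exists_char_ker_eq k A 𝔪
    set B := Algebra.adjoin k (Set.range a) with hB
    have haB : ∀ i, a i ∈ B := fun i => Algebra.subset_adjoin ⟨i, rfl⟩
    have claim : ∀ j : ℕ, ∀ x : A, ∃ b ∈ B, x - b ∈ 𝔪 ^ j := by
      intro j
      induction j with
      | zero =>
        intro x
        exact ⟨0, B.zero_mem, by simp⟩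
      | succ j ih =>
        intro x
        have hx𝔪 : x - algebraMap k A (χ x) ∈ 𝔪 := hχ ▸ Groth.Agent.H86.sub_algebraMap_mem_ker χ x
        rw [← hspan, Ideal.mem_span_range_iff_exists_fun] at hx𝔪
        obtain ⟨c, hc⟩ := hx𝔪
        choose b hbB hb using fun i => ih (c i)
        refine ⟨algebraMap k A (χ x) + ∑ i, b i * a i, ?_, ?_⟩
        · exact B.add_mem (B.algebraMap_mem _) (B.sum_mem fun i _ => B.mul_mem (hbB i) (haB i))
        · have : x - (algebraMap k A (χ x) + ∑ i, b i * a i) = ∑ i, (c i - b i) * a i := by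
            rw [← sub_sub, ← hc, ← Finset.sum_sub_distrib]
            exact Finset.sum_congr rfl fun i _ => by ring
          rw [this, pow_succ]
          exact Ideal.sum_mem _ fun i _ => Ideal.mul_mem_mul (hb i) (ha i)
    rw [eq_top_iff]
    intro x _
    obtain ⟨b, hbB, hb⟩ := claim N x
    rw [hN] at hb
    have : x = b := sub_eq_zero.mp hb
    rw [this]
    exact hbB

end Groth.Agent.S17324
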