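import Groth.Statements.S17325
import Groth.Agent.H86.FrobSL
import Mathlib.Algebra.Algebra.Subalgebra.Lattice

set_option autoImplicit false
universe u v
open LieAlg

namespace Groth.Agent.S17325

/-- Let k be an algebraically closed field of characteristic p > 0, V a finite-dimensional k-vector
space and g a nonzero k-linear subspace of End_k(V) closed under the p-th power map u ↦ u^p. Then g
contains a nonzero u with u^p = c u for some c ∈ k, i.e. a line k u closed under p-th powers. (The
published lemma concerns an abstract nonzero finite-dimensional restricted Lie algebra; this row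
concerns subspaces of End_k(V) closed under p-th powers, a class that contains every restricted Lie
subalgebra of gl(V).) -/
theorem result (k : Type u) [Field k] [IsAlgClosed k]
    (p : ℕ) [Fact p.Prime] [CharP k p] (V : Type v) [AddCommGroup V] [Module k V] [FiniteDimensional k V]
    (g : Submodule k (Module.End k V)) (hg : ∀ u ∈ g, u ^ p ∈ g) (hne : g ≠ ⊥) :
    ∃ u ∈ g, u ≠ 0 ∧ ∃ c : k, u ^ p = c • u := by
  classical
  have hp : p.Prime := Fact.out
  obtain ⟨u₀, hu₀g, hu₀⟩ := Submodule.exists_mem_ne_zero_of_ne_bot hne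
  let B : Subalgebra k (Module.End k V) := Algebra.adjoin k {u₀}
  let W : Submodule k (Module.End k V) := g ⊓ Subalgebra.toSubmodule B
  have hcomm : ∀ x ∈ W, ∀ y ∈ W, Commute x y := by
    intro x hx y hy
    have hxB : x ∈ Algebra.adjoin k {u₀} := hx.2
    have hyB : y ∈ Algebra.adjoin k {u₀} := hy.2
    have h1 : Commute y u₀ := (Algebra.commute_of_mem_adjoin_self hyB).symm
    exact (Algebra.commute_of_mem_adjoin_singleton_of_commute hxB h1).symm
  have hpEnd : ((p : ℕ) : Module.End k V) = 0 := by
    rw [← map_natCast (algebraMap k (Module.End k V)) p, CharP.cast_eq_zero k p, map_zero]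
  have hpowW : ∀ x ∈ W, x ^ p ∈ W := fun x hx => ⟨hg x hx.1, Subalgebra.pow_mem B hx.2 p⟩
  have haddpow : ∀ x ∈ W, ∀ y ∈ W, (x + y) ^ p = x ^ p + y ^ p := by
    intro x hx y hy
    obtain ⟨r, hr⟩ := (hcomm x hx y hy).exists_add_pow_prime_eq hp
    rw [hr, hpEnd]; simp
  let F : ↥W →+ ↥W :=
    { toFun := fun w => ⟨(w : Module.End k V) ^ p, hpowW _ w.2⟩
      map_zero' := by
        apply Subtype.ext
        show (0 : Module.End k V) ^ p = 0
        exact zero_pow hp.ne_zero
      map_add' := fun x y => by
        apply Subtype.ext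
        exact haddpow _ x.2 _ y.2 }
  have hF : ∀ (a : k) (w : ↥W), F (a • w) = a ^ p • F w := by
    intro a w
    apply Subtype.ext
    show (a • (w : Module.End k V)) ^ p = a ^ p • (w : Module.End k V) ^ p
    exact smul_pow a _ p
  by_cases hinj : Function.Injective F
  · have hv : (⟨u₀, hu₀g, Algebra.self_mem_adjoin_singleton k u₀⟩ : ↥W) ≠ 0 := by
      intro h; exact hu₀ (congrArg Subtype.val h)
    obtain ⟨w, hw0, hw⟩ := Groth.Agent.H86.FrobSL.exists_fixed_ne_zero hp.two_le
      (CharP.cast_eq_zero k p) F hF hinj _ hv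
    refine ⟨w, w.2.1, fun h => hw0 (Subtype.ext h), 1, ?_⟩
    rw [one_smul]
    exact congrArg Subtype.val hw
  · rw [Function.Injective] at hinj
    push Not at hinj
    obtain ⟨x, y, hxy, hne'⟩ := hinj
    have hd : F (x - y) = 0 := by rw [map_sub, hxy, sub_self]
    refine ⟨(x - y : ↥W), (x - y).2.1, fun h => hne' (sub_eq_zero.mp (Subtype.ext h)), 0, ?_⟩
    rw [zero_smul]
    exact congrArg Subtype.val hd

end Groth.Agent.S17325
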