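import Groth.Statements.S17326
import Groth.Agent.H86.FinAlg
import Mathlib.FieldTheory.Perfect
-- import your own Groth.Agent.* helpers here

set_option autoImplicit false
universe u v
open CAlg

namespace Groth.Agent.S17326

/-- Let k be an algebraically closed field of characteristic p > 0, A a commutative k-algebra which is
finite-dimensional as a k-vector space (a finite k-scheme X), and n ≥ 1. The n-th iterated relative
Frobenius morphism X → X^(p^n) is an isomorphism if and only if X is reduced; on rings: the map a ↦
a^(p^n) of A to itself (which is the ring homomorphism underlying the relative Frobenius, the twist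
A^(p^n) having the same underlying ring as A) is bijective if and only if A is reduced. -/
theorem result (k : Type u) [Field k] [IsAlgClosed k]
    (p : ℕ) [Fact p.Prime] [CharP k p] (A : Type v) [CommRing A] [Algebra k A] [Module.Finite k A]
    (n : ℕ) (hn : 1 ≤ n) :
    Function.Bijective (fun a : A => a ^ p ^ n) ↔ IsReduced A := by
  have hq : 1 < p ^ n := Nat.one_lt_pow (by omega) (Fact.out : p.Prime).one_lt
  constructor
  · rintro ⟨hinj, -⟩
    refine ⟨fun a ha => ?_⟩
    obtain ⟨m, hm⟩ := ha
    -- iterate
    have hiter : ∀ j : ℕ, (fun a : A => a ^ p ^ n)^[j] a = a ^ (p ^ n) ^ j := by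
      intro j
      induction j with
      | zero => simp
      | succ j ih =>
        rw [Function.iterate_succ_apply', ih, ← pow_mul, ← pow_succ]
    have hiter0 : ∀ j : ℕ, (fun a : A => a ^ p ^ n)^[j] 0 = 0 := by
      intro j
      induction j with
      | zero => simp
      | succ j ih =>
        rw [Function.iterate_succ_apply', ih]
        exact zero_pow (by omega)
    have hlt : m < (p ^ n) ^ m := Nat.lt_pow_self hq
    have hz : a ^ (p ^ n) ^ m = 0 := pow_eq_zero_of_le hlt.le hm
    apply (hinj.iterate m)
    rw [hiter, hiter0, hz]
  · intro hred
    have hker := Groth.Agent.H86.ker_pi_char_eq_nilradical k A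
    rw [nilradical_eq_zero] at hker
    have hevinj : Function.Injective (AlgHom.pi (R := k) (fun f : A →ₐ[k] k => f)) :=
      (RingHom.injective_iff_ker_eq_bot _).mpr hker
    have hevsurj := Groth.Agent.H86.pi_char_surjective k A
    have hfrob : Function.Bijective (iterateFrobenius k p n) := bijective_iterateFrobenius k p n
    constructor
    · intro a b hab
      apply hevinj
      funext χ
      apply hfrob.1
      change (iterateFrobenius k p n) (χ a) = (iterateFrobenius k p n) (χ b)
      rw [iterateFrobenius_def, iterateFrobenius_def, ← map_pow, ← map_pow]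
      exact congrArg χ hab
    · intro b
      obtain ⟨a, ha⟩ := hevsurj (fun χ => (Equiv.ofBijective _ hfrob).symm (χ b))
      refine ⟨a, ?_⟩
      apply hevinj
      funext χ
      change χ (a ^ p ^ n) = χ b
      have h1 : χ a = (Equiv.ofBijective _ hfrob).symm (χ b) := congrFun ha χ
      rw [map_pow, h1, ← iterateFrobenius_def]
      exact (Equiv.ofBijective _ hfrob).apply_symm_apply (χ b)

end Groth.Agent.S17326
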