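import Groth.Statements.S17327
import Groth.Agent.H83.HopfKaehler

set_option autoImplicit false
universe u v
open Hopf

namespace Groth.Agent.S17327

theorem aux_exists_eq_sq_mul {R : Type*} [CommRing R] [IsArtinianRing R] [IsReduced R] (a : R) :
    ∃ y : R, a = a * (a * y) := by
  obtain ⟨n, y, hy⟩ := IsArtinian.exists_pow_succ_smul_dvd a (1 : R)
  simp only [smul_eq_mul, mul_one, Nat.succ_eq_add_one] at hy
  have h0 : a ^ (n + 1) * (1 - a * y) = 0 := by
    have : a ^ (n + 1) * (a * y) = a * (a ^ (n + 1) * y) := by ring
    rw [mul_sub, mul_one, this, hy, ← pow_succ']; exact sub_self _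
  have hnil : IsNilpotent (a * (1 - a * y)) :=
    ⟨n + 1, by rw [mul_pow, pow_succ' (1 - a * y), ← mul_assoc, h0, zero_mul]⟩
  refine ⟨y, ?_⟩
  have := hnil.eq_zero
  rw [mul_sub, mul_one, sub_eq_zero] at this; exact this

theorem aux_pow {R : Type*} [CommRing R] (a y : R) (h : a = a * (a * y)) (m : ℕ) :
    a = a ^ (m + 1) * y ^ m := by
  induction m with
  | zero => simp
  | succ m ih =>
    calc a = a * (a * y) := h
      _ = (a ^ (m + 1) * y ^ m) * (a * y) := by rw [← ih]
      _ = a ^ (m + 1 + 1) * y ^ (m + 1) := by ring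

/-- Let k be an algebraically closed field of characteristic p > 0, A a commutative Hopf algebra over k
which is finite-dimensional as a k-vector space (a finite group scheme G = Spec A), I the
augmentation ideal (kernel of the counit) and n ≥ 1. The n-th Frobenius kernel G_n is the closed
subgroup scheme cut out by the ideal generated by the p^n-th powers f^(p^n), f ∈ I; it is trivial,
i.e. that ideal equals I, if and only if G is reduced. -/
theorem result (k : Type u) [Field k] [IsAlgClosed k]
    (p : ℕ) [Fact p.Prime] [CharP k p] (A : Type v) [CommRing A] [HopfAlgebra k A] [Module.Finite k A]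
    (n : ℕ) (hn : 1 ≤ n) :
    Ideal.span ((fun f : A => f ^ p ^ n) '' (RingHom.ker (Bialgebra.counitAlgHom k A) : Set A)) =
      RingHom.ker (Bialgebra.counitAlgHom k A) ↔ IsReduced A := by
  have hp : p.Prime := Fact.out
  have hpn : 2 ≤ p ^ n := by
    calc 2 ≤ p := hp.two_le
      _ = p ^ 1 := (pow_one p).symm
      _ ≤ p ^ n := Nat.pow_le_pow_right hp.pos hn
  set I : Ideal A := RingHom.ker (Bialgebra.counitAlgHom k A) with hI
  have hle : Ideal.span ((fun f : A => f ^ p ^ n) '' (I : Set A)) ≤ I * I := by
    rw [Ideal.span_le]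
    rintro _ ⟨f, hf, rfl⟩
    obtain ⟨m, hm⟩ : ∃ m, p ^ n = m + 2 := ⟨p ^ n - 2, by omega⟩
    simp only [hm]
    rw [pow_succ]
    exact Ideal.mul_mem_mul (Ideal.pow_mem_of_mem I hf (m + 1) (Nat.succ_pos m)) hf
  constructor
  · intro h
    have hidem : IsIdempotentElem I := le_antisymm Ideal.mul_le_right (h.ge.trans hle)
    have hsub : Subsingleton (Groth.Agent.H83.HopfKaehler.augI k A).Cotangent :=
      (Ideal.cotangent_subsingleton_iff I).mpr hidem
    have hsub2 : Subsingleton (TensorProduct k A (Groth.Agent.H83.HopfKaehler.augI k A).Cotangent) := by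
      constructor
      intro x y
      have h0 : ∀ z : TensorProduct k A (Groth.Agent.H83.HopfKaehler.augI k A).Cotangent, z = 0 := by
        intro z
        induction z using TensorProduct.induction_on with
        | zero => rfl
        | tmul a c => rw [Subsingleton.elim c 0, TensorProduct.tmul_zero]
        | add a b ha hb => rw [ha, hb, add_zero]
      rw [h0 x, h0 y]
    have hsub3 : Subsingleton (KaehlerDifferential.ideal k A).Cotangent :=
      ((Groth.Agent.H83.HopfKaehler.equivB k A).symm.trans
        (Groth.Agent.H83.HopfKaehler.equivJ k A)).symm.toEquiv.subsingleton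
    have hunr : Algebra.FormallyUnramified k A := ⟨hsub3⟩
    exact Algebra.FormallyUnramified.isReduced_of_field k A
  · intro hred
    have hart : IsArtinianRing A := IsArtinianRing.of_finite k A
    apply le_antisymm (hle.trans Ideal.mul_le_right)
    intro a ha
    obtain ⟨y, hy⟩ := aux_exists_eq_sq_mul a
    obtain ⟨m, hm⟩ : ∃ m, p ^ n = m + 1 := ⟨p ^ n - 1, by omega⟩
    rw [aux_pow a y hy m]
    apply Ideal.mul_mem_right
    apply Ideal.subset_span
    exact ⟨a, ha, by simp only [hm]⟩

end Groth.Agent.S17327
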