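import Groth.Statements.S17328
import Groth.Agent.H1.FinHopf.HeightOne

set_option autoImplicit false
universe u v
open Hopf

namespace Groth.Agent.S17328

/-- Let k be an algebraically closed field of characteristic p > 0 and A a commutative Hopf algebra over
k, finite-dimensional as a k-vector space, with augmentation ideal I (kernel of the counit), such
that f^p = 0 for every f ∈ I (the finite group scheme G = Spec A is infinitesimal of height at most
one: A is then a local ring with maximal ideal I). Then the order of G is dim_k A = p^n where n =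
dim_k I/I² is the dimension of the Lie algebra of G. -/
theorem result (k : Type u) [Field k] [IsAlgClosed k]
    (p : ℕ) [Fact p.Prime] [CharP k p] (A : Type v) [CommRing A] [HopfAlgebra k A] [Module.Finite k A]
    (h1 : ∀ f : A, Bialgebra.counitAlgHom k A f = 0 → f ^ p = 0) :
    Module.finrank k A = p ^ Module.finrank k (RingHom.ker (Bialgebra.counitAlgHom k A)).Cotangent := by
  classical
  have hp : p.Prime := Fact.out
  have hnil : ∀ b, Bialgebra.counitAlgHom k A b = 0 → IsNilpotent b := fun b hb => ⟨p, h1 b hb⟩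
  obtain ⟨n, x, D, hx0, hD, hspan⟩ := Groth.Agent.H1.FinHopf.exists_data' (k := k) (B := A)
  have hfr := Groth.Agent.H1.FinHopf.finrank_eq_mul_pow p (Bialgebra.counitAlgHom k A) hnil x D hD
    hspan
  have hnt : Nontrivial A := (Bialgebra.counitAlgHom k A : A →+* k).domain_nontrivial
  have hcharA : CharP A p := charP_of_injective_algebraMap (algebraMap k A).injective p
  have hbot : Algebra.adjoin k (Set.range fun b : A => b ^ p) = ⊥ := by
    rw [eq_bot_iff]
    apply Algebra.adjoin_le
    rintro _ ⟨b, rfl⟩
    have hb' : Bialgebra.counitAlgHom k A (b - algebraMap k A (Bialgebra.counitAlgHom k A b)) = 0 := by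
      rw [map_sub, AlgHom.commutes]; simp
    have h2 := h1 _ hb'
    rw [sub_pow_char, ← map_pow, sub_eq_zero] at h2
    show b ^ p ∈ (⊥ : Subalgebra k A)
    rw [h2]
    exact Subalgebra.algebraMap_mem _ _
  rw [hbot, Subalgebra.finrank_bot, one_mul, Fintype.card_fin] at hfr
  suffices hn : Module.finrank k (RingHom.ker (Bialgebra.counitAlgHom k A)).Cotangent = n by
    rw [hfr, hn]
  have hxI : ∀ i, x i ∈ RingHom.ker (Bialgebra.counitAlgHom k A) :=
    fun i => (RingHom.mem_ker).mpr (hx0 i)
  have hDI2 : ∀ j, ∀ w ∈ (RingHom.ker (Bialgebra.counitAlgHom k A)) ^ 2,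
      Bialgebra.counitAlgHom k A (D j w) = 0 := by
    intro j w hw
    rw [pow_two] at hw
    refine Submodule.mul_induction_on hw (fun a ha b hb => ?_) (fun a b ha hb => ?_)
    · rw [Derivation.leibniz, map_add, smul_eq_mul, smul_eq_mul, map_mul, map_mul,
        (RingHom.mem_ker).mp ha, (RingHom.mem_ker).mp hb, zero_mul, zero_mul, add_zero]
    · rw [map_add, map_add, ha, hb, add_zero]
  have hcoe : ∀ c : Fin n → k, ((∑ i, c i • (⟨x i, hxI i⟩ :
      RingHom.ker (Bialgebra.counitAlgHom k A)) :
      RingHom.ker (Bialgebra.counitAlgHom k A)) : A) = ∑ i, c i • x i := by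
    intro c
    rw [Submodule.coe_sum]
    rfl
  have hli : LinearIndependent k (fun i : Fin n =>
      (RingHom.ker (Bialgebra.counitAlgHom k A)).toCotangent ⟨x i, hxI i⟩) := by
    rw [Fintype.linearIndependent_iff]
    intro c hc j
    have h2 : (RingHom.ker (Bialgebra.counitAlgHom k A)).toCotangent
        (∑ i, c i • (⟨x i, hxI i⟩ : RingHom.ker (Bialgebra.counitAlgHom k A))) = 0 := by
      rw [map_sum, ← hc]
      refine Finset.sum_congr rfl fun i _ => ?_
      rw [LinearMap.map_smul_of_tower]
    rw [Ideal.toCotangent_eq_zero, hcoe] at h2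
    have h4 := hDI2 j _ h2
    rw [map_sum, map_sum] at h4
    have h5 : ∀ i, Bialgebra.counitAlgHom k A (D j (c i • x i)) = c i * (if j = i then 1 else 0) := by
      intro i
      rw [Derivation.map_smul, map_smul, hD, smul_eq_mul]
    rw [Finset.sum_congr rfl fun i _ => h5 i] at h4
    simpa using h4
  have hsp : ⊤ ≤ Submodule.span k (Set.range fun i : Fin n =>
      (RingHom.ker (Bialgebra.counitAlgHom k A)).toCotangent ⟨x i, hxI i⟩) := by
    intro w _
    obtain ⟨⟨v, hv⟩, rfl⟩ := Ideal.toCotangent_surjective _ w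
    obtain ⟨c, hc⟩ := hspan v ((RingHom.mem_ker).mp hv)
    have h2 : (RingHom.ker (Bialgebra.counitAlgHom k A)).toCotangent ⟨v, hv⟩ =
        ∑ i, c i • (RingHom.ker (Bialgebra.counitAlgHom k A)).toCotangent ⟨x i, hxI i⟩ := by
      have h3 : (RingHom.ker (Bialgebra.counitAlgHom k A)).toCotangent
          (⟨v, hv⟩ - ∑ i, c i • (⟨x i, hxI i⟩ : RingHom.ker (Bialgebra.counitAlgHom k A))) = 0 := by
        rw [Ideal.toCotangent_eq_zero, Submodule.coe_sub, hcoe]
        exact hc
      rw [map_sub, sub_eq_zero, map_sum] at h3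
      rw [h3]
      refine Finset.sum_congr rfl fun i _ => ?_
      rw [LinearMap.map_smul_of_tower]
    rw [h2]
    exact Submodule.sum_mem _ fun i _ => Submodule.smul_mem _ _ (Submodule.subset_span ⟨i, rfl⟩)
  have := Module.finrank_eq_card_basis (Module.Basis.mk hli hsp)
  rw [this, Fintype.card_fin]

end Groth.Agent.S17328
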