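import Groth.Statements.S17332
import Mathlib.LinearAlgebra.StdBasis
-- import your own Groth.Agent.* helpers here

set_option autoImplicit false
universe u v w
open CAlg

namespace Groth.Agent.S17332

/-- Let k be a field, E and F finite sets, and O(E), O(F) the k-algebras of k-valued functions with
pointwise operations. Then every k-algebra homomorphism u : O(F) → O(E) is pull-back along a unique
map φ : E → F, i.e. u(g) = g ∘ φ for all g. (In the source k is algebraically closed; the printed
argument only uses that k is a field.) -/
theorem result (k : Type u) [Field k] (E : Type v) [Finite E]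
    (F : Type w) [Finite F] (u : (F → k) →ₐ[k] (E → k)) :
    ∃! φ : E → F, ∀ g : F → k, u g = g ∘ φ := by
  classical
  have h : ∀ e : E, ∃ s : F, (Pi.evalAlgHom k (fun _ : E => k) e).comp u = Pi.evalAlgHom k (fun _ : F => k) s :=
    fun e => AlgHom.eq_piEvalAlgHom _
  choose φ hφ using h
  refine ⟨φ, ?_, ?_⟩
  · intro g
    funext e
    have := congrArg (fun ψ : (F → k) →ₐ[k] k => ψ g) (hφ e)
    exact this
  · intro ψ hψ
    funext e
    by_contra hne
    have h1 := congrFun (hψ (Pi.single (ψ e) 1)) e
    have h2 : u (Pi.single (ψ e) 1) e = (Pi.single (ψ e) (1 : k) : F → k) (φ e) := by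
      have := congrArg (fun χ : (F → k) →ₐ[k] k => χ (Pi.single (ψ e) 1)) (hφ e)
      exact this
    rw [h2] at h1
    simp only [Function.comp_apply, Pi.single_eq_same] at h1
    rw [Pi.single_eq_of_ne (Ne.symm hne)] at h1
    exact zero_ne_one h1

end Groth.Agent.S17332
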