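import Groth.Statements.S17333
-- import your own Groth.Agent.* helpers here

set_option autoImplicit false
universe u v w
open CAlg

namespace Groth.Agent.S17333

/-- Let k be a field and A = B × C a decomposable commutative k-algebra. Then the natural map Der(B) ×
Der(C) → Der(A) is bijective: every k-derivation D : A → A is (b, c) ↦ (D₁ b, D₂ c) for a unique
pair of k-derivations D₁ : B → B, D₂ : C → C. Compatibility with brackets is not stated. (The
published statement takes k algebraically closed; this row takes any field.) -/
theorem result (k : Type u) [Field k] (B : Type v) [CommRing B] [Algebra k B]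
    (C : Type w) [CommRing C] [Algebra k C] (D : Derivation k (B × C) (B × C)) :
    ∃! P : Derivation k B B × Derivation k C C, ∀ (b : B) (c : C), D (b, c) = (P.1 b, P.2 c) := by
  -- D (1,0) = 0 since (1,0) is idempotent
  have hidem : ∀ e : B × C, e * e = e → D e = 0 := by
    intro e he
    have h1 : D e = e • D e + e • D e := by
      conv_lhs => rw [← he]
      rw [D.leibniz]
    -- multiply by e: e • D e = 2 e • D e so e • D e = 0
    have h2 : e • D e = e • D e + e • D e := by
      conv_lhs => rw [h1]
      rw [smul_add, smul_smul, he]
    have h3 : e • D e = 0 := by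
      have := h2
      rwa [left_eq_add] at this
    rw [h1, h3, add_zero]
  have h10 : D (1, 0) = 0 := hidem _ (by ext <;> simp)
  have h01 : D (0, 1) = 0 := hidem _ (by ext <;> simp)
  have hB : ∀ b : B, (D (b, 0)).2 = 0 := by
    intro b
    have : D (b, 0) = D ((1, 0) * (b, 0)) := by congr 1; ext <;> simp
    rw [this, D.leibniz, h10]
    simp
  have hC : ∀ c : C, (D (0, c)).1 = 0 := by
    intro c
    have : D (0, c) = D ((0, 1) * (0, c)) := by congr 1; ext <;> simp
    rw [this, D.leibniz, h01]
    simp
  let D₁ : Derivation k B B :=
    { toFun := fun b => (D (b, 0)).1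
      map_add' := fun x y => by
        have : ((x + y, 0) : B × C) = (x, 0) + (y, 0) := by ext <;> simp
        rw [this, map_add]; rfl
      map_smul' := fun r x => by
        have : ((r • x, 0) : B × C) = r • (x, 0) := by ext <;> simp
        rw [this, D.map_smul]; rfl
      map_one_eq_zero' := by
        change (D (1, 0)).1 = 0
        rw [h10]; rfl
      leibniz' := fun x y => by
        change (D (x * y, 0)).1 = x • (D (y, 0)).1 + y • (D (x, 0)).1
        have : ((x * y, 0) : B × C) = (x, 0) * (y, 0) := by ext <;> simp
        rw [this, D.leibniz]
        simp }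
  let D₂ : Derivation k C C :=
    { toFun := fun c => (D (0, c)).2
      map_add' := fun x y => by
        have : ((0, x + y) : B × C) = (0, x) + (0, y) := by ext <;> simp
        rw [this, map_add]; rfl
      map_smul' := fun r x => by
        have : ((0, r • x) : B × C) = r • (0, x) := by ext <;> simp
        rw [this, D.map_smul]; rfl
      map_one_eq_zero' := by
        change (D (0, 1)).2 = 0
        rw [h01]; rfl
      leibniz' := fun x y => by
        change (D (0, x * y)).2 = x • (D (0, y)).2 + y • (D (0, x)).2
        have : ((0, x * y) : B × C) = (0, x) * (0, y) := by ext <;> simp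
        rw [this, D.leibniz]
        simp }
  refine ⟨(D₁, D₂), ?_, ?_⟩
  · intro b c
    have : ((b, c) : B × C) = (b, 0) + (0, c) := by ext <;> simp
    rw [this, map_add]
    ext
    · change (D (b, 0)).1 + (D (0, c)).1 = (D (b, 0)).1
      rw [hC, add_zero]
    · change (D (b, 0)).2 + (D (0, c)).2 = (D (0, c)).2
      rw [hB, zero_add]
  · rintro ⟨P₁, P₂⟩ hP
    ext x
    · change P₁ x = (D (x, 0)).1
      rw [hP x 0]
    · change P₂ x = (D (0, x)).2
      rw [hP 0 x]

end Groth.Agent.S17333
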