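import Groth.Statements.S17334
import Mathlib.RingTheory.Artinian.Module
import Mathlib.RingTheory.Nilpotent.Basic
-- import your own Groth.Agent.* helpers here

set_option autoImplicit false
universe u v
open CAlg

namespace Groth.Agent.S17334

/-- Let k be a field and A a nonzero commutative k-algebra which is finite-dimensional as a k-vector
space. Then A is indecomposable (no decomposition as a product of two nonzero rings, i.e. no
idempotent other than 0 and 1) if and only if A is a local ring. (In the source k is algebraically
closed and the lemma adds that the maximal ideal is then the nilradical, is nilpotent, and has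
residue field k; the equivalence itself uses only that k is a field, and the zero algebra is
excluded here explicitly.) -/
theorem result (k : Type u) [Field k]
    (A : Type v) [CommRing A] [Algebra k A] [Module.Finite k A] [Nontrivial A] :
    (∀ e : A, IsIdempotentElem e → e = 0 ∨ e = 1) ↔ IsLocalRing A := by
  constructor
  · intro h
    haveI : IsArtinianRing A := IsArtinianRing.of_finite k A
    apply IsLocalRing.of_isUnit_or_isUnit_one_sub_self
    intro a
    obtain ⟨n, y, hy⟩ := IsArtinian.exists_pow_succ_smul_dvd a (1 : A)
    have hy' : a ^ n = a ^ (n + 1) * y := by
      simpa [smul_eq_mul] using hy.symm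
    -- a ^ n = a ^ (n + j) * y ^ j
    have hstep : ∀ j : ℕ, a ^ n = a ^ (n + j) * y ^ j := by
      intro j
      induction j with
      | zero => simp
      | succ j ih =>
        calc a ^ n = a ^ (n + j) * y ^ j := ih
          _ = a ^ j * a ^ n * y ^ j := by rw [pow_add]; ring
          _ = a ^ j * (a ^ (n + 1) * y) * y ^ j := by rw [← hy']
          _ = a ^ (n + (j + 1)) * y ^ (j + 1) := by ring
    have hnn := hstep n
    set e := a ^ n * y ^ n with he
    have hidem : IsIdempotentElem e := by
      change e * e = e
      calc e * e = (a ^ (n + n) * y ^ n) * y ^ n := by rw [he, pow_add]; ring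
        _ = a ^ n * y ^ n := by rw [← hnn]
    rcases h e hidem with h0 | h1
    · right
      have hnil : a ^ n = 0 := by
        calc a ^ n = a ^ (n + n) * y ^ n := hnn
          _ = a ^ n * e := by rw [he, pow_add]; ring
          _ = 0 := by rw [h0, mul_zero]
      exact IsNilpotent.isUnit_one_sub ⟨n, hnil⟩
    · left
      rcases Nat.eq_zero_or_pos n with hn | hn
      · subst hn
        have : a * y = 1 := by simpa using hy'.symm
        exact IsUnit.of_mul_eq_one _ this
      · have : a * (a ^ (n - 1) * y ^ n) = 1 := by
          rw [← mul_assoc, ← pow_succ', Nat.sub_add_cancel hn, ← he, h1]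
        exact IsUnit.of_mul_eq_one _ this
  · intro h e he
    have hmul : e * (1 - e) = 0 := by
      rw [mul_sub, mul_one, he.eq, sub_self]
    rcases IsLocalRing.isUnit_or_isUnit_one_sub_self e with hu | hu
    · right
      have := hu.mul_right_eq_zero.mp hmul
      exact (sub_eq_zero.mp this).symm
    · left
      rw [mul_comm] at hmul
      exact hu.mul_right_eq_zero.mp hmul

end Groth.Agent.S17334
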