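import Groth.Statements.S17352
import Groth.Agent.H96.RamPres
import Groth.Agent.H96.LocIsoFamily
import Groth.Agent.H96.OddExist
import Groth.Agent.H96.UnramLocal
import Groth.Agent.H96.MixExist
import Groth.Agent.H96.MixTypeMain
import Groth.Agent.H96.IsoOps
import Groth.Agent.H96.QuadGalois
import Groth.Agent.S17356

set_option autoImplicit false
universe u v w w'
open scoped TensorProduct
open AzInv

namespace Groth.Agent.S17352

open Groth.Agent.H96 Groth.Agent.H96.RamPres

/-- (b) ⇒ (a): let `R` be a commutative ring with an involution `lam` whose fixed ring is exactly `S`;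
assume that units have square roots locally for the etale topology of `S` (every unit of an etale
`S`-algebra becomes a square in some etale faithfully flat extension), and that `2` is a unit in
`S`, or `R` is a quadratic etale `S`-algebra, or `n` is odd. Let `A` and `A'` be Azumaya
`R`-algebras of the same degree `n ≥ 1` with `lam`-involutions `t` and `t'`. If `t` and `t'` have
the same type, i.e. for some positive sizes the matrix algebras over `A` and `A'` with the
involutions induced by `t` and `t'` (apply the involution entrywise, then transpose) become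
isomorphic as `R`-algebras with involution after an etale faithfully flat base change of `S`, then
`(A, t)` and `(A', t')` themselves become isomorphic as `R`-algebras with involution after an etale
faithfully flat base change of `S`. (The source states this for an exact quotient of a locally
ringed topos with involution; the row is the affine case `Spec R → Spec S`, with etale coverings of
`Spec S` replaced by a single etale faithfully flat `S`-algebra.) -/
theorem result (S : Type u) (R : Type v) [CommRing S] [CommRing R] [Algebra S R]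
    (lam : R ≃ₐ[S] R) (hlam : ∀ r, lam (lam r) = r) (hfix : RInv.IsFixedRing S R lam.toRingEquiv)
    (hsq : ∀ (S₁ : Type u) [CommRing S₁] [Algebra S S₁] [Algebra.Etale S S₁] (x : S₁ˣ),
      ∃ (S₂ : Type u) (_ : CommRing S₂) (_ : Algebra S₁ S₂) (_ : Algebra.Etale S₁ S₂)
        (_ : Module.FaithfullyFlat S₁ S₂) (y : S₂), y * y = algebraMap S₁ S₂ ↑x)
    (n : ℕ) (hn : 0 < n) (hcond : IsUnit (2 : S) ∨ RInv.IsQuadEtale S R ∨ Odd n)
    (A : Type w) [Ring A] [Algebra S A] [Algebra R A] [IsScalarTower S R A]
    (A' : Type w') [Ring A'] [Algebra S A'] [Algebra R A'] [IsScalarTower S R A']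
    (hA : AzInv.IsAzumayaDeg R A n) (hA' : AzInv.IsAzumayaDeg R A' n)
    (t : AzInv.LamInv R A lam) (t' : AzInv.LamInv R A' lam) (h : AzInv.SameType S lam t t') :
    AzInv.LocIsoEt S lam t t' := by
  classical
  obtain ⟨hAz, hrk⟩ := hA
  obtain ⟨hAz', hrk'⟩ := hA'
  haveI := hAz
  haveI := hAz'
  obtain ⟨m, m', hm, hm', S₀, _, _, het₀, hff₀, f₀, hf₀1, hf₀2⟩ := h
  haveI := het₀
  haveI := hff₀
  have hw1 : AzInv.LamInv.transpose lam (Fin n) hlam
      (↑(1 : (Matrix (Fin n) (Fin n) R)ˣ) : Matrix (Fin n) (Fin n) R) =
        (1 : R) • (↑(1 : (Matrix (Fin n) (Fin n) R)ˣ) : Matrix (Fin n) (Fin n) R) := by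
    rw [one_smul, Units.val_one]
    exact (AzInv.LamInv.transpose lam (Fin n) hlam).map_one
  have he1 : lam 1 * 1 = 1 := by rw [map_one, mul_one]
  obtain ⟨τC, hτC⟩ : ∃ τC : AzInv.LamInv R (Matrix (Fin n) (Fin n) R) lam,
      τC = (AzInv.LamInv.transpose lam (Fin n) hlam).conj 1 1 hw1 he1 := ⟨_, rfl⟩
  apply LocIsoFamily.locIsoEt_of_family
  intro p
  haveI := Groth.Agent.S17356.isIntegral S R lam hlam hfix
  obtain ⟨q, -, hq, hqp⟩ := Ideal.exists_ideal_over_prime_of_isIntegral p.asIdeal
    (⊥ : Ideal R) (by
      intro x hx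
      have h0 : algebraMap S R x = 0 := hx
      have : x = 0 := hfix.1 (by rw [h0, map_zero])
      rw [this]
      exact p.asIdeal.zero_mem)
  haveI := hq
  by_cases hram : ∀ r, lam r - r ∈ q
  · -- ramified prime
    have hramall : ∀ (r : R) (q₂ : Ideal R), q₂.IsPrime →
        q₂.comap (algebraMap S R) = p.asIdeal → r - lam r ∈ q₂ := by
      intro r q₂ hq₂ hq₂p
      obtain ⟨m, hm⟩ := (hfix.2 ((r - lam r) * (r - lam r))).mp (by
        show lam ((r - lam r) * (r - lam r)) = (r - lam r) * (r - lam r)
        rw [map_mul, map_sub, hlam]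
        ring)
      have h1 : r - lam r ∈ q := by
        have := q.neg_mem (hram r)
        rwa [neg_sub] at this
      have hmp : m ∈ p.asIdeal := by
        rw [← hqp]
        show algebraMap S R m ∈ q
        rw [hm]
        exact Ideal.mul_mem_left _ _ h1
      have h2 : algebraMap S R m ∈ q₂ := by
        have : m ∈ q₂.comap (algebraMap S R) := by rw [hq₂p]; exact hmp
        exact this
      rw [hm] at h2
      rcases hq₂.mem_or_mem h2 with h | h <;> exact h
    rcases hcond with h2 | hqe | hodd
    · -- `2` invertible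
      obtain ⟨S₁, _, _, het₁, hmem₁, H₁⟩ :=
        MixExist.exists_pres_mixed S R lam hlam hfix hsq h2 A n hn hrk t p hramall
      obtain ⟨S₂, _, _, het₂, hmem₂, H₂⟩ :=
        MixExist.exists_pres_mixed S R lam hlam hfix hsq h2 A' n hn hrk' t' p hramall
      haveI := het₁
      haveI := het₂
      have hp₀ : p ∈ Set.range (PrimeSpectrum.comap (algebraMap S S₀)) :=
        PrimeSpectrum.comap_surjective_of_faithfullyFlat (A := S) (B := S₀) p
      rcases H₁ with H₁ | ⟨k, hk, H₁⟩ <;> rcases H₂ with H₂ | ⟨k', hk', H₂⟩
      · -- both orthogonal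
        exact IsoOps.combine lam p
          ⟨S₁, inferInstance, inferInstance, het₁, hmem₁,
            RamPres.component lam hlam t 1 1 hw1 he1 S₁ (by rw [Units.val_one]; exact H₁)⟩
          ⟨S₂, inferInstance, inferInstance, het₂, hmem₂,
            RamPres.component lam hlam t' 1 1 hw1 he1 S₂ (by rw [Units.val_one]; exact H₂)⟩
      · exfalso
        exact MixTypeMain.type_unique S R lam hlam hfix h2 n hn t t' p hramall S₁ hmem₁ H₁ S₂ hmem₂
          k' hk' H₂ m m' hm hm' S₀ hp₀ ⟨f₀, hf₀1, hf₀2⟩
      · exfalso
        exact MixTypeMain.type_unique S R lam hlam hfix h2 n hn t' t p hramall S₂ hmem₂ H₂ S₁ hmem₁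
          k hk H₁ m' m hm' hm S₀ hp₀ (IsoOps.Iso.symm lam ⟨f₀, hf₀1, hf₀2⟩)
      · -- both symplectic
        have hkk : k = k' := by omega
        subst hkk
        let wJ : (Matrix (Fin n) (Fin n) R)ˣ :=
          ⟨MixExist.Jn R k hk, -(MixExist.Jn R k hk), MixTypeMain.Jn_mul_neg R k hk,
            MixTypeMain.Jn_neg_mul R k hk⟩
        have hwJ : AzInv.LamInv.transpose lam (Fin n) hlam (↑wJ : Matrix (Fin n) (Fin n) R) =
            (-1 : R) • (↑wJ : Matrix (Fin n) (Fin n) R) := by
          ext i j
          show lam (MixExist.Jn R k hk j i) = ((-1 : R) • MixExist.Jn R k hk) i j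
          have h1 : lam (MixExist.Jn R k hk j i) = MixExist.Jn R k hk j i :=
            congrFun (congrFun (MixExist.Jn_map lam.toRingEquiv.toRingHom k hk) j) i
          have h3 : MixExist.Jn R k hk j i = -MixExist.Jn R k hk i j :=
            congrFun (congrFun (MixTypeMain.Jn_transpose R k hk) i) j
          rw [h1, h3, Matrix.smul_apply, smul_eq_mul, neg_one_mul]
        have heJ : lam (-1) * (-1) = 1 := by rw [map_neg, map_one]; ring
        exact IsoOps.combine lam p
          ⟨S₁, inferInstance, inferInstance, het₁, hmem₁,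
            RamPres.component lam hlam t wJ (-1) hwJ heJ S₁ H₁⟩
          ⟨S₂, inferInstance, inferInstance, het₂, hmem₂,
            RamPres.component lam hlam t' wJ (-1) hwJ heJ S₂ H₂⟩
    · -- quadratic etale: no ramified primes
      exfalso
      have htop := QuadGalois.span_top lam hlam hfix hqe
      have hle : Ideal.span (Set.range fun r : R => r - lam r) ≤ q := by
        rw [Ideal.span_le]
        rintro x ⟨r, rfl⟩
        have := q.neg_mem (hram r)
        rwa [neg_sub] at this
      rw [htop] at hle
      exact hq.ne_top (top_le_iff.mp hle)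
    · -- odd degree
      obtain ⟨S₁, _, _, het₁, hmem₁, H₁⟩ :=
        OddExist.exists_pres_odd S R lam hlam hfix hsq A n hodd hrk t p hramall
      obtain ⟨S₂, _, _, het₂, hmem₂, H₂⟩ :=
        OddExist.exists_pres_odd S R lam hlam hfix hsq A' n hodd hrk' t' p hramall
      exact IsoOps.combine lam p
        ⟨S₁, inferInstance, inferInstance, het₁, hmem₁,
          RamPres.component lam hlam t 1 1 hw1 he1 S₁ (by rw [Units.val_one]; exact H₁)⟩
        ⟨S₂, inferInstance, inferInstance, het₂, hmem₂,
          RamPres.component lam hlam t' 1 1 hw1 he1 S₂ (by rw [Units.val_one]; exact H₂)⟩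
  · -- unramified prime
    push Not at hram
    obtain ⟨r₀, hr₀⟩ := hram
    obtain ⟨m₀, hm₀⟩ := (hfix.2 ((r₀ - lam r₀) * (r₀ - lam r₀))).mp (by
      show lam ((r₀ - lam r₀) * (r₀ - lam r₀)) = (r₀ - lam r₀) * (r₀ - lam r₀)
      rw [map_mul, map_sub, hlam]
      ring)
    have hmp : m₀ ∉ p.asIdeal := by
      intro hmp
      have h1 : algebraMap S R m₀ ∈ q := by
        have : m₀ ∈ q.comap (algebraMap S R) := by rw [hqp]; exact hmp
        exact this
      rw [hm₀] at h1
      have h2 : r₀ - lam r₀ ∈ q := by
        rcases hq.mem_or_mem h1 with h | h <;> exact h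
      apply hr₀
      have : lam r₀ - r₀ = -(r₀ - lam r₀) := by ring
      rw [this]
      exact q.neg_mem h2
    exact IsoOps.combine lam p
      (UnramLocal.exists_iso_unram S R lam hlam hfix A n hn hrk t τC p r₀ m₀ hm₀ hmp)
      (UnramLocal.exists_iso_unram S R lam hlam hfix A' n hn hrk' t' τC p r₀ m₀ hm₀ hmp)

end Groth.Agent.S17352
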