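import Groth.Statements.S17353
import Groth.Agent.H96.RamPres
import Groth.Agent.H96.LocIsoFamily
import Groth.Agent.H96.OddExist
import Groth.Agent.H96.UnramLocal
import Groth.Agent.S17356

set_option autoImplicit false
universe u v w
open scoped TensorProduct
open AzInv

namespace Groth.Agent.S17353

open Groth.Agent.H96 Groth.Agent.H96.RamPres

section Helpers

variable (S : Type u) {R : Type v} [CommRing S] [CommRing R] [Algebra S R]
  (lam : R ≃ₐ[S] R)

/-- `M_1(A) ≃ A`. -/
def mat1 (R : Type*) (A : Type*) [CommRing R] [Ring A] [Algebra R A] :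
    Matrix (Fin 1) (Fin 1) A ≃ₐ[R] A where
  toFun M := M 0 0
  invFun a := Matrix.of fun _ _ => a
  left_inv M := by
    ext i j
    rw [Subsingleton.elim i 0, Subsingleton.elim j 0]
    rfl
  right_inv a := rfl
  map_mul' M N := by simp [Matrix.mul_apply]
  map_add' M N := rfl
  commutes' r := by simp [Matrix.algebraMap_matrix_apply]

/-- Precomposing a local isomorphism with a global isomorphism of algebras with involution. -/
theorem locIsoEt_of_algEquiv_left {A₀ : Type*} [Ring A₀] [Algebra S A₀] [Algebra R A₀]
    [IsScalarTower S R A₀] {A : Type*} [Ring A] [Algebra S A] [Algebra R A] [IsScalarTower S R A]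
    {A' : Type*} [Ring A'] [Algebra S A'] [Algebra R A'] [IsScalarTower S R A']
    (t₀ : AzInv.LamInv R A₀ lam) (t : AzInv.LamInv R A lam) (t' : AzInv.LamInv R A' lam)
    (g : A₀ ≃ₐ[R] A) (hg : ∀ a, g (t₀ a) = t (g a)) (h : AzInv.LocIsoEt S lam t t') :
    AzInv.LocIsoEt S lam t₀ t' := by
  obtain ⟨S', _, _, het, hff, f, hf1, hf2⟩ := h
  let c : S' ⊗[S] A₀ ≃ₐ[S'] S' ⊗[S] A :=
    Algebra.TensorProduct.congr (AlgEquiv.refl : S' ≃ₐ[S'] S') (g.restrictScalars S)
  have hc : ∀ (y : S') (a : A₀), c (y ⊗ₜ[S] a) = y ⊗ₜ[S] g a := fun y a => by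
    simp [c]
  refine ⟨S', inferInstance, inferInstance, het, hff, c.trans f, ?_, ?_⟩
  · intro r x
    show f (c (_ * x)) = _ * f (c x)
    rw [map_mul, hc, AlgEquiv.commutes, hf1]
  · intro x
    show f (c (t₀.bc S lam S' x)) = t'.bc S lam S' (f (c x))
    rw [← hf2]
    congr 1
    induction x using TensorProduct.induction_on with
    | zero => simp
    | tmul y a => rw [AzInv.LamInv.bc_tmul, hc, hc, AzInv.LamInv.bc_tmul, hg]
    | add x₁ x₂ h₁ h₂ => rw [map_add, map_add, h₁, h₂, map_add, map_add]

end Helpers

/-- Let `R` be a commutative ring with an involution `lam` whose fixed ring is exactly `S`, and assume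
that units have square roots locally for the etale topology of `S` (every unit of an etale
`S`-algebra becomes a square in some etale faithfully flat extension). Let `A` be an Azumaya
`R`-algebra of odd degree `n` with a `lam`-involution `t`. Then `t` has the same type as the
involution `lam` of `R` itself (the neutral type): for some positive sizes `m`, `m'` the matrix
algebras of size `m` over `A` and of size `m'` over `R`, with the involutions induced by `t` and by
`lam`, become isomorphic as `R`-algebras with involution after an etale faithfully flat base change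
of `S`. (The source states this for an exact quotient of a locally ringed topos with involution; the
row is the affine case `Spec R → Spec S`, with etale coverings of `Spec S` replaced by a single
etale faithfully flat `S`-algebra.) -/
theorem result (S : Type u) (R : Type v) [CommRing S] [CommRing R] [Algebra S R]
    (lam : R ≃ₐ[S] R) (hlam : ∀ r, lam (lam r) = r) (hfix : RInv.IsFixedRing S R lam.toRingEquiv)
    (hsq : ∀ (S₁ : Type u) [CommRing S₁] [Algebra S S₁] [Algebra.Etale S S₁] (x : S₁ˣ),
      ∃ (S₂ : Type u) (_ : CommRing S₂) (_ : Algebra S₁ S₂) (_ : Algebra.Etale S₁ S₂)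
        (_ : Module.FaithfullyFlat S₁ S₂) (y : S₂), y * y = algebraMap S₁ S₂ ↑x)
    (A : Type w) [Ring A] [Algebra S A] [Algebra R A] [IsScalarTower S R A]
    (n : ℕ) (hn : Odd n) (hA : AzInv.IsAzumayaDeg R A n) (t : AzInv.LamInv R A lam) :
    AzInv.SameType S lam t (AzInv.LamInv.self lam hlam) := by
  classical
  obtain ⟨hAz, hrk⟩ := hA
  haveI := hAz
  have hn0 : 0 < n := hn.pos
  have hw1 : AzInv.LamInv.transpose lam (Fin n) hlam
      (↑(1 : (Matrix (Fin n) (Fin n) R)ˣ) : Matrix (Fin n) (Fin n) R) =
        (1 : R) • (↑(1 : (Matrix (Fin n) (Fin n) R)ˣ) : Matrix (Fin n) (Fin n) R) := by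
    rw [one_smul, Units.val_one]
    exact (AzInv.LamInv.transpose lam (Fin n) hlam).map_one
  have he1 : lam 1 * 1 = 1 := by rw [map_one, mul_one]
  obtain ⟨τC, hτC⟩ : ∃ τC : AzInv.LamInv R (Matrix (Fin n) (Fin n) R) lam,
      τC = (AzInv.LamInv.transpose lam (Fin n) hlam).conj 1 1 hw1 he1 := ⟨_, rfl⟩
  have hloc : AzInv.LocIsoEt S lam t τC := by
    apply LocIsoFamily.locIsoEt_of_family
    intro p
    haveI := Groth.Agent.S17356.isIntegral S R lam hlam hfix
    obtain ⟨q, -, hq, hqp⟩ := Ideal.exists_ideal_over_prime_of_isIntegral p.asIdeal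
      (⊥ : Ideal R) (by
        intro x hx
        have h0 : algebraMap S R x = 0 := hx
        have : x = 0 := hfix.1 (by rw [h0, map_zero])
        rw [this]
        exact p.asIdeal.zero_mem)
    haveI := hq
    by_cases hram : ∀ r, lam r - r ∈ q
    · -- ramified prime
      have hramall : ∀ (r : R) (q₂ : Ideal R), q₂.IsPrime →
          q₂.comap (algebraMap S R) = p.asIdeal → r - lam r ∈ q₂ := by
        intro r q₂ hq₂ hq₂p
        obtain ⟨m, hm⟩ := (hfix.2 ((r - lam r) * (r - lam r))).mp (by
          show lam ((r - lam r) * (r - lam r)) = (r - lam r) * (r - lam r)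
          rw [map_mul, map_sub, hlam]
          ring)
        have h1 : r - lam r ∈ q := by
          have := q.neg_mem (hram r)
          rwa [neg_sub] at this
        have hmp : m ∈ p.asIdeal := by
          rw [← hqp]
          show algebraMap S R m ∈ q
          rw [hm]
          exact Ideal.mul_mem_left _ _ h1
        have h2 : algebraMap S R m ∈ q₂ := by
          have : m ∈ q₂.comap (algebraMap S R) := by rw [hq₂p]; exact hmp
          exact this
        rw [hm] at h2
        rcases hq₂.mem_or_mem h2 with h | h <;> exact h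
      obtain ⟨S'', _, _, het, hmem, H⟩ :=
        OddExist.exists_pres_odd S R lam hlam hfix hsq A n hn hrk t p hramall
      refine ⟨S'', inferInstance, inferInstance, het, hmem, ?_⟩
      rw [hτC]
      exact RamPres.component lam hlam t 1 1 hw1 he1 S'' (by rw [Units.val_one]; exact H)
    · -- unramified prime
      push Not at hram
      obtain ⟨r₀, hr₀⟩ := hram
      obtain ⟨m, hm⟩ := (hfix.2 ((r₀ - lam r₀) * (r₀ - lam r₀))).mp (by
        show lam ((r₀ - lam r₀) * (r₀ - lam r₀)) = (r₀ - lam r₀) * (r₀ - lam r₀)
        rw [map_mul, map_sub, hlam]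
        ring)
      have hmp : m ∉ p.asIdeal := by
        intro hmp
        have h1 : algebraMap S R m ∈ q := by
          have : m ∈ q.comap (algebraMap S R) := by rw [hqp]; exact hmp
          exact this
        rw [hm] at h1
        have h2 : r₀ - lam r₀ ∈ q := by
          rcases hq.mem_or_mem h1 with h | h <;> exact h
        apply hr₀
        have : lam r₀ - r₀ = -(r₀ - lam r₀) := by ring
        rw [this]
        exact q.neg_mem h2
      exact UnramLocal.exists_iso_unram S R lam hlam hfix A n hn0 hrk t τC p r₀ m hm hmp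
  -- conversion to the statement
  have hτeq : (AzInv.LamInv.self lam hlam).matrix (Fin n) = τC := by
    rw [hτC]
    apply AzInv.LamInv.ext
    intro M
    show _ = (↑(1 : (Matrix (Fin n) (Fin n) R)ˣ) : Matrix (Fin n) (Fin n) R) *
      AzInv.LamInv.transpose lam (Fin n) hlam M *
      (↑(1 : (Matrix (Fin n) (Fin n) R)ˣ)⁻¹ : Matrix (Fin n) (Fin n) R)
    rw [inv_one, Units.val_one, Matrix.one_mul, Matrix.mul_one]
    ext i j
    rfl
  refine ⟨1, n, one_pos, hn0, ?_⟩
  rw [hτeq]
  exact locIsoEt_of_algEquiv_left S lam (t.matrix (Fin 1)) t τC (mat1 R A) (fun M => rfl) hloc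

end Groth.Agent.S17353
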