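import Groth.Statements.S17354
import Groth.Agent.H96.QuadGalois
import Groth.Agent.H96.Hyperbolic
import Groth.Agent.H96.AzSplitEt
import Groth.Agent.H96.LocIsoEtShrink

set_option autoImplicit false
universe u v w
open scoped TensorProduct
open AzInv

namespace Groth.Agent.S17354

open Groth.Agent.H96

/-- `M_1(A) ≃ A`. -/
def mat1 (R : Type*) (A : Type*) [CommRing R] [Ring A] [Algebra R A] :
    Matrix (Fin 1) (Fin 1) A ≃ₐ[R] A where
  toFun M := M 0 0
  invFun a := Matrix.of fun _ _ => a
  left_inv M := by
    ext i j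
    rw [Subsingleton.elim i 0, Subsingleton.elim j 0]
    rfl
  right_inv a := rfl
  map_mul' M N := by simp [Matrix.mul_apply]
  map_add' M N := rfl
  commutes' r := by simp [Matrix.algebraMap_matrix_apply]

/-- `T ⊗[R] M_n(R) ≃ M_n(T)` as `T`-algebras. -/
noncomputable def matEquiv (R : Type*) (T : Type*) [CommRing R] [CommRing T] [Algebra R T] (n : ℕ) :
    T ⊗[R] Matrix (Fin n) (Fin n) R ≃ₐ[T] Matrix (Fin n) (Fin n) T :=
  AlgEquiv.ofRingEquiv (f := (matrixEquivTensor (Fin n) R T).symm.toRingEquiv) (by
    intro x
    show (matrixEquivTensor (Fin n) R T).symm (x ⊗ₜ[R] 1) = _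
    rw [matrixEquivTensor_apply_symm]
    ext i j
    simp [Matrix.algebraMap_matrix_apply, Matrix.one_apply, Matrix.smul_apply]
    )

/-- Let `R` be a quadratic etale `S`-algebra with an involution `lam` whose fixed ring is exactly `S`
(the unramified case), and assume that units have square roots locally for the etale topology of `S`
(every unit of an etale `S`-algebra becomes a square in some etale faithfully flat extension). Then
every `lam`-involution `t` of an Azumaya `R`-algebra `A` of degree `n ≥ 1` has the same type as the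
involution `lam` of `R` itself: for some positive sizes `m`, `m'` the matrix algebras of size `m`
over `A` and of size `m'` over `R`, with the involutions induced by `t` and by `lam`, become
isomorphic as `R`-algebras with involution after an etale faithfully flat base change of `S`; in
other words there is a single type. (The source states this for an exact quotient of a locally
ringed topos with involution; the row is the affine case `Spec R → Spec S`, with etale coverings of
`Spec S` replaced by a single etale faithfully flat `S`-algebra.) -/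
theorem result (S : Type u) (R : Type v) [CommRing S] [CommRing R] [Algebra S R]
    (lam : R ≃ₐ[S] R) (hlam : ∀ r, lam (lam r) = r) (hfix : RInv.IsFixedRing S R lam.toRingEquiv)
    (hq : RInv.IsQuadEtale S R)
    (hsq : ∀ (S₁ : Type u) [CommRing S₁] [Algebra S S₁] [Algebra.Etale S S₁] (x : S₁ˣ),
      ∃ (S₂ : Type u) (_ : CommRing S₂) (_ : Algebra S₁ S₂) (_ : Algebra.Etale S₁ S₂)
        (_ : Module.FaithfullyFlat S₁ S₂) (y : S₂), y * y = algebraMap S₁ S₂ ↑x)
    (A : Type w) [Ring A] [Algebra S A] [Algebra R A] [IsScalarTower S R A]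
    (n : ℕ) (hn : 0 < n) (hA : AzInv.IsAzumayaDeg R A n) (t : AzInv.LamInv R A lam) :
    AzInv.SameType S lam t (AzInv.LamInv.self lam hlam) := by
  have htop := QuadGalois.span_top lam hlam hfix hq
  haveI : Algebra.Etale S R := QuadGalois.etale lam hq htop
  haveI : Module.FaithfullyFlat S R := QuadGalois.faithfullyFlat hq
  obtain ⟨hAz, hrk⟩ := hA
  haveI := hAz
  obtain ⟨T, _, _, het, hff, ⟨φ⟩⟩ := AzSplitEt.exists_splitting' R A n hrk
  letI : Algebra S T := ((algebraMap R T).comp (algebraMap S R)).toAlgebra
  haveI : IsScalarTower S R T := IsScalarTower.of_algebraMap_eq (fun _ => rfl)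
  haveI : Algebra.Etale S T := Algebra.Etale.comp S R T
  haveI : Module.FaithfullyFlat S T := Module.FaithfullyFlat.trans S R T
  let J : R ⊗[S] R →ₐ[R] T ⊗[S] R :=
    Algebra.TensorProduct.map (Algebra.ofId R T) (AlgHom.id S R)
  have hJ : ∀ a b : R, J (a ⊗ₜ[S] b) = algebraMap R T a ⊗ₜ[S] b := fun a b => by
    simp [J, Algebra.ofId_apply]
  let e : T ⊗[S] R := J (QuadGalois.e0 lam hq htop)
  have he_mul : ∀ r : R, e * ((1 : T) ⊗ₜ[S] r) = e * (algebraMap R T r ⊗ₜ[S] (1 : R)) := by
    intro r
    have := congrArg J (QuadGalois.e0_mul lam hq htop r)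
    rw [map_mul, map_mul, hJ, hJ, map_one] at this
    exact this
  have he_idem : e * e = e := by
    have := congrArg J (QuadGalois.e0_idem lam hq htop)
    rwa [map_mul] at this
  have hmuJ : ∀ z : R ⊗[S] R, Hyperbolic.mu R T (J z) = algebraMap R T (QuadGalois.Phi lam z).1 := by
    intro z
    induction z using TensorProduct.induction_on with
    | zero => simp
    | tmul a b => rw [hJ, Hyperbolic.mu_tmul, QuadGalois.Phi_tmul, map_mul]
    | add x y hx hy => rw [map_add, map_add, hx, hy, map_add, Prod.fst_add, map_add]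
  have he_mu : Hyperbolic.mu R T e = 1 := by
    rw [hmuJ, QuadGalois.Phi_e0, map_one]
  have hLTJ : ∀ z : R ⊗[S] R, Hyperbolic.LT T lam (J z) = J (QuadGalois.idLam lam z) := by
    intro z
    induction z using TensorProduct.induction_on with
    | zero => simp
    | tmul a b => rw [hJ, Hyperbolic.LT_tmul, QuadGalois.idLam_tmul, hJ]
    | add x y hx hy => rw [map_add, map_add, hx, hy, map_add, map_add]
  have he_lam : Hyperbolic.LT T lam e = 1 - e := by
    rw [hLTJ, QuadGalois.idLam_e0 lam hlam hq htop, map_sub, map_one]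
  let ψ : T ⊗[R] Matrix (Fin 1) (Fin 1) A ≃ₐ[T] T ⊗[R] Matrix (Fin n) (Fin n) R :=
    (Algebra.TensorProduct.congr (AlgEquiv.refl : T ≃ₐ[T] T)
      (mat1 R A)).trans
      (φ.trans (matEquiv R T n).symm)
  obtain ⟨f, hf1, hf2⟩ := Hyperbolic.exists_iso T lam hlam e he_mul he_idem he_mu he_lam ψ
    (t.matrix (Fin 1)) ((AzInv.LamInv.self lam hlam).matrix (Fin n))
  exact ⟨1, n, one_pos, hn, LocIsoEtShrink.locIsoEt_of_cover lam _ _ T f hf1 hf2⟩

end Groth.Agent.S17354
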