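import Groth.Statements.S17358
import Groth.Agent.H96.QuadGalois
import Groth.Agent.H96.Hyperbolic
import Groth.Agent.H96.AzSplitEt
import Groth.Agent.H96.LocIsoEtShrink
import Groth.Agent.H96.InvSplit
import Groth.Agent.H96.RamPres
import Groth.Agent.H96.RamUnique
import Groth.Agent.H96.RamExist
import Groth.Agent.H96.LocIsoFamily
import Groth.Agent.H77.RInv3

set_option autoImplicit false
universe u v w
open scoped TensorProduct
open AzInv

namespace Groth.Agent.S17358

open Groth.Agent.H96 Groth.Agent.H96.RamPres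

section Helpers

variable (S : Type u) (R : Type v) [CommRing S] [CommRing R] [Algebra S R]
  (lam : R ≃ₐ[S] R) (hlam : ∀ r, lam (lam r) = r) (hfix : RInv.IsFixedRing S R lam.toRingEquiv)

include hlam hfix in
/-- In the everywhere ramified case `r - lam r` is nilpotent. -/
theorem nil_of_ram
    (hram : ∀ p : PrimeSpectrum S,
      ¬ RInv.IsQuadEtale (Localization.AtPrime p.asIdeal) (Localization.AtPrime p.asIdeal ⊗[S] R))
    (r : R) : IsNilpotent (r - lam r) := by
  rw [nilpotent_iff_mem_prime]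
  intro q hq
  by_contra hcon
  obtain ⟨d, hd⟩ : ∃ d, d = r - lam r := ⟨_, rfl⟩
  rw [← hd] at hcon
  have hld : lam d = -d := by rw [hd, map_sub, hlam]; ring
  obtain ⟨m, hm⟩ := (hfix.2 (d * lam d)).mp (by
    show lam (d * lam d) = d * lam d
    rw [map_mul, hlam, mul_comm])
  let p : PrimeSpectrum S := ⟨q.comap (algebraMap S R), inferInstance⟩
  have hmp : m ∉ p.asIdeal := by
    intro h
    have h1 : algebraMap S R m ∈ q := h
    rw [hm, hld] at h1
    rcases hq.mem_or_mem h1 with h3 | h3
    · exact hcon h3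
    · exact hcon (by simpa using q.neg_mem h3)
  apply hram p
  exact Groth.Agent.H77.isQuadEtale_of_exists lam.toRingEquiv (Localization.AtPrime p.asIdeal)
    (fun x => hlam x) hfix r (lam d) m
    ((IsLocalization.AtPrime.isUnit_to_map_iff _ p.asIdeal m).mpr hmp) (by
      show (r - lam r) * lam d = algebraMap S R m
      rw [hm, hd])

/-- A skew-symmetric invertible matrix of even size with integer entries. -/
theorem exists_J (n : ℕ) (hev : Even n) :
    ∃ J : Matrix (Fin n) (Fin n) S, IsUnit J ∧ J.transpose = -J := by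
  obtain ⟨m, rfl⟩ := hev
  let e : Fin m ⊕ Fin m ≃ Fin (m + m) := finSumFinEquiv
  refine ⟨(Matrix.J (Fin m) S).submatrix e.symm e.symm, ?_, ?_⟩
  · rw [Matrix.isUnit_submatrix_equiv, Matrix.isUnit_iff_isUnit_det]
    exact Matrix.isUnit_det_J (Fin m) S
  · rw [Matrix.transpose_submatrix, Matrix.J_transpose]
    rfl

end Helpers

section Assembly

variable (S : Type u) (R : Type v) [CommRing S] [CommRing R] [Algebra S R]
  (lam : R ≃ₐ[S] R) (hlam : ∀ r, lam (lam r) = r)
  (A : Type w) [Ring A] [Algebra S A] [Algebra R A] [IsScalarTower S R A]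
  (n : ℕ) (t : AzInv.LamInv R A lam)

/-- The final assembly: local presentations with the global form `w` give `LocIsoEt`. -/
theorem assemble (w : (Matrix (Fin n) (Fin n) R)ˣ) (e : R)
    (hw : AzInv.LamInv.transpose lam (Fin n) hlam (↑w : Matrix (Fin n) (Fin n) R) =
      e • (↑w : Matrix (Fin n) (Fin n) R)) (he : lam e * e = 1)
    (hloc : ∀ p : PrimeSpectrum S, ∃ (S' : Type u) (_ : CommRing S') (_ : Algebra S S'),
      Algebra.Etale S S' ∧ p ∈ Set.range (PrimeSpectrum.comap (algebraMap S S')) ∧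
        HPres S lam t S' ((↑w : Matrix (Fin n) (Fin n) R).map
          (Algebra.TensorProduct.includeRight : R →ₐ[S] S' ⊗[S] R))) :
    AzInv.LocIsoEt S lam t ((AzInv.LamInv.transpose lam (Fin n) hlam).conj w e hw he) := by
  apply LocIsoFamily.locIsoEt_of_family
  intro p
  obtain ⟨S', _, _, het, hmem, H⟩ := hloc p
  exact ⟨S', inferInstance, inferInstance, het, hmem,
    RamPres.component lam hlam t w e hw he S' H⟩

end Assembly


section QE

variable (S : Type u) (R : Type v) [CommRing S] [CommRing R] [Algebra S R]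
  (lam : R ≃ₐ[S] R) (hlam : ∀ r, lam (lam r) = r) (hfix : RInv.IsFixedRing S R lam.toRingEquiv)
  (A : Type w) [Ring A] [Algebra S A] [Algebra R A] [IsScalarTower S R A]
  (n : ℕ) (t : AzInv.LamInv R A lam)

include hfix in
/-- The unramified case. -/
theorem qe_case (hq : RInv.IsQuadEtale S R) [IsAzumaya R A]
    (hrk : ∀ p : PrimeSpectrum R, Module.rankAtStalk (R := R) A p = n ^ 2) :
    ∃ (w : (Matrix (Fin n) (Fin n) R)ˣ) (e : R)
      (hw : AzInv.LamInv.transpose lam (Fin n) hlam (↑w : Matrix (Fin n) (Fin n) R) =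
        e • (↑w : Matrix (Fin n) (Fin n) R))
      (he : lam e * e = 1),
      AzInv.LocIsoEt S lam t ((AzInv.LamInv.transpose lam (Fin n) hlam).conj w e hw he) := by
  have htop := QuadGalois.span_top lam hlam hfix hq
  haveI : Algebra.Etale S R := QuadGalois.etale lam hq htop
  haveI : Module.FaithfullyFlat S R := QuadGalois.faithfullyFlat hq
  obtain ⟨T, _, _, het, hff, ⟨φ⟩⟩ := AzSplitEt.exists_splitting' R A n hrk
  letI : Algebra S T := ((algebraMap R T).comp (algebraMap S R)).toAlgebra
  haveI : IsScalarTower S R T := IsScalarTower.of_algebraMap_eq (fun _ => rfl)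
  haveI : Algebra.Etale S T := Algebra.Etale.comp S R T
  haveI : Module.FaithfullyFlat S T := Module.FaithfullyFlat.trans S R T
  let J : R ⊗[S] R →ₐ[R] T ⊗[S] R :=
    Algebra.TensorProduct.map (Algebra.ofId R T) (AlgHom.id S R)
  have hJ : ∀ a b : R, J (a ⊗ₜ[S] b) = algebraMap R T a ⊗ₜ[S] b := fun a b => by
    simp [J, Algebra.ofId_apply]
  let e : T ⊗[S] R := J (QuadGalois.e0 lam hq htop)
  have he_mul : ∀ r : R, e * ((1 : T) ⊗ₜ[S] r) = e * (algebraMap R T r ⊗ₜ[S] (1 : R)) := by
    intro r
    have := congrArg J (QuadGalois.e0_mul lam hq htop r)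
    rw [map_mul, map_mul, hJ, hJ, map_one] at this
    exact this
  have he_idem : e * e = e := by
    have := congrArg J (QuadGalois.e0_idem lam hq htop)
    rwa [map_mul] at this
  have hmuJ : ∀ z : R ⊗[S] R, Hyperbolic.mu R T (J z) = algebraMap R T (QuadGalois.Phi lam z).1 := by
    intro z
    induction z using TensorProduct.induction_on with
    | zero => simp
    | tmul a b => rw [hJ, Hyperbolic.mu_tmul, QuadGalois.Phi_tmul, map_mul]
    | add x y hx hy => rw [map_add, map_add, hx, hy, map_add, Prod.fst_add, map_add]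
  have he_mu : Hyperbolic.mu R T e = 1 := by
    rw [hmuJ, QuadGalois.Phi_e0, map_one]
  have hLTJ : ∀ z : R ⊗[S] R, Hyperbolic.LT T lam (J z) = J (QuadGalois.idLam lam z) := by
    intro z
    induction z using TensorProduct.induction_on with
    | zero => simp
    | tmul a b => rw [hJ, Hyperbolic.LT_tmul, QuadGalois.idLam_tmul, hJ]
    | add x y hx hy => rw [map_add, map_add, hx, hy, map_add, map_add]
  have he_lam : Hyperbolic.LT T lam e = 1 - e := by
    rw [hLTJ, QuadGalois.idLam_e0 lam hlam hq htop, map_sub, map_one]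
  let ψ : T ⊗[R] A ≃ₐ[T] T ⊗[R] Matrix (Fin n) (Fin n) R :=
    φ.trans (InvSplit.matEquiv R T n).symm
  have hw1 : AzInv.LamInv.transpose lam (Fin n) hlam
      (↑(1 : (Matrix (Fin n) (Fin n) R)ˣ) : Matrix (Fin n) (Fin n) R) =
        (1 : R) • (↑(1 : (Matrix (Fin n) (Fin n) R)ˣ) : Matrix (Fin n) (Fin n) R) := by
    rw [one_smul, Units.val_one]
    exact (AzInv.LamInv.transpose lam (Fin n) hlam).map_one
  have he1 : lam 1 * 1 = 1 := by rw [map_one, mul_one]
  obtain ⟨f, hf1, hf2⟩ := Hyperbolic.exists_iso T lam hlam e he_mul he_idem he_mu he_lam ψ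
    t ((AzInv.LamInv.transpose lam (Fin n) hlam).conj 1 1 hw1 he1)
  exact ⟨1, 1, hw1, he1, LocIsoEtShrink.locIsoEt_of_cover lam _ _ T f hf1 hf2⟩

end QE


section Ram

open scoped Matrix

variable (S : Type u) (R : Type v) [CommRing S] [CommRing R] [Algebra S R]
  (lam : R ≃ₐ[S] R) (hlam : ∀ r, lam (lam r) = r) (hfix : RInv.IsFixedRing S R lam.toRingEquiv)
  (hsq : ∀ (S₁ : Type u) [CommRing S₁] [Algebra S S₁] [Algebra.Etale S S₁] (x : S₁ˣ),
      ∃ (S₂ : Type u) (_ : CommRing S₂) (_ : Algebra S₁ S₂) (_ : Algebra.Etale S₁ S₂)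
        (_ : Module.FaithfullyFlat S₁ S₂) (y : S₂), y * y = algebraMap S₁ S₂ ↑x)
  (h2 : IsUnit (2 : S)) (hnil : ∀ r : R, IsNilpotent (r - lam r))
  (A : Type w) [Ring A] [Algebra S A] [Algebra R A] [IsScalarTower S R A] [IsAzumaya R A]
  (n : ℕ) (hn : 0 < n) (hrk : ∀ p : PrimeSpectrum R, Module.rankAtStalk (R := R) A p = n ^ 2)
  (t : AzInv.LamInv R A lam)

include hfix hsq h2 hnil hn hrk in
/-- The ramified case, odd degree. -/
theorem odd_case (hev : ¬ Even n) :
    ∃ (w : (Matrix (Fin n) (Fin n) R)ˣ) (e : R)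
      (hw : AzInv.LamInv.transpose lam (Fin n) hlam (↑w : Matrix (Fin n) (Fin n) R) =
        e • (↑w : Matrix (Fin n) (Fin n) R))
      (he : lam e * e = 1),
      AzInv.LocIsoEt S lam t ((AzInv.LamInv.transpose lam (Fin n) hlam).conj w e hw he) := by
  have hw1 : AzInv.LamInv.transpose lam (Fin n) hlam
      (↑(1 : (Matrix (Fin n) (Fin n) R)ˣ) : Matrix (Fin n) (Fin n) R) =
        (1 : R) • (↑(1 : (Matrix (Fin n) (Fin n) R)ˣ) : Matrix (Fin n) (Fin n) R) := by
    rw [one_smul, Units.val_one]
    exact (AzInv.LamInv.transpose lam (Fin n) hlam).map_one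
  have he1 : lam 1 * 1 = 1 := by rw [map_one, mul_one]
  refine ⟨1, 1, hw1, he1, assemble S R lam hlam A n t 1 1 hw1 he1 ?_⟩
  intro p
  obtain ⟨S'', _, _, het, hmem, H | ⟨hev', _⟩⟩ :=
    RamExist.exists_pres S R lam hlam hfix hsq h2 hnil A n hn hrk t 0
      (fun h => absurd h hev) p
  · refine ⟨S'', inferInstance, inferInstance, het, hmem, ?_⟩
    rw [Units.val_one]
    exact H
  · exact absurd hev' hev

omit [IsAzumaya R A] [IsScalarTower S R A] [Algebra S A] [Ring A] [Algebra R A] in
theorem map_mix_one (S'' : Type u) [CommRing S''] [Algebra S S''] (ep : S)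
    (M N : Matrix (Fin n) (Fin n) R) (h : algebraMap S S'' ep = 1) :
    ((algebraMap S R ep) • M + (1 - algebraMap S R ep) • N).map
      (Algebra.TensorProduct.includeRight : R →ₐ[S] S'' ⊗[S] R) =
    M.map (Algebra.TensorProduct.includeRight : R →ₐ[S] S'' ⊗[S] R) := by
  have hι : (Algebra.TensorProduct.includeRight : R →ₐ[S] S'' ⊗[S] R) (algebraMap S R ep) = 1 := by
    rw [AlgHom.commutes, Algebra.TensorProduct.algebraMap_apply, h]
    rfl
  ext i j
  simp only [Matrix.map_apply, Matrix.add_apply, Matrix.smul_apply, smul_eq_mul, map_add, map_mul,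
    map_sub, map_one, hι]
  ring

omit [IsAzumaya R A] [IsScalarTower S R A] [Algebra S A] [Ring A] [Algebra R A] in
theorem map_mix_zero (S'' : Type u) [CommRing S''] [Algebra S S''] (ep : S)
    (M N : Matrix (Fin n) (Fin n) R) (h : algebraMap S S'' ep = 0) :
    ((algebraMap S R ep) • M + (1 - algebraMap S R ep) • N).map
      (Algebra.TensorProduct.includeRight : R →ₐ[S] S'' ⊗[S] R) =
    N.map (Algebra.TensorProduct.includeRight : R →ₐ[S] S'' ⊗[S] R) := by
  have hι : (Algebra.TensorProduct.includeRight : R →ₐ[S] S'' ⊗[S] R) (algebraMap S R ep) = 0 := by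
    rw [AlgHom.commutes, Algebra.TensorProduct.algebraMap_apply, h, TensorProduct.zero_tmul]
  ext i j
  simp only [Matrix.map_apply, Matrix.add_apply, Matrix.smul_apply, smul_eq_mul, map_add, map_mul,
    map_sub, map_one, hι]
  ring

include hfix hsq h2 hnil hn hrk in
/-- The ramified case, even degree. -/
theorem even_case (hev : Even n) :
    ∃ (w : (Matrix (Fin n) (Fin n) R)ˣ) (e : R)
      (hw : AzInv.LamInv.transpose lam (Fin n) hlam (↑w : Matrix (Fin n) (Fin n) R) =
        e • (↑w : Matrix (Fin n) (Fin n) R))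
      (he : lam e * e = 1),
      AzInv.LocIsoEt S lam t ((AzInv.LamInv.transpose lam (Fin n) hlam).conj w e hw he) := by
  classical
  obtain ⟨J, hJu, hJt⟩ := exists_J S n hev
  obtain ⟨uJ, huJ⟩ := hJu
  obtain ⟨Ji, hJi⟩ : ∃ Ji : Matrix (Fin n) (Fin n) S, Ji = ↑uJ⁻¹ := ⟨_, rfl⟩
  have hJJi : J * Ji = 1 := by rw [← huJ, hJi, Units.mul_inv]
  have hJiJ : Ji * J = 1 := by rw [← huJ, hJi, Units.inv_mul]
  obtain ⟨JR, hJR⟩ : ∃ JR : Matrix (Fin n) (Fin n) R, JR = J.map (algebraMap S R) := ⟨_, rfl⟩
  obtain ⟨JRi, hJRi⟩ : ∃ JRi : Matrix (Fin n) (Fin n) R, JRi = Ji.map (algebraMap S R) := ⟨_, rfl⟩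
  have hJRJRi : JR * JRi = 1 := by
    rw [hJR, hJRi, ← Matrix.map_mul, hJJi, Matrix.map_one _ (map_zero _) (map_one _)]
  have hJRiJR : JRi * JR = 1 := by
    rw [hJR, hJRi, ← Matrix.map_mul, hJiJ, Matrix.map_one _ (map_zero _) (map_one _)]
  have hJRt : JRᵀ = -JR := by
    rw [hJR, ← Matrix.transpose_map, hJt]
    ext i j
    simp
  have hJRlam : JR.map lam = JR := by
    rw [hJR]
    ext i j
    simp only [Matrix.map_apply]
    exact lam.commutes _
  -- the two loci
  let Up : Set (PrimeSpectrum S) := {p | ∃ (S'' : Type u) (_ : CommRing S'') (_ : Algebra S S''),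
    Algebra.Etale S S'' ∧ p ∈ Set.range (PrimeSpectrum.comap (algebraMap S S'')) ∧
      HPres S lam t S'' ((1 : Matrix (Fin n) (Fin n) R).map
        (Algebra.TensorProduct.includeRight : R →ₐ[S] S'' ⊗[S] R))}
  let Um : Set (PrimeSpectrum S) := {p | ∃ (S'' : Type u) (_ : CommRing S'') (_ : Algebra S S''),
    Algebra.Etale S S'' ∧ p ∈ Set.range (PrimeSpectrum.comap (algebraMap S S'')) ∧
      HPres S lam t S'' (JR.map
        (Algebra.TensorProduct.includeRight : R →ₐ[S] S'' ⊗[S] R))}
  have hUp_open : IsOpen Up := by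
    rw [isOpen_iff_forall_mem_open]
    rintro p ⟨S'', _, _, het, hmem, H⟩
    haveI := het
    refine ⟨Set.range (PrimeSpectrum.comap (algebraMap S S'')), ?_,
      (PrimeSpectrum.isOpenMap_comap_of_hasGoingDown_of_finitePresentation
        (R := S) (S := S'')).isOpen_range, hmem⟩
    intro q hq
    exact ⟨S'', inferInstance, inferInstance, het, hq, H⟩
  have hUm_open : IsOpen Um := by
    rw [isOpen_iff_forall_mem_open]
    rintro p ⟨S'', _, _, het, hmem, H⟩
    haveI := het
    refine ⟨Set.range (PrimeSpectrum.comap (algebraMap S S'')), ?_,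
      (PrimeSpectrum.isOpenMap_comap_of_hasGoingDown_of_finitePresentation
        (R := S) (S := S'')).isOpen_range, hmem⟩
    intro q hq
    exact ⟨S'', inferInstance, inferInstance, het, hq, H⟩
  have hex : ∀ p : PrimeSpectrum S, ∃ (S'' : Type u) (_ : CommRing S'') (_ : Algebra S S''),
      Algebra.Etale S S'' ∧ p ∈ Set.range (PrimeSpectrum.comap (algebraMap S S'')) ∧
      (HPres S lam t S'' ((1 : Matrix (Fin n) (Fin n) R).map
          (Algebra.TensorProduct.includeRight : R →ₐ[S] S'' ⊗[S] R)) ∨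
        HPres S lam t S'' (JR.map
          (Algebra.TensorProduct.includeRight : R →ₐ[S] S'' ⊗[S] R))) := by
    intro p
    obtain ⟨S'', _, _, het, hmem, H⟩ :=
      RamExist.exists_pres S R lam hlam hfix hsq h2 hnil A n hn hrk t J
        (fun _ => ⟨⟨uJ, huJ⟩, hJt⟩) p
    refine ⟨S'', inferInstance, inferInstance, het, hmem, ?_⟩
    rcases H with H | ⟨_, H⟩
    · exact Or.inl H
    · right
      rw [hJR]
      exact H
  have hcover : ∀ p : PrimeSpectrum S, p ∈ Up ∨ p ∈ Um := by
    intro p
    obtain ⟨S'', _, _, het, hmem, H | H⟩ := hex p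
    · exact Or.inl ⟨S'', inferInstance, inferInstance, het, hmem, H⟩
    · exact Or.inr ⟨S'', inferInstance, inferInstance, het, hmem, H⟩
  have hdisj : ∀ p : PrimeSpectrum S, p ∈ Up → p ∈ Um → False := by
    rintro p ⟨S₁, _, _, het₁, hmem₁, H₁⟩ ⟨S₂, _, _, het₂, hmem₂, H₂⟩
    haveI := het₁
    haveI := het₂
    exact RamUnique.unique_sign lam hlam h2 hnil hn t hfix.1 S₁ S₂ p hmem₁ hmem₂ JR JRi
      hJRJRi hJRiJR hJRt hJRlam H₁ H₂
  have hcompl : Upᶜ = Um := by
    ext p
    constructor
    · intro hp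
      rcases hcover p with h | h
      · exact absurd h hp
      · exact h
    · intro hp h
      exact hdisj p h hp
  have hclopen : IsClopen Up := ⟨⟨by rw [hcompl]; exact hUm_open⟩, hUp_open⟩
  obtain ⟨ep, hidem, hUe⟩ := PrimeSpectrum.exists_idempotent_basicOpen_eq_of_isClopen hclopen
  have hmemUp : ∀ p : PrimeSpectrum S, p ∈ Up ↔ ep ∉ p.asIdeal := by
    intro p
    rw [hUe]
    rfl
  obtain ⟨E, hE⟩ : ∃ E : R, E = algebraMap S R ep := ⟨_, rfl⟩
  have hEE : E * E = E := by
    rw [hE, ← map_mul, hidem.eq]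
  have hlamE : lam E = E := by rw [hE]; exact lam.commutes _
  -- the global form
  have hw1 : (E • (1 : Matrix (Fin n) (Fin n) R) + (1 - E) • JR) *
      (E • (1 : Matrix (Fin n) (Fin n) R) + (1 - E) • JRi) = 1 := by
    have h1 : E * (1 - E) = 0 := by rw [mul_sub, mul_one, hEE, sub_self]
    have h2 : (1 - E) * E = 0 := by rw [mul_comm, h1]
    have h3 : (1 - E) * (1 - E) = 1 - E := by rw [sub_mul, one_mul, h1, sub_zero]
    simp only [add_mul, mul_add, smul_mul_assoc, mul_smul_comm, smul_smul, one_mul, mul_one,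
      smul_add, hEE, h1, h2, h3, hJRJRi, zero_smul, add_zero, zero_add]
    rw [← add_smul, add_sub_cancel, one_smul]
  have hw2 : (E • (1 : Matrix (Fin n) (Fin n) R) + (1 - E) • JRi) *
      (E • (1 : Matrix (Fin n) (Fin n) R) + (1 - E) • JR) = 1 := by
    have h1 : E * (1 - E) = 0 := by rw [mul_sub, mul_one, hEE, sub_self]
    have h2 : (1 - E) * E = 0 := by rw [mul_comm, h1]
    have h3 : (1 - E) * (1 - E) = 1 - E := by rw [sub_mul, one_mul, h1, sub_zero]
    simp only [add_mul, mul_add, smul_mul_assoc, mul_smul_comm, smul_smul, one_mul, mul_one,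
      smul_add, hEE, h1, h2, h3, hJRiJR, zero_smul, add_zero, zero_add]
    rw [← add_smul, add_sub_cancel, one_smul]
  let w : (Matrix (Fin n) (Fin n) R)ˣ :=
    ⟨E • (1 : Matrix (Fin n) (Fin n) R) + (1 - E) • JR,
      E • (1 : Matrix (Fin n) (Fin n) R) + (1 - E) • JRi, hw1, hw2⟩
  have hwval : (↑w : Matrix (Fin n) (Fin n) R) =
      E • (1 : Matrix (Fin n) (Fin n) R) + (1 - E) • JR := rfl
  have hw : AzInv.LamInv.transpose lam (Fin n) hlam (↑w : Matrix (Fin n) (Fin n) R) =
      (E - (1 - E)) • (↑w : Matrix (Fin n) (Fin n) R) := by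
    rw [hwval]
    ext i j
    rw [AzInv.LamInv.transpose_apply]
    have e1 : lam (JR j i) = JR j i := by
      have := congrFun (congrFun hJRlam j) i
      rwa [Matrix.map_apply] at this
    have e2 : JR j i = - JR i j := by
      have := congrFun (congrFun hJRt i) j
      rwa [Matrix.transpose_apply, Matrix.neg_apply] at this
    have e3 : (1 : Matrix (Fin n) (Fin n) R) j i = (1 : Matrix (Fin n) (Fin n) R) i j := by
      rw [Matrix.one_apply, Matrix.one_apply]
      simp only [eq_comm]
    have e4 : lam ((1 : Matrix (Fin n) (Fin n) R) i j) = (1 : Matrix (Fin n) (Fin n) R) i j := by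
      rw [Matrix.one_apply]
      split_ifs
      · exact map_one lam
      · exact map_zero lam
    simp only [Matrix.add_apply, Matrix.smul_apply, smul_eq_mul, map_add, map_mul, map_sub,
      map_one, hlamE, e1, e3, e4]
    rw [e2]
    linear_combination (-2 * ((1 : Matrix (Fin n) (Fin n) R) i j - JR i j)) * hEE
  have he : lam (E - (1 - E)) * (E - (1 - E)) = 1 := by
    rw [map_sub, map_sub, map_one, hlamE]
    linear_combination 4 * hEE
  refine ⟨w, E - (1 - E), hw, he, assemble S R lam hlam A n t w _ hw he ?_⟩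
  intro p
  obtain ⟨S'', _, _, het, hmem, H⟩ := hex p
  refine ⟨S'', inferInstance, inferInstance, het, hmem, ?_⟩
  have hεidem : IsIdempotentElem (algebraMap S S'' ep) := by
    show algebraMap S S'' ep * algebraMap S S'' ep = algebraMap S S'' ep
    rw [← map_mul, hidem.eq]
  rw [hwval, hE]
  rcases H with H | H
  · -- every point of `S''` lies over `Up`
    have hall : ∀ Q : PrimeSpectrum S'', algebraMap S S'' ep ∉ Q.asIdeal := by
      intro Q
      have hQ : PrimeSpectrum.comap (algebraMap S S'') Q ∈ Up :=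
        ⟨S'', inferInstance, inferInstance, het, ⟨Q, rfl⟩, H⟩
      rw [hmemUp] at hQ
      exact hQ
    have hnil1 : IsNilpotent (1 - algebraMap S S'' ep) := by
      rw [nilpotent_iff_mem_prime]
      intro Q hQ
      have h0 : algebraMap S S'' ep * (1 - algebraMap S S'' ep) ∈ Q := by
        rw [mul_sub, mul_one, hεidem.eq, sub_self]
        exact Q.zero_mem
      rcases hQ.mem_or_mem h0 with h | h
      · exact absurd h (hall ⟨Q, hQ⟩)
      · exact h
    have h1 : algebraMap S S'' ep = 1 := by
      have := hεidem.one_sub.eq_zero_of_isNilpotent hnil1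
      exact (sub_eq_zero.mp this).symm
    rw [map_mix_one S R n S'' ep 1 JR h1]
    exact H
  · have hall : ∀ Q : PrimeSpectrum S'', algebraMap S S'' ep ∈ Q.asIdeal := by
      intro Q
      have hQ : PrimeSpectrum.comap (algebraMap S S'') Q ∈ Um :=
        ⟨S'', inferInstance, inferInstance, het, ⟨Q, rfl⟩, H⟩
      rw [← hcompl] at hQ
      by_contra hcon
      exact hQ ((hmemUp _).mpr hcon)
    have hnil0 : IsNilpotent (algebraMap S S'' ep) := by
      rw [nilpotent_iff_mem_prime]
      intro Q hQ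
      exact hall ⟨Q, hQ⟩
    have h0 : algebraMap S S'' ep = 0 := hεidem.eq_zero_of_isNilpotent hnil0
    rw [map_mix_zero S R n S'' ep 1 JR h0]
    exact H

end Ram


/-- Let `R` be a commutative ring with an involution `lam` whose fixed ring is exactly `S`; assume that
units have square roots locally for the etale topology of `S` (every unit of an etale `S`-algebra
becomes a square in some etale faithfully flat extension), and that either `2` is a unit in `S` and
the quotient `Spec R → Spec S` is everywhere ramified (for no prime `p` of `S` is `S_p ⊗_S R` a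
quadratic etale `S_p`-algebra; the case `R = S` is included), or `R` is a quadratic etale
`S`-algebra (the unramified case). Then every `lam`-involution `t` of an Azumaya `R`-algebra `A` of
degree `n ≥ 1` is ordinary: there are a global invertible `n × n` matrix `w` over `R` and an element
`e` of `R` with `lam`-transpose of `w` equal to `e • w` and `lam e * e = 1`, such that `(A, t)`
becomes isomorphic, after an etale faithfully flat base change of `S`, to the matrix algebra over
`R` with the involution `x ↦ w * (lam-transpose of x) * w⁻¹` (equivalently `x ↦ (a x a⁻¹)` followed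
by the `lam`-transpose, for the global matrix `a` whose `lam`-transpose is `w⁻¹`). (The source
states this for an exact quotient of a locally ringed topos with involution; the row is the affine
case `Spec R → Spec S`, with etale coverings of `Spec S` replaced by a single etale faithfully flat
`S`-algebra.) -/
theorem result (S : Type u) (R : Type v) [CommRing S] [CommRing R] [Algebra S R]
    (lam : R ≃ₐ[S] R) (hlam : ∀ r, lam (lam r) = r) (hfix : RInv.IsFixedRing S R lam.toRingEquiv)
    (hsq : ∀ (S₁ : Type u) [CommRing S₁] [Algebra S S₁] [Algebra.Etale S S₁] (x : S₁ˣ),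
      ∃ (S₂ : Type u) (_ : CommRing S₂) (_ : Algebra S₁ S₂) (_ : Algebra.Etale S₁ S₂)
        (_ : Module.FaithfullyFlat S₁ S₂) (y : S₂), y * y = algebraMap S₁ S₂ ↑x)
    (hram : (IsUnit (2 : S) ∧ ∀ p : PrimeSpectrum S,
        ¬ RInv.IsQuadEtale (Localization.AtPrime p.asIdeal) (Localization.AtPrime p.asIdeal ⊗[S] R)) ∨
      RInv.IsQuadEtale S R)
    (A : Type w) [Ring A] [Algebra S A] [Algebra R A] [IsScalarTower S R A]
    (n : ℕ) (hn : 0 < n) (hA : AzInv.IsAzumayaDeg R A n) (t : AzInv.LamInv R A lam) :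
    ∃ (w : (Matrix (Fin n) (Fin n) R)ˣ) (e : R)
      (hw : AzInv.LamInv.transpose lam (Fin n) hlam (↑w : Matrix (Fin n) (Fin n) R) = e • (↑w : Matrix (Fin n) (Fin n) R))
      (he : lam e * e = 1),
      AzInv.LocIsoEt S lam t ((AzInv.LamInv.transpose lam (Fin n) hlam).conj w e hw he) := by
  obtain ⟨hAz, hrk⟩ := hA
  haveI := hAz
  rcases hram with ⟨h2, hram⟩ | hq
  · have hnil := nil_of_ram S R lam hlam hfix hram
    by_cases hev : Even n
    · exact even_case S R lam hlam hfix hsq h2 hnil A n hn hrk t hev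
    · exact odd_case S R lam hlam hfix hsq h2 hnil A n hn hrk t hev
  · exact qe_case S R lam hlam hfix A n t hq hrk

end Groth.Agent.S17358
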