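import Groth.Statements.S17359
import Groth.Agent.H96.InvSplit
import Groth.Agent.H96.InvSign
import Groth.Agent.H96.InvChains
import Groth.Agent.H96.WittTrick
import Groth.Agent.H96.LocIsoEtShrink

set_option autoImplicit false
universe u w
open scoped TensorProduct
open AzInv

namespace Groth.Agent.S17359

/-- Let `R` be a nontrivial commutative ring with connected spectrum in which `2` is a unit, with the
trivial involution (so that the involutions considered are of the first kind and the quotient is the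
trivial one). Then there are exactly two types, the orthogonal and the symplectic one; this row
states the first half: every involution of the first kind `t` of an Azumaya `R`-algebra `A` of
degree `n ≥ 1` has the same type either as the identity of `R` or as the standard symplectic
involution `x ↦ J xᵀ J⁻¹` of the `2 × 2` matrix algebra, `J` the matrix with rows `(0, -1)` and `(1,
0)` (same type: suitable matrix algebras over the two, with the induced involutions, become
isomorphic as `R`-algebras with involution after an etale faithfully flat base change of `R`). (The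
source states that the monoid of types is isomorphic to the group of global square roots of `1`, for
a locally ringed topos with trivial involution and `2` invertible; the row is the affine case with
connected spectrum, where that group is `{1, -1}`.) -/
theorem result (R : Type u) [CommRing R] (hlam : ∀ r : R, (AlgEquiv.refl : R ≃ₐ[R] R) ((AlgEquiv.refl : R ≃ₐ[R] R) r) = r)
    [Nontrivial R] [ConnectedSpace (PrimeSpectrum R)] (h2 : IsUnit (2 : R))
    (J : (Matrix (Fin 2) (Fin 2) R)ˣ) (hJ : (↑J : Matrix (Fin 2) (Fin 2) R) = Matrix.of ![![0, -1], ![1, 0]])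
    (hJt : AzInv.LamInv.transpose (AlgEquiv.refl : R ≃ₐ[R] R) (Fin 2) hlam (↑J : Matrix (Fin 2) (Fin 2) R) = (-1 : R) • (↑J : Matrix (Fin 2) (Fin 2) R))
    (hneg : (AlgEquiv.refl : R ≃ₐ[R] R) (-1) * (-1) = 1)
    (A : Type w) [Ring A] [Algebra R A]
    (n : ℕ) (hn : 0 < n) (hA : AzInv.IsAzumayaDeg R A n) (t : AzInv.LamInv R A (AlgEquiv.refl : R ≃ₐ[R] R)) :
    AzInv.SameType R (AlgEquiv.refl : R ≃ₐ[R] R) t (AzInv.LamInv.self (AlgEquiv.refl : R ≃ₐ[R] R) hlam) ∨
      AzInv.SameType R (AlgEquiv.refl : R ≃ₐ[R] R) t ((AzInv.LamInv.transpose (AlgEquiv.refl : R ≃ₐ[R] R) (Fin 2) hlam).conj J (-1) hJt hneg) := by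
  obtain ⟨hAz, hrk⟩ := hA
  haveI := hAz
  obtain ⟨c, hc⟩ : ∃ c : R, 2 * c = 1 := h2.exists_right_inv
  obtain ⟨T, _, _, het, hff, i, φ, u, hi, hφ⟩ :=
    Groth.Agent.H96.InvSplit.exists_data R A n hn hrk t c hc
  haveI := het
  haveI := hff
  have hσσ : ∀ x : Matrix (Fin n) (Fin n) T,
      (↑u : Matrix (Fin n) (Fin n) T) *
        ((↑u : Matrix (Fin n) (Fin n) T) * x.transpose *
          (↑u⁻¹ : Matrix (Fin n) (Fin n) T)).transpose *
          (↑u⁻¹ : Matrix (Fin n) (Fin n) T) = x := by
    intro x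
    have h := hφ (t.bc R (AlgEquiv.refl : R ≃ₐ[R] R) T (φ.symm x))
    rw [Groth.Agent.H96.AzInvUnitary.bc_bc, hφ, AlgEquiv.apply_symm_apply] at h
    exact h.symm
  obtain ⟨ε, hε, hεε⟩ := Groth.Agent.H96.InvSign.exists_eps hn u hσσ
  have hconst := Groth.Agent.H96.InvSign.eps_const R c hc A t hn φ u hφ ε hε hεε
  have hcT : (2 : T) * algebraMap R T c = 1 := by
    have := congrArg (algebraMap R T) hc
    rwa [map_mul, map_ofNat, map_one] at this
  rcases hconst with h1 | h1
  · left
    have hu : (↑u : Matrix (Fin n) (Fin n) T).transpose = ↑u := by rw [hε, h1, one_smul]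
    have hW := Groth.Agent.H96.WittTrick.Wo_identity u (algebraMap R T c) i hcT hi hu
    have hW' : Matrix.comp (Fin 2) (Fin 2) (Fin n) (Fin n) T
          (Groth.Agent.H96.WittTrick.Wo u (algebraMap R T c) i) *
        (↑(Groth.Agent.H96.WittTrick.diagUnit (I := Fin 2) u) :
          Matrix (Fin 2 × Fin n) (Fin 2 × Fin n) T) *
        (Matrix.comp (Fin 2) (Fin 2) (Fin n) (Fin n) T
          (Groth.Agent.H96.WittTrick.Wo u (algebraMap R T c) i)).transpose =
        (↑(1 : (Matrix (Fin 2 × Fin n) (Fin 2 × Fin n) T)ˣ) :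
          Matrix (Fin 2 × Fin n) (Fin 2 × Fin n) T) := by
      rw [Groth.Agent.H96.WittTrick.diagUnit_val, ← Groth.Agent.H96.WittTrick.comp_dag,
        ← Groth.Agent.H96.WittTrick.comp_mul, ← Groth.Agent.H96.WittTrick.comp_mul, hW,
        Units.val_one]
      exact (Matrix.compRingEquiv (Fin 2) (Fin n) T).map_one
    obtain ⟨f, hf1, hf2⟩ := Groth.Agent.H96.WittTrick.exists_iso
      (t.matrix (Fin 2))
      ((AzInv.LamInv.self (AlgEquiv.refl : R ≃ₐ[R] R) hlam).matrix (Fin (2 * n)))
      (Groth.Agent.H96.InvChains.Psi R T A φ) (Groth.Agent.H96.InvChains.ThetaO R T n)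
      (Groth.Agent.H96.WittTrick.diagUnit (I := Fin 2) u) 1 _
      (Groth.Agent.H96.InvChains.Psi_bc R T A t φ u hφ)
      (Groth.Agent.H96.InvChains.ThetaO_bc R T hlam n) hW'
    exact ⟨2, 2 * n, by norm_num, by omega,
      Groth.Agent.H96.LocIsoEtShrink.locIsoEt_of_cover _ _ _ T f hf1 hf2⟩
  · right
    have hu : (↑u : Matrix (Fin n) (Fin n) T).transpose = -↑u := by rw [hε, h1, neg_smul, one_smul]
    have hW := Groth.Agent.H96.WittTrick.Ws_identity u (algebraMap R T c) i hcT hi hu
    have hW' : Matrix.comp (Fin 2) (Fin 2) (Fin n) (Fin n) T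
          (Groth.Agent.H96.WittTrick.Ws u (algebraMap R T c) i) *
        (↑(Groth.Agent.H96.WittTrick.diagUnit (I := Fin 2) u) :
          Matrix (Fin 2 × Fin n) (Fin 2 × Fin n) T) *
        (Matrix.comp (Fin 2) (Fin 2) (Fin n) (Fin n) T
          (Groth.Agent.H96.WittTrick.Ws u (algebraMap R T c) i)).transpose =
        (↑(Groth.Agent.H96.InvChains.HS R T n J) :
          Matrix (Fin 2 × Fin n) (Fin 2 × Fin n) T) := by
      rw [Groth.Agent.H96.WittTrick.diagUnit_val, ← Groth.Agent.H96.WittTrick.comp_dag,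
        ← Groth.Agent.H96.WittTrick.comp_mul, ← Groth.Agent.H96.WittTrick.comp_mul, hW,
        Groth.Agent.H96.InvChains.HS_val R T n J hJ]
    obtain ⟨f, hf1, hf2⟩ := Groth.Agent.H96.WittTrick.exists_iso
      (t.matrix (Fin 2))
      (((AzInv.LamInv.transpose (AlgEquiv.refl : R ≃ₐ[R] R) (Fin 2) hlam).conj J (-1) hJt
        hneg).matrix (Fin n))
      (Groth.Agent.H96.InvChains.Psi R T A φ) (Groth.Agent.H96.InvChains.ThetaS R T n)
      (Groth.Agent.H96.WittTrick.diagUnit (I := Fin 2) u) (Groth.Agent.H96.InvChains.HS R T n J) _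
      (Groth.Agent.H96.InvChains.Psi_bc R T A t φ u hφ)
      (Groth.Agent.H96.InvChains.ThetaS_bc R T hlam n J hJt hneg) hW'
    exact ⟨2, n, by norm_num, hn,
      Groth.Agent.H96.LocIsoEtShrink.locIsoEt_of_cover _ _ _ T f hf1 hf2⟩

end Groth.Agent.S17359
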