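import Groth.Statements.S1736
import Mathlib
import Groth.Agent.H58.LCJac

set_option autoImplicit false
universe u
open LocCoh

namespace Groth.Agent.S1736

/-- Let A be a Noetherian ring of finite dimension d and I ⊆ I' ideals with I' contained in the Jacobson
radical of A. If cd(A, I') < d, i.e. H^i_{I'}(M) = 0 for all A-modules M and all i ≥ d, then also
cd(A, I) < d: H^i_I(M) = 0 for all A-modules M and all i ≥ d. -/
theorem result (A : Type u) [CommRing A] [IsNoetherianRing A] (d : ℕ) (hd : ringKrullDim A = d) (I I' : Ideal A) (hII' : I ≤ I') (hJ : I' ≤ (⊥ : Ideal A).jacobson) (h : ∀ (M : Type u) [AddCommGroup M] [Module A M] (i : ℕ), d ≤ i → Subsingleton (LocCoh.H I' i M)) (M : Type u) [AddCommGroup M] [Module A M] (i : ℕ) (hi : d ≤ i) : Subsingleton (LocCoh.H I i M) := by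
  classical
  rcases Nat.lt_or_ge d i with hlt | hge
  · apply Groth.Agent.H58.LC.subsingleton_H_of_supportDim_lt I M i
    calc Module.supportDim A M ≤ ringKrullDim A := Module.supportDim_le_ringKrullDim A M
      _ = (d : WithBot ℕ∞) := hd
      _ < (i : WithBot ℕ∞) := by exact_mod_cast hlt
  · have hid : i = d := le_antisymm hge hi
    subst hid
    obtain ⟨s, hs⟩ := (isNoetherianRing_iff_ideal_fg A).1 inferInstance I'
    have hI' : I ⊔ Ideal.span (s : Set A) = I' := by rw [hs]; exact sup_eq_right.2 hII'
    refine Groth.Agent.H58.LC.subsingleton_H_of_sup_span_finset_jacobson i hd s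
      (fun b hb => hJ (hs ▸ Ideal.subset_span (Finset.mem_coe.2 hb))) I (fun N _ _ => ?_) M
    rw [hI']
    exact h N i le_rfl

end Groth.Agent.S1736
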