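import Groth.Statements.S17360
import Mathlib

set_option autoImplicit false
universe u
open scoped TensorProduct
open AzInv

namespace Groth.Agent.S17360

open Matrix in
theorem mul_single_mul_apply {S' : Type*} [CommRing S'] {ι : Type*} [Fintype ι] [DecidableEq ι]
    (e : Matrix ι ι S') (γ δ x y : ι) :
    (e * Matrix.single γ δ 1 * e : Matrix ι ι S') x y = e x γ * e δ y := by
  rw [Matrix.mul_apply]
  rw [Finset.sum_eq_single δ]
  · rw [Matrix.mul_single_apply_same (1 : S') γ δ x e, mul_one]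
  · intro b _ hb
    rw [Matrix.mul_single_apply_of_ne (1 : S') γ δ x b hb e, zero_mul]
  · intro h; exact absurd (Finset.mem_univ δ) h

theorem fin2_val_add_rev (c : Fin 2) : c.val + (Fin.rev c).val = 1 := by
  fin_cases c <;> rfl

/-- a symmetric (for the symplectic-type involution) rank-one idempotent matrix vanishes -/
theorem symplectic_rankOne_idempotent_eq_zero {S' : Type*} [CommRing S'] (h2 : IsUnit (2 : S'))
    {m : ℕ} (e : Matrix (Fin m × Fin 2) (Fin m × Fin 2) S') (hid : e * e = e)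
    (hsym : ∀ a c b d, e (a, c) (b, d) =
      (-1) ^ (c.val + d.val) * e (b, Fin.rev d) (a, Fin.rev c))
    (hrk : ∀ γ δ, ∃ μ : S', e * Matrix.single γ δ 1 * e = μ • e) : e = 0 := by
  classical
  -- step 1
  have h1 : ∀ a c, e (a, c) (a, Fin.rev c) = 0 := by
    intro a c
    have h := hsym a c a (Fin.rev c)
    rw [Fin.rev_rev, fin2_val_add_rev, pow_one, neg_one_mul] at h
    have h' : (2 : S') * e (a, c) (a, Fin.rev c) = 0 := by
      rw [two_mul]; nth_rewrite 1 [h]; exact neg_add_cancel _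
    exact (h2.mul_right_eq_zero).1 h'
  -- step 2
  have hsq : ∀ α β, e α β ^ 2 = 0 := by
    rintro ⟨a, c⟩ ⟨b, d⟩
    obtain ⟨μ, hμ⟩ := hrk (b, d) (b, Fin.rev d)
    have h := congrFun (congrFun hμ (a, c)) (a, Fin.rev c)
    rw [mul_single_mul_apply e, Matrix.smul_apply, h1, smul_zero] at h
    have hs := hsym a c b d
    have hunit : ((-1 : S') ^ (c.val + d.val)) * ((-1 : S') ^ (c.val + d.val)) = 1 := by
      rw [← mul_pow, neg_one_mul, neg_neg, one_pow]
    have hs' : e (b, Fin.rev d) (a, Fin.rev c) = (-1) ^ (c.val + d.val) * e (a, c) (b, d) := by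
      rw [hs, ← mul_assoc, hunit, one_mul]
    rw [hs', ← mul_assoc, mul_comm (e (a, c) (b, d)), mul_assoc] at h
    have h3 : (-1 : S') ^ (c.val + d.val) * ((-1 : S') ^ (c.val + d.val) *
        (e (a, c) (b, d) * e (a, c) (b, d))) = 0 := by rw [h, mul_zero]
    rw [← mul_assoc, hunit, one_mul] at h3
    rw [pow_two]; exact h3
  -- step 3
  let I : Ideal S' := Ideal.span (Set.range (fun p : (Fin m × Fin 2) × (Fin m × Fin 2) => e p.1 p.2))
  have hIfg : I.FG := Submodule.fg_span (Set.finite_range _)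
  have hInil : I ≤ nilradical S' := by
    rw [Ideal.span_le]
    rintro _ ⟨p, rfl⟩
    exact ⟨2, hsq p.1 p.2⟩
  obtain ⟨k, hk⟩ := (Ideal.FG.isNilpotent_iff_le_nilradical hIfg).2 hInil
  have hmem : ∀ j : ℕ, ∀ x y, (e ^ (j + 1)) x y ∈ I ^ (j + 1) := by
    intro j
    induction j with
    | zero =>
      intro x y
      rw [zero_add, pow_one, pow_one]
      exact Ideal.subset_span ⟨(x, y), rfl⟩
    | succ j ih =>
      intro x y
      rw [pow_succ (e) (j + 1), pow_succ I (j + 1), Matrix.mul_apply]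
      refine Ideal.sum_mem _ (fun z _ => Ideal.mul_mem_mul (ih x z) (Ideal.subset_span ⟨(z, y), rfl⟩))
  have hpow : e ^ (k + 1) = e := IsIdempotentElem.pow_succ_eq k hid
  have hzero : I ^ (k + 1) = ⊥ := by
    have hk' : I ^ k = ⊥ := hk
    rw [pow_succ, hk']; exact Ideal.bot_mul _
  ext x y
  have := hmem k x y
  rw [hpow, hzero, Ideal.mem_bot] at this
  rw [this]; rfl

theorem adj_formula {R : Type*} [CommRing R] (Y : Matrix (Fin 2) (Fin 2) R) (c d : Fin 2) :
    ((Matrix.of ![![0, -1], ![1, 0]] : Matrix (Fin 2) (Fin 2) R) * (Matrix.of fun i j => Y j i) *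
      (Matrix.of ![![0, 1], ![-1, 0]] : Matrix (Fin 2) (Fin 2) R)) c d =
      (-1) ^ (c.val + d.val) * Y (Fin.rev d) (Fin.rev c) := by
  fin_cases c <;> fin_cases d <;>
    simp [Matrix.mul_apply, Fin.sum_univ_two, Fin.rev, Matrix.vecHead, Matrix.vecTail]

/-- Let `R` be a nontrivial commutative ring in which `2` is a unit, with the trivial involution. This
row states the second half of the count of types: the identity of `R` (the orthogonal type) and the
standard symplectic involution `x ↦ J xᵀ J⁻¹` of the `2 × 2` matrix algebra, `J` the matrix with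
rows `(0, -1)` and `(1, 0)`, do not have the same type, i.e. for no positive sizes do the matrix
algebras over `R` with the transpose and over `M_2(R)` with the involution induced by the symplectic
one become isomorphic as `R`-algebras with involution after an etale faithfully flat base change of
`R`. (The source states that the monoid of types is isomorphic to the group of global square roots
of `1`, for a locally ringed topos with trivial involution and `2` invertible; the row is the affine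
case.) -/
theorem result (R : Type u) [CommRing R] (hlam : ∀ r : R, (AlgEquiv.refl : R ≃ₐ[R] R) ((AlgEquiv.refl : R ≃ₐ[R] R) r) = r)
    [Nontrivial R] (h2 : IsUnit (2 : R))
    (J : (Matrix (Fin 2) (Fin 2) R)ˣ) (hJ : (↑J : Matrix (Fin 2) (Fin 2) R) = Matrix.of ![![0, -1], ![1, 0]])
    (hJt : AzInv.LamInv.transpose (AlgEquiv.refl : R ≃ₐ[R] R) (Fin 2) hlam (↑J : Matrix (Fin 2) (Fin 2) R) = (-1 : R) • (↑J : Matrix (Fin 2) (Fin 2) R))
    (hneg : (AlgEquiv.refl : R ≃ₐ[R] R) (-1) * (-1) = 1) :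
    ¬ AzInv.SameType R (AlgEquiv.refl : R ≃ₐ[R] R) (AzInv.LamInv.self (AlgEquiv.refl : R ≃ₐ[R] R) hlam) ((AzInv.LamInv.transpose (AlgEquiv.refl : R ≃ₐ[R] R) (Fin 2) hlam).conj J (-1) hJt hneg) := by
  rintro ⟨n, n', hn, hn', S', instCR, instAlg, instEt, instFF, f, hfR, hft⟩
  classical
  haveI : Nontrivial S' := (TensorProduct.rid R S').symm.toEquiv.nontrivial
  have h2' : IsUnit (2 : S') := by
    have := h2.map (algebraMap R S'); rwa [map_ofNat] at this
  -- the inverse of J
  have hJinv : (↑J⁻¹ : Matrix (Fin 2) (Fin 2) R) = Matrix.of ![![0, 1], ![-1, 0]] := by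
    apply Units.inv_eq_of_mul_eq_one_right
    rw [hJ]
    ext i j
    fin_cases i <;> fin_cases j <;>
      simp [Matrix.mul_apply, Fin.sum_univ_two, Matrix.vecHead, Matrix.vecTail]
  -- the coordinate isomorphisms
  let Ψ : S' ⊗[R] Matrix (Fin n') (Fin n') (Matrix (Fin 2) (Fin 2) R) ≃ₐ[R]
      Matrix (Fin n' × Fin 2) (Fin n' × Fin 2) S' :=
    (Algebra.TensorProduct.congr (AlgEquiv.refl : S' ≃ₐ[R] S')
      (Matrix.compAlgEquiv (Fin n') (Fin 2) R R)).trans
      (matrixEquivTensor (Fin n' × Fin 2) R S').symm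
  have hΨ : ∀ (s : S') (X : Matrix (Fin n') (Fin n') (Matrix (Fin 2) (Fin 2) R)) a c b d,
      Ψ (s ⊗ₜ[R] X) (a, c) (b, d) = s * algebraMap R S' (X a b c d) := by
    intro s X a c b d
    rfl
  let Ψ₀ : S' ⊗[R] Matrix (Fin n) (Fin n) R ≃ₐ[R] Matrix (Fin n) (Fin n) S' :=
    (matrixEquivTensor (Fin n) R S').symm
  have hΨ₀ : ∀ (s : S') (X : Matrix (Fin n) (Fin n) R) a b,
      Ψ₀ (s ⊗ₜ[R] X) a b = s * algebraMap R S' (X a b) := by
    intro s X a b
    rfl
  -- the S'-linearity of Ψ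
  have hΨsmul : ∀ (μ : S') (y : S' ⊗[R] Matrix (Fin n') (Fin n') (Matrix (Fin 2) (Fin 2) R)),
      Ψ (μ • y) = μ • Ψ y := by
    intro μ y
    induction y using TensorProduct.induction_on with
    | zero => simp
    | add x y hx hy => rw [smul_add, map_add, map_add, hx, hy, smul_add]
    | tmul s X =>
      ext ⟨a, c⟩ ⟨b, d⟩
      rw [TensorProduct.smul_tmul', hΨ, Matrix.smul_apply, hΨ, smul_eq_mul, smul_eq_mul, mul_assoc]
  -- compatibility of Ψ with the involutions
  have hC : ∀ (y : S' ⊗[R] Matrix (Fin n') (Fin n') (Matrix (Fin 2) (Fin 2) R)) a c b d,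
      Ψ ((((AzInv.LamInv.transpose (AlgEquiv.refl : R ≃ₐ[R] R) (Fin 2) hlam).conj J (-1) hJt hneg).matrix
        (Fin n')).bc R (AlgEquiv.refl : R ≃ₐ[R] R) S' y) (a, c) (b, d) =
      (-1) ^ (c.val + d.val) * Ψ y (b, Fin.rev d) (a, Fin.rev c) := by
    intro y a c b d
    induction y using TensorProduct.induction_on with
    | zero => simp
    | add x y hx hy =>
      rw [map_add, map_add, map_add, Matrix.add_apply, Matrix.add_apply, hx, hy, mul_add]
    | tmul s X =>
      rw [AzInv.LamInv.bc_tmul, hΨ, hΨ, AzInv.LamInv.matrix_apply, AzInv.LamInv.conj_apply, hJ, hJinv]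
      have h1 : (AzInv.LamInv.transpose (AlgEquiv.refl : R ≃ₐ[R] R) (Fin 2) hlam) (X b a) =
          Matrix.of fun i j => (X b a) j i := by
        ext i j; rfl
      rw [h1, adj_formula, map_mul, map_pow, map_neg, map_one]
      ring
  -- the idempotent
  let z : Fin n := ⟨0, hn⟩
  let e₀ : S' ⊗[R] Matrix (Fin n) (Fin n) R := (1 : S') ⊗ₜ[R] (Matrix.single z z (1 : R))
  have he₀id : e₀ * e₀ = e₀ := by
    show ((1 : S') ⊗ₜ[R] (Matrix.single z z (1 : R))) * ((1 : S') ⊗ₜ[R] (Matrix.single z z (1 : R))) = _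
    rw [Algebra.TensorProduct.tmul_mul_tmul, Matrix.single_mul_single_same, mul_one, mul_one]
  have he₀ne : e₀ ≠ 0 := by
    intro h
    have h1 := hΨ₀ 1 (Matrix.single z z (1 : R)) z z
    have h2 : Ψ₀ e₀ = 0 := by rw [h, map_zero]
    rw [show (1 : S') ⊗ₜ[R] (Matrix.single z z (1 : R)) = e₀ from rfl, h2] at h1
    simp at h1
  have he₀t : ((AzInv.LamInv.self (AlgEquiv.refl : R ≃ₐ[R] R) hlam).matrix (Fin n)).bc R
      (AlgEquiv.refl : R ≃ₐ[R] R) S' e₀ = e₀ := by
    show _ = (1 : S') ⊗ₜ[R] (Matrix.single z z (1 : R))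
    rw [show e₀ = (1 : S') ⊗ₜ[R] (Matrix.single z z (1 : R)) from rfl, AzInv.LamInv.bc_tmul]
    congr 1
    ext i j
    rw [AzInv.LamInv.matrix_apply, AzInv.LamInv.self_apply]
    simp only [AlgEquiv.coe_refl, id_eq, Matrix.single_apply]
    by_cases h1 : z = j <;> by_cases h2 : z = i <;> simp [h1, h2]
  have he₀rk : ∀ b : S' ⊗[R] Matrix (Fin n) (Fin n) R, ∃ μ : S', e₀ * b * e₀ = μ • e₀ := by
    intro b
    induction b using TensorProduct.induction_on with
    | zero => exact ⟨0, by simp⟩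
    | add x y hx hy =>
      obtain ⟨μ₁, h₁⟩ := hx
      obtain ⟨μ₂, h₂⟩ := hy
      exact ⟨μ₁ + μ₂, by rw [mul_add, add_mul, h₁, h₂, add_smul]⟩
    | tmul s X =>
      refine ⟨s * algebraMap R S' (X z z), ?_⟩
      show ((1 : S') ⊗ₜ[R] (Matrix.single z z (1 : R))) * (s ⊗ₜ[R] X) *
        ((1 : S') ⊗ₜ[R] (Matrix.single z z (1 : R))) = _ • ((1 : S') ⊗ₜ[R] (Matrix.single z z (1 : R)))
      rw [Algebra.TensorProduct.tmul_mul_tmul, Algebra.TensorProduct.tmul_mul_tmul,
        Matrix.single_mul_mul_single, one_mul, mul_one, one_mul, mul_one,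
        TensorProduct.smul_tmul', smul_eq_mul, mul_one]
      have : Matrix.single z z (X z z) = (X z z) • Matrix.single z z (1 : R) := by
        rw [Matrix.smul_single, smul_eq_mul, mul_one]
      rw [this, TensorProduct.tmul_smul, TensorProduct.smul_tmul', Algebra.smul_def, mul_comm]
  -- transport to matrices
  let e : Matrix (Fin n' × Fin 2) (Fin n' × Fin 2) S' := Ψ (f e₀)
  have heid : e * e = e := by
    show Ψ (f e₀) * Ψ (f e₀) = Ψ (f e₀)
    rw [← map_mul, ← map_mul, he₀id]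
  have hfe : f e₀ = (((AzInv.LamInv.transpose (AlgEquiv.refl : R ≃ₐ[R] R) (Fin 2) hlam).conj J (-1) hJt
      hneg).matrix (Fin n')).bc R (AlgEquiv.refl : R ≃ₐ[R] R) S' (f e₀) := by
    rw [← hft, he₀t]
  have hesym : ∀ a c b d, e (a, c) (b, d) =
      (-1) ^ (c.val + d.val) * e (b, Fin.rev d) (a, Fin.rev c) := by
    intro a c b d
    show Ψ (f e₀) (a, c) (b, d) = _
    rw [hfe, hC]
  have herk : ∀ γ δ, ∃ μ : S', e * Matrix.single γ δ 1 * e = μ • e := by
    intro γ δ
    obtain ⟨y, hy⟩ := Ψ.surjective (Matrix.single γ δ 1)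
    obtain ⟨b, hb⟩ := f.surjective y
    obtain ⟨μ, hμ⟩ := he₀rk b
    refine ⟨μ, ?_⟩
    show Ψ (f e₀) * Matrix.single γ δ 1 * Ψ (f e₀) = μ • Ψ (f e₀)
    rw [← hy, ← hb, ← map_mul, ← map_mul, ← map_mul, ← map_mul, hμ, map_smul, hΨsmul]
  have he0 := symplectic_rankOne_idempotent_eq_zero h2' e heid hesym herk
  apply he₀ne
  apply f.injective
  apply Ψ.injective
  rw [map_zero, map_zero]
  exact he0

end Groth.Agent.S17360
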