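import Groth.Statements.S17361
import Groth.Agent.H96.RamPres
import Groth.Agent.H96.LocIsoFamily
import Groth.Agent.H96.UnramLocal
import Groth.Agent.H96.MixExist
import Groth.Agent.H96.MixTypeMain2
import Groth.Agent.H96.IsoOps
import Groth.Agent.H96.SqrtTwo
import Groth.Agent.H96.SymDim
import Groth.Agent.H96.SymDimPres
import Groth.Agent.H96.MatChain
import Groth.Agent.H96.SympStd
import Groth.Agent.S17356

set_option autoImplicit false
universe u v w w'
open scoped TensorProduct
open AzInv

namespace Groth.Agent.S17361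

open Groth.Agent.H96 Groth.Agent.H96.RamPres

section Helpers

attribute [local instance] Algebra.TensorProduct.rightAlgebra

variable (S : Type u) (R : Type v) [CommRing S] [CommRing R] [Algebra S R] (lam : R ≃ₐ[S] R)
  (hlam : ∀ r, lam (lam r) = r) (hfix : RInv.IsFixedRing S R lam.toRingEquiv)
  (h2 : IsUnit (2 : S))
  {A : Type w} [Ring A] [Algebra S A] [Algebra R A] [IsScalarTower S R A] [Module.Finite R A]
  [Module.Flat R A]
  (n : ℕ) (hn : 0 < n) (t : AzInv.LamInv R A lam)

include hlam hfix h2 in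
theorem sigma_orth (q : PrimeSpectrum R) (hq : ∀ r, lam r - r ∈ q.asIdeal)
    (hrkq : Module.rankAtStalk (R := R) A q = n ^ 2)
    (S'' : Type u) [CommRing S''] [Algebra S S''] [Module.Flat S S'']
    (hp : PrimeSpectrum.comap (algebraMap S R) q ∈
      Set.range (PrimeSpectrum.comap (algebraMap S S'')))
    (H : HPres S lam t S'' ((1 : Matrix (Fin n) (Fin n) R).map
      (Algebra.TensorProduct.includeRight : R →ₐ[S] S'' ⊗[S] R))) :
    Module.finrank q.asIdeal.ResidueField
      (Submodule.span q.asIdeal.ResidueField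
        (Set.range fun a : {a : A // t a = a} => (1 : q.asIdeal.ResidueField) ⊗ₜ[R] (a : A))) =
      Nat.choose (n + 1) 2 := by
  obtain ⟨L, _, ε, h2L, h1, -, hfr⟩ := SymDimPres.finrank_sym_of_HPres S R lam hlam hfix h2 n t q hq
    hrkq S'' hp 1 1 (mul_one 1) (mul_one 1) 1 (mul_one 1)
    (by rw [Matrix.transpose_one, one_smul]) H
  rw [hfr, h1 rfl, SymDim.epsSub_one, SymDim.finrank_symSub]

include hlam hfix h2 hn in
theorem sigma_symp (q : PrimeSpectrum R) (hq : ∀ r, lam r - r ∈ q.asIdeal)
    (hrkq : Module.rankAtStalk (R := R) A q = n ^ 2)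
    (S'' : Type u) [CommRing S''] [Algebra S S''] [Module.Flat S S'']
    (hp : PrimeSpectrum.comap (algebraMap S R) q ∈
      Set.range (PrimeSpectrum.comap (algebraMap S S'')))
    (k : ℕ) (hk : n = 2 * k)
    (H : HPres S lam t S'' ((MixExist.Jn R k hk).map
      (Algebra.TensorProduct.includeRight : R →ₐ[S] S'' ⊗[S] R))) :
    Module.finrank q.asIdeal.ResidueField
      (Submodule.span q.asIdeal.ResidueField
        (Set.range fun a : {a : A // t a = a} => (1 : q.asIdeal.ResidueField) ⊗ₜ[R] (a : A))) ≠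
      Nat.choose (n + 1) 2 := by
  obtain ⟨L, _, ε, h2L, -, h1, hfr⟩ := SymDimPres.finrank_sym_of_HPres S R lam hlam hfix h2 n t q hq
    hrkq S'' hp (MixExist.Jn R k hk) (-(MixExist.Jn R k hk)) (MixTypeMain.Jn_mul_neg R k hk)
    (MixTypeMain.Jn_neg_mul R k hk) (-1) (by ring)
    (by rw [MixTypeMain.Jn_transpose, neg_smul, one_smul]) H
  rw [hfr, h1 rfl, SymDim.epsSub_neg_one]
  exact SymDim.finrank_skewSub_ne L n hn h2L

end Helpers

section Helpers2

variable {S : Type u} {R : Type v} [CommRing S] [CommRing R] [Algebra S R] (lam : R ≃ₐ[S] R)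
  (hlam : ∀ r, lam (lam r) = r)

theorem conj_one_eq (n : ℕ)
    (hw1 : AzInv.LamInv.transpose lam (Fin n) hlam
      (↑(1 : (Matrix (Fin n) (Fin n) R)ˣ) : Matrix (Fin n) (Fin n) R) =
        (1 : R) • (↑(1 : (Matrix (Fin n) (Fin n) R)ˣ) : Matrix (Fin n) (Fin n) R))
    (he1 : lam 1 * 1 = 1) :
    (AzInv.LamInv.transpose lam (Fin n) hlam).conj 1 1 hw1 he1 =
      (AzInv.LamInv.self lam hlam).matrix (Fin n) := by
  symm
  apply AzInv.LamInv.ext
  intro M
  show _ = (↑(1 : (Matrix (Fin n) (Fin n) R)ˣ) : Matrix (Fin n) (Fin n) R) *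
    AzInv.LamInv.transpose lam (Fin n) hlam M *
    (↑(1 : (Matrix (Fin n) (Fin n) R)ˣ)⁻¹ : Matrix (Fin n) (Fin n) R)
  rw [inv_one, Units.val_one, Matrix.one_mul, Matrix.mul_one]
  ext i j
  rfl

variable {A : Type w} [Ring A] [Algebra S A] [Algebra R A] [IsScalarTower S R A]
  {A' : Type w'} [Ring A'] [Algebra S A'] [Algebra R A'] [IsScalarTower S R A']
  {B₀ : Type v} [Ring B₀] [Algebra S B₀] [Algebra R B₀] [IsScalarTower S R B₀]

/-- Common refinement followed by the chain of matrix identifications. -/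
theorem refine_chain {t : AzInv.LamInv R A lam} {t' : AzInv.LamInv R A' lam}
    (t₀ : AzInv.LamInv R B₀ lam) (a a' m m' : ℕ) (hsize : m * a = m' * a') (p : PrimeSpectrum S)
    (h₁ : ∃ (S₁ : Type u) (_ : CommRing S₁) (_ : Algebra S S₁), Algebra.Etale S S₁ ∧
      p ∈ Set.range (PrimeSpectrum.comap (algebraMap S S₁)) ∧
        LocIsoFamily.Iso lam t (t₀.matrix (Fin a)) S₁)
    (h₂ : ∃ (S₂ : Type u) (_ : CommRing S₂) (_ : Algebra S S₂), Algebra.Etale S S₂ ∧
      p ∈ Set.range (PrimeSpectrum.comap (algebraMap S S₂)) ∧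
        LocIsoFamily.Iso lam t' (t₀.matrix (Fin a')) S₂) :
    ∃ (S₃ : Type u) (_ : CommRing S₃) (_ : Algebra S S₃), Algebra.Etale S S₃ ∧
      p ∈ Set.range (PrimeSpectrum.comap (algebraMap S S₃)) ∧
        LocIsoFamily.Iso lam (t.matrix (Fin m)) (t'.matrix (Fin m')) S₃ := by
  obtain ⟨S₁, _, _, het₁, hp₁, I₁⟩ := h₁
  obtain ⟨S₂, _, _, het₂, hp₂, I₂⟩ := h₂
  haveI := het₁
  haveI := het₂
  haveI : Algebra.Etale S (S₁ ⊗[S] S₂) := Algebra.Etale.comp S S₁ (S₁ ⊗[S] S₂)
  refine ⟨S₁ ⊗[S] S₂, inferInstance, inferInstance, inferInstance,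
    IsoOps.mem_range_tensor S₁ S₂ p hp₁ hp₂, ?_⟩
  exact MatChain.chain lam t t' t₀ a a' m m' hsize (S₁ ⊗[S] S₂)
    (IsoOps.Iso.map lam (Algebra.TensorProduct.includeLeft : S₁ →ₐ[S] S₁ ⊗[S] S₂) I₁)
    (IsoOps.Iso.map lam (Algebra.TensorProduct.includeRight : S₂ →ₐ[S] S₁ ⊗[S] S₂) I₂)

end Helpers2

/-- Let `R` be a commutative ring with an involution `lam` whose fixed ring is exactly `S`, with `2` a
unit in `S`, and let `(A, t)` and `(A', t')` be Azumaya `R`-algebras of degrees `n, n' ≥ 1` with
`lam`-involutions. For a prime `q` of `R` in the ramification locus, i.e. such that `lam` is the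
identity modulo `q`, the involution induced by `t` on the central simple algebra `k(q) ⊗_R A` is of
the first kind, and it is orthogonal precisely when the images of the `t`-symmetric elements of `A`
span a subspace of dimension `n (n + 1) / 2` over `k(q)` (and symplectic otherwise). Then `t` and
`t'` have the same type (for some positive sizes, the matrix algebras over `A` and `A'` with the
induced involutions become isomorphic as `R`-algebras with involution after an etale faithfully flat
base change of `S`) if and only if at every prime of the ramification locus the involutions induced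
by `t` and by `t'` are both orthogonal or both symplectic. (The source states this for a good
quotient of schemes by an involution, with `2` invertible, through a locally constant sign function
on the ramification locus; the row is the affine case `Spec R → Spec S` with the signs spelled out
by dimensions of symmetric elements.) -/
theorem result (S : Type u) (R : Type v) [CommRing S] [CommRing R] [Algebra S R]
    (lam : R ≃ₐ[S] R) (hlam : ∀ r, lam (lam r) = r) (hfix : RInv.IsFixedRing S R lam.toRingEquiv)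
    (h2 : IsUnit (2 : S))
    (A : Type w) [Ring A] [Algebra S A] [Algebra R A] [IsScalarTower S R A]
    (A' : Type w') [Ring A'] [Algebra S A'] [Algebra R A'] [IsScalarTower S R A']
    (n n' : ℕ) (hn : 0 < n) (hn' : 0 < n') (hA : AzInv.IsAzumayaDeg R A n) (hA' : AzInv.IsAzumayaDeg R A' n')
    (t : AzInv.LamInv R A lam) (t' : AzInv.LamInv R A' lam) :
    AzInv.SameType S lam t t' ↔
      ∀ q : PrimeSpectrum R, (∀ r : R, lam r - r ∈ q.asIdeal) →
        (Module.finrank q.asIdeal.ResidueField
            (Submodule.span q.asIdeal.ResidueField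
              (Set.range fun a : {a : A // t a = a} => (1 : q.asIdeal.ResidueField) ⊗ₜ[R] (a : A))) = Nat.choose (n + 1) 2 ↔
          Module.finrank q.asIdeal.ResidueField
            (Submodule.span q.asIdeal.ResidueField
              (Set.range fun a : {a : A' // t' a = a} => (1 : q.asIdeal.ResidueField) ⊗ₜ[R] (a : A'))) = Nat.choose (n' + 1) 2) := by
  classical
  obtain ⟨hAz, hrk⟩ := hA
  obtain ⟨hAz', hrk'⟩ := hA'
  haveI := hAz
  haveI := hAz'
  have hsq := SqrtTwo.hsq_of_two S h2
  have hramall_of : ∀ (q : PrimeSpectrum R), (∀ r, lam r - r ∈ q.asIdeal) →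
      ∀ (r : R) (q₂ : Ideal R), q₂.IsPrime →
        q₂.comap (algebraMap S R) = (PrimeSpectrum.comap (algebraMap S R) q).asIdeal →
        r - lam r ∈ q₂ := by
    intro q hq r q₂ hq₂ hq₂p
    obtain ⟨m, hm⟩ := (hfix.2 ((r - lam r) * (r - lam r))).mp (by
      show lam ((r - lam r) * (r - lam r)) = (r - lam r) * (r - lam r)
      rw [map_mul, map_sub, hlam]
      ring)
    have h1 : r - lam r ∈ q.asIdeal := by
      have := q.asIdeal.neg_mem (hq r)
      rwa [neg_sub] at this
    have hmp : m ∈ (PrimeSpectrum.comap (algebraMap S R) q).asIdeal := by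
      show algebraMap S R m ∈ q.asIdeal
      rw [hm]
      exact Ideal.mul_mem_left _ _ h1
    have h2' : algebraMap S R m ∈ q₂ := by
      have : m ∈ q₂.comap (algebraMap S R) := by rw [hq₂p]; exact hmp
      exact this
    rw [hm] at h2'
    rcases hq₂.mem_or_mem h2' with h | h <;> exact h
  have hw1 : ∀ N : ℕ, AzInv.LamInv.transpose lam (Fin N) hlam
      (↑(1 : (Matrix (Fin N) (Fin N) R)ˣ) : Matrix (Fin N) (Fin N) R) =
        (1 : R) • (↑(1 : (Matrix (Fin N) (Fin N) R)ˣ) : Matrix (Fin N) (Fin N) R) := by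
    intro N
    rw [one_smul, Units.val_one]
    exact (AzInv.LamInv.transpose lam (Fin N) hlam).map_one
  have he1 : lam 1 * 1 = 1 := by rw [map_one, mul_one]
  constructor
  · -- same type ⇒ equal signs
    rintro ⟨m, m', hm, hm', S₀, _, _, het₀, hff₀, f₀, hf₀1, hf₀2⟩ q hq
    haveI := het₀
    haveI := hff₀
    obtain ⟨p, hpdef⟩ : ∃ p, p = PrimeSpectrum.comap (algebraMap S R) q := ⟨_, rfl⟩
    have hramall := hramall_of q hq
    rw [← hpdef] at hramall
    obtain ⟨S₁, _, _, het₁, hmem₁, H₁⟩ :=
      MixExist.exists_pres_mixed S R lam hlam hfix hsq h2 A n hn hrk t p hramall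
    obtain ⟨S₂, _, _, het₂, hmem₂, H₂⟩ :=
      MixExist.exists_pres_mixed S R lam hlam hfix hsq h2 A' n' hn' hrk' t' p hramall
    haveI := het₁
    haveI := het₂
    have hp₀ : p ∈ Set.range (PrimeSpectrum.comap (algebraMap S S₀)) :=
      PrimeSpectrum.comap_surjective_of_faithfullyFlat (A := S) (B := S₀) p
    rw [hpdef] at hmem₁ hmem₂
    rcases H₁ with H₁ | ⟨k, hk, H₁⟩ <;> rcases H₂ with H₂ | ⟨k', hk', H₂⟩
    · have e1 := sigma_orth S R lam hlam hfix h2 n t q hq (hrk q) S₁ hmem₁ H₁
      have e2 := sigma_orth S R lam hlam hfix h2 n' t' q hq (hrk' q) S₂ hmem₂ H₂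
      exact ⟨fun _ => e2, fun _ => e1⟩
    · exfalso
      rw [← hpdef] at hmem₁ hmem₂
      exact MixTypeMain2.type_unique2 S R lam hlam hfix h2 n n' hn t t' p hramall S₁ hmem₁ H₁ S₂
        hmem₂ k' hk' H₂ m m' hm hm' S₀ hp₀ ⟨f₀, hf₀1, hf₀2⟩
    · exfalso
      rw [← hpdef] at hmem₁ hmem₂
      exact MixTypeMain2.type_unique2 S R lam hlam hfix h2 n' n hn' t' t p hramall S₂ hmem₂ H₂ S₁
        hmem₁ k hk H₁ m' m hm' hm S₀ hp₀ (IsoOps.Iso.symm lam ⟨f₀, hf₀1, hf₀2⟩)
    · have e1 := sigma_symp S R lam hlam hfix h2 n hn t q hq (hrk q) S₁ hmem₁ k hk H₁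
      have e2 := sigma_symp S R lam hlam hfix h2 n' hn' t' q hq (hrk' q) S₂ hmem₂ k' hk' H₂
      exact ⟨fun h => absurd h e1, fun h => absurd h e2⟩
  · -- equal signs ⇒ same type
    intro hσ
    refine ⟨n', n, hn', hn, ?_⟩
    apply LocIsoFamily.locIsoEt_of_family
    intro p
    haveI := Groth.Agent.S17356.isIntegral S R lam hlam hfix
    obtain ⟨q, -, hq, hqp⟩ := Ideal.exists_ideal_over_prime_of_isIntegral p.asIdeal
      (⊥ : Ideal R) (by
        intro x hx
        have h0 : algebraMap S R x = 0 := hx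
        have : x = 0 := hfix.1 (by rw [h0, map_zero])
        rw [this]
        exact p.asIdeal.zero_mem)
    haveI := hq
    by_cases hram : ∀ r, lam r - r ∈ q
    · -- ramified prime
      obtain ⟨qq, hqq⟩ : ∃ qq : PrimeSpectrum R, qq = ⟨q, hq⟩ := ⟨_, rfl⟩
      have hqq' : ∀ r, lam r - r ∈ qq.asIdeal := by rw [hqq]; exact hram
      have hpq : PrimeSpectrum.comap (algebraMap S R) qq = p := by
        rw [hqq]
        exact PrimeSpectrum.ext hqp
      have hramall := hramall_of qq hqq'
      rw [hpq] at hramall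
      obtain ⟨S₁, _, _, het₁, hmem₁, H₁⟩ :=
        MixExist.exists_pres_mixed S R lam hlam hfix hsq h2 A n hn hrk t p hramall
      obtain ⟨S₂, _, _, het₂, hmem₂, H₂⟩ :=
        MixExist.exists_pres_mixed S R lam hlam hfix hsq h2 A' n' hn' hrk' t' p hramall
      haveI := het₁
      haveI := het₂
      have hmem₁' := hmem₁
      have hmem₂' := hmem₂
      rw [← hpq] at hmem₁' hmem₂'
      rcases H₁ with H₁ | ⟨k, hk, H₁⟩ <;> rcases H₂ with H₂ | ⟨k', hk', H₂⟩
      · -- both orthogonal
        refine refine_chain lam (AzInv.LamInv.self lam hlam) n n' n' n (Nat.mul_comm n' n) p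
          ⟨S₁, inferInstance, inferInstance, het₁, hmem₁, ?_⟩
          ⟨S₂, inferInstance, inferInstance, het₂, hmem₂, ?_⟩
        · rw [← conj_one_eq lam hlam n (hw1 n) he1]
          exact RamPres.component lam hlam t 1 1 (hw1 n) he1 S₁ (by rw [Units.val_one]; exact H₁)
        · rw [← conj_one_eq lam hlam n' (hw1 n') he1]
          exact RamPres.component lam hlam t' 1 1 (hw1 n') he1 S₂ (by rw [Units.val_one]; exact H₂)
      · exfalso
        have e1 := sigma_orth S R lam hlam hfix h2 n t qq hqq' (hrk qq) S₁ hmem₁' H₁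
        have e2 := sigma_symp S R lam hlam hfix h2 n' hn' t' qq hqq' (hrk' qq) S₂ hmem₂' k' hk' H₂
        exact e2 ((hσ qq hqq').mp e1)
      · exfalso
        have e1 := sigma_symp S R lam hlam hfix h2 n hn t qq hqq' (hrk qq) S₁ hmem₁' k hk H₁
        have e2 := sigma_orth S R lam hlam hfix h2 n' t' qq hqq' (hrk' qq) S₂ hmem₂' H₂
        exact e1 ((hσ qq hqq').mpr e2)
      · -- both symplectic
        refine refine_chain lam (SympStd.sigma2 lam hlam) k k' n' n (by rw [hk, hk']; ring) p
          ⟨S₁, inferInstance, inferInstance, het₁, hmem₁, ?_⟩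
          ⟨S₂, inferInstance, inferInstance, het₂, hmem₂, ?_⟩
        · exact IsoOps.Iso.trans lam
            (RamPres.component lam hlam t (SympStd.wJ k hk) (-1) (SympStd.hwJ lam hlam k hk)
              (SympStd.he2 lam) S₁ H₁)
            (SympStd.iso_std lam hlam k hk S₁)
        · exact IsoOps.Iso.trans lam
            (RamPres.component lam hlam t' (SympStd.wJ k' hk') (-1) (SympStd.hwJ lam hlam k' hk')
              (SympStd.he2 lam) S₂ H₂)
            (SympStd.iso_std lam hlam k' hk' S₂)
    · -- unramified prime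
      push Not at hram
      obtain ⟨r₀, hr₀⟩ := hram
      obtain ⟨m₀, hm₀⟩ := (hfix.2 ((r₀ - lam r₀) * (r₀ - lam r₀))).mp (by
        show lam ((r₀ - lam r₀) * (r₀ - lam r₀)) = (r₀ - lam r₀) * (r₀ - lam r₀)
        rw [map_mul, map_sub, hlam]
        ring)
      have hmp : m₀ ∉ p.asIdeal := by
        intro hmp
        have h1 : algebraMap S R m₀ ∈ q := by
          have : m₀ ∈ q.comap (algebraMap S R) := by rw [hqp]; exact hmp
          exact this
        rw [hm₀] at h1
        have h2' : r₀ - lam r₀ ∈ q := by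
          rcases hq.mem_or_mem h1 with h | h <;> exact h
        apply hr₀
        have : lam r₀ - r₀ = -(r₀ - lam r₀) := by ring
        rw [this]
        exact q.neg_mem h2'
      exact refine_chain lam (AzInv.LamInv.self lam hlam) n n' n' n (Nat.mul_comm n' n) p
        (UnramLocal.exists_iso_unram S R lam hlam hfix A n hn hrk t
          ((AzInv.LamInv.self lam hlam).matrix (Fin n)) p r₀ m₀ hm₀ hmp)
        (UnramLocal.exists_iso_unram S R lam hlam hfix A' n' hn' hrk' t'
          ((AzInv.LamInv.self lam hlam).matrix (Fin n')) p r₀ m₀ hm₀ hmp)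

end Groth.Agent.S17361
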