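import Groth.Statements.S17362
import Groth.Agent.H96.SymSkew

set_option autoImplicit false
universe u v w
open scoped TensorProduct
open AzInv

namespace Groth.Agent.S17362

/-- Let `R` be a commutative ring with an involution `lam` whose fixed ring is exactly `S`, with `2` a
unit in `S`, and let `(A, t)` be an Azumaya `R`-algebra of degree `n ≥ 1` with a `lam`-involution.
For a prime `q` of `R` in the ramification locus (`lam` is the identity modulo `q`) call `t`
orthogonal at `q` when the images of the `t`-symmetric elements of `A` span a subspace of `k(q) ⊗_R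
A` of dimension `n (n + 1) / 2` over `k(q)` (the induced involution of the central simple algebra
`k(q) ⊗_R A` is then orthogonal, and symplectic otherwise). Then this orthogonal/symplectic sign is
locally constant on the ramification locus: every such `q` has a basic open neighbourhood `D(f)`
such that at every prime of the ramification locus inside `D(f)` the sign is the same as at `q`.
(The source states this for a good quotient of schemes by an involution with `2` invertible, as
local constancy of a sign function on the ramification locus; the row is the affine case with the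
sign spelled out by dimensions of symmetric elements.) -/
theorem result (S : Type u) (R : Type v) [CommRing S] [CommRing R] [Algebra S R]
    (lam : R ≃ₐ[S] R) (hlam : ∀ r, lam (lam r) = r) (hfix : RInv.IsFixedRing S R lam.toRingEquiv)
    (h2 : IsUnit (2 : S))
    (A : Type w) [Ring A] [Algebra S A] [Algebra R A] [IsScalarTower S R A]
    (n : ℕ) (hn : 0 < n) (hA : AzInv.IsAzumayaDeg R A n) (t : AzInv.LamInv R A lam)
    (q : PrimeSpectrum R) (hq : ∀ r : R, lam r - r ∈ q.asIdeal) :
    ∃ f : R, f ∉ q.asIdeal ∧ ∀ q' : PrimeSpectrum R, (∀ r : R, lam r - r ∈ q'.asIdeal) → f ∉ q'.asIdeal →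
      (Module.finrank q'.asIdeal.ResidueField
          (Submodule.span q'.asIdeal.ResidueField
            (Set.range fun a : {a : A // t a = a} => (1 : q'.asIdeal.ResidueField) ⊗ₜ[R] (a : A))) = Nat.choose (n + 1) 2 ↔
        Module.finrank q.asIdeal.ResidueField
            (Submodule.span q.asIdeal.ResidueField
              (Set.range fun a : {a : A // t a = a} => (1 : q.asIdeal.ResidueField) ⊗ₜ[R] (a : A))) = Nat.choose (n + 1) 2) := by
  obtain ⟨hAz, hrank⟩ := hA
  have := hAz
  obtain ⟨D1, hD1, h1⟩ := Groth.Agent.H96.RankLSC.module_lsc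
    (fun a : {a : A // t a = a} => (a : A)) q
  obtain ⟨D2, hD2, h2'⟩ := Groth.Agent.H96.RankLSC.module_lsc
    (fun a : {a : A // t a = -a} => (a : A)) q
  refine ⟨D1 * D2, fun h => (q.2.mem_or_mem h).elim hD1 hD2, fun q' hq' hf => ?_⟩
  have hf1 : D1 ∉ q'.asIdeal := fun h => hf (Ideal.mul_mem_right _ _ h)
  have hf2 : D2 ∉ q'.asIdeal := fun h => hf (Ideal.mul_mem_left _ _ h)
  have e1 := h1 q' hf1
  have e2 := h2' q' hf2
  have hKq : ∀ r, algebraMap R q.asIdeal.ResidueField (lam r) =
      algebraMap R q.asIdeal.ResidueField r := by
    intro r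
    rw [← sub_eq_zero, ← map_sub, Ideal.algebraMap_residueField_eq_zero]
    exact hq r
  have hKq' : ∀ r, algebraMap R q'.asIdeal.ResidueField (lam r) =
      algebraMap R q'.asIdeal.ResidueField r := by
    intro r
    rw [← sub_eq_zero, ← map_sub, Ideal.algebraMap_residueField_eq_zero]
    exact hq' r
  have s1 := Groth.Agent.H96.SymSkew.finrank_add lam t q.asIdeal.ResidueField hKq h2
  have s2 := Groth.Agent.H96.SymSkew.finrank_add lam t q'.asIdeal.ResidueField hKq' h2
  have r1 : Module.finrank q.asIdeal.ResidueField (q.asIdeal.ResidueField ⊗[R] A) = n ^ 2 := by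
    rw [← hrank q, Module.rankAtStalk_eq]
  have r2 : Module.finrank q'.asIdeal.ResidueField (q'.asIdeal.ResidueField ⊗[R] A) = n ^ 2 := by
    rw [← hrank q', Module.rankAtStalk_eq]
  rw [r1] at s1
  rw [r2] at s2
  unfold Groth.Agent.H96.SymSkew.Psym Groth.Agent.H96.SymSkew.Pskew at s1 s2
  have key : Module.finrank q'.asIdeal.ResidueField
          (Submodule.span q'.asIdeal.ResidueField
            (Set.range fun a : {a : A // t a = a} => (1 : q'.asIdeal.ResidueField) ⊗ₜ[R] (a : A))) =
        Module.finrank q.asIdeal.ResidueField
            (Submodule.span q.asIdeal.ResidueField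
              (Set.range fun a : {a : A // t a = a} => (1 : q.asIdeal.ResidueField) ⊗ₜ[R] (a : A))) := by
    omega
  rw [key]

end Groth.Agent.S17362
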