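import Groth.Statements.S17363
import Groth.Agent.H96.SkewHerm2

set_option autoImplicit false
universe u v
open scoped TensorProduct
open RInv

namespace Groth.Agent.S17363

/-- Let `A` be a commutative ring with an involution `lam` whose fixed ring `B` is local; assume that
`lam` is the identity modulo the Jacobson radical of `A`, that `2` is a unit of `A`, and that `h` is
an invertible `2 × 2` matrix over `A` with `h = -(lam h)ᵀ` whose entries are congruent modulo the
Jacobson radical to those of the matrix with rows `(0, 1)`, `(-1, 0)`. Then there are units `s, t`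
of `B`, finitely many elements `f_i` of `B' = B[X, Y]/(X² - s, Y² - t)` (`B` with square roots of
`s` and `t` adjoined) that generate the unit ideal, and for every `i` an invertible `2 × 2` matrix
`v` over `B'_{f_i} ⊗_B A` (that is, `A` with the two square roots adjoined, localised at `f_i`;
`lam` extends so as to fix the square roots) such that `(lam v)ᵀ h v` is the matrix with rows `(0,
1)`, `(-1, 0)`. (The published statement writes the congruence with the plain transpose `vᵀ h v`,
which fails in general: for a field `k` of characteristic not `2`, the ring `A` of formal power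
series in `y` over `k`, with `B` its subring of series in `y²`, `lam y = -y` and `h` with rows `(y,
1)`, `(-1, y)`, satisfies every hypothesis, while `vᵀ h v` equal to the matrix with rows `(0, 1)`,
`(-1, 0)` would, added to its transpose, give `2y · vᵀ v = 0` and hence `det v = 0` over a nonzero
ring in which `y` is not a zero divisor. The proof computes the Gram matrix of the hermitian form
`(a, b) ↦ (lam a)ᵀ h b` in a new basis, which is `(lam v)ᵀ h v`, and that is what is stated here.) -/
theorem result (B : Type u) (A : Type v) [CommRing B] [CommRing A]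
    [Algebra B A] (lam : A ≃ₐ[B] A) (hlam : ∀ a, lam (lam a) = a) (hB : RInv.IsFixedRing B A lam.toRingEquiv)
    [IsLocalRing B] (hid : ∀ a : A, lam a - a ∈ Ring.jacobson A) (h2 : IsUnit (2 : A))
    (h : Matrix (Fin 2) (Fin 2) A) (hh : IsUnit h) (herm : -(h.map lam).transpose = h)
    (hJ : ∀ i j : Fin 2, h i j - Matrix.of ![![(0 : A), 1], ![-1, 0]] i j ∈ Ring.jacobson A) :
    ∃ (s t : Bˣ) (r : ℕ) (f : Fin r → (MvPolynomial (Fin 2) B ⧸ Ideal.span ({MvPolynomial.X 0 ^ 2 - MvPolynomial.C (s : B), MvPolynomial.X 1 ^ 2 - MvPolynomial.C (t : B)} : Set (MvPolynomial (Fin 2) B)))),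
      Ideal.span (Set.range f) = ⊤ ∧
      ∀ i : Fin r, ∃ v : Matrix (Fin 2) (Fin 2) (Localization.Away (f i) ⊗[B] A), IsUnit v ∧
        (v.map (Algebra.TensorProduct.congr (AlgEquiv.refl : Localization.Away (f i) ≃ₐ[Localization.Away (f i)] Localization.Away (f i)) lam)).transpose * h.map (Algebra.TensorProduct.includeRight : A →ₐ[B] Localization.Away (f i) ⊗[B] A) * v
          = (Matrix.of ![![(0 : A), 1], ![-1, 0]]).map (Algebra.TensorProduct.includeRight : A →ₐ[B] Localization.Away (f i) ⊗[B] A) := by
  classical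
  obtain ⟨hinj, hfixed⟩ := hB
  have hJb : Ring.jacobson A = Ideal.jacobson (⊥ : Ideal A) := Ideal.jacobson_bot.symm
  haveI : Nontrivial A := hinj.nontrivial
  have hb : IsUnit (h 0 1) := by
    apply Ideal.isUnit_of_sub_one_mem_jacobson_bot
    rw [← hJb]
    have := hJ 0 1
    simpa using this
  have hfix : ∀ x : A, lam x = x → ∃ β : B, algebraMap B A β = x := fun x hx =>
    (hfixed x).mp hx
  have hent : ∀ i j, lam (h j i) = - h i j := by
    intro i j
    have := congrFun (congrFun herm i) j
    simp only [Matrix.neg_apply, Matrix.transpose_apply, Matrix.map_apply] at this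
    rw [← this, neg_neg]
  -- one half
  obtain ⟨u2, hu2⟩ := h2
  obtain ⟨hf, hhf⟩ : ∃ x : A, x = ((u2⁻¹ : Aˣ) : A) := ⟨_, rfl⟩
  have h2' : 2 * hf = 1 := by rw [hhf, ← hu2, Units.mul_inv]
  have hlamhf : lam hf = hf := by
    have h3 : 2 * lam hf = 1 := by
      have := congrArg lam h2'
      rw [map_mul, map_ofNat, map_one] at this
      exact this
    calc lam hf = lam hf * (2 * hf) := by rw [h2', mul_one]
      _ = (2 * lam hf) * hf := by ring
      _ = hf := by rw [h3, one_mul]
  obtain ⟨half, hhalf⟩ := hfix hf hlamhf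
  have hhalf2 : half * 2 = 1 := by
    apply hinj
    rw [map_mul, hhalf, map_ofNat, map_one, mul_comm, h2']
  -- the element γ
  obtain ⟨ub, hub⟩ := hb
  obtain ⟨bbinv, hbbinv⟩ : ∃ x : A, x = ((ub⁻¹ : Aˣ) : A) * lam ((ub⁻¹ : Aˣ) : A) := ⟨_, rfl⟩
  have hbb : (h 0 1 * lam (h 0 1)) * bbinv = 1 := by
    rw [hbbinv, ← hub]
    have h1 : (ub : A) * ((ub⁻¹ : Aˣ) : A) = 1 := Units.mul_inv ub
    have h2 : lam (ub : A) * lam ((ub⁻¹ : Aˣ) : A) = 1 := by rw [← map_mul, h1, map_one]
    calc (ub : A) * lam (ub : A) * (((ub⁻¹ : Aˣ) : A) * lam ((ub⁻¹ : Aˣ) : A))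
        = ((ub : A) * ((ub⁻¹ : Aˣ) : A)) * (lam (ub : A) * lam ((ub⁻¹ : Aˣ) : A)) := by ring
      _ = 1 := by rw [h1, h2, one_mul]
  have hlambbinv : lam bbinv = bbinv := by
    rw [hbbinv, map_mul, hlam, mul_comm]
  obtain ⟨γ, hγ⟩ := hfix (h 0 0 * h 1 1 * bbinv) (by
    rw [map_mul, map_mul, hent 0 0, hent 1 1, hlambbinv]; ring)
  have hγ' : algebraMap B A γ * (h 0 1 * lam (h 0 1)) = h 0 0 * h 1 1 := by
    rw [hγ]
    calc h 0 0 * h 1 1 * bbinv * (h 0 1 * lam (h 0 1))
        = h 0 0 * h 1 1 * ((h 0 1 * lam (h 0 1)) * bbinv) := by ring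
      _ = h 0 0 * h 1 1 := by rw [hbb, mul_one]
  have hs : IsUnit (1 + γ) := by
    rcases IsLocalRing.isUnit_or_isUnit_of_add_one (a := 1 + γ) (b := -γ) (by ring) with h1 | h1
    · exact h1
    · exfalso
      have h3 : IsUnit (algebraMap B A γ) := by
        have := (h1.neg.map (algebraMap B A))
        rwa [neg_neg] at this
      rw [hγ, mul_assoc] at h3
      have h4 : IsUnit (h 0 0) := isUnit_of_mul_isUnit_left h3
      obtain ⟨ua, hua⟩ := h4
      have h5 : h 0 0 ∈ Ideal.jacobson (⊥ : Ideal A) := by
        rw [← hJb]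
        have := hJ 0 0
        simpa using this
      have h6 := (Ideal.mem_jacobson_bot.mp h5) (-((ua⁻¹ : Aˣ) : A))
      rw [← hua, mul_neg, Units.mul_inv, neg_add_cancel] at h6
      exact not_isUnit_zero h6
  obtain ⟨s, hs'⟩ := hs
  -- the quotient ring
  set I : Ideal (MvPolynomial (Fin 2) B) := Ideal.span ({MvPolynomial.X 0 ^ 2 - MvPolynomial.C (s : B),
    MvPolynomial.X 1 ^ 2 - MvPolynomial.C ((1 : Bˣ) : B)} : Set (MvPolynomial (Fin 2) B)) with hI
  set xb : MvPolynomial (Fin 2) B ⧸ I := Ideal.Quotient.mk I (MvPolynomial.X 0) with hxb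
  have hxb2 : xb ^ 2 = algebraMap B (MvPolynomial (Fin 2) B ⧸ I) (s : B) := by
    rw [hxb, ← map_pow]
    have : (MvPolynomial.X 0 ^ 2 - MvPolynomial.C (s : B) : MvPolynomial (Fin 2) B) ∈ I :=
      Ideal.subset_span (by simp)
    have h1 := (Ideal.Quotient.eq_zero_iff_mem).mpr this
    rw [map_sub, sub_eq_zero] at h1
    rw [h1]
    rfl
  refine ⟨s, 1, 2, ![1 + xb, 1 - xb], ?_, ?_⟩
  · have hmem : (1 + xb) + (1 - xb) ∈ Ideal.span (Set.range ![1 + xb, 1 - xb]) := by
      apply Ideal.add_mem
      · exact Ideal.subset_span ⟨0, rfl⟩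
      · exact Ideal.subset_span ⟨1, rfl⟩
    apply Ideal.eq_top_of_isUnit_mem _ hmem
    have : (1 + xb) + (1 - xb) = (2 : MvPolynomial (Fin 2) B ⧸ I) := by ring
    rw [this, isUnit_iff_exists_inv]
    refine ⟨algebraMap B _ half, ?_⟩
    rw [← map_ofNat (algebraMap B (MvPolynomial (Fin 2) B ⧸ I)) 2, ← map_mul, mul_comm, hhalf2,
      map_one]
  · rw [Fin.forall_fin_two]
    constructor
    · show ∃ v : Matrix (Fin 2) (Fin 2) (Localization.Away (1 + xb) ⊗[B] A), _
      have hμ : IsLocalization.Away.invSelf (S := Localization.Away (1 + xb)) (1 + xb) *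
          (1 + algebraMap _ (Localization.Away (1 + xb)) xb) = 1 := by
        have := IsLocalization.Away.mul_invSelf (S := Localization.Away (1 + xb)) (1 + xb)
        have e : algebraMap (MvPolynomial (Fin 2) B ⧸ I) (Localization.Away (1 + xb)) (1 + xb) =
            1 + algebraMap _ (Localization.Away (1 + xb)) xb := by
          rw [map_add, map_one]
        rw [e] at this
        rw [mul_comm]
        exact this
      have hξ : (algebraMap _ (Localization.Away (1 + xb)) xb) ^ 2 =
          algebraMap B (Localization.Away (1 + xb)) (1 + γ) := by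
        rw [← map_pow, hxb2, ← IsScalarTower.algebraMap_apply, hs']
      exact Groth.Agent.H96.SkewHerm2.core lam h hh herm ⟨ub, hub⟩ hf h2' γ hγ'
        (Localization.Away (1 + xb)) _ _ hμ hξ
    · show ∃ v : Matrix (Fin 2) (Fin 2) (Localization.Away (1 - xb) ⊗[B] A), _
      have hμ : IsLocalization.Away.invSelf (S := Localization.Away (1 - xb)) (1 - xb) *
          (1 + -algebraMap _ (Localization.Away (1 - xb)) xb) = 1 := by
        have := IsLocalization.Away.mul_invSelf (S := Localization.Away (1 - xb)) (1 - xb)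
        have e : algebraMap (MvPolynomial (Fin 2) B ⧸ I) (Localization.Away (1 - xb)) (1 - xb) =
            1 + -algebraMap _ (Localization.Away (1 - xb)) xb := by
          rw [map_sub, map_one]
          exact sub_eq_add_neg _ _
        rw [e] at this
        rw [mul_comm]
        exact this
      have hξ : (-algebraMap _ (Localization.Away (1 - xb)) xb) ^ 2 =
          algebraMap B (Localization.Away (1 - xb)) (1 + γ) := by
        rw [neg_sq, ← map_pow, hxb2, ← IsScalarTower.algebraMap_apply, hs']
      exact Groth.Agent.H96.SkewHerm2.core lam h hh herm ⟨ub, hub⟩ hf h2' γ hγ'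
        (Localization.Away (1 - xb)) _ _ hμ hξ

end Groth.Agent.S17363
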