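import Groth.Statements.S17364
import Groth.Agent.H96.HermDescent
import Groth.Agent.H96.SqrtRing

set_option autoImplicit false
universe u v
open scoped TensorProduct
open RInv

namespace Groth.Agent.S17364

open Groth.Agent.H96.SqrtRing Groth.Agent.H96.HermDescent

section Aux

variable {B : Type u} [CommRing B]

/-- The canonical map `B_b → B_p` for `b ∉ p`. -/
noncomputable def toAtPrime (p : Ideal B) [p.IsPrime] (b : B) (hb : b ∈ p.primeCompl) :
    Localization.Away b →ₐ[B] Localization.AtPrime p :=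
  IsLocalization.Away.liftAlgHom (S := Localization.Away b) b
    (f := Algebra.ofId B (Localization.AtPrime p)) (IsLocalization.map_units _ ⟨b, hb⟩)

theorem exists_units_lift (p : Ideal B) [p.IsPrime] {l : ℕ}
    (s : Fin l → (Localization.AtPrime p)ˣ) :
    ∃ (b₀ : B) (hb₀ : b₀ ∈ p.primeCompl) (s₀ : Fin l → (Localization.Away b₀)ˣ),
      ∀ k, toAtPrime p b₀ hb₀ (s₀ k : Localization.Away b₀) = (s k : Localization.AtPrime p) := by
  classical
  have h : ∀ k, ∃ (σ : B) (t : p.primeCompl), σ ∈ p.primeCompl ∧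
      (s k : Localization.AtPrime p) = IsLocalization.mk' _ σ t := by
    intro k
    obtain ⟨σ, t, h⟩ := IsLocalization.exists_mk'_eq p.primeCompl (s k : Localization.AtPrime p)
    refine ⟨σ, t, ?_, h.symm⟩
    have := (s k).isUnit
    rw [← h, IsLocalization.AtPrime.isUnit_mk'_iff (Localization.AtPrime p) p] at this
    exact this
  choose σ t hσ hst using h
  let b₀ : B := ∏ k, σ k * (t k : B)
  have hb₀ : b₀ ∈ p.primeCompl :=
    Submonoid.prod_mem _ fun k _ => Submonoid.mul_mem _ (hσ k) (t k).2
  have hσu : ∀ k, IsUnit (algebraMap B (Localization.Away b₀) (σ k)) := fun k =>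
    IsLocalization.Away.isUnit_of_dvd b₀
      (Dvd.dvd.trans (Dvd.intro _ rfl) (Finset.dvd_prod_of_mem _ (Finset.mem_univ k)))
  have htu : ∀ k, IsUnit (algebraMap B (Localization.Away b₀) (t k : B)) := fun k =>
    IsLocalization.Away.isUnit_of_dvd b₀
      (Dvd.dvd.trans (Dvd.intro_left _ rfl) (Finset.dvd_prod_of_mem _ (Finset.mem_univ k)))
  refine ⟨b₀, hb₀, fun k => (hσu k).unit * (htu k).unit⁻¹, fun k => ?_⟩
  rw [hst k, IsLocalization.eq_mk'_iff_mul_eq]
  have e1 : algebraMap B (Localization.AtPrime p) (t k : B) =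
      toAtPrime p b₀ hb₀ (algebraMap B _ (t k : B)) := ((toAtPrime p b₀ hb₀).commutes _).symm
  rw [e1, ← map_mul, Units.val_mul, mul_assoc]
  have e2 : (((htu k).unit⁻¹ : (Localization.Away b₀)ˣ) : Localization.Away b₀) *
      algebraMap B _ (t k : B) = 1 := by
    have := (htu k).unit.inv_mul
    rwa [IsUnit.unit_spec] at this
  rw [e2, mul_one, IsUnit.unit_spec, AlgHom.commutes]

end Aux

theorem smul_cancel_of_isUnit {R S : Type*} [CommSemiring R] [Semiring S] [Algebra R S] {m : R}
    (hm : IsUnit (algebraMap R S m)) {x y : S} (h : m • x = m • y) : x = y := by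
  rw [Algebra.smul_def, Algebra.smul_def] at h
  exact hm.mul_left_cancel h

section Main

variable {B : Type u} {A : Type v} [CommRing B] [CommRing A] [Algebra B A] (lam : A ≃ₐ[B] A)
  {n : ℕ} (h h' : Matrix (Fin n) (Fin n) A)

/-- The solution property over a `B`-algebra `C`. -/
def Sol (C : Type u) [CommRing C] [Algebra B C] : Prop :=
  ∃ v : Matrix (Fin n) (Fin n) (C ⊗[B] A), IsUnit v ∧
    (v.map (Algebra.TensorProduct.congr (AlgEquiv.refl : C ≃ₐ[C] C) lam)).transpose *
      h.map (Algebra.TensorProduct.includeRight : A →ₐ[B] C ⊗[B] A) * v =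
      h'.map (Algebra.TensorProduct.includeRight : A →ₐ[B] C ⊗[B] A)

/-- The descended solution property from `C₀`, valid wherever `m` becomes invertible. -/
def DescProp (C₀ : Type u) [CommRing C₀] [Algebra B C₀] (m : B) : Prop :=
  ∀ (D' : Type (max u v)) [CommRing D'] [Algebra B D'] (τ' : D' →ₐ[B] D')
    (ρ : C₀ ⊗[B] A →ₐ[B] D'), ρ.comp (tauD A lam C₀) = τ'.comp ρ →
    IsUnit (algebraMap B D' m) →
    ∃ v' : Matrix (Fin n) (Fin n) D', IsUnit v' ∧
      (v'.map τ').transpose *
        (h.map (Algebra.TensorProduct.includeRight : A →ₐ[B] C₀ ⊗[B] A)).map ρ * v' =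
      (h'.map (Algebra.TensorProduct.includeRight : A →ₐ[B] C₀ ⊗[B] A)).map ρ

theorem map_includeRight {C₀ C₁ : Type u} [CommRing C₀] [CommRing C₁] [Algebra B C₀]
    [Algebra B C₁] (γ : C₀ →ₐ[B] C₁) (hh : Matrix (Fin n) (Fin n) A) :
    (hh.map (Algebra.TensorProduct.includeRight : A →ₐ[B] C₀ ⊗[B] A)).map (tensMap A γ) =
      hh.map (Algebra.TensorProduct.includeRight : A →ₐ[B] C₁ ⊗[B] A) := by
  ext i j
  simp

theorem sol_of_descProp {C₀ C₁ : Type u} [CommRing C₀] [CommRing C₁] [Algebra B C₀]
    [Algebra B C₁] (γ : C₀ →ₐ[B] C₁) (m : B) (hD : DescProp lam h h' C₀ m)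
    (hm : IsUnit (algebraMap B C₁ m)) : Sol lam h h' C₁ := by
  have hu : IsUnit (algebraMap B (C₁ ⊗[B] A) m) := by
    rw [Algebra.TensorProduct.algebraMap_apply]
    exact hm.map (Algebra.TensorProduct.includeLeft : C₁ →ₐ[B] C₁ ⊗[B] A)
  obtain ⟨v', hv'u, hv'eq⟩ := hD (C₁ ⊗[B] A) (tauD A lam C₁) (tensMap A γ)
    (tens_tau_comm A γ lam) hu
  refine ⟨v', hv'u, ?_⟩
  rw [map_includeRight, map_includeRight] at hv'eq
  have e2 : v'.map (tauD A lam C₁) =
      v'.map (Algebra.TensorProduct.congr (AlgEquiv.refl : C₁ ≃ₐ[C₁] C₁) lam) := by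
    ext i j
    exact tauD_eq A lam C₁ _
  rw [← e2]
  exact hv'eq

theorem descProp_of_sol (M : Submonoid B) {C₀ C₁ : Type u} [CommRing C₀] [CommRing C₁]
    [Algebra B C₀] [Algebra B C₁] (γ : C₀ →ₐ[B] C₁) [IsLocalizedModule M γ.toLinearMap]
    (hS : Sol lam h h' C₁) : ∃ m ∈ M, DescProp lam h h' C₀ m := by
  obtain ⟨v, hvu, hveq⟩ := hS
  haveI : IsLocalizedModule M (tensMap A γ).toLinearMap := tensMap_isLocalizedModule A γ M
  refine desc M (tauD A lam C₀) (tauD A lam C₁) (tensMap A γ) (tens_tau_comm A γ lam)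
    (h.map (Algebra.TensorProduct.includeRight : A →ₐ[B] C₀ ⊗[B] A))
    (h'.map (Algebra.TensorProduct.includeRight : A →ₐ[B] C₀ ⊗[B] A)) v hvu ?_
  have e2 : v.map (tauD A lam C₁) =
      v.map (Algebra.TensorProduct.congr (AlgEquiv.refl : C₁ ≃ₐ[C₁] C₁) lam) := by
    ext i j
    exact tauD_eq A lam C₁ _
  rw [map_includeRight, map_includeRight, e2]
  exact hveq

end Main

/-- Let `A` be a commutative ring with an involution `lam` whose fixed ring is `B`, let `ε = ±1`, and
let `h, h'` be invertible `n × n` matrices over `A` with `h = ε (lam h)ᵀ` and `h' = ε (lam h')ᵀ`.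
Let `p` be a prime of `B` and suppose there are units `s_1, …, s_l` of the local ring `B_p`,
elements `f_1, …, f_r` of `B_p[X_1, …, X_l]/(X_k² - s_k)` (square roots of the `s_k` adjoined)
generating the unit ideal, and for each `i` an invertible matrix `v` over `C ⊗_B A` for the
localisation `C` of that ring at `f_i` (any `B`-algebra with the universal property of that
localisation) (`lam` extended so as to fix the square roots and `B_p`) with `(lam v)ᵀ h v = h'`.
Then there is `b ∉ p` in `B` such that the same kind of data exists with `B_p` replaced by `B_b`: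
units of `B_b`, a finite family generating the unit ideal of `B_b[X_1, …, X_l]/(X_k² - s_k)`, and
invertible matrices over the corresponding localisations tensored with `A` congruating `h` to `h'`. -/
theorem result (B : Type u) (A : Type v) [CommRing B] [CommRing A]
    [Algebra B A] (lam : A ≃ₐ[B] A) (hlam : ∀ a, lam (lam a) = a) (hB : RInv.IsFixedRing B A lam.toRingEquiv)
    (n : ℕ) (ε : A) (hε : ε = 1 ∨ ε = -1) (h h' : Matrix (Fin n) (Fin n) A) (hh : IsUnit h) (hh' : IsUnit h')
    (herm : ε • (h.map lam).transpose = h) (herm' : ε • (h'.map lam).transpose = h')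
    (p : Ideal B) [p.IsPrime]
    (hdata : (∃ (l : ℕ) (s : Fin l → (Localization.AtPrime p)ˣ) (r : ℕ) (f : Fin r → (MvPolynomial (Fin l) (Localization.AtPrime p) ⧸ Ideal.span (Set.range fun k : Fin l => MvPolynomial.X k ^ 2 - MvPolynomial.C (s k : Localization.AtPrime p)))),
        Ideal.span (Set.range f) = ⊤ ∧
        ∀ (i : Fin r) (C : Type u) [CommRing C] [Algebra B C]
          [Algebra (MvPolynomial (Fin l) (Localization.AtPrime p) ⧸ Ideal.span (Set.range fun k : Fin l => MvPolynomial.X k ^ 2 - MvPolynomial.C (s k : Localization.AtPrime p))) C]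
          [IsScalarTower B (MvPolynomial (Fin l) (Localization.AtPrime p) ⧸ Ideal.span (Set.range fun k : Fin l => MvPolynomial.X k ^ 2 - MvPolynomial.C (s k : Localization.AtPrime p))) C]
          [IsLocalization.Away (f i) C],
          ∃ v : Matrix (Fin n) (Fin n) (C ⊗[B] A), IsUnit v ∧
            (v.map (Algebra.TensorProduct.congr (AlgEquiv.refl : C ≃ₐ[C] C) lam)).transpose * h.map (Algebra.TensorProduct.includeRight : A →ₐ[B] C ⊗[B] A) * v = h'.map (Algebra.TensorProduct.includeRight : A →ₐ[B] C ⊗[B] A))) :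
    ∃ b : B, b ∉ p ∧
      (∃ (l : ℕ) (s : Fin l → (Localization.Away b)ˣ) (r : ℕ) (f : Fin r → (MvPolynomial (Fin l) (Localization.Away b) ⧸ Ideal.span (Set.range fun k : Fin l => MvPolynomial.X k ^ 2 - MvPolynomial.C (s k : Localization.Away b)))),
        Ideal.span (Set.range f) = ⊤ ∧
        ∀ (i : Fin r) (C : Type u) [CommRing C] [Algebra B C]
          [Algebra (MvPolynomial (Fin l) (Localization.Away b) ⧸ Ideal.span (Set.range fun k : Fin l => MvPolynomial.X k ^ 2 - MvPolynomial.C (s k : Localization.Away b))) C]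
          [IsScalarTower B (MvPolynomial (Fin l) (Localization.Away b) ⧸ Ideal.span (Set.range fun k : Fin l => MvPolynomial.X k ^ 2 - MvPolynomial.C (s k : Localization.Away b))) C]
          [IsLocalization.Away (f i) C],
          ∃ v : Matrix (Fin n) (Fin n) (C ⊗[B] A), IsUnit v ∧
            (v.map (Algebra.TensorProduct.congr (AlgEquiv.refl : C ≃ₐ[C] C) lam)).transpose * h.map (Algebra.TensorProduct.includeRight : A →ₐ[B] C ⊗[B] A) * v = h'.map (Algebra.TensorProduct.includeRight : A →ₐ[B] C ⊗[B] A)) := by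
  classical
  obtain ⟨l, s, r, f, hf, hv⟩ := hdata
  obtain ⟨b₀, hb₀, s₀, hs₀⟩ := exists_units_lift p s
  -- the localisation `T₀ → T_p`
  have hloc : IsLocalizedModule p.primeCompl
      (Tmap (toAtPrime p b₀ hb₀) (fun k => (s₀ k : Localization.Away b₀))
        (fun k => (s k : Localization.AtPrime p)) hs₀).toLinearMap := by
    letI : Algebra (Localization.Away b₀) (Localization.AtPrime p) :=
      (toAtPrime p b₀ hb₀).toRingHom.toAlgebra
    haveI : IsScalarTower B (Localization.Away b₀) (Localization.AtPrime p) :=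
      IsScalarTower.of_algebraMap_eq fun x => ((toAtPrime p b₀ hb₀).commutes x).symm
    haveI : IsLocalization (Algebra.algebraMapSubmonoid (Localization.Away b₀) p.primeCompl)
        (Localization.AtPrime p) :=
      IsLocalization.isLocalization_of_submonoid_le (Localization.Away b₀)
        (Localization.AtPrime p) (Submonoid.powers b₀) p.primeCompl
        (by rw [Submonoid.powers_le]; exact hb₀)
    exact TLoc' p.primeCompl _ _ (toAtPrime p b₀ hb₀) (fun x => rfl) hs₀
  set g₀ := Tmap (toAtPrime p b₀ hb₀) (fun k => (s₀ k : Localization.Away b₀))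
    (fun k => (s k : Localization.AtPrime p)) hs₀ with hg₀
  -- lift `f` and a partition of unity
  obtain ⟨gc, hg1⟩ : ∃ c : Fin r → T (Localization.AtPrime p)
      (fun k => (s k : Localization.AtPrime p)), ∑ i, c i * f i = 1 := by
    have : (1 : T (Localization.AtPrime p) (fun k => (s k : Localization.AtPrime p))) ∈
        Ideal.span (Set.range f) := by
      rw [hf]
      trivial
    exact (Ideal.mem_span_range_iff_exists_fun).mp this
  obtain ⟨mf, hmf, hlift⟩ := exists_common p.primeCompl g₀.toLinearMap (Sum.elim f gc)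
  choose X hX using hlift
  have hf₀ : ∀ i, g₀ (X (Sum.inl i)) = mf • f i := fun i => hX (Sum.inl i)
  have hc₀ : ∀ i, g₀ (X (Sum.inr i)) = mf • gc i := fun i => hX (Sum.inr i)
  have hrel0 : g₀ (∑ i, X (Sum.inr i) * X (Sum.inl i)) = g₀ ((mf * mf) • 1) := by
    rw [map_sum, map_smul, map_one]
    simp_rw [map_mul, hf₀, hc₀, smul_mul_smul_comm]
    rw [← Finset.smul_sum, hg1]
  obtain ⟨m', hm', hrel⟩ := exists_common_eq p.primeCompl g₀.toLinearMap
    (fun _ : Unit => ∑ i, X (Sum.inr i) * X (Sum.inl i)) (fun _ => (mf * mf) • 1)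
    (fun _ => hrel0)
  replace hrel := hrel ()
  -- descend the solutions
  have hmfu : IsUnit (algebraMap B (T (Localization.AtPrime p)
      (fun k => (s k : Localization.AtPrime p))) mf) := by
    rw [IsScalarTower.algebraMap_apply B (Localization.AtPrime p)]
    exact (IsLocalization.map_units (Localization.AtPrime p) (⟨mf, hmf⟩ : p.primeCompl)).map _
  have hdesc : ∀ i : Fin r, ∃ m ∈ p.primeCompl,
      DescProp lam h h' (Localization.Away (X (Sum.inl i))) m := by
    intro i
    haveI : IsLocalization.Away (g₀ (X (Sum.inl i))) (Localization.Away (f i)) := by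
      rw [hf₀ i]
      refine IsLocalization.Away.of_associated (r := f i) ⟨hmfu.unit, ?_⟩
      exact (mul_comm (f i) _).trans (Algebra.smul_def mf (f i)).symm
    haveI := hloc
    haveI : IsLocalizedModule p.primeCompl
        (awayMap g₀ (X (Sum.inl i)) (Localization.Away (X (Sum.inl i)))
          (Localization.Away (f i))).toLinearMap :=
      awayMap_isLocalizedModule g₀ (X (Sum.inl i)) _ _ p.primeCompl
    exact descProp_of_sol lam h h' p.primeCompl
      (awayMap g₀ (X (Sum.inl i)) (Localization.Away (X (Sum.inl i)))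
          (Localization.Away (f i))) (hv i (Localization.Away (f i)))
  choose mi hmi hD using hdesc
  -- the final localisation
  have hcM : mf * m' * ∏ i, mi i ∈ p.primeCompl :=
    Submonoid.mul_mem _ (Submonoid.mul_mem _ hmf hm') (Submonoid.prod_mem _ fun i _ => hmi i)
  refine ⟨b₀ * (mf * m' * ∏ i, mi i), Submonoid.mul_mem _ hb₀ hcM, ?_⟩
  set b := b₀ * (mf * m' * ∏ i, mi i) with hb
  have hdvd_mf : mf ∣ b := Dvd.dvd.mul_left (Dvd.dvd.mul_right (Dvd.intro _ rfl) _) _
  have hdvd_m' : m' ∣ b := Dvd.dvd.mul_left (Dvd.dvd.mul_right (Dvd.intro_left _ rfl) _) _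
  have hdvd_mi : ∀ i, mi i ∣ b := fun i =>
    Dvd.dvd.mul_left (Dvd.dvd.mul_left (Finset.dvd_prod_of_mem _ (Finset.mem_univ i)) _) _
  let ψb : Localization.Away b₀ →ₐ[B] Localization.Away b :=
    IsLocalization.Away.liftAlgHom (S := Localization.Away b₀) b₀
      (f := Algebra.ofId B (Localization.Away b))
      (IsLocalization.Away.isUnit_of_dvd b (Dvd.intro _ rfl))
  let sb : Fin l → (Localization.Away b)ˣ := fun k =>
    Units.map (ψb : Localization.Away b₀ →* Localization.Away b) (s₀ k)
  let gb : T (Localization.Away b₀) (fun k => (s₀ k : Localization.Away b₀)) →ₐ[B]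
      T (Localization.Away b) (fun k => (sb k : Localization.Away b)) :=
    Tmap ψb _ _ (fun k => rfl)
  have hu : ∀ x : B, x ∣ b → IsUnit (algebraMap B
      (T (Localization.Away b) (fun k => (sb k : Localization.Away b))) x) := by
    intro x hx
    rw [IsScalarTower.algebraMap_apply B (Localization.Away b)]
    exact (IsLocalization.Away.isUnit_of_dvd b hx).map _
  refine ⟨l, sb, r, fun i => gb (X (Sum.inl i)), ?_, ?_⟩
  · -- the unit ideal
    have h1 := congrArg gb hrel
    rw [map_smul, map_smul, map_smul, map_one, map_sum] at h1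
    have h2 := smul_cancel_of_isUnit (hu m' hdvd_m') h1
    have e : (mf * mf) • (1 : T (Localization.Away b) (fun k => (sb k : Localization.Away b))) =
        algebraMap B _ (mf * mf) := (Algebra.algebraMap_eq_smul_one _).symm
    rw [e] at h2
    have hmm : IsUnit (algebraMap B
        (T (Localization.Away b) (fun k => (sb k : Localization.Away b))) (mf * mf)) := by
      rw [map_mul]
      exact (hu mf hdvd_mf).mul (hu mf hdvd_mf)
    apply Ideal.eq_top_of_isUnit_mem _ _ hmm
    rw [← h2]
    refine Ideal.sum_mem _ fun i _ => ?_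
    rw [map_mul]
    refine Ideal.mul_mem_left _ _ (Ideal.subset_span ?_)
    exact Set.mem_range_self i
  · intro i C' _ _ _ _ _
    have hmu : IsUnit (algebraMap B C' (mi i)) := by
      rw [IsScalarTower.algebraMap_apply B
        (T (Localization.Away b) (fun k => (sb k : Localization.Away b))) C']
      exact (hu (mi i) (hdvd_mi i)).map _
    exact sol_of_descProp lam h h' (awayMap gb (X (Sum.inl i))
      (Localization.Away (X (Sum.inl i))) C') (mi i) (hD i) hmu


end Groth.Agent.S17364
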