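import Groth.Statements.S17368
import Mathlib
import Groth.Agent.S11464
import Groth.Agent.H30.NilFlat2
-- import your own Groth.Agent.* helpers here

set_option autoImplicit false
universe u
open scoped TensorProduct
open Deform

set_option linter.style.haveILetI false
set_option linter.unusedSectionVars false
set_option linter.unusedVariables false

namespace Groth.Agent.S17368

open TensorProduct
open Groth.Agent.S11464

section
variable {C' : Type u} [CommRing C'] (J : Ideal C')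
  {A' : Type u} [CommRing A'] [Algebra C' A']

theorem mul_eq_zero_of_mem (hJJ : J * J = ⊥) {j j' : C'} (hj : j ∈ J) (hj' : j' ∈ J) :
    j * j' = 0 := by
  have h : j * j' ∈ J * J := Ideal.mul_mem_mul hj hj'
  rwa [hJJ, Ideal.mem_bot] at h

theorem smul_μ_eq_zero (hJJ : J * J = ⊥) {j : C'} (hj : j ∈ J) (z : A' ⊗[C'] ↥J) :
    j • μ J z = 0 := by
  induction z using TensorProduct.induction_on with
  | zero => rw [map_zero, smul_zero]
  | tmul a j' => rw [μ_tmul, smul_smul, mul_eq_zero_of_mem J hJJ hj j'.2, zero_smul]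
  | add z₁ z₂ h₁ h₂ => rw [map_add, smul_add, h₁, h₂, add_zero]

section main
variable [Module.Flat C' A'] (I : Ideal (A' ⧸ J.map (algebraMap C' A')))
  (I' : Ideal A') [Module.Flat C' (A' ⧸ I')]
  (hI' : I'.map (Ideal.Quotient.mk (J.map (algebraMap C' A'))) = I)
  (φ : ↥I →ₗ[A'] (((A' ⧸ J.map (algebraMap C' A')) ⧸ I) ⊗[C'] ↥J))

/-- reduction `I' → I` -/
noncomputable def ρ : ↥I' →ₗ[A'] ↥I where
  toFun x' := ⟨Ideal.Quotient.mk _ x'.1, by rw [← hI']; exact Ideal.mem_map_of_mem _ x'.2⟩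
  map_add' x y := Subtype.ext (map_add _ _ _)
  map_smul' a x := Subtype.ext (by
    show Ideal.Quotient.mk (J.map (algebraMap C' A')) (a • x.1) =
      a • Ideal.Quotient.mk (J.map (algebraMap C' A')) x.1
    rw [smul_eq_mul, map_mul, Algebra.smul_def]; rfl)

theorem ρ_val (x' : ↥I') :
    (ρ J I I' hI' x').1 = Ideal.Quotient.mk (J.map (algebraMap C' A')) x'.1 := rfl

theorem πB_surjective : Function.Surjective (πB J I) := by
  apply LinearMap.rTensor_surjective
  intro b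
  obtain ⟨a₁, rfl⟩ := Ideal.Quotient.mk_surjective b
  obtain ⟨a, rfl⟩ := Ideal.Quotient.mk_surjective a₁
  exact ⟨a, rfl⟩

theorem π_μ (z : A' ⊗[C'] ↥J) :
    algebraMap A' ((A' ⧸ J.map (algebraMap C' A')) ⧸ I) (μ J z) = 0 := by
  show Ideal.Quotient.mk I (Ideal.Quotient.mk (J.map (algebraMap C' A')) (μ J z)) = 0
  rw [Ideal.Quotient.eq_zero_iff_mem.mpr (μ_mem J z), map_zero]

/-- the translated ideal -/
def I2 : Ideal A' where
  carrier := {y | ∃ x' : ↥I', ∃ z : A' ⊗[C'] ↥J,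
    y = x'.1 + μ J z ∧ πB J I z = φ (ρ J I I' hI' x')}
  add_mem' := by
    rintro _ _ ⟨x₁, z₁, rfl, h₁⟩ ⟨x₂, z₂, rfl, h₂⟩
    refine ⟨x₁ + x₂, z₁ + z₂, ?_, ?_⟩
    · rw [Submodule.coe_add, map_add]; ring
    · rw [map_add, map_add, map_add, h₁, h₂]
  zero_mem' := ⟨0, 0, by rw [map_zero, Submodule.coe_zero, add_zero],
    by rw [map_zero, map_zero, map_zero]⟩
  smul_mem' := by
    rintro a _ ⟨x₁, z₁, rfl, h₁⟩
    refine ⟨a • x₁, a • z₁, ?_, ?_⟩
    · rw [μ_smul, smul_eq_mul, mul_add]; rfl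
    · rw [πB_smul, h₁, map_smul, map_smul]

theorem mem_I2 {y : A'} : y ∈ I2 J I I' hI' φ ↔ ∃ x' : ↥I', ∃ z : A' ⊗[C'] ↥J,
    y = x'.1 + μ J z ∧ πB J I z = φ (ρ J I I' hI' x') := Iff.rfl

theorem map_I2 : (I2 J I I' hI' φ).map (Ideal.Quotient.mk (J.map (algebraMap C' A'))) = I := by
  apply le_antisymm
  · rw [Ideal.map_le_iff_le_comap]
    rintro _ ⟨x', z, rfl, -⟩
    rw [Ideal.mem_comap, map_add, Ideal.Quotient.eq_zero_iff_mem.mpr (μ_mem J z), add_zero]
    exact (ρ J I I' hI' x').2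
  · intro x hx
    have hx1 : x ∈ I'.map (Ideal.Quotient.mk (J.map (algebraMap C' A'))) := by rw [hI']; exact hx
    obtain ⟨x', hx', rfl⟩ :=
      (Ideal.mem_map_iff_of_surjective _ Ideal.Quotient.mk_surjective).mp hx1
    obtain ⟨z, hz⟩ := πB_surjective J I (φ (ρ J I I' hI' ⟨x', hx'⟩))
    have h1 : x' + μ J z ∈ I2 J I I' hI' φ := ⟨⟨x', hx'⟩, z, rfl, hz⟩
    have h2 := Ideal.mem_map_of_mem (Ideal.Quotient.mk (J.map (algebraMap C' A'))) h1
    rwa [map_add, Ideal.Quotient.eq_zero_iff_mem.mpr (μ_mem J z), add_zero] at h2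

/-- the defining property of the translate -/
theorem I2_prop (x : (A' ⧸ J.map (algebraMap C' A'))) (hx : x ∈ I) (x' x'' : A') (hx' : x' ∈ I')
    (hx'' : x'' ∈ I2 J I I' hI' φ)
    (h1 : Ideal.Quotient.mk (J.map (algebraMap C' A')) x' = x)
    (h2 : Ideal.Quotient.mk (J.map (algebraMap C' A')) x'' = x)
    (z : A' ⊗[C'] ↥J) (hz : μ J z = x'' - x') : πB J I z = φ ⟨x, hx⟩ := by
  obtain ⟨x₀, z₀, rfl, hz₀⟩ := hx''
  have h3 : Ideal.Quotient.mk (J.map (algebraMap C' A')) x₀.1 = x := by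
    rw [← h2, map_add, Ideal.Quotient.eq_zero_iff_mem.mpr (μ_mem J z₀), add_zero]
  have h4 : x₀.1 - x' ∈ J.map (algebraMap C' A') := Ideal.Quotient.eq.mp (h3.trans h1.symm)
  obtain ⟨u', hu'⟩ := exists_μ_eq J h4
  have e' : πB J I u' = 0 :=
    rTensor_eq_zero_of_μ_mem J I' (fun y hy => algebraMap_eq_zero_of_mem J I I' hI' hy) u'
      (by rw [hu']; exact I'.sub_mem x₀.2 hx')
  have h5 : z = u' + z₀ := by
    apply μ_injective J
    rw [hz, map_add, hu']; ring
  have h6 : ρ J I I' hI' x₀ = ⟨x, hx⟩ := Subtype.ext h3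
  rw [h5, map_add, e', zero_add, hz₀, h6]

/-- elements of `A' ⊗ J` landing in the translate reduce to zero -/
theorem πB_eq_zero_of_μ_mem_I2 (z₀ : A' ⊗[C'] ↥J) (h : μ J z₀ ∈ I2 J I I' hI' φ) :
    πB J I z₀ = 0 := by
  obtain ⟨x', z, hxz, hz⟩ := h
  have h1 : x'.1 = μ J (z₀ - z) := by rw [map_sub, hxz]; ring
  have h2 : ρ J I I' hI' x' = 0 := by
    apply Subtype.ext
    rw [ρ_val, h1]
    exact Ideal.Quotient.eq_zero_iff_mem.mpr (μ_mem J _)
  rw [h2, map_zero] at hz
  have h3 : πB J I (z₀ - z) = 0 :=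
    rTensor_eq_zero_of_μ_mem J I' (fun y hy => algebraMap_eq_zero_of_mem J I I' hI' hy) _
      (by rw [← h1]; exact x'.2)
  rw [map_sub, hz, sub_zero] at h3
  exact h3

theorem smul_B_eq_zero {j : C'} (hj : j ∈ J) (b : (A' ⧸ J.map (algebraMap C' A')) ⧸ I) :
    j • b = 0 := by
  obtain ⟨a₁, rfl⟩ := Ideal.Quotient.mk_surjective b
  obtain ⟨a, rfl⟩ := Ideal.Quotient.mk_surjective a₁
  show Ideal.Quotient.mk I (Ideal.Quotient.mk (J.map (algebraMap C' A')) (j • a)) = 0
  rw [Algebra.smul_def, map_mul,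
    Ideal.Quotient.eq_zero_iff_mem.mpr (Ideal.mem_map_of_mem _ hj), zero_mul, map_zero]

/-- elements killed by the reduction give elements of any ideal reducing to `I` -/
theorem μ_mem_of_πB_eq_zero (hJJ : J * J = ⊥) (I₃ : Ideal A')
    (hI₃ : I₃.map (Ideal.Quotient.mk (J.map (algebraMap C' A'))) = I)
    (u : A' ⊗[C'] ↥J) (hu : πB J I u = 0) : μ J u ∈ I₃ := by
  let π : A' →ₗ[C'] ((A' ⧸ J.map (algebraMap C' A')) ⧸ I) :=
    (IsScalarTower.toAlgHom C' A' ((A' ⧸ J.map (algebraMap C' A')) ⧸ I)).toLinearMap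
  have hπ : Function.Surjective π := by
    intro b
    obtain ⟨a₁, rfl⟩ := Ideal.Quotient.mk_surjective b
    obtain ⟨a, rfl⟩ := Ideal.Quotient.mk_surjective a₁
    exact ⟨a, rfl⟩
  have hex := rTensor_exact ↥J (LinearMap.exact_subtype_ker_map π) hπ
  have key : ∀ v : ↥(LinearMap.ker π) ⊗[C'] ↥J,
      μ J (LinearMap.rTensor ↥J (LinearMap.ker π).subtype v) ∈ I₃ := by
    intro v
    induction v using TensorProduct.induction_on with
    | zero => rw [map_zero, map_zero]; exact I₃.zero_mem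
    | tmul n j =>
      rw [LinearMap.rTensor_tmul, μ_tmul]
      have hn : π n.1 = 0 := n.2
      have hn' : Ideal.Quotient.mk (J.map (algebraMap C' A')) n.1 ∈
          I₃.map (Ideal.Quotient.mk (J.map (algebraMap C' A'))) := by
        rw [hI₃]; exact Ideal.Quotient.eq_zero_iff_mem.mp hn
      obtain ⟨i₃, hi₃, h3⟩ :=
        (Ideal.mem_map_iff_of_surjective _ Ideal.Quotient.mk_surjective).mp hn'
      have h4 : n.1 - i₃ ∈ J.map (algebraMap C' A') := Ideal.Quotient.eq.mp h3.symm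
      obtain ⟨z', hz'⟩ := exists_μ_eq J h4
      have h5 : (j : C') • (n.1 : A') = (j : C') • i₃ := by
        have : (n.1 : A') = i₃ + μ J z' := by rw [hz']; ring
        rw [this, smul_add, smul_μ_eq_zero J hJJ j.2, add_zero]
      show (j : C') • (n.1 : A') ∈ I₃
      rw [h5, Algebra.smul_def]
      exact I₃.mul_mem_left _ hi₃
    | add v₁ v₂ h₁ h₂ =>
      rw [map_add, map_add]
      exact I₃.add_mem h₁ h₂
  obtain ⟨v, rfl⟩ := (hex u).mp hu
  exact key v

section flat
variable (hJJ : J * J = ⊥)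

/-- quotient by the translate maps to `B` -/
noncomputable def πbar2 :
    (A' ⧸ I2 J I I' hI' φ) →ₐ[C'] ((A' ⧸ J.map (algebraMap C' A')) ⧸ I) :=
  Ideal.Quotient.liftₐ (I2 J I I' hI' φ)
    (IsScalarTower.toAlgHom C' A' ((A' ⧸ J.map (algebraMap C' A')) ⧸ I)) (by
      rintro _ ⟨x', z, rfl, -⟩
      show algebraMap A' ((A' ⧸ J.map (algebraMap C' A')) ⧸ I) (x'.1 + μ J z) = 0
      rw [map_add, algebraMap_eq_zero_of_mem J I I' hI' x'.2, π_μ, add_zero])

theorem πbar2_surjective : Function.Surjective (πbar2 J I I' hI' φ) := by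
  intro b
  obtain ⟨a₁, rfl⟩ := Ideal.Quotient.mk_surjective b
  obtain ⟨a, rfl⟩ := Ideal.Quotient.mk_surjective a₁
  exact ⟨Ideal.Quotient.mk _ a, rfl⟩

theorem mk_μ_mem_smul (z : A' ⊗[C'] ↥J) :
    (Ideal.Quotient.mk (I2 J I I' hI' φ) (μ J z) : A' ⧸ I2 J I I' hI' φ) ∈
      (J • ⊤ : Submodule C' (A' ⧸ I2 J I I' hI' φ)) := by
  induction z using TensorProduct.induction_on with
  | zero => rw [map_zero, map_zero]; exact Submodule.zero_mem _
  | tmul a j =>
    rw [μ_tmul]
    have h : (Ideal.Quotient.mk (I2 J I I' hI' φ) ((j : C') • a)) =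
        (j : C') • Ideal.Quotient.mk (I2 J I I' hI' φ) a := rfl
    rw [h]
    exact Submodule.smul_mem_smul j.2 Submodule.mem_top
  | add z₁ z₂ h₁ h₂ => rw [map_add, map_add]; exact Submodule.add_mem _ h₁ h₂

theorem ker_πbar2 : LinearMap.ker (πbar2 J I I' hI' φ).toLinearMap =
    (J • ⊤ : Submodule C' (A' ⧸ I2 J I I' hI' φ)) := by
  apply le_antisymm
  · intro m hm
    obtain ⟨a, rfl⟩ := Ideal.Quotient.mk_surjective m
    have h0 : algebraMap A' ((A' ⧸ J.map (algebraMap C' A')) ⧸ I) a = 0 := hm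
    have h1 : Ideal.Quotient.mk (J.map (algebraMap C' A')) a ∈
        (I2 J I I' hI' φ).map (Ideal.Quotient.mk (J.map (algebraMap C' A'))) := by
      rw [map_I2]; exact Ideal.Quotient.eq_zero_iff_mem.mp h0
    obtain ⟨i₂, hi₂, h3⟩ :=
      (Ideal.mem_map_iff_of_surjective _ Ideal.Quotient.mk_surjective).mp h1
    have h4 : a - i₂ ∈ J.map (algebraMap C' A') := Ideal.Quotient.eq.mp h3.symm
    obtain ⟨z, hz⟩ := exists_μ_eq J h4
    have h5 : Ideal.Quotient.mk (I2 J I I' hI' φ) a =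
        Ideal.Quotient.mk (I2 J I I' hI' φ) (μ J z) := by
      rw [hz, map_sub, Ideal.Quotient.eq_zero_iff_mem.mpr hi₂, sub_zero]
    rw [h5]
    exact mk_μ_mem_smul J I I' hI' φ z
  · rw [Submodule.smul_le]
    intro j hj m _
    rw [LinearMap.mem_ker, map_smul]
    exact smul_B_eq_zero J I hj _

include hJJ in
theorem eq_zero_of_rTensor_πbar2 (w : (A' ⧸ I2 J I I' hI' φ) ⊗[C'] ↥J)
    (hw : LinearMap.rTensor ↥J (πbar2 J I I' hI' φ).toLinearMap w = 0) : w = 0 := by
  have hex := rTensor_exact ↥J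
    (LinearMap.exact_subtype_ker_map (πbar2 J I I' hI' φ).toLinearMap)
    (πbar2_surjective J I I' hI' φ)
  have key : ∀ v : ↥(LinearMap.ker (πbar2 J I I' hI' φ).toLinearMap) ⊗[C'] ↥J,
      LinearMap.rTensor ↥J (LinearMap.ker (πbar2 J I I' hI' φ).toLinearMap).subtype v = 0 := by
    intro v
    induction v using TensorProduct.induction_on with
    | zero => exact map_zero _
    | tmul n j =>
      rw [LinearMap.rTensor_tmul]
      have hn : (n.1 : A' ⧸ I2 J I I' hI' φ) ∈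
          (J • ⊤ : Submodule C' (A' ⧸ I2 J I I' hI' φ)) := by
        rw [← ker_πbar2 J I I' hI' φ]; exact n.2
      show (n.1 : A' ⧸ I2 J I I' hI' φ) ⊗ₜ[C'] j = 0
      refine Submodule.smul_induction_on hn ?_ ?_
      · intro j' hj' m _
        rw [TensorProduct.smul_tmul]
        have h0 : j' • j = 0 := Subtype.ext (by
          show j' * (j : C') = 0
          exact mul_eq_zero_of_mem J hJJ hj' j.2)
        rw [h0, TensorProduct.tmul_zero]
      · intro m₁ m₂ h₁ h₂
        rw [TensorProduct.add_tmul, h₁, h₂, add_zero]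
    | add v₁ v₂ h₁ h₂ => rw [map_add, h₁, h₂, add_zero]
  obtain ⟨v, rfl⟩ := (hex w).mp hw
  exact key v

include hJJ in
theorem rTensor_subtype_injective :
    Function.Injective (LinearMap.rTensor (A' ⧸ I2 J I I' hI' φ) (Submodule.subtype J)) := by
  rw [injective_iff_map_eq_zero]
  intro ξ hξ
  let q : A' →ₗ[C'] (A' ⧸ I2 J I I' hI' φ) :=
    (Ideal.Quotient.mkₐ C' (I2 J I I' hI' φ)).toLinearMap
  have hq : Function.Surjective q := Ideal.Quotient.mk_surjective
  obtain ⟨ζ, rfl⟩ := LinearMap.lTensor_surjective ↥J hq ξ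
  have hC : ∀ ζ : ↥J ⊗[C'] A', TensorProduct.lid C' _
      (LinearMap.rTensor (A' ⧸ I2 J I I' hI' φ) (Submodule.subtype J)
        (LinearMap.lTensor ↥J q ζ)) = q (μ J (TensorProduct.comm C' ↥J A' ζ)) := by
    intro ζ
    induction ζ using TensorProduct.induction_on with
    | zero => simp only [map_zero]
    | tmul j a =>
      rw [LinearMap.lTensor_tmul, LinearMap.rTensor_tmul, TensorProduct.comm_tmul, μ_tmul,
        TensorProduct.lid_tmul, map_smul]
      rfl
    | add ζ₁ ζ₂ h₁ h₂ => simp only [map_add, h₁, h₂]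
  have h1 : q (μ J (TensorProduct.comm C' ↥J A' ζ)) = 0 := by rw [← hC, hξ, map_zero]
  have h2 : μ J (TensorProduct.comm C' ↥J A' ζ) ∈ I2 J I I' hI' φ :=
    Ideal.Quotient.eq_zero_iff_mem.mp h1
  have h3 : πB J I (TensorProduct.comm C' ↥J A' ζ) = 0 :=
    πB_eq_zero_of_μ_mem_I2 J I I' hI' φ _ h2
  have hcomp : (IsScalarTower.toAlgHom C' A' ((A' ⧸ J.map (algebraMap C' A')) ⧸ I)).toLinearMap =
      (πbar2 J I I' hI' φ).toLinearMap ∘ₗ q := by
    ext a
    rfl
  have h4 : LinearMap.rTensor ↥J q (TensorProduct.comm C' ↥J A' ζ) = 0 := by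
    apply eq_zero_of_rTensor_πbar2 J I I' hI' φ hJJ
    rw [← LinearMap.comp_apply, ← LinearMap.rTensor_comp, ← hcomp]
    exact h3
  have hD : ∀ ζ : ↥J ⊗[C'] A', LinearMap.lTensor ↥J q ζ =
      TensorProduct.comm C' (A' ⧸ I2 J I I' hI' φ) ↥J
        (LinearMap.rTensor ↥J q (TensorProduct.comm C' ↥J A' ζ)) := by
    intro ζ
    induction ζ using TensorProduct.induction_on with
    | zero => simp only [map_zero]
    | tmul j a => rfl
    | add ζ₁ ζ₂ h₁ h₂ => simp only [map_add, h₁, h₂]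
  rw [hD, h4, map_zero]

theorem flat_baseChange [Module.Flat (C' ⧸ J) ((A' ⧸ J.map (algebraMap C' A')) ⧸ I)] :
    Module.Flat (C' ⧸ J) ((C' ⧸ J) ⊗[C'] (A' ⧸ I2 J I I' hI' φ)) := by
  let e₁ := TensorProduct.quotTensorEquivQuotSMul (A' ⧸ I2 J I I' hI' φ) J
  let e₂ := Submodule.quotEquivOfEq _ _ (ker_πbar2 J I I' hI' φ).symm
  let e₃ := (πbar2 J I I' hI' φ).toLinearMap.quotKerEquivOfSurjective
    (πbar2_surjective J I I' hI' φ)
  let e := (e₁ ≪≫ₗ e₂ ≪≫ₗ e₃).extendScalarsOfSurjective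
    (Ideal.Quotient.mk_surjective (I := J))
  exact Module.Flat.of_linearEquiv e

end flat

end main

end


/-- The affine computation, for a square-zero extension of Noetherian rings. Let A' be a Noetherian
ring, J an ideal with J·J = 0 and A = A'/J; let B' be a flat A'-algebra, B = B'/JB', I an ideal of B
with B/I flat over A, I' an ideal of B' with A'-flat quotient whose image in B is I, and φ a
B'-linear map from I to (B/I) ⊗_{A'} J. Then there is exactly one ideal I'' of B' with A'-flat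
quotient and image I in B whose difference from I' is φ: for every x in I, all lifts x' in I' and
x'' in I'' of x, and every z in B' ⊗_{A'} J whose image under multiplication is x'' - x', the image
of z in (B/I) ⊗_{A'} J equals φ(x). Together with the uniqueness of the difference this makes the
set of such ideals, when non-empty, a torsor under Hom_B(I, (B/I) ⊗_A J). (The published statement
is global (X' a separated scheme over A') and does not assume X' flat over A'; this row is the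
affine case X' = Spec B' and assumes B' flat over A'.) -/
theorem result (A' : Type u) [CommRing A'] [IsNoetherianRing A']
    (J : Ideal A') (hJ : J * J = ⊥) (B' : Type u) [CommRing B'] [Algebra A' B'] [Module.Flat A' B']
    (I : Ideal (B' ⧸ J.map (algebraMap A' B')))
    [Module.Flat (A' ⧸ J) ((B' ⧸ J.map (algebraMap A' B')) ⧸ I)]
    (I' : Ideal B') [Module.Flat A' (B' ⧸ I')]
    (hI' : I'.map (Ideal.Quotient.mk (J.map (algebraMap A' B'))) = I)
    (φ : ↥I →ₗ[B'] (((B' ⧸ J.map (algebraMap A' B')) ⧸ I) ⊗[A'] ↥J)) :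
    ∃! I'' : Ideal B', Module.Flat A' (B' ⧸ I'') ∧
      I''.map (Ideal.Quotient.mk (J.map (algebraMap A' B'))) = I ∧
      (∀ (x : (B' ⧸ J.map (algebraMap A' B'))) (hx : x ∈ I) (x' x'' : B'), x' ∈ I' → x'' ∈ I'' →
          Ideal.Quotient.mk (J.map (algebraMap A' B')) x' = x → Ideal.Quotient.mk (J.map (algebraMap A' B')) x'' = x →
          ∀ z : B' ⊗[A'] ↥J, TensorProduct.rid A' B' (LinearMap.lTensor B' (Submodule.subtype J) z) = x'' - x' →
            LinearMap.rTensor ↥J (IsScalarTower.toAlgHom A' B' ((B' ⧸ J.map (algebraMap A' B')) ⧸ I)).toLinearMap z = φ ⟨x, hx⟩) := by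
  have hJJ := hJ
  refine ⟨I2 J I I' hI' φ, ⟨?_, map_I2 J I I' hI' φ, ?_⟩, ?_⟩
  · exact Groth.Agent.H30.NilFlat.flat_of_nilpotent J ⟨2, by rw [pow_two, hJJ]; rfl⟩
      (flat_baseChange J I I' hI' φ) (rTensor_subtype_injective J I I' hI' φ hJJ)
  · intro x hx x' x'' hx' hx'' h1 h2 z hz
    exact I2_prop J I I' hI' φ x hx x' x'' hx' hx'' h1 h2 z hz
  · rintro I₃ ⟨hflat₃, hmap₃, hprop₃⟩
    apply le_antisymm
    · intro y hy
      have hx : Ideal.Quotient.mk (J.map (algebraMap A' B')) y ∈ I := by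
        rw [← hmap₃]; exact Ideal.mem_map_of_mem _ hy
      have hx1 : Ideal.Quotient.mk (J.map (algebraMap A' B')) y ∈
          I'.map (Ideal.Quotient.mk (J.map (algebraMap A' B'))) := by rw [hI']; exact hx
      obtain ⟨x', hx', h1⟩ :=
        (Ideal.mem_map_iff_of_surjective _ Ideal.Quotient.mk_surjective).mp hx1
      have h4 : y - x' ∈ J.map (algebraMap A' B') := Ideal.Quotient.eq.mp h1.symm
      obtain ⟨z, hz⟩ := exists_μ_eq J h4
      have h5 := hprop₃ _ hx x' y hx' hy h1 rfl z hz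
      refine ⟨⟨x', hx'⟩, z, by rw [hz]; ring, ?_⟩
      rw [h5]
      congr 1
      exact Subtype.ext h1.symm
    · intro y hy
      obtain ⟨x', z, rfl, hz⟩ := hy
      have hx : Ideal.Quotient.mk (J.map (algebraMap A' B')) x'.1 ∈ I := (ρ J I I' hI' x').2
      have hx3 : Ideal.Quotient.mk (J.map (algebraMap A' B')) x'.1 ∈
          I₃.map (Ideal.Quotient.mk (J.map (algebraMap A' B'))) := by rw [hmap₃]; exact hx
      obtain ⟨y₃, hy₃, h3⟩ :=
        (Ideal.mem_map_iff_of_surjective _ Ideal.Quotient.mk_surjective).mp hx3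
      have h4 : y₃ - x'.1 ∈ J.map (algebraMap A' B') := Ideal.Quotient.eq.mp h3
      obtain ⟨z₃, hz₃⟩ := exists_μ_eq J h4
      have h5 := hprop₃ _ hx x'.1 y₃ x'.2 hy₃ rfl h3 z₃ hz₃
      have h6 : πB J I (z - z₃) = 0 := by
        rw [map_sub, hz, h5]
        exact sub_self _
      have h7 := μ_mem_of_πB_eq_zero J I hJJ I₃ hmap₃ (z - z₃) h6
      have h8 : x'.1 + μ J z = y₃ + μ J (z - z₃) := by rw [map_sub, hz₃]; ring
      rw [h8]
      exact I₃.add_mem hy₃ h7

end Groth.Agent.S17368
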