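import Groth.Statements.S1737
import Groth.Agent.H26.DepthExt
import Mathlib.RingTheory.Ideal.AssociatedPrime.Localization
import Mathlib.RingTheory.Localization.Finiteness

set_option autoImplicit false
universe u
open LocCoh

namespace Groth.Agent.S1737

open CategoryTheory Abelian in
/-- If no nonzero element of `P` is killed by the maximal ideal then `depth P ≥ 1`. -/
lemma one_le_depth_of_socle_zero (S : Type u) [CommRing S] [IsLocalRing S] [IsNoetherianRing S]
    (P : Type u) [AddCommGroup P] [Module S P] [Module.Finite S P]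
    (h : ∀ y : P, (∀ z ∈ IsLocalRing.maximalIdeal S, z • y = 0) → y = 0) :
    1 ≤ LocCoh.depth S P := by
  have hsub : Subsingleton ((S ⧸ IsLocalRing.maximalIdeal S) →ₗ[S] P) := by
    have hz : ∀ f : (S ⧸ IsLocalRing.maximalIdeal S) →ₗ[S] P, f = 0 := by
      intro f
      have h1 : f 1 = 0 := by
        apply h
        intro a ha
        rw [← map_smul]
        have h2 : a • (1 : S ⧸ IsLocalRing.maximalIdeal S) = 0 := by
          rw [Algebra.smul_def, mul_one]
          exact Ideal.Quotient.eq_zero_iff_mem.2 ha
        rw [h2, map_zero]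
      apply LinearMap.ext
      intro x
      obtain ⟨r, rfl⟩ := Ideal.Quotient.mk_surjective x
      have h3 : Ideal.Quotient.mk (IsLocalRing.maximalIdeal S) r =
          r • (1 : S ⧸ IsLocalRing.maximalIdeal S) := by
        rw [Algebra.smul_def, mul_one]
        rfl
      rw [h3, map_smul, h1, smul_zero]
      rfl
    exact ⟨fun f g => (hz f).trans (hz g).symm⟩
  have h1 : ((1 : ℕ) : ℕ∞) ≤ LocCoh.idealDepth (IsLocalRing.maximalIdeal S) P := by
    rw [Groth.Agent.H26.DepthExt.le_idealDepth_iff_ext]
    intro i hi
    have hi0 : i = 0 := by omega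
    subst hi0
    exact (Ext.addEquiv₀.trans (ModuleCat.homAddEquiv
      (M := ModuleCat.of S (S ⧸ IsLocalRing.maximalIdeal S)) (N := ModuleCat.of S P))).subsingleton
  have h2 : (1 : ℕ∞) ≤ LocCoh.idealDepth (IsLocalRing.maximalIdeal S) P := by exact_mod_cast h1
  exact h2

/-- Let A be a Noetherian ring, T ⊆ Spec A stable under specialization and M a finite A-module. There
are a finite A-module M' and a surjection M → M' which is bijective after localizing at every prime
outside T and such that M'_p has depth ≥ 1 over A_p for every p in T. (The source states this for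
coherent modules on a Noetherian scheme, with uniqueness.) -/
theorem result (A : Type u) [CommRing A] [IsNoetherianRing A] (T : Set (PrimeSpectrum A)) (hT : StableUnderSpecialization T) (M : Type u) [AddCommGroup M] [Module A M] [Module.Finite A M] : ∃ (M' : Type u) (_ : AddCommGroup M') (_ : Module A M') (_ : Module.Finite A M') (f : M →ₗ[A] M'), Function.Surjective f ∧ (∀ p : PrimeSpectrum A, p ∉ T → Function.Bijective (LocalizedModule.map p.asIdeal.primeCompl f)) ∧ ∀ p : PrimeSpectrum A, p ∈ T → 1 ≤ LocCoh.depth (Localization.AtPrime p.asIdeal) (LocalizedModule p.asIdeal.primeCompl M') := by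
  classical
  let N : Submodule A M :=
    { carrier := {m | ∀ p : PrimeSpectrum A, p ∉ T → ∃ s : A, s ∉ p.asIdeal ∧ s • m = 0}
      add_mem' := by
        intro x y hx hy p hp
        obtain ⟨s, hs, hsx⟩ := hx p hp
        obtain ⟨t, ht, hty⟩ := hy p hp
        refine ⟨s * t, fun hst => ?_, ?_⟩
        · rcases p.isPrime.mem_or_mem hst with h1 | h1
          · exact hs h1
          · exact ht h1
        · have e1 : (s * t) • x = t • (s • x) := by rw [mul_comm, mul_smul]
          have e2 : (s * t) • y = s • (t • y) := by rw [mul_smul]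
          rw [smul_add, e1, e2, hsx, hty, smul_zero, smul_zero, add_zero]
      zero_mem' := fun p _ => ⟨1, fun h1 => p.isPrime.ne_top ((Ideal.eq_top_iff_one _).2 h1),
        smul_zero 1⟩
      smul_mem' := by
        intro c x hx p hp
        obtain ⟨s, hs, hsx⟩ := hx p hp
        exact ⟨s, hs, by rw [smul_comm, hsx, smul_zero]⟩ }
  have hNmem : ∀ m : M, m ∈ N ↔ ∀ p : PrimeSpectrum A, p ∉ T →
      ∃ s : A, s ∉ p.asIdeal ∧ s • m = 0 := fun m => Iff.rfl
  refine ⟨M ⧸ N, inferInstance, inferInstance, inferInstance, N.mkQ, N.mkQ_surjective, ?_, ?_⟩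
  · intro p hp
    refine ⟨?_, LocalizedModule.map_surjective _ _ N.mkQ_surjective⟩
    rw [injective_iff_map_eq_zero]
    intro x hx
    induction x using LocalizedModule.induction_on with
    | _ m s =>
      rw [LocalizedModule.map_mk, ← LocalizedModule.zero_mk s, LocalizedModule.mk_eq] at hx
      obtain ⟨u, hu⟩ := hx
      simp only [smul_zero] at hu
      have hu' : ((u * s : p.asIdeal.primeCompl) : A) • m ∈ N := by
        rw [← Submodule.Quotient.mk_eq_zero, Submodule.Quotient.mk_smul]
        have h1 : ((u * s : p.asIdeal.primeCompl) : A) • (Submodule.Quotient.mk m : M ⧸ N) =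
            u • s • N.mkQ m := by
          rw [Submonoid.coe_mul, mul_smul]
          rfl
        rw [h1]
        exact hu
      obtain ⟨t, ht, htm⟩ := (hNmem _).1 hu' p hp
      rw [← LocalizedModule.zero_mk s, LocalizedModule.mk_eq]
      refine ⟨⟨t, ht⟩ * u, ?_⟩
      rw [smul_zero, smul_zero]
      show ((⟨t, ht⟩ * u : p.asIdeal.primeCompl) : A) • ((s : A) • m) = 0
      rw [Submonoid.coe_mul, mul_smul]
      have h2 : (u : A) • (s : A) • m = ((u * s : p.asIdeal.primeCompl) : A) • m := by
        rw [Submonoid.coe_mul, mul_smul]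
      rw [h2]
      exact htm
  · intro p hp
    apply one_le_depth_of_socle_zero
    intro y hy
    by_contra hy0
    have hmaxass : IsLocalRing.maximalIdeal (Localization.AtPrime p.asIdeal) ∈
        associatedPrimes (Localization.AtPrime p.asIdeal)
          (LocalizedModule p.asIdeal.primeCompl (M ⧸ N)) := by
      rw [AssociatedPrimes.mem_iff, isAssociatedPrime_iff]
      refine ⟨inferInstance, y, ?_⟩
      apply (IsLocalRing.maximalIdeal.isMaximal _).eq_of_le
      · intro htop
        have h1 : (1 : Localization.AtPrime p.asIdeal) ∈ Submodule.colon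
            (⊥ : Submodule (Localization.AtPrime p.asIdeal)
              (LocalizedModule p.asIdeal.primeCompl (M ⧸ N))) {y} :=
          htop ▸ Submodule.mem_top
        rw [Submodule.mem_colon_singleton, one_smul, Submodule.mem_bot] at h1
        exact hy0 h1
      · intro z hz
        rw [Submodule.mem_colon_singleton, Submodule.mem_bot]
        exact hy z hz
    have h2 := Module.associatedPrimes.comap_mem_associatedPrimes_of_mem_associatedPrimes_of_isLocalizedModule_of_fg
      p.asIdeal.primeCompl (LocalizedModule.mkLinearMap p.asIdeal.primeCompl (M ⧸ N))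
      (IsLocalRing.maximalIdeal (Localization.AtPrime p.asIdeal)) hmaxass
      ((isNoetherianRing_iff_ideal_fg A).mp inferInstance _)
    have h3 : (IsLocalRing.maximalIdeal (Localization.AtPrime p.asIdeal)).comap
        (algebraMap A (Localization.AtPrime p.asIdeal)) = p.asIdeal :=
      Localization.AtPrime.under_maximalIdeal
    rw [h3, AssociatedPrimes.mem_iff, isAssociatedPrime_iff] at h2
    obtain ⟨-, c, hc⟩ := h2
    obtain ⟨m, rfl⟩ := Submodule.Quotient.mk_surjective _ c
    have hann : ∀ r : A, r ∈ p.asIdeal ↔ r • m ∈ N := by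
      intro r
      rw [hc, Submodule.mem_colon_singleton, Submodule.mem_bot, ← Submodule.Quotient.mk_smul,
        Submodule.Quotient.mk_eq_zero]
    have hmN : m ∈ N := by
      rw [hNmem]
      intro q hq
      have hpq : ¬ p.asIdeal ≤ q.asIdeal := by
        intro hle
        exact hq (hT ((PrimeSpectrum.le_iff_specializes p q).1 hle) hp)
      obtain ⟨a, hap, haq⟩ := SetLike.not_le_iff_exists.1 hpq
      obtain ⟨s, hs, hsam⟩ := (hNmem _).1 ((hann a).1 hap) q hq
      refine ⟨s * a, fun hsa => ?_, by rw [mul_smul]; exact hsam⟩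
      rcases q.isPrime.mem_or_mem hsa with h1 | h1
      · exact hs h1
      · exact haq h1
    have h1p : (1 : A) ∈ p.asIdeal := (hann 1).2 (by rw [one_smul]; exact hmN)
    exact p.isPrime.ne_top ((Ideal.eq_top_iff_one _).2 h1p)

end Groth.Agent.S1737
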