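import Groth.Statements.S17376
import Groth.Agent.H80.NormBC

set_option autoImplicit false
universe u
open scoped TensorProduct
open CAlg

namespace Groth.Agent.S17376

open Groth.Agent.H80.NormBC

attribute [local instance] algKL


/-- Let k be a field, A an integrally closed domain over k with fraction field K, L a finite extension
of K, B the integral closure of A in L, and R an arbitrary commutative k-algebra; view L ⊗_k R as an
algebra over K ⊗_k R through K → L. Then L ⊗_k R is finite free over K ⊗_k R, so the norm
(determinant of multiplication) L ⊗_k R → K ⊗_k R is defined; the norm of any element β of B ⊗_k R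
(mapped into L ⊗_k R) lies in the image of A ⊗_k R; and β is a nonzerodivisor in B ⊗_k R if and only
if its norm is a nonzerodivisor in K ⊗_k R. (Nonzerodivisors of A ⊗_k R are exactly its elements
that are nonzerodivisors in K ⊗_k R, the latter being a localisation of the former at
nonzerodivisors, so this is the source's formulation with the norm regarded in A ⊗_k R.) -/
theorem result (k A K L R : Type u) [Field k]
    [CommRing A] [IsDomain A] [IsIntegrallyClosed A] [Algebra k A]
    [Field K] [Algebra A K] [IsFractionRing A K] [Algebra k K] [IsScalarTower k A K]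
    [Field L] [Algebra K L] [FiniteDimensional K L] [Algebra A L] [IsScalarTower A K L]
    [Algebra k L] [IsScalarTower k K L] [IsScalarTower k A L]
    [CommRing R] [Algebra k R] :
    letI : Algebra (K ⊗[k] R) (L ⊗[k] R) :=
      (Algebra.TensorProduct.map (IsScalarTower.toAlgHom k K L) (AlgHom.id k R)).toRingHom.toAlgebra
    Module.Free (K ⊗[k] R) (L ⊗[k] R) ∧ Module.Finite (K ⊗[k] R) (L ⊗[k] R) ∧
      ∀ b : (integralClosure A L) ⊗[k] R,
        Algebra.norm (K ⊗[k] R)
            (Algebra.TensorProduct.map ((integralClosure A L).val.restrictScalars k) (AlgHom.id k R) b) ∈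
          Set.range (Algebra.TensorProduct.map (IsScalarTower.toAlgHom k A K) (AlgHom.id k R)) ∧
        (IsRegular b ↔ IsRegular (Algebra.norm (K ⊗[k] R)
            (Algebra.TensorProduct.map ((integralClosure A L).val.restrictScalars k) (AlgHom.id k R) b))) := by
  classical
  let e := Module.finBasis K L
  let tb := tensorBasis (k := k) (R := R) e
  refine ⟨Module.Free.of_basis tb, Module.Finite.of_basis tb, fun b => ⟨?_, ?_⟩⟩
  · obtain ⟨S, hS⟩ := TensorProduct.exists_finset b
    let g : (integralClosure A L) × R → L × R := fun t => ((t.1 : L), t.2)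
    have hg : Function.Injective g := by
      intro t t' h
      have h1 : (g t).1 = (g t').1 := by rw [h]
      have h2 : (g t).2 = (g t').2 := by rw [h]
      exact Prod.ext (Subtype.ext h1) h2
    have hsum : (Algebra.TensorProduct.map ((integralClosure A L).val.restrictScalars k)
        (AlgHom.id k R) b) = ∑ t ∈ S.image g, (t.1 ⊗ₜ[k] t.2 : L ⊗[k] R) := by
      rw [hS, map_sum, Finset.sum_image (fun x _ y _ h => hg h)]
      refine Finset.sum_congr rfl fun t _ => ?_
      rw [Algebra.TensorProduct.map_tmul]
      rfl
    rw [hsum]
    refine norm_sum_tmul_mem_range (A := A) e (S.image g) ?_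
    intro t ht
    obtain ⟨t', -, rfl⟩ := Finset.mem_image.mp ht
    exact t'.1.2
  · rw [isRegular_iff_mem_nonZeroDivisors, isRegular_iff_mem_nonZeroDivisors]
    constructor
    · intro hb
      exact norm_mem_nonZeroDivisors_of_mem tb _ (iotaL_mem_nonZeroDivisors (K := K) b hb)
    · intro hN
      exact mem_nonZeroDivisors_of_iotaL b (mem_nonZeroDivisors_of_norm_mem tb _ hN)

end Groth.Agent.S17376
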