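import Groth.Statements.S17377
import Groth.Agent.H54.ZMT
import Groth.Agent.H9.ComapMul
import Groth.Agent.H9.EffCartier
import Groth.Agent.H79.FibreCartier
import Groth.Agent.H19.WeilSplit_GEN
import Groth.Agent.H75.WeilSplit_KER

set_option autoImplicit false
universe u
open CategoryTheory CategoryTheory.Limits AlgebraicGeometry
open Variety

namespace Groth.Agent.S17377

/-- A section of an étale morphism is an open immersion. -/
theorem isOpenImmersion_of_section {P D : Scheme.{u}} (p : P ⟶ D) [Etale p] (s : D ⟶ P)
    (hs : s ≫ p = 𝟙 D) : IsOpenImmersion s := by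
  haveI : Etale (s ≫ p) := by rw [hs]; infer_instance
  haveI : Etale s := Etale.of_comp s p
  haveI : Mono s := mono_of_mono_fac hs
  exact IsOpenImmersion.of_flat_of_mono s

theorem map_genericPoint_of_surjective {E D : Scheme.{u}} [IsIntegral E] [IsIntegral D]
    (g : E ⟶ D) (hsurj : Function.Surjective g) : g (genericPoint E) = genericPoint D := by
  have h1 : IsGenericPoint (g (genericPoint E)) (closure (g '' Set.univ)) :=
    (genericPoint_spec E).image g.continuous
  rw [Set.image_univ, hsurj.range_eq, closure_univ] at h1
  exact h1.eq (genericPoint_spec D)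

/-- Let X and Y be integral normal schemes locally of finite type over a field k and f : Y → X a finite
étale k-morphism; let D ⊆ X be a closed subscheme which is an effective Cartier divisor and is
integral and normal as a scheme, and E ⊆ Y an integral closed subscheme mapping to D by a surjective
morphism g compatible with the inclusions whose residue-field extension at the generic point of E
has degree 1 (so E is a prime divisor of Y over D with the same function field: D splits in Y at the
level of Weil divisors). Then g is an isomorphism and E is an effective Cartier divisor on Y; in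
particular D is the image of the relative Cartier divisor E (D is c-split). (The source works with
projective, geometrically normal and geometrically integral X, Y of dimension at least 2 and
geometrically normal, geometrically integral D; those hypotheses only serve base change to extension
fields and are dropped here.) -/
theorem result (k : Type u) [Field k] (X Y : Scheme.{u})
    [X.Over (Spec (CommRingCat.of k))] [Y.Over (Spec (CommRingCat.of k))]
    [LocallyOfFiniteType (X ↘ Spec (CommRingCat.of k))] [LocallyOfFiniteType (Y ↘ Spec (CommRingCat.of k))]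
    [IsIntegral X] [IsIntegral Y] (hX : Pi1.IsNormalScheme X) (hY : Pi1.IsNormalScheme Y)
    (f : Y ⟶ X) (hf : f ≫ (X ↘ Spec (CommRingCat.of k)) = Y ↘ Spec (CommRingCat.of k)) [IsFinite f] [Etale f]
    (D : X.IdealSheafData) (hD : FGA.IsEffCartier D) [IsIntegral D.subscheme] (hDn : Pi1.IsNormalScheme D.subscheme)
    (E : Y.IdealSheafData) [IsIntegral E.subscheme]
    (g : (E.subscheme : Scheme.{u}) ⟶ D.subscheme) (hg : g ≫ D.subschemeι = E.subschemeι ≫ f)
    (hsurj : Function.Surjective g.base) (hdeg : g.residueDegree (genericPoint E.subscheme) = 1) :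
    IsIso g ∧ FGA.IsEffCartier E := by
  classical
  -- the pullback P = f⁻¹(D)
  let q : pullback f D.subschemeι ⟶ Y := pullback.fst f D.subschemeι
  let p : pullback f D.subschemeι ⟶ D.subscheme := pullback.snd f D.subschemeι
  let j : (E.subscheme : Scheme.{u}) ⟶ pullback f D.subschemeι :=
    pullback.lift E.subschemeι g hg.symm
  have hjq : j ≫ q = E.subschemeι := pullback.lift_fst _ _ _
  have hjp : j ≫ p = g := pullback.lift_snd _ _ _
  haveI : IsClosedImmersion q := inferInstanceAs (IsClosedImmersion (pullback.fst f D.subschemeι))
  haveI : IsFinite p := inferInstanceAs (IsFinite (pullback.snd f D.subschemeι))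
  haveI : Etale p := inferInstanceAs (Etale (pullback.snd f D.subschemeι))
  haveI : IsClosedImmersion (j ≫ q) := by rw [hjq]; infer_instance
  haveI : IsClosedImmersion j := IsClosedImmersion.of_comp j q
  haveI : IsIntegralHom g := by rw [← hjp]; infer_instance
  -- Claim 1 : g is an isomorphism
  have hgen : g (genericPoint E.subscheme) = genericPoint D.subscheme :=
    map_genericPoint_of_surjective g hsurj
  haveI hgiso : IsIso g :=
    Groth.Agent.H54.isIso_of_isIntegralHom_of_birational (fun y => (hDn y).2) g hgen
      (Groth.Agent.H19.WeilSplit_GEN.isIso_stalkMap_genericPoint_of_residueDegree_eq_one g hgen hdeg)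
  refine ⟨hgiso, ?_⟩
  -- Claim 2
  haveI : IsOpenImmersion (inv g ≫ j) :=
    isOpenImmersion_of_section p (inv g ≫ j) (by rw [Category.assoc, hjp, IsIso.inv_hom_id])
  haveI : IsOpenImmersion j := by
    have : j = g ≫ (inv g ≫ j) := by rw [IsIso.hom_inv_id_assoc]
    rw [this]; infer_instance
  have hcomap : BlowUp.IsEffCartierIdeal (D.comap f) :=
    Groth.Agent.H9.isEffCartierIdeal_comap_of_flat f D hD
  have hDq : D.comap f = q.ker := rfl
  have hEq : E = (j ≫ q).ker := by rw [hjq, Scheme.IdealSheafData.ker_subschemeι]
  intro y
  by_cases hy : y ∈ E.support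
  · obtain ⟨e, rfl⟩ : ∃ e, E.subschemeι e = y := by
      have : y ∈ Set.range E.subschemeι := by rw [E.range_subschemeι]; exact hy
      exact this
    let V : Y.Opens := ⟨(q '' (Set.range j)ᶜ)ᶜ, by
      rw [isOpen_compl_iff]
      exact q.isClosedEmbedding.isClosedMap _ j.isOpenEmbedding.isOpen_range.isClosed_compl⟩
    have hyV : E.subschemeι e ∈ V := by
      rintro ⟨z, hz, hzq⟩
      apply hz
      have : q z = q (j e) := by
        rw [hzq, ← Scheme.Hom.comp_apply, hjq]
      exact ⟨e, (q.isClosedEmbedding.injective this).symm⟩
    obtain ⟨U, hyU, hUV, t, ht, hI⟩ :=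
      Groth.Agent.H9.exists_affine_isPrincipalNZD hcomap V _ hyV
    refine ⟨U, hyU, t, ht, ?_⟩
    have hsub : ((q ⁻¹ᵁ U.1 : (pullback f D.subschemeι).Opens) : Set _) ⊆ Set.range j := by
      intro z hz
      by_contra hzr
      exact hUV hz ⟨z, hzr, rfl⟩
    rw [← hI, hDq, hEq]
    exact Groth.Agent.H75.WeilSplit_KER.ker_comp_ideal_eq_of_preimage_subset_range j q U hsub
  · obtain ⟨U, hyU, hU⟩ := Groth.Agent.H79.FibreCartier.exists_ideal_eq_top E y hy
    exact ⟨U, hyU, 1, one_mem _, by rw [hU, Ideal.span_singleton_one]⟩

end Groth.Agent.S17377
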