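import Groth.Statements.S1740
import Groth.Agent.H82.TorSymm
import Groth.Agent.H82.TorFlat
import Groth.Agent.H82.TorColim

set_option autoImplicit false
universe u
open CategoryTheory
attribute [local instance] HasDerivedCategory.standard
open LocCoh

namespace Groth.Agent.S1740

set_option linter.unusedSectionVars false
set_option linter.unusedVariables false
set_option linter.style.haveILetI false
set_option backward.isDefEq.respectTransparency false

open scoped TensorProduct

section Alg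

variable {R : Type u} [CommRing R] {m n : ℕ}

/-- columns of the matrix of `g` -/
def col (g : (Fin m → R) →ₗ[R] (Fin n → R)) (i : Fin n) : Fin m → R :=
  fun j => g (Pi.single j 1) i

/-- the transpose map -/
noncomputable def gt (g : (Fin m → R) →ₗ[R] (Fin n → R)) : (Fin n → R) →ₗ[R] (Fin m → R) :=
  Fintype.linearCombination R (col g)

/-- the Auslander transpose -/
abbrev TrN (g : (Fin m → R) →ₗ[R] (Fin n → R)) : Type u :=
  (Fin m → R) ⧸ LinearMap.range (gt g)

theorem vec_eq {k : ℕ} (v : Fin k → R) : v = ∑ i, v i • (Pi.single i (1:R) : Fin k → R) := by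
  funext l
  simp [Finset.sum_apply, Pi.single_apply]

theorem key1 (g : (Fin m → R) →ₗ[R] (Fin n → R)) :
    ∑ j : Fin m, ((LinearMap.range (gt g)).mkQ (Pi.single j 1)) ⊗ₜ[R] (g (Pi.single j 1)) = 0 := by
  have h1 : ∀ j : Fin m,
      ((LinearMap.range (gt g)).mkQ (Pi.single j 1)) ⊗ₜ[R] (g (Pi.single j 1)) =
      ∑ i : Fin n, ((LinearMap.range (gt g)).mkQ (col g i j • (Pi.single j (1:R) : Fin m → R)))
        ⊗ₜ[R] (Pi.single i (1:R) : Fin n → R) := by
    intro j
    conv_lhs => rw [vec_eq (g (Pi.single j 1))]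
    rw [TensorProduct.tmul_sum]
    refine Finset.sum_congr rfl fun i _ => ?_
    rw [TensorProduct.tmul_smul, map_smul, ← TensorProduct.smul_tmul']
    rfl
  rw [Finset.sum_congr rfl (fun j _ => h1 j), Finset.sum_comm]
  refine Finset.sum_eq_zero fun i _ => ?_
  rw [← TensorProduct.sum_tmul, ← map_sum]
  have h2 : ∑ j : Fin m, col g i j • (Pi.single j (1:R) : Fin m → R) = gt g (Pi.single i 1) := by
    rw [← vec_eq (col g i)]
    show col g i = Fintype.linearCombination R (col g) (Pi.single i 1)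
    rw [Fintype.linearCombination_apply_single, one_smul]
  rw [h2]
  have h3 : (LinearMap.range (gt g)).mkQ (gt g (Pi.single i 1)) = 0 := by
    rw [Submodule.mkQ_apply, Submodule.Quotient.mk_eq_zero]
    exact LinearMap.mem_range_self _ _
  rw [h3, TensorProduct.zero_tmul]

/-- coordinate maps on `(Fin k → R) ⊗ K'` -/
noncomputable def coord (K' : Type u) [AddCommGroup K'] [Module R K'] {k : ℕ} (j : Fin k) :
    (Fin k → R) ⊗[R] K' →ₗ[R] K' :=
  (TensorProduct.lid R K').toLinearMap ∘ₗ LinearMap.rTensor K' (LinearMap.proj j)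

theorem coord_tmul (K' : Type u) [AddCommGroup K'] [Module R K'] {k : ℕ} (j : Fin k)
    (x : Fin k → R) (y : K') : coord K' j (x ⊗ₜ[R] y) = x j • y := by
  simp [coord]

theorem key2 (g : (Fin m → R) →ₗ[R] (Fin n → R)) (K' : Type u) [AddCommGroup K'] [Module R K']
    (j : Fin m) (v : (Fin n → R) ⊗[R] K') :
    coord K' j (LinearMap.rTensor K' (gt g) v) = ∑ i : Fin n, col g i j • coord K' i v := by
  induction v using TensorProduct.induction_on with
  | zero => simp
  | tmul x y =>
    rw [LinearMap.rTensor_tmul, coord_tmul]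
    simp only [coord_tmul]
    show (Fintype.linearCombination R (col g) x) j • y = _
    rw [Fintype.linearCombination_apply, Finset.sum_apply, Finset.sum_smul]
    refine Finset.sum_congr rfl fun i _ => ?_
    rw [Pi.smul_apply, smul_eq_mul, mul_comm, mul_smul]
  | add a b ha hb =>
    rw [map_add, map_add, ha, hb, ← Finset.sum_add_distrib]
    refine Finset.sum_congr rfl fun i _ => ?_
    rw [map_add, smul_add]

theorem lemmaA (g : (Fin m → R) →ₗ[R] (Fin n → R)) {K K' : Type u} [AddCommGroup K] [Module R K]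
    [AddCommGroup K'] [Module R K'] (ι : K →ₗ[R] (Fin n → R)) (p : (Fin m → R) →ₗ[R] K)
    (hp : Function.Surjective p) (hpg : ι ∘ₗ p = g) (γ : K →ₗ[R] K')
    (H : ∀ z : TrN g ⊗[R] K, LinearMap.lTensor (TrN g) ι z = 0 →
      LinearMap.lTensor (TrN g) γ z = 0) :
    ∃ ψ : (Fin n → R) →ₗ[R] K', ψ ∘ₗ ι = γ := by
  have hιp : ∀ j : Fin m, ι (p (Pi.single j 1)) = g (Pi.single j 1) := fun j => by
    rw [← hpg]; rfl
  have hz : LinearMap.lTensor (TrN g) ι
      (∑ j : Fin m, ((LinearMap.range (gt g)).mkQ (Pi.single j 1)) ⊗ₜ[R] p (Pi.single j 1)) = 0 := by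
    simp only [map_sum, LinearMap.lTensor_tmul, hιp]
    exact key1 g
  have hz' := H _ hz
  simp only [map_sum, LinearMap.lTensor_tmul] at hz'
  have hw : LinearMap.rTensor K' (LinearMap.range (gt g)).mkQ
      (∑ j : Fin m, (Pi.single j (1:R) : Fin m → R) ⊗ₜ[R] γ (p (Pi.single j 1))) = 0 := by
    simp only [map_sum, LinearMap.rTensor_tmul]
    exact hz'
  have hex := rTensor_exact K' (LinearMap.exact_map_mkQ_range (gt g))
    (Submodule.mkQ_surjective _)
  obtain ⟨v, hv⟩ := (hex _).1 hw
  refine ⟨Fintype.linearCombination R (fun i => coord K' i v), ?_⟩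
  have hcomp : (Fintype.linearCombination R (fun i => coord K' i v) ∘ₗ ι) ∘ₗ p = γ ∘ₗ p := by
    refine LinearMap.pi_ext fun j x => ?_
    have hx : (Pi.single j x : Fin m → R) = x • (Pi.single j (1:R) : Fin m → R) := by
      funext l
      simp [Pi.single_apply]
    rw [hx, map_smul, map_smul]
    congr 1
    show Fintype.linearCombination R (fun i => coord K' i v) (ι (p (Pi.single j 1))) =
      γ (p (Pi.single j 1))
    rw [hιp, Fintype.linearCombination_apply]
    have h2 := key2 g K' j v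
    rw [hv] at h2
    have h3 : coord K' j (∑ j : Fin m, (Pi.single j (1:R) : Fin m → R) ⊗ₜ[R]
        γ (p (Pi.single j 1))) = γ (p (Pi.single j 1)) := by
      simp only [map_sum, coord_tmul, Pi.single_apply]
      simp [ite_smul]
    rw [h3] at h2
    rw [h2]
    rfl
  exact (LinearMap.cancel_right hp).1 hcomp

end Alg

section Bridge

open CategoryTheory MonoidalCategory Groth.Agent.H82.LDer Groth.Agent.H82

variable {R : Type u} [CommRing R]

theorem tor_flip_map_zero (Mc M'c Nc : ModuleCat.{u} R) (a : Mc ⟶ M'c)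
    (h : ((Tor (ModuleCat.{u} R) 1).map a).app Nc = 0) :
    ((Tor (ModuleCat.{u} R) 1).obj Nc).map a = 0 := by
  obtain ⟨e⟩ := TorSymm.nonempty_tor_iso_flip (A := R) 1
  have h1 := congrArg (fun t => t.app Nc) (e.hom.naturality a)
  simp only [NatTrans.comp_app] at h1
  rw [h, Limits.zero_comp] at h1
  have h2 : ((Tor (ModuleCat.{u} R) 1).flip.map a).app Nc =
      ((Tor (ModuleCat.{u} R) 1).obj Nc).map a := rfl
  rw [h2] at h1
  haveI : IsIso ((e.hom.app Mc).app Nc) :=
    inferInstanceAs (IsIso (((e.app Mc).app Nc).hom))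
  exact (cancel_epi ((e.hom.app Mc).app Nc)).1 (by rw [← h1, Limits.comp_zero])

theorem whisker_kills (Nc : ModuleCat.{u} R) {S S' : ShortComplex (ModuleCat.{u} R)}
    (hS : S.ShortExact) (hS' : S'.ShortExact) (φ : S ⟶ S')
    (h0 : ((Tor (ModuleCat.{u} R) 1).obj Nc).map φ.τ₃ = 0)
    (z : (Nc ⊗ S.X₁ : ModuleCat.{u} R)) (hz : (Nc ◁ S.f) z = 0) : (Nc ◁ φ.τ₁) z = 0 := by
  let t := TorColim.natLES_tor Nc
  let e0 : (Tor (ModuleCat.{u} R) 0).obj Nc ≅ tensorLeft Nc :=
    (tensorLeft Nc).leftDerivedZeroIsoSelf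
  have hnat : t.δ S hS 0 ≫ ((Tor (ModuleCat.{u} R) 0).obj Nc).map φ.τ₁ =
      ((Tor (ModuleCat.{u} R) 1).obj Nc).map φ.τ₃ ≫ t.δ S' hS' 0 := t.δ_nat φ hS hS' 0
  rw [h0, Limits.zero_comp] at hnat
  have hex := t.exact₁ S hS 0
  rw [ShortComplex.moduleCat_exact_iff] at hex
  have hz₀ : ((Tor (ModuleCat.{u} R) 0).obj Nc).map S.f ((e0.inv.app S.X₁) z) = 0 := by
    have hn := FiltColim.app_congr (e0.inv.naturality S.f) z
    rw [FiltColim.app_comp, FiltColim.app_comp] at hn
    rw [← hn]
    have hz2 : ((tensorLeft Nc).map S.f) z = 0 := hz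
    rw [hz2, map_zero]
  obtain ⟨w, hw⟩ := hex ((e0.inv.app S.X₁) z) hz₀
  have h1 : ((Tor (ModuleCat.{u} R) 0).obj Nc).map φ.τ₁ ((e0.inv.app S.X₁) z) = 0 := by
    have h2 := FiltColim.app_congr hnat w
    rw [FiltColim.app_comp] at h2
    have hw' : (t.δ S hS 0) w = (e0.inv.app S.X₁) z := hw
    rw [hw'] at h2
    exact h2
  have hn2 := FiltColim.app_congr (e0.hom.naturality φ.τ₁) ((e0.inv.app S.X₁) z)
  rw [FiltColim.app_comp, FiltColim.app_comp] at hn2
  have hzz : (e0.hom.app S.X₁) ((e0.inv.app S.X₁) z) = z := by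
    rw [← FiltColim.app_comp, Iso.inv_hom_id_app]
    rfl
  rw [h1, map_zero, hzz] at hn2
  exact hn2.symm

theorem bridge (N : Type u) [AddCommGroup N] [Module R N]
    {K F M K' P M' : Type u} [AddCommGroup K] [Module R K] [AddCommGroup F] [Module R F]
    [AddCommGroup M] [Module R M] [AddCommGroup K'] [Module R K'] [AddCommGroup P] [Module R P]
    [AddCommGroup M'] [Module R M']
    (i : K →ₗ[R] F) (f : F →ₗ[R] M) (hi : Function.Injective i) (hf : Function.Surjective f)
    (hex : Function.Exact i f)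
    (i' : K' →ₗ[R] P) (π : P →ₗ[R] M') (hi' : Function.Injective i') (hπ : Function.Surjective π)
    (hex' : Function.Exact i' π)
    (γ : K →ₗ[R] K') (β : F →ₗ[R] P) (α : M →ₗ[R] M') (c1 : i' ∘ₗ γ = β ∘ₗ i)
    (c2 : π ∘ₗ β = α ∘ₗ f)
    (h0 : ((Tor (ModuleCat.{u} R) 1).map (ModuleCat.ofHom α)).app (ModuleCat.of R N) = 0)
    (z : N ⊗[R] K) (hz : LinearMap.lTensor N i z = 0) : LinearMap.lTensor N γ z = 0 := by
  have hS := TorFlat.shortExact_of (A := R) i f hi hf hex
  have hS' := TorFlat.shortExact_of (A := R) i' π hi' hπ hex'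
  let φ : ModuleCat.shortComplexOfCompEqZero i f hex.linearMap_comp_eq_zero ⟶
      ModuleCat.shortComplexOfCompEqZero i' π hex'.linearMap_comp_eq_zero :=
    { τ₁ := ModuleCat.ofHom γ
      τ₂ := ModuleCat.ofHom β
      τ₃ := ModuleCat.ofHom α
      comm₁₂ := ModuleCat.hom_ext c1
      comm₂₃ := ModuleCat.hom_ext c2 }
  have h1 := tor_flip_map_zero (ModuleCat.of R M) (ModuleCat.of R M')
      (ModuleCat.of R N) (ModuleCat.ofHom α) h0
  exact whisker_kills (ModuleCat.of R N) hS hS' φ h1 z hz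

end Bridge

section Main

variable {R : Type u} [CommRing R]

theorem main_abstract {M M' P : Type u} [AddCommGroup M] [Module R M]
    [Module.FinitePresentation R M] [AddCommGroup M'] [Module R M'] [AddCommGroup P] [Module R P]
    (α : M →ₗ[R] M') (π : P →ₗ[R] M') (hπ : Function.Surjective π)
    (h : ∀ (N : Type u) [AddCommGroup N] [Module R N],
      ((CategoryTheory.Tor (ModuleCat.{u} R) 1).map (ModuleCat.ofHom α)).app (ModuleCat.of R N) = 0) :
    ∃ gbar : M →ₗ[R] P, α = π ∘ₗ gbar := by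
  classical
  obtain ⟨n, m, f, g, hf, hfg⟩ := Module.FinitePresentation.exists_fin' R M
  let K : Submodule R (Fin n → R) := LinearMap.ker f
  let p : (Fin m → R) →ₗ[R] K := g.codRestrict K (fun x => hfg.apply_apply_eq_zero x)
  have hp : Function.Surjective p := by
    rintro ⟨x, hx⟩
    obtain ⟨y, hy⟩ := (hfg x).1 hx
    exact ⟨y, Subtype.ext hy⟩
  have hpg : K.subtype ∘ₗ p = g := LinearMap.ext fun x => rfl
  let K' : Submodule R P := LinearMap.ker π
  obtain ⟨β, hβ⟩ := Module.projective_lifting_property π (α ∘ₗ f) hπ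
  have hβx : ∀ x, π (β x) = α (f x) := fun x => LinearMap.congr_fun hβ x
  let γ : K →ₗ[R] K' := (β ∘ₗ K.subtype).codRestrict K' (fun x => by
    show π (β x.1) = 0
    rw [hβx, LinearMap.mem_ker.1 x.2, map_zero])
  have hex' : Function.Exact (K'.subtype : K' →ₗ[R] P) π :=
    LinearMap.exact_subtype_ker_map π
  have H : ∀ z : TrN g ⊗[R] K, LinearMap.lTensor (TrN g) K.subtype z = 0 →
      LinearMap.lTensor (TrN g) γ z = 0 := by
    intro z hz
    exact bridge (TrN g) K.subtype f K.injective_subtype hf (LinearMap.exact_subtype_ker_map f)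
      (K'.subtype : K' →ₗ[R] P) π K'.injective_subtype hπ hex' γ β α
      (LinearMap.ext fun x => rfl) hβ (h (TrN g)) z hz
  obtain ⟨ψ, hψ⟩ := lemmaA g K.subtype p hp hpg γ H
  have hψx : ∀ x : K, ψ x.1 = γ x := fun x => LinearMap.congr_fun hψ x
  let g' : (Fin n → R) →ₗ[R] P := β - K'.subtype ∘ₗ ψ
  have hle : LinearMap.ker f ≤ LinearMap.ker g' := by
    intro x hx
    rw [LinearMap.mem_ker]
    show β x - (ψ x).1 = 0
    have := hψx ⟨x, hx⟩
    rw [show ψ x = γ ⟨x, hx⟩ from this]
    show β x - β x = 0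
    exact sub_self _
  let gbar : M →ₗ[R] P :=
    (LinearMap.ker f).liftQ g' hle ∘ₗ (f.quotKerEquivOfSurjective hf).symm.toLinearMap
  have hgbar : ∀ x, gbar (f x) = g' x := by
    intro x
    show (LinearMap.ker f).liftQ g' hle ((f.quotKerEquivOfSurjective hf).symm (f x)) = g' x
    rw [LinearMap.quotKerEquivOfSurjective_symm_apply]
    rfl
  refine ⟨gbar, ?_⟩
  refine (LinearMap.cancel_right hf).1 (LinearMap.ext fun x => ?_)
  show α (f x) = π (gbar (f x))
  rw [hgbar]
  show α (f x) = π (β x - (ψ x).1)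
  rw [map_sub, hβx, LinearMap.mem_ker.1 (ψ x).2, sub_zero]

end Main


/-- Let α : M → M' be a map of R-modules with M finitely presented such that the induced map Tor_1(M, N)
→ Tor_1(M', N) is zero for every R-module N. Then α is the composite of a map from M into a free
R-module and a map from that free module to M'. -/
theorem result (R : Type u) [CommRing R] (M M' : Type u) [AddCommGroup M] [Module R M] [Module.FinitePresentation R M] [AddCommGroup M'] [Module R M'] (α : M →ₗ[R] M') (h : ∀ (N : Type u) [AddCommGroup N] [Module R N], ((CategoryTheory.Tor (ModuleCat.{u} R) 1).map (ModuleCat.ofHom α)).app (ModuleCat.of R N) = 0) : ∃ (ι : Type u) (g : M →ₗ[R] (ι →₀ R)) (h : (ι →₀ R) →ₗ[R] M'), α = h ∘ₗ g := by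
  obtain ⟨gbar, hg⟩ := main_abstract α (Finsupp.linearCombination R (id : M' → M'))
    (Finsupp.linearCombination_id_surjective R M') h
  exact ⟨M', gbar, Finsupp.linearCombination R (id : M' → M'), hg⟩

end Groth.Agent.S1740
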