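import Groth.Statements.S17409
import Mathlib.RingTheory.MvPolynomial.Ideal
import Mathlib.Algebra.Polynomial.Div
import Mathlib.RingTheory.Polynomial.Basic
-- import your own Groth.Agent.* helpers here

set_option autoImplicit false
universe u
open Prym5

namespace Groth.Agent.S17409

/-- Over a perfect field K of characteristic different from 2 and 3, let G₂, G₃, G₄ be polynomials in
two variables x, y and consider G₂ z² + 2 G₃ z + G₄ as a polynomial in the three variables x, y, z.
If it lies in the square of the ideal (x, y, z) — the surface it defines has a double point at the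
origin — then the discriminant G₃² − G₂ G₄ lies in the square of the ideal (x, y) of K[x, y], so the
plane curve G₃² − G₂ G₄ = 0 is singular at the origin. (This is the affine-local form used in the
published proof: the surface is a quartic with a node at the centre of projection placed at infinity
on the z-axis, and the curve is the branch sextic of that projection.) -/
theorem result (K : Type u) [Field K] [PerfectField K]
    (h2 : (2 : K) ≠ 0) (h3 : (3 : K) ≠ 0) (G₂ G₃ G₄ : MvPolynomial (Fin 2) K)
    (h : MvPolynomial.rename (Fin.castSucc : Fin 2 → Fin 3) G₂ * MvPolynomial.X (2 : Fin 3) ^ 2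
        + 2 * MvPolynomial.rename (Fin.castSucc : Fin 2 → Fin 3) G₃ * MvPolynomial.X (2 : Fin 3)
        + MvPolynomial.rename (Fin.castSucc : Fin 2 → Fin 3) G₄
        ∈ (Ideal.span (Set.range (MvPolynomial.X : Fin 3 → MvPolynomial (Fin 3) K))) ^ 2) :
    G₃ ^ 2 - G₂ * G₄ ∈ (Ideal.span (Set.range (MvPolynomial.X : Fin 2 → MvPolynomial (Fin 2) K))) ^ 2 := by
  classical
  set J : Ideal (MvPolynomial (Fin 3) K) :=
    Ideal.span (Set.range (MvPolynomial.X : Fin 3 → MvPolynomial (Fin 3) K)) with hJ
  set I : Ideal (MvPolynomial (Fin 2) K) :=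
    Ideal.span (Set.range (MvPolynomial.X : Fin 2 → MvPolynomial (Fin 2) K)) with hI
  have h23 : (2 : Fin 3) = Fin.last 2 := rfl
  -- first hom: kill the last variable
  let π₀ : MvPolynomial (Fin 3) K →ₐ[K] MvPolynomial (Fin 2) K :=
    MvPolynomial.aeval (Fin.lastCases (0 : MvPolynomial (Fin 2) K) (fun i => MvPolynomial.X i))
  have hπ₀r : ∀ G : MvPolynomial (Fin 2) K,
      π₀ (MvPolynomial.rename (Fin.castSucc : Fin 2 → Fin 3) G) = G := by
    intro G
    change MvPolynomial.aeval _ (MvPolynomial.rename _ G) = G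
    rw [MvPolynomial.aeval_rename]
    have : (Fin.lastCases (0 : MvPolynomial (Fin 2) K) (fun i => MvPolynomial.X i)) ∘
        (Fin.castSucc : Fin 2 → Fin 3) = MvPolynomial.X := by
      funext i; simp
    rw [this, MvPolynomial.aeval_X_left_apply]
  have hπ₀X : π₀ (MvPolynomial.X (2 : Fin 3)) = 0 := by
    change MvPolynomial.aeval _ (MvPolynomial.X (2 : Fin 3)) = 0
    rw [MvPolynomial.aeval_X, h23, Fin.lastCases_last]
  have hπ₀J : Ideal.map π₀ J ≤ I := by
    rw [hJ, Ideal.map_span, Ideal.span_le]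
    rintro _ ⟨_, ⟨i, rfl⟩, rfl⟩
    change MvPolynomial.aeval _ (MvPolynomial.X i) ∈ I
    rw [MvPolynomial.aeval_X]
    refine Fin.lastCases ?_ (fun j => ?_) i
    · rw [Fin.lastCases_last]; exact I.zero_mem
    · rw [Fin.lastCases_castSucc]; exact Ideal.subset_span ⟨j, rfl⟩
  have hG₄ : G₄ ∈ I ^ 2 := by
    have h1 : π₀ (MvPolynomial.rename (Fin.castSucc : Fin 2 → Fin 3) G₂ * MvPolynomial.X (2 : Fin 3) ^ 2
        + 2 * MvPolynomial.rename (Fin.castSucc : Fin 2 → Fin 3) G₃ * MvPolynomial.X (2 : Fin 3)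
        + MvPolynomial.rename (Fin.castSucc : Fin 2 → Fin 3) G₄) ∈ Ideal.map π₀ (J ^ 2) :=
      Ideal.mem_map_of_mem _ h
    rw [Ideal.map_pow] at h1
    have h2 := Ideal.pow_right_mono hπ₀J 2 h1
    simpa [hπ₀r, hπ₀X] using h2
  -- second hom: kill the first two variables
  let ρ : MvPolynomial (Fin 3) K →ₐ[K] Polynomial K :=
    MvPolynomial.aeval (Fin.lastCases (Polynomial.X : Polynomial K) (fun _ => 0))
  have hρr : ∀ G : MvPolynomial (Fin 2) K,
      ρ (MvPolynomial.rename (Fin.castSucc : Fin 2 → Fin 3) G) =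
        Polynomial.C (MvPolynomial.constantCoeff G) := by
    intro G
    change MvPolynomial.aeval _ (MvPolynomial.rename _ G) = _
    rw [MvPolynomial.aeval_rename]
    have : (Fin.lastCases (Polynomial.X : Polynomial K) (fun _ => 0)) ∘
        (Fin.castSucc : Fin 2 → Fin 3) = fun _ => (0 : Polynomial K) := by
      funext i; simp
    rw [this, MvPolynomial.aeval_zero']
    rfl
  have hρX : ρ (MvPolynomial.X (2 : Fin 3)) = Polynomial.X := by
    change MvPolynomial.aeval _ (MvPolynomial.X (2 : Fin 3)) = _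
    rw [MvPolynomial.aeval_X, h23, Fin.lastCases_last]
  have hρJ : Ideal.map ρ J ≤ Ideal.span {(Polynomial.X : Polynomial K)} := by
    rw [hJ, Ideal.map_span, Ideal.span_le]
    rintro _ ⟨_, ⟨i, rfl⟩, rfl⟩
    change MvPolynomial.aeval _ (MvPolynomial.X i) ∈ _
    rw [MvPolynomial.aeval_X]
    refine Fin.lastCases ?_ (fun j => ?_) i
    · rw [Fin.lastCases_last]; exact Ideal.subset_span rfl
    · rw [Fin.lastCases_castSucc]; exact Ideal.zero_mem _
  have hg₃ : MvPolynomial.constantCoeff G₃ = 0 := by
    have h1 : ρ (MvPolynomial.rename (Fin.castSucc : Fin 2 → Fin 3) G₂ * MvPolynomial.X (2 : Fin 3) ^ 2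
        + 2 * MvPolynomial.rename (Fin.castSucc : Fin 2 → Fin 3) G₃ * MvPolynomial.X (2 : Fin 3)
        + MvPolynomial.rename (Fin.castSucc : Fin 2 → Fin 3) G₄) ∈ Ideal.map ρ (J ^ 2) :=
      Ideal.mem_map_of_mem _ h
    rw [Ideal.map_pow] at h1
    have h2' := Ideal.pow_right_mono hρJ 2 h1
    rw [Ideal.span_singleton_pow, Ideal.mem_span_singleton, Polynomial.X_pow_dvd_iff] at h2'
    have h3 := h2' 1 (by norm_num)
    simp only [map_add, map_mul, map_pow, hρr, hρX, map_ofNat] at h3
    have h4 : (2 : K) * MvPolynomial.constantCoeff G₃ = 0 := by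
      have : (2 : Polynomial K) = Polynomial.C 2 := (map_ofNat Polynomial.C 2).symm
      rw [this] at h3
      simpa [Polynomial.coeff_X_pow, Polynomial.coeff_C, Polynomial.coeff_X] using h3
    exact (mul_eq_zero.mp h4).resolve_left h2
  have hG₃ : G₃ ∈ I := by
    have : G₃ ∈ I ^ 1 := by
      rw [hI, MvPolynomial.mem_pow_idealOfVars_iff']
      intro x hx
      have hx0 : x = 0 := by
        have : Finsupp.degree x = 0 := by omega
        exact (Finsupp.degree_eq_zero_iff x).mp this
      rw [hx0]
      exact hg₃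
    simpa using this
  exact Ideal.sub_mem _ (Ideal.pow_mem_pow hG₃ 2) (Ideal.mul_mem_left _ _ hG₄)

end Groth.Agent.S17409
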