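import Groth.Statements.S1741
import Groth.Agent.S1740
import Groth.Agent.H82.ExtTor
import Groth.Agent.H82.TorShift

set_option autoImplicit false
universe u
open CategoryTheory
attribute [local instance] HasDerivedCategory.standard
open LocCoh

namespace Groth.Agent.S1741

set_option linter.unusedSectionVars false
set_option linter.unusedVariables false
set_option linter.style.haveILetI false
set_option backward.isDefEq.respectTransparency false

open Groth.Agent.H82.ExtTor Groth.Agent.H82.TorShift Groth.Agent.H82

section Aux

variable {R : Type u} [CommRing R]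

theorem projective_of (P : Type u) [AddCommGroup P] [Module R P] [Module.Projective R P] :
    Projective (ModuleCat.of R P) :=
  (IsProjective.iff_projective (R := R) (P := P)).mp inferInstance

theorem exists_cover (M' : Type u) [AddCommGroup M'] [Module R M'] :
    ∃ (P : Type u) (_ : AddCommGroup P) (_ : Module R P) (_ : Module.Projective R P)
      (π : P →ₗ[R] M'), Function.Surjective π :=
  ⟨(M' →₀ R), inferInstance, inferInstance, inferInstance, Finsupp.linearCombination R id,
    Finsupp.linearCombination_id_surjective R M'⟩

theorem torCond_zero_iff {M M' P : Type u} [AddCommGroup M] [Module R M]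
    [Module.FinitePresentation R M] [AddCommGroup M'] [Module R M'] [AddCommGroup P] [Module R P]
    [Module.Projective R P] (α : M →ₗ[R] M') (π : P →ₗ[R] M') (hπ : Function.Surjective π) :
    TorCond (ModuleCat.ofHom α) 0 ↔
      ∃ g : ModuleCat.of R M ⟶ ModuleCat.of R P, g ≫ ModuleCat.ofHom π = ModuleCat.ofHom α := by
  constructor
  · intro h
    obtain ⟨gbar, hg⟩ := Groth.Agent.S1740.main_abstract α π hπ
      (fun N _ _ => h (ModuleCat.of R N))
    exact ⟨ModuleCat.ofHom gbar, by rw [hg]; rfl⟩
  · rintro ⟨g, hg⟩
    rw [← hg]
    haveI : Projective (ModuleCat.of R P) := projective_of P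
    exact torCond_of_factors g (ModuleCat.ofHom π) 0

theorem main [IsNoetherianRing R] [HasExt.{u+1} (ModuleCat.{u} R)] (e : ℕ) :
    ∀ (M M' : Type u) [AddCommGroup M] [Module R M] [Module.Finite R M] [AddCommGroup M']
      [Module R M'] (α : M →ₗ[R] M'),
      ExtCond.{u+1} (ModuleCat.ofHom α) e ↔ TorCond (ModuleCat.ofHom α) e := by
  induction e with
  | zero =>
    intro M M' _ _ _ _ _ α
    obtain ⟨P, _, _, _, π, hπ⟩ := exists_cover (R := R) M'
    have hS' := TorFlat.shortExact_of (A := R) (LinearMap.ker π).subtype π
      (LinearMap.ker π).injective_subtype hπ (LinearMap.exact_subtype_ker_map π)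
    haveI : Projective (ModuleCat.of R P) := projective_of _
    haveI : Module.FinitePresentation R M := Module.finitePresentation_of_finite R M
    rw [torCond_zero_iff α π hπ]
    exact extCond_zero_iff hS' (ModuleCat.ofHom α)
  | succ n ih =>
    intro M M' _ _ _ _ _ α
    obtain ⟨k, f, hf⟩ := Module.Finite.exists_fin' R M
    have hS := TorFlat.shortExact_of (A := R) (LinearMap.ker f).subtype f
      (LinearMap.ker f).injective_subtype hf (LinearMap.exact_subtype_ker_map f)
    obtain ⟨P, _, _, _, π, hπ⟩ := exists_cover (R := R) M'
    have hS' := TorFlat.shortExact_of (A := R) (LinearMap.ker π).subtype π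
      (LinearMap.ker π).injective_subtype hπ (LinearMap.exact_subtype_ker_map π)
    haveI : Projective (ModuleCat.of R P) := projective_of _
    haveI : Projective (ModuleCat.of R (Fin k → R)) := projective_of _
    haveI h2 : Projective (ModuleCat.shortComplexOfCompEqZero (LinearMap.ker f).subtype f
      (LinearMap.exact_subtype_ker_map f).linearMap_comp_eq_zero).X₂ :=
      inferInstanceAs (Projective (ModuleCat.of R (Fin k → R)))
    haveI h2' : Projective (ModuleCat.shortComplexOfCompEqZero (LinearMap.ker π).subtype π
      (LinearMap.exact_subtype_ker_map π).linearMap_comp_eq_zero).X₂ :=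
      inferInstanceAs (Projective (ModuleCat.of R P))
    obtain ⟨φ, hφ⟩ := exists_hom_of_projective hS hS' (ModuleCat.ofHom α)
    have e1 := extCond_step.{u+1} hS hS' φ n
    have e2 := torCond_step hS hS' φ n
    rw [hφ] at e1 e2
    have e3 := ih (LinearMap.ker f) (LinearMap.ker π) φ.τ₁.hom
    exact e1.trans (e3.trans e2.symm)

end Aux


/-- Equivalence of (4) and (7) in the Noetherian case. Let R be a Noetherian ring, α : M → M' a map of
R-modules with M finite, and e ≥ 0. Then precomposition with α kills all classes in Ext^{e+1}(M', N)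
(maps M' → N[e+1] in D(R)) for every module N if and only if the map Tor_{e+1}(M, N) → Tor_{e+1}(M',
N) induced by α is zero for every module N. -/
theorem result (R : Type u) [CommRing R] [IsNoetherianRing R] (M M' : Type u) [AddCommGroup M] [Module R M] [Module.Finite R M] [AddCommGroup M'] [Module R M'] (α : M →ₗ[R] M') (e : ℕ) : (∀ (N : Type u) [AddCommGroup N] [Module R N] (φ : Dual.inD R M' ⟶ (Dual.inD R N)⟦((e : ℤ) + 1)⟧), (DerivedCategory.singleFunctor (ModuleCat.{u} R) 0).map (ModuleCat.ofHom α) ≫ φ = 0) ↔ (∀ (N : Type u) [AddCommGroup N] [Module R N], ((CategoryTheory.Tor (ModuleCat.{u} R) (e + 1)).map (ModuleCat.ofHom α)).app (ModuleCat.of R N) = 0) := by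
  haveI : HasExt.{u+1} (ModuleCat.{u} R) := HasExt.standard _
  constructor
  · intro hL
    have hE : ExtCond.{u+1} (ModuleCat.ofHom α) e :=
      (extCond_iff_hom _ e).mpr (fun N φ => hL N φ)
    intro N _ _
    exact (main e M M' α).mp hE (ModuleCat.of R N)
  · intro hT
    have hTc : TorCond (ModuleCat.ofHom α) e := fun N => hT N
    have hE := (main e M M' α).mpr hTc
    intro N _ _ φ
    exact (extCond_iff_hom _ e).mp hE (ModuleCat.of R N) φ

end Groth.Agent.S1741
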