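import Groth.Statements.S17410
import Mathlib

set_option autoImplicit false
universe u
open Prym5

namespace Groth.Agent.S17410

open Polynomial

section gena
variable {P : Type u} [CommRing P] [IsDomain P] (h : Polynomial P) (S : Submonoid P)
variable (L : Type u) [CommRing L] [Algebra P L] [IsLocalization S L]
variable (AS : Type u) [CommRing AS] [Algebra (AdjoinRoot h) AS]
  [IsLocalization (Algebra.algebraMapSubmonoid (AdjoinRoot h) S) AS]
  [Algebra L AS] [Algebra P AS] [IsScalarTower P L AS] [IsScalarTower P (AdjoinRoot h) AS]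

include S in
theorem integral_of_unit (hu : IsUnit (algebraMap P L h.leadingCoeff)) :
    Algebra.IsIntegral L AS := by
  constructor
  by_cases hL : Subsingleton L
  · intro x
    refine ⟨X, Subsingleton.elim _ _, ?_⟩
    have : Subsingleton AS := by
      refine subsingleton_of_zero_eq_one ?_
      rw [← map_one (algebraMap L AS), ← map_zero (algebraMap L AS)]
      exact congrArg _ (Subsingleton.elim _ _)
    exact Subsingleton.elim _ _
  rw [not_subsingleton_iff_nontrivial] at hL
  obtain ⟨u, hu'⟩ := hu
  -- root integral
  have hz : IsIntegral L (algebraMap (AdjoinRoot h) AS (AdjoinRoot.root h)) := by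
    have hne : algebraMap P L h.leadingCoeff ≠ 0 := by
      rw [← hu']; exact u.ne_zero
    have hlc : (h.map (algebraMap P L)).leadingCoeff = algebraMap P L h.leadingCoeff :=
      Polynomial.leadingCoeff_map_of_leadingCoeff_ne_zero _ hne
    refine ⟨C (↑u⁻¹ : L) * h.map (algebraMap P L), ?_, ?_⟩
    · apply Polynomial.monic_C_mul_of_mul_leadingCoeff_eq_one
      rw [hlc, ← hu']; simp
    · have h0 : Polynomial.aeval (algebraMap (AdjoinRoot h) AS (AdjoinRoot.root h))
          (h.map (algebraMap P L)) = 0 := by
        rw [Polynomial.aeval_map_algebraMap,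
          Polynomial.aeval_algebraMap_apply (R := P) (A := AdjoinRoot h) (B := AS),
          AdjoinRoot.aeval_eq, AdjoinRoot.mk_self, map_zero]
      rw [Polynomial.eval₂_mul, ← Polynomial.aeval_def (R := L) _ (h.map (algebraMap P L)), h0,
        mul_zero]
  have hA : ∀ α : AdjoinRoot h, IsIntegral L (algebraMap (AdjoinRoot h) AS α) := by
    intro α
    induction α using AdjoinRoot.induction_on with
    | ih p =>
      induction p using Polynomial.induction_on with
      | C c =>
        have : algebraMap (AdjoinRoot h) AS (AdjoinRoot.mk h (C c)) =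
            algebraMap L AS (algebraMap P L c) := by
          rw [AdjoinRoot.mk_C, ← AdjoinRoot.algebraMap_eq, ← IsScalarTower.algebraMap_apply,
            ← IsScalarTower.algebraMap_apply]
        rw [this]; exact isIntegral_algebraMap
      | add p q hp hq => rw [map_add, map_add]; exact hp.add hq
      | monomial n c ih =>
        rw [pow_succ, ← mul_assoc, map_mul, map_mul, AdjoinRoot.mk_X]
        exact ih.mul hz
  intro x
  obtain ⟨⟨α, s⟩, hx⟩ := IsLocalization.surj (Algebra.algebraMapSubmonoid (AdjoinRoot h) S) x
  obtain ⟨s0, hs0, hs0'⟩ := s.2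
  simp only at hx
  have hunit : IsUnit (algebraMap P L s0) := IsLocalization.map_units L ⟨s0, hs0⟩
  obtain ⟨v, hv⟩ := hunit
  have : x = algebraMap (AdjoinRoot h) AS α * algebraMap L AS (↑v⁻¹ : L) := by
    have h1 : algebraMap (AdjoinRoot h) AS s.1 = algebraMap L AS (v : L) := by
      rw [hv, ← hs0', ← IsScalarTower.algebraMap_apply, ← IsScalarTower.algebraMap_apply]
    rw [← hx, h1, mul_assoc, ← map_mul]; simp
  rw [this]
  exact (hA α).mul isIntegral_algebraMap

end gena

section gen
variable {P : Type u} [CommRing P] [IsDomain P] (h : Polynomial P) (S : Submonoid P)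
variable (L : Type u) [CommRing L] [Algebra P L] [IsLocalization S L]
variable (AS : Type u) [CommRing AS] [Algebra (AdjoinRoot h) AS]
  [IsLocalization (Algebra.algebraMapSubmonoid (AdjoinRoot h) S) AS]
  [Algebra L AS] [Algebra P AS] [IsScalarTower P L AS] [IsScalarTower P (AdjoinRoot h) AS]

include S in
theorem unit_of_integral (hint : Algebra.IsIntegral L AS) :
    IsUnit (algebraMap P L h.leadingCoeff) := by
  by_cases hL : Subsingleton L
  · exact isUnit_of_subsingleton _
  rw [not_subsingleton_iff_nontrivial] at hL
  have h0S : S ≤ nonZeroDivisors P := by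
    intro s hs
    rw [mem_nonZeroDivisors_iff_ne_zero]
    rintro rfl
    have := IsLocalization.map_units L (⟨0, hs⟩ : S)
    simp at this
  have hinj : Function.Injective (algebraMap P L) := IsLocalization.injective L h0S
  obtain ⟨g, hg, hg0⟩ := hint.isIntegral (algebraMap (AdjoinRoot h) AS (AdjoinRoot.root h))
  rw [← Polynomial.aeval_def] at hg0
  obtain ⟨b, hb⟩ := IsLocalization.integerNormalization_map_to_map S g (S := L)
  obtain ⟨G, hG⟩ : ∃ G, G = IsLocalization.integerNormalization S g := ⟨_, rfl⟩
  rw [← hG] at hb
  replace hb : G.map (algebraMap P L) = C (algebraMap P L b) * g := by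
    rw [hb, algebra_compatible_smul L (b : P) g, Polynomial.smul_eq_C_mul]
  have hbu : IsUnit (algebraMap P L b) := IsLocalization.map_units L b
  -- aeval root G maps to zero
  have h1 : algebraMap (AdjoinRoot h) AS (AdjoinRoot.mk h G) = 0 := by
    rw [← AdjoinRoot.aeval_eq, ← Polynomial.aeval_algebraMap_apply (R := P),
      ← Polynomial.aeval_map_algebraMap L, hb, map_mul, hg0, mul_zero]
  rw [IsLocalization.map_eq_zero_iff (Algebra.algebraMapSubmonoid (AdjoinRoot h) S)] at h1
  obtain ⟨⟨s', s, hs, rfl⟩, hs'⟩ := h1
  simp only at hs'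
  rw [AdjoinRoot.algebraMap_eq, ← AdjoinRoot.mk_C, ← map_mul, AdjoinRoot.mk_eq_zero] at hs'
  obtain ⟨q, hq⟩ := hs'
  -- leading coefficients
  have hlcG : algebraMap P L G.leadingCoeff = algebraMap P L b := by
    rw [← Polynomial.leadingCoeff_map_of_injective hinj, hb]
    rw [Polynomial.leadingCoeff_mul_monic hg, Polynomial.leadingCoeff_C]
  have hlc := congrArg Polynomial.leadingCoeff hq
  rw [Polynomial.leadingCoeff_mul, Polynomial.leadingCoeff_mul, Polynomial.leadingCoeff_C] at hlc
  have hlc' := congrArg (algebraMap P L) hlc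
  rw [map_mul, map_mul, hlcG] at hlc'
  have hU : IsUnit (algebraMap P L s * algebraMap P L b) :=
    (IsLocalization.map_units L ⟨s, hs⟩).mul hbu
  rw [hlc'] at hU
  exact isUnit_of_mul_isUnit_left hU

end gen

section fr
variable {P : Type u} [CommRing P] [IsDomain P] (h : Polynomial P)

theorem finrank_tensor (F : Type u) [Field F] [Algebra P F] [IsFractionRing P F] (h0 : h ≠ 0) :
    Module.finrank F (TensorProduct P F (AdjoinRoot h)) = h.natDegree := by
  have hinj : Function.Injective (algebraMap P F) := IsFractionRing.injective P F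
  have hne : h.map (algebraMap P F) ≠ 0 := by
    rwa [Ne, Polynomial.map_eq_zero_iff hinj]
  -- forward
  let g : AdjoinRoot h →ₐ[P] AdjoinRoot (h.map (algebraMap P F)) :=
    AdjoinRoot.liftAlgHom h (Algebra.ofId P _) (AdjoinRoot.root _) (by
      have := AdjoinRoot.eval₂_root (h.map (algebraMap P F))
      rw [Polynomial.eval₂_map] at this
      convert this using 2
      ext x
      simp [AdjoinRoot.algebraMap_eq'])
  have hg : g (AdjoinRoot.root h) = AdjoinRoot.root _ := AdjoinRoot.liftAlgHom_root _ _ _ _
  let fwd : TensorProduct P F (AdjoinRoot h) →ₐ[F] AdjoinRoot (h.map (algebraMap P F)) :=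
    Algebra.TensorProduct.lift (Algebra.ofId F _) g (fun _ _ => Commute.all _ _)
  let bwd : AdjoinRoot (h.map (algebraMap P F)) →ₐ[F] TensorProduct P F (AdjoinRoot h) :=
    AdjoinRoot.liftAlgHom _ (Algebra.ofId F _) ((1 : F) ⊗ₜ[P] AdjoinRoot.root h) (by
      rw [Polynomial.eval₂_map]
      have h1 : ((Algebra.ofId F (TensorProduct P F (AdjoinRoot h))) : F →+* _).comp (algebraMap P F) =
          (Algebra.TensorProduct.includeRight (R := P) (A := F) (B := AdjoinRoot h)).toRingHom.comp
            (algebraMap P (AdjoinRoot h)) := by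
        ext c
        show (Algebra.ofId F _) (algebraMap P F c) = (1 : F) ⊗ₜ[P] (algebraMap P (AdjoinRoot h) c)
        rw [Algebra.ofId_apply, Algebra.TensorProduct.algebraMap_apply,
          Algebra.algebraMap_eq_smul_one (A := F) c,
          Algebra.algebraMap_eq_smul_one (A := AdjoinRoot h) c, Algebra.algebraMap_self,
          RingHom.id_apply, TensorProduct.smul_tmul]
      have h2 : (1 : F) ⊗ₜ[P] AdjoinRoot.root h =
          (Algebra.TensorProduct.includeRight (R := P) (A := F) (B := AdjoinRoot h)).toRingHom
            (AdjoinRoot.root h) := rfl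
      rw [h1, h2, ← Polynomial.hom_eval₂]
      have := AdjoinRoot.eval₂_root h
      rw [AdjoinRoot.algebraMap_eq, this, map_zero])
  have hb : bwd (AdjoinRoot.root _) = (1 : F) ⊗ₜ[P] AdjoinRoot.root h :=
    AdjoinRoot.liftAlgHom_root _ _ _ _
  have e1 : fwd.comp bwd = AlgHom.id F _ := by
    apply AdjoinRoot.algHom_ext
    simp only [AlgHom.comp_apply, hb, AlgHom.id_apply]
    simp [fwd, hg]
  have e2 : bwd.comp fwd = AlgHom.id F _ := by
    apply Algebra.TensorProduct.ext
    · ext
    · apply AdjoinRoot.algHom_ext
      simp [fwd, hg, hb]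
  let e : TensorProduct P F (AdjoinRoot h) ≃ₐ[F] AdjoinRoot (h.map (algebraMap P F)) :=
    AlgEquiv.ofAlgHom fwd bwd e1 e2
  rw [e.toLinearEquiv.finrank_eq, (AdjoinRoot.powerBasis hne).finrank, AdjoinRoot.powerBasis_dim,
    Polynomial.natDegree_map_eq_of_injective hinj]

end fr

/-- Over a perfect field K of characteristic different from 2 and 3, let h be an irreducible polynomial
of degree 2 in the variable z with coefficients in K[x, y] and A = K[x, y][z]/(h). For every
multiplicative subset S of K[x, y], the localisation S⁻¹A is integral over S⁻¹K[x, y] if and only if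
the leading coefficient of h is invertible in S⁻¹K[x, y]; and K(x, y) ⊗ A is a K(x, y)-vector space
of dimension 2. (Geometrically: for a quartic surface with an ordinary double point, written u₂ x₃²
+ 2 u₃ x₃ + u₄ = 0 with the node at (0:0:0:1), the projection from the node restricted to a standard
affine chart of the plane is given by such an algebra A with leading coefficient the dehomogenised
u₂, so the projection is finite of degree two exactly over the locus u₂ ≠ 0. Stated for any
irreducible h of degree 2, which is all the argument uses.) -/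
theorem result (K : Type u) [Field K]
    [PerfectField K] (h2 : (2 : K) ≠ 0) (h3 : (3 : K) ≠ 0)
    (h : Polynomial (MvPolynomial (Fin 2) K)) (hirr : Irreducible h) (hdeg : h.natDegree = 2)
    (S : Submonoid (MvPolynomial (Fin 2) K)) :
    (Algebra.IsIntegral (Localization S) (Localization (Algebra.algebraMapSubmonoid (AdjoinRoot h) S))
        ↔ IsUnit (algebraMap (MvPolynomial (Fin 2) K) (Localization S) h.leadingCoeff))
      ∧ Module.finrank (FractionRing (MvPolynomial (Fin 2) K))
          (TensorProduct (MvPolynomial (Fin 2) K) (FractionRing (MvPolynomial (Fin 2) K)) (AdjoinRoot h)) = 2 := by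
  have h0 : h ≠ 0 := by
    rintro rfl
    simp at hdeg
  refine ⟨⟨fun hint => unit_of_integral h S _ _ hint, fun hu => integral_of_unit h S _ _ hu⟩, ?_⟩
  rw [finrank_tensor h _ h0, hdeg]

end Groth.Agent.S17410
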