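import Groth.Statements.S17411
import Groth.Agent.H54.SchemeDim
import Groth.Agent.H47.MaximalPoints

set_option autoImplicit false
universe u
open CategoryTheory AlgebraicGeometry
open Prym5

namespace Groth.Agent.S17411

/-- Dimension of an irreducible scheme locally of finite type over a field is the transcendence
degree of its generic residue field. -/
theorem dim_eq_tdeg_generic {k : Type u} [Field k] {X : Scheme.{u}}
    (s : X ⟶ Spec (CommRingCat.of k)) [LocallyOfFiniteType s] [IrreducibleSpace X] :
    topologicalKrullDim X = (H54.tdeg s (genericPoint X) : WithBot ℕ∞) := by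
  apply le_antisymm
  · refine H54.topologicalKrullDim_le_of_forall_tdeg_le s _ (fun x => ?_)
    exact H54.tdeg_le_of_specializes _ ((genericPoint_spec X).specializes trivial)
  · exact (H54.tdeg_le_topologicalKrullDim s (genericPoint X) ⊤ trivial).trans
      (topologicalKrullDim_subspace_le _ _)


/-- Let k be an algebraically closed field of characteristic zero and X, Y, Z schemes of finite type
over k, with Y and Z irreducible of the same dimension, η : Y → Z a dominant k-morphism and ρ : X →
Y a k-morphism. Then the composite ρ ≫ η is dominant exactly when ρ is dominant. (The published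
statement concerns the forgetful map from the moduli space of étale double covers of genus-five
curves to the moduli space of genus-five curves, both irreducible of dimension 12, and a morphism
into the former; its argument uses only the hypotheses kept here.) -/
theorem result (k : Type u) [Field k] [IsAlgClosed k]
    [CharZero k] (X Y Z : Scheme.{u}) [X.Over (Spec (CommRingCat.of k))] [Y.Over (Spec (CommRingCat.of k))]
    [Z.Over (Spec (CommRingCat.of k))]
    [LocallyOfFiniteType (X ↘ Spec (CommRingCat.of k))] [QuasiCompact (X ↘ Spec (CommRingCat.of k))]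
    [LocallyOfFiniteType (Y ↘ Spec (CommRingCat.of k))] [QuasiCompact (Y ↘ Spec (CommRingCat.of k))]
    [LocallyOfFiniteType (Z ↘ Spec (CommRingCat.of k))] [QuasiCompact (Z ↘ Spec (CommRingCat.of k))]
    [IrreducibleSpace Y] [IrreducibleSpace Z] (hdim : topologicalKrullDim Y = topologicalKrullDim Z)
    (ρ : X ⟶ Y) [ρ.IsOver (Spec (CommRingCat.of k))] (η : Y ⟶ Z) [η.IsOver (Spec (CommRingCat.of k))]
    [IsDominant η] :
    IsDominant (ρ ≫ η) ↔ IsDominant ρ := by
  constructor
  · intro hdom
    set pY := Y ↘ Spec (CommRingCat.of k) with hpY
    set pZ := Z ↘ Spec (CommRingCat.of k) with hpZ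
    have hη : η ≫ pZ = pY := comp_over η (Spec (CommRingCat.of k))
    -- dimensions as transcendence degrees
    have hY := dim_eq_tdeg_generic pY
    have hZ := dim_eq_tdeg_generic pZ
    have hn : H54.tdeg pY (genericPoint Y) = H54.tdeg pZ (genericPoint Z) := by
      have : ((H54.tdeg pY (genericPoint Y) : ℕ) : WithBot ℕ∞) =
          ((H54.tdeg pZ (genericPoint Z) : ℕ) : WithBot ℕ∞) := by
        rw [← hY, ← hZ, hdim]
      exact_mod_cast this
    -- quasi-compactness of ρ ≫ η
    haveI : CompactSpace X :=
      (HasAffineProperty.iff_of_isAffine (P := @QuasiCompact)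
        (f := X ↘ Spec (CommRingCat.of k))).mp inferInstance
    haveI : IsLocallyNoetherian Z := LocallyOfFiniteType.isLocallyNoetherian pZ
    haveI : QuasiCompact (ρ ≫ η) := inferInstance
    -- the generic point of Z is in the range of ρ ≫ η
    have hζirr : closure {genericPoint Z} ∈ irreducibleComponents (↑Z : Type u) := by
      rw [(genericPoint_spec Z).def, irreducibleComponents_eq_singleton]
      rfl
    have hζcl : genericPoint Z ∈ closure (Set.range (ρ ≫ η)) := by
      have : Dense (Set.range (ρ ≫ η)) := hdom.1
      exact this _
    obtain ⟨x, hx⟩ := H47.mem_range_of_mem_closure_range (ρ ≫ η) (genericPoint Z) hζirr hζcl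
    have hx' : η (ρ x) = genericPoint Z := by
      rw [← hx]; rfl
    -- tdeg comparison
    have h1 : H54.tdeg pZ (η (ρ x)) ≤ H54.tdeg pY (ρ x) := H54.tdeg_le_of_hom pZ pY η hη (ρ x)
    have hsp : genericPoint Y ⤳ ρ x := (genericPoint_spec Y).specializes trivial
    have hρx : ρ x = genericPoint Y := by
      by_contra hne
      have h2 := H54.tdeg_lt_of_specializes pY hsp (Ne.symm hne)
      rw [hx'] at h1
      omega
    -- conclude density
    refine ⟨fun y => ?_⟩
    have : genericPoint Y ∈ closure (Set.range ρ) := subset_closure ⟨x, hρx⟩
    exact ((genericPoint_spec Y).specializes (trivial : y ∈ Set.univ)).mem_closed isClosed_closure this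
  · intro h
    infer_instance

end Groth.Agent.S17411
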