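import Groth.Statements.S17414
import Mathlib.RingTheory.MvPolynomial.Ideal

set_option autoImplicit false
universe u
open Prym5

namespace Groth.Agent.S17414

/-- Over a perfect field K of characteristic different from 2 and 3, let G₂, G₃, G₄ be polynomials in x,
y, let h = G₂ z² + 2 G₃ z + G₄ in K[x, y, z] and D = G₃² − G₂ G₄ in K[x, y]. Suppose h ∈ (x, y, z) —
the origin Q lies on the surface h = 0 — and D ∈ (x, y) — the image of Q under (x, y, z) ↦ (x, y)
lies on the discriminant curve D = 0. Then D ∈ (x, y)², i.e. the image point is singular on the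
discriminant curve, if and only if either h ∈ (x, y, z)², i.e. Q is a singular point of the surface,
or G₂, G₃, G₄ ∈ (x, y), i.e. Q lies on all three cones G₂ = G₃ = G₄ = 0. (Affine-local form, in a
chart where the node projected from sits at infinity on the z-axis and Q at the origin, of the
published claim: for a point Q ≠ P of the nodal quartic whose projection lies on the branch sextic,
the projection is singular on the sextic exactly when Q is singular on the quartic or lies on the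
cones u₂ = u₃ = u₄ = 0.) -/
theorem result (K : Type u) [Field K] [PerfectField K]
    (h2 : (2 : K) ≠ 0) (h3 : (3 : K) ≠ 0) (G₂ G₃ G₄ : MvPolynomial (Fin 2) K)
    (hQ : MvPolynomial.rename (Fin.castSucc : Fin 2 → Fin 3) G₂ * MvPolynomial.X (2 : Fin 3) ^ 2
        + 2 * MvPolynomial.rename (Fin.castSucc : Fin 2 → Fin 3) G₃ * MvPolynomial.X (2 : Fin 3)
        + MvPolynomial.rename (Fin.castSucc : Fin 2 → Fin 3) G₄
        ∈ Ideal.span (Set.range (MvPolynomial.X : Fin 3 → MvPolynomial (Fin 3) K)))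
    (hD : G₃ ^ 2 - G₂ * G₄ ∈ Ideal.span (Set.range (MvPolynomial.X : Fin 2 → MvPolynomial (Fin 2) K))) :
    G₃ ^ 2 - G₂ * G₄ ∈ (Ideal.span (Set.range (MvPolynomial.X : Fin 2 → MvPolynomial (Fin 2) K))) ^ 2 ↔
      (MvPolynomial.rename (Fin.castSucc : Fin 2 → Fin 3) G₂ * MvPolynomial.X (2 : Fin 3) ^ 2
          + 2 * MvPolynomial.rename (Fin.castSucc : Fin 2 → Fin 3) G₃ * MvPolynomial.X (2 : Fin 3)
          + MvPolynomial.rename (Fin.castSucc : Fin 2 → Fin 3) G₄
          ∈ (Ideal.span (Set.range (MvPolynomial.X : Fin 3 → MvPolynomial (Fin 3) K))) ^ 2 ∨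
        (G₂ ∈ Ideal.span (Set.range (MvPolynomial.X : Fin 2 → MvPolynomial (Fin 2) K)) ∧
          G₃ ∈ Ideal.span (Set.range (MvPolynomial.X : Fin 2 → MvPolynomial (Fin 2) K)) ∧
          G₄ ∈ Ideal.span (Set.range (MvPolynomial.X : Fin 2 → MvPolynomial (Fin 2) K)))) := by
  classical
  -- notation
  set m₂ : Ideal (MvPolynomial (Fin 2) K) :=
    Ideal.span (Set.range (MvPolynomial.X : Fin 2 → MvPolynomial (Fin 2) K)) with hm₂
  set m₃ : Ideal (MvPolynomial (Fin 3) K) :=
    Ideal.span (Set.range (MvPolynomial.X : Fin 3 → MvPolynomial (Fin 3) K)) with hm₃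
  set ρ : MvPolynomial (Fin 2) K →ₐ[K] MvPolynomial (Fin 3) K :=
    MvPolynomial.rename (Fin.castSucc : Fin 2 → Fin 3) with hρ
  -- membership in the ideal of variables via the constant coefficient
  have mem_iff : ∀ {σ : Type} (p : MvPolynomial σ K),
      p ∈ Ideal.span (Set.range (MvPolynomial.X : σ → MvPolynomial σ K)) ↔
        MvPolynomial.constantCoeff p = 0 := by
    intro σ p
    have h1 := MvPolynomial.mem_pow_idealOfVars_iff' (σ := σ) (R := K) 1 p
    rw [pow_one] at h1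
    rw [h1, MvPolynomial.constantCoeff_eq]
    constructor
    · intro h; exact h 0 (by simp)
    · intro h x hx
      have : x = 0 := by
        rw [Nat.lt_one_iff, Finsupp.degree_eq_zero_iff] at hx
        exact hx
      rw [this]; exact h
  -- the retraction
  let π : MvPolynomial (Fin 3) K →ₐ[K] MvPolynomial (Fin 2) K :=
    MvPolynomial.aeval (Fin.lastCases (0 : MvPolynomial (Fin 2) K) MvPolynomial.X : Fin 3 → _)
  have hπρ : ∀ p, π (ρ p) = p := by
    intro p
    simp only [π, hρ, MvPolynomial.aeval_rename]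
    have : ((Fin.lastCases (0 : MvPolynomial (Fin 2) K) MvPolynomial.X : Fin 3 → _) ∘
        (Fin.castSucc : Fin 2 → Fin 3)) = MvPolynomial.X := by
      funext i; simp
    rw [this, MvPolynomial.aeval_X_left, AlgHom.id_apply]
  have hπz : π (MvPolynomial.X (2 : Fin 3)) = 0 := by
    simp only [π, MvPolynomial.aeval_X]
    exact Fin.lastCases_last
  have hπm : Ideal.map π m₃ ≤ m₂ := by
    rw [hm₃, Ideal.map_span, Ideal.span_le]
    rintro _ ⟨_, ⟨i, rfl⟩, rfl⟩
    simp only [π, MvPolynomial.aeval_X]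
    induction i using Fin.lastCases with
    | last =>
      rw [show (Fin.lastCases (0 : MvPolynomial (Fin 2) K) MvPolynomial.X (Fin.last 2) :
        MvPolynomial (Fin 2) K) = 0 from Fin.lastCases_last]
      exact Ideal.zero_mem _
    | cast i => simp only [Fin.lastCases_castSucc]; exact Ideal.subset_span ⟨i, rfl⟩
  have hρm : Ideal.map ρ m₂ ≤ m₃ := by
    rw [hm₂, Ideal.map_span, Ideal.span_le]
    rintro _ ⟨_, ⟨i, rfl⟩, rfl⟩
    simp only [hρ, MvPolynomial.rename_X]
    exact Ideal.subset_span ⟨_, rfl⟩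
  have hπpow : ∀ (k : ℕ) {p}, p ∈ m₃ ^ k → π p ∈ m₂ ^ k := by
    intro k p hp
    have := Ideal.mem_map_of_mem π hp
    rw [Ideal.map_pow] at this
    exact Ideal.pow_right_mono hπm k this
  have hρpow : ∀ (k : ℕ) {p}, p ∈ m₂ ^ k → ρ p ∈ m₃ ^ k := by
    intro k p hp
    have := Ideal.mem_map_of_mem ρ hp
    rw [Ideal.map_pow] at this
    exact Ideal.pow_right_mono hρm k this
  have hz : MvPolynomial.X (2 : Fin 3) ∈ m₃ := Ideal.subset_span ⟨_, rfl⟩
  -- the polynomial h
  set hh : MvPolynomial (Fin 3) K := ρ G₂ * MvPolynomial.X (2 : Fin 3) ^ 2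
        + 2 * ρ G₃ * MvPolynomial.X (2 : Fin 3) + ρ G₄ with hhh
  have hπh : π hh = G₄ := by
    simp only [hhh, map_add, map_mul, map_pow, hπz, hπρ]
    simp
  -- G₄ ∈ m₂
  have hG₄ : G₄ ∈ m₂ := by
    have := hπpow 1 (by rw [pow_one]; exact hQ)
    rwa [pow_one, hπh] at this
  -- G₃ ∈ m₂
  have hG₃ : G₃ ∈ m₂ := by
    have h1 : G₃ ^ 2 ∈ m₂ := by
      have : G₃ ^ 2 = (G₃ ^ 2 - G₂ * G₄) + G₂ * G₄ := by ring
      rw [this]
      exact Ideal.add_mem _ hD (Ideal.mul_mem_left _ _ hG₄)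
    rw [hm₂, mem_iff] at h1 ⊢
    rw [map_pow] at h1
    exact pow_eq_zero_iff (two_ne_zero) |>.1 h1
  have hG₃sq : G₃ ^ 2 ∈ m₂ ^ 2 := Ideal.pow_mem_pow hG₃ 2
  -- D ∈ m₂² ↔ G₂ G₄ ∈ m₂²
  have step1 : G₃ ^ 2 - G₂ * G₄ ∈ m₂ ^ 2 ↔ G₂ * G₄ ∈ m₂ ^ 2 := by
    constructor
    · intro h
      have : G₂ * G₄ = G₃ ^ 2 - (G₃ ^ 2 - G₂ * G₄) := by ring
      rw [this]; exact Ideal.sub_mem _ hG₃sq h
    · intro h; exact Ideal.sub_mem _ hG₃sq h
  -- h ∈ m₃² ↔ G₄ ∈ m₂²
  have step2 : hh ∈ m₃ ^ 2 ↔ G₄ ∈ m₂ ^ 2 := by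
    constructor
    · intro h
      have := hπpow 2 h
      rwa [hπh] at this
    · intro h
      have hρG₃ : ρ G₃ ∈ m₃ := by
        have := hρpow 1 (by rw [pow_one]; exact hG₃)
        rwa [pow_one] at this
      refine Ideal.add_mem _ (Ideal.add_mem _ ?_ ?_) (hρpow 2 h)
      · exact Ideal.mul_mem_left _ _ (Ideal.pow_mem_pow hz 2)
      · rw [mul_assoc, pow_two]
        exact Ideal.mul_mem_left _ _ (Ideal.mul_mem_mul hρG₃ hz)
  -- G₂ G₄ ∈ m₂² ↔ G₂ ∈ m₂ ∨ G₄ ∈ m₂²
  have step3 : G₂ * G₄ ∈ m₂ ^ 2 ↔ (G₂ ∈ m₂ ∨ G₄ ∈ m₂ ^ 2) := by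
    constructor
    · intro h
      by_cases hG₂ : G₂ ∈ m₂
      · exact Or.inl hG₂
      · right
        set c : K := MvPolynomial.constantCoeff G₂ with hc
        have hc0 : c ≠ 0 := by
          intro h0; apply hG₂; rw [hm₂, mem_iff]; exact h0
        have hG₂' : G₂ - MvPolynomial.C c ∈ m₂ := by
          rw [hm₂, mem_iff, map_sub, MvPolynomial.constantCoeff_C, sub_self]
        have h1 : MvPolynomial.C c * G₄ ∈ m₂ ^ 2 := by
          have : MvPolynomial.C c * G₄ = G₂ * G₄ - (G₂ - MvPolynomial.C c) * G₄ := by ring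
          rw [this]
          refine Ideal.sub_mem _ h ?_
          rw [pow_two]
          exact Ideal.mul_mem_mul hG₂' hG₄
        have : G₄ = MvPolynomial.C c⁻¹ * (MvPolynomial.C c * G₄) := by
          rw [← mul_assoc, ← MvPolynomial.C_mul, inv_mul_cancel₀ hc0, MvPolynomial.C_1, one_mul]
        rw [this]
        exact Ideal.mul_mem_left _ _ h1
    · rintro (h | h)
      · rw [pow_two]; exact Ideal.mul_mem_mul h hG₄
      · exact Ideal.mul_mem_left _ _ h
  rw [step1, step3, step2]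
  constructor
  · rintro (h | h)
    · exact Or.inr ⟨h, hG₃, hG₄⟩
    · exact Or.inl h
  · rintro (h | ⟨h, -, -⟩)
    · exact Or.inr h
    · exact Or.inl h

end Groth.Agent.S17414
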