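import Groth.Statements.S17428
import Mathlib.RingTheory.AdicCompletion.AsTensorProduct
-- import your own Groth.Agent.* helpers here

set_option autoImplicit false
universe u
open FrobAlg

namespace Groth.Agent.S17428

open TensorProduct

section Aux
variable (p : ℕ) [Fact p.Prime] (A : Type u) [CommRing A] [CharP A p]

theorem relFrob_tmul (B : Type u) [CommRing B] [Algebra A B] [CharP B p] (b : B)
    (t : FrobAlg.Twist p A) :
    FrobAlg.relFrob p A B (b ⊗ₜ[A] t) =
      b ^ p * algebraMap A B ((FrobAlg.toTwist p A).symm t) := by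
  rfl

lemma smul_twist (a : A) (t : FrobAlg.Twist p A) :
    a • t = FrobAlg.toTwist p A (a ^ p) * t := by
  rw [Algebra.smul_def, FrobAlg.algebraMap_twist]

lemma mul_mem_smul_top (J : Ideal A) (c y : FrobAlg.Twist p A)
    (hy : y ∈ (J • ⊤ : Submodule A (FrobAlg.Twist p A))) :
    c * y ∈ (J • ⊤ : Submodule A (FrobAlg.Twist p A)) := by
  refine Submodule.smul_induction_on hy (fun a ha t _ => ?_) (fun x y hx hy => ?_)
  · have h1 : c * (a • t) = a • (c * t) := by
      rw [smul_twist, smul_twist]; ring
    rw [h1]; exact Submodule.smul_mem_smul ha trivial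
  · rw [mul_add]; exact add_mem hx hy

lemma pow_mem_smul_top (J : Ideal A) (a : A) (ha : a ∈ J) :
    FrobAlg.toTwist p A (a ^ p) ∈ (J • ⊤ : Submodule A (FrobAlg.Twist p A)) := by
  have h1 : FrobAlg.toTwist p A (a ^ p) = a • (1 : FrobAlg.Twist p A) := by
    rw [smul_twist, mul_one]
  rw [h1]; exact Submodule.smul_mem_smul ha trivial

lemma exists_pow_le [IsNoetherianRing A] (I : Ideal A) (n : ℕ) :
    ∃ m, n ≤ m ∧ ∀ y ∈ I ^ m,
      FrobAlg.toTwist p A y ∈ (I ^ n • ⊤ : Submodule A (FrobAlg.Twist p A)) := by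
  let J : Ideal A :=
    { carrier := {y | FrobAlg.toTwist p A y ∈ (I ^ n • ⊤ : Submodule A (FrobAlg.Twist p A))}
      add_mem' := fun {x y} hx hy => by
        have hx' : FrobAlg.toTwist p A x ∈
            (I ^ n • ⊤ : Submodule A (FrobAlg.Twist p A)) := hx
        have hy' : FrobAlg.toTwist p A y ∈
            (I ^ n • ⊤ : Submodule A (FrobAlg.Twist p A)) := hy
        have h := add_mem hx' hy'
        rw [← map_add] at h
        exact h
      zero_mem' := by
        have h : FrobAlg.toTwist p A 0 ∈
            (I ^ n • ⊤ : Submodule A (FrobAlg.Twist p A)) := by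
          rw [map_zero]; exact zero_mem _
        exact h
      smul_mem' := fun c y hy => by
        have hy' : FrobAlg.toTwist p A y ∈
            (I ^ n • ⊤ : Submodule A (FrobAlg.Twist p A)) := hy
        have h := mul_mem_smul_top p A (I ^ n) (FrobAlg.toTwist p A c) _ hy'
        rw [← map_mul] at h
        exact h }
  have h1 : I ^ n ≤ J.radical := fun a ha => ⟨p, pow_mem_smul_top p A (I ^ n) a ha⟩
  obtain ⟨k, hk⟩ := Ideal.exists_pow_le_of_le_radical_of_fg h1 (IsNoetherian.noetherian _)
  refine ⟨n * k + n, Nat.le_add_left _ _, fun y hy => ?_⟩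
  have h2 : I ^ (n * k + n) ≤ (I ^ n) ^ k := by
    rw [← pow_mul]; exact Ideal.pow_le_pow_right (Nat.le_add_right _ _)
  exact hk (h2 hy)

/-- the Frobenius-semilinear identity map from the twist to `A ⧸ I ^ n` -/
noncomputable def chi0 (I : Ideal A) (n : ℕ) :
    FrobAlg.Twist p A →ₛₗ[frobenius A p] (A ⧸ (I ^ n • ⊤ : Ideal A)) where
  toFun t := Ideal.Quotient.mk _ ((FrobAlg.toTwist p A).symm t)
  map_add' x y := by rw [map_add, map_add]
  map_smul' a t := by
    rw [smul_twist, map_mul, RingEquiv.symm_apply_apply, map_mul, frobenius_def, Algebra.smul_def]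
    rfl

lemma chi0_apply (I : Ideal A) (n : ℕ) (t : FrobAlg.Twist p A) :
    chi0 p A I n t = Ideal.Quotient.mk _ ((FrobAlg.toTwist p A).symm t) := rfl

lemma smul_top_le_ker_chi0 (I : Ideal A) (n : ℕ) :
    (I ^ n • ⊤ : Submodule A (FrobAlg.Twist p A)) ≤ LinearMap.ker (chi0 p A I n) := by
  intro t ht
  rw [LinearMap.mem_ker]
  refine Submodule.smul_induction_on ht (fun a ha s _ => ?_) (fun x y hx hy => ?_)
  · rw [map_smulₛₗ, frobenius_def]
    obtain ⟨s', hs'⟩ := Ideal.Quotient.mk_surjective (chi0 p A I n s)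
    rw [← hs']
    have h0 : a ^ p • Ideal.Quotient.mk (I ^ n • ⊤ : Ideal A) s' =
        Ideal.Quotient.mk (I ^ n • ⊤ : Ideal A) (a ^ p * s') := rfl
    rw [h0]
    refine Ideal.Quotient.eq_zero_iff_mem.mpr ?_
    have h1 : a ^ p ∈ I ^ n := Ideal.pow_mem_of_mem _ ha p (Fact.out : p.Prime).pos
    have h2 : a ^ p * s' ∈ I ^ n := Ideal.mul_mem_right _ _ h1
    simpa using h2
  · rw [map_add, hx, hy, add_zero]

noncomputable def chi (I : Ideal A) (n : ℕ) :
    (FrobAlg.Twist p A ⧸ (I ^ n • ⊤ : Submodule A (FrobAlg.Twist p A))) →ₛₗ[frobenius A p]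
      (A ⧸ (I ^ n • ⊤ : Ideal A)) :=
  Submodule.liftQ _ (chi0 p A I n) (smul_top_le_ker_chi0 p A I n)

lemma chi_mk (I : Ideal A) (n : ℕ) (t : FrobAlg.Twist p A) :
    chi p A I n (Submodule.Quotient.mk t) = Ideal.Quotient.mk _ ((FrobAlg.toTwist p A).symm t) :=
  rfl

/-- comparison of the two completions -/
noncomputable def psi (I : Ideal A) :
    AdicCompletion I (FrobAlg.Twist p A) →+ AdicCompletion I A where
  toFun x := ⟨fun n => chi p A I n (x.val n), by
    intro m n hmn
    obtain ⟨t, ht⟩ := Submodule.Quotient.mk_surjective _ (x.val n)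
    have h1 := x.property hmn
    show AdicCompletion.transitionMap I A hmn (chi p A I n (x.val n)) = chi p A I m (x.val m)
    rw [← h1, ← ht]
    rfl⟩
  map_zero' := by
    apply AdicCompletion.ext
    intro n
    show chi p A I n ((0 : AdicCompletion I (FrobAlg.Twist p A)).val n) = 0
    rw [AdicCompletion.val_zero_apply, map_zero]
  map_add' x y := by
    apply AdicCompletion.ext
    intro n
    show chi p A I n ((x + y).val n) = chi p A I n (x.val n) + chi p A I n (y.val n)
    rw [AdicCompletion.val_add_apply, map_add]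

lemma psi_val (I : Ideal A) (x : AdicCompletion I (FrobAlg.Twist p A)) (n : ℕ) :
    (psi p A I x).val n = chi p A I n (x.val n) := rfl

lemma val_pow (I : Ideal A) (x : AdicCompletion I A) (k n : ℕ) :
    (x ^ k).val n = (x.val n) ^ k := by
  induction k with
  | zero => rw [pow_zero, pow_zero, AdicCompletion.val_one]
  | succ k ih => rw [pow_succ, pow_succ, AdicCompletion.val_mul, ih]

lemma psi_injective [IsNoetherianRing A] (I : Ideal A) : Function.Injective (psi p A I) := by
  rw [injective_iff_map_eq_zero]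
  intro x hx
  apply AdicCompletion.ext
  intro n
  obtain ⟨m, hnm, hm⟩ := exists_pow_le p A I n
  obtain ⟨t, ht⟩ := Submodule.Quotient.mk_surjective _ (x.val m)
  have h1 : chi p A I m (x.val m) = 0 := by
    rw [← psi_val, hx]; rfl
  rw [← ht, chi_mk, Ideal.Quotient.eq_zero_iff_mem] at h1
  have h2 : (FrobAlg.toTwist p A).symm t ∈ I ^ m := by simpa using h1
  have h3 := hm _ h2
  rw [RingEquiv.apply_symm_apply] at h3
  rw [← x.property hnm, ← ht, AdicCompletion.val_zero_apply]
  exact (Submodule.Quotient.mk_eq_zero _).mpr h3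

lemma psi_surjective [IsNoetherianRing A] (I : Ideal A) : Function.Surjective (psi p A I) := by
  intro y
  obtain ⟨g, rfl⟩ := AdicCompletion.mk_surjective I A y
  choose m hm1 hm2 using exists_pow_le p A I
  have hmem : ∀ (a n : ℕ) (z : A), z ∈ (I ^ a • ⊤ : Ideal A) → (a = m n ∨ a = m (n + 1)) →
      FrobAlg.toTwist p A z ∈ (I ^ n • ⊤ : Submodule A (FrobAlg.Twist p A)) := by
    intro a n z hz ha
    have hz' : z ∈ I ^ a := by simpa using hz
    rcases ha with rfl | rfl
    · exact hm2 n z hz'
    · exact Submodule.smul_mono_left (Ideal.pow_le_pow_right (Nat.le_succ n)) (hm2 (n + 1) z hz')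
  have hcauchy : ∀ n, FrobAlg.toTwist p A (g (m n)) ≡ FrobAlg.toTwist p A (g (m (n + 1)))
      [SMOD (I ^ n • ⊤ : Submodule A (FrobAlg.Twist p A))] := by
    intro n
    rw [SModEq.sub_mem, ← map_sub]
    rcases le_total (m n) (m (n + 1)) with h | h
    · exact hmem (m n) n _ (SModEq.sub_mem.mp (g.property h)) (Or.inl rfl)
    · have h1 := SModEq.sub_mem.mp (g.property h).symm
      exact hmem (m (n + 1)) n _ h1 (Or.inr rfl)
  refine ⟨AdicCompletion.mk I (FrobAlg.Twist p A)
    (AdicCompletion.AdicCauchySequence.mk I (FrobAlg.Twist p A)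
      (fun n => FrobAlg.toTwist p A (g (m n))) hcauchy), ?_⟩
  apply AdicCompletion.ext
  intro n
  rw [psi_val]
  show chi p A I n (Submodule.Quotient.mk (FrobAlg.toTwist p A (g (m n)))) =
    Submodule.Quotient.mk (g n)
  rw [chi_mk, RingEquiv.symm_apply_apply]
  exact (g.property (hm1 n)).symm

end Aux

/-- Let p be a prime, A a regular local ring of characteristic p whose absolute Frobenius a ↦ a^p is a
finite ring homomorphism, I an ideal of A and Â the I-adic completion of A. Then Spec Â → Spec A is
relatively perfect: the relative Frobenius Â ⊗_{A,Frob} A → Â, b ⊗ a ↦ b^p a, is bijective. (Â is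
also flat over A since A is Noetherian, so the morphism is flat and relatively perfect. The instance
hypothesis that Â has characteristic p holds as soon as I ≠ A.) -/
theorem result (p : ℕ) [Fact p.Prime]
    (A : Type u) [CommRing A] [IsRegularLocalRing A] [CharP A p] (hF : (frobenius A p).Finite)
    (I : Ideal A) [CharP (AdicCompletion I A) p] :
    Function.Bijective (FrobAlg.relFrob p A (AdicCompletion I A)) := by
  have hNoeth : IsNoetherianRing A := inferInstance
  have hfin : Module.Finite A (FrobAlg.Twist p A) := hF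
  have hbij := AdicCompletion.ofTensorProduct_bijective_of_finite_of_isNoetherian I
    (FrobAlg.Twist p A)
  have key : ∀ z : AdicCompletion I A ⊗[A] FrobAlg.Twist p A,
      FrobAlg.relFrob p A (AdicCompletion I A) z =
        psi p A I (AdicCompletion.ofTensorProduct I (FrobAlg.Twist p A) z) := by
    intro z
    induction z using TensorProduct.induction_on with
    | zero => rw [map_zero, map_zero, map_zero]
    | add x y hx hy => rw [map_add, map_add, map_add, hx, hy]
    | tmul b t =>
      rw [relFrob_tmul, AdicCompletion.ofTensorProduct_tmul]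
      apply AdicCompletion.ext
      intro n
      rw [AdicCompletion.val_mul, val_pow, psi_val, AdicCompletion.smul_eval]
      obtain ⟨β, hβ⟩ := Ideal.Quotient.mk_surjective (b.val n)
      rw [← hβ]
      show Ideal.Quotient.mk _ β ^ p * Ideal.Quotient.mk _ ((FrobAlg.toTwist p A).symm t) =
        chi p A I n (β • Submodule.Quotient.mk t)
      rw [map_smulₛₗ, chi_mk, frobenius_def, Algebra.smul_def]
      rfl
  have h1 : (FrobAlg.relFrob p A (AdicCompletion I A) :
      AdicCompletion I A ⊗[A] FrobAlg.Twist p A → AdicCompletion I A) =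
      (psi p A I) ∘ (AdicCompletion.ofTensorProduct I (FrobAlg.Twist p A)) := funext key
  rw [h1]
  exact ⟨(psi_injective p A I).comp hbij.1, (psi_surjective p A I).comp hbij.2⟩

end Groth.Agent.S17428
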