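import Groth.Statements.S17436
import Mathlib
import Groth.Agent.H16.DefoConnLib
import Groth.Agent.H6.DefoConnT1
import Groth.Agent.H52.DefoConnT2
import Groth.Agent.H20.DefoConnT3

set_option autoImplicit false
universe u
open CategoryTheory AlgebraicGeometry
open DefoSh

namespace Groth.Agent.S17436


set_option linter.style.haveILetI false
set_option linter.unusedSectionVars false
set_option linter.unusedVariables false

open CategoryTheory.Limits TopologicalSpace Opposite TensorProduct
open Groth.Agent.S17439 Groth.Agent.H16.DefoConnLib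


/-- Let k be a field, X a scheme over k with a receptacle of differentials (Ω′, δ) over k, Ω′
quasi-coherent, and E a finite locally free O_X-module with a connection ∇ : E → E ⊗ Ω′. Let D be a
first-order deformation of E (over k[ε]) with reduction π : D.sheaf → E, let ι : E → D.sheaf be
multiplication by ε (π ≫ ι = ε), and let c₀ be a deformation of ∇ over D (a connection on D.sheaf
commuting with k[ε] and reducing to ∇ along π). Then the deformations c of ∇ over D correspond
bijectively to the O_X-linear maps φ : E → E ⊗ Ω′ (the global sections of End(E) ⊗ Ω′ for a vector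
bundle), the bijection Φ being pinned by c − c₀ = π ≫ Φ(c) ≫ (ι ⊗ 1). The printed statement is the
case of the trivial deformation E ⊕ εE; its clause on connections with fixed determinant is not
stated. The published statement is for a curve with its sheaf of differentials; this row takes any
scheme over k with any quasi-coherent receptacle of differentials, which the printed computation
does not use. -/
theorem result (k : Type u) [Field k] (X : Scheme.{u})
    [X.Over (Spec (CommRingCat.of k))] (Ω' : X.Modules) (δ : OmegaSh.Der (X ↘ Spec (CommRingCat.of k)) Ω')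
    (hΩ' : Coh.IsQCoh Ω') (E : X.Modules) (hE : FlatMod.IsFinLocFree E)
    (nabla : Coh.toAb E ⟶ Coh.toAb (CohB1.tensorMod E Ω')) (hn : ConnSh.IsConn δ E nabla)
    (D : DefoSh.Defo E (ArtFun.Art.dual k k)) (ι : E ⟶ D.sheaf)
    (hι : D.π ≫ ι = D.act (DualNumber.eps : DualNumber k)) (c₀ : DefoSh.DefoConn δ nabla D) :
    ∃ Φ : DefoSh.DefoConn δ nabla D ≃ (E ⟶ CohB1.tensorMod E Ω'),
      ∀ c : DefoSh.DefoConn δ nabla D,
        c.conn - c₀.conn = (SheafOfModules.toSheaf X.ringCatSheaf).map (D.π ≫ Φ c ≫ KoszTw.tensorMap ι (𝟙 Ω')) := by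
  classical
  obtain ⟨w, hSE⟩ := Groth.Agent.H52.DefoConnT2.shortExact_of_defo D ι hι
  have w' : KoszTw.tensorMap ι (𝟙 Ω') ≫ KoszTw.tensorMap D.π (𝟙 Ω') = 0 := by
    rw [tensorMap_comp', w, tensorMap_zero_left]
  have hT := Groth.Agent.H6.DefoConnT1.tensor_shortExact E D.sheaf E Ω' ι D.π w hSE hE w'
  haveI : Mono (KoszTw.tensorMap ι (𝟙 Ω')) := hT.mono_f
  haveI : Epi D.π := hSE.epi_g
  -- K1
  have hPinj : ∀ φ φ' : E ⟶ CohB1.tensorMod E Ω', P D ι φ = P D ι φ' → φ = φ' := by
    intro φ φ' h
    unfold P at h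
    rw [cancel_epi] at h
    exact (cancel_mono _).mp h
  -- K2
  have hK2 : ∀ c : DefoSh.DefoConn δ nabla D, ∃ φ : E ⟶ CohB1.tensorMod E Ω',
      c.conn - c₀.conn = (SheafOfModules.toSheaf X.ringCatSheaf).map (P D ι φ) := by
    intro c
    have hlin : ∀ (U : X.Opens) (t : Γ(X, U)) (e : D.sheaf.val.obj (op U)),
        ConnSh.secApp (c.conn - c₀.conn) U (t • e) =
          t • ConnSh.secApp (c.conn - c₀.conn) U e := by
      intro U t e
      refine (secApp_sub _ _ U _).trans ?_
      refine (congrArg₂ (· - ·) (c.isConn U t e) (c₀.isConn U t e)).trans ?_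
      exact aux_alg3 t _ _ _
    obtain ⟨ψ, hψ⟩ := Groth.Agent.H20.DefoConnT3.exists_lin_lift _ _ _ hlin
    have hψapp : ∀ (U : X.Opens) (e : D.sheaf.val.obj (op U)),
        ψ.app U e = ConnSh.secApp c.conn U e - ConnSh.secApp c₀.conn U e := by
      intro U e
      have := congrArg (fun f => ConnSh.secApp f U e) hψ
      exact this
    have h1 : (D.act (eps' k) : D.sheaf ⟶ D.sheaf) ≫ ψ =
        ψ ≫ KoszTw.tensorMap (D.act (eps' k) : D.sheaf ⟶ D.sheaf) (𝟙 Ω') := by
      apply hom_ext_app
      intro U e
      show ψ.app U ((D.act (eps' k) : D.sheaf ⟶ D.sheaf).app U e) =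
        (KoszTw.tensorMap (D.act (eps' k) : D.sheaf ⟶ D.sheaf) (𝟙 Ω')).app U (ψ.app U e)
      refine (hψapp U _).trans ?_
      refine (congrArg₂ (· - ·) (c.act_horizontal (eps' k) U e)
        (c₀.act_horizontal (eps' k) U e)).trans ?_
      refine Eq.trans ?_ (congrArg _ (hψapp U e).symm)
      exact (map_sub ((KoszTw.tensorMap (D.act (eps' k) : D.sheaf ⟶ D.sheaf)
        (𝟙 Ω')).app U).hom _ _).symm
    have h2 : ψ ≫ KoszTw.tensorMap D.π (𝟙 Ω') = 0 := by
      apply hom_ext_app
      intro U e
      show (KoszTw.tensorMap D.π (𝟙 Ω')).app U (ψ.app U e) = 0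
      refine (congrArg _ (hψapp U e)).trans ?_
      refine (map_sub ((KoszTw.tensorMap D.π (𝟙 Ω')).app U).hom _ _).trans ?_
      refine (congrArg₂ (· - ·) (c.π_horizontal U e).symm (c₀.π_horizontal U e).symm).trans ?_
      exact sub_self _
    obtain ⟨φ, hφ⟩ := exists_factor D ι hι w hSE w' hT ψ h1 h2
    exact ⟨φ, by rw [← hφ, hψ]⟩
  -- K3
  have hK3 : ∀ φ : E ⟶ CohB1.tensorMod E Ω', ∃ c : DefoSh.DefoConn δ nabla D,
      c.conn = c₀.conn + (SheafOfModules.toSheaf X.ringCatSheaf).map (P D ι φ) := by
    intro φ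
    refine ⟨{ conn := c₀.conn + (SheafOfModules.toSheaf X.ringCatSheaf).map (P D ι φ)
              isConn := ?_, act_horizontal := ?_, π_horizontal := ?_ }, rfl⟩
    · intro U t e
      refine (secApp_add _ _ U _).trans ?_
      refine (congrArg₂ (fun a b : (CohB1.tensorMod D.sheaf Ω').val.obj (op U) => a + b)
        (c₀.isConn U t e) (app_smul_apply (P D ι φ) U t e)).trans ?_
      exact aux_alg2 t _ _ _
    · intro a
      exact isHorizontal_add_lin (P D ι φ) (P D ι φ) (c₀.act_horizontal a) (act_P D ι hι w φ a)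
    · intro U e
      refine Eq.trans ?_ (congrArg _ (secApp_add _ _ U e).symm)
      refine Eq.trans ?_ (map_add ((KoszTw.tensorMap D.π (𝟙 Ω')).app U).hom _ _).symm
      have hz : (KoszTw.tensorMap D.π (𝟙 Ω')).app U ((P D ι φ).app U e) = 0 :=
        (app_congr (P_π D ι w φ) U e).trans rfl
      refine Eq.trans ?_ (congrArg₂ (· + ·) (c₀.π_horizontal U e) hz.symm)
      exact (add_zero _).symm
  refine ⟨{ toFun := fun c => (hK2 c).choose
            invFun := fun φ => (hK3 φ).choose
            left_inv := ?_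
            right_inv := ?_ }, ?_⟩
  · intro c
    apply defoConn_ext
    rw [(hK3 _).choose_spec, ← (hK2 c).choose_spec]
    abel
  · intro φ
    apply hPinj
    apply (SheafOfModules.toSheaf X.ringCatSheaf).map_injective
    rw [← (hK2 _).choose_spec, (hK3 φ).choose_spec]
    abel
  · intro c
    exact (hK2 c).choose_spec

end Groth.Agent.S17436
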