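import Groth.Statements.S17437
import Mathlib
import Groth.Agent.H16.DefoConnLib
import Groth.Agent.H52.DefoConnT2
import Groth.Agent.H53.ModEpi

set_option autoImplicit false
universe u
open CategoryTheory AlgebraicGeometry
open DefoSh

namespace Groth.Agent.S17437

set_option linter.style.haveILetI false
set_option linter.unusedSectionVars false
set_option linter.unusedVariables false

open CategoryTheory.Limits TopologicalSpace Opposite TensorProduct
open Groth.Agent.S17439 Groth.Agent.H16.DefoConnLib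

section gen
variable {X : Scheme.{u}} {Ω' : X.Modules}

theorem isHorizontal_iff {M M' : X.Modules}
    (c : Coh.toAb M ⟶ Coh.toAb (CohB1.tensorMod M Ω'))
    (c' : Coh.toAb M' ⟶ Coh.toAb (CohB1.tensorMod M' Ω')) (φ : M ⟶ M') :
    ConnSh.IsHorizontal c c' φ ↔
      (SheafOfModules.toSheaf X.ringCatSheaf).map φ ≫ c' =
        c ≫ (SheafOfModules.toSheaf X.ringCatSheaf).map (KoszTw.tensorMap φ (𝟙 Ω')) := by
  constructor
  · intro h
    apply Sheaf.hom_ext
    ext U x
    exact h U.unop x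
  · intro h U e
    exact congrArg (fun f => ConnSh.secApp f U e) h

end gen

section defo
variable {k : Type u} [Field k] {X : Scheme.{u}} [X.Over (Spec (CommRingCat.of k))]
  {Ω' : X.Modules} {δ : OmegaSh.Der (X ↘ Spec (CommRingCat.of k)) Ω'} {E : X.Modules}
  {nabla : Coh.toAb E ⟶ Coh.toAb (CohB1.tensorMod E Ω')}
  (D : DefoSh.Defo E (ArtFun.Art.dual k k)) (ι : E ⟶ D.sheaf)
  (hι : D.π ≫ ι = D.act (DualNumber.eps : DualNumber k)) (w : ι ≫ D.π = 0)

/-- the nilpotent endomorphism `π ≫ S ≫ ι`. -/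
noncomputable def Nm (S : E ⟶ E) : D.sheaf ⟶ D.sheaf := D.π ≫ S ≫ ι

include w in
theorem Nm_sq (S S' : E ⟶ E) : Nm D ι S ≫ Nm D ι S' = 0 := by
  unfold Nm
  simp only [Category.assoc]
  rw [← Category.assoc ι, w, zero_comp, comp_zero, comp_zero]

include w in
theorem Nm_π (S : E ⟶ E) : Nm D ι S ≫ D.π = 0 := by
  unfold Nm
  rw [Category.assoc, Category.assoc, w, comp_zero, comp_zero]

theorem eps_Nm (S : E ⟶ E) : (D.act (eps' k) : D.sheaf ⟶ D.sheaf) ≫ Nm D ι S = 0 := by
  unfold Nm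
  rw [← Category.assoc, Groth.Agent.S17440.act_eps_π D, zero_comp]

include hι w in
theorem Nm_eps (S : E ⟶ E) : Nm D ι S ≫ (D.act (eps' k) : D.sheaf ⟶ D.sheaf) = 0 := by
  unfold Nm
  rw [Category.assoc, Category.assoc, ι_eps D ι hι w, comp_zero, comp_zero]

include hι w in
theorem act_Nm (S : E ⟶ E) (a : ArtFun.Art.dual k k) :
    (D.act a : D.sheaf ⟶ D.sheaf) ≫ Nm D ι S = Nm D ι S ≫ (D.act a : D.sheaf ⟶ D.sheaf) := by
  rw [Groth.Agent.S17440.act_decomp D a, Preadditive.add_comp, Preadditive.comp_add]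
  have h1 : ((D.act (eps' k) : D.sheaf ⟶ D.sheaf) ≫
      Formal.smulMod k D.sheaf (TrivSqZeroExt.snd (show DualNumber k from a))) ≫ Nm D ι S = 0 := by
    rw [Category.assoc, smulMod_comm, ← Category.assoc, eps_Nm, zero_comp]
  have h2 : Nm D ι S ≫ ((D.act (eps' k) : D.sheaf ⟶ D.sheaf) ≫
      Formal.smulMod k D.sheaf (TrivSqZeroExt.snd (show DualNumber k from a))) = 0 := by
    rw [← Category.assoc, Nm_eps D ι hι w, zero_comp]
  rw [h1, h2, smulMod_comm]

/-- the automorphism `1 + π S ι` of the deformation. -/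
noncomputable def autoOf (S : E ⟶ E) : DefoSh.Defo.Iso D D where
  iso :=
    { hom := 𝟙 _ + Nm D ι S
      inv := 𝟙 _ - Nm D ι S
      hom_inv_id := by
        rw [Preadditive.add_comp, Preadditive.comp_sub, Preadditive.comp_sub, Nm_sq D ι w]
        simp
      inv_hom_id := by
        rw [Preadditive.sub_comp, Preadditive.comp_add, Preadditive.comp_add, Nm_sq D ι w]
        simp }
  act_hom a := by
    show (D.act a : D.sheaf ⟶ D.sheaf) ≫ (𝟙 _ + Nm D ι S) =
      (𝟙 _ + Nm D ι S) ≫ (D.act a : D.sheaf ⟶ D.sheaf)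
    rw [Preadditive.comp_add, Preadditive.add_comp, act_Nm D ι hι w, Category.comp_id,
      Category.id_comp]
  hom_π := by
    show (𝟙 _ + Nm D ι S) ≫ D.π = D.π
    rw [Preadditive.add_comp, Nm_π D ι w, Category.id_comp, add_zero]

end defo

section main
variable {k : Type u} [Field k] {X : Scheme.{u}} [X.Over (Spec (CommRingCat.of k))]
  {Ω' : X.Modules} {δ : OmegaSh.Der (X ↘ Spec (CommRingCat.of k)) Ω'} {E : X.Modules}
  {nabla : Coh.toAb E ⟶ Coh.toAb (CohB1.tensorMod E Ω')}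
  (D : DefoSh.Defo E (ArtFun.Art.dual k k)) (ι : E ⟶ D.sheaf)
  (hι : D.π ≫ ι = D.act (DualNumber.eps : DualNumber k)) (w : ι ≫ D.π = 0)
  (hSE : (ShortComplex.mk ι D.π w).ShortExact)

/-- `toSheaf` on `X.Modules` (to avoid category-instance mismatches). -/
noncomputable abbrev tS (X : Scheme.{u}) := SheafOfModules.toSheaf X.ringCatSheaf

theorem tS_comp {M N P : X.Modules} (f : M ⟶ N) (g : N ⟶ P) :
    (tS X).map (f ≫ g) = (tS X).map f ≫ (tS X).map g := (tS X).map_comp f g

theorem tS_add {M N : X.Modules} (f g : M ⟶ N) :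
    (tS X).map (f + g) = (tS X).map f + (tS X).map g := (tS X).map_add

theorem tS_id (M : X.Modules) : (tS X).map (𝟙 M) = 𝟙 _ := (tS X).map_id M

theorem tS_congr {M N : X.Modules} {f g : M ⟶ N} (h : f = g) :
    (tS X).map f = (tS X).map g := by rw [h]

include hι hSE in
/-- `ι` is horizontal from `∇` to any deformation of `∇`. -/
theorem ι_horizontal (c' : DefoSh.DefoConn δ nabla D) :
    (tS X).map ι ≫ c'.conn = nabla ≫ (tS X).map (KoszTw.tensorMap ι (𝟙 Ω')) := by
  haveI : @Epi (SheafOfModules X.ringCatSheaf) _ _ _ D.π := hSE.epi_g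
  haveI : Epi ((tS X).map D.π) := Groth.Agent.H53.toSheaf_map_epi X.ringCatSheaf D.π
  rw [← cancel_epi ((tS X).map D.π)]
  have h : D.π ≫ ι = (D.act (eps' k) : D.sheaf ⟶ D.sheaf) := hι
  have h1 : (tS X).map (D.act (eps' k) : D.sheaf ⟶ D.sheaf) ≫ c'.conn =
      c'.conn ≫ (tS X).map (KoszTw.tensorMap (D.act (eps' k) : D.sheaf ⟶ D.sheaf) (𝟙 Ω')) :=
    (isHorizontal_iff _ _ _).mp (c'.act_horizontal (eps' k))
  have h2 : (tS X).map D.π ≫ nabla = c'.conn ≫ (tS X).map (KoszTw.tensorMap D.π (𝟙 Ω')) :=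
    (isHorizontal_iff _ _ _).mp c'.π_horizontal
  have h3 : (tS X).map D.π ≫ (tS X).map ι = (tS X).map (D.act (eps' k) : D.sheaf ⟶ D.sheaf) :=
    (tS_comp _ _).symm.trans (tS_congr h)
  have h40 : KoszTw.tensorMap (D.act (eps' k) : D.sheaf ⟶ D.sheaf) (𝟙 Ω') =
      KoszTw.tensorMap D.π (𝟙 Ω') ≫ KoszTw.tensorMap ι (𝟙 Ω') := by
    rw [tensorMap_comp', h]
  have h4 : (tS X).map (KoszTw.tensorMap (D.act (eps' k) : D.sheaf ⟶ D.sheaf) (𝟙 Ω')) =
      (tS X).map (KoszTw.tensorMap D.π (𝟙 Ω')) ≫ (tS X).map (KoszTw.tensorMap ι (𝟙 Ω')) :=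
    (tS_congr h40).trans (tS_comp _ _)
  rw [← Category.assoc, h3, h1, h4, ← Category.assoc, ← h2, Category.assoc]

include hι hSE in
theorem key (c c' : DefoSh.DefoConn δ nabla D) (S : E ⟶ E) :
    ConnSh.IsHorizontal c.conn c'.conn (𝟙 D.sheaf + Nm D ι S) ↔
      c'.conn - c.conn = (tS X).map D.π ≫
        (nabla ≫ (tS X).map (KoszTw.tensorMap S (𝟙 Ω')) - (tS X).map S ≫ nabla) ≫
          (tS X).map (KoszTw.tensorMap ι (𝟙 Ω')) := by
  rw [isHorizontal_iff]
  have e1 : (SheafOfModules.toSheaf X.ringCatSheaf).map (𝟙 D.sheaf + Nm D ι S) =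
      𝟙 _ + (tS X).map D.π ≫ (tS X).map S ≫ (tS X).map ι :=
    (tS_add _ _).trans (congrArg₂ (· + ·) (tS_id _)
      ((tS_comp _ _).trans (congrArg _ (tS_comp _ _))))
  have e2 : (SheafOfModules.toSheaf X.ringCatSheaf).map
      (KoszTw.tensorMap (𝟙 D.sheaf + Nm D ι S) (𝟙 Ω')) =
      𝟙 _ + (tS X).map (KoszTw.tensorMap D.π (𝟙 Ω')) ≫
        (tS X).map (KoszTw.tensorMap S (𝟙 Ω')) ≫ (tS X).map (KoszTw.tensorMap ι (𝟙 Ω')) := by
    have h0 : KoszTw.tensorMap (𝟙 D.sheaf + Nm D ι S) (𝟙 Ω') =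
        𝟙 _ + KoszTw.tensorMap D.π (𝟙 Ω') ≫ KoszTw.tensorMap S (𝟙 Ω') ≫
          KoszTw.tensorMap ι (𝟙 Ω') := by
      rw [tensorMap_add_left, KoszTw.tensorMap_id, tensorMap_comp', tensorMap_comp']
      rfl
    exact (tS_congr h0).trans ((tS_add _ _).trans (congrArg₂ (· + ·) (tS_id _)
      ((tS_comp _ _).trans (congrArg _ (tS_comp _ _)))))
  have h1 : ((tS X).map D.π ≫ (tS X).map S ≫ (tS X).map ι) ≫ c'.conn =
      (tS X).map D.π ≫ ((tS X).map S ≫ nabla) ≫ (tS X).map (KoszTw.tensorMap ι (𝟙 Ω')) := by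
    simp only [Category.assoc]
    rw [ι_horizontal D ι hι w hSE c']
  have h2 : c.conn ≫ (tS X).map (KoszTw.tensorMap D.π (𝟙 Ω')) ≫
        (tS X).map (KoszTw.tensorMap S (𝟙 Ω')) ≫ (tS X).map (KoszTw.tensorMap ι (𝟙 Ω')) =
      (tS X).map D.π ≫ (nabla ≫ (tS X).map (KoszTw.tensorMap S (𝟙 Ω'))) ≫
          (tS X).map (KoszTw.tensorMap ι (𝟙 Ω')) := by
    have hh : (tS X).map D.π ≫ nabla = c.conn ≫ (tS X).map (KoszTw.tensorMap D.π (𝟙 Ω')) :=
      (isHorizontal_iff _ _ _).mp c.π_horizontal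
    rw [← Category.assoc, ← hh]
    simp only [Category.assoc]
  rw [e1, e2, Preadditive.add_comp, Preadditive.comp_add, Category.id_comp, Category.comp_id,
    h1, h2, Preadditive.sub_comp, Preadditive.comp_sub, sub_eq_sub_iff_add_eq_add]
  constructor
  · intro h
    rw [h, add_comm]
  · intro h
    rw [h, add_comm]

end main

/-- Let k be a field, X a scheme over k with a receptacle of differentials (Ω′, δ) over k, Ω′
quasi-coherent, and E a finite locally free O_X-module with a connection ∇ : E → E ⊗ Ω′. Let D be a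
first-order deformation of E with reduction π : D.sheaf → E and let ι : E → D.sheaf be
multiplication by ε (π ≫ ι = ε). Two deformations c and c′ of ∇ over D are transport equivalent —
some automorphism of D inducing the identity of E carries c to c′ — if and only if there is a global
endomorphism S of E with c′ − c = π ≫ (∇ ≫ (S ⊗ 1) − S ≫ ∇) ≫ (ι ⊗ 1); the middle map is minus the
covariant derivative of S for the connection induced on End(E), so together with the bijection
between deformations of ∇ over D and Hom(E, E ⊗ Ω′) this identifies transport classes with H⁰(End(E)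
⊗ Ω′) modulo the derivatives of global endomorphisms. The printed statement is the case of the
trivial deformation. The published statement is for a curve with its sheaf of differentials; this
row takes any scheme over k with any quasi-coherent receptacle of differentials, which the printed
computation does not use. -/
theorem result (k : Type u) [Field k] (X : Scheme.{u})
    [X.Over (Spec (CommRingCat.of k))] (Ω' : X.Modules) (δ : OmegaSh.Der (X ↘ Spec (CommRingCat.of k)) Ω')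
    (hΩ' : Coh.IsQCoh Ω') (E : X.Modules) (hE : FlatMod.IsFinLocFree E)
    (nabla : Coh.toAb E ⟶ Coh.toAb (CohB1.tensorMod E Ω')) (hn : ConnSh.IsConn δ E nabla)
    (D : DefoSh.Defo E (ArtFun.Art.dual k k)) (ι : E ⟶ D.sheaf)
    (hι : D.π ≫ ι = D.act (DualNumber.eps : DualNumber k)) (c c' : DefoSh.DefoConn δ nabla D) :
    DefoSh.DefoConn.Transport c c' ↔ ∃ S : E ⟶ E,
      c'.conn - c.conn = (SheafOfModules.toSheaf X.ringCatSheaf).map D.π ≫
        (nabla ≫ (SheafOfModules.toSheaf X.ringCatSheaf).map (KoszTw.tensorMap S (𝟙 Ω')) - (SheafOfModules.toSheaf X.ringCatSheaf).map S ≫ nabla) ≫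
          (SheafOfModules.toSheaf X.ringCatSheaf).map (KoszTw.tensorMap ι (𝟙 Ω')) := by
  classical
  obtain ⟨w, hSE⟩ := Groth.Agent.H52.DefoConnT2.shortExact_of_defo D ι hι
  haveI : Mono ι := hSE.mono_f
  haveI : Epi D.π := hSE.epi_g
  have hι' : D.π ≫ ι = (D.act (eps' k) : D.sheaf ⟶ D.sheaf) := hι
  constructor
  · rintro ⟨e, he⟩
    let N : D.sheaf ⟶ D.sheaf := e.iso.hom - 𝟙 _
    have hN : N ≫ D.π = 0 := by
      show (e.iso.hom - 𝟙 _) ≫ D.π = 0
      rw [Preadditive.sub_comp, e.hom_π, Category.id_comp, sub_self]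
    let β : D.sheaf ⟶ E := hSE.exact.lift N hN
    have hβ : β ≫ ι = N := hSE.exact.lift_f N hN
    have hεN : (D.act (eps' k) : D.sheaf ⟶ D.sheaf) ≫ N = N ≫ (D.act (eps' k) : D.sheaf ⟶ D.sheaf) := by
      show (D.act (eps' k) : D.sheaf ⟶ D.sheaf) ≫ (e.iso.hom - 𝟙 _) =
        (e.iso.hom - 𝟙 _) ≫ (D.act (eps' k) : D.sheaf ⟶ D.sheaf)
      rw [Preadditive.comp_sub, Preadditive.sub_comp, e.act_hom, Category.comp_id,
        Category.id_comp]
    have hz : ι ≫ β = 0 := by
      rw [← cancel_mono ι, Category.assoc, hβ, zero_comp, ← cancel_epi D.π, comp_zero,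
        ← Category.assoc, hι', hεN, ← hβ, Category.assoc, ι_eps D ι hι w, comp_zero]
    let S : E ⟶ E := hSE.exact.desc β hz
    have hS : D.π ≫ S = β := hSE.exact.g_desc β hz
    have heq : e.iso.hom = 𝟙 D.sheaf + Nm D ι S := by
      unfold Nm
      rw [← Category.assoc, hS, hβ]
      show e.iso.hom = 𝟙 _ + (e.iso.hom - 𝟙 _)
      abel
    rw [heq] at he
    exact ⟨S, (key D ι hι w hSE c c' S).mp he⟩
  · rintro ⟨S, hS⟩
    exact ⟨autoOf D ι hι w S, (key D ι hι w hSE c c' S).mpr hS⟩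

end Groth.Agent.S17437
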