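import Groth.Statements.S17444
-- import your own Groth.Agent.* helpers here

set_option autoImplicit false
universe u v
open SSRed

namespace Groth.Agent.S17444

/-- Let K be a field of characteristic zero, V a K-vector space and g a K-linear endomorphism of V such
that g - 1 is nilpotent (a unipotent automorphism). Then for every integer n > 0 the endomorphisms
gⁿ - 1 and g - 1 have the same kernel: a vector fixed by gⁿ is fixed by g. (The published statement
assumes V finite-dimensional; this row allows any V.) -/
theorem result (K : Type u) (V : Type v) [Field K] [CharZero K]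
    [AddCommGroup V] [Module K V] (g : Module.End K V) (hg : IsNilpotent (g - 1)) (n : ℕ) (hn : 0 < n) :
    LinearMap.ker (g ^ n - 1) = LinearMap.ker (g - 1) := by
  have hfac : g ^ n - 1 = (∑ i ∈ Finset.range n, g ^ i) * (g - 1) := (geom_sum_mul g n).symm
  have hcomm_g : ∀ i : ℕ, Commute (g - 1) (g ^ i) := fun i =>
    ((Commute.refl g).sub_left (Commute.one_left g)).pow_right i
  have hs : IsUnit (∑ i ∈ Finset.range n, g ^ i) := by
    have hsum : ∑ i ∈ Finset.range n, g ^ i
        = (n : Module.End K V) + (g - 1) * ∑ i ∈ Finset.range n, ∑ j ∈ Finset.range i, g ^ j := by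
      rw [Finset.mul_sum]
      simp only [mul_geom_sum]
      simp [Finset.sum_sub_distrib]
    rw [hsum]
    apply IsNilpotent.isUnit_add_left_of_commute
    · apply Commute.isNilpotent_mul_right _ hg
      apply Commute.sum_right
      intro i _
      apply Commute.sum_right
      intro j _
      exact hcomm_g j
    · have hn' : (n : K) ≠ 0 := Nat.cast_ne_zero.mpr hn.ne'
      have : IsUnit (algebraMap K (Module.End K V) (n : K)) := (IsUnit.mk0 _ hn').map _
      simpa using this
    · exact (Nat.cast_commute n _).symm
  ext v
  simp only [LinearMap.mem_ker, hfac, Module.End.mul_apply]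
  constructor
  · intro h
    obtain ⟨u, hu⟩ := hs
    have : (↑u⁻¹ * ↑u : Module.End K V) ((g - 1) v) = 0 := by
      rw [Module.End.mul_apply, hu, h, map_zero]
    simpa using this
  · intro h
    rw [h, map_zero]

end Groth.Agent.S17444
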