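import Groth.Statements.S17447
import Mathlib
import Groth.Agent.H70.HenselSection
import Groth.Agent.H7.EtaleLoc4

set_option autoImplicit false
universe u
open CategoryTheory CategoryTheory.Limits AlgebraicGeometry
open Hensel

namespace Groth.Agent.S17447

open AlgebraicGeometry CategoryTheory Limits IsLocalRing in
theorem le_of_finite {R : Type u} [CommRing R] [IsLocalRing R]
    {X : Scheme.{u}} (f : X ⟶ Spec (CommRingCat.of R)) (W₁ W₂ : X.Opens)
    (hc₂ : IsClosed (W₂ : Set X)) (hfin : IsFinite (W₁.ι ≫ f))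
    (hall : ∀ x : X, f.base x = closedPoint R → x ∈ W₂) : W₁ ≤ W₂ := by
  by_contra hle
  obtain ⟨x, hx1, hx2⟩ := Set.not_subset.mp hle
  -- the closed subset `W₁ \ W₂` of `W₁`
  let D : Set ↥(W₁ : Scheme.{u}) := W₁.ι ⁻¹' ((W₂ : Set X)ᶜ)
  have hDcl : IsClosed D := by
    have : IsClosed ((W₂ : Set X)ᶜ) := W₂.2.isClosed_compl
    exact this.preimage W₁.ι.continuous
  have himg : IsClosed ((W₁.ι ≫ f) '' D) := (W₁.ι ≫ f).isClosedMap D hDcl
  have hxD : (⟨x, hx1⟩ : ↥(W₁ : Scheme.{u})) ∈ D := hx2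
  have hmem : (W₁.ι ≫ f) ⟨x, hx1⟩ ∈ (W₁.ι ≫ f) '' D := ⟨_, hxD, rfl⟩
  have hcp : closedPoint R ∈ (W₁.ι ≫ f) '' D :=
    (specializes_closedPoint ((W₁.ι ≫ f) ⟨x, hx1⟩)).mem_closed himg hmem
  obtain ⟨z, hzD, hz⟩ := hcp
  have : W₁.ι z ∈ W₂ := hall _ (by rw [← hz, Scheme.Hom.comp_apply])
  exact hzD this


/-- Let R be a henselian local ring and X → Spec R a quasi-finite separated morphism (locally of finite
type, quasi-compact, with discrete fibres). Then X decomposes uniquely as the disjoint union of an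
open and closed subscheme finite over Spec R and an open and closed subscheme with empty special
fibre: there is exactly one open subset W of X which is closed, finite over Spec R (as an open
subscheme) and contains every point lying over the closed point of Spec R. (No Noetherian hypothesis
on R.) -/
theorem result (R : Type u) [CommRing R] [HenselianLocalRing R]
    {X : Scheme.{u}} (f : X ⟶ Spec (CommRingCat.of R))
    [LocallyQuasiFinite f] [LocallyOfFiniteType f] [QuasiCompact f] [IsSeparated f] :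
    ∃! W : X.Opens, IsClosed (W : Set X) ∧ IsFinite (W.ι ≫ f) ∧
      ∀ x : X, f.base x = IsLocalRing.closedPoint R → x ∈ W := by
  classical
  have hfin : (f ⁻¹' {IsLocalRing.closedPoint R}).Finite := f.finite_preimage_singleton _
  obtain ⟨U, g, u, hg, hgu, hres, V, W', hVW, hfinV, hVall⟩ :=
    Groth.Agent.H7.exists_etale_nbhd_clopen_finite_part f (IsLocalRing.closedPoint R) hfin
  obtain ⟨s, hs1, hs2⟩ :=
    Groth.Agent.H70.HenselSection.exists_section_of_etaleNbhd R g u hgu hres
  have t : IsPullback (pullback.fst f g) (pullback.snd f g) f g := IsPullback.of_hasPullback f g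
  have s0 : IsPullback (𝟙 X) f f (s ≫ g) := by
    rw [hs1]; exact IsPullback.of_id_fst
  have sqL := IsPullback.of_right' s0 t
  set j : X ⟶ pullback f g := t.lift (𝟙 X) (f ≫ s) (by rw [s0.w, Category.assoc]) with hj
  have hjsnd : j ≫ pullback.snd f g = f ≫ s := t.lift_snd _ _ _
  have hpb : IsPullback (j ∣_ V) ((j ⁻¹ᵁ V).ι ≫ f) (V.ι ≫ pullback.snd f g) s :=
    (isPullback_morphismRestrict j V).paste_vert sqL
  have hVcl : IsClosed (V : Set ↑(pullback f g)) := Groth.Agent.H7.isClosed_of_isCompl hVW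
  have hWfin : IsFinite ((j ⁻¹ᵁ V).ι ≫ f) :=
    MorphismProperty.of_isPullback (P := @IsFinite) hpb hfinV
  have hWcl : IsClosed ((j ⁻¹ᵁ V : X.Opens) : Set X) := hVcl.preimage j.continuous
  have hWall : ∀ x : X, f.base x = IsLocalRing.closedPoint R → x ∈ j ⁻¹ᵁ V := by
    intro x hx
    show j x ∈ V
    apply hVall
    rw [← Scheme.Hom.comp_apply, hjsnd, Scheme.Hom.comp_apply]
    have : f x = IsLocalRing.closedPoint R := hx
    rw [this, hs2]
  refine ⟨j ⁻¹ᵁ V, ⟨hWcl, hWfin, hWall⟩, ?_⟩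
  rintro W₂ ⟨h1, h2, h3⟩
  exact le_antisymm (le_of_finite f W₂ (j ⁻¹ᵁ V) hWcl h2 hWall) (le_of_finite f (j ⁻¹ᵁ V) W₂ h1 hWfin h3)

end Groth.Agent.S17447
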