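import Groth.Statements.S2917
import Mathlib

set_option autoImplicit false
open CategoryTheory CategoryTheory.Limits AlgebraicGeometry Opposite
universe u
open SGA1

namespace Groth.Agent.S2917

open CategoryTheory CategoryTheory.Limits AlgebraicGeometry MorphismProperty

instance univSubm_stable : (SGA1.UnivSubmersive.{u}).IsStableUnderBaseChange :=
  universally_isStableUnderBaseChange _

instance univSubm_respectsIso : (SGA1.UnivSubmersive.{u}).RespectsIso :=
  universally_respectsIso _

theorem isQuotientMap_of_univSubmersive {X Y : Scheme.{u}} {f : X ⟶ Y}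
    (hf : SGA1.UnivSubmersive f) : Topology.IsQuotientMap f.base :=
  universally_le _ _ hf

instance descendsOpen :
    (topologically @IsOpenMap).DescendsAlong (SGA1.UnivSubmersive.{u}) where
  of_isPullback {A X Y Z fst snd f g} h hf hfst := by
    intro s hs
    have hq := isQuotientMap_of_univSubmersive hf
    have key : IsOpen (fst.base '' (snd.base ⁻¹' s)) := hfst _ (hs.preimage snd.continuous)
    rw [Scheme.image_preimage_eq_of_isPullback h.flip] at key
    exact hq.isOpen_preimage.mp key

instance descendsClosed :
    (topologically @IsClosedMap).DescendsAlong (SGA1.UnivSubmersive.{u}) where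
  of_isPullback {A X Y Z fst snd f g} h hf hfst := by
    intro s hs
    have hq := isQuotientMap_of_univSubmersive hf
    have key : IsClosed (fst.base '' (snd.base ⁻¹' s)) := hfst _ (hs.preimage snd.continuous)
    rw [Scheme.image_preimage_eq_of_isPullback h.flip] at key
    exact hq.isClosed_preimage.mp key

theorem descends_universally {P Q : MorphismProperty Scheme.{u}} [P.DescendsAlong Q]
    [Q.IsStableUnderBaseChange] : (universally P).DescendsAlong Q where
  of_isPullback {A X Y Z fst snd f g} h hf hfst := by
    intro T' T i₁ i₂ gT hT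
    let w₁ := pullback.fst i₂ f
    let w₂ := pullback.snd i₂ f
    let v₁ := pullback.fst gT w₁
    let v₂ := pullback.snd gT w₁
    have Wsq : IsPullback w₁ w₂ i₂ f := IsPullback.of_hasPullback i₂ f
    have Vsq : IsPullback v₁ v₂ gT w₁ := IsPullback.of_hasPullback gT w₁
    have hcomm : (v₂ ≫ w₂) ≫ f = (v₁ ≫ i₁) ≫ g := by
      rw [Category.assoc, ← Wsq.w, ← Category.assoc, ← Vsq.w, Category.assoc, hT.w, Category.assoc]
    let a : pullback gT w₁ ⟶ A := h.lift (v₂ ≫ w₂) (v₁ ≫ i₁) hcomm
    have ha1 : a ≫ fst = v₂ ≫ w₂ := h.lift_fst _ _ _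
    have ha2 : a ≫ snd = v₁ ≫ i₁ := h.lift_snd _ _ _
    have big : IsPullback (v₁ ≫ i₁) v₂ g (w₁ ≫ i₂) := Vsq.paste_horiz hT.flip
    rw [← ha2, Wsq.w] at big
    have left : IsPullback a v₂ fst w₂ := IsPullback.of_right big ha1 h.flip
    have hv₂ : P v₂ := hfst _ _ _ left.flip
    exact DescendsAlong.of_isPullback (Q := Q) Vsq.flip (Q.of_isPullback Wsq.flip hf) hv₂

instance closedMap_respectsIso : (topologically @IsClosedMap).RespectsIso :=
  topologically_respectsIso _ (fun e => e.isClosedMap) (fun _ _ hf hg => hg.comp hf)


/-- Let g : S' ⟶ S be universally submersive, f : X ⟶ Y a morphism of S-schemes (Y ⟶ S the structure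
map) and f' its base change along S' ⟶ S, realised as X ×_S S' ⟶ Y ×_S S'. If f' is open (resp.
closed) then so is f; if f' is universally open (resp. universally closed, resp. separated) then so
is f; and if moreover g is quasi-compact and f locally of finite type, then f is proper as soon as
f' is. -/
theorem result {S' S X Y : Scheme.{u}} (g : S' ⟶ S) (hg : SGA1.UnivSubmersive g)
    (f : X ⟶ Y) (q : Y ⟶ S) :
    (IsOpenMap (pullback.map (f ≫ q) g q g f (𝟙 S') (𝟙 S) (Category.comp_id _) ((Category.comp_id _).trans (Category.id_comp _).symm)).base → IsOpenMap f.base) ∧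
    (IsClosedMap (pullback.map (f ≫ q) g q g f (𝟙 S') (𝟙 S) (Category.comp_id _) ((Category.comp_id _).trans (Category.id_comp _).symm)).base → IsClosedMap f.base) ∧
    (UniversallyOpen (pullback.map (f ≫ q) g q g f (𝟙 S') (𝟙 S) (Category.comp_id _) ((Category.comp_id _).trans (Category.id_comp _).symm)) → UniversallyOpen f) ∧
    (UniversallyClosed (pullback.map (f ≫ q) g q g f (𝟙 S') (𝟙 S) (Category.comp_id _) ((Category.comp_id _).trans (Category.id_comp _).symm)) → UniversallyClosed f) ∧
    (IsSeparated (pullback.map (f ≫ q) g q g f (𝟙 S') (𝟙 S) (Category.comp_id _) ((Category.comp_id _).trans (Category.id_comp _).symm)) → IsSeparated f) ∧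
    (QuasiCompact g → LocallyOfFiniteType f →
      IsProper (pullback.map (f ≫ q) g q g f (𝟙 S') (𝟙 S) (Category.comp_id _) ((Category.comp_id _).trans (Category.id_comp _).symm)) → IsProper f) := by
  set f' := pullback.map (f ≫ q) g q g f (𝟙 S') (𝟙 S) (Category.comp_id _)
    ((Category.comp_id _).trans (Category.id_comp _).symm) with hf'
  have hpY : SGA1.UnivSubmersive (pullback.fst q g) :=
    MorphismProperty.of_isPullback (IsPullback.of_hasPullback q g).flip hg
  have e1 : f' ≫ pullback.snd q g = pullback.snd (f ≫ q) g := by
    rw [hf']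
    exact (pullback.lift_snd _ _ _).trans (Category.comp_id _)
  have e2 : pullback.fst (f ≫ q) g ≫ f = f' ≫ pullback.fst q g := by
    rw [hf']
    exact (pullback.lift_fst _ _ _).symm
  have bigsq : IsPullback (pullback.fst (f ≫ q) g) (f' ≫ pullback.snd q g) (f ≫ q) g := by
    rw [e1]
    exact IsPullback.of_hasPullback (f ≫ q) g
  have sqA : IsPullback f' (pullback.fst (f ≫ q) g) (pullback.fst q g) f :=
    (IsPullback.of_bot bigsq e2 (IsPullback.of_hasPullback q g)).flip
  haveI := descends_universally (P := topologically @IsOpenMap) (Q := SGA1.UnivSubmersive.{u})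
  haveI := descends_universally (P := topologically @IsClosedMap) (Q := SGA1.UnivSubmersive.{u})
  have part4 : UniversallyClosed f' → UniversallyClosed f := fun h =>
    ⟨DescendsAlong.of_isPullback (P := universally (topologically @IsClosedMap))
      (Q := SGA1.UnivSubmersive.{u}) sqA hpY h.universally_isClosedMap⟩
  have part5 : IsSeparated f' → IsSeparated f := fun h => by
    have hsep : (diagonal (topologically @IsClosedMap)) f' :=
      (pullback.diagonal f').isClosedEmbedding.isClosedMap
    have hc : IsClosedMap (pullback.diagonal f).base :=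
      DescendsAlong.of_isPullback (P := diagonal (topologically @IsClosedMap))
        (Q := SGA1.UnivSubmersive.{u}) sqA hpY hsep
    exact ⟨IsClosedImmersion.of_isPreimmersion _ hc.isClosed_range⟩
  refine ⟨fun h => ?_, fun h => ?_, fun h => ?_, part4, part5, fun _ hlft hprop => ?_⟩
  · exact DescendsAlong.of_isPullback (P := topologically @IsOpenMap)
      (Q := SGA1.UnivSubmersive.{u}) sqA hpY h
  · exact DescendsAlong.of_isPullback (P := topologically @IsClosedMap)
      (Q := SGA1.UnivSubmersive.{u}) sqA hpY h
  · exact ⟨DescendsAlong.of_isPullback (P := universally (topologically @IsOpenMap))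
      (Q := SGA1.UnivSubmersive.{u}) sqA hpY h.universally_isOpenMap⟩
  · haveI := part5 inferInstance
    haveI := part4 inferInstance
    exact {}

end Groth.Agent.S2917
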