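import Groth.Statements.S3709
import Mathlib
import Groth.Agent.S2917

set_option autoImplicit false
universe u
open SGA1

namespace Groth.Agent.S3709

open AlgebraicGeometry CategoryTheory CategoryTheory.Limits MorphismProperty

theorem core {X' X Z : Scheme.{u}} (pX : X' ⟶ X) (hpX : SGA1.UnivSubmersive pX)
    (r : Z ⟶ X) [Etale r] (γ : X' ⟶ Z) (hγ : γ ≫ r = pX)
    (hco : ∀ (V : Scheme.{u}) (v₁ v₂ : V ⟶ X'), v₁ ≫ pX = v₂ ≫ pX → v₁ ≫ γ = v₂ ≫ γ) :
    ∃ σ : X ⟶ Z, σ ≫ r = 𝟙 X ∧ pX ≫ σ = γ ∧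
      ∀ σ' : X ⟶ Z, σ' ≫ r = 𝟙 X → pX ≫ σ' = γ → σ' = σ := by
  let πZ := pullback.fst r pX
  let π' := pullback.snd r pX
  have hW : πZ ≫ r = π' ≫ pX := pullback.condition
  let s' : X' ⟶ pullback r pX := pullback.lift γ (𝟙 X') (by rw [hγ, Category.id_comp])
  have hs1 : s' ≫ πZ = γ := pullback.lift_fst _ _ _
  have hs2 : s' ≫ π' = 𝟙 X' := pullback.lift_snd _ _ _
  haveI : Etale π' := inferInstance
  haveI : IsOpenImmersion s' := by
    haveI : Etale (s' ≫ π') := by rw [hs2]; infer_instance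
    haveI : Etale s' := Etale.of_comp (f := s') π'
    haveI : Mono s' := mono_of_mono_fac hs2
    exact IsOpenImmersion.of_flat_of_mono s'
  have hπZ : SGA1.UnivSubmersive πZ :=
    MorphismProperty.of_isPullback (IsPullback.of_hasPullback r pX).flip hpX
  have hqZ := Groth.Agent.S2917.isQuotientMap_of_univSubmersive hπZ
  have hqX := Groth.Agent.S2917.isQuotientMap_of_univSubmersive hpX
  have key : pullback.snd γ πZ = pullback.snd γ πZ ≫ π' ≫ s' := by
    have h1 : pullback.fst γ πZ ≫ pX = (pullback.snd γ πZ ≫ π') ≫ pX :=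
      calc pullback.fst γ πZ ≫ pX = pullback.fst γ πZ ≫ γ ≫ r := by rw [hγ]
        _ = (pullback.fst γ πZ ≫ γ) ≫ r := (Category.assoc _ _ _).symm
        _ = (pullback.snd γ πZ ≫ πZ) ≫ r := by rw [pullback.condition]
        _ = pullback.snd γ πZ ≫ (πZ ≫ r) := Category.assoc _ _ _
        _ = pullback.snd γ πZ ≫ π' ≫ pX := by rw [hW]
        _ = (pullback.snd γ πZ ≫ π') ≫ pX := (Category.assoc _ _ _).symm
    have h2 := hco _ _ _ h1
    apply pullback.hom_ext
    · calc pullback.snd γ πZ ≫ πZ = pullback.fst γ πZ ≫ γ := pullback.condition.symm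
        _ = (pullback.snd γ πZ ≫ π') ≫ γ := h2
        _ = (pullback.snd γ πZ ≫ π') ≫ s' ≫ πZ := by rw [hs1]
        _ = (pullback.snd γ πZ ≫ π' ≫ s') ≫ πZ := by simp only [Category.assoc]
    · calc pullback.snd γ πZ ≫ π' = (pullback.snd γ πZ ≫ π') ≫ 𝟙 X' := (Category.comp_id _).symm
        _ = (pullback.snd γ πZ ≫ π') ≫ s' ≫ π' := by rw [hs2]
        _ = (pullback.snd γ πZ ≫ π' ≫ s') ≫ π' := by simp only [Category.assoc]
  have hpre : πZ.base ⁻¹' (Set.range γ.base) = Set.range s'.base := by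
    ext z
    constructor
    · rintro ⟨x₁, hx₁⟩
      obtain ⟨v, hv1, hv2⟩ := Scheme.Pullback.exists_preimage_pullback x₁ z hx₁
      refine ⟨(pullback.snd γ πZ ≫ π').base v, ?_⟩
      have h3 := congr(($key).base v)
      calc s'.base ((pullback.snd γ πZ ≫ π').base v)
          = (pullback.snd γ πZ ≫ π' ≫ s').base v := by simp
        _ = (pullback.snd γ πZ).base v := h3.symm
        _ = z := hv2
    · rintro ⟨x, rfl⟩
      refine ⟨x, ?_⟩
      rw [← hs1]
      simp
  have hΓ : IsOpen (Set.range γ.base) := by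
    rw [← hqZ.isOpen_preimage, hpre]
    exact s'.isOpenEmbedding.isOpen_range
  let U : Z.Opens := ⟨Set.range γ.base, hΓ⟩
  let rU : (U : Scheme) ⟶ X := U.ι ≫ r
  have hγU : Set.range γ.base ⊆ Set.range U.ι.base := by
    rw [Scheme.Opens.range_ι]; exact le_rfl
  let γU : X' ⟶ U := IsOpenImmersion.lift U.ι γ hγU
  have hγU1 : γU ≫ U.ι = γ := IsOpenImmersion.lift_fac _ _ _
  have hγUr : γU ≫ rU = pX := by
    change γU ≫ U.ι ≫ r = pX
    rw [← Category.assoc, hγU1, hγ]
  haveI hpXs : Surjective pX := ⟨hqX.surjective⟩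
  haveI : Surjective rU := by
    haveI : Surjective (γU ≫ rU) := by rw [hγUr]; exact hpXs
    exact Surjective.of_comp γU rU
  let A : (pullback r pX).Opens := πZ ⁻¹ᵁ U
  have hArange : Set.range A.ι = Set.range s' := by
    change Set.range A.ι.base = Set.range s'.base
    rw [Scheme.Opens.range_ι]; exact hpre
  let e := IsOpenImmersion.isoOfRangeEq A.ι s' hArange
  have he : e.hom ≫ s' = A.ι := IsOpenImmersion.isoOfRangeEq_hom_fac _ _ _
  have hAiso : A.ι ≫ π' = e.hom := by rw [← he, Category.assoc, hs2, Category.comp_id]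
  have sqU : IsPullback (A.ι ≫ π') (πZ ∣_ U) pX rU :=
    ((isPullback_morphismRestrict πZ U).paste_vert (IsPullback.of_hasPullback r pX)).flip
  haveI : UniversallyInjective (A.ι ≫ π') := by rw [hAiso]; infer_instance
  haveI hdesc : MorphismProperty.DescendsAlong @UniversallyInjective @Surjective := by
    rw [universallyInjective_eq_diagonal]; infer_instance
  haveI : UniversallyInjective rU :=
    MorphismProperty.DescendsAlong.of_isPullback (P := @UniversallyInjective) (Q := @Surjective)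
      sqU hpXs inferInstance
  haveI : IsOpenImmersion (pullback.diagonal rU) := inferInstance
  haveI : Surjective (pullback.diagonal rU) := (UniversallyInjective.iff_diagonal rU).mp inferInstance
  haveI : IsIso (pullback.diagonal rU) :=
    (isIso_iff_isOpenImmersion_and_surjective _).mpr ⟨inferInstance, inferInstance⟩
  haveI : Mono rU := (pullback.isIso_diagonal_iff rU).mp inferInstance
  haveI : IsOpenImmersion rU := IsOpenImmersion.of_flat_of_mono rU
  haveI : IsIso rU := (isIso_iff_isOpenImmersion_and_surjective _).mpr ⟨inferInstance, inferInstance⟩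
  refine ⟨inv rU ≫ U.ι, ?_, ?_, ?_⟩
  · change (inv rU ≫ U.ι) ≫ r = 𝟙 X
    rw [Category.assoc]
    exact IsIso.inv_hom_id rU
  · have : pX ≫ inv rU = γU := by rw [← hγUr, Category.assoc, IsIso.hom_inv_id, Category.comp_id]
    rw [← Category.assoc, this, hγU1]
  · intro σ' h1 h2
    have hσ' : Set.range σ'.base ⊆ Set.range U.ι.base := by
      rw [Scheme.Opens.range_ι]
      rintro _ ⟨x, rfl⟩
      obtain ⟨x', rfl⟩ := hqX.surjective x
      refine ⟨x', ?_⟩
      rw [← h2]
      simp
    let σU : X ⟶ U := IsOpenImmersion.lift U.ι σ' hσ'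
    have hσU : σU ≫ U.ι = σ' := IsOpenImmersion.lift_fac _ _ _
    have hσUr : σU ≫ rU = 𝟙 X := by
      change σU ≫ U.ι ≫ r = 𝟙 X
      rw [← Category.assoc, hσU, h1]
    have : σU = inv rU := IsIso.eq_inv_of_inv_hom_id hσUr
    rw [← hσU, this]


open AlgebraicGeometry CategoryTheory CategoryTheory.Limits in
/-- A universally submersive morphism is a descent morphism for etale schemes (exactness of Hom_S(X, Y)
-> Hom_S'(X', Y') => Hom_S''(X'', Y'')): let g : S' -> S be universally submersive, X and Y schemes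
over S with Y etale over S, X' and Y' their base changes along g, and f' : X' -> Y' an S'-morphism
whose two pullbacks to S'' = S' x_S S' coincide (equivalently: the two composites X'' -> X' -> Y' ->
Y along the two projections agree). Then there is exactly one S-morphism u : X -> Y whose base
change is f'. -/
theorem result {S S' X Y : Scheme.{u}} (g : S' ⟶ S) (hg : SGA1.UnivSubmersive g)
    (p : X ⟶ S) (q : Y ⟶ S) [Etale q]
    (f' : pullback p g ⟶ pullback q g) (hf' : f' ≫ pullback.snd q g = pullback.snd p g)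
    (hcoc : pullback.map p (pullback.fst g g ≫ g) p g (𝟙 X) (pullback.fst g g) (𝟙 S)
        ((Category.comp_id _).trans (Category.id_comp _).symm) (Category.comp_id _) ≫ f' ≫ pullback.fst q g =
      pullback.map p (pullback.fst g g ≫ g) p g (𝟙 X) (pullback.snd g g) (𝟙 S)
        ((Category.comp_id _).trans (Category.id_comp _).symm) ((Category.comp_id _).trans pullback.condition) ≫
        f' ≫ pullback.fst q g) :
    ∃! u : X ⟶ Y, u ≫ q = p ∧ f' ≫ pullback.fst q g = pullback.fst p g ≫ u := by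
  have hpX : SGA1.UnivSubmersive (pullback.fst p g) :=
    MorphismProperty.of_isPullback (IsPullback.of_hasPullback p g).flip hg
  have hφq : (f' ≫ pullback.fst q g) ≫ q = pullback.fst p g ≫ p :=
    calc (f' ≫ pullback.fst q g) ≫ q = f' ≫ (pullback.fst q g ≫ q) := Category.assoc _ _ _
      _ = f' ≫ (pullback.snd q g ≫ g) := by rw [pullback.condition]
      _ = (f' ≫ pullback.snd q g) ≫ g := (Category.assoc _ _ _).symm
      _ = pullback.snd p g ≫ g := by rw [hf']
      _ = pullback.fst p g ≫ p := pullback.condition.symm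
  let γ : pullback p g ⟶ pullback q p :=
    pullback.lift (f' ≫ pullback.fst q g) (pullback.fst p g) hφq
  have hγ : γ ≫ pullback.snd q p = pullback.fst p g := pullback.lift_snd _ _ _
  have hγ1 : γ ≫ pullback.fst q p = f' ≫ pullback.fst q g := pullback.lift_fst _ _ _
  let π₁ : pullback p (pullback.fst g g ≫ g) ⟶ pullback p g :=
    pullback.map p (pullback.fst g g ≫ g) p g (𝟙 X) (pullback.fst g g) (𝟙 S)
      ((Category.comp_id _).trans (Category.id_comp _).symm) (Category.comp_id _)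
  let π₂ : pullback p (pullback.fst g g ≫ g) ⟶ pullback p g :=
    pullback.map p (pullback.fst g g ≫ g) p g (𝟙 X) (pullback.snd g g) (𝟙 S)
      ((Category.comp_id _).trans (Category.id_comp _).symm)
      ((Category.comp_id _).trans pullback.condition)
  have hcoc' : π₁ ≫ (f' ≫ pullback.fst q g) = π₂ ≫ (f' ≫ pullback.fst q g) := hcoc
  have hπ₁f : π₁ ≫ pullback.fst p g = pullback.fst p (pullback.fst g g ≫ g) ≫ 𝟙 X :=
    pullback.lift_fst _ _ _
  have hπ₁s : π₁ ≫ pullback.snd p g = pullback.snd p (pullback.fst g g ≫ g) ≫ pullback.fst g g :=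
    pullback.lift_snd _ _ _
  have hπ₂f : π₂ ≫ pullback.fst p g = pullback.fst p (pullback.fst g g ≫ g) ≫ 𝟙 X :=
    pullback.lift_fst _ _ _
  have hπ₂s : π₂ ≫ pullback.snd p g = pullback.snd p (pullback.fst g g ≫ g) ≫ pullback.snd g g :=
    pullback.lift_snd _ _ _
  have hco : ∀ (V : Scheme.{u}) (v₁ v₂ : V ⟶ pullback p g),
      v₁ ≫ pullback.fst p g = v₂ ≫ pullback.fst p g → v₁ ≫ γ = v₂ ≫ γ := by
    intro V v₁ v₂ h
    have hS : (v₁ ≫ pullback.snd p g) ≫ g = (v₂ ≫ pullback.snd p g) ≫ g :=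
      calc (v₁ ≫ pullback.snd p g) ≫ g = v₁ ≫ (pullback.snd p g ≫ g) := Category.assoc _ _ _
        _ = v₁ ≫ (pullback.fst p g ≫ p) := by rw [pullback.condition]
        _ = (v₁ ≫ pullback.fst p g) ≫ p := (Category.assoc _ _ _).symm
        _ = (v₂ ≫ pullback.fst p g) ≫ p := by rw [h]
        _ = v₂ ≫ (pullback.fst p g ≫ p) := Category.assoc _ _ _
        _ = v₂ ≫ (pullback.snd p g ≫ g) := by rw [pullback.condition]
        _ = (v₂ ≫ pullback.snd p g) ≫ g := (Category.assoc _ _ _).symm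
    let κ₀ : V ⟶ pullback g g :=
      pullback.lift (v₁ ≫ pullback.snd p g) (v₂ ≫ pullback.snd p g) hS
    have hκ₀1 : κ₀ ≫ pullback.fst g g = v₁ ≫ pullback.snd p g := pullback.lift_fst _ _ _
    have hκ₀2 : κ₀ ≫ pullback.snd g g = v₂ ≫ pullback.snd p g := pullback.lift_snd _ _ _
    have hX'' : (v₁ ≫ pullback.fst p g) ≫ p = κ₀ ≫ (pullback.fst g g ≫ g) :=
      calc (v₁ ≫ pullback.fst p g) ≫ p = v₁ ≫ (pullback.fst p g ≫ p) := Category.assoc _ _ _
        _ = v₁ ≫ (pullback.snd p g ≫ g) := by rw [pullback.condition]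
        _ = (v₁ ≫ pullback.snd p g) ≫ g := (Category.assoc _ _ _).symm
        _ = (κ₀ ≫ pullback.fst g g) ≫ g := by rw [hκ₀1]
        _ = κ₀ ≫ (pullback.fst g g ≫ g) := Category.assoc _ _ _
    let κ : V ⟶ pullback p (pullback.fst g g ≫ g) :=
      pullback.lift (v₁ ≫ pullback.fst p g) κ₀ hX''
    have hκ1 : κ ≫ pullback.fst p (pullback.fst g g ≫ g) = v₁ ≫ pullback.fst p g :=
      pullback.lift_fst _ _ _
    have hκ2 : κ ≫ pullback.snd p (pullback.fst g g ≫ g) = κ₀ := pullback.lift_snd _ _ _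
    have e1 : κ ≫ π₁ = v₁ := by
      apply pullback.hom_ext
      · rw [Category.assoc, hπ₁f, Category.comp_id, hκ1]
      · rw [Category.assoc, hπ₁s, ← Category.assoc, hκ2, hκ₀1]
    have e2 : κ ≫ π₂ = v₂ := by
      apply pullback.hom_ext
      · rw [Category.assoc, hπ₂f, Category.comp_id, hκ1, h]
      · rw [Category.assoc, hπ₂s, ← Category.assoc, hκ2, hκ₀2]
    apply pullback.hom_ext
    · rw [Category.assoc, Category.assoc, hγ1, ← e1, ← e2, Category.assoc, Category.assoc, hcoc']
    · rw [Category.assoc, Category.assoc, hγ, h]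
  obtain ⟨σ, hσ1, hσ2, hσ3⟩ := core (pullback.fst p g) hpX (pullback.snd q p) γ hγ hco
  refine ⟨σ ≫ pullback.fst q p, ⟨?_, ?_⟩, ?_⟩
  · rw [Category.assoc, pullback.condition, ← Category.assoc, hσ1, Category.id_comp]
  · rw [← Category.assoc, hσ2, hγ1]
  · rintro u₁ ⟨hu1, hu2⟩
    let σ' : X ⟶ pullback q p := pullback.lift u₁ (𝟙 X) (by rw [hu1, Category.id_comp])
    have hσ'1 : σ' ≫ pullback.fst q p = u₁ := pullback.lift_fst _ _ _
    have hσ'2 : σ' ≫ pullback.snd q p = 𝟙 X := pullback.lift_snd _ _ _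
    have hσ'3 : pullback.fst p g ≫ σ' = γ := by
      apply pullback.hom_ext
      · rw [Category.assoc, hσ'1, hγ1, hu2]
      · rw [Category.assoc, hσ'2, Category.comp_id, hγ]
    rw [← hσ'1, hσ3 σ' hσ'2 hσ'3]

end Groth.Agent.S3709
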