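import Groth.Statements.S2916
import Mathlib
import Groth.Agent.S3709

set_option autoImplicit false
open CategoryTheory CategoryTheory.Limits AlgebraicGeometry Opposite
universe u
open SGA1

open CategoryTheory CategoryTheory.Limits AlgebraicGeometry

namespace Groth.Agent.S2916

open CategoryTheory CategoryTheory.Limits AlgebraicGeometry MorphismProperty

set_option backward.isDefEq.respectTransparency false in
/-- equalizers into an unramified scheme are open immersions -/
theorem isOpenImmersion_equalizer_ι_left {S : Scheme.{u}} {X Y : Over S}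
    [FormallyUnramified Y.hom] [LocallyOfFiniteType Y.hom]
    (f g : X ⟶ Y) : IsOpenImmersion (equalizer.ι f g).left := by
  refine MorphismProperty.of_isPullback (P := @IsOpenImmersion)
    ((Limits.isPullback_equalizer_prod f g).map (Over.forget _)).flip ?_
  rw [← MorphismProperty.cancel_right_of_respectsIso @IsOpenImmersion _
    (Over.prodLeftIsoPullback Y Y).hom]
  convert! (inferInstance : IsOpenImmersion (pullback.diagonal Y.hom))
  ext1 <;> simp [← Over.comp_left]

/-- morphisms into an unramified `S`-scheme which agree after a jointly surjective family agree -/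
theorem ext_of_unramified {V Y S : Scheme.{u}} (a b : V ⟶ Y) (q : Y ⟶ S) [FormallyUnramified q]
    [LocallyOfFiniteType q] (h : a ≫ q = b ≫ q)
    (H : ∀ v : V, ∃ (W : Scheme.{u}) (ι : W ⟶ V), v ∈ Set.range ι.base ∧ ι ≫ a = ι ≫ b) :
    a = b := by
  let V' : Over S := Over.mk (a ≫ q)
  let Y' : Over S := Over.mk q
  let a' : V' ⟶ Y' := Over.homMk a
  let b' : V' ⟶ Y' := Over.homMk b h.symm
  haveI : FormallyUnramified Y'.hom := ‹_›
  haveI : LocallyOfFiniteType Y'.hom := ‹_›
  haveI := isOpenImmersion_equalizer_ι_left a' b'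
  haveI : Surjective (equalizer.ι a' b').left := by
    refine ⟨fun v => ?_⟩
    obtain ⟨W, ι, ⟨w, rfl⟩, hι⟩ := H v
    let W' : Over S := Over.mk (ι ≫ a ≫ q)
    let ι' : W' ⟶ V' := Over.homMk ι
    have hι' : ι' ≫ a' = ι' ≫ b' := by ext1; exact hι
    refine ⟨(equalizer.lift ι' hι').left.base w, ?_⟩
    rw [← Scheme.Hom.comp_apply, ← Over.comp_left, equalizer.lift_ι]
    rfl
  haveI : IsIso (equalizer.ι a' b').left :=
    (isIso_iff_isOpenImmersion_and_surjective _).mpr ⟨inferInstance, inferInstance⟩
  rw [← cancel_epi (equalizer.ι a' b').left]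
  exact congr($(equalizer.condition a' b').left)

theorem section_isOpenImmersion {X Y : Scheme.{u}} (s : Y ⟶ X) (f : X ⟶ Y) [Etale f]
    (h : s ≫ f = 𝟙 Y) : IsOpenImmersion s := by
  haveI : Etale (s ≫ f) := by rw [h]; infer_instance
  haveI : Etale s := Etale.of_comp (f := s) f
  haveI : Mono s := mono_of_mono_fac h
  exact IsOpenImmersion.of_flat_of_mono s

/-- a map from a connected `K`-scheme to an étale `K`-scheme (`K` algebraically closed) is
constant on `K`-points. -/
theorem geom_const {K : Type u} [Field K] [IsAlgClosed K] {T Z : Scheme.{u}} [ConnectedSpace T]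
    (sT : T ⟶ Spec (.of K)) (sZ : Z ⟶ Spec (.of K)) [Etale sZ] (c : T ⟶ Z) (hc : c ≫ sZ = sT)
    (t₁ t₂ : Spec (.of K) ⟶ T) (h₁ : t₁ ≫ sT = 𝟙 _) (h₂ : t₂ ≫ sT = 𝟙 _) :
    t₁ ≫ c = t₂ ≫ c := by
  have hsec : ∀ z : Z, ∃ l : Spec (.of K) ⟶ Z, l ≫ sZ = 𝟙 _ ∧ Set.range l.base = {z} := by
    intro z
    obtain ⟨l, hl1, hl2⟩ := Scheme.exists_fac_of_etale_of_isSepClosed sZ (𝟙 (Spec (.of K))) z
      (Subsingleton.elim _ _)
    refine ⟨l, hl1, ?_⟩
    ext y
    constructor
    · rintro ⟨w, rfl⟩
      rw [Subsingleton.elim w default]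
      exact hl2
    · rintro rfl
      exact ⟨default, hl2⟩
  have hopen : ∀ z : Z, IsOpen ({z} : Set Z) := by
    intro z
    obtain ⟨l, hl1, hl2⟩ := hsec z
    haveI := section_isOpenImmersion l sZ hl1
    rw [← hl2]
    exact l.isOpenEmbedding.isOpen_range
  let z₀ : Z := (t₁ ≫ c).base default
  obtain ⟨l, hl1, hl2⟩ := hsec z₀
  haveI := section_isOpenImmersion l sZ hl1
  have hclopen : IsClopen (c.base ⁻¹' {z₀}) := by
    refine ⟨?_, (hopen z₀).preimage c.continuous⟩
    rw [← isOpen_compl_iff, ← Set.preimage_compl]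
    refine IsOpen.preimage c.continuous ?_
    have : ({z₀}ᶜ : Set Z) = ⋃ z ∈ ({z₀}ᶜ : Set Z), {z} := (Set.biUnion_of_singleton _).symm
    rw [this]
    exact isOpen_biUnion fun z _ => hopen z
  have huniv : c.base ⁻¹' {z₀} = Set.univ := by
    rcases isClopen_iff.mp hclopen with h | h
    · exfalso
      have : t₁.base default ∈ c.base ⁻¹' {z₀} := by
        change c.base (t₁.base default) = z₀
        rfl
      rw [h] at this
      exact this
    · exact h
  have hrange : Set.range c.base ⊆ Set.range l.base := by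
    rw [hl2]
    rintro _ ⟨t, rfl⟩
    have : t ∈ c.base ⁻¹' {z₀} := by rw [huniv]; trivial
    exact this
  let c₀ : T ⟶ Spec (.of K) := IsOpenImmersion.lift l c hrange
  have hc₀ : c₀ ≫ l = c := IsOpenImmersion.lift_fac _ _ _
  have hc₀' : c₀ = sT := by
    rw [← hc, ← hc₀, Category.assoc, hl1, Category.comp_id]
  rw [← hc₀, hc₀', ← Category.assoc, ← Category.assoc, h₁, h₂]


/-- Let g : S' ⟶ S be universally submersive with geometrically connected fibres (the base change of S'
to any algebraically closed field valued point of S is connected). Then S' is connected whenever S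
is, and for schemes X, Y etale over S every S'-morphism between their base changes comes from
exactly one S-morphism X ⟶ Y. -/
theorem result {S' S : Scheme.{u}} (g : S' ⟶ S)
    (hg : SGA1.UnivSubmersive g)
    (hconn : ∀ (K : Type u) [Field K] [IsAlgClosed K] (ξ : Spec (CommRingCat.of K) ⟶ S), ConnectedSpace ↑(pullback g ξ)) :
    (ConnectedSpace S → ConnectedSpace S') ∧
    ∀ (X Y : Over S) [Etale X.hom] [Etale Y.hom], Function.Bijective ((Over.pullback g).map : (X ⟶ Y) → _) := by
  have hq := Groth.Agent.S2917.isQuotientMap_of_univSubmersive hg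
  refine ⟨fun hS => ?_, fun X Y _ _ => ⟨?_, ?_⟩⟩
  · -- connectedness
    have hfib : ∀ s : S, _root_.IsConnected (g.base ⁻¹' {s}) := by
      intro s
      let K := AlgebraicClosure (S.residueField s)
      let ξ : Spec (.of K) ⟶ S :=
        Spec.map (CommRingCat.ofHom (algebraMap (S.residueField s) K)) ≫ S.fromSpecResidueField s
      haveI := hconn K ξ
      have hξ : Set.range ξ.base = {s} := by
        ext y
        constructor
        · rintro ⟨w, rfl⟩
          change (S.fromSpecResidueField s).base _ = s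
          exact Scheme.fromSpecResidueField_apply _ _
        · intro hy
          rw [Set.mem_singleton_iff.mp hy]
          refine ⟨default, ?_⟩
          change (S.fromSpecResidueField s).base _ = _
          exact Scheme.fromSpecResidueField_apply _ _
      have hr : Set.range (pullback.fst g ξ).base = g.base ⁻¹' {s} := by
        rw [← hξ]
        exact Scheme.Pullback.range_fst g ξ
      rw [← hr]
      exact isConnected_range (pullback.fst g ξ).continuous
    have := hq.isCoinducing.isConnected_preimage_of_isClosed hfib isClosed_univ isConnected_univ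
    rw [Set.preimage_univ] at this
    exact connectedSpace_iff_univ.mpr this
  · -- injective
    intro k₁ k₂ hk
    have e1 : ((Over.pullback g).map k₁).left ≫ pullback.fst Y.hom g =
        pullback.fst X.hom g ≫ k₁.left := pullback.lift_fst _ _ _
    have e2 : ((Over.pullback g).map k₂).left ≫ pullback.fst Y.hom g =
        pullback.fst X.hom g ≫ k₂.left := pullback.lift_fst _ _ _
    have h1 : pullback.fst X.hom g ≫ k₁.left = pullback.fst X.hom g ≫ k₂.left := by
      rw [← e1, ← e2, hk]
    ext1
    have hpX : SGA1.UnivSubmersive (pullback.fst X.hom g) :=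
      MorphismProperty.of_isPullback (IsPullback.of_hasPullback X.hom g).flip hg
    haveI : Surjective (pullback.fst X.hom g) :=
      ⟨(Groth.Agent.S2917.isQuotientMap_of_univSubmersive hpX).surjective⟩
    refine ext_of_unramified k₁.left k₂.left Y.hom (by rw [Over.w k₁, Over.w k₂]) (fun v => ?_)
    obtain ⟨w, rfl⟩ := (pullback.fst X.hom g).surjective v
    exact ⟨_, pullback.fst X.hom g, ⟨w, rfl⟩, h1⟩
  · -- surjective
    intro F'
    let p := X.hom
    let q := Y.hom
    let f' : pullback p g ⟶ pullback q g := F'.left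
    have hf' : f' ≫ pullback.snd q g = pullback.snd p g := Over.w F'
    have hφq : (f' ≫ pullback.fst q g) ≫ q = pullback.fst p g ≫ p :=
      calc (f' ≫ pullback.fst q g) ≫ q = f' ≫ (pullback.fst q g ≫ q) := Category.assoc _ _ _
        _ = f' ≫ (pullback.snd q g ≫ g) := by rw [pullback.condition]
        _ = (f' ≫ pullback.snd q g) ≫ g := (Category.assoc _ _ _).symm
        _ = pullback.snd p g ≫ g := by rw [hf']
        _ = pullback.fst p g ≫ p := pullback.condition.symm
    have hco : ∀ (V : Scheme.{u}) (v₁ v₂ : V ⟶ pullback p g),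
        v₁ ≫ pullback.fst p g = v₂ ≫ pullback.fst p g →
        v₁ ≫ (f' ≫ pullback.fst q g) = v₂ ≫ (f' ≫ pullback.fst q g) := by
      intro V v₁ v₂ h
      refine ext_of_unramified _ _ q ?_ (fun v => ?_)
      · rw [Category.assoc v₁, Category.assoc v₂, hφq, ← Category.assoc, ← Category.assoc, h]
      · let K := AlgebraicClosure (V.residueField v)
        let ι : Spec (.of K) ⟶ V :=
          Spec.map (CommRingCat.ofHom (algebraMap (V.residueField v) K)) ≫ V.fromSpecResidueField v
        have hιv : v ∈ Set.range ι.base := by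
          refine ⟨default, ?_⟩
          change (V.fromSpecResidueField v).base _ = _
          exact Scheme.fromSpecResidueField_apply _ _
        refine ⟨_, ι, hιv, ?_⟩
        let x₁ := ι ≫ v₁
        let x₂ := ι ≫ v₂
        let xb : Spec (.of K) ⟶ X.left := x₁ ≫ pullback.fst p g
        have hxb : x₂ ≫ pullback.fst p g = xb := by
          change (ι ≫ v₂) ≫ pullback.fst p g = (ι ≫ v₁) ≫ pullback.fst p g
          rw [Category.assoc ι v₂, Category.assoc ι v₁, h]
        let ξ : Spec (.of K) ⟶ S := xb ≫ p
        haveI := hconn K ξ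
        let sT := pullback.snd g ξ
        have hcond : ∀ x : Spec (.of K) ⟶ pullback p g, x ≫ pullback.fst p g = xb →
            (x ≫ pullback.snd p g) ≫ g = 𝟙 _ ≫ ξ := by
          intro x hx
          rw [Category.assoc, ← pullback.condition, ← Category.assoc, hx, Category.id_comp]
        let t₁ : Spec (.of K) ⟶ pullback g ξ :=
          pullback.lift (x₁ ≫ pullback.snd p g) (𝟙 _) (hcond x₁ rfl)
        let t₂ : Spec (.of K) ⟶ pullback g ξ :=
          pullback.lift (x₂ ≫ pullback.snd p g) (𝟙 _) (hcond x₂ hxb)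
        have ht₁s : t₁ ≫ sT = 𝟙 _ := pullback.lift_snd _ _ _
        have ht₂s : t₂ ≫ sT = 𝟙 _ := pullback.lift_snd _ _ _
        have ht₁f : t₁ ≫ pullback.fst g ξ = x₁ ≫ pullback.snd p g := pullback.lift_fst _ _ _
        have ht₂f : t₂ ≫ pullback.fst g ξ = x₂ ≫ pullback.snd p g := pullback.lift_fst _ _ _
        have hτc : (sT ≫ xb) ≫ p = pullback.fst g ξ ≫ g := by
          rw [Category.assoc]
          exact pullback.condition.symm
        let τ : pullback g ξ ⟶ pullback p g := pullback.lift (sT ≫ xb) (pullback.fst g ξ) hτc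
        have hτ1 : τ ≫ pullback.fst p g = sT ≫ xb := pullback.lift_fst _ _ _
        have hτ2 : τ ≫ pullback.snd p g = pullback.fst g ξ := pullback.lift_snd _ _ _
        have hcc : (τ ≫ (f' ≫ pullback.fst q g)) ≫ q = sT ≫ ξ := by
          rw [Category.assoc, hφq, ← Category.assoc, hτ1, Category.assoc]
        let c : pullback g ξ ⟶ pullback q ξ := pullback.lift (τ ≫ (f' ≫ pullback.fst q g)) sT hcc
        have hc1 : c ≫ pullback.fst q ξ = τ ≫ (f' ≫ pullback.fst q g) := pullback.lift_fst _ _ _
        have hc2 : c ≫ pullback.snd q ξ = sT := pullback.lift_snd _ _ _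
        have hx₁ : t₁ ≫ τ = x₁ := by
          apply pullback.hom_ext
          · rw [Category.assoc, hτ1, ← Category.assoc, ht₁s, Category.id_comp]
          · rw [Category.assoc, hτ2, ht₁f]
        have hx₂ : t₂ ≫ τ = x₂ := by
          apply pullback.hom_ext
          · rw [Category.assoc, hτ1, ← Category.assoc, ht₂s, Category.id_comp, hxb]
          · rw [Category.assoc, hτ2, ht₂f]
        have hkey := geom_const sT (pullback.snd q ξ) c hc2 t₁ t₂ ht₁s ht₂s
        calc ι ≫ v₁ ≫ (f' ≫ pullback.fst q g) = x₁ ≫ (f' ≫ pullback.fst q g) :=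
              (Category.assoc _ _ _).symm
          _ = (t₁ ≫ τ) ≫ (f' ≫ pullback.fst q g) := by rw [hx₁]
          _ = t₁ ≫ (τ ≫ (f' ≫ pullback.fst q g)) := Category.assoc _ _ _
          _ = t₁ ≫ (c ≫ pullback.fst q ξ) := by rw [hc1]
          _ = (t₁ ≫ c) ≫ pullback.fst q ξ := (Category.assoc _ _ _).symm
          _ = (t₂ ≫ c) ≫ pullback.fst q ξ := by rw [hkey]
          _ = t₂ ≫ (c ≫ pullback.fst q ξ) := Category.assoc _ _ _
          _ = t₂ ≫ (τ ≫ (f' ≫ pullback.fst q g)) := by rw [hc1]
          _ = (t₂ ≫ τ) ≫ (f' ≫ pullback.fst q g) := (Category.assoc _ _ _).symm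
          _ = x₂ ≫ (f' ≫ pullback.fst q g) := by rw [hx₂]
          _ = ι ≫ v₂ ≫ (f' ≫ pullback.fst q g) := Category.assoc _ _ _
    -- cocycle condition
    have hcoc := hco _
      (pullback.map p (pullback.fst g g ≫ g) p g (𝟙 X.left) (pullback.fst g g) (𝟙 S)
        ((Category.comp_id _).trans (Category.id_comp _).symm) (Category.comp_id _))
      (pullback.map p (pullback.fst g g ≫ g) p g (𝟙 X.left) (pullback.snd g g) (𝟙 S)
        ((Category.comp_id _).trans (Category.id_comp _).symm)
        ((Category.comp_id _).trans pullback.condition))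
      ((pullback.lift_fst _ _ _).trans (pullback.lift_fst _ _ _).symm)
    obtain ⟨u, ⟨hu1, hu2⟩, -⟩ := Groth.Agent.S3709.result g hg p q f' hf' hcoc
    refine ⟨Over.homMk u hu1, ?_⟩
    ext1
    apply pullback.hom_ext
    · change (pullback.lift (pullback.fst _ _ ≫ u) (pullback.snd _ _) _) ≫ pullback.fst q g = _
      rw [pullback.lift_fst]
      exact hu2.symm
    · change (pullback.lift (pullback.fst _ _ ≫ u) (pullback.snd _ _) _) ≫ pullback.snd q g = _
      rw [pullback.lift_snd]
      exact hf'.symm

end Groth.Agent.S2916
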