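import Groth.Statements.S17448
import Mathlib
import Groth.Agent.H3.HenselEtale
import Groth.Agent.S2916

set_option autoImplicit false
universe u
open CategoryTheory CategoryTheory.Limits AlgebraicGeometry
open Hensel

namespace Groth.Agent.S17448

open IsLocalRing

theorem uniq (R : Type u) [CommRing R] [IsLocalRing R] {X : Scheme.{u}}
    (f : X ⟶ Spec (CommRingCat.of R)) [FormallyUnramified f] [LocallyOfFiniteType f]
    (s₁ s₂ : Spec (CommRingCat.of R) ⟶ X) (h₁ : s₁ ≫ f = 𝟙 _) (h₂ : s₂ ≫ f = 𝟙 _)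
    (h : Spec.map (CommRingCat.ofHom (IsLocalRing.residue R)) ≫ s₁ =
      Spec.map (CommRingCat.ofHom (IsLocalRing.residue R)) ≫ s₂) : s₁ = s₂ := by
  let S := Spec (CommRingCat.of R)
  let V' : Over S := Over.mk (s₁ ≫ f)
  let Y' : Over S := Over.mk f
  let a' : V' ⟶ Y' := Over.homMk s₁
  let b' : V' ⟶ Y' := Over.homMk s₂ (by show s₂ ≫ f = s₁ ≫ f; rw [h₁, h₂])
  haveI : FormallyUnramified Y'.hom := ‹_›
  haveI : LocallyOfFiniteType Y'.hom := ‹_›
  haveI := S2916.isOpenImmersion_equalizer_ι_left a' b'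
  let ρ := Spec.map (CommRingCat.ofHom (IsLocalRing.residue R))
  let W' : Over S := Over.mk (ρ ≫ s₁ ≫ f)
  let ι' : W' ⟶ V' := Over.homMk ρ
  have hι' : ι' ≫ a' = ι' ≫ b' := by ext1; exact h
  have hmem : IsLocalRing.closedPoint R ∈ (equalizer.ι a' b').left.opensRange := by
    let pt : Spec (CommRingCat.of (IsLocalRing.ResidueField R)) := ⟨⊥, Ideal.isPrime_bot⟩
    refine ⟨(equalizer.lift ι' hι').left.base pt, ?_⟩
    rw [← Scheme.Hom.comp_apply, ← Over.comp_left, equalizer.lift_ι]
    exact PrimeSpectrum.comap_residue R pt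
  have htop : (equalizer.ι a' b').left.opensRange = ⊤ :=
    (IsLocalRing.closedPoint_mem_iff _).mp hmem
  haveI : Surjective (equalizer.ι a' b').left := ⟨fun v => by
    have : v ∈ (equalizer.ι a' b').left.opensRange := by rw [htop]; trivial
    exact this⟩
  haveI : IsIso (equalizer.ι a' b').left :=
    (isIso_iff_isOpenImmersion_and_surjective _).mpr ⟨inferInstance, inferInstance⟩
  rw [← cancel_epi (equalizer.ι a' b').left]
  exact congr($(equalizer.condition a' b').left)

theorem exist (R : Type u) [CommRing R]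
    [HenselianLocalRing R] {X : Scheme.{u}} (f : X ⟶ Spec (CommRingCat.of R)) [Etale f]
    (t : Spec (CommRingCat.of (IsLocalRing.ResidueField R)) ⟶ X)
    (ht : t ≫ f = Spec.map (CommRingCat.ofHom (IsLocalRing.residue R))) :
    ∃ s : Spec (CommRingCat.of R) ⟶ X,
      s ≫ f = 𝟙 (Spec (CommRingCat.of R)) ∧
        Spec.map (CommRingCat.ofHom (IsLocalRing.residue R)) ≫ s = t := by
  let pt : Spec (CommRingCat.of (IsLocalRing.ResidueField R)) := ⟨⊥, Ideal.isPrime_bot⟩
  obtain ⟨_, ⟨W, hW : IsAffineOpen W, rfl⟩, hzW, -⟩ :=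
    X.isBasis_affineOpens.exists_subset_of_mem_open (Set.mem_univ (t.base pt)) isOpen_univ
  have hrange : Set.range t.base ⊆ Set.range hW.fromSpec.base := by
    rw [hW.range_fromSpec]
    rintro _ ⟨y, rfl⟩
    rw [Subsingleton.elim y pt]
    exact hzW
  obtain ⟨t', ht'⟩ : ∃ t' : Spec (CommRingCat.of (IsLocalRing.ResidueField R)) ⟶ Spec Γ(X, W),
      t' ≫ hW.fromSpec = t :=
    ⟨IsOpenImmersion.lift hW.fromSpec t hrange, IsOpenImmersion.lift_fac _ _ _⟩
  obtain ⟨χ₀, hχ₀⟩ : ∃ χ₀ : Γ(X, W) ⟶ CommRingCat.of (IsLocalRing.ResidueField R),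
      Spec.map χ₀ = t' := ⟨Spec.preimage t', Spec.map_preimage t'⟩
  obtain ⟨θ, hθ⟩ : ∃ θ : CommRingCat.of R ⟶ Γ(X, W), Spec.map θ = hW.fromSpec ≫ f :=
    ⟨Spec.preimage _, Spec.map_preimage _⟩
  have het : Etale (Spec.map θ) := by rw [hθ]; infer_instance
  have hθet : θ.hom.Etale := (HasRingHomProperty.Spec_iff (P := @Etale)).mp het
  letI : Algebra R Γ(X, W) := θ.hom.toAlgebra
  haveI : Algebra.Etale R Γ(X, W) := hθet
  have hθχ : θ ≫ χ₀ = CommRingCat.ofHom (IsLocalRing.residue R) := by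
    apply Spec.map_injective
    rw [Spec.map_comp, hχ₀, hθ, ← Category.assoc, ht', ht]
  let χ : Γ(X, W) →ₐ[R] ResidueField R :=
    { χ₀.hom with
      commutes' := fun r => by
        have := congrArg (fun g => g.hom r) hθχ
        exact this }
  obtain ⟨σ, hσ⟩ := H3.exists_section_of_etale χ
  refine ⟨Spec.map (CommRingCat.ofHom σ.toRingHom) ≫ hW.fromSpec, ?_, ?_⟩
  · rw [Category.assoc, ← hθ, ← Spec.map_comp]
    have : θ ≫ CommRingCat.ofHom σ.toRingHom = 𝟙 _ := by
      ext r
      exact σ.commutes r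
    rw [this, Spec.map_id]
  · rw [← Category.assoc, ← Spec.map_comp, ← ht', ← hχ₀]
    congr 2
    ext a
    have := congrArg (fun g => g a) hσ
    exact this


/-- Sections over henselian rings: let R be a henselian local ring with residue field k and X → Spec R a
quasi-finite (quasi-compact with discrete fibres), separated and étale morphism. Then the natural
map from sections X(R) to points X(k) of the special fibre is bijective: for every morphism t : Spec
k → X over Spec k → Spec R there is exactly one section s : Spec R → X of X → Spec R whose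
restriction to Spec k is t. -/
theorem result (R : Type u) [CommRing R]
    [HenselianLocalRing R] {X : Scheme.{u}} (f : X ⟶ Spec (CommRingCat.of R))
    [LocallyQuasiFinite f] [QuasiCompact f] [IsSeparated f] [Etale f]
    (t : Spec (CommRingCat.of (IsLocalRing.ResidueField R)) ⟶ X)
    (ht : t ≫ f = Spec.map (CommRingCat.ofHom (IsLocalRing.residue R))) :
    ∃! s : Spec (CommRingCat.of R) ⟶ X,
      s ≫ f = 𝟙 (Spec (CommRingCat.of R)) ∧ Spec.map (CommRingCat.ofHom (IsLocalRing.residue R)) ≫ s = t := by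
  obtain ⟨s, hs1, hs2⟩ := exist R f t ht
  refine ⟨s, ⟨hs1, hs2⟩, ?_⟩
  rintro s' ⟨hs1', hs2'⟩
  exact uniq R f s' s hs1' hs1 (hs2'.trans hs2.symm)

end Groth.Agent.S17448
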