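import Groth.Statements.S17462
import Groth.Agent.H87.FinitePart
import Mathlib.AlgebraicGeometry.PullbackCarrier

set_option autoImplicit false
universe u
open CategoryTheory CategoryTheory.Limits AlgebraicGeometry
open Hensel

namespace Groth.Agent.S17462

/-- Let R be a henselian local ring and let X and Y be quasi-finite separated schemes over Spec R
(locally of finite type, quasi-compact, with discrete fibres, separated), with finite parts W_X ⊆ X
and W_Y ⊆ Y (open and closed subsets, finite over Spec R as open subschemes, containing every point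
over the closed point). If W ⊆ X ×_R Y is the finite part of the fibre product (same three
conditions, for the structure morphism of X ×_R Y), then W = W_X ×_R W_Y: a point of X ×_R Y lies in
W if and only if its first projection lies in W_X and its second projection lies in W_Y. -/
theorem result (R : Type u) [CommRing R] [HenselianLocalRing R]
    {X Y : Scheme.{u}} (f : X ⟶ Spec (CommRingCat.of R)) (f' : Y ⟶ Spec (CommRingCat.of R))
    [LocallyQuasiFinite f] [LocallyOfFiniteType f] [QuasiCompact f] [IsSeparated f]
    [LocallyQuasiFinite f'] [LocallyOfFiniteType f'] [QuasiCompact f'] [IsSeparated f']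
    (WX : X.Opens) (hWX : (IsClosed (WX : Set ↥X) ∧ IsFinite (WX.ι ≫ f) ∧ ∀ x : ↥X, f.base x = IsLocalRing.closedPoint R → x ∈ WX))
    (WY : Y.Opens) (hWY : (IsClosed (WY : Set ↥Y) ∧ IsFinite (WY.ι ≫ f') ∧ ∀ x : ↥Y, f'.base x = IsLocalRing.closedPoint R → x ∈ WY))
    (W : (pullback f f').Opens)
    (hW : (IsClosed (W : Set ↥(pullback f f')) ∧ IsFinite (W.ι ≫ (pullback.fst f f' ≫ f)) ∧ ∀ x : ↥(pullback f f'), (pullback.fst f f' ≫ f).base x = IsLocalRing.closedPoint R → x ∈ W))
    (z : ↥(pullback f f')) :
    z ∈ W ↔ ((pullback.fst f f').base z ∈ WX ∧ (pullback.snd f f').base z ∈ WY) := by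
  have hfinX := hWX.2.1
  have hfinY := hWY.2.1
  have hfinW := hW.2.1
  constructor
  · intro hz
    obtain ⟨z', -, hsp, hz'⟩ :=
      Groth.Agent.H87.exists_specializes_over_closedPoint_of_finite R (pullback.fst f f' ≫ f) W z hz
    constructor
    · have h1 : (pullback.fst f f').base z' ∈ WX := by
        apply hWX.2.2
        rw [← hz']
        rfl
      exact (hsp.map (pullback.fst f f').base.hom.continuous).mem_open WX.2 h1
    · have h1 : (pullback.snd f f').base z' ∈ WY := by
        apply hWY.2.2
        rw [← hz', pullback.condition]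
        rfl
      exact (hsp.map (pullback.snd f f').base.hom.continuous).mem_open WY.2 h1
  · rintro ⟨hzX, hzY⟩
    let m := pullback.map (WX.ι ≫ f) (WY.ι ≫ f') f f' WX.ι WY.ι (𝟙 _) (by simp) (by simp)
    have hrange := AlgebraicGeometry.Scheme.Pullback.range_map (WX.ι ≫ f) (WY.ι ≫ f') f f' WX.ι WY.ι (𝟙 _)
      (by simp) (by simp)
    have hzmem : z ∈ Set.range m := by
      rw [hrange]
      refine ⟨?_, ?_⟩
      · rw [Set.mem_preimage, Scheme.Opens.range_ι]
        exact hzX
      · rw [Set.mem_preimage, Scheme.Opens.range_ι]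
        exact hzY
    obtain ⟨w, rfl⟩ := hzmem
    have hfin : IsFinite (pullback.fst (WX.ι ≫ f) (WY.ι ≫ f') ≫ (WX.ι ≫ f)) := inferInstance
    obtain ⟨w', hsp, hw'⟩ := Groth.Agent.H87.exists_specializes_over_closedPoint R
      (pullback.fst (WX.ι ≫ f) (WY.ι ≫ f') ≫ (WX.ι ≫ f))
      (Scheme.Hom.isClosedMap _) w
    have hmw' : m.base w' ∈ W := by
      apply hW.2.2
      rw [← hw']
      have : m ≫ pullback.fst f f' ≫ f = pullback.fst (WX.ι ≫ f) (WY.ι ≫ f') ≫ (WX.ι ≫ f) := by
        simp only [m, pullback.map]
        rw [pullback.lift_fst_assoc, Category.assoc]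
      rw [← this]
      rfl
    exact (hsp.map m.base.hom.continuous).mem_open W.2 hmw'

end Groth.Agent.S17462
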