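import Groth.Statements.S17469


set_option autoImplicit false
universe u
open CategoryTheory AlgebraicGeometry
open Variety

namespace Groth.Agent.S17469

/-- Let X be a locally Noetherian integral scheme all of whose local rings are integrally closed domains
and U an open subset of X. A section of O_X over U that is integral over the ring of global sections
of X, the latter acting through restriction, is itself the restriction of a global section. (The
published lemma is stated for an irreducible normal variety and for the graded ring of sections over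
U of all non-negative powers of a line bundle, integral over the corresponding ring of sections over
X; for the trivial line bundle its homogeneous components are the present statement, which is made
here for any locally Noetherian normal integral scheme.) -/
theorem result
    (X : Scheme.{u}) [AlgebraicGeometry.IsIntegral X] [IsLocallyNoetherian X]
    (hX : Pi1.IsNormalScheme X) (U : X.Opens) (b : Γ(X, U))
    (hb : (X.presheaf.map (homOfLE le_top : U ⟶ ⊤).op).hom.IsIntegralElem b) :
    b ∈ Set.range (X.presheaf.map (homOfLE le_top : U ⟶ ⊤).op).hom := by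
  classical
  by_cases hU : (U : Set X).Nonempty
  swap
  · refine ⟨0, ?_⟩
    apply TopCat.Presheaf.section_ext X.sheaf U
    intro z hz
    exact absurd ⟨z, hz⟩ hU
  obtain ⟨x₀, hx₀⟩ := hU
  have hgen : ∀ W : X.Opens, ∀ z, z ∈ W → genericPoint X ∈ W := by
    intro W z hz
    exact ((genericPoint_spec X).mem_open_set_iff W.isOpen).mpr ⟨z, trivial, hz⟩
  have hinj : ∀ (W : X.Opens) (h : genericPoint X ∈ W),
      Function.Injective (X.presheaf.germ W (genericPoint X) h) :=
    fun W h => germ_injective_of_isIntegral X (genericPoint X) h
  have hηU : genericPoint X ∈ U := hgen U x₀ hx₀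
  obtain ⟨p, hp, hpb⟩ := hb
  have key : ∀ x : X, ∃ (V : X.Opens) (hx : x ∈ V) (s : Γ(X, V)),
      X.presheaf.germ V (genericPoint X) (hgen V x hx) s =
        X.presheaf.germ U (genericPoint X) hηU b := by
    intro x
    have hint : IsIntegral (X.presheaf.stalk x)
        (X.presheaf.germ U (genericPoint X) hηU b : X.functionField) := by
      refine ⟨p.map (X.presheaf.germ ⊤ x trivial).hom, hp.map _, ?_⟩
      rw [Polynomial.eval₂_map]
      have h1 : (algebraMap (X.presheaf.stalk x) X.functionField).comp
            (X.presheaf.germ ⊤ x trivial).hom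
          = (X.presheaf.germ U (genericPoint X) hηU).hom.comp
            (X.presheaf.map (homOfLE le_top : U ⟶ ⊤).op).hom := by
        ext f
        have : Nonempty (⊤ : X.Opens) := ⟨⟨x, trivial⟩⟩
        exact (Scheme.algebraMap_germ_eq_germToFunctionField X (U := ⊤) (x := x) trivial f).trans
          (X.presheaf.germ_res_apply (homOfLE le_top : U ⟶ ⊤) (genericPoint X) hηU f).symm
      rw [h1]
      have h2 := Polynomial.hom_eval₂ p (X.presheaf.map (homOfLE le_top : U ⟶ ⊤).op).hom
        (X.presheaf.germ U (genericPoint X) hηU).hom b
      rw [hpb, map_zero] at h2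
      exact h2.symm
    have := (hX x).2
    obtain ⟨bx, hbx⟩ := IsIntegrallyClosed.algebraMap_eq_of_integral hint
    obtain ⟨V, hxV, s, hs⟩ := X.presheaf.exists_germ_eq bx
    refine ⟨V, hxV, s, ?_⟩
    have : Nonempty V := ⟨⟨x, hxV⟩⟩
    refine (Scheme.algebraMap_germ_eq_germToFunctionField X hxV s).symm.trans ?_
    rw [hs, hbx]
  choose V hxV s hs using key
  have hcompat : TopCat.Presheaf.IsCompatible X.sheaf.1 V s := by
    intro x y
    apply TopCat.Presheaf.section_ext X.sheaf (V x ⊓ V y)
    intro z hz
    have hηW : genericPoint X ∈ V x ⊓ V y := hgen _ z hz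
    have e : X.presheaf.map (TopologicalSpace.Opens.infLELeft (V x) (V y)).op (s x) =
        X.presheaf.map (TopologicalSpace.Opens.infLERight (V x) (V y)).op (s y) := by
      apply hinj _ hηW
      refine (X.presheaf.germ_res_apply (TopologicalSpace.Opens.infLELeft (V x) (V y))
        (genericPoint X) hηW (s x)).trans ?_
      refine Eq.trans ?_ (X.presheaf.germ_res_apply (TopologicalSpace.Opens.infLERight (V x) (V y))
        (genericPoint X) hηW (s y)).symm
      exact (hs x).trans (hs y).symm
    exact congrArg _ e
  obtain ⟨g, hg, -⟩ := X.sheaf.existsUnique_gluing' V ⊤ (fun x => homOfLE le_top)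
    (fun z _ => TopologicalSpace.Opens.mem_iSup.mpr ⟨z, hxV z⟩) s hcompat
  refine ⟨g, ?_⟩
  apply hinj U hηU
  have e1 := X.presheaf.germ_res_apply (homOfLE le_top : U ⟶ ⊤) (genericPoint X) hηU g
  have e2 := X.presheaf.germ_res_apply (homOfLE le_top : V x₀ ⟶ ⊤) (genericPoint X)
    (hgen _ x₀ (hxV x₀)) g
  have e3 : X.presheaf.germ (V x₀) (genericPoint X) (hgen _ x₀ (hxV x₀))
      (X.presheaf.map (homOfLE le_top : V x₀ ⟶ ⊤).op g) =
      X.presheaf.germ U (genericPoint X) hηU b := by
    have := hg x₀
    exact (congrArg _ this).trans (hs x₀)
  exact e1.trans (e2.symm.trans e3)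

end Groth.Agent.S17469
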