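import Groth.Statements.S4191
import Groth.Agent.H21.AnConn

set_option autoImplicit false
open CategoryTheory AlgebraicGeometry Topology TopologicalSpace
open An

namespace Groth.Agent.S4191

/-- Let X be a scheme locally of finite type over ℂ. Then X is connected (and nonempty) if and only if
X(ℂ) with the complex topology is connected (and nonempty). -/
theorem result (X : Scheme.{0}) [X.Over An.SC] [LocallyOfFiniteType (X ↘ An.SC)] :
    ConnectedSpace ↥X ↔ ConnectedSpace (An.Pts X) := by
  constructor
  · intro hX
    have hne : Nonempty (An.Pts X) := by
      obtain ⟨x⟩ := hX.toNonempty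
      obtain ⟨p, _⟩ := Groth.Agent.H21.exists_pt_mem_of_isLocallyClosed (X := X)
        (Z := Set.univ) ⟨x, trivial⟩ isClosed_univ.isLocallyClosed
      exact ⟨p⟩
    haveI : PreconnectedSpace (An.Pts X) := by
      rw [preconnectedSpace_iff_clopen]
      intro A hA
      obtain ⟨W, hW, rfl⟩ := Groth.Agent.H21.exists_isClopen A hA
      rcases isClopen_iff.1 hW with h | h
      · left
        rw [h]
        rfl
      · right
        rw [h]
        rfl
    exact { toNonempty := hne }
  · intro hP
    have hne : Nonempty X := ⟨(Classical.arbitrary (An.Pts X)).pt⟩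
    haveI := Groth.Agent.H21.jacobsonSpace (X := X)
    have hrange : Set.range (An.Pts.pt : An.Pts X → X) = closedPoints X := by
      ext x
      constructor
      · rintro ⟨p, rfl⟩
        exact Groth.Agent.H21.pt_mem_closedPoints p
      · intro hx
        obtain ⟨p, rfl⟩ := Groth.Agent.H21.exists_pt_eq hx
        exact ⟨p, rfl⟩
    have hdense : closure (Set.range (An.Pts.pt : An.Pts X → X)) = Set.univ := by
      rw [hrange, closure_closedPoints]
    haveI : PreconnectedSpace X :=
      ⟨by rw [← hdense]; exact (isPreconnected_range An.Pts.continuous_pt).closure⟩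
    exact { toNonempty := hne }

end Groth.Agent.S4191
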