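import Groth.Statements.S17474
import Mathlib
import Groth.Agent.H78.PullCalc

set_option autoImplicit false
set_option maxHeartbeats 400000
set_option backward.isDefEq.respectTransparency.types false
universe u
open CategoryTheory MonoidalCategory CartesianMonoidalCategory MonObj GrpObj AlgebraicGeometry CategoryTheory.Limits
open AlgGrp

namespace Groth.Agent.S17474

open Groth.Agent.H78.PullCalc
open Groth.Agent.S15077 (ntrans nsymm nrefl ncongr ncomm nassoc nunitR nunitL)

/-- Over an algebraically closed field k, let X be a projective variety (an integral k-scheme admitting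
a closed immersion into some projective space over k) and let a connected k-group scheme of finite
type G act on X. For a k-point g of G write t_g : X → X, x ↦ g · x. Then for every invertible
O_X-module L and every invertible M with L ⊗ M ≅ O_X (an inverse of L), the invertible module
t_g^*(L) ⊗ M is algebraically equivalent to zero. Equivalently, the neutral component of the
automorphism group scheme of X acts trivially on the Néron–Severi group of X. -/
theorem result (k : Type u) [Field k] [IsAlgClosed k]
    (G X : Over (Spec (CommRingCat.of k))) [GrpObj G] [LocallyOfFiniteType G.hom] [QuasiCompact G.hom]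
    [ConnectedSpace ↥G.left] [IsIntegral X.left] (hX : RelProj.IsHProjective X.hom)
    (a : AlgGrp.Action G X) (g : 𝟙_ (Over (Spec (CommRingCat.of k))) ⟶ G)
    (L M : X.left.Modules) (hL : PicF.IsInvertible L) (hM : PicF.IsInvertible M)
    (hLM : Nonempty (CohB1.tensorMod L M ≅ Coh.structureModule X.left)) :
    @Pic13.IsAlgEquivZero k _ X.left ⟨X.hom⟩
      (CohB1.tensorMod ((Scheme.Modules.pullback (lift (toUnit X ≫ g) (𝟙 X) ≫ a.act).left).obj L) M) := by
  -- the swapped action X ⊗ G ⟶ X
  have hact : ∀ h : 𝟙_ (Over (Spec (CommRingCat.of k))) ⟶ G,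
      lift (𝟙 X) (toUnit X ≫ h) ≫ (lift (snd X G) (fst X G) ≫ a.act) =
      lift (toUnit X ≫ h) (𝟙 X) ≫ a.act := by
    intro h
    rw [← Category.assoc, comp_lift, lift_snd, lift_fst]
  have hfst : ∀ h : 𝟙_ (Over (Spec (CommRingCat.of k))) ⟶ G,
      lift (𝟙 X) (toUnit X ≫ h) ≫ fst X G = 𝟙 X := fun h => lift_fst _ _
  have hone : lift (toUnit X ≫ η[G]) (𝟙 X) ≫ a.act = 𝟙 X := by
    have h1 : lift (toUnit X ≫ η[G]) (𝟙 X) = lift (toUnit X) (𝟙 X) ≫ (η[G] ▷ X) := by
      rw [lift_whiskerRight]
    rw [h1, Category.assoc, a.one_act, leftUnitor_hom, lift_snd]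
  have hN : PicF.IsInvertible (CohB1.tensorMod
      ((Scheme.Modules.pullback (lift (snd X G) (fst X G) ≫ a.act).left).obj L)
      ((Scheme.Modules.pullback (fst X G).left).obj M)) :=
    Groth.Agent.H18.TensorGen.isInvertible_tensorMod (inv_pb _ hL) (inv_pb _ hM)
  have key : ∀ h : 𝟙_ (Over (Spec (CommRingCat.of k))) ⟶ G,
      Nonempty ((Scheme.Modules.pullback (lift (𝟙 X) (toUnit X ≫ h)).left).obj (CohB1.tensorMod
        ((Scheme.Modules.pullback (lift (snd X G) (fst X G) ≫ a.act).left).obj L)
        ((Scheme.Modules.pullback (fst X G).left).obj M)) ≅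
      CohB1.tensorMod ((Scheme.Modules.pullback (lift (toUnit X ≫ h) (𝟙 X) ≫ a.act).left).obj L) M) := by
    intro h
    refine ntrans (pb_tensor _ _ _) (ncongr (pbO_comp_eq _ _ _ (hact h) L) ?_)
    exact ntrans (pbO_comp_eq _ _ _ (hfst h) M) (pbO_id M)
  refine ⟨G.left, G.hom, inferInstance, inferInstance, inferInstance, CohB1.tensorMod
      ((Scheme.Modules.pullback (lift (snd X G) (fst X G) ≫ a.act).left).obj L)
      ((Scheme.Modules.pullback (fst X G).left).obj M), hN, g.left, (η[G]).left, Over.w g,
      Over.w η[G], ?_, ?_⟩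
  · exact key g
  · refine ntrans (key η[G]) ?_
    exact ntrans (ncongr (ntrans (pbO_eq hone L) (pbO_id L)) (nrefl M)) hLM

end Groth.Agent.S17474
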