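import Groth.Statements.S17476
import Groth.Agent.S14995
import Groth.Agent.S9826
import Groth.Agent.H2.ConnComp
import Groth.Agent.H17.NormalRefl

set_option autoImplicit false
universe u
open CategoryTheory AlgebraicGeometry Opposite
open Coh

namespace Groth.Agent.S17476


set_option backward.isDefEq.respectTransparency.types false in
theorem stalk_depth (R : Type u) [CommRing R] [IsNoetherianRing R] [IsDomain R]
    [IsIntegrallyClosed R] (y : Spec (CommRingCat.of R)) (hy : (2 : ℕ∞) ≤ y.asIdeal.height) :
    (2 : ℕ∞) ≤ LocCoh.depth ((Spec (CommRingCat.of R)).presheaf.stalk y)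
      ((Spec (CommRingCat.of R)).presheaf.stalk y) := by
  let k : Algebra R ((Spec (CommRingCat.of R)).presheaf.stalk y) :=
    StructureSheaf.stalkAlgebra R y
  have hloc : IsLocalization.AtPrime ((Spec (CommRingCat.of R)).presheaf.stalk y) y.asIdeal :=
    StructureSheaf.IsLocalization.to_stalk R y
  haveI : IsDomain ((Spec (CommRingCat.of R)).presheaf.stalk y) :=
    IsLocalization.isDomain_of_le_nonZeroDivisors _ y.asIdeal.primeCompl_le_nonZeroDivisors
  haveI : IsIntegrallyClosed ((Spec (CommRingCat.of R)).presheaf.stalk y) :=
    isIntegrallyClosed_of_isLocalization _ y.asIdeal.primeCompl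
      y.asIdeal.primeCompl_le_nonZeroDivisors
  apply Groth.Agent.H17.NormalRefl.two_le_depth_self_of_normal
  rw [IsLocalization.AtPrime.ringKrullDim_eq_height y.asIdeal]
  exact (WithBot.coe_le_coe.mpr hy : ((2 : ℕ∞) : WithBot ℕ∞) ≤ _)

/-- Let R be a Noetherian ring, Z = Spec R, M a finitely generated R-module with associated
quasi-coherent sheaf M~ (so that Hom_R(M, R) = Hom_Z(M~, O_Z)), and Z₀ ⊆ Z an open subscheme. (1) If
the restriction of functions Γ(Z, O_Z) → Γ(Z₀, O_Z) is injective, then the restriction map Hom_Z(M~,
O_Z) → Hom_{Z₀}(M~|Z₀, O_{Z₀}) is injective. (2) If R is an integrally closed domain and the closed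
complement of Z₀ has codimension at least 2 (every prime ideal outside Z₀ has height at least 2),
then that restriction map is bijective. (The published first assertion assumes only that Z₀ is
dense; for R = k[x,y]/(x², xy), M = R and Z₀ the locus y ≠ 0, which is dense, multiplication by x is
a nonzero element of Hom_R(M, R) restricting to zero, so schematic density is what is needed and
what the printed argument uses. The published second assertion is for a normal irreducible affine
variety; any Noetherian integrally closed domain is allowed here.) -/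
theorem result (R : Type u) [CommRing R] [IsNoetherianRing R]
    (M : ModuleCat.{u} (CommRingCat.of R)) [Module.Finite R M] (U : (Spec (CommRingCat.of R)).Opens) :
    (Function.Injective ((Spec (CommRingCat.of R)).presheaf.map (homOfLE (le_top : U ≤ ⊤)).op) →
      Function.Injective (fun φ : AlgebraicGeometry.tilde M ⟶ Coh.structureModule (Spec (CommRingCat.of R)) =>
        (Scheme.Modules.restrictFunctor U.ι).map φ)) ∧
    (IsDomain R → IsIntegrallyClosed R → (∀ p : PrimeSpectrum R, p ∉ U → (2 : ℕ∞) ≤ p.asIdeal.height) →
      Function.Bijective (fun φ : AlgebraicGeometry.tilde M ⟶ Coh.structureModule (Spec (CommRingCat.of R)) =>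
        (Scheme.Modules.restrictFunctor U.ι).map φ)) := by
  constructor
  · intro hinj φ φ' h
    have hU : ∀ W : (Spec (CommRingCat.of R)).Opens, W = U.ι ''ᵁ ⊤ → φ.app W = φ'.app W := by
      rintro W rfl
      exact congrArg (fun ψ => Scheme.Modules.Hom.app ψ ⊤) h
    have hUU := hU U (Scheme.Opens.ι_image_top U).symm
    have htop : ∀ s, (φ.app ⊤) s = (φ'.app ⊤) s := by
      intro s
      apply hinj
      have n1 : (Coh.structureModule (Spec (CommRingCat.of R))).presheaf.map
          (homOfLE (le_top : U ≤ ⊤)).op ((φ.app ⊤) s) =
          (φ.app U) ((AlgebraicGeometry.tilde M).presheaf.map (homOfLE (le_top : U ≤ ⊤)).op s) :=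
        (ConcreteCategory.congr_hom (φ.mapPresheaf.naturality (homOfLE (le_top : U ≤ ⊤)).op) s).symm
      have n2 : (Coh.structureModule (Spec (CommRingCat.of R))).presheaf.map
          (homOfLE (le_top : U ≤ ⊤)).op ((φ'.app ⊤) s) =
          (φ'.app U) ((AlgebraicGeometry.tilde M).presheaf.map (homOfLE (le_top : U ≤ ⊤)).op s) :=
        (ConcreteCategory.congr_hom (φ'.mapPresheaf.naturality (homOfLE (le_top : U ≤ ⊤)).op) s).symm
      rw [hUU] at n1
      exact n1.trans n2.symm
    let φ₁ : (tilde.functor (CommRingCat.of R)).obj M ⟶
      Coh.structureModule (Spec (CommRingCat.of R)) := φ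
    let φ₂ : (tilde.functor (CommRingCat.of R)).obj M ⟶
      Coh.structureModule (Spec (CommRingCat.of R)) := φ'
    have h12 : φ₁ = φ₂ := by
      apply (tilde.adjunction.homEquiv M _).injective
      rw [Adjunction.homEquiv_unit, Adjunction.homEquiv_unit]
      congr 1
      ext s
      exact htop s
    exact h12
  · intro hD hIC hcodim
    haveI := hD
    haveI := hIC
    apply Groth.Agent.S14995.result (Spec (CommRingCat.of R)) (Coh.structureModule _)
      (AlgebraicGeometry.tilde M) (Groth.Agent.H8.isCoh_structureModule _)
      ⟨inferInstance, Groth.Agent.S9826.isFT_of_finite _ M inferInstance⟩ U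
    intro y hy
    rw [Groth.Agent.H2.ConnComp.depth_structureModule_stalk]
    exact stalk_depth R y (hcodim y hy)

end Groth.Agent.S17476
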