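import Groth.Statements.S17482
import Mathlib
import Groth.Agent.S15077
import Groth.Agent.H22.SerreH1
import Groth.Agent.H22.IdealSeqCI
import Groth.Agent.H68.ClopenIdem

set_option autoImplicit false
set_option maxHeartbeats 400000
set_option backward.isDefEq.respectTransparency.types false
universe u
open CategoryTheory CategoryTheory.Limits AlgebraicGeometry
open Surf

namespace Groth.Agent.S17482

/-- A closed subscheme `D` of `X` with `Γ(X, O_X)` a field, `H¹(X, I_D) = 0` and `D ≠ ∅` is
connected. -/
theorem connected_of_H1 {X : Scheme.{u}} (hfield : IsField (Γ(X, ⊤) : Type u))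
    (D : X.IdealSheafData) (hne : Nonempty ↥D.subscheme)
    (hvan : Subsingleton (Coh.HH X (ClSub.idealMod D) 1)) :
    ConnectedSpace ↥D.subscheme := by
  let SC : ShortComplex X.Modules := ShortComplex.mk (kernel.ι (ClSub.toSubscheme D))
    (ClSub.toSubscheme D) (kernel.condition _)
  haveI : Epi SC.g := Groth.Agent.H22.IdealSeqCI.epi_toSubscheme D
  haveI : Mono SC.f := inferInstanceAs (Mono (kernel.ι (ClSub.toSubscheme D)))
  have hS : SC.ShortExact :=
    ShortComplex.ShortExact.mk (ShortComplex.exact_of_f_is_kernel SC (kernelIsKernel _))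
  have hsurj : Function.Surjective (SC.g.app ⊤) :=
    Groth.Agent.H22.SerreH1.app_top_surjective_of_H1 SC hS hvan
  have hsurj' : ∀ ε : Γ(D.subscheme, ⊤), ∃ a : Γ(X, ⊤), (D.subschemeι.app ⊤).hom a = ε := by
    intro ε
    obtain ⟨a, ha⟩ := hsurj ε
    exact ⟨a, ha⟩
  have hidem : ∀ ε : Γ(D.subscheme, ⊤), IsIdempotentElem ε → ε = 0 ∨ ε = 1 := by
    intro ε hε
    obtain ⟨a, ha⟩ := hsurj' ε
    by_cases h0 : a = 0
    · left
      rw [← ha, h0, map_zero]
      exact rfl
    · right
      obtain ⟨b, hb⟩ := hfield.mul_inv_cancel h0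
      have hu : IsUnit a := IsUnit.of_mul_eq_one b hb
      have hu' : IsUnit ε := by
        rw [← ha]
        exact hu.map (D.subschemeι.app ⊤).hom
      obtain ⟨v, hv⟩ := hu'
      have h1 : (v : Γ(D.subscheme, ⊤)) * ε = v * 1 := by
        rw [mul_one, hv]
        exact hε.eq
      exact (Units.mul_right_inj v).mp h1
  rw [connectedSpace_iff_clopen]
  refine ⟨hne, fun s hs => ?_⟩
  obtain ⟨ε, hε, hεs⟩ := Groth.Agent.H68.ClopenIdem.exists_idempotent_of_isClopen s hs
  rcases hidem ε hε with h | h
  · left
    rw [← hεs, h, Scheme.basicOpen_zero]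
    rfl
  · right
    rw [← hεs, h, Scheme.basicOpen_one]
    rfl

/-- Let k be an algebraically closed field of characteristic zero and X a smooth projective surface over
k (an integral scheme of dimension two with all local rings regular, admitting a closed immersion
into some P^n_k over k) such that H^1(X, O_X) = 0. Let D be a nonempty closed subscheme of X, given
by a quasi-coherent ideal sheaf whose associated O_X-module I_D is invertible (a nonzero effective
divisor). If H^1(X, I_D) = 0, then D is connected. (The published statement is for rational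
surfaces; this row assumes only H^1(X, O_X) = 0. Since H^1(X, I_D) depends only on the isomorphism
class of I_D, the same holds for every effective divisor linearly equivalent to D.) -/
theorem result
    (k : Type u) [Field k] [IsAlgClosed k] [CharZero k]
    (X : Scheme.{u}) [X.Over (Spec (CommRingCat.of k))] [AlgebraicGeometry.IsIntegral X]
    (hdim : topologicalKrullDim X = 2) (hreg : ∀ x : X, IsRegularLocalRing (X.presheaf.stalk x))
    (hproj : ∃ (n : ℕ) (ι : X ⟶ CohB1.ProjSpace n k), IsClosedImmersion ι ∧
      ι ≫ CohB1.ProjSpace.toSpec n k = (X ↘ (Spec (CommRingCat.of k))))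
    (hH1 : Subsingleton (Coh.HH X (Coh.structureModule X) 1))
    (D : X.IdealSheafData) (hD : PicF.IsInvertible (ClSub.idealMod D)) (hne : Nonempty ↥D.subscheme)
    (hvan : Subsingleton (Coh.HH X (ClSub.idealMod D) 1)) :
    ConnectedSpace ↥D.subscheme := by
  obtain ⟨n, ι, hι, hιf⟩ := hproj
  haveI := hι
  haveI : IsProper (X ↘ Spec (CommRingCat.of k)) := by
    rw [← hιf]
    infer_instance
  have hfield : IsField (Γ(X, ⊤) : Type u) :=
    isField_of_universallyClosed k (X ↘ Spec (CommRingCat.of k))
  exact connected_of_H1 hfield D hne hvan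

end Groth.Agent.S17482
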