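import Groth.Statements.S17483
import Mathlib
import Groth.Agent.S15077
import Groth.Agent.H22.IdealSeqCI
import Groth.Agent.H82.HHLES
import Groth.Agent.H63.Pi0Conn

set_option autoImplicit false
set_option maxHeartbeats 400000
set_option backward.isDefEq.respectTransparency.types false
universe u
open CategoryTheory CategoryTheory.Limits AlgebraicGeometry
open Surf

namespace Groth.Agent.S17483

open TopologicalSpace Opposite

section Alg

theorem prod_decomp {k R : Type*} [Field k] [CommRing R] [Algebra k R] (a : R) (c : k)
    (s : Multiset k) :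
    ∃ (d : k) (g : R), (s.map (fun c' => a - algebraMap k R c')).prod =
      algebraMap k R d + (a - algebraMap k R c) * g := by
  induction s using Multiset.induction_on with
  | empty => exact ⟨1, 0, by simp⟩
  | cons c' s ih =>
    obtain ⟨d, g, h⟩ := ih
    refine ⟨(c - c') * d,
      algebraMap k R d + (a - algebraMap k R c) * g + algebraMap k R (c - c') * g, ?_⟩
    rw [Multiset.map_cons, Multiset.prod_cons, h, map_mul, map_sub]
    ring

theorem exists_eq_algebraMap {k R : Type*} [Field k] [CommRing R] [Algebra k R] [IsReduced R]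
    [Nontrivial R] (hidem : ∀ e : R, IsIdempotentElem e → e = 0 ∨ e = 1) (a : R) (s : Multiset k)
    (hs : (s.map (fun c => a - algebraMap k R c)).prod = 0) : ∃ c : k, a = algebraMap k R c := by
  induction s using Multiset.induction_on with
  | empty =>
    rw [Multiset.map_zero, Multiset.prod_zero] at hs
    exact absurd hs one_ne_zero
  | cons c s ih =>
    rw [Multiset.map_cons, Multiset.prod_cons] at hs
    obtain ⟨d, g, hP⟩ := prod_decomp a c s
    obtain ⟨u, hu⟩ : ∃ u, u = a - algebraMap k R c := ⟨_, rfl⟩
    obtain ⟨P, hPdef⟩ : ∃ P, P = (s.map (fun c => a - algebraMap k R c)).prod := ⟨_, rfl⟩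
    rw [← hu, ← hPdef] at hs hP
    rw [← hPdef] at ih
    by_cases hd : d = 0
    · have hP' : P = u * g := by rw [hP, hd, map_zero, zero_add]
      have h2 : P * P = 0 := by
        calc P * P = (u * g) * P := by rw [← hP']
          _ = g * (u * P) := by ring
          _ = 0 := by rw [hs, mul_zero]
      have h3 : P = 0 := IsReduced.eq_zero _ ⟨2, by rw [sq]; exact h2⟩
      exact ih h3
    · have hdu : algebraMap k R d * algebraMap k R d⁻¹ = 1 := by
        rw [← map_mul, mul_inv_cancel₀ hd, map_one]
      obtain ⟨h, hh⟩ : ∃ h, h = -(algebraMap k R d⁻¹) * g := ⟨_, rfl⟩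
      have h1 : u * algebraMap k R d + u * u * g = 0 := by
        rw [← hs, hP]
        ring
      have hu2 : u = u * u * h := by
        have h1' : u * algebraMap k R d = -(u * u * g) := eq_neg_of_add_eq_zero_left h1
        calc u = (u * algebraMap k R d) * algebraMap k R d⁻¹ := by rw [mul_assoc, hdu, mul_one]
          _ = u * u * h := by rw [h1', hh]; ring
      have he : IsIdempotentElem (u * h) := by
        show u * h * (u * h) = u * h
        calc u * h * (u * h) = (u * u * h) * h := by ring
          _ = u * h := by rw [← hu2]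
      rcases hidem _ he with h0 | h1e
      · refine ⟨c, ?_⟩
        have hu0 : u = 0 := by
          calc u = u * u * h := hu2
            _ = u * (u * h) := by ring
            _ = 0 := by rw [h0, mul_zero]
        rw [hu] at hu0
        exact sub_eq_zero.mp hu0
      · have hPz : P = 0 := by
          calc P = (u * h) * P := by rw [h1e, one_mul]
            _ = h * (u * P) := by ring
            _ = 0 := by rw [hs, mul_zero]
        exact ih hPz

theorem mem_range_of_isIntegral {k R : Type*} [Field k] [IsAlgClosed k] [CommRing R] [Algebra k R]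
    [IsReduced R] [Nontrivial R] (hidem : ∀ e : R, IsIdempotentElem e → e = 0 ∨ e = 1) (a : R)
    (ha : IsIntegral k a) : ∃ c : k, a = algebraMap k R c := by
  obtain ⟨p, hp, hpa⟩ := ha
  have hprod := (IsAlgClosed.splits p).eq_prod_roots_of_monic hp
  apply exists_eq_algebraMap hidem a p.roots
  have h1 : Polynomial.aeval a p = 0 := hpa
  rw [hprod, map_multiset_prod, Multiset.map_map] at h1
  have hfun : (fun c : k => a - algebraMap k R c) =
      (fun c => Polynomial.aeval a (Polynomial.X - Polynomial.C c)) := by
    funext c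
    simp
  rw [hfun]
  exact h1

theorem exists_eq_of_isIntegralElem {k R : Type*} [Field k] [IsAlgClosed k] [CommRing R]
    [IsReduced R] [Nontrivial R] (φ : k →+* R)
    (hidem : ∀ e : R, IsIdempotentElem e → e = 0 ∨ e = 1) (a : R) (ha : φ.IsIntegralElem a) :
    ∃ c, a = φ c := by
  letI : Algebra k R := φ.toAlgebra
  exact mem_range_of_isIntegral hidem a ha

end Alg

open Groth.Agent.H82.HHA Groth.Agent.H82.HHFinite in
/-- `H¹(I_D) = 0` when `H¹(O_X) = 0` and global functions of `X` surject onto those of `D`. -/
theorem subsingleton_H1_ideal {X : Scheme.{u}} (D : X.IdealSheafData)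
    (hH1 : Subsingleton (Coh.HH X (Coh.structureModule X) 1))
    (hsurj : Function.Surjective ((ClSub.toSubscheme D).app ⊤)) :
    Subsingleton (Coh.HH X (ClSub.idealMod D) 1) := by
  let SC : ShortComplex X.Modules := ShortComplex.mk (kernel.ι (ClSub.toSubscheme D))
    (ClSub.toSubscheme D) (kernel.condition _)
  haveI : Epi SC.g := Groth.Agent.H22.IdealSeqCI.epi_toSubscheme D
  haveI : Mono SC.f := inferInstanceAs (Mono (kernel.ι (ClSub.toSubscheme D)))
  have hS : SC.ShortExact :=
    ShortComplex.ShortExact.mk (ShortComplex.exact_of_f_is_kernel SC (kernelIsKernel _))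
  haveI : Subsingleton (Coh.HH X SC.X₂ (0 + 1)) := hH1
  have key : ∀ x : Coh.HH X SC.X₁ (0 + 1), x = 0 := by
    intro x
    obtain ⟨y, hy⟩ := Groth.Agent.H82.HHLES.left_exact SC hS 0 x (Subsingleton.elim _ _)
    obtain ⟨s, hs⟩ := hsurj
      (Sheaf.H.equiv₀ (Coh.toAb SC.X₃) (T := (⊤ : Opens X)) isTerminalTop y)
    have h1 : Sheaf.H.map (abMap SC.g) 0
        ((Sheaf.H.equiv₀ (Coh.toAb SC.X₂) (T := (⊤ : Opens X)) isTerminalTop).symm s) = y := by
      rw [Sheaf.H.equiv₀_symm_naturality]
      apply (Sheaf.H.equiv₀ (Coh.toAb SC.X₃) (T := (⊤ : Opens X)) isTerminalTop).injective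
      rw [AddEquiv.apply_symm_apply]
      exact hs
    rw [← hy, ← h1]
    exact δ_map SC hS 0 _
  exact ⟨fun a b => (key a).trans (key b).symm⟩

/-- Let k be an algebraically closed field of characteristic zero and X a smooth projective surface over
k (an integral scheme of dimension two with all local rings regular, admitting a closed immersion
into some P^n_k over k) such that H^1(X, O_X) = 0. Let D be a closed subscheme of X, given by a
quasi-coherent ideal sheaf whose associated O_X-module I_D is invertible (an effective divisor). If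
D is connected and reduced, then H^1(X, I_D) = 0. (The published statement asserts H^1(X, I_D) = 0
as soon as the linear system of D contains a connected curve, without reducedness; that fails: on
the blow-up of the projective plane at a point, with exceptional curve E, the divisor D = 2E is
connected and is the only member of its linear system, yet H^0(O_{2E}) is three-dimensional, so
H^1(X, I_{2E}) is two-dimensional. The published statement is for rational surfaces; this row
assumes H^1(X, O_X) = 0 instead.) -/
theorem result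
    (k : Type u) [Field k] [IsAlgClosed k] [CharZero k]
    (X : Scheme.{u}) [X.Over (Spec (CommRingCat.of k))] [AlgebraicGeometry.IsIntegral X]
    (hdim : topologicalKrullDim X = 2) (hreg : ∀ x : X, IsRegularLocalRing (X.presheaf.stalk x))
    (hproj : ∃ (n : ℕ) (ι : X ⟶ CohB1.ProjSpace n k), IsClosedImmersion ι ∧
      ι ≫ CohB1.ProjSpace.toSpec n k = (X ↘ (Spec (CommRingCat.of k))))
    (hH1 : Subsingleton (Coh.HH X (Coh.structureModule X) 1))
    (D : X.IdealSheafData) (hD : PicF.IsInvertible (ClSub.idealMod D))
    [ConnectedSpace ↥D.subscheme] [IsReduced D.subscheme] :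
    Subsingleton (Coh.HH X (ClSub.idealMod D) 1) := by
  obtain ⟨n, ι, hι, hιf⟩ := hproj
  haveI := hι
  haveI : IsProper (X ↘ Spec (CommRingCat.of k)) := by
    rw [← hιf]
    infer_instance
  haveI : IsProper (D.subschemeι ≫ (X ↘ Spec (CommRingCat.of k))) := inferInstance
  have hint := isIntegral_appTop_of_universallyClosed
    (D.subschemeι ≫ (X ↘ Spec (CommRingCat.of k)))
  let F := (Scheme.ΓSpecIso (CommRingCat.of k)).inv ≫
    (D.subschemeι ≫ (X ↘ Spec (CommRingCat.of k))).appTop
  have hF : F.hom.IsIntegral := by
    apply RingHom.isIntegral_respectsIso.2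
      (e := (Scheme.ΓSpecIso (CommRingCat.of k)).symm.commRingCatIsoToRingEquiv)
    exact hint
  obtain ⟨x0⟩ : Nonempty ↥D.subscheme := inferInstance
  haveI : Nonempty (⊤ : D.subscheme.Opens) := ⟨⟨x0, trivial⟩⟩
  haveI : Nontrivial Γ(D.subscheme, ⊤) := inferInstance
  have hidem : ∀ e : Γ(D.subscheme, ⊤), IsIdempotentElem e → e = 0 ∨ e = 1 :=
    fun e he => Groth.Agent.H63.Pi0.idem_trivial D.subscheme e he
  apply subsingleton_H1_ideal D hH1
  intro b
  obtain ⟨c, hc⟩ := exists_eq_of_isIntegralElem (R := Γ(D.subscheme, ⊤)) F.hom hidem b (hF b)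
  refine ⟨(X ↘ Spec (CommRingCat.of k)).appTop.hom
    ((Scheme.ΓSpecIso (CommRingCat.of k)).inv.hom c), ?_⟩
  refine Eq.trans ?_ hc.symm
  have h2 : (D.subschemeι ≫ (X ↘ Spec (CommRingCat.of k))).appTop =
      (X ↘ Spec (CommRingCat.of k)).appTop ≫ D.subschemeι.appTop := Scheme.Hom.comp_appTop _ _
  show (D.subschemeι.appTop).hom ((X ↘ Spec (CommRingCat.of k)).appTop.hom
    ((Scheme.ΓSpecIso (CommRingCat.of k)).inv.hom c)) =
      ((D.subschemeι ≫ (X ↘ Spec (CommRingCat.of k))).appTop).hom
        ((Scheme.ΓSpecIso (CommRingCat.of k)).inv.hom c)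
  rw [h2]
  rfl

end Groth.Agent.S17483
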