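import Groth.Statements.S17487
import Groth.Agent.H87.ExtSum

set_option autoImplicit false
universe u
open CategoryTheory CategoryTheory.Limits AlgebraicGeometry
open Coherent

namespace Groth.Agent.S17487

/-- Let k be an algebraically closed field of characteristic zero and Y a smooth projective variety over
k (an integral scheme, smooth over k, with a closed immersion into some P^n_k over k). Let E_1, …,
E_n be coherent O_Y-modules forming a strong exceptional sequence, expressed through Ext groups in
the category of O_Y-modules (the Ext instance is the stated hypothesis; it holds): End(E_i) is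
one-dimensional over k, Ext^p(E_i, E_j) = 0 for all p when i > j, and Ext^p(E_i, E_j) = 0 for all i,
j when p ≥ 1 (indices here run over 0, …, n-1). Let d ≤ n and let 0 → K → M → F → 0 be a short exact
sequence of O_Y-modules in which K is isomorphic to a finite direct sum of copies of members E_i
with i < d and M to a finite direct sum of copies of members E_i with i ≥ d (a two-term resolution
of F by the sequence, split at d). Then Ext^p(E_i, F) = 0 for every i and every p ≥ 1, and Ext^p(F,
E_i) = 0 for every i < d and every p ≠ 1. (The published criterion also asks that the sequence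
generate the derived category, states the first vanishing only for i ≥ d, and adds conditions on
terms of the associated filtration and cofiltration of F, which are not restated here; the
vanishings above follow from the resolution alone.) -/
theorem result
    (k : Type u) [Field k] [IsAlgClosed k] [CharZero k]
    (Y : Scheme.{u}) [Y.Over (Spec (CommRingCat.of k))] [AlgebraicGeometry.IsIntegral Y]
    [Smooth (Y ↘ Spec (CommRingCat.of k))]
    (hproj : ∃ (N : ℕ) (ι : Y ⟶ CohB1.ProjSpace N k), IsClosedImmersion ι ∧
      ι ≫ CohB1.ProjSpace.toSpec N k = (Y ↘ (Spec (CommRingCat.of k))))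
    [HasExt.{u} Y.Modules]
    (n d : ℕ) (hdn : d ≤ n) (E : Fin n → Y.Modules) (hEcoh : ∀ i, Coh.IsCoh (E i))
    (hend : ∀ i, Module.finrank k (E i ⟶ E i) = 1)
    (hexc : ∀ i j : Fin n, j < i → ∀ p : ℕ, Subsingleton (Abelian.Ext (E i) (E j) p))
    (hstr : ∀ (i j : Fin n) (p : ℕ), 1 ≤ p → Subsingleton (Abelian.Ext (E i) (E j) p))
    (S : ShortComplex Y.Modules) (hS : S.ShortExact)
    (m₁ : ℕ) (c₁ : Fin m₁ → Fin n) (hc₁ : ∀ t, (c₁ t : ℕ) < d) (e₁ : S.X₁ ≅ ∐ fun t => E (c₁ t))
    (m₂ : ℕ) (c₂ : Fin m₂ → Fin n) (hc₂ : ∀ t, d ≤ (c₂ t : ℕ)) (e₂ : S.X₂ ≅ ∐ fun t => E (c₂ t)) :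
    (∀ (i : Fin n) (p : ℕ), 1 ≤ p → Subsingleton (Abelian.Ext (E i) S.X₃ p)) ∧
      (∀ i : Fin n, (i : ℕ) < d → ∀ p : ℕ, p ≠ 1 → Subsingleton (Abelian.Ext S.X₃ (E i) p)) := by
  constructor
  · intro i p hp
    apply Groth.Agent.H87.subsingleton_ext_X₃_right hS (E i) p
    · exact Groth.Agent.H87.subsingleton_ext_of_iso_right e₁ (p + 1)
        (Groth.Agent.H87.subsingleton_ext_sigma_right (E i) (fun t => E (c₁ t)) (p + 1)
          (fun t => hstr i (c₁ t) (p + 1) (by omega)))
    · exact Groth.Agent.H87.subsingleton_ext_of_iso_right e₂ p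
        (Groth.Agent.H87.subsingleton_ext_sigma_right (E i) (fun t => E (c₂ t)) p
          (fun t => hstr i (c₂ t) p hp))
  · intro i hi p hp
    have hM : ∀ p', Subsingleton (Abelian.Ext S.X₂ (E i) p') := fun p' =>
      Groth.Agent.H87.subsingleton_ext_of_iso_left e₂ p'
        (Groth.Agent.H87.subsingleton_ext_sigma_left (E i) (fun t => E (c₂ t)) p'
          (fun t => hexc (c₂ t) i (Fin.lt_def.2 (by have := hc₂ t; omega)) p'))
    rcases Nat.eq_zero_or_pos p with rfl | hpos
    · exact Groth.Agent.H87.subsingleton_ext_X₃_left_zero hS (E i) (hM 0)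
    · obtain ⟨n, rfl⟩ : ∃ n, p = 1 + n := ⟨p - 1, by omega⟩
      have hn : 1 ≤ n := by omega
      apply Groth.Agent.H87.subsingleton_ext_X₃_left_succ hS (E i) n _ (hM (1 + n))
      exact Groth.Agent.H87.subsingleton_ext_of_iso_left e₁ n
        (Groth.Agent.H87.subsingleton_ext_sigma_left (E i) (fun t => E (c₁ t)) n
          (fun t => hstr (c₁ t) i n hn))

end Groth.Agent.S17487
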