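import Groth.Statements.S1749
import Groth.Agent.H71.DK.Fin
import Groth.Agent.H12.DualDepthMain
import Groth.Agent.S0364

set_option autoImplicit false
universe u
open CategoryTheory
attribute [local instance] HasDerivedCategory.standard
open Dual

namespace Groth.Agent.S1749

/-- Let A be a Noetherian local ring with a normalized dualizing complex ω and κ → E an injective hull
of the residue field. For every A-module N of finite length, the maps N → ω[i] in D(A) vanish for i
≠ 0, and the A-module of maps N → ω is isomorphic to Hom_A(N, E). (The source gives this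
functorially in N; here only the existence of the isomorphism for each N is asserted.) -/
theorem result (A : Type u) [CommRing A] [IsLocalRing A] [IsNoetherianRing A] (ω : Dual.D A) (hω : Dual.IsDualizing A ω) (hn : Dual.IsNormalized A ω) (E : Type u) [AddCommGroup E] [Module A E] (f : IsLocalRing.ResidueField A →ₗ[A] E) (hf : InjHull.IsInjectiveHull f) (N : Type u) [AddCommGroup N] [Module A N] (hN : IsFiniteLength A N) : (∀ i : ℤ, i ≠ 0 → Subsingleton (Dual.inD A N ⟶ ω⟦i⟧)) ∧ Nonempty ((Dual.inD A N ⟶ ω) ≃ₗ[A] (N →ₗ[A] E)) := by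
  classical
  have hW : ∀ i : ℤ, i ≠ 0 → Groth.Agent.H12.DualDepth.Van ω i
      (ModuleCat.of A (A ⧸ IsLocalRing.maximalIdeal A)) :=
    fun i hi => Groth.Agent.H12.DualDepth.dualizing_hk ω hn i hi
  obtain ⟨n₀, h1, ⟨e⟩⟩ := Groth.Agent.S0364.result A ω hω (IsLocalRing.maximalIdeal A)
  have hn₀ : n₀ = 0 := by
    by_contra hne
    haveI : Subsingleton (Dual.inD A (A ⧸ IsLocalRing.maximalIdeal A) ⟶ ω⟦n₀⟧) :=
      (Groth.Agent.H12.DualDepth.van_iff_subsingleton _ _ _).1 (hW n₀ hne)
    haveI : Subsingleton (A ⧸ IsLocalRing.maximalIdeal A) := e.symm.toEquiv.subsingleton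
    exact not_subsingleton (A ⧸ IsLocalRing.maximalIdeal A) inferInstance
  subst hn₀
  haveI hκs : IsSimpleModule A (A ⧸ IsLocalRing.maximalIdeal A) :=
    isSimpleModule_iff_quot_maximal.mpr
      ⟨IsLocalRing.maximalIdeal A, inferInstance, ⟨LinearEquiv.refl A _⟩⟩
  have hsimple : IsSimpleModule A
      (Groth.Agent.H12.DualDepth.sM (ModuleCat.of A (A ⧸ IsLocalRing.maximalIdeal A)) ⟶
        ω⟦(0 : ℤ)⟧) := IsSimpleModule.congr e
  refine ⟨fun i hi => (Groth.Agent.H12.DualDepth.van_iff_subsingleton _ _ _).1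
    (Groth.Agent.H71.DKF.van_of_isFiniteLength ω hW N hN i hi), ?_⟩
  obtain ⟨e'⟩ := Groth.Agent.H71.DKF.exists_equiv ω hW hsimple hf N hN
  exact ⟨Linear.homCongr A (Iso.refl _) ((shiftFunctorZero (Dual.D A) ℤ).app ω).symm ≪≫ₗ e'⟩

end Groth.Agent.S1749
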