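import Groth.Statements.S17517
import Mathlib
import Groth.Agent.H64.Kempf

set_option autoImplicit false
universe u
open GIT

namespace Groth.Agent.S17517

/-- Let `E` be a finite-dimensional real inner product space and `L` a full lattice in `E` (a discrete
subgroup spanning `E`) on which the inner product is integer valued; let `F` and `G` be nonempty
finite sets of real linear functionals on `E` taking integer values on `L`, with `f_min v = min_{f ∈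
F} f v` and `g_min v = min_{g ∈ G} g v`. If some vector `v` has `f_min v ≥ 0` and `g_min v > 0`,
then on the set `C_F` of nonzero `v` with `f_min v ≥ 0` the function `v ↦ g_min v / ‖v‖` attains a
greatest value `M`, and there is exactly one lattice vector `v₀ ∈ C_F` with `g_min v₀ / ‖v₀‖ = M` of
which every lattice vector `v ∈ C_F` with `g_min v / ‖v‖ = M` is an integer multiple. -/
theorem result
    (E : Type u) [NormedAddCommGroup E] [InnerProductSpace ℝ E] [FiniteDimensional ℝ E]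
    (L : Submodule ℤ E) [DiscreteTopology L] [IsZLattice ℝ L]
    (hint : ∀ x ∈ L, ∀ y ∈ L, ∃ n : ℤ, inner ℝ x y = (n : ℝ))
    (F G : Finset (Module.Dual ℝ E)) (hF : F.Nonempty) (hG : G.Nonempty)
    (hFi : ∀ f ∈ F, ∀ x ∈ L, ∃ n : ℤ, f x = (n : ℝ)) (hGi : ∀ g ∈ G, ∀ x ∈ L, ∃ n : ℤ, g x = (n : ℝ))
    (hpos : ∃ v : E, 0 ≤ F.inf' hF (fun f => f v) ∧ 0 < G.inf' hG (fun g => g v)) :
    ∃ M : ℝ, IsGreatest ((fun v => G.inf' hG (fun g => g v) / ‖v‖) ''
        {v : E | v ≠ 0 ∧ 0 ≤ F.inf' hF (fun f => f v)}) M ∧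
      ∃! v₀ : E, v₀ ∈ L ∧ v₀ ≠ 0 ∧ 0 ≤ F.inf' hF (fun f => f v₀) ∧
        G.inf' hG (fun g => g v₀) / ‖v₀‖ = M ∧
        ∀ v ∈ L, v ≠ 0 → 0 ≤ F.inf' hF (fun f => f v) → G.inf' hG (fun g => g v) / ‖v‖ = M →
          ∃ n : ℤ, v = n • v₀ := by
  classical
  have : CompleteSpace E := FiniteDimensional.complete ℝ E
  let T : Finset (Module.Dual ℝ E × ℝ) :=
    F.image (fun f => (f, (0:ℝ))) ∪ G.image (fun g => (g, (1:ℝ)))
  have hTmem : ∀ w : E, (∀ t ∈ T, t.2 ≤ t.1 w) ↔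
      ((∀ f ∈ F, 0 ≤ f w) ∧ (∀ g ∈ G, 1 ≤ g w)) := by
    intro w
    constructor
    · intro h
      exact ⟨fun f hf => h (f, 0) (Finset.mem_union_left _ (Finset.mem_image_of_mem _ hf)),
        fun g hg => h (g, 1) (Finset.mem_union_right _ (Finset.mem_image_of_mem _ hg))⟩
    · rintro ⟨h1, h2⟩ t ht
      rcases Finset.mem_union.mp ht with ht | ht
      · obtain ⟨f, hf, rfl⟩ := Finset.mem_image.mp ht
        exact h1 f hf
      · obtain ⟨g, hg, rfl⟩ := Finset.mem_image.mp ht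
        exact h2 g hg
  have hT1 : ∀ t ∈ T, ∀ x ∈ L, ∃ n : ℤ, t.1 x = (n:ℝ) := by
    intro t ht x hx
    rcases Finset.mem_union.mp ht with ht | ht
    · obtain ⟨f, hf, rfl⟩ := Finset.mem_image.mp ht
      exact hFi f hf x hx
    · obtain ⟨g, hg, rfl⟩ := Finset.mem_image.mp ht
      exact hGi g hg x hx
  have hT2 : ∀ t ∈ T, ∃ q : ℚ, t.2 = (q:ℝ) := by
    intro t ht
    rcases Finset.mem_union.mp ht with ht | ht
    · obtain ⟨f, hf, rfl⟩ := Finset.mem_image.mp ht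
      exact ⟨0, by simp⟩
    · obtain ⟨g, hg, rfl⟩ := Finset.mem_image.mp ht
      exact ⟨1, by simp⟩
  let Q : Set E := {w | ∀ t ∈ T, t.2 ≤ t.1 w}
  have hQclosed : IsClosed Q := by
    have hQ : Q = ⋂ t ∈ T, {w : E | t.2 ≤ t.1 w} := by
      ext w; simp [Q]
    rw [hQ]
    exact isClosed_biInter (fun t _ =>
      isClosed_le continuous_const (LinearMap.continuous_of_finiteDimensional t.1))
  have hQconv : Convex ℝ Q := by
    intro x hx y hy a b ha hb hab t ht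
    have h1 := hx t ht
    have h2 := hy t ht
    rw [map_add, map_smul, map_smul, smul_eq_mul, smul_eq_mul]
    have h3 : a * t.2 + b * t.2 = t.2 := by rw [← add_mul, hab, one_mul]
    nlinarith [mul_le_mul_of_nonneg_left h1 ha, mul_le_mul_of_nonneg_left h2 hb]
  have hscale : ∀ v : E, 0 ≤ F.inf' hF (fun f => f v) → 0 < G.inf' hG (fun g => g v) →
      (G.inf' hG (fun g => g v))⁻¹ • v ∈ Q := by
    intro v hfv hgv
    refine (hTmem _).mpr ⟨fun f hf => ?_, fun g hg => ?_⟩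
    · rw [map_smul, smul_eq_mul]
      exact mul_nonneg (inv_nonneg.mpr hgv.le) (hfv.trans (Finset.inf'_le _ hf))
    · rw [map_smul, smul_eq_mul, ← div_eq_inv_mul, le_div_iff₀ hgv, one_mul]
      exact Finset.inf'_le _ hg
  have hQne : Q.Nonempty := by
    obtain ⟨v, hv1, hv2⟩ := hpos
    exact ⟨_, hscale v hv1 hv2⟩
  obtain ⟨p, hpQ, hpmin⟩ :=
    exists_norm_eq_iInf_of_complete_convex hQne hQclosed.isComplete hQconv 0
  have hVI : ∀ w : E, (∀ t ∈ T, t.2 ≤ t.1 w) → inner ℝ p p ≤ inner ℝ p w := by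
    intro w hw
    have := (norm_eq_iInf_iff_real_inner_le_zero hQconv hpQ).mp hpmin w hw
    rw [zero_sub, inner_neg_left, inner_sub_right] at this
    linarith
  obtain ⟨hpF, hpG⟩ := (hTmem p).mp hpQ
  have hp0 : p ≠ 0 := by
    rintro rfl
    obtain ⟨g, hg⟩ := hG
    have := hpG g hg
    rw [map_zero] at this
    linarith
  have hnp : 0 < ‖p‖ := norm_pos_iff.mpr hp0
  have hfp : 0 ≤ F.inf' hF (fun f => f p) := (Finset.le_inf'_iff hF _).mpr hpF
  have hgp1 : 1 ≤ G.inf' hG (fun g => g p) := (Finset.le_inf'_iff hG _).mpr hpG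
  have hkey : ∀ v : E, 0 ≤ F.inf' hF (fun f => f v) → 0 < G.inf' hG (fun g => g v) →
      G.inf' hG (fun g => g v) * ‖p‖ ^ 2 ≤ inner ℝ p v := by
    intro v hfv hgv
    have h1 := hVI _ (hscale v hfv hgv)
    rw [real_inner_smul_right, real_inner_self_eq_norm_sq, ← div_eq_inv_mul,
      le_div_iff₀ hgv] at h1
    linarith
  have hub : ∀ v : E, v ≠ 0 → 0 ≤ F.inf' hF (fun f => f v) →
      G.inf' hG (fun g => g v) / ‖v‖ ≤ ‖p‖⁻¹ := by
    intro v hv0 hfv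
    have hnv : 0 < ‖v‖ := norm_pos_iff.mpr hv0
    rcases le_or_gt (G.inf' hG (fun g => g v)) 0 with hg | hg
    · exact (div_nonpos_of_nonpos_of_nonneg hg hnv.le).trans (inv_nonneg.mpr hnp.le)
    · have h1 := hkey v hfv hg
      have h2 := real_inner_le_norm p v
      rw [div_le_iff₀ hnv, inv_mul_eq_div, le_div_iff₀ hnp]
      have h3 : ‖p‖ * (G.inf' hG (fun g => g v) * ‖p‖) ≤ ‖p‖ * ‖v‖ := by nlinarith
      exact le_of_mul_le_mul_left h3 hnp
  have hgp : G.inf' hG (fun g => g p) = 1 := by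
    apply le_antisymm _ hgp1
    have := hub p hp0 hfp
    rw [div_le_iff₀ hnp, inv_mul_cancel₀ hnp.ne'] at this
    exact this
  have heq : ∀ v : E, v ≠ 0 → 0 ≤ F.inf' hF (fun f => f v) →
      G.inf' hG (fun g => g v) / ‖v‖ = ‖p‖⁻¹ → ∃ c : ℝ, 0 < c ∧ v = c • p := by
    intro v hv0 hfv hM
    have hnv : 0 < ‖v‖ := norm_pos_iff.mpr hv0
    have hne : ‖p‖ ≠ 0 := hnp.ne'
    have hg : G.inf' hG (fun g => g v) = ‖v‖ / ‖p‖ := by
      rw [div_eq_iff hnv.ne'] at hM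
      rw [hM, div_eq_inv_mul]
    have hgpos : 0 < G.inf' hG (fun g => g v) := by rw [hg]; positivity
    have h1 := hkey v hfv hgpos
    rw [hg] at h1
    have h2 : ‖v‖ / ‖p‖ * ‖p‖ ^ 2 = ‖p‖ * ‖v‖ := by
      rw [div_mul_eq_mul_div, div_eq_iff hne]; ring
    rw [h2] at h1
    have h3 : inner ℝ p v = ‖p‖ * ‖v‖ := le_antisymm (real_inner_le_norm p v) h1
    have h4 := (inner_eq_norm_mul_iff_real).mp h3
    refine ⟨‖v‖ / ‖p‖, by positivity, ?_⟩
    rw [div_eq_inv_mul, mul_smul, h4, inv_smul_smul₀ hne]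
  obtain ⟨c₁, hc₁, hc₁L⟩ :=
    Groth.Agent.H64.Kempf.rational_of_minNorm L hint T hT1 hT2 p hpQ hVI
  obtain ⟨v₀, hv₀L, c₀, hc₀, hv₀, hprim⟩ :=
    Groth.Agent.H64.Kempf.exists_primitive L hint p hp0 ⟨c₁, hc₁, hc₁L⟩
  have hscaleF : ∀ c : ℝ, 0 < c → 0 ≤ F.inf' hF (fun f => f (c • p)) := by
    intro c hc
    rw [Groth.Agent.H64.Kempf.inf'_smul F hF c hc.le p]
    exact mul_nonneg hc.le hfp
  have hscaleG : ∀ c : ℝ, 0 < c → G.inf' hG (fun g => g (c • p)) / ‖c • p‖ = ‖p‖⁻¹ := by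
    intro c hc
    rw [Groth.Agent.H64.Kempf.inf'_smul G hG c hc.le p, hgp, mul_one, norm_smul,
      Real.norm_of_nonneg hc.le, ← div_div, div_self hc.ne', one_div]
  have hv₀0 : v₀ ≠ 0 := by rw [hv₀]; exact smul_ne_zero hc₀.ne' hp0
  refine ⟨‖p‖⁻¹, ⟨⟨p, ⟨hp0, hfp⟩, ?_⟩, ?_⟩, ?_⟩
  · show G.inf' hG (fun g => g p) / ‖p‖ = ‖p‖⁻¹
    rw [hgp, one_div]
  · rintro _ ⟨v, ⟨hv0, hfv⟩, rfl⟩
    exact hub v hv0 hfv
  refine ⟨v₀, ⟨hv₀L, hv₀0, ?_, ?_, ?_⟩, ?_⟩
  · rw [hv₀]; exact hscaleF c₀ hc₀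
  · rw [hv₀]; exact hscaleG c₀ hc₀
  · intro v hvL hv0 hfv hM
    obtain ⟨c, hc, hvc⟩ := heq v hv0 hfv hM
    exact hprim v hvL c hc hvc
  · rintro y ⟨hyL, hy0, hfy, hMy, hyprim⟩
    obtain ⟨c, hc, hyc⟩ := heq y hy0 hfy hMy
    obtain ⟨n, hn⟩ := hprim y hyL c hc hyc
    obtain ⟨n', hn'⟩ := hyprim v₀ hv₀L hv₀0 (by rw [hv₀]; exact hscaleF c₀ hc₀)
      (by rw [hv₀]; exact hscaleG c₀ hc₀)
    have h1 : ((n:ℝ) * c₀ - c) • p = 0 := by
      rw [sub_smul, mul_smul, ← hv₀, Int.cast_smul_eq_zsmul, ← hn, ← hyc, sub_self]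
    have h2 : (n:ℝ) * c₀ = c := by
      rcases smul_eq_zero.mp h1 with h | h
      · linarith
      · exact absurd h hp0
    have hnpos : 0 < n := by
      have h3 : (0:ℝ) < (n:ℝ) := by
        by_contra hcon
        have hle : (n:ℝ) ≤ 0 := not_lt.mp hcon
        nlinarith [mul_nonneg (neg_nonneg.mpr hle) hc₀.le]
      exact_mod_cast h3
    have h3 : ((n' * n : ℤ) : ℝ) • v₀ = (1:ℝ) • v₀ := by
      rw [one_smul, Int.cast_smul_eq_zsmul, mul_smul, ← hn, ← hn']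
    have h4 : ((n' * n : ℤ) : ℝ) = 1 := by
      have h5 : (((n' * n : ℤ) : ℝ) - 1) • v₀ = 0 := by rw [sub_smul, h3, sub_self]
      rcases smul_eq_zero.mp h5 with h | h
      · linarith
      · exact absurd h hv₀0
    have h5 : n' * n = 1 := by exact_mod_cast h4
    have h6 : n = 1 := Int.eq_one_of_dvd_one hnpos.le (Dvd.intro_left n' h5)
    rw [hn, h6, one_smul]

end Groth.Agent.S17517
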