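import Groth.Statements.S17525
import Groth.Agent.H84.LRE4
import Groth.Agent.H84.LRE5
import Groth.Agent.H83.TkMain

set_option autoImplicit false
universe u
open HopfRep

namespace Groth.Agent.S17525


/-- Let `k` be a field and `1 → K → G → Q → 1` an exact sequence of affine group schemes of finite type
over `k`, written on coordinate rings: `AQ`, `AG`, `AK` are commutative Hopf algebras of finite type
over `k`, `φ : AQ → AG` is an injective bialgebra map (so `G → Q` is faithfully flat) and `ψ : AG →
AK` is a surjective bialgebra map (so `K` is a closed subgroup of `G`) whose kernel is the ideal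
generated by the image under `φ` of the augmentation ideal of `AQ` (so `K` is the kernel of `G →
Q`). Then `G` is linearly reductive — every finite-dimensional comodule is semisimple — if and only
if both `K` and `Q` are. -/
theorem result
    (k : Type u) [Field k]
    (AQ AG AK : Type u) [CommRing AQ] [HopfAlgebra k AQ] [Algebra.FiniteType k AQ]
    [CommRing AG] [HopfAlgebra k AG] [Algebra.FiniteType k AG]
    [CommRing AK] [HopfAlgebra k AK] [Algebra.FiniteType k AK]
    (φ : AQ →ₐc[k] AG) (hφ : Function.Injective φ)
    (ψ : AG →ₐc[k] AK) (hψ : Function.Surjective ψ)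
    (hker : RingHom.ker (ψ : AG →ₐ[k] AK) =
      Ideal.map (φ : AQ →ₐ[k] AG) (RingHom.ker (Bialgebra.counitAlgHom k AQ))) :
    HopfRep.IsLinearlyReductive k AG ↔
      HopfRep.IsLinearlyReductive k AK ∧ HopfRep.IsLinearlyReductive k AQ := by
  have hJ : RingHom.ker (ψ : AG →ₐ[k] AK) =
      Ideal.map (φ : AQ →+* AG) (RingHom.ker (Bialgebra.counitAlgHom k AQ)) := hker
  constructor
  · intro hG
    constructor
    · -- the kernel
      letI : Algebra AQ AG := (φ : AQ →+* AG).toAlgebra
      haveI : IsScalarTower k AQ AG := IsScalarTower.of_algebraMap_eq (fun x => by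
        change algebraMap k AG x = φ (algebraMap k AQ x)
        exact (AlgHomClass.commutes φ x).symm)
      have hφ' : ∀ q, algebraMap AQ AG q = φ q := fun q => rfl
      haveI : IsNoetherianRing AQ := Algebra.FiniteType.isNoetherianRing k AQ
      haveI : Module.FaithfullyFlat AQ AG :=
        Groth.Agent.H83.Tk.bialgHom_faithfullyFlat φ hφ hφ'
      have hψφ : ∀ q, ψ (φ q) = algebraMap k AK (Coalgebra.counit q) := by
        intro q
        have h1 : q - algebraMap k AQ (Coalgebra.counit q) ∈
            RingHom.ker (Bialgebra.counitAlgHom k AQ) := by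
          rw [RingHom.mem_ker, map_sub, AlgHom.commutes]
          simp
        have h2 : (φ : AQ →+* AG) (q - algebraMap k AQ (Coalgebra.counit q)) ∈
            RingHom.ker (ψ : AG →ₐ[k] AK) := by
          rw [hJ]
          exact Ideal.mem_map_of_mem _ h1
        rw [RingHom.mem_ker, map_sub, map_sub, sub_eq_zero] at h2
        have h3 : (ψ : AG →ₐ[k] AK) ((φ : AQ →+* AG) (algebraMap k AQ (Coalgebra.counit q))) =
            algebraMap k AK (Coalgebra.counit q) := by
          have h4 : (φ : AQ →+* AG) (algebraMap k AQ (Coalgebra.counit q)) =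
              algebraMap k AG (Coalgebra.counit q) := AlgHomClass.commutes φ _
          rw [h4]
          exact AlgHomClass.commutes ψ _
        rw [h3] at h2
        exact h2
      have hker' : ∀ a : AG, ψ a = 0 →
          a ∈ Ideal.map (φ : AQ →+* AG) (RingHom.ker (Bialgebra.counitAlgHom k AQ)) := by
        intro a ha
        rw [← hJ]
        exact ha
      exact Groth.Agent.H40.LinRedCrit.isLinearlyReductive_of_lifting k AK
        (Groth.Agent.H84.LRE.lifting_of_exact φ ψ hφ' hψφ hψ hker' hG)
    · -- the quotient
      obtain ⟨α, hα, hα1⟩ := (Groth.Agent.H40.isLinearlyReductive_iff_exists_isInt).mp hG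
      refine Groth.Agent.H40.isLinearlyReductive_of_isInt (α ∘ₗ (φ : AQ →ₗ[k] AG))
        (Groth.Agent.H40.isInt_comp_bialgHom φ hφ α hα) ?_
      rw [LinearMap.comp_apply]
      change α (φ 1) = 1
      rw [map_one, hα1]
  · rintro ⟨hK, hQ⟩
    obtain ⟨αK, hαK, hK1⟩ := (Groth.Agent.H40.isLinearlyReductive_iff_exists_isInt).mp hK
    obtain ⟨αQ, hαQ, hQ1⟩ := (Groth.Agent.H40.isLinearlyReductive_iff_exists_isInt).mp hQ
    obtain ⟨α, hα, hα1⟩ := Groth.Agent.H84.LRE.exists_isInt_of_exact φ ψ hφ hJ αK hαK hK1
      αQ hαQ hQ1
    exact Groth.Agent.H40.isLinearlyReductive_of_isInt α hα hα1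

end Groth.Agent.S17525
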