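import Groth.Statements.S17549
import Groth.Agent.H87.AdicProj
import Groth.Agent.S17548

set_option autoImplicit false
universe u
open W4c5adicflatcompl
open CAlg

namespace Groth.Agent.S17549

/-- Over a Noetherian ring A with I-adic completion Â, an A-module P is I-adically projective
(I-adically complete, and every A-linear map from P to the target of a surjection between I-adically
complete modules lifts along that surjection) exactly when P is a retract of some module of
I-adically decaying functions Z → Â: there are a set Z, an A-linear map i from P to the decaying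
functions Z → Â and an A-linear map r back with r ∘ i the identity of P. Test modules, P and Z live
in the universe of A. -/
theorem result {A : Type u} [CommRing A] [IsNoetherianRing A]
    (I : Ideal A) (P : Type u) [AddCommGroup P] [Module A P] :
    IsAdicProjective I P ↔
      ∃ (Z : Type u) (i : P →ₗ[A] decaying I Z (AdicCompletion I A))
        (r : decaying I Z (AdicCompletion I A) →ₗ[A] P), r ∘ₗ i = LinearMap.id := by
  classical
  have hfg : ∀ n, (I ^ n).FG := fun n => IsNoetherian.noetherian (I ^ n)
  have hcA : IsAdicComplete I (AdicCompletion I A) :=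
    AdicCompletion.isAdicComplete (IsNoetherian.noetherian I)
  have hcF : ∀ Z : Type u, IsAdicComplete I (decaying I Z (AdicCompletion I A)) :=
    fun Z => Groth.Agent.H87.isAdicComplete_decaying I hfg
  constructor
  · rintro ⟨hPc, hlift⟩
    obtain ⟨π, hπ, -⟩ := Groth.Agent.S17548.result I P P (fun p => p)
    have hsurj : Function.Surjective π := fun p => ⟨_, hπ p⟩
    obtain ⟨χ, hχ⟩ := hlift (decaying I P (AdicCompletion I A)) P (hcF P) hPc π hsurj LinearMap.id
    exact ⟨P, χ, π, hχ⟩
  · rintro ⟨Z, i, r, hri⟩
    have := hcF Z
    have hPc : IsAdicComplete I P := Groth.Agent.H87.isAdicComplete_of_retract I i r hri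
    refine ⟨hPc, ?_⟩
    intro M N _ _ _ _ hM hN φ hφ ψ
    choose m hm using fun z : Z => hφ (ψ (r (single I z (1 : AdicCompletion I A))))
    obtain ⟨χ', hχ', -⟩ := Groth.Agent.S17548.result I Z M m
    have heq : φ ∘ₗ χ' = ψ ∘ₗ r := by
      rw [← sub_eq_zero]
      apply Groth.Agent.H87.eq_zero_of_forall_single_one I hfg
      intro z
      simp [hχ' z, hm z]
    refine ⟨χ' ∘ₗ i, ?_⟩
    rw [← LinearMap.comp_assoc, heq, LinearMap.comp_assoc, hri, LinearMap.comp_id]

end Groth.Agent.S17549
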