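import Groth.Statements.S1755
import Groth.Agent.H58.KollarFin2
import Groth.Agent.S2724

set_option autoImplicit false
universe u
open LocCoh

namespace Groth.Agent.S1755

/-- Kollár's criterion for finiteness of first local cohomology, sufficiency direction, in affine form.
Let A be a Noetherian ring, I an ideal and M a finite A-module. Suppose that for every associated
prime p of M not containing I, every prime q containing both p and I, and every associated prime P
of the completion C of the local ring A_q/pA_q at its maximal ideal, the quotient C/P has Krull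
dimension at least 2. Then H¹_I(M) is a finite A-module. (The criterion is an equivalence; only this
implication is asserted here.) -/
theorem result (A : Type u) [CommRing A] [IsNoetherianRing A] (I : Ideal A) (M : Type u) [AddCommGroup M] [Module A M] [Module.Finite A M] (h : ∀ p : Ideal A, p ∈ associatedPrimes A M → ¬ I ≤ p → ∀ (q : PrimeSpectrum A), p ≤ q.asIdeal → I ≤ q.asIdeal → ∀ P ∈ associatedPrimes (AdicCompletion ((IsLocalRing.maximalIdeal (Localization.AtPrime q.asIdeal)).map (Ideal.Quotient.mk (p.map (algebraMap A (Localization.AtPrime q.asIdeal))))) (Localization.AtPrime q.asIdeal ⧸ p.map (algebraMap A (Localization.AtPrime q.asIdeal)))) (AdicCompletion ((IsLocalRing.maximalIdeal (Localization.AtPrime q.asIdeal)).map (Ideal.Quotient.mk (p.map (algebraMap A (Localization.AtPrime q.asIdeal))))) (Localization.AtPrime q.asIdeal ⧸ p.map (algebraMap A (Localization.AtPrime q.asIdeal)))), (2 : WithBot ℕ∞) ≤ ringKrullDim (AdicCompletion ((IsLocalRing.maximalIdeal (Localization.AtPrime q.asIdeal)).map (Ideal.Quotient.mk (p.map (algebraMap A (Localization.AtPrime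 q.asIdeal))))) (Localization.AtPrime q.asIdeal ⧸ p.map (algebraMap A (Localization.AtPrime q.asIdeal))) ⧸ P)) : Module.Finite A (LocCoh.H I 1 M) := by
  rw [← Groth.Agent.H2.CohPush.isCoherentPushCompl_iff_finite_H1, Groth.Agent.S2724.result A I M]
  intro p hp hIp
  haveI hpp : p.IsPrime := hp.isPrime
  rw [Groth.Agent.H2.CohPush.isCoherentPushCompl_iff_finite_H1]
  have hJbot : I.map (Ideal.Quotient.mk p) ≠ ⊥ := by
    intro h0
    apply hIp
    intro x hx
    have h1 : Ideal.Quotient.mk p x ∈ I.map (Ideal.Quotient.mk p) := Ideal.mem_map_of_mem _ hx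
    rw [h0, Ideal.mem_bot] at h1
    exact Ideal.Quotient.eq_zero_iff_mem.1 h1
  apply Groth.Agent.H58.KollarFin.finite_H1_of_good (A ⧸ p) _ hJbot
  intro Q hQ hJQ
  have hpq : p ≤ Q.comap (Ideal.Quotient.mk p) := by
    intro x hx
    rw [Ideal.mem_comap, Ideal.Quotient.eq_zero_iff_mem.2 hx]
    exact Q.zero_mem
  have hIq : I ≤ Q.comap (Ideal.Quotient.mk p) := Ideal.map_le_iff_le_comap.1 hJQ
  have h1 := h p hp hIp ⟨Q.comap (Ideal.Quotient.mk p), inferInstance⟩ hpq hIq
  exact Groth.Agent.H58.KollarFin.good_locQuot p Q h1

end Groth.Agent.S1755
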