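import Groth.Statements.S1756
import Groth.Agent.H58.KollarS1
import Groth.Agent.S2724

set_option autoImplicit false
universe u
open LocCoh

namespace Groth.Agent.S1756

/-- Let A be a universally catenary Noetherian ring and I an ideal such that for every prime q
containing I the formal fibres of A_q satisfy (S_1), and let M be a finite A-module. If for every
associated prime p of M not containing I and every prime q containing both p and I the longest chain
of primes from p to q has length at least 2, then the local cohomology module H^1_I(M) is a finite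
A-module. (Affine form: finiteness of H^1_I(M) stands in for coherence of the pushforward of the
restriction of M~ to Spec A ∖ V(I).) -/
theorem result (A : Type u) [CommRing A] [IsNoetherianRing A] (hA : CAlg.IsUniversallyCatenary A) (I : Ideal A) (hF : ∀ q : PrimeSpectrum A, I ≤ q.asIdeal → EGA4.HasSnFormalFibres 1 (Localization.AtPrime q.asIdeal)) (M : Type u) [AddCommGroup M] [Module A M] [Module.Finite A M] (h : ∀ (p q : PrimeSpectrum A) (hpq : p ≤ q), p.asIdeal ∈ associatedPrimes A M → ¬ I ≤ p.asIdeal → I ≤ q.asIdeal → (2 : ℕ∞) ≤ Order.height (⟨q, hpq⟩ : Set.Ici p)) : Module.Finite A (LocCoh.H I 1 M) := by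
  rw [← Groth.Agent.H2.CohPush.isCoherentPushCompl_iff_finite_H1, Groth.Agent.S2724.result A I M]
  intro p hp hIp
  haveI hpp : p.IsPrime := hp.isPrime
  rw [Groth.Agent.H2.CohPush.isCoherentPushCompl_iff_finite_H1]
  have hJbot : I.map (Ideal.Quotient.mk p) ≠ ⊥ := by
    intro h0
    apply hIp
    intro x hx
    have h1 : Ideal.Quotient.mk p x ∈ I.map (Ideal.Quotient.mk p) := Ideal.mem_map_of_mem _ hx
    rw [h0, Ideal.mem_bot] at h1
    exact Ideal.Quotient.eq_zero_iff_mem.1 h1
  apply Groth.Agent.H58.KollarFin.finite_H1_of_good (A ⧸ p) _ hJbot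
  intro Q hQ hJQ
  have hpq : p ≤ Q.comap (Ideal.Quotient.mk p) := by
    intro x hx
    rw [Ideal.mem_comap, Ideal.Quotient.eq_zero_iff_mem.2 hx]
    exact Q.zero_mem
  have hIq : I ≤ Q.comap (Ideal.Quotient.mk p) := Ideal.map_le_iff_le_comap.1 hJQ
  have hpq' : (⟨p, hpp⟩ : PrimeSpectrum A) ≤ ⟨Q.comap (Ideal.Quotient.mk p), inferInstance⟩ := hpq
  apply Groth.Agent.H58.KollarFin.good_locQuot_of_formalFibres hA p Q
    (hF ⟨Q.comap (Ideal.Quotient.mk p), inferInstance⟩ hIq)
  have h2 := Groth.Agent.H58.SecFin.le_height_map_of_forall_Ici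
    (Q.comap (Ideal.Quotient.mk p)) p 2 (by
      intro q' hq' hqq'
      refine (h ⟨p, hpp⟩ ⟨Q.comap (Ideal.Quotient.mk p), inferInstance⟩ hpq' hp hIp hIq).trans ?_
      exact Order.height_mono (show (⟨_, hpq'⟩ : Set.Ici (⟨p, hpp⟩ : PrimeSpectrum A)) ≤
        ⟨q', hq'⟩ from hqq'))
  rwa [Ideal.map_comap_of_surjective _ Ideal.Quotient.mk_surjective] at h2

end Groth.Agent.S1756
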