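import Groth.Statements.S17583
import Groth.Agent.H53.ProjFormula
-- import your own Groth.Agent.* helpers here

set_option autoImplicit false
open CategoryTheory CategoryTheory.Limits AlgebraicGeometry
open PosLin

namespace Groth.Agent.S17583

set_option backward.isDefEq.respectTransparency false

open Groth.Agent.H53.ProjFormula

section Helpers

universe u

variable {X Y : Scheme.{u}} (f : X ⟶ Y) (V : Y.Opens)

lemma isIso_restrict_push_pull {N N' : Y.Modules} (g : N ⟶ N')
    (hg : IsIso ((Scheme.Modules.restrictFunctor V.ι).map g)) :
    IsIso ((Scheme.Modules.restrictFunctor V.ι).map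
      ((Scheme.Modules.pushforward f).map ((Scheme.Modules.pullback f).map g))) := by
  have h1 : IsIso ((Scheme.Modules.pullback (f ∣_ V)).map
      ((Scheme.Modules.restrictFunctor V.ι).map g)) := inferInstance
  have h2 : IsIso ((Scheme.Modules.restrictFunctor (f ⁻¹ᵁ V).ι).map
      ((Scheme.Modules.pullback f).map g)) :=
    (NatIso.isIso_map_iff (Groth.Agent.H28.LpullLoc.bcIso f V) g).2 h1
  have h4 : IsIso ((Scheme.Modules.pushforward (f ∣_ V)).map
      ((Scheme.Modules.restrictFunctor (f ⁻¹ᵁ V).ι).map
        ((Scheme.Modules.pullback f).map g))) := inferInstance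
  exact (NatIso.isIso_map_iff (Groth.Agent.H31.PushRestrict.pushRestrictIso f V) _).2 h4

lemma isIso_restrict_unit_iff {N N' : Y.Modules} (g : N ⟶ N')
    (hg : IsIso ((Scheme.Modules.restrictFunctor V.ι).map g)) :
    IsIso ((Scheme.Modules.restrictFunctor V.ι).map
        ((Scheme.Modules.pullbackPushforwardAdjunction f).unit.app N)) ↔
      IsIso ((Scheme.Modules.restrictFunctor V.ι).map
        ((Scheme.Modules.pullbackPushforwardAdjunction f).unit.app N')) := by
  have h : g ≫ (Scheme.Modules.pullbackPushforwardAdjunction f).unit.app N' =
      (Scheme.Modules.pullbackPushforwardAdjunction f).unit.app N ≫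
        (Scheme.Modules.pushforward f).map ((Scheme.Modules.pullback f).map g) :=
    (Scheme.Modules.pullbackPushforwardAdjunction f).unit.naturality g
  have h' : (Scheme.Modules.restrictFunctor V.ι).map g ≫
      (Scheme.Modules.restrictFunctor V.ι).map
        ((Scheme.Modules.pullbackPushforwardAdjunction f).unit.app N') =
      (Scheme.Modules.restrictFunctor V.ι).map
        ((Scheme.Modules.pullbackPushforwardAdjunction f).unit.app N) ≫
      (Scheme.Modules.restrictFunctor V.ι).map
        ((Scheme.Modules.pushforward f).map ((Scheme.Modules.pullback f).map g)) := by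
    rw [← Functor.map_comp, ← Functor.map_comp, h]
  have i2 := isIso_restrict_push_pull f V g hg
  constructor
  · intro hN
    have h3 : IsIso ((Scheme.Modules.restrictFunctor V.ι).map g ≫
        (Scheme.Modules.restrictFunctor V.ι).map
          ((Scheme.Modules.pullbackPushforwardAdjunction f).unit.app N')) := by
      rw [h']
      infer_instance
    exact IsIso.of_isIso_comp_left ((Scheme.Modules.restrictFunctor V.ι).map g) _
  · intro hN'
    have h3 : IsIso ((Scheme.Modules.restrictFunctor V.ι).map
          ((Scheme.Modules.pullbackPushforwardAdjunction f).unit.app N) ≫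
        (Scheme.Modules.restrictFunctor V.ι).map
          ((Scheme.Modules.pushforward f).map ((Scheme.Modules.pullback f).map g))) := by
      rw [← h']
      infer_instance
    exact IsIso.of_isIso_comp_right _
      ((Scheme.Modules.restrictFunctor V.ι).map
        ((Scheme.Modules.pushforward f).map ((Scheme.Modules.pullback f).map g)))

theorem isIso_restrict_unit_of_triv (E : Y.Modules)
    (e : (Scheme.Modules.restrictFunctor V.ι).obj E ≅ Coh.structureModule V)
    (h0 : IsIso ((Scheme.Modules.pullbackPushforwardAdjunction f).unit.app
      (Coh.structureModule Y))) :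
    IsIso ((Scheme.Modules.restrictFunctor V.ι).map
      ((Scheme.Modules.pullbackPushforwardAdjunction f).unit.app E)) := by
  have e' : (Scheme.Modules.restrictFunctor V.ι).obj (Coh.structureModule Y) ≅
      Coh.structureModule V :=
    (Scheme.Modules.restrictFunctorIsoPullback V.ι).app _ ≪≫ asIso (cPull V.ι)
  have hg₁ : IsIso ((Scheme.Modules.restrictFunctor V.ι).map
      ((Scheme.Modules.restrictAdjunction V.ι).unit.app E ≫
        (Scheme.Modules.pushforward V.ι).map (e.hom ≫ e'.inv))) := by
    have := isIso_restrict_unit V E
    rw [Functor.map_comp]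
    infer_instance
  have hg₂ : IsIso ((Scheme.Modules.restrictFunctor V.ι).map
      ((Scheme.Modules.restrictAdjunction V.ι).unit.app (Coh.structureModule Y))) :=
    isIso_restrict_unit V _
  have k1 := isIso_restrict_unit_iff f V (N := E)
    (N' := (Scheme.Modules.pushforward V.ι).obj
      ((Scheme.Modules.restrictFunctor V.ι).obj (Coh.structureModule Y))) _ hg₁
  have k2 := isIso_restrict_unit_iff f V (N := Coh.structureModule Y)
    (N' := (Scheme.Modules.pushforward V.ι).obj
      ((Scheme.Modules.restrictFunctor V.ι).obj (Coh.structureModule Y))) _ hg₂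
  exact k1.2 (k2.1 inferInstance)

lemma uPush_eq : uPush f = ClSub.unitToPush f := by
  apply SheafOfModules.hom_ext
  apply PresheafOfModules.hom_ext
  intro U
  ext
  rfl

end Helpers


/-- Let X and Y each be a projective variety over the complex numbers (an integral scheme, proper over
ℂ, with an ample invertible module), and let f : X → Y be an algebraic fibre space: a surjective
morphism over ℂ such that the canonical map O_Y → f_*O_X is an isomorphism. Then for every
invertible O_Y-module L the unit L → f_* f^* L of the pullback–pushforward adjunction is an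
isomorphism; taking global sections, H^0(X, f^*L) = H^0(Y, L) (the printed statement is this
equality for the powers L^⊗m, m > 0, and adds the equality of Iitaka dimensions, which is not stated
here). -/
theorem result (X : Scheme.{0}) [X.Over (Spec (CommRingCat.of ℂ))] [IsIntegral X] [IsProper (X ↘ Spec (CommRingCat.of ℂ))]
    (HX : X.Modules) (hHX : CohB1.IsAmple HX)
    (Y : Scheme.{0}) [Y.Over (Spec (CommRingCat.of ℂ))] [IsIntegral Y] [IsProper (Y ↘ Spec (CommRingCat.of ℂ))]
    (HY : Y.Modules) (hHY : CohB1.IsAmple HY)
    (f : X ⟶ Y) (hf : f ≫ (Y ↘ Spec (CommRingCat.of ℂ)) = X ↘ Spec (CommRingCat.of ℂ)) [Surjective f]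
    (hfs : IsIso (ClSub.unitToPush f))
    (L : Y.Modules) (hL : PicF.IsInvertible L) :
    IsIso ((Scheme.Modules.pullbackPushforwardAdjunction f).unit.app L) := by
  have h0 : IsIso ((Scheme.Modules.pullbackPushforwardAdjunction f).unit.app
      (Coh.structureModule Y)) := by
    have h := unit_cPull f
    have h1 : IsIso (uPush f) := by
      rw [uPush_eq]
      exact hfs
    have h2 : IsIso ((Scheme.Modules.pullbackPushforwardAdjunction f).unit.app
        (Coh.structureModule Y) ≫ (Scheme.Modules.pushforward f).map (cPull f)) := by
      rw [h]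
      exact h1
    exact IsIso.of_isIso_comp_right _ ((Scheme.Modules.pushforward f).map (cPull f))
  apply isIso_of_local
  intro y
  obtain ⟨V, hy, ⟨e⟩⟩ := hL y
  exact ⟨V, hy, isIso_restrict_unit_of_triv f V L e h0⟩

end Groth.Agent.S17583
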