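import Groth.Statements.S17587
import Mathlib
import Groth.Agent.H18.SectionIntegral
import Groth.Agent.H18.AmpleTwistGG
import Groth.Agent.H18.HomOfGens
import Groth.Agent.H18.GlobGenConv
import Groth.Agent.H8.SectionsExact

set_option autoImplicit false
set_option maxHeartbeats 400000
set_option backward.isDefEq.respectTransparency.types false
open CategoryTheory CategoryTheory.Limits AlgebraicGeometry
open PosLin

namespace Groth.Agent.S17587
universe u
open TopologicalSpace Opposite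
open Groth.Agent.H18 Groth.Agent.H18.SectionIntegral Groth.Agent.H18.TensorGen
  Groth.Agent.H18.TensorPowIso Groth.Agent.H18.SecTw
open Groth.Agent.H8 (res_res res_smul ringRes_res section_eq_of_cover app_res)

section Helpers

variable {X : Scheme.{u}}

set_option backward.isDefEq.respectTransparency.types false in
/-- A nonzero global section `O ⟶ N` makes `H⁰(X, N)` nontrivial. -/
theorem nontrivial_of_hom_ne_zero (N : X.Modules) (s : Coh.structureModule X ⟶ N) (hs : s ≠ 0) :
    Nontrivial (Coh.HH X N 0) := by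
  let e : Coh.HH X N 0 ≃+ (Coh.toAb N).obj.obj (Opposite.op (⊤ : Opens X)) :=
    Sheaf.H.equiv₀ (Coh.toAb N) (T := (⊤ : Opens X)) isTerminalTop
  have h1 : sv s ⊤ ≠ 0 := by
    intro h0
    apply hs
    apply hom_ext_sv
    intro U
    rw [sv_zero, ← sv_res s (le_top : U ≤ ⊤), h0, map_zero]
  refine ⟨⟨e.symm (sv s ⊤), 0, fun h => h1 ?_⟩⟩
  have h2 := congrArg e h
  rw [AddEquiv.apply_symm_apply, map_zero] at h2
  exact h2

set_option backward.isDefEq.respectTransparency.types false in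
/-- A section generating somewhere is nonzero. -/
theorem ne_zero_of_mem_genLocus {N : X.Modules} (hN : PicF.IsInvertible N)
    (σ : Coh.structureModule X ⟶ N) (x : X) (hx : x ∈ CohB1.genLocus N σ) : σ ≠ 0 := by
  intro h0
  obtain ⟨V, μ, hxV, hμ⟩ := exists_isGen hN x
  have h1 : sv σ V = (0 : Γ(X, V)) • μ := by rw [h0, sv_zero, zero_smul]
  have h2 := genLocus_inf_of_isGen σ hμ 0 h1
  rw [Scheme.basicOpen_zero] at h2
  have h3 : x ∈ CohB1.genLocus N σ ⊓ V := ⟨hx, hxV⟩
  rw [h2] at h3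
  exact h3

set_option backward.isDefEq.respectTransparency.types false in
theorem sv_comp {M N : X.Modules} (s : Coh.structureModule X ⟶ M) (f : M ⟶ N) (V : X.Opens) :
    sv (s ≫ f) V = f.app V (sv s V) := rfl

set_option backward.isDefEq.respectTransparency.types false in
theorem tm_smul_smul (M N : X.Modules) {U : X.Opens} (b l : Γ(X, U)) (m : Γ(M, U))
    (n : Γ(N, U)) : tm M N (b • m) (l • n) = (b * l) • tm M N m n := by
  rw [tm_smul_left, tm_smul_right, ← mul_smul]

set_option backward.isDefEq.respectTransparency.types false in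
/-- `φ ⊗ 1_L` for invertible `B`, `L`, with its formula on chosen local generators. -/
theorem exists_hom_tensor {B C L : X.Modules} (hB : PicF.IsInvertible B)
    (hL : PicF.IsInvertible L) (φ : B ⟶ C) :
    ∃ Ψ : CohB1.tensorMod B L ⟶ CohB1.tensorMod C L, ∀ x : X,
      ∃ (V : X.Opens) (β : Γ(B, V)) (lam : Γ(L, V)), x ∈ V ∧ IsGen B V β ∧ IsGen L V lam ∧
        Ψ.app V (tm B L β lam) = tm C L (φ.app V β) lam := by
  classical
  choose V β lam hxV hβ hlam using fun x : X => exists_isGen_pair hB hL x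
  have hα : ∀ x, IsGen (CohB1.tensorMod B L) (V x) (tm B L (β x) (lam x)) :=
    fun x => isGen_tm (hβ x) (hlam x)
  have hcoh : HomOfGens.Coh (A := CohB1.tensorMod B L) (C := CohB1.tensorMod C L) V
      (fun x => tm B L (β x) (lam x)) (fun x => tm C L (φ.app (V x) (β x)) (lam x)) := by
    intro i j W hi hj x y hxy
    have hβi := (hβ i).res hi
    have hli := (hlam i).res hi
    obtain ⟨b, hb⟩ := hβi.self.2 (B.presheaf.map (homOfLE hj).op (β j))
    obtain ⟨l, hl⟩ := hli.self.2 (L.presheaf.map (homOfLE hj).op (lam j))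
    have hb' : b • B.presheaf.map (homOfLE hi).op (β i) =
        B.presheaf.map (homOfLE hj).op (β j) := hb
    have hl' : l • L.presheaf.map (homOfLE hi).op (lam i) =
        L.presheaf.map (homOfLE hj).op (lam j) := hl
    have hxy' : x • tm B L (B.presheaf.map (homOfLE hi).op (β i))
          (L.presheaf.map (homOfLE hi).op (lam i)) =
        (y * (b * l)) • tm B L (B.presheaf.map (homOfLE hi).op (β i))
          (L.presheaf.map (homOfLE hi).op (lam i)) := by
      have h1 : x • (CohB1.tensorMod B L).presheaf.map (homOfLE hi).op (tm B L (β i) (lam i)) =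
          y • (CohB1.tensorMod B L).presheaf.map (homOfLE hj).op (tm B L (β j) (lam j)) := hxy
      rw [tm_res, tm_res, ← hb', ← hl', tm_smul_smul, ← mul_smul] at h1
      exact h1
    have hx : x = y * (b * l) := (isGen_tm hβi hli).self.1 hxy'
    show x • (CohB1.tensorMod C L).presheaf.map (homOfLE hi).op
        (tm C L (φ.app (V i) (β i)) (lam i)) =
      y • (CohB1.tensorMod C L).presheaf.map (homOfLE hj).op
        (tm C L (φ.app (V j) (β j)) (lam j))
    rw [tm_res, tm_res, ← app_res φ hi (β i), ← app_res φ hj (β j), ← hb', ← hl',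
      Scheme.Modules.Hom.app_smul, tm_smul_smul, ← mul_smul, hx]
  obtain ⟨Ψ, hΨ⟩ := HomOfGens.exists_hom_of_gens (fun p => ⟨p, hxV p⟩) hα hcoh
  exact ⟨Ψ, fun x => ⟨V x, β x, lam x, hxV x, hβ x, hlam x, hΨ x⟩⟩

set_option backward.isDefEq.respectTransparency.types false in
/-- From a mono `B ↪ L^m` and a nonzero section of `B ⊗ L`, a nonzero section of `L^(m+1)`. -/
theorem exists_section_succ [IsIntegral X] {B L : X.Modules} (hB : PicF.IsInvertible B)
    (hL : PicF.IsInvertible L) {m : ℕ} (φ : B ⟶ CohB1.tensorPow L m) (hφ : Mono φ)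
    (τ : Coh.structureModule X ⟶ CohB1.tensorMod B L) (hτ : τ ≠ 0) :
    ∃ s : Coh.structureModule X ⟶ CohB1.tensorPow L (m + 1), s ≠ 0 := by
  obtain ⟨Ψ, hΨ⟩ := exists_hom_tensor hB hL φ
  obtain ⟨x₀⟩ : Nonempty X := inferInstance
  obtain ⟨V, β, lam, hxV, hβ, hlam, hΨV⟩ := hΨ x₀
  haveI : Nonempty V := ⟨⟨x₀, hxV⟩⟩
  refine ⟨τ ≫ Ψ, fun h0 => ?_⟩
  obtain ⟨c, hc⟩ := (isGen_tm hβ hlam).self.2 (sv τ V)
  have hc' : c • tm B L β lam = sv τ V := hc
  obtain ⟨a, ha⟩ := (isGen_lp hlam m).self.2 (φ.app V β)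
  have ha' : a • lp lam m = φ.app V β := ha
  have hc0 : c ≠ 0 := by
    intro h
    apply hτ
    apply eq_zero_of_sv_eq_zero (isInvertible_tensorMod hB hL) τ ⟨x₀, hxV⟩
    rw [← hc', h, zero_smul]
  have ha0 : a ≠ 0 := by
    intro h
    rw [h, zero_smul] at ha'
    have hβ0 : β = 0 := by
      haveI := hφ
      apply Groth.Agent.H8.app_injective_of_mono φ V
      rw [← ha', map_zero]
    have h10 : (1 : Γ(X, V)) = 0 := by
      apply hβ.self.1
      show (1 : Γ(X, V)) • β = (0 : Γ(X, V)) • β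
      rw [hβ0, smul_zero, smul_zero]
    exact one_ne_zero h10
  have h1 : sv (τ ≫ Ψ) V = (c * a) • lp lam (m + 1) := by
    rw [sv_comp, ← hc', Scheme.Modules.Hom.app_smul, hΨV, ← ha', tm_smul_left, mul_smul]
    rfl
  have h0' : sv (τ ≫ Ψ) V = 0 :=
    congrArg (fun f : Coh.structureModule X ⟶ CohB1.tensorMod (CohB1.tensorPow L m) L =>
      sv f V) h0
  have h3 : (c * a) • lp lam (m + 1) = 0 := h1.symm.trans h0'
  have h2 : c * a = 0 := by
    apply (isGen_lp hlam (m + 1)).self.1
    show (c * a) • lp lam (m + 1) = (0 : Γ(X, V)) • lp lam (m + 1)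
    rw [zero_smul]
    exact h3
  rcases mul_eq_zero.mp h2 with h | h
  · exact hc0 h
  · exact ha0 h

set_option backward.isDefEq.respectTransparency.types false in
theorem S_add [IsIntegral X] {L : X.Modules} (hL : PicF.IsInvertible L) {a b : ℕ}
    (ha : ∃ s : Coh.structureModule X ⟶ CohB1.tensorPow L a, s ≠ 0)
    (hb : ∃ s : Coh.structureModule X ⟶ CohB1.tensorPow L b, s ≠ 0) :
    ∃ s : Coh.structureModule X ⟶ CohB1.tensorPow L (a + b), s ≠ 0 := by
  obtain ⟨s, hs⟩ := ha
  obtain ⟨t, ht⟩ := hb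
  obtain ⟨e⟩ := nonempty_tensorPow_add hL a b
  refine ⟨SecTwist.tmulHom s t ≫ e.hom, fun h0 => ?_⟩
  apply tmulHom_ne_zero (isInvertible_tensorPow hL a) (isInvertible_tensorPow hL b) s t hs ht
  rw [← cancel_mono e.hom, h0, Limits.zero_comp]

set_option backward.isDefEq.respectTransparency.types false in
theorem S_zero {L : X.Modules} {n : ℕ}
    (h : ∃ s : Coh.structureModule X ⟶ CohB1.tensorPow L n, s ≠ 0) :
    ∃ s : Coh.structureModule X ⟶ CohB1.tensorPow L 0, s ≠ 0 := by
  obtain ⟨s, hs⟩ := h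
  refine ⟨𝟙 (Coh.structureModule X), fun h0 => hs ?_⟩
  have h1 : (𝟙 (Coh.structureModule X) : Coh.structureModule X ⟶ Coh.structureModule X) = 0 := h0
  rw [← Category.id_comp s, h1, Limits.zero_comp]

set_option backward.isDefEq.respectTransparency.types false in
theorem S_mul [IsIntegral X] {L : X.Modules} (hL : PicF.IsInvertible L) {p : ℕ}
    (hp : ∃ s : Coh.structureModule X ⟶ CohB1.tensorPow L p, s ≠ 0) (a : ℕ) :
    ∃ s : Coh.structureModule X ⟶ CohB1.tensorPow L (a * p), s ≠ 0 := by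
  induction a with
  | zero =>
    rw [Nat.zero_mul]
    exact S_zero hp
  | succ a ih =>
    rw [Nat.succ_mul]
    exact S_add hL ih hp

end Helpers

/-- Let X be a projective variety over the complex numbers (an integral scheme, proper over ℂ, with an
ample invertible module), and L an invertible O_X-module which is big, bigness being expressed
through the equivalent condition that every ample invertible O_X-module A admits a monomorphism A →
L^⊗m for some m > 0. Then the exponent of L is 1, that is, H^0(X, L^⊗m) ≠ 0 for every sufficiently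
large m. -/
theorem result (X : Scheme.{0}) [X.Over (Spec (CommRingCat.of ℂ))] [IsIntegral X]
    [IsProper (X ↘ Spec (CommRingCat.of ℂ))] (H : X.Modules) (hH : CohB1.IsAmple H)
    (L : X.Modules) (hL : PicF.IsInvertible L)
    (hbig : ∀ A : X.Modules, CohB1.IsAmple A → ∃ (m : ℕ) (φ : A ⟶ CohB1.tensorPow L m), 0 < m ∧ Mono φ) :
    ∃ m₁ : ℕ, ∀ m : ℕ, m₁ ≤ m → Nontrivial (Coh.HH X (CohB1.tensorPow L m) 0) := by
  haveI : CompactSpace X := hH.2.1
  haveI : QuasiSeparatedSpace X :=
    quasiSeparatedSpace_of_quasiSeparated (X ↘ Spec (CommRingCat.of ℂ))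
  have hHinv := hH.1
  obtain ⟨n₀, -, h₀⟩ := AmpleTwistGG.main hH (Groth.Agent.H8.isInvertible_structureModule X)
  obtain ⟨n₁, -, h₁⟩ := AmpleTwistGG.main hH hL
  obtain ⟨r, hr⟩ : ∃ r, r = max n₀ n₁ := ⟨_, rfl⟩
  obtain ⟨hA₀, hG₀⟩ := h₀ r (by rw [hr]; exact le_max_left _ _)
  obtain ⟨hA₁, hG₁⟩ := h₁ r (by rw [hr]; exact le_max_right _ _)
  have hBinv : PicF.IsInvertible (CohB1.tensorPow H r) := isInvertible_tensorPow hHinv r
  have hBamp : CohB1.IsAmple (CohB1.tensorPow H r) :=
    AmpleIso.isAmple_of_iso (SecTwist.unitorR (CohB1.tensorPow H r)) hA₀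
  obtain ⟨m, φ, hm, hφ⟩ := hbig _ hBamp
  obtain ⟨x₀⟩ : Nonempty X := inferInstance
  have hBOinv : PicF.IsInvertible
      (CohB1.tensorMod (CohB1.tensorPow H r) (Coh.structureModule X)) :=
    isInvertible_tensorMod hBinv (Groth.Agent.H8.isInvertible_structureModule X)
  obtain ⟨σ₀, hσ₀⟩ := GlobGen.exists_section_of_ggAt hBOinv x₀
    (GlobGenConv.ggAt_of_isGloballyGenerated _ hG₀ x₀)
  have hσ₀ne : σ₀ ≠ 0 := ne_zero_of_mem_genLocus hBOinv σ₀ x₀ hσ₀
  have hσne : σ₀ ≫ (SecTwist.unitorR (CohB1.tensorPow H r)).hom ≠ 0 := by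
    intro h0
    apply hσ₀ne
    rw [← cancel_mono (SecTwist.unitorR (CohB1.tensorPow H r)).hom, h0, Limits.zero_comp]
  have hBLinv : PicF.IsInvertible (CohB1.tensorMod (CohB1.tensorPow H r) L) :=
    isInvertible_tensorMod hBinv hL
  obtain ⟨τ, hτ⟩ := GlobGen.exists_section_of_ggAt hBLinv x₀
    (GlobGenConv.ggAt_of_isGloballyGenerated _ hG₁ x₀)
  have hτne : τ ≠ 0 := ne_zero_of_mem_genLocus hBLinv τ x₀ hτ
  have hS_m : ∃ s : Coh.structureModule X ⟶ CohB1.tensorPow L m, s ≠ 0 := by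
    refine ⟨(σ₀ ≫ (SecTwist.unitorR (CohB1.tensorPow H r)).hom) ≫ φ, fun h0 => hσne ?_⟩
    haveI := hφ
    rw [← cancel_mono φ, h0, Limits.zero_comp]
  have hS_m1 : ∃ s : Coh.structureModule X ⟶ CohB1.tensorPow L (m + 1), s ≠ 0 :=
    exists_section_succ hBinv hL φ hφ τ hτne
  refine ⟨m * m, fun n hn => ?_⟩
  have hgcd : Nat.gcd m (m + 1) ∣ n := by
    have h1 : Nat.gcd m (m + 1) = 1 := by simp
    rw [h1]
    exact one_dvd n
  have hle : m.pred * (m + 1).pred ≤ n := by
    have h1 : m.pred * (m + 1).pred ≤ m * m := Nat.mul_le_mul (Nat.pred_le m) (le_of_eq (Nat.pred_succ m))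
    exact h1.trans hn
  obtain ⟨a, b, hab⟩ := Nat.exists_add_mul_eq_of_gcd_dvd_of_mul_pred_le m (m + 1) n hgcd hle
  subst hab
  obtain ⟨s, hs⟩ := S_add hL (S_mul hL hS_m a) (S_mul hL hS_m1 b)
  exact nontrivial_of_hom_ne_zero _ s hs

end Groth.Agent.S17587
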