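import Groth.Statements.S17592
import Groth.Agent.H3.PH3

set_option autoImplicit false
universe u
open Hensel

namespace Groth.Agent.S17592

/-- Let R → S be an étale ring map and I an ideal of R such that the induced map R/I → S/IS is
bijective. Then a Henselization of the pair (S, IS), regarded as an R-algebra, is a Henselization of
the pair (R, I). -/
theorem result (R : Type u) [CommRing R] (I : Ideal R)
    (S : Type u) [CommRing S] [Algebra R S] [Algebra.Etale R S]
    (hq : Function.Bijective
      (Ideal.quotientMap (I.map (algebraMap R S)) (algebraMap R S) Ideal.le_comap_map))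
    (H : Type u) [CommRing H] [Algebra S H] [Algebra R H] [IsScalarTower R S H]
    (hH : Hens2.IsPairHenselization S (I.map (algebraMap R S)) H) :
    Hens2.IsPairHenselization R I H := by
  have hmapeq : I.map (algebraMap R H) = (I.map (algebraMap R S)).map (algebraMap S H) := by
    rw [Ideal.map_map, ← IsScalarTower.algebraMap_eq]
  refine ⟨hmapeq ▸ hH.1, ?_⟩
  intro C _ J f hC hIJ
  letI : Algebra R C := f.toAlgebra
  haveI := hC
  let eqv : R ⧸ I ≃+* S ⧸ I.map (algebraMap R S) := RingEquiv.ofBijective _ hq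
  have hkill : ∀ a ∈ I, ((Ideal.Quotient.mk J).comp f) a = 0 := by
    intro a ha
    exact Ideal.Quotient.eq_zero_iff_mem.mpr (hIJ (Ideal.mem_map_of_mem f ha))
  let φb : R ⧸ I →+* C ⧸ J := Ideal.Quotient.lift I ((Ideal.Quotient.mk J).comp f) hkill
  let σr : S →+* C ⧸ J :=
    φb.comp ((eqv.symm : S ⧸ I.map (algebraMap R S) →+* R ⧸ I).comp (Ideal.Quotient.mk _))
  have heqmk : ∀ r : R, eqv.symm (Ideal.Quotient.mk _ (algebraMap R S r)) =
      Ideal.Quotient.mk I r := by
    intro r
    rw [RingEquiv.symm_apply_eq]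
    rfl
  let σ : S →ₐ[R] C ⧸ J :=
    { toRingHom := σr
      commutes' := fun r => by
        show φb (eqv.symm (Ideal.Quotient.mk _ (algebraMap R S r))) = _
        rw [heqmk]
        rfl }
  obtain ⟨τ, hτ⟩ := Groth.Agent.H3.PH.exists_algHom_lift_of_etale C J S σ
  have hρI : ∀ ρ : S →ₐ[R] C, (I.map (algebraMap R S)).map ρ.toRingHom ≤ J := by
    intro ρ
    rw [Ideal.map_map, Ideal.map_le_iff_le_comap]
    intro a ha
    rw [Ideal.mem_comap]
    have : (ρ.toRingHom.comp (algebraMap R S)) a = f a := ρ.commutes a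
    rw [this]
    exact hIJ (Ideal.mem_map_of_mem f ha)
  obtain ⟨g, hg, hguniq⟩ := hH.2 C J τ.toRingHom hC (hρI τ)
  refine ⟨g, ?_, ?_⟩
  · show g.comp (algebraMap R H) = f
    rw [IsScalarTower.algebraMap_eq R S H, ← RingHom.comp_assoc, hg]
    ext r
    exact τ.commutes r
  · intro g' hg'
    apply hguniq
    let τ' : S →ₐ[R] C :=
      { toRingHom := g'.comp (algebraMap S H)
        commutes' := fun r => by
          show g' (algebraMap S H (algebraMap R S r)) = f r
          rw [← IsScalarTower.algebraMap_apply R S H]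
          exact RingHom.congr_fun hg' r }
    have hττ' : τ = τ' := by
      apply Groth.Agent.H3.PH.algHom_eq_of_sub_mem' J hC.jac
      intro s
      obtain ⟨x, hx⟩ := hq.2 (Ideal.Quotient.mk _ s)
      obtain ⟨r, rfl⟩ := Ideal.Quotient.mk_surjective x
      rw [Ideal.quotientMap_mk, Ideal.Quotient.eq] at hx
      have hz : ∀ (ρ : S →ₐ[R] C), ρ (algebraMap R S r - s) ∈ J := fun ρ =>
        hρI ρ (Ideal.mem_map_of_mem ρ.toRingHom hx)
      have h3 := hz τ
      have h4 := hz τ'
      rw [map_sub, AlgHom.commutes] at h3 h4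
      have : τ' s - τ s = (algebraMap R C r - τ s) - (algebraMap R C r - τ' s) := by ring
      rw [this]
      exact sub_mem h3 h4
    exact (congrArg AlgHom.toRingHom hττ').symm

end Groth.Agent.S17592
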