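import Groth.Statements.S1760
import Mathlib
import Groth.Agent.H59.Goren3

set_option autoImplicit false
universe u
open scoped TensorProduct
open Goren

namespace Groth.Agent.S1760

open Groth.Agent.H59.Goren1 Groth.Agent.H59.Goren2 Groth.Agent.H59.Goren3 Groth.Agent.H60.GorTransfer in
theorem aux (k k' : Type u) [Field k] [Field k'] [Algebra k k'] (s : Finset k')
    (hs : IntermediateField.adjoin k (s : Set k') = ⊤) (B : Type u) [CommRing B] [IsLocalRing B]
    [IsNoetherianRing B] [Algebra k B] (q : Ideal (B ⊗[k] k')) [q.IsPrime]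
    (hq : q.comap (algebraMap B (B ⊗[k] k')) = IsLocalRing.maximalIdeal B) :
    LocCoh.IsGorensteinLocalRing B ↔ LocCoh.IsGorensteinLocalRing (Localization.AtPrime q) := by
  haveI : Algebra.EssFiniteType k k' := IntermediateField.fg_top_iff.mp ⟨s, hs⟩
  haveI : IsNoetherianRing (B ⊗[k] k') := Algebra.EssFiniteType.isNoetherianRing B (B ⊗[k] k')
  have hfib : ∀ (p : Ideal B) [p.IsPrime],
      LocCoh.IsGorensteinRing (p.ResidueField ⊗[k] k') := by
    intro p _
    haveI := gorRing_field p.ResidueField
    have hG := gor_fg_tensor k' s k hs p.ResidueField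
    exact @gorRing_of_ringEquiv _ _ _ _
      (Algebra.TensorProduct.comm k k' p.ResidueField).toRingEquiv hG
  have h1 := gor_tensor_loc_iff k k' B q (hfib _)
  rw [← h1]
  have gen : ∀ (p : Ideal B) [p.IsPrime], p = IsLocalRing.maximalIdeal B →
      (LocCoh.IsGorensteinLocalRing B ↔
        LocCoh.IsGorensteinLocalRing (Localization.AtPrime p)) := by
    intro p _ hp
    subst hp
    have e : B ≃ₐ[B] Localization.AtPrime (IsLocalRing.maximalIdeal B) :=
      IsLocalization.atUnits B (IsLocalRing.maximalIdeal B).primeCompl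
        (fun x hx => IsLocalRing.notMem_maximalIdeal.mp hx)
    exact ⟨gor_of_ringEquiv e.toRingEquiv, gor_of_ringEquiv e.symm.toRingEquiv⟩
  exact gen _ hq


/-- First assertion, written for the local ring B = O_{X,x}. Let k'/k be a finitely generated field
extension, B a Noetherian local k-algebra, and q a prime of B ⊗_k k' lying over the maximal ideal of
B. Then B is Gorenstein if and only if the localization of B ⊗_k k' at q is Gorenstein. -/
theorem result (k k' : Type u) [Field k] [Field k'] [Algebra k k'] (hfg : ∃ s : Finset k', IntermediateField.adjoin k (s : Set k') = ⊤) (B : Type u) [CommRing B] [IsLocalRing B] [IsNoetherianRing B] [Algebra k B] (q : PrimeSpectrum (B ⊗[k] k')) (hq : q.asIdeal.comap (algebraMap B (B ⊗[k] k')) = IsLocalRing.maximalIdeal B) : LocCoh.IsGorensteinLocalRing B ↔ LocCoh.IsGorensteinLocalRing (Localization.AtPrime q.asIdeal) := by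
  obtain ⟨s, hs⟩ := hfg
  exact aux k k' s hs B q.asIdeal hq

end Groth.Agent.S1760
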