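import Groth.Statements.S17600
import Groth.Agent.H3.UnramNear

set_option autoImplicit false
universe u
open Hensel

namespace Groth.Agent.S17600

/-- Let (A, I) be a Henselian pair and let B be a Henselization of the pair (R₀, IR₀) for a finitely
presented A-algebra R₀ (so A → B is Henselian finitely presented). If B is flat over A and A/I^r →
B/I^rB is étale for every r ≥ 1 (the h-formally étale property, in its equivalent form for Henselian
finitely presented maps), then A → B is h-étale: there is an étale A-algebra R, with an R-algebra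
structure on B compatible with that of A, such that B is a Henselization of the pair (R, IR). -/
theorem result (A : Type u) [CommRing A] (I : Ideal A)
    [HenselianRing A I] (R₀ : Type u) [CommRing R₀] [Algebra A R₀] [Algebra.FinitePresentation A R₀]
    (B : Type u) [CommRing B] [Algebra R₀ B] [Algebra A B] [IsScalarTower A R₀ B]
    (hB : Hens2.IsPairHenselization R₀ (I.map (algebraMap A R₀)) B) [Module.Flat A B]
    (het : ∀ r : ℕ, 1 ≤ r → Algebra.Etale (A ⧸ I ^ r) (B ⧸ (I ^ r).map (algebraMap A B))) :
    ∃ (R : Type u) (_ : CommRing R) (_ : Algebra A R) (_ : Algebra R B) (_ : IsScalarTower A R B),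
      Algebra.Etale A R ∧ Hens2.IsPairHenselization R (I.map (algebraMap A R)) B := by
  haveI hR₀B : Module.Flat R₀ B := Groth.Agent.H3.PH.flat_of_isPairHenselization _ B hB
  have hbij := Groth.Agent.H3.PH.quotientMap_bijective_of_eq (I.map (algebraMap A R₀)) B hB 1
    (I.map (algebraMap A R₀)) ((I.map (algebraMap A R₀)).map (algebraMap R₀ B))
    (pow_one _).symm rfl Ideal.le_comap_map
  have hflat : ∀ (p : Ideal R₀) [p.IsPrime], I.map (algebraMap A R₀) ≤ p →
      Module.Flat A (Localization.AtPrime p) := by
    intro p _ hp
    obtain ⟨Q, hQ, hQp⟩ :=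
      Groth.Agent.H3.exists_prime_comap_eq_of_quotientMap_bijective _ hbij p hp
    haveI : Q.LiesOver p := ⟨hQp.symm⟩
    exact Groth.Agent.H3.flat_atPrime_of_flat_of_liesOver p Q
  obtain ⟨e⟩ := Groth.Agent.H3.PH.exists_algEquiv_quotient_pow I R₀ B hB 1
  haveI := het 1 le_rfl
  haveI : Algebra.FormallyUnramified (A ⧸ I ^ 1) (R₀ ⧸ (I ^ 1).map (algebraMap A R₀)) :=
    Algebra.FormallyUnramified.of_equiv e.symm
  obtain ⟨g, hg, hget⟩ := Groth.Agent.H3.exists_away_etale (A := A) (R := R₀) (I ^ 1)
    (by intro p _ hp; exact hflat p (by rwa [pow_one] at hp))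
  rw [pow_one] at hg
  have hu : IsUnit (algebraMap R₀ B g) := by
    have h1 : algebraMap R₀ B g - 1 ∈ (I.map (algebraMap A R₀)).map (algebraMap R₀ B) := by
      have := Ideal.mem_map_of_mem (algebraMap R₀ B) hg
      rwa [map_sub, map_one] at this
    have h2 := Ideal.mem_jacobson_bot.mp (hB.1.jac h1) 1
    simpa using h2
  let φ : Localization.Away g →+* B := IsLocalization.Away.lift g hu
  letI : Algebra (Localization.Away g) B := φ.toAlgebra
  haveI : IsScalarTower R₀ (Localization.Away g) B :=
    IsScalarTower.of_algebraMap_eq (fun r => (IsLocalization.Away.lift_eq g hu r).symm)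
  haveI : IsScalarTower A (Localization.Away g) B :=
    IsScalarTower.of_algebraMap_eq (fun a => by
      rw [IsScalarTower.algebraMap_apply A R₀ B,
        IsScalarTower.algebraMap_apply A R₀ (Localization.Away g),
        ← IsScalarTower.algebraMap_apply R₀ (Localization.Away g) B])
  refine ⟨Localization.Away g, inferInstance, inferInstance, inferInstance, inferInstance,
    hget, ?_⟩
  have := Groth.Agent.H3.PH.isPairHenselization_of_nbhd (I.map (algebraMap A R₀)) B hB
    (Localization.Away g) (Groth.Agent.H3.quotientMap_away_bijective _ g hg _)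
  rwa [Ideal.map_map, ← IsScalarTower.algebraMap_eq] at this

end Groth.Agent.S17600
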