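import Groth.Statements.S17615
import Groth.Agent.H3.FlatHens

set_option autoImplicit false
universe u
open Hensel

namespace Groth.Agent.S17615

/-- Let (A, I) be a Henselian pair and let B be a Henselization of the pair (R₀, IR₀) for a finitely
presented A-algebra R₀ (so A → B is a Henselian finitely presented map of Henselian pairs). If B is
flat over A, then there are a finitely presented A-algebra S that is flat over A and an S-algebra
structure on B compatible with that of A for which B is a Henselization of the pair (S, IS). -/
theorem result (A : Type u) [CommRing A]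
    (I : Ideal A) [HenselianRing A I]
    (R₀ : Type u) [CommRing R₀] [Algebra A R₀] [Algebra.FinitePresentation A R₀]
    (B : Type u) [CommRing B] [Algebra R₀ B] [Algebra A B] [IsScalarTower A R₀ B]
    (hB : Hens2.IsPairHenselization R₀ (I.map (algebraMap A R₀)) B) [Module.Flat A B] :
    ∃ (S : Type u) (_ : CommRing S) (_ : Algebra A S) (_ : Algebra S B) (_ : IsScalarTower A S B),
      Algebra.FinitePresentation A S ∧ Module.Flat A S ∧
      Hens2.IsPairHenselization S (I.map (algebraMap A S)) B := by
  haveI hR₀B : Module.Flat R₀ B := Groth.Agent.H3.PH.flat_of_isPairHenselization _ B hB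
  have hbij := Groth.Agent.H3.PH.quotientMap_bijective_of_eq (I.map (algebraMap A R₀)) B hB 1
    (I.map (algebraMap A R₀)) ((I.map (algebraMap A R₀)).map (algebraMap R₀ B))
    (pow_one _).symm rfl Ideal.le_comap_map
  have hflat : ∀ (p : Ideal R₀) [p.IsPrime], I.map (algebraMap A R₀) ≤ p →
      Module.Flat A (Localization.AtPrime p) := by
    intro p _ hp
    obtain ⟨Q, hQ, hQp⟩ :=
      Groth.Agent.H3.exists_prime_comap_eq_of_quotientMap_bijective _ hbij p hp
    haveI : Q.LiesOver p := ⟨hQp.symm⟩
    exact Groth.Agent.H3.flat_atPrime_of_flat_of_liesOver p Q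
  obtain ⟨g, hg, hgU⟩ := Groth.Agent.H3.exists_basicOpen_subset_of_zeroLocus_subset
    (I.map (algebraMap A R₀)) (Groth.Agent.H57.FlatPt.flatLocus A R₀)
    (Groth.Agent.H57.FlatPt.isOpen_flatLocus A R₀)
    (fun x hx => hflat x.asIdeal ((PrimeSpectrum.mem_zeroLocus _ _).mp hx))
  have hu : IsUnit (algebraMap R₀ B g) := by
    have h1 : algebraMap R₀ B g - 1 ∈ (I.map (algebraMap A R₀)).map (algebraMap R₀ B) := by
      have := Ideal.mem_map_of_mem (algebraMap R₀ B) hg
      rwa [map_sub, map_one] at this
    have h2 := Ideal.mem_jacobson_bot.mp (hB.1.jac h1) 1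
    simpa using h2
  let φ : Localization.Away g →+* B := IsLocalization.Away.lift g hu
  letI : Algebra (Localization.Away g) B := φ.toAlgebra
  haveI : IsScalarTower R₀ (Localization.Away g) B :=
    IsScalarTower.of_algebraMap_eq (fun r => (IsLocalization.Away.lift_eq g hu r).symm)
  haveI : IsScalarTower A (Localization.Away g) B :=
    IsScalarTower.of_algebraMap_eq (fun a => by
      rw [IsScalarTower.algebraMap_apply A R₀ B,
        IsScalarTower.algebraMap_apply A R₀ (Localization.Away g),
        ← IsScalarTower.algebraMap_apply R₀ (Localization.Away g) B])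
  haveI : Algebra.FinitePresentation R₀ (Localization.Away g) :=
    IsLocalization.Away.finitePresentation g
  refine ⟨Localization.Away g, inferInstance, inferInstance, inferInstance, inferInstance,
    Algebra.FinitePresentation.trans A R₀ _,
    Groth.Agent.H3.flat_away_of_subset_flatLocus g _ hgU, ?_⟩
  have := Groth.Agent.H3.PH.isPairHenselization_of_nbhd (I.map (algebraMap A R₀)) B hB
    (Localization.Away g) (Groth.Agent.H3.quotientMap_away_bijective _ g hg _)
  rwa [Ideal.map_map, ← IsScalarTower.algebraMap_eq] at this

end Groth.Agent.S17615
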