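import Groth.Statements.S17604
import Groth.Agent.H3.PH3

set_option autoImplicit false
universe u
open Hensel

namespace Groth.Agent.S17604

/-- Let (A, I) be a Henselian pair, R and R' étale A-algebras, and B, B' Henselizations of the pairs (R,
IR), (R', IR') with their induced A-algebra structures (so B and B' are h-étale over A). Then
reduction modulo I is a bijection from A-algebra maps B → B' to A-algebra maps B/IB → B'/IB': two
A-algebra maps B → B' that agree modulo IB' are equal, and every A-algebra map B/IB → B'/IB' is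
induced by an A-algebra map B → B'. -/
theorem result (A : Type u) [CommRing A]
    (I : Ideal A) [HenselianRing A I]
    (R : Type u) [CommRing R] [Algebra A R] [Algebra.Etale A R]
    (B : Type u) [CommRing B] [Algebra R B] [Algebra A B] [IsScalarTower A R B]
    (hB : Hens2.IsPairHenselization R (I.map (algebraMap A R)) B)
    (R' : Type u) [CommRing R'] [Algebra A R'] [Algebra.Etale A R']
    (B' : Type u) [CommRing B'] [Algebra R' B'] [Algebra A B'] [IsScalarTower A R' B']
    (hB' : Hens2.IsPairHenselization R' (I.map (algebraMap A R')) B') :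
    (∀ φ ψ : B →ₐ[A] B', (∀ b : B, φ b - ψ b ∈ I.map (algebraMap A B')) → φ = ψ) ∧
    ∀ χ : (B ⧸ I.map (algebraMap A B)) →ₐ[A] (B' ⧸ I.map (algebraMap A B')),
      ∃ φ : B →ₐ[A] B', ∀ b : B,
        Ideal.Quotient.mk (I.map (algebraMap A B')) (φ b) = χ (Ideal.Quotient.mk (I.map (algebraMap A B)) b) := by
  have hJ' : (I.map (algebraMap A R')).map (algebraMap R' B') = I.map (algebraMap A B') := by
    rw [Ideal.map_map, ← IsScalarTower.algebraMap_eq]
  haveI hHB' : HenselianRing B' (I.map (algebraMap A B')) := hJ' ▸ hB'.1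
  have hρ : ∀ ρ : R →ₐ[A] B',
      (I.map (algebraMap A R)).map ρ.toRingHom ≤ I.map (algebraMap A B') := by
    intro ρ
    rw [Ideal.map_map]
    have : ρ.toRingHom.comp (algebraMap A R) = algebraMap A B' := by
      ext a
      exact ρ.commutes a
    rw [this]
  constructor
  · intro φ ψ h
    let φR : R →ₐ[A] B' := φ.comp (IsScalarTower.toAlgHom A R B)
    let ψR : R →ₐ[A] B' := ψ.comp (IsScalarTower.toAlgHom A R B)
    have hR : ψR = φR := by
      apply Groth.Agent.H3.PH.algHom_eq_of_sub_mem' (I.map (algebraMap A B')) hHB'.jac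
      intro s
      exact h _
    obtain ⟨g, -, hguniq⟩ := hB.2 B' (I.map (algebraMap A B')) φR.toRingHom hHB' (hρ φR)
    have h1 : φ.toRingHom = g := hguniq _ (by
      ext x
      rfl)
    have h2 : ψ.toRingHom = g := hguniq _ (by
      ext x
      exact AlgHom.congr_fun hR x)
    ext b
    exact RingHom.congr_fun (h1.trans h2.symm) b
  · intro χ
    let q : B →ₐ[A] B ⧸ I.map (algebraMap A B) := Ideal.Quotient.mkₐ A _
    let σ : R →ₐ[A] B' ⧸ I.map (algebraMap A B') :=
      (χ.comp q).comp (IsScalarTower.toAlgHom A R B)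
    obtain ⟨τ, hτ⟩ :=
      Groth.Agent.H3.PH.exists_algHom_lift_of_etale B' (I.map (algebraMap A B')) R σ
    obtain ⟨g, hg, -⟩ := hB.2 B' (I.map (algebraMap A B')) τ.toRingHom hHB' (hρ τ)
    have hgA : ∀ a, g (algebraMap A B a) = algebraMap A B' a := by
      intro a
      rw [IsScalarTower.algebraMap_apply A R B]
      have h0 := RingHom.congr_fun hg (algebraMap A R a)
      rw [RingHom.comp_apply] at h0
      rw [h0]
      exact τ.commutes a
    let φ : B →ₐ[A] B' := { toRingHom := g, commutes' := hgA }
    refine ⟨φ, ?_⟩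
    have hbot : HenselianRing (B' ⧸ I.map (algebraMap A B')) ⊥ :=
      Groth.Agent.H3.henselianRing_of_forall_isNilpotent ⊥ (fun x hx => by
        rw [Ideal.mem_bot] at hx
        rw [hx]
        exact IsNilpotent.zero)
    have hle : (I.map (algebraMap A R)).map
        ((Ideal.Quotient.mk (I.map (algebraMap A B'))).comp τ.toRingHom) ≤ ⊥ := by
      rw [← Ideal.map_map]
      exact (Ideal.map_mono (hρ τ)).trans (le_of_eq (Ideal.map_quotient_self _))
    obtain ⟨k, -, hkuniq⟩ := hB.2 (B' ⧸ I.map (algebraMap A B')) ⊥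
      ((Ideal.Quotient.mk _).comp τ.toRingHom) hbot hle
    have h1 : (Ideal.Quotient.mk (I.map (algebraMap A B'))).comp g = k := hkuniq _ (by
      show ((Ideal.Quotient.mk (I.map (algebraMap A B'))).comp g).comp (algebraMap R B) = _
      rw [RingHom.comp_assoc, hg])
    have h2 : χ.toRingHom.comp (Ideal.Quotient.mk (I.map (algebraMap A B))) = k := hkuniq _ (by
      ext x
      exact (hτ x).symm)
    intro b
    exact RingHom.congr_fun (h1.trans h2.symm) b

end Groth.Agent.S17604
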