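import Groth.Statements.S17605
import Mathlib.RingTheory.Localization.Away.Basic
import Mathlib.RingTheory.Jacobson.Ideal

set_option autoImplicit false
universe u
open Hensel

namespace Groth.Agent.S17605

/-- Let A be a ring with an ideal I and let f₁, f₂ be elements of A such that D(f₂) ∩ V(I) ⊆ D(f₁) ∩
V(I) in Spec A. If H₁ is a Henselization of the pair (A_{f₁}, IA_{f₁}) and H₂ a Henselization of the
pair (A_{f₂}, IA_{f₂}), with their induced A-algebra structures, then there is exactly one A-algebra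
map H₁ → H₂. -/
theorem result (A : Type u) [CommRing A]
    (I : Ideal A) (f₁ f₂ : A)
    (h : (PrimeSpectrum.basicOpen f₂ : Set (PrimeSpectrum A)) ∩ PrimeSpectrum.zeroLocus (I : Set A) ⊆
      (PrimeSpectrum.basicOpen f₁ : Set (PrimeSpectrum A)) ∩ PrimeSpectrum.zeroLocus (I : Set A))
    (H₁ : Type u) [CommRing H₁] [Algebra (Localization.Away f₁) H₁] [Algebra A H₁]
    [IsScalarTower A (Localization.Away f₁) H₁]
    (hH₁ : Hens2.IsPairHenselization (Localization.Away f₁)
      (I.map (algebraMap A (Localization.Away f₁))) H₁)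
    (H₂ : Type u) [CommRing H₂] [Algebra (Localization.Away f₂) H₂] [Algebra A H₂]
    [IsScalarTower A (Localization.Away f₂) H₂]
    (hH₂ : Hens2.IsPairHenselization (Localization.Away f₂)
      (I.map (algebraMap A (Localization.Away f₂))) H₂) :
    Nonempty (H₁ →ₐ[A] H₂) ∧ Subsingleton (H₁ →ₐ[A] H₂) := by
  classical
  obtain ⟨hHens₂, -⟩ := hH₂
  obtain ⟨-, huniv₁⟩ := hH₁
  -- the henselian ideal of H₂
  set J₂ : Ideal H₂ := (I.map (algebraMap A (Localization.Away f₂))).map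
    (algebraMap (Localization.Away f₂) H₂) with hJ₂
  have hJ₂' : J₂ = I.map (algebraMap A H₂) := by
    rw [hJ₂, Ideal.map_map, ← IsScalarTower.algebraMap_eq]
  -- f₂ ^ n ∈ I ⊔ span {f₁}
  have hrad : f₂ ∈ (I ⊔ Ideal.span {f₁}).radical := by
    have hsub : PrimeSpectrum.zeroLocus ((I ⊔ Ideal.span {f₁} : Ideal A) : Set A) ⊆
        PrimeSpectrum.zeroLocus ((Ideal.span {f₂} : Ideal A) : Set A) := by
      intro p hp
      rw [PrimeSpectrum.mem_zeroLocus, SetLike.coe_subset_coe] at hp ⊢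
      have hI : I ≤ p.asIdeal := le_sup_left.trans hp
      have hf₁ : f₁ ∈ p.asIdeal := hp (Ideal.mem_sup_right (Ideal.mem_span_singleton_self f₁))
      rw [Ideal.span_singleton_le_iff_mem]
      by_contra hf₂
      have hmem : p ∈ (PrimeSpectrum.basicOpen f₂ : Set (PrimeSpectrum A)) ∩
          PrimeSpectrum.zeroLocus (I : Set A) := ⟨hf₂, by
            rw [PrimeSpectrum.mem_zeroLocus, SetLike.coe_subset_coe]; exact hI⟩
      exact (h hmem).1 hf₁
    rw [PrimeSpectrum.zeroLocus_subset_zeroLocus_iff] at hsub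
    exact hsub (Ideal.mem_span_singleton_self f₂)
  obtain ⟨n, hn⟩ := hrad
  obtain ⟨i, hi, y, hy, hiy⟩ := Submodule.mem_sup.1 hn
  obtain ⟨c, rfl⟩ := Ideal.mem_span_singleton'.1 hy
  -- f₂ is a unit in H₂
  have hu₂ : IsUnit (algebraMap A H₂ f₂) := by
    rw [IsScalarTower.algebraMap_apply A (Localization.Away f₂) H₂]
    exact (IsLocalization.Away.algebraMap_isUnit f₂).map _
  -- f₁ is a unit in H₂
  have hu₁ : IsUnit (algebraMap A H₂ f₁) := by
    obtain ⟨u, hu⟩ := hu₂
    have hiJ : algebraMap A H₂ i ∈ J₂ := by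
      rw [hJ₂']; exact Ideal.mem_map_of_mem _ hi
    have hjac := hHens₂.jac
    have key : algebraMap A H₂ (c * f₁) * ↑(u ^ n)⁻¹ =
        (-(algebraMap A H₂ i)) * ↑(u ^ n)⁻¹ + 1 := by
      have h1 : algebraMap A H₂ i + algebraMap A H₂ (c * f₁) = ↑(u ^ n) := by
        rw [← map_add, hiy, map_pow, ← hu, Units.val_pow_eq_pow_val]
      have h2 : algebraMap A H₂ (c * f₁) = ↑(u ^ n) - algebraMap A H₂ i := by
        rw [← h1]; ring
      rw [h2, sub_mul, Units.mul_inv]
      ring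
    have hunit : IsUnit (algebraMap A H₂ (c * f₁) * ↑(u ^ n)⁻¹) := by
      rw [key]
      exact Ideal.mem_jacobson_bot.1 (hjac (J₂.neg_mem hiJ)) _
    have hunit' : IsUnit (algebraMap A H₂ (c * f₁)) := by
      have := hunit.mul (u ^ n).isUnit
      rwa [mul_assoc, Units.inv_mul, mul_one] at this
    rw [map_mul] at hunit'
    exact isUnit_of_mul_isUnit_right hunit'
  -- the map A_{f₁} → H₂
  let g₀ : Localization.Away f₁ →+* H₂ := IsLocalization.Away.lift f₁ hu₁
  have hg₀ : g₀.comp (algebraMap A (Localization.Away f₁)) = algebraMap A H₂ :=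
    IsLocalization.Away.lift_comp f₁ hu₁
  have hmap : (I.map (algebraMap A (Localization.Away f₁))).map g₀ ≤ J₂ := by
    rw [Ideal.map_map, hg₀, hJ₂']
  obtain ⟨g, hg, hguniq⟩ := huniv₁ H₂ J₂ g₀ hHens₂ hmap
  have hgA : ∀ a : A, g (algebraMap A H₁ a) = algebraMap A H₂ a := by
    intro a
    rw [IsScalarTower.algebraMap_apply A (Localization.Away f₁) H₁, ← RingHom.comp_apply, hg,
      ← RingHom.comp_apply, hg₀]
  refine ⟨⟨{ g with commutes' := hgA }⟩, ⟨fun ψ₁ ψ₂ => ?_⟩⟩
  have hψ : ∀ ψ : H₁ →ₐ[A] H₂, (ψ : H₁ →+* H₂) = g := by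
    intro ψ
    apply hguniq
    apply IsLocalization.ringHom_ext (Submonoid.powers f₁)
    rw [RingHom.comp_assoc, ← IsScalarTower.algebraMap_eq, hg₀]
    ext a
    simp
  apply AlgHom.coe_ringHom_injective
  rw [hψ ψ₁, hψ ψ₂]

end Groth.Agent.S17605
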