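import Groth.Statements.S17608
import Groth.Agent.H3.PH12

set_option autoImplicit false
universe u
open Hensel

namespace Groth.Agent.S17608

/-- Let (A, I) be a Henselian pair, let B be a Henselization of the pair (R, IR) for a finitely
presented A-algebra R, and let C be a Henselization of the pair (S, IS) for a finitely presented
B-algebra S, all algebra structures being compatible (so A → B and B → C are Henselian finitely
presented maps of Henselian pairs). Then the composite A → C is Henselian finitely presented: there
are a finitely presented A-algebra T and a T-algebra structure on C compatible with that of A for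
which C is a Henselization of the pair (T, IT). -/
theorem result (A : Type u) [CommRing A] (I : Ideal A) [HenselianRing A I]
    (R : Type u) [CommRing R] [Algebra A R] [Algebra.FinitePresentation A R]
    (B : Type u) [CommRing B] [Algebra R B] [Algebra A B] [IsScalarTower A R B]
    (hB : Hens2.IsPairHenselization R (I.map (algebraMap A R)) B)
    (S : Type u) [CommRing S] [Algebra B S] [Algebra A S] [IsScalarTower A B S] [Algebra.FinitePresentation B S]
    (C : Type u) [CommRing C] [Algebra S C] [Algebra B C] [Algebra A C] [IsScalarTower B S C]
    [IsScalarTower A B C]
    (hC : Hens2.IsPairHenselization S (I.map (algebraMap A S)) C) :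
    ∃ (T : Type u) (_ : CommRing T) (_ : Algebra A T) (_ : Algebra T C) (_ : IsScalarTower A T C),
      Algebra.FinitePresentation A T ∧ Hens2.IsPairHenselization T (I.map (algebraMap A T)) C := by
  have hid : ((I.map (algebraMap A R)).map (algebraMap R B)).map (algebraMap B S) =
      I.map (algebraMap A S) := by
    rw [Ideal.map_map, Ideal.map_map, RingHom.comp_assoc, ← IsScalarTower.algebraMap_eq A R B,
      ← IsScalarTower.algebraMap_eq A B S]
  have hC' : Hens2.IsPairHenselization S
      (((I.map (algebraMap A R)).map (algebraMap R B)).map (algebraMap B S)) C := by
    rw [hid]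
    exact hC
  obtain ⟨T, iT1, iT2, iT3, θ, hθR, hT⟩ :=
    Groth.Agent.H3.PH.exists_fp_descent (I.map (algebraMap A R)) B hB S C hC'
  letI : Algebra A T := ((algebraMap R T).comp (algebraMap A R)).toAlgebra
  haveI : IsScalarTower A R T := IsScalarTower.of_algebraMap_eq (fun _ => rfl)
  haveI : Algebra.FinitePresentation A T := Algebra.FinitePresentation.trans A R T
  letI : Algebra T C := ((algebraMap S C).comp θ).toAlgebra
  haveI : IsScalarTower A T C := IsScalarTower.of_algebraMap_eq (fun a => by
    show algebraMap A C a = algebraMap S C (θ (algebraMap R T (algebraMap A R a)))
    rw [hθR, ← IsScalarTower.algebraMap_apply A R B, ← IsScalarTower.algebraMap_apply B S C,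
      ← IsScalarTower.algebraMap_apply A B C])
  have hid2 : (I.map (algebraMap A R)).map (algebraMap R T) = I.map (algebraMap A T) := by
    rw [Ideal.map_map]
    rfl
  rw [hid2] at hT
  exact ⟨T, inferInstance, inferInstance, inferInstance, inferInstance, inferInstance, hT⟩

end Groth.Agent.S17608
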