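import Groth.Statements.S17617
import Mathlib
import Groth.Agent.H13.HensExact

set_option autoImplicit false
universe u
open Hensel

namespace Groth.Agent.S17617

/-- Let (A, I) be a Henselian pair and let M' → M → M'' be A-linear maps with zero composite. Then M' →
M → M'' is exact if and only if for every prime ideal p of A containing I and every Henselization H
of the pair (A_p, IA_p), the sequence H ⊗_A M' → H ⊗_A M → H ⊗_A M'' is exact. (The modules H ⊗_A M
are the stalks at p of the sheaf associated to M on the affine Henselian scheme of (A, I), and
exactness of a sequence of such sheaves is exactness at every stalk, so this is the statement that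
the sequence of modules is exact exactly when the associated sequence of sheaves is.) -/
theorem result (A : Type u) [CommRing A]
    (I : Ideal A) [HenselianRing A I]
    (M' M M'' : Type u) [AddCommGroup M'] [Module A M'] [AddCommGroup M] [Module A M]
    [AddCommGroup M''] [Module A M''] (f : M' →ₗ[A] M) (g : M →ₗ[A] M'') (hfg : g.comp f = 0) :
    Function.Exact f g ↔
    ∀ (p : Ideal A) [p.IsPrime], I ≤ p →
      ∀ (H : Type u) [CommRing H] [Algebra (Localization.AtPrime p) H] [Algebra A H]
        [IsScalarTower A (Localization.AtPrime p) H],
        Hens2.IsPairHenselization (Localization.AtPrime p)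
          (I.map (algebraMap A (Localization.AtPrime p))) H →
        Function.Exact (f.baseChange H) (g.baseChange H) := by
  classical
  constructor
  · intro hex p _ hIp H _ _ _ _ hH
    haveI : Module.Flat (Localization.AtPrime p) H :=
      Groth.Agent.H3.PH.flat_of_isPairHenselization _ H hH
    haveI : Module.Flat A H := Module.Flat.trans A (Localization.AtPrime p) H
    exact Module.Flat.lTensor_exact H hex
  · intro hyp y
    constructor
    · intro hy
      by_contra hcon
      have hne : (LinearMap.range f).comap (LinearMap.toSpanSingleton A M y) ≠ ⊤ := by
        intro h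
        apply hcon
        have h1 : (1 : A) ∈ (LinearMap.range f).comap (LinearMap.toSpanSingleton A M y) :=
          h ▸ Submodule.mem_top
        have h2 : (1 : A) • y ∈ LinearMap.range f := h1
        rwa [one_smul] at h2
      obtain ⟨m, hm, h𝔠m⟩ := Ideal.exists_le_maximal _ hne
      haveI := hm.isPrime
      have hIm : I ≤ m :=
        (HenselianRing.jac (R := A) (I := I)).trans (sInf_le ⟨bot_le, hm⟩)
      letI : Algebra A (Groth.Agent.H3.PH.H (Localization.AtPrime m)
          (Localization.AtPrime m ⧸ I.map (algebraMap A (Localization.AtPrime m)))) :=
        ((algebraMap (Localization.AtPrime m) (Groth.Agent.H3.PH.H (Localization.AtPrime m)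
          (Localization.AtPrime m ⧸ I.map (algebraMap A (Localization.AtPrime m))))).comp
          (algebraMap A (Localization.AtPrime m))).toAlgebra
      haveI : IsScalarTower A (Localization.AtPrime m) (Groth.Agent.H3.PH.H (Localization.AtPrime m)
          (Localization.AtPrime m ⧸ I.map (algebraMap A (Localization.AtPrime m)))) :=
        IsScalarTower.of_algebraMap_eq (fun _ => rfl)
      exact Groth.Agent.H13.HensExact.false_of_exact I f g m hIm
        (Groth.Agent.H3.PH.H (Localization.AtPrime m)
          (Localization.AtPrime m ⧸ I.map (algebraMap A (Localization.AtPrime m))))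
        (Groth.Agent.H3.PH.isPairHenselization_H _ _)
        (hyp m hIm _ (Groth.Agent.H3.PH.isPairHenselization_H _ _)) y hy _
        (fun a => Iff.rfl) h𝔠m
    · rintro ⟨z, rfl⟩
      exact LinearMap.congr_fun hfg z

end Groth.Agent.S17617
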