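import Groth.Statements.S17620


set_option autoImplicit false
universe u
open Hensel

namespace Groth.Agent.S17620

open IsLocalRing Polynomial in
/-- For a henselization `H` of the pair `(R, J)`, every element of `H` is congruent modulo `JH`
to an element coming from `R` (the subring `im R + JH` is again a henselian pair). -/
theorem exists_sub_mem (R : Type u) [CommRing R] (J : Ideal R)
    (H : Type u) [CommRing H] [Algebra R H]
    (hH : Hens2.IsPairHenselization R J H) (h : H) :
    ∃ r : R, h - algebraMap R H r ∈ J.map (algebraMap R H) := by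
  classical
  set JH : Ideal H := J.map (algebraMap R H) with hJH
  have hhens : HenselianRing H JH := hH.1
  let φ : R →+* H ⧸ JH := (Ideal.Quotient.mk JH).comp (algebraMap R H)
  let H'' : Subring H := Subring.comap (Ideal.Quotient.mk JH) φ.range
  have memH'' : ∀ x : H, x ∈ H'' ↔
      ∃ r : R, Ideal.Quotient.mk JH (algebraMap R H r) = Ideal.Quotient.mk JH x := by
    intro x
    simp only [H'', Subring.mem_comap, RingHom.mem_range, φ, RingHom.comp_apply]
  let J'' : Ideal H'' := Ideal.comap H''.subtype JH
  have hens'' : HenselianRing H'' J'' := by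
    refine ⟨?_, ?_⟩
    · intro x hx
      rw [Ideal.mem_jacobson_bot]
      intro y
      have hx' : (x : H) ∈ JH := hx
      have hxy : (x : H) * (y : H) ∈ JH := JH.mul_mem_right _ hx'
      have hu : IsUnit ((x : H) * (y : H) + 1) := by
        have := hhens.jac hxy
        rw [Ideal.mem_jacobson_bot] at this
        simpa using this 1
      obtain ⟨u, hu'⟩ := hu
      have h1 : ((x : H) * (y : H) + 1) * ((u⁻¹ : Hˣ) : H) = 1 := by
        rw [← hu']; exact u.mul_inv
      have hinv : ((u⁻¹ : Hˣ) : H) ∈ H'' := by
        rw [memH'']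
        refine ⟨1, ?_⟩
        rw [map_one, Ideal.Quotient.eq]
        have : (1 : H) - ((u⁻¹ : Hˣ) : H) = (x : H) * (y : H) * ((u⁻¹ : Hˣ) : H) := by
          linear_combination (-1 : H) * h1
        rw [this]
        exact JH.mul_mem_right _ hxy
      refine isUnit_iff_exists_inv.mpr ⟨⟨_, hinv⟩, Subtype.ext ?_⟩
      push_cast
      exact h1
    · intro f hf a₀ h₁ h₂
      have hF : (f.map H''.subtype).Monic := hf.map _
      have e1 : (f.map H''.subtype).eval (a₀ : H) = ((f.eval a₀ : H'') : H) :=
        Polynomial.eval_map_apply H''.subtype a₀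
      have e1' : (f.map H''.subtype).derivative.eval (a₀ : H) = ((f.derivative.eval a₀ : H'') : H) := by
        rw [Polynomial.derivative_map]
        exact Polynomial.eval_map_apply H''.subtype a₀
      let ψ : H'' ⧸ J'' →+* H ⧸ JH := Ideal.quotientMap JH H''.subtype le_rfl
      have hunit : IsUnit (Ideal.Quotient.mk JH ((f.map H''.subtype).derivative.eval (a₀ : H))) := by
        have := h₂.map ψ
        rw [e1']
        simpa [ψ, Ideal.quotientMap_mk] using this
      have h₁' : (f.map H''.subtype).eval (a₀ : H) ∈ JH := by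
        rw [e1]; exact h₁
      obtain ⟨a, ha, haa⟩ := hhens.is_henselian (f.map H''.subtype) hF (a₀ : H) h₁' hunit
      have haH : a ∈ H'' := by
        rw [memH'']
        obtain ⟨r, hr⟩ := (memH'' a₀).1 a₀.2
        refine ⟨r, hr.trans ?_⟩
        rw [Ideal.Quotient.eq]
        have := JH.neg_mem haa
        simpa using this
      refine ⟨⟨a, haH⟩, ?_, ?_⟩
      · have e2 : ((f.eval (⟨a, haH⟩ : H'') : H'') : H) = (f.map H''.subtype).eval a :=
          (Polynomial.eval_map_apply H''.subtype (⟨a, haH⟩ : H'')).symm
        exact Subtype.ext (e2.trans ha)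
      · show H''.subtype ((⟨a, haH⟩ : H'') - a₀) ∈ JH
        rw [map_sub]
        exact haa
  let f₀ : R →+* H'' := (algebraMap R H).codRestrict H'' (fun r => (memH'' _).2 ⟨r, rfl⟩)
  have hf₀ : J.map f₀ ≤ J'' := by
    rw [Ideal.map_le_iff_le_comap]
    intro j hj
    show H''.subtype (f₀ j) ∈ JH
    exact Ideal.mem_map_of_mem _ hj
  obtain ⟨g, hg, -⟩ := hH.2 H'' J'' f₀ hens'' hf₀
  have huniq := hH.2 H JH (algebraMap R H) hhens le_rfl
  have h1 : (H''.subtype.comp g).comp (algebraMap R H) = algebraMap R H := by
    rw [RingHom.comp_assoc, hg]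
    ext r
    rfl
  have h2 : (RingHom.id H).comp (algebraMap R H) = algebraMap R H := RingHom.id_comp _
  have h3 : H''.subtype.comp g = RingHom.id H := huniq.unique h1 h2
  have hmem : h ∈ H'' := by
    have := RingHom.congr_fun h3 h
    simp only [RingHom.comp_apply, RingHom.id_apply] at this
    rw [← this]
    exact (g h).2
  obtain ⟨r, hr⟩ := (memH'' h).1 hmem
  refine ⟨r, ?_⟩
  rw [← Ideal.Quotient.eq]
  exact hr.symm

/-- Let R be a local ring and J an ideal of R contained in the maximal ideal, let H be a Henselization
of the pair (R, J) which is a local ring with local structure map R → H, and let S be a strict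
Henselization of the local ring H. Then S, with its composite R-algebra structure, is a strict
Henselization of the local ring R. (This is the identification of the strict Henselization of the
local ring of a scheme at a point with that of the local ring of its Henselization along a closed
subscheme through the point.) -/
theorem result
    (R : Type u) [CommRing R] [IsLocalRing R] (J : Ideal R) (hJ : J ≤ IsLocalRing.maximalIdeal R)
    (H : Type u) [CommRing H] [IsLocalRing H] [Algebra R H] [IsLocalHom (algebraMap R H)]
    (hH : Hens2.IsPairHenselization R J H)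
    (S : Type u) [CommRing S] [IsLocalRing S] [Algebra H S] [IsLocalHom (algebraMap H S)]
    [Hensel.IsStrictHenselization H S]
    [Algebra R S] [IsScalarTower R H S] [IsLocalHom (algebraMap R S)] :
    Hensel.IsStrictHenselization R S := by
  classical
  have hS : Hensel.IsStrictHenselization H S := inferInstance
  have hsurj : ∀ h : H, ∃ r : R, h - algebraMap R H r ∈ J.map (algebraMap R H) :=
    exists_sub_mem R J H hH
  have hJH : J.map (algebraMap R H) ≤ IsLocalRing.maximalIdeal H := by
    rw [Ideal.map_le_iff_le_comap]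
    intro j hj
    rw [Ideal.mem_comap, IsLocalRing.mem_maximalIdeal, map_mem_nonunits_iff,
      ← IsLocalRing.mem_maximalIdeal]
    exact hJ hj
  have hres : ∀ y : IsLocalRing.ResidueField H,
      ∃ r : R, IsLocalRing.residue H (algebraMap R H r) = y := by
    intro y
    obtain ⟨h, rfl⟩ := IsLocalRing.residue_surjective y
    obtain ⟨r, hr⟩ := hsurj h
    refine ⟨r, ?_⟩
    symm
    rw [← sub_eq_zero, ← map_sub, IsLocalRing.residue_eq_zero_iff]
    exact hJH hr
  have hsep : IsSepClosure (IsLocalRing.ResidueField R) (IsLocalRing.ResidueField S) := by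
    have h0 := hS.isSepClosure
    haveI : Algebra.IsSeparable (IsLocalRing.ResidueField H) (IsLocalRing.ResidueField S) :=
      h0.separable
    haveI : Algebra.IsSeparable (IsLocalRing.ResidueField R) (IsLocalRing.ResidueField H) :=
      ⟨fun y => by
        obtain ⟨r, rfl⟩ := hres y
        rw [← IsLocalRing.ResidueField.algebraMap_residue]
        exact isSeparable_algebraMap _⟩
    exact ⟨h0.sep_closed, Algebra.IsSeparable.trans (IsLocalRing.ResidueField R)
      (IsLocalRing.ResidueField H) (IsLocalRing.ResidueField S)⟩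
  refine ⟨hS.henselian, hsep, ?_⟩
  intro T _ _ f _ τ hτ
  have hfJ : J.map f ≤ IsLocalRing.maximalIdeal T := by
    rw [Ideal.map_le_iff_le_comap]
    intro j hj
    rw [Ideal.mem_comap, IsLocalRing.mem_maximalIdeal, map_mem_nonunits_iff,
      ← IsLocalRing.mem_maximalIdeal]
    exact hJ hj
  obtain ⟨g₁, hg₁, hg₁u⟩ := hH.2 T (IsLocalRing.maximalIdeal T) f inferInstance hfJ
  have hfr : ∀ r : R, g₁ (algebraMap R H r) = f r := fun r => RingHom.congr_fun hg₁ r
  haveI hg₁loc : IsLocalHom g₁ := by
    refine ⟨fun h hh => ?_⟩
    by_contra hnu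
    have hm : h ∈ IsLocalRing.maximalIdeal H := (IsLocalRing.mem_maximalIdeal h).2 hnu
    obtain ⟨r, hr⟩ := hsurj h
    have hr' : algebraMap R H r ∈ IsLocalRing.maximalIdeal H := by
      have := (IsLocalRing.maximalIdeal H).sub_mem hm (hJH hr)
      simpa using this
    have hrm : r ∈ IsLocalRing.maximalIdeal R := by
      rw [IsLocalRing.mem_maximalIdeal, map_mem_nonunits_iff,
        ← IsLocalRing.mem_maximalIdeal] at hr'
      exact hr'
    have h1 : f r ∈ IsLocalRing.maximalIdeal T := by
      rw [IsLocalRing.mem_maximalIdeal, map_mem_nonunits_iff, ← IsLocalRing.mem_maximalIdeal]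
      exact hrm
    have h2 : g₁ (h - algebraMap R H r) ∈ IsLocalRing.maximalIdeal T := by
      have : (J.map (algebraMap R H)).map g₁ ≤ IsLocalRing.maximalIdeal T := by
        rw [Ideal.map_map, hg₁]
        exact hfJ
      exact this (Ideal.mem_map_of_mem _ hr)
    have h3 : g₁ h ∈ IsLocalRing.maximalIdeal T := by
      have e : g₁ h = g₁ (h - algebraMap R H r) + f r := by
        rw [map_sub, hfr]
        ring
      rw [e]
      exact (IsLocalRing.maximalIdeal T).add_mem h2 h1
    exact (IsLocalRing.mem_maximalIdeal _).1 h3 hh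
  have hτ₁ : τ.comp (IsLocalRing.ResidueField.map (algebraMap H S)) =
      IsLocalRing.ResidueField.map g₁ := by
    apply RingHom.ext
    intro y
    obtain ⟨r, rfl⟩ := hres y
    have e1 : τ (IsLocalRing.residue S (algebraMap R S r)) = IsLocalRing.residue T (f r) := by
      have := RingHom.congr_fun hτ (IsLocalRing.residue R r)
      rwa [RingHom.comp_apply, IsLocalRing.ResidueField.map_residue,
        IsLocalRing.ResidueField.map_residue] at this
    rw [RingHom.comp_apply, IsLocalRing.ResidueField.map_residue,
      IsLocalRing.ResidueField.map_residue, ← IsScalarTower.algebraMap_apply, hfr]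
    exact e1
  obtain ⟨g, ⟨hg, hgres⟩, hgu⟩ := hS.universal T g₁ τ hτ₁
  refine ⟨g, ⟨?_, hgres⟩, ?_⟩
  · rw [IsScalarTower.algebraMap_eq R H S, ← RingHom.comp_assoc, hg, hg₁]
  · rintro g' ⟨hg', hg'res⟩
    refine hgu g' ⟨?_, hg'res⟩
    refine hg₁u _ ?_
    show (g'.comp (algebraMap H S)).comp (algebraMap R H) = f
    rw [RingHom.comp_assoc, ← IsScalarTower.algebraMap_eq R H S]
    exact hg'

end Groth.Agent.S17620
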