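import Groth.Statements.S17635
import Mathlib.Tactic

set_option autoImplicit false
open Finset
open Variety

namespace Groth.Agent.S17635

/-- sup norm of the real image of a rational vector -/
private noncomputable def nrm {r : ℕ} (v : Fin r → ℚ) : ℝ := ‖(fun j => ((v j : ℚ) : ℝ))‖

private theorem nrm_nonneg {r : ℕ} (v : Fin r → ℚ) : 0 ≤ nrm v := norm_nonneg _

private theorem abs_coord_le {r : ℕ} (v : Fin r → ℚ) (j : Fin r) : |((v j : ℚ) : ℝ)| ≤ nrm v := by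
  have h := norm_le_pi_norm (fun j => ((v j : ℚ) : ℝ)) j
  rw [Real.norm_eq_abs] at h
  exact h

private theorem nrm_le {r : ℕ} (v : Fin r → ℚ) {M : ℝ} (hM : 0 ≤ M)
    (h : ∀ j, |((v j : ℚ) : ℝ)| ≤ M) : nrm v ≤ M := by
  unfold nrm
  rw [pi_norm_le_iff_of_nonneg hM]
  intro j
  rw [Real.norm_eq_abs]
  exact h j

private theorem nrm_nsmul {r : ℕ} (N : ℕ) (v : Fin r → ℚ) :
    nrm ((N : ℚ) • v) = (N : ℝ) * nrm v := by
  unfold nrm
  have : (fun j => ((((N : ℚ) • v) j : ℚ) : ℝ)) = (N : ℝ) • (fun j => ((v j : ℚ) : ℝ)) := by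
    funext j
    simp [Pi.smul_apply, smul_eq_mul]
  rw [this, norm_smul, Real.norm_eq_abs, abs_of_nonneg (Nat.cast_nonneg N)]

private theorem hdirQ {r n : ℕ} (f : (Fin r → ℚ) → ℝ)
    (hhom : ∀ (q : ℚ) (v : Fin r → ℚ), 0 < q → f (q • v) = (q : ℝ) ^ n * f v)
    (i : Fin r) (Ci : ℝ)
    (hCi : ∀ (v : Fin r → ℚ) (b : ℕ), 1 ≤ b →
      |f (v - (b : ℚ) • Pi.single i 1) - f v| ≤
        Ci * (Finset.Icc 1 n).sum (fun q => nrm v ^ (n - q) * (b : ℝ) ^ q))
    (v : Fin r → ℚ) (b : ℚ) (hb : 0 < b) :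
    |f (v - b • Pi.single i 1) - f v| ≤
      Ci * (Finset.Icc 1 n).sum (fun q => nrm v ^ (n - q) * (b : ℝ) ^ q) := by
  obtain ⟨N, a, hN, ha, hNb⟩ : ∃ N a : ℕ, 0 < N ∧ 1 ≤ a ∧ (N : ℚ) * b = (a : ℚ) := by
    have hnum : 0 < b.num := Rat.num_pos.mpr hb
    refine ⟨b.den, b.num.toNat, b.den_pos, by omega, ?_⟩
    have h2 : ((b.num.toNat : ℕ) : ℤ) = b.num := Int.toNat_of_nonneg hnum.le
    have h3 : ((b.num.toNat : ℕ) : ℚ) = (b.num : ℚ) := by
      rw [← Int.cast_natCast, h2]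
    have hden : (b.den : ℚ) ≠ 0 := by exact_mod_cast b.den_pos.ne'
    rw [h3]
    calc (b.den : ℚ) * b = (b.den : ℚ) * ((b.num : ℚ) / (b.den : ℚ)) := by rw [Rat.num_div_den]
      _ = (b.num : ℚ) := by field_simp
  have hNpos : (0 : ℚ) < (N : ℚ) := by exact_mod_cast hN
  have hNR : (0 : ℝ) < (N : ℝ) := by exact_mod_cast hN
  have e1 : (N : ℚ) • (v - b • Pi.single i 1) = (N : ℚ) • v - (a : ℚ) • Pi.single i 1 := by
    rw [smul_sub, smul_smul, hNb]
  have h1 := hhom (N : ℚ) (v - b • Pi.single i 1) hNpos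
  have h2 := hhom (N : ℚ) v hNpos
  have h3 := hCi ((N : ℚ) • v) a ha
  have hcast : ((N : ℚ) : ℝ) = (N : ℝ) := by simp
  rw [← e1, h1, h2, nrm_nsmul, hcast] at h3
  have haR : (a : ℝ) = (N : ℝ) * (b : ℝ) := by
    have h : (((N : ℚ) * b : ℚ) : ℝ) = ((a : ℚ) : ℝ) := by rw [hNb]
    push_cast at h
    linarith
  have hsum : (Finset.Icc 1 n).sum (fun q => ((N : ℝ) * nrm v) ^ (n - q) * (a : ℝ) ^ q) =
      (N : ℝ) ^ n * (Finset.Icc 1 n).sum (fun q => nrm v ^ (n - q) * (b : ℝ) ^ q) := by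
    rw [Finset.mul_sum]
    apply Finset.sum_congr rfl
    intro q hq
    have hq' : q ≤ n := (Finset.mem_Icc.mp hq).2
    rw [haR, mul_pow, mul_pow]
    have : (N : ℝ) ^ n = (N : ℝ) ^ (n - q) * (N : ℝ) ^ q := by
      rw [← pow_add, Nat.sub_add_cancel hq']
    rw [this]; ring
  rw [hsum, ← mul_sub, abs_mul, abs_of_pos (pow_pos hNR n), mul_left_comm] at h3
  exact le_of_mul_le_mul_left h3 (pow_pos hNR n)

private theorem step_bound {r n : ℕ} (f : (Fin r → ℚ) → ℝ) (i : Fin r) (Ci : ℝ)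
    (hCi : ∀ (v : Fin r → ℚ) (b : ℚ), 0 < b → |f (v - b • Pi.single i 1) - f v| ≤
      Ci * (Finset.Icc 1 n).sum (fun q => nrm v ^ (n - q) * (b : ℝ) ^ q))
    (x y : Fin r → ℚ) (d : ℚ) (hxy : y = x + d • Pi.single i 1) (M D : ℝ)
    (hx : nrm x ≤ M) (hy : nrm y ≤ M) (hd : |(d : ℝ)| ≤ D) :
    |f y - f x| ≤ |Ci| * (Finset.Icc 1 n).sum (fun q => M ^ (n - q) * D ^ q) := by
  have hM0 : 0 ≤ M := le_trans (nrm_nonneg x) hx
  have hD0 : 0 ≤ D := le_trans (abs_nonneg _) hd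
  have hS0 : 0 ≤ (Finset.Icc 1 n).sum (fun q => M ^ (n - q) * D ^ q) :=
    Finset.sum_nonneg (fun q _ => mul_nonneg (pow_nonneg hM0 _) (pow_nonneg hD0 _))
  have mono : ∀ (z : Fin r → ℚ) (b : ℝ), nrm z ≤ M → 0 ≤ b → b ≤ D →
      Ci * (Finset.Icc 1 n).sum (fun q => nrm z ^ (n - q) * b ^ q) ≤
        |Ci| * (Finset.Icc 1 n).sum (fun q => M ^ (n - q) * D ^ q) := by
    intro z b hz hb0 hbD
    have hT0 : 0 ≤ (Finset.Icc 1 n).sum (fun q => nrm z ^ (n - q) * b ^ q) :=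
      Finset.sum_nonneg (fun q _ => mul_nonneg (pow_nonneg (nrm_nonneg z) _) (pow_nonneg hb0 _))
    have hTS : (Finset.Icc 1 n).sum (fun q => nrm z ^ (n - q) * b ^ q) ≤
        (Finset.Icc 1 n).sum (fun q => M ^ (n - q) * D ^ q) := by
      apply Finset.sum_le_sum
      intro q _
      exact mul_le_mul (pow_le_pow_left₀ (nrm_nonneg z) hz _) (pow_le_pow_left₀ hb0 hbD _)
        (pow_nonneg hb0 _) (pow_nonneg hM0 _)
    exact mul_le_mul (le_abs_self _) hTS hT0 (abs_nonneg _)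
  rcases lt_trichotomy d 0 with hd' | hd' | hd'
  · have e : y = x - (-d) • Pi.single i 1 := by rw [hxy, neg_smul, sub_neg_eq_add]
    have hdR : (d : ℝ) < 0 := by exact_mod_cast hd'
    rw [e]
    refine le_trans (hCi x (-d) (by linarith)) (mono x (((-d : ℚ)) : ℝ) hx ?_ ?_)
    · push_cast; linarith
    · push_cast; rw [abs_of_neg hdR] at hd; exact hd
  · subst hd'
    have e : y = x := by rw [hxy, zero_smul, add_zero]
    rw [e, sub_self, abs_zero]
    exact mul_nonneg (abs_nonneg _) hS0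
  · have e : x = y - d • Pi.single i 1 := by rw [hxy, add_sub_cancel_right]
    have hdR : (0 : ℝ) < (d : ℝ) := by exact_mod_cast hd'
    rw [abs_sub_comm]
    have h1 := hCi y d hd'
    rw [← e] at h1
    refine le_trans h1 (mono y (d : ℝ) hy hdR.le ?_)
    rw [abs_of_pos hdR] at hd; exact hd

/-- Let r and n be natural numbers and f : ℚ^r → ℝ a nonnegative function which is homogeneous of degree
n for positive rational scalars, f(q · v) = q^n · f(v) for q > 0; give ℚ^r the maximum norm ‖v‖ =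
max_j |v_j| of its standard basis. Suppose that for every standard basis vector e_i there is a
constant C_i with |f(v − b · e_i) − f(v)| ≤ C_i · Σ_{q=1}^{n} ‖v‖^{n−q} · b^q for all v ∈ ℚ^r and
all integers b ≥ 1. Then there is a constant C > 0 such that |f(v) − f(w)| ≤ C · Σ_{q=1}^{n}
max(‖v‖, ‖w‖)^{n−q} · ‖v − w‖^q for all v, w ∈ ℚ^r. (The source allows any norm on an r-dimensional
rational vector space with a chosen basis and argues with the maximum norm of that basis, which is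
the case stated here.) -/
theorem result (r n : ℕ) (f : (Fin r → ℚ) → ℝ)
    (hf0 : ∀ v, 0 ≤ f v)
    (hhom : ∀ (q : ℚ) (v : Fin r → ℚ), 0 < q → f (q • v) = (q : ℝ) ^ n * f v)
    (hdir : ∀ i : Fin r, ∃ Ci : ℝ, ∀ (v : Fin r → ℚ) (b : ℕ), 1 ≤ b →
      |f (v - (b : ℚ) • Pi.single i 1) - f v| ≤
        Ci * (Finset.Icc 1 n).sum (fun q => ‖(fun j => ((v j : ℚ) : ℝ))‖ ^ (n - q) * (b : ℝ) ^ q)) :
    ∃ C : ℝ, 0 < C ∧ ∀ v w : Fin r → ℚ,
      |f v - f w| ≤ C * (Finset.Icc 1 n).sum (fun q =>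
        (max ‖(fun j => ((v j : ℚ) : ℝ))‖ ‖(fun j => ((w j : ℚ) : ℝ))‖) ^ (n - q) *
          ‖(fun j => ((v j - w j : ℚ) : ℝ))‖ ^ q) := by
  have hdir' : ∀ i : Fin r, ∃ Ci : ℝ, ∀ (v : Fin r → ℚ) (b : ℚ), 0 < b →
      |f (v - b • Pi.single i 1) - f v| ≤
        Ci * (Finset.Icc 1 n).sum (fun q => nrm v ^ (n - q) * (b : ℝ) ^ q) := by
    intro i
    obtain ⟨Ci, hCi⟩ := hdir i
    exact ⟨Ci, fun v b hb => hdirQ f hhom i Ci hCi v b hb⟩
  choose Cs hCs using hdir'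
  refine ⟨1 + ∑ i, |Cs i|,
    add_pos_of_pos_of_nonneg one_pos (Finset.sum_nonneg (fun i _ => abs_nonneg _)), ?_⟩
  intro v w
  have key : |f v - f w| ≤ (1 + ∑ i, |Cs i|) * (Finset.Icc 1 n).sum (fun q =>
      (max (nrm v) (nrm w)) ^ (n - q) * (nrm (v - w)) ^ q) := by
    set M := max (nrm v) (nrm w) with hM
    set D := nrm (v - w) with hD
    have hM0 : 0 ≤ M := le_trans (nrm_nonneg v) (le_max_left _ _)
    have hD0 : 0 ≤ D := nrm_nonneg _
    have hS0 : 0 ≤ (Finset.Icc 1 n).sum (fun q => M ^ (n - q) * D ^ q) :=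
      Finset.sum_nonneg (fun q _ => mul_nonneg (pow_nonneg hM0 _) (pow_nonneg hD0 _))
    let u : ℕ → (Fin r → ℚ) := fun k j => if (j : ℕ) < k then v j else w j
    have hu0 : u 0 = w := by
      funext j
      simp [u]
    have hur : u r = v := by
      funext j
      simp [u, j.isLt]
    have hu_le : ∀ k, nrm (u k) ≤ M := by
      intro k
      apply nrm_le _ hM0
      intro j
      by_cases h : (j : ℕ) < k
      · simp only [u, if_pos h]
        exact le_trans (abs_coord_le v j) (le_max_left _ _)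
      · simp only [u, if_neg h]
        exact le_trans (abs_coord_le w j) (le_max_right _ _)
    have hu_succ : ∀ i : Fin r, u ((i : ℕ) + 1) = u (i : ℕ) + (v i - w i) • Pi.single i 1 := by
      intro i
      funext j
      simp only [u, Pi.add_apply, Pi.smul_apply, smul_eq_mul]
      by_cases hji : j = i
      · subst hji
        simp
      · have hne : (j : ℕ) ≠ (i : ℕ) := fun h => hji (Fin.ext h)
        rw [Pi.single_eq_of_ne hji, mul_zero, add_zero]
        by_cases hlt : (j : ℕ) < (i : ℕ)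
        · have h' : (j : ℕ) < (i : ℕ) + 1 := by omega
          rw [if_pos hlt, if_pos h']
        · have h' : ¬ (j : ℕ) < (i : ℕ) + 1 := by omega
          rw [if_neg hlt, if_neg h']
    have hdD : ∀ i : Fin r, |(((v i - w i : ℚ)) : ℝ)| ≤ D := fun i => abs_coord_le (v - w) i
    have hstep : ∀ i : Fin r, |f (u ((i : ℕ) + 1)) - f (u (i : ℕ))| ≤
        |Cs i| * (Finset.Icc 1 n).sum (fun q => M ^ (n - q) * D ^ q) := fun i =>
      step_bound f i (Cs i) (hCs i) (u i) (u ((i : ℕ) + 1)) (v i - w i) (hu_succ i) M D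
        (hu_le i) (hu_le ((i : ℕ) + 1)) (hdD i)
    have htel : f v - f w = ∑ i : Fin r, (f (u ((i : ℕ) + 1)) - f (u (i : ℕ))) := by
      rw [← Finset.sum_range (fun k => f (u (k + 1)) - f (u k)),
        Finset.sum_range_sub (fun k => f (u k)), hur, hu0]
    calc |f v - f w| = |∑ i : Fin r, (f (u ((i : ℕ) + 1)) - f (u (i : ℕ)))| := by rw [htel]
      _ ≤ ∑ i : Fin r, |f (u ((i : ℕ) + 1)) - f (u (i : ℕ))| := Finset.abs_sum_le_sum_abs _ _
      _ ≤ ∑ i : Fin r, |Cs i| * (Finset.Icc 1 n).sum (fun q => M ^ (n - q) * D ^ q) :=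
          Finset.sum_le_sum (fun i _ => hstep i)
      _ = (∑ i : Fin r, |Cs i|) * (Finset.Icc 1 n).sum (fun q => M ^ (n - q) * D ^ q) := by
          rw [Finset.sum_mul]
      _ ≤ (1 + ∑ i : Fin r, |Cs i|) * (Finset.Icc 1 n).sum (fun q => M ^ (n - q) * D ^ q) :=
          mul_le_mul_of_nonneg_right (by linarith) hS0
  exact key

end Groth.Agent.S17635
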