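import Groth.Statements.S17639
import Groth.Agent.H31.SuppAdj

set_option backward.isDefEq.respectTransparency false
set_option linter.style.haveILetI false
open Groth.Agent.H31.RpushRestrict Groth.Agent.H31.RpushSupport Groth.Agent.H31.OpenImmD
  Groth.Agent.H31.SuppEquiv Groth.Agent.H31.GammaZCore Groth.Agent.H31.SuppAdj

set_option autoImplicit false
universe u
open CategoryTheory CategoryTheory.Limits AlgebraicGeometry
attribute [local instance] HasDerivedCategory.standard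
open Dual3

namespace Groth.Agent.S17639

/-- Let f : X ⟶ Y be a separated morphism of finite type of Noetherian schemes, factored as f = f̄ ∘ j
with j : X ⟶ X̄ an open immersion and f̄ : X̄ ⟶ Y proper. Let Z ⊆ Y be a closed subset with open
complement U, and Z' ⊆ X a closed subset which is proper over Y and contained in f⁻¹(Z); such a Z'
has closed image in X̄, and it is given here as Z' = j⁻¹(X̄ ∖ W) for an open W ⊆ X̄ with X̄ ∖ W ⊆
j(X) and f⁻¹(U) ⊆ j⁻¹(W). Let Rf̄_* and Rj_* exist and preserve complexes with quasi-coherent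
cohomology, let a be a right adjoint of Rf̄_* on D_qc with its adjunction (whose counit is the trace
map of f̄), let an adjunction j^* ⊣ Rj_* be given, put f^!G = (a G)|_X, and let θ : RΓ_{Z'}(j^* aG)
⟶ j^*RΓ_{j(Z')}(aG) be the comparison morphism compatible with the two maps to j^*(aG), the unit
RΓ_{j(Z')}(aG) ⟶ Rj_* j^* RΓ_{j(Z')}(aG) being an isomorphism. Then for every F in D(O_X) with
quasi-coherent cohomology sheaves, bounded above and supported on Z', and every G in D_qc(O_Y),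
bounded below with cohomology supported on Z, the map sending φ : F ⟶ RΓ_{Z'}(f^!G) to the composite
Rf̄_* Rj_* F ⟶ Rf̄_* Rj_* RΓ_{Z'}(f^!G) ⟶ Rf̄_* Rj_* j^* RΓ_{j(Z')}(aG) ⟶ Rf̄_* RΓ_{j(Z')}(aG) ⟶
Rf̄_*(aG) ⟶ G (Rf̄_*Rj_* of φ and θ, inverse of the unit, the canonical map out of RΓ, the trace) is
a bijection from Hom(F, RΓ_{Z'} f^!G) onto Hom(Rf_* F, G), with Rf_* computed as Rf̄_* ∘ Rj_*: the
functor Rf_* is left adjoint to RΓ_{Z'} f^! on these objects. (Throughout, RΓ with support is the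
total right derived functor of the sheaf of sections supported in the closed subset. The published
statement derives instead the functor of sections killed by some power of a defining ideal; on
complexes with quasi-coherent cohomology sheaves over a Noetherian scheme the two derived functors
agree.) -/
theorem result {X Y : Scheme.{u}} [IsNoetherian X] [IsNoetherian Y]
    (f : X ⟶ Y) [IsSeparated f] [LocallyOfFiniteType f] (c : DEt.Compactification f)
    (U : Y.Opens) (W : c.Xbar.Opens) (hW : (W : Set c.Xbar)ᶜ ⊆ Set.range c.j.base) (hZ : f ⁻¹ᵁ U ≤ c.j ⁻¹ᵁ W)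
    [DCoh.HasRpush c.fbar] [DCoh.HasRpush c.j] (hfbar : DCoh.RpushPreservesQCoh c.fbar) (hj : DCoh.RpushPreservesQCoh c.j)
    (a : DCoh.DQCoh Y ⥤ DCoh.DQCoh c.Xbar) (adj : DCoh.RpushQ c.fbar hfbar ⊣ a)
    (adjj : DCoh.restrictD c.j ⊣ DCoh.Rpush c.j)
    [CxOX.HasRgammaZ W.ι] [CxOX.HasRgammaZ (c.j ⁻¹ᵁ W).ι]
    (G : DCoh.DQCoh Y) (n : ℤ) (hGn : DerivedCategory.IsGE G.obj n) (hGZ : CxOX.IsSuppD U.ι G.obj)
    (θ : (CxOX.RgammaZ (c.j ⁻¹ᵁ W).ι).obj ((Dual3.shriekC c a).obj G) ⟶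
      (DCoh.restrictD c.j).obj ((CxOX.RgammaZ W.ι).obj (a.obj G).obj))
    (hθ : θ ≫ (DCoh.restrictD c.j).map ((CxOX.RgammaZToId W.ι).app (a.obj G).obj) =
      (CxOX.RgammaZToId (c.j ⁻¹ᵁ W).ι).app ((Dual3.shriekC c a).obj G))
    [IsIso (adjj.unit.app ((CxOX.RgammaZ W.ι).obj (a.obj G).obj))]
    (F : DCoh.D X) (hF : DCoh.IsQCohD F) (m : ℤ) (hFm : DerivedCategory.IsLE F m)
    (hFZ : CxOX.IsSuppD (c.j ⁻¹ᵁ W).ι F) :
    Function.Bijective (fun φ : F ⟶ (CxOX.RgammaZ (c.j ⁻¹ᵁ W).ι).obj ((Dual3.shriekC c a).obj G) =>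
      (DCoh.Rpush c.fbar).map ((DCoh.Rpush c.j).map (φ ≫ θ) ≫
          inv (adjj.unit.app ((CxOX.RgammaZ W.ι).obj (a.obj G).obj)) ≫
          (CxOX.RgammaZToId W.ι).app (a.obj G).obj) ≫
        (adj.counit.app G).hom) := by
  classical
  haveI : DCoh.HasRpush (c.j ⁻¹ᵁ W).ι := hasRpush _
  haveI : DCoh.HasRpush W.ι := hasRpush _
  have hFV : IsZero ((DCoh.restrictD (c.j ⁻¹ᵁ W).ι).obj F) :=
    isZero_restrictD_of_isSuppD (c.j ⁻¹ᵁ W) F hFZ
  have hNW : IsZero ((DCoh.restrictD W.ι).obj ((DCoh.Rpush c.j).obj F)) := by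
    haveI : DCoh.HasRpush (c.j ∣_ W) := hasRpush _
    exact IsZero.of_iso (isZero_Rpush_obj (c.j ∣_ W) _ hFV) ((restrictRpushIso c.j W).app F)
  haveI hε : ∀ A, IsIso (adjj.counit.app A) := isIso_counit_app_of_adj c.j adjj
  -- the map ψ
  let ψ : (F ⟶ (CxOX.RgammaZ (c.j ⁻¹ᵁ W).ι).obj ((Dual3.shriekC c a).obj G)) →
      ((DCoh.Rpush c.j).obj F ⟶ (a.obj G).obj) := fun φ =>
    (DCoh.Rpush c.j).map (φ ≫ θ) ≫ inv (adjj.unit.app ((CxOX.RgammaZ W.ι).obj (a.obj G).obj)) ≫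
      (CxOX.RgammaZToId W.ι).app (a.obj G).obj
  let R : ((DCoh.Rpush c.j).obj F ⟶ (a.obj G).obj) → (F ⟶ (Dual3.shriekC c a).obj G) := fun χ =>
    inv (adjj.counit.app F) ≫ (DCoh.restrictD c.j).map χ
  have hRψ : ∀ φ, R (ψ φ) =
      φ ≫ (CxOX.RgammaZToId (c.j ⁻¹ᵁ W).ι).app ((Dual3.shriekC c a).obj G) := by
    intro φ
    show inv (adjj.counit.app F) ≫ (DCoh.restrictD c.j).map ((DCoh.Rpush c.j).map (φ ≫ θ) ≫
      inv (adjj.unit.app ((CxOX.RgammaZ W.ι).obj (a.obj G).obj)) ≫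
      (CxOX.RgammaZToId W.ι).app (a.obj G).obj) = _
    rw [(DCoh.restrictD c.j).map_comp, (DCoh.restrictD c.j).map_comp, ← hθ]
    have h1 : inv (adjj.counit.app F) ≫ (DCoh.restrictD c.j).map ((DCoh.Rpush c.j).map (φ ≫ θ)) =
        (φ ≫ θ) ≫ inv (adjj.counit.app
          ((DCoh.restrictD c.j).obj ((CxOX.RgammaZ W.ι).obj (a.obj G).obj))) := by
      rw [IsIso.inv_comp_eq, ← Category.assoc, IsIso.eq_comp_inv]
      exact adjj.counit.naturality (φ ≫ θ)
    have h2 : inv (adjj.counit.app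
          ((DCoh.restrictD c.j).obj ((CxOX.RgammaZ W.ι).obj (a.obj G).obj))) ≫
        (DCoh.restrictD c.j).map (inv (adjj.unit.app ((CxOX.RgammaZ W.ι).obj (a.obj G).obj))) =
        𝟙 _ := by
      have ht := adjj.left_triangle_components ((CxOX.RgammaZ W.ι).obj (a.obj G).obj)
      rw [IsIso.inv_eq_of_inv_hom_id ht, ← Functor.map_comp, IsIso.hom_inv_id]
      exact (DCoh.restrictD c.j).map_id _
    rw [reassoc_of% h1, reassoc_of% h2]
  have hRinj : Function.Injective R := by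
    intro χ₁ χ₂ h
    have h' : (DCoh.restrictD c.j).map (χ₁ - χ₂) = 0 := by
      rw [Functor.map_sub, sub_eq_zero]
      exact (cancel_epi (inv (adjj.counit.app F))).1 h
    exact sub_eq_zero.1 (eq_zero_of_restrictD_map_eq_zero c.j adjj W hW _ _ hNW _ h')
  have hcan : Function.Bijective
      (fun φ : F ⟶ (CxOX.RgammaZ (c.j ⁻¹ᵁ W).ι).obj ((Dual3.shriekC c a).obj G) =>
        φ ≫ (CxOX.RgammaZToId (c.j ⁻¹ᵁ W).ι).app ((Dual3.shriekC c a).obj G)) :=
    ⟨fun φ₁ φ₂ h => lift_unique (c.j ⁻¹ᵁ W) F _ hFV φ₁ φ₂ h,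
      fun g => exists_lift (c.j ⁻¹ᵁ W) F _ hFV g⟩
  have hψ : Function.Bijective ψ := by
    constructor
    · intro φ₁ φ₂ h
      apply hcan.1
      show φ₁ ≫ _ = φ₂ ≫ _
      rw [← hRψ, ← hRψ, h]
    · intro χ
      obtain ⟨φ, hφ⟩ := hcan.2 (R χ)
      exact ⟨φ, hRinj ((hRψ φ).trans hφ)⟩
  -- Step A
  have hA : Function.Bijective (fun χ : (DCoh.Rpush c.j).obj F ⟶ (a.obj G).obj =>
      (DCoh.Rpush c.fbar).map χ ≫ (adj.counit.app G).hom) := by
    let N' : DCoh.DQCoh c.Xbar := ⟨(DCoh.Rpush c.j).obj F, hj F hF⟩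
    constructor
    · intro χ₁ χ₂ h
      have h' : (adj.homEquiv N' G).symm (ObjectProperty.homMk χ₁) =
          (adj.homEquiv N' G).symm (ObjectProperty.homMk χ₂) := by
        rw [Adjunction.homEquiv_counit, Adjunction.homEquiv_counit]
        ext
        exact h
      exact congrArg InducedCategory.Hom.hom ((adj.homEquiv N' G).symm.injective h')
    · intro g
      refine ⟨((adj.homEquiv N' G) (ObjectProperty.homMk g)).hom, ?_⟩
      have h' := (adj.homEquiv N' G).symm_apply_apply (ObjectProperty.homMk g)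
      rw [Adjunction.homEquiv_counit] at h'
      exact congrArg InducedCategory.Hom.hom h'
  exact hA.comp hψ

end Groth.Agent.S17639
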