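import Groth.Statements.S17642
import Groth.Agent.H16.ProjSmooth

set_option autoImplicit false
universe u
open CategoryTheory AlgebraicGeometry
open DerSch

namespace Groth.Agent.S17642

set_option linter.style.haveILetI false
set_option linter.unusedSectionVars false
set_option linter.unusedVariables false

open CategoryTheory CategoryTheory.Limits AlgebraicGeometry
open Groth.Agent.H88.ProjChart Groth.Agent.H16.ProjSmooth

section helpers
set_option backward.isDefEq.respectTransparency false
set_option backward.isDefEq.respectTransparency.types false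

/-- A subring of `B` containing the image of `A` and the images of the variables is everything. -/
theorem subring_eq_top {A B : Type u} [CommRing A] [CommRing B] (φ : A →+* B) {n : ℕ}
    (ψ : MvPolynomial (Fin n) A →+* B) (hψC : ∀ a, ψ (MvPolynomial.C a) = φ a)
    (hψ : Function.Surjective ψ) (S : Subring B) (h1 : ∀ a, φ a ∈ S)
    (h2 : ∀ i, ψ (MvPolynomial.X i) ∈ S) : S = ⊤ := by
  have key : ∀ p, ψ p ∈ S := by
    intro p
    induction p using MvPolynomial.induction_on with
    | C a => rw [hψC]; exact h1 a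
    | add p q hp hq => rw [map_add]; exact S.add_mem hp hq
    | mul_X p i hp => rw [map_mul]; exact S.mul_mem hp (h2 i)
  rw [eq_top_iff]
  intro b _
  obtain ⟨p, rfl⟩ := hψ b
  exact key p

/-- The ring-level input: a ring map from the chart ring of `P^n_Z` hitting prescribed elements. -/
theorem exists_chart_map (Z : Type u) [CommRing Z] {B : Type u} [CommRing B] (ζ : Z →+* B) (n : ℕ)
    (b : Fin n → B) :
    ∃ θ : Groth.Agent.H88.ProjChart.B n Z 0 →+* B, ∀ i : Fin n, b i ∈ θ.range := by
  classical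
  let y : {j : Fin (n + 1) // j ≠ 0} → B := fun j => b (Fin.pred j.1 j.2)
  let θ : Groth.Agent.H88.ProjChart.B n Z 0 →+* B :=
    (MvPolynomial.eval₂Hom ζ y).comp (chartEquiv n Z 0).symm.toRingHom
  refine ⟨θ, fun i => ⟨chartEquiv n Z 0 (MvPolynomial.X ⟨i.succ, Fin.succ_ne_zero i⟩), ?_⟩⟩
  show (MvPolynomial.eval₂Hom ζ y) ((chartEquiv n Z 0).symm (chartEquiv n Z 0 _)) = b i
  rw [RingEquiv.symm_apply_apply, MvPolynomial.coe_eval₂Hom, MvPolynomial.eval₂_X]
  show b (Fin.pred i.succ _) = b i
  rw [Fin.pred_succ]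

/-- A morphism of affine schemes into a pullback of affine schemes which is jointly surjective on
global sections is a closed immersion. -/
theorem isClosedImmersion_lift {A B C Z : CommRingCat.{u}} {n : ℕ}
    (a : Z ⟶ C) (a' : Z ⟶ A) (θ : C ⟶ B) (φ : A ⟶ B)
    (ψ : MvPolynomial (Fin n) A →+* B) (hψC : ∀ x, ψ (MvPolynomial.C x) = φ.hom x)
    (hψ : Function.Surjective ψ) (hθ : ∀ i, ψ (MvPolynomial.X i) ∈ θ.hom.range)
    (w : Spec.map θ ≫ Spec.map a = Spec.map φ ≫ Spec.map a') :
    IsClosedImmersion (pullback.lift (Spec.map θ) (Spec.map φ) w) := by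
  set c := pullback.lift (Spec.map θ) (Spec.map φ) w with hc
  apply IsClosedImmersion.of_surjective_of_isAffine
  -- the range of `c.appTop`, transported to `B`
  let e := Scheme.ΓSpecIso B
  let S : Subring B := (c.appTop.hom.range).comap e.inv.hom
  have hfst : (pullback.fst (Spec.map a) (Spec.map a')).appTop ≫ c.appTop = (Spec.map θ).appTop := by
    rw [← Scheme.Hom.comp_appTop, hc, pullback.lift_fst]
  have hsnd : (pullback.snd (Spec.map a) (Spec.map a')).appTop ≫ c.appTop = (Spec.map φ).appTop := by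
    rw [← Scheme.Hom.comp_appTop, hc, pullback.lift_snd]
  have key : ∀ {D : CommRingCat.{u}} (τ : D ⟶ B) (t : Γ(Spec D, ⊤) ⟶ Γ(pullback (Spec.map a) (Spec.map a'), ⊤))
      (ht : t ≫ c.appTop = (Spec.map τ).appTop) (x : D), τ.hom x ∈ S := by
    intro D τ t ht x
    show e.inv.hom (τ.hom x) ∈ c.appTop.hom.range
    refine ⟨t.hom ((Scheme.ΓSpecIso D).inv.hom x), ?_⟩
    have h1 := congrArg (fun g => g.hom ((Scheme.ΓSpecIso D).inv.hom x)) ht
    have h2 : (Spec.map τ).appTop.hom ((Scheme.ΓSpecIso D).inv.hom x) = e.inv.hom (τ.hom x) := by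
      have := congrArg (fun g => g.hom x) (Scheme.ΓSpecIso_inv_naturality τ)
      exact this.symm
    exact h1.trans h2
  have hS : S = ⊤ := by
    refine subring_eq_top φ.hom ψ hψC hψ S (fun x => key φ _ hsnd x) (fun i => ?_)
    obtain ⟨z, hz⟩ := hθ i
    rw [← hz]
    exact key θ _ hfst z
  intro s
  have hs : e.hom.hom s ∈ S := by rw [hS]; trivial
  obtain ⟨t, ht⟩ := hs
  refine ⟨t, ?_⟩
  rw [ht]
  have := congrArg (fun g => g.hom s) e.hom_inv_id
  exact this

end helpers

/-- Consider Noetherian schemes X and Y together with a morphism f : X ⟶ Y that is locally of finite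
type. Given affine open subsets U ⊆ X and V ⊆ Y such that f(U) ⊆ V, the restriction of f to U can be
written as a composite U ⟶ W ⟶ P ⟶ Y in which the first map U ⟶ W is an open immersion, the middle
map W ⟶ P is a closed immersion, and the last map P ⟶ Y is both smooth and proper. In the published
section every morphism is taken to be separated as a standing convention; since the printed proof
never uses this, no separatedness hypothesis appears here. -/
theorem result {X Y : Scheme.{u}}
    [IsNoetherian X] [IsNoetherian Y] (f : X ⟶ Y) [LocallyOfFiniteType f]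
    (U : X.Opens) (hU : IsAffineOpen U) (V : Y.Opens) (hV : IsAffineOpen V) (hUV : U ≤ f ⁻¹ᵁ V) :
    ∃ (W P : Scheme.{u}) (g : (U : Scheme.{u}) ⟶ W) (h : W ⟶ P) (k : P ⟶ Y),
      IsOpenImmersion g ∧ IsClosedImmersion h ∧ Smooth k ∧ IsProper k ∧ g ≫ h ≫ k = U.ι ≫ f := by
  classical
  let A : CommRingCat.{u} := Γ(Y, V)
  let B : CommRingCat.{u} := Γ(X, U)
  let φ : A ⟶ B := f.appLE V U hUV
  have hφ : φ.hom.FiniteType :=
    HasRingHomProperty.appLE (P := @LocallyOfFiniteType) f inferInstance ⟨V, hV⟩ ⟨U, hU⟩ hUV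
  letI : Algebra A B := φ.hom.toAlgebra
  have hft : Algebra.FiniteType A B := hφ
  obtain ⟨n, ψ, hψ⟩ := Algebra.FiniteType.iff_quotient_mvPolynomial''.1 hft
  have hψC : ∀ x, ψ.toRingHom (MvPolynomial.C x) = φ.hom x := fun x => ψ.commutes x
  let Z : Type u := ULift.{u} ℤ
  let ζ : Z →+* B := (Int.castRingHom B).comp ULift.ringEquiv.toRingHom
  obtain ⟨θ, hθ⟩ := exists_chart_map Z ζ n (fun i => ψ (MvPolynomial.X i))
  let a : CommRingCat.of Z ⟶ CommRingCat.of (Groth.Agent.H88.ProjChart.B n Z 0) :=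
    CommRingCat.ofHom (Groth.Agent.H18.ProjUPUniq.constMapG (CohB1.polyGrading n Z) (MvPolynomial.X 0))
  let a' : CommRingCat.of Z ⟶ A :=
    CommRingCat.ofHom ((Int.castRingHom A).comp ULift.ringEquiv.toRingHom)
  have w : Spec.map (CommRingCat.ofHom θ) ≫ Spec.map a = Spec.map φ ≫ Spec.map a' :=
    specULiftZIsTerminal.hom_ext _ _
  have hc : IsClosedImmersion (pullback.lift (Spec.map (CommRingCat.ofHom θ)) (Spec.map φ) w) :=
    isClosedImmersion_lift a a' (CommRingCat.ofHom θ) φ ψ.toRingHom hψC hψ hθ w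
  have e₁ : Spec.map a = ch n Z 0 ≫ CohB1.ProjSpace.toSpec n Z := (ch_toSpec n Z 0).symm
  have e₂ : Spec.map a' = hV.fromSpec ≫ specULiftZIsTerminal.from Y :=
    specULiftZIsTerminal.hom_ext _ _
  let o : pullback (Spec.map a) (Spec.map a') ⟶ CohB1.ProjSpaceOver n Y :=
    pullback.map (Spec.map a) (Spec.map a') (CohB1.ProjSpace.toSpec n Z)
      (specULiftZIsTerminal.from Y) (ch n Z 0) hV.fromSpec (𝟙 _)
      ((Category.comp_id _).trans e₁) ((Category.comp_id _).trans e₂)
  have ho : IsOpenImmersion o :=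
    MorphismProperty.pullbackMap (P := @IsOpenImmersion) (inferInstance : IsOpenImmersion (ch n Z 0))
      (inferInstance : IsOpenImmersion hV.fromSpec) e₁ e₂
  let c := pullback.lift (Spec.map (CommRingCat.ofHom θ)) (Spec.map φ) w
  let m : Spec B ⟶ CohB1.ProjSpaceOver n Y := c ≫ o
  haveI : IsImmersion m := inferInstance
  haveI : IsNoetherianRing B := IsLocallyNoetherian.component_noetherian ⟨U, hU⟩
  haveI : QuasiCompact m := inferInstance
  obtain ⟨W, g₁, g₂, hg₁, hg₂, hgm⟩ :=
    (IsImmersion.isImmersion_iff_exists_of_quasiCompact (f := m)).1 inferInstance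
  refine ⟨W, CohB1.ProjSpaceOver n Y, hU.isoSpec.hom ≫ g₁, g₂, CohB1.ProjSpaceOver.toBase n Y,
    inferInstance, hg₂, inferInstance, inferInstance, ?_⟩
  rw [Category.assoc, ← Category.assoc g₁, hgm]
  have hm : m ≫ CohB1.ProjSpaceOver.toBase n Y = Spec.map φ ≫ hV.fromSpec := by
    have h1 : o ≫ pullback.snd (CohB1.ProjSpace.toSpec n Z) (specULiftZIsTerminal.from Y) =
        pullback.snd _ _ ≫ hV.fromSpec := pullback.lift_snd _ _ _
    have h2 : c ≫ pullback.snd _ _ = Spec.map φ := pullback.lift_snd _ _ _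
    calc m ≫ CohB1.ProjSpaceOver.toBase n Y
        = c ≫ (o ≫ pullback.snd (CohB1.ProjSpace.toSpec n Z) (specULiftZIsTerminal.from Y)) :=
          Category.assoc _ _ _
      _ = c ≫ (pullback.snd _ _ ≫ hV.fromSpec) := by rw [h1]
      _ = (c ≫ pullback.snd _ _) ≫ hV.fromSpec := (Category.assoc _ _ _).symm
      _ = Spec.map φ ≫ hV.fromSpec := by rw [h2]
  rw [hm, hV.SpecMap_appLE_fromSpec f hU hUV, ← Category.assoc, hU.isoSpec_hom_fromSpec]

end Groth.Agent.S17642
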