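import Groth.Statements.S17646
import Groth.Agent.H16.Uniform

set_option autoImplicit false
universe w v u
open CategoryTheory CategoryTheory.Limits
open GabLoc

namespace Groth.Agent.S17646

/-- Let C be a Grothendieck abelian category, E an indecomposable injective object of C (E is nonzero
and whenever E ≅ A ⊞ B one of A, B is zero) and S₁, S₂ localizing classes of objects (Serre classes
closed under coproducts). If there are an object of S₁ with a nonzero morphism to E and an object of
S₂ with a nonzero morphism to E, then there is an object belonging to both S₁ and S₂ with a nonzero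
morphism to E. Thus, on the set of isomorphism classes of indecomposable injectives, the subsets of
those having S-torsion, S localizing, are closed under finite intersections (they are also closed
under unions, and form a topology). The published definition of the injective spectrum says
injective objects without the word indecomposable; the published proof of this step uses that each
point of the spectrum is uniform, which is the indecomposable reading taken here. -/
theorem result {C : Type u} [Category.{v} C] [Abelian C]
    [IsGrothendieckAbelian.{w} C] (E : C) [Injective E] (hE : ¬ IsZero E)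
    (hind : ∀ (A B : C), Nonempty (E ≅ A ⊞ B) → IsZero A ∨ IsZero B)
    (S₁ S₂ : ObjectProperty C) (h₁ : GabLoc.IsLocalizing.{w} S₁) (h₂ : GabLoc.IsLocalizing.{w} S₂)
    (ht₁ : GabLoc.HasTorsion S₁ E) (ht₂ : GabLoc.HasTorsion S₂ E) :
    GabLoc.HasTorsion (S₁ ⊓ S₂) E := by
  obtain ⟨Y₁, hY₁, f₁, hf₁⟩ := ht₁
  obtain ⟨Y₂, hY₂, f₂, hf₂⟩ := ht₂
  have := h₁.isSerreClass
  have := h₂.isSerreClass
  have hU₁ : imageSubobject f₁ ≠ ⊥ := by
    intro h
    apply hf₁
    have hfac : (imageSubobject f₁).Factors f₁ :=
      Groth.Agent.H16.Uniform.factors_of_comp_eq _ _ (factorThruImageSubobject f₁)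
        (imageSubobject_arrow_comp f₁)
    rw [h] at hfac
    exact (Subobject.bot_factors_iff_zero _).mp hfac
  have hU₂ : imageSubobject f₂ ≠ ⊥ := by
    intro h
    apply hf₂
    have hfac : (imageSubobject f₂).Factors f₂ :=
      Groth.Agent.H16.Uniform.factors_of_comp_eq _ _ (factorThruImageSubobject f₂)
        (imageSubobject_arrow_comp f₂)
    rw [h] at hfac
    exact (Subobject.bot_factors_iff_zero _).mp hfac
  have hne := Groth.Agent.H16.Uniform.inf_ne_bot_of_indecomposable.{w} E hind _ _ hU₁ hU₂
  have hI₁ : S₁ (imageSubobject f₁ : C) :=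
    S₁.prop_of_epi (factorThruImageSubobject f₁) hY₁
  have hI₂ : S₂ (imageSubobject f₂ : C) :=
    S₂.prop_of_epi (factorThruImageSubobject f₂) hY₂
  refine ⟨((imageSubobject f₁ ⊓ imageSubobject f₂ : Subobject E) : C), ⟨?_, ?_⟩,
    (imageSubobject f₁ ⊓ imageSubobject f₂).arrow, ?_⟩
  · exact S₁.prop_of_mono (Subobject.ofLE _ _ inf_le_left) hI₁
  · exact S₂.prop_of_mono (Subobject.ofLE _ _ inf_le_right) hI₂
  · intro h
    exact hne (Groth.Agent.H16.Uniform.eq_bot_of_arrow_eq_zero _ h)

end Groth.Agent.S17646
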