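import Groth.Statements.S17647
import Mathlib
import Groth.Agent.H8.QCohPush
import Groth.Agent.H8.ZeroStalk
import Groth.Agent.H45.GammaZMod

set_option autoImplicit false
universe u
open CategoryTheory CategoryTheory.Limits AlgebraicGeometry
open QCohCat

namespace Groth.Agent.S17647

open Scheme.Modules

theorem subsingleton_stalk_restrict_iff {U X : Scheme.{u}} (j : U ⟶ X) [IsOpenImmersion j]
    (M : X.Modules) (x : U) :
    Subsingleton ((M.restrict j).presheaf.stalk x) ↔ Subsingleton (M.presheaf.stalk (j x)) :=
  ((forget Ab).mapIso ((Scheme.Modules.restrictStalkNatIso j x).app M)).toEquiv.subsingleton_congr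

/-- The restriction of a module to an open `U` vanishes iff its support misses `U`. -/
theorem isZero_restrict_iff {X : Scheme.{u}} (U : X.Opens) (M : X.Modules) :
    IsZero ((restrictFunctor U.ι).obj M) ↔ CohB1.support M ⊆ (↑U : Set X)ᶜ := by
  constructor
  · intro h x hx hxU
    have hr : x ∈ Set.range U.ι := by
      rw [Scheme.Opens.range_ι]
      exact hxU
    obtain ⟨y, rfl⟩ := hr
    exact hx ((subsingleton_stalk_restrict_iff U.ι M y).1
      (Groth.Agent.H8.subsingleton_stalk_of_isZero _ h y))
  · intro h
    apply Groth.Agent.H8.isZero_of_subsingleton_stalk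
    intro y
    refine (subsingleton_stalk_restrict_iff U.ι M y).2 ?_
    by_contra hns
    have hyU : U.ι y ∈ (U : Set X) := by
      rw [← Scheme.Opens.range_ι]
      exact ⟨y, rfl⟩
    exact h hns hyU


/-- Let X be a scheme and U ⊆ X an open subset whose inclusion U ⟶ X is quasi-compact, Z = X ∖ U. Then
the restriction functor QCoh(X) ⥤ QCoh(U) between the categories of quasi-coherent modules is a
localization functor for the class of morphisms of quasi-coherent O_X-modules whose kernel and
cokernel (computed in O_X-modules) have support contained in Z: the category QCoh(U) is the quotient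
of QCoh(X) by the localizing subcategory of quasi-coherent modules supported in Z, the direct image
along U ⟶ X being the fully faithful right adjoint. No hypothesis is made on X beyond the
quasi-compactness of U ⟶ X. -/
theorem result (X : Scheme.{u})
    (U : X.Opens) [QuasiCompact U.ι] :
    (ObjectProperty.lift (QCohCat.isQCoh (↑U : Scheme.{u}))
        (ObjectProperty.ι (QCohCat.isQCoh X) ⋙ Scheme.Modules.restrictFunctor U.ι)
        (fun M => @Scheme.Modules.isQuasicoherent_restrictFunctor (↑U : Scheme.{u}) X U.ι
          inferInstance M.obj M.property)).IsLocalization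
      (fun (A B : QCohCat.QCoh X) (f : A ⟶ B) =>
        CohB1.support (kernel f.hom) ⊆ (↑U : Set X)ᶜ ∧
          CohB1.support (cokernel f.hom) ⊆ (↑U : Set X)ᶜ) := by
  have hqs : QuasiSeparated U.ι := inferInstance
  let E := restrictFunctor U.ι
  let pfQ : QCohCat.QCoh (↑U : Scheme.{u}) ⥤ QCohCat.QCoh X :=
    ObjectProperty.lift (QCohCat.isQCoh X)
      ((QCohCat.isQCoh (↑U : Scheme.{u})).ι ⋙ Scheme.Modules.pushforward U.ι)
      (fun M => by
        have : M.obj.IsQuasicoherent := M.property
        exact Groth.Agent.H8.isQuasicoherent_pushforward U.ι M.obj)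
  have hF1 : ((QCohCat.isQCoh (↑U : Scheme.{u})).ι ⋙ Scheme.Modules.pushforward U.ι).Full :=
    inferInstance
  have hF2 : ((QCohCat.isQCoh (↑U : Scheme.{u})).ι ⋙ Scheme.Modules.pushforward U.ι).Faithful :=
    inferInstance
  have hfull : pfQ.Full :=
    Functor.Full.of_comp_faithful_iso (ObjectProperty.liftCompιIso _ _ _)
  have hfaith : pfQ.Faithful :=
    Functor.Faithful.of_comp_iso (ObjectProperty.liftCompιIso _ _ _)
  let adjQ := (Scheme.Modules.restrictAdjunction U.ι).restrictFullyFaithful
      (L := ObjectProperty.lift (QCohCat.isQCoh (↑U : Scheme.{u}))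
        (ObjectProperty.ι (QCohCat.isQCoh X) ⋙ Scheme.Modules.restrictFunctor U.ι)
        (fun M => @Scheme.Modules.isQuasicoherent_restrictFunctor (↑U : Scheme.{u}) X U.ι
          inferInstance M.obj M.property)) (R := pfQ)
      (QCohCat.isQCoh X).fullyFaithfulι (QCohCat.isQCoh (↑U : Scheme.{u})).fullyFaithfulι
      (ObjectProperty.liftCompιIso _ _ _).symm (ObjectProperty.liftCompιIso _ _ _).symm
  have hW : (fun (A B : QCohCat.QCoh X) (f : A ⟶ B) =>
        CohB1.support (kernel f.hom) ⊆ (↑U : Set X)ᶜ ∧
          CohB1.support (cokernel f.hom) ⊆ (↑U : Set X)ᶜ) =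
      (MorphismProperty.isomorphisms (QCohCat.QCoh (↑U : Scheme.{u}))).inverseImage
        (ObjectProperty.lift (QCohCat.isQCoh (↑U : Scheme.{u}))
          (ObjectProperty.ι (QCohCat.isQCoh X) ⋙ Scheme.Modules.restrictFunctor U.ι)
          (fun M => @Scheme.Modules.isQuasicoherent_restrictFunctor (↑U : Scheme.{u}) X U.ι
            inferInstance M.obj M.property)) := by
    funext A B f
    apply propext
    rw [MorphismProperty.inverseImage_iff, MorphismProperty.isomorphisms.iff]
    rw [← isIso_iff_of_reflects_iso _ (QCohCat.isQCoh (↑U : Scheme.{u})).ι]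
    change _ ↔ IsIso (E.map f.hom)
    rw [isIso_iff_mono_and_epi, Preadditive.mono_iff_isZero_kernel,
      Preadditive.epi_iff_isZero_cokernel, ← isZero_restrict_iff, ← isZero_restrict_iff]
    exact and_congr (Iso.isZero_iff (PreservesKernel.iso E f.hom))
      (Iso.isZero_iff (PreservesCokernel.iso E f.hom))
  exact (congrArg (fun W => Functor.IsLocalization _ W) hW).mpr adjQ.isLocalization

end Groth.Agent.S17647
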