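import Groth.Statements.S17648
import Groth.Agent.H16.GabSQ
import Groth.Agent.H16.GabIter

set_option autoImplicit false
universe w v u
open CategoryTheory CategoryTheory.Limits
open GabLoc

namespace Groth.Agent.S17648

open ZeroObject in
open Groth.Agent.H16.GabSQ in
theorem bwd {C : Type u} [Category.{v} C] [Abelian C]
    [IsGrothendieckAbelian.{w} C] (P : ObjectProperty C) (X : C)
    (h : MorphismProperty.transfiniteCompositions.{w} (GabLoc.monoModSubquot.{w} P)
      (0 : (0 : C) ⟶ X)) : GabLoc.locClosure.{w} P X := by
  intro Q hQ hPQ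
  rw [MorphismProperty.transfiniteCompositions_iff] at h
  obtain ⟨J, _, _, _, _, ⟨hf⟩⟩ := h
  have hSerre := hQ.isSerreClass
  have hSQ : GabLoc.subquotCoprod.{w} P ≤ Q := sq_le P Q hQ hPQ
  have hcolim : ∀ {K : Type w} [SmallCategory K] (D : K ⥤ C) (c : Cocone D) (hc : IsColimit c),
      (∀ k, Q (D.obj k)) → Q c.pt := by
    intro K _ D c hc hD
    have := hQ.isClosedUnderCoproducts K
    have h1 : Q (∐ D.obj) := Q.prop_colimit _ (fun k => hD k.as)
    have : Epi (Sigma.desc c.ι.app) := ⟨fun g g' hgg' => hc.hom_ext (fun k => by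
      simpa using Sigma.ι D.obj k ≫= hgg')⟩
    exact Q.prop_of_epi (Sigma.desc c.ι.app) h1
  have key : ∀ j : J, Q (hf.F.obj j) := by
    intro j
    induction j using SuccOrder.limitRecOn with
    | isMin j hj =>
      obtain rfl := hj.eq_bot
      exact Q.prop_of_iso hf.isoBot.symm (Q.prop_of_isZero (isZero_zero C))
    | succ j hj hj' =>
      obtain ⟨hm, hc⟩ := hf.map_mem j hj
      have hSE : (ShortComplex.mk _ _ (cokernel.condition
          (hf.F.map (homOfLE (Order.le_succ j))))).ShortExact :=
        { exact := ShortComplex.exact_cokernel _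
          mono_f := hm
          epi_g := inferInstanceAs (Epi (cokernel.π _)) }
      exact Q.prop_X₂_of_shortExact hSE hj' (hSQ _ hc)
    | isSuccLimit j hj hj' =>
      exact hcolim _ _ (hf.F.isColimitOfIsWellOrderContinuous j hj) (fun k => hj' _ k.2)
  exact hcolim hf.F _ hf.isColimit key

open ZeroObject in
open Groth.Agent.H16.GabSQ in
open Classical in
theorem fwd {C : Type u} [Category.{v} C] [Abelian C]
    [IsGrothendieckAbelian.{w} C] (P : ObjectProperty C) (X : C)
    (h : GabLoc.locClosure.{w} P X) :
    MorphismProperty.transfiniteCompositions.{w} (GabLoc.monoModSubquot.{w} P)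
      (0 : (0 : C) ⟶ X) := by
  have hX : QQ.{w} P X := h (QQ.{w} P) (isLocalizing_qq.{w} P) (fun Y hY => qq_of_prop P hY)
  let φ : Subobject X → Subobject X := fun A =>
    if hA : A = ⊤ then ⊤ else (exists_larger.{w} P hX A hA).choose
  have htop : φ ⊤ = ⊤ := dif_pos rfl
  have hlt : ∀ A, A ≠ ⊤ → A < φ A := by
    intro A hA
    simp only [φ, dif_neg hA]
    exact (exists_larger.{w} P hX A hA).choose_spec.choose
  have hle : ∀ A, A ≤ φ A := by
    intro A
    by_cases hA : A = ⊤
    · subst hA
      rw [htop]
    · exact (hlt A hA).le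
  have hW : ∀ A, GabLoc.monoModSubquot.{w} P (Subobject.ofLE A (φ A) (hle A)) := by
    intro A
    refine ⟨inferInstance, ?_⟩
    by_cases hA : A = ⊤
    · apply sq_of_isZero
      have h1 : IsIso A.arrow := (Subobject.isIso_arrow_iff_eq_top A).2 hA
      have h2 : IsIso (φ A).arrow := (Subobject.isIso_arrow_iff_eq_top (φ A)).2 (by rw [hA, htop])
      have h3 : IsIso (Subobject.ofLE A (φ A) (hle A)) := by
        have e : Subobject.ofLE A (φ A) (hle A) = A.arrow ≫ inv (φ A).arrow := by
          rw [IsIso.eq_comp_inv, Subobject.ofLE_arrow]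
        rw [e]
        infer_instance
      exact isZero_cokernel_of_epi _
    · have hφ : φ A = (exists_larger.{w} P hX A hA).choose := dif_neg hA
      have key := (exists_larger.{w} P hX A hA).choose_spec.choose_spec
      have gen : ∀ (B : Subobject X) (hB : B = (exists_larger.{w} P hX A hA).choose)
          (hAB : A ≤ B), GabLoc.subquotCoprod.{w} P (cokernel (Subobject.ofLE A B hAB)) := by
        intro B hB hAB
        subst hB
        exact key
      exact gen _ hφ _
  obtain ⟨J, i1, i2, i3, i4, ⟨t⟩⟩ :=
    Groth.Agent.H16.GabIter.exists_transfiniteCompositionOfShape.{w} φ hle hlt htop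
      (GabLoc.monoModSubquot.{w} P) hW (0 : (0 : C) ⟶ X)
  rw [MorphismProperty.transfiniteCompositions_iff]
  exact ⟨J, i1, i3, i2, i4, ⟨t⟩⟩


open ZeroObject in
/-- Let C be a Grothendieck abelian category, P a class of objects and X an object of C. Then X belongs
to the localizing closure of P (the smallest Serre class containing P and closed under coproducts)
if and only if the morphism 0 ⟶ X is a transfinite composition — indexed by a small well-ordered
type, continuous at limit stages — of monomorphisms whose cokernels are subquotients of coproducts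
of objects of P. Equivalently: X has an exhaustive continuous transfinite filtration 0 = X₀ ⊆ X₁ ⊆ ⋯
by subobjects with every X_{β+1}/X_β a subquotient of a direct sum of objects of P. -/
theorem result {C : Type u} [Category.{v} C] [Abelian C]
    [IsGrothendieckAbelian.{w} C] (P : ObjectProperty C) (X : C) :
    GabLoc.locClosure.{w} P X ↔
      MorphismProperty.transfiniteCompositions.{w} (GabLoc.monoModSubquot.{w} P) (0 : (0 : C) ⟶ X) := by
  exact ⟨fwd P X, bwd P X⟩

end Groth.Agent.S17648
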