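import Groth.Statements.S17653
import Groth.Agent.H9.DimFormulaGen
import Groth.Agent.H9.SubschemeDim
import Groth.Agent.H9.SchemeDimStalk
import Groth.Agent.H9.FibreGeneric
import Groth.Agent.H29.TopDim
import Groth.Agent.H54.SchemeDim2

set_option autoImplicit false
universe u
open CategoryTheory CategoryTheory.Limits AlgebraicGeometry TopologicalSpace
open Variety

namespace Groth.Agent.S17653


open Groth.Agent.H9.FibDim Groth.Agent.H9.FibreGeneric Groth.Agent.H9.DimFormulaGen
  Groth.Agent.H9.DimFormulaScheme Groth.Agent.H9.SubschemeDim Groth.Agent.H71.DimFun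
  Groth.Agent.H54 Groth.Agent.H29 TopologicalSpace

/-- The reduced induced closed subscheme on a closed subset, as an embedding. -/
theorem exists_subscheme_of_isClosed {X : Scheme.{u}} (T : Set X) (hT : IsClosed T) :
    ∃ (Z : Scheme.{u}) (ι : Z ⟶ X), Topology.IsEmbedding ι.base ∧ Set.range ι.base = T := by
  refine ⟨(Scheme.IdealSheafData.vanishingIdeal ⟨T, hT⟩).subscheme,
    (Scheme.IdealSheafData.vanishingIdeal ⟨T, hT⟩).subschemeι, Scheme.Hom.isEmbedding _, ?_⟩
  rw [Scheme.IdealSheafData.range_subschemeι, Scheme.IdealSheafData.coe_support_vanishingIdeal]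
  rfl

theorem dim_range_eq {Z X : Scheme.{u}} (ι : Z ⟶ X) (hι : Topology.IsEmbedding ι.base) :
    topologicalKrullDim ↥(Set.range ι.base) = topologicalKrullDim Z :=
  (IsHomeomorph.topologicalKrullDim_eq _ hι.toHomeomorph.isHomeomorph).symm

/-- Upper bound for the dimension of the closure of a point through coheights in local rings. -/
theorem dim_closure_le_of_forall {X : Scheme.{u}} (ξ : X) (N : WithBot ℕ∞)
    (h : ∀ (z : X) (w' : PrimeSpectrum (X.presheaf.stalk z)), X.fromSpecStalk z w' = ξ →
      ((Order.coheight w' : ℕ∞) : WithBot ℕ∞) ≤ N) :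
    topologicalKrullDim ↥(closure ({ξ} : Set X)) ≤ N := by
  obtain ⟨Z, ι, hι, hr⟩ := exists_subscheme_of_isClosed (closure ({ξ} : Set X)) isClosed_closure
  rw [← hr, dim_range_eq ι hι, topologicalKrullDim_eq_iSup_stalk]
  apply iSup_le
  intro v
  have hmem : ι.base v ∈ closure ({ξ} : Set X) := by rw [← hr]; exact Set.mem_range_self v
  have hsp : ξ ⤳ ι.base v := specializes_iff_mem_closure.mpr hmem
  obtain ⟨w', hw'⟩ := exists_of_specializes X hsp
  rw [ringKrullDim_stalk_eq_coheight, coheight_eq_of_isEmbedding ι hι ξ hr v w' hw']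
  exact h _ w' hw'

/-- Lower bound. -/
theorem coheight_le_dim_closure {Y : Scheme.{u}} (η y : Y)
    (w : PrimeSpectrum (Y.presheaf.stalk y)) (hw : Y.fromSpecStalk y w = η) :
    ((Order.coheight w : ℕ∞) : WithBot ℕ∞) ≤ topologicalKrullDim ↥(closure ({η} : Set Y)) := by
  obtain ⟨Z, ι, hι, hr⟩ := exists_subscheme_of_isClosed (closure ({η} : Set Y)) isClosed_closure
  have hsp : η ⤳ y := by
    have : η ∈ Set.range (Y.fromSpecStalk y) := ⟨w, hw⟩
    rw [Scheme.range_fromSpecStalk] at this
    exact this
  have hy : y ∈ Set.range ι.base := by rw [hr]; exact specializes_iff_mem_closure.mp hsp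
  obtain ⟨u, rfl⟩ := hy
  rw [← hr, dim_range_eq ι hι, ← coheight_eq_of_isEmbedding ι hι η hr u w hw,
    ← ringKrullDim_stalk_eq_coheight]
  exact ringKrullDim_stalk_le Z u

theorem dim_le_of_components {T : Type u} [TopologicalSpace T] (d : WithBot ℕ∞)
    (h : ∀ Z ∈ irreducibleComponents T, topologicalKrullDim ↥Z ≤ d) :
    topologicalKrullDim T ≤ d := by
  unfold topologicalKrullDim
  rw [Order.krullDim]
  apply iSup_le
  intro p
  obtain ⟨t, ht, hst, hmax⟩ :=
    exists_preirreducible (p.last : Set T) p.last.isIrreducible.isPreirreducible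
  have htirr : IsIrreducible t := ⟨p.last.isIrreducible.nonempty.mono hst, ht⟩
  have htc : t ∈ irreducibleComponents T :=
    ⟨htirr, fun u hu htu => (hmax u hu.isPreirreducible htu).le⟩
  exact (length_le_dim_of_subset p t hst).trans (h t htc)


/-- Suppose X and Y are locally Noetherian schemes of the same pure dimension d (every irreducible
component of X and every irreducible component of Y has topological Krull dimension d), and π : X →
Y is a proper morphism between them. If there is a point x of X which is isolated in its fibre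
π⁻¹(π(x)), i.e. some open neighbourhood of x meets that fibre only in x, then the image of π, with
the subspace topology, has the same dimension as Y. -/
theorem result
    (X Y : Scheme.{u}) [IsLocallyNoetherian X] [IsLocallyNoetherian Y] (π : X ⟶ Y) [IsProper π]
    (d : WithBot ℕ∞) (hX : ∀ Z ∈ irreducibleComponents ↥X, topologicalKrullDim ↥Z = d)
    (hY : ∀ Z ∈ irreducibleComponents ↥Y, topologicalKrullDim ↥Z = d)
    (x : ↥X) (hx : ∃ U : X.Opens, x ∈ U ∧ ∀ x' ∈ U, π x' = π x → x' = x) :
    topologicalKrullDim ↥(Set.range (fun z : ↥X => π z)) = topologicalKrullDim ↥Y := by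
  classical
  apply le_antisymm
  · exact topologicalKrullDim_subspace_le _ _
  · have hYd : topologicalKrullDim ↥Y ≤ d := dim_le_of_components d (fun Z hZ => (hY Z hZ).le)
    refine hYd.trans ?_
    obtain ⟨U, hxU, hU⟩ := hx
    obtain ⟨ξ, hξx, hξ⟩ := exists_generic_specializes x
    have hd : topologicalKrullDim ↥(closure ({ξ} : Set X)) = d := hX _ hξ
    rw [← hd]
    have hfd0 : FlatMor.fibreDimAt π x ≤ ((0 : ℕ) : WithBot ℕ∞) := by
      rw [fibreDimAt_eq_tfd, tfd_eq_of_eq π.base x (π.base x) rfl]
      let V : Opens ↥(π.base ⁻¹' {π.base x}) :=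
        ⟨Subtype.val ⁻¹' (U : Set X), U.isOpen.preimage continuous_subtype_val⟩
      have hxV : (⟨x, rfl⟩ : ↥(π.base ⁻¹' {π.base x})) ∈ V := hxU
      refine (localDim_le_of_mem _ _ V hxV).trans ?_
      haveI : Subsingleton ↥(V : Set ↥(π.base ⁻¹' {π.base x})) := by
        constructor
        rintro ⟨⟨a, ha⟩, haV⟩ ⟨⟨b, hb⟩, hbV⟩
        have h1 : a = x := hU a haV ha
        have h2 : b = x := hU b hbV hb
        exact Subtype.ext (Subtype.ext (h1.trans h2.symm))
      exact topologicalKrullDim_zero_of_discreteTopology _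
    have hopen := isOpen_setOf_fibreDimAt_le π 0
    have hξ0 : FlatMor.fibreDimAt π ξ ≤ ((0 : ℕ) : WithBot ℕ∞) := hξx.mem_open hopen hfd0
    have hmax : ∀ t : X, t ⤳ ξ → t = ξ := fun t ht => eq_of_specializes_generic hξ ht
    obtain ⟨E, hE⟩ := exists_trdeg_eq_nat π ξ
    have hE0 : E = 0 := by
      have h1 := fibreDimAt_eq_trdeg_of_forall π ξ hmax E hE
      rw [h1] at hξ0
      have : E ≤ 0 := by exact_mod_cast hξ0
      omega
    subst hE0
    have hrange : closure ({π.base ξ} : Set Y) ⊆ Set.range (fun z : ↥X => π z) := by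
      apply closure_minimal _ π.isClosedMap.isClosed_range
      rintro _ rfl
      exact ⟨ξ, rfl⟩
    refine le_trans ?_ (dim_mono_subset hrange)
    apply dim_closure_le_of_forall ξ
    intro z v hv
    have hξz : ξ ⤳ z := by
      have : ξ ∈ Set.range (X.fromSpecStalk z) := ⟨v, hv⟩
      rw [Scheme.range_fromSpecStalk] at this
      exact this
    obtain ⟨w, hw⟩ := exists_of_specializes Y (hξz.map π.continuous)
    obtain ⟨n, hn⟩ := exists_trdeg_eq_nat π z
    have h1 := (coheight_add_trdeg_aux π z ξ hξz n 0 hn hE v hv w hw).1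
    have h2 : (Order.coheight v : ℕ∞) + (n : ℕ∞) ≤ Order.coheight w + ((0 : ℕ) : ℕ∞) := by
      exact_mod_cast h1
    have h3 : (Order.coheight v : ℕ∞) ≤ Order.coheight w := by
      calc (Order.coheight v : ℕ∞) ≤ Order.coheight v + n := le_self_add
        _ ≤ Order.coheight w + ((0 : ℕ) : ℕ∞) := h2
        _ = Order.coheight w := by simp
    exact (WithBot.coe_le_coe.mpr h3).trans
      (coheight_le_dim_closure (π.base ξ) (π.base z) w hw)

end Groth.Agent.S17653
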