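import Groth.Statements.S17658
import Mathlib

set_option autoImplicit false
universe u
open Surf

namespace Groth.Agent.S17658

open MvPolynomial

/-- bidegree set -/
def B (a b : ℕ) : Set (Fin 4 →₀ ℕ) := {e | e 2 + e 3 = a ∧ e 0 + e 1 = b + e 2}

lemma span_eq (k : Type u) [Field k] (a b : ℕ) :
    Submodule.span k {f : MvPolynomial (Fin 4) k | ∃ e : Fin 4 →₀ ℕ,
      e 2 + e 3 = a ∧ e 0 + e 1 = b + e 2 ∧ f = monomial e 1}
      = restrictSupport k (B a b) := by
  rw [restrictSupport_eq_span]
  congr 1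
  ext f
  constructor
  · rintro ⟨e, h1, h2, rfl⟩
    exact ⟨e, ⟨h1, h2⟩, rfl⟩
  · rintro ⟨e, ⟨h1, h2⟩, rfl⟩
    exact ⟨e, h1, h2, rfl⟩

lemma exists_factor {k : Type u} [Field k] (mo : MonomialOrder (Fin 4)) (a b c : ℕ)
    (W : Submodule k (MvPolynomial (Fin 4) k))
    (h₁ : ∀ i j : ℕ, i ≤ a → j * (c + 1) < b + i → ∃ w ∈ W, w ≠ 0 ∧
      mo.degree w = Finsupp.single 0 (b + i - j * (c + 1)) + Finsupp.single 1 (j * (c + 1)) +
        Finsupp.single 2 i + Finsupp.single 3 (a - i))
    (h₂ : ∀ i : ℕ, i ≤ a → ∃ w ∈ W, w ≠ 0 ∧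
      mo.degree w = Finsupp.single 1 (b + i) + Finsupp.single 2 i + Finsupp.single 3 (a - i))
    (e : Fin 4 →₀ ℕ) (he : e ∈ B a (b + c)) :
    ∃ w ∈ W, w ≠ 0 ∧ ∃ es ∈ B 0 c, mo.degree w + es = e := by
  obtain ⟨he1, he2⟩ := he
  have hi : e 2 ≤ a := by omega
  by_cases hq : b + e 2 ≤ e 1
  · obtain ⟨w, hw, hw0, hdeg⟩ := h₂ (e 2) hi
    refine ⟨w, hw, hw0, Finsupp.single 0 (e 0) + Finsupp.single 1 (e 1 - (b + e 2)), ⟨?_, ?_⟩, ?_⟩
    · simp [Finsupp.single_apply]
    · simp [Finsupp.single_apply]
      omega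
    · rw [hdeg]
      ext x
      fin_cases x <;> simp [Finsupp.single_apply] <;> omega
  · push_neg at hq
    have hJ1 : e 1 / (c + 1) * (c + 1) ≤ e 1 := Nat.div_mul_le_self _ _
    have hJ2 : e 1 < e 1 / (c + 1) * (c + 1) + (c + 1) := Nat.lt_div_mul_add (Nat.succ_pos c)
    have hj : e 1 / (c + 1) * (c + 1) < b + e 2 := lt_of_le_of_lt hJ1 hq
    obtain ⟨w, hw, hw0, hdeg⟩ := h₁ (e 2) (e 1 / (c + 1)) hi hj
    refine ⟨w, hw, hw0, Finsupp.single 0 (e 0 - (b + e 2 - e 1 / (c + 1) * (c + 1))) +
      Finsupp.single 1 (e 1 - e 1 / (c + 1) * (c + 1)), ⟨?_, ?_⟩, ?_⟩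
    · simp [Finsupp.single_apply]
    · generalize e 1 / (c + 1) * (c + 1) = J at *
      simp [Finsupp.single_apply]
      omega
    · rw [hdeg]
      generalize e 1 / (c + 1) * (c + 1) = J at *
      ext x
      fin_cases x <;> simp [Finsupp.single_apply] <;> omega

/-- In the polynomial ring k[T₀,T₁,U,V] over a field k, bigraded by deg T₀ = deg T₁ = (0,1), deg U =
(1,−1), deg V = (1,0) (the Cox ring of the Hirzebruch surface F₁; its piece of bidegree (a,b) is the
space of sections of O(a(E+F)+bF)), let S_(a,b) denote the k-span of the monomials of bidegree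
(a,b), so that S_(0,c) is the space of forms of degree c in T₀, T₁. A subspace W ⊆ S_(a,b) is called
c-generating when W·S_(0,c) = S_(a,b+c). Fix a monomial order and natural numbers a, b, c, and let
W₀(a,b,c) be the set of monomials U^i V^(a−i) T₀^(b+i−j(c+1)) T₁^(j(c+1)) with 0 ≤ i ≤ a, j ≥ 0 and
j(c+1) < b+i, together with the monomials U^i V^(a−i) T₁^(b+i) with 0 ≤ i ≤ a. If every monomial of
W₀(a,b,c) is the leading monomial of some nonzero element of W, then W is c-generating. (The source
fixes the graded lexicographic order with U > V > T₀ > T₁ and works over the complex numbers; its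
argument uses only that leading monomials are multiplicative and that W₀(a,b,c)·S_(0,c) contains
every monomial of S_(a,b+c), so any monomial order and any field are allowed here. The printed index
j runs from 1; with that range the statement fails already for a = 0, b = c = 1 and W spanned by T₁,
and the range from 0 used here is the one matching the accompanying dimension count.) Variables are
indexed T₀ = 0, T₁ = 1, U = 2, V = 3. -/
theorem result (k : Type u) [Field k]
    (mo : MonomialOrder (Fin 4)) (a b c : ℕ) (W : Submodule k (MvPolynomial (Fin 4) k))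
    (hW : W ≤ Submodule.span k {f : MvPolynomial (Fin 4) k | ∃ e : Fin 4 →₀ ℕ, e 2 + e 3 = a ∧ e 0 + e 1 = b + e 2 ∧ f = MvPolynomial.monomial e 1})
    (h₁ : ∀ i j : ℕ, i ≤ a → j * (c + 1) < b + i → ∃ w ∈ W, w ≠ 0 ∧
      mo.degree w = Finsupp.single 0 (b + i - j * (c + 1)) + Finsupp.single 1 (j * (c + 1)) +
        Finsupp.single 2 i + Finsupp.single 3 (a - i))
    (h₂ : ∀ i : ℕ, i ≤ a → ∃ w ∈ W, w ≠ 0 ∧
      mo.degree w = Finsupp.single 1 (b + i) + Finsupp.single 2 i + Finsupp.single 3 (a - i)) :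
    W * Submodule.span k {f : MvPolynomial (Fin 4) k | ∃ e : Fin 4 →₀ ℕ, e 2 + e 3 = 0 ∧ e 0 + e 1 = c + e 2 ∧ f = MvPolynomial.monomial e 1} =
      Submodule.span k {f : MvPolynomial (Fin 4) k | ∃ e : Fin 4 →₀ ℕ, e 2 + e 3 = a ∧ e 0 + e 1 = (b + c) + e 2 ∧ f = MvPolynomial.monomial e 1} := by
  rw [span_eq k a b] at hW
  rw [span_eq k 0 c, span_eq k a (b + c)]
  have hsub : W * restrictSupport k (B 0 c) ≤ restrictSupport k (B a (b + c)) := by
    refine le_trans (Submodule.mul_le.mpr (fun m hm n hn => Submodule.mul_mem_mul (hW hm) hn)) ?_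
    rw [← restrictSupport_add]
    apply restrictSupport_mono
    rw [Set.add_subset_iff]
    rintro x ⟨hx1, hx2⟩ y ⟨hy1, hy2⟩
    constructor
    · simp only [Finsupp.add_apply]; omega
    · simp only [Finsupp.add_apply]; omega
  apply le_antisymm hsub
  intro f hf
  have key : ∀ (d : mo.syn) (f : MvPolynomial (Fin 4) k),
      f ∈ restrictSupport k (B a (b + c)) →
      mo.toSyn (mo.degree f) = d → f ∈ W * restrictSupport k (B 0 c) := by
    intro d
    refine WellFoundedLT.induction (motive := fun d => ∀ f : MvPolynomial (Fin 4) k,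
      f ∈ restrictSupport k (B a (b + c)) → mo.toSyn (mo.degree f) = d →
      f ∈ W * restrictSupport k (B 0 c)) d ?_
    intro d ih f hf hd
    by_cases hf0 : f = 0
    · rw [hf0]; exact zero_mem _
    have he : mo.degree f ∈ f.support := mo.degree_mem_support hf0
    have hB : mo.degree f ∈ B a (b + c) := ((mem_restrictSupport_iff k).mp hf) he
    obtain ⟨w, hw, hw0, es, hes, hdeg⟩ := exists_factor mo a b c W h₁ h₂ _ hB
    have hs0 : (monomial es (1 : k)) ≠ 0 := by
      rw [Ne, monomial_eq_zero]; exact one_ne_zero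
    have hsmem : monomial es (1 : k) ∈ restrictSupport k (B 0 c) :=
      (monomial_mem_restrictSupport k).mpr (Or.inl hes)
    have hhM : w * monomial es (1 : k) ∈ W * restrictSupport k (B 0 c) :=
      Submodule.mul_mem_mul hw hsmem
    have hdegh : mo.degree (w * monomial es (1 : k)) = mo.degree f := by
      classical
      rw [mo.degree_mul hw0 hs0, mo.degree_monomial, if_neg one_ne_zero, hdeg]
    have hlch : mo.leadingCoeff (w * monomial es (1 : k)) = mo.leadingCoeff w := by
      rw [mo.leadingCoeff_mul, mo.leadingCoeff_monomial, mul_one]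
    have hlcw : mo.leadingCoeff w ≠ 0 := mo.leadingCoeff_ne_zero_iff.mpr hw0
    obtain ⟨r, hr⟩ : ∃ r : k, r * mo.leadingCoeff w = mo.leadingCoeff f :=
      ⟨_, div_mul_cancel₀ _ hlcw⟩
    have hc : coeff (mo.degree f) (w * monomial es (1 : k)) = mo.leadingCoeff w := by
      rw [← hdegh]; exact hlch
    have hgmem : f - r • (w * monomial es (1 : k)) ∈ restrictSupport k (B a (b + c)) :=
      sub_mem hf (Submodule.smul_mem _ r (hsub hhM))
    have hg : f - r • (w * monomial es (1 : k)) ∈ W * restrictSupport k (B 0 c) := by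
      by_cases hg0 : f - r • (w * monomial es (1 : k)) = 0
      · rw [hg0]; exact zero_mem _
      have hle : mo.toSyn (mo.degree (f - r • (w * monomial es (1 : k)))) ≤ d := by
        refine le_trans mo.degree_sub_le (sup_le (le_of_eq hd) ?_)
        refine le_trans mo.degree_smul_le (le_of_eq ?_)
        rw [hdegh, hd]
      have hne : mo.toSyn (mo.degree (f - r • (w * monomial es (1 : k)))) ≠ d := by
        intro heq
        have hdeq : mo.degree (f - r • (w * monomial es (1 : k))) = mo.degree f :=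
          mo.toSyn.injective (heq.trans hd.symm)
        apply hg0
        rw [← mo.coeff_degree_eq_zero_iff, hdeq, coeff_sub, coeff_smul, hc, smul_eq_mul, hr]
        exact sub_self _
      exact ih _ (lt_of_le_of_ne hle hne) _ hgmem rfl
    have : f = (f - r • (w * monomial es (1 : k))) + r • (w * monomial es (1 : k)) :=
      (sub_add_cancel _ _).symm
    rw [this]
    exact add_mem hg (Submodule.smul_mem _ r hhM)
  exact key _ f hf rfl

end Groth.Agent.S17658
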