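import Groth.Statements.S17661
import Groth.Agent.H19.SmoothFormal

set_option autoImplicit false
universe u
open CategoryTheory CategoryTheory.Limits AlgebraicGeometry
open Ribbon

namespace Groth.Agent.S17661

/-- Let k be a field, C a scheme locally of finite type over k and I ⊂ O_C a quasi-coherent ideal with
I² = 0, with closed subscheme D ⊂ C; suppose D is affine, connected and smooth over k and that I,
regarded as an O_D-module, is invertible (so C is a ribbon on the smooth affine scheme D, and D is
the reduced scheme underlying C). Then the ribbon is split: the inclusion D → C admits a retraction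
C → D over k. -/
theorem result (k : Type u) [Field k] (C : Scheme.{u}) [C.Over (Spec (CommRingCat.of k))]
    [LocallyOfFiniteType (C ↘ (Spec (CommRingCat.of k)))]
    (I : C.IdealSheafData) (hI : I ^ 2 = ⊥) [IsAffine I.subscheme] [ConnectedSpace I.subscheme]
    [Smooth (I.subschemeι ≫ (C ↘ (Spec (CommRingCat.of k))))]
    (hconormal : PicF.IsInvertible ((Scheme.Modules.pullback I.subschemeι).obj (ClSub.idealMod I))) :
    ∃ r : C ⟶ I.subscheme, I.subschemeι ≫ r = 𝟙 I.subscheme ∧
      r ≫ I.subschemeι ≫ (C ↘ (Spec (CommRingCat.of k))) = C ↘ (Spec (CommRingCat.of k)) := by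
  have hker : I.subschemeι.ker * I.subschemeι.ker = ⊥ := by
    rw [Scheme.IdealSheafData.ker_subschemeι, ← pow_two]; exact hI
  obtain ⟨l, hl1, hl2⟩ := Groth.Agent.H19.SmoothFormal.exists_lift_of_thickening
    (I.subschemeι ≫ (C ↘ (Spec (CommRingCat.of k))))
    (fun {_} hU {_} hV e =>
      ((I.subschemeι ≫ (C ↘ (Spec (CommRingCat.of k)))).smooth_appLE hV hU e).formallySmooth)
    I.subschemeι hker (𝟙 _) (C ↘ (Spec (CommRingCat.of k))) (by rw [Category.id_comp])
  exact ⟨l, hl1, hl2⟩

end Groth.Agent.S17661
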