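import Groth.Statements.S17677
import Groth.Agent.H96.GrComod
import Mathlib.RingTheory.Bialgebra.MonoidAlgebra
import Mathlib.Tactic.Abel

set_option autoImplicit false
universe u
open Hoch

namespace Groth.Agent.S17677

open Groth.Agent.H96 TensorProduct in
/-- Let k be a commutative ring, M a commutative monoid and V a right comodule over the monoid bialgebra
k[M] (a quasi-coherent module with an action of the diagonalizable monoid scheme Spec k[M]). Then
every 1-cocycle of the Hochschild complex of V is a 1-coboundary, i.e. the first Hochschild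
cohomology module of the diagonalizable monoid with coefficients in V is zero. (The source works
over an algebraic space with M finitely generated and cancellative, hypotheses it uses only to
identify modules under the monoid with comodules; the cocycle computation, which is the affine
statement given here, uses neither.) -/
theorem result (k : Type u) [CommRing k] (M : Type u)
    [AddCommMonoid M] (V : Type u) [AddCommGroup V] [Module k V]
    [HopfRep.Comod k (AddMonoidAlgebra k M) V] :
    Hoch.cocycles k (AddMonoidAlgebra k M) V 1 ≤ Hoch.coboundaries k (AddMonoidAlgebra k M) V 1 := by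
  classical
  have hb : ∀ m, IsGroupLikeElem k ((AddMonoidAlgebra.basis M k) m) := fun m => by
    rw [AddMonoidAlgebra.basis_apply]
    exact AddMonoidAlgebra.isGroupLikeElem_single_one m
  have h1 : (1 : AddMonoidAlgebra k M) = (AddMonoidAlgebra.basis M k) 0 := by
    rw [AddMonoidAlgebra.basis_apply, AddMonoidAlgebra.one_def]
  have hP' : ∀ (s : V ⊗[k] AddMonoidAlgebra k M) (m' : M),
      GrComod.P (AddMonoidAlgebra.basis M k) 0 (s ⊗ₜ[k] (AddMonoidAlgebra.basis M k) m') =
        if m' = 0 then s else 0 :=
    fun s m' => GrComod.P_tmul_basis (AddMonoidAlgebra.basis M k) 0 m' s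
  have hP : ∀ (v : V) (m' : M),
      GrComod.P (AddMonoidAlgebra.basis M k) 0 (v ⊗ₜ[k] (AddMonoidAlgebra.basis M k) m') =
        if m' = 0 then v else 0 :=
    fun v m' => GrComod.P_tmul_basis (AddMonoidAlgebra.basis M k) 0 m' v
  have key : ∀ (v : V) (m : M),
      GrComod.P (AddMonoidAlgebra.basis M k) 0
        (Hoch.d k (AddMonoidAlgebra k M) V 1 (v ⊗ₜ[k] (AddMonoidAlgebra.basis M k) m)) =
      Hoch.d k (AddMonoidAlgebra k M) V 0
        (GrComod.P (AddMonoidAlgebra.basis M k) 0 (v ⊗ₜ[k] (AddMonoidAlgebra.basis M k) m)) +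
        v ⊗ₜ[k] (AddMonoidAlgebra.basis M k) m := by
    intro v m
    have hd1 : Hoch.d k (AddMonoidAlgebra k M) V 1 (v ⊗ₜ[k] (AddMonoidAlgebra.basis M k) m) =
        (HopfRep.Comod.coact (k := k) (A := AddMonoidAlgebra k M) v -
          v ⊗ₜ[k] (AddMonoidAlgebra.basis M k) 0) ⊗ₜ[k] (AddMonoidAlgebra.basis M k) m -
        ((v ⊗ₜ[k] (AddMonoidAlgebra.basis M k) m) ⊗ₜ[k] (AddMonoidAlgebra.basis M k) m -
          (v ⊗ₜ[k] (AddMonoidAlgebra.basis M k) m) ⊗ₜ[k] (AddMonoidAlgebra.basis M k) 0 -
          (v ⊗ₜ[k] (AddMonoidAlgebra.basis M k) 0) ⊗ₜ[k] (AddMonoidAlgebra.basis M k) m) := by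
      rw [Hoch.d_succ, LinearMap.add_apply, LinearMap.rTensor_tmul, Hoch.d_zero_apply,
        LinearMap.smul_apply, Hoch.tail_tmul, (hb m).comul_eq_tmul_self, ← h1]
      simp only [zero_add, pow_one, neg_smul, one_smul, TensorProduct.tmul_sub, map_sub,
        TensorProduct.assoc_symm_tmul]
      abel
    rw [hd1, map_sub, map_sub, map_sub, hP', hP', hP', hP', hP, Hoch.d_zero_apply, ← h1]
    by_cases hm : m = 0
    · subst hm
      simp only [if_true, ← h1]
      abel
    · simp only [if_neg hm, if_true, map_zero, TensorProduct.zero_tmul, sub_zero, zero_sub,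
        neg_neg, sub_self, zero_add]
  have keyL : ∀ t : V ⊗[k] AddMonoidAlgebra k M,
      GrComod.P (AddMonoidAlgebra.basis M k) 0 (Hoch.d k (AddMonoidAlgebra k M) V 1 t) =
      Hoch.d k (AddMonoidAlgebra k M) V 0 (GrComod.P (AddMonoidAlgebra.basis M k) 0 t) + t := by
    intro t
    induction t using TensorProduct.induction_on with
    | zero => simp
    | tmul v x =>
      have h2 := LinearMap.congr_fun ((AddMonoidAlgebra.basis M k).ext
        (f₁ := (GrComod.P (AddMonoidAlgebra.basis M k) 0 ∘ₗ
          Hoch.d k (AddMonoidAlgebra k M) V 1) ∘ₗ TensorProduct.mk k V (AddMonoidAlgebra k M) v)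
        (f₂ := (Hoch.d k (AddMonoidAlgebra k M) V 0 ∘ₗ GrComod.P (AddMonoidAlgebra.basis M k) 0 +
          LinearMap.id) ∘ₗ TensorProduct.mk k V (AddMonoidAlgebra k M) v)
        (fun m => by
          simp only [LinearMap.comp_apply, LinearMap.add_apply, LinearMap.id_apply,
            TensorProduct.mk_apply]
          exact key v m)) x
      simp only [LinearMap.comp_apply, LinearMap.add_apply, LinearMap.id_apply,
        TensorProduct.mk_apply] at h2
      exact h2
    | add x y hx hy =>
      rw [map_add, map_add, hx, hy, map_add, map_add]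
      abel
  intro c hc
  have hc' : Hoch.d k (AddMonoidAlgebra k M) V 1 c = 0 := hc
  have h3 := keyL c
  rw [hc', map_zero] at h3
  refine ⟨-(GrComod.P (AddMonoidAlgebra.basis M k) 0 c), ?_⟩
  rw [map_neg]
  exact (eq_neg_of_add_eq_zero_right h3.symm).symm

end Groth.Agent.S17677
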