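import Groth.Statements.S17678
import Mathlib.Algebra.MonoidAlgebra.Basic
import Mathlib.Algebra.MonoidAlgebra.Module
import Mathlib.RingTheory.Flat.Basic

set_option autoImplicit false
universe u v
open DiagMon

namespace Groth.Agent.S17678

/-- the shear automorphism `(a, c) ↦ (a - c, c)` -/
def shear (N : Type v) [AddCommGroup N] : N × N ≃+ N × N where
  toFun p := (p.1 - p.2, p.2)
  invFun p := (p.1 + p.2, p.2)
  left_inv p := by simp
  right_inv p := by simp
  map_add' p q := by
    ext
    · simp only [Prod.fst_add, Prod.snd_add]; abel
    · simp

/-- Let R be a commutative ring and N an abelian group. Then the ring map R[N] → R[N × N] of monoid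
algebras induced by the diagonal n ↦ (n, n), which is the comorphism of the multiplication morphism
of the diagonalizable group scheme Spec R[N] over Spec R, is flat. (The published statement asserts
flatness for every cancellative commutative monoid N, on the ground that N acts freely on N × N
through the diagonal; but for the submonoid N of the natural numbers generated by 2 and 3, the pairs
(x, x − 1) with x ≥ 3 form one orbit class that is not a free orbit, and the corresponding direct
summand of k[N × N] is the ideal t³k[t] viewed as a module over k[t², t³], which is not flat. The
statement is therefore given for groups, where N × N is a free N-set with basis the pairs (0, b).) -/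
theorem result (R : Type u) [CommRing R] (N : Type v)
    [AddCommGroup N] :
    (AddMonoidAlgebra.mapDomainRingHom R ((AddMonoidHom.id N).prod (AddMonoidHom.id N))).Flat := by
  classical
  -- the diagonal is the shear inverse after the second inclusion
  have hdiag : (AddMonoidHom.id N).prod (AddMonoidHom.id N) =
      ((shear N).symm : N × N →+ N × N).comp (AddMonoidHom.inr N N) := by
    ext n <;> simp [shear]
  rw [hdiag, AddMonoidAlgebra.mapDomainRingHom_comp]
  refine RingHom.Flat.comp ?_ (RingHom.Flat.of_bijective ?_)
  · -- the second inclusion is flat, via currying
    have hcurry : (AddMonoidAlgebra.curryRingEquiv (R := R) (M := N) (N := N)).toRingHom.comp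
        (AddMonoidAlgebra.mapDomainRingHom R (AddMonoidHom.inr N N)) =
        algebraMap (AddMonoidAlgebra R N) (AddMonoidAlgebra (AddMonoidAlgebra R N) N) := by
      ext <;> simp
    have hflat : (algebraMap (AddMonoidAlgebra R N)
        (AddMonoidAlgebra (AddMonoidAlgebra R N) N)).Flat := by
      rw [RingHom.flat_algebraMap_iff]
      have : Module.Free (AddMonoidAlgebra R N) (AddMonoidAlgebra (AddMonoidAlgebra R N) N) :=
        Module.Free.of_basis (AddMonoidAlgebra.basis N (AddMonoidAlgebra R N))
      infer_instance
    rw [← hcurry] at hflat
    exact (RingHom.Flat.comp_iff_of_bijective_left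
      (AddMonoidAlgebra.curryRingEquiv (R := R) (M := N) (N := N)).bijective).mp hflat
  · exact (AddMonoidAlgebra.mapDomainRingEquiv R (shear N).symm).bijective

end Groth.Agent.S17678
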