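import Groth.Statements.S17679
import Mathlib.Algebra.Group.Submonoid.Finsupp
import Mathlib.LinearAlgebra.Dimension.OrzechProperty
import Mathlib.LinearAlgebra.Dimension.Free
import Mathlib.LinearAlgebra.Dimension.Constructions
import Mathlib.RingTheory.FiniteType
import Mathlib.LinearAlgebra.FreeModule.Finite.Basic

set_option autoImplicit false
open DiagMon

namespace Groth.Agent.S17679

theorem part_one (n : ℕ) (hn : 1 ≤ n) :
    ∃ s : Finset (Fin n → ℤ), s.card = n + 1 ∧ AddSubmonoid.closure (s : Set (Fin n → ℤ)) = ⊤ := by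
  classical
  let e : Fin n → (Fin n → ℤ) := fun i => Pi.single i 1
  let w : Fin n → ℤ := fun _ => -1
  have he_inj : Function.Injective e := by
    intro i j hij
    by_contra hne
    have := congrFun hij i
    simp [e, hne] at this
  have hw : w ∉ Finset.univ.image e := by
    intro h
    obtain ⟨i, -, hi⟩ := Finset.mem_image.mp h
    have := congrFun hi i
    simp [e, w] at this
  refine ⟨insert w (Finset.univ.image e), ?_, ?_⟩
  · rw [Finset.card_insert_of_notMem hw, Finset.card_image_of_injective _ he_inj]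
    simp
  · rw [eq_top_iff]
    intro x _
    set S := AddSubmonoid.closure ((insert w (Finset.univ.image e) : Finset (Fin n → ℤ)) :
      Set (Fin n → ℤ)) with hS
    have hwS : w ∈ S := AddSubmonoid.subset_closure (by simp)
    have heS : ∀ i, e i ∈ S := fun i => AddSubmonoid.subset_closure (by simp)
    let k : ℕ := ∑ i, (x i).natAbs
    have hk : ∀ i, 0 ≤ x i + k := by
      intro i
      have h1 : (x i).natAbs ≤ k :=
        Finset.single_le_sum (f := fun i => (x i).natAbs) (fun _ _ => Nat.zero_le _) (Finset.mem_univ i)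
      have h2 : -((x i).natAbs : ℤ) ≤ x i := by omega
      have h3 : ((x i).natAbs : ℤ) ≤ (k : ℤ) := by exact_mod_cast h1
      linarith
    have hx : x = (∑ i, (x i + k).toNat • e i) + k • w := by
      funext j
      simp only [Pi.add_apply, Finset.sum_apply, Pi.smul_apply, e, w, Pi.single_apply]
      simp only [nsmul_eq_mul, mul_ite, mul_one, mul_zero, Finset.sum_ite_eq, Finset.mem_univ,
        if_true]
      rw [Int.toNat_of_nonneg (hk j)]
      ring
    rw [hx]
    exact S.add_mem (S.sum_mem fun i _ => S.nsmul_mem (heS i) _) (S.nsmul_mem hwS _)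

theorem part_two (n : ℕ) (hn : 1 ≤ n) (s : Finset (Fin n → ℤ))
    (hs : AddSubmonoid.closure (s : Set (Fin n → ℤ)) = ⊤) : n + 1 ≤ s.card := by
  classical
  by_contra hlt
  have hcard : s.card ≤ n := by omega
  let b : s → (Fin n → ℤ) := fun i => i.1
  have hrange : Set.range b = (s : Set (Fin n → ℤ)) := by
    ext x; simp [b]
  have hspan : ⊤ ≤ Submodule.span ℤ (Set.range b) := by
    intro x _
    have hx : x ∈ AddSubmonoid.closure (s : Set (Fin n → ℤ)) := by rw [hs]; trivial
    rw [hrange]
    have : AddSubmonoid.closure (s : Set (Fin n → ℤ)) ≤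
        (Submodule.span ℤ (s : Set (Fin n → ℤ))).toAddSubmonoid :=
      AddSubmonoid.closure_le.mpr Submodule.subset_span
    exact this hx
  have hfin : Module.finrank ℤ (Fin n → ℤ) = n := Module.finrank_fin_fun ℤ
  have hli : LinearIndependent ℤ b := by
    apply linearIndependent_of_top_le_span_of_card_le_finrank hspan
    rw [hfin, Fintype.card_coe]
    exact hcard
  -- `s` is nonempty
  have hne : s.Nonempty := by
    rw [Finset.nonempty_iff_ne_empty]
    rintro rfl
    have h0 : (Pi.single (⟨0, hn⟩ : Fin n) (1 : ℤ) : Fin n → ℤ) ∈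
        AddSubmonoid.closure ((∅ : Finset (Fin n → ℤ)) : Set (Fin n → ℤ)) := by rw [hs]; trivial
    simp only [Finset.coe_empty, AddSubmonoid.closure_empty, AddSubmonoid.mem_bot] at h0
    have := congrFun h0 ⟨0, hn⟩
    simp at this
  obtain ⟨s₁, hs₁⟩ := hne
  have hneg : -s₁ ∈ AddSubmonoid.closure (s : Set (Fin n → ℤ)) := by rw [hs]; trivial
  obtain ⟨a, ha⟩ := AddSubmonoid.mem_closure_finset'.mp hneg
  have hrel : ∑ i : s, ((a i : ℤ) + if i = ⟨s₁, hs₁⟩ then 1 else 0) • b i = 0 := by
    simp only [add_smul, Finset.sum_add_distrib, ite_smul, one_smul, zero_smul,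
      Finset.sum_ite_eq', Finset.mem_univ, if_true]
    have : ∑ i : s, (a i : ℤ) • b i = -s₁ := by
      rw [ha]
      apply Finset.sum_congr rfl
      intro i _
      simp [b]
    rw [this]
    simp [b]
  have := (Fintype.linearIndependent_iff.mp hli) _ hrel ⟨s₁, hs₁⟩
  simp only [if_true] at this
  have hnn : (0 : ℤ) ≤ (a ⟨s₁, hs₁⟩ : ℤ) := Int.natCast_nonneg _
  omega

/-- For n ≥ 1 the minimal number of generators of ℤ^n as an additive monoid is n + 1: some n + 1
elements generate ℤ^n as a monoid, and every finite set generating ℤ^n as a monoid has at least n +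
1 elements. (For n = 0 the empty set generates the zero monoid, so the count n + 1 is stated for n ≥
1 only.) -/
theorem result (n : ℕ) (hn : 1 ≤ n) :
    (∃ s : Finset (Fin n → ℤ), s.card = n + 1 ∧ AddSubmonoid.closure (s : Set (Fin n → ℤ)) = ⊤) ∧
    ∀ s : Finset (Fin n → ℤ), AddSubmonoid.closure (s : Set (Fin n → ℤ)) = ⊤ → n + 1 ≤ s.card :=
  ⟨part_one n hn, part_two n hn⟩

end Groth.Agent.S17679
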