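import Groth.Statements.S17681
import Groth.Agent.H40.FixedPt

set_option autoImplicit false
universe u
open CategoryTheory MonoidalCategory CartesianMonoidalCategory MonObj GrpObj AlgebraicGeometry
open AlgGrp

namespace Groth.Agent.S17681

/-- Let S be a scheme, G a flat S-group scheme of finite presentation with connected fibres, X and Y
S-schemes locally of finite presentation with actions of G, and f : X → Y an étale G-equivariant
S-morphism; assume that S is locally Noetherian or that X and Y are quasi-separated over S. Then f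
reflects fixed points: a T-point x of X whose image in Y is fixed by G after every base change T' →
T is itself fixed by G after every base change, so that the fixed-point subfunctor of X is the
preimage of that of Y. (The source allows X and Y to be algebraic spaces over S; this row is the
case of schemes.) -/
theorem result (S : Scheme.{u})
    (G : Over S) [GrpObj G] [Flat G.hom] [LocallyOfFinitePresentation G.hom] [QuasiCompact G.hom]
    [QuasiSeparated G.hom] (hconn : ∀ s : S, ConnectedSpace (G.hom.fiber s))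
    (X Y : Over S) [LocallyOfFinitePresentation X.hom] [LocallyOfFinitePresentation Y.hom]
    (hS : IsLocallyNoetherian S ∨ (QuasiSeparated X.hom ∧ QuasiSeparated Y.hom))
    (a : AlgGrp.Action G X) (b : AlgGrp.Action G Y) (f : X ⟶ Y) [Etale f.left]
    (hf : a.act ≫ f = (G ◁ f) ≫ b.act) (T : Over S) (x : T ⟶ X)
    (hx : ∀ (T' : Over S) (t : T' ⟶ T) (g : T' ⟶ G), lift g (t ≫ x ≫ f) ≫ b.act = t ≫ x ≫ f)
    (T' : Over S) (t : T' ⟶ T) (g : T' ⟶ G) : lift g (t ≫ x) ≫ a.act = t ≫ x := by
  open Groth.Agent.H40.FixedPt CategoryTheory.Limits in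
  have hdiag : IsOpenImmersion (pullback.diagonal f.left) := inferInstance
  have hgc : GeometricallyConnected G.hom := geomConn_of_grp hconn
  obtain ⟨x', hx'def⟩ : ∃ x' : T' ⟶ X, x' = t ≫ x := ⟨_, rfl⟩
  have hx' : ∀ (T'' : Over S) (t' : T'' ⟶ T') (g' : T'' ⟶ G),
      lift g' (t' ≫ x' ≫ f) ≫ b.act = t' ≫ x' ≫ f := by
    intro T'' t' g'
    have := hx T'' (t' ≫ t) g'
    rw [hx'def]
    simpa using this
  obtain ⟨E, hE⟩ := exists_stab_open a x' b f hf hx'
  have hall : ∀ z : (G ⊗ T').left, z ∈ E := by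
    intro z
    obtain ⟨ζ, hζdef⟩ : ∃ ζ, ζ = (G ⊗ T').left.fromSpecResidueField z := ⟨_, rfl⟩
    have hζr : Set.range ζ.base = {z} := by
      rw [hζdef]
      exact Scheme.range_fromSpecResidueField z
    obtain ⟨ζ', hζ'l⟩ : ∃ ζ' : Over.mk (ζ ≫ (G ⊗ T').hom) ⟶ G ⊗ T', ζ'.left = ζ :=
      ⟨Over.homMk ζ rfl, rfl⟩
    obtain ⟨h, hh⟩ : ∃ h : Over.mk (ζ ≫ (G ⊗ T').hom) ⟶ G, h = ζ' ≫ fst G T' := ⟨_, rfl⟩
    obtain ⟨tK, htK⟩ : ∃ tK : Over.mk (ζ ≫ (G ⊗ T').hom) ⟶ T', tK = ζ' ≫ snd G T' := ⟨_, rfl⟩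
    have hζ' : ζ' = lift h tK := by
      rw [hh, htK]
      exact lift_fst_snd_eq ζ'
    have hconnK : ConnectedSpace (G ⊗ Over.mk (ζ ≫ (G ⊗ T').hom)).left :=
      GeometricallyConnected.geometrically_connectedSpace (f := G.hom) (ζ ≫ (G ⊗ T').hom)
        (pullback.fst _ _) (pullback.snd _ _) (IsPullback.of_hasPullback _ _)
    have hopenK : ∀ {TL : Over S} (tL : TL ⟶ Over.mk (ζ ≫ (G ⊗ T').hom)),
        UniversallyOpen tL.left := by
      intro TL tL
      have : IsIntegral (Over.mk (ζ ≫ (G ⊗ T').hom)).left :=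
        inferInstanceAs (IsIntegral (Spec ((G ⊗ T').left.residueField z)))
      have : Subsingleton (Over.mk (ζ ≫ (G ⊗ T').hom)).left :=
        inferInstanceAs (Subsingleton (Spec ((G ⊗ T').left.residueField z)))
      infer_instance
    have hxK : ∀ (T'' : Over S) (t' : T'' ⟶ Over.mk (ζ ≫ (G ⊗ T').hom)) (g' : T'' ⟶ G),
        lift g' (t' ≫ (tK ≫ x') ≫ f) ≫ b.act = t' ≫ (tK ≫ x') ≫ f := by
      intro T'' t' g'
      have := hx' T'' (t' ≫ tK) g'
      simpa using this
    have hst : Stab a (tK ≫ x') h (𝟙 _) :=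
      stab_of_connected a (tK ≫ x') b f hf hxK hopenK h (𝟙 _)
    have hst' : Stab a x' h tK := by
      unfold Stab at *
      simpa using hst
    have := (hE h tK).mp hst'
    rw [← hζ'] at this
    have hz : z ∈ Set.range ζ'.left.base := by
      rw [hζ'l, hζr]
      rfl
    exact this hz
  have hfin : Stab a x' g (𝟙 T') := (hE g (𝟙 T')).mpr (fun _ _ => hall _)
  unfold Stab at hfin
  rw [Category.id_comp] at hfin
  rw [← hx'def]
  exact hfin

end Groth.Agent.S17681
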