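import Groth.Statements.S17683

set_option autoImplicit false
universe u
open DiagMon

namespace Groth.Agent.S17683

/-- Let N be a commutative monoid and F a submonoid of N. The additive projection ℤ[N] → ℤ[F] of monoid
algebras keeping the monomials with exponent in F and killing the others is multiplicative, i.e. F
is a face of N, if and only if for all x, y in N the sum x + y lies in F exactly when both x and y
do. -/
theorem result {N : Type u} [AddCommMonoid N] (F : AddSubmonoid N) :
    (∀ a b : AddMonoidAlgebra ℤ N,
        AddMonoidAlgebra.comapDomain ((↑) : F → N) Subtype.val_injective (a * b) =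
          AddMonoidAlgebra.comapDomain ((↑) : F → N) Subtype.val_injective a *
            AddMonoidAlgebra.comapDomain ((↑) : F → N) Subtype.val_injective b) ↔
      ∀ x y : N, x + y ∈ F ↔ (x ∈ F ∧ y ∈ F) := by
  classical
  have hsingle_mem : ∀ (z : N) (hz : z ∈ F) (r : ℤ),
      AddMonoidAlgebra.comapDomain ((↑) : F → N) Subtype.val_injective (AddMonoidAlgebra.single z r) =
        AddMonoidAlgebra.single (⟨z, hz⟩ : F) r := by
    intro z hz r
    exact AddMonoidAlgebra.comapDomain_single_map ((↑) : F → N) Subtype.val_injective ⟨z, hz⟩ r
  have hsingle_not : ∀ (z : N) (hz : z ∉ F) (r : ℤ),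
      AddMonoidAlgebra.comapDomain ((↑) : F → N) Subtype.val_injective (AddMonoidAlgebra.single z r) =
        0 := by
    intro z hz r
    have hn : z ∉ Set.range ((↑) : F → N) := by
      rintro ⟨w, rfl⟩
      exact hz w.2
    ext w
    simp only [AddMonoidAlgebra.coeff_comapDomain, Finsupp.comapDomain_apply,
      AddMonoidAlgebra.coeff_single, AddMonoidAlgebra.coeff_zero, Finsupp.coe_zero, Pi.zero_apply]
    rw [Finsupp.single_apply, if_neg]
    rintro rfl
    exact hz w.2
  constructor
  · intro h x y
    constructor
    · intro hxy
      have h1 := h (AddMonoidAlgebra.single x 1) (AddMonoidAlgebra.single y 1)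
      rw [AddMonoidAlgebra.single_mul_single, hsingle_mem _ hxy] at h1
      have hne : (AddMonoidAlgebra.single (⟨x + y, hxy⟩ : F) ((1 : ℤ) * 1)) ≠ 0 := by
        simp
      by_contra hcon
      rw [not_and_or] at hcon
      rcases hcon with hx | hy
      · rw [hsingle_not x hx, zero_mul] at h1
        exact hne h1
      · rw [hsingle_not y hy, mul_zero] at h1
        exact hne h1
    · rintro ⟨hx, hy⟩
      exact F.add_mem hx hy
  · intro h a b
    induction a using AddMonoidAlgebra.induction_linear with
    | zero => simp
    | add a₁ a₂ h₁ h₂ =>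
      rw [add_mul, AddMonoidAlgebra.comapDomain_add, AddMonoidAlgebra.comapDomain_add, add_mul, h₁, h₂]
    | single x r =>
      induction b using AddMonoidAlgebra.induction_linear with
      | zero => simp
      | add b₁ b₂ h₁ h₂ =>
        rw [mul_add, AddMonoidAlgebra.comapDomain_add, AddMonoidAlgebra.comapDomain_add, mul_add, h₁, h₂]
      | single y s =>
        rw [AddMonoidAlgebra.single_mul_single]
        by_cases hxy : x + y ∈ F
        · obtain ⟨hx, hy⟩ := (h x y).mp hxy
          rw [hsingle_mem _ hxy, hsingle_mem _ hx, hsingle_mem _ hy,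
            AddMonoidAlgebra.single_mul_single]
          rfl
        · rw [hsingle_not _ hxy]
          by_cases hx : x ∈ F
          · have hy : y ∉ F := fun hy => hxy ((h x y).mpr ⟨hx, hy⟩)
            rw [hsingle_not _ hy, mul_zero]
          · rw [hsingle_not _ hx, zero_mul]

end Groth.Agent.S17683
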