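import Groth.Statements.S4101
import Groth.Agent.H79.EFGlobal
import Groth.Agent.H79.EFLemmas

set_option autoImplicit false
universe u
open CategoryTheory MonoidalCategory CartesianMonoidalCategory MonObj GrpObj AlgebraicGeometry CategoryTheory.Limits
open SGA3

namespace Groth.Agent.S4101

/-- Let f : Z → S be essentially free (every point of S has an affine open neighbourhood U and a flat
surjective morphism S' → U from an affine scheme S' such that Z ×_S S' is covered by affine opens
whose rings of sections are projective Γ(S')-modules) and j : Y → Z a closed immersion. Then there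
is a closed immersion t : T → S such that a morphism g : S' → S factors through T exactly when the
closed immersion Y ×_Z Z_{S'} → Z_{S'} deduced from j by base change is an isomorphism; if moreover
Z is quasi-compact over S and j is of finite presentation, then t is of finite presentation. (The
published statement omits the quasi-compactness of Z over S in the last clause; it is stated here
with it.) -/
theorem result (S Z Y : Scheme.{u}) (f : Z ⟶ S)
    (hf : SGA3x.IsEssentiallyFree f) (j : Y ⟶ Z) [IsClosedImmersion j] :
    ∃ (T : Scheme.{u}) (t : T ⟶ S), IsClosedImmersion t ∧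
      (∀ (S' : Scheme.{u}) (g : S' ⟶ S),
        (∃ g' : S' ⟶ T, g' ≫ t = g) ↔ IsIso (pullback.snd j (pullback.fst f g))) ∧
      (QuasiCompact f → LocallyOfFinitePresentation j → LocallyOfFinitePresentation t) := by
  obtain ⟨c, hc, hfp⟩ := Groth.Agent.H79.EFGlobal.exists_cuts f j.ker hf
  refine ⟨c.subscheme, c.subschemeι, inferInstance, ?_, ?_⟩
  · intro S' g
    rw [Groth.Agent.H79.EFLemmas.isIso_snd_iff, ← Groth.Agent.H50.le_ker_iff_factors]
    have := hc S' (pullback f g) g (pullback.fst f g) (pullback.snd f g)
      (by rw [Category.comp_id]; exact IsPullback.of_hasPullback f g)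
    exact this.symm
  · intro hqc hj
    refine hfp hqc ?_
    have e : j.toImage ≫ j.ker.subschemeι = j := Scheme.Hom.toImage_imageι j
    have h1 : LocallyOfFinitePresentation (j.toImage ≫ j.ker.subschemeι) := by rw [e]; exact hj
    exact (MorphismProperty.cancel_left_of_respectsIso @LocallyOfFinitePresentation j.toImage
      j.ker.subschemeι).mp h1


end Groth.Agent.S4101
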