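import Groth.Statements.S17685
import Mathlib
import Groth.Agent.S4101
import Groth.Agent.H73.FX_2
import Groth.Agent.H25.IF1
import Groth.Agent.H25.IF2

set_option autoImplicit false
universe u
open CategoryTheory MonoidalCategory CartesianMonoidalCategory MonObj GrpObj AlgebraicGeometry
open AlgGrp

namespace Groth.Agent.S17685

set_option linter.style.haveILetI false
set_option linter.unusedVariables false
open CategoryTheory.Limits


/-- Let S be a scheme, F an S-scheme that is finite locally free over S (finite, flat and locally of
finite presentation) with a section e of F over S which is a surjective closed immersion (an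
infinitesimal pointed S-scheme), and X an S-scheme with an action of the pointed scheme F, i.e. an
S-morphism F ×_S X → X through which e acts as the identity. Then the subfunctor of F-fixed points
of X, whose T-points are the T-points x of X with g · x_{T'} = x_{T'} for every S-scheme T' over T
and every T'-point g of F, is represented by a closed subscheme of X. (The source allows F and X to
be algebraic spaces over S; this row is the case of schemes.) -/
theorem result (S : Scheme.{u})
    (F X : Over S) (e : 𝟙_ (Over S) ⟶ F) (act : F ⊗ X ⟶ X) (he : (e ▷ X) ≫ act = (λ_ X).hom)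
    [IsFinite F.hom] [Flat F.hom] [LocallyOfFinitePresentation F.hom]
    [IsClosedImmersion e.left] [Surjective e.left] :
    ∃ (Z : Scheme.{u}) (i : Z ⟶ X.left), IsClosedImmersion i ∧
      ∀ (T : Over S) (x : T ⟶ X), (∃ y : T.left ⟶ Z, y ≫ i = x.left) ↔
        ∀ (T' : Over S) (t : T' ⟶ T) (g : T' ⟶ F), lift g (t ≫ x) ≫ act = t ≫ x := by
  haveI : IsClosedImmersion (equalizer.ι act (snd F X)).left :=
    Groth.Agent.H25.IF2.isClosedImmersion_equalizer_ι F X e act he
  have hff : IsFinite (snd F X).left := by
    rw [Over.snd_left]
    infer_instance
  have hfl : Flat (snd F X).left := by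
    rw [Over.snd_left]
    infer_instance
  have hfp : LocallyOfFinitePresentation (snd F X).left := by
    rw [Over.snd_left]
    infer_instance
  obtain ⟨Z, i, hi, hfac, -⟩ := Groth.Agent.S4101.result X.left (F ⊗ X).left _ (snd F X).left
    (Groth.Agent.H25.IF1.essFree_of_finite_flat _) (equalizer.ι act (snd F X)).left
  refine ⟨Z, i, hi, fun T x => ?_⟩
  rw [hfac T.left x.left, Groth.Agent.H73.FX_2.isIso_snd_equalizer_iff F X T act x]
  constructor
  · intro h T' t g
    have h1 := congrArg (fun φ => lift g t ≫ φ) h
    simp only [lift_whiskerLeft_assoc, lift_snd_assoc] at h1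
    exact h1
  · intro h
    have h1 := h (F ⊗ T) (snd F T) (fst F T)
    have h2 : lift (fst F T) (snd F T ≫ x) = F ◁ x := by
      apply CartesianMonoidalCategory.hom_ext <;> simp
    rw [h2] at h1
    exact h1

end Groth.Agent.S17685
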