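import Groth.Statements.S17687

set_option autoImplicit false
universe u v w
open DiagMon

namespace Groth.Agent.S17687

open DirectSum in
theorem exists_homogeneous_generators (R : Type u) [CommRing R] (A : Type v) [CommRing A]
    [Algebra R A] [Algebra.FiniteType R A] (M : Type w) [AddCommMonoid M] [DecidableEq M]
    (𝒜 : M → Submodule R A) [GradedAlgebra 𝒜] :
    ∃ s : Finset A, Algebra.adjoin R (s : Set A) = ⊤ ∧ ∀ g ∈ s, ∃ m, g ∈ 𝒜 m := by
  classical
  obtain ⟨F, hF⟩ := Algebra.FiniteType.out (R := R) (A := A)
  let ι₀ := Σ (x : F), (DirectSum.decompose 𝒜 x.1).support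
  let x (i : ι₀) : A := ((DirectSum.decompose 𝒜) i.1 i.2).1
  refine ⟨Finset.univ.image x, ?_, by simpa using fun f ↦ ⟨_, (DirectSum.decompose 𝒜 f.1 f.2).2⟩⟩
  rw [← top_le_iff, ← hF, Algebra.adjoin_le_iff]
  intro s hs
  rw [← DirectSum.sum_support_decompose 𝒜 s]
  exact sum_mem fun n hn ↦ Algebra.subset_adjoin (by simpa using ⟨⟨⟨s, hs⟩, n, hn⟩, rfl⟩)

open DirectSum in
open scoped Classical in
theorem span_eq (R : Type u) [CommRing R] (A : Type v) [CommRing A]
    [Algebra R A] (M : Type w) [AddCommMonoid M] [DecidableEq M]
    (𝒜 : M → Submodule R A) [GradedAlgebra 𝒜] (s : Finset A)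
    (hs : Algebra.adjoin R (s : Set A) = ⊤) (hhom : ∀ g ∈ s, ∃ m, g ∈ 𝒜 m) (N : AddSubmonoid M) :
    Ideal.span {a : A | ∃ m : M, m ∉ N ∧ a ∈ 𝒜 m} =
      Ideal.span ((s.filter (fun g => ∃ m : M, m ∉ N ∧ g ∈ 𝒜 m) : Finset A) : Set A) := by
  classical
  set K := Ideal.span ((s.filter (fun g => ∃ m : M, m ∉ N ∧ g ∈ 𝒜 m) : Finset A) : Set A) with hK
  apply le_antisymm
  · -- every element has all its components of degree outside `N` in `K`
    have key : ∀ a : A, ∀ m : M, m ∉ N → ((decompose 𝒜 a m : 𝒜 m) : A) ∈ K := by
      intro a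
      have ha : a ∈ Algebra.adjoin R (s : Set A) := by rw [hs]; trivial
      induction ha using Algebra.adjoin_induction with
      | mem g hg =>
        intro m hm
        obtain ⟨d, hd⟩ := hhom g hg
        by_cases hdm : d = m
        · subst hdm
          rw [decompose_of_mem_same 𝒜 hd]
          apply Ideal.subset_span
          simp only [Finset.coe_filter, Set.mem_ofPred_eq]
          exact ⟨hg, d, hm, hd⟩
        · rw [decompose_of_mem_ne 𝒜 hd hdm]
          exact K.zero_mem
      | algebraMap r =>
        intro m hm
        have h0 : algebraMap R A r ∈ 𝒜 0 := SetLike.algebraMap_mem_graded 𝒜 r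
        have hm0 : (0 : M) ≠ m := fun h => hm (h ▸ N.zero_mem)
        rw [decompose_of_mem_ne 𝒜 h0 hm0]
        exact K.zero_mem
      | add a b _ _ iha ihb =>
        intro m hm
        rw [decompose_add, add_apply, Submodule.coe_add]
        exact K.add_mem (iha m hm) (ihb m hm)
      | mul a b _ _ iha ihb =>
        intro m hm
        rw [decompose_mul, coe_mul_apply]
        apply sum_mem
        intro ij hij
        simp only [Finset.mem_filter, Finset.mem_product] at hij
        have hsum : ij.1 + ij.2 = m := hij.2
        by_cases h1 : ij.1 ∈ N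
        · have h2 : ij.2 ∉ N := fun h2 => hm (hsum ▸ N.add_mem h1 h2)
          exact K.mul_mem_left _ (ihb _ h2)
        · exact K.mul_mem_right _ (iha _ h1)
    rw [Ideal.span_le]
    rintro a ⟨m, hm, ha⟩
    have := key a m hm
    rwa [decompose_of_mem_same 𝒜 ha] at this
  · rw [hK]
    apply Ideal.span_mono
    intro g hg
    simp only [Finset.coe_filter, Set.mem_ofPred_eq] at hg
    exact hg.2

/-- Let R be a commutative ring and A a commutative R-algebra of finite type graded by a commutative
monoid M. Then the set of ideals J_N, N running over all submonoids of M, where J_N is generated by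
the homogeneous elements of degree not in N (the ideal of the attractor of Spec A for the magnet N),
is finite: Spec A has finitely many attractors and hence finitely many pure magnets. (The source
assumes Spec A of finite presentation over the base; its proof uses only a finite set of homogeneous
algebra generators, so finite type is assumed here.) -/
theorem result (R : Type u) [CommRing R] (A : Type v) [CommRing A]
    [Algebra R A] [Algebra.FiniteType R A] (M : Type w) [AddCommMonoid M] [DecidableEq M]
    (𝒜 : M → Submodule R A) [GradedAlgebra 𝒜] :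
    (Set.range fun N : AddSubmonoid M => Ideal.span {a : A | ∃ m : M, m ∉ N ∧ a ∈ 𝒜 m}).Finite := by
  classical
  obtain ⟨s, hs, hhom⟩ := exists_homogeneous_generators R A M 𝒜
  have hfin : ((fun T : Finset A => Ideal.span (T : Set A)) '' (s.powerset : Set (Finset A))).Finite :=
    (Finset.finite_toSet _).image _
  refine hfin.subset ?_
  rintro _ ⟨N, rfl⟩
  refine ⟨s.filter (fun g => ∃ m : M, m ∉ N ∧ g ∈ 𝒜 m), ?_, ?_⟩
  · simp only [Finset.coe_powerset, Set.mem_preimage, Set.mem_powerset_iff, Finset.coe_subset]
    exact Finset.filter_subset _ _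
  · exact (span_eq R A M 𝒜 s hs hhom N).symm

end Groth.Agent.S17687
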