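import Groth.Statements.S17688
import Groth.Agent.S18063

set_option autoImplicit false
universe u
open CategoryTheory CategoryTheory.Limits AlgebraicGeometry MonObj
open Neron

namespace Groth.Agent.S17688

/-- Let R be a discrete valuation ring whose fraction field K has characteristic p > 0, and let U be a
flat, separated, commutative group scheme over Spec R whose generic fibre U_K is annihilated by a
power p^N of p (in the group of endomorphisms of U_K as a K-scheme, the p^N-th power of the identity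
is the unit). Then for every prime ℓ invertible in R the ℓ-th power map of U (the ℓ-th power of the
identity in the group of R-morphisms U → U) is an isomorphism. -/
theorem result
    (R : Type u) [CommRing R] [IsDomain R] [IsDiscreteValuationRing R]
    (p : ℕ) (hp : p.Prime) [CharP (FractionRing R) p]
    (U : Over (Spec (CommRingCat.of R))) [GrpObj U] [IsCommMonObj U] [Flat U.hom] [IsSeparated U.hom]
    (N : ℕ) (hN : (𝟙 (Red.bc (Neron.genPt R) U) : Red.bc (Neron.genPt R) U ⟶ Red.bc (Neron.genPt R) U) ^ (p ^ N) = 1)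
    (ℓ : ℕ) (hℓ : ℓ.Prime) (hℓu : IsUnit (ℓ : R)) :
    IsIso ((𝟙 U : U ⟶ U) ^ ℓ) := by
  open Groth.Agent.S18063 in
  have hdom := schDominant_of_injective (algebraMap R (FractionRing R))
    (IsFractionRing.injective R (FractionRing R))
  have hqc : QuasiCompact (Neron.genPt R) := inferInstance
  -- the `p^N`-th power map of `U` is trivial
  have h1 : (𝟙 U : U ⟶ U) ^ (p ^ N) = 1 := by
    apply Groth.Agent.S18063.faithful_of_flat (Neron.genPt R) U U
    have e1 := ((Over.pullback (Neron.genPt R)).homMonoidHom (X := U) (M := U)).map_pow (𝟙 U) (p ^ N)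
    have e2 := ((Over.pullback (Neron.genPt R)).homMonoidHom (X := U) (M := U)).map_one
    simp only [Functor.homMonoidHom_apply] at e1 e2
    rw [e1, e2, CategoryTheory.Functor.map_id]
    exact hN
  -- `ℓ ≠ p`
  have hpR : (p : R) = 0 := by
    have : CharP R p := by
      rw [(algebraMap R (FractionRing R)).charP_iff (IsFractionRing.injective R (FractionRing R)) p]
      infer_instance
    exact CharP.cast_eq_zero R p
  have hne : ℓ ≠ p := by
    rintro rfl
    rw [hpR] at hℓu
    exact not_isUnit_zero hℓu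
  have hcop : Nat.Coprime ℓ (p ^ N) := Nat.Coprime.pow_right N ((Nat.coprime_primes hℓ hp).mpr hne)
  -- Bezout
  have hbez : (ℓ : ℤ) * Nat.gcdA ℓ (p ^ N) + ((p ^ N : ℕ) : ℤ) * Nat.gcdB ℓ (p ^ N) = 1 := by
    have := Nat.gcd_eq_gcd_ab ℓ (p ^ N)
    rw [hcop] at this
    exact_mod_cast this.symm
  obtain ⟨a, ha⟩ : ∃ a : ℤ, a = Nat.gcdA ℓ (p ^ N) := ⟨_, rfl⟩
  obtain ⟨b, hb⟩ : ∃ b : ℤ, b = Nat.gcdB ℓ (p ^ N) := ⟨_, rfl⟩
  rw [← ha, ← hb] at hbez
  have hkey : ((𝟙 U : U ⟶ U) ^ ℓ) ^ a = 𝟙 U := by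
    have h2 : ((𝟙 U : U ⟶ U) ^ ℓ) ^ a = (𝟙 U : U ⟶ U) ^ ((ℓ : ℤ) * a) := by
      rw [zpow_mul, zpow_natCast]
    have h3 : (ℓ : ℤ) * a = 1 - ((p ^ N : ℕ) : ℤ) * b := by linarith
    rw [h2, h3, zpow_sub, zpow_one, zpow_mul, zpow_natCast, h1, one_zpow, inv_one, _root_.mul_one]
  refine ⟨(𝟙 U : U ⟶ U) ^ a, ?_, ?_⟩
  · rw [GrpObj.comp_zpow, Category.comp_id]
    exact hkey
  · rw [MonObj.comp_pow, Category.comp_id, ← zpow_natCast, ← zpow_mul, _root_.mul_comm, zpow_mul,
      zpow_natCast]
    exact hkey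

end Groth.Agent.S17688
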