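import Groth.Statements.S17689
import Groth.Agent.S0415
import Mathlib.AlgebraicGeometry.Morphisms.UniversallyInjective
import Mathlib.AlgebraicGeometry.Morphisms.Integral
import Mathlib.FieldTheory.PurelyInseparable.Basic
import Mathlib.RingTheory.Spectrum.Prime.Topology
import Mathlib.Algebra.CharP.Lemmas
import Mathlib.Tactic

set_option autoImplicit false
universe u
open CategoryTheory AlgebraicGeometry
open Neron

namespace Groth.Agent.S17689

private theorem ringHom_ext_of_purelyInseparable
    (R S K L : Type u) [CommRing R] [IsDomain R] [IsDiscreteValuationRing R]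
    [CommRing S] [IsDomain S] [Algebra R S] [Algebra.IsIntegral R S]
    [Field K] [Field L] [Algebra R K] [IsFractionRing R K] [Algebra S L] [IsFractionRing S L]
    [Algebra K L] [Algebra R L] [IsScalarTower R S L] [IsScalarTower R K L]
    [IsPurelyInseparable K L] (q : ℕ) [hq : ExpChar K q]
    (K' : Type u) [Field K'] (ψ₁ ψ₂ : S →+* K')
    (h : ψ₁.comp (algebraMap R S) = ψ₂.comp (algebraMap R S)) : ψ₁ = ψ₂ := by
  have key : ∀ s : S, ∃ (n : ℕ) (r : R), s ^ q ^ n = algebraMap R S r := by
    intro s
    obtain ⟨n, k, hk⟩ := IsPurelyInseparable.pow_mem K q (algebraMap S L s)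
    have hint : IsIntegral R (algebraMap K L k) := by
      rw [hk, ← map_pow]
      exact (Algebra.IsIntegral.isIntegral (R := R) (s ^ q ^ n)).map (IsScalarTower.toAlgHom R S L)
    have hk_int : IsIntegral R k :=
      (isIntegral_algHom_iff (IsScalarTower.toAlgHom R K L) (algebraMap K L).injective).mp hint
    obtain ⟨r, hr⟩ := IsIntegrallyClosed.isIntegral_iff.mp hk_int
    refine ⟨n, r, ?_⟩
    apply IsFractionRing.injective S L
    rw [map_pow, ← hk, ← hr, ← IsScalarTower.algebraMap_apply R K L,
      ← IsScalarTower.algebraMap_apply R S L]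
  refine RingHom.ext (fun s => ?_)
  obtain ⟨n, r, hr⟩ := key s
  have h1 : ψ₁ s ^ q ^ n = ψ₂ s ^ q ^ n := by
    rw [← map_pow, ← map_pow, hr]
    exact RingHom.congr_fun h r
  cases hq with
  | zero => simpa using h1
  | prime hp =>
    have hqR : (q : R) = 0 := by
      apply IsFractionRing.injective R K
      rw [map_natCast, map_zero]
      exact CharP.cast_eq_zero K q
    have hqK' : (q : K') = 0 := by
      have h0 := congrArg (fun x => ψ₁ (algebraMap R S x)) hqR
      simpa using h0
    haveI hchar : CharP K' q := by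
      have h0 := CharP.ringChar_of_prime_eq_zero hp hqK'
      rw [← h0]
      exact ringChar.charP K'
    haveI : ExpChar K' q := ExpChar.prime hp
    have h2 : (ψ₁ s - ψ₂ s) ^ q ^ n = 0 := by rw [sub_pow_expChar_pow, h1, sub_self]
    exact sub_eq_zero.mp ((pow_eq_zero_iff (pow_ne_zero n hp.ne_zero)).mp h2)

/-- Let R ⊆ S be a finite extension of discrete valuation rings (the structure map R → S is injective
and S is a finite R-module) such that the induced extension K ⊆ L of fraction fields is purely
inseparable. Then the morphism Spec S → Spec R is a universal homeomorphism: every base change of it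
is a homeomorphism on underlying spaces. (No excellence hypothesis is needed here.) -/
theorem result
    (R S K L : Type u) [CommRing R] [IsDomain R] [IsDiscreteValuationRing R]
    [CommRing S] [IsDomain S] [IsDiscreteValuationRing S] [Algebra R S] [Module.Finite R S] [FaithfulSMul R S]
    [Field K] [Field L] [Algebra R K] [IsFractionRing R K] [Algebra S L] [IsFractionRing S L]
    [Algebra K L] [Algebra R L] [IsScalarTower R S L] [IsScalarTower R K L] [IsPurelyInseparable K L] :
    FlatMor.IsUnivHomeo (Spec.map (CommRingCat.ofHom (algebraMap R S))) := by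
  haveI : Algebra.IsIntegral R S := inferInstance
  rw [Groth.Agent.S0415.result]
  refine ⟨?_, ?_, ?_⟩
  · rw [IsIntegralHom.SpecMap_iff]
    exact algebraMap_isIntegral_iff.mpr inferInstance
  · have htfae := tfae_universallyInjective (Spec.map (CommRingCat.ofHom (algebraMap R S)))
    apply (htfae.out 0 1).mpr
    intro K' _ g₁ g₂ hg
    obtain ⟨ψ₁, rfl⟩ : ∃ ψ, Spec.map ψ = g₁ := ⟨Spec.preimage g₁, Spec.map_preimage g₁⟩
    obtain ⟨ψ₂, rfl⟩ : ∃ ψ, Spec.map ψ = g₂ := ⟨Spec.preimage g₂, Spec.map_preimage g₂⟩
    have hg' : Spec.map (CommRingCat.ofHom (algebraMap R S) ≫ ψ₁) =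
        Spec.map (CommRingCat.ofHom (algebraMap R S) ≫ ψ₂) := by
      rw [Spec.map_comp, Spec.map_comp]; exact hg
    have h1 := Spec.map_injective hg'
    have h2 : ψ₁.hom.comp (algebraMap R S) = ψ₂.hom.comp (algebraMap R S) := by
      have h0 := congrArg CommRingCat.Hom.hom h1
      simpa using h0
    have h3 := ringHom_ext_of_purelyInseparable R S K L (ringExpChar K) K' ψ₁.hom ψ₂.hom h2
    congr 1
    exact CommRingCat.hom_ext h3
  · refine ⟨fun x => ?_⟩
    obtain ⟨y, hy⟩ := Algebra.IsIntegral.comap_surjective R S x
    exact ⟨y, hy⟩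

end Groth.Agent.S17689
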