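import Groth.Statements.S17690
import Groth.Agent.S2654
import Groth.Agent.H73.NagataFinite


set_option autoImplicit false
universe u
open Neron

namespace Groth.Agent.S17690

/-- Let R be an excellent discrete valuation ring (Noetherian, universally catenary, G-ring, J-2) with
fraction field K, and let L be a finite purely inseparable field extension of K. Then the integral
closure S of R in L is a discrete valuation ring, and S is a finite R-module. -/
theorem result
    (R K L : Type u) [CommRing R] [IsDomain R] [IsDiscreteValuationRing R] (hR : EGA4.IsExcellent R)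
    [Field K] [Algebra R K] [IsFractionRing R K] [Field L] [Algebra K L] [FiniteDimensional K L]
    [IsPurelyInseparable K L] [Algebra R L] [IsScalarTower R K L] :
    IsDiscreteValuationRing ↥(integralClosure R L) ∧ Module.Finite R ↥(integralClosure R L) := by
  classical
  have hNag : CAlg.IsNagata R := Groth.Agent.S2654.result R ⟨hR.1, hR.2.2.1, hR.2.2.2⟩
  haveI : IsNoetherianRing R := hR.1
  obtain ⟨ϖ, hϖ⟩ := IsDiscreteValuationRing.exists_irreducible R
  -- `K` is of finite type over `R`
  have hK : Algebra.FiniteType R K := by
    refine ⟨⟨{(algebraMap R K ϖ)⁻¹}, ?_⟩⟩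
    rw [Finset.coe_singleton, eq_top_iff]
    rintro x -
    obtain ⟨a, b, hb, rfl⟩ := IsFractionRing.div_surjective (A := R) x
    have hb0 : b ≠ 0 := nonZeroDivisors.ne_zero hb
    obtain ⟨n, u, hu⟩ := IsDiscreteValuationRing.eq_unit_mul_pow_irreducible hb0 hϖ
    have hϖ0 : algebraMap R K ϖ ≠ 0 := by
      rw [Ne, map_eq_zero_iff _ (IsFractionRing.injective R K)]
      exact hϖ.ne_zero
    have hu0 : algebraMap R K (u : R) ≠ 0 := by
      rw [Ne, map_eq_zero_iff _ (IsFractionRing.injective R K)]
      exact u.ne_zero
    have hx : algebraMap R K a / algebraMap R K b =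
        algebraMap R K (a * ((u⁻¹ : Rˣ) : R)) * ((algebraMap R K ϖ)⁻¹) ^ n := by
      have huu : algebraMap R K ((u⁻¹ : Rˣ) : R) * algebraMap R K (u : R) = 1 := by
        rw [← map_mul, Units.inv_mul, map_one]
      rw [hu, map_mul, map_mul, map_pow, inv_pow, div_eq_iff (mul_ne_zero hu0 (pow_ne_zero _ hϖ0))]
      have h3 : (algebraMap R K ϖ ^ n)⁻¹ * algebraMap R K ϖ ^ n = 1 :=
        inv_mul_cancel₀ (pow_ne_zero _ hϖ0)
      calc algebraMap R K a = algebraMap R K a *
            (algebraMap R K ((u⁻¹ : Rˣ) : R) * algebraMap R K (u : R)) *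
            ((algebraMap R K ϖ ^ n)⁻¹ * algebraMap R K ϖ ^ n) := by rw [huu, h3, mul_one, mul_one]
        _ = _ := by ring
    rw [hx]
    exact Subalgebra.mul_mem _ (Subalgebra.algebraMap_mem _ _)
      (Subalgebra.pow_mem _ (Algebra.subset_adjoin (Set.mem_singleton _)) n)
  haveI : Algebra.FiniteType K L := inferInstance
  have hL : Algebra.FiniteType R L := Algebra.FiniteType.trans hK inferInstance
  have hfin : Module.Finite R (integralClosure R L) :=
    Groth.Agent.H73.NagataFin.finite_integralClosure_of_isNagata_of_isDomain R hNag L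
  refine ⟨?_, hfin⟩
  haveI : IsFractionRing (integralClosure R L) L :=
    integralClosure.isFractionRing_of_finite_extension K L
  haveI : IsNoetherianRing (integralClosure R L) := IsNoetherianRing.of_finite R _
  haveI : ExpChar K (ringExpChar K) := inferInstance
  have hinjL : Function.Injective (algebraMap R L) := by
    rw [IsScalarTower.algebraMap_eq R K L]
    exact (algebraMap K L).injective.comp (IsFractionRing.injective R K)
  have hval : ValuationRing (integralClosure R L) := by
    rw [ValuationRing.iff_isInteger_or_isInteger (integralClosure R L) L]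
    intro x
    obtain ⟨n, y, hy⟩ := IsPurelyInseparable.pow_mem K (ringExpChar K) x
    have hqpos : ringExpChar K ^ n ≠ 0 :=
      pow_ne_zero _ (expChar_pos K (ringExpChar K)).ne'
    have hyR := (ValuationRing.iff_isInteger_or_isInteger R K).mp inferInstance y
    rcases hyR with ⟨r, hr⟩ | ⟨r, hr⟩
    · left
      have hint : IsIntegral R (x ^ (ringExpChar K ^ n)) := by
        rw [← hy, ← hr, ← IsScalarTower.algebraMap_apply]
        exact isIntegral_algebraMap
      have hx' : IsIntegral R x := IsIntegral.of_pow (Nat.pos_of_ne_zero hqpos) hint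
      exact ⟨⟨x, hx'⟩, rfl⟩
    · right
      have hint : IsIntegral R (x⁻¹ ^ (ringExpChar K ^ n)) := by
        rw [inv_pow, ← hy, ← map_inv₀, ← hr, ← IsScalarTower.algebraMap_apply]
        exact isIntegral_algebraMap
      have hx' : IsIntegral R x⁻¹ := IsIntegral.of_pow (Nat.pos_of_ne_zero hqpos) hint
      exact ⟨⟨x⁻¹, hx'⟩, rfl⟩
  haveI := hval
  haveI : IsLocalRing (integralClosure R L) := inferInstance
  have hnf : ¬ IsField (integralClosure R L) := by
    intro hF
    have hinj : Function.Injective (algebraMap R (integralClosure R L)) := by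
      intro a b hab
      apply hinjL
      have := congrArg (algebraMap (integralClosure R L) L) hab
      rwa [← IsScalarTower.algebraMap_apply, ← IsScalarTower.algebraMap_apply] at this
    exact IsDiscreteValuationRing.not_isField R (isField_of_isIntegral_of_isField hinj hF)
  exact ((IsDiscreteValuationRing.TFAE (integralClosure R L) hnf).out 0 1).mpr hval

end Groth.Agent.S17690
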