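import Groth.Statements.S1771
import Groth.Agent.H58.SecFin3


set_option autoImplicit false
universe u
open LocCoh

namespace Groth.Agent.S1771

/-- Let A be a Noetherian ring which is Nagata and universally catenary, I an ideal of A and M a finite
A-module. Suppose that for every associated prime p of M not containing I and every prime q
containing both p and I, the longest chain of primes from p to q has length at least 2. Then the
local cohomology module H^1_I(M) is a finite A-module. The published statement asserts that the
pushforward of a coherent sheaf from the open complement of V(I) is coherent; this is its affine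
form, stated as finiteness of H^1_I(M). -/
theorem result (A : Type u) [CommRing A] [IsNoetherianRing A] (hN : CAlg.IsNagata A) (hU : CAlg.IsUniversallyCatenary A) (I : Ideal A) (M : Type u) [AddCommGroup M] [Module A M] [Module.Finite A M] (h : ∀ (p q : PrimeSpectrum A) (hpq : p ≤ q), p.asIdeal ∈ associatedPrimes A M → ¬ I ≤ p.asIdeal → I ≤ q.asIdeal → (2 : ℕ∞) ≤ Order.height (⟨q, hpq⟩ : Set.Ici p)) : Module.Finite A (LocCoh.H I 1 M) := by
  rw [← Groth.Agent.H2.CohPush.isCoherentPushCompl_iff_finite_H1, Groth.Agent.S2724.result A I M]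
  intro p hp hIp
  haveI hpp : p.IsPrime := hp.isPrime
  rw [Groth.Agent.H2.CohPush.isCoherentPushCompl_iff_finite_H1]
  have hJ2 : (2 : ℕ∞) ≤ (I.map (Ideal.Quotient.mk p)).height :=
    Groth.Agent.H58.SecFin.le_height_map_of_forall_Ici I p 2
      (fun q hpq hIq => h ⟨p, hpp⟩ q hpq hp hIp hIq)
  have hJbot : I.map (Ideal.Quotient.mk p) ≠ ⊥ := by
    intro h0
    rw [h0, Ideal.height_bot] at hJ2
    exact absurd hJ2 (by norm_num)
  obtain ⟨F, hF, hDF⟩ := Groth.Agent.H58.SecFin.exists_fg_case2 (A ⧸ p)
    (Groth.Agent.H58.SecFin.isUniversallyCatenary_quotient A hU p)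
    (hN.2 p) _ hJ2
  exact Groth.Agent.H58.SecFin.finite_H1_of_fg (A ⧸ p) _ hJbot F hF hDF

end Groth.Agent.S1771
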