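import Groth.Statements.S17713
import Groth.Agent.H88.ToddSeries2
import Mathlib.Algebra.Polynomial.Eval.Degree
import Mathlib.Algebra.Polynomial.BigOperators

set_option autoImplicit false
open MoretBailly

namespace Groth.Agent.S17713

open PowerSeries Groth.Agent.H88 in
/-- Let n ≥ 2 and d ≥ 1 be natural numbers and s an integer, and write B(x) = x/(1 - e^(-x)) for the
exponential generating series of the Bernoulli numbers B'_i (convention B'_1 = 1/2). For a natural
number p consider the product B(-dx)^(-1) B(-dpx) B(x)^(n+1) e^((dp-d-n-1+s)x) in ℚ[[x]] (the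
Todd-class integrand of a Hirzebruch–Riemann–Roch computation) and let λ_n(p) be its coefficient of
x^n. Then λ_n(p) is a polynomial in p whose two top terms are B'_n (dp)^n/n! and ((2s-d-n-1)/2)
B'_(n-1) (dp)^(n-1)/(n-1)!: there is a polynomial P over ℚ of degree at most n - 2 with λ_n(p) equal
to the sum of these two terms and P(p), for every p. -/
theorem result (n d : ℕ) (s : ℤ) (hn : 2 ≤ n) (hd : 1 ≤ d) :
    ∃ P : Polynomial ℚ, P.natDegree ≤ n - 2 ∧ ∀ p : ℕ,
      PowerSeries.coeff n ((PowerSeries.rescale (-(d : ℚ)) (bernoulli'PowerSeries ℚ))⁻¹ * PowerSeries.rescale (-((d : ℚ) * p)) (bernoulli'PowerSeries ℚ) * bernoulli'PowerSeries ℚ ^ (n + 1) * PowerSeries.rescale ((d : ℚ) * p - d - n - 1 + s) (PowerSeries.exp ℚ)) =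
        bernoulli' n * ((d : ℚ) * p) ^ n / (Nat.factorial n : ℚ) +
          (2 * (s : ℚ) - d - n - 1) / 2 * bernoulli' (n - 1) * ((d : ℚ) * p) ^ (n - 1) / (Nat.factorial (n - 1) : ℚ) +
          P.eval (p : ℚ) := by
  obtain ⟨m, rfl⟩ : ∃ m, n = m + 2 := ⟨n - 2, by omega⟩
  refine ⟨∑ j ∈ Finset.range (m + 1), Polynomial.C (coeff (m + 2 - j) (toddG (m + 2) d s) *
      ((d : ℚ) ^ j * (bernoulli' j / (j.factorial : ℚ)))) * Polynomial.X ^ j, ?_, ?_⟩
  · apply Polynomial.natDegree_sum_le_of_forall_le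
    intro j hj
    have hj' : j ≤ m := Nat.lt_succ_iff.mp (Finset.mem_range.mp hj)
    refine (Polynomial.natDegree_C_mul_X_pow_le _ _).trans ?_
    simpa using hj'
  · intro p
    rw [coeff_todd, Finset.sum_range_succ, Finset.sum_range_succ]
    have h0 : m + 2 - (m + 2) = 0 := by omega
    have h1 : m + 2 - (m + 1) = 1 := by omega
    have h2 : m + 2 - 1 = m + 1 := by omega
    rw [h0, h1, h2, coeff_zero_toddG, coeff_one_toddG, Polynomial.eval_finsetSum]
    simp only [Polynomial.eval_mul, Polynomial.eval_C, Polynomial.eval_pow, Polynomial.eval_X]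
    have hsum : ∑ x ∈ Finset.range (m + 1), (coeff (m + 2 - x)) (toddG (m + 2) d s) *
        (((d : ℚ) * p) ^ x * (bernoulli' x / (x.factorial : ℚ))) =
        ∑ x ∈ Finset.range (m + 1), (coeff (m + 2 - x)) (toddG (m + 2) d s) *
        ((d : ℚ) ^ x * (bernoulli' x / (x.factorial : ℚ))) * (p : ℚ) ^ x := by
      apply Finset.sum_congr rfl
      intro j _
      rw [mul_pow]; ring
    rw [hsum]
    push_cast
    ring

end Groth.Agent.S17713
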