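import Groth.Statements.S17715
import Groth.Agent.H88.ToddSeries

set_option autoImplicit false
open MoretBailly

namespace Groth.Agent.S17715

open PowerSeries Groth.Agent.H88 in
/-- Write B(x) = x/(1 - e^(-x)) for the exponential generating series of the Bernoulli numbers (B'_1 =
1/2). For all natural numbers d and p the coefficient of x^3 in B(-dx)^(-1) B(-dpx) B(x)^4
e^((dp-d-3)x), i.e. the case n = 3, s = 1 of the Todd-class integrand, equals
-d(d+2)(p-1)(dp-d-2)/24 = -(d^3+2d^2) p^2/24 + (d^3+3d^2+2d) p/12 - (d^3+4d^2+4d)/24. (The published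
closed form has the same p^2 and p coefficients but constant term -(d^3+2d^2+2d)/24; direct
expansion gives the value stated here, which vanishes at p = 1.) -/
theorem result (d p : ℕ) :
    PowerSeries.coeff 3 ((PowerSeries.rescale (-(d : ℚ)) (bernoulli'PowerSeries ℚ))⁻¹ * PowerSeries.rescale (-((d : ℚ) * p)) (bernoulli'PowerSeries ℚ) * bernoulli'PowerSeries ℚ ^ (4) * PowerSeries.rescale ((d : ℚ) * p - d - 3) (PowerSeries.exp ℚ)) =
      -((d : ℚ) * (d + 2) * (p - 1) * (d * p - d - 2)) / 24 := by
  have hg0 : coeff 0 (rescale (-(d : ℚ)) (bernoulli'PowerSeries ℚ)) = 1 := by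
    rw [coeff_rescale, coeff_zero_B]; simp
  obtain ⟨i0, i1, i2, i3⟩ := coeff_inv_of_const_one _ hg0
  rw [show (4 : ℕ) = 2 + 2 from rfl, pow_add, pow_two]
  simp only [coeff_three_mul', coeff_two_mul', coeff_one_mul', coeff_zero_mul', i0, i1, i2, i3,
    coeff_rescale, coeff_zero_B, coeff_one_B, coeff_two_B, coeff_three_B, coeff_exp]
  simp [Nat.factorial]
  ring

end Groth.Agent.S17715
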