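import Groth.Statements.S17718
import Groth.Agent.H88.ToddNeg

set_option autoImplicit false
open MoretBailly

namespace Groth.Agent.S17718

/-- Let n ≥ 2 and d ≥ 1 be natural numbers with n not congruent to 2 modulo 4, and write B(x) = x/(1 -
e^(-x)) for the exponential generating series of the Bernoulli numbers (B'_1 = 1/2). Then there is
an integer s ≥ 1 such that for all sufficiently large natural numbers p the coefficient of x^n in
B(-dx)^(-1) B(-dpx) B(x)^(n+1) e^((dp-d-n-1+s)x) is strictly negative. (The published argument fixes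
any s with 2s > n + d + 1, which gives the sign only for n congruent to 0 or 1 modulo 4; for n
congruent to 3 modulo 4 the choice s = 1 makes the leading coefficient (2s-d-n-1) B'_(n-1)
d^(n-1)/(2 (n-1)!) negative instead.) -/
theorem result (n d : ℕ) (hn : 2 ≤ n)
    (hmod : n % 4 ≠ 2) (hd : 1 ≤ d) :
    ∃ s : ℤ, 1 ≤ s ∧ ∃ P : ℕ, ∀ p : ℕ, P ≤ p →
      PowerSeries.coeff n ((PowerSeries.rescale (-(d : ℚ)) (bernoulli'PowerSeries ℚ))⁻¹ * PowerSeries.rescale (-((d : ℚ) * p)) (bernoulli'PowerSeries ℚ) * bernoulli'PowerSeries ℚ ^ (n + 1) * PowerSeries.rescale ((d : ℚ) * p - d - n - 1 + s) (PowerSeries.exp ℚ)) < 0 := by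
  have hcases : n % 4 = 0 ∨ n % 4 = 1 ∨ n % 4 = 3 := by omega
  rcases hcases with h0 | h1 | h3
  · refine ⟨(n : ℤ) + d + 1, by omega, ?_⟩
    apply Groth.Agent.H88.todd_eventually_neg n d _ hn hd
    left
    exact Groth.Agent.H88.bernoulli'_neg_of_mod_four_eq_zero (by omega) h0
  · refine ⟨(n : ℤ) + d + 1, by omega, ?_⟩
    apply Groth.Agent.H88.todd_eventually_neg n d _ hn hd
    right
    refine ⟨bernoulli'_eq_zero_of_odd (Nat.odd_iff.mpr (by omega)) (by omega), ?_⟩
    have hB : bernoulli' (n - 1) < 0 :=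
      Groth.Agent.H88.bernoulli'_neg_of_mod_four_eq_zero (by omega) (by omega)
    have hpos : (0 : ℚ) < (2 * (((n : ℤ) + d + 1 : ℤ) : ℚ) - d - n - 1) / 2 := by
      push_cast
      have h1 : (0 : ℚ) ≤ n := Nat.cast_nonneg n
      have h2 : (0 : ℚ) ≤ d := Nat.cast_nonneg d
      linarith
    exact mul_neg_of_pos_of_neg hpos hB
  · refine ⟨1, le_refl _, ?_⟩
    apply Groth.Agent.H88.todd_eventually_neg n d _ hn hd
    right
    refine ⟨bernoulli'_eq_zero_of_odd (Nat.odd_iff.mpr (by omega)) (by omega), ?_⟩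
    have hB : 0 < bernoulli' (n - 1) :=
      Groth.Agent.H88.bernoulli'_pos_of_mod_four_eq_two (by omega)
    have hneg : (2 * ((1 : ℤ) : ℚ) - d - n - 1) / 2 < 0 := by
      push_cast
      have h1 : (2 : ℚ) ≤ n := by exact_mod_cast hn
      have h2 : (1 : ℚ) ≤ d := by exact_mod_cast hd
      linarith
    exact mul_neg_of_neg_of_pos hneg hB

end Groth.Agent.S17718
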