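import Groth.Statements.S17720
import Mathlib

set_option autoImplicit false
universe u
open CAlg

namespace Groth.Agent.S17720

open MvPowerSeries

section
variable {A : Type u} [CommRing A]

lemma fin2_eq_zero {m : Fin 2 →₀ ℕ} (h0 : m 0 = 0) (h1 : m 1 = 0) : m = 0 := by
  ext i; fin_cases i
  · simpa using h0
  · simpa using h1

/-- Every power series in two variables is `constant + X 0 * g + X 1 * h`. -/
lemma decomp (f : MvPowerSeries (Fin 2) A) : ∃ g h : MvPowerSeries (Fin 2) A,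
    f = C (constantCoeff f) + X 0 * g + X 1 * h := by
  classical
  obtain ⟨f₁, hf₁⟩ : ∃ f₁ : MvPowerSeries (Fin 2) A, f₁ = f - C (constantCoeff f) := ⟨_, rfl⟩
  have hf₁0 : coeff 0 f₁ = 0 := by
    rw [hf₁, map_sub, coeff_zero_C, coeff_zero_eq_constantCoeff_apply, sub_self]
  obtain ⟨u, hu⟩ : ∃ u : MvPowerSeries (Fin 2) A,
      ∀ m, coeff m u = if m 0 = 0 then 0 else coeff m f₁ :=
    ⟨fun m => if m 0 = 0 then 0 else coeff m f₁, fun m => rfl⟩
  have h0 : (X 0 : MvPowerSeries (Fin 2) A) ∣ u := by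
    rw [X_dvd_iff]; intro m hm; rw [hu, if_pos hm]
  have h1 : (X 1 : MvPowerSeries (Fin 2) A) ∣ f₁ - u := by
    rw [X_dvd_iff]; intro m hm
    rw [map_sub, hu]
    by_cases hm0 : m 0 = 0
    · rw [if_pos hm0, sub_zero, fin2_eq_zero hm0 hm, hf₁0]
    · rw [if_neg hm0, sub_self]
  obtain ⟨g, hg⟩ := h0
  obtain ⟨h, hh⟩ := h1
  refine ⟨g, h, ?_⟩
  rw [← hg, ← hh, hf₁]; ring

lemma coeff_single_X_mul_same (s : Fin 2) (ψ : MvPowerSeries (Fin 2) A) :
    coeff (Finsupp.single s 1) (X s * ψ) = constantCoeff ψ := by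
  have h := coeff_add_monomial_mul (Finsupp.single s 1) 0 ψ (1 : A)
  rw [add_zero, one_mul, coeff_zero_eq_constantCoeff_apply] at h
  exact h

lemma coeff_single_X_mul_ne {s s' : Fin 2} (h : s' ≠ s) (ψ : MvPowerSeries (Fin 2) A) :
    coeff (Finsupp.single s 1) (X s' * ψ) = 0 := by
  have hd : (X s' : MvPowerSeries (Fin 2) A) ∣ X s' * ψ := dvd_mul_right _ _
  rw [X_dvd_iff] at hd
  exact hd _ (Finsupp.single_eq_of_ne h)

lemma const_mem_of_rel (β : A) (p q w : MvPowerSeries (Fin 2) A)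
    (h : X 0 * q + X 1 * p = (X 0 * X 1 - C β) * w) :
    constantCoeff p ∈ Ideal.span {β} ∧ constantCoeff q ∈ Ideal.span {β} := by
  constructor
  · have h1 := congrArg (coeff (Finsupp.single (1 : Fin 2) 1)) h
    rw [map_add, coeff_single_X_mul_ne (by decide), coeff_single_X_mul_same, zero_add, sub_mul,
      map_sub, mul_assoc, coeff_single_X_mul_ne (by decide), coeff_C_mul, zero_sub] at h1
    rw [h1]
    exact (Ideal.span {β}).neg_mem (Ideal.mul_mem_right _ _ (Ideal.subset_span rfl))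
  · have h1 := congrArg (coeff (Finsupp.single (0 : Fin 2) 1)) h
    rw [map_add, coeff_single_X_mul_ne (by decide) p, coeff_single_X_mul_same, add_zero, sub_mul,
      map_sub, mul_comm (X 0) (X 1), mul_assoc, coeff_single_X_mul_ne (by decide), coeff_C_mul,
      zero_sub] at h1
    rw [h1]
    exact (Ideal.span {β}).neg_mem (Ideal.mul_mem_right _ _ (Ideal.subset_span rfl))

/-- weight of a monomial for the Euler-type derivation `x ∂x - y ∂y`. -/
noncomputable def wt (m : Fin 2 →₀ ℕ) : A := (m 0 : A) - (m 1 : A)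

lemma wt_add (i j : Fin 2 →₀ ℕ) : wt (A := A) (i + j) = wt i + wt j := by
  simp only [wt, Finsupp.add_apply, Nat.cast_add]; ring

/-- the derivation `x ∂x - y ∂y` on power series. -/
noncomputable def E₀ (f : MvPowerSeries (Fin 2) A) : MvPowerSeries (Fin 2) A :=
  fun m => wt m * coeff m f

lemma coeff_E₀ (m : Fin 2 →₀ ℕ) (f : MvPowerSeries (Fin 2) A) :
    coeff m (E₀ f) = wt m * coeff m f := rfl

lemma E₀_add (f g : MvPowerSeries (Fin 2) A) : E₀ (f + g) = E₀ f + E₀ g := by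
  ext m; simp only [coeff_E₀, map_add, mul_add]

lemma E₀_sub (f g : MvPowerSeries (Fin 2) A) : E₀ (f - g) = E₀ f - E₀ g := by
  ext m; simp only [coeff_E₀, map_sub, mul_sub]

lemma E₀_mul (f g : MvPowerSeries (Fin 2) A) : E₀ (f * g) = f * E₀ g + E₀ f * g := by
  classical
  ext m
  rw [coeff_E₀, map_add, coeff_mul, coeff_mul, coeff_mul, Finset.mul_sum,
    ← Finset.sum_add_distrib]
  refine Finset.sum_congr rfl fun ij hij => ?_
  have hij' : ij.1 + ij.2 = m := Finset.HasAntidiagonal.mem_antidiagonal.mp hij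
  rw [coeff_E₀, coeff_E₀, ← hij', wt_add]; ring

lemma E₀_C (a : A) : E₀ (C a : MvPowerSeries (Fin 2) A) = 0 := by
  classical
  ext m
  rw [coeff_E₀, coeff_C]
  split_ifs with h
  · subst h; simp [wt]
  · simp

lemma E₀_X0 : E₀ (X 0 : MvPowerSeries (Fin 2) A) = X 0 := by
  classical
  ext m
  rw [coeff_E₀, coeff_X]
  split_ifs with h
  · subst h; simp [wt]
  · simp

lemma E₀_X1 : E₀ (X 1 : MvPowerSeries (Fin 2) A) = - X 1 := by
  classical
  ext m
  rw [coeff_E₀, map_neg, coeff_X]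
  split_ifs with h
  · subst h; simp [wt]
  · simp

/-- Any additive map with the Leibniz rule killing constants on `A[[x,y]]/(xy - β)` has image
in the ideal `(x, y)`. -/
lemma der_mem (β : A) (I : Ideal (MvPowerSeries (Fin 2) A))
    (hI : I = Ideal.span {(X 0 * X 1 - C β : MvPowerSeries (Fin 2) A)})
    (D : (MvPowerSeries (Fin 2) A ⧸ I) → (MvPowerSeries (Fin 2) A ⧸ I))
    (hadd : ∀ a b, D (a + b) = D a + D b) (hmul : ∀ a b, D (a * b) = a * D b + D a * b)
    (hC : ∀ a : A, D (Ideal.Quotient.mk I (C a)) = 0)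
    (b : MvPowerSeries (Fin 2) A ⧸ I) :
    D b ∈ Ideal.span {Ideal.Quotient.mk I (X 0), Ideal.Quotient.mk I (X 1)} := by
  obtain ⟨𝔫, h𝔫⟩ : ∃ 𝔫 : Ideal (MvPowerSeries (Fin 2) A ⧸ I),
      𝔫 = Ideal.span {Ideal.Quotient.mk I (X 0), Ideal.Quotient.mk I (X 1)} := ⟨_, rfl⟩
  rw [← h𝔫]
  have hx : Ideal.Quotient.mk I (X 0) ∈ 𝔫 := by
    rw [h𝔫]; exact Ideal.subset_span (Set.mem_insert _ _)
  have hy : Ideal.Quotient.mk I (X 1) ∈ 𝔫 := by
    rw [h𝔫]; exact Ideal.subset_span (Set.mem_insert_of_mem _ rfl)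
  have hβ : Ideal.Quotient.mk I (C β) = Ideal.Quotient.mk I (X 0) * Ideal.Quotient.mk I (X 1) := by
    rw [← map_mul, eq_comm, Ideal.Quotient.eq, hI]; exact Ideal.subset_span rfl
  have hmem : ∀ p : MvPowerSeries (Fin 2) A, constantCoeff p ∈ Ideal.span {β} →
      Ideal.Quotient.mk I p ∈ 𝔫 := by
    intro p hp0
    obtain ⟨g, h, hgh⟩ := decomp p
    obtain ⟨c, hc⟩ := Ideal.mem_span_singleton'.mp hp0
    rw [hgh, map_add, map_add, map_mul, map_mul, ← hc, map_mul C, map_mul, hβ]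
    exact 𝔫.add_mem (𝔫.add_mem (𝔫.mul_mem_left _ (𝔫.mul_mem_right _ hx)) (𝔫.mul_mem_right _ hx))
      (𝔫.mul_mem_right _ hy)
  obtain ⟨p, hp⟩ := Ideal.Quotient.mk_surjective (D (Ideal.Quotient.mk I (X 0)))
  obtain ⟨q, hq⟩ := Ideal.Quotient.mk_surjective (D (Ideal.Quotient.mk I (X 1)))
  have hrel : Ideal.Quotient.mk I (X 0 * q + X 1 * p) = 0 := by
    have h1 : D (Ideal.Quotient.mk I (X 0) * Ideal.Quotient.mk I (X 1)) = 0 := by
      rw [← hβ]; exact hC β
    rw [hmul] at h1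
    rw [map_add, map_mul, map_mul, hp, hq, ← h1]; ring
  rw [Ideal.Quotient.eq_zero_iff_mem, hI, Ideal.mem_span_singleton'] at hrel
  obtain ⟨w, hw⟩ := hrel
  obtain ⟨hp0, hq0⟩ := const_mem_of_rel β p q w (by rw [← hw]; ring)
  have hDx : D (Ideal.Quotient.mk I (X 0)) ∈ 𝔫 := hp ▸ hmem p hp0
  have hDy : D (Ideal.Quotient.mk I (X 1)) ∈ 𝔫 := hq ▸ hmem q hq0
  obtain ⟨f, rfl⟩ := Ideal.Quotient.mk_surjective b
  obtain ⟨g, h, hgh⟩ := decomp f
  rw [hgh, map_add, map_add, map_mul, map_mul, hadd, hadd, hC, zero_add, hmul, hmul]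
  exact 𝔫.add_mem (𝔫.add_mem (𝔫.mul_mem_right _ hx) (𝔫.mul_mem_right _ hDx))
    (𝔫.add_mem (𝔫.mul_mem_right _ hy) (𝔫.mul_mem_right _ hDy))

lemma key (α β : A)
    (φ : (MvPowerSeries (Fin 2) A ⧸ Ideal.span {(X 0 * X 1 - C α : MvPowerSeries (Fin 2) A)}) ≃ₐ[A]
      (MvPowerSeries (Fin 2) A ⧸ Ideal.span {(X 0 * X 1 - C β : MvPowerSeries (Fin 2) A)})) :
    α ∈ Ideal.span {β} := by
  have hFα : E₀ (X 0 * X 1 - C α : MvPowerSeries (Fin 2) A) = 0 := by
    rw [E₀_sub, E₀_mul, E₀_X0, E₀_X1, E₀_C]; ring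
  have hE₀I : ∀ f ∈ Ideal.span {(X 0 * X 1 - C α : MvPowerSeries (Fin 2) A)},
      E₀ f ∈ Ideal.span {(X 0 * X 1 - C α : MvPowerSeries (Fin 2) A)} := by
    intro f hf
    obtain ⟨w, rfl⟩ := Ideal.mem_span_singleton'.mp hf
    rw [E₀_mul, hFα, mul_zero, zero_add]
    exact Ideal.mul_mem_left _ _ (Ideal.subset_span rfl)
  obtain ⟨E, hE⟩ : ∃ E : (MvPowerSeries (Fin 2) A ⧸
        Ideal.span {(X 0 * X 1 - C α : MvPowerSeries (Fin 2) A)}) →
      (MvPowerSeries (Fin 2) A ⧸ Ideal.span {(X 0 * X 1 - C α : MvPowerSeries (Fin 2) A)}),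
      ∀ f, E (Ideal.Quotient.mk _ f) = Ideal.Quotient.mk _ (E₀ f) := by
    refine ⟨fun b => Ideal.Quotient.mk _
      (E₀ (Classical.choose (Ideal.Quotient.mk_surjective b))), fun f => ?_⟩
    have h := Classical.choose_spec (Ideal.Quotient.mk_surjective
      (Ideal.Quotient.mk (Ideal.span {(X 0 * X 1 - C α : MvPowerSeries (Fin 2) A)}) f))
    rw [Ideal.Quotient.eq] at h ⊢
    rw [← E₀_sub]; exact hE₀I _ h
  have hD := der_mem β _ rfl (fun b => φ (E (φ.symm b)))
    (by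
      intro a b
      obtain ⟨f, hf⟩ := Ideal.Quotient.mk_surjective (φ.symm a)
      obtain ⟨g, hg⟩ := Ideal.Quotient.mk_surjective (φ.symm b)
      change φ (E (φ.symm (a + b))) = φ (E (φ.symm a)) + φ (E (φ.symm b))
      rw [map_add φ.symm, ← hf, ← hg, ← map_add (Ideal.Quotient.mk _), hE, hE, hE, E₀_add,
        map_add, map_add])
    (by
      intro a b
      obtain ⟨f, hf⟩ := Ideal.Quotient.mk_surjective (φ.symm a)
      obtain ⟨g, hg⟩ := Ideal.Quotient.mk_surjective (φ.symm b)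
      change φ (E (φ.symm (a * b))) = a * φ (E (φ.symm b)) + φ (E (φ.symm a)) * b
      have ha : a = φ (Ideal.Quotient.mk _ f) := by rw [hf, φ.apply_symm_apply]
      have hb : b = φ (Ideal.Quotient.mk _ g) := by rw [hg, φ.apply_symm_apply]
      rw [map_mul φ.symm, ← hf, ← hg, ← map_mul (Ideal.Quotient.mk _), hE, hE, hE, E₀_mul,
        map_add, map_mul, map_mul, map_add, map_mul, map_mul, ha, hb])
    (by
      intro a
      change φ (E (φ.symm (Ideal.Quotient.mk _ (C a)))) = 0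
      have h1 : (Ideal.Quotient.mk (Ideal.span {(X 0 * X 1 - C β : MvPowerSeries (Fin 2) A)})
          (C a)) = algebraMap A _ a := rfl
      have h2 : algebraMap A (MvPowerSeries (Fin 2) A ⧸
          Ideal.span {(X 0 * X 1 - C α : MvPowerSeries (Fin 2) A)}) a =
          Ideal.Quotient.mk _ (C a) := rfl
      rw [h1, φ.symm.commutes, h2, hE, E₀_C, map_zero, map_zero])
  have hx := hD (φ (Ideal.Quotient.mk _ (X 0)))
  simp only [AlgEquiv.symm_apply_apply] at hx
  rw [hE, E₀_X0] at hx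
  have hα : Ideal.Quotient.mk (Ideal.span {(X 0 * X 1 - C β : MvPowerSeries (Fin 2) A)}) (C α) ∈
      Ideal.span {Ideal.Quotient.mk
        (Ideal.span {(X 0 * X 1 - C β : MvPowerSeries (Fin 2) A)}) (X 0),
        Ideal.Quotient.mk _ (X 1)} := by
    have h1 : (Ideal.Quotient.mk (Ideal.span {(X 0 * X 1 - C β : MvPowerSeries (Fin 2) A)})
        (C α)) = algebraMap A _ α := rfl
    have h2 : algebraMap A (MvPowerSeries (Fin 2) A ⧸
        Ideal.span {(X 0 * X 1 - C α : MvPowerSeries (Fin 2) A)}) α =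
        Ideal.Quotient.mk _ (X 0) * Ideal.Quotient.mk _ (X 1) := by
      change Ideal.Quotient.mk _ (C α) = _
      rw [← map_mul, eq_comm, Ideal.Quotient.eq]; exact Ideal.subset_span rfl
    rw [h1, ← φ.commutes, h2, map_mul]
    exact Ideal.mul_mem_right _ _ hx
  rw [Ideal.mem_span_pair] at hα
  obtain ⟨c, d, hcd⟩ := hα
  obtain ⟨c', rfl⟩ := Ideal.Quotient.mk_surjective c
  obtain ⟨d', rfl⟩ := Ideal.Quotient.mk_surjective d
  rw [← map_mul, ← map_mul, ← map_add, Ideal.Quotient.eq, Ideal.mem_span_singleton'] at hcd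
  obtain ⟨w, hw⟩ := hcd
  have h3 := congrArg constantCoeff hw
  simp only [map_mul, map_sub, map_add, constantCoeff_X, constantCoeff_C, mul_zero,
    add_zero, zero_sub] at h3
  rw [Ideal.mem_span_singleton']
  exact ⟨constantCoeff w, by rw [← neg_inj, ← h3]; ring⟩

end


open MvPowerSeries IsLocalRing in
/-- Let A be a Noetherian local ring and α, β two elements of its maximal ideal. If the quotient of the
power series ring in two variables over A by xy − α is isomorphic, as an A-algebra, to the quotient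
by xy − β, then αA = βA. (The published statement allows any local ring A; it is taken Noetherian
here, the case in which an algebra isomorphism between these complete local rings is continuous for
their adic topologies.) -/
theorem result
    (A : Type u) [CommRing A] [IsLocalRing A] [IsNoetherianRing A]
    (α β : A) (hα : α ∈ maximalIdeal A) (hβ : β ∈ maximalIdeal A)
    (φ : (MvPowerSeries (Fin 2) A ⧸ Ideal.span {(X 0 * X 1 - C α : MvPowerSeries (Fin 2) A)}) ≃ₐ[A] (MvPowerSeries (Fin 2) A ⧸ Ideal.span {(X 0 * X 1 - C β : MvPowerSeries (Fin 2) A)})) :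
    Ideal.span {α} = Ideal.span {β} := by
  apply le_antisymm
  · rw [Ideal.span_singleton_le_iff_mem]; exact key α β φ
  · rw [Ideal.span_singleton_le_iff_mem]; exact key β α φ.symm

end Groth.Agent.S17720
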