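import Groth.Statements.S17721
import Mathlib.RingTheory.LocalRing.ResidueField.Basic
import Mathlib.RingTheory.PowerSeries.NoZeroDivisors
import Mathlib.RingTheory.PowerSeries.Inverse

set_option autoImplicit false
universe u
open CAlg

namespace Groth.Agent.S17721

open Polynomial IsLocalRing in
/-- If a power series over a DVR reduces to zero modulo the maximal ideal, it is divisible by the uniformizer. -/
private theorem exists_eq_C_mul_of_map_residue_eq_zero
    {R : Type u} [CommRing R] [IsDomain R] [IsDiscreteValuationRing R]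
    {ϖ : R} (hϖ : Irreducible ϖ) (p : PowerSeries R)
    (hp : PowerSeries.map (IsLocalRing.residue R) p = 0) : ∃ p₁ : PowerSeries R, p = PowerSeries.C ϖ * p₁ := by
  have h1 : ∀ j, ϖ ∣ PowerSeries.coeff j p := by
    intro j
    have h2 : IsLocalRing.residue R (PowerSeries.coeff j p) = 0 := by
      rw [← PowerSeries.coeff_map, hp]; simp
    rw [IsLocalRing.residue_eq_zero_iff, hϖ.maximalIdeal_eq, Ideal.mem_span_singleton] at h2
    exact h2
  choose q hq using h1
  refine ⟨PowerSeries.mk q, ?_⟩
  ext j
  rw [PowerSeries.coeff_C_mul, PowerSeries.coeff_mk, hq j]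

open Polynomial IsLocalRing in
private theorem key
    {R : Type u} [CommRing R] [IsDomain R] [IsDiscreteValuationRing R]
    {ϖ : R} (hϖ : Irreducible ϖ) :
    ∀ (e : ℕ) (g h : PowerSeries R) (u : Rˣ), g * h = PowerSeries.C ((u : R) * ϖ ^ e) →
      ∃ (l : ℕ) (h' : PowerSeries R), IsUnit (PowerSeries.constantCoeff h') ∧
        h = PowerSeries.C (ϖ ^ l) * h' := by
  have hϖ0 : ϖ ≠ 0 := hϖ.ne_zero
  have hC0 : (PowerSeries.C ϖ : PowerSeries R) ≠ 0 := by
    intro h
    apply hϖ0
    have := congrArg (PowerSeries.coeff 0) h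
    simpa using this
  intro e
  induction e with
  | zero =>
    intro g h u hgh
    refine ⟨0, h, ?_, by simp⟩
    have h1 := congrArg PowerSeries.constantCoeff hgh
    rw [map_mul, PowerSeries.constantCoeff_C, pow_zero, mul_one] at h1
    have h2 : IsUnit (PowerSeries.constantCoeff g * PowerSeries.constantCoeff h) := by
      rw [h1]; exact u.isUnit
    exact isUnit_of_mul_isUnit_right h2
  | succ e ih =>
    intro g h u hgh
    have h1 : PowerSeries.map (IsLocalRing.residue R) g * PowerSeries.map (IsLocalRing.residue R) h = 0 := by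
      rw [← map_mul, hgh, PowerSeries.map_C]
      have : IsLocalRing.residue R ((u : R) * ϖ ^ (e + 1)) = 0 := by
        rw [IsLocalRing.residue_eq_zero_iff, hϖ.maximalIdeal_eq, Ideal.mem_span_singleton]
        exact Dvd.intro_left ((u : R) * ϖ ^ e) (by ring)
      rw [this, map_zero]
    rcases mul_eq_zero.mp h1 with h2 | h2
    · obtain ⟨g₁, rfl⟩ := exists_eq_C_mul_of_map_residue_eq_zero hϖ g h2
      have h3 : g₁ * h = PowerSeries.C ((u : R) * ϖ ^ e) := by
        apply mul_left_cancel₀ hC0
        rw [← mul_assoc, hgh, ← map_mul]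
        congr 1
        ring
      exact ih g₁ h u h3
    · obtain ⟨h₁, rfl⟩ := exists_eq_C_mul_of_map_residue_eq_zero hϖ h h2
      have h3 : g * h₁ = PowerSeries.C ((u : R) * ϖ ^ e) := by
        apply mul_left_cancel₀ hC0
        rw [mul_left_comm, hgh, ← map_mul]
        congr 1
        ring
      obtain ⟨l, h', hu, rfl⟩ := ih g h₁ u h3
      refine ⟨l + 1, h', hu, ?_⟩
      rw [← mul_assoc, ← map_mul]
      congr 2
      ring

open Polynomial IsLocalRing in
/-- Let R be a complete discrete valuation ring with fraction field K, and f a polynomial over R with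
non-zero constant term a₀ such that a₀ does not divide some coefficient of f of positive degree
(equivalently, the Newton polygon of f has a side of negative slope). Let b be the power series over
K with b · f = a₀, the expansion of the geometric series in 1 − f/a₀. Then the valuations of the
coefficients b_j are not bounded below: for every non-zero c in R there is an index j with c · b_j
outside R. -/
theorem result
    (R : Type u) [CommRing R] [IsDomain R] [IsDiscreteValuationRing R]
    [IsAdicComplete (maximalIdeal R) R]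
    (K : Type u) [Field K] [Algebra R K] [IsFractionRing R K]
    (f : R[X]) (h0 : f.coeff 0 ≠ 0) (hslope : ∃ i : ℕ, 0 < i ∧ ¬ (f.coeff 0 ∣ f.coeff i))
    (b : PowerSeries K)
    (hb : b * ((f.map (algebraMap R K) : K[X]) : PowerSeries K) = PowerSeries.C (algebraMap R K (f.coeff 0))) :
    ∀ c : R, c ≠ 0 → ∃ j : ℕ, algebraMap R K c * PowerSeries.coeff j b ∉ (algebraMap R K).range := by
  intro c hc
  by_contra hcon
  push Not at hcon
  choose β hβ using hcon
  obtain ⟨ϖ, hϖ⟩ := IsDiscreteValuationRing.exists_irreducible R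
  have hinj : Function.Injective (algebraMap R K) := IsFractionRing.injective R K
  -- the integral power series
  have h1 : PowerSeries.map (algebraMap R K) (PowerSeries.mk β) =
      PowerSeries.C (algebraMap R K c) * b := by
    ext j
    rw [PowerSeries.coeff_map, PowerSeries.coeff_mk, PowerSeries.coeff_C_mul]
    exact hβ j
  have h2 : PowerSeries.mk β * (f : PowerSeries R) = PowerSeries.C (c * f.coeff 0) := by
    have hmapinj : Function.Injective (PowerSeries.map (algebraMap R K)) := by
      intro p q hpq
      ext j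
      apply hinj
      have := congrArg (PowerSeries.coeff j) hpq
      simpa [PowerSeries.coeff_map] using this
    apply hmapinj
    rw [map_mul, h1, ← Polynomial.polynomial_map_coe, mul_assoc, hb, PowerSeries.map_C, map_mul,
      map_mul]
  have hca : c * f.coeff 0 ≠ 0 := mul_ne_zero hc h0
  obtain ⟨e, u, hu⟩ := IsDiscreteValuationRing.eq_unit_mul_pow_irreducible hca hϖ
  rw [hu] at h2
  obtain ⟨l, h', hunit, hfh⟩ := key hϖ e _ _ u h2
  have hcoeff : ∀ i, f.coeff i = ϖ ^ l * PowerSeries.coeff i h' := by
    intro i
    rw [← Polynomial.coeff_coe, hfh, PowerSeries.coeff_C_mul]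
  obtain ⟨i, -, hi⟩ := hslope
  apply hi
  obtain ⟨v, hv⟩ := hunit
  have h00 : f.coeff 0 = ϖ ^ l * (v : R) := by
    rw [hcoeff 0, PowerSeries.coeff_zero_eq_constantCoeff_apply, hv]
  refine ⟨((v⁻¹ : Rˣ) : R) * PowerSeries.coeff i h', ?_⟩
  rw [hcoeff i, h00]
  have : (v : R) * ((v⁻¹ : Rˣ) : R) = 1 := by simp
  calc ϖ ^ l * PowerSeries.coeff i h' = ϖ ^ l * ((v : R) * ((v⁻¹ : Rˣ) : R)) * PowerSeries.coeff i h' := by
        rw [this, mul_one]
    _ = ϖ ^ l * (v : R) * (((v⁻¹ : Rˣ) : R) * PowerSeries.coeff i h') := by ring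

end Groth.Agent.S17721
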