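import Groth.Statements.S17722
import Mathlib.RingTheory.Flat.FaithfullyFlat.Algebra
import Mathlib.RingTheory.Noetherian.Basic
import Mathlib.RingTheory.LocalRing.MaximalIdeal.Basic

set_option autoImplicit false
universe u
open CAlg

namespace Groth.Agent.S17722

/-- Let R → R' be a faithfully flat ring map between Noetherian integrally closed local domains, and p
an ideal of R. If the ideal pR' generated by the image of p is principal, then p is principal. (The
second assertion of the published lemma, descent of unique factorization, is not part of this row.) -/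
theorem result
    (R R' : Type u) [CommRing R] [CommRing R'] [IsDomain R] [IsDomain R']
    [IsNoetherianRing R] [IsNoetherianRing R'] [IsLocalRing R] [IsLocalRing R']
    [IsIntegrallyClosed R] [IsIntegrallyClosed R']
    [Algebra R R'] [Module.FaithfullyFlat R R']
    (p : Ideal R) (hp : (p.map (algebraMap R R')).IsPrincipal) :
    p.IsPrincipal := by
  classical
  -- it suffices to find `x₀` with `p R' = x₀ R'`
  suffices h : ∃ x₀ : R, p.map (algebraMap R R') = (Ideal.span {x₀}).map (algebraMap R R') by
    obtain ⟨x₀, hx₀⟩ := h
    refine ⟨x₀, ?_⟩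
    have h1 := Ideal.comap_map_eq_self_of_faithfullyFlat (B := R') p
    have h2 := Ideal.comap_map_eq_self_of_faithfullyFlat (B := R') (Ideal.span {x₀})
    rw [hx₀, h2] at h1
    rw [← h1]
  obtain ⟨y, hy⟩ := hp.principal
  have hy' : p.map (algebraMap R R') = Ideal.span {y} := hy
  obtain ⟨s, hs⟩ := (isNoetherianRing_iff_ideal_fg R).mp inferInstance p
  have hmap : p.map (algebraMap R R') = Ideal.span ((algebraMap R R') '' (s : Set R)) := by
    rw [← hs, Ideal.map_span]
  by_cases hunit : ∃ x ∈ s, ∃ b : R', IsUnit b ∧ algebraMap R R' x = b * y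
  · obtain ⟨x, -, b, hb, hxb⟩ := hunit
    refine ⟨x, ?_⟩
    rw [Ideal.map_span, Set.image_singleton, hy', hxb]
    exact (Ideal.span_singleton_mul_left_unit hb y).symm
  · -- then `y = 0`
    push Not at hunit
    have hle : p.map (algebraMap R R') ≤ IsLocalRing.maximalIdeal R' * Ideal.span {y} := by
      rw [hmap, Ideal.span_le]
      rintro _ ⟨x, hx, rfl⟩
      have hxy : algebraMap R R' x ∈ Ideal.span {y} := by
        rw [← hy']
        apply Ideal.mem_map_of_mem
        rw [← hs]
        exact Ideal.subset_span hx
      obtain ⟨b, hb⟩ := Ideal.mem_span_singleton'.mp hxy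
      have hbn : ¬ IsUnit b := fun hbu => hunit x hx b hbu hb.symm
      rw [← hb]
      exact Ideal.mul_mem_mul ((IsLocalRing.mem_maximalIdeal b).mpr hbn)
        (Ideal.mem_span_singleton_self y)
    have hymem : y ∈ IsLocalRing.maximalIdeal R' * Ideal.span {y} := by
      apply hle
      rw [hy']
      exact Ideal.mem_span_singleton_self y
    rw [Ideal.mem_mul_span_singleton] at hymem
    obtain ⟨c, hc, hcy⟩ := hymem
    have h1c : IsUnit (1 - c) := by
      have := (IsLocalRing.mem_maximalIdeal c).mp hc
      exact IsLocalRing.isUnit_one_sub_self_of_mem_nonunits c this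
    have hy0 : y = 0 := by
      have : (1 - c) * y = 0 := by rw [sub_mul, one_mul, hcy, sub_self]
      exact (h1c.mul_right_eq_zero).mp this
    refine ⟨0, ?_⟩
    rw [hy', hy0, Ideal.map_span, Set.image_singleton, map_zero]

end Groth.Agent.S17722
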