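import Groth.Statements.S17723
import Mathlib.Tactic
import Mathlib.RingTheory.Coprime.Lemmas
import Mathlib.RingTheory.PrincipalIdealDomain
import Mathlib.Data.Nat.Factorization.Basic
import Mathlib.Data.Nat.Prime.Int

set_option autoImplicit false
universe u
open LabGraph

namespace Groth.Agent.S17723

variable {V E : Type u} [Fintype V] [Fintype E] [DecidableEq V] [DecidableEq E]

/-- the generating set of elementary-Cartier functions -/
private def gens (ends : E → V × V) (l : E → ℕ) : Set (V → ℤ) :=
  {g : V → ℤ | ∃ n : ℕ, 0 < n ∧ (∀ v, (n : ℤ) ∣ g v) ∧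
      ∀ e, ¬ (l e ∣ n) → g (ends e).1 = g (ends e).2}

private theorem p_dvd_of_not_dvd {le m p b : ℕ} (hp : p.Prime) (N : ℕ) (hN : m * p ^ b = N)
    (hle : le ∣ N) (δ : ℤ) (hδ : (le : ℤ) ∣ (m : ℤ) * δ) (hnd : ¬ le ∣ m) : (p : ℤ) ∣ δ := by
  by_contra hpd
  have hpp : Prime (p : ℤ) := Nat.prime_iff_prime_int.mp hp
  have hcop : IsCoprime ((p : ℤ) ^ b) δ := ((Prime.coprime_iff_not_dvd hpp).mpr hpd).pow_left
  obtain ⟨x, y, hxy⟩ := hcop
  apply hnd
  have h1 : (le : ℤ) ∣ (N : ℤ) := Int.natCast_dvd_natCast.mpr hle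
  have h2 : (N : ℤ) = (m : ℤ) * (p : ℤ) ^ b := by rw [← hN]; push_cast; ring
  have h1' : (le : ℤ) ∣ (m : ℤ) * (p : ℤ) ^ b := by rw [← h2]; exact h1
  have h3 : (m : ℤ) = x * ((m : ℤ) * (p : ℤ) ^ b) + y * ((m : ℤ) * δ) := by
    linear_combination (-(m : ℤ)) * hxy
  have h4 : (le : ℤ) ∣ (m : ℤ) := by
    rw [h3]
    exact dvd_add (Dvd.dvd.mul_left h1' x) (Dvd.dvd.mul_left hδ y)
  exact Int.natCast_dvd_natCast.mp h4

private theorem main (ends : E → V × V) (l : E → ℕ) (N : ℕ) (hN : 0 < N) (hlN : ∀ e, l e ∣ N) :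
    ∀ t : ℕ, ∀ m : ℕ, m * t = N → ∀ f : V → ℤ,
      (∀ e, (l e : ℤ) ∣ (m : ℤ) * (f (ends e).1 - f (ends e).2)) →
      (m : ℤ) • f ∈ Submodule.span ℤ (gens ends l) := by
  intro t
  induction t using Nat.strong_induction_on with
  | _ t ih =>
  intro m hmt f hf
  have ht0 : t ≠ 0 := by
    intro h
    rw [h, mul_zero] at hmt
    omega
  have hm0 : 0 < m := by
    rcases Nat.eq_zero_or_pos m with h | h
    · rw [h, zero_mul] at hmt
      omega
    · exact h
  by_cases ht1 : t = 1
  · have hmN : m = N := by rw [ht1, mul_one] at hmt; exact hmt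
    apply Submodule.subset_span
    refine ⟨m, hm0, fun v => ⟨f v, by simp [Pi.smul_apply]⟩, ?_⟩
    intro e he
    exact absurd (hmN ▸ hlN e) he
  · obtain ⟨p, hp, hpt⟩ : ∃ p : ℕ, p.Prime ∧ p ∣ t :=
      ⟨t.minFac, Nat.minFac_prime ht1, Nat.minFac_dvd t⟩
    obtain ⟨b, t', hpt', htb⟩ := Nat.exists_eq_pow_mul_and_not_dvd ht0 p hp.ne_one
    have hb : b ≠ 0 := by
      intro h
      apply hpt'
      rw [h, pow_zero, one_mul] at htb
      rw [← htb]
      exact hpt
    have hb1 : 1 ≤ b := Nat.one_le_iff_ne_zero.mpr hb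
    have ht'0 : t' ≠ 0 := by
      intro h
      rw [h, mul_zero] at htb
      exact ht0 htb
    by_cases ht'1 : t' = 1
    · -- prime power case
      rw [ht'1, mul_one] at htb
      have hNeq : m * p ^ b = N := by rw [← hmt, htb]
      have hdvdp : ∀ e, ¬ (l e ∣ m) → (p : ℤ) ∣ f (ends e).1 - f (ends e).2 := fun e he =>
        p_dvd_of_not_dvd hp N hNeq (hlN e) _ (hf e) he
      let R : V → V → Prop := fun v w =>
        ∃ e : E, ¬ (l e ∣ m) ∧ (ends e = (v, w) ∨ ends e = (w, v))
      have hR : ∀ v w, Relation.EqvGen R v w → (p : ℤ) ∣ f v - f w := by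
        intro v w h
        induction h with
        | rel x y hxy =>
          obtain ⟨e, he, h1 | h1⟩ := hxy
          · have h0 := hdvdp e he
            rw [h1] at h0
            exact h0
          · have h0 := hdvdp e he
            rw [h1] at h0
            have h2 : f x - f y = -(f y - f x) := by ring
            rw [h2]; exact (dvd_neg).mpr h0
        | refl x => simp
        | symm x y _ ih' =>
          have h2 : f y - f x = -(f x - f y) := by ring
          rw [h2]; exact (dvd_neg).mpr ih'
        | trans x y z _ _ ih1 ih2 =>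
          have h2 : f x - f z = (f x - f y) + (f y - f z) := by ring
          rw [h2]; exact dvd_add ih1 ih2
      let rep : V → V := fun v => (Quot.mk R v).out
      have hrep : ∀ v, Relation.EqvGen R v (rep v) := fun v =>
        Relation.EqvGen.symm _ _ (Quot.eqvGen_exact (Quot.out_eq (Quot.mk R v)))
      let g : V → ℤ := fun v => f (rep v)
      have hg_edge : ∀ e, ¬ (l e ∣ m) → g (ends e).1 = g (ends e).2 := by
        intro e he
        have h0 : Quot.mk R (ends e).1 = Quot.mk R (ends e).2 := Quot.sound ⟨e, he, Or.inl rfl⟩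
        show f ((Quot.mk R (ends e).1).out) = f ((Quot.mk R (ends e).2).out)
        rw [h0]
      have hdiv : ∀ v, (p : ℤ) ∣ f v - g v := fun v => hR v (rep v) (hrep v)
      choose f₁ hf₁ using hdiv
      have hf₁C : ∀ e, (l e : ℤ) ∣ ((m * p : ℕ) : ℤ) * (f₁ (ends e).1 - f₁ (ends e).2) := by
        intro e
        have h1 : ((m * p : ℕ) : ℤ) * (f₁ (ends e).1 - f₁ (ends e).2)
            = (m : ℤ) * ((f (ends e).1 - g (ends e).1) - (f (ends e).2 - g (ends e).2)) := by
          rw [hf₁, hf₁]; push_cast; ring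
        rw [h1]
        by_cases he : l e ∣ m
        · exact Dvd.dvd.mul_right (Int.natCast_dvd_natCast.mpr he) _
        · rw [hg_edge e he]
          have h2 : (f (ends e).1 - g (ends e).2) - (f (ends e).2 - g (ends e).2)
              = f (ends e).1 - f (ends e).2 := by ring
          rw [h2]; exact hf e
      have hlt : p ^ (b - 1) < t := by
        rw [htb]; exact Nat.pow_lt_pow_right hp.one_lt (by omega)
      have hmul : (m * p) * p ^ (b - 1) = N := by
        rw [← hNeq, mul_assoc, ← pow_succ', Nat.sub_add_cancel hb1]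
      have h1 := ih (p ^ (b - 1)) hlt (m * p) hmul f₁ hf₁C
      have h2 : (m : ℤ) • g ∈ Submodule.span ℤ (gens ends l) := by
        apply Submodule.subset_span
        refine ⟨m, hm0, fun v => ⟨g v, by simp [Pi.smul_apply]⟩, ?_⟩
        intro e he
        simp only [Pi.smul_apply, smul_eq_mul]
        rw [hg_edge e he]
      have h3 : (m : ℤ) • f = (m : ℤ) • g + ((m * p : ℕ) : ℤ) • f₁ := by
        funext v
        simp only [Pi.add_apply, Pi.smul_apply, smul_eq_mul]
        have h0 := hf₁ v
        push_cast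
        linear_combination (m : ℤ) * h0
      rw [h3]
      exact Submodule.add_mem _ h2 h1
    · -- Bezout split
      have hcop : Nat.Coprime (p ^ b) t' :=
        Nat.Coprime.pow_left b ((Nat.Prime.coprime_iff_not_dvd hp).mpr hpt')
      obtain ⟨x, y, hxy⟩ := (Nat.isCoprime_iff_coprime.mpr hcop)
      have ht'2 : 2 ≤ t' := by omega
      have hpb2 : 2 ≤ p ^ b := by
        calc 2 ≤ p := hp.two_le
          _ = p ^ 1 := (pow_one p).symm
          _ ≤ p ^ b := Nat.pow_le_pow_right hp.pos hb1
      have hlt1 : t' < t := by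
        rw [htb]
        have h0 := Nat.mul_le_mul_right t' hpb2
        linarith
      have hlt2 : p ^ b < t := by
        rw [htb]
        have h0 := Nat.mul_le_mul_left (p ^ b) ht'2
        linarith
      have hm1 : (m * p ^ b) * t' = N := by rw [← hmt, htb, mul_assoc]
      have hm2 : (m * t') * p ^ b = N := by rw [← hmt, htb]; ring
      have hC1 : ∀ e, (l e : ℤ) ∣ ((m * p ^ b : ℕ) : ℤ) * (f (ends e).1 - f (ends e).2) := by
        intro e
        have h0 : ((m * p ^ b : ℕ) : ℤ) * (f (ends e).1 - f (ends e).2)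
            = ((p ^ b : ℕ) : ℤ) * ((m : ℤ) * (f (ends e).1 - f (ends e).2)) := by
          push_cast; ring
        rw [h0]; exact Dvd.dvd.mul_left (hf e) _
      have hC2 : ∀ e, (l e : ℤ) ∣ ((m * t' : ℕ) : ℤ) * (f (ends e).1 - f (ends e).2) := by
        intro e
        have h0 : ((m * t' : ℕ) : ℤ) * (f (ends e).1 - f (ends e).2)
            = ((t' : ℕ) : ℤ) * ((m : ℤ) * (f (ends e).1 - f (ends e).2)) := by
          push_cast; ring
        rw [h0]; exact Dvd.dvd.mul_left (hf e) _
      have h1 := ih t' hlt1 (m * p ^ b) hm1 f hC1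
      have h2 := ih (p ^ b) hlt2 (m * t') hm2 f hC2
      have h3 : (m : ℤ) • f =
          x • (((m * p ^ b : ℕ) : ℤ) • f) + y • (((m * t' : ℕ) : ℤ) • f) := by
        funext v
        simp only [Pi.add_apply, Pi.smul_apply, smul_eq_mul]
        push_cast
        push_cast at hxy
        linear_combination (-(m : ℤ) * f v) * hxy
      rw [h3]
      exact Submodule.add_mem _ (Submodule.smul_mem _ _ h1) (Submodule.smul_mem _ _ h2)

/-- Let G be a finite connected multigraph with endpoint map ends and edge labels l taking positive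
integer values. We say g : V → ℤ is elementary-Cartier if, for some integer n ≥ 1, all values of g
are multiples of n and, for each edge whose label fails to divide n, g agrees at its two endpoints
(equivalently, once the edges with label dividing n are removed, g takes a single value on each
connected piece of what remains). Then every Cartier function f (for each edge, the label divides
the difference of the values of f at its endpoints) lies in the ℤ-span of the elementary-Cartier
functions. -/
theorem result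
    {V E : Type u} [Fintype V] [Fintype E] [DecidableEq V] [DecidableEq E]
    (ends : E → V × V) (l : E → ℕ) (hl : ∀ e, 0 < l e) (hconn : LabGraph.Connected ends)
    (f : V → ℤ) (hf : LabGraph.IsCartier ends l f) :
    f ∈ Submodule.span ℤ {g : V → ℤ | ∃ n : ℕ, 0 < n ∧ (∀ v, (n : ℤ) ∣ g v) ∧
      ∀ e, ¬ (l e ∣ n) → g (ends e).1 = g (ends e).2} := by
  have hN : 0 < ∏ e, l e := Finset.prod_pos (fun e _ => hl e)
  have hlN : ∀ e, l e ∣ ∏ e, l e := fun e => Finset.dvd_prod_of_mem l (Finset.mem_univ e)
  have h := main ends l (∏ e, l e) hN hlN (∏ e, l e) 1 (one_mul _) f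
    (by intro e; rw [Nat.cast_one, one_mul]; exact hf e)
  have h' : ((1 : ℕ) : ℤ) • f = f := by simp
  rw [h'] at h
  exact h

end Groth.Agent.S17723
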