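import Groth.Statements.S17724
import Mathlib.Tactic
import Mathlib.Data.ZMod.Basic
import Mathlib.Algebra.CharP.Two

set_option autoImplicit false
universe u v
open LabGraph

namespace Groth.Agent.S17724

section helpers
open LabGraph
variable {V E : Type u} [Fintype V] [Fintype E] [DecidableEq V] [DecidableEq E]

/-- single-edge adjacency within an edge set -/
def AdjIn (ends : E → V × V) (F : Finset E) (v w : V) : Prop :=
  ∃ e ∈ F, ends e = (v, w) ∨ ends e = (w, v)

/-- reachability within an edge set -/
def Reach (ends : E → V × V) (F : Finset E) (v w : V) : Prop :=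
  Relation.ReflTransGen (AdjIn ends F) v w

theorem AdjIn.symm {ends : E → V × V} {F : Finset E} {v w : V} (h : AdjIn ends F v w) :
    AdjIn ends F w v := by
  obtain ⟨e, he, h1 | h1⟩ := h
  · exact ⟨e, he, Or.inr h1⟩
  · exact ⟨e, he, Or.inl h1⟩

theorem Reach.symm {ends : E → V × V} {F : Finset E} {v w : V} (h : Reach ends F v w) :
    Reach ends F w v := by
  unfold Reach at h ⊢
  induction h with
  | refl => exact Relation.ReflTransGen.refl
  | tail _ hbc ih => exact Relation.ReflTransGen.head hbc.symm ih

/-- a point mass mod 2 -/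
def pt (a v : V) : ZMod 2 := if a = v then 1 else 0

/-- mod-2 boundary of an edge set -/
def bd (ends : E → V × V) (D : Finset E) (v : V) : ZMod 2 :=
  ∑ e ∈ D, ((if (ends e).1 = v then 1 else 0) + (if (ends e).2 = v then 1 else 0))

theorem bd_eq_cast (ends : E → V × V) (D : Finset E) (v : V) :
    bd ends D v = ((endCount ends D v : ℕ) : ZMod 2) := by
  simp only [bd, endCount, Nat.cast_sum, Nat.cast_add, Nat.cast_ite, Nat.cast_one, Nat.cast_zero]

theorem even_endCount_iff (ends : E → V × V) (D : Finset E) (v : V) :
    Even (endCount ends D v) ↔ bd ends D v = 0 := by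
  rw [bd_eq_cast, ZMod.natCast_eq_zero_iff_even]

theorem bd_insert (ends : E → V × V) (D : Finset E) (e : E) (he : e ∉ D) (v : V) :
    bd ends (insert e D) v = (pt (ends e).1 v + pt (ends e).2 v) + bd ends D v := by
  unfold bd pt
  rw [Finset.sum_insert he]

theorem bd_erase (ends : E → V × V) (D : Finset E) (e : E) (he : e ∈ D) (v : V) :
    bd ends (D.erase e) v = (pt (ends e).1 v + pt (ends e).2 v) + bd ends D v := by
  have h := bd_insert ends (D.erase e) e (Finset.notMem_erase e D) v
  rw [Finset.insert_erase he] at h
  rw [h, ← add_assoc, CharTwo.add_self_eq_zero, zero_add]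

theorem sum_bd (ends : E → V × V) (D : Finset E) : ∑ v, bd ends D v = 0 := by
  unfold bd
  rw [Finset.sum_comm]
  apply Finset.sum_eq_zero
  intro e _
  rw [Finset.sum_add_distrib, Finset.sum_ite_eq, Finset.sum_ite_eq]
  simp only [Finset.mem_univ, if_true]
  exact CharTwo.add_self_eq_zero 1

theorem exists_of_reach (ends : E → V × V) (F : Finset E) (a b : V) (h : Reach ends F a b) :
    ∃ D : Finset E, D ⊆ F ∧ ∀ v, bd ends D v = pt a v + pt b v := by
  unfold Reach at h
  induction h with
  | refl =>
    refine ⟨∅, Finset.empty_subset _, fun v => ?_⟩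
    rw [CharTwo.add_self_eq_zero]
    simp [bd]
  | @tail c b' _ hbc ih =>
    obtain ⟨D, hDF, hD⟩ := ih
    obtain ⟨e, heF, he⟩ := hbc
    have hbe : ∀ v, pt (ends e).1 v + pt (ends e).2 v = pt c v + pt b' v := by
      intro v
      rcases he with he | he
      · rw [he]
      · rw [he]
        exact add_comm _ _
    by_cases heD : e ∈ D
    · refine ⟨D.erase e, (Finset.erase_subset _ _).trans hDF, fun v => ?_⟩
      rw [bd_erase ends D e heD, hbe, hD]
      have h2 := CharTwo.add_self_eq_zero (pt c v)
      linear_combination h2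
    · refine ⟨insert e D, Finset.insert_subset heF hDF, fun v => ?_⟩
      rw [bd_insert ends D e heD, hbe, hD]
      have h2 := CharTwo.add_self_eq_zero (pt c v)
      linear_combination h2

theorem exists_circuit (ends : E → V × V) (D : Finset E) (e₀ : E) (he₀ : e₀ ∈ D)
    (hD : ∀ v, bd ends D v = 0) :
    ∃ C : Finset E, C ⊆ D ∧ e₀ ∈ C ∧ IsCircuit ends C := by
  classical
  have hne : (D.powerset.filter (fun C => e₀ ∈ C ∧ ∀ v, bd ends C v = 0)).Nonempty :=
    ⟨D, Finset.mem_filter.mpr ⟨Finset.mem_powerset.mpr (Finset.Subset.refl D), he₀, hD⟩⟩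
  obtain ⟨C, hC, hmin⟩ := Finset.exists_min_image _ Finset.card hne
  have hC' : C ⊆ D ∧ e₀ ∈ C ∧ ∀ v, bd ends C v = 0 := by
    have h1 := Finset.mem_filter.mp hC
    exact ⟨Finset.mem_powerset.mp h1.1, h1.2.1, h1.2.2⟩
  refine ⟨C, hC'.1, hC'.2.1, ?_⟩
  unfold IsCircuit
  refine ⟨⟨e₀, hC'.2.1⟩, fun v => (even_endCount_iff ends C v).mpr (hC'.2.2 v), ?_⟩
  intro C' hss hne'
  by_contra hcon
  push Not at hcon
  have hC'0 : ∀ v, bd ends C' v = 0 := fun v => (even_endCount_iff ends C' v).mp (hcon v)
  by_cases h0 : e₀ ∈ C'
  · have hmem : C' ∈ D.powerset.filter (fun C => e₀ ∈ C ∧ ∀ v, bd ends C v = 0) :=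
      Finset.mem_filter.mpr ⟨Finset.mem_powerset.mpr (hss.subset.trans hC'.1), h0, hC'0⟩
    have h2 := hmin C' hmem
    have h3 := Finset.card_lt_card hss
    omega
  · have hsd : ∀ v, bd ends (C \ C') v = 0 := by
      intro v
      have h1 : bd ends (C \ C') v + bd ends C' v = bd ends C v := by
        unfold bd
        exact Finset.sum_sdiff hss.subset
      rw [hC'0 v, hC'.2.2 v, add_zero] at h1
      exact h1
    have hmem : (C \ C') ∈ D.powerset.filter (fun C => e₀ ∈ C ∧ ∀ v, bd ends C v = 0) :=
      Finset.mem_filter.mpr ⟨Finset.mem_powerset.mpr (Finset.sdiff_subset.trans hC'.1),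
        Finset.mem_sdiff.mpr ⟨hC'.2.1, h0⟩, hsd⟩
    have h2 := hmin _ hmem
    have h3 : (C \ C').card < C.card :=
      Finset.card_lt_card (Finset.sdiff_ssubset hss.subset hne')
    omega

theorem reach_of_even (ends : E → V × V) (C G : Finset E) (e₀ : E) (he₀ : e₀ ∈ C)
    (hC : ∀ v, bd ends C v = 0) (hG : C.erase e₀ ⊆ G) :
    Reach ends G (ends e₀).1 (ends e₀).2 := by
  classical
  by_contra hnot
  have hab : (ends e₀).1 ≠ (ends e₀).2 := by
    intro h
    apply hnot
    rw [← h]
    exact Relation.ReflTransGen.refl
  have hstep : ∀ e ∈ C.erase e₀,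
      (Reach ends G (ends e₀).1 (ends e).1 ↔ Reach ends G (ends e₀).1 (ends e).2) := by
    intro e he
    have heG := hG he
    constructor
    · intro h
      exact Relation.ReflTransGen.tail h ⟨e, heG, Or.inl rfl⟩
    · intro h
      exact Relation.ReflTransGen.tail h ⟨e, heG, Or.inr rfl⟩
  have h2 : ∀ v, ∑ e ∈ C.erase e₀, ((if (ends e).1 = v then (1 : ZMod 2) else 0) +
      (if (ends e).2 = v then 1 else 0)) = pt (ends e₀).1 v + pt (ends e₀).2 v := by
    intro v
    have h3 := bd_erase ends C e₀ he₀ v
    rw [hC v, add_zero] at h3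
    exact h3
  have hbdC' : ∀ v,
      bd ends ((C.erase e₀).filter (fun e => Reach ends G (ends e₀).1 (ends e).1)) v =
      if Reach ends G (ends e₀).1 v then pt (ends e₀).1 v + pt (ends e₀).2 v else 0 := by
    intro v
    have h1 : bd ends ((C.erase e₀).filter (fun e => Reach ends G (ends e₀).1 (ends e).1)) v =
        ∑ e ∈ C.erase e₀, (if Reach ends G (ends e₀).1 v then
          ((if (ends e).1 = v then (1 : ZMod 2) else 0) + (if (ends e).2 = v then 1 else 0))
          else 0) := by
      unfold bd
      rw [Finset.sum_filter]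
      apply Finset.sum_congr rfl
      intro e he
      have hs := hstep e he
      have hX : (Reach ends G (ends e₀).1 (ends e).1 ↔ Reach ends G (ends e₀).1 v) ∨
          ((ends e).1 ≠ v ∧ (ends e).2 ≠ v) := by
        by_cases h1 : (ends e).1 = v
        · left
          rw [h1]
        · by_cases h2 : (ends e).2 = v
          · left
            rw [← h2]
            exact hs
          · right
            exact ⟨h1, h2⟩
      rcases hX with hX | ⟨h1, h2⟩
      · exact if_congr hX rfl rfl
      · simp [h1, h2]
    rw [h1]
    by_cases hR : Reach ends G (ends e₀).1 v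
    · simp only [if_pos hR]
      exact h2 v
    · simp only [if_neg hR, Finset.sum_const_zero]
  have hsum1 : ∑ v, (if Reach ends G (ends e₀).1 v then
      pt (ends e₀).1 v + pt (ends e₀).2 v else (0 : ZMod 2)) = 1 := by
    have h1 : ∀ v, (if Reach ends G (ends e₀).1 v then
        pt (ends e₀).1 v + pt (ends e₀).2 v else (0 : ZMod 2)) =
        (if (ends e₀).1 = v then (1 : ZMod 2) else 0) := by
      intro v
      unfold pt
      by_cases h1 : (ends e₀).1 = v
      · have hR : Reach ends G (ends e₀).1 v := by
          rw [← h1]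
          exact Relation.ReflTransGen.refl
        have h2 : (ends e₀).2 ≠ v := fun h2 => hab (h1.trans h2.symm)
        rw [if_pos hR, if_pos h1, if_neg h2, add_zero]
      · by_cases h2 : (ends e₀).2 = v
        · have hR : ¬ Reach ends G (ends e₀).1 v := by
            rw [← h2]
            exact hnot
          rw [if_neg hR, if_neg h1]
        · rw [if_neg h1, if_neg h2, add_zero, ite_self]
    rw [Finset.sum_congr rfl (fun v _ => h1 v), Finset.sum_ite_eq]
    simp
  have h0 := sum_bd ends ((C.erase e₀).filter (fun e => Reach ends G (ends e₀).1 (ends e).1))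
  rw [Finset.sum_congr rfl (fun v _ => hbdC' v), hsum1] at h0
  exact absurd h0 (by decide)

theorem const_of_reach (ends : E → V × V) (G : Finset E) (k : V → ℤ)
    (hk : ∀ e ∈ G, k (ends e).1 = k (ends e).2) {a b : V} (h : Reach ends G a b) :
    k a = k b := by
  unfold Reach at h
  induction h with
  | refl => rfl
  | tail _ hbc ih =>
    obtain ⟨e, he, h1 | h1⟩ := hbc
    · have h2 := hk e he
      rw [h1] at h2
      exact ih.trans h2
    · have h2 := hk e he
      rw [h1] at h2
      exact ih.trans h2.symm

theorem reach_mono_label {L : Type v} [DecidableEq L] (ends : E → V × V) (lab : E → L)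
    (hcirc : ∀ C : Finset E, IsCircuit ends C → ∀ e ∈ C, ∀ e' ∈ C, lab e = lab e')
    (F : Finset E) (e₀ : E) (he₀ : e₀ ∉ F) (h : Reach ends F (ends e₀).1 (ends e₀).2) :
    Reach ends (F.filter (fun e => lab e = lab e₀)) (ends e₀).1 (ends e₀).2 := by
  classical
  obtain ⟨D, hDF, hD⟩ := exists_of_reach ends F _ _ h
  have he₀D : e₀ ∉ D := fun h' => he₀ (hDF h')
  have hD0 : ∀ v, bd ends (insert e₀ D) v = 0 := by
    intro v
    rw [bd_insert ends D e₀ he₀D, hD]
    exact CharTwo.add_self_eq_zero _
  obtain ⟨C, hCD, he₀C, hC⟩ :=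
    exists_circuit ends (insert e₀ D) e₀ (Finset.mem_insert_self _ _) hD0
  have hCeven : ∀ v, bd ends C v = 0 := fun v => (even_endCount_iff ends C v).mp (hC.2.1 v)
  apply reach_of_even ends C _ e₀ he₀C hCeven
  intro e he
  have heC := Finset.mem_of_mem_erase he
  have hne := Finset.ne_of_mem_erase he
  rw [Finset.mem_filter]
  refine ⟨?_, hcirc C hC e heC e₀ he₀C⟩
  have h1 := hCD heC
  rcases Finset.mem_insert.mp h1 with h1 | h1
  · exact absurd h1 hne
  · exact hDF h1

theorem decomp {L : Type v} (ends : E → V × V) (lab : E → L)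
    (hcirc : ∀ C : Finset E, IsCircuit ends C → ∀ e ∈ C, ∀ e' ∈ C, lab e = lab e')
    (f : V → ℤ) (F : Finset E) :
    ∃ g : L → V → ℤ, (∀ l : L, ∀ e ∈ F, lab e ≠ l → g l (ends e).1 = g l (ends e).2) ∧
      (∀ e ∈ F, g (lab e) (ends e).1 - g (lab e) (ends e).2 = f (ends e).1 - f (ends e).2) := by
  classical
  induction F using Finset.induction_on with
  | empty => exact ⟨fun _ _ => 0, by simp, by simp⟩
  | insert e₀ F he₀ ih =>
    obtain ⟨g, hg1, hg2⟩ := ih
    by_cases hR : Reach ends F (ends e₀).1 (ends e₀).2
    · have hmono := reach_mono_label ends lab hcirc F e₀ he₀ hR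
      have key1 : ∀ l, lab e₀ ≠ l → g l (ends e₀).1 = g l (ends e₀).2 := by
        intro l hl
        refine const_of_reach ends (F.filter (fun e => lab e = lab e₀)) (g l)
          (fun e' he' => ?_) hmono
        rw [Finset.mem_filter] at he'
        exact hg1 l e' he'.1 (by rw [he'.2]; exact hl)
      have key2 : g (lab e₀) (ends e₀).1 - g (lab e₀) (ends e₀).2
          = f (ends e₀).1 - f (ends e₀).2 := by
        have h1 := const_of_reach ends (F.filter (fun e => lab e = lab e₀))
          (fun v => g (lab e₀) v - f v) (fun e' he' => by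
          rw [Finset.mem_filter] at he'
          have h2 := hg2 e' he'.1
          rw [he'.2] at h2
          show g (lab e₀) (ends e').1 - f (ends e').1 = g (lab e₀) (ends e').2 - f (ends e').2
          linarith) hmono
        have h1' : g (lab e₀) (ends e₀).1 - f (ends e₀).1
            = g (lab e₀) (ends e₀).2 - f (ends e₀).2 := h1
        linarith
      refine ⟨g, ?_, ?_⟩
      · intro l e he hl
        rcases Finset.mem_insert.mp he with h | he'
        · rw [h]
          exact key1 l (by rw [← h]; exact hl)
        · exact hg1 l e he' hl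
      · intro e he
        rcases Finset.mem_insert.mp he with h | he'
        · rw [h]
          exact key2
        · exact hg2 e he'
    · have hRb : Reach ends F (ends e₀).2 (ends e₀).2 := Relation.ReflTransGen.refl
      have hRa : ¬ Reach ends F (ends e₀).2 (ends e₀).1 := fun h => hR h.symm
      have hstep : ∀ e ∈ F,
          (Reach ends F (ends e₀).2 (ends e).1 ↔ Reach ends F (ends e₀).2 (ends e).2) := by
        intro e he
        constructor
        · intro h
          exact Relation.ReflTransGen.tail h ⟨e, he, Or.inl rfl⟩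
        · intro h
          exact Relation.ReflTransGen.tail h ⟨e, he, Or.inr rfl⟩
      refine ⟨fun l v => g l v + (if Reach ends F (ends e₀).2 v then
          (if l = lab e₀ then
            (g l (ends e₀).1 - g l (ends e₀).2 - (f (ends e₀).1 - f (ends e₀).2))
            else (g l (ends e₀).1 - g l (ends e₀).2)) else 0), ?_, ?_⟩
      · intro l e he hl
        beta_reduce
        rcases Finset.mem_insert.mp he with h | he'
        · rw [h] at hl ⊢
          simp only [if_pos hRb, if_neg hRa, if_neg (Ne.symm hl)]
          ring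
        · have h1 := hg1 l e he' hl
          have h2 := hstep e he'
          by_cases h3 : Reach ends F (ends e₀).2 (ends e).1
          · rw [if_pos h3, if_pos (h2.mp h3), h1]
          · rw [if_neg h3, if_neg (fun h4 => h3 (h2.mpr h4)), h1]
      · intro e he
        beta_reduce
        rcases Finset.mem_insert.mp he with h | he'
        · rw [h]
          simp only [if_pos hRb, if_neg hRa, ↓reduceIte]
          ring
        · have h1 := hg2 e he'
          have h2 := hstep e he'
          by_cases h3 : Reach ends F (ends e₀).2 (ends e).1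
          · simp only [if_pos h3, if_pos (h2.mp h3)]
            linarith
          · simp only [if_neg h3, if_neg (fun h4 => h3 (h2.mpr h4))]
            linarith

end helpers

/-- Let G be a finite connected multigraph with endpoint map ends, whose edges carry labels lab in a set
L and positive integer labels n, and suppose the L-labels are constant along every circuit. Say g :
V → ℤ is pre-achievable when for some finite set B of edges all carrying the same L-label, g takes
equal values at the two endpoints of every edge outside B (so g is constant on the connected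
components of the graph with B deleted); say g is Cartier when for every edge e the integer n(e)
divides the difference of the values of g at its endpoints. Then every Cartier function f is a
finite sum of functions each of which is Cartier and pre-achievable, and when f vanishes at a vertex
v₀ the summands can all be taken to vanish at v₀. -/
theorem result
    {V E : Type u} [Fintype V] [Fintype E] [DecidableEq V] [DecidableEq E] {L : Type v}
    (ends : E → V × V) (lab : E → L) (n : E → ℕ) (hn : ∀ e, 0 < n e)
    (hconn : LabGraph.Connected ends)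
    (hcirc : ∀ C : Finset E, LabGraph.IsCircuit ends C → ∀ e ∈ C, ∀ e' ∈ C, lab e = lab e')
    (f : V → ℤ) (hf : LabGraph.IsCartier ends n f) :
    f ∈ AddSubmonoid.closure {g : V → ℤ | LabGraph.IsCartier ends n g ∧ (∃ B : Finset E, (∀ e ∈ B, ∀ e' ∈ B, lab e = lab e') ∧ ∀ e, e ∉ B → g (ends e).1 = g (ends e).2)} ∧
    ∀ v₀ : V, f v₀ = 0 →
      f ∈ AddSubmonoid.closure {g : V → ℤ | LabGraph.IsCartier ends n g ∧ (∃ B : Finset E, (∀ e ∈ B, ∀ e' ∈ B, lab e = lab e') ∧ ∀ e, e ∉ B → g (ends e).1 = g (ends e).2) ∧ g v₀ = 0} := by
  classical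
  obtain ⟨g, hg1, hg2⟩ := decomp ends lab hcirc f Finset.univ
  have hedge : ∀ e : E, ∑ l ∈ Finset.univ.image lab, (g l (ends e).1 - g l (ends e).2)
      = f (ends e).1 - f (ends e).2 := by
    intro e
    rw [Finset.sum_eq_single (lab e)]
    · exact hg2 e (Finset.mem_univ e)
    · intro l _ hl
      rw [hg1 l e (Finset.mem_univ e) (Ne.symm hl), sub_self]
    · intro h
      exact absurd (Finset.mem_image_of_mem lab (Finset.mem_univ e)) h
  have hk : ∀ v w : V, f v - ∑ l ∈ Finset.univ.image lab, g l v
      = f w - ∑ l ∈ Finset.univ.image lab, g l w := by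
    have hadj : ∀ v w, LabGraph.Adj ends v w → f v - ∑ l ∈ Finset.univ.image lab, g l v
        = f w - ∑ l ∈ Finset.univ.image lab, g l w := by
      rintro v w ⟨e, he | he⟩
      · have h1 := hedge e
        rw [Finset.sum_sub_distrib] at h1
        simp only [he] at h1
        linarith
      · have h1 := hedge e
        rw [Finset.sum_sub_distrib] at h1
        simp only [he] at h1
        linarith
    intro v w
    have hp := hconn.2 v w
    induction hp with
    | refl => rfl
    | tail _ hbc ih => exact ih.trans (hadj _ _ hbc)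
  have hS : ∀ (l : L) (c : ℤ), LabGraph.IsCartier ends n (fun v => g l v - c) ∧
      ∃ B : Finset E, (∀ e ∈ B, ∀ e' ∈ B, lab e = lab e') ∧
        ∀ e, e ∉ B → (fun v => g l v - c) (ends e).1 = (fun v => g l v - c) (ends e).2 := by
    intro l c
    constructor
    · intro e
      show (n e : ℤ) ∣ (g l (ends e).1 - c) - (g l (ends e).2 - c)
      by_cases hl : lab e = l
      · have h1 := hg2 e (Finset.mem_univ e)
        rw [hl] at h1
        have h2 : (g l (ends e).1 - c) - (g l (ends e).2 - c) = f (ends e).1 - f (ends e).2 := by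
          linarith
        rw [h2]
        exact hf e
      · have h1 := hg1 l e (Finset.mem_univ e) hl
        have h2 : (g l (ends e).1 - c) - (g l (ends e).2 - c) = 0 := by
          rw [h1]; ring
        rw [h2]
        exact dvd_zero _
    · refine ⟨Finset.univ.filter (fun e => lab e = l), ?_, ?_⟩
      · intro e he e' he'
        rw [(Finset.mem_filter.mp he).2, (Finset.mem_filter.mp he').2]
      · intro e he
        have hl : lab e ≠ l := fun h => he (Finset.mem_filter.mpr ⟨Finset.mem_univ e, h⟩)
        show g l (ends e).1 - c = g l (ends e).2 - c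
        rw [hg1 l e (Finset.mem_univ e) hl]
  constructor
  · obtain ⟨v₁⟩ := hconn.1
    have hf_eq : f = (fun _ => f v₁ - ∑ l ∈ Finset.univ.image lab, g l v₁)
        + ∑ l ∈ Finset.univ.image lab, (fun v => g l v - 0) := by
      funext v
      simp only [Pi.add_apply, Finset.sum_apply, sub_zero]
      have h1 := hk v v₁
      linarith
    rw [hf_eq]
    apply AddSubmonoid.add_mem
    · apply AddSubmonoid.subset_closure
      show LabGraph.IsCartier ends n _ ∧ _
      refine ⟨fun e => by simp, ∅, by simp, fun e _ => rfl⟩
    · apply sum_mem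
      intro l _
      exact AddSubmonoid.subset_closure (hS l 0)
  · intro v₀ hv₀
    have hf_eq : f = ∑ l ∈ Finset.univ.image lab, (fun v => g l v - g l v₀) := by
      funext v
      simp only [Finset.sum_apply]
      rw [Finset.sum_sub_distrib]
      have h1 := hk v v₀
      linarith
    rw [hf_eq]
    apply sum_mem
    intro l _
    apply AddSubmonoid.subset_closure
    obtain ⟨h1, B, h2, h3⟩ := hS l (g l v₀)
    show LabGraph.IsCartier ends n _ ∧ _ ∧ _
    exact ⟨h1, ⟨B, h2, h3⟩, sub_self _⟩

end Groth.Agent.S17724
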