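import Groth.Statements.S17725

set_option autoImplicit false
universe u
open SpecSp

namespace Groth.Agent.S17725

open TopologicalSpace in
/-- topological version -/
theorem eqvGen_specializes_top (X : Type u) [TopologicalSpace X] [NoetherianSpace X] [QuasiSober X]
    [ConnectedSpace X] (p q : X) : Relation.EqvGen (fun x y : X => x ⤳ y) p q := by
  classical
  -- points in a common irreducible component are related
  have hcomp : ∀ Z ∈ irreducibleComponents X, ∀ a ∈ Z, ∀ b ∈ Z,
      Relation.EqvGen (fun x y : X => x ⤳ y) a b := by
    intro Z hZ a ha b hb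
    obtain ⟨η, hη⟩ := QuasiSober.sober hZ.1 (isClosed_of_mem_irreducibleComponents Z hZ)
    have hηa : η ⤳ a := by
      rw [specializes_iff_mem_closure, hη.def]; exact ha
    have hηb : η ⤳ b := by
      rw [specializes_iff_mem_closure, hη.def]; exact hb
    exact Relation.EqvGen.trans _ _ _ (Relation.EqvGen.symm _ _ (Relation.EqvGen.rel _ _ hηa))
      (Relation.EqvGen.rel _ _ hηb)
  set C : Set X := {x | Relation.EqvGen (fun x y : X => x ⤳ y) p x} with hC
  have hfin : (irreducibleComponents X).Finite := NoetherianSpace.finite_irreducibleComponents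
  have hC1 : C = ⋃₀ {Z ∈ irreducibleComponents X | Z ⊆ C} := by
    apply Set.Subset.antisymm
    · intro x hx
      refine ⟨irreducibleComponent x, ⟨irreducibleComponent_mem_irreducibleComponents x, ?_⟩,
        mem_irreducibleComponent⟩
      intro y hy
      exact Relation.EqvGen.trans _ _ _ hx
        (hcomp _ (irreducibleComponent_mem_irreducibleComponents x) x mem_irreducibleComponent y hy)
    · rintro x ⟨Z, ⟨-, hZC⟩, hxZ⟩
      exact hZC hxZ
  have hC2 : Cᶜ = ⋃₀ {Z ∈ irreducibleComponents X | Z ⊆ Cᶜ} := by
    apply Set.Subset.antisymm
    · intro x hx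
      refine ⟨irreducibleComponent x, ⟨irreducibleComponent_mem_irreducibleComponents x, ?_⟩,
        mem_irreducibleComponent⟩
      intro y hy hyC
      apply hx
      exact Relation.EqvGen.trans _ _ _ hyC
        (hcomp _ (irreducibleComponent_mem_irreducibleComponents x) y hy x mem_irreducibleComponent)
    · rintro x ⟨Z, ⟨-, hZC⟩, hxZ⟩
      exact hZC hxZ
  have hclosed1 : IsClosed C := by
    rw [hC1, Set.sUnion_eq_biUnion]
    apply Set.Finite.isClosed_biUnion (hfin.subset (fun Z hZ => hZ.1))
    intro Z hZ
    exact isClosed_of_mem_irreducibleComponents Z hZ.1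
  have hclosed2 : IsClosed Cᶜ := by
    rw [hC2, Set.sUnion_eq_biUnion]
    apply Set.Finite.isClosed_biUnion (hfin.subset (fun Z hZ => hZ.1))
    intro Z hZ
    exact isClosed_of_mem_irreducibleComponents Z hZ.1
  have hclopen : IsClopen C := ⟨hclosed1, by simpa using hclosed2.isOpen_compl⟩
  have hne : C.Nonempty := ⟨p, Relation.EqvGen.refl p⟩
  have huniv : C = Set.univ := hclopen.eq_univ hne
  have : q ∈ C := by rw [huniv]; trivial
  exact this

open AlgebraicGeometry in
/-- In a connected Noetherian scheme any two points p, q are linked by a finite chain of points p = x₁,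
…, xₙ = q such that for each i one of x_i, x_{i+1} is a specialization of the other; equivalently, p
and q are related by the equivalence relation generated by the specialization relation. -/
theorem result
    (X : Scheme.{u}) [IsNoetherian X] [ConnectedSpace X] (p q : X) :
    Relation.EqvGen (fun x y : X => x ⤳ y) p q :=
  eqvGen_specializes_top X p q

end Groth.Agent.S17725
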