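import Groth.Statements.S17726

set_option autoImplicit false
universe u
open CAlg

namespace Groth.Agent.S17726

theorem exists_unit_of_span_eq {A : Type u} [CommRing A] {x y : A}
    (hy : y ∈ nonZeroDivisors A)
    (h : Ideal.span {x} = Ideal.span {y}) : ∃ u : Aˣ, x = u * y := by
  have hx : x ∈ Ideal.span {y} := h ▸ Ideal.subset_span rfl
  have hy' : y ∈ Ideal.span {x} := h.symm ▸ Ideal.subset_span rfl
  obtain ⟨a, ha⟩ := Ideal.mem_span_singleton'.mp hx
  obtain ⟨b, hb⟩ := Ideal.mem_span_singleton'.mp hy'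
  have h1 : (b * a - 1) * y = 0 := by
    rw [sub_mul, mul_assoc, ha, hb, one_mul, sub_self]
  have h2 : b * a - 1 = 0 := (mem_nonZeroDivisors_iff_right.mp hy) _ h1
  have h3 : a * b = 1 := by rw [mul_comm]; exact sub_eq_zero.mp h2
  exact ⟨⟨a, b, h3, by rw [mul_comm]; exact h3⟩, ha.symm⟩

/-- Let f and g be non-zero-divisors of a commutative ring A, not both units; think of them as local
equations, at a point of the union of the supports, of two effective Cartier divisors E and D. If
the ideals generated by g^{m₁} and f^{n₁} coincide, and likewise for g^{m₂} and f^{n₂}, then m₁ n₂ =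
m₂ n₁. So all pairs (m, n) with m D = n E locally at the point are proportional, and the saturation
of the monoid they form is generated by a single element. -/
theorem result
    (A : Type u) [CommRing A] (f g : A)
    (hf : f ∈ nonZeroDivisors A) (hg : g ∈ nonZeroDivisors A) (hfg : ¬ (IsUnit f ∧ IsUnit g))
    (m₁ n₁ m₂ n₂ : ℕ)
    (h₁ : Ideal.span {g ^ m₁} = Ideal.span {f ^ n₁})
    (h₂ : Ideal.span {g ^ m₂} = Ideal.span {f ^ n₂}) :
    m₁ * n₂ = m₂ * n₁ := by
  obtain ⟨u, hu⟩ := exists_unit_of_span_eq (pow_mem hf n₁) h₁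
  obtain ⟨v, hv⟩ := exists_unit_of_span_eq (pow_mem hf n₂) h₂
  -- key: a strict inequality of exponents forces f and g to be units
  have key : ∀ (m n m' n' : ℕ) (u v : Aˣ), g ^ m = u * f ^ n → g ^ m' = v * f ^ n' →
      n * m' < n' * m → False := by
    intro m n m' n' u v hu hv hlt
    have hm : 0 < m := by
      rcases Nat.eq_zero_or_pos m with rfl | h
      · simp at hlt
      · exact h
    have e1 : g ^ (m * m') = (u : A) ^ m' * f ^ (n * m') := by
      rw [pow_mul, hu, mul_pow, ← pow_mul]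
    have e2 : g ^ (m * m') = (v : A) ^ m * f ^ (n' * m) := by
      rw [mul_comm m m', pow_mul, hv, mul_pow, ← pow_mul]
    obtain ⟨k, hk, hk'⟩ : ∃ k, 0 < k ∧ n' * m = n * m' + k := ⟨n' * m - n * m', by omega, by omega⟩
    rw [hk', pow_add] at e2
    have e3 : ((u : A) ^ m' - (v : A) ^ m * f ^ k) * f ^ (n * m') = 0 := by
      rw [sub_mul, ← e1, e2]; ring
    have e4 : (u : A) ^ m' - (v : A) ^ m * f ^ k = 0 :=
      (mem_nonZeroDivisors_iff_right.mp (pow_mem hf (n * m'))) _ e3
    have e5 : (v : A) ^ m * f ^ k = ((u ^ m' : Aˣ) : A) := by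
      rw [Units.val_pow_eq_pow_val]; exact (sub_eq_zero.mp e4).symm
    have hfk : IsUnit (f ^ k) := by
      have : IsUnit ((v : A) ^ m * f ^ k) := e5 ▸ (u ^ m').isUnit
      exact isUnit_of_mul_isUnit_right this
    have hfu : IsUnit f := (isUnit_pow_iff hk.ne').mp hfk
    have hgm : IsUnit (g ^ m) := by
      rw [hu]; exact u.isUnit.mul (hfu.pow n)
    have hgu : IsUnit g := (isUnit_pow_iff hm.ne').mp hgm
    exact hfg ⟨hfu, hgu⟩
  rcases lt_trichotomy (n₁ * m₂) (n₂ * m₁) with h | h | h
  · exact (key m₁ n₁ m₂ n₂ u v hu hv h).elim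
  · rw [mul_comm m₁ n₂, mul_comm m₂ n₁]; exact h.symm
  · exact (key m₂ n₂ m₁ n₁ v u hv hu h).elim

end Groth.Agent.S17726
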