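import Groth.Statements.S17727
import Mathlib
import Groth.Agent.S5434

set_option autoImplicit false
universe u
open Neron

namespace Groth.Agent.S17727


open AlgebraicGeometry CategoryTheory Limits TopologicalSpace
open Groth.Agent.S5434

theorem main {E S : Scheme.{u}} (f : E ⟶ S) (U : S.Opens) (hU : CInt.IsSchematicallyDense U)
    (hiso : IsIso (morphismRestrict f U)) (hdense : CInt.IsSchematicallyDense (f ⁻¹ᵁ U))
    (σ : S ⟶ E) (hσ : σ ≫ f = 𝟙 S) (s : S) :
    ∃ W : E.Opens, σ.base s ∈ W ∧ IsOpenImmersion (W.ι ≫ f) := by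
  have hσpt : ∀ t : S, f (σ t) = t := by
    intro t
    rw [← Scheme.Hom.comp_apply, hσ]; rfl
  -- Claim 1
  have hle : U ≤ σ ⁻¹ᵁ (f ⁻¹ᵁ U) := by
    rw [← Scheme.Hom.comp_preimage, hσ]; exact le_rfl
  let σU : (U : Scheme.{u}) ⟶ (f ⁻¹ᵁ U : E.Opens) := σ.resLE (f ⁻¹ᵁ U) U hle
  have hσU : σU ≫ (f ⁻¹ᵁ U).ι = U.ι ≫ σ := Scheme.Hom.resLE_comp_ι _ _
  have h1 : σU ≫ (f ∣_ U) = 𝟙 _ := by
    rw [← cancel_mono U.ι, Category.assoc, morphismRestrict_ι, ← Category.assoc, hσU,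
      Category.assoc, hσ, Category.comp_id, Category.id_comp]
  have h2 : (f ∣_ U) ≫ σU = 𝟙 _ := by
    rw [← cancel_mono (f ∣_ U), Category.assoc, h1, Category.comp_id, Category.id_comp]
  have claim1 : (f ⁻¹ᵁ U).ι ≫ f ≫ σ = (f ⁻¹ᵁ U).ι := by
    rw [← Category.assoc, ← morphismRestrict_ι, Category.assoc, ← hσU, ← Category.assoc, h2,
      Category.id_comp]
  -- Claim 2
  obtain ⟨W', hW', hsW', -⟩ := exists_isAffineOpen_mem_and_subset (x := σ s) (U := ⊤) trivial
  let V : E.Opens := W' ⊓ (f ≫ σ) ⁻¹ᵁ W'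
  have hsV : σ s ∈ V := by
    refine ⟨hsW', ?_⟩
    change (f ≫ σ) (σ s) ∈ W'
    rw [Scheme.Hom.comp_apply, hσpt]; exact hsW'
  have hV1 : V ≤ W' := inf_le_left
  have hV2 : V ≤ (f ≫ σ) ⁻¹ᵁ W' := inf_le_right
  have claim2 : V.ι ≫ f ≫ σ = V.ι := by
    rw [← Scheme.Hom.resLE_comp_ι (f ≫ σ) hV2, ← E.homOfLE_ι hV1]
    congr 1
    haveI : IsAffine (W' : Scheme.{u}) := hW'
    haveI := schDom_of_dense _ (dense_restrict _ hdense V)
    let X' : Over (⊤_ Scheme.{u}) := Over.mk (terminal.from (V : Scheme.{u}))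
    let Y' : Over (⊤_ Scheme.{u}) := Over.mk (terminal.from (W' : Scheme.{u}))
    let a' : X' ⟶ Y' := Over.homMk ((f ≫ σ).resLE W' V hV2) (terminal.hom_ext _ _)
    let b' : X' ⟶ Y' := Over.homMk (E.homOfLE hV1) (terminal.hom_ext _ _)
    haveI : IsSeparated Y'.hom := by dsimp [Y']; infer_instance
    have key : a' = b' := by
      apply Groth.Agent.S18498.ext_of_schDominant a' b' (V.ι ⁻¹ᵁ (f ⁻¹ᵁ U)).ι
      change (V.ι ⁻¹ᵁ (f ⁻¹ᵁ U)).ι ≫ (f ≫ σ).resLE W' V hV2 =
        (V.ι ⁻¹ᵁ (f ⁻¹ᵁ U)).ι ≫ E.homOfLE hV1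
      rw [← cancel_mono W'.ι, Category.assoc, Category.assoc, Scheme.Hom.resLE_comp_ι,
        E.homOfLE_ι]
      have hfac : (V.ι ⁻¹ᵁ (f ⁻¹ᵁ U)).ι ≫ V.ι = (V.ι ∣_ (f ⁻¹ᵁ U)) ≫ (f ⁻¹ᵁ U).ι :=
        (morphismRestrict_ι V.ι _).symm
      rw [← Category.assoc, hfac, Category.assoc, claim1]
    exact congrArg (fun φ => φ.left) key
  have hpt : ∀ w : E, w ∈ V → σ (f w) = w := by
    intro w hw
    have := congrArg (fun φ : (V : Scheme.{u}) ⟶ E => φ ⟨w, hw⟩) claim2
    exact this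
  -- Claim 3
  let T : S.Opens := σ ⁻¹ᵁ V
  let W : E.Opens := V ⊓ f ⁻¹ᵁ T
  have hsW : σ s ∈ W := by
    refine ⟨hsV, ?_⟩
    change f (σ s) ∈ T
    rw [hσpt]; exact hsV
  have hWV : W ≤ V := inf_le_left
  let T'' : S.Opens := σ ⁻¹ᵁ W
  have hWT : W ≤ f ⁻¹ᵁ T'' := by
    intro w hw
    change σ (f w) ∈ W
    rw [hpt w (hWV hw)]; exact hw
  let fW : (W : Scheme.{u}) ⟶ (T'' : Scheme.{u}) := f.resLE T'' W hWT
  let σT : (T'' : Scheme.{u}) ⟶ (W : Scheme.{u}) := σ.resLE W T'' le_rfl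
  have hWι : W.ι ≫ f ≫ σ = W.ι := by
    rw [← E.homOfLE_ι hWV, Category.assoc, claim2]
  have e1 : fW ≫ σT = 𝟙 _ := by
    rw [← cancel_mono W.ι, Category.assoc, Scheme.Hom.resLE_comp_ι, ← Category.assoc,
      Scheme.Hom.resLE_comp_ι, Category.assoc, hWι, Category.id_comp]
  have e2 : σT ≫ fW = 𝟙 _ := by
    rw [← cancel_mono T''.ι, Category.assoc, Scheme.Hom.resLE_comp_ι, ← Category.assoc,
      Scheme.Hom.resLE_comp_ι, Category.assoc, hσ, Category.comp_id, Category.id_comp]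
  haveI : IsIso fW := ⟨σT, e1, e2⟩
  refine ⟨W, hsW, ?_⟩
  rw [← Scheme.Hom.resLE_comp_ι f hWT]
  infer_instance


open CategoryTheory AlgebraicGeometry in
/-- Let f : E → S be a morphism of schemes and U ⊆ S a schematically dense open subscheme such that f
restricts to an isomorphism over U and the preimage of U is schematically dense in E. Then for every
section σ of f and every point s of S there is an open neighbourhood W of σ(s) in E on which f
restricts to an open immersion. (The published statements conclude that the section lands in the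
étale locus of f, in one published form for an algebraic space E, in another for f locally of finite
type over a Noetherian base; the affine-local argument gives the sharper conclusion recorded here,
for schemes.) -/
theorem result
    {E S : Scheme.{u}} (f : E ⟶ S) (U : S.Opens) (hU : CInt.IsSchematicallyDense U)
    (hiso : IsIso (morphismRestrict f U)) (hdense : CInt.IsSchematicallyDense (f ⁻¹ᵁ U))
    (σ : S ⟶ E) (hσ : σ ≫ f = 𝟙 S) (s : S) :
    ∃ W : E.Opens, σ.base s ∈ W ∧ IsOpenImmersion (W.ι ≫ f) := by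
  exact main f U hU hiso hdense σ hσ s

end Groth.Agent.S17727
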