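import Groth.Statements.S17728
import Mathlib
import Groth.Agent.S5434

set_option autoImplicit false
universe u
open Neron

namespace Groth.Agent.S17728


open AlgebraicGeometry CategoryTheory Limits TopologicalSpace
open Groth.Agent.S5434

theorem flat_fromSpecStalk (X : Scheme.{u}) (x : X) : Flat (X.fromSpecStalk x) := by
  obtain ⟨_, ⟨U, hU, rfl⟩, hxU, -⟩ :=
    X.isBasis_affineOpens.exists_subset_of_mem_open (Set.mem_univ x) isOpen_univ
  rw [← hU.fromSpecStalk_eq_fromSpecStalk hxU]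
  dsimp [IsAffineOpen.fromSpecStalk]
  have : Flat (Spec.map (X.presheaf.germ U x hxU)) := by
    rw [Flat.SpecMap_iff]
    letI : Algebra Γ(X, U) (X.presheaf.stalk x) := (X.presheaf.germ U x hxU).hom.toAlgebra
    haveI := hU.isLocalization_stalk ⟨x, hxU⟩
    exact IsLocalization.flat (X.presheaf.stalk x) (hU.primeIdealOf ⟨x, hxU⟩).asIdeal.primeCompl
  have h2 : IsOpenImmersion hU.fromSpec := hU.isOpenImmersion_fromSpec
  exact Flat.comp _ _

/-- variant of S15993.main with the dominance as instance -/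
theorem isIso_of_dominant {X S : Scheme.{u}} (f : X ⟶ S)
    [Flat f] [Surjective f] [QuasiCompact f] [IsSeparated f]
    (U : S.Opens) (V : X.Opens) [QuasiCompact V.ι] [IsSchemeTheoreticallyDominant V.ι]
    (hle : V ≤ f ⁻¹ᵁ U) (hiso : IsIso (f.resLE U V hle)) : IsIso f := by
  let a : (V : Scheme.{u}) ⟶ S := V.ι ≫ f
  have ha : a = f.resLE U V hle ≫ U.ι := (Scheme.Hom.resLE_comp_ι f hle).symm
  haveI : Mono a := by rw [ha]; infer_instance
  haveI : Flat a := by dsimp [a]; infer_instance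
  let m₁ : pullback a f ⟶ pullback f f :=
    pullback.map a f f f V.ι (𝟙 X) (𝟙 S) (by simp [a]) (by simp)
  let m₂ : pullback a a ⟶ pullback a f :=
    pullback.map a a a f (𝟙 _) V.ι (𝟙 S) (by simp) (by simp [a])
  have hm₁fst : m₁ ≫ pullback.fst f f = pullback.fst a f ≫ V.ι := pullback.lift_fst _ _ _
  have hm₁snd : m₁ ≫ pullback.snd f f = pullback.snd a f :=
    (pullback.lift_snd _ _ _).trans (Category.comp_id _)
  have hm₂fst : m₂ ≫ pullback.fst a f = pullback.fst a a :=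
    (pullback.lift_fst _ _ _).trans (Category.comp_id _)
  have hm₂snd : m₂ ≫ pullback.snd a f = pullback.snd a a ≫ V.ι := pullback.lift_snd _ _ _
  have sq1 : IsPullback m₁ (pullback.fst a f) (pullback.fst f f) V.ι := by
    refine IsPullback.of_right (h₁₂ := pullback.snd f f) (v₁₃ := f) (h₂₂ := f) ?_ hm₁fst
      (IsPullback.of_hasPullback f f).flip
    rw [hm₁snd]
    exact (IsPullback.of_hasPullback a f).flip
  have sq2 : IsPullback m₂ (pullback.snd a a) (pullback.snd a f) V.ι := by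
    refine IsPullback.of_right (h₁₂ := pullback.fst a f) (v₁₃ := a) (h₂₂ := f) ?_ hm₂snd
      (IsPullback.of_hasPullback a f)
    rw [hm₂fst]
    exact (IsPullback.of_hasPullback a a)
  haveI : IsSchemeTheoreticallyDominant m₁ :=
    IsSchemeTheoreticallyDominant.of_isPullback (f := V.ι) (g := pullback.fst f f) sq1.flip
  haveI : IsSchemeTheoreticallyDominant m₂ :=
    IsSchemeTheoreticallyDominant.of_isPullback (f := V.ι) (g := pullback.snd a f) sq2.flip
  have hδ : pullback.diagonal a ≫ m₂ ≫ m₁ = V.ι ≫ pullback.diagonal f := by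
    apply pullback.hom_ext
    · simp only [Category.assoc, hm₁fst, reassoc_of% hm₂fst, pullback.diagonal_fst,
        pullback.diagonal_fst_assoc, Category.comp_id]
    · simp only [Category.assoc, hm₁snd, hm₂snd, pullback.diagonal_snd,
        pullback.diagonal_snd_assoc, Category.comp_id]
  haveI : IsSchemeTheoreticallyDominant (V.ι ≫ pullback.diagonal f) := by
    rw [← hδ]; infer_instance
  have hker : (pullback.diagonal f).ker = ⊥ := by
    rw [eq_bot_iff]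
    calc (pullback.diagonal f).ker ≤ (V.ι ≫ pullback.diagonal f).ker :=
          Scheme.Hom.le_ker_comp _ _
      _ = ⊥ := Scheme.Hom.ker_eq_bot _
  haveI : IsIso (pullback.diagonal f) := IsClosedImmersion.isIso_iff_ker_eq_bot.mpr hker
  haveI : Mono f := (pullback.isIso_diagonal_iff f).mp inferInstance
  exact Flat.isIso_of_surjective_of_mono f

/-- Lemma A -/
theorem isIso_of_mono_restrict {P Q : Scheme.{u}} (g : P ⟶ Q)
    [Flat g] [Surjective g] [QuasiCompact g] [IsSeparated g]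
    (UA : Q.Opens) [QuasiCompact (g ⁻¹ᵁ UA).ι] [IsSchemeTheoreticallyDominant (g ⁻¹ᵁ UA).ι]
    (hmono : Mono ((g ⁻¹ᵁ UA).ι ≫ g)) : IsIso g := by
  haveI : Mono (g ∣_ UA) := by
    rw [← morphismRestrict_ι] at hmono
    exact mono_of_mono (g ∣_ UA) UA.ι
  haveI : Flat (g ∣_ UA) := inferInstance
  haveI : Surjective (g ∣_ UA) :=
    IsZariskiLocalAtTarget.restrict (P := @Surjective) inferInstance UA
  haveI : QuasiCompact (g ∣_ UA) := inferInstance
  haveI : IsIso (g ∣_ UA) := Flat.isIso_of_surjective_of_mono _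
  refine isIso_of_dominant g UA (g ⁻¹ᵁ UA) le_rfl ?_
  rw [Scheme.Hom.resLE_eq_morphismRestrict]
  infer_instance


theorem mono_transport {P Q : Scheme.{u}} (V V' : P.Opens) (h : V = V') (m : P ⟶ Q)
    (hm : Mono (V'.ι ≫ m)) : Mono (V.ι ≫ m) := by subst h; exact hm

set_option backward.isDefEq.respectTransparency.types false in
theorem two_imp_three {X S : Scheme.{u}} [IsNoetherian S] (f : X ⟶ S) [LocallyOfFiniteType f]
    (U : S.Opens)
    (hiso : IsIso (morphismRestrict f U)) (hdense : CInt.IsSchematicallyDense (f ⁻¹ᵁ U))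
    (x : X) (hflat : (f.stalkMap x).hom.Flat) :
    ∃ (V : S.Opens) (hV : f.base x ∈ V) (σ : (V : Scheme.{u}) ⟶ X),
        σ ≫ f = V.ι ∧ σ.base ⟨f.base x, hV⟩ = x := by
  haveI : IsLocallyNoetherian X := LocallyOfFiniteType.isLocallyNoetherian f
  let s : S := f x
  let g : Spec (X.presheaf.stalk x) ⟶ Spec (S.presheaf.stalk s) := Spec.map (f.stalkMap x)
  let j := X.fromSpecStalk x
  let i := S.fromSpecStalk s
  have hcomm : g ≫ i = j ≫ f := Scheme.SpecMap_stalkMap_fromSpecStalk f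
  haveI : Flat j := flat_fromSpecStalk X x
  have hff : (f.stalkMap x).hom.FaithfullyFlat := by
    letI : Algebra (S.presheaf.stalk (f x)) (X.presheaf.stalk x) := (f.stalkMap x).hom.toAlgebra
    haveI : Module.Flat (S.presheaf.stalk (f x)) (X.presheaf.stalk x) := hflat
    haveI : IsLocalHom (algebraMap (S.presheaf.stalk (f x)) (X.presheaf.stalk x)) :=
      f.toLRSHom.prop x
    exact Module.FaithfullyFlat.of_flat_of_isLocalHom
  obtain ⟨hgf, hgs⟩ := (flat_and_surjective_SpecMap_iff (f.stalkMap x)).mpr hff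
  haveI : Flat g := hgf
  haveI : Surjective g := hgs
  let W : X.Opens := f ⁻¹ᵁ U
  let UA : (Spec (S.presheaf.stalk s)).Opens := i ⁻¹ᵁ U
  have hV : g ⁻¹ᵁ UA = j ⁻¹ᵁ W := by
    show (g ≫ i) ⁻¹ᵁ U = (j ≫ f) ⁻¹ᵁ U
    rw [hcomm]
  haveI : IsSchemeTheoreticallyDominant W.ι := schDom_of_dense W hdense
  haveI : QuasiCompact W.ι := inferInstance
  haveI : IsSchemeTheoreticallyDominant (j ⁻¹ᵁ W).ι :=
    IsSchemeTheoreticallyDominant.of_isPullback (f := W.ι) (g := j)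
      (isPullback_morphismRestrict j W)
  haveI : IsSchemeTheoreticallyDominant (g ⁻¹ᵁ UA).ι := by rw [hV]; infer_instance
  haveI : QuasiCompact (g ⁻¹ᵁ UA).ι := inferInstance
  have hmono : Mono ((g ⁻¹ᵁ UA).ι ≫ g) := by
    haveI : Mono (((g ⁻¹ᵁ UA).ι ≫ g) ≫ i) := by
      rw [Category.assoc, hcomm]
      apply mono_transport _ _ hV
      haveI : Mono (j ∣_ W) := by
        haveI : Mono ((j ∣_ W) ≫ W.ι) := by rw [morphismRestrict_ι]; infer_instance
        exact mono_of_mono (j ∣_ W) W.ι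
      have e : (j ⁻¹ᵁ W).ι ≫ j ≫ f = (j ∣_ W) ≫ (f ∣_ U) ≫ U.ι := by
        rw [morphismRestrict_ι, ← Category.assoc, ← morphismRestrict_ι, Category.assoc]
      rw [e]
      infer_instance
    exact mono_of_mono _ i
  haveI : IsIso g := isIso_of_mono_restrict g UA hmono
  let φ : Spec (S.presheaf.stalk s) ⟶ X := inv g ≫ j
  have hφ : φ ≫ f = S.fromSpecStalk s ≫ 𝟙 S := by
    rw [Category.comp_id, Category.assoc, ← hcomm, IsIso.inv_hom_id_assoc]
  obtain ⟨V, hsV, σ, hσ1, hσ2⟩ := spread_out_of_isGermInjective' (𝟙 S) f φ hφ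
  refine ⟨V, hsV, σ, by rw [hσ2, Category.comp_id], ?_⟩
  have hc : g (IsLocalRing.closedPoint (X.presheaf.stalk x)) =
      IsLocalRing.closedPoint (S.presheaf.stalk s) := by
    haveI : IsLocalHom (f.stalkMap x).hom := f.toLRSHom.prop x
    exact IsLocalRing.comap_closedPoint (f.stalkMap x).hom
  have hgφ : g ≫ φ = j := by simp [φ]
  have h1 : φ (IsLocalRing.closedPoint (S.presheaf.stalk s)) = x := by
    rw [← hc, ← Scheme.Hom.comp_apply, hgφ]
    exact Scheme.fromSpecStalk_closedPoint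
  have h2 : (V.fromSpecStalkOfMem s hsV) (IsLocalRing.closedPoint (S.presheaf.stalk s)) =
      ⟨s, hsV⟩ := by
    apply V.ι.injective
    rw [← Scheme.Hom.comp_apply, Scheme.Opens.fromSpecStalkOfMem_ι]
    exact Scheme.fromSpecStalk_closedPoint
  rw [hσ1, Scheme.Hom.comp_apply, h2] at h1
  exact h1

theorem openImm_nhd {E S : Scheme.{u}} (f : E ⟶ S) (U : S.Opens)
    (hiso : IsIso (morphismRestrict f U)) (hdense : CInt.IsSchematicallyDense (f ⁻¹ᵁ U))
    (σ : S ⟶ E) (hσ : σ ≫ f = 𝟙 S) (s : S) :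
    ∃ W : E.Opens, σ.base s ∈ W ∧ IsOpenImmersion (W.ι ≫ f) := by
  have hσpt : ∀ t : S, f (σ t) = t := by
    intro t
    rw [← Scheme.Hom.comp_apply, hσ]; rfl
  -- Claim 1
  have hle : U ≤ σ ⁻¹ᵁ (f ⁻¹ᵁ U) := by
    rw [← Scheme.Hom.comp_preimage, hσ]; exact le_rfl
  let σU : (U : Scheme.{u}) ⟶ (f ⁻¹ᵁ U : E.Opens) := σ.resLE (f ⁻¹ᵁ U) U hle
  have hσU : σU ≫ (f ⁻¹ᵁ U).ι = U.ι ≫ σ := Scheme.Hom.resLE_comp_ι _ _
  have h1 : σU ≫ (f ∣_ U) = 𝟙 _ := by
    rw [← cancel_mono U.ι, Category.assoc, morphismRestrict_ι, ← Category.assoc, hσU,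
      Category.assoc, hσ, Category.comp_id, Category.id_comp]
  have h2 : (f ∣_ U) ≫ σU = 𝟙 _ := by
    rw [← cancel_mono (f ∣_ U), Category.assoc, h1, Category.comp_id, Category.id_comp]
  have claim1 : (f ⁻¹ᵁ U).ι ≫ f ≫ σ = (f ⁻¹ᵁ U).ι := by
    rw [← Category.assoc, ← morphismRestrict_ι, Category.assoc, ← hσU, ← Category.assoc, h2,
      Category.id_comp]
  -- Claim 2
  obtain ⟨W', hW', hsW', -⟩ := exists_isAffineOpen_mem_and_subset (x := σ s) (U := ⊤) trivial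
  let V : E.Opens := W' ⊓ (f ≫ σ) ⁻¹ᵁ W'
  have hsV : σ s ∈ V := by
    refine ⟨hsW', ?_⟩
    change (f ≫ σ) (σ s) ∈ W'
    rw [Scheme.Hom.comp_apply, hσpt]; exact hsW'
  have hV1 : V ≤ W' := inf_le_left
  have hV2 : V ≤ (f ≫ σ) ⁻¹ᵁ W' := inf_le_right
  have claim2 : V.ι ≫ f ≫ σ = V.ι := by
    rw [← Scheme.Hom.resLE_comp_ι (f ≫ σ) hV2, ← E.homOfLE_ι hV1]
    congr 1
    haveI : IsAffine (W' : Scheme.{u}) := hW'
    haveI := schDom_of_dense _ (dense_restrict _ hdense V)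
    let X' : Over (⊤_ Scheme.{u}) := Over.mk (terminal.from (V : Scheme.{u}))
    let Y' : Over (⊤_ Scheme.{u}) := Over.mk (terminal.from (W' : Scheme.{u}))
    let a' : X' ⟶ Y' := Over.homMk ((f ≫ σ).resLE W' V hV2) (terminal.hom_ext _ _)
    let b' : X' ⟶ Y' := Over.homMk (E.homOfLE hV1) (terminal.hom_ext _ _)
    haveI : IsSeparated Y'.hom := by dsimp [Y']; infer_instance
    have key : a' = b' := by
      apply Groth.Agent.S18498.ext_of_schDominant a' b' (V.ι ⁻¹ᵁ (f ⁻¹ᵁ U)).ι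
      change (V.ι ⁻¹ᵁ (f ⁻¹ᵁ U)).ι ≫ (f ≫ σ).resLE W' V hV2 =
        (V.ι ⁻¹ᵁ (f ⁻¹ᵁ U)).ι ≫ E.homOfLE hV1
      rw [← cancel_mono W'.ι, Category.assoc, Category.assoc, Scheme.Hom.resLE_comp_ι,
        E.homOfLE_ι]
      have hfac : (V.ι ⁻¹ᵁ (f ⁻¹ᵁ U)).ι ≫ V.ι = (V.ι ∣_ (f ⁻¹ᵁ U)) ≫ (f ⁻¹ᵁ U).ι :=
        (morphismRestrict_ι V.ι _).symm
      rw [← Category.assoc, hfac, Category.assoc, claim1]
    exact congrArg (fun φ => φ.left) key
  have hpt : ∀ w : E, w ∈ V → σ (f w) = w := by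
    intro w hw
    have := congrArg (fun φ : (V : Scheme.{u}) ⟶ E => φ ⟨w, hw⟩) claim2
    exact this
  -- Claim 3
  let T : S.Opens := σ ⁻¹ᵁ V
  let W : E.Opens := V ⊓ f ⁻¹ᵁ T
  have hsW : σ s ∈ W := by
    refine ⟨hsV, ?_⟩
    change f (σ s) ∈ T
    rw [hσpt]; exact hsV
  have hWV : W ≤ V := inf_le_left
  let T'' : S.Opens := σ ⁻¹ᵁ W
  have hWT : W ≤ f ⁻¹ᵁ T'' := by
    intro w hw
    change σ (f w) ∈ W
    rw [hpt w (hWV hw)]; exact hw
  let fW : (W : Scheme.{u}) ⟶ (T'' : Scheme.{u}) := f.resLE T'' W hWT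
  let σT : (T'' : Scheme.{u}) ⟶ (W : Scheme.{u}) := σ.resLE W T'' le_rfl
  have hWι : W.ι ≫ f ≫ σ = W.ι := by
    rw [← E.homOfLE_ι hWV, Category.assoc, claim2]
  have e1 : fW ≫ σT = 𝟙 _ := by
    rw [← cancel_mono W.ι, Category.assoc, Scheme.Hom.resLE_comp_ι, ← Category.assoc,
      Scheme.Hom.resLE_comp_ι, Category.assoc, hWι, Category.id_comp]
  have e2 : σT ≫ fW = 𝟙 _ := by
    rw [← cancel_mono T''.ι, Category.assoc, Scheme.Hom.resLE_comp_ι, ← Category.assoc,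
      Scheme.Hom.resLE_comp_ι, Category.assoc, hσ, Category.comp_id, Category.id_comp]
  haveI : IsIso fW := ⟨σT, e1, e2⟩
  refine ⟨W, hsW, ?_⟩
  rw [← Scheme.Hom.resLE_comp_ι f hWT]
  infer_instance



theorem three_imp_one {X S : Scheme.{u}} (f : X ⟶ S)
    (U : S.Opens)
    (hiso : IsIso (morphismRestrict f U)) (hdense : CInt.IsSchematicallyDense (f ⁻¹ᵁ U))
    (x : X) (V : S.Opens) (hV : f.base x ∈ V) (σ : (V : Scheme.{u}) ⟶ X)
    (hσ : σ ≫ f = V.ι) (hσx : σ.base ⟨f.base x, hV⟩ = x) :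
    ∃ W : X.Opens, x ∈ W ∧ Etale (W.ι ≫ f) := by
  let f' : (f ⁻¹ᵁ V : X.Opens).toScheme ⟶ V := f ∣_ V
  have hpb := isPullback_morphismRestrict f V
  let σ' : (V : Scheme.{u}) ⟶ (f ⁻¹ᵁ V : X.Opens) :=
    hpb.lift (𝟙 _) σ (by rw [Category.id_comp, hσ])
  have hσ'1 : σ' ≫ f' = 𝟙 _ := hpb.lift_fst _ _ _
  have hσ'2 : σ' ≫ (f ⁻¹ᵁ V).ι = σ := hpb.lift_snd _ _ _
  let U' : V.toScheme.Opens := V.ι ⁻¹ᵁ U
  have hdense' : CInt.IsSchematicallyDense (f' ⁻¹ᵁ U') := by
    have h1 := dense_restrict (f ⁻¹ᵁ U) hdense (f ⁻¹ᵁ V)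
    have e : f' ⁻¹ᵁ U' = (f ⁻¹ᵁ V).ι ⁻¹ᵁ (f ⁻¹ᵁ U) := by
      show (f' ≫ V.ι) ⁻¹ᵁ U = ((f ⁻¹ᵁ V).ι ≫ f) ⁻¹ᵁ U
      rw [morphismRestrict_ι]
    rw [e]; exact h1
  have hiso' : IsIso (f' ∣_ U') := by
    have e1 := morphismRestrictRestrict f V U'
    have e2 := morphismRestrictRestrict f U (U.ι ⁻¹ᵁ V)
    have heq : V.ι ''ᵁ U' = U.ι ''ᵁ (U.ι ⁻¹ᵁ V) := by
      rw [Scheme.Hom.image_preimage_eq_opensRange_inf, Scheme.Hom.image_preimage_eq_opensRange_inf,
        Scheme.Opens.opensRange_ι, Scheme.Opens.opensRange_ι, inf_comm]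
    have e3 := morphismRestrictEq f heq
    have h0 : (MorphismProperty.isomorphisms Scheme.{u}) (f ∣_ U ∣_ (U.ι ⁻¹ᵁ V)) := by
      haveI := hiso
      exact (inferInstance : IsIso (f ∣_ U ∣_ (U.ι ⁻¹ᵁ V)))
    have h1 := ((MorphismProperty.isomorphisms Scheme.{u}).arrow_mk_iso_iff
      (e1 ≪≫ e3 ≪≫ e2.symm)).mpr h0
    exact h1
  obtain ⟨W', hW'1, hW'2⟩ := openImm_nhd f' U' hiso' hdense' σ' hσ'1 ⟨f x, hV⟩
  refine ⟨(f ⁻¹ᵁ V).ι ''ᵁ W', ?_, ?_⟩
  · refine ⟨σ' ⟨f x, hV⟩, hW'1, ?_⟩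
    have := congrArg (fun φ : (V : Scheme.{u}) ⟶ X => φ ⟨f x, hV⟩) hσ'2
    exact this.trans hσx
  · have e : ((f ⁻¹ᵁ V).ι ''ᵁ W').ι ≫ f =
        ((f ⁻¹ᵁ V).ι.isoImage W').inv ≫ (W'.ι ≫ f') ≫ V.ι := by
      rw [Category.assoc, morphismRestrict_ι, ← Scheme.Hom.isoImage_inv_ι_assoc]
    rw [e]
    haveI := hW'2
    infer_instance


theorem one_imp_two_aux {X S : Scheme.{u}} (f : X ⟶ S) (W : X.Opens) (y : (W : Scheme.{u}))
    (h : Etale (W.ι ≫ f)) : (f.stalkMap (W.ι y)).hom.Flat := by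
  haveI : Flat (W.ι ≫ f) := inferInstance
  have h1 := Flat.stalkMap (W.ι ≫ f) y
  rw [Scheme.Hom.stalkMap_comp] at h1
  have h2 : (f.stalkMap (W.ι y)) = (f.stalkMap (W.ι y) ≫ W.ι.stalkMap y) ≫
      inv (W.ι.stalkMap y) := by
    rw [Category.assoc, IsIso.hom_inv_id, Category.comp_id]
  rw [h2, CommRingCat.hom_comp]
  refine RingHom.Flat.comp h1 ?_
  apply RingHom.Flat.of_bijective
  exact (ConcreteCategory.isIso_iff_bijective (inv (W.ι.stalkMap y))).mp inferInstance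

theorem one_imp_two {X S : Scheme.{u}} (f : X ⟶ S) (x : X) (W : X.Opens) (hx : x ∈ W)
    (h : Etale (W.ι ≫ f)) : (f.stalkMap x).hom.Flat :=
  one_imp_two_aux f W ⟨x, hx⟩ h

theorem main
    {X S : Scheme.{u}} [IsNoetherian S] (f : X ⟶ S) [LocallyOfFiniteType f]
    (U : S.Opens)
    (hiso : IsIso (morphismRestrict f U)) (hdense : CInt.IsSchematicallyDense (f ⁻¹ᵁ U))
    (x : X) :
    List.TFAE [
      ∃ W : X.Opens, x ∈ W ∧ Etale (W.ι ≫ f),
      (f.stalkMap x).hom.Flat,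
      ∃ (V : S.Opens) (hV : f.base x ∈ V) (σ : (V : Scheme.{u}) ⟶ X),
        σ ≫ f = V.ι ∧ σ.base ⟨f.base x, hV⟩ = x] := by
  tfae_have 1 → 2 := by
    rintro ⟨W, hx, h⟩
    exact one_imp_two f x W hx h
  tfae_have 2 → 3 := two_imp_three f U hiso hdense x
  tfae_have 3 → 1 := by
    rintro ⟨V, hV, σ, h1, h2⟩
    exact three_imp_one f U hiso hdense x V hV σ h1 h2
  tfae_finish


open CategoryTheory AlgebraicGeometry in
/-- Let S be a Noetherian scheme, U ⊆ S a dense open subscheme and f : X → S a morphism locally of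
finite type which restricts to an isomorphism over U and for which the preimage of U is
schematically dense in X. For a point x of X the following are equivalent: f is étale on some open
neighbourhood of x; f is flat at x, that is, the local ring of X at x is flat over the local ring of
S at f(x); some open neighbourhood V of f(x) carries a section σ of f over V passing through x. -/
theorem result
    {X S : Scheme.{u}} [IsNoetherian S] (f : X ⟶ S) [LocallyOfFiniteType f]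
    (U : S.Opens) (hU : Dense (U : Set S))
    (hiso : IsIso (morphismRestrict f U)) (hdense : CInt.IsSchematicallyDense (f ⁻¹ᵁ U))
    (x : X) :
    List.TFAE [
      ∃ W : X.Opens, x ∈ W ∧ Etale (W.ι ≫ f),
      (f.stalkMap x).hom.Flat,
      ∃ (V : S.Opens) (hV : f.base x ∈ V) (σ : (V : Scheme.{u}) ⟶ X),
        σ ≫ f = V.ι ∧ σ.base ⟨f.base x, hV⟩ = x] := by
  exact main f U hiso hdense x

end Groth.Agent.S17728
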