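import Groth.Statements.S17730
import Groth.Agent.H47.SmoothBranch

set_option autoImplicit false
universe u
open Hensel

namespace Groth.Agent.S17730

open IsLocalRing in
/-- Let R be a Noetherian local ring which is strictly henselian (henselian with separably closed
residue field), Δ a prime element of R, R' a smooth R-algebra, q a prime ideal of R' containing the
image of the maximal ideal of R, and T a strict henselization of the localization R'_q. Then the
image of Δ in T is a prime element of T. (This is the published statement, that a prime element of
the étale local ring of the base at a geometric point remains prime in the étale local ring of a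
smooth scheme over it at a geometric point above, written for the base the spectrum of R; the
published hypothesis that the base be smooth-factorial, meaning that all its smooth schemes are
locally factorial, is not used by the argument and is omitted; R is taken Noetherian, which the
published statement does not state and the argument requires.) -/
theorem result
    (R R' T : Type u) [CommRing R] [IsNoetherianRing R] [HenselianLocalRing R]
    [IsSepClosed (ResidueField R)]
    [CommRing R'] [Algebra R R'] [Algebra.Smooth R R']
    (q : Ideal R') [q.IsPrime] (hq : (maximalIdeal R).map (algebraMap R R') ≤ q)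
    [CommRing T] [IsLocalRing T] [Algebra (Localization.AtPrime q) T]
    [IsLocalHom (algebraMap (Localization.AtPrime q) T)]
    [Hensel.IsStrictHenselization (Localization.AtPrime q) T]
    (Δ : R) (hΔ : Prime Δ) :
    Prime (algebraMap (Localization.AtPrime q) T
      (algebraMap R' (Localization.AtPrime q) (algebraMap R R' Δ))) := by
  letI : Algebra R T := ((algebraMap (Localization.AtPrime q) T).comp
    (algebraMap R (Localization.AtPrime q))).toAlgebra
  haveI : IsScalarTower R (Localization.AtPrime q) T :=
    IsScalarTower.of_algebraMap_eq (fun _ => rfl)
  haveI : (Ideal.span {Δ}).IsPrime := (Ideal.span_singleton_prime hΔ.ne_zero).mpr hΔ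
  have h := Groth.Agent.H47.SmoothBranch.isPrime_map_strict R R' q hq (Localization.AtPrime q) T
    (Ideal.span {Δ})
  rw [Ideal.map_span, Set.image_singleton] at h
  haveI hΛL : IsLocalHom (algebraMap R (Localization.AtPrime q)) :=
    Groth.Agent.H47.SmoothBranch.isLocalHom_base R R' q hq (Localization.AtPrime q)
  haveI hΛE : IsLocalHom (algebraMap R T) := by
    rw [IsScalarTower.algebraMap_eq R (Localization.AtPrime q) T]
    exact RingHom.isLocalHom_comp _ _
  haveI : Module.Flat R T :=
    Groth.Agent.H47.SmoothBranch.flat_E R R' q (Localization.AtPrime q) T
  haveI : Module.FaithfullyFlat R T := Module.FaithfullyFlat.of_flat_of_isLocalHom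
  have hinj : Function.Injective (algebraMap R T) := FaithfulSMul.algebraMap_injective R T
  have hne : algebraMap R T Δ ≠ 0 := (map_ne_zero_iff _ hinj).mpr hΔ.ne_zero
  have h3 := (Ideal.span_singleton_prime hne).mp h
  have h4 : algebraMap R T Δ = algebraMap (Localization.AtPrime q) T
      (algebraMap R' (Localization.AtPrime q) (algebraMap R R' Δ)) := by
    rw [IsScalarTower.algebraMap_apply R (Localization.AtPrime q) T,
      IsScalarTower.algebraMap_apply R R' (Localization.AtPrime q)]
  rw [← h4]
  exact h3

end Groth.Agent.S17730
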