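import Groth.Statements.S17732
import Groth.Agent.H95.IdealSheafLocal

set_option autoImplicit false
universe u
open CDiv

namespace Groth.Agent.S17732

open AlgebraicGeometry in
/-- Let X be a Noetherian scheme and D, E effective Cartier divisors on X, encoded by their ideal
sheaves, each locally generated on an affine open by a single non-zero-divisor. Assume that the
union of the supports of D and E is connected (or empty) and that every point of X has an affine
open neighbourhood on which the m-th power of the ideal of D equals the n-th power of the ideal of E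
for some (m, n) ≠ (0, 0). Then there is a pair (m, n) ≠ (0, 0) for which this equality holds on
every affine open of X, that is, m D = n E globally. -/
theorem result
    (X : Scheme.{u}) [IsNoetherian X] (D E : X.IdealSheafData)
    (hD : (∀ x : X, ∃ U : X.affineOpens, x ∈ (U : X.Opens) ∧ ∃ g : Γ(X, U), g ∈ nonZeroDivisors Γ(X, U) ∧ D.ideal U = Ideal.span {g}))
    (hE : (∀ x : X, ∃ U : X.affineOpens, x ∈ (U : X.Opens) ∧ ∃ g : Γ(X, U), g ∈ nonZeroDivisors Γ(X, U) ∧ E.ideal U = Ideal.span {g}))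
    (hconn : IsPreconnected ((D.support : Set X) ∪ (E.support : Set X)))
    (hloc : ∀ x : X, ∃ U : X.affineOpens, x ∈ (U : X.Opens) ∧
      ∃ m n : ℕ, (m, n) ≠ (0, 0) ∧ D.ideal U ^ m = E.ideal U ^ n) :
    ∃ m n : ℕ, (m, n) ≠ (0, 0) ∧ ∀ U : X.affineOpens, D.ideal U ^ m = E.ideal U ^ n := by
  classical
  choose Uc hxU mc nc hne hP using hloc
  obtain ⟨t, ht⟩ := isCompact_univ.elim_finite_subcover
    (fun x : X => ((Uc x : X.Opens) : Set X)) (fun x => (Uc x : X.Opens).2)
    (fun x _ => Set.mem_iUnion.mpr ⟨x, hxU x⟩)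
  obtain ⟨Z, hZ⟩ : ∃ Z : Set X, Z = (D.support : Set X) ∪ (E.support : Set X) := ⟨_, rfl⟩
  rw [← hZ] at hconn
  have hprop : ∀ y ∈ Z, ∀ x x' : X, y ∈ (Uc x : X.Opens) → y ∈ (Uc x' : X.Opens) →
      mc x * nc x' = mc x' * nc x := by
    intro y hy x x' hyx hyx'
    exact Groth.Agent.H95.IdealSheafLocal.prop_of_mem D E hD hE y (hZ ▸ hy) (Uc x) (Uc x')
      hyx hyx' _ _ _ _ (hP x) (hP x')
  obtain ⟨T, hT⟩ : ∃ T : Finset X,
      T = t.filter (fun x => (Z ∩ ((Uc x : X.Opens) : Set X)).Nonempty) := ⟨_, rfl⟩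
  have hmemT : ∀ x, x ∈ T ↔ x ∈ t ∧ (Z ∩ ((Uc x : X.Opens) : Set X)).Nonempty := by
    intro x
    rw [hT, Finset.mem_filter]
  have hcov : ∀ y : X, ∃ x ∈ t, y ∈ (Uc x : X.Opens) := by
    intro y
    have h1 := ht (Set.mem_univ y)
    simp only [Set.mem_iUnion] at h1
    obtain ⟨x, hxt, hyx⟩ := h1
    exact ⟨x, hxt, hyx⟩
  have hcovZ : ∀ y ∈ Z, ∃ x ∈ T, y ∈ (Uc x : X.Opens) := by
    intro y hy
    obtain ⟨x, hxt, hyx⟩ := hcov y
    exact ⟨x, (hmemT x).mpr ⟨hxt, ⟨y, hy, hyx⟩⟩, hyx⟩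
  have hA : ∀ x ∈ T, ∀ x' ∈ T, mc x * nc x' = mc x' * nc x := by
    intro x hx x' hx'
    by_contra hnp
    have hopen : ∀ p : X → Prop,
        IsOpen {y : X | ∃ x'' ∈ T, y ∈ (Uc x'' : X.Opens) ∧ p x''} := by
      intro p
      rw [isOpen_iff_forall_mem_open]
      rintro y ⟨x'', hx'', hy, hp⟩
      exact ⟨((Uc x'' : X.Opens) : Set X), fun z hz => ⟨x'', hx'', hz, hp⟩,
        (Uc x'' : X.Opens).2, hy⟩
    have hsub : Z ⊆ {y : X | ∃ x'' ∈ T, y ∈ (Uc x'' : X.Opens) ∧
        mc x * nc x'' = mc x'' * nc x} ∪ {y : X | ∃ x'' ∈ T, y ∈ (Uc x'' : X.Opens) ∧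
        ¬ mc x * nc x'' = mc x'' * nc x} := by
      intro y hy
      obtain ⟨x'', hx'', hyx''⟩ := hcovZ y hy
      by_cases hp : mc x * nc x'' = mc x'' * nc x
      · exact Or.inl ⟨x'', hx'', hyx'', hp⟩
      · exact Or.inr ⟨x'', hx'', hyx'', hp⟩
    have hAne : (Z ∩ {y : X | ∃ x'' ∈ T, y ∈ (Uc x'' : X.Opens) ∧
        mc x * nc x'' = mc x'' * nc x}).Nonempty := by
      obtain ⟨y, hyZ, hyx⟩ := ((hmemT x).mp hx).2
      exact ⟨y, hyZ, x, hx, hyx, rfl⟩
    have hBne : (Z ∩ {y : X | ∃ x'' ∈ T, y ∈ (Uc x'' : X.Opens) ∧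
        ¬ mc x * nc x'' = mc x'' * nc x}).Nonempty := by
      obtain ⟨y, hyZ, hyx⟩ := ((hmemT x').mp hx').2
      exact ⟨y, hyZ, x', hx', hyx, hnp⟩
    obtain ⟨y, hyZ, ⟨x1, -, hy1, hp1⟩, ⟨x2, -, hy2, hp2⟩⟩ :=
      hconn _ _ (hopen _) (hopen _) hsub hAne hBne
    exact hp2 (Groth.Agent.H95.IdealSheafLocal.prop_trans (hne x1) hp1
      (hprop y hyZ x1 x2 hy1 hy2))
  have hC : ∃ M N : ℕ, (M, N) ≠ (0, 0) ∧ ∀ x ∈ T, ∃ k : ℕ, M = k * mc x ∧ N = k * nc x := by
    rcases T.eq_empty_or_nonempty with hTe | ⟨x₀, hx₀⟩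
    · refine ⟨1, 1, by simp, fun x hx => ?_⟩
      rw [hTe] at hx
      exact absurd hx (Finset.notMem_empty x)
    · obtain ⟨c, hc⟩ : ∃ c : ℕ, c = ∏ x ∈ T, (mc x + nc x) := ⟨_, rfl⟩
      have hspos : ∀ x, 0 < mc x + nc x := by
        intro x
        rcases Nat.eq_zero_or_pos (mc x + nc x) with h0 | h0
        · exfalso
          apply hne x
          have h1 : mc x = 0 := by omega
          have h2 : nc x = 0 := by omega
          rw [h1, h2]
        · exact h0
      have hcpos : 0 < c := by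
        rw [hc]
        exact Finset.prod_pos (fun x _ => hspos x)
      refine ⟨c * mc x₀, c * nc x₀, ?_, ?_⟩
      · intro h0
        have h1 : c * mc x₀ = 0 := congrArg Prod.fst h0
        have h2 : c * nc x₀ = 0 := congrArg Prod.snd h0
        have h3 : mc x₀ = 0 := by
          rcases Nat.mul_eq_zero.mp h1 with h | h
          · omega
          · exact h
        have h4 : nc x₀ = 0 := by
          rcases Nat.mul_eq_zero.mp h2 with h | h
          · omega
          · exact h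
        exact hne x₀ (by rw [h3, h4])
      · intro x hx
        have hdvd : (mc x + nc x) ∣ c := by
          rw [hc]
          exact Finset.dvd_prod_of_mem (fun x => mc x + nc x) hx
        obtain ⟨r, hr⟩ := hdvd
        have hp := hA x₀ hx₀ x hx
        refine ⟨r * (mc x₀ + nc x₀), ?_, ?_⟩
        · rw [hr]
          calc (mc x + nc x) * r * mc x₀ = r * (mc x * mc x₀ + mc x₀ * nc x) := by ring
            _ = r * (mc x * mc x₀ + mc x * nc x₀) := by rw [hp]
            _ = r * (mc x₀ + nc x₀) * mc x := by ring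
        · rw [hr]
          calc (mc x + nc x) * r * nc x₀ = r * (mc x * nc x₀ + nc x * nc x₀) := by ring
            _ = r * (mc x₀ * nc x + nc x * nc x₀) := by rw [hp]
            _ = r * (mc x₀ + nc x₀) * nc x := by ring
  obtain ⟨M, N, hMN, hk⟩ := hC
  refine ⟨M, N, hMN, ?_⟩
  have hDE : D ^ M = E ^ N := by
    refine Scheme.IdealSheafData.ext_of_iSup_eq_top (fun i : t => Uc i.1) ?_ ?_
    · rw [eq_top_iff]
      intro y _
      obtain ⟨x, hxt, hyx⟩ := hcov y
      exact TopologicalSpace.Opens.mem_iSup.mpr ⟨⟨x, hxt⟩, hyx⟩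
    · intro i
      show D.ideal (Uc i.1) ^ M = E.ideal (Uc i.1) ^ N
      by_cases hiT : i.1 ∈ T
      · obtain ⟨k, hM, hN⟩ := hk i.1 hiT
        rw [hM, hN, mul_comm k, mul_comm k, pow_mul, pow_mul, hP i.1]
      · have hdis : Z ∩ ((Uc i.1 : X.Opens) : Set X) = ∅ := by
          by_contra hne'
          exact hiT ((hmemT i.1).mpr ⟨i.2, Set.nonempty_iff_ne_empty.mpr hne'⟩)
        have hD1 : D.ideal (Uc i.1) = ⊤ :=
          Groth.Agent.H95.IdealSheafLocal.ideal_eq_top_of_disjoint D (Uc i.1) (by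
            apply Set.eq_empty_of_subset_empty
            rw [← hdis, hZ]
            exact Set.inter_subset_inter_left _ Set.subset_union_left)
        have hE1 : E.ideal (Uc i.1) = ⊤ :=
          Groth.Agent.H95.IdealSheafLocal.ideal_eq_top_of_disjoint E (Uc i.1) (by
            apply Set.eq_empty_of_subset_empty
            rw [← hdis, hZ]
            exact Set.inter_subset_inter_left _ Set.subset_union_right)
        rw [hD1, hE1, Ideal.top_pow, Ideal.top_pow]
  intro U
  exact congrArg (fun I : X.IdealSheafData => I.ideal U) hDE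

end Groth.Agent.S17732
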