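import Groth.Statements.S17733
import Groth.Agent.H54.BlowUpAffine
import Groth.Agent.H9.ComapIdeal
import Groth.Agent.S14822
import Mathlib.AlgebraicGeometry.Morphisms.SchemeTheoreticallyDominant

set_option autoImplicit false
universe u
open CDiv

namespace Groth.Agent.S17733


open CategoryTheory AlgebraicGeometry TopologicalSpace Groth.Agent.H54.BlowUpAffine

/-- Division of sections over an open `V₀`, given local divisibility and section-level
regularity of the divisor. -/
theorem exists_div_on {X : Scheme.{u}} (V₀ : X.Opens) (s y : Γ(X, V₀))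
    (hs : ∀ (W : X.Opens) (hW : W ≤ V₀) (z : Γ(X, W)),
      (X.presheaf.map (homOfLE hW).op).hom s * z = 0 → z = 0)
    (hy : ∀ t : X, t ∈ V₀ → ∃ (W : X.Opens) (hW : W ≤ V₀), t ∈ W ∧ ∃ x : Γ(X, W),
        (X.presheaf.map (homOfLE hW).op).hom s * x = (X.presheaf.map (homOfLE hW).op).hom y) :
    ∃ x : Γ(X, V₀), s * x = y := by
  have hy' : ∀ i : {t : X // t ∈ V₀}, ∃ (W : X.Opens) (hW : W ≤ V₀), i.1 ∈ W ∧ ∃ x : Γ(X, W),
      (X.presheaf.map (homOfLE hW).op).hom s * x = (X.presheaf.map (homOfLE hW).op).hom y :=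
    fun i => hy i.1 i.2
  choose W hW htW x hx using hy'
  have hcompat : TopCat.Presheaf.IsCompatible X.presheaf W x := by
    intro t t'
    have hle : W t ⊓ W t' ≤ V₀ := inf_le_left.trans (hW t)
    have key : (X.presheaf.map (homOfLE hle).op).hom s *
        ((X.presheaf.map (Opens.infLELeft (W t) (W t')).op).hom (x t) -
          (X.presheaf.map (Opens.infLERight (W t) (W t')).op).hom (x t')) = 0 := by
      rw [mul_sub]
      have e1 : (X.presheaf.map (homOfLE hle).op).hom s *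
          (X.presheaf.map (Opens.infLELeft (W t) (W t')).op).hom (x t) =
          (X.presheaf.map (homOfLE hle).op).hom y := by
        rw [← res_res (Opens.infLELeft (W t) (W t')) (homOfLE (hW t)) (homOfLE hle) s,
          ← map_mul, hx t, res_res]
      have e2 : (X.presheaf.map (homOfLE hle).op).hom s *
          (X.presheaf.map (Opens.infLERight (W t) (W t')).op).hom (x t') =
          (X.presheaf.map (homOfLE hle).op).hom y := by
        rw [← res_res (Opens.infLERight (W t) (W t')) (homOfLE (hW t')) (homOfLE hle) s,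
          ← map_mul, hx t', res_res]
      rw [e1, e2, sub_self]
    exact sub_eq_zero.1 (hs _ hle _ key)
  obtain ⟨(x₀ : Γ(X, V₀)), hx₀, -⟩ := TopCat.Sheaf.existsUnique_gluing' X.sheaf W V₀
    (fun t => homOfLE (hW t))
    (fun t ht => Opens.mem_iSup.2 ⟨⟨t, ht⟩, htW ⟨t, ht⟩⟩) x hcompat
  refine ⟨x₀, ?_⟩
  have h0 : s * x₀ - y = 0 := by
    apply Groth.Agent.H9.eq_zero_of_germ'
    intro t ht
    have h1 : (X.presheaf.map (homOfLE (hW ⟨t, ht⟩)).op).hom x₀ = x ⟨t, ht⟩ := hx₀ ⟨t, ht⟩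
    rw [← germ_res' (homOfLE (hW ⟨t, ht⟩)) t (htW ⟨t, ht⟩), map_sub, map_mul, h1, hx ⟨t, ht⟩,
      sub_self, map_zero]
  exact sub_eq_zero.1 h0

/-- Stalkwise step: in an integrally closed domain `R`, if `d` satisfies a monic `e`-homogeneous
equation then `e ∣ d`. -/
theorem dvd_of_scaleRoots_eval {A R : Type u} [CommRing A] [CommRing R] [IsDomain R]
    [IsIntegrallyClosed R] (g : A →+* R) (d e : A) (he : g e ≠ 0) (p : Polynomial A)
    (hpm : p.Monic) (hq : Polynomial.eval d (Polynomial.scaleRoots p e) = 0) :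
    ∃ a : R, a * g e = g d := by
  obtain ⟨ψ, hψ⟩ : ∃ ψ : A →+* FractionRing R, ψ = (algebraMap R (FractionRing R)).comp g :=
    ⟨_, rfl⟩
  have hinj : Function.Injective (algebraMap R (FractionRing R)) :=
    IsFractionRing.injective R (FractionRing R)
  have hψe : ψ e ≠ 0 := by
    intro h0
    apply he
    apply hinj
    rw [map_zero, ← h0, hψ]; rfl
  obtain ⟨θ, hθd⟩ : ∃ θ : FractionRing R, θ = ψ d * (ψ e)⁻¹ := ⟨_, rfl⟩
  have hθ : ψ e * θ = ψ d := by
    rw [hθd, mul_comm (ψ d), ← mul_assoc, mul_inv_cancel₀ hψe, one_mul]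
  have h1 : ψ e ^ p.natDegree * Polynomial.eval₂ ψ θ p = 0 := by
    rw [← Polynomial.scaleRoots_eval₂_mul, hθ, Polynomial.eval₂_hom, hq, map_zero]
  have h2 : Polynomial.eval₂ ψ θ p = 0 := by
    rcases mul_eq_zero.1 h1 with h | h
    · exact absurd h (pow_ne_zero _ hψe)
    · exact h
  have hint : IsIntegral R θ := by
    refine ⟨p.map g, hpm.map g, ?_⟩
    rw [Polynomial.eval₂_map, ← hψ]; exact h2
  obtain ⟨a, ha⟩ := IsIntegrallyClosed.isIntegral_iff.1 hint
  refine ⟨a, ?_⟩
  apply hinj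
  rw [map_mul, ha]
  have e1 : algebraMap R (FractionRing R) (g e) = ψ e := by rw [hψ]; rfl
  have e2 : algebraMap R (FractionRing R) (g d) = ψ d := by rw [hψ]; rfl
  rw [e1, e2, mul_comm]; exact hθ

/-- Core: if `E` is principal on the affine open `V`, generated by a nonzerodivisor, with support
disjoint from `U`, and `D.comap f ≤ E.comap f`, then `D.ideal V ≤ E.ideal V`. -/
theorem ideal_le_of_comap_le {S S' : Scheme.{u}}
    (hnorm : ∀ x : S, IsDomain (S.presheaf.stalk x) ∧ IsIntegrallyClosed (S.presheaf.stalk x))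
    (f : S' ⟶ S) [IsProper f] (hdom : f.ker = ⊥)
    (U : S.Opens) (hU' : CInt.IsSchematicallyDense (f ⁻¹ᵁ U))
    (D E : S.IdealSheafData) (hEU : (E.support : Set S) ⊆ (U : Set S)ᶜ)
    (h : D.comap f ≤ E.comap f)
    (V : S.affineOpens) (e : Γ(S, V)) (he : e ∈ nonZeroDivisors Γ(S, V))
    (hEV : E.ideal V = Ideal.span {e}) : D.ideal V ≤ E.ideal V := by
  intro d hd
  have hV : IsAffineOpen V.1 := V.2
  -- Step 0: `V ∩ U ⊆ D(e)`
  have hVU : ∀ t : S, t ∈ V.1 → t ∈ U → t ∈ S.basicOpen e := by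
    intro t htV htU
    have h1 : t ∉ E.support := fun h' => hEU h' htU
    rw [Scheme.IdealSheafData.mem_support_iff_of_mem (U := V) htV, Scheme.mem_zeroLocus_iff] at h1
    push Not at h1
    obtain ⟨g, hg, htg⟩ := h1
    rw [hEV] at hg
    obtain ⟨a, rfl⟩ := Ideal.mem_span_singleton'.1 hg
    rw [Scheme.basicOpen_mul] at htg
    exact htg.2
  -- Step 1: divide upstairs
  obtain ⟨φ, hφ⟩ : ∃ φ : Γ(S, V.1) →+* Γ(S', f ⁻¹ᵁ V.1), φ = (f.app V.1).hom := ⟨_, rfl⟩
  have hφinj : Function.Injective φ := by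
    haveI : IsSchemeTheoreticallyDominant f := ⟨hdom⟩
    rw [hφ]
    exact f.app_injective V.1
  obtain ⟨u, hu⟩ : ∃ u : Γ(S', f ⁻¹ᵁ V.1), φ e * u = φ d := by
    apply exists_div_on
    · intro W hW z hz
      have hle : W ⊓ f ⁻¹ᵁ U ≤ S'.basicOpen (φ e) := by
        intro t ht
        have : t ∈ f ⁻¹ᵁ (S.basicOpen e) := hVU (f t) (hW ht.1) ht.2
        rw [Scheme.preimage_basicOpen] at this
        rw [hφ]; exact this
      apply hU' W
      change (S'.presheaf.map (homOfLE (inf_le_left : W ⊓ f ⁻¹ᵁ U ≤ W)).op).hom z =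
        (S'.presheaf.map (homOfLE (inf_le_left : W ⊓ f ⁻¹ᵁ U ≤ W)).op).hom 0
      rw [map_zero]
      apply Groth.Agent.H9.eq_zero_of_germ'
      intro t ht
      have htb : t ∈ S'.basicOpen (φ e) := hle ht
      have hu1 : IsUnit (S'.presheaf.germ (f ⁻¹ᵁ V.1) t (hW ht.1) (φ e)) :=
        (Scheme.mem_basicOpen S' (φ e) t (hW ht.1)).1 htb
      have h3 : S'.presheaf.germ W t ht.1
          ((S'.presheaf.map (homOfLE hW).op).hom (φ e) * z) = 0 := by rw [hz, map_zero]
      rw [map_mul, germ_res'] at h3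
      rw [germ_res']
      exact (hu1.mul_right_eq_zero).1 h3
    · intro t ht
      obtain ⟨_, ⟨W, hWaff, rfl⟩, htW, hWV⟩ :=
        S'.isBasis_affineOpens.exists_subset_of_mem_open ht (f ⁻¹ᵁ V.1).isOpen
      have hWV' : W ≤ f ⁻¹ᵁ V.1 := hWV
      refine ⟨W, hWV', htW, ?_⟩
      have h1 : (D.comap f).ideal ⟨W, hWaff⟩ ≤ (E.comap f).ideal ⟨W, hWaff⟩ := h ⟨W, hWaff⟩
      rw [Groth.Agent.H9.comap_ideal f D V ⟨W, hWaff⟩ hWV',
        Groth.Agent.H9.comap_ideal f E V ⟨W, hWaff⟩ hWV', hEV, Ideal.map_span,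
        Set.image_singleton] at h1
      have h2 : (f.appLE V.1 W hWV').hom d ∈ Ideal.span {(f.appLE V.1 W hWV').hom e} :=
        h1 (Ideal.mem_map_of_mem _ hd)
      obtain ⟨a, ha⟩ := Ideal.mem_span_singleton'.1 h2
      refine ⟨a, ?_⟩
      have h3 : ∀ r, (f.appLE V.1 W hWV').hom r =
          (S'.presheaf.map (homOfLE hWV').op).hom (φ r) := fun r => by rw [hφ]; rfl
      rw [← h3, ← h3, mul_comm]; exact ha
  -- Step 2: integrality
  obtain ⟨p, hpm, hp⟩ := Groth.Agent.S14822.isIntegral_app_of_universallyClosed f V.1 hV u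
  rw [← hφ] at hp
  have hq : Polynomial.eval d (Polynomial.scaleRoots p e) = 0 := by
    apply hφinj
    rw [map_zero, ← Polynomial.eval₂_hom, ← hu]
    exact Polynomial.scaleRoots_eval₂_eq_zero φ hp
  -- Step 3: stalkwise
  rw [hEV, hV.mem_ideal_iff]
  intro t ht
  change (S.presheaf.germ V.1 t ht).hom d ∈ _
  rw [Ideal.map_span, Set.image_singleton]
  obtain ⟨hdomain, hic⟩ := hnorm t
  haveI := hdomain
  haveI := hic
  have het : (S.presheaf.germ V.1 t ht).hom e ∈ nonZeroDivisors (S.presheaf.stalk t) := by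
    letI := S.presheaf.algebra_section_stalk ⟨t, ht⟩
    haveI := hV.isLocalization_stalk ⟨t, ht⟩
    exact IsLocalization.map_nonZeroDivisors_le (hV.primeIdealOf ⟨t, ht⟩).asIdeal.primeCompl
      (S.presheaf.stalk t) ⟨e, he, rfl⟩
  have het0 : (S.presheaf.germ V.1 t ht).hom e ≠ 0 := nonZeroDivisors.ne_zero het
  obtain ⟨a, ha⟩ := dvd_of_scaleRoots_eval (S.presheaf.germ V.1 t ht).hom d e het0 p hpm hq
  exact Ideal.mem_span_singleton'.2 ⟨a, ha⟩


open CategoryTheory AlgebraicGeometry in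
/-- Let S be a locally Noetherian normal scheme (every local ring an integrally closed domain), f : S' →
S a proper morphism whose scheme-theoretic image is S (its kernel ideal sheaf is zero), and U ⊆ S a
schematically dense open subscheme such that f⁻¹(U) is also schematically dense in S'. Suppose D and
E are effective Cartier divisors of S, encoded by ideal sheaves each locally generated on an affine
open by one non-zero-divisor, with supports disjoint from U. If the pulled-back ideal sheaves of D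
and E along f coincide, then D = E. -/
theorem result
    {S S' : Scheme.{u}} [IsLocallyNoetherian S]
    (hnorm : ∀ x : S, IsDomain (S.presheaf.stalk x) ∧ IsIntegrallyClosed (S.presheaf.stalk x))
    (f : S' ⟶ S) [IsProper f] (hdom : f.ker = ⊥)
    (U : S.Opens) (hU : CInt.IsSchematicallyDense U) (hU' : CInt.IsSchematicallyDense (f ⁻¹ᵁ U))
    (D E : S.IdealSheafData)
    (hD : (∀ x : S, ∃ U : S.affineOpens, x ∈ (U : S.Opens) ∧ ∃ g : Γ(S, U), g ∈ nonZeroDivisors Γ(S, U) ∧ D.ideal U = Ideal.span {g}))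
    (hE : (∀ x : S, ∃ U : S.affineOpens, x ∈ (U : S.Opens) ∧ ∃ g : Γ(S, U), g ∈ nonZeroDivisors Γ(S, U) ∧ E.ideal U = Ideal.span {g}))
    (hDU : (D.support : Set S) ⊆ (U : Set S)ᶜ) (hEU : (E.support : Set S) ⊆ (U : Set S)ᶜ)
    (h : D.comap f = E.comap f) : D = E := by
  apply le_antisymm
  · choose VE hxVE e he hEe using hE
    refine Scheme.IdealSheafData.le_of_iSup_eq_top VE ?_ (fun x => ?_)
    · exact eq_top_iff.2 fun x _ => TopologicalSpace.Opens.mem_iSup.2 ⟨x, hxVE x⟩
    · exact ideal_le_of_comap_le hnorm f hdom U hU' D E hEU h.le (VE x) (e x) (he x) (hEe x)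
  · choose VD hxVD d hd hDd using hD
    refine Scheme.IdealSheafData.le_of_iSup_eq_top VD ?_ (fun x => ?_)
    · exact eq_top_iff.2 fun x _ => TopologicalSpace.Opens.mem_iSup.2 ⟨x, hxVD x⟩
    · exact ideal_le_of_comap_le hnorm f hdom U hU' E D hDU h.ge (VD x) (d x) (hd x) (hDd x)

end Groth.Agent.S17733
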