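import Groth.Statements.S17738
import Mathlib
import Groth.Agent.H85.GalFactor
import Groth.Agent.H38.NormalConn
import Groth.Agent.H25.SmoothStalk

set_option autoImplicit false
universe u
open CategoryTheory AlgebraicGeometry
open QsChow

namespace Groth.Agent.S17738

open CategoryTheory.Limits

theorem etale_specMap_of_galois (k L : Type u) [Field k] [Field L] [Algebra k L]
    [FiniteDimensional k L] [IsGalois k L] :
    Etale (Spec.map (CommRingCat.ofHom (algebraMap k L))) := by
  rw [HasRingHomProperty.Spec_iff (P := @Etale)]
  show (algebraMap k L).Etale
  rw [RingHom.etale_algebraMap]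
  haveI : Algebra.FormallyEtale k L := Algebra.FormallyEtale.of_isSeparable k L
  haveI : Algebra.FinitePresentation k L := Algebra.FinitePresentation.of_finiteType.mp inferInstance
  exact {}

/-- Take a field k and an irreducible normal k-variety X (a separated scheme of finite type over k all
of whose local rings are integrally closed domains) and let L be a finite Galois extension of k. If
the base change of X to L is not irreducible, then there is an intermediate field F of L over k,
different from k, such that the structure morphism of X factors through a k-morphism from X to Spec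
F. -/
theorem result
    (k : Type u) [Field k] (X : Scheme.{u}) [X.Over (Spec (CommRingCat.of k))]
    [IrreducibleSpace X] (hX : Pi1.IsNormalScheme X)
    [IsSeparated (X ↘ Spec (CommRingCat.of k))] [LocallyOfFiniteType (X ↘ Spec (CommRingCat.of k))]
    [QuasiCompact (X ↘ Spec (CommRingCat.of k))]
    (L : Type u) [Field L] [Algebra k L] [FiniteDimensional k L] [IsGalois k L]
    (hred : ¬ IrreducibleSpace ↥(Curv2.bc k X L)) :
    ∃ F : IntermediateField k L, F ≠ ⊥ ∧
      ∃ g : X ⟶ Spec (CommRingCat.of F),
        g ≫ Spec.map (CommRingCat.ofHom (algebraMap k F)) = X ↘ Spec (CommRingCat.of k) := by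
  classical
  haveI : ConnectedSpace X := inferInstance
  by_cases hconn : ConnectedSpace ↥(Curv2.bc k X L)
  · exfalso
    apply hred
    haveI : Etale (Spec.map (CommRingCat.ofHom (algebraMap k L))) := etale_specMap_of_galois k L
    haveI : Etale (Curv2.bcFst k X L) := inferInstance
    haveI : IsLocallyNoetherian X :=
      LocallyOfFiniteType.isLocallyNoetherian (X ↘ Spec (CommRingCat.of k))
    haveI : IsLocallyNoetherian (Curv2.bc k X L) :=
      LocallyOfFiniteType.isLocallyNoetherian (Curv2.bcFst k X L)
    have hN : Pi1.IsNormalScheme (Curv2.bc k X L) := by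
      intro y
      have hmem : y ∈ (Curv2.bcFst k X L).smoothLocus := by
        rw [Scheme.Hom.smoothLocus_eq_top (Curv2.bcFst k X L)]
        trivial
      exact (Groth.Agent.H25.SmoothStalk.reduced_normal_iff_of_smoothAt (Curv2.bcFst k X L) y
        hmem).2.mpr (hX _)
    exact Groth.Agent.H38.NormalConn.irreducibleSpace_of_normal_connected _ hN
  · obtain ⟨F, hF, g, hg⟩ := Groth.Agent.H85.GalFactor.exists_factorization_field k L X hconn
    exact ⟨F, hF, g, hg⟩

end Groth.Agent.S17738
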