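import Groth.Statements.S17743
import Mathlib
-- import your own Groth.Agent.* helpers here

set_option autoImplicit false
universe u
open CategoryTheory AlgebraicGeometry
open QsChow

namespace Groth.Agent.S17743

theorem isMax_of_field {F : Type u} [Field F] (x : ↥(Spec (CommRingCat.of F))) :
    x.asIdeal.IsMaximal := by
  have h : x.asIdeal = ⊥ := (Ideal.eq_bot_or_top _).resolve_right x.isPrime.ne_top
  rw [h]; exact Ideal.bot_isMaximal

/-- evaluation at the point of `Spec F`, as a ring hom `F → κ(x)`. -/
noncomputable def ev (F : Type u) [Field F] (x : ↥(Spec (CommRingCat.of F))) :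
    F →+* (Spec (CommRingCat.of F)).residueField x :=
  ((Scheme.ΓSpecIso (CommRingCat.of F)).inv ≫
    (Spec (CommRingCat.of F)).evaluation ⊤ x trivial).hom

theorem ev_bijective (F : Type u) [Field F] (x : ↥(Spec (CommRingCat.of F))) :
    Function.Bijective (ev F x) := by
  haveI := isMax_of_field x
  constructor
  · exact RingHom.injective _
  · have h := Scheme.Spec.algebraMap_residueFieldIso_inv (CommRingCat.of F) x
    intro b
    obtain ⟨c, hc⟩ :=
      (Scheme.Spec.residueFieldIso (CommRingCat.of F) x).symm.commRingCatIsoToRingEquiv.surjective b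
    obtain ⟨a, ha⟩ := Ideal.algebraMap_residueField_surjective x.asIdeal c
    refine ⟨a, ?_⟩
    have h' := congrArg (fun g => g.hom a) h
    simp only [CommRingCat.hom_comp, RingHom.comp_apply, CommRingCat.hom_ofHom] at h'
    show ((Scheme.ΓSpecIso (CommRingCat.of F)).inv ≫
      (Spec (CommRingCat.of F)).evaluation ⊤ x trivial).hom a = b
    rw [← hc, ← ha]
    simp only [CommRingCat.hom_comp, RingHom.comp_apply]
    exact h'.symm

theorem residueDegree_spec (k F : Type u) [Field k] [Field F] [Algebra k F]
    (x : ↥(Spec (CommRingCat.of F))) :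
    (Spec.map (CommRingCat.ofHom (algebraMap k F))).residueDegree x = Module.finrank k F := by
  have sq : ((Scheme.ΓSpecIso (CommRingCat.of k)).inv ≫
        (Spec (CommRingCat.of k)).evaluation ⊤
          ((Spec.map (CommRingCat.ofHom (algebraMap k F))) x) trivial) ≫
        (Spec.map (CommRingCat.ofHom (algebraMap k F))).residueFieldMap x =
      CommRingCat.ofHom (algebraMap k F) ≫ ((Scheme.ΓSpecIso (CommRingCat.of F)).inv ≫
        (Spec (CommRingCat.of F)).evaluation ⊤ x trivial) := by
    have h1 := Scheme.evaluation_naturality (Spec.map (CommRingCat.ofHom (algebraMap k F)))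
      (V := ⊤) x trivial
    have h2 := Scheme.ΓSpecIso_inv_naturality (CommRingCat.ofHom (algebraMap k F))
    rw [Category.assoc, h1, ← Category.assoc, ← Category.assoc, h2]
    rfl
  unfold Scheme.Hom.residueDegree
  letI := ((Spec.map (CommRingCat.ofHom (algebraMap k F))).residueFieldMap x).hom.toAlgebra
  refine (Algebra.finrank_eq_of_equiv_equiv
    (RingEquiv.ofBijective (ev k ((Spec.map (CommRingCat.ofHom (algebraMap k F))) x))
      (ev_bijective k _))
    (RingEquiv.ofBijective (ev F x) (ev_bijective F x)) ?_).symm
  ext a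
  have h' := congrArg (fun g => g.hom a) sq
  simp only [CommRingCat.hom_comp, RingHom.comp_apply, CommRingCat.hom_ofHom] at h'
  simp only [RingHom.comp_apply, RingEquiv.toRingHom_eq_coe, RingHom.coe_coe,
    RingEquiv.ofBijective_apply, RingHom.algebraMap_toAlgebra]
  exact h'

theorem finsum_mem_unique {X : Type*} [Unique X] (S : Set X) (g : X → ℤ) (h : default ∈ S) :
    ∑ᶠ x ∈ S, g x = g default := by
  have hS : S = {default} := by
    ext y
    simp only [Set.mem_singleton_iff]
    constructor
    · intro _; exact Subsingleton.elim _ _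
    · intro hy; rw [hy]; exact h
  rw [hS, finsum_mem_singleton]

/-- Let K be a separable algebraic field extension of k and suppose that some intermediate field L of K
over k is finite Galois over k with degree [L:k] not of the form p^n for a prime p and n ≥ 0 (so
[L:k] has at least two prime factors). Then the subgroup of the Chow group of zero-cycles of Spec k
generated by the classes of push-forwards from Spec F, over the intermediate fields F of K over k
that are finite over k and different from k, is the whole group; that is, the conormed Chow group of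
the point relative to K over k is zero. (Degree 1 = p^0 must be excluded: for L = K = k the quotient
is ℤ.) -/
theorem result
    (k : Type u) [Field k] (K : Type u) [Field K] [Algebra k K] [Algebra.IsSeparable k K]
    (L : IntermediateField k K) [FiniteDimensional k L] [IsGalois k L]
    (hL : ∀ p n : ℕ, p.Prime → Module.finrank k L ≠ p ^ n) :
    QsChow.ptNormSubgroup k K = ⊤ := by
  classical
  haveI : Unique ↥(Spec (CommRingCat.of k)) := inferInstanceAs (Unique (PrimeSpectrum k))
  have hZ : ∀ β : AlgebraicCycle (Spec (CommRingCat.of k)) ℤ,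
      β ∈ Cyc.Zk (Spec (CommRingCat.of k)) (fun _ => 0) 0 := fun β x hx => absurd rfl hx
  obtain ⟨c₁, hc₁⟩ : ∃ c₁ : ChowOps.CH (Spec (CommRingCat.of k)) (fun _ => 0) 0,
      c₁ = ChowOps.cl (Function.locallyFinsuppWithin.single (default : ↥(Spec (CommRingCat.of k))) (1 : ℤ))
        (hZ _) := ⟨_, rfl⟩
  have key : ∀ (β : AlgebraicCycle (Spec (CommRingCat.of k)) ℤ)
      (h : β ∈ Cyc.Zk (Spec (CommRingCat.of k)) (fun _ => 0) 0),
      ChowOps.cl β h = β default • c₁ := by
    intro β h
    have hβ : β = β default •
        (Function.locallyFinsuppWithin.single (default : ↥(Spec (CommRingCat.of k))) (1 : ℤ)) := by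
      ext a
      have ha : a = default := Subsingleton.elim _ _
      rw [ha]
      simp
    rw [hc₁]
    show ChowOps.clHom _ _ _ ⟨β, h⟩ = β default • ChowOps.clHom _ _ _ ⟨_, hZ _⟩
    rw [← map_zsmul]
    congr 1
    apply Subtype.ext
    rw [AddSubgroupClass.coe_zsmul]
    exact hβ
  -- generators
  have hF : ∀ (F : IntermediateField k K), FiniteDimensional k F → F ≠ ⊥ →
      ((Module.finrank k F : ℕ) : ℤ) • c₁ ∈ QsChow.ptNormSubgroup k K := by
    intro F hFd hFb
    haveI : Unique ↥(Spec (CommRingCat.of (F : Type u))) :=
      inferInstanceAs (Unique (PrimeSpectrum F))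
    have hmem := hZ (AlgebraicCycle.map (Spec.map (CommRingCat.ofHom (algebraMap k F)))
      (fun _ => (0 : ℤ)) (fun _ => (0 : ℤ))
      (Function.locallyFinsuppWithin.single (default : ↥(Spec (CommRingCat.of (F : Type u)))) (1 : ℤ)))
    have hval : (AlgebraicCycle.map (Spec.map (CommRingCat.ofHom (algebraMap k F)))
        (fun _ => (0 : ℤ)) (fun _ => (0 : ℤ))
        (Function.locallyFinsuppWithin.single (default : ↥(Spec (CommRingCat.of (F : Type u)))) (1 : ℤ)))
        default = ((Module.finrank k F : ℕ) : ℤ) := by
      simp only [AlgebraicCycle.map, Function.locallyFinsupp.map_apply]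
      refine (finsum_mem_unique _ _ ?_).trans ?_
      · exact (Subsingleton.elim _ _ :
          (Spec.map (CommRingCat.ofHom (algebraMap k F))) default = default)
      · simp [AlgebraicCycle.mapCoeff, residueDegree_spec]
    rw [← hval, ← key _ hmem]
    unfold QsChow.ptNormSubgroup
    apply AddSubgroup.subset_closure
    exact ⟨F, hFd, hFb, _, hmem, rfl⟩
  -- the ideal of integers n with n • c₁ in the norm subgroup
  let I : Ideal ℤ :=
    { carrier := {n | n • c₁ ∈ QsChow.ptNormSubgroup k K}
      add_mem' := fun {a b} ha hb => by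
        show (a + b) • c₁ ∈ QsChow.ptNormSubgroup k K
        rw [add_zsmul]; exact AddSubgroup.add_mem _ ha hb
      zero_mem' := by
        show (0 : ℤ) • c₁ ∈ QsChow.ptNormSubgroup k K
        rw [zero_zsmul]; exact AddSubgroup.zero_mem _
      smul_mem' := fun c {x} hx => by
        show (c • x) • c₁ ∈ QsChow.ptNormSubgroup k K
        rw [smul_eq_mul, mul_zsmul]
        exact AddSubgroup.zsmul_mem _ (show x • c₁ ∈ QsChow.ptNormSubgroup k K from hx) c }
  have hIdef : ∀ n : ℤ, n ∈ I ↔ n • c₁ ∈ QsChow.ptNormSubgroup k K := fun n => Iff.rfl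
  have hd0 : Module.finrank k L ≠ 0 := Module.finrank_pos.ne'
  have hmemI : ∀ p : ℕ, p.Prime →
      ((Module.finrank k L / p ^ (Module.finrank k L).factorization p : ℕ) : ℤ) ∈ I := by
    intro p hp
    haveI : Fact p.Prime := ⟨hp⟩
    obtain ⟨P⟩ := (inferInstance : Nonempty (Sylow p (L ≃ₐ[k] L)))
    have hcardP : Nat.card (P : Subgroup (L ≃ₐ[k] L)) =
        p ^ (Module.finrank k L).factorization p := by
      rw [Sylow.card_eq_multiplicity, IsGalois.card_aut_eq_finrank]
    have h1 : Module.finrank (IntermediateField.fixedField (P : Subgroup (L ≃ₐ[k] L))) L =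
        p ^ (Module.finrank k L).factorization p := by
      rw [IntermediateField.finrank_fixedField_eq_card, hcardP]
    have h2 : Module.finrank k (IntermediateField.fixedField (P : Subgroup (L ≃ₐ[k] L))) *
        Module.finrank (IntermediateField.fixedField (P : Subgroup (L ≃ₐ[k] L))) L =
        Module.finrank k L := Module.finrank_mul_finrank k _ L
    have h3 : Module.finrank k (IntermediateField.fixedField (P : Subgroup (L ≃ₐ[k] L))) =
        Module.finrank k L / p ^ (Module.finrank k L).factorization p := by
      rw [h1] at h2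
      exact (Nat.div_eq_of_eq_mul_left (pow_pos hp.pos _) h2.symm).symm
    have eqv : (IntermediateField.fixedField (P : Subgroup (L ≃ₐ[k] L))) ≃ₐ[k]
        (IntermediateField.lift (IntermediateField.fixedField (P : Subgroup (L ≃ₐ[k] L)))) :=
      IntermediateField.liftAlgEquiv _
    have h4 : Module.finrank k
        (IntermediateField.lift (IntermediateField.fixedField (P : Subgroup (L ≃ₐ[k] L)))) =
        Module.finrank k (IntermediateField.fixedField (P : Subgroup (L ≃ₐ[k] L))) :=
      (eqv.toLinearEquiv.finrank_eq).symm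
    haveI : FiniteDimensional k
        (IntermediateField.lift (IntermediateField.fixedField (P : Subgroup (L ≃ₐ[k] L)))) :=
      eqv.toLinearEquiv.finiteDimensional
    have hFb : IntermediateField.lift (IntermediateField.fixedField (P : Subgroup (L ≃ₐ[k] L))) ≠ ⊥ := by
      intro hb
      have h5 : Module.finrank k
          (IntermediateField.lift (IntermediateField.fixedField (P : Subgroup (L ≃ₐ[k] L)))) = 1 :=
        IntermediateField.finrank_eq_one_iff.mpr hb
      rw [h4, h3] at h5
      apply hL p ((Module.finrank k L).factorization p) hp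
      have h6 := Nat.ordProj_mul_ordCompl_eq_self (Module.finrank k L) p
      rw [h5, mul_one] at h6
      exact h6.symm
    have h7 := hF _ inferInstance hFb
    rw [h4, h3] at h7
    exact (hIdef _).mpr h7
  obtain ⟨g, hg⟩ := (IsPrincipalIdealRing.principal I).1
  have hg1 : g.natAbs = 1 := by
    by_contra hne
    obtain ⟨q, hq, hqg⟩ := Nat.exists_prime_and_dvd hne
    have h1 := hmemI q hq
    rw [hg] at h1
    have h1' := Ideal.mem_span_singleton.mp h1
    have h2 : (q : ℤ) ∣ g := Int.natCast_dvd.mpr hqg
    exact Nat.not_dvd_ordCompl hq hd0 (Int.natCast_dvd_natCast.mp (h2.trans h1'))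
  have h1I : (1 : ℤ) ∈ I := by
    rw [hg]
    apply Ideal.mem_span_singleton.mpr
    exact Int.natAbs_dvd_natAbs.mp (by rw [hg1]; exact one_dvd _)
  have hc₁mem : c₁ ∈ QsChow.ptNormSubgroup k K := by
    have := (hIdef 1).mp h1I
    rwa [one_zsmul] at this
  rw [eq_top_iff]
  intro c _
  obtain ⟨⟨β, h⟩, rfl⟩ := QuotientAddGroup.mk_surjective c
  have hcl : ((⟨β, h⟩ : ↥(ChowOps.zk (Spec (CommRingCat.of k)) (fun _ => 0) 0)) :
      ChowOps.CH (Spec (CommRingCat.of k)) (fun _ => 0) 0) = ChowOps.cl β h := rfl
  rw [hcl, key β h]
  exact AddSubgroup.zsmul_mem _ hc₁mem _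

end Groth.Agent.S17743
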