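import Groth.Statements.S17744
import Groth.Agent.S17743
import Mathlib

set_option autoImplicit false
universe u
open CategoryTheory AlgebraicGeometry
open QsChow

namespace Groth.Agent.S17744

/-- Let K be a separable algebraic field extension of k, let L be an intermediate field of K over k that
is finite Galois over k of degree p^n with p prime and n ≥ 1, and suppose that every intermediate
field of K over k that is finite over k has degree a power of p. Then the subgroup of the Chow group
of zero-cycles of Spec k generated by the classes of push-forwards from Spec F, over the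
intermediate fields F of K over k that are finite over k and different from k, has index p; that is,
the conormed Chow group of the point relative to K over k is cyclic of order p (the field with p
elements, in the source's ring language). (For n = 0, i.e. L = k, the assertion fails with K = k, so
n ≥ 1 is required.) -/
theorem result
    (k : Type u) [Field k] (K : Type u) [Field K] [Algebra k K] [Algebra.IsSeparable k K]
    (L : IntermediateField k K) [FiniteDimensional k L] [IsGalois k L]
    (p n : ℕ) (hp : p.Prime) (hn : 1 ≤ n) (hL : Module.finrank k L = p ^ n)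
    (hF : ∀ F : IntermediateField k K, FiniteDimensional k F → ∃ e : ℕ, Module.finrank k F = p ^ e) :
    (QsChow.ptNormSubgroup k K).index = p := by
  classical
  haveI : Unique ↥(Spec (CommRingCat.of k)) := inferInstanceAs (Unique (PrimeSpectrum k))
  have hZ : ∀ β : AlgebraicCycle (Spec (CommRingCat.of k)) ℤ,
      β ∈ Cyc.Zk (Spec (CommRingCat.of k)) (fun _ => 0) 0 := fun β x hx => absurd rfl hx
  obtain ⟨c₁, hc₁⟩ : ∃ c₁ : ChowOps.CH (Spec (CommRingCat.of k)) (fun _ => 0) 0,
      c₁ = ChowOps.cl (Function.locallyFinsuppWithin.single (default : ↥(Spec (CommRingCat.of k))) (1 : ℤ))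
        (hZ _) := ⟨_, rfl⟩
  have key : ∀ (β : AlgebraicCycle (Spec (CommRingCat.of k)) ℤ)
      (h : β ∈ Cyc.Zk (Spec (CommRingCat.of k)) (fun _ => 0) 0),
      ChowOps.cl β h = β default • c₁ := by
    intro β h
    have hβ : β = β default •
        (Function.locallyFinsuppWithin.single (default : ↥(Spec (CommRingCat.of k))) (1 : ℤ)) := by
      ext a
      have ha : a = default := Subsingleton.elim _ _
      rw [ha]
      simp
    rw [hc₁]
    show ChowOps.clHom _ _ _ ⟨β, h⟩ = β default • ChowOps.clHom _ _ _ ⟨_, hZ _⟩
    rw [← map_zsmul]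
    congr 1
    apply Subtype.ext
    rw [AddSubgroupClass.coe_zsmul]
    exact hβ
  -- the evaluation homomorphism on 0-cycles
  let evZ : ↥(ChowOps.zk (Spec (CommRingCat.of k)) (fun _ => 0) 0) →+ ℤ :=
    { toFun := fun β => (β : AlgebraicCycle (Spec (CommRingCat.of k)) ℤ) default
      map_zero' := rfl
      map_add' := fun a b => rfl }
  have hker : ChowOps.ratTriv (Spec (CommRingCat.of k)) (fun _ => 0) 0 ≤ evZ.ker := by
    unfold ChowOps.ratTriv
    rw [AddSubgroup.closure_le]
    rintro a ⟨ι, ξ, f, h1, -, -, h4⟩
    haveI : IsEmpty ι := ⟨fun i => absurd (h1 i) (by norm_num)⟩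
    rw [SetLike.mem_coe, AddMonoidHom.mem_ker]
    show (a : AlgebraicCycle (Spec (CommRingCat.of k)) ℤ) default = 0
    rw [h4 default, finsum_of_isEmpty]
  let φ : ChowOps.CH (Spec (CommRingCat.of k)) (fun _ => 0) 0 →+ ℤ :=
    QuotientAddGroup.lift _ evZ hker
  have hφcl : ∀ (β : AlgebraicCycle (Spec (CommRingCat.of k)) ℤ)
      (h : β ∈ Cyc.Zk (Spec (CommRingCat.of k)) (fun _ => 0) 0),
      φ (ChowOps.cl β h) = β default := fun β h => rfl
  have hφc₁ : φ c₁ = 1 := by
    rw [hc₁, hφcl]
    simp
  have hrep : ∀ c : ChowOps.CH (Spec (CommRingCat.of k)) (fun _ => 0) 0, c = φ c • c₁ := by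
    intro c
    obtain ⟨⟨β, h⟩, rfl⟩ := QuotientAddGroup.mk_surjective c
    have hcl : ((⟨β, h⟩ : ↥(ChowOps.zk (Spec (CommRingCat.of k)) (fun _ => 0) 0)) :
        ChowOps.CH (Spec (CommRingCat.of k)) (fun _ => 0) 0) = ChowOps.cl β h := rfl
    rw [hcl, key β h, map_zsmul, hφc₁, smul_eq_mul, mul_one]
  have hφsurj : Function.Surjective φ := fun m =>
    ⟨m • c₁, by rw [map_zsmul, hφc₁, smul_eq_mul, mul_one]⟩
  -- value of a push-forward
  have hval : ∀ (F : IntermediateField k K)
      (α : AlgebraicCycle (Spec (CommRingCat.of (F : Type u))) ℤ)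
      (x : ↥(Spec (CommRingCat.of (F : Type u)))),
      (AlgebraicCycle.map (Spec.map (CommRingCat.ofHom (algebraMap k F)))
        (fun _ => (0 : ℤ)) (fun _ => (0 : ℤ)) α) default
        = α x * ((Module.finrank k F : ℕ) : ℤ) := by
    intro F α x
    haveI : Unique ↥(Spec (CommRingCat.of (F : Type u))) :=
      inferInstanceAs (Unique (PrimeSpectrum F))
    have hx : x = default := Subsingleton.elim _ _
    subst hx
    simp only [AlgebraicCycle.map, Function.locallyFinsupp.map_apply]
    refine (Groth.Agent.S17743.finsum_mem_unique _ _ ?_).trans ?_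
    · exact (Subsingleton.elim _ _ :
          (Spec.map (CommRingCat.ofHom (algebraMap k F))) default = default)
    · simp [AlgebraicCycle.mapCoeff, Groth.Agent.S17743.residueDegree_spec]
  have hgen : ∀ (F : IntermediateField k K), FiniteDimensional k F → F ≠ ⊥ →
      ∀ (α : AlgebraicCycle (Spec (CommRingCat.of (F : Type u))) ℤ),
      ChowOps.cl (AlgebraicCycle.map (Spec.map (CommRingCat.ofHom (algebraMap k F)))
        (fun _ => (0 : ℤ)) (fun _ => (0 : ℤ)) α) (hZ _) ∈ QsChow.ptNormSubgroup k K := by
    intro F hFd hFb α
    unfold QsChow.ptNormSubgroup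
    apply AddSubgroup.subset_closure
    exact ⟨F, hFd, hFb, α, hZ _, rfl⟩
  -- p • c₁ is a norm
  have hpc₁ : (p : ℤ) • c₁ ∈ QsChow.ptNormSubgroup k K := by
    haveI : Fact p.Prime := ⟨hp⟩
    have hcardG : Nat.card (L ≃ₐ[k] L) = p ^ n := by
      rw [IsGalois.card_aut_eq_finrank, hL]
    obtain ⟨H, hH⟩ := Sylow.exists_subgroup_card_pow_prime (G := L ≃ₐ[k] L) p (n := n - 1)
      (by rw [hcardG]; exact pow_dvd_pow p (Nat.sub_le n 1))
    have h1 : Module.finrank (IntermediateField.fixedField H) L = p ^ (n - 1) := by
      rw [IntermediateField.finrank_fixedField_eq_card, hH]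
    have h2 : Module.finrank k (IntermediateField.fixedField H) *
        Module.finrank (IntermediateField.fixedField H) L = Module.finrank k L :=
      Module.finrank_mul_finrank k _ L
    have h3 : Module.finrank k (IntermediateField.fixedField H) = p := by
      rw [h1, hL] at h2
      have hpn : p ^ n = p * p ^ (n - 1) := by
        rw [← pow_succ']; congr 1; omega
      rw [hpn] at h2
      exact Nat.eq_of_mul_eq_mul_right (pow_pos hp.pos _) h2
    have eqv : (IntermediateField.fixedField H) ≃ₐ[k]
        (IntermediateField.lift (IntermediateField.fixedField H)) :=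
      IntermediateField.liftAlgEquiv _
    have h4 : Module.finrank k (IntermediateField.lift (IntermediateField.fixedField H)) = p := by
      rw [← h3]; exact (eqv.toLinearEquiv.finrank_eq).symm
    haveI : FiniteDimensional k (IntermediateField.lift (IntermediateField.fixedField H)) :=
      eqv.toLinearEquiv.finiteDimensional
    have hFb : IntermediateField.lift (IntermediateField.fixedField H) ≠ ⊥ := by
      intro hb
      have h5 : Module.finrank k (IntermediateField.lift (IntermediateField.fixedField H)) = 1 :=
        IntermediateField.finrank_eq_one_iff.mpr hb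
      rw [h4] at h5
      exact hp.one_lt.ne' h5
    haveI : Unique ↥(Spec (CommRingCat.of
        (↥(IntermediateField.lift (IntermediateField.fixedField H)) : Type u))) :=
      inferInstanceAs (Unique (PrimeSpectrum
        ↥(IntermediateField.lift (IntermediateField.fixedField H))))
    have hg := hgen _ inferInstance hFb (Function.locallyFinsuppWithin.single default (1 : ℤ))
    rw [key, hval _ _ default, h4] at hg
    simpa using hg
  have hEq : QsChow.ptNormSubgroup k K = (AddSubgroup.zmultiples (p : ℤ)).comap φ := by
    apply le_antisymm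
    · unfold QsChow.ptNormSubgroup
      rw [AddSubgroup.closure_le]
      rintro c ⟨F, hFd, hFb, α, h, rfl⟩
      rw [SetLike.mem_coe, AddSubgroup.mem_comap, hφcl, Int.mem_zmultiples_iff]
      haveI : Unique ↥(Spec (CommRingCat.of (F : Type u))) :=
        inferInstanceAs (Unique (PrimeSpectrum F))
      rw [hval F α default]
      obtain ⟨e, he⟩ := hF F hFd
      have he0 : e ≠ 0 := by
        rintro rfl
        rw [pow_zero] at he
        exact hFb (IntermediateField.finrank_eq_one_iff.mp he)
      rw [he]
      exact (Int.natCast_dvd_natCast.mpr (dvd_pow_self p he0)).mul_left _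
    · intro c hc
      rw [AddSubgroup.mem_comap, Int.mem_zmultiples_iff] at hc
      obtain ⟨m, hm⟩ := hc
      rw [hrep c, hm, mul_comm (p : ℤ) m, mul_zsmul]
      exact AddSubgroup.zsmul_mem _ hpc₁ m
  rw [hEq, AddSubgroup.index_comap_of_surjective _ hφsurj, Int.index_zmultiples,
    Int.natAbs_natCast]

end Groth.Agent.S17744
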