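import Groth.Statements.S17750
import Groth.Agent.H58.CanonIdeal
import Groth.Agent.H58.UFDPrin
import Groth.Agent.S0341
import Groth.Agent.S7701

set_option autoImplicit false
universe u
open Goren

namespace Groth.Agent.S17750

/-- Let B be a regular local ring and p a prime ideal of B such that the integral domain B ⧸ p is a
unique factorization domain. If the local ring B ⧸ p is Cohen–Macaulay then it is Gorenstein, i.e.
has finite injective dimension as a module over itself. (For a unique factorization domain that is a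
quotient of a regular local ring, Cohen–Macaulay and Gorenstein are equivalent; the converse
implication holds for every Noetherian local ring.) -/
theorem result (B : Type u) [CommRing B] [IsRegularLocalRing B] (p : Ideal B) [p.IsPrime] [UniqueFactorizationMonoid (B ⧸ p)] [LocCoh.IsCohenMacaulayLocalRing (B ⧸ p)] : LocCoh.IsGorensteinLocalRing (B ⧸ p) := by
  haveI hG : LocCoh.IsGorensteinLocalRing B := Groth.Agent.S0342.result B
  have hπ : Function.Surjective (algebraMap B (B ⧸ p)) := Ideal.Quotient.mk_surjective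
  have hCM : LocCoh.IsCohenMacaulayModule B B := (Groth.Agent.S0341.result B).supportDim_eq_depth
  obtain ⟨r', d, hr', hd, hsum⟩ := Groth.Agent.H72.LDLoc.exists_height_dim B hCM p
  have hn' : ringKrullDim B = ((d + r' : ℕ) : WithBot ℕ∞) := by rw [hsum]; rfl
  have hd' : ringKrullDim (B ⧸ p) = (d : WithBot ℕ∞) := by rw [hd]; rfl
  obtain ⟨f', hf'⟩ := Groth.Agent.S11665.result B (d + r') hn'
  obtain ⟨g1, hg1⟩ :=
    Groth.Agent.H2.Matlis.exists_isInjectiveHull_coext (A := B) (B := B ⧸ p) hf'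
  letI : Module (B ⧸ p) (Groth.Agent.H72.CanonMod.XT B (B ⧸ p) r') :=
    Groth.Agent.H72.CanonMod.moduleXT B (B ⧸ p) hπ r'
  haveI : IsScalarTower B (B ⧸ p) (Groth.Agent.H72.CanonMod.XT B (B ⧸ p) r') :=
    IsScalarTower.of_algebraMap_smul
      (fun c x => Groth.Agent.H72.CanonMod.moduleXT_algebraMap_smul B (B ⧸ p) hπ r' c x)
  haveI : Module.Finite B (B ⧸ p) :=
    Module.Finite.of_surjective (Algebra.linearMap B (B ⧸ p)) hπ
  haveI : Module.Finite B (Groth.Agent.H72.CanonMod.XT B (B ⧸ p) r') :=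
    Groth.Agent.H72.LDLoc.finite_ext B r' (B ⧸ p)
  haveI : Module.Finite (B ⧸ p) (Groth.Agent.H72.CanonMod.XT B (B ⧸ p) r') :=
    Module.Finite.of_restrictScalars_finite B (B ⧸ p) (Groth.Agent.H72.CanonMod.XT B (B ⧸ p) r')
  obtain ⟨eX⟩ := Groth.Agent.H72.CanonMod.canon_XT B (B ⧸ p) hπ (d + r') d hn' hd' r'
    (by omega) _ g1 hg1
  obtain ⟨I, ⟨eI⟩, hI⟩ := Groth.Agent.H58.CanonIdeal.canon_iso_ideal B (B ⧸ p) hπ d hd' _ g1 hg1
    (Groth.Agent.H72.CanonMod.XT B (B ⧸ p) r') eX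
  haveI : Nontrivial (Groth.Agent.H72.CanonMod.XT B (B ⧸ p) r') :=
    Groth.Agent.H2.CanonMod.nontrivial_K d hd' hg1 _ eX
  have hI0 : I ≠ ⊥ := by
    intro h
    obtain ⟨k1, hk1⟩ := exists_ne (0 : Groth.Agent.H72.CanonMod.XT B (B ⧸ p) r')
    have h1 : ((eI k1 : I) : B ⧸ p) ∈ (⊥ : Ideal (B ⧸ p)) := h ▸ (eI k1).2
    have h2 : eI k1 = 0 := Subtype.ext ((Submodule.mem_bot (B ⧸ p)).1 h1)
    exact hk1 (eI.injective (h2.trans (map_zero eI).symm))
  obtain ⟨g, hg, hIg⟩ := Groth.Agent.H58.UFDPrin.isPrincipal_of_unmixed (B ⧸ p) I hI0 hI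
  have e2 : (B ⧸ p) ≃ₗ[B ⧸ p] I :=
    (LinearEquiv.toSpanNonzeroSingleton (B ⧸ p) (B ⧸ p) g hg).trans
      (LinearEquiv.ofEq _ _ hIg.symm)
  exact (Groth.Agent.S7701.result (B ⧸ p) d hd' _ g1 hg1
    (Groth.Agent.H72.CanonMod.XT B (B ⧸ p) r') eX).2 ⟨eI.trans e2.symm⟩

end Groth.Agent.S17750
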