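import Groth.Statements.S17754
import Mathlib

set_option autoImplicit false
universe u
open CAlg

namespace Groth.Agent.S17754

section helpers
variable (R : Type u) [CommRing R] [IsNoetherianRing R] [IsLocalRing R]

local notation "𝔪" => IsLocalRing.maximalIdeal R

theorem stab (I : ℕ → Ideal R) (hI : Antitone I) (k : ℕ) :
    ∃ N : ℕ, ∀ t : ℕ, I N ≤ I t ⊔ 𝔪 ^ k := by
  rcases Nat.eq_zero_or_pos k with hk | hk
  · refine ⟨0, fun t => ?_⟩
    rw [hk, pow_zero, Ideal.one_eq_top, sup_top_eq]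
    exact le_top
  · have hk0 : k ≠ 0 := Nat.pos_iff_ne_zero.mp hk
    have hmin : 𝔪 ∈ (𝔪 ^ k).minimalPrimes := by
      rw [← Ideal.radical_minimalPrimes, Ideal.radical_pow _ hk0,
        Ideal.IsPrime.radical inferInstance, Ideal.minimalPrimes_eq_subsingleton_self]
      exact Set.mem_singleton _
    have : IsArtinianRing (R ⧸ 𝔪 ^ k) :=
      IsLocalRing.quotient_artinian_of_mem_minimalPrimes_of_isLocalRing _ hmin
    let f : ℕ →o (Submodule (R ⧸ 𝔪 ^ k) (R ⧸ 𝔪 ^ k))ᵒᵈ :=
      ⟨fun s => OrderDual.toDual ((I s).map (Ideal.Quotient.mk (𝔪 ^ k))),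
        fun a b hab => Ideal.map_mono (hI hab)⟩
    obtain ⟨N, hN⟩ := IsArtinian.monotone_stabilizes f
    refine ⟨N, fun t => ?_⟩
    rcases le_total N t with h | h
    · have h1 : (I N).map (Ideal.Quotient.mk (𝔪 ^ k)) = (I t).map (Ideal.Quotient.mk (𝔪 ^ k)) :=
        hN t h
      intro x hx
      have h2 : Ideal.Quotient.mk (𝔪 ^ k) x ∈ (I t).map (Ideal.Quotient.mk (𝔪 ^ k)) := by
        rw [← h1]
        exact Ideal.mem_map_of_mem _ hx
      obtain ⟨y, hy, hxy⟩ :=
        (Ideal.mem_map_iff_of_surjective _ Ideal.Quotient.mk_surjective).mp h2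
      have h3 : x - y ∈ 𝔪 ^ k := by
        rw [← Ideal.Quotient.eq]
        exact hxy.symm
      have h4 : x = y + (x - y) := by ring
      rw [h4]
      exact Ideal.add_mem _ (Ideal.mem_sup_left hy) (Ideal.mem_sup_right h3)
    · exact (hI h).trans le_sup_left

theorem closed (J : Ideal R) (x : R) (hx : ∀ k, x ∈ J ⊔ 𝔪 ^ k) : x ∈ J := by
  have h := Ideal.iInf_pow_smul_eq_bot_of_isLocalRing (R := R) (M := R ⧸ J)
    (IsLocalRing.maximalIdeal R) (Ideal.IsPrime.ne_top inferInstance)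
  have h2 : (Ideal.Quotient.mk J x) ∈ (⨅ i : ℕ, 𝔪 ^ i • ⊤ : Submodule R (R ⧸ J)) := by
    rw [Submodule.mem_iInf]
    intro k
    obtain ⟨a, ha, e, he, rfl⟩ := Submodule.mem_sup.mp (hx k)
    have h3 : Ideal.Quotient.mk J (a + e) = e • (Ideal.Quotient.mk J 1) := by
      rw [map_add, Ideal.Quotient.eq_zero_iff_mem.mpr ha, zero_add, Algebra.smul_def, map_one, mul_one]
      rfl
    rw [h3]
    exact Submodule.smul_mem_smul he Submodule.mem_top
  rw [h, Submodule.mem_bot] at h2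
  exact Ideal.Quotient.eq_zero_iff_mem.mp h2

theorem main [IsAdicComplete 𝔪 R] (I : ℕ → Ideal R) (hI : Antitone I) (hinf : ⨅ s, I s = ⊥)
    (n : ℕ) : ∃ s : ℕ, I s ≤ 𝔪 ^ n := by
  by_contra hcon
  push Not at hcon
  choose σ hσ using stab R I hI
  obtain ⟨y0, hy0, hy0n⟩ := SetLike.not_le_iff_exists.mp (hcon (σ n))
  have step : ∀ (j : ℕ) (y : R), y ∈ I (σ (n + j)) →
      ∃ y' : R, y' ∈ I (σ (n + (j + 1))) ∧ y - y' ∈ 𝔪 ^ (n + j) := by
    intro j y hy
    obtain ⟨a, ha, e, he, hae⟩ := Submodule.mem_sup.mp (hσ (n + j) (σ (n + (j + 1))) hy)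
    refine ⟨a, ha, ?_⟩
    rw [← hae, add_sub_cancel_left]
    exact he
  choose! g hg1 hg2 using step
  obtain ⟨seq, hseq0, hseqS⟩ : ∃ seq : ℕ → R, seq 0 = y0 ∧ ∀ j, seq (j + 1) = g j (seq j) :=
    ⟨fun j => Nat.rec y0 (fun j y => g j y) j, rfl, fun j => rfl⟩
  have hmem : ∀ j, seq j ∈ I (σ (n + j)) := by
    intro j
    induction j with
    | zero => rw [hseq0]; exact hy0
    | succ j ih => rw [hseqS]; exact hg1 j _ ih
  have hdiff : ∀ j, seq j - seq (j + 1) ∈ 𝔪 ^ (n + j) := by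
    intro j
    rw [hseqS]
    exact hg2 j _ (hmem j)
  have hcauchy : ∀ a d, seq a - seq (a + d) ∈ 𝔪 ^ (n + a) := by
    intro a d
    induction d with
    | zero => rw [add_zero, sub_self]; exact Submodule.zero_mem _
    | succ d ih =>
      rw [← add_assoc, ← sub_add_sub_cancel (seq a) (seq (a + d)) (seq (a + d + 1))]
      refine Ideal.add_mem _ ih ?_
      exact Ideal.pow_le_pow_right (by omega) (hdiff (a + d))
  have htop : ∀ a : ℕ, (𝔪 ^ a • (⊤ : Submodule R R)) = 𝔪 ^ a := fun a => by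
    rw [smul_eq_mul, Ideal.mul_top]
  obtain ⟨L, hL⟩ := IsPrecomplete.prec (inferInstance : IsPrecomplete 𝔪 R) (f := seq) (by
    intro a b hab
    rw [SModEq.sub_mem, htop]
    obtain ⟨d, rfl⟩ := Nat.exists_eq_add_of_le hab
    exact Ideal.pow_le_pow_right (Nat.le_add_left a n) (hcauchy a d))
  have hL' : ∀ j, seq j - L ∈ 𝔪 ^ j := by
    intro j
    have := hL j
    rw [SModEq.sub_mem, htop] at this
    exact this
  have hLmem : ∀ t, L ∈ I t := by
    intro t
    apply closed R (I t) L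
    intro k
    have h1 : seq k ∈ I t ⊔ 𝔪 ^ k := by
      have := hσ (n + k) t (hmem k)
      have hle : I t ⊔ 𝔪 ^ (n + k) ≤ I t ⊔ 𝔪 ^ k :=
        sup_le_sup_left (Ideal.pow_le_pow_right (Nat.le_add_left k n)) _
      exact hle this
    have h2 : L = seq k - (seq k - L) := by ring
    rw [h2]
    exact Ideal.sub_mem _ h1 (Ideal.mem_sup_right (hL' k))
  have hL0 : L = 0 := by
    have h1 : L ∈ ⨅ s, I s := by
      rw [Submodule.mem_iInf]
      exact hLmem
    rw [hinf] at h1
    exact (Submodule.mem_bot R).mp h1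
  apply hy0n
  have h3 : y0 = (seq 0 - seq (0 + n)) + (seq (0 + n) - L) := by
    rw [hL0, hseq0]
    ring
  rw [h3]
  refine Ideal.add_mem _ ?_ ?_
  · have := hcauchy 0 n
    rwa [add_zero] at this
  · rw [zero_add]
    exact hL' n

end helpers

/-- Let R be a complete Noetherian local ring with maximal ideal m, and let I_0 ⊇ I_1 ⊇ I_2 ⊇ ⋯ be a
descending sequence of ideals of R whose intersection is zero. Then for every natural number n there
is an index s with I_s contained in m^n; that is, the filtration by the I_s is at least as fine as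
the m-adic one. -/
theorem result (R : Type u) [CommRing R] [IsNoetherianRing R] [IsLocalRing R] [IsAdicComplete (IsLocalRing.maximalIdeal R) R] (I : ℕ → Ideal R) (hI : Antitone I) (hinf : ⨅ s, I s = ⊥) (n : ℕ) : ∃ s : ℕ, I s ≤ IsLocalRing.maximalIdeal R ^ n := by
  exact main R I hI hinf n

end Groth.Agent.S17754
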