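import Groth.Statements.S17758
import Groth.Agent.S0326
import Groth.Agent.S0327
import Groth.Agent.S0332
import Groth.Agent.H58.LCMV

set_option linter.style.haveILetI false

set_option autoImplicit false
universe u
open LocCoh

namespace Groth.Agent.S17758


section helpers

/-- HLVT for a complete local domain. -/
theorem hlvt_domain (R : Type u) [CommRing R] [IsDomain R] [IsNoetherianRing R] [IsLocalRing R]
    [IsAdicComplete (IsLocalRing.maximalIdeal R) R] (d : ℕ) (hd : ringKrullDim R = d)
    (J : Ideal R) (hJ : 1 ≤ ringKrullDim (R ⧸ J)) (M : Type u) [AddCommGroup M] [Module R M]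
    (i : ℕ) (hi : d ≤ i) : Subsingleton (LocCoh.H J i M) := by
  refine Groth.Agent.S0332.result R J d hd ?_ M i hi
  intro p hp _
  let e : R ≃ₐ[R] AdicCompletion (IsLocalRing.maximalIdeal R) R :=
    AdicCompletion.ofAlgEquiv (IsLocalRing.maximalIdeal R)
  haveI : IsDomain (AdicCompletion (IsLocalRing.maximalIdeal R) R) :=
    MulEquiv.isDomain R e.symm.toMulEquiv
  have hp' : p = ⊥ := by
    rw [IsDomain.minimalPrimes_eq_singleton_bot] at hp
    exact hp
  subst hp'
  rw [sup_bot_eq]
  have hmap : J.map (algebraMap R (AdicCompletion (IsLocalRing.maximalIdeal R) R)) =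
      J.map (e : R →+* AdicCompletion (IsLocalRing.maximalIdeal R) R) := by
    congr 1
  rw [hmap]
  have e2 : (R ⧸ J) ≃+* (AdicCompletion (IsLocalRing.maximalIdeal R) R ⧸
      J.map (e : R →+* AdicCompletion (IsLocalRing.maximalIdeal R) R)) :=
    Ideal.quotientEquiv J _ e.toRingEquiv rfl
  rw [← ringKrullDim_eq_of_ringEquiv e2]
  exact hJ

/-- transfer of vanishing along equality of radicals -/
theorem subsingleton_of_radical_eq (R : Type u) [CommRing R] [IsNoetherianRing R] {J K : Ideal R}
    (hJK : J.radical = K.radical) (i : ℕ) (M : Type u) [AddCommGroup M] [Module R M]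
    (h : Subsingleton (LocCoh.H J i M)) : Subsingleton (LocCoh.H K i M) := by
  let e := (localCohomology.isoOfSameRadical hJK i).app (ModuleCat.of R M)
  exact e.toLinearEquiv.symm.toEquiv.subsingleton

/-- a prime between gives dimension at least one -/
theorem one_le_dim_quotient (R : Type u) [CommRing R] [IsLocalRing R] (J : Ideal R)
    (p : Ideal R) [p.IsPrime] (hJp : J ≤ p) (hp : p ≠ IsLocalRing.maximalIdeal R) :
    1 ≤ ringKrullDim (R ⧸ J) := by
  have hsurj : Function.Surjective (Ideal.Quotient.mk J) := Ideal.Quotient.mk_surjective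
  have hpm : p ≤ IsLocalRing.maximalIdeal R := IsLocalRing.le_maximalIdeal (Ideal.IsPrime.ne_top inferInstance)
  have hker : RingHom.ker (Ideal.Quotient.mk J) ≤ p := by rw [Ideal.mk_ker]; exact hJp
  have hkerm : RingHom.ker (Ideal.Quotient.mk J) ≤ IsLocalRing.maximalIdeal R := hker.trans hpm
  haveI hp' : (p.map (Ideal.Quotient.mk J)).IsPrime := Ideal.map_isPrime_of_surjective hsurj hker
  haveI hm' : ((IsLocalRing.maximalIdeal R).map (Ideal.Quotient.mk J)).IsPrime :=
    Ideal.map_isPrime_of_surjective hsurj hkerm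
  rw [ringKrullDim, Order.one_le_krullDim_iff]
  refine ⟨⟨_, hp'⟩, ⟨_, hm'⟩, ?_⟩
  rw [← PrimeSpectrum.asIdeal_lt_asIdeal]
  refine lt_of_le_of_ne (Ideal.map_mono hpm) ?_
  intro heq
  apply hp
  have h1 := congrArg (Ideal.comap (Ideal.Quotient.mk J)) heq
  rw [Ideal.comap_map_of_surjective _ hsurj, Ideal.comap_map_of_surjective _ hsurj] at h1
  have h2 : Ideal.comap (Ideal.Quotient.mk J) ⊥ ≤ p := hker
  have h3 : Ideal.comap (Ideal.Quotient.mk J) ⊥ ≤ IsLocalRing.maximalIdeal R := hkerm
  rw [sup_eq_left.mpr h2, sup_eq_left.mpr h3] at h1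
  exact h1

end helpers

theorem result' (R : Type u) [CommRing R] [IsDomain R] [IsNoetherianRing R] [IsLocalRing R]
    [IsAdicComplete (IsLocalRing.maximalIdeal R) R] (d : ℕ) (hd : ringKrullDim R = d) (t : ℕ)
    (ht : t + 2 ≤ d) (f : Fin t → R) (I : Ideal R) (hItop : I ≠ ⊤)
    (hI : I.radical = (Ideal.span (Set.range f)).radical) :
    IsConnected {x : PrimeSpectrum R | I ≤ x.asIdeal ∧
      x.asIdeal ≠ IsLocalRing.maximalIdeal R} := by
  classical
  set m := IsLocalRing.maximalIdeal R with hm
  have hIm : I ≤ m := IsLocalRing.le_maximalIdeal hItop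
  -- vanishing above `t` for ideals with the radical of `I`
  have hcd : ∀ (K : Ideal R), K.radical = I.radical → ∀ (i : ℕ), t < i →
      Subsingleton (LocCoh.H K i R) := by
    intro K hK i hi
    let s : Finset R := Finset.image f Finset.univ
    have hs : (s : Set R) = Set.range f := by simp [s]
    have hcard : s.card ≤ t := by
      refine (Finset.card_image_le).trans ?_
      simp
    have h1 := Groth.Agent.S0326.result R s R i (lt_of_le_of_lt hcard hi)
    rw [hs] at h1
    exact subsingleton_of_radical_eq R (by rw [hK, hI]) i R h1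
  refine ⟨?_, ?_⟩
  · -- nonempty
    by_contra hne
    rw [Set.not_nonempty_iff_eq_empty] at hne
    have hall : ∀ q : Ideal R, q.IsPrime → I ≤ q → q = m := by
      intro q hq hIq
      by_contra hqm
      have : (⟨q, hq⟩ : PrimeSpectrum R) ∈ ({x : PrimeSpectrum R | I ≤ x.asIdeal ∧
          x.asIdeal ≠ IsLocalRing.maximalIdeal R} : Set (PrimeSpectrum R)) := ⟨hIq, hqm⟩
      rw [hne] at this
      exact this
    have hmin : m ∈ I.minimalPrimes := by
      refine ⟨⟨inferInstance, hIm⟩, ?_⟩
      rintro q ⟨hq, hIq⟩ _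
      rw [hall q hq hIq]
    rw [← Ideal.radical_minimalPrimes, hI, Ideal.radical_minimalPrimes] at hmin
    have h1 := Ideal.height_le_card_of_mem_minimalPrimes_span (Set.finite_range f) hmin
    have h2 : (Set.range f).ncard ≤ t := by
      have := Set.ncard_image_le (f := f) (Set.finite_univ)
      rw [Set.image_univ] at this
      simpa using this
    have h3 : m.height = (d : ℕ∞) := by
      have := IsLocalRing.maximalIdeal_height_eq_ringKrullDim (R := R)
      rw [hd] at this
      exact_mod_cast this
    rw [h3] at h1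
    have : (d : ℕ∞) ≤ (t : ℕ∞) := h1.trans (by exact_mod_cast h2)
    have : d ≤ t := by exact_mod_cast this
    omega
  · -- preconnected
    rw [isPreconnected_closed_iff]
    intro Z Z' hZ hZ' hcov hne hne'
    by_contra hempty
    rw [Set.not_nonempty_iff_eq_empty] at hempty
    obtain ⟨J₀, rfl⟩ := (PrimeSpectrum.isClosed_iff_zeroLocus_ideal _).mp hZ
    obtain ⟨K₀, rfl⟩ := (PrimeSpectrum.isClosed_iff_zeroLocus_ideal _).mp hZ'
    set J := I ⊔ J₀ with hJ
    set K := I ⊔ K₀ with hK
    obtain ⟨p, ⟨hpI, hpm⟩, hpJ⟩ := hne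
    obtain ⟨q, ⟨hqI, hqm⟩, hqK⟩ := hne'
    rw [PrimeSpectrum.mem_zeroLocus] at hpJ hqK
    have hJp : J ≤ p.asIdeal := sup_le hpI hpJ
    have hKq : K ≤ q.asIdeal := sup_le hqI hqK
    have hJm : J ≤ m := hJp.trans (IsLocalRing.le_maximalIdeal p.2.ne_top)
    have hKm : K ≤ m := hKq.trans (IsLocalRing.le_maximalIdeal q.2.ne_top)
    -- radicals
    have hrad1 : (J ⊓ K).radical = I.radical := by
      apply le_antisymm
      · rw [Ideal.radical_eq_sInf I]
        refine le_sInf ?_
        rintro r ⟨hIr, hr⟩
        have hJK : J ≤ r ∨ K ≤ r := by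
          by_cases hrm : r = m
          · left; rw [hrm]; exact hJm
          · have hmem : (⟨r, hr⟩ : PrimeSpectrum R) ∈ PrimeSpectrum.zeroLocus (J₀ : Set R) ∪
                PrimeSpectrum.zeroLocus (K₀ : Set R) := hcov ⟨hIr, hrm⟩
            rcases hmem with h | h
            · left; exact sup_le hIr ((PrimeSpectrum.mem_zeroLocus _ _).mp h)
            · right; exact sup_le hIr ((PrimeSpectrum.mem_zeroLocus _ _).mp h)
        rcases hJK with h | h
        · exact hr.radical_le_iff.mpr (inf_le_left.trans h)
        · exact hr.radical_le_iff.mpr (inf_le_right.trans h)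
      · exact Ideal.radical_mono (le_inf le_sup_left le_sup_left)
    have hrad2 : (J ⊔ K).radical = m.radical := by
      have hprime : ∀ r : Ideal R, r.IsPrime → J ⊔ K ≤ r → r = m := by
        intro r hr hle
        by_contra hrm
        have h1 : (⟨r, hr⟩ : PrimeSpectrum R) ∈ ({x : PrimeSpectrum R | I ≤ x.asIdeal ∧
            x.asIdeal ≠ IsLocalRing.maximalIdeal R} ∩ (PrimeSpectrum.zeroLocus (J₀ : Set R) ∩
              PrimeSpectrum.zeroLocus (K₀ : Set R)) : Set (PrimeSpectrum R)) := by
          refine ⟨⟨(le_sup_left.trans le_sup_left).trans hle, hrm⟩, ?_, ?_⟩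
          · have h0 : J₀ ≤ r := ((le_sup_right : J₀ ≤ J).trans (le_sup_left : J ≤ J ⊔ K)).trans hle
            exact (PrimeSpectrum.mem_zeroLocus _ _).mpr h0
          · have h0 : K₀ ≤ r := ((le_sup_right : K₀ ≤ K).trans (le_sup_right : K ≤ J ⊔ K)).trans hle
            exact (PrimeSpectrum.mem_zeroLocus _ _).mpr h0
        rw [hempty] at h1
        exact h1
      apply le_antisymm
      · exact Ideal.radical_mono (sup_le hJm hKm)
      · rw [Ideal.radical_eq_sInf (J ⊔ K)]
        refine le_sInf ?_
        rintro r ⟨hle, hr⟩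
        rw [hprime r hr hle]
        exact (Ideal.IsPrime.isRadical inferInstance).radical.le
    -- HLVT for J and K
    have hdimJ : 1 ≤ ringKrullDim (R ⧸ J) := one_le_dim_quotient R J p.asIdeal hJp hpm
    have hdimK : 1 ≤ ringKrullDim (R ⧸ K) := one_le_dim_quotient R K q.asIdeal hKq hqm
    haveI hHJ : Subsingleton (LocCoh.H J d R) := hlvt_domain R d hd J hdimJ R d le_rfl
    haveI hHK : Subsingleton (LocCoh.H K d R) := hlvt_domain R d hd K hdimK R d le_rfl
    -- Mayer–Vietoris
    obtain ⟨e, he⟩ : ∃ e, d = e + 1 := ⟨d - 1, by omega⟩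
    subst he
    obtain ⟨δ, hδ1, -, -⟩ := Groth.Agent.H58.LC.mayer_vietoris J K (ModuleCat.of R R)
    haveI hinf : Subsingleton (LocCoh.H (J ⊓ K) e R) := hcd (J ⊓ K) hrad1 e (by omega)
    have hsup : Subsingleton (LocCoh.H (J ⊔ K) (e + 1) R) := by
      refine ⟨fun x y => ?_⟩
      have hx : x = 0 := by
        have := (hδ1 e x).mp ⟨Subsingleton.elim _ _, Subsingleton.elim _ _⟩
        obtain ⟨z, rfl⟩ := this
        rw [Subsingleton.elim z 0, map_zero]
      have hy : y = 0 := by
        have := (hδ1 e y).mp ⟨Subsingleton.elim _ _, Subsingleton.elim _ _⟩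
        obtain ⟨z, rfl⟩ := this
        rw [Subsingleton.elim z 0, map_zero]
      rw [hx, hy]
    have hm' : Subsingleton (LocCoh.H m (e + 1) R) :=
      subsingleton_of_radical_eq R hrad2 (e + 1) R hsup
    haveI := Groth.Agent.S0327.result R (e + 1) hd
    exact not_subsingleton _ hm'


/-- Let R be a complete Noetherian local domain of Krull dimension d with maximal ideal m, and I a
proper ideal of R of arithmetic rank at most d − 2: there are elements f_1, …, f_t with t + 2 ≤ d
such that I and (f_1, …, f_t) have the same radical. Then the punctured spectrum of R ⧸ I, viewed as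
the set of prime ideals of R that contain I and differ from m, is a nonempty connected subset of
Spec R. (Connectedness is taken here to include nonemptiness, so the unit ideal, whose punctured
spectrum is empty, is excluded; for a proper I nonemptiness is automatic, since otherwise I would be
m-primary and m would be minimal over an ideal generated by t ≤ d − 2 elements, against Krull's
height bound.) -/
theorem result (R : Type u) [CommRing R] [IsDomain R] [IsNoetherianRing R] [IsLocalRing R] [IsAdicComplete (IsLocalRing.maximalIdeal R) R] (d : ℕ) (hd : ringKrullDim R = d) (t : ℕ) (ht : t + 2 ≤ d) (f : Fin t → R) (I : Ideal R) (hItop : I ≠ ⊤) (hI : I.radical = (Ideal.span (Set.range f)).radical) : IsConnected {x : PrimeSpectrum R | I ≤ x.asIdeal ∧ x.asIdeal ≠ IsLocalRing.maximalIdeal R} := by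
  exact result' R d hd t ht f I hItop hI

end Groth.Agent.S17758
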