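import Groth.Statements.S17761
import Mathlib
import Groth.Agent.H2.LCNonvanishMod

set_option autoImplicit false
universe u
open LocCoh

namespace Groth.Agent.S17761

/-- Let R be a Noetherian local ring with maximal ideal m and M a finitely generated R-module whose
support has positive dimension n. Then the local cohomology module H^n_m(M) is not a finitely
generated R-module. -/
theorem result (R : Type u) [CommRing R] [IsNoetherianRing R] [IsLocalRing R] (M : Type u) [AddCommGroup M] [Module R M] [Module.Finite R M] (n : ℕ) (hn0 : 0 < n) (hn : Module.supportDim R M = n) : ¬ Module.Finite R (LocCoh.H (IsLocalRing.maximalIdeal R) n M) := by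
  classical
  intro hfin
  have hMnt : Nontrivial M := by
    rw [← Module.supportDim_ne_bot_iff_nontrivial R, hn]
    exact WithBot.coe_ne_bot
  have hnv := Groth.Agent.H2.LCNonvanishMod.nontrivial_H_supportDim R M n hn
  have hdimJ : ringKrullDim (R ⧸ Module.annihilator R M) = n := by
    rw [← Module.supportDim_eq_ringKrullDim_quotient_annihilator]; exact hn
  obtain ⟨S, hS⟩ := IsNoetherian.noetherian (IsLocalRing.maximalIdeal R)
  have hSm : ∀ i : S, (i : R) ∈ IsLocalRing.maximalIdeal R := fun i => by
    rw [← hS]; exact Submodule.subset_span i.2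
  let ψ : (S → M) →ₗ[R] M := ∑ i : S, (i : R) • (LinearMap.proj i : (S → M) →ₗ[R] M)
  have hψ : ∀ a : S → M, ψ a = ∑ i : S, (i : R) • a i := by
    intro a
    simp only [ψ, LinearMap.sum_apply, LinearMap.smul_apply, LinearMap.proj_apply]
  have hrange : LinearMap.range ψ = IsLocalRing.maximalIdeal R • (⊤ : Submodule R M) := by
    apply le_antisymm
    · rintro _ ⟨a, rfl⟩
      rw [hψ]
      exact Submodule.sum_mem _ fun i _ => Submodule.smul_mem_smul (hSm i) Submodule.mem_top
    · rw [Submodule.smul_le]
      intro r hr v _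
      rw [← hS] at hr
      induction hr using Submodule.span_induction with
      | mem s hs =>
        refine ⟨Pi.single ⟨s, hs⟩ v, ?_⟩
        rw [hψ, Finset.sum_eq_single ⟨s, hs⟩]
        · rw [Pi.single_eq_same]
        · intro j _ hj
          rw [Pi.single_eq_of_ne hj, smul_zero]
        · intro h; exact absurd (Finset.mem_univ _) h
      | zero => rw [zero_smul]; exact Submodule.zero_mem _
      | add s t _ _ hs ht => rw [add_smul]; exact Submodule.add_mem _ hs ht
      | smul c s _ hs => rw [smul_eq_mul, mul_smul]; exact Submodule.smul_mem _ c hs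
  have hex : Function.Exact ψ
      (Submodule.mkQ (IsLocalRing.maximalIdeal R • (⊤ : Submodule R M))) := by
    rw [LinearMap.exact_iff, Submodule.ker_mkQ, hrange]
  have hvan : ∀ N : Submodule R (S → M),
      Subsingleton (LocCoh.H (IsLocalRing.maximalIdeal R) (n + 1) N) := fun N =>
    Groth.Agent.H2.LCNonvanishMod.subsingleton_H_of_killed_ideal R (Module.annihilator R M) N
      (fun r hr x => Subtype.ext (funext fun i => Module.mem_annihilator.1 hr (x.1 i))) n
      (le_of_eq hdimJ) (n + 1) (Nat.lt_succ_self n)
  have hE := Groth.Agent.H2.LCNonvanish.Hmap_exact_of_vanishing (IsLocalRing.maximalIdeal R) n ψ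
    (Submodule.mkQ (IsLocalRing.maximalIdeal R • (⊤ : Submodule R M))) hex
    (Submodule.mkQ_surjective _) hvan
  have hk : Subsingleton (LocCoh.H (IsLocalRing.maximalIdeal R) n
      (M ⧸ (IsLocalRing.maximalIdeal R • (⊤ : Submodule R M)))) := by
    refine Groth.Agent.H58.LC.subsingleton_H_of_isPowerTorsion' (IsLocalRing.maximalIdeal R) _
      (fun q => ⟨1, fun a ha => ?_⟩) n hn0
    rw [pow_one] at ha
    obtain ⟨v, rfl⟩ := Submodule.Quotient.mk_surjective _ q
    rw [← Submodule.Quotient.mk_smul, Submodule.Quotient.mk_eq_zero]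
    exact Submodule.smul_mem_smul ha Submodule.mem_top
  have htop : (IsLocalRing.maximalIdeal R) •
      (⊤ : Submodule R (LocCoh.H (IsLocalRing.maximalIdeal R) n M)) = ⊤ := by
    rw [eq_top_iff]
    intro v _
    obtain ⟨u, rfl⟩ := (hE v).1 (Subsingleton.elim _ _)
    rw [Groth.Agent.H2.LCNonvanish.Hmap_sum, LinearMap.sum_apply]
    refine Submodule.sum_mem _ fun i _ => ?_
    rw [Groth.Agent.H58.LC.Hmap_smul, LinearMap.smul_apply]
    exact Submodule.smul_mem_smul (hSm i) Submodule.mem_top
  have h1 := Submodule.eq_bot_of_le_smul_of_le_jacobson_bot (IsLocalRing.maximalIdeal R)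
    (⊤ : Submodule R (LocCoh.H (IsLocalRing.maximalIdeal R) n M)) Module.Finite.fg_top
    (le_of_eq htop.symm) (IsLocalRing.maximalIdeal_le_jacobson _)
  exact top_ne_bot h1

end Groth.Agent.S17761
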