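import Groth.Statements.S17765
import Groth.Agent.H72.ABLe
import Groth.Agent.H15.RegCM
import Groth.Agent.H29.CM4

set_option autoImplicit false
universe u
open CategoryTheory
open LocCoh

namespace Groth.Agent.S17765

open Groth.Agent.H72.PdLocal Groth.Agent.H72.PdExt

/-- Let B be a regular local ring, M a finitely generated B-module and p an associated prime ideal of M.
Then the height of p is at most the projective dimension of M: for every n such that M has
projective dimension at most n, ht p ≤ n. -/
theorem result (B : Type u) [CommRing B] [IsRegularLocalRing B] (M : Type u) [AddCommGroup M] [Module B M] [Module.Finite B M] (p : Ideal B) (hp : p ∈ associatedPrimes B M) (n : ℕ) (hn : HasProjectiveDimensionLE (ModuleCat.of B M) n) : p.height ≤ n := by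
  classical
  have hpp : p.IsPrime := hp.isPrime
  obtain ⟨-, m, hm⟩ := (isAssociatedPrime_iff (I := p) (M := M)).mp hp
  have hmem : ∀ a : B, a ∈ p ↔ a • m = 0 := fun a => by
    conv_lhs => rw [hm]
    rw [Submodule.mem_colon_singleton, Submodule.mem_bot]
  have hm1 : LocalizedModule.mkLinearMap p.primeCompl M m ≠ 0 := by
    intro h0
    obtain ⟨c, hc⟩ := (IsLocalizedModule.eq_zero_iff p.primeCompl
      (LocalizedModule.mkLinearMap p.primeCompl M)).mp h0
    exact (Ideal.mem_primeCompl_iff.mp c.2) ((hmem c.1).mpr hc)
  have hnoreg : ∀ x ∈ IsLocalRing.maximalIdeal (Localization.AtPrime p),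
      ¬ IsSMulRegular (LocalizedModule p.primeCompl M) x := by
    intro x hx hreg
    apply hm1
    apply hreg
    show x • LocalizedModule.mkLinearMap p.primeCompl M m =
      x • (0 : LocalizedModule p.primeCompl M)
    rw [smul_zero]
    obtain ⟨a, s, rfl⟩ := IsLocalization.exists_mk'_eq p.primeCompl x
    have ha : a ∈ p :=
      (IsLocalization.AtPrime.mk'_mem_maximal_iff (Localization.AtPrime p) p a s).mp hx
    rw [LocalizedModule.mkLinearMap_apply, ← Localization.mk_eq_mk'_apply,
      LocalizedModule.mk_smul_mk, (hmem a).mp ha, LocalizedModule.zero_mk]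
  -- `B` is Cohen–Macaulay
  obtain ⟨d, hd⟩ := Groth.Agent.H29.CM.exists_nat_supportDim (A := B) (M := B)
  have hCM : LocCoh.IsCohenMacaulayModule B B := by
    refine Groth.Agent.H29.CM.isCM_of_hasSeq hd
      (Groth.Agent.H15.RegCM.hasSeq_of_isRegularLocalRing B d ?_)
    have h1 : ((IsLocalRing.maximalIdeal B).height : WithBot ℕ∞) = ringKrullDim B :=
      IsLocalRing.maximalIdeal_height_eq_ringKrullDim
    rw [Module.supportDim_self_eq_ringKrullDim, ← h1, WithBot.coe_inj] at hd
    rw [hd]
  -- localize
  let e : LocalizedModule p.primeCompl B ≃ₗ[Localization.AtPrime p] Localization.AtPrime p :=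
    (locEquiv p.primeCompl B).symm ≪≫ₗ
      TensorProduct.AlgebraTensorModule.rid B (Localization.AtPrime p) (Localization.AtPrime p)
  have hntB : Nontrivial (LocalizedModule p.primeCompl B) := e.toEquiv.nontrivial
  have hsupp : (⟨p, hpp⟩ : PrimeSpectrum B) ∈ Module.support B B := Module.mem_support_iff.mpr hntB
  obtain ⟨r, -, hdim, hdepth⟩ := Groth.Agent.H29.CM.isCM_atPrime_aux hCM ⟨p, hpp⟩ hsupp
  have hr : LocCoh.depth (Localization.AtPrime p) (Localization.AtPrime p) = r := by
    rw [← hdepth]
  have hht : p.height = r := by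
    rw [Module.supportDim_eq_of_equiv e, Module.supportDim_self_eq_ringKrullDim,
      IsLocalization.AtPrime.ringKrullDim_eq_height p (Localization.AtPrime p),
      WithBot.coe_inj] at hdim
    exact hdim
  -- projective dimension of the localization
  have hpd : PdLT (Localization.AtPrime p) (LocalizedModule p.primeCompl M) (n + 1) := by
    obtain ⟨K, i1, i2, i3, hK1, -, hK3⟩ := exists_syzygy_loc B n M
    have hproj : Module.Projective B K := hK1.mp hn
    rw [hK3 p.primeCompl]
    exact (projective_loc_iff p.primeCompl K).mpr inferInstance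
  have : Nontrivial (LocalizedModule p.primeCompl M) := ⟨⟨_, 0, hm1⟩⟩
  obtain ⟨s, e', hs, hse, hen⟩ := Groth.Agent.H72.ABLe.exists_depth_add_eq
    (LocalizedModule p.primeCompl M) n hpd r hr
  have hs0 : s = 0 := by
    by_contra hne
    have h1 : ((1 : ℕ) : ℕ∞) ≤
        LocCoh.depth (Localization.AtPrime p) (LocalizedModule p.primeCompl M) := by
      rw [hs]
      exact_mod_cast Nat.one_le_iff_ne_zero.mpr hne
    obtain ⟨rs, hw, hmem', hlen⟩ := (Groth.Agent.H15.Depth.le_idealDepth_iff
      (Groth.Agent.H29.maximalIdeal_smul_top_ne_top (Localization.AtPrime p)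
        (LocalizedModule p.primeCompl M)) 1).mp h1
    obtain ⟨x, rfl⟩ := List.length_eq_one_iff.mp hlen
    have hreg : IsSMulRegular (LocalizedModule p.primeCompl M) x :=
      ((RingTheory.Sequence.isWeaklyRegular_cons_iff (LocalizedModule p.primeCompl M) x []).mp
        hw).1
    exact hnoreg x (hmem' x (List.mem_singleton_self x)) hreg
  rw [hht]
  exact_mod_cast (by omega : r ≤ n)

end Groth.Agent.S17765
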