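import Groth.Statements.S17766
import Groth.Agent.H58.CanonIdeal
import Groth.Agent.S0341

set_option autoImplicit false
universe u
open CategoryTheory Opposite
open LocCoh

namespace Groth.Agent.S17766

/-- Let B be a regular local ring, p a prime ideal of B of height r, and suppose that A = B ⧸ p is
Cohen–Macaulay. Then the B-module Ext^r_B(A, B) is isomorphic either to A itself or to a proper
ideal I of A which is unmixed of height one, i.e. every associated prime of A ⧸ I has height one in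
A (existence of a B-linear isomorphism in each case). -/
theorem result (B : Type u) [CommRing B] [IsRegularLocalRing B] (p : Ideal B) [p.IsPrime] [LocCoh.IsCohenMacaulayLocalRing (B ⧸ p)] (r : ℕ) (hr : p.height = r) : Nonempty (((Ext B (ModuleCat.{u} B) r).obj (op (ModuleCat.of B (B ⧸ p)))).obj (ModuleCat.of B B) ≃ₗ[B] (B ⧸ p)) ∨ ∃ I : Ideal (B ⧸ p), I ≠ ⊤ ∧ (∀ q ∈ associatedPrimes (B ⧸ p) ((B ⧸ p) ⧸ I), q.height = 1) ∧ Nonempty (((Ext B (ModuleCat.{u} B) r).obj (op (ModuleCat.of B (B ⧸ p)))).obj (ModuleCat.of B B) ≃ₗ[B] I) := by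
  haveI hG : LocCoh.IsGorensteinLocalRing B := Groth.Agent.S0342.result B
  have hπ : Function.Surjective (algebraMap B (B ⧸ p)) := Ideal.Quotient.mk_surjective
  have hCM : LocCoh.IsCohenMacaulayModule B B := (Groth.Agent.S0341.result B).supportDim_eq_depth
  obtain ⟨r', d, hr', hd, hsum⟩ := Groth.Agent.H72.LDLoc.exists_height_dim B hCM p
  have hrr : r' = r := by
    have : (r' : ℕ∞) = (r : ℕ∞) := by rw [← hr', hr]
    exact_mod_cast this
  subst hrr
  have hn' : ringKrullDim B = ((d + r' : ℕ) : WithBot ℕ∞) := by rw [hsum]; rfl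
  have hd' : ringKrullDim (B ⧸ p) = (d : WithBot ℕ∞) := by rw [hd]; rfl
  obtain ⟨f', hf'⟩ := Groth.Agent.S11665.result B (d + r') hn'
  obtain ⟨g1, hg1⟩ :=
    Groth.Agent.H2.Matlis.exists_isInjectiveHull_coext (A := B) (B := B ⧸ p) hf'
  letI : Module (B ⧸ p) (Groth.Agent.H72.CanonMod.XT B (B ⧸ p) r') :=
    Groth.Agent.H72.CanonMod.moduleXT B (B ⧸ p) hπ r'
  haveI : IsScalarTower B (B ⧸ p) (Groth.Agent.H72.CanonMod.XT B (B ⧸ p) r') :=
    IsScalarTower.of_algebraMap_smul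
      (fun c x => Groth.Agent.H72.CanonMod.moduleXT_algebraMap_smul B (B ⧸ p) hπ r' c x)
  haveI : Module.Finite B (B ⧸ p) :=
    Module.Finite.of_surjective (Algebra.linearMap B (B ⧸ p)) hπ
  haveI : Module.Finite B (Groth.Agent.H72.CanonMod.XT B (B ⧸ p) r') :=
    Groth.Agent.H72.LDLoc.finite_ext B r' (B ⧸ p)
  haveI : Module.Finite (B ⧸ p) (Groth.Agent.H72.CanonMod.XT B (B ⧸ p) r') :=
    Module.Finite.of_restrictScalars_finite B (B ⧸ p) (Groth.Agent.H72.CanonMod.XT B (B ⧸ p) r')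
  obtain ⟨eX⟩ := Groth.Agent.H72.CanonMod.canon_XT B (B ⧸ p) hπ (d + r') d hn' hd' r'
    (by omega) _ g1 hg1
  obtain ⟨I, ⟨eI⟩, hI⟩ := Groth.Agent.H58.CanonIdeal.canon_iso_ideal B (B ⧸ p) hπ d hd' _ g1 hg1
    (Groth.Agent.H72.CanonMod.XT B (B ⧸ p) r') eX
  let br := Groth.Agent.H58.LCBridge.bridge (ModuleCat.of B (B ⧸ p)) (ModuleCat.of B B) r'
  by_cases hItop : I = ⊤
  · left
    exact ⟨br.trans ((eI.restrictScalars B).trans
      (((LinearEquiv.ofEq I ⊤ hItop).restrictScalars B).trans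
        (Submodule.topEquiv.restrictScalars B)))⟩
  · right
    exact ⟨I, hItop, hI, ⟨br.trans (eI.restrictScalars B)⟩⟩

end Groth.Agent.S17766
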