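import Groth.Statements.S17768
import Groth.Agent.H98.GrArt

set_option autoImplicit false
universe u
open GrLC

namespace Groth.Agent.S17768


open Groth.Agent.H98.GrCat

/-- Let R = ⊕_{n ≥ 0} R_n be a Noetherian positively ℤ-graded ring which is *local with unique
homogeneous maximal ideal m (equivalently R_0 is local), and let M be a finitely generated graded
R-module. Then for every i and every n the homogeneous piece H^i_m(M)_n of the graded local
cohomology with support in m, computed from any *injective resolution of M in the graded category,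
is an Artinian R_0-module. -/
theorem result (R : Type u) [CommRing R] [IsNoetherianRing R] (𝒜 : ℤ → AddSubgroup R) [GradedRing 𝒜] (hpos : ∀ n : ℤ, n < 0 → 𝒜 n = ⊥) (m : HomogeneousIdeal 𝒜) (hm : GrLC.IsStarLocal 𝒜 m) (M : Type u) [AddCommGroup M] [Module R M] [Module.Finite R M] (ℳ : ℤ → AddSubgroup M) [DirectSum.Decomposition ℳ] [SetLike.GradedSMul 𝒜 ℳ] (E : GrLC.StarInjRes 𝒜 ℳ) (i : ℕ) (n : ℤ) : IsArtinian (GrLC.deg0 𝒜) (E.Hcomp m i n) := by
  letI := HDec E m i
  haveI := HGSMul E m i
  haveI := isArtinian_H_of_isCoatom hpos m hm.1 E i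
  exact isArtinian_piece_of_isArtinian 𝒜 (E.Hgr m i) n (E.Hcomp m i n) (fun _ => Iff.rfl)

end Groth.Agent.S17768
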