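import Groth.Statements.S17770
import Groth.Agent.H98.GrSerre

set_option autoImplicit false
universe u
open BigOperators
open GrLC

namespace Groth.Agent.S17770


open Groth.Agent.H98.GrCat Groth.Agent.H98.GrHt

/-- Let R = ⊕_{n ≥ 0} R_n be a Noetherian positively ℤ-graded ring which is standard graded (irrelevant
ideal generated by R_1), with R_0 Artinian, *local with unique homogeneous maximal ideal m, and of
Krull dimension d. Let M be a finitely generated graded R-module, H_M(n) = ℓ_{R_0}(M_n) its Hilbert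
function and P_M ∈ ℚ[X] its Hilbert polynomial, i.e. a polynomial with P_M(n) = H_M(n) for all
sufficiently large n (taken as given). Then for every integer n, H_M(n) − P_M(n) = Σ_{i = 0}^{d}
(−1)^i ℓ_{R_0}(H^i_m(M)_n), where H^i_m(M)_n are the homogeneous pieces of graded local cohomology
with support in m computed from any *injective resolution of M (their lengths are finite, and the
pieces vanish for i > d). -/
theorem result (R : Type u) [CommRing R] [IsNoetherianRing R] (𝒜 : ℤ → AddSubgroup R) [GradedRing 𝒜] (hpos : ∀ n : ℤ, n < 0 → 𝒜 n = ⊥) (hstd : Ideal.span (⋃ n ∈ Set.Ioi (0 : ℤ), (𝒜 n : Set R)) = Ideal.span ((𝒜 1 : AddSubgroup R) : Set R)) [IsArtinianRing (GrLC.deg0 𝒜)] (m : HomogeneousIdeal 𝒜) (hm : GrLC.IsStarLocal 𝒜 m) (d : ℕ) (hd : ringKrullDim R = d) (M : Type u) [AddCommGroup M] [Module R M] [Module.Finite R M] (ℳ : ℤ → AddSubgroup M) [DirectSum.Decomposition ℳ] [SetLike.GradedSMul 𝒜 ℳ] (E : GrLC.StarInjRes 𝒜 ℳ) (P : Polynomial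 ℚ) (hP : ∃ N : ℤ, ∀ n : ℤ, N ≤ n → P.eval (n : ℚ) = ((Module.length (GrLC.deg0 𝒜) (GrLC.comp 𝒜 ℳ n)).toNat : ℚ)) (n : ℤ) : ((Module.length (GrLC.deg0 𝒜) (GrLC.comp 𝒜 ℳ n)).toNat : ℚ) - P.eval (n : ℚ) = ∑ i ∈ Finset.range (d + 1), (-1 : ℚ) ^ i * ((Module.length (GrLC.deg0 𝒜) (E.Hcomp m i n)).toNat : ℚ) := by
  classical
  have hstd' : (irr 𝒜).toIdeal = Ideal.span ((𝒜 1 : AddSubgroup R) : Set R) := hstd
  have h := serre_irr 𝒜 hpos d hd hstd' M ℳ E P hP n
  have hgam : ∀ (X : Type u) [AddCommGroup X] [Module R X],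
      GrLC.gam m.toIdeal X = GrLC.gam (irr 𝒜).toIdeal X := fun X _ _ =>
    gam_eq_of_radical _ _ (le_radical_irr 𝒜 hpos m hm)
      ((irr_le 𝒜 hpos m hm.1).trans Ideal.le_radical) X
  have h2 : chi E (irr 𝒜) d n = ∑ i ∈ Finset.range (d + 1), (-1 : ℚ) ^ i *
      ((Module.length (GrLC.deg0 𝒜) (E.Hcomp m i n)).toNat : ℚ) := by
    unfold chi
    exact Finset.sum_congr rfl (fun i _ => by
      rw [← len_Hcomp_congr E m (irr 𝒜) hgam i n]
      rfl)
  rw [← h2, ← h]
  rfl

end Groth.Agent.S17770
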