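import Groth.Statements.S17771
import Groth.Agent.H98.GrCMv
import Groth.Agent.H98.GrRad
import Groth.Agent.H98.GrKos

set_option autoImplicit false
universe u
open GrLC

namespace Groth.Agent.S17771

open Groth.Agent.H98.GrCat Groth.Agent.H98.GrHt

/-- Let R = ⊕_{n ≥ 0} R_n be a positively ℤ-graded ring which is standard graded (irrelevant ideal
generated by R_1), with R_0 Artinian, *local with unique homogeneous maximal ideal m, and
Cohen–Macaulay of Krull dimension d. Then the a-invariant of R is at least −d: the end (largest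
nonzero degree) of the graded local cohomology module H^d_m(R), computed from any *injective
resolution of R in the graded category, is ≥ −d. (Equality holds exactly for polynomial rings
R_0[T_1, …, T_d]; that characterisation is not part of this statement.) -/
theorem result (R : Type u) [CommRing R] [LocCoh.IsCohenMacaulayRing R] (𝒜 : ℤ → AddSubgroup R) [GradedRing 𝒜] (hpos : ∀ n : ℤ, n < 0 → 𝒜 n = ⊥) (hstd : Ideal.span (⋃ n ∈ Set.Ioi (0 : ℤ), (𝒜 n : Set R)) = Ideal.span ((𝒜 1 : AddSubgroup R) : Set R)) [IsArtinianRing (GrLC.deg0 𝒜)] (m : HomogeneousIdeal 𝒜) (hm : GrLC.IsStarLocal 𝒜 m) (d : ℕ) (hd : ringKrullDim R = d) (I : GrLC.StarInjRes 𝒜 𝒜) : (((-(d : ℤ) : ℤ) : WithTop ℤ) : WithBot (WithTop ℤ)) ≤ GrLC.endDeg (I.Hgr m d) := by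
  classical
  by_contra hcon
  have hbot : I.Hgr m d (-(d : ℤ)) = ⊥ := by
    by_contra hne
    exact hcon (le_iSup₂ (f := fun (n : ℤ) (_ : I.Hgr m d n ≠ ⊥) =>
      ((n : WithTop ℤ) : WithBot (WithTop ℤ))) (-(d : ℤ)) hne)
  have hV : ∀ i : ℕ, Vn I m i (0 - (i : ℤ)) := by
    intro i
    rcases lt_trichotomy i d with h | h | h
    · exact vn_of_cm hpos m hm d hd I i h _
    · subst h
      rw [zero_sub]
      exact vn_of_Hgr_eq_bot hbot
    · exact vn_of_dim_lt d hd I m i h _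
  have hV' : ∀ i : ℕ, Vn I (irr 𝒜) i (0 - (i : ℤ)) :=
    fun i => (vn_irr_iff 𝒜 hpos m hm I i _).1 (hV i)
  have hhom : (irr 𝒜).toIdeal = Ideal.span ((𝒜 1 : AddSubgroup R) : Set R) := hstd
  have h1R : (1 : R) ∈ 𝒜 0 := SetLike.GradedOne.one_mem
  have h1 := gen_step (irr 𝒜) hhom (GrLC.GMod.of 𝒜 R 𝒜) 0 (fun i => hv_of_vn I (hV' i)) (1 : R)
    h1R
  have h2 : (1 : R) ∈ (irr 𝒜).toIdeal := by
    have h3 : (irr 𝒜).toIdeal • (⊤ : Submodule R R) = (irr 𝒜).toIdeal := by
      rw [smul_eq_mul, Ideal.mul_top]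
    rw [← h3]
    exact h1
  have h4 : (1 : R) ∈ m.toIdeal := irr_le 𝒜 hpos m hm.1 h2
  apply hm.1.1
  rw [HomogeneousIdeal.eq_top_iff]
  exact (Ideal.eq_top_iff_one _).2 h4

end Groth.Agent.S17771
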