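import Groth.Statements.S17772
import Groth.Agent.S17770
import Groth.Agent.H98.GrEnd

set_option autoImplicit false
universe u
open GrLC

namespace Groth.Agent.S17772


open Groth.Agent.H98.GrCat Groth.Agent.H98.GrHt

/-- Let R = ⊕_{n ≥ 0} R_n be a positively ℤ-graded ring which is standard graded (irrelevant ideal
generated by R_1), with R_0 Artinian, *local with unique homogeneous maximal ideal m, and
Cohen–Macaulay of Krull dimension d; let H_R(n) = ℓ_{R_0}(R_n) be its Hilbert function and P_R ∈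
ℚ[X] its Hilbert polynomial (a polynomial agreeing with H_R for all large n, taken as given). Then
the a-invariant of R, the largest degree in which H^d_m(R) is nonzero (computed from any *injective
resolution of R), equals the supremum of the integers n with P_R(n) ≠ H_R(n). (The published text
writes 'min' for this supremum; the set of such n is unbounded below whenever it is nonempty, e.g.
all n < 0 for a polynomial ring over a field, and the published one-line proof H_R(n) − P_R(n) =
(−1)^d ℓ(H^d_m(R)_n) identifies the set with the nonzero degrees of H^d_m(R), whose largest element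
is a(R).) -/
theorem result (R : Type u) [CommRing R] [LocCoh.IsCohenMacaulayRing R] (𝒜 : ℤ → AddSubgroup R) [GradedRing 𝒜] (hpos : ∀ n : ℤ, n < 0 → 𝒜 n = ⊥) (hstd : Ideal.span (⋃ n ∈ Set.Ioi (0 : ℤ), (𝒜 n : Set R)) = Ideal.span ((𝒜 1 : AddSubgroup R) : Set R)) [IsArtinianRing (GrLC.deg0 𝒜)] (m : HomogeneousIdeal 𝒜) (hm : GrLC.IsStarLocal 𝒜 m) (d : ℕ) (hd : ringKrullDim R = d) (I : GrLC.StarInjRes 𝒜 𝒜) (P : Polynomial ℚ) (hP : ∃ N : ℤ, ∀ n : ℤ, N ≤ n → P.eval (n : ℚ) = ((Module.length (GrLC.deg0 𝒜) (GrLC.comp 𝒜 𝒜 n)).toNat : ℚ)) : GrLC.endDeg (I.Hgr m d) = ⨆ (n : ℤ) (_ : P.eval (n : ℚ) ≠ ((Module.length (GrLC.deg0 𝒜) (GrLC.comp 𝒜 𝒜 n)).toNat : ℚ)), ((n : WithTop ℤ) : WithBot (WithTop ℤ)) := by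
  classical
  have hgam : ∀ (X : Type u) [AddCommGroup X] [Module R X],
      GrLC.gam m.toIdeal X = GrLC.gam (irr 𝒜).toIdeal X := fun X _ _ =>
    gam_eq_of_radical _ _ (le_radical_irr 𝒜 hpos m hm)
      ((irr_le 𝒜 hpos m hm.1).trans Ideal.le_radical) X
  have key : ∀ n : ℤ, I.Hgr m d n ≠ ⊥ ↔ P.eval (n : ℚ) ≠
      ((Module.length (GrLC.deg0 𝒜) (GrLC.comp 𝒜 𝒜 n)).toNat : ℚ) := by
    intro n
    have hS := Groth.Agent.S17770.result R 𝒜 hpos hstd m hm d hd R 𝒜 I P hP n
    rw [Finset.sum_range_succ, Finset.sum_eq_zero, zero_add] at hS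
    swap
    · intro i hi
      have hv := vn_of_cm hpos m hm d hd I i (Finset.mem_range.1 hi) n
      rw [Hcomp_eq_bot_of_vn hv, Module.length_bot]
      simp
    have hlen : ((Module.length (GrLC.deg0 𝒜) (I.Hcomp m d n)).toNat : ℚ) =
        len (GrLC.deg0 𝒜) (I.Hcomp (irr 𝒜) d n) := len_Hcomp_congr I m (irr 𝒜) hgam d n
    rw [hlen] at hS
    have hz : len (GrLC.deg0 𝒜) (I.Hcomp (irr 𝒜) d n) = 0 ↔ Vn I (irr 𝒜) d n := by
      constructor
      · intro h0
        have := (len_eq_zero_iff (finLen_Hcomp 𝒜 hpos R 𝒜 I d n)).1 h0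
        have hbot : I.Hcomp (irr 𝒜) d n = ⊥ := Submodule.eq_bot_of_subsingleton
        apply vn_of_Hgr_eq_bot
        show (I.Hcomp (irr 𝒜) d n).toAddSubgroup = ⊥
        rw [hbot]
        exact Submodule.bot_toAddSubgroup
      · intro hv
        rw [Hcomp_eq_bot_of_vn hv]
        exact len_eq_zero_of_subsingleton _
    rw [hgr_ne_bot_iff, vn_irr_iff 𝒜 hpos m hm I d n, ← hz]
    constructor
    · intro hne hP'
      apply hne
      rw [hP', sub_self] at hS
      rcases mul_eq_zero.1 hS.symm with h | h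
      · exact absurd h (pow_ne_zero _ (by norm_num))
      · exact h
    · intro hne h0
      apply hne
      rw [h0, mul_zero] at hS
      linarith
  unfold GrLC.endDeg
  exact iSup_congr (fun n => by rw [iSup_congr_Prop (key n) (fun _ => rfl)])

end Groth.Agent.S17772
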