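import Groth.Statements.S17774
import Groth.Agent.H72.LDGor
import Groth.Agent.H58.LCBridge
import Groth.Agent.S0341
import Groth.Agent.S0345
import Groth.Agent.S14424
import Groth.Agent.H29.CM3

set_option autoImplicit false
universe u
open CategoryTheory Opposite
open LocCoh

namespace Groth.Agent.S17774

/-- Let (S, n) be a Gorenstein local ring, I an ideal of S of height g such that R = S ⧸ I is a
Cohen–Macaulay local ring, of Krull dimension d, and E an injective hull of the residue field of S.
Then the canonical module of R is Ext^g_S(R, S), in the following sense: the Matlis dual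
Hom_S(Ext^g_S(R, S), E) is isomorphic as an S-module to the top local cohomology H^d_n(R) of R
regarded as an S-module (existence of an S-linear isomorphism; Hom into E over S and local
cohomology with support in n agree with the corresponding notions over R for R-modules). -/
theorem result (S : Type u) [CommRing S] [LocCoh.IsGorensteinLocalRing S] (I : Ideal S) (g : ℕ) (hg : I.height = g) [LocCoh.IsCohenMacaulayLocalRing (S ⧸ I)] (d : ℕ) (hd : ringKrullDim (S ⧸ I) = d) (E : Type u) [AddCommGroup E] [Module S E] (f : IsLocalRing.ResidueField S →ₗ[S] E) (hf : InjHull.IsInjectiveHull f) : Nonempty ((((Ext S (ModuleCat.{u} S) g).obj (op (ModuleCat.of S (S ⧸ I)))).obj (ModuleCat.of S S) →ₗ[S] E) ≃ₗ[S] LocCoh.H (IsLocalRing.maximalIdeal S) d (S ⧸ I)) := by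
  have hGR : LocCoh.IsGorensteinRing S := ((Groth.Agent.S0345.result S).mp
    LocCoh.IsGorensteinLocalRing.exists_hasInjectiveDimensionLT).1
  have hCMR : LocCoh.IsCohenMacaulayRing S := ⟨fun p hp => by
    haveI := hp
    haveI : LocCoh.IsGorensteinLocalRing (Localization.AtPrime p) :=
      hGR.isGorensteinLocalRing_localization p
    exact Groth.Agent.S0341.result (Localization.AtPrime p)⟩
  have hItop : I ≠ ⊤ := Ideal.Quotient.nontrivial_iff.mp inferInstance
  have hdepth : LocCoh.idealDepth I S = I.height := (Groth.Agent.S14424.result S).mp hCMR I hItop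
  have hCM : LocCoh.IsCohenMacaulayModule S S := (Groth.Agent.S0341.result S).supportDim_eq_depth
  have h22 := Groth.Agent.H29.CM.supportDim_eq_add_idealDepth_of_isCM hCM hItop
  have hsm : I • (⊤ : Submodule S S) = I := by rw [Ideal.smul_eq_mul, Ideal.mul_top]
  have e6 : (S ⧸ (I • (⊤ : Submodule S S))) ≃ₗ[S] (S ⧸ I) := Submodule.quotEquivOfEq _ _ hsm
  obtain ⟨n, hn0⟩ := Groth.Agent.H29.CM.exists_nat_supportDim (A := S) (M := S)
  rw [Module.supportDim_eq_of_equiv e6, Module.supportDim_quotient_eq_ringKrullDim, hd, hdepth,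
    hg, hn0] at h22
  have hngd : n = d + g := by exact_mod_cast h22
  rw [Module.supportDim_self_eq_ringKrullDim] at hn0
  have hn : ringKrullDim S = (n : WithBot ℕ∞) := by exact_mod_cast hn0
  obtain ⟨e1⟩ := Groth.Agent.H72.LDGor.ld_gorenstein S n hn E f hf (S ⧸ I) g (by omega)
  have hd' : n - g = d := by omega
  rw [hd'] at e1
  exact ⟨(e1.trans (LinearEquiv.congrLeft E S
    (Groth.Agent.H58.LCBridge.bridge (ModuleCat.of S (S ⧸ I)) (ModuleCat.of S S) g).symm)).symm⟩

end Groth.Agent.S17774
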