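import Groth.Statements.S9266
import Groth.Agent.H46.ExtCech
import Mathlib.Algebra.Homology.ShortComplex.Linear
import Mathlib.Algebra.Homology.Linear
import Mathlib.RingTheory.Ideal.Operations
import Mathlib.RingTheory.Nilpotent.Lemmas

set_option autoImplicit false
universe u
attribute [local instance] HasDerivedCategory.standard
open CategoryTheory
open DerCA

namespace Groth.Agent.S9266

open Limits

variable {R : Type u} [CommRing R]

/-- `P f N`: multiplication by `f` is an automorphism of `N`. -/
def P (f : R) (N : ModuleCat.{u} R) : Prop := IsIso (f • 𝟙 N)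

theorem P_of_bijective (f : R) (N : ModuleCat.{u} R)
    (h : Function.Bijective (fun m : N => f • m)) : P f N := by
  unfold P
  rw [ConcreteCategory.isIso_iff_bijective]
  exact h

theorem P_injective {f : R} {N : ModuleCat.{u} R} (h : P f N) :
    Function.Injective (fun m : N => f • m) := by
  unfold P at h
  rw [ConcreteCategory.isIso_iff_bijective] at h
  exact h.1

theorem P_of_iso {f : R} {X Y : ModuleCat.{u} R} (e : X ≅ Y) (h : P f Y) : P f X := by
  unfold P at h ⊢
  have : f • 𝟙 X = e.hom ≫ (f • 𝟙 Y) ≫ e.inv := by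
    rw [Linear.smul_comp, Linear.comp_smul, Category.id_comp, e.hom_inv_id]
  rw [this]
  infer_instance

theorem P_of_isZero {f : R} {X : ModuleCat.{u} R} (h : IsZero X) : P f X :=
  ⟨⟨0, h.eq_of_src _ _, h.eq_of_src _ _⟩⟩

theorem P_biprod {f : R} {X Y : ModuleCat.{u} R} (hX : P f X) (hY : P f Y) : P f (X ⊞ Y) := by
  unfold P at hX hY ⊢
  have : f • 𝟙 (X ⊞ Y) = biprod.map (f • 𝟙 X) (f • 𝟙 Y) := by
    apply biprod.hom_ext
    · rw [biprod.map_fst, Linear.smul_comp, Linear.comp_smul, Category.id_comp, Category.comp_id]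
    · rw [biprod.map_snd, Linear.smul_comp, Linear.comp_smul, Category.id_comp, Category.comp_id]
  rw [this]
  exact (biprod.mapIso (asIso (f • 𝟙 X)) (asIso (f • 𝟙 Y))).isIso_hom

theorem locFunctor_map_smul (S : Submonoid R) {X Y : ModuleCat.{u} R} (r : R) (φ : X ⟶ Y) :
    (locFunctor S).map (r • φ) = r • (locFunctor S).map φ := by
  ext x
  change (IsLocalizedModule.map S (LocalizedModule.mkLinearMap S X)
    (LocalizedModule.mkLinearMap S Y)) (r • φ.hom) x = _
  rw [map_smul]
  rfl

theorem P_loc {f : R} (S : Submonoid R) {X : ModuleCat.{u} R} (hX : P f X) :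
    P f ((locFunctor S).obj X) := by
  unfold P at hX ⊢
  have : f • 𝟙 ((locFunctor S).obj X) = (locFunctor S).map (f • 𝟙 X) := by
    rw [locFunctor_map_smul, CategoryTheory.Functor.map_id]
  rw [this]
  infer_instance

theorem P_extCech {f : R} (M : ModuleCat.{u} R) (hM : P f M) (fs : List R) :
    ∀ n : ℤ, P f ((extCech M fs).X n) := by
  induction fs with
  | nil =>
    intro n
    by_cases hn : n = 0
    · subst hn
      exact P_of_iso (HomologicalComplex.singleObjXSelf (ComplexShape.up ℤ) 0 M) hM
    · exact P_of_isZero (HomologicalComplex.isZero_single_obj_X (ComplexShape.up ℤ) 0 M n hn)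
  | cons g fs ih =>
    intro n
    refine P_of_iso (DerCA.mappingCoconeXIso
      (DerCA.locCxUnit (Submonoid.powers g) (DerCA.extCech M fs)) n) ?_
    exact P_biprod (ih n) (P_loc _ (ih (n - 1)))

theorem P_homology {f : R} (K : DRing.Cx R) (hK : ∀ n : ℤ, P f (K.X n)) (q : ℤ) :
    P f (K.homology q) := by
  have h1 : IsIso (f • 𝟙 K) := by
    have : ∀ n : ℤ, IsIso ((f • 𝟙 K).f n) := fun n => hK n
    exact HomologicalComplex.Hom.isIso_of_components _
  have h2 : HomologicalComplex.homologyMap (f • 𝟙 K) q = f • 𝟙 (K.homology q) := by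
    have h3 : (HomologicalComplex.shortComplexFunctor (ModuleCat.{u} R) (ComplexShape.up ℤ) q).map
        (f • 𝟙 K) = f • 𝟙 (K.sc q) := by
      ext <;> rfl
    change ShortComplex.homologyMap
      ((HomologicalComplex.shortComplexFunctor (ModuleCat.{u} R) (ComplexShape.up ℤ) q).map
        (f • 𝟙 K)) = _
    rw [h3, ShortComplex.homologyMap_smul, ShortComplex.homologyMap_id]
    rfl
  unfold P
  rw [← h2]
  infer_instance

/-- If some element f of the ideal (f_1, ..., f_r) acts invertibly on the module M, then the extended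
alternating Cech complex of M with respect to f_1, ..., f_r has zero cohomology in every degree. -/
theorem result (R : Type u) [CommRing R] (fs : List R)
    (M : ModuleCat.{u} R) (f : R) (hf : f ∈ Ideal.span {a : R | a ∈ fs})
    (hbij : Function.Bijective (fun m : M => f • m)) (q : ℤ) :
    Limits.IsZero (DerCA.extCechH fs M q) := by
  have hP : P f (DerCA.extCechH fs M q) :=
    P_homology _ (P_extCech M (P_of_bijective f M hbij) fs) q
  have hinj := P_injective hP
  have hsub : ∀ x : DerCA.extCechH fs M q, x = 0 := by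
    intro x
    let J : Ideal R := LinearMap.ker (LinearMap.toSpanSingleton R (DerCA.extCechH fs M q) x)
    have hJ : ∀ r : R, r ∈ J ↔ r • x = 0 := by
      intro r
      simp only [J, LinearMap.mem_ker, LinearMap.toSpanSingleton_apply]
    have hle : Ideal.span {a : R | a ∈ fs} ≤ J.radical := by
      rw [Ideal.span_le]
      intro a ha
      obtain ⟨n, hn⟩ := Groth.Agent.H46.extCechH_tors M fs a ha q x
      exact ⟨n, (hJ _).2 hn⟩
    obtain ⟨n, hn⟩ := hle hf
    rw [hJ] at hn
    clear hle hJ
    induction n with
    | zero => simpa using hn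
    | succ n ih =>
      apply ih
      apply hinj
      change f • (f ^ n • x) = f • (0 : DerCA.extCechH fs M q)
      rw [smul_zero, ← mul_smul, ← pow_succ']
      exact hn
  have : Subsingleton (DerCA.extCechH fs M q) := ⟨fun a b => by rw [hsub a, hsub b]⟩
  exact ModuleCat.isZero_of_subsingleton _

end Groth.Agent.S9266
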