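import Groth.Statements.S17779
import Groth.Agent.H88.FwdDiffPow

set_option autoImplicit false
open DRR

namespace Groth.Agent.S17779

open scoped fwdDiff in
theorem sum_eq_fwdDiff (n k : ℕ) :
    (∑ j ∈ Finset.range (n + 1), (-1 : ℤ) ^ (n - j) * (n.choose j : ℤ) * (j : ℤ) ^ k) =
      (Δ_[1]^[n] (fun (r : ℤ) ↦ r ^ k)) 0 := by
  rw [fwdDiff_iter_eq_sum_shift]
  apply Finset.sum_congr rfl
  intro j _
  simp

/-- For natural numbers n and k with k ≤ n + 1, the alternating sum over j = 0, …, n of (−1)^(n−j) C(n,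
j) j^k (with the convention 0^0 = 1) equals n! · n(n+1)/2 when k = n + 1, equals n! when k = n, and
vanishes when k < n. (The published statement takes n ≥ 1 and divides through by n!; the case n = 0
holds as well and is included.) -/
theorem result (n k : ℕ) (hk : k ≤ n + 1) :
    (∑ j ∈ Finset.range (n + 1), (-1 : ℤ) ^ (n - j) * (n.choose j : ℤ) * (j : ℤ) ^ k) =
      (if k = n + 1 then (((n + 1).choose 2 * n.factorial : ℕ) : ℤ)
        else if k = n then (n.factorial : ℤ) else 0) := by
  rw [sum_eq_fwdDiff]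
  split_ifs with h1 h2
  · subst h1
    rw [Groth.Agent.H88.fwdDiff_iter_pow_succ]
    simp
  · subst h2
    rw [fwdDiff_iter_eq_factorial]
    simp
  · have hlt : k < n := by omega
    rw [fwdDiff_iter_pow_eq_zero_of_lt hlt]
    simp

end Groth.Agent.S17779
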