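import Groth.Statements.S17780
import Groth.Agent.S17779

set_option autoImplicit false
universe u
open DRR

namespace Groth.Agent.S17780

theorem inner_sum_cast (A : Type u) [CommRing A] (n i : ℕ) (hi : i ≤ n + 1) :
    (∑ j ∈ Finset.range (n + 1), (-1 : A) ^ (n - j) * (n.choose j : A) * (j : A) ^ i) =
      (((if i = n + 1 then (((n + 1).choose 2 * n.factorial : ℕ) : ℤ)
        else if i = n then (n.factorial : ℤ) else 0) : ℤ) : A) := by
  rw [← Groth.Agent.S17779.result n i hi]
  push_cast
  rfl

theorem half_eq (n : ℕ) : n * (n + 1).factorial / 2 = (n + 1).choose 2 * n.factorial := by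
  rw [Nat.choose_two_right, Nat.factorial_succ]
  simp only [Nat.add_sub_cancel]
  have h2 : 2 ∣ (n + 1) * n := (Nat.even_mul_pred_self (n + 1)).two_dvd
  obtain ⟨c, hc⟩ := h2
  rw [hc, Nat.mul_div_cancel_left _ (by norm_num : 0 < 2)]
  have : n * ((n + 1) * n.factorial) = 2 * (c * n.factorial) := by
    rw [← mul_assoc, mul_comm n (n + 1), hc]; ring
  rw [this, Nat.mul_div_cancel_left _ (by norm_num : 0 < 2)]

/-- For x, y in a commutative ring and a natural number n, (n+1)! · x · y^n equals the sum over j = 0,
…, n of (−1)^(n−j) C(n, j) (x + j y)^(n+1), minus (n · (n+1)!/2) · y^(n+1). (The published identity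
is stated in ℚ[x, y] with an overall factor 1/(n+1) and the coefficients C(n, j)(−1)^(n−j)/n!; it is
given here multiplied through by (n+1)!, which makes it an identity with integer coefficients valid
in every commutative ring; n · (n+1)!/2 is an integer.) -/
theorem result (A : Type u) [CommRing A] (x y : A) (n : ℕ) :
    ((n + 1).factorial : A) * x * y ^ n =
      (∑ j ∈ Finset.range (n + 1), (-1 : A) ^ (n - j) * (n.choose j : A) * (x + (j : A) * y) ^ (n + 1))
        - ((n * (n + 1).factorial / 2 : ℕ) : A) * y ^ (n + 1) := by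
  have expand : ∀ j : ℕ, (x + (j : A) * y) ^ (n + 1) =
      ∑ i ∈ Finset.range (n + 2), ((n + 1).choose i : A) * x ^ (n + 1 - i) * y ^ i * (j : A) ^ i := by
    intro j
    rw [add_comm, add_pow]
    apply Finset.sum_congr rfl
    intro i _
    rw [mul_pow]; ring
  have step1 : (∑ j ∈ Finset.range (n + 1), (-1 : A) ^ (n - j) * (n.choose j : A) *
      (x + (j : A) * y) ^ (n + 1)) =
      ∑ i ∈ Finset.range (n + 2), ((n + 1).choose i : A) * x ^ (n + 1 - i) * y ^ i *
        (∑ j ∈ Finset.range (n + 1), (-1 : A) ^ (n - j) * (n.choose j : A) * (j : A) ^ i) := by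
    simp_rw [expand, Finset.mul_sum]
    rw [Finset.sum_comm]
    apply Finset.sum_congr rfl
    intro i _
    apply Finset.sum_congr rfl
    intro j _
    ring
  rw [step1, Finset.sum_range_succ, Finset.sum_range_succ]
  have hzero : ∑ i ∈ Finset.range n, ((n + 1).choose i : A) * x ^ (n + 1 - i) * y ^ i *
        (∑ j ∈ Finset.range (n + 1), (-1 : A) ^ (n - j) * (n.choose j : A) * (j : A) ^ i) = 0 := by
    apply Finset.sum_eq_zero
    intro i hi
    have hin : i < n := Finset.mem_range.mp hi
    rw [inner_sum_cast A n i (by omega)]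
    rw [if_neg (by omega), if_neg (by omega)]
    simp
  rw [hzero, inner_sum_cast A n n (by omega), inner_sum_cast A n (n + 1) le_rfl]
  rw [if_neg (by omega), if_pos rfl, if_pos rfl, half_eq]
  have c1 : ((n + 1).choose n : A) = ((n + 1 : ℕ) : A) := by
    rw [Nat.choose_succ_self_right]
  have c2 : ((n + 1).choose (n + 1) : A) = 1 := by
    rw [Nat.choose_self]; simp
  rw [c1, c2, Nat.factorial_succ]
  have : n + 1 - n = 1 := by omega
  rw [this]
  push_cast
  simp only [Nat.sub_self, pow_zero, pow_one]
  ring

end Groth.Agent.S17780
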