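import Groth.Statements.S17781
import Mathlib
-- import your own Groth.Agent.* helpers here

set_option autoImplicit false
open Variety

namespace Groth.Agent.S17781

theorem choose_pred_not_dvd (p : ℕ) [hp : Fact p.Prime] :
    ∀ (k d : ℕ), p ^ k ∣ d → 0 < d → ¬ p ∣ (d - 1).choose (p ^ k - 1) := by
  intro k
  induction k with
  | zero =>
    intro d _ _
    simp only [pow_zero, Nat.sub_self, Nat.choose_zero_right, Nat.dvd_one]
    exact hp.out.ne_one
  | succ k ih =>
    intro d hd hd0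
    have hpd : p ∣ d := dvd_trans (dvd_pow_self p (Nat.succ_ne_zero k)) hd
    obtain ⟨d', rfl⟩ := hpd
    have hppos : 0 < p := hp.out.pos
    have hd' : p ^ k ∣ d' := by
      rw [pow_succ'] at hd
      exact (Nat.mul_dvd_mul_iff_left hppos).mp hd
    have hd'0 : 0 < d' := Nat.pos_of_ne_zero (by rintro rfl; simp at hd0)
    obtain ⟨e, rfl⟩ : ∃ e, d' = e + 1 := ⟨d' - 1, by omega⟩
    have hpk : 0 < p ^ k := pow_pos hppos k
    obtain ⟨f, hf⟩ : ∃ f, p ^ k = f + 1 := ⟨p ^ k - 1, by omega⟩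
    have h1 : p * (e + 1) - 1 = (p - 1) + p * e := by
      rw [mul_add, mul_one]
      omega
    have h2 : p ^ (k + 1) - 1 = (p - 1) + p * f := by
      rw [pow_succ', hf, mul_add, mul_one]
      omega
    have hmod1 : ((p - 1) + p * e) % p = p - 1 := by
      rw [Nat.add_mul_mod_self_left]
      exact Nat.mod_eq_of_lt (by omega)
    have hdiv1 : ((p - 1) + p * e) / p = e := by
      rw [Nat.add_mul_div_left _ _ hppos, Nat.div_eq_of_lt (by omega), zero_add]
    have hmod2 : ((p - 1) + p * f) % p = p - 1 := by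
      rw [Nat.add_mul_mod_self_left]
      exact Nat.mod_eq_of_lt (by omega)
    have hdiv2 : ((p - 1) + p * f) / p = f := by
      rw [Nat.add_mul_div_left _ _ hppos, Nat.div_eq_of_lt (by omega), zero_add]
    have hl := Choose.choose_modEq_choose_mod_mul_choose_div_nat (p := p)
      (n := (p - 1) + p * e) (k := (p - 1) + p * f)
    rw [hmod1, hdiv1, hmod2, hdiv2, Nat.choose_self, one_mul] at hl
    rw [h1, h2]
    intro hdvd
    have h3 : p ∣ e.choose f := by
      apply Nat.dvd_of_mod_eq_zero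
      have h4 := Nat.mod_eq_zero_of_dvd hdvd
      unfold Nat.ModEq at hl
      rw [← hl]
      exact h4
    have h5 := ih (e + 1) hd' (by omega)
    rw [hf] at h5
    simp only [Nat.add_sub_cancel] at h5
    exact h5 h3

theorem pow_dvd_of_choose (p : ℕ) [hp : Fact p.Prime] (a k m : ℕ) (hm : 0 < m)
    (h : p ^ a ∣ (p ^ k * m).choose (p ^ k)) : p ^ a ∣ m := by
  have hppos := hp.out.pos
  have hpk : 0 < p ^ k := pow_pos hppos k
  have hd0 : 0 < p ^ k * m := Nat.mul_pos hpk hm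
  obtain ⟨D, hD⟩ : ∃ D, p ^ k * m = D + 1 := ⟨p ^ k * m - 1, by omega⟩
  obtain ⟨f, hf⟩ : ∃ f, p ^ k = f + 1 := ⟨p ^ k - 1, by omega⟩
  have hnd := choose_pred_not_dvd p k (p ^ k * m) (dvd_mul_right _ _) hd0
  have hid := Nat.add_one_mul_choose_eq D f
  rw [← hD, ← hf] at hid
  have hDf : (p ^ k * m - 1).choose (p ^ k - 1) = D.choose f := by
    rw [hD, hf]
    simp
  rw [hDf] at hnd
  have h4 : m * D.choose f = (p ^ k * m).choose (p ^ k) := by
    apply Nat.eq_of_mul_eq_mul_left hpk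
    rw [← mul_assoc, hid, mul_comm]
  rw [← h4] at h
  have hcop : Nat.Coprime (p ^ a) (D.choose f) :=
    Nat.Coprime.pow_left a ((Nat.Prime.coprime_iff_not_dvd hp.out).mpr hnd)
  exact hcop.dvd_of_dvd_mul_right h

/-- Let d ≥ 1 and N ≥ 1 be integers and let I(d, N) be the greatest common divisor of the quotients d/δ
over the divisors δ of d with 1 ≤ δ ≤ N. Then I(d, N) equals the greatest common divisor of the
integers χ(d, n) = 1 − (−1)^n C(d − 1, n) for 1 ≤ n ≤ N (χ(d, n) is the Euler characteristic of O_H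
for a degree-d hypersurface H in projective n-space). Both greatest common divisors are taken in ℤ,
normalised to be non-negative. -/
theorem result (d N : ℕ) (hd : 1 ≤ d) (hN : 1 ≤ N) :
    (Finset.Icc 1 N).gcd (fun n => 1 - (-1 : ℤ) ^ n * ((d - 1).choose n : ℤ)) =
      ((Finset.Icc 1 N).filter (fun δ => δ ∣ d)).gcd (fun δ => ((d / δ : ℕ) : ℤ)) := by
  classical
  obtain ⟨d', rfl⟩ : ∃ d', d = d' + 1 := ⟨d - 1, by omega⟩
  set χ : ℕ → ℤ := fun n => 1 - (-1 : ℤ) ^ n * ((d' + 1 - 1).choose n : ℤ) with hχ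
  have hχ0 : χ 0 = 0 := by simp [hχ]
  have hstep : ∀ i : ℕ, χ i - χ (i + 1) =
      (-1 : ℤ) ^ (i + 1) * (((d' + 1).choose (i + 1) : ℕ) : ℤ) := by
    intro i
    simp only [hχ, Nat.add_sub_cancel, Nat.choose_succ_succ', Nat.cast_add, pow_succ]
    ring
  apply dvd_antisymm_of_normalize_eq Finset.normalize_gcd Finset.normalize_gcd
  · apply Finset.dvd_gcd
    intro δ hδ
    rw [Finset.mem_filter, Finset.mem_Icc] at hδ
    obtain ⟨⟨hδ1, hδN⟩, hδd⟩ := hδ
    have hLχ : ∀ n, n ≤ N → (Finset.Icc 1 N).gcd χ ∣ χ n := by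
      intro n hn
      rcases Nat.eq_zero_or_pos n with rfl | hn0
      · rw [hχ0]
        exact dvd_zero _
      · exact Finset.gcd_dvd (Finset.mem_Icc.mpr ⟨hn0, hn⟩)
    have hLC : ∀ j, 1 ≤ j → j ≤ N →
        ((Finset.Icc 1 N).gcd χ).natAbs ∣ (d' + 1).choose j := by
      intro j hj1 hjN
      obtain ⟨i, rfl⟩ : ∃ i, j = i + 1 := ⟨j - 1, by omega⟩
      have h1 : (Finset.Icc 1 N).gcd χ ∣ χ i - χ (i + 1) :=
        dvd_sub (hLχ i (by omega)) (hLχ (i + 1) hjN)
      rw [hstep i] at h1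
      have h2 : (Finset.Icc 1 N).gcd χ ∣ (((d' + 1).choose (i + 1) : ℕ) : ℤ) := by
        have hu : IsUnit ((-1 : ℤ) ^ (i + 1)) := (isUnit_one.neg).pow _
        exact (hu.dvd_mul_left).mp h1
      have h3 := Int.natAbs_dvd_natAbs.mpr h2
      simpa using h3
    have hgoal : ((Finset.Icc 1 N).gcd χ).natAbs ∣ (d' + 1) / δ := by
      rw [Nat.dvd_iff_prime_pow_dvd_dvd]
      intro p a hp hpa
      haveI := Fact.mk hp
      obtain ⟨k, δ', hδ', hδeq⟩ :=
        Nat.exists_eq_pow_mul_and_not_dvd (by omega : δ ≠ 0) p hp.ne_one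
      obtain ⟨e, he⟩ := hδd
      have he0 : 0 < e := Nat.pos_of_ne_zero (by rintro rfl; simp at he)
      have hde : (d' + 1) / δ = e := by
        rw [he]
        exact Nat.mul_div_cancel_left e (by omega)
      have hpk_le : p ^ k ≤ N := le_trans (Nat.le_of_dvd (by omega) ⟨δ', hδeq⟩) hδN
      have hpk1 : 1 ≤ p ^ k := Nat.one_le_pow _ _ hp.pos
      have hC := hLC (p ^ k) hpk1 hpk_le
      have hdm : d' + 1 = p ^ k * (δ' * e) := by
        rw [he, hδeq, mul_assoc]
      have hδ'0 : 0 < δ' := Nat.pos_of_ne_zero (by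
        rintro rfl
        rw [mul_zero] at hδeq
        omega)
      have h5 : p ^ a ∣ δ' * e := by
        apply pow_dvd_of_choose p a k (δ' * e) (Nat.mul_pos hδ'0 he0)
        rw [← hdm]
        exact dvd_trans hpa hC
      rw [hde]
      have hcop : Nat.Coprime (p ^ a) δ' :=
        Nat.Coprime.pow_left a ((Nat.Prime.coprime_iff_not_dvd hp).mpr hδ')
      exact hcop.dvd_of_dvd_mul_left h5
    have hfin : (Finset.Icc 1 N).gcd χ ∣ ((((d' + 1) / δ : ℕ)) : ℤ) := by
      apply Int.natAbs_dvd_natAbs.mp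
      rw [Int.natAbs_natCast]
      exact hgoal
    exact hfin
  · apply Finset.dvd_gcd
    intro n hn
    rw [Finset.mem_Icc] at hn
    have hRC : ∀ j, 1 ≤ j → j ≤ N →
        ((Finset.Icc 1 N).filter (fun δ => δ ∣ d' + 1)).gcd
          (fun δ => (((d' + 1) / δ : ℕ) : ℤ)) ∣ (((d' + 1).choose j : ℕ) : ℤ) := by
      intro j hj1 hjN
      obtain ⟨j', rfl⟩ : ∃ j', j = j' + 1 := ⟨j - 1, by omega⟩
      obtain ⟨δ, hδdef⟩ : ∃ δ, δ = Nat.gcd (d' + 1) (j' + 1) := ⟨_, rfl⟩
      have hδpos : 0 < δ := hδdef ▸ Nat.gcd_pos_of_pos_left _ (by omega)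
      have hδd : δ ∣ d' + 1 := hδdef ▸ Nat.gcd_dvd_left (d' + 1) (j' + 1)
      have hδj : δ ∣ j' + 1 := hδdef ▸ Nat.gcd_dvd_right (d' + 1) (j' + 1)
      have hδN : δ ≤ N := le_trans (Nat.le_of_dvd (by omega) hδj) hjN
      have hmem : δ ∈ (Finset.Icc 1 N).filter (fun δ => δ ∣ d' + 1) :=
        Finset.mem_filter.mpr ⟨Finset.mem_Icc.mpr ⟨hδpos, hδN⟩, hδd⟩
      have h1 : ((Finset.Icc 1 N).filter (fun δ => δ ∣ d' + 1)).gcd
          (fun δ => (((d' + 1) / δ : ℕ) : ℤ)) ∣ (((d' + 1) / δ : ℕ) : ℤ) :=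
        Finset.gcd_dvd (f := fun δ => (((d' + 1) / δ : ℕ) : ℤ)) hmem
      refine dvd_trans h1 (Int.natCast_dvd_natCast.mpr ?_)
      have hid := Nat.add_one_mul_choose_eq d' j'
      have hcop : Nat.Coprime ((d' + 1) / δ) ((j' + 1) / δ) := by
        rw [hδdef]
        exact Nat.coprime_div_gcd_div_gcd (hδdef ▸ hδpos)
      obtain ⟨a1, ha1⟩ := hδd
      obtain ⟨b1, hb1⟩ := hδj
      have ha1' : (d' + 1) / δ = a1 := by
        rw [ha1]
        exact Nat.mul_div_cancel_left _ hδpos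
      have hb1' : (j' + 1) / δ = b1 := by
        rw [hb1]
        exact Nat.mul_div_cancel_left _ hδpos
      rw [ha1', hb1'] at hcop
      rw [ha1']
      have h2 : a1 * d'.choose j' = (d' + 1).choose (j' + 1) * b1 := by
        apply Nat.eq_of_mul_eq_mul_left hδpos
        calc δ * (a1 * d'.choose j') = (δ * a1) * d'.choose j' := by ring
          _ = (d' + 1) * d'.choose j' := by rw [← ha1]
          _ = (d' + 1).choose (j' + 1) * (j' + 1) := hid
          _ = (d' + 1).choose (j' + 1) * (δ * b1) := by rw [← hb1]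
          _ = δ * ((d' + 1).choose (j' + 1) * b1) := by ring
      have h3 : a1 ∣ (d' + 1).choose (j' + 1) * b1 := ⟨_, h2.symm⟩
      exact hcop.dvd_of_dvd_mul_right h3
    have hsum : ∑ i ∈ Finset.range n, (χ i - χ (i + 1)) = χ 0 - χ n :=
      Finset.sum_range_sub' χ n
    have h6 : ((Finset.Icc 1 N).filter (fun δ => δ ∣ d' + 1)).gcd
        (fun δ => (((d' + 1) / δ : ℕ) : ℤ)) ∣ ∑ i ∈ Finset.range n, (χ i - χ (i + 1)) := by
      apply Finset.dvd_sum
      intro i hi
      rw [hstep i]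
      have hi' := Finset.mem_range.mp hi
      exact Dvd.dvd.mul_left (hRC (i + 1) (by omega) (by omega)) _
    rw [hsum, hχ0, zero_sub] at h6
    exact (dvd_neg).mp h6

end Groth.Agent.S17781
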