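import Groth.Statements.S17794
import Groth.Agent.H63.GrpKernel
import Groth.Agent.H51.QuotKer
import Groth.Agent.H51.EpiBC
import Groth.Agent.H52.MonoField
import Groth.Agent.H50.Lfp

set_option autoImplicit false
universe u
open CategoryTheory CategoryTheory.Limits MonoidalCategory CartesianMonoidalCategory MonObj GrpObj AlgebraicGeometry
open GrpSch

namespace Groth.Agent.S17794

/-- Let S be a scheme and f : G → H a homomorphism of S-group schemes, both of finite presentation over
S (locally of finite presentation, quasi-compact and quasi-separated), and let i : N → G be the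
kernel of f (the square formed by i, f, the unit section of H and N → S is cartesian). Then f is
faithfully flat (flat and surjective) if and only if the map of representable sheaves h_G → h_H
induced by f on the big fppf site of S is an epimorphism of sheaves of sets and N is flat over S. -/
theorem result {S : Scheme.{u}} {G H N : Over S} [GrpObj G] [GrpObj H] (f : G ⟶ H) [IsMonHom f] [LocallyOfFinitePresentation G.hom] [QuasiCompact G.hom] [QuasiSeparated G.hom] [LocallyOfFinitePresentation H.hom] [QuasiCompact H.hom] [QuasiSeparated H.hom] (i : N ⟶ G) (hi : AlgGrp.IsKernel i f) : (Flat f.left ∧ Surjective f.left) ↔ (Epi (QuotSh.repMap Scheme.fppfPrecoverage f) ∧ Flat N.hom) := by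
 
  classical
  have ksq := Groth.Agent.H63.GrpKernel.kernel_sq f i hi
  have sqN : IsPullback i.left (toUnit N).left f.left η[H].left := hi.map (Over.forget S)
  have hNhom : (toUnit N).left = N.hom := rfl
  have sqfst : IsPullback (snd G N).left (fst G N).left N.hom G.hom :=
    (IsPullback.of_hasPullback G.hom N.hom).flip
  -- the identification of `repMap f` with `yon f`
  have hnat := Groth.Agent.H51.QuotKer.repIso_naturality (S := S) f
  have hepi_iff : Epi (QuotSh.repMap Scheme.fppfPrecoverage f) ↔ Epi ((AlgSp.yon S).map f) := by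
    constructor
    · intro h
      have e : (AlgSp.yon S).map f = (QuotSh.repIsoUliftYoneda Scheme.fppfPrecoverage G).inv ≫
          QuotSh.repMap Scheme.fppfPrecoverage f ≫
            (QuotSh.repIsoUliftYoneda Scheme.fppfPrecoverage H).hom := by
        rw [hnat, Iso.inv_hom_id_assoc]
      rw [e]
      infer_instance
    · intro h
      have e : QuotSh.repMap Scheme.fppfPrecoverage f =
          (QuotSh.repIsoUliftYoneda Scheme.fppfPrecoverage G).hom ≫ (AlgSp.yon S).map f ≫
            (QuotSh.repIsoUliftYoneda Scheme.fppfPrecoverage H).inv := by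
        rw [← Category.assoc, ← hnat, Category.assoc, Iso.hom_inv_id, Category.comp_id]
      rw [e]
      infer_instance
  constructor
  · rintro ⟨hfl, hsurj⟩
    have hlfp : LocallyOfFinitePresentation f.left := by
      have hc : LocallyOfFinitePresentation (f.left ≫ H.hom) := by
        rw [Over.w f]; infer_instance
      exact Groth.Agent.H50.lfp_of_comp_of_lft f.left H.hom hc inferInstance
    refine ⟨hepi_iff.2 (Groth.Agent.H52.epi_yon_map_of_fppf f), ?_⟩
    rw [← hNhom]
    exact MorphismProperty.of_isPullback (P := @Flat) sqN hfl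
  · rintro ⟨hepi, hNfl⟩
    have hepi' : Epi ((AlgSp.yon S).map f) := hepi_iff.1 hepi
    have ker : IsPullback ((AlgSp.yon S).map (fst G N * (snd G N ≫ i)))
        ((AlgSp.yon S).map (fst G N)) ((AlgSp.yon S).map f) ((AlgSp.yon S).map f) :=
      (ksq.map (AlgSp.yon S)).flip
    have hrep : AlgSp.Representable ((AlgSp.yon S).map f) := AlgSp.representable_yon_map f
    have hfstfl : Flat (fst G N).left := MorphismProperty.of_isPullback (P := @Flat) sqfst hNfl
    -- a section of `fst`
    have hker1 : η[G] ≫ f = 𝟙 (𝟙_ (Over S)) ≫ η[H] := by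
      rw [Category.id_comp]
      exact IsMonHom.one_hom f
    have hsec : lift (𝟙 G) (toUnit G ≫ hi.lift η[G] (𝟙 _) hker1) ≫ fst G N = 𝟙 G := lift_fst _ _
    have hfstsurj : Surjective (fst G N).left := by
      have h1 : (lift (𝟙 G) (toUnit G ≫ hi.lift η[G] (𝟙 _) hker1)).left ≫ (fst G N).left = 𝟙 G.left := by
        rw [← Over.comp_left, hsec]; rfl
      refine ⟨fun x => ⟨(lift (𝟙 G) (toUnit G ≫ hi.lift η[G] (𝟙 _) hker1)).left x, ?_⟩⟩
      rw [← Scheme.Hom.comp_apply, h1]
      rfl
    have hflat : Flat f.left := by
      have := Groth.Agent.H51.repWith_of_epi_baseChange' ((AlgSp.yon S).map f) hrep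
        ((AlgSp.yon S).map f) ((AlgSp.yon S).map (fst G N * (snd G N ≫ i)))
        ((AlgSp.yon S).map (fst G N)) ker @Flat
        Groth.Agent.H50.goodProp_flat.desc ((AlgSp.repWith_yon_map_iff @Flat (fst G N)).2 hfstfl)
      exact (AlgSp.repWith_yon_map_iff @Flat f).1 this
    have hsurj : Surjective f.left := by
      have := Groth.Agent.H51.repWith_of_epi_baseChange' ((AlgSp.yon S).map f) hrep
        ((AlgSp.yon S).map f) ((AlgSp.yon S).map (fst G N * (snd G N ≫ i)))
        ((AlgSp.yon S).map (fst G N)) ker @Surjective
        Groth.Agent.H51.surjective_descendsAlong_fppf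
        ((AlgSp.repWith_yon_map_iff @Surjective (fst G N)).2 hfstsurj)
      exact (AlgSp.repWith_yon_map_iff @Surjective f).1 this
    exact ⟨hflat, hsurj⟩

end Groth.Agent.S17794
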