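import Groth.Statements.S17797
import Mathlib
-- import your own Groth.Agent.* helpers here

set_option autoImplicit false
universe u
open CAlg

namespace Groth.Agent.S17797

/-- Suppose k is a field of characteristic zero and S is a local domain that is an essentially
finite-type k-algebra. Then there are an extension field K of k, a K-algebra A of finite type and a
maximal ideal m of A such that S is isomorphic over k to the localization A_m. -/
theorem result (k : Type u) [Field k] [CharZero k] (S : Type u) [CommRing S] [IsDomain S] [IsLocalRing S] [Algebra k S] [Algebra.EssFiniteType k S] : ∃ (K : Type u) (_ : Field K) (_ : Algebra k K) (A : Type u) (_ : CommRing A) (_ : Algebra K A) (_ : Algebra k A) (_ : IsScalarTower k K A) (_ : Algebra.FiniteType K A) (m : Ideal A) (_ : m.IsMaximal), Nonempty (S ≃ₐ[k] Localization.AtPrime m) := by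
  classical
  haveI : FaithfulSMul k (IsLocalRing.ResidueField S) :=
    (faithfulSMul_iff_algebraMap_injective k _).mpr (algebraMap k (IsLocalRing.ResidueField S)).injective
  obtain ⟨T, hT⟩ := exists_isTranscendenceBasis k (A := IsLocalRing.ResidueField S)
  have hsurj := IsLocalRing.residue_surjective (R := S)
  choose lift hlift using fun t : T => hsurj (t : IsLocalRing.ResidueField S)
  obtain ⟨φ, hφX⟩ : ∃ φ : MvPolynomial T k →ₐ[k] S, ∀ t, φ (MvPolynomial.X t) = lift t :=
    ⟨MvPolynomial.aeval lift, fun t => MvPolynomial.aeval_X _ _⟩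
  have hφres : ∀ p, IsLocalRing.residue S (φ p) =
      MvPolynomial.aeval (fun t : T => (t : IsLocalRing.ResidueField S)) p := by
    intro p
    have h0 : (IsScalarTower.toAlgHom k S (IsLocalRing.ResidueField S)).comp φ =
        MvPolynomial.aeval (fun t : T => (t : IsLocalRing.ResidueField S)) := by
      apply MvPolynomial.algHom_ext
      intro t
      rw [AlgHom.comp_apply, hφX, MvPolynomial.aeval_X, IsScalarTower.toAlgHom_apply]
      exact hlift t
    exact AlgHom.congr_fun h0 p
  have hunit : ∀ p : MvPolynomial T k, p ≠ 0 → IsUnit (φ p) := by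
    intro p hp
    rw [← IsLocalRing.notMem_maximalIdeal, ← IsLocalRing.residue_eq_zero_iff, hφres]
    intro h0
    apply hp
    have hinj : Function.Injective (MvPolynomial.aeval
        (fun t : T => (t : IsLocalRing.ResidueField S)) : MvPolynomial T k →ₐ[k] _) := hT.1
    exact hinj (by rw [h0, map_zero])
  obtain ⟨ψ, hψ⟩ : ∃ ψ : FractionRing (MvPolynomial T k) →+* S,
      ∀ p : MvPolynomial T k, ψ (algebraMap _ (FractionRing (MvPolynomial T k)) p) = φ p :=
    ⟨IsLocalization.lift (M := nonZeroDivisors (MvPolynomial T k))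
      (g := (φ : MvPolynomial T k →+* S))
      (fun y => hunit y.1 (nonZeroDivisors.ne_zero y.2)), fun p => IsLocalization.lift_eq _ p⟩
  letI : Algebra (FractionRing (MvPolynomial T k)) S := ψ.toAlgebra
  haveI : IsScalarTower k (FractionRing (MvPolynomial T k)) S :=
    IsScalarTower.of_algebraMap_eq (fun c => by
      rw [IsScalarTower.algebraMap_apply k (MvPolynomial T k) (FractionRing (MvPolynomial T k)),
        RingHom.algebraMap_toAlgebra, hψ]
      exact (φ.commutes c).symm)
  letI : Algebra (FractionRing (MvPolynomial T k)) (IsLocalRing.ResidueField S) :=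
    ((IsLocalRing.residue S).comp ψ).toAlgebra
  haveI : IsScalarTower (FractionRing (MvPolynomial T k)) S (IsLocalRing.ResidueField S) :=
    IsScalarTower.of_algebraMap_eq (fun _ => rfl)
  haveI : IsScalarTower k (FractionRing (MvPolynomial T k)) (IsLocalRing.ResidueField S) :=
    IsScalarTower.of_algebraMap_eq (fun c => by
      rw [IsScalarTower.algebraMap_apply k S (IsLocalRing.ResidueField S),
        IsScalarTower.algebraMap_apply k (FractionRing (MvPolynomial T k)) S,
        ← IsScalarTower.algebraMap_apply (FractionRing (MvPolynomial T k)) S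
          (IsLocalRing.ResidueField S)])
  haveI hκalg : Algebra.IsAlgebraic (FractionRing (MvPolynomial T k))
      (IsLocalRing.ResidueField S) := by
    rw [hT.isAlgebraic_iff (S := FractionRing (MvPolynomial T k))]
    intro t
    have h0 : ((t : T) : IsLocalRing.ResidueField S) =
        algebraMap (FractionRing (MvPolynomial T k)) (IsLocalRing.ResidueField S)
          (algebraMap (MvPolynomial T k) (FractionRing (MvPolynomial T k)) (MvPolynomial.X t)) := by
      rw [IsScalarTower.algebraMap_apply (FractionRing (MvPolynomial T k)) S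
        (IsLocalRing.ResidueField S), RingHom.algebraMap_toAlgebra, hψ, hφX]
      exact (hlift t).symm
    rw [h0]
    exact isAlgebraic_algebraMap _
  haveI : Algebra.EssFiniteType (FractionRing (MvPolynomial T k)) S :=
    Algebra.EssFiniteType.of_comp k _ S
  obtain ⟨σ, hσ⟩ := (Algebra.essFiniteType_iff (FractionRing (MvPolynomial T k)) S).mp this
  obtain ⟨A, hA⟩ : ∃ A : Subalgebra (FractionRing (MvPolynomial T k)) S,
      A = Algebra.adjoin _ (σ : Set S) := ⟨_, rfl⟩
  rw [← hA] at hσ
  haveI hft : Algebra.FiniteType (FractionRing (MvPolynomial T k)) ↥A := by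
    subst hA
    exact (Subalgebra.fg_iff_finiteType _).mp (Subalgebra.fg_adjoin_finset σ)
  obtain ⟨m, hm⟩ : ∃ m : Ideal ↥A,
      m = (IsLocalRing.maximalIdeal S).comap (algebraMap ↥A S) := ⟨_, rfl⟩
  have hmem : ∀ a : ↥A, a ∈ m ↔ (a : S) ∈ IsLocalRing.maximalIdeal S := fun a => by
    rw [hm]; rfl
  haveI hmp : m.IsPrime := by rw [hm]; infer_instance
  obtain ⟨ρ, hρ⟩ : ∃ ρ : ↥A →ₐ[FractionRing (MvPolynomial T k)] IsLocalRing.ResidueField S,
      ∀ a : ↥A, ρ a = IsLocalRing.residue S (a : S) :=
    ⟨(IsScalarTower.toAlgHom (FractionRing (MvPolynomial T k)) S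
      (IsLocalRing.ResidueField S)).comp A.val, fun a => rfl⟩
  have hρm : ∀ a : ↥A, a ∈ m → ρ a = 0 := fun a ha => by
    rw [hρ, IsLocalRing.residue_eq_zero_iff]; exact (hmem a).mp ha
  have hbar : ∀ a : ↥A, Ideal.Quotient.liftₐ m ρ hρm (Ideal.Quotient.mk m a) = ρ a :=
    fun a => rfl
  have hbarinj : Function.Injective (Ideal.Quotient.liftₐ m ρ hρm) := by
    rw [injective_iff_map_eq_zero]
    intro z hz
    obtain ⟨a, rfl⟩ := Ideal.Quotient.mk_surjective z
    rw [hbar, hρ, IsLocalRing.residue_eq_zero_iff] at hz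
    exact Ideal.Quotient.eq_zero_iff_mem.mpr ((hmem a).mpr hz)
  haveI : Algebra.IsIntegral (FractionRing (MvPolynomial T k)) (↥A ⧸ m) := ⟨fun z => by
    have h1 : IsAlgebraic (FractionRing (MvPolynomial T k))
        (Ideal.Quotient.liftₐ m ρ hρm z) := Algebra.IsAlgebraic.isAlgebraic _
    exact ((isAlgebraic_algHom_iff _ hbarinj).mp h1).isIntegral⟩
  have hfield : IsField (↥A ⧸ m) := by
    have h0 := isField_of_isIntegral_of_isField' (R := FractionRing (MvPolynomial T k))
      (S := ↥A ⧸ m) (Field.toIsField _)
    exact h0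
  haveI hmax : m.IsMaximal := Ideal.Quotient.maximal_of_isField m hfield
  haveI hloc : IsLocalization.AtPrime S m := by
    rw [IsLocalization.AtPrime, isLocalization_iff]
    refine ⟨?_, ?_, ?_⟩
    · intro y
      rw [← IsLocalRing.notMem_maximalIdeal]
      exact fun h => y.2 ((hmem y.1).mpr h)
    · intro z
      obtain ⟨t, htA, htu, hzt⟩ := hσ z
      have htm : (⟨t, htA⟩ : ↥A) ∈ m.primeCompl := by
        show ¬ (⟨t, htA⟩ : ↥A) ∈ m
        intro hmt
        exact (IsLocalRing.notMem_maximalIdeal.mpr htu) ((hmem _).mp hmt)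
      exact ⟨(⟨z * t, hzt⟩, ⟨⟨t, htA⟩, htm⟩), rfl⟩
    · intro x y hxy
      exact ⟨1, by rw [Subtype.ext hxy]⟩
  haveI : IsScalarTower k ↥A S := IsScalarTower.of_algebraMap_eq (fun c => rfl)
  have e₀ : Localization.AtPrime m ≃ₐ[↥A] S := IsLocalization.algEquiv m.primeCompl _ _
  exact ⟨FractionRing (MvPolynomial T k), inferInstance, inferInstance, ↥A, inferInstance,
    inferInstance, inferInstance, inferInstance, hft, m, hmax,
    ⟨(e₀.restrictScalars k).symm⟩⟩

end Groth.Agent.S17797
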