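import Groth.Statements.S17803
import Groth.Agent.H34.GRingLoc
import Groth.Agent.H34.AdicFib
import Groth.Agent.H34.OnePlus
import Groth.Agent.H15.NorCpl
import Groth.Agent.H63.SmoothNormal
import Groth.Agent.S9412
import Groth.Agent.S5785
import Groth.Agent.Lead.GeomRegBC
import Groth.Agent.H87.ComplFlat

set_option autoImplicit false
universe u
open EGA4

namespace Groth.Agent.S17803

set_option maxHeartbeats 800000
set_option linter.style.haveILetI false
set_option linter.unusedVariables false
set_option linter.unusedSectionVars false

section Aux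

/-- The map induced on adic completions by a surjective ring map `g : S → T` with `K = I T` is
surjective. -/
theorem complMap_surjective {S T : Type u} [CommRing S] [CommRing T] (I : Ideal S) (K : Ideal T)
    (g : S →+* T) (hg : Function.Surjective g) (h : I.map g ≤ K) (hK : K ≤ I.map g) :
    Function.Surjective (FSch.complMap I K g h) := by
  intro y
  obtain ⟨c, rfl⟩ := AdicCompletion.mk_surjective K T y
  have step : ∀ n : ℕ, ∃ δ ∈ I ^ n, g δ = c.val (n + 1) - c.val n := by
    intro n
    have h1 := c.property (Nat.le_succ n)
    rw [SModEq.sub_mem, smul_eq_mul, Ideal.mul_top] at h1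
    have h2 : c.val (n + 1) - c.val n ∈ K ^ n := by
      rw [← neg_sub]; exact (K ^ n).neg_mem h1
    have h3 : c.val (n + 1) - c.val n ∈ (I ^ n).map g := by
      rw [Ideal.map_pow]
      exact Ideal.pow_right_mono hK n h2
    exact (Ideal.mem_map_iff_of_surjective g hg).mp h3
  choose δ hδmem hδ using step
  obtain ⟨d0, hd0⟩ := hg (c.val 0)
  let d : ℕ → S := fun n => Nat.rec d0 (fun k dk => dk + δ k) n
  have hdsucc : ∀ n, d (n + 1) = d n + δ n := fun n => rfl
  have hgd : ∀ n, g (d n) = c.val n := by
    intro n
    induction n with
    | zero => exact hd0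
    | succ k ih => rw [hdsucc, map_add, ih, hδ]; ring
  have hdC : ∀ n, d n ≡ d (n + 1) [SMOD (I ^ n • ⊤ : Submodule S S)] := by
    intro n
    rw [SModEq.sub_mem, smul_eq_mul, Ideal.mul_top, hdsucc]
    have : d n - (d n + δ n) = - δ n := by ring
    rw [this]
    exact (I ^ n).neg_mem (hδmem n)
  refine ⟨AdicCompletion.mk I S (AdicCompletion.AdicCauchySequence.mk I S d hdC), ?_⟩
  apply AdicCompletion.ext_evalₐ
  intro n
  rw [Groth.Agent.H87.ComplFlat.evalₐ_complMap, AdicCompletion.evalₐ_mk, AdicCompletion.evalₐ_mk,
    Ideal.quotientMap_mk]
  show Ideal.Quotient.mk (K ^ n) (g (d n)) = _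
  rw [hgd]

end Aux

/-- Let A be an excellent normal domain which is a quotient of a regular ring, I an ideal of A and f ∈
A. Then the I-adic completion of the localization A_f is a normal ring (its localization at every
prime ideal is an integrally closed domain), and it is a quotient of a regular ring. -/
theorem result (A : Type u) [CommRing A] [IsDomain A] [IsIntegrallyClosed A] (hexc : EGA4.IsExcellent A) (hreg : ∃ (R : Type u) (_ : CommRing R) (_ : IsRegularRing R) (φ : R →+* A), Function.Surjective φ) (I : Ideal A) (f : A) : EGA4.IsNormalRing (AdicCompletion (I.map (algebraMap A (Localization.Away f))) (Localization.Away f)) ∧ ∃ (R' : Type u) (_ : CommRing R') (_ : IsRegularRing R') (ψ : R' →+* AdicCompletion (I.map (algebraMap A (Localization.Away f))) (Localization.Away f)), Function.Surjective ψ := by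
  have hB : EGA4.IsExcellent (Localization.Away f) :=
    Groth.Agent.H34.GRingLoc.isExcellent_localization A hexc (Submonoid.powers f)
  haveI : IsNoetherianRing (Localization.Away f) := hB.1
  have hregular : CAlg.IsRegularHom (Localization.Away f)
      (AdicCompletion (I.map (algebraMap A (Localization.Away f))) (Localization.Away f)) :=
    Groth.Agent.H34.AdicFib.regular (Localization.Away f) hB.2.2.1 _
  have hnormalhom : EGA4.IsNormalHom (Localization.Away f)
      (AdicCompletion (I.map (algebraMap A (Localization.Away f))) (Localization.Away f)) := by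
    refine ⟨hregular.1, fun p _ k' _ _ hfin => ?_⟩
    haveI := (hregular.2 p).2 k' hfin
    exact Groth.Agent.H63.SmoothRegular.isNormalRing_of_isRegularRing _
  have hAn : EGA4.IsNormalRing A := Groth.Agent.H15.NorCpl.isNormalRing_of_isIntegrallyClosed A
  have hBn : EGA4.IsNormalRing (Localization.Away f) :=
    Groth.Agent.S9412.isNormalRing_of_isLocalization (Submonoid.powers f) _ hAn
  haveI : IsNoetherianRing
      (AdicCompletion (I.map (algebraMap A (Localization.Away f))) (Localization.Away f)) :=
    Groth.Agent.H34.OnePlus.isNoetherianRing_adic _ _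
  refine ⟨Groth.Agent.H15.NorCpl.isNormalRing_of_isNormalHom _ _ hnormalhom hBn, ?_⟩
  obtain ⟨R, instR, hRreg, φ, hφ⟩ := hreg
  letI := instR
  haveI := hRreg
  obtain ⟨f', rfl⟩ := hφ f
  haveI : IsRegularRing (Localization.Away f') :=
    Groth.Agent.Lead.GeomRegBC.isRegularRing_of_isLocalization (Submonoid.powers f') _
  let g : Localization.Away f' →+* Localization.Away (φ f') :=
    IsLocalization.Away.map (Localization.Away f') (Localization.Away (φ f')) φ f'
  have hg : Function.Surjective g := by
    rw [IsLocalization.Away.map_surjective_iff]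
    intro a
    obtain ⟨b, rfl⟩ := hφ a
    exact ⟨b, 0, by rw [pow_zero, one_mul]⟩
  have hmap : ((I.map (algebraMap A (Localization.Away (φ f')))).comap g).map g =
      I.map (algebraMap A (Localization.Away (φ f'))) :=
    Ideal.map_comap_of_surjective g hg _
  haveI : IsRegularRing (AdicCompletion ((I.map (algebraMap A (Localization.Away (φ f')))).comap g)
      (Localization.Away f')) := Groth.Agent.S5785.result _ _
  exact ⟨_, inferInstance, inferInstance,
    FSch.complMap ((I.map (algebraMap A (Localization.Away (φ f')))).comap g)
      (I.map (algebraMap A (Localization.Away (φ f')))) g (le_of_eq hmap),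
    complMap_surjective _ _ g hg (le_of_eq hmap) (le_of_eq hmap.symm)⟩

end Groth.Agent.S17803
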