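import Groth.Statements.S17825
-- import your own Groth.Agent.* helpers here

set_option autoImplicit false
universe u
open CategoryTheory CategoryTheory.Limits AlgebraicGeometry
open JacVar

namespace Groth.Agent.S17825

/-- Let S be a scheme, Y an S-scheme separated over S, F a presheaf of sets on the category of
S-schemes, f : h_Y ⟶ F a morphism from the functor of points of Y, and s : F ⟶ h_Y a section of f (s
followed by f is the identity). Then F is represented by a closed subscheme of Y: there are an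
S-scheme Z, a morphism i : Z ⟶ Y over S which is a closed immersion, and an isomorphism F ≅ h_Z
whose composite with h_i : h_Z ⟶ h_Y is s. (The published lemma treats the case where Y is the r-th
symmetric power of a curve, F the functor of degree-r invertible families modulo twisting and f the
divisor-class map.) -/
theorem result {S : Scheme.{u}} (Y : Over S) [IsSeparated Y.hom]
    (F : (Over S)ᵒᵖ ⥤ Type u) (f : yoneda.obj Y ⟶ F) (s : F ⟶ yoneda.obj Y) (hsf : s ≫ f = 𝟙 F) :
    ∃ (Z : Over S) (i : Z ⟶ Y), IsClosedImmersion i.left ∧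
      ∃ e : F ≅ yoneda.obj Z, e.hom ≫ yoneda.map i = s := by
  classical
  -- the idempotent endomorphism of Y
  let ε : yoneda.obj Y ⟶ yoneda.obj Y := f ≫ s
  let ε₀ : Y ⟶ Y := Yoneda.fullyFaithful.preimage ε
  have hε₀ : yoneda.map ε₀ = ε := Yoneda.fullyFaithful.map_preimage ε
  -- for any T and g : T ⟶ Y, ε.app g = g ≫ ε₀
  have hεapp : ∀ (T : (Over S)ᵒᵖ) (g : T.unop ⟶ Y), ε.app T g = g ≫ ε₀ := by
    intro T g
    rw [← hε₀]
    rfl
  have hsf' : ∀ (T : (Over S)ᵒᵖ) (x : F.obj T), f.app T (s.app T x) = x := by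
    intro T x
    have := congrArg (fun η => η.app T x) hsf
    simpa using this
  have hs_fix : ∀ (T : (Over S)ᵒᵖ) (x : F.obj T), (s.app T x : T.unop ⟶ Y) ≫ ε₀ = s.app T x := by
    intro T x
    rw [← hεapp]
    change s.app T (f.app T (s.app T x)) = s.app T x
    rw [hsf']
  let Z : Over S := equalizer (𝟙 Y) ε₀
  let i : Z ⟶ Y := equalizer.ι (𝟙 Y) ε₀
  have hi : i ≫ ε₀ = i := by
    have := equalizer.condition (𝟙 Y) ε₀
    simpa using this.symm
  refine ⟨Z, i, inferInstance, ?_⟩
  have hnat_s : ∀ (T T' : (Over S)ᵒᵖ) (g : T ⟶ T') (x : F.obj T),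
      (s.app T' (F.map g x) : T'.unop ⟶ Y) = g.unop ≫ (s.app T x : T.unop ⟶ Y) := by
    intro T T' g x
    have := congrArg (fun η => η x) (s.naturality g)
    exact this
  let homT : F ⟶ yoneda.obj Z :=
    { app := fun T => TypeCat.ofHom (fun x =>
        (equalizer.lift (s.app T x : T.unop ⟶ Y) (by rw [Category.comp_id, hs_fix]) : T.unop ⟶ Z))
      naturality := by
        intro T T' g
        ext x
        apply equalizer.hom_ext
        change equalizer.lift (s.app T' (F.map g x) : T'.unop ⟶ Y) _ ≫ equalizer.ι (𝟙 Y) ε₀ =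
          (g.unop ≫ equalizer.lift (s.app T x : T.unop ⟶ Y) _) ≫ equalizer.ι (𝟙 Y) ε₀
        rw [equalizer.lift_ι, Category.assoc, equalizer.lift_ι, hnat_s] }
  have hhom_i : homT ≫ yoneda.map i = s := by
    ext T x
    change equalizer.lift (s.app T x : T.unop ⟶ Y) _ ≫ equalizer.ι (𝟙 Y) ε₀ = s.app T x
    rw [equalizer.lift_ι]
  refine ⟨⟨homT, yoneda.map i ≫ f, ?_, ?_⟩, hhom_i⟩
  · rw [← Category.assoc, hhom_i, hsf]
  · ext T z
    apply equalizer.hom_ext
    refine (equalizer.lift_ι (f := 𝟙 Y) (g := ε₀) _ _).trans ?_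
    change ε.app T (z ≫ i) = z ≫ i
    rw [hεapp, Category.assoc, hi]

end Groth.Agent.S17825
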