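import Groth.Statements.S1783
import Groth.Agent.H35.FlatHom
import Groth.Agent.H12.AdjFin

set_option autoImplicit false
universe u
open CategoryTheory
attribute [local instance] HasDerivedCategory.standard
open Dual2

namespace Groth.Agent.S1783

/-- Let R → A be a ring map of finite type between Noetherian rings, where φ^!(K) is formed from a
presentation ψ : R[x_1, …, x_n] → A as RHom_P(A, K ⊗^L_R P)[n], assuming the derived base change to
P exists and taking for RHom_P(A, −) a right adjoint of restriction of scalars along ψ. If K in D(R)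
has vanishing cohomology below some degree, then so does φ^!(K); if moreover all cohomology modules
of K are finite R-modules, then all cohomology modules of φ^!(K) are finite A-modules. -/
theorem result (R A : Type u) [CommRing R] [CommRing A] [IsNoetherianRing R] [IsNoetherianRing A] [Algebra R A] (n : ℕ) (ψ : MvPolynomial (Fin n) R →ₐ[R] A) (hψ : Function.Surjective ψ) [DRing.HasLBaseChange (algebraMap R (MvPolynomial (Fin n) R))] (Rψ : Dual.D (MvPolynomial (Fin n) R) ⥤ Dual.D A) (adj : DRing.restrictD ψ.toRingHom ⊣ Rψ) (K : Dual.D R) (a : ℤ) (hKa : ∀ i : ℤ, i < a → Subsingleton (Dual.HD R K i)) : (∃ b : ℤ, ∀ i : ℤ, i < b → Subsingleton (Dual.HD A (Dual2.shriekVia n Rψ K) i)) ∧ ((∀ i : ℤ, Module.Finite R (Dual.HD R K i)) → ∀ i : ℤ, Module.Finite A (Dual.HD A (Dual2.shriekVia n Rψ K) i)) := by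
  classical
  let P := MvPolynomial (Fin n) R
  let φ : R →+* P := algebraMap R P
  have hφ : φ.Flat := (RingHom.flat_algebraMap_iff).2 inferInstance
  have : Limits.PreservesFiniteLimits (Groth.Agent.H35.FlatBC.ext φ) :=
    ModuleCat.preservesFiniteLimits_extendScalars_of_flat hφ
  -- `K` is bounded below
  have hKge : K.IsGE a := by
    rw [DerivedCategory.isGE_iff]
    intro i hi
    have := hKa i hi
    exact ModuleCat.isZero_of_subsingleton _
  let L : Dual.D P := (DRing.LBaseChange φ).obj K
  have hLge : L.IsGE a := Groth.Agent.H35.FlatHom.isGE_LBaseChange φ K a hKge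
  -- `Rψ L` is bounded below
  have hRge : (Rψ.obj L).IsGE a := by
    refine (DerivedCategory.TStructure.t.isGE_iff_orthogonal (a - 1) a (by omega) _).2 ?_
    intro Y f hY
    have hY' : ((DRing.restrictD ψ.toRingHom).obj Y).IsLE (a - 1) := by
      rw [Groth.Agent.H56.isLE_mapDerivedCategory_obj_iff]
      exact hY
    have h0 : (adj.homEquiv Y L).symm f = 0 :=
      DerivedCategory.TStructure.t.zero_of_isLE_of_isGE _ (a - 1) a (by omega) hY' hLge
    have := congrArg (adj.homEquiv Y L) h0
    rw [Equiv.apply_symm_apply] at this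
    rw [this]
    exact Adjunction.homAddEquiv_zero adj Y L
  have eH : ∀ i : ℤ, (DerivedCategory.homologyFunctor (ModuleCat.{u} A) i).obj ((Rψ.obj L)⟦(n : ℤ)⟧) ≅
      (DerivedCategory.homologyFunctor (ModuleCat.{u} A) (i + n)).obj (Rψ.obj L) := fun i =>
    ((DerivedCategory.homologyFunctor (ModuleCat.{u} A) 0).shiftIso (n : ℤ) i (i + n) (by omega)).app
      (Rψ.obj L)
  refine ⟨⟨a - n, fun i hi => ?_⟩, fun hfin i => ?_⟩
  · have hz : Limits.IsZero ((DerivedCategory.homologyFunctor (ModuleCat.{u} A) (i + n)).obj
        (Rψ.obj L)) := DerivedCategory.isZero_of_isGE _ a (i + n) (by omega)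
    exact ModuleCat.subsingleton_of_isZero (Limits.IsZero.of_iso hz (eH i))
  · let _ : Algebra P A := ψ.toRingHom.toAlgebra
    have : Module.Finite P A := Module.Finite.of_surjective (Algebra.linearMap P A) hψ
    have hLfin : ∀ j : ℤ, Module.Finite P
        ((DerivedCategory.homologyFunctor (ModuleCat.{u} P) j).obj L) := fun j =>
      Groth.Agent.H35.FlatHom.finite_homology_LBaseChange φ K j (hfin j)
    have hLsub : ∀ j : ℤ, j < a → Subsingleton
        ((DerivedCategory.homologyFunctor (ModuleCat.{u} P) j).obj L) := fun j hj =>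
      ModuleCat.subsingleton_of_isZero (DerivedCategory.isZero_of_isGE L a j hj)
    have hmain := Groth.Agent.H12.AdjFin.main P A Rψ adj L a hLsub hLfin (i + n)
    exact Module.Finite.equiv (eH i).symm.toLinearEquiv

end Groth.Agent.S1783
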