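import Groth.Statements.S17833
import Groth.Agent.H63.ProperGamma
import Groth.Agent.H40.FpqcDesc
import Groth.Agent.H51.Reduced

set_option autoImplicit false
universe u
open CategoryTheory MonoidalCategory CartesianMonoidalCategory MonObj GrpObj AlgebraicGeometry
open AlgGrp

namespace Groth.Agent.S17833

/-- Over an algebraically closed field k, let G be a connected smooth k-group scheme of finite type (in
the terminology of the notes, a smooth connected algebraic group), and H an affine normal subgroup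
scheme of G such that the quotient G/H is an abelian variety: here j : H → G is the kernel of a flat
surjective homomorphism q : G → Q of k-group schemes with Q proper over k, and H is affine. Then an
automorphism u of the algebraic group G which fixes H pointwise (j ∘ u = j) and induces the identity
of Q (q ∘ u = q) is the identity. Equivalently, the map from the group of automorphisms of G fixing
H pointwise to the automorphism group of G/H is injective. -/
theorem result (k : Type u) [Field k] [IsAlgClosed k]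
    (G H Q : Over (Spec (CommRingCat.of k))) [GrpObj G] [GrpObj H] [GrpObj Q]
    [Smooth G.hom] [QuasiCompact G.hom] [ConnectedSpace ↥G.left]
    [IsAffine H.left] [IsProper Q.hom]
    (j : H ⟶ G) [IsMonHom j] (q : G ⟶ Q) [IsMonHom q] [Flat q.left] [Surjective q.left]
    (hker : AlgGrp.IsKernel j q)
    (u : G ≅ G) [IsMonHom u.hom] (hH : j ≫ u.hom = j) (hQ : u.hom ≫ q = q) :
    u.hom = 𝟙 G := by

  haveI : Subsingleton ↥(Spec (CommRingCat.of k)) :=
    inferInstanceAs (Subsingleton (PrimeSpectrum k))
  haveI : Mono η[Q] := by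
    haveI : IsSplitMono η[Q] := ⟨⟨⟨toUnit Q, toUnit_unique _ _⟩⟩⟩
    infer_instance
  haveI : Mono j := hker.mono_fst_of_mono
  -- `φ(g) = u(g) g⁻¹` takes values in `H`
  have hφq : (u.hom * (𝟙 G)⁻¹) ≫ q = toUnit G ≫ η[Q] := by
    rw [MonObj.mul_comp, GrpObj.inv_comp, hQ, Category.id_comp, mul_inv_cancel]
    rfl
  obtain ⟨φ, hφ⟩ : ∃ φ : G ⟶ H, φ ≫ j = u.hom * (𝟙 G)⁻¹ :=
    ⟨hker.lift (u.hom * (𝟙 G)⁻¹) (toUnit G) hφq, hker.lift_fst _ _ _⟩
  -- `φ` descends to `Q`
  haveI : LocallyOfFiniteType G.hom := inferInstance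
  haveI : LocallyOfFiniteType Q.hom := inferInstance
  haveI := Groth.Agent.H40.FpqcDesc.effectiveEpi_left q
  obtain ⟨φb, hφb⟩ := Groth.Agent.H40.FpqcDesc.exists_desc q φ (fun W g₁ g₂ hg => by
    rw [← cancel_mono j, Category.assoc, Category.assoc, hφ, MonObj.comp_mul, MonObj.comp_mul,
      GrpObj.comp_inv, GrpObj.comp_inv, Category.comp_id, Category.comp_id]
    have hk : (g₁⁻¹ * g₂) ≫ q = toUnit W ≫ η[Q] := by
      rw [MonObj.mul_comp, GrpObj.inv_comp, hg, inv_mul_cancel]
      rfl
    obtain ⟨n, hn⟩ : ∃ n : W ⟶ H, n ≫ j = g₁⁻¹ * g₂ :=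
      ⟨hker.lift (g₁⁻¹ * g₂) (toUnit W) hk, hker.lift_fst _ _ _⟩
    have hg2 : g₁ * (n ≫ j) = g₂ := by rw [hn]; group
    have hu2 : g₂ ≫ u.hom = (g₁ ≫ u.hom) * (n ≫ j) := by
      rw [← hg2, MonObj.mul_comp, Category.assoc, hH]
    rw [hu2, ← hg2]
    group)
  -- `Q` is proper, connected and reduced
  haveI : IsReduced G.left := Groth.Agent.H51.isReduced_of_smooth G.hom
  haveI : IsReduced Q.left := Groth.Agent.H51.isReduced_of_flat_of_surjective q.left
  haveI : ConnectedSpace Q.left :=
    Function.Surjective.connectedSpace q.left.surjective q.left.continuous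
  have hc := Groth.Agent.H63.ProperGamma.eq_const_of_isAffine Q H η[Q] φb
  have hη : η[Q] ≫ φb = η[H] := by
    rw [← IsMonHom.one_hom q, Category.assoc, hφb, ← cancel_mono j, Category.assoc, hφ,
      MonObj.comp_mul, GrpObj.comp_inv, Category.comp_id, IsMonHom.one_hom u.hom, mul_inv_cancel,
      IsMonHom.one_hom j]
    rfl
  have hφ1 : φ = toUnit G ≫ η[H] := by
    rw [← hφb, hc, hη, ← Category.assoc]
    congr 1
    exact toUnit_unique _ _
  have h1 : u.hom * (𝟙 G)⁻¹ = 1 := by
    rw [← hφ, hφ1, Category.assoc, IsMonHom.one_hom j]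
    rfl
  exact mul_inv_eq_one.mp h1

end Groth.Agent.S17833
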