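import Groth.Statements.S17843
import Mathlib.Algebra.Polynomial.Inductions
import Mathlib.RingTheory.Ideal.Quotient.Operations
import Mathlib.Algebra.Polynomial.Eval.Coeff

set_option autoImplicit false
universe u v
open CAlg

namespace Groth.Agent.S17843

open Polynomial in
theorem liftL {R : Type*} [CommRing R] (r : R) (q : (Localization.Away r)[X]) :
    ∃ e : ℕ, ∀ n, e ≤ n → ∃ Q : R[X],
      Polynomial.map (algebraMap R (Localization.Away r)) Q =
        C (algebraMap R (Localization.Away r) (r ^ n)) * q := by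
  induction q using Polynomial.induction_on' with
  | add p q hp hq =>
    obtain ⟨e₁, h₁⟩ := hp
    obtain ⟨e₂, h₂⟩ := hq
    refine ⟨max e₁ e₂, fun n hn => ?_⟩
    obtain ⟨Q₁, hQ₁⟩ := h₁ n (le_trans (le_max_left _ _) hn)
    obtain ⟨Q₂, hQ₂⟩ := h₂ n (le_trans (le_max_right _ _) hn)
    exact ⟨Q₁ + Q₂, by rw [Polynomial.map_add, hQ₁, hQ₂, mul_add]⟩
  | monomial j c =>
    obtain ⟨e, a, hea⟩ := IsLocalization.Away.surj r c
    refine ⟨e, fun n hn => ⟨monomial j (r ^ (n - e) * a), ?_⟩⟩
    rw [Polynomial.map_monomial, C_mul_monomial]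
    congr 1
    rw [map_mul, ← hea, ← map_pow, ← mul_assoc, mul_right_comm, ← map_mul, ← pow_add,
      Nat.sub_add_cancel hn]

open Polynomial in
theorem killL {R : Type*} [CommRing R] (r : R) (g : R[X])
    (hg : Polynomial.map (algebraMap R (Localization.Away r)) g = 0) :
    ∃ e : ℕ, ∀ k, e ≤ k → C (r ^ k) * g = 0 := by
  have h1 : ∀ j : ℕ, ∃ e : ℕ, r ^ e * g.coeff j = 0 := by
    intro j
    have h0 : algebraMap R (Localization.Away r) (g.coeff j) = 0 := by
      rw [← Polynomial.coeff_map, hg, Polynomial.coeff_zero]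
    obtain ⟨⟨_, ⟨e, rfl⟩⟩, he⟩ :=
      (IsLocalization.map_eq_zero_iff (Submonoid.powers r) (Localization.Away r) _).mp h0
    exact ⟨e, he⟩
  choose E hE using h1
  refine ⟨g.support.sup E, fun k hk => ?_⟩
  ext j
  rw [Polynomial.coeff_C_mul, Polynomial.coeff_zero]
  by_cases hj : j ∈ g.support
  · have hle : E j ≤ k := le_trans (Finset.le_sup hj) hk
    rw [← Nat.sub_add_cancel hle, pow_add, mul_assoc, hE j, mul_zero]
  · rw [Polynomial.notMem_support_iff.mp hj, mul_zero]


/-- In the case of an affine scheme of finite presentation, let B be a finitely presented R-algebra, r ∈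
R, and x : B → R[1/r][T] an R-algebra homomorphism whose value at T = 0, a homomorphism B → R[1/r],
is induced by a homomorphism x̃₀ : B → R. Then for every large enough n, the homomorphism x(rⁿT) : B
→ R[1/r][T] is induced by a homomorphism x̃ : B → R[T] whose value at T = 0 is x̃₀. The published
statement is for algebraic spaces locally of finite presentation over R; this row takes an affine
scheme of finite presentation. -/
theorem result
    (R : Type u) (B : Type v) [CommRing R] [CommRing B] [Algebra R B]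
    [Algebra.FinitePresentation R B] (r : R)
    (x : B →ₐ[R] Polynomial (Localization.Away r))
    (x₀ : B →ₐ[R] R)
    (hx₀ : (algebraMap R (Localization.Away r)).comp x₀.toRingHom =
      (Polynomial.evalRingHom 0).comp x.toRingHom) :
    ∃ N : ℕ, ∀ n : ℕ, N ≤ n →
      ∃ y : B →ₐ[R] Polynomial R,
        (Polynomial.evalRingHom 0).comp y.toRingHom = x₀.toRingHom ∧
        (Polynomial.mapRingHom (algebraMap R (Localization.Away r))).comp y.toRingHom =
          (Polynomial.aeval (Polynomial.C (algebraMap R (Localization.Away r) (r ^ n)) * Polynomial.X) :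
              Polynomial (Localization.Away r) →ₐ[Localization.Away r] Polynomial (Localization.Away r)).toRingHom.comp
            x.toRingHom := by
  classical
  -- notation
  let S := Localization.Away r
  let alg : R →+* S := algebraMap R S
  let σ : ℕ → Polynomial S → Polynomial S := fun n q =>
    q.comp (Polynomial.C (alg (r ^ n)) * Polynomial.X)
  let τ : ℕ → Polynomial R →ₐ[R] Polynomial R := fun k =>
    Polynomial.aeval (Polynomial.C (r ^ k) * Polynomial.X)
  have hτ : ∀ k (Q : Polynomial R), τ k Q = Q.comp (Polynomial.C (r ^ k) * Polynomial.X) :=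
    fun k Q => rfl
  have K1 : ∀ k (Q : Polynomial R), Polynomial.map alg (τ k Q) = σ k (Polynomial.map alg Q) := by
    intro k Q
    rw [hτ, Polynomial.map_comp, Polynomial.map_mul, Polynomial.map_C, Polynomial.map_X]
  have K2 : ∀ N k (q : Polynomial S), σ k (σ N q) = σ (N + k) q := by
    intro N k q
    change (q.comp _).comp _ = q.comp _
    rw [Polynomial.comp_assoc, Polynomial.mul_comp, Polynomial.C_comp, Polynomial.X_comp,
      ← mul_assoc, ← Polynomial.C_mul, ← map_mul, ← pow_add]
  have hσmul : ∀ n (p q : Polynomial S), σ n (p * q) = σ n p * σ n q :=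
    fun n p q => Polynomial.mul_comp _ _ _
  have hσadd : ∀ n (p q : Polynomial S), σ n (p + q) = σ n p + σ n q :=
    fun n p q => Polynomial.add_comp
  have hσC : ∀ n (c : S), σ n (Polynomial.C c) = Polynomial.C c := fun n c => Polynomial.C_comp
  have hσX : ∀ n, σ n Polynomial.X = Polynomial.C (alg (r ^ n)) * Polynomial.X :=
    fun n => Polynomial.X_comp
  -- presentation
  obtain ⟨m, π, hπ, s, hs⟩ := Algebra.FinitePresentation.out (R := R) (A := B)
  let p : Fin m → Polynomial S := fun i => x (π (MvPolynomial.X i))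
  let a : Fin m → R := fun i => x₀ (π (MvPolynomial.X i))
  have hp0 : ∀ i, (p i).coeff 0 = alg (a i) := by
    intro i
    have := RingHom.congr_fun hx₀ (π (MvPolynomial.X i))
    rw [Polynomial.coeff_zero_eq_eval_zero]
    exact this.symm
  -- Step A
  have hA : ∀ i, ∃ e : ℕ, ∀ n, e ≤ n → ∃ Q : Polynomial R,
      Polynomial.map alg Q = Polynomial.C (alg (r ^ n)) * (p i).divX := fun i => liftL r _
  choose E₁ hE₁ using hA
  let N₁ := Finset.univ.sup E₁
  have hQ : ∀ i, ∃ Q : Polynomial R,
      Polynomial.map alg Q = Polynomial.C (alg (r ^ N₁)) * (p i).divX :=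
    fun i => hE₁ i N₁ (Finset.le_sup (Finset.mem_univ i))
  choose Q hQ using hQ
  let P : Fin m → Polynomial R := fun i => τ N₁ (Q i) * Polynomial.X + Polynomial.C (a i)
  have hP : ∀ i, Polynomial.map alg (P i) = σ N₁ (p i) := by
    intro i
    have h1 : σ N₁ (p i) = σ N₁ ((p i).divX * Polynomial.X + Polynomial.C ((p i).coeff 0)) := by
      rw [Polynomial.divX_mul_X_add]
    rw [h1, hσadd, hσmul, hσC, hσX, hp0]
    change Polynomial.map alg (τ N₁ (Q i) * Polynomial.X + Polynomial.C (a i)) = _
    rw [Polynomial.map_add, Polynomial.map_mul, Polynomial.map_X, Polynomial.map_C, K1, hQ,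
      hσmul, hσC]
    ring
  have hP0 : ∀ i, Polynomial.eval 0 (P i) = a i := by
    intro i
    simp [P]
  let Ψ : MvPolynomial (Fin m) R →ₐ[R] Polynomial R := MvPolynomial.aeval P
  -- compatibility of Ψ with x and x₀
  have H1 : ∀ f : MvPolynomial (Fin m) R, Polynomial.map alg (Ψ f) = σ N₁ (x (π f)) := by
    intro f
    induction f using MvPolynomial.induction_on with
    | C c =>
      have h1 : Ψ (MvPolynomial.C c) = Polynomial.C c := by
        rw [← MvPolynomial.algebraMap_eq, AlgHom.commutes]; rfl
      have h2 : x (π (MvPolynomial.C c)) = Polynomial.C (alg c) := by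
        rw [← MvPolynomial.algebraMap_eq, AlgHom.commutes, AlgHom.commutes]; rfl
      rw [h1, h2, Polynomial.map_C, hσC]
    | add f g hf hg => rw [map_add, Polynomial.map_add, hf, hg, map_add, map_add, hσadd]
    | mul_X f i hf =>
      rw [map_mul, Polynomial.map_mul, hf, map_mul, map_mul, hσmul]
      congr 1
      rw [MvPolynomial.aeval_X]
      exact hP i
  have H2 : ∀ f : MvPolynomial (Fin m) R, Polynomial.eval 0 (Ψ f) = x₀ (π f) := by
    intro f
    induction f using MvPolynomial.induction_on with
    | C c =>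
      have h1 : Ψ (MvPolynomial.C c) = Polynomial.C c := by
        rw [← MvPolynomial.algebraMap_eq, AlgHom.commutes]; rfl
      have h2 : x₀ (π (MvPolynomial.C c)) = c := by
        rw [← MvPolynomial.algebraMap_eq, AlgHom.commutes, AlgHom.commutes]; rfl
      rw [h1, h2, Polynomial.eval_C]
    | add f g hf hg => rw [map_add, Polynomial.eval_add, hf, hg, map_add, map_add]
    | mul_X f i hf =>
      rw [map_mul, Polynomial.eval_mul, hf, map_mul, map_mul]
      congr 1
      rw [MvPolynomial.aeval_X]
      exact hP0 i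
  have hτ0 : ∀ k (g : Polynomial R), Polynomial.eval 0 (τ k g) = Polynomial.eval 0 g := by
    intro k g
    rw [hτ, Polynomial.eval_comp]
    simp
  -- Step B
  have hB : ∀ f ∈ s, ∃ e : ℕ, ∀ k, e ≤ k → τ k (Ψ f) = 0 := by
    intro f hf
    have hfker : π f = 0 := by
      have : f ∈ RingHom.ker π.toRingHom := hs ▸ Ideal.subset_span hf
      exact this
    have hg0 : Polynomial.map alg (Ψ f) = 0 := by
      rw [H1, hfker, map_zero]
      exact Polynomial.zero_comp
    have hgc : (Ψ f).coeff 0 = 0 := by
      rw [Polynomial.coeff_zero_eq_eval_zero, H2, hfker, map_zero]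
    have hdiv : Polynomial.map alg (Ψ f).divX = 0 := by
      ext j
      rw [Polynomial.coeff_map, Polynomial.coeff_divX, ← Polynomial.coeff_map, hg0]
      simp
    obtain ⟨e, he⟩ := killL r _ hdiv
    refine ⟨e, fun k hk => ?_⟩
    have h1 : Ψ f = (Ψ f).divX * Polynomial.X := by
      conv_lhs => rw [← Polynomial.divX_mul_X_add (Ψ f), hgc, map_zero, add_zero]
    rw [h1, map_mul]
    have h2 : τ k Polynomial.X = Polynomial.C (r ^ k) * Polynomial.X := Polynomial.aeval_X _
    rw [h2, ← mul_assoc]
    have h3 : τ k (Ψ f).divX * Polynomial.C (r ^ k) = τ k (Polynomial.C (r ^ k) * (Ψ f).divX) := by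
      rw [map_mul, mul_comm]
      congr 1
      exact (Polynomial.aeval_C _ _).symm
    rw [h3, he k hk, map_zero, zero_mul]
  choose! E₂ hE₂ using hB
  let N₂ := s.sup E₂
  refine ⟨N₁ + N₂, fun n hn => ?_⟩
  obtain ⟨k, rfl⟩ : ∃ k, n = N₁ + k := ⟨n - N₁, by omega⟩
  have hk : N₂ ≤ k := by omega
  let Ψk : MvPolynomial (Fin m) R →ₐ[R] Polynomial R := (τ k).comp Ψ
  have hle : RingHom.ker π.toRingHom ≤ RingHom.ker Ψk.toRingHom := by
    rw [← hs, Ideal.span_le]
    intro f hf
    exact hE₂ f hf k (le_trans (Finset.le_sup hf) hk)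
  let y : B →ₐ[R] Polynomial R := AlgHom.liftOfSurjective π hπ Ψk hle
  have hy : ∀ f, y (π f) = τ k (Ψ f) := fun f => AlgHom.liftOfSurjective_apply π hπ Ψk hle f
  refine ⟨y, ?_, ?_⟩
  · refine RingHom.ext fun b => ?_
    obtain ⟨f, rfl⟩ := hπ b
    change Polynomial.eval 0 (y (π f)) = x₀ (π f)
    rw [hy, hτ0, H2]
  · refine RingHom.ext fun b => ?_
    obtain ⟨f, rfl⟩ := hπ b
    change Polynomial.map alg (y (π f)) = (x (π f)).comp _
    rw [hy, K1, H1, K2]

end Groth.Agent.S17843
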