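import Groth.Statements.S17854
import Mathlib
-- import your own Groth.Agent.* helpers here

set_option autoImplicit false
set_option linter.style.haveILetI false
open TensorProduct
universe u
open EtAlg

namespace Groth.Agent.S17854

open IsLocalRing

/-- The residue field at a maximal ideal lying over the closed point of a local ring with finite
residue field is finite (Zariski's lemma). -/
theorem finite_quotient (k : Type u) [CommRing k] [IsLocalRing k] [Finite (ResidueField k)]
    (R : Type u) [CommRing R] [Algebra k R] [Algebra.FiniteType k R]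
    (m : Ideal R) [m.IsMaximal] (hm : m.comap (algebraMap k R) = maximalIdeal k) :
    Finite (R ⧸ m) := by
  haveI : m.LiesOver (maximalIdeal k) := ⟨hm.symm⟩
  letI : Field (R ⧸ m) := Ideal.Quotient.field m
  letI alg : Algebra (ResidueField k) (R ⧸ m) :=
    Ideal.Quotient.algebraOfLiesOver m (maximalIdeal k)
  haveI : IsScalarTower k (ResidueField k) (R ⧸ m) :=
    Ideal.Quotient.isScalarTower_of_liesOver k m (maximalIdeal k)
  haveI : Algebra.FiniteType k (R ⧸ m) :=
    Algebra.FiniteType.of_surjective (Ideal.Quotient.mkₐ k m) (Ideal.Quotient.mkₐ_surjective k m)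
  haveI : Algebra.FiniteType (ResidueField k) (R ⧸ m) :=
    Algebra.FiniteType.of_restrictScalars_finiteType k _ _
  haveI : Module.Finite (ResidueField k) (R ⧸ m) := finite_of_finite_type_of_isJacobsonRing _ _
  exact Module.finite_of_finite (ResidueField k)

/-- Choice of functions whose differentials span the cotangent space at `m` and the first of which
generates the residue field. -/
theorem exists_gens (k : Type u) [CommRing k] (R : Type u) [CommRing R] [Algebra k R]
    (m : Ideal R) [m.IsMaximal] [Finite (R ⧸ m)] (d : ℕ) (hd : 0 < d)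
    (hdim : Module.finrank (R ⧸ m) ((R ⧸ m) ⊗[R] Ω[R⁄k]) = d) :
    ∃ f : Fin d → R,
      (⊤ ≤ Submodule.span (R ⧸ m)
        (Set.range fun i => (1 : R ⧸ m) ⊗ₜ[R] KaehlerDifferential.D k R (f i))) ∧
      ∀ r : R, r ∈ m ∨ ∃ n : ℕ, r - f ⟨0, hd⟩ ^ n ∈ m := by
  classical
  letI : Field (R ⧸ m) := Ideal.Quotient.field m
  letI : Fintype (R ⧸ m) := Fintype.ofFinite _
  have hs_top : Submodule.span (R ⧸ m)
      ((TensorProduct.mk R (R ⧸ m) Ω[R⁄k] 1) '' Set.range (KaehlerDifferential.D k R)) = ⊤ := by
    rw [← Submodule.baseChange_span, KaehlerDifferential.span_range_derivation,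
      Submodule.baseChange_top]
  have hcard : Module.finrank (R ⧸ m) (Submodule.span (R ⧸ m)
      ((TensorProduct.mk R (R ⧸ m) Ω[R⁄k] 1) '' Set.range (KaehlerDifferential.D k R))) = d := by
    rw [hs_top, finrank_top, hdim]
  haveI : Module.Finite (R ⧸ m) ((R ⧸ m) ⊗[R] Ω[R⁄k]) :=
    Module.finite_of_finrank_pos (by rw [hdim]; exact hd)
  obtain ⟨v, hv_mem, hv_span, -⟩ := Submodule.exists_fun_fin_finrank_span_eq (R ⧸ m)
    ((TensorProduct.mk R (R ⧸ m) Ω[R⁄k] 1) '' Set.range (KaehlerDifferential.D k R))
  have hv' : ∀ i, ∃ r : R, (1 : R ⧸ m) ⊗ₜ[R] KaehlerDifferential.D k R r = v i := by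
    intro i
    obtain ⟨_, ⟨r, rfl⟩, h⟩ := hv_mem i
    exact ⟨r, h⟩
  choose g₀ hg₀ using hv'
  let e : Fin d ≃ Fin _ := finCongr hcard.symm
  let g : Fin d → R := fun i => g₀ (e i)
  have hg_span : ⊤ ≤ Submodule.span (R ⧸ m)
      (Set.range fun i => (1 : R ⧸ m) ⊗ₜ[R] KaehlerDifferential.D k R (g i)) := by
    have : (Set.range fun i => (1 : R ⧸ m) ⊗ₜ[R] KaehlerDifferential.D k R (g i)) =
        Set.range v := by
      ext x
      constructor
      · rintro ⟨i, rfl⟩
        exact ⟨e i, (hg₀ _).symm⟩
      · rintro ⟨j, rfl⟩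
        refine ⟨e.symm j, ?_⟩
        simp only [g, Equiv.apply_symm_apply, hg₀]
    rw [this, hv_span, hs_top]
  -- the modification of the first function
  obtain ⟨θ, hθ⟩ := IsCyclic.exists_monoid_generator (α := (R ⧸ m)ˣ)
  obtain ⟨t, ht⟩ := Ideal.Quotient.mk_surjective
    ((θ : R ⧸ m) - Ideal.Quotient.mk m (g ⟨0, hd⟩))
  have hq0 : ((Fintype.card (R ⧸ m) : ℕ) : R) • (1 : R ⧸ m) = 0 := by
    rw [Algebra.smul_def, mul_one, Ideal.Quotient.algebraMap_eq, map_natCast]
    exact FiniteField.cast_card_eq_zero (R ⧸ m)
  have hDt : (1 : R ⧸ m) ⊗ₜ[R] KaehlerDifferential.D k R (t ^ Fintype.card (R ⧸ m)) = 0 := by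
    rw [Derivation.leibniz_pow, ← Nat.cast_smul_eq_nsmul R, ← TensorProduct.smul_tmul, hq0,
      TensorProduct.zero_tmul]
  refine ⟨Function.update g ⟨0, hd⟩ (g ⟨0, hd⟩ + t ^ Fintype.card (R ⧸ m)), ?_, ?_⟩
  · have : (fun i => (1 : R ⧸ m) ⊗ₜ[R] KaehlerDifferential.D k R
        (Function.update g ⟨0, hd⟩ (g ⟨0, hd⟩ + t ^ Fintype.card (R ⧸ m)) i)) =
        fun i => (1 : R ⧸ m) ⊗ₜ[R] KaehlerDifferential.D k R (g i) := by
      funext i
      by_cases hi : i = ⟨0, hd⟩
      · rw [hi, Function.update_self, map_add, TensorProduct.tmul_add, hDt, add_zero]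
      · rw [Function.update_of_ne hi]
    rw [this]
    exact hg_span
  · intro r
    by_cases hr : r ∈ m
    · exact Or.inl hr
    · right
      have hr0 : Ideal.Quotient.mk m r ≠ 0 := by
        rwa [Ne, Ideal.Quotient.eq_zero_iff_mem]
      obtain ⟨n, hn⟩ := hθ (Units.mk0 _ hr0)
      refine ⟨n, ?_⟩
      have h1 : Ideal.Quotient.mk m
          (Function.update g ⟨0, hd⟩ (g ⟨0, hd⟩ + t ^ Fintype.card (R ⧸ m)) ⟨0, hd⟩) =
          (θ : R ⧸ m) := by
        rw [Function.update_self, map_add, map_pow, ht, FiniteField.pow_card]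
        ring
      have h2 : ((θ : R ⧸ m)) ^ n = Ideal.Quotient.mk m r := by
        have := congrArg Units.val hn
        simpa using this
      rw [← Ideal.Quotient.eq_zero_iff_mem, map_sub, map_pow, h1, h2, sub_self]

section AtPrime

variable (k : Type u) [CommRing k] (R : Type u) [CommRing R] [Algebra k R]
  [Algebra.FiniteType k R] (m : Ideal R) [m.IsMaximal]

/-- Nakayama: functions whose differentials span the cotangent space at `m` have differentials
spanning the module of differentials of the local ring at `m`. -/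
theorem span_atPrime (d : ℕ) (f : Fin d → R)
    (hsp : ⊤ ≤ Submodule.span (R ⧸ m)
      (Set.range fun i => (1 : R ⧸ m) ⊗ₜ[R] KaehlerDifferential.D k R (f i))) :
    ⊤ ≤ Submodule.span (Localization.AtPrime m)
      (Set.range fun i => KaehlerDifferential.D k (Localization.AtPrime m)
        (algebraMap R (Localization.AtPrime m) (f i))) := by
  haveI : Algebra.EssFiniteType R (Localization.AtPrime m) := .of_isLocalization _ m.primeCompl
  haveI : Algebra.EssFiniteType k (Localization.AtPrime m) := .comp _ R _
  haveI : Module.Finite (Localization.AtPrime m) Ω[Localization.AtPrime m⁄k] := inferInstance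
  have hψ : ∀ y ∈ m • (⊤ : Submodule R Ω[R⁄k]),
      KaehlerDifferential.map k k R (Localization.AtPrime m) y ∈
        maximalIdeal (Localization.AtPrime m) •
          (⊤ : Submodule (Localization.AtPrime m) Ω[Localization.AtPrime m⁄k]) := by
    intro y hy
    refine Submodule.smul_induction_on hy (fun a ha x _ => ?_) (fun x y hx hy => ?_)
    · rw [map_smul, ← algebraMap_smul (Localization.AtPrime m) a]
      exact Submodule.smul_mem_smul
        ((IsLocalization.AtPrime.to_map_mem_maximal_iff (Localization.AtPrime m) m a).mpr ha)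
        trivial
    · rw [map_add]
      exact add_mem hx hy
  have key : ∀ r : R, KaehlerDifferential.D k (Localization.AtPrime m)
      (algebraMap R (Localization.AtPrime m) r) ∈
      Submodule.span (Localization.AtPrime m)
        (Set.range fun i => KaehlerDifferential.D k (Localization.AtPrime m)
          (algebraMap R (Localization.AtPrime m) (f i))) ⊔
      maximalIdeal (Localization.AtPrime m) •
        (⊤ : Submodule (Localization.AtPrime m) Ω[Localization.AtPrime m⁄k]) := by
    intro r
    have h1 : (1 : R ⧸ m) ⊗ₜ[R] KaehlerDifferential.D k R r ∈ Submodule.span (R ⧸ m)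
        (Set.range fun i => (1 : R ⧸ m) ⊗ₜ[R] KaehlerDifferential.D k R (f i)) := hsp trivial
    obtain ⟨c, hc⟩ := (Submodule.mem_span_range_iff_exists_fun _).mp h1
    choose a ha using fun i => Ideal.Quotient.mk_surjective (c i)
    have hy : KaehlerDifferential.D k R r - ∑ i, a i • KaehlerDifferential.D k R (f i) ∈
        m • (⊤ : Submodule R Ω[R⁄k]) := by
      rw [← LinearMap.ker_tensorProductMk, LinearMap.mem_ker, map_sub, map_sum, sub_eq_zero,
        TensorProduct.mk_apply, ← hc]
      refine Finset.sum_congr rfl fun i _ => ?_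
      rw [map_smul, TensorProduct.mk_apply, ← ha i]
      exact algebraMap_smul (R ⧸ m) (a i) _
    have hD : KaehlerDifferential.D k (Localization.AtPrime m)
        (algebraMap R (Localization.AtPrime m) r) =
        ∑ i, a i • KaehlerDifferential.D k (Localization.AtPrime m)
          (algebraMap R (Localization.AtPrime m) (f i)) +
        KaehlerDifferential.map k k R (Localization.AtPrime m)
          (KaehlerDifferential.D k R r - ∑ i, a i • KaehlerDifferential.D k R (f i)) := by
      rw [map_sub, map_sum]
      simp only [map_smul, KaehlerDifferential.map_D]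
      abel
    rw [hD]
    refine Submodule.add_mem_sup (Submodule.sum_mem _ fun i _ => ?_) (hψ _ hy)
    rw [← algebraMap_smul (Localization.AtPrime m) (a i)]
    exact Submodule.smul_mem _ _ (Submodule.subset_span ⟨i, rfl⟩)
  refine Submodule.le_of_le_smul_of_le_jacobson_bot
    (I := maximalIdeal (Localization.AtPrime m)) Module.Finite.fg_top
    (IsLocalRing.maximalIdeal_le_jacobson _) ?_
  have h2 : Submodule.span (Localization.AtPrime m)
      (Set.range (KaehlerDifferential.map k k R (Localization.AtPrime m) ∘
        KaehlerDifferential.D k R)) ≤ _ :=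
    Submodule.span_le.mpr (by
      rintro _ ⟨r, rfl⟩
      rw [Function.comp_apply, KaehlerDifferential.map_D]
      exact key r)
  rwa [KaehlerDifferential.span_range_map_derivation_of_isLocalization k R
    (Localization.AtPrime m) m.primeCompl] at h2

/-- The module of differentials of the local ring at a smooth point is free of rank the dimension
of the cotangent space. -/
theorem finrank_atPrime [Algebra.IsSmoothAt k m] :
    Module.Free (Localization.AtPrime m) Ω[Localization.AtPrime m⁄k] ∧
    Module.finrank (Localization.AtPrime m) Ω[Localization.AtPrime m⁄k] =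
      Module.finrank (R ⧸ m) ((R ⧸ m) ⊗[R] Ω[R⁄k]) := by
  letI : Field (R ⧸ m) := Ideal.Quotient.field m
  have hunit : ∀ y : m.primeCompl, IsUnit (Ideal.Quotient.mk m (y : R)) := fun y =>
    IsUnit.mk0 _ (by rw [Ne, Ideal.Quotient.eq_zero_iff_mem]; exact y.2)
  letI algBK : Algebra (Localization.AtPrime m) (R ⧸ m) :=
    (IsLocalization.lift (M := m.primeCompl) (S := Localization.AtPrime m) hunit).toAlgebra
  haveI : IsScalarTower R (Localization.AtPrime m) (R ⧸ m) :=
    IsScalarTower.of_algebraMap_eq' (IsLocalization.lift_comp hunit).symm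
  haveI : Algebra.EssFiniteType R (Localization.AtPrime m) := .of_isLocalization _ m.primeCompl
  haveI : Algebra.EssFiniteType k (Localization.AtPrime m) := .comp _ R _
  haveI hfree : Module.Free (Localization.AtPrime m) Ω[Localization.AtPrime m⁄k] :=
    Module.free_of_flat_of_isLocalRing
  haveI : Algebra.FormallyEtale R (Localization.AtPrime m) :=
    Algebra.FormallyEtale.of_isLocalization m.primeCompl
  let e1 : (Localization.AtPrime m) ⊗[R] Ω[R⁄k] ≃ₗ[Localization.AtPrime m]
      Ω[Localization.AtPrime m⁄k] :=
    KaehlerDifferential.tensorKaehlerEquivOfFormallyEtale k R (Localization.AtPrime m)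
  let e2 : (R ⧸ m) ⊗[Localization.AtPrime m] ((Localization.AtPrime m) ⊗[R] Ω[R⁄k]) ≃ₗ[R ⧸ m]
      (R ⧸ m) ⊗[R] Ω[R⁄k] :=
    AlgebraTensorModule.cancelBaseChange R (Localization.AtPrime m) (R ⧸ m) (R ⧸ m) Ω[R⁄k]
  let e3 : (R ⧸ m) ⊗[Localization.AtPrime m] ((Localization.AtPrime m) ⊗[R] Ω[R⁄k]) ≃ₗ[R ⧸ m]
      (R ⧸ m) ⊗[Localization.AtPrime m] Ω[Localization.AtPrime m⁄k] :=
    AlgebraTensorModule.congr (LinearEquiv.refl (R ⧸ m) (R ⧸ m)) e1
  refine ⟨hfree, ?_⟩
  rw [← Module.finrank_baseChange (R := R ⧸ m) (S := Localization.AtPrime m)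
    (M' := Ω[Localization.AtPrime m⁄k])]
  exact (e3.symm.trans e2).finrank_eq

/-- The key step: the polynomial chart is formally étale at `m`. -/
theorem formallyEtale_atPrime [Algebra.IsSmoothAt k m] (d : ℕ)
    (hdim : Module.finrank (R ⧸ m) ((R ⧸ m) ⊗[R] Ω[R⁄k]) = d)
    [Algebra (MvPolynomial (Fin d) k) R] [IsScalarTower k (MvPolynomial (Fin d) k) R]
    (hsp : ⊤ ≤ Submodule.span (R ⧸ m)
      (Set.range fun i => (1 : R ⧸ m) ⊗ₜ[R] KaehlerDifferential.D k R
        (algebraMap (MvPolynomial (Fin d) k) R (MvPolynomial.X i)))) :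
    Algebra.FormallyEtale (MvPolynomial (Fin d) k) (Localization.AtPrime m) := by
  haveI : IsScalarTower k (MvPolynomial (Fin d) k) (Localization.AtPrime m) := inferInstance
  obtain ⟨hfree, hfr⟩ := finrank_atPrime k R m
  have hspB := span_atPrime k R m d
    (fun i => algebraMap (MvPolynomial (Fin d) k) R (MvPolynomial.X i)) hsp
  haveI : Algebra.EssFiniteType R (Localization.AtPrime m) := .of_isLocalization _ m.primeCompl
  haveI : Algebra.EssFiniteType k (Localization.AtPrime m) := .comp _ R _
  haveI : Module.Finite (Localization.AtPrime m) Ω[Localization.AtPrime m⁄k] := inferInstance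
  let bv : Module.Basis (Fin d) (Localization.AtPrime m) Ω[Localization.AtPrime m⁄k] :=
    basisOfTopLeSpanOfCardEqFinrank _ hspB (by rw [Fintype.card_fin, hfr, hdim])
  let bC : Module.Basis (Fin d) (Localization.AtPrime m)
      ((Localization.AtPrime m) ⊗[MvPolynomial (Fin d) k] Ω[MvPolynomial (Fin d) k⁄k]) :=
    (KaehlerDifferential.mvPolynomialBasis k (Fin d)).baseChange (Localization.AtPrime m)
  have hmap : KaehlerDifferential.mapBaseChange k (MvPolynomial (Fin d) k)
      (Localization.AtPrime m) = (bC.equiv bv (Equiv.refl _)).toLinearMap := by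
    refine bC.ext fun i => ?_
    rw [LinearEquiv.coe_coe, Module.Basis.equiv_apply, Equiv.refl_apply,
      coe_basisOfTopLeSpanOfCardEqFinrank, Module.Basis.baseChange_apply,
      KaehlerDifferential.mvPolynomialBasis_apply, KaehlerDifferential.mapBaseChange_tmul,
      one_smul, KaehlerDifferential.map_D,
      IsScalarTower.algebraMap_apply (MvPolynomial (Fin d) k) R (Localization.AtPrime m)]
  have hbij : Function.Bijective (KaehlerDifferential.mapBaseChange k (MvPolynomial (Fin d) k)
      (Localization.AtPrime m)) := by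
    rw [hmap]
    exact (bC.equiv bv (Equiv.refl _)).bijective
  refine ⟨⟨fun x y => ?_⟩, ⟨fun x y => ?_⟩⟩
  · suffices h : ∀ z : Ω[Localization.AtPrime m⁄MvPolynomial (Fin d) k], z = 0 by
      rw [h x, h y]
    intro z
    obtain ⟨w, rfl⟩ := KaehlerDifferential.map_surjective k (MvPolynomial (Fin d) k)
      (Localization.AtPrime m) z
    obtain ⟨u, rfl⟩ := hbij.2 w
    exact (KaehlerDifferential.exact_mapBaseChange_map k (MvPolynomial (Fin d) k)
      (Localization.AtPrime m) _).mpr ⟨u, rfl⟩
  · suffices h : ∀ z : Algebra.H1Cotangent (MvPolynomial (Fin d) k) (Localization.AtPrime m),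
        z = 0 by
      rw [h x, h y]
    intro z
    have h1 : Algebra.H1Cotangent.δ k (MvPolynomial (Fin d) k) (Localization.AtPrime m) z = 0 := by
      apply hbij.1
      rw [map_zero]
      exact (Algebra.H1Cotangent.exact_δ_mapBaseChange k (MvPolynomial (Fin d) k)
        (Localization.AtPrime m) _).mpr ⟨z, rfl⟩
    obtain ⟨w, rfl⟩ := (Algebra.H1Cotangent.exact_map_δ k (MvPolynomial (Fin d) k)
      (Localization.AtPrime m) z).mp h1
    rw [Subsingleton.elim w 0, map_zero]

end AtPrime

/-- Every element of `R[1/g] / m R[1/g]` comes from `R` when `m` is maximal and `g ∉ m`. -/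
theorem surj_aux (R : Type u) [CommRing R] (m : Ideal R) [hmax : m.IsMaximal] (g : R) (hg : g ∉ m)
    (y : Localization.Away g ⧸ m.map (algebraMap R (Localization.Away g))) :
    ∃ r : R, Ideal.Quotient.mk (m.map (algebraMap R (Localization.Away g)))
      (algebraMap R (Localization.Away g) r) = y := by
  obtain ⟨z, rfl⟩ := Ideal.Quotient.mk_surjective y
  obtain ⟨r, s, rfl⟩ := IsLocalization.exists_mk'_eq (Submonoid.powers g) z
  obtain ⟨n, hn0⟩ := s.2
  have hn : g ^ n = (s : R) := hn0
  obtain ⟨h, i, hi, hh⟩ := Ideal.IsMaximal.exists_inv hmax hg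
  have hπ : ∀ x ∈ m, Ideal.Quotient.mk (m.map (algebraMap R (Localization.Away g)))
      (algebraMap R (Localization.Away g) x) = 0 := fun x hx =>
    Ideal.Quotient.eq_zero_iff_mem.mpr (Ideal.mem_map_of_mem _ hx)
  have hgh : Ideal.Quotient.mk (m.map (algebraMap R (Localization.Away g)))
      (algebraMap R (Localization.Away g) g) *
      Ideal.Quotient.mk (m.map (algebraMap R (Localization.Away g)))
      (algebraMap R (Localization.Away g) h) = 1 := by
    have := congrArg (fun x => Ideal.Quotient.mk (m.map (algebraMap R (Localization.Away g)))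
      (algebraMap R (Localization.Away g) x)) hh
    simp only [map_add, map_mul, map_one, hπ i hi, add_zero] at this
    rw [mul_comm]
    exact this
  have h3 : IsLocalization.mk' (Localization.Away g) r s *
      algebraMap R (Localization.Away g) (g ^ n) = algebraMap R (Localization.Away g) r := by
    rw [hn]
    exact IsLocalization.mk'_spec (Localization.Away g) r s
  refine ⟨r * h ^ n, ?_⟩
  calc Ideal.Quotient.mk (m.map (algebraMap R (Localization.Away g)))
        (algebraMap R (Localization.Away g) (r * h ^ n))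
      = Ideal.Quotient.mk (m.map (algebraMap R (Localization.Away g)))
          (IsLocalization.mk' (Localization.Away g) r s *
            algebraMap R (Localization.Away g) (g ^ n)) *
        Ideal.Quotient.mk (m.map (algebraMap R (Localization.Away g)))
          (algebraMap R (Localization.Away g) h) ^ n := by
        rw [h3]; simp only [map_mul, map_pow]
    _ = Ideal.Quotient.mk (m.map (algebraMap R (Localization.Away g)))
          (IsLocalization.mk' (Localization.Away g) r s) *
        (Ideal.Quotient.mk (m.map (algebraMap R (Localization.Away g)))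
          (algebraMap R (Localization.Away g) g) *
        Ideal.Quotient.mk (m.map (algebraMap R (Localization.Away g)))
          (algebraMap R (Localization.Away g) h)) ^ n := by
        simp only [map_mul, map_pow, mul_pow]; ring
    _ = _ := by rw [hgh, one_pow, mul_one]

/-- In the case of a base with finite residue field, let k be a local ring whose residue field is
finite, R a finitely presented k-algebra and m a maximal ideal of R over the maximal ideal of k such
that R is smooth over k at m of relative dimension d > 0 (the module of Kähler differentials of R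
over k has rank d at m). Then there are g ∉ m and an étale k-algebra homomorphism φ : k[x₁, …, x_d]
→ R[1/g] which induces an isomorphism of residue fields at m, i.e. k[x₁, …, x_d] → R[1/g]/m R[1/g]
is surjective. The published statement is for any local ring k; this row takes the residue field of
k finite. -/
theorem result
    (k : Type u) [CommRing k] [IsLocalRing k] [Finite (IsLocalRing.ResidueField k)]
    (R : Type u) [CommRing R] [Algebra k R] [Algebra.FinitePresentation k R]
    (m : Ideal R) [m.IsMaximal] (hm : m.comap (algebraMap k R) = IsLocalRing.maximalIdeal k)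
    [Algebra.IsSmoothAt k m] (d : ℕ) (hd : 0 < d)
    (hdim : Module.finrank (R ⧸ m) ((R ⧸ m) ⊗[R] KaehlerDifferential k R) = d) :
    ∃ g : R, g ∉ m ∧ ∃ φ : MvPolynomial (Fin d) k →ₐ[k] Localization.Away g,
      φ.toRingHom.Etale ∧
      Function.Surjective
        ((Ideal.Quotient.mk (m.map (algebraMap R (Localization.Away g)))).comp φ.toRingHom) := by
  classical
  haveI hfin : Finite (R ⧸ m) := finite_quotient k R m hm
  obtain ⟨f, hsp, hgen⟩ := exists_gens k R m d hd hdim
  let φ₀ : MvPolynomial (Fin d) k →ₐ[k] R := MvPolynomial.aeval f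
  letI algCR : Algebra (MvPolynomial (Fin d) k) R := φ₀.toRingHom.toAlgebra
  haveI : IsScalarTower k (MvPolynomial (Fin d) k) R :=
    IsScalarTower.of_algebraMap_eq (fun x => (φ₀.commutes x).symm)
  have hX : ∀ i, algebraMap (MvPolynomial (Fin d) k) R (MvPolynomial.X i) = f i :=
    fun i => MvPolynomial.aeval_X f i
  have hsp' : ⊤ ≤ Submodule.span (R ⧸ m)
      (Set.range fun i => (1 : R ⧸ m) ⊗ₜ[R] KaehlerDifferential.D k R
        (algebraMap (MvPolynomial (Fin d) k) R (MvPolynomial.X i))) := by
    simpa only [hX] using hsp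
  haveI hFE : Algebra.FormallyEtale (MvPolynomial (Fin d) k) (Localization.AtPrime m) :=
    formallyEtale_atPrime k R m d hdim hsp'
  haveI : Algebra.FinitePresentation (MvPolynomial (Fin d) k) R :=
    Algebra.FinitePresentation.of_restrict_scalars_finitePresentation k _ _
  obtain ⟨g, hg, hEt⟩ := Algebra.exists_etale_of_isEtaleAt (R := MvPolynomial (Fin d) k) m
  refine ⟨g, hg, (IsScalarTower.toAlgHom k R (Localization.Away g)).comp φ₀, ?_, ?_⟩
  · have : ((IsScalarTower.toAlgHom k R (Localization.Away g)).comp φ₀).toRingHom =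
        algebraMap (MvPolynomial (Fin d) k) (Localization.Away g) := by
      refine RingHom.ext fun x => ?_
      rw [IsScalarTower.algebraMap_apply (MvPolynomial (Fin d) k) R (Localization.Away g)]
      rfl
    rw [this, RingHom.etale_algebraMap]
    exact hEt
  · intro y
    obtain ⟨r, hr⟩ := surj_aux R m g hg y
    rcases hgen r with hr' | ⟨j, hj⟩
    · refine ⟨0, ?_⟩
      rw [map_zero, ← hr]
      exact (Ideal.Quotient.eq_zero_iff_mem.mpr (Ideal.mem_map_of_mem _ hr')).symm
    · refine ⟨MvPolynomial.X ⟨0, hd⟩ ^ j, ?_⟩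
      have h4 : ((IsScalarTower.toAlgHom k R (Localization.Away g)).comp φ₀).toRingHom
          (MvPolynomial.X ⟨0, hd⟩ ^ j) = algebraMap R (Localization.Away g) (f ⟨0, hd⟩ ^ j) := by
        show algebraMap R (Localization.Away g)
          (MvPolynomial.aeval f (MvPolynomial.X ⟨0, hd⟩ ^ j)) = _
        rw [map_pow, MvPolynomial.aeval_X]
      rw [← hr, RingHom.comp_apply, h4, ← sub_eq_zero, ← map_sub, ← map_sub,
        Ideal.Quotient.eq_zero_iff_mem]
      have h5 : f ⟨0, hd⟩ ^ j - r ∈ m := by
        rw [← neg_sub]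
        exact neg_mem hj
      exact Ideal.mem_map_of_mem _ h5

end Groth.Agent.S17854
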