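import Groth.Statements.S17860
import Mathlib
import Groth.Agent.H53.ModEpi

set_option autoImplicit false
open CategoryTheory AlgebraicGeometry
universe u
open Algz

namespace Groth.Agent.S17860

open CategoryTheory.Limits TopologicalSpace

section Free
variable (X : Scheme.{u}) (n : ℕ)

/-- The inclusion of the `i`-th factor of `O_X^n`. -/
noncomputable def freeι (i : Fin n) : Coh.structureModule X ⟶ FlatMod.freeMod X n :=
  Sigma.ι (fun _ : Fin n => Coh.structureModule X) i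

/-- The projection to the `i`-th factor of `O_X^n`. -/
noncomputable def freeπ (i : Fin n) : FlatMod.freeMod X n ⟶ Coh.structureModule X :=
  Sigma.desc (fun j : Fin n => if j = i then 𝟙 _ else 0)

lemma freeι_π (i j : Fin n) :
    freeι X n i ≫ freeπ X n j = if i = j then 𝟙 _ else 0 := by
  simp [freeι, freeπ]

lemma sum_freeπ_ι : ∑ i, freeπ X n i ≫ freeι X n i = 𝟙 (FlatMod.freeMod X n) := by
  apply Sigma.hom_ext
  intro j
  rw [Preadditive.comp_sum, Category.comp_id, Finset.sum_eq_single j]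
  · change freeι X n j ≫ freeπ X n j ≫ freeι X n j = freeι X n j
    rw [← Category.assoc, freeι_π, if_pos rfl, Category.id_comp]
  · intro b _ hb
    change freeι X n j ≫ freeπ X n b ≫ freeι X n b = 0
    rw [← Category.assoc, freeι_π, if_neg (Ne.symm hb), zero_comp]
  · intro h
    exact absurd (Finset.mem_univ j) h

variable {X}

/-- `φ ↦ φ.app V` as an additive map. -/
noncomputable def appAddHom {M N : X.Modules} (V : X.Opens) :
    (M ⟶ N) →+ (Γ(M, V) →+ Γ(N, V)) where
  toFun φ := (φ.app V).hom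
  map_zero' := rfl
  map_add' _ _ := rfl

lemma app_sum {M N : X.Modules} {ι : Type*} (s : Finset ι) (φ : ι → (M ⟶ N)) (V : X.Opens)
    (x : Γ(M, V)) : (∑ i ∈ s, φ i).app V x = ∑ i ∈ s, (φ i).app V x := by
  have h := map_sum (appAddHom (M := M) (N := N) V) φ s
  have h2 := congrArg (fun g : Γ(M, V) →+ Γ(N, V) => g x) h
  simp only [AddMonoidHom.finsetSum_apply] at h2
  exact h2

/-- every section of `O^n` is the sum of its components. -/
lemma eq_sum_freeι (V : X.Opens) (x : Γ(FlatMod.freeMod X n, V)) :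
    x = ∑ i, (freeι X n i).app V ((freeπ X n i).app V x) := by
  have h := congrArg (fun φ : FlatMod.freeMod X n ⟶ FlatMod.freeMod X n => φ.app V x)
    (sum_freeπ_ι X n)
  simp only [app_sum] at h
  exact h.symm

/-- a section of the structure module viewed as a section of the structure sheaf. -/
def toO {V : X.Opens} (c : Γ(Coh.structureModule X, V)) : Γ(X, V) := c

variable (X) in
/-- the unit section of the structure module. -/
def unitOne (V : X.Opens) : Γ(Coh.structureModule X, V) :=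
  show Γ(Coh.structureModule X, V) from (1 : Γ(X, V))

/-- a morphism out of the structure module is determined by the image of `1`. -/
lemma app_unit {F : X.Modules} (ψ : Coh.structureModule X ⟶ F) (V : X.Opens)
    (c : Γ(Coh.structureModule X, V)) :
    ψ.app V c = toO c •
      F.presheaf.map (homOfLE (le_top : V ≤ ⊤)).op (ψ.app ⊤ (unitOne X ⊤)) := by
  have h1 : c = toO c • unitOne X V := by
    change toO c = toO c * 1
    rw [mul_one]
  have h2 := congr($(ψ.mapPresheaf.naturality (homOfLE (le_top : V ≤ ⊤)).op) (unitOne X ⊤))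
  have h3 : (Coh.structureModule X).presheaf.map (homOfLE (le_top : V ≤ ⊤)).op (unitOne X ⊤) =
      unitOne X V := by
    change X.presheaf.map (homOfLE (le_top : V ≤ ⊤)).op (1 : Γ(X, ⊤)) = 1
    exact map_one _
  conv_lhs => rw [h1]
  rw [Scheme.Modules.Hom.app_smul]
  congr 1
  rw [← h3]
  exact h2

/-- a section of `O_U` over `V` as a section of `O_X` over the image of `V`. -/
noncomputable def restrictO (U : X.Opens) (V : (↑U : Scheme.{u}).Opens)
    (r : Γ((↑U : Scheme.{u}), V)) : Γ(X, U.ι ''ᵁ V) := (U.ι.appIso V).inv r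

/-- a section of `F|_U` over `V` as a section of `F` over the image of `V`. -/
def restrictSec (U : X.Opens) (F : X.Modules) (V : (↑U : Scheme.{u}).Opens)
    (z : Γ(F.restrict U.ι, V)) : Γ(F, U.ι ''ᵁ V) := z

lemma smul_restrictSec (U : X.Opens) (F : X.Modules) (V : (↑U : Scheme.{u}).Opens)
    (r : Γ((↑U : Scheme.{u}), V)) (z : Γ(F.restrict U.ι, V)) :
    restrictSec U F V (r • z) = restrictO U V r • restrictSec U F V z := rfl

end Free

section Tilde
variable {R : CommRingCat.{u}} (M : ModuleCat.{u} R)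

/-- the canonical map `M → Γ(M~, V)`. -/
noncomputable def τ (V : (Spec R).Opens) : M →ₗ[R] Γ(AlgebraicGeometry.tilde M, V) :=
  (tilde.toOpen M V).hom

/-- basic opens as opens of the scheme `Spec R`. -/
abbrev D (f : R) : (Spec R).Opens := PrimeSpectrum.basicOpen f

instance τ_isLoc (f : R) :
    IsLocalizedModule (Submonoid.powers f) (τ M (D f)) :=
  inferInstanceAs (IsLocalizedModule.Away f (tilde.toOpen M (PrimeSpectrum.basicOpen f)).hom)

lemma τ_res {V W : (Spec R).Opens} (h : W ≤ V) (x : M) :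
    (AlgebraicGeometry.tilde M).presheaf.map (homOfLE h).op (τ M V x) = τ M W x := rfl

lemma res_smul {V W : (Spec R).Opens} (h : W ≤ V) (r : R) (x : Γ(AlgebraicGeometry.tilde M, V)) :
    (AlgebraicGeometry.tilde M).presheaf.map (homOfLE h).op (r • x) =
      r • (AlgebraicGeometry.tilde M).presheaf.map (homOfLE h).op x :=
  Scheme.Modules.map_smul_Spec (homOfLE h).op r x

lemma res_res {V W Z : (Spec R).Opens} (h : W ≤ V) (h' : Z ≤ W)
    (x : Γ(AlgebraicGeometry.tilde M, V)) :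
    (AlgebraicGeometry.tilde M).presheaf.map (homOfLE h').op
      ((AlgebraicGeometry.tilde M).presheaf.map (homOfLE h).op x) =
    (AlgebraicGeometry.tilde M).presheaf.map (homOfLE (h'.trans h)).op x := by
  rw [← ConcreteCategory.comp_apply, ← Functor.map_comp]
  rfl

end Tilde

section Main
variable (R : CommRingCat.{u}) (M : ModuleCat.{u} R)

lemma exists_a {m : ℕ} (U : Fin m → (Spec R).Opens) (hU : ⨆ i, U i = ⊤) :
    ∃ a : Fin m → R, (∀ i, D (a i) ≤ U i) ∧ ∀ p : PrimeSpectrum R, ∃ i, a i ∉ p.asIdeal := by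
  classical
  let I : Fin m → Ideal R := fun i =>
    PrimeSpectrum.vanishingIdeal (((U i : Set (Spec R)) : Set (PrimeSpectrum R))ᶜ)
  have hI : ⨆ i, I i = ⊤ := by
    by_contra hne
    obtain ⟨𝔪, h𝔪, hle⟩ := Ideal.exists_le_maximal _ hne
    let x : PrimeSpectrum R := ⟨𝔪, h𝔪.isPrime⟩
    have hx : (x : Spec R) ∈ (⨆ i, U i : (Spec R).Opens) := by rw [hU]; trivial
    obtain ⟨i, hi⟩ := Opens.mem_iSup.mp hx
    obtain ⟨_, ⟨_, ⟨f, rfl⟩, rfl⟩, hxf, hfU⟩ :=
      PrimeSpectrum.isBasis_basic_opens.exists_subset_of_mem_open hi (U i).2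
    have hfI : f ∈ I i := by
      rw [PrimeSpectrum.mem_vanishingIdeal]
      intro q hq
      by_contra hfq
      exact hq (hfU ((PrimeSpectrum.mem_basicOpen f q).mpr hfq))
    exact (PrimeSpectrum.mem_basicOpen f x).mp hxf (hle (le_iSup I i hfI))
  have h1 : (1 : R) ∈ ⨆ i, I i := by rw [hI]; trivial
  rw [Submodule.mem_iSup_iff_exists_finsupp] at h1
  obtain ⟨f, hf, hsum⟩ := h1
  refine ⟨fun i => f i, ?_, ?_⟩
  · intro i q hq
    by_contra hqU
    have h2 := (PrimeSpectrum.mem_vanishingIdeal _ _).mp (hf i) q hqU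
    exact (PrimeSpectrum.mem_basicOpen _ q).mp hq h2
  · intro p
    by_contra hall
    push Not at hall
    apply p.2.ne_top
    rw [Ideal.eq_top_iff_one, ← hsum, Finsupp.sum]
    exact Ideal.sum_mem _ (fun i _ => hall i)


lemma local_gen (n : ℕ) (U : (Spec R).Opens)
    (φ : FlatMod.freeMod (↑U) n ⟶ (AlgebraicGeometry.tilde M).restrict U.ι) [Epi φ]
    (a : R) (ha : D a ≤ U) :
    ∃ g : Fin n → M, ∀ (t0 : M) (p : PrimeSpectrum R), a ∉ p.asIdeal →
      ∃ c : R, c ∉ p.asIdeal ∧ c • t0 ∈ Submodule.span R (Set.range g) := by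
  classical
  obtain ⟨ψ, hψ⟩ : ∃ ψ : Fin n → (Coh.structureModule (↑U : Scheme.{u}) ⟶ (tilde M).restrict U.ι),
      ψ = fun j => freeι (↑U) n j ≫ φ := ⟨_, rfl⟩
  obtain ⟨s, hs⟩ : ∃ s : Fin n → Γ((tilde M), U.ι ''ᵁ ⊤), s = fun j =>
      (ψ j).app ⊤ (unitOne (↑U : Scheme.{u}) ⊤) :=
    ⟨_, rfl⟩
  have hD : D a ≤ U.ι ''ᵁ ⊤ := by rw [Scheme.Opens.ι_image_top]; exact ha
  obtain ⟨σ, hσ⟩ : ∃ σ : Fin n → Γ((tilde M), D a), σ = fun j => (tilde M).presheaf.map (homOfLE hD).op (s j) :=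
    ⟨_, rfl⟩
  have hsurj : ∀ j, ∃ (k : ℕ) (x : M), a ^ k • σ j = τ M (D a) x := fun j =>
    IsLocalizedModule.Away.surj (τ M (D a)) a (σ j)
  choose k g hg using hsurj
  refine ⟨g, ?_⟩
  intro t0 p hap
  set N := Submodule.span R (Set.range g) with hN
  have hpU : (p : Spec R) ∈ U := ha ((PrimeSpectrum.mem_basicOpen a p).mpr hap)
  let y : (↑U : Scheme.{u}) := ⟨p, hpU⟩
  have hyW0 : y ∈ U.ι ⁻¹ᵁ (D a) := (PrimeSpectrum.mem_basicOpen a p).mpr hap
  obtain ⟨V, hV, x, hyV, hx⟩ := Groth.Agent.H53.modules_epi_locally_surjective φ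
    (U.ι ⁻¹ᵁ (D a)) (τ M (U.ι ''ᵁ (U.ι ⁻¹ᵁ (D a))) t0) y hyW0
  have hx' : φ.app V x = τ M (U.ι ''ᵁ V) t0 := hx
  have hsum : τ M (U.ι ''ᵁ V) t0 =
      ∑ j, (ψ j).app V ((freeπ (↑U) n j).app V x) := by
    rw [← hx']
    conv_lhs => rw [eq_sum_freeι n V x]
    rw [map_sum, hψ]
    rfl
  have hpV : (p : Spec R) ∈ U.ι ''ᵁ V := ⟨y, hyV, rfl⟩
  obtain ⟨_, ⟨_, ⟨b, rfl⟩, rfl⟩, hpb, hbV⟩ :=
    PrimeSpectrum.isBasis_basic_opens.exists_subset_of_mem_open hpV (U.ι ''ᵁ V).2
  have hbp : b ∉ p.asIdeal := (PrimeSpectrum.mem_basicOpen b p).mp hpb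
  obtain ⟨b', hb'⟩ : ∃ b' : R, b' = b * a := ⟨_, rfl⟩
  have hb'p : b' ∉ p.asIdeal := fun h => (p.2.mem_or_mem (hb' ▸ h)).elim hbp hap
  have h1 : D b' ≤ U.ι ''ᵁ V := by
    intro q hq
    apply hbV
    have h3 : b' ∉ q.asIdeal := (PrimeSpectrum.mem_basicOpen b' q).mp hq
    exact (PrimeSpectrum.mem_basicOpen b q).mpr
      (fun h => h3 (hb' ▸ q.asIdeal.mul_mem_right a h))
  have h2 : D b' ≤ D a := by
    intro q hq
    have h3 : b' ∉ q.asIdeal := (PrimeSpectrum.mem_basicOpen b' q).mp hq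
    exact (PrimeSpectrum.mem_basicOpen a q).mpr
      (fun h => h3 (hb' ▸ q.asIdeal.mul_mem_left b h))
  obtain ⟨P, hP⟩ : ∃ P : Submodule Γ(Spec R, D b') Γ((tilde M), D b'),
      P = Submodule.localized' Γ(Spec R, D b') (Submonoid.powers b') (τ M (D b')) N := ⟨_, rfl⟩
  have hz : ∀ j, (tilde M).presheaf.map (homOfLE h2).op (σ j) ∈ P := by
    intro j
    rw [hP, Submodule.mem_localized']
    refine ⟨b ^ k j • g j, N.smul_mem _ (Submodule.subset_span ⟨j, rfl⟩),
      ⟨b' ^ k j, k j, rfl⟩, ?_⟩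
    rw [IsLocalizedModule.mk'_eq_iff]
    show τ M (D b') (b ^ k j • g j) = b' ^ k j • (tilde M).presheaf.map (homOfLE h2).op (σ j)
    have e3 : b' ^ k j = b ^ k j * a ^ k j := by rw [hb', mul_pow]
    rw [map_smul, ← τ_res M h2, ← hg j, res_smul, e3, mul_smul]
  have hy : ∀ j, (tilde M).presheaf.map (homOfLE h1).op
      (((tilde M).restrict U.ι).presheaf.map (homOfLE (le_top : V ≤ ⊤)).op (s j)) =
      (tilde M).presheaf.map (homOfLE h2).op (σ j) := by
    intro j
    have e1 : ((tilde M).restrict U.ι).presheaf.map (homOfLE (le_top : V ≤ ⊤)).op (s j) =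
        (tilde M).presheaf.map (homOfLE (U.ι.image_mono (le_top : V ≤ ⊤))).op (s j) := rfl
    rw [e1, hσ, res_res, res_res]
  have hmem : τ M (D b') t0 ∈ P := by
    rw [← τ_res M h1 t0, hsum]
    erw [map_sum]
    refine Submodule.sum_mem _ (fun j _ => ?_)
    have hy' := hy j
    rw [hs] at hy'
    have e5 : (tilde M).presheaf.map (homOfLE h1).op
        (restrictSec U (tilde M) V ((ψ j).app V ((freeπ (↑U) n j).app V x))) =
        (Spec R).presheaf.map (homOfLE h1).op
          (restrictO U V (toO ((freeπ (↑U) n j).app V x))) •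
          (tilde M).presheaf.map (homOfLE h2).op (σ j) := by
      rw [app_unit, smul_restrictSec, Scheme.Modules.map_smul]
      congr 1
    exact e5 ▸ P.smul_mem _ (hz j)
  rw [hP] at hmem
  obtain ⟨m0, hm0, s0, hs0⟩ := (Submodule.mem_localized' _ _ _ _ _).mp hmem
  rw [IsLocalizedModule.mk'_eq_iff] at hs0
  have e : τ M (D b') m0 = τ M (D b') ((s0 : R) • t0) := by
    rw [map_smul]; exact hs0
  obtain ⟨c0, hc0⟩ := (IsLocalizedModule.eq_iff_exists (Submonoid.powers b') (τ M (D b'))).mp e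
  have hle : Submonoid.powers b' ≤ p.asIdeal.primeCompl := Submonoid.powers_le.mpr hb'p
  refine ⟨(c0 : R) * (s0 : R), p.asIdeal.primeCompl.mul_mem (hle c0.2) (hle s0.2), ?_⟩
  rw [mul_smul]
  have e2 : (c0 : R) • ((s0 : R) • t0) = (c0 : R) • m0 := hc0.symm
  rw [e2]
  exact N.smul_mem _ hm0

end Main


/-- Let `R` be a commutative ring and `M` a finite `R`-module. Suppose `Spec R` is covered by opens `U
0, …, U (m-1)` (not necessarily affine) such that over each `U i` the restriction of the associated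
sheaf of modules `M~` is a quotient of the free module of rank `n` (it is generated by `n` sections
over `U i`). Then `M` is generated by `n * m` elements. -/
theorem result (R : CommRingCat.{u}) (M : ModuleCat.{u} R)
    [Module.Finite R M] (n m : ℕ) (U : Fin m → (Spec R).Opens) (hU : ⨆ i, U i = ⊤)
    (hgen : ∀ i, ∃ φ : FlatMod.freeMod (↑(U i)) n ⟶ (AlgebraicGeometry.tilde M).restrict (U i).ι, Epi φ) :
    ∃ s : Fin (n * m) → M, Submodule.span R (Set.range s) = ⊤ := by
  classical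
  choose φ hφ using hgen
  obtain ⟨a, ha_le, ha_cov⟩ := exists_a R U hU
  have hB : ∀ i, ∃ g : Fin n → M, ∀ (t0 : M) (p : PrimeSpectrum R), a i ∉ p.asIdeal →
      ∃ c : R, c ∉ p.asIdeal ∧ c • t0 ∈ Submodule.span R (Set.range g) := fun i =>
    haveI := hφ i
    local_gen R M n (U i) (φ i) (a i) (ha_le i)
  choose g hg using hB
  obtain ⟨s, hs⟩ : ∃ s : Fin (n * m) → M,
      s = fun k => g (finProdFinEquiv.symm k).2 (finProdFinEquiv.symm k).1 := ⟨_, rfl⟩
  refine ⟨s, ?_⟩
  have hle : ∀ i, Submodule.span R (Set.range (g i)) ≤ Submodule.span R (Set.range s) := by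
    intro i
    apply Submodule.span_mono
    rintro _ ⟨j, rfl⟩
    refine ⟨finProdFinEquiv (j, i), ?_⟩
    rw [hs]
    simp only [Equiv.symm_apply_apply]
  rw [eq_top_iff]
  intro t0 _
  by_contra ht0
  obtain ⟨I, hI⟩ : ∃ I : Ideal R,
      I = (Submodule.span R (Set.range s)).comap (LinearMap.toSpanSingleton R M t0) := ⟨_, rfl⟩
  have hmemI : ∀ c : R, c ∈ I ↔ c • t0 ∈ Submodule.span R (Set.range s) := by
    intro c
    rw [hI, Submodule.mem_comap, LinearMap.toSpanSingleton_apply]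
  have hIne : I ≠ ⊤ := by
    intro h
    apply ht0
    have h1 : (1 : R) ∈ I := by rw [h]; trivial
    have h2 := (hmemI 1).mp h1
    rwa [one_smul] at h2
  obtain ⟨𝔪, h𝔪, hle𝔪⟩ := Ideal.exists_le_maximal I hIne
  obtain ⟨i, hi⟩ := ha_cov ⟨𝔪, h𝔪.isPrime⟩
  obtain ⟨c, hc, hct⟩ := hg i t0 ⟨𝔪, h𝔪.isPrime⟩ hi
  exact hc (hle𝔪 ((hmemI c).mpr (hle i hct)))

end Groth.Agent.S17860
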