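import Groth.Statements.S17858
import Mathlib
import Groth.Agent.S17860

set_option autoImplicit false
open CategoryTheory AlgebraicGeometry
universe u
open Algz

namespace Groth.Agent.S17858

open CategoryTheory.Limits TopologicalSpace

/-- The intersection of preimages of affine opens lying over a common affine open of the base
is an affine open of the fibre product. -/
lemma isAffineOpen_pullback_inf {X Y Z : Scheme.{u}} {f : X ⟶ Z} {g : Y ⟶ Z}
    {U : X.Opens} (hU : IsAffineOpen U) {V : Y.Opens} (hV : IsAffineOpen V)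
    {W : Z.Opens} (hW : IsAffineOpen W) (hUW : U ≤ f ⁻¹ᵁ W) (hVW : V ≤ g ⁻¹ᵁ W) :
    IsAffineOpen (pullback.fst f g ⁻¹ᵁ U ⊓ pullback.snd f g ⁻¹ᵁ V) := by
  have : IsAffine U.toScheme := hU
  have : IsAffine W.toScheme := hW
  have : IsAffine V.toScheme := hV
  let f' : U.toScheme ⟶ W := f.resLE _ _ hUW
  let g' : V.toScheme ⟶ W := g.resLE _ _ hVW
  let p : pullback f' g' ⟶ pullback f g :=
    pullback.map _ _ _ _ U.ι V.ι W.ι (by simp [f']) (by simp [g'])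
  have hp : (pullback.fst f g ⁻¹ᵁ U ⊓ pullback.snd f g ⁻¹ᵁ V) = p.opensRange := by
    apply SetLike.coe_injective
    rw [Scheme.Hom.coe_opensRange]
    simp [p, Scheme.Pullback.range_map]
  rw [hp]
  exact isAffineOpen_opensRange p

set_option backward.isDefEq.respectTransparency false in
/-- On `D(a) ⊆ g⁻¹(Yi)`, the preimage of a basic open of `Yi` is a principal open of `Spec B`. -/
lemma exists_c {B : CommRingCat.{u}} {Y : Scheme.{u}} (g : Spec B ⟶ Y) (Yi : Y.Opens)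
    (h : Γ(Y, Yi)) (a : B) (ha : (PrimeSpectrum.basicOpen a : (Spec B).Opens) ≤ g ⁻¹ᵁ Yi) :
    ∃ c : B, (PrimeSpectrum.basicOpen (a * c) : (Spec B).Opens) =
      (PrimeSpectrum.basicOpen a : (Spec B).Opens) ⊓ g ⁻¹ᵁ (Y.basicOpen h) := by
  obtain ⟨s, hs⟩ : ∃ s : Γ(Spec B, PrimeSpectrum.basicOpen a),
      s = g.appLE Yi (PrimeSpectrum.basicOpen a) ha h := ⟨_, rfl⟩
  obtain ⟨n, c, hc⟩ := IsLocalization.Away.surj a s
  refine ⟨c, ?_⟩
  have h1 : (Spec B).basicOpen s =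
      (PrimeSpectrum.basicOpen a : (Spec B).Opens) ⊓ g ⁻¹ᵁ (Y.basicOpen h) := by
    rw [hs]
    exact Scheme.basicOpen_appLE g _ _ ha h
  have hunit : IsUnit (algebraMap B Γ(Spec B, PrimeSpectrum.basicOpen a) a) :=
    IsLocalization.Away.algebraMap_isUnit a
  have h2 : (Spec B).basicOpen (s * algebraMap B Γ(Spec B, PrimeSpectrum.basicOpen a) a ^ n) =
      (Spec B).basicOpen s := by
    rw [Scheme.basicOpen_mul, Scheme.basicOpen_of_isUnit _ (hunit.pow n), inf_eq_left]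
    exact Scheme.basicOpen_le _ _
  have h3 : (Spec B).basicOpen (algebraMap B Γ(Spec B, PrimeSpectrum.basicOpen a) c) =
      (PrimeSpectrum.basicOpen a : (Spec B).Opens) ⊓ PrimeSpectrum.basicOpen c := by
    rw [IsAffineOpen.algebraMap_Spec_obj]
    show (Spec B).basicOpen ((Spec B).presheaf.map (homOfLE le_top).op
      ((Scheme.ΓSpecIso B).inv c)) = _
    rw [Scheme.basicOpen_res, basicOpen_eq_of_affine]
  rw [PrimeSpectrum.basicOpen_mul, ← h3, ← hc, h2, h1]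

/-- For a quasi-compact open `V` of a quasi-compact quasi-separated scheme `Y`, the preimage of `V`
under any `Spec B ⟶ Y` is covered by a uniformly bounded number of principal opens. -/
lemma exists_uniform_cover (Y : Scheme.{u}) [CompactSpace Y] [QuasiSeparatedSpace Y]
    (V : Y.Opens) (hV : IsCompact (V : Set Y)) :
    ∃ (κ : Type u) (_ : Fintype κ), ∀ (B : CommRingCat.{u}) (g : Spec B ⟶ Y),
      ∃ b : κ → B, ∀ p : Spec B,
        g p ∈ V ↔ ∃ l, p ∈ (PrimeSpectrum.basicOpen (b l) : (Spec B).Opens) := by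
  classical
  have hY : ∀ y : Y, ∃ Yy : Y.Opens, IsAffineOpen Yy ∧ y ∈ Yy := by
    intro y
    obtain ⟨_, ⟨Yy, hYy, rfl⟩, hy, -⟩ :=
      Y.isBasis_affineOpens.exists_subset_of_mem_open (Set.mem_univ y) isOpen_univ
    exact ⟨Yy, hYy, hy⟩
  choose Yc hYc hyYc using hY
  obtain ⟨t, ht⟩ := CompactSpace.elim_nhds_subcover (fun y => (Yc y : Set Y))
    (fun y => (Yc y).2.mem_nhds (hyYc y))
  obtain ⟨n, ⟨e⟩⟩ : ∃ n, Nonempty ({y // y ∈ t} ≃ Fin n) := ⟨_, ⟨t.equivFin⟩⟩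
  obtain ⟨Yi, hYi⟩ : ∃ Yi : Fin n → Y.Opens, Yi = fun i => Yc (e.symm i).1 := ⟨_, rfl⟩
  have hYiaff : ∀ i, IsAffineOpen (Yi i) := fun i => by rw [hYi]; exact hYc _
  have hYicov : ∀ y : Y, ∃ i, y ∈ Yi i := by
    intro y
    have hy : y ∈ ⋃ y ∈ t, (Yc y : Set Y) := by rw [ht]; trivial
    simp only [Set.mem_iUnion] at hy
    obtain ⟨y0, hy0, hy⟩ := hy
    refine ⟨e ⟨y0, hy0⟩, ?_⟩
    rw [hYi]
    simp only [Equiv.symm_apply_apply]
    exact hy
  have hK : ∀ i, IsCompact ((V : Set Y) ∩ (Yi i : Set Y)) := fun i =>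
    QuasiSeparatedSpace.inter_isCompact _ _ V.2 hV (Yi i).2 (hYiaff i).isCompact
  have hh : ∀ i (x : Y) (hx : x ∈ (V : Set Y) ∩ (Yi i : Set Y)),
      ∃ h : Γ(Y, Yi i), Y.basicOpen h ≤ V ∧ x ∈ Y.basicOpen h := by
    intro i x hx
    exact (hYiaff i).exists_basicOpen_le ⟨x, hx.1⟩ hx.2
  choose h hhle hhmem using hh
  have ht2 : ∀ i, ∃ ti : Finset ((V : Set Y) ∩ (Yi i : Set Y) : Set Y),
      (V : Set Y) ∩ (Yi i : Set Y) ⊆ ⋃ x ∈ ti, (Y.basicOpen (h i x.1 x.2) : Set Y) := by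
    intro i
    exact (hK i).elim_nhds_subcover' (fun x hx => (Y.basicOpen (h i x hx) : Set Y))
      (fun x hx => (Y.basicOpen (h i x hx)).2.mem_nhds (hhmem i x hx))
  choose ti hti using ht2
  refine ⟨Σ i : Fin n, {x // x ∈ ti i}, inferInstance, ?_⟩
  intro B g
  have hG : ⨆ i, g ⁻¹ᵁ (Yi i) = ⊤ := by
    rw [eq_top_iff]
    intro p _
    obtain ⟨i, hi⟩ := hYicov (g p)
    exact Opens.mem_iSup.mpr ⟨i, hi⟩
  obtain ⟨a, ha_le, ha_cov⟩ := Groth.Agent.S17860.exists_a B (fun i => g ⁻¹ᵁ (Yi i)) hG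
  have hc : ∀ q : (Σ i : Fin n, {x // x ∈ ti i}), ∃ c : B,
      (PrimeSpectrum.basicOpen (a q.1 * c) : (Spec B).Opens) =
        (PrimeSpectrum.basicOpen (a q.1) : (Spec B).Opens) ⊓
          g ⁻¹ᵁ (Y.basicOpen (h q.1 q.2.1.1 q.2.1.2)) :=
    fun q => exists_c g (Yi q.1) (h q.1 q.2.1.1 q.2.1.2) (a q.1) (ha_le q.1)
  choose c hc using hc
  refine ⟨fun q => a q.1 * c q, ?_⟩
  intro p
  constructor
  · intro hp
    obtain ⟨i, hi⟩ := ha_cov p
    have hpa : p ∈ (PrimeSpectrum.basicOpen (a i) : (Spec B).Opens) :=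
      (PrimeSpectrum.mem_basicOpen _ _).mpr hi
    have hpY : g p ∈ Yi i := ha_le i hpa
    have hmem := hti i ⟨hp, hpY⟩
    simp only [Set.mem_iUnion] at hmem
    obtain ⟨x, hx, hgx⟩ := hmem
    refine ⟨⟨i, ⟨x, hx⟩⟩, ?_⟩
    show p ∈ (PrimeSpectrum.basicOpen (a i * c ⟨i, ⟨x, hx⟩⟩) : (Spec B).Opens)
    rw [hc ⟨i, ⟨x, hx⟩⟩]
    exact Opens.mem_inf.mpr ⟨hpa, hgx⟩
  · rintro ⟨q, hq⟩
    have hq' : p ∈ (PrimeSpectrum.basicOpen (a q.1 * c q) : (Spec B).Opens) := hq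
    rw [hc q] at hq'
    exact hhle _ _ _ (Opens.mem_inf.mp hq').2


/-- Let `j : W ⟶ Y` be a quasi-affine morphism of quasi-compact quasi-separated schemes. There is a
natural number `m` such that for every commutative ring `B` and every morphism `Spec B ⟶ Y`, the
fibre product `W ×_Y Spec B` is the union of `m` affine open subschemes. -/
theorem result {W Y : Scheme.{u}} (j : W ⟶ Y)
    [CompactSpace W] [QuasiSeparatedSpace W] [CompactSpace Y] [QuasiSeparatedSpace Y]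
    (hj : Mor2.IsQuasiAffine j) :
    ∃ m : ℕ, ∀ (B : CommRingCat.{u}) (g : Spec B ⟶ Y),
      ∃ U : Fin m → (Limits.pullback j g).Opens, (∀ k, IsAffineOpen (U k)) ∧ ⨆ k, U k = ⊤ := by
  classical
  have hW : ∀ w : W, ∃ (Vw : Y.Opens) (Ww : W.Opens), IsAffineOpen Vw ∧ IsAffineOpen Ww ∧
      w ∈ Ww ∧ Ww ≤ j ⁻¹ᵁ Vw := by
    intro w
    obtain ⟨_, ⟨Vw, hVw, rfl⟩, hjw, -⟩ :=
      Y.isBasis_affineOpens.exists_subset_of_mem_open (Set.mem_univ (j w)) isOpen_univ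
    obtain ⟨_, ⟨Ww, hWw, rfl⟩, hw, hle⟩ :=
      W.isBasis_affineOpens.exists_subset_of_mem_open
        (show w ∈ (j ⁻¹ᵁ Vw : Set W) from hjw) (j ⁻¹ᵁ Vw).isOpen
    exact ⟨Vw, Ww, hVw, hWw, hw, hle⟩
  choose Vc Wc hVc hWc hwWc hWV using hW
  obtain ⟨t, ht⟩ := CompactSpace.elim_nhds_subcover (fun w => (Wc w : Set W))
    (fun w => (Wc w).2.mem_nhds (hwWc w))
  have hU := fun w => exists_uniform_cover Y (Vc w) (hVc w).isCompact
  choose κ hκ hb using hU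
  letI : ∀ w, Fintype (κ w) := hκ
  obtain ⟨m, ⟨e⟩⟩ : ∃ m, Nonempty ((Σ w : {w // w ∈ t}, κ w.1) ≃ Fin m) :=
    ⟨_, ⟨Fintype.equivFin _⟩⟩
  refine ⟨m, fun B g => ?_⟩
  have hb' := fun w => hb w B g
  choose b hbiff using hb'
  refine ⟨fun q => Limits.pullback.fst j g ⁻¹ᵁ Wc (e.symm q).1.1 ⊓
    Limits.pullback.snd j g ⁻¹ᵁ
      (PrimeSpectrum.basicOpen (b (e.symm q).1.1 (e.symm q).2) : (Spec B).Opens), ?_, ?_⟩
  · intro q
    refine isAffineOpen_pullback_inf (hWc _) ?_ (hVc (e.symm q).1.1) (hWV _) ?_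
    · exact IsAffineOpen.Spec_basicOpen _
    · intro p hp
      exact (hbiff _ p).mpr ⟨_, hp⟩
  · rw [eq_top_iff]
    intro x _
    have hx : Limits.pullback.fst j g x ∈ ⋃ w ∈ t, (Wc w : Set W) := by rw [ht]; trivial
    simp only [Set.mem_iUnion] at hx
    obtain ⟨w, hwt, hxw⟩ := hx
    have h1 : j (Limits.pullback.fst j g x) ∈ Vc w := hWV w hxw
    have h2 : (Limits.pullback.snd j g ≫ g) x = (Limits.pullback.fst j g ≫ j) x := by
      rw [Limits.pullback.condition]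
    have h2' : g (Limits.pullback.snd j g x) = j (Limits.pullback.fst j g x) := h2
    rw [← h2'] at h1
    obtain ⟨l, hl⟩ := (hbiff w _).mp h1
    refine Opens.mem_iSup.mpr ⟨e ⟨⟨w, hwt⟩, l⟩, ?_⟩
    have key : ∀ q' : (Σ w : {w // w ∈ t}, κ w.1), q' = ⟨⟨w, hwt⟩, l⟩ →
        x ∈ Limits.pullback.fst j g ⁻¹ᵁ Wc q'.1.1 ⊓ Limits.pullback.snd j g ⁻¹ᵁ
          (PrimeSpectrum.basicOpen (b q'.1.1 q'.2) : (Spec B).Opens) := by
      rintro _ rfl
      exact TopologicalSpace.Opens.mem_inf.mpr ⟨hxw, hl⟩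
    exact key _ (e.symm_apply_apply _)

end Groth.Agent.S17858
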