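import Groth.Statements.S17859
import Mathlib.LinearAlgebra.Contraction
import Mathlib.RingTheory.Finiteness.Cardinality

set_option autoImplicit false
open CategoryTheory MonoidalCategory
universe u
open Algz

namespace Groth.Agent.S17859

open TensorProduct in
theorem exists_dualBasis (R : Type u) [CommRing R] (M : Type u) [AddCommGroup M] [Module R M]
    [Module.Finite R M] [Module.Projective R M] :
    ∃ (n : ℕ) (b : Fin n → M) (β : Fin n → Module.Dual R M), ∀ m : M, ∑ i, β i m • b i = m := by
  classical
  obtain ⟨n, p, hp⟩ := Module.Finite.exists_fin' R M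
  obtain ⟨s, hs⟩ := Module.projective_lifting_property p LinearMap.id hp
  refine ⟨n, fun i => p (Pi.single i 1), fun i => (LinearMap.proj i).comp s, ?_⟩
  intro m
  have h1 : s m = ∑ i, (s m i) • (Pi.single i (1 : R) : Fin n → R) := by
    ext j
    simp [Finset.sum_apply, Pi.single_apply]
  have h2 : p (s m) = m := LinearMap.congr_fun hs m
  conv_rhs => rw [← h2, h1]
  rw [map_sum]
  apply Finset.sum_congr rfl
  intro i _
  rw [map_smul]
  rfl

section
open TensorProduct
variable (R : Type u) [CommRing R] (M : Type u) [AddCommGroup M] [Module R M]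
  {n : ℕ} (b : Fin n → M) (β : Fin n → Module.Dual R M)

/-- The coevaluation attached to a finite dual basis. -/
noncomputable def coev : R →ₗ[R] M ⊗[R] Module.Dual R M :=
  LinearMap.toSpanSingleton R _ (∑ i, b i ⊗ₜ[R] β i)

theorem coev_apply (r : R) : coev R M b β r = r • ∑ i, b i ⊗ₜ[R] β i := rfl

variable {R M b β}

theorem dual_eq_sum (h : ∀ m : M, ∑ i, β i m • b i = m) (φ : Module.Dual R M) :
    ∑ i, φ (b i) • β i = φ := by
  ext m
  conv_rhs => rw [← h m]
  rw [map_sum, LinearMap.sum_apply]
  apply Finset.sum_congr rfl
  intro i _
  rw [LinearMap.smul_apply, map_smul, smul_eq_mul, smul_eq_mul, mul_comm]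

theorem lemmaA (h : ∀ m : M, ∑ i, β i m • b i = m) :
    (contractLeft R M).rTensor _ ∘ₗ
        (TensorProduct.assoc R _ _ _).symm.toLinearMap ∘ₗ
          (coev R M b β).lTensor (Module.Dual R M) =
      (TensorProduct.lid R _).symm.toLinearMap ∘ₗ (TensorProduct.rid R _).toLinearMap := by
  apply TensorProduct.ext'
  intro φ r
  simp only [LinearMap.coe_comp, Function.comp_apply, LinearEquiv.coe_toLinearMap,
    LinearMap.lTensor_tmul, coev_apply, TensorProduct.rid_tmul, TensorProduct.lid_symm_apply]
  rw [TensorProduct.tmul_smul, map_smul, map_smul, TensorProduct.tmul_sum, map_sum, map_sum]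
  simp only [TensorProduct.assoc_symm_tmul, LinearMap.rTensor_tmul, contractLeft_apply]
  have : ∀ i, (φ (b i)) ⊗ₜ[R] β i = (1 : R) ⊗ₜ[R] (φ (b i) • β i) := by
    intro i
    rw [TensorProduct.tmul_smul, TensorProduct.smul_tmul', smul_eq_mul, mul_one]
  simp only [this]
  rw [← TensorProduct.tmul_sum, dual_eq_sum h, TensorProduct.tmul_smul]

theorem lemmaB (h : ∀ m : M, ∑ i, β i m • b i = m) :
    (contractLeft R M).lTensor _ ∘ₗ
        (TensorProduct.assoc R _ _ _).toLinearMap ∘ₗ (coev R M b β).rTensor M =
      (TensorProduct.rid R _).symm.toLinearMap ∘ₗ (TensorProduct.lid R _).toLinearMap := by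
  apply TensorProduct.ext'
  intro r m
  simp only [LinearMap.coe_comp, Function.comp_apply, LinearEquiv.coe_toLinearMap,
    LinearMap.rTensor_tmul, coev_apply, TensorProduct.lid_tmul, TensorProduct.rid_symm_apply]
  rw [← TensorProduct.smul_tmul', map_smul, map_smul, TensorProduct.sum_tmul, map_sum, map_sum]
  simp only [TensorProduct.assoc_tmul, LinearMap.lTensor_tmul, contractLeft_apply]
  have : ∀ i, b i ⊗ₜ[R] (β i m) = (β i m • b i) ⊗ₜ[R] (1 : R) := by
    intro i
    rw [TensorProduct.smul_tmul, smul_eq_mul, mul_one]
  simp only [this]
  rw [← TensorProduct.sum_tmul, h m, TensorProduct.smul_tmul']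

end


/-- Over an affine scheme, that is for modules over a commutative ring `R`, a finitely generated
projective `R`-module `M`, viewed as an object of the monoidal category of `R`-modules (tensor
product over `R`), has a right dual. (The published statement is the equivalence, for quasi-coherent
sheaves on a quasi-compact quasi-separated scheme, between being dualizable and being a vector
bundle; stated here is the affine case of the implication from vector bundle to dualizable. The
converse implication, that a module admitting a dual is finitely generated projective, is stated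
separately and is not repeated here.) -/
theorem result (R : Type u) [CommRing R] (M : ModuleCat.{u} R)
    [Module.Finite R M] [Module.Projective R M] : Nonempty (HasRightDual M) := by
  obtain ⟨n, b, β, h⟩ := exists_dualBasis R M
  let Y : ModuleCat.{u} R := ModuleCat.of R (Module.Dual R M)
  haveI : ExactPairing M Y :=
    { coevaluation' := ModuleCat.ofHom (coev R M b β)
      evaluation' := ModuleCat.ofHom (contractLeft R M)
      coevaluation_evaluation' := by
        ext : 1
        exact lemmaA h
      evaluation_coevaluation' := by
        ext : 1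
        exact lemmaB h }
  exact ⟨⟨Y⟩⟩

end Groth.Agent.S17859
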