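import Groth.Statements.S17863
import Mathlib

set_option autoImplicit false
open CategoryTheory AlgebraicGeometry
universe u
open Algz

namespace Groth.Agent.S17863

/-- Let `A` be a commutative ring which is `I`-adically complete for an ideal `I` and let `X` be a
quasi-affine scheme. Then the natural map from `X(A)` to compatible systems in the `X(A/I^n)` is
bijective: two morphisms `Spec A ⟶ X` with the same restriction to every `Spec (A/I^n)` are equal,
and every family of morphisms `Spec (A/I^n) ⟶ X` compatible with the transition maps `Spec (A/I^n) ⟶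
Spec (A/I^(n+1))` is the family of restrictions of a morphism `Spec A ⟶ X`. -/
theorem result (A : Type u) [CommRing A] (I : Ideal A) [IsAdicComplete I A]
    (X : Scheme.{u}) [X.IsQuasiAffine] :
    (∀ f g : Spec (CommRingCat.of A) ⟶ X,
      (∀ n : ℕ, Spec.map (CommRingCat.ofHom (Ideal.Quotient.mk (I ^ n))) ≫ f =
        Spec.map (CommRingCat.ofHom (Ideal.Quotient.mk (I ^ n))) ≫ g) → f = g) ∧
    (∀ e : ∀ n : ℕ, Spec (CommRingCat.of (A ⧸ I ^ n)) ⟶ X,
      (∀ n : ℕ, Spec.map (CommRingCat.ofHom (Ideal.Quotient.factorPowSucc I n)) ≫ e (n + 1) = e n) →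
      ∃ f : Spec (CommRingCat.of A) ⟶ X,
        ∀ n : ℕ, Spec.map (CommRingCat.ofHom (Ideal.Quotient.mk (I ^ n))) ≫ f = e n) := by
  have hj : IsOpenImmersion X.toSpecΓ := inferInstance
  refine ⟨?_, ?_⟩
  · intro f g hfg
    obtain ⟨φ, hφ⟩ : ∃ φ : Γ(X, ⊤) ⟶ CommRingCat.of A, Spec.map φ = f ≫ X.toSpecΓ :=
      ⟨Spec.preimage (f ≫ X.toSpecΓ), Spec.map_preimage _⟩
    obtain ⟨ψ, hψ⟩ : ∃ ψ : Γ(X, ⊤) ⟶ CommRingCat.of A, Spec.map ψ = g ≫ X.toSpecΓ :=
      ⟨Spec.preimage (g ≫ X.toSpecΓ), Spec.map_preimage _⟩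
    have hφψ : φ = ψ := by
      ext b
      have hH : IsHausdorff I A := inferInstance
      rw [← sub_eq_zero]
      refine IsHausdorff.haus hH _ (fun n => ?_)
      have h1 : Spec.map (CommRingCat.ofHom (Ideal.Quotient.mk (I ^ n))) ≫ Spec.map φ =
          Spec.map (CommRingCat.ofHom (Ideal.Quotient.mk (I ^ n))) ≫ Spec.map ψ := by
        rw [hφ, hψ, ← Category.assoc, ← Category.assoc, hfg n]
      rw [← Spec.map_comp, ← Spec.map_comp] at h1
      have h2 := Spec.map_injective h1
      have h3 : Ideal.Quotient.mk (I ^ n) (φ.hom b) = Ideal.Quotient.mk (I ^ n) (ψ.hom b) :=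
        congr(($h2).hom b)
      rw [SModEq.zero, smul_eq_mul, Ideal.mul_top]
      exact Ideal.Quotient.eq.mp h3
    apply (cancel_mono X.toSpecΓ).mp
    rw [← hφ, ← hψ, hφψ]
  · intro e he
    let φ : ∀ n, Γ(X, ⊤) ⟶ CommRingCat.of (A ⧸ I ^ n) := fun n => Spec.preimage (e n ≫ X.toSpecΓ)
    have hφ : ∀ n, Spec.map (φ n) = e n ≫ X.toSpecΓ := fun n => Spec.map_preimage _
    have hsucc : ∀ n, φ (n + 1) ≫ CommRingCat.ofHom (Ideal.Quotient.factorPowSucc I n) = φ n := by
      intro n
      apply Spec.map_injective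
      rw [Spec.map_comp, hφ, hφ, ← Category.assoc, he n]
    have hcompat : ∀ (m n : ℕ) (hle : m ≤ n),
        (Ideal.Quotient.factorPow I hle).comp (φ n).hom = (φ m).hom := by
      intro m n hle
      induction n, hle using Nat.le_induction with
      | base =>
        ext x
        obtain ⟨a, ha⟩ := Ideal.Quotient.mk_surjective ((φ m).hom x)
        simp only [RingHom.comp_apply, ← ha, Ideal.Quotient.factor_mk]
      | succ n hmn ih =>
        rw [← ih]
        ext x
        have h1 : (φ n).hom x = Ideal.Quotient.factorPowSucc I n ((φ (n + 1)).hom x) := by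
          rw [← hsucc n]; rfl
        obtain ⟨a, ha⟩ := Ideal.Quotient.mk_surjective ((φ (n + 1)).hom x)
        simp only [RingHom.comp_apply, h1, ← ha, Ideal.Quotient.factor_mk]
    let Φ : Γ(X, ⊤) →+* A :=
      IsAdicComplete.liftRingHom I (fun n => (φ n).hom) (fun {m n} hle => hcompat m n hle)
    have hΦ : ∀ n, (Ideal.Quotient.mk (I ^ n)).comp Φ = (φ n).hom := fun n =>
      IsAdicComplete.mk_comp_liftRingHom I _ (fun {m n} hle => hcompat m n hle) n
    let F : Spec (CommRingCat.of A) ⟶ Spec Γ(X, ⊤) := Spec.map (CommRingCat.ofHom Φ)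
    have hFn : ∀ n, Spec.map (CommRingCat.ofHom (Ideal.Quotient.mk (I ^ n))) ≫ F =
        e n ≫ X.toSpecΓ := by
      intro n
      rw [← hφ n, ← Spec.map_comp]
      congr 1
      ext x
      exact congr($(hΦ n) x)
    have hrange : Set.range F.base ⊆ Set.range X.toSpecΓ.base := by
      rintro _ ⟨x, rfl⟩
      by_contra hx
      have hopen : IsOpen (F.base ⁻¹' (Set.range X.toSpecΓ.base)) :=
        X.toSpecΓ.isOpenEmbedding.isOpen_range.preimage F.continuous
      obtain ⟨s, hs⟩ := (PrimeSpectrum.isClosed_iff_zeroLocus _).mp hopen.isClosed_compl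
      have hxs : x ∈ PrimeSpectrum.zeroLocus s := by
        rw [← hs]; exact hx
      obtain ⟨m, hm, hxm⟩ := Ideal.exists_le_maximal x.asIdeal x.isPrime.ne_top
      let y : ↥(Spec (CommRingCat.of A)) := (⟨m, hm.isPrime⟩ : PrimeSpectrum A)
      have hy : y ∈ PrimeSpectrum.zeroLocus s := fun a ha => hxm (hxs ha)
      have hIm : I ^ 1 ≤ m := by
        rw [pow_one]
        intro a ha
        have h1 := IsAdicComplete.le_jacobson_bot I ha
        rw [Ideal.jacobson, Ideal.mem_sInf] at h1
        exact h1 ⟨bot_le, hm⟩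
      have hy0 : ∃ y' : ↥(Spec (CommRingCat.of (A ⧸ I ^ 1))),
          (Spec.map (CommRingCat.ofHom (Ideal.Quotient.mk (I ^ 1)))).base y' = y := by
        have h0 : (y : PrimeSpectrum A) ∈
            Set.range (PrimeSpectrum.comap (Ideal.Quotient.mk (I ^ 1))) := by
          rw [_root_.range_comap_of_surjective _ _ Ideal.Quotient.mk_surjective,
            Ideal.mk_ker]
          exact fun a ha => hIm ha
        obtain ⟨y', hy'⟩ := h0
        exact ⟨y', hy'⟩
      obtain ⟨y', hy'⟩ := hy0
      have hy2 : y ∈ F.base ⁻¹' (Set.range X.toSpecΓ.base) := by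
        have h2 : F.base y = X.toSpecΓ.base ((e 1).base y') := by
          rw [← hy', ← Scheme.Hom.comp_apply, ← Scheme.Hom.comp_apply, hFn 1]
        exact ⟨(e 1).base y', h2.symm⟩
      have hy3 : y ∈ (F.base ⁻¹' (Set.range X.toSpecΓ.base))ᶜ := by
        rw [hs]; exact hy
      exact hy3 hy2
    refine ⟨IsOpenImmersion.lift X.toSpecΓ F hrange, fun n => ?_⟩
    apply (cancel_mono X.toSpecΓ).mp
    rw [Category.assoc, IsOpenImmersion.lift_fac, hFn n]

end Groth.Agent.S17863
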