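import Groth.Statements.S17864
import Mathlib.RingTheory.Finiteness.Cardinality
import Mathlib.Algebra.Module.Projective

set_option autoImplicit false
universe u
open Algz

namespace Groth.Agent.S17864


theorem mem_smul_top_pi {A : Type*} [CommRing A] (J : Ideal A) {k : ℕ} (x : Fin k → A) :
    x ∈ (J • ⊤ : Submodule A (Fin k → A)) ↔ ∀ i, x i ∈ J := by
  constructor
  · intro hx i
    refine Submodule.smul_induction_on hx (fun r hr y _ => ?_) (fun y z hy hz => ?_)
    · show r * y i ∈ J
      exact J.mul_mem_right _ hr
    · exact J.add_mem hy hz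
  · intro hx
    have h : x = ∑ i, x i • (Pi.single i (1 : A) : Fin k → A) := by
      ext j
      simp [Finset.sum_apply, Pi.single_apply]
    rw [h]
    exact Submodule.sum_mem _ fun i _ => Submodule.smul_mem_smul (hx i) Submodule.mem_top

theorem mem_smul_top_self {A : Type*} [CommRing A] (J : Ideal A) (x : A) :
    x ∈ (J • ⊤ : Submodule A A) ↔ x ∈ J := by
  rw [smul_eq_mul, Ideal.mul_top]

theorem map_mem_smul_top {A M N : Type*} [CommRing A] [AddCommGroup M] [Module A M]
    [AddCommGroup N] [Module A N] (J : Ideal A) (φ : M →ₗ[A] N) {x : M}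
    (hx : x ∈ (J • ⊤ : Submodule A M)) : φ x ∈ (J • ⊤ : Submodule A N) := by
  have h : φ x ∈ (J • ⊤ : Submodule A M).map φ := Submodule.mem_map_of_mem hx
  rw [Submodule.map_smul''] at h
  exact Submodule.smul_mono le_rfl le_top h

theorem isAdicComplete_pi {A : Type*} [CommRing A] (I : Ideal A) [IsAdicComplete I A] (k : ℕ) :
    IsAdicComplete I (Fin k → A) where
  haus' := by
    intro x hx
    ext i
    apply IsHausdorff.haus' (I := I) (x i)
    intro n
    have h := hx n
    rw [SModEq.sub_mem, sub_zero] at h ⊢
    rw [mem_smul_top_self]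
    exact (mem_smul_top_pi (I ^ n) x).1 h i
  prec' := by
    intro f hf
    have hcomp : ∀ i, ∃ L : A, ∀ n, f n i ≡ L [SMOD (I ^ n • ⊤ : Submodule A A)] := by
      intro i
      refine IsPrecomplete.prec' (fun n => f n i) (fun {m n} hmn => ?_)
      have h := hf hmn
      rw [SModEq.sub_mem] at h ⊢
      rw [mem_smul_top_self]
      exact (mem_smul_top_pi (I ^ m) _).1 h i
    choose L hL using hcomp
    refine ⟨L, fun n => ?_⟩
    rw [SModEq.sub_mem, mem_smul_top_pi]
    intro i
    have h := hL i n
    rw [SModEq.sub_mem, mem_smul_top_self] at h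
    exact h

theorem isAdicComplete_of_finite_projective {A : Type*} [CommRing A] (I : Ideal A)
    [IsAdicComplete I A] (Q : Type*) [AddCommGroup Q] [Module A Q] [Module.Finite A Q]
    [Module.Projective A Q] : IsAdicComplete I Q := by
  obtain ⟨k, π, hπ⟩ := Module.Finite.exists_fin' A Q
  obtain ⟨s, hs⟩ := Module.projective_lifting_property π LinearMap.id hπ
  have hπs : ∀ x, π (s x) = x := fun x => LinearMap.congr_fun hs x
  haveI := isAdicComplete_pi I k
  refine { haus' := ?_, prec' := ?_ }
  · intro x hx
    have h0 : s x = 0 := by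
      apply IsHausdorff.haus' (I := I) (s x)
      intro n
      have h := hx n
      rw [SModEq.sub_mem, sub_zero] at h ⊢
      exact map_mem_smul_top _ s h
    rw [← hπs x, h0, map_zero]
  · intro f hf
    obtain ⟨L, hL⟩ := IsPrecomplete.prec' (I := I) (fun n => s (f n)) (fun {m n} hmn => by
      have h := hf hmn
      rw [SModEq.sub_mem] at h ⊢
      rw [← map_sub]
      exact map_mem_smul_top _ s h)
    refine ⟨π L, fun n => ?_⟩
    have h := hL n
    rw [SModEq.sub_mem] at h ⊢
    have h2 := map_mem_smul_top _ π h
    rwa [map_sub, hπs] at h2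


/-- The full-faithfulness assertion. Let `A` be a commutative ring which is `I`-adically complete for an
ideal `I`, and `P`, `Q` finitely generated projective `A`-modules. An `A`-linear map `P → Q` is
determined by its reductions modulo the powers `I^n`, and every family of `A`-linear maps `P/I^n P →
Q/I^n Q` compatible with the transition maps is the family of reductions of an `A`-linear map `P →
Q`. (The companion assertion, that compatible systems of finite projective modules over the rings
`A/I^n` lift to `A`, is not restated here.) -/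
theorem result (A : Type u) [CommRing A] (I : Ideal A)
    [IsAdicComplete I A] (P Q : Type u) [AddCommGroup P] [Module A P] [Module.Finite A P]
    [Module.Projective A P] [AddCommGroup Q] [Module A Q] [Module.Finite A Q] [Module.Projective A Q] :
    (∀ f f' : P →ₗ[A] Q, (∀ n : ℕ, f.reduceModIdeal (I ^ n) = f'.reduceModIdeal (I ^ n)) → f = f') ∧
    (∀ g : ∀ n : ℕ, P ⧸ (I ^ n • ⊤ : Submodule A P) →ₗ[A] Q ⧸ (I ^ n • ⊤ : Submodule A Q),
      (∀ n : ℕ, AdicCompletion.transitionMap I Q (Nat.le_succ n) ∘ₗ g (n + 1) =
        g n ∘ₗ AdicCompletion.transitionMap I P (Nat.le_succ n)) →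
      ∃ f : P →ₗ[A] Q, ∀ n : ℕ, f.reduceModIdeal (I ^ n) = g n) := by
  haveI : IsAdicComplete I Q := isAdicComplete_of_finite_projective I Q
  refine ⟨fun f f' h => ?_, fun g hg => ?_⟩
  · apply LinearMap.ext
    intro p
    rw [← sub_eq_zero]
    apply IsHausdorff.haus' (I := I) (f p - f' p)
    intro n
    rw [SModEq.sub_mem, sub_zero, ← Submodule.Quotient.mk_eq_zero, Submodule.Quotient.mk_sub,
      sub_eq_zero]
    exact LinearMap.congr_fun (h n) (Submodule.Quotient.mk p)
  · let fn : ∀ n : ℕ, P →ₗ[A] Q ⧸ (I ^ n • ⊤ : Submodule A Q) := fun n =>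
      g n ∘ₗ Submodule.mkQ (I ^ n • ⊤ : Submodule A P)
    have hsucc : ∀ {m : ℕ}, Submodule.factorPow I Q (strictMono_id.monotone m.le_succ) ∘ₗ
        fn (m + 1) = fn m := by
      intro m
      apply LinearMap.ext
      intro p
      have h := LinearMap.congr_fun (hg m) (Submodule.Quotient.mk p)
      exact h
    have hcompat : ∀ {m n : ℕ} (hle : m ≤ n), Submodule.factorPow I Q hle ∘ₗ fn n = fn m :=
      fun {m n} hle =>
        IsAdicComplete.StrictMono.factorPow_comp_eq_of_factorPow_comp_succ_eq strictMono_id fn
          hsucc hle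
    refine ⟨IsAdicComplete.lift I fn hcompat, fun n => ?_⟩
    apply LinearMap.ext
    intro x
    obtain ⟨p, rfl⟩ := Submodule.Quotient.mk_surjective _ x
    exact LinearMap.congr_fun (IsAdicComplete.mkQ_comp_lift (I := I) hcompat n) p

end Groth.Agent.S17864
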