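import Groth.Statements.S17866
-- import your own Groth.Agent.* helpers here

set_option autoImplicit false
open CategoryTheory AlgebraicGeometry
universe u
open Algz

namespace Groth.Agent.S17866


open W4c5algebraiztannaka Topology

/-- constructible sets are retrocompact. -/
theorem isRetrocompact_of_isConstructible {X : Type*} [TopologicalSpace X] {s : Set X}
    (hs : IsConstructible s) : IsRetrocompact s := by
  induction s, hs using BooleanSubalgebra.closure_sdiff_sup_induction with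
  | isSublattice =>
    exact ⟨fun s hs t ht ↦ ⟨hs.1.union ht.1, hs.2.union ht.2⟩,
      fun s hs t ht ↦ ⟨hs.1.inter ht.1, hs.2.inter_isOpen ht.2 ht.1⟩⟩
  | bot_mem => exact ⟨isOpen_empty, .empty⟩
  | top_mem => exact ⟨isOpen_univ, .univ⟩
  | sdiff U hU V hV =>
    intro K hK hKo
    have h : (U \ V) ∩ K = (U ∩ K) ∩ Vᶜ := by
      ext x
      simp only [Set.mem_inter_iff, Set.mem_sdiff, Set.mem_compl_iff]
      tauto
    rw [h]
    exact (hU.2 hK hKo).inter_right hV.1.isClosed_compl
  | sup s _ t _ hs' ht' => exact hs'.union ht'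

/-- image of a constructible set under an embedding whose range is a difference of closed
constructible sets. -/
theorem isConstructible_image_of_isEmbedding {X Y : Type*} [TopologicalSpace X]
    [TopologicalSpace Y] [CompactSpace Y] {f : X → Y} (hf : IsEmbedding f) {B C : Set Y}
    (hB : IsClosed B) (hBc : IsConstructible B) (hC : IsClosed C) (hCc : IsConstructible C)
    (hrange : Set.range f = C \ B) {s : Set X} (hs : IsConstructible s) :
    IsConstructible (f '' s) := by
  have hιC : IsClosedEmbedding (Subtype.val : C → Y) := hC.isClosedEmbedding_subtypeVal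
  have hCcompl : IsRetrocompact (Set.range (Subtype.val : C → Y))ᶜ := by
    rw [Subtype.range_coe]
    exact isRetrocompact_of_isConstructible hCc.compl
  let O' : Set C := (Subtype.val : C → Y) ⁻¹' Bᶜ
  have hO'open : IsOpen O' := hB.isOpen_compl.preimage continuous_subtype_val
  have hO'retro : IsRetrocompact O' :=
    IsRetrocompact.preimage_of_isClosedEmbedding hιC hCcompl.isCompact
      (isRetrocompact_of_isConstructible hBc.compl)
  have hιO : IsOpenEmbedding (Subtype.val : O' → C) := hO'open.isOpenEmbedding_subtypeVal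
  have hOrange : IsRetrocompact (Set.range (Subtype.val : O' → C)) := by
    rw [Subtype.range_coe]
    exact hO'retro
  have hmem : ∀ x, f x ∈ C \ B := fun x => hrange ▸ Set.mem_range_self x
  let h : X → O' := fun x => ⟨⟨f x, (hmem x).1⟩, (hmem x).2⟩
  have hhrange : Set.range h = Set.univ := by
    ext ⟨⟨y, hyC⟩, hyB⟩
    simp only [Set.mem_univ, iff_true]
    have hy : y ∈ Set.range f := by
      rw [hrange]
      exact ⟨hyC, hyB⟩
    obtain ⟨x, rfl⟩ := hy
    exact ⟨x, rfl⟩
  have hh : IsOpenEmbedding h := by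
    have hemb : IsEmbedding h := by
      refine IsEmbedding.of_comp ((hf.continuous.subtype_mk _).subtype_mk _)
        (continuous_subtype_val.comp continuous_subtype_val) ?_
      exact hf
    refine ⟨hemb, ?_⟩
    rw [hhrange]
    exact isOpen_univ
  have h1 := hs.image_of_isOpenEmbedding hh (by rw [hhrange]; exact IsRetrocompact.univ)
  have h2 := h1.image_of_isOpenEmbedding hιO hOrange
  have h3 := h2.image_of_isClosedEmbedding hιC hCcompl
  have h4 : f '' s = (Subtype.val : C → Y) '' ((Subtype.val : O' → C) '' (h '' s)) := by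
    rw [Set.image_image, Set.image_image]
  rw [h4]
  exact h3

theorem isClosed_union_image {X Y : Type*} [TopologicalSpace X] [TopologicalSpace Y] {f : X → Y}
    (hf : IsEmbedding f) {B C : Set Y} (hB : IsClosed B) (hC : IsClosed C)
    (hrange : Set.range f = C \ B) {D : Set X} (hD : IsClosed D) : IsClosed (B ∪ f '' D) := by
  have h0 := hf.closure_eq_preimage_closure_image D
  rw [hD.closure_eq] at h0
  set K := closure (f '' D) with hK
  have h1 : f '' D = K ∩ Set.range f := by
    conv_lhs => rw [h0]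
    rw [Set.image_preimage_eq_inter_range]
  have h2 : B ∪ f '' D = B ∪ (K ∩ C) := by
    rw [h1, hrange]
    ext y
    simp only [Set.mem_union, Set.mem_inter_iff, Set.mem_sdiff]
    tauto
  rw [h2]
  exact hB.union (isClosed_closure.inter hC)

/-- chains of closed constructible subsets with sections over the successive differences. -/
inductive Chain {U Y : Scheme.{u}} (f : U ⟶ Y) (A : Set Y) : Set Y → ℕ → Prop
  | refl : Chain f A A 0
  | step {B C : Set Y} {n : ℕ} : Chain f A B n → B ⊆ C → IsClosed C → IsConstructible C →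
      HasSectOver f (C \ B) → Chain f A C (n + 1)

theorem Chain.trans {U Y : Scheme.{u}} {f : U ⟶ Y} {A B C : Set Y} {a b : ℕ}
    (h1 : Chain f A B a) (h2 : Chain f B C b) : Chain f A C (a + b) := by
  induction h2 with
  | refl => exact h1
  | step _ hsub hcl hcons hsect ih => exact Chain.step ih hsub hcl hcons hsect

theorem chain_of_flag {U Y : Scheme.{u}} {f : U ⟶ Y} {m : ℕ} (Z : Fin (m + 1) → Set Y)
    (hmono : Monotone Z) (hcc : ∀ k, IsClosed (Z k) ∧ IsConstructible (Z k))
    (hsect : ∀ k : Fin m, HasSectOver f (Z k.succ \ Z k.castSucc)) :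
    ∀ (j : ℕ) (hj : j < m + 1), Chain f (Z 0) (Z ⟨j, hj⟩) j := by
  intro j
  induction j with
  | zero =>
    intro hj
    have h0 : (⟨0, hj⟩ : Fin (m + 1)) = 0 := Fin.ext (by simp)
    rw [h0]
    exact Chain.refl
  | succ j ih =>
    intro hj
    have hj' : j < m := Nat.lt_of_succ_lt_succ hj
    have c := ih (Nat.lt_succ_of_lt hj')
    have hs := hsect ⟨j, hj'⟩
    have e1 : (⟨j, hj'⟩ : Fin m).succ = ⟨j + 1, hj⟩ := rfl
    have e2 : (⟨j, hj'⟩ : Fin m).castSucc = ⟨j, Nat.lt_succ_of_lt hj'⟩ := rfl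
    rw [e1, e2] at hs
    exact Chain.step c (hmono (Fin.mk_le_mk.2 (Nat.le_succ j))) (hcc _).1 (hcc _).2 hs

theorem flag_of_chain {U Y : Scheme.{u}} {f : U ⟶ Y} {A B : Set Y} {n : ℕ} (h : Chain f A B n)
    (hA : IsClosed A) (hAc : IsConstructible A) :
    ∃ Z : Fin (n + 1) → Set Y, Z 0 = A ∧ Z (Fin.last n) = B ∧ Monotone Z ∧
      (∀ k, IsClosed (Z k) ∧ IsConstructible (Z k)) ∧
      ∀ k : Fin n, HasSectOver f (Z k.succ \ Z k.castSucc) := by
  induction h with
  | refl =>
    exact ⟨fun _ => A, rfl, rfl, fun _ _ _ => le_rfl, fun _ => ⟨hA, hAc⟩, fun k => k.elim0⟩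
  | @step B C n hch hsub hcl hcons hsect ih =>
    obtain ⟨Z, hZ0, hZl, hZm, hZcc, hZs⟩ := ih
    refine ⟨Fin.snoc (α := fun _ => Set Y) Z C, ?_, ?_, ?_, ?_, ?_⟩
    · have : (0 : Fin (n + 1 + 1)) = (0 : Fin (n + 1)).castSucc := rfl
      rw [this, Fin.snoc_castSucc]
      exact hZ0
    · exact Fin.snoc_last (α := fun _ => Set Y) C Z
    · rw [Fin.monotone_iff_le_succ]
      intro i
      induction i using Fin.lastCases with
      | last =>
        rw [Fin.snoc_castSucc, Fin.succ_last, Fin.snoc_last, hZl]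
        exact hsub
      | cast i =>
        rw [Fin.snoc_castSucc, Fin.succ_castSucc, Fin.snoc_castSucc]
        exact (Fin.monotone_iff_le_succ.1 hZm) i
    · intro k
      induction k using Fin.lastCases with
      | last =>
        rw [Fin.snoc_last]
        exact ⟨hcl, hcons⟩
      | cast i =>
        rw [Fin.snoc_castSucc]
        exact hZcc i
    · intro k
      induction k using Fin.lastCases with
      | last =>
        rw [Fin.snoc_castSucc, Fin.succ_last, Fin.snoc_last, hZl]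
        exact hsect
      | cast i =>
        rw [Fin.snoc_castSucc, Fin.succ_castSucc, Fin.snoc_castSucc]
        exact hZs i

theorem chain_comp_step {Y₁ Y₂ Y₃ : Scheme.{u}} (g₁ : Y₁ ⟶ Y₂) (g₂ : Y₂ ⟶ Y₃) [CompactSpace Y₃]
    {m₁ : ℕ} (Z : Fin (m₁ + 1) → Set Y₂) (hZ0 : Z 0 = ∅) (hZl : Z (Fin.last m₁) = Set.univ)
    (hmono : Monotone Z) (hcc : ∀ k, IsClosed (Z k) ∧ IsConstructible (Z k))
    (hsect : ∀ k : Fin m₁, HasSectOver g₁ (Z k.succ \ Z k.castSucc))
    {B C : Set Y₃} (hB : IsClosed B) (hBc : IsConstructible B) (hBC : B ⊆ C) (hC : IsClosed C)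
    (hCc : IsConstructible C) (hs : HasSectOver g₂ (C \ B)) : Chain (g₁ ≫ g₂) B C m₁ := by
  obtain ⟨T, gT, s, himm, hrange, hsg⟩ := hs
  have hemb : IsEmbedding (gT : T → Y₃) := gT.isEmbedding
  have hrange' : Set.range (gT : T → Y₃) = C \ B := hrange
  let X : Fin (m₁ + 1) → Set Y₃ := fun j => B ∪ (gT : T → Y₃) '' ((s : T → Y₂) ⁻¹' Z j)
  have hXcl : ∀ j, IsClosed (X j) := fun j =>
    isClosed_union_image hemb hB hC hrange' ((hcc j).1.preimage s.continuous)
  have hXc : ∀ j, IsConstructible (X j) := fun j =>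
    hBc.union (isConstructible_image_of_isEmbedding hemb hB hBc hC hCc hrange'
      (s.isConstructible_preimage (hcc j).2))
  have hX : ∀ (j : ℕ) (hj : j < m₁ + 1), Chain (g₁ ≫ g₂) B (X ⟨j, hj⟩) j := by
    intro j
    induction j with
    | zero =>
      intro hj
      have h0 : (⟨0, hj⟩ : Fin (m₁ + 1)) = 0 := Fin.ext (by simp)
      have hX0 : X ⟨0, hj⟩ = B := by
        show B ∪ (gT : T → Y₃) '' ((s : T → Y₂) ⁻¹' Z ⟨0, hj⟩) = B
        rw [h0, hZ0, Set.preimage_empty, Set.image_empty, Set.union_empty]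
      rw [hX0]
      exact Chain.refl
    | succ j ih =>
      intro hj
      have hj' : j < m₁ := Nat.lt_of_succ_lt_succ hj
      have c := ih (Nat.lt_succ_of_lt hj')
      have hs1 := hsect ⟨j, hj'⟩
      have e1 : (⟨j, hj'⟩ : Fin m₁).succ = ⟨j + 1, hj⟩ := rfl
      have e2 : (⟨j, hj'⟩ : Fin m₁).castSucc = ⟨j, Nat.lt_succ_of_lt hj'⟩ := rfl
      rw [e1, e2] at hs1
      have hZsub : Z ⟨j, Nat.lt_succ_of_lt hj'⟩ ⊆ Z ⟨j + 1, hj⟩ :=
        hmono (Fin.mk_le_mk.2 (Nat.le_succ j))
      refine Chain.step c ?_ (hXcl _) (hXc _) ?_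
      · exact Set.union_subset_union_right _ (Set.image_mono (Set.preimage_mono hZsub))
      · -- the section
        have hdiff : X ⟨j + 1, hj⟩ \ X ⟨j, Nat.lt_succ_of_lt hj'⟩ =
            (gT : T → Y₃) '' ((s : T → Y₂) ⁻¹'
              (Z ⟨j + 1, hj⟩ \ Z ⟨j, Nat.lt_succ_of_lt hj'⟩)) := by
          ext y
          simp only [X, Set.mem_sdiff, Set.mem_union, Set.mem_image, Set.mem_preimage, not_or,
            not_exists, not_and]
          constructor
          · rintro ⟨hy1, hy2, hy3⟩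
            rcases hy1 with hyB | ⟨t, ht, rfl⟩
            · exact absurd hyB hy2
            · exact ⟨t, ⟨ht, fun h => hy3 t h rfl⟩, rfl⟩
          · rintro ⟨t, ⟨ht1, ht2⟩, rfl⟩
            have htr : (gT : T → Y₃) t ∈ C \ B := hrange' ▸ Set.mem_range_self t
            refine ⟨Or.inr ⟨t, ht1, rfl⟩, htr.2, ?_⟩
            intro t' ht' hEq
            have : t' = t := hemb.injective hEq
            rw [this] at ht'
            exact ht2 ht'
        rw [hdiff]
        obtain ⟨T₁, h, s₁, himm₁, hrange₁, hs₁⟩ := hs1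
        have hrange₁' : Set.range (h : T₁ → Y₂) =
            Z ⟨j + 1, hj⟩ \ Z ⟨j, Nat.lt_succ_of_lt hj'⟩ := hrange₁
        refine ⟨Limits.pullback s h, Limits.pullback.fst s h ≫ gT,
          Limits.pullback.snd s h ≫ s₁, inferInstance, ?_, ?_⟩
        · have h1 : Set.range (fun t => (Limits.pullback.fst s h ≫ gT) t) =
              (gT : T → Y₃) '' (Set.range (Limits.pullback.fst s h)) := by
            rw [← Set.range_comp]
            rfl
          rw [h1, Scheme.Pullback.range_fst, hrange₁']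
        · rw [Category.assoc, ← Category.assoc s₁, hs₁, ← Limits.pullback.condition_assoc, hsg]
  have hfin := hX m₁ (Nat.lt_succ_self _)
  have hXl : X ⟨m₁, Nat.lt_succ_self _⟩ = C := by
    show B ∪ (gT : T → Y₃) '' ((s : T → Y₂) ⁻¹' Z ⟨m₁, Nat.lt_succ_self _⟩) = C
    have : (⟨m₁, Nat.lt_succ_self _⟩ : Fin (m₁ + 1)) = Fin.last m₁ := rfl
    rw [this, hZl, Set.preimage_univ, Set.image_univ, hrange', Set.union_sdiff_cancel hBC]
  rw [hXl] at hfin
  exact hfin


/-- In the case of schemes. Let `g₁ : Y₁ ⟶ Y₂` and `g₂ : Y₂ ⟶ Y₃` be Nisnevich covers of quasi-compact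
quasi-separated schemes of lengths at most `m₁` and `m₂` respectively. Then `g₁ ≫ g₂` is a Nisnevich
cover of length at most `m₁ * m₂`. (The original form is for quasi-compact quasi-separated algebraic
spaces; stated here for schemes.) -/
theorem result {Y₁ Y₂ Y₃ : Scheme.{u}} (g₁ : Y₁ ⟶ Y₂) (g₂ : Y₂ ⟶ Y₃)
    [CompactSpace Y₁] [QuasiSeparatedSpace Y₁] [CompactSpace Y₂] [QuasiSeparatedSpace Y₂]
    [CompactSpace Y₃] [QuasiSeparatedSpace Y₃] (m₁ m₂ : ℕ)
    (h₁ : W4c5algebraiztannaka.IsNisCoverLen g₁ m₁) (h₂ : W4c5algebraiztannaka.IsNisCoverLen g₂ m₂) :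
    W4c5algebraiztannaka.IsNisCoverLen (g₁ ≫ g₂) (m₁ * m₂) := by
  obtain ⟨het1, Z1, hZ10, hZ1l, hmono1, hcc1, hsect1⟩ := h₁
  obtain ⟨het2, Z2, hZ20, hZ2l, hmono2, hcc2, hsect2⟩ := h₂
  have := het1
  have := het2
  have key : ∀ (j : ℕ) (hj : j < m₂ + 1),
      Chain (g₁ ≫ g₂) (Z2 0) (Z2 ⟨j, hj⟩) (m₁ * j) := by
    intro j
    induction j with
    | zero =>
      intro hj
      have h0 : (⟨0, hj⟩ : Fin (m₂ + 1)) = 0 := Fin.ext (by simp)
      rw [h0, Nat.mul_zero]
      exact Chain.refl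
    | succ j ih =>
      intro hj
      have hj' : j < m₂ := Nat.lt_of_succ_lt_succ hj
      have c1 := ih (Nat.lt_succ_of_lt hj')
      have hs := hsect2 ⟨j, hj'⟩
      have e1 : (⟨j, hj'⟩ : Fin m₂).succ = ⟨j + 1, hj⟩ := rfl
      have e2 : (⟨j, hj'⟩ : Fin m₂).castSucc = ⟨j, Nat.lt_succ_of_lt hj'⟩ := rfl
      rw [e1, e2] at hs
      have c2 := chain_comp_step g₁ g₂ Z1 hZ10 hZ1l hmono1 hcc1 hsect1 (hcc2 _).1 (hcc2 _).2
        (hmono2 (Fin.mk_le_mk.2 (Nat.le_succ j))) (hcc2 _).1 (hcc2 _).2 hs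
      have c3 := c1.trans c2
      rwa [← Nat.mul_succ] at c3
  have hfin := key m₂ (Nat.lt_succ_self _)
  obtain ⟨Z, hZ0, hZl, hZm, hZcc, hZs⟩ := flag_of_chain hfin (hcc2 0).1 (hcc2 0).2
  refine ⟨inferInstance, Z, ?_, ?_, hZm, hZcc, hZs⟩
  · rw [hZ0, hZ20]
  · rw [hZl]
    exact hZ2l

end Groth.Agent.S17866
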