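import Groth.Statements.S17867
import Mathlib
import Groth.Agent.S17860

set_option autoImplicit false
open CategoryTheory AlgebraicGeometry
universe u
open Algz

namespace Groth.Agent.S17867

open CategoryTheory.Limits TopologicalSpace Opposite

set_option maxHeartbeats 400000

/-! ### Pullback of free modules (after helper28's `LpullLoc`) -/

section PullFree

variable {X Y : Scheme.{u}} (f : X ⟶ Y)

theorem final_opensMap : (Opens.map f.base).Final where
  out U := by
    let T : StructuredArrow U (Opens.map f.base) :=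
      StructuredArrow.mk (Y := (⊤ : Opens Y)) (homOfLE le_top)
    refine isConnected_of_isTerminal _ (x := T) (IsTerminal.ofUniqueHom
      (fun A => StructuredArrow.homMk (homOfLE (by exact le_top)) (Subsingleton.elim _ _))
      (fun A m => ?_))
    apply StructuredArrow.ext
    apply Subsingleton.elim

set_option backward.isDefEq.respectTransparency.types false in
theorem isIso_pullbackObjUnitToUnit :
    IsIso (SheafOfModules.pullbackObjUnitToUnit f.toRingCatSheafHom) := by
  have := final_opensMap f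
  infer_instance

set_option backward.isDefEq.respectTransparency.types false in
/-- `f^* O_Y ≅ O_X`. -/
noncomputable def pullbackUnitIso :
    (Scheme.Modules.pullback f).obj (Coh.structureModule Y) ≅ Coh.structureModule X :=
  @asIso _ _ _ _ (SheafOfModules.pullbackObjUnitToUnit f.toRingCatSheafHom)
    (isIso_pullbackObjUnitToUnit f)

/-- `f^* O_Y^n ≅ O_X^n`. -/
noncomputable def pullbackFreeModIso (n : ℕ) :
    (Scheme.Modules.pullback f).obj (FlatMod.freeMod Y n) ≅ FlatMod.freeMod X n :=
  PreservesCoproduct.iso (Scheme.Modules.pullback f) _ ≪≫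
    Sigma.mapIso (fun _ => pullbackUnitIso f)

end PullFree

/-! ### `(S ⊗_R M)~ ≅ f^* (M~)` (after helper31's `LpullTilde`) -/

section ExtTilde

variable {R S : CommRingCat.{u}} (φ : R ⟶ S)

set_option backward.isDefEq.respectTransparency false in
/-- Global sections of a pushforward along `Spec φ`. -/
noncomputable def pushΓIso :
    Scheme.Modules.pushforward (Spec.map φ) ⋙ moduleSpecΓFunctor (R := R) ≅
      moduleSpecΓFunctor (R := S) ⋙ ModuleCat.restrictScalars φ.hom :=
  Functor.isoWhiskerRight (pushforwardCompModulesSpecToSheafIso φ)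
    (TopCat.Sheaf.forget _ _ ⋙ (evaluation _ _).obj (op ⊤))

set_option backward.isDefEq.respectTransparency false in
/-- The adjunction `~ ⋙ f^* ⊣ f_* ⋙ Γ`. -/
noncomputable def adjTildePull :
    tilde.functor R ⋙ Scheme.Modules.pullback (Spec.map φ) ⊣
      Scheme.Modules.pushforward (Spec.map φ) ⋙ moduleSpecΓFunctor (R := R) :=
  (tilde.adjunction (R := R)).comp (Scheme.Modules.pullbackPushforwardAdjunction (Spec.map φ))

set_option backward.isDefEq.respectTransparency false in
/-- The adjunction `(S ⊗_R -) ⋙ ~ ⊣ f_* ⋙ Γ`. -/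
noncomputable def adjExtTilde :
    ModuleCat.extendScalars.{u, u, u} φ.hom ⋙ tilde.functor S ⊣
      Scheme.Modules.pushforward (Spec.map φ) ⋙ moduleSpecΓFunctor (R := R) :=
  ((ModuleCat.extendRestrictScalarsAdj.{u, u, u} φ.hom).comp
    (tilde.adjunction (R := S))).ofNatIsoRight (pushΓIso φ).symm

set_option backward.isDefEq.respectTransparency false in
/-- `(S ⊗_R M)~ ≅ f^* (M~)`. -/
noncomputable def extTildeIso :
    ModuleCat.extendScalars.{u, u, u} φ.hom ⋙ tilde.functor S ≅
      tilde.functor R ⋙ Scheme.Modules.pullback (Spec.map φ) :=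
  (adjExtTilde φ).leftAdjointUniq (adjTildePull φ)

end ExtTilde

/-! ### Moving epimorphisms from free modules around -/

section Epi

lemma exists_epi_pullback {U U' Y : Scheme.{u}} (f : U ⟶ Y) (h : U' ⟶ U) (F : Y.Modules) (N : ℕ)
    (φ : FlatMod.freeMod U N ⟶ (Scheme.Modules.pullback f).obj F) [Epi φ] :
    ∃ φ' : FlatMod.freeMod U' N ⟶ (Scheme.Modules.pullback (h ≫ f)).obj F, Epi φ' := by
  haveI : (Scheme.Modules.pullback h).PreservesEpimorphisms :=
    Functor.preservesEpimorphisms_of_adjunction (Scheme.Modules.pullbackPushforwardAdjunction h)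
  haveI : Epi ((Scheme.Modules.pullback h).map φ) := inferInstance
  exact ⟨(pullbackFreeModIso h N).inv ≫ (Scheme.Modules.pullback h).map φ ≫
    (Scheme.Modules.pullbackComp h f).hom.app F, inferInstance⟩

lemma exists_epi_congr {U Y : Scheme.{u}} {k k' : U ⟶ Y} (hk : k = k') (F : Y.Modules) (N : ℕ)
    (h : ∃ φ' : FlatMod.freeMod U N ⟶ (Scheme.Modules.pullback k).obj F, Epi φ') :
    ∃ φ' : FlatMod.freeMod U N ⟶ (Scheme.Modules.pullback k').obj F, Epi φ' := by
  subst hk
  exact h

lemma exists_epi_descend {R R' : CommRingCat.{u}} (ψ : R ⟶ R') {U' : Scheme.{u}}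
    (f' : U' ⟶ Spec R') (M : ModuleCat.{u} R) (M'' : ModuleCat.{u} R')
    (π : (ModuleCat.extendScalars.{u, u, u} ψ.hom).obj M ⟶ M'') [Epi π] (N : ℕ)
    (h : ∃ φ' : FlatMod.freeMod U' N ⟶
      (Scheme.Modules.pullback (f' ≫ Spec.map ψ)).obj (tilde M), Epi φ') :
    ∃ φ'' : FlatMod.freeMod U' N ⟶ (Scheme.Modules.pullback f').obj (tilde M''), Epi φ'' := by
  obtain ⟨φ', hφ'⟩ := h
  haveI : (Scheme.Modules.pullback f').PreservesEpimorphisms :=
    Functor.preservesEpimorphisms_of_adjunction (Scheme.Modules.pullbackPushforwardAdjunction f')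
  haveI : (tilde.functor R').PreservesEpimorphisms :=
    Functor.preservesEpimorphisms_of_adjunction (tilde.adjunction (R := R'))
  haveI : Epi ((tilde.functor R').map π) := inferInstance
  let i1 : (Scheme.Modules.pullback (f' ≫ Spec.map ψ)).obj (tilde M) ≅
      (Scheme.Modules.pullback f').obj ((Scheme.Modules.pullback (Spec.map ψ)).obj (tilde M)) :=
    (Scheme.Modules.pullbackComp f' (Spec.map ψ)).symm.app (tilde M)
  let i2 : (Scheme.Modules.pullback (Spec.map ψ)).obj (tilde M) ≅
      tilde ((ModuleCat.extendScalars.{u, u, u} ψ.hom).obj M) :=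
    (extTildeIso ψ).symm.app M
  let a3 : tilde ((ModuleCat.extendScalars.{u, u, u} ψ.hom).obj M) ⟶ tilde M'' :=
    (tilde.functor R').map π
  haveI : Epi a3 := ‹Epi ((tilde.functor R').map π)›
  exact ⟨φ' ≫ i1.hom ≫ (Scheme.Modules.pullback f').map i2.hom ≫
    (Scheme.Modules.pullback f').map a3, inferInstance⟩

lemma epi_adj {R R' : CommRingCat.{u}} (ψ : R ⟶ R') (M : ModuleCat.{u} R) (M'' : ModuleCat.{u} R')
    (α : M ⟶ (ModuleCat.restrictScalars ψ.hom).obj M'') [Epi α] :
    Epi (((ModuleCat.extendRestrictScalarsAdj.{u, u, u} ψ.hom).homEquiv M M'').symm α) := by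
  constructor
  intro P a b hab
  have h1 := congrArg ((ModuleCat.extendRestrictScalarsAdj.{u, u, u} ψ.hom).homEquiv M P) hab
  rw [Adjunction.homEquiv_naturality_right, Adjunction.homEquiv_naturality_right,
    Equiv.apply_symm_apply] at h1
  exact (ModuleCat.restrictScalars ψ.hom).map_injective ((cancel_epi α).mp h1)

lemma exists_span_of_epi (A : CommRingCat.{u}) (Q : ModuleCat.{u} A) [Module.Finite A Q] (N : ℕ)
    (h : ∃ φ : FlatMod.freeMod (Spec A) N ⟶
      (Scheme.Modules.pullback (𝟙 (Spec A))).obj (tilde Q), Epi φ) :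
    ∃ t : Fin (N * 1) → Q, Submodule.span A (Set.range t) = ⊤ := by
  obtain ⟨φ, hφ⟩ := h
  refine Groth.Agent.S17860.result A Q N 1 (fun _ => ⊤) ?_ ?_
  · exact iSup_const
  · intro i
    obtain ⟨φ2, hφ2⟩ := exists_epi_congr (Category.comp_id _) (tilde Q) N
      (exists_epi_pullback (𝟙 (Spec A)) (⊤ : (Spec A).Opens).ι (tilde Q) N φ)
    exact ⟨φ2 ≫ (Scheme.Modules.restrictFunctorIsoPullback (⊤ : (Spec A).Opens).ι).inv.app (tilde Q),
      inferInstance⟩

end Epi

/-! ### Dropping the first stratum of a Nisnevich cover -/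

lemma nisCover_drop {U Y Y' : Scheme.{u}} (f : U ⟶ Y) (g : Y' ⟶ Y) (m : ℕ)
    (het : Etale f) (Z : Fin (m + 1 + 1) → Set Y) (hZm : Z (Fin.last (m + 1)) = Set.univ)
    (hmono : Monotone Z) (hcc : ∀ k, IsClosed (Z k) ∧ Topology.IsConstructible (Z k))
    (hsect : ∀ k : Fin (m + 1), W4c5algebraiztannaka.HasSectOver f (Z k.succ \ Z k.castSucc))
    (hg : ∀ y : Y', g y ∉ Z (0 : Fin (m + 1)).succ) :
    W4c5algebraiztannaka.IsNisCoverLen (pullback.snd f g) m := by
  haveI := het
  refine ⟨inferInstance, fun k => (g : Y' → Y) ⁻¹' Z k.succ, ?_, ?_, ?_, ?_, ?_⟩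
  · show (g : Y' → Y) ⁻¹' Z (0 : Fin (m + 1)).succ = ∅
    ext y
    simp only [Set.mem_preimage, Set.mem_empty_iff_false, iff_false]
    exact hg y
  · show (g : Y' → Y) ⁻¹' Z (Fin.last m).succ = Set.univ
    rw [Fin.succ_last, hZm, Set.preimage_univ]
  · intro a b hab
    exact Set.preimage_mono (hmono (Fin.succ_le_succ_iff.mpr hab))
  · intro k
    exact ⟨(hcc _).1.preimage g.continuous, g.isConstructible_preimage (hcc _).2⟩
  · intro k
    obtain ⟨T, gT, s, himm, hrange, hs⟩ := hsect k.succ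
    haveI := himm
    refine ⟨pullback gT g, pullback.snd gT g,
      pullback.lift (pullback.fst gT g ≫ s) (pullback.snd gT g) ?_, inferInstance, ?_, ?_⟩
    · rw [Category.assoc, hs, pullback.condition]
    · show Set.range (fun t => (pullback.snd gT g) t) =
        (g : Y' → Y) ⁻¹' Z k.succ.succ \ (g : Y' → Y) ⁻¹' Z k.castSucc.succ
      rw [← Set.preimage_sdiff, Fin.succ_castSucc, ← hrange]
      exact Scheme.Pullback.range_snd gT g
    · exact pullback.lift_snd _ _ _

/-! ### The quotient `P ⧸ I • ⊤` as a module over `R ⧸ I` -/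

section Alg

variable {R : CommRingCat.{u}}

/-- `P ⧸ I • ⊤` as a module over `R ⧸ I`. -/
noncomputable abbrev Qmod (I : Ideal R) (P : ModuleCat.{u} R) :
    ModuleCat.{u} (CommRingCat.of (R ⧸ I)) :=
  ModuleCat.of (R ⧸ I) (P ⧸ (I • ⊤ : Submodule R P))

set_option backward.isDefEq.respectTransparency false in
/-- The canonical surjection `P → P ⧸ I • ⊤`, as a map of `R`-modules. -/
noncomputable def toQmod (I : Ideal R) (P : ModuleCat.{u} R) :
    P ⟶ (ModuleCat.restrictScalars
      (CommRingCat.ofHom (Ideal.Quotient.mk I) : R ⟶ CommRingCat.of (R ⧸ I)).hom).obj (Qmod I P) :=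
  ModuleCat.ofHom
    (Y := (ModuleCat.restrictScalars
      (CommRingCat.ofHom (Ideal.Quotient.mk I) : R ⟶ CommRingCat.of (R ⧸ I)).hom).obj (Qmod I P))
    { toFun := fun x => (Submodule.Quotient.mk x : P ⧸ (I • ⊤ : Submodule R P))
      map_add' := fun _ _ => rfl
      map_smul' := fun _ _ => rfl }

set_option backward.isDefEq.respectTransparency false in
instance epi_toQmod (I : Ideal R) (P : ModuleCat.{u} R) : Epi (toQmod I P) := by
  rw [ModuleCat.epi_iff_surjective]
  intro y
  obtain ⟨x, rfl⟩ := Submodule.Quotient.mk_surjective (I • ⊤ : Submodule R P) y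
  exact ⟨x, rfl⟩

instance finite_Qmod (I : Ideal R) (P : ModuleCat.{u} R) [Module.Finite R P] :
    Module.Finite (R ⧸ I) (Qmod I P) := by
  let l : P →ₛₗ[Ideal.Quotient.mk I] (P ⧸ (I • ⊤ : Submodule R P)) :=
    { toFun := fun x => Submodule.Quotient.mk x
      map_add' := fun _ _ => rfl
      map_smul' := fun _ _ => rfl }
  exact Module.Finite.of_surjective l (Submodule.Quotient.mk_surjective _)

lemma exists_epi_Qmod (I : Ideal R) (M P : ModuleCat.{u} R) (q : M ⟶ P) [Epi q]
    {U' : Scheme.{u}} (f' : U' ⟶ Spec (CommRingCat.of (R ⧸ I))) (N : ℕ)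
    (h : ∃ φ' : FlatMod.freeMod U' N ⟶
      (Scheme.Modules.pullback (f' ≫ Spec.map
        (CommRingCat.ofHom (Ideal.Quotient.mk I) : R ⟶ CommRingCat.of (R ⧸ I)))).obj (tilde M),
        Epi φ') :
    ∃ φ'' : FlatMod.freeMod U' N ⟶ (Scheme.Modules.pullback f').obj (tilde (Qmod I P)),
      Epi φ'' := by
  haveI := epi_adj (CommRingCat.ofHom (Ideal.Quotient.mk I) : R ⟶ CommRingCat.of (R ⧸ I)) M
    (Qmod I P) (q ≫ toQmod I P)
  exact exists_epi_descend
    (CommRingCat.ofHom (Ideal.Quotient.mk I) : R ⟶ CommRingCat.of (R ⧸ I)) f' M (Qmod I P)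
    (((ModuleCat.extendRestrictScalarsAdj.{u, u, u}
      (CommRingCat.ofHom (Ideal.Quotient.mk I) : R ⟶ CommRingCat.of (R ⧸ I)).hom).homEquiv M
        (Qmod I P)).symm (q ≫ toQmod I P)) N h

end Alg

/-! ### The main induction -/

theorem main : ∀ (m : ℕ) (R : CommRingCat.{u}) (M : ModuleCat.{u} R) [Module.Finite R M]
    {U : Scheme.{u}} (f : U ⟶ Spec R) (N : ℕ)
    (_ : W4c5algebraiztannaka.IsNisCoverLen f m)
    (_ : ∃ φ : FlatMod.freeMod U N ⟶
      (Scheme.Modules.pullback f).obj (AlgebraicGeometry.tilde M), Epi φ),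
    ∃ s : Fin (N * m) → M, Submodule.span R (Set.range s) = ⊤ := by
  intro m
  induction m with
  | zero =>
    intro R M _ U f N hf _
    obtain ⟨_, Z, hZ0, hZm, -, -, -⟩ := hf
    have hempty : IsEmpty (Spec R) := by
      constructor
      intro p
      have h1 : p ∈ Z (Fin.last 0) := by rw [hZm]; trivial
      have h0 : Fin.last 0 = (0 : Fin (0 + 1)) := rfl
      rw [h0, hZ0] at h1
      exact h1
    have hsub : Subsingleton R := by
      by_contra hns
      rw [not_subsingleton_iff_nontrivial] at hns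
      obtain ⟨p⟩ := (inferInstance : Nonempty (PrimeSpectrum R))
      exact hempty.false p
    haveI : Subsingleton M := Module.subsingleton R M
    refine ⟨fun _ => 0, ?_⟩
    rw [eq_top_iff]
    intro x _
    rw [Subsingleton.elim x 0]
    exact Submodule.zero_mem _
  | succ m ih =>
    intro R M _ U f N hf hgen
    classical
    obtain ⟨φ, hφ⟩ := hgen
    obtain ⟨het, Z, hZ0, hZm, hmono, hcc, hsect⟩ := hf
    obtain ⟨T, g, s, himm, hrange, hs⟩ := hsect 0
    have hZc : Z (0 : Fin (m + 1)).castSucc = ∅ := by rw [Fin.castSucc_zero]; exact hZ0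
    have hrange' : Set.range (fun t : T => g t) = Z (0 : Fin (m + 1)).succ := by
      rw [hrange, hZc, Set.sdiff_empty]
    haveI := himm
    have hcl : IsClosedImmersion g := by
      apply IsClosedImmersion.of_isPreimmersion
      have h2 : Set.range g = Z (0 : Fin (m + 1)).succ := hrange'
      rw [h2]
      exact (hcc _).1
    obtain ⟨I, e, hge⟩ := IsClosedImmersion.Spec_iff.mp hcl
    -- Step 1: `M ⧸ I M` is generated by `N` elements
    obtain ⟨ψ, hψ⟩ : ∃ ψ : R ⟶ CommRingCat.of (R ⧸ I),
      ψ = CommRingCat.ofHom (Ideal.Quotient.mk I) := ⟨_, rfl⟩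
    have hcomp : (e.inv ≫ s) ≫ f = 𝟙 _ ≫ Spec.map ψ := by
      rw [Category.assoc, hs, hge, Iso.inv_hom_id_assoc, Category.id_comp, hψ]
    have h1 := exists_epi_congr hcomp (tilde M) N
      (exists_epi_pullback f (e.inv ≫ s) (tilde M) N φ)
    rw [hψ] at h1
    have h2 := exists_epi_Qmod I M M (𝟙 M) (𝟙 _) N h1
    obtain ⟨t, ht⟩ := exists_span_of_epi (CommRingCat.of (R ⧸ I)) (Qmod I M) N h2
    have ht' : ∀ v : M ⧸ (I • ⊤ : Submodule R M),
        ∃ c : Fin (N * 1) → R ⧸ I, ∑ j, c j • t j = v := by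
      intro v
      have hv : v ∈ Submodule.span (CommRingCat.of (R ⧸ I)) (Set.range t) := by
        rw [ht]; trivial
      exact (Submodule.mem_span_range_iff_exists_fun _).mp hv
    -- Step 2: lift the generators
    have hx : ∀ j, ∃ x : M, (Submodule.Quotient.mk x : M ⧸ (I • ⊤ : Submodule R M)) = t j :=
      fun j => Submodule.Quotient.mk_surjective _ (t j)
    choose x hx using hx
    obtain ⟨K, hK⟩ : ∃ K : Submodule R M, K = Submodule.span R (Set.range x) := ⟨_, rfl⟩
    have hle : (⊤ : Submodule R (M ⧸ K)) ≤ I • ⊤ := by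
      intro y' _
      obtain ⟨y, rfl⟩ := K.mkQ_surjective y'
      obtain ⟨c, hc⟩ := ht' (Submodule.Quotient.mk y)
      have hr : ∀ j, ∃ a : R, Ideal.Quotient.mk I a = c j :=
        fun j => Ideal.Quotient.mk_surjective (c j)
      choose a ha using hr
      have hsum : (Submodule.Quotient.mk (∑ j, a j • x j) : M ⧸ (I • ⊤ : Submodule R M)) =
          Submodule.Quotient.mk y := by
        rw [← hc, ← Submodule.mkQ_apply, map_sum]
        refine Finset.sum_congr rfl (fun j _ => ?_)
        rw [← ha j, ← hx j]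
        rfl
      have hmem : y - ∑ j, a j • x j ∈ (I • ⊤ : Submodule R M) := by
        rw [← Submodule.Quotient.mk_eq_zero, Submodule.Quotient.mk_sub, hsum, sub_self]
      have hK2 : ∑ j, a j • x j ∈ K := by
        rw [hK]
        exact Submodule.sum_mem _
          (fun j _ => Submodule.smul_mem _ _ (Submodule.subset_span ⟨j, rfl⟩))
      have e1 : K.mkQ y = K.mkQ (y - ∑ j, a j • x j) := by
        rw [map_sub, Submodule.mkQ_apply K (∑ j, a j • x j),
          (Submodule.Quotient.mk_eq_zero K).mpr hK2, sub_zero]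
      rw [e1]
      have h3 : K.mkQ (y - ∑ j, a j • x j) ∈ (I • ⊤ : Submodule R M).map K.mkQ :=
        Submodule.mem_map_of_mem hmem
      rw [Submodule.map_smul''] at h3
      exact Submodule.smul_mono le_rfl le_top h3
    -- Step 3: Nakayama
    obtain ⟨r, hr1, hr2⟩ := Submodule.exists_sub_one_mem_and_smul_eq_zero_of_fg_of_le_smul I
      (⊤ : Submodule R (M ⧸ K)) Module.Finite.fg_top hle
    -- Step 4: pass to `R ⧸ (r)`
    obtain ⟨I', hI'⟩ : ∃ I' : Ideal R, I' = Ideal.span {r} := ⟨_, rfl⟩
    obtain ⟨ψ', hψ'⟩ : ∃ ψ' : R ⟶ CommRingCat.of (R ⧸ I'),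
      ψ' = CommRingCat.ofHom (Ideal.Quotient.mk I') := ⟨_, rfl⟩
    have hmiss : ∀ y : Spec (CommRingCat.of (R ⧸ I')),
        (Spec.map ψ') y ∉ Z (0 : Fin (m + 1)).succ := by
      intro y hy
      rw [← hrange'] at hy
      obtain ⟨t0, ht0⟩ := hy
      have ht0' : (Spec.map (CommRingCat.ofHom (Ideal.Quotient.mk I))) (e.hom t0) =
          (Spec.map ψ') y := by
        rw [← ht0, hge]
        rfl
      have hp1 : r ∈ PrimeSpectrum.asIdeal ((Spec.map ψ') y) := by
        rw [hψ']
        show (Ideal.Quotient.mk I') r ∈ PrimeSpectrum.asIdeal y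
        rw [Ideal.Quotient.eq_zero_iff_mem.mpr (hI' ▸ Ideal.mem_span_singleton_self r)]
        exact zero_mem _
      have hp2 : r - 1 ∈ PrimeSpectrum.asIdeal ((Spec.map ψ') y) := by
        rw [← ht0']
        show (Ideal.Quotient.mk I) (r - 1) ∈ PrimeSpectrum.asIdeal (e.hom t0)
        rw [Ideal.Quotient.eq_zero_iff_mem.mpr hr1]
        exact zero_mem _
      have h1 : (1 : R) ∈ PrimeSpectrum.asIdeal ((Spec.map ψ') y) := by
        have := Ideal.sub_mem _ hp1 hp2
        rwa [sub_sub_cancel] at this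
      exact (PrimeSpectrum.isPrime ((Spec.map ψ') y)).ne_top ((Ideal.eq_top_iff_one _).mpr h1)
    have hNis : W4c5algebraiztannaka.IsNisCoverLen (pullback.snd f (Spec.map ψ')) m :=
      nisCover_drop f (Spec.map ψ') m het Z hZm hmono hcc hsect hmiss
    -- Step 5: the module `(M ⧸ K) ⧸ (r)`
    obtain ⟨P, hP⟩ : ∃ P : ModuleCat.{u} R, P = ModuleCat.of R (M ⧸ K) := ⟨_, rfl⟩
    subst hP
    let q : M ⟶ ModuleCat.of R (M ⧸ K) := ModuleCat.ofHom K.mkQ
    haveI : Epi q := (ModuleCat.epi_iff_surjective q).mpr K.mkQ_surjective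
    have h3 := exists_epi_congr (pullback.condition (f := f) (g := Spec.map ψ')) (tilde M) N
      (exists_epi_pullback f (pullback.fst f (Spec.map ψ')) (tilde M) N φ)
    rw [hψ'] at h3 hNis
    have h4 := exists_epi_Qmod I' M (ModuleCat.of R (M ⧸ K)) q
      (pullback.snd f (Spec.map (CommRingCat.ofHom (Ideal.Quotient.mk I')))) N h3
    obtain ⟨s'', hs''⟩ := ih (CommRingCat.of (R ⧸ I')) (Qmod I' (ModuleCat.of R (M ⧸ K)))
      (pullback.snd f (Spec.map (CommRingCat.ofHom (Ideal.Quotient.mk I')))) N hNis h4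
    have hs3 : ∀ v : (M ⧸ K) ⧸ (I' • ⊤ : Submodule R (M ⧸ K)),
        ∃ c : Fin (N * m) → R ⧸ I', ∑ j, c j • s'' j = v := by
      intro v
      have hv : v ∈ Submodule.span (CommRingCat.of (R ⧸ I')) (Set.range s'') := by
        rw [hs'']; trivial
      exact (Submodule.mem_span_range_iff_exists_fun _).mp hv
    have hy : ∀ i, ∃ y : M, (Submodule.Quotient.mk (K.mkQ y) :
        (M ⧸ K) ⧸ (I' • ⊤ : Submodule R (M ⧸ K))) = s'' i := by
      intro i
      obtain ⟨y', hy'⟩ := Submodule.Quotient.mk_surjective _ (s'' i)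
      obtain ⟨y, rfl⟩ := K.mkQ_surjective y'
      exact ⟨y, hy'⟩
    choose y hy using hy
    have hkill : ∀ z' : M ⧸ K, z' ∈ (I' • ⊤ : Submodule R (M ⧸ K)) → z' = 0 := by
      intro z' hz'
      refine Submodule.smul_induction_on hz' (fun a ha n _ => ?_)
        (fun u v hu hv => by rw [hu, hv, add_zero])
      rw [hI'] at ha
      obtain ⟨b, rfl⟩ := Ideal.mem_span_singleton'.mp ha
      rw [mul_smul, hr2 n trivial, smul_zero]
    -- Step 6: assemble
    let e₀ : Fin (N * (m + 1)) ≃ Fin (N * m) ⊕ Fin (N * 1) :=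
      (finCongr (by ring)).trans finSumFinEquiv.symm
    refine ⟨Sum.elim y x ∘ e₀, ?_⟩
    have hrange2 : Set.range (Sum.elim y x ∘ e₀) = Set.range y ∪ Set.range x := by
      rw [e₀.surjective.range_comp, Set.Sum.elim_range]
    rw [hrange2, eq_top_iff]
    intro z _
    obtain ⟨c, hc⟩ := hs3 (Submodule.Quotient.mk (K.mkQ z))
    have hb : ∀ i, ∃ b : R, Ideal.Quotient.mk I' b = c i :=
      fun i => Ideal.Quotient.mk_surjective (c i)
    choose b hb using hb
    have hsum : (Submodule.Quotient.mk (K.mkQ (∑ i, b i • y i)) :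
        (M ⧸ K) ⧸ (I' • ⊤ : Submodule R (M ⧸ K))) = Submodule.Quotient.mk (K.mkQ z) := by
      rw [← hc, map_sum, ← Submodule.mkQ_apply, map_sum]
      refine Finset.sum_congr rfl (fun i _ => ?_)
      rw [← hb i, ← hy i, map_smul]
      rfl
    have h5 : K.mkQ (z - ∑ i, b i • y i) ∈ (I' • ⊤ : Submodule R (M ⧸ K)) := by
      rw [← Submodule.Quotient.mk_eq_zero, map_sub, Submodule.Quotient.mk_sub, hsum, sub_self]
    have h6 : z - ∑ i, b i • y i ∈ K := by
      have := hkill _ h5
      rwa [Submodule.mkQ_apply, Submodule.Quotient.mk_eq_zero] at this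
    have h7 : z = ∑ i, b i • y i + (z - ∑ i, b i • y i) := by abel
    rw [h7]
    refine Submodule.add_mem _ (Submodule.sum_mem _ (fun i _ =>
      Submodule.smul_mem _ _ (Submodule.subset_span (Or.inl ⟨i, rfl⟩)))) ?_
    rw [hK] at h6
    exact Submodule.span_mono Set.subset_union_right h6


/-- In the case of schemes. Let `R` be a commutative ring and `f : U ⟶ Spec R` a Nisnevich cover of
length at most `m`, with `U` a quasi-compact quasi-separated scheme, and let `M` be a finite
`R`-module. If the pullback `f^* M~` of the associated sheaf of modules is a quotient of the free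
module of rank `N` on `U` (it is generated by `N` global sections), then `M` is generated by `N * m`
elements. (Finite generation of `M` follows from the other hypotheses by faithfully flat descent and
is assumed here; the original form is for a Nisnevich cover by a quasi-compact quasi-separated
algebraic space, stated here for a scheme `U`.) -/
theorem result (R : CommRingCat.{u}) (M : ModuleCat.{u} R)
    [Module.Finite R M] {U : Scheme.{u}} [CompactSpace U] [QuasiSeparatedSpace U]
    (f : U ⟶ Spec R) (m N : ℕ) (hf : W4c5algebraiztannaka.IsNisCoverLen f m)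
    (hgen : ∃ φ : FlatMod.freeMod U N ⟶ (Scheme.Modules.pullback f).obj (AlgebraicGeometry.tilde M), Epi φ) :
    ∃ s : Fin (N * m) → M, Submodule.span R (Set.range s) = ⊤ := by
  obtain ⟨φ, hφ⟩ := hgen
  exact main m R M f N hf ⟨φ, hφ⟩

end Groth.Agent.S17867
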