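import Groth.Statements.S17868
import Mathlib
import Groth.Agent.S17858
import Groth.Agent.S17865

set_option autoImplicit false
open CategoryTheory AlgebraicGeometry
universe u
open Algz

namespace Groth.Agent.S17868

open CategoryTheory.Limits TopologicalSpace Topology W4c5algebraiztannaka

/-! ### Chains of closed constructible subsets with sections over the differences -/

section Chains

variable {X V : Scheme.{u}} (v : V ⟶ X)

/-- A chain of length `n` of closed constructible subsets from `∅` up to `C`, with sections of `v`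
over the successive differences. -/
def Chain (C : Set X) (n : ℕ) : Prop :=
  ∃ Z : Fin (n + 1) → Set X, Z 0 = ∅ ∧ Z (Fin.last n) = C ∧ Monotone Z ∧
    (∀ k, IsClosed (Z k) ∧ IsConstructible (Z k)) ∧
    ∀ k : Fin n, HasSectOver v (Z k.succ \ Z k.castSucc)

lemma chain_zero : Chain v ∅ 0 :=
  ⟨fun _ => ∅, rfl, rfl, fun _ _ _ => le_rfl,
    fun _ => ⟨isClosed_empty, IsConstructible.empty⟩, fun k => k.elim0⟩

lemma chain_snoc {C C' : Set X} {n : ℕ} (h : Chain v C n) (hCC' : C ⊆ C') (hcl : IsClosed C')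
    (hcon : IsConstructible C') (hs : HasSectOver v (C' \ C)) : Chain v C' (n + 1) := by
  obtain ⟨Z, hZ0, hZn, hmono, hcc, hsect⟩ := h
  have hZle : ∀ i : Fin (n + 1), Z i ⊆ C := fun i => hZn ▸ hmono (Fin.le_last i)
  obtain ⟨Z', hZ'⟩ : ∃ Z' : Fin (n + 1 + 1) → Set X,
      Z' = fun i : Fin (n + 1 + 1) => if hi : i.val < n + 1 then Z ⟨i.val, hi⟩ else C' := ⟨_, rfl⟩
  have hpos : ∀ (i : Fin (n + 1 + 1)) (hi : i.val < n + 1), Z' i = Z ⟨i.val, hi⟩ :=
    fun i hi => by rw [hZ']; exact dif_pos hi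
  have hneg : ∀ (i : Fin (n + 1 + 1)), ¬ i.val < n + 1 → Z' i = C' :=
    fun i hi => by rw [hZ']; exact dif_neg hi
  refine ⟨Z', ?_, ?_, ?_, ?_, ?_⟩
  · rw [hpos 0 (Nat.succ_pos n)]
    exact hZ0
  · exact hneg _ (by simp)
  · intro a b hab
    have hab' : a.val ≤ b.val := hab
    by_cases hb : b.val < n + 1
    · have ha : a.val < n + 1 := lt_of_le_of_lt hab' hb
      rw [hpos a ha, hpos b hb]
      exact hmono (Fin.mk_le_mk.mpr hab')
    · rw [hneg b hb]
      by_cases ha : a.val < n + 1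
      · rw [hpos a ha]
        exact (hZle _).trans hCC'
      · rw [hneg a ha]
  · intro k
    by_cases hk : k.val < n + 1
    · rw [hpos k hk]
      exact hcc _
    · rw [hneg k hk]
      exact ⟨hcl, hcon⟩
  · intro k
    by_cases hk : k.val < n
    · have h1 : Z' k.succ = Z (⟨k.val, hk⟩ : Fin n).succ :=
        hpos k.succ (by simp only [Fin.val_succ]; omega)
      have h2 : Z' k.castSucc = Z (⟨k.val, hk⟩ : Fin n).castSucc :=
        hpos k.castSucc (by simp only [Fin.val_castSucc]; omega)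
      rw [h1, h2]
      exact hsect ⟨k.val, hk⟩
    · have hkn : k.val = n := by have := k.isLt; omega
      have h1 : Z' k.succ = C' := hneg _ (by simp only [Fin.val_succ]; omega)
      have h2 : Z' k.castSucc = C := by
        rw [hpos k.castSucc (by simp only [Fin.val_castSucc]; omega), ← hZn]
        congr 1
        exact Fin.ext (by simp [hkn])
      rw [h1, h2]
      exact hs

end Chains

/-! ### Topology of `Spec B` -/

lemma isCompact_of_isConstructible {B : CommRingCat.{u}} {s : Set (Spec B)}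
    (hs : IsConstructible s) : IsCompact s := by
  obtain ⟨S, _, f, hf⟩ := PrimeSpectrum.exists_range_eq_of_isConstructible (R := B) hs
  have h1 : IsCompact (Set.range (PrimeSpectrum.comap f)) :=
    isCompact_range (PrimeSpectrum.continuous_comap f)
  rw [hf] at h1
  exact h1

/-- Principal opens of `Spec B`, typed as opens of the scheme. -/
abbrev Db {B : CommRingCat.{u}} (f : B) : (Spec B).Opens := PrimeSpectrum.basicOpen f

lemma exists_compact_opens {B : CommRingCat.{u}} {n : ℕ} (W : Set (Spec B)) (hW : IsCompact W)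
    (O : Fin n → Set (Spec B)) (hO : ∀ q, IsOpen (O q)) (hWO : W ⊆ ⋃ q, O q) :
    ∃ Q : Fin n → Set (Spec B), (∀ q, IsOpen (Q q)) ∧ (∀ q, IsCompact (Q q)) ∧
      (∀ q, Q q ⊆ O q) ∧ W ⊆ ⋃ q, Q q := by
  classical
  have h1 : ∀ x ∈ W, ∃ (q : Fin n) (f : B),
      x ∈ (Db f : Set (Spec B)) ∧
      (Db f : Set (Spec B)) ⊆ O q := by
    intro x hx
    obtain ⟨q, hq⟩ := Set.mem_iUnion.mp (hWO hx)
    obtain ⟨_, ⟨_, ⟨f, rfl⟩, rfl⟩, hxf, hfO⟩ :=
      PrimeSpectrum.isBasis_basic_opens.exists_subset_of_mem_open hq (hO q)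
    exact ⟨q, f, hxf, hfO⟩
  choose qx fx hxf hfO using h1
  obtain ⟨t, ht⟩ := hW.elim_nhds_subcover' (fun x hx => (Db (fx x hx) : Set (Spec B)))
    (fun x hx => (Db (fx x hx)).2.mem_nhds (hxf x hx))
  refine ⟨fun q => ⋃ x ∈ t.filter (fun x => qx x.1 x.2 = q),
    (Db (fx x.1 x.2) : Set (Spec B)), ?_, ?_, ?_, ?_⟩
  · intro q
    exact isOpen_biUnion (fun x _ => (Db (fx x.1 x.2)).2)
  · intro q
    exact (t.filter _).isCompact_biUnion
      (fun x _ => PrimeSpectrum.isCompact_basicOpen (fx x.1 x.2))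
  · intro q y hy
    simp only [Set.mem_iUnion] at hy
    obtain ⟨x, hx, hy⟩ := hy
    rw [Finset.mem_filter] at hx
    exact hx.2 ▸ hfO x.1 x.2 hy
  · intro y hy
    obtain ⟨x, hx, hyx⟩ := Set.mem_iUnion₂.mp (ht hy)
    exact Set.mem_iUnion.mpr ⟨qx x.1 x.2,
      Set.mem_iUnion₂.mpr ⟨x, Finset.mem_filter.mpr ⟨hx, rfl⟩, hyx⟩⟩

/-! ### A section over a refined stratum -/

lemma hasSectOver_stratum {X U' V S : Scheme.{u}} (v₀ : U' ⟶ X) (c : V ⟶ U') (T : U'.Opens)
    (jT : (T : Scheme.{u}) ⟶ V) (hjT : jT ≫ c = T.ι)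
    (gS : S ⟶ X) [IsImmersion gS] (σ : S ⟶ U') (hσ : σ ≫ v₀ = gS)
    (Qo : Set X) (hQo : IsOpen Qo) (Rc : Set X) (hRc : IsOpen Rc)
    (hQ : (gS : S → X) ⁻¹' Qo ⊆ (σ : S → U') ⁻¹' (T : Set U')) :
    HasSectOver (c ≫ v₀) (Set.range (fun s : S => gS s) ∩ (Qo \ Rc)) := by
  let K : Closeds S := ⟨((gS : S → X) ⁻¹' Rc)ᶜ, (hRc.preimage gS.continuous).isClosed_compl⟩
  let I := Scheme.IdealSheafData.vanishingIdeal K
  let Ωo : S.Opens := ⟨(gS : S → X) ⁻¹' Qo, hQo.preimage gS.continuous⟩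
  let Ω' : I.subscheme.Opens := I.subschemeι ⁻¹ᵁ Ωo
  let ι : (Ω' : Scheme.{u}) ⟶ S := Ω'.ι ≫ I.subschemeι
  haveI : IsImmersion ι := by
    show IsImmersion (Ω'.ι ≫ I.subschemeι)
    infer_instance
  have hι : ∀ y : (Ω' : Scheme.{u}), ι y = I.subschemeι (Ω'.ι y) := fun y => rfl
  have hrange : ∀ x : S, x ∈ Set.range ι ↔ (gS x ∈ Qo ∧ gS x ∉ Rc) := by
    intro x
    constructor
    · rintro ⟨y, rfl⟩
      rw [hι]
      refine ⟨?_, ?_⟩
      · have h1 : Ω'.ι y ∈ Ω' := y.2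
        exact h1
      · have h2 : I.subschemeι (Ω'.ι y) ∈ Set.range I.subschemeι := Set.mem_range_self _
        rw [I.range_subschemeι, Scheme.IdealSheafData.coe_support_vanishingIdeal] at h2
        exact h2
    · rintro ⟨h1, h2⟩
      have h3 : x ∈ Set.range I.subschemeι := by
        rw [I.range_subschemeι, Scheme.IdealSheafData.coe_support_vanishingIdeal]
        exact h2
      obtain ⟨z, rfl⟩ := h3
      exact ⟨⟨z, h1⟩, rfl⟩
  have hsub : Set.range (ι ≫ σ) ⊆ Set.range T.ι := by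
    rintro _ ⟨y, rfl⟩
    rw [Scheme.Opens.range_ι]
    exact hQ ((hrange (ι y)).mp (Set.mem_range_self y)).1
  have e1 : IsOpenImmersion.lift T.ι (ι ≫ σ) hsub ≫ T.ι = ι ≫ σ :=
    IsOpenImmersion.lift_fac _ _ _
  refine ⟨Ω', ι ≫ gS, IsOpenImmersion.lift T.ι (ι ≫ σ) hsub ≫ jT, inferInstance, ?_, ?_⟩
  · ext x
    constructor
    · rintro ⟨y, rfl⟩
      have h4 := (hrange (ι y)).mp (Set.mem_range_self y)
      exact ⟨⟨ι y, rfl⟩, h4.1, h4.2⟩
    · rintro ⟨⟨s, rfl⟩, h1, h2⟩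
      obtain ⟨y, hy⟩ := (hrange s).mpr ⟨h1, h2⟩
      refine ⟨y, ?_⟩
      show gS (ι y) = gS s
      rw [hy]
  · calc (IsOpenImmersion.lift T.ι (ι ≫ σ) hsub ≫ jT) ≫ c ≫ v₀
        = (IsOpenImmersion.lift T.ι (ι ≫ σ) hsub ≫ (jT ≫ c)) ≫ v₀ := by
          simp only [Category.assoc]
      _ = (ι ≫ σ) ≫ v₀ := by rw [hjT, e1]
      _ = ι ≫ gS := by rw [Category.assoc, hσ]

/-! ### Refining one step of the chain -/

lemma chain_extend {B : CommRingCat.{u}} {U' V : Scheme.{u}} (v₀ : U' ⟶ Spec B) (c : V ⟶ U')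
    {m₁ : ℕ} (T : Fin m₁ → U'.Opens) (jT : ∀ q, (T q : Scheme.{u}) ⟶ V)
    (hjT : ∀ q, jT q ≫ c = (T q).ι) (hTcov : ⨆ q, T q = ⊤)
    (Zk Zk1 : Set (Spec B)) (hZ : Zk ⊆ Zk1) (hk : IsClosed Zk ∧ IsConstructible Zk)
    (hk1 : IsClosed Zk1 ∧ IsConstructible Zk1) (hsect : HasSectOver v₀ (Zk1 \ Zk))
    (n : ℕ) (hch : Chain (c ≫ v₀) Zk n) : Chain (c ≫ v₀) Zk1 (n + m₁) := by
  classical
  obtain ⟨S, gS, σ, himm, hrange, hσ⟩ := hsect
  haveI := himm
  have hW : IsCompact (Zk1 \ Zk) := isCompact_of_isConstructible (hk1.2.sdiff hk.2)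
  have hO : ∀ q, ∃ O : Set (Spec B), IsOpen O ∧
      (gS : S → Spec B) ⁻¹' O = (σ : S → U') ⁻¹' (T q : Set U') := fun q =>
    (gS.isEmbedding.isInducing.isOpen_iff).mp ((T q).2.preimage σ.continuous)
  choose O hOopen hOeq using hO
  have hWO : Zk1 \ Zk ⊆ ⋃ q, O q := by
    intro x hx
    rw [← hrange] at hx
    obtain ⟨s, rfl⟩ := hx
    have h1 : σ s ∈ (⨆ q, T q : U'.Opens) := by rw [hTcov]; trivial
    obtain ⟨q, hq⟩ := Opens.mem_iSup.mp h1
    refine Set.mem_iUnion.mpr ⟨q, ?_⟩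
    have h2 : s ∈ (gS : S → Spec B) ⁻¹' O q := by rw [hOeq]; exact hq
    exact h2
  obtain ⟨Q, hQopen, hQcomp, hQO, hWQ⟩ := exists_compact_opens (Zk1 \ Zk) hW O hOopen hWO
  obtain ⟨A, hAdef⟩ : ∃ A : ℕ → Set (Spec B),
      A = fun l => ⋃ q : Fin m₁, (if l ≤ q.val then Q q else ∅) := ⟨_, rfl⟩
  have hA : ∀ l x, x ∈ A l ↔ ∃ q : Fin m₁, l ≤ q.val ∧ x ∈ Q q := by
    intro l x
    rw [hAdef]
    simp only [Set.mem_iUnion]
    constructor
    · rintro ⟨q, hq⟩
      by_cases h : l ≤ q.val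
      · rw [if_pos h] at hq; exact ⟨q, h, hq⟩
      · rw [if_neg h] at hq; exact hq.elim
    · rintro ⟨q, h, hq⟩
      exact ⟨q, by rw [if_pos h]; exact hq⟩
  have hAopen : ∀ l, IsOpen (A l) := fun l => by
    rw [hAdef]
    refine isOpen_iUnion (fun q => ?_)
    by_cases h : l ≤ q.val
    · rw [if_pos h]; exact hQopen q
    · rw [if_neg h]; exact isOpen_empty
  have hAcon : ∀ l, IsConstructible (A l) := fun l => by
    rw [hAdef]
    refine IsConstructible.iUnion (fun q => ?_)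
    by_cases h : l ≤ q.val
    · rw [if_pos h]; exact (hQcomp q).isConstructible (hQopen q)
    · rw [if_neg h]; exact IsConstructible.empty
  have hstep : ∀ l, l ≤ m₁ → Chain (c ≫ v₀) (Zk ∪ (Zk1 \ A l)) (n + l) := by
    intro l
    induction l with
    | zero =>
      intro _
      have e : Zk ∪ (Zk1 \ A 0) = Zk := by
        apply Set.Subset.antisymm
        · rintro x (hx | ⟨hx1, hx2⟩)
          · exact hx
          · by_contra hxk
            obtain ⟨q, hq⟩ := Set.mem_iUnion.mp (hWQ ⟨hx1, hxk⟩)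
            exact hx2 ((hA 0 x).mpr ⟨q, Nat.zero_le _, hq⟩)
        · exact Set.subset_union_left
      rw [e]
      exact hch
    | succ l ih =>
      intro hl
      have hl' : l < m₁ := hl
      have ih' := ih (Nat.le_of_lt hl')
      have hAl : ∀ x, x ∈ A l ↔ (x ∈ Q ⟨l, hl'⟩ ∨ x ∈ A (l + 1)) := by
        intro x
        rw [hA, hA]
        constructor
        · rintro ⟨q, h, hq⟩
          rcases Nat.eq_or_lt_of_le h with h' | h'
          · left
            have hq' : q = ⟨l, hl'⟩ := Fin.ext h'.symm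
            rw [← hq']; exact hq
          · right; exact ⟨q, h', hq⟩
        · rintro (hq | ⟨q, h, hq⟩)
          · exact ⟨⟨l, hl'⟩, le_rfl, hq⟩
          · exact ⟨q, Nat.le_of_succ_le h, hq⟩
      refine chain_snoc (c ≫ v₀) ih' ?_ ?_ ?_ ?_
      · rintro x (hx | ⟨hx1, hx2⟩)
        · exact Or.inl hx
        · exact Or.inr ⟨hx1, fun h => hx2 ((hAl x).mpr (Or.inr h))⟩
      · rw [Set.sdiff_eq]
        exact hk.1.union (hk1.1.inter (hAopen _).isClosed_compl)
      · exact hk.2.union (hk1.2.sdiff (hAcon _))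
      · have hset : (Zk ∪ (Zk1 \ A (l + 1))) \ (Zk ∪ (Zk1 \ A l)) =
            Set.range (fun s : S => gS s) ∩ (Q ⟨l, hl'⟩ \ A (l + 1)) := by
          rw [hrange]
          ext x
          simp only [Set.mem_sdiff, Set.mem_union, Set.mem_inter_iff]
          rw [hAl x]
          tauto
        rw [hset]
        exact hasSectOver_stratum v₀ c (T ⟨l, hl'⟩) (jT _) (hjT _) gS σ hσ (Q ⟨l, hl'⟩)
          (hQopen _) (A (l + 1)) (hAopen _)
          (fun s hs => by
            have h1 : s ∈ (gS : S → Spec B) ⁻¹' O ⟨l, hl'⟩ := hQO _ hs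
            rw [hOeq] at h1
            exact h1)
  have hfinal : Zk ∪ (Zk1 \ A m₁) = Zk1 := by
    apply Set.Subset.antisymm
    · rintro x (hx | ⟨hx1, _⟩)
      · exact hZ hx
      · exact hx1
    · intro x hx
      refine Or.inr ⟨hx, fun h => ?_⟩
      obtain ⟨q, hq, _⟩ := (hA m₁ x).mp h
      exact absurd q.isLt (not_lt.mpr hq)
  rw [← hfinal]
  exact hstep m₁ le_rfl

/-! ### The main step -/

lemma main_step {B : CommRingCat.{u}} {U' : Scheme.{u}} (v₀ : U' ⟶ Spec B) (m' m₁ : ℕ)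
    (hv₀ : IsNisCoverLen v₀ m') (T : Fin m₁ → U'.Opens) (hTaff : ∀ q, IsAffineOpen (T q))
    (hTcov : ⨆ q, T q = ⊤) :
    ∃ (V : Scheme.{u}) (_ : IsAffine V) (c : V ⟶ U'), IsNisCoverLen (c ≫ v₀) (m' * m₁) := by
  haveI : ∀ q, IsAffine (T q : Scheme.{u}) := hTaff
  obtain ⟨c, hc⟩ : ∃ c : (∐ fun q : Fin m₁ => (T q : Scheme.{u})) ⟶ U',
      c = Sigma.desc (fun q => (T q).ι) := ⟨_, rfl⟩
  haveI : Etale c := by
    rw [hc]
    haveI : IsZariskiLocalAtSource @Etale.{u} := HasRingHomProperty.instIsZariskiLocalAtSource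
    exact IsZariskiLocalAtSource.sigmaDesc (P := @Etale) (fun q => inferInstance)
  obtain ⟨het, Z, hZ0, hZm, hmono, hcc, hsect⟩ := hv₀
  haveI := het
  have key : ∀ k (hk : k ≤ m'), Chain (c ≫ v₀) (Z ⟨k, Nat.lt_succ_of_le hk⟩) (k * m₁) := by
    intro k
    induction k with
    | zero =>
      intro hk0
      have e : Z ⟨0, Nat.lt_succ_of_le hk0⟩ = ∅ := hZ0
      rw [Nat.zero_mul, e]
      exact chain_zero _
    | succ k ih =>
      intro hk
      have ih' := ih (Nat.le_of_succ_le hk)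
      have hk' : k < m' := hk
      have h1 := chain_extend v₀ c T (fun q => Sigma.ι (fun q : Fin m₁ => (T q : Scheme.{u})) q)
        (fun q => by rw [hc]; exact Sigma.ι_desc _ _) hTcov
        (Z ⟨k, Nat.lt_succ_of_le (Nat.le_of_succ_le hk)⟩) (Z ⟨k + 1, Nat.lt_succ_of_le hk⟩)
        (hmono (Fin.mk_le_mk.mpr (Nat.le_succ k))) (hcc _) (hcc _) (hsect ⟨k, hk'⟩) (k * m₁) ih'
      rw [Nat.succ_mul]
      exact h1
  obtain ⟨Z', h0, hl, hm, hcc', hs⟩ := key m' le_rfl
  exact ⟨_, inferInstance, c, ⟨inferInstance, ⟨Z', h0, hl.trans hZm, hm, hcc', hs⟩⟩⟩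


/-- In the case of schemes with an affine source. Let `f : U ⟶ Y` be a Nisnevich cover of length at most
`m'` with `U` affine and `Y` quasi-compact quasi-separated. There is a natural number `m` such that
for every commutative ring `B` and every morphism `g : Spec B ⟶ Y` there exist an affine scheme `V`,
a Nisnevich cover `v : V ⟶ Spec B` of length at most `m`, and a morphism `w : V ⟶ U` over `Y` (that
is, `w ≫ f = v ≫ g`). (The original form allows `U` to be any quasi-compact quasi-separated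
algebraic space; `U` is taken affine here, which makes `f` quasi-affine.) -/
theorem result {U Y : Scheme.{u}} [IsAffine U]
    [CompactSpace Y] [QuasiSeparatedSpace Y] (f : U ⟶ Y) (m' : ℕ)
    (hf : W4c5algebraiztannaka.IsNisCoverLen f m') :
    ∃ m : ℕ, ∀ (B : CommRingCat.{u}) (g : Spec B ⟶ Y),
      ∃ (V : Scheme.{u}) (_ : IsAffine V) (v : V ⟶ Spec B) (w : V ⟶ U),
        W4c5algebraiztannaka.IsNisCoverLen v m ∧ w ≫ f = v ≫ g := by
  classical
  have hqa : Mor2.IsQuasiAffine f := by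
    refine ⟨inferInstance, fun Vo hVo => ?_⟩
    haveI : CompactSpace (f ⁻¹ᵁ Vo).toScheme :=
      isCompact_iff_compactSpace.mp (f.isCompact_preimage hVo.isCompact)
    exact Scheme.IsQuasiAffine.of_isImmersion (f ⁻¹ᵁ Vo).ι
  obtain ⟨m₁, hm₁⟩ := Groth.Agent.S17858.result f hqa
  refine ⟨m' * m₁, fun B g => ?_⟩
  obtain ⟨T, hTaff, hTcov⟩ := hm₁ B g
  have hNis := Groth.Agent.S17865.result f g m' hf
  obtain ⟨V, hV, c, hc⟩ := main_step (Limits.pullback.snd f g) m' m₁ hNis T hTaff hTcov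
  refine ⟨V, hV, c ≫ Limits.pullback.snd f g, c ≫ Limits.pullback.fst f g, hc, ?_⟩
  rw [Category.assoc, Category.assoc, Limits.pullback.condition]

end Groth.Agent.S17868
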