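import Groth.Statements.S17869
-- import your own Groth.Agent.* helpers here

set_option autoImplicit false
open CategoryTheory AlgebraicGeometry
universe u
open Algz

namespace Groth.Agent.S17869

/-- In the case of schemes. Let `U` be a quasi-compact quasi-separated scheme and `V 0, …, V (k-1)`
quasi-compact open subschemes which cover `U`. Then the canonical morphism from the disjoint union
`∐ V i` to `U` is a Nisnevich cover of length at most `k`. (The published example states more
generally that, for a Nisnevich cover of `Y` of length at most `m` with source `U`, the composite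
from the disjoint union `∐ V i` to `Y` has length at most `m * k`; stated here is the case of the
identity of `U`, to which the published argument reduces, and the general bound follows by composing
Nisnevich covers. The original form is for quasi-compact quasi-separated algebraic spaces, with the
members of the cover quasi-compact; stated here for schemes.) -/
theorem result {U : Scheme.{u}} [CompactSpace U] [QuasiSeparatedSpace U]
    (k : ℕ) (V : Fin k → U.Opens) (hV : ∀ i, IsCompact (V i : Set U)) (hcov : ⨆ i, V i = ⊤) :
    W4c5algebraiztannaka.IsNisCoverLen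
      (Limits.Sigma.desc (fun i => (V i).ι) : (∐ fun i => ((V i : U.Opens) : Scheme.{u})) ⟶ U) k := by
  classical
  -- the flag
  let W : Fin (k + 1) → Set U := fun j => ⋃ i : Fin k, ⋃ (_ : (j : ℕ) ≤ (i : ℕ)), (V i : Set U)
  have memW : ∀ (j : Fin (k + 1)) (x : U), x ∈ W j ↔ ∃ i : Fin k, (j : ℕ) ≤ (i : ℕ) ∧ x ∈ V i := by
    intro j x
    simp only [W, Set.mem_iUnion, exists_prop, SetLike.mem_coe]
  have hWopen : ∀ j, IsOpen (W j) := fun j =>
    isOpen_iUnion fun i => isOpen_iUnion fun _ => (V i).isOpen
  have hWcomp : ∀ j, IsCompact (W j) := fun j =>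
    isCompact_iUnion fun i => isCompact_iUnion fun _ => hV i
  refine ⟨?_, fun j => (W j)ᶜ, ?_, ?_, ?_, ?_, ?_⟩
  · haveI : IsZariskiLocalAtSource @Etale.{u} := HasRingHomProperty.instIsZariskiLocalAtSource
    exact IsZariskiLocalAtSource.sigmaDesc (P := @Etale) (fun i => inferInstance)
  · -- Z 0 = ∅
    show (W 0)ᶜ = ∅
    rw [Set.compl_empty_iff]
    ext x
    simp only [Set.mem_univ, iff_true]
    have hx : x ∈ (⨆ i, V i : U.Opens) := by rw [hcov]; trivial
    obtain ⟨i, hi⟩ := TopologicalSpace.Opens.mem_iSup.1 hx
    exact (memW 0 x).2 ⟨i, Nat.zero_le _, hi⟩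
  · -- Z last = univ
    show (W (Fin.last k))ᶜ = Set.univ
    rw [Set.compl_univ_iff]
    ext x
    simp only [Set.mem_empty_iff_false, iff_false]
    intro hx
    obtain ⟨i, hi, _⟩ := (memW _ x).1 hx
    have : (i : ℕ) < k := i.2
    simp only [Fin.val_last] at hi
    omega
  · -- monotone
    intro a b hab x hx hxb
    apply hx
    obtain ⟨i, hi, hxi⟩ := (memW _ x).1 hxb
    exact (memW _ x).2 ⟨i, le_trans (Fin.le_def.1 hab) hi, hxi⟩
  · intro j
    exact ⟨(hWopen j).isClosed_compl, ((hWcomp j).isConstructible (hWopen j)).compl⟩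
  · intro j
    -- closed subset of V j
    let C : TopologicalSpace.Closeds ((V j : U.Opens) : Scheme.{u}) :=
      ⟨((V j).ι : ((V j : U.Opens) : Scheme.{u}) → U) ⁻¹' (W j.succ)ᶜ,
        (hWopen j.succ).isClosed_compl.preimage (V j).ι.continuous⟩
    let I := Scheme.IdealSheafData.vanishingIdeal C
    refine ⟨I.subscheme, I.subschemeι ≫ (V j).ι,
      I.subschemeι ≫ Limits.Sigma.ι (fun i => ((V i : U.Opens) : Scheme.{u})) j,
      inferInstance, ?_, ?_⟩
    · show Set.range (fun t => (I.subschemeι ≫ (V j).ι) t) = (W j.succ)ᶜ \ (W j.castSucc)ᶜ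
      have h1 : Set.range (fun t => (I.subschemeι ≫ (V j).ι) t) =
          ((V j).ι : ((V j : U.Opens) : Scheme.{u}) → U) '' (Set.range I.subschemeι) := by
        rw [← Set.range_comp]
        rfl
      rw [h1, Scheme.IdealSheafData.range_subschemeι,
        Scheme.IdealSheafData.coe_support_vanishingIdeal]
      show ((V j).ι : ((V j : U.Opens) : Scheme.{u}) → U) ''
        (((V j).ι : ((V j : U.Opens) : Scheme.{u}) → U) ⁻¹' (W j.succ)ᶜ) = _
      rw [Set.image_preimage_eq_inter_range, Scheme.Opens.range_ι]
      ext x
      simp only [Set.mem_inter_iff, Set.mem_compl_iff, Set.mem_sdiff, not_not, SetLike.mem_coe]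
      constructor
      · rintro ⟨h1, h2⟩
        refine ⟨h1, (memW _ x).2 ⟨j, ?_, h2⟩⟩
        simp
      · rintro ⟨h1, h2⟩
        refine ⟨h1, ?_⟩
        obtain ⟨i, hi, hxi⟩ := (memW _ x).1 h2
        simp only [Fin.val_castSucc] at hi
        by_cases hij : (i : ℕ) = (j : ℕ)
        · have : i = j := Fin.ext hij
          rwa [this] at hxi
        · exfalso
          apply h1
          refine (memW _ x).2 ⟨i, ?_, hxi⟩
          simp only [Fin.val_succ]
          omega
    · rw [Category.assoc, Limits.Sigma.ι_desc]

end Groth.Agent.S17869
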