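import Groth.Statements.S17872
import Mathlib.LinearAlgebra.Dual.Lemmas
import Mathlib.Algebra.Polynomial.Roots
import Mathlib.Algebra.Polynomial.Eval.Defs

set_option autoImplicit false
universe u v
open GRRSing

namespace Groth.Agent.S17872

/-- Let H be a vector space over a field K and let b_0, …, b_l be elements of H. If the sum of the t ^ i
• b_i vanishes for infinitely many scalars t of K, then all the b_i are zero. -/
theorem result {K : Type u} {H : Type v} [Field K] [AddCommGroup H] [Module K H]
    (l : ℕ) (b : Fin (l + 1) → H)
    (h : Set.Infinite {t : K | ∑ i : Fin (l + 1), t ^ (i : ℕ) • b i = 0}) :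
    b = 0 := by
  classical
  -- every linear functional kills every b i
  have key : ∀ φ : Module.Dual K H, ∀ i, φ (b i) = 0 := by
    intro φ
    let p : Polynomial K := ∑ i : Fin (l + 1), Polynomial.monomial (i : ℕ) (φ (b i))
    have hp : ∀ t ∈ {t : K | ∑ i : Fin (l + 1), t ^ (i : ℕ) • b i = 0}, p.IsRoot t := by
      intro t ht
      have h1 : φ (∑ i : Fin (l + 1), t ^ (i : ℕ) • b i) = 0 := by
        rw [Set.mem_setOf_eq.mp ht, map_zero]
      rw [map_sum] at h1
      simp only [map_smul, smul_eq_mul] at h1
      simp only [p, Polynomial.IsRoot, Polynomial.eval_finset_sum, Polynomial.eval_monomial]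
      rw [← h1]
      exact Finset.sum_congr rfl (fun i _ => mul_comm _ _)
    have hp0 : p = 0 := by
      by_contra hne
      exact h ((Polynomial.finite_setOf_isRoot hne).subset hp)
    intro i
    have := congrArg (fun q => Polynomial.coeff q (i : ℕ)) hp0
    simp only [p, Polynomial.finset_sum_coeff, Polynomial.coeff_monomial, Polynomial.coeff_zero] at this
    rw [Finset.sum_eq_single i] at this
    · simpa using this
    · intro j _ hji
      rw [if_neg]
      exact fun hh => hji (Fin.ext hh)
    · intro hi; exact absurd (Finset.mem_univ i) hi
  funext i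
  exact (Module.forall_dual_apply_eq_zero_iff K (b i)).mp (fun φ => key φ i)

end Groth.Agent.S17872
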