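import Groth.Statements.S17873
import Mathlib
import Groth.Agent.S5758
import Groth.Agent.S5757

set_option autoImplicit false
set_option linter.style.haveILetI false
set_option linter.unusedSectionVars false
set_option linter.unusedVariables false
universe u
open GRRSing

namespace Groth.Agent.S17873

section Helpers

open RingTheory.Sequence IsLocalRing Groth.Agent.H15.Depth

theorem davis {R : Type u} [CommRing R] (x : R) (I' : Ideal R) (n : ℕ) :
    ∀ S : Finset (Ideal R), S.card = n → (∀ P ∈ S, P.IsPrime) →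
      (∀ P ∈ S, ¬ (x ∈ P ∧ I' ≤ P)) → ∃ a ∈ I', ∀ P ∈ S, x + a ∉ P := by
  induction n with
  | zero =>
    intro S hS _ _
    rw [Finset.card_eq_zero] at hS
    subst hS
    exact ⟨0, I'.zero_mem, fun P hP => absurd hP (Finset.notMem_empty P)⟩
  | succ n ih =>
    intro S hS hprime hcond
    have hne : S.Nonempty := Finset.card_pos.mp (by omega)
    obtain ⟨Q, hQS, hQmin⟩ := S.exists_minimal hne
    haveI hQp : Q.IsPrime := hprime Q hQS
    have hcard : (S.erase Q).card = n := by
      rw [Finset.card_erase_of_mem hQS]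
      omega
    obtain ⟨a, haI, ha⟩ := ih (S.erase Q) hcard
      (fun P hP => hprime P (Finset.mem_of_mem_erase hP))
      (fun P hP => hcond P (Finset.mem_of_mem_erase hP))
    by_cases hxa : x + a ∈ Q
    · have hI'Q : ¬ I' ≤ Q := by
        intro hle
        apply hcond Q hQS
        refine ⟨?_, hle⟩
        have h := Q.sub_mem hxa (hle haI)
        rwa [add_sub_cancel_right] at h
      obtain ⟨y, hyI, hyQ⟩ := SetLike.not_le_iff_exists.mp hI'Q
      have hz : ∀ P ∈ S.erase Q, ∃ z, z ∈ P ∧ z ∉ Q := by
        intro P hP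
        have hPQ : ¬ P ≤ Q := by
          intro hle
          exact (Finset.ne_of_mem_erase hP)
            (le_antisymm hle (hQmin (Finset.mem_of_mem_erase hP) hle))
        exact SetLike.not_le_iff_exists.mp hPQ
      choose! z hz using hz
      have hprodQ : (∏ P ∈ S.erase Q, z P) ∉ Q := by
        rw [Ideal.IsPrime.prod_mem_iff]
        rintro ⟨P, hP, hzP⟩
        exact (hz P hP).2 hzP
      have hbQ : (∏ P ∈ S.erase Q, z P) * y ∉ Q := by
        intro h
        rcases hQp.mem_or_mem h with h | h
        · exact hprodQ h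
        · exact hyQ h
      refine ⟨a + (∏ P ∈ S.erase Q, z P) * y,
        I'.add_mem haI (I'.mul_mem_left _ hyI), ?_⟩
      intro P hP hmem
      by_cases hPQ : P = Q
      · rw [hPQ] at hmem
        have h := Q.sub_mem hmem hxa
        have h2 : x + (a + (∏ P' ∈ S.erase Q, z P') * y) - (x + a) =
            (∏ P' ∈ S.erase Q, z P') * y := by ring
        rw [h2] at h
        exact hbQ h
      · have hP' : P ∈ S.erase Q := Finset.mem_erase.mpr ⟨hPQ, hP⟩
        have hbP : (∏ P' ∈ S.erase Q, z P') * y ∈ P :=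
          P.mul_mem_right _ (Ideal.mem_of_dvd P (Finset.dvd_prod_of_mem z hP') (hz P hP').1)
        have h := P.sub_mem hmem hbP
        have h2 : x + (a + (∏ P' ∈ S.erase Q, z P') * y) - (∏ P' ∈ S.erase Q, z P') * y =
            x + a := by ring
        rw [h2] at h
        exact ha P hP' h
    · refine ⟨a, haI, ?_⟩
      intro P hP
      by_cases hPQ : P = Q
      · rw [hPQ]
        exact hxa
      · exact ha P (Finset.mem_erase.mpr ⟨hPQ, hP⟩)

theorem dimQ {T : Type u} [CommRing T] (I : Ideal T) :
    Module.supportDim T (T ⧸ (I • (⊤ : Submodule T T))) = ringKrullDim (T ⧸ I) := by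
  have h : I • (⊤ : Submodule T T) = I := by rw [smul_eq_mul, Ideal.mul_top]
  rw [h]
  exact Module.supportDim_quotient_eq_ringKrullDim I

theorem smul_top_ne_top {T : Type u} [CommRing T] [IsLocalRing T] (I : Ideal T)
    (hI : I ≤ maximalIdeal T) : I • (⊤ : Submodule T T) ≠ ⊤ := by
  intro h
  rw [smul_eq_mul, Ideal.mul_top] at h
  rw [h] at hI
  exact (IsLocalRing.maximalIdeal.isMaximal T).ne_top (top_le_iff.mp hI)

theorem regular_of_avoid {T : Type u} [CommRing T] [IsNoetherianRing T] {M : Type u}
    [AddCommGroup M] [Module T M] {x : T} (h : ∀ P ∈ associatedPrimes T M, x ∉ P) :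
    IsSMulRegular M x := by
  rw [isSMulRegular_iff_right_eq_zero_of_smul]
  intro m hm
  by_contra hne
  have hx : x ∈ {r : T | ∃ y : M, y ≠ 0 ∧ r • y = 0} := ⟨m, hne, hm⟩
  rw [← biUnion_associatedPrimes_eq_zero_divisors T M] at hx
  obtain ⟨P, hP, hxP⟩ := Set.mem_iUnion₂.mp hx
  exact h P hP hxP

theorem ofList_le_of_mem_ass {T : Type u} [CommRing T] (I : Ideal T) (P : Ideal T)
    (hP : P ∈ associatedPrimes T (T ⧸ (I • (⊤ : Submodule T T)))) : I ≤ P := by
  refine le_trans ?_ (IsAssociatedPrime.annihilator_le hP)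
  intro r hr
  rw [Submodule.mem_annihilator]
  intro m _
  obtain ⟨t, rfl⟩ := Submodule.Quotient.mk_surjective _ m
  rw [← Submodule.Quotient.mk_smul, Submodule.Quotient.mk_eq_zero]
  exact Submodule.smul_mem_smul hr Submodule.mem_top

theorem ofList_replace {T : Type u} [CommRing T] (A B' : List T) (b a : T)
    (ha : a ∈ Ideal.ofList B') :
    Ideal.ofList ((A ++ [b + a]) ++ B') = Ideal.ofList (A ++ b :: B') := by
  have hB1 : Ideal.ofList B' ≤ Ideal.ofList ((A ++ [b + a]) ++ B') :=
    Ideal.span_mono (fun x (hx : x ∈ B') =>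
      (List.mem_append_right _ hx : x ∈ (A ++ [b + a]) ++ B'))
  have hB2 : Ideal.ofList B' ≤ Ideal.ofList (A ++ b :: B') :=
    Ideal.span_mono (fun x (hx : x ∈ B') =>
      (List.mem_append_right _ (List.mem_cons_of_mem _ hx) : x ∈ A ++ b :: B'))
  have hb1 : b + a ∈ Ideal.ofList ((A ++ [b + a]) ++ B') :=
    Ideal.subset_span (show b + a ∈ (A ++ [b + a]) ++ B' by simp)
  have hb2 : b ∈ Ideal.ofList (A ++ b :: B') :=
    Ideal.subset_span (show b ∈ A ++ b :: B' by simp)
  refine le_antisymm (Ideal.span_le.mpr ?_) (Ideal.span_le.mpr ?_)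
  · intro x (hx : x ∈ (A ++ [b + a]) ++ B')
    rw [List.mem_append, List.mem_append, List.mem_singleton] at hx
    rcases hx with (hx | hx) | hx
    · exact Ideal.subset_span (show x ∈ A ++ b :: B' from List.mem_append_left _ hx)
    · rw [hx]
      exact add_mem hb2 (hB2 ha)
    · exact hB2 (Ideal.subset_span hx)
  · intro x (hx : x ∈ A ++ b :: B')
    rw [List.mem_append, List.mem_cons] at hx
    rcases hx with hx | hx | hx
    · exact Ideal.subset_span (show x ∈ (A ++ [b + a]) ++ B' from
        List.mem_append_left _ (List.mem_append_left _ hx))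
    · rw [hx]
      have h := sub_mem hb1 (hB1 ha)
      rwa [add_sub_cancel_right] at h
    · exact hB1 (Ideal.subset_span hx)

theorem not_le_assoc {T : Type u} [CommRing T] [hCM : LocCoh.IsCohenMacaulayLocalRing T]
    (J : Ideal T) (hJm : J ≤ maximalIdeal T) (j : ℕ) (hseq : HasSeq J T j)
    (A : List T) (hA : IsWeaklyRegular T A) (hAJ : ∀ x ∈ A, x ∈ J) (hlt : A.length < j)
    (P : Ideal T)
    (hP : P ∈ associatedPrimes T (T ⧸ (Ideal.ofList A • (⊤ : Submodule T T)))) :
    ¬ J ≤ P := by
  intro hJP
  obtain ⟨rs, hrs, hrsJ, hlen⟩ := hseq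
  have hM : LocCoh.IsCohenMacaulayModule T T := hCM.supportDim_eq_depth
  have h1 := (Groth.Agent.S5758.result T T hM rs (fun x hx => hJm (hrsJ x hx))).1.mp hrs
  have h2 := Groth.Agent.S5758.result T T hM A (fun x hx => hJm (hAJ x hx))
  have h2a := h2.1.mp hA
  have h2b := h2.2 hA
  have h3 := Groth.Agent.S5757.result T _ h2b P hP
  have h4 : ringKrullDim (T ⧸ P) ≤ ringKrullDim (T ⧸ J) :=
    ringKrullDim_le_of_surjective (Ideal.Quotient.factor hJP)
      (Ideal.Quotient.factor_surjective hJP)
  have hrsle : Ideal.ofList rs ≤ J := Ideal.span_le.mpr (fun x hx => hrsJ x hx)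
  have h5 : ringKrullDim (T ⧸ J) ≤
      Module.supportDim T (T ⧸ (Ideal.ofList rs • (⊤ : Submodule T T))) := by
    rw [dimQ]
    exact ringKrullDim_le_of_surjective (Ideal.Quotient.factor hrsle)
      (Ideal.Quotient.factor_surjective hrsle)
  have hAm : Ideal.ofList A ≤ maximalIdeal T :=
    (Ideal.span_le.mpr (fun x hx => hAJ x hx)).trans hJm
  haveI : Nontrivial (T ⧸ (Ideal.ofList A • (⊤ : Submodule T T))) :=
    Submodule.Quotient.nontrivial_iff.mpr (smul_top_ne_top _ hAm)
  obtain ⟨D, hD⟩ := Groth.Agent.H29.CM.exists_nat_supportDim (A := T) (M := T)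
  obtain ⟨n, hn⟩ := Groth.Agent.H29.CM.exists_nat_supportDim (A := T)
    (M := T ⧸ (Ideal.ofList A • (⊤ : Submodule T T)))
  rw [hn, hD] at h2a
  rw [hD, hlen] at h1
  have h6 : ((n : ℕ∞) : WithBot ℕ∞) ≤
      Module.supportDim T (T ⧸ (Ideal.ofList rs • (⊤ : Submodule T T))) := by
    rw [← hn, ← h3]
    exact h4.trans h5
  have h7 : ((n : ℕ∞) : WithBot ℕ∞) + (j : WithBot ℕ∞) ≤
      ((n : ℕ∞) : WithBot ℕ∞) + (A.length : WithBot ℕ∞) := by
    rw [h2a, ← h1]
    exact add_le_add h6 le_rfl
  have h8 : n + j ≤ n + A.length := by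
    have h7' : (((n + j : ℕ) : ℕ∞) : WithBot ℕ∞) ≤
        (((n + A.length : ℕ) : ℕ∞) : WithBot ℕ∞) := by
      first
        | exact_mod_cast h7
        | (push_cast; exact h7)
    rw [WithBot.coe_le_coe, Nat.cast_le] at h7'
    exact h7'
  omega

theorem claim {T : Type u} [CommRing T] [hCM : LocCoh.IsCohenMacaulayLocalRing T]
    (J : Ideal T) (hJm : J ≤ maximalIdeal T) (j : ℕ) (hseq : HasSeq J T j) (c : ℕ)
    (B0 : List T) (hB0len : B0.length = c) (hB0 : Ideal.ofList B0 = J) :
    ∀ i, i ≤ j → ∃ A B : List T, A.length = i ∧ A.length + B.length = c ∧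
      Ideal.ofList (A ++ B) = J ∧ IsWeaklyRegular T A := by
  intro i
  induction i with
  | zero =>
    intro _
    exact ⟨[], B0, rfl, by simpa using hB0len, by simpa using hB0, IsWeaklyRegular.nil T T⟩
  | succ i ih =>
    intro hi
    obtain ⟨A, B, hAl, hlen, hgen, hreg⟩ := ih (by omega)
    have hAJ : ∀ x ∈ A, x ∈ J := fun x hx => by
      rw [← hgen]
      exact Ideal.subset_span (show x ∈ A ++ B from List.mem_append_left _ hx)
    have hAm : Ideal.ofList A ≤ maximalIdeal T :=
      (Ideal.span_le.mpr (fun x hx => hAJ x hx)).trans hJm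
    haveI : Nontrivial (T ⧸ (Ideal.ofList A • (⊤ : Submodule T T))) :=
      Submodule.Quotient.nontrivial_iff.mpr (smul_top_ne_top _ hAm)
    have hAss : ∀ P ∈ associatedPrimes T (T ⧸ (Ideal.ofList A • (⊤ : Submodule T T))),
        ¬ J ≤ P :=
      fun P hP => not_le_assoc J hJm j hseq A hreg hAJ (by omega) P hP
    cases B with
    | nil =>
      exfalso
      obtain ⟨P, hP⟩ :=
        associatedPrimes.nonempty T (T ⧸ (Ideal.ofList A • (⊤ : Submodule T T)))
      apply hAss P hP
      rw [← hgen, List.append_nil]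
      exact ofList_le_of_mem_ass _ P hP
    | cons b B' =>
      have hfin := associatedPrimes.finite T (T ⧸ (Ideal.ofList A • (⊤ : Submodule T T)))
      have hcond : ∀ P ∈ hfin.toFinset, ¬ (b ∈ P ∧ Ideal.ofList B' ≤ P) := by
        intro P hP ⟨hb, hB'⟩
        rw [Set.Finite.mem_toFinset] at hP
        apply hAss P hP
        rw [← hgen]
        refine Ideal.span_le.mpr ?_
        intro x (hx : x ∈ A ++ b :: B')
        rw [List.mem_append, List.mem_cons] at hx
        rcases hx with hx | hx | hx
        · exact ofList_le_of_mem_ass _ P hP (Ideal.subset_span hx)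
        · rw [hx]
          exact hb
        · exact hB' (Ideal.subset_span hx)
      obtain ⟨a, haB', hav⟩ := davis b (Ideal.ofList B') _ hfin.toFinset rfl
        (fun P hP => ((Set.Finite.mem_toFinset hfin).mp hP).isPrime) hcond
      refine ⟨A ++ [b + a], B', by rw [List.length_append, List.length_singleton, hAl],
        ?_, ?_, ?_⟩
      · rw [List.length_append, List.length_singleton]
        rw [List.length_cons] at hlen
        omega
      · rw [ofList_replace A B' b a haB']
        exact hgen
      · refine (isWeaklyRegular_append_iff T A [b + a]).mpr ⟨hreg, ?_⟩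
        refine (isWeaklyRegular_singleton_iff _ (b + a)).mpr ?_
        apply regular_of_avoid
        intro P hP
        exact hav P ((Set.Finite.mem_toFinset hfin).mpr hP)

end Helpers


/-- Let T be a Cohen–Macaulay Noetherian local ring, J a proper ideal of T, j the grade of J (the
J-depth of T, i.e. the supremum of the lengths of T-regular sequences inside J; a natural number
here) and c the minimal number of generators of J (equal to the dimension of J/𝔪J over the residue
field). Then j ≤ c and there is a generating sequence t_1, …, t_c of J such that t_1, …, t_j is a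
T-regular sequence. (The published statement does not exclude J = T; there c = 1 while the grade,
read as the depth of T, can exceed 1, so this row assumes J proper.) -/
theorem result {T : Type u} [CommRing T] [LocCoh.IsCohenMacaulayLocalRing T]
    (J : Ideal T) (hJ : J ≠ ⊤) (j : ℕ) (hj : LocCoh.idealDepth J T = j) :
    j ≤ Submodule.spanFinrank J ∧
      ∃ ts : List T, ts.length = Submodule.spanFinrank J ∧ Ideal.ofList ts = J ∧
        RingTheory.Sequence.IsRegular T (ts.take j) := by
  have hJm : J ≤ IsLocalRing.maximalIdeal T := IsLocalRing.le_maximalIdeal hJ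
  have hJtop : J • (⊤ : Submodule T T) ≠ ⊤ := smul_top_ne_top J hJm
  have hseq : Groth.Agent.H15.Depth.HasSeq J T j :=
    (Groth.Agent.H15.Depth.le_idealDepth_iff hJtop j).1 (le_of_eq hj.symm)
  have hfg : (J : Submodule T T).FG := IsNoetherian.noetherian J
  obtain ⟨s, hscard, hsspan⟩ := Submodule.FG.exists_span_finset_card_eq_spanFinrank hfg
  have hB0 : Ideal.ofList s.toList = J := by
    rw [← hsspan]
    show Submodule.span T {r | r ∈ s.toList} = Submodule.span T (↑s : Set T)
    congr 1
    ext x
    simp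
  obtain ⟨A, B, hAl, hlen, hgen, hreg⟩ := claim J hJm j hseq (Submodule.spanFinrank J) s.toList
    (by rw [Finset.length_toList, hscard]) hB0 j le_rfl
  refine ⟨by omega, A ++ B, by rw [List.length_append]; exact hlen, hgen, ?_⟩
  rw [List.take_left' hAl]
  refine ⟨hreg, ?_⟩
  have hAm : Ideal.ofList A ≤ IsLocalRing.maximalIdeal T := by
    refine le_trans ?_ hJm
    rw [← hgen]
    exact Ideal.span_mono (fun x (hx : x ∈ A) => (List.mem_append_left _ hx : x ∈ A ++ B))
  exact fun h => smul_top_ne_top _ hAm h.symm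

end Groth.Agent.S17873
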