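import Groth.Statements.S17875
import Mathlib.Data.Nat.Choose.Cast
import Mathlib.Data.Nat.Choose.Sum
import Mathlib.Tactic

set_option autoImplicit false
universe u
open Polynomial
open GRRSing

namespace Groth.Agent.S17875

/-- Let R be a commutative ℚ-algebra, r an element of R and δ a natural number with (r - 1) ^ (δ + 1) =
0. Write s(k, j) for the signed Stirling numbers of the first kind, the coefficients of x (x - 1) ⋯
(x - k + 1) = Σ_j s(k, j) x ^ j. Then (i) for every natural number n, r ^ n = Σ_{k ≤ δ} [n (n - 1) ⋯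
(n - k + 1) / k!] (r - 1) ^ k; and (ii) in the polynomial ring R[x], Σ_{k ≤ δ} [x (x - 1) ⋯ (x - k +
1) / k!] (r - 1) ^ k = Σ_{j ≤ δ} [Σ_{k ≤ δ} Σ_{u ≤ k} (-1) ^ (k - u) s(k, j) / (u! (k - u)!) · r ^
u] x ^ j. -/
theorem result {R : Type u} [CommRing R] [Algebra ℚ R]
    (r : R) (δ : ℕ) (hr : (r - 1) ^ (δ + 1) = 0) :
    (∀ n : ℕ, r ^ n = ∑ k ∈ Finset.range (δ + 1), ((descPochhammer ℚ k).eval (n : ℚ) / (k.factorial : ℚ)) • (r - 1) ^ k) ∧
    (∑ k ∈ Finset.range (δ + 1), ((k.factorial : ℚ)⁻¹ • (descPochhammer R k * Polynomial.C ((r - 1) ^ k))) =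
      ∑ j ∈ Finset.range (δ + 1), Polynomial.C (∑ k ∈ Finset.range (δ + 1), ∑ u ∈ Finset.range (k + 1),
        (((-1 : ℚ) ^ (k - u) * (((descPochhammer ℤ k).coeff j : ℤ) : ℚ)) / ((u.factorial * (k - u).factorial : ℕ) : ℚ)) • r ^ u) * Polynomial.X ^ j) := by
  refine ⟨fun n => ?_, ?_⟩
  · have h2 : ∀ k : ℕ, (descPochhammer ℚ k).eval (n : ℚ) / (k.factorial : ℚ) = (n.choose k : ℚ) := by
      intro k
      rw [descPochhammer_eval_eq_descFactorial, Nat.descFactorial_eq_factorial_mul_choose]
      have h1 : (k.factorial : ℚ) ≠ 0 := by exact_mod_cast k.factorial_ne_zero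
      push_cast
      field_simp
    simp only [h2]
    have h3 : r ^ n = ∑ m ∈ Finset.range (n + 1), (n.choose m : ℚ) • (r - 1) ^ m := by
      conv_lhs => rw [show r = (r - 1) + 1 by ring]
      rw [add_pow]
      refine Finset.sum_congr rfl fun m _ => ?_
      rw [one_pow, mul_one, Nat.cast_smul_eq_nsmul, nsmul_eq_mul, mul_comm]
    rw [h3]
    have hA : ∑ m ∈ Finset.range (n + 1), (n.choose m : ℚ) • (r - 1) ^ m
        = ∑ m ∈ Finset.range (n + δ + 2), (n.choose m : ℚ) • (r - 1) ^ m := by
      refine Finset.sum_subset (Finset.range_mono (by omega)) fun m _ hm => ?_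
      rw [Finset.mem_range, not_lt] at hm
      rw [Nat.choose_eq_zero_of_lt (by omega), Nat.cast_zero, zero_smul]
    have hB : ∑ m ∈ Finset.range (δ + 1), (n.choose m : ℚ) • (r - 1) ^ m
        = ∑ m ∈ Finset.range (n + δ + 2), (n.choose m : ℚ) • (r - 1) ^ m := by
      refine Finset.sum_subset (Finset.range_mono (by omega)) fun m _ hm => ?_
      rw [Finset.mem_range, not_lt] at hm
      obtain ⟨c, rfl⟩ := Nat.exists_eq_add_of_le hm
      rw [pow_add, hr, zero_mul, smul_zero]
    rw [hA, hB]
  · ext j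
    simp only [Polynomial.finsetSum_coeff, Polynomial.coeff_smul, Polynomial.coeff_mul_C,
      Polynomial.coeff_C_mul_X_pow]
    have hcoeff : ∀ k : ℕ, (descPochhammer R k).coeff j
        = (((descPochhammer ℤ k).coeff j : ℤ) : R) := by
      intro k
      rw [← descPochhammer_map (Int.castRingHom R) k, Polynomial.coeff_map]
      rfl
    by_cases hj : j ∈ Finset.range (δ + 1)
    · rw [Finset.sum_ite_eq, if_pos hj]
      refine Finset.sum_congr rfl fun k _ => ?_
      rw [hcoeff k]
      have hexp : (r - 1) ^ k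
          = ∑ u ∈ Finset.range (k + 1), r ^ u * (-1) ^ (k - u) * (k.choose u : R) := by
        rw [sub_eq_add_neg, add_pow]
      rw [hexp, Finset.mul_sum, Finset.smul_sum]
      refine Finset.sum_congr rfl fun u hu => ?_
      have huk : u ≤ k := Nat.lt_succ_iff.mp (Finset.mem_range.mp hu)
      generalize (descPochhammer ℤ k).coeff j = s
      have hq : (k.factorial : ℚ)⁻¹ * (s : ℚ) * (-1) ^ (k - u) * (k.choose u : ℚ)
          = ((-1 : ℚ) ^ (k - u) * (s : ℚ)) / ((u.factorial * (k - u).factorial : ℕ) : ℚ) := by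
        rw [Nat.cast_choose ℚ huk]
        have h1 : (k.factorial : ℚ) ≠ 0 := by exact_mod_cast k.factorial_ne_zero
        have h2 : (u.factorial : ℚ) ≠ 0 := by exact_mod_cast u.factorial_ne_zero
        have h3 : ((k - u).factorial : ℚ) ≠ 0 := by exact_mod_cast (k - u).factorial_ne_zero
        push_cast
        field_simp
      rw [← hq, Algebra.smul_def, Algebra.smul_def]
      simp only [map_mul, map_pow, map_neg, map_one, map_intCast, map_natCast]
      ring
    · rw [Finset.sum_ite_eq, if_neg hj]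
      refine Finset.sum_eq_zero fun k hk => ?_
      rw [hcoeff k, Polynomial.coeff_eq_zero_of_natDegree_lt, Int.cast_zero, zero_mul, smul_zero]
      rw [descPochhammer_natDegree]
      rw [Finset.mem_range] at hj hk
      omega

end Groth.Agent.S17875
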