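import Groth.Statements.S17877
import Groth.Agent.H14.KaehlerGen

set_option autoImplicit false
universe u
open GRRSing

namespace Groth.Agent.S17877

/-- Let K be a field with algebraic closure K̄ and Z = Spec A an affine scheme of finite type over K of
dimension d whose geometric fibre Spec (K̄ ⊗_K A) is integral with at most hypersurface
singularities (at every prime the embedding dimension of the local ring, the dimension of 𝔪/𝔪² over
the residue field, is at most the height of the prime plus one). Then for every prime p of A the
(Ω_{A/K})_p is generated over A_p by at most d + 1 elements. (The published statement is for any Z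
of finite type over K; the assertion is local on Z and the hypotheses pass to affine opens.) -/
theorem result
    {K : Type u} [Field K] {A : Type u} [CommRing A] [Algebra K A] [Algebra.FiniteType K A]
    [IsDomain (TensorProduct K (AlgebraicClosure K) A)]
    (hhyp : ∀ (q : Ideal (TensorProduct K (AlgebraicClosure K) A)) [q.IsPrime],
      (Module.finrank (IsLocalRing.ResidueField (Localization.AtPrime q))
          (IsLocalRing.CotangentSpace (Localization.AtPrime q)) : ℕ∞) ≤ q.height + 1)
    (d : ℕ) (hd : ringKrullDim A = d) (p : Ideal A) [p.IsPrime] :
    ∃ s : Finset (LocalizedModule p.primeCompl (KaehlerDifferential K A)),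
      s.card ≤ d + 1 ∧ Submodule.span (Localization.AtPrime p) (s : Set (LocalizedModule p.primeCompl (KaehlerDifferential K A))) = ⊤ := by
  classical
  haveI : IsNoetherianRing A := Algebra.FiniteType.isNoetherianRing K A
  letI : Algebra A (TensorProduct K (AlgebraicClosure K) A) := Algebra.TensorProduct.rightAlgebra
  -- integrality
  haveI hint : Algebra.IsIntegral A (TensorProduct K (AlgebraicClosure K) A) := by
    constructor
    intro x
    induction x using TensorProduct.induction_on with
    | zero => exact isIntegral_zero
    | add x y hx hy => exact hx.add hy
    | tmul c a =>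
      have h1 : IsIntegral K c := Algebra.IsIntegral.isIntegral c
      have h2 : IsIntegral K ((Algebra.TensorProduct.includeLeft :
          AlgebraicClosure K →ₐ[K] TensorProduct K (AlgebraicClosure K) A) c) := h1.map _
      have h3 : IsIntegral A ((Algebra.TensorProduct.includeLeft :
          AlgebraicClosure K →ₐ[K] TensorProduct K (AlgebraicClosure K) A) c) := h2.tower_top
      have h4 : IsIntegral A (algebraMap A (TensorProduct K (AlgebraicClosure K) A) a) :=
        isIntegral_algebraMap
      have h5 : c ⊗ₜ[K] a = (Algebra.TensorProduct.includeLeft :
          AlgebraicClosure K →ₐ[K] TensorProduct K (AlgebraicClosure K) A) c *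
          algebraMap A (TensorProduct K (AlgebraicClosure K) A) a := by
        simp [RingHom.algebraMap_toAlgebra]
      rw [h5]
      exact h3.mul h4
  have hinj : Function.Injective (algebraMap A (TensorProduct K (AlgebraicClosure K) A)) :=
    Algebra.TensorProduct.includeRight_injective (algebraMap K (AlgebraicClosure K)).injective
  obtain ⟨P, hP, hPp⟩ := Ideal.exists_ideal_over_prime_of_isIntegral_of_isDomain p
    (S := TensorProduct K (AlgebraicClosure K) A) (by
      rw [(RingHom.injective_iff_ker_eq_bot _).mp hinj]; exact bot_le)
  have hdim : ringKrullDim (TensorProduct K (AlgebraicClosure K) A) ≤ d := by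
    rw [← hd]
    exact Groth.Agent.H54.ringKrullDim_le_of_isIntegral
  have hbound := Groth.Agent.H14.KaehlerGen.finrank_le_dim_succ (AlgebraicClosure K)
    (TensorProduct K (AlgebraicClosure K) A) P d hdim (hhyp P)
  rw [← (Groth.Agent.H14.JacCrit.fibreEquiv (AlgebraicClosure K)
    (TensorProduct K (AlgebraicClosure K) A) P).finrank_eq] at hbound
  have e := KaehlerDifferential.tensorKaehlerEquiv K (AlgebraicClosure K) A
    (TensorProduct K (AlgebraicClosure K) A)
  have e' : TensorProduct (TensorProduct K (AlgebraicClosure K) A) P.ResidueField
      (TensorProduct A (TensorProduct K (AlgebraicClosure K) A) (KaehlerDifferential K A))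
      ≃ₗ[P.ResidueField] TensorProduct (TensorProduct K (AlgebraicClosure K) A) P.ResidueField
        (KaehlerDifferential (AlgebraicClosure K) (TensorProduct K (AlgebraicClosure K) A)) :=
    TensorProduct.AlgebraTensorModule.congr (LinearEquiv.refl P.ResidueField P.ResidueField) e
  rw [← e'.finrank_eq, Groth.Agent.H14.KaehlerGen.finrank_fibre_baseChange A
    (TensorProduct K (AlgebraicClosure K) A) (KaehlerDifferential K A) p P hPp.symm] at hbound
  exact Groth.Agent.H14.KaehlerGen.exists_finset_span A (KaehlerDifferential K A) p (d + 1) hbound

end Groth.Agent.S17877
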