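import Groth.Statements.S17878
import Mathlib.Analysis.SpecificLimits.Normed
import Mathlib.Data.Nat.Choose.Cast
import Mathlib.Algebra.BigOperators.Field
import Mathlib.Topology.Algebra.InfiniteSum.Module
import Mathlib.Topology.Algebra.InfiniteSum.NatInt
import Mathlib.Tactic

set_option autoImplicit false
universe u
open Filter Topology
open GRRSing

namespace Groth.Agent.S17878

/-- coefficient recurrence for the numbers `E j`. -/
theorem E_rec (E : ℕ → ℚ)
    (hE : PowerSeries.mk (fun j => E j / (j.factorial : ℚ)) * (PowerSeries.exp ℚ + 1) = 2) (j : ℕ) :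
    E j + ∑ i ∈ Finset.range (j + 1), (j.choose i : ℚ) * E i = if j = 0 then 2 else 0 := by
  have h := congrArg (PowerSeries.coeff j) hE
  rw [mul_add, mul_one, map_add, PowerSeries.coeff_mul, PowerSeries.coeff_mk,
    Finset.Nat.sum_antidiagonal_eq_sum_range_succ_mk, ← one_add_one_eq_two, map_add,
    PowerSeries.coeff_one] at h
  have hj : ((j.factorial : ℕ) : ℚ) ≠ 0 := Nat.cast_ne_zero.2 (Nat.factorial_ne_zero _)
  have key : ∑ i ∈ Finset.range (j + 1), (j.choose i : ℚ) * E i =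
      (j.factorial : ℚ) * ∑ k ∈ Finset.range j.succ,
        PowerSeries.coeff k (PowerSeries.mk fun j => E j / (j.factorial : ℚ)) *
          PowerSeries.coeff (j - k) (PowerSeries.exp ℚ) := by
    rw [Finset.mul_sum]
    refine Finset.sum_congr rfl fun k hk => ?_
    have hk' : k ≤ j := Nat.lt_succ_iff.1 (Finset.mem_range.1 hk)
    have h1 : ((k.factorial : ℕ) : ℚ) ≠ 0 := Nat.cast_ne_zero.2 (Nat.factorial_ne_zero _)
    have h2 : (((j - k).factorial : ℕ) : ℚ) ≠ 0 := Nat.cast_ne_zero.2 (Nat.factorial_ne_zero _)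
    rw [PowerSeries.coeff_mk, PowerSeries.coeff_exp, Nat.cast_choose ℚ hk']
    simp only [Algebra.algebraMap_self, RingHom.id_apply]
    field_simp
  rw [key]
  have h3 : (j.factorial : ℚ) * (if j = 0 then (1 : ℚ) else 0) = if j = 0 then 1 else 0 := by
    by_cases h0 : j = 0
    · subst h0; simp
    · simp [h0]
  have h4 : (if j = 0 then (2 : ℚ) else 0) =
      (j.factorial : ℚ) * ((if j = 0 then (1 : ℚ) else 0) + (if j = 0 then (1 : ℚ) else 0)) := by
    rw [mul_add, h3]
    by_cases h0 : j = 0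
    · simp [h0]; norm_num
    · simp [h0]
  rw [h4, ← h, mul_add, mul_div_cancel₀ _ hj]
  ring

/-- the scalar series `Σ k^j y^k`. -/
noncomputable def g (j : ℕ) (y : ℂ) : ℂ := ∑' k : ℕ, (k : ℂ) ^ j * y ^ k

theorem summ (j : ℕ) {y : ℂ} (hy : ‖y‖ < 1) : Summable (fun k : ℕ => (k : ℂ) ^ j * y ^ k) :=
  summable_pow_mul_geometric_of_norm_lt_one j hy

theorem g_rec (j : ℕ) {y : ℂ} (hy : ‖y‖ < 1) :
    (1 - y) * g j y =
      (if j = 0 then (1 : ℂ) else 0) + y * ∑ i ∈ Finset.range j, (j.choose i : ℂ) * g i y := by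
  have h0 : g j y = (if j = 0 then (1 : ℂ) else 0) + ∑' k : ℕ, ((k : ℂ) + 1) ^ j * y ^ (k + 1) := by
    unfold g
    rw [(summ j hy).tsum_eq_zero_add]
    simp [zero_pow_eq]
  have h1 : ∀ k : ℕ, ((k : ℂ) + 1) ^ j * y ^ (k + 1) =
      ∑ i ∈ Finset.range (j + 1), y * ((j.choose i : ℂ) * ((k : ℂ) ^ i * y ^ k)) := by
    intro k
    rw [add_pow, Finset.sum_mul]
    refine Finset.sum_congr rfl fun i _ => ?_
    rw [one_pow, pow_succ]
    ring
  have h2 : ∑' k : ℕ, ((k : ℂ) + 1) ^ j * y ^ (k + 1) =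
      ∑ i ∈ Finset.range (j + 1), y * ((j.choose i : ℂ) * g i y) := by
    rw [tsum_congr h1, Summable.tsum_finsetSum]
    · refine Finset.sum_congr rfl fun i _ => ?_
      rw [tsum_mul_left, tsum_mul_left]
      rfl
    · intro i _
      exact ((summ i hy).mul_left _).mul_left _
  rw [Finset.sum_range_succ, Nat.choose_self, Nat.cast_one, one_mul] at h2
  rw [h2] at h0
  rw [Finset.mul_sum]
  linear_combination h0

theorem g_tendsto (E : ℕ → ℚ)
    (hErec : ∀ j, E j + ∑ i ∈ Finset.range (j + 1), (j.choose i : ℚ) * E i =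
      if j = 0 then 2 else 0) (j : ℕ) :
    Tendsto (fun y : ℝ => g j (y : ℂ)) (𝓝[Set.Ioo (-1 : ℝ) 1] (-1 : ℝ))
      (𝓝 (((E j : ℚ) : ℂ) / 2)) := by
  induction j using Nat.strong_induction_on with
  | _ j ih =>
    have hy : Tendsto (fun y : ℝ => (y : ℂ)) (𝓝[Set.Ioo (-1 : ℝ) 1] (-1 : ℝ))
        (𝓝 ((-1 : ℝ) : ℂ)) :=
      (Complex.continuous_ofReal.tendsto _).mono_left nhdsWithin_le_nhds
    have hlim : Tendsto (fun y : ℝ => ((if j = 0 then (1 : ℂ) else 0) +
        (y : ℂ) * ∑ i ∈ Finset.range j, (j.choose i : ℂ) * g i (y : ℂ)) / (1 - (y : ℂ)))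
        (𝓝[Set.Ioo (-1 : ℝ) 1] (-1 : ℝ))
        (𝓝 (((if j = 0 then (1 : ℂ) else 0) +
          ((-1 : ℝ) : ℂ) * ∑ i ∈ Finset.range j, (j.choose i : ℂ) * (((E i : ℚ) : ℂ) / 2)) /
            (1 - ((-1 : ℝ) : ℂ)))) := by
      refine Tendsto.div (tendsto_const_nhds.add (hy.mul (tendsto_finsetSum _ fun i hi => ?_)))
        (tendsto_const_nhds.sub hy) ?_
      · exact (ih i (Finset.mem_range.1 hi)).const_mul _
      · norm_num
    have hval : ((if j = 0 then (1 : ℂ) else 0) +
          ((-1 : ℝ) : ℂ) * ∑ i ∈ Finset.range j, (j.choose i : ℂ) * (((E i : ℚ) : ℂ) / 2)) /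
            (1 - ((-1 : ℝ) : ℂ)) = ((E j : ℚ) : ℂ) / 2 := by
      have h := hErec j
      rw [Finset.sum_range_succ, Nat.choose_self, Nat.cast_one, one_mul] at h
      have hc : (2 : ℂ) * ((E j : ℚ) : ℂ) +
          ∑ i ∈ Finset.range j, (j.choose i : ℂ) * ((E i : ℚ) : ℂ) =
            2 * (if j = 0 then (1 : ℂ) else 0) := by
        have h' := congrArg (fun q : ℚ => (q : ℂ)) h
        beta_reduce at h'
        by_cases h0 : j = 0
        · rw [if_pos h0] at h' ⊢
          push_cast at h'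
          linear_combination h'
        · rw [if_neg h0] at h' ⊢
          push_cast at h'
          linear_combination h'
      have hs : ∑ i ∈ Finset.range j, (j.choose i : ℂ) * (((E i : ℚ) : ℂ) / 2) =
          (∑ i ∈ Finset.range j, (j.choose i : ℂ) * ((E i : ℚ) : ℂ)) / 2 := by
        rw [Finset.sum_div]
        exact Finset.sum_congr rfl fun i _ => by ring
      have hS : ∑ i ∈ Finset.range j, (j.choose i : ℂ) * ((E i : ℚ) : ℂ) =
          2 * (if j = 0 then (1 : ℂ) else 0) - 2 * ((E j : ℚ) : ℂ) := by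
        linear_combination hc
      rw [hs, hS]
      push_cast
      ring
    rw [hval] at hlim
    refine hlim.congr' ?_
    filter_upwards [self_mem_nhdsWithin] with y hy'
    have hny : ‖(y : ℂ)‖ < 1 := by
      rw [Complex.norm_real, Real.norm_eq_abs, abs_lt]
      exact ⟨hy'.1, hy'.2⟩
    have h1y : (1 - (y : ℂ)) ≠ 0 := by
      intro h
      have h1 : (y : ℂ) = 1 := (sub_eq_zero.1 h).symm
      have h2 : y = 1 := by exact_mod_cast h1
      exact (ne_of_lt hy'.2) h2
    rw [← g_rec j hny, mul_div_cancel_left₀ _ h1y]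

/-- Let T be a nonzero commutative normed ℂ-algebra such that the map ℂ → T/nilradical(T) is surjective,
let P = Σ_j d_j x ^ j be a polynomial over T and put h_k = P(k). Let E_0, E_1, … be the rational
numbers with 2/(e^t + 1) = Σ_j E_j t ^ j / j! (so E_0 = 1, E_1 = -1/2). Then for every complex y
with |y| < 1 the series Σ_k h_k y ^ k converges in T, and as y → -1 along real y in (-1, 1) its sum
tends to (1/2) Σ_j E_j d_j. (The published statement allows any norm topology on T as a complex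
vector space; this row takes T a normed ℂ-algebra.) -/
theorem result {T : Type u} [NormedCommRing T] [NormedAlgebra ℂ T] [Nontrivial T]
    (hT : Function.Surjective (algebraMap ℂ (T ⧸ nilradical T)))
    (E : ℕ → ℚ) (hE : PowerSeries.mk (fun j => E j / (j.factorial : ℚ)) * (PowerSeries.exp ℚ + 1) = 2)
    (P : Polynomial T) :
    (∀ y : ℂ, ‖y‖ < 1 → Summable (fun k : ℕ => y ^ k • P.eval (k : T))) ∧
    Tendsto (fun y : ℝ => ∑' k : ℕ, ((y : ℂ) ^ k) • P.eval (k : T)) (𝓝[Set.Ioo (-1 : ℝ) 1] (-1 : ℝ))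
      (𝓝 ((2 : ℂ)⁻¹ • ∑ j ∈ Finset.range (P.natDegree + 1), ((E j : ℚ) : ℂ) • P.coeff j)) := by
  have hErec := E_rec E hE
  have hterm : ∀ (y : ℂ) (k : ℕ), y ^ k • P.eval (k : T) =
      ∑ j ∈ Finset.range (P.natDegree + 1), ((k : ℂ) ^ j * y ^ k) • P.coeff j := by
    intro y k
    rw [Polynomial.eval_eq_sum_range, Finset.smul_sum]
    refine Finset.sum_congr rfl fun j _ => ?_
    rw [mul_comm ((k : ℂ) ^ j) (y ^ k), mul_smul]
    congr 1
    rw [Algebra.smul_def, map_pow, map_natCast, mul_comm]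
  have hsum : ∀ y : ℂ, ‖y‖ < 1 → ∀ j,
      Summable (fun k : ℕ => ((k : ℂ) ^ j * y ^ k) • P.coeff j) :=
    fun y hy j => (summ j hy).smul_const _
  have htsum : ∀ y : ℂ, ‖y‖ < 1 → ∑' k : ℕ, y ^ k • P.eval (k : T) =
      ∑ j ∈ Finset.range (P.natDegree + 1), g j y • P.coeff j := by
    intro y hy
    rw [tsum_congr (hterm y), Summable.tsum_finsetSum (fun j _ => hsum y hy j)]
    refine Finset.sum_congr rfl fun j _ => ?_
    exact (summ j hy).tsum_smul_const _
  refine ⟨fun y hy => ?_, ?_⟩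
  · rw [show (fun k : ℕ => y ^ k • P.eval (k : T)) = fun k : ℕ =>
      ∑ j ∈ Finset.range (P.natDegree + 1), ((k : ℂ) ^ j * y ^ k) • P.coeff j from
      funext (hterm y)]
    exact summable_sum fun j _ => hsum y hy j
  · have hlim : Tendsto
        (fun y : ℝ => ∑ j ∈ Finset.range (P.natDegree + 1), g j (y : ℂ) • P.coeff j)
        (𝓝[Set.Ioo (-1 : ℝ) 1] (-1 : ℝ))
        (𝓝 (∑ j ∈ Finset.range (P.natDegree + 1), (((E j : ℚ) : ℂ) / 2) • P.coeff j)) :=
      tendsto_finsetSum _ fun j _ => (g_tendsto E hErec j).smul_const _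
    have hval : (2 : ℂ)⁻¹ • ∑ j ∈ Finset.range (P.natDegree + 1), ((E j : ℚ) : ℂ) • P.coeff j =
        ∑ j ∈ Finset.range (P.natDegree + 1), (((E j : ℚ) : ℂ) / 2) • P.coeff j := by
      rw [Finset.smul_sum]
      refine Finset.sum_congr rfl fun j _ => ?_
      rw [smul_smul, inv_mul_eq_div]
    rw [hval]
    refine hlim.congr' ?_
    filter_upwards [self_mem_nhdsWithin] with y hy'
    have hny : ‖(y : ℂ)‖ < 1 := by
      rw [Complex.norm_real, Real.norm_eq_abs, abs_lt]
      exact ⟨hy'.1, hy'.2⟩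
    exact (htsum _ hny).symm

end Groth.Agent.S17878
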