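import Groth.Statements.S17882
import Mathlib.LinearAlgebra.Matrix.Adjugate
import Mathlib.LinearAlgebra.LinearIndependent.Lemmas
import Mathlib.RingTheory.Ideal.Span

set_option autoImplicit false
universe u
open CAlg

namespace Groth.Agent.S17882

/-- Let B be a commutative ring, r ≥ 1, N a finitely generated submodule of B^r, and n_1, …, n_r ∈ N.
Suppose the determinant of the matrix with rows n_1, …, n_r is a nonzerodivisor of B and that the
determinant of every matrix whose rows lie in N is a multiple of it (the image of the top exterior
power of N in that of B^r ≅ B is the principal ideal generated by n_1 ∧ ⋯ ∧ n_r, a nonzerodivisor).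
Then n_1, …, n_r are linearly independent over B and span N: N is free of rank r with this basis. -/
theorem result (B : Type u) [CommRing B] (r : ℕ) (hr : 0 < r)
    (N : Submodule B (Fin r → B)) (hN : N.FG) (n : Fin r → (Fin r → B)) (hn : ∀ i, n i ∈ N)
    (hgen : ∀ m : Fin r → (Fin r → B), (∀ i, m i ∈ N) →
      Matrix.det (Matrix.of m) ∈ Ideal.span {Matrix.det (Matrix.of n)})
    (hnzd : Matrix.det (Matrix.of n) ∈ nonZeroDivisors B) :
    LinearIndependent B n ∧ Submodule.span B (Set.range n) = N := by
  classical
  set M : Matrix (Fin r) (Fin r) B := Matrix.of n with hM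
  set d := M.det with hd
  have hdreg : ∀ v : Fin r → B, d • v = 0 → v = 0 := by
    intro v hv
    funext i
    have := congrFun hv i
    simp only [Pi.smul_apply, smul_eq_mul, Pi.zero_apply] at this
    exact (mul_left_mem_nonZeroDivisors_eq_zero_iff hnzd).mp this
  have hsum : ∀ g : Fin r → B, ∑ i, g i • n i = Matrix.vecMul g M := by
    intro g
    rw [Matrix.vecMul_eq_sum]
    rfl
  constructor
  · rw [Fintype.linearIndependent_iff]
    intro g hg
    rw [hsum] at hg
    have h1 : Matrix.vecMul (Matrix.vecMul g M) M.adjugate = 0 := by rw [hg, Matrix.zero_vecMul]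
    rw [Matrix.vecMul_vecMul, Matrix.mul_adjugate, Matrix.vecMul_smul, Matrix.vecMul_one] at h1
    intro i
    exact congrFun (hdreg g h1) i
  · apply le_antisymm
    · rw [Submodule.span_le]
      rintro _ ⟨i, rfl⟩
      exact hn i
    · intro x hx
      have hc : ∀ i, ∃ c : B, Matrix.cramer M.transpose x i = d * c := by
        intro i
        have hmem : ∀ j, Function.update n i x j ∈ N := by
          intro j
          by_cases hji : j = i
          · subst hji; simpa using hx
          · simpa [Function.update_of_ne hji] using hn j
        have h2 := hgen (Function.update n i x) hmem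
        rw [Ideal.mem_span_singleton'] at h2
        obtain ⟨c, hc⟩ := h2
        refine ⟨c, ?_⟩
        rw [Matrix.cramer_transpose_apply, mul_comm, hc]
        rfl
      choose c hc using hc
      have h3 : Matrix.vecMul (Matrix.cramer M.transpose x) M = d • x := by
        have := Matrix.mulVec_cramer M.transpose x
        rwa [Matrix.mulVec_transpose, Matrix.det_transpose] at this
      have h4 : Matrix.cramer M.transpose x = d • c := by
        funext i
        rw [hc i]; rfl
      rw [h4, Matrix.smul_vecMul] at h3
      have h5 : Matrix.vecMul c M = x := by
        have := hdreg (Matrix.vecMul c M - x) (by rw [smul_sub, h3, sub_self])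
        exact sub_eq_zero.mp this
      rw [← h5, ← hsum]
      exact Submodule.sum_mem _ (fun i _ =>
        Submodule.smul_mem _ _ (Submodule.subset_span ⟨i, rfl⟩))

end Groth.Agent.S17882
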