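import Groth.Statements.S17887
import Mathlib
import Groth.Agent.H94.EffCartierDense

set_option autoImplicit false
universe u
open CategoryTheory AlgebraicGeometry
open BlowUp

namespace Groth.Agent.S17887

open CategoryTheory.Limits TopologicalSpace
open Groth.Agent.H94.EffCartierDense

theorem dominant_homOfLE {X : Scheme.{u}} (U V : X.Opens) (hUV : U ≤ V)
    [IsSchemeTheoreticallyDominant U.ι] [QuasiCompact U.ι] :
    IsSchemeTheoreticallyDominant (X.homOfLE hUV) := by
  have e : U = U ⊓ V := (inf_eq_left.2 hUV).symm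
  have h1 : X.homOfLE hUV = (X.isoOfEq e).hom ≫ X.homOfLE inf_le_right := by
    rw [← cancel_mono V.ι]; simp
  haveI : IsSchemeTheoreticallyDominant (X.homOfLE (inf_le_right : U ⊓ V ≤ V)) :=
    IsSchemeTheoreticallyDominant.of_isPullback (isPullback_opens_inf U V)
  rw [h1]
  infer_instance

theorem isPullback_homOfLE_restrict {X X' : Scheme.{u}} (π : X' ⟶ X) (U V : X.Opens) (hUV : U ≤ V) :
    IsPullback (X'.homOfLE (show π ⁻¹ᵁ U ≤ π ⁻¹ᵁ V from fun _ hx => hUV hx)) (π ∣_ U) (π ∣_ V)
      (X.homOfLE hUV) := by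
  refine IsPullback.of_right ?_ ?_ (isPullback_morphismRestrict π V).flip
  · rw [Scheme.homOfLE_ι, Scheme.homOfLE_ι]
    exact (isPullback_morphismRestrict π U).flip
  · rw [← cancel_mono V.ι, Category.assoc, Category.assoc, morphismRestrict_ι, Scheme.homOfLE_ι,
      Scheme.homOfLE_ι_assoc, morphismRestrict_ι]

theorem main {X X' : Scheme.{u}} [IsNoetherian X]
    (U : X.Opens) [IsSchemeTheoreticallyDominant U.ι] (𝓘 : X.IdealSheafData)
    (hU : Disjoint (𝓘.support : Set X) (U : Set X)) (π : X' ⟶ X) (hπ : BlowUp.IsBlowUp π 𝓘) :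
    IsSchemeTheoreticallyDominant (π ⁻¹ᵁ U).ι := by
  set V : X.Opens := 𝓘.support.compl with hV
  have hUV : U ≤ V := by
    intro x hx hx'
    exact Set.disjoint_left.1 hU hx' hx
  haveI : IsIso (π ∣_ V) := Groth.Agent.H9.isIso_morphismRestrict_compl_of_isBlowUp 𝓘 π hπ
  haveI := dominant_homOfLE U V hUV
  have hle : π ⁻¹ᵁ U ≤ π ⁻¹ᵁ V := fun _ hx => hUV hx
  haveI : IsSchemeTheoreticallyDominant (X'.homOfLE hle) :=
    IsSchemeTheoreticallyDominant.of_isPullback (isPullback_homOfLE_restrict π U V hUV).flip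
  haveI : IsSchemeTheoreticallyDominant (π ⁻¹ᵁ V).ι := by
    have e : π ⁻¹ᵁ V = (𝓘.comap π).support.compl := by
      rw [Scheme.IdealSheafData.support_comap]
      rfl
    rw [e]
    exact dominant_compl_of_isEffCartier _ hπ.1
  rw [← Scheme.homOfLE_ι X' hle]
  infer_instance

/-- Let X be a Noetherian scheme, U ⊆ X an open subscheme that is schematically dense in X, I a
quasi-coherent ideal sheaf on X whose support does not meet U, and π : X' → X a blowing-up of X
along I. Then π⁻¹(U) is schematically dense in X'. -/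
theorem result {X X' : Scheme.{u}} [IsNoetherian X]
    (U : X.Opens) [IsSchemeTheoreticallyDominant U.ι] (𝓘 : X.IdealSheafData)
    (hU : Disjoint (𝓘.support : Set X) (U : Set X)) (π : X' ⟶ X) (hπ : BlowUp.IsBlowUp π 𝓘) :
    IsSchemeTheoreticallyDominant (π ⁻¹ᵁ U).ι := by
  exact main U 𝓘 hU π hπ

end Groth.Agent.S17887
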