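import Groth.Statements.S17899
import Groth.Agent.H55.SemiVal3

set_option autoImplicit false
universe u
open TensorProduct
open CAlg

namespace Groth.Agent.S17899

/-- Let A be a local ring with residue field K, R a valuation ring of K and O ⊆ A the preimage of R
under A → K (so O is a semi-valuation ring with semi-fraction ring A, S = Spec O is glued from U =
Spec A and T = Spec R). Let C be an O-algebra of finite type which is U-admissible (C → A ⊗_O C
injective) and such that A ⊗_O C is flat and of finite presentation over A. Then C is flat and of
finite presentation over O. (The published assertion is more general: the base may be any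
quasi-compact quasi-separated U-admissible scheme over Spec O, and the scheme over it any
quasi-compact quasi-separated admissible scheme. This row is the case of an affine scheme over Spec
O itself, the case in which the published proof carries out its argument.) -/
theorem result
    (A : Type u) [CommRing A] [IsLocalRing A] (R : ValuationSubring (IsLocalRing.ResidueField A))
    (O : Subring A) (hO : O = R.toSubring.comap (IsLocalRing.residue A))
    (C : Type u) [CommRing C] [Algebra ↥O C] [Algebra.FiniteType ↥O C]
    (hadm : Function.Injective (Algebra.TensorProduct.includeRight : C →ₐ[↥O] A ⊗[↥O] C))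
    (hflat : Module.Flat A (A ⊗[↥O] C)) (hfp : Algebra.FinitePresentation A (A ⊗[↥O] C)) :
    Module.Flat ↥O C ∧ Algebra.FinitePresentation ↥O C := by
  classical
  have hmemO : ∀ a : A, a ∈ O ↔ IsLocalRing.residue A a ∈ R := by
    intro a
    rw [hO]
    rfl
  have hinj : Function.Injective (algebraMap ↥O A) := Subtype.val_injective
  have H : ∀ a : A, a ∈ Set.range (algebraMap ↥O A) ∨ ∃ o : ↥O, a * algebraMap ↥O A o = 1 := by
    intro a
    by_cases ha : IsLocalRing.residue A a ∈ R
    · exact Or.inl ⟨⟨a, (hmemO a).mpr ha⟩, rfl⟩
    · right
      have hinv : (IsLocalRing.residue A a)⁻¹ ∈ R := by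
        rcases R.mem_or_inv_mem (IsLocalRing.residue A a) with h | h
        · exact absurd h ha
        · exact h
      have hne : IsLocalRing.residue A a ≠ 0 := by
        intro h0
        exact ha (by rw [h0]; exact R.zero_mem)
      have hu : IsUnit a := by
        by_contra hn
        exact hne ((IsLocalRing.residue_eq_zero_iff a).mpr ((IsLocalRing.mem_maximalIdeal a).mpr hn))
      obtain ⟨b, hb⟩ := hu.exists_right_inv
      have hb' : IsLocalRing.residue A b = (IsLocalRing.residue A a)⁻¹ := by
        have := congrArg (IsLocalRing.residue A) hb
        rw [map_mul, map_one] at this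
        exact eq_inv_of_mul_eq_one_right this
      exact ⟨⟨b, (hmemO b).mpr (by rw [hb']; exact hinv)⟩, hb⟩
  have hadm' : Function.Injective (fun c : C => (1 : A) ⊗ₜ[↥O] c) := fun c c' h => hadm h
  exact Groth.Agent.H55.SemiVal.flat_and_fp_of_semival hinj H hadm'

end Groth.Agent.S17899
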