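import Groth.Statements.S17901
import Groth.Agent.H89.FibreSq

set_option autoImplicit false
universe u
open TensorProduct
open Pinch

namespace Groth.Agent.S17901

/-- Let R be a commutative ring and let B' → B → A, B' → A' → A be a fibre square of R-algebras (B' = B
×_A A') with A' → A surjective, where B, A' and A are flat over R. Then for every commutative
R-algebra R' the square obtained by applying R' ⊗_R − is again a fibre square: R' ⊗_R A' → R' ⊗_R A
is surjective and every pair of elements of R' ⊗_R B and R' ⊗_R A' with the same image in R' ⊗_R A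
is the image of a unique element of R' ⊗_R B'. (The published lemma concludes that the base-changed
square of spectra is co-cartesian in ringed spaces; this row states the ring form, surjective edge
and fibre product, which its proof establishes before translating it to ringed spaces.) -/
theorem result (R B' B A' A : Type u) [CommRing R] [CommRing B'] [CommRing B] [CommRing A'] [CommRing A]
    [Algebra B' B] [Algebra B' A'] [Algebra B A] [Algebra A' A] [Algebra B' A]
    [IsScalarTower B' B A] [IsScalarTower B' A' A]
    [Algebra R B'] [Algebra R B] [Algebra R A'] [Algebra R A]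
    [IsScalarTower R B' B] [IsScalarTower R B' A'] [IsScalarTower R B' A] [IsScalarTower R B A] [IsScalarTower R A' A]
    (hsq : EtMil.IsFibreSquare B' B A' A)
    [Module.Flat R B] [Module.Flat R A'] [Module.Flat R A]
    (R' : Type u) [CommRing R'] [Algebra R R'] :
    Function.Surjective (Algebra.TensorProduct.map (AlgHom.id R R') (IsScalarTower.toAlgHom R A' A)) ∧
    ∀ (x : R' ⊗[R] B) (y : R' ⊗[R] A'),
      Algebra.TensorProduct.map (AlgHom.id R R') (IsScalarTower.toAlgHom R B A) x =
        Algebra.TensorProduct.map (AlgHom.id R R') (IsScalarTower.toAlgHom R A' A) y →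
      ∃! z : R' ⊗[R] B',
        Algebra.TensorProduct.map (AlgHom.id R R') (IsScalarTower.toAlgHom R B' B) z = x ∧
        Algebra.TensorProduct.map (AlgHom.id R R') (IsScalarTower.toAlgHom R B' A') z = y := by
  classical
  let i := Groth.Agent.H89.fsI R B' B A'
  let d := Groth.Agent.H89.fsD R B A' A
  have hi := Groth.Agent.H89.fsI_injective (R := R) hsq
  have hd := Groth.Agent.H89.fsD_surjective (R := R) hsq
  have H := Groth.Agent.H89.fs_exact (R := R) hsq
  have hTi : Function.Injective (i.lTensor R') :=
    LinearMap.lTensor_injective_of_exact_of_flat d hd i hi H R'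
  have hTex : Function.Exact (i.lTensor R') (d.lTensor R') := lTensor_exact R' H hd
  have L1 : ∀ w : R' ⊗[R] (B × A'), d.lTensor R' w =
      (IsScalarTower.toAlgHom R B A).toLinearMap.lTensor R' (TensorProduct.prodRight R R R' B A' w).1 -
      (IsScalarTower.toAlgHom R A' A).toLinearMap.lTensor R' (TensorProduct.prodRight R R R' B A' w).2 := by
    intro w
    induction w using TensorProduct.induction_on with
    | zero => simp
    | tmul x y =>
      simp only [LinearMap.lTensor_tmul, TensorProduct.prodRight_tmul, d, Groth.Agent.H89.fsD_apply,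
        TensorProduct.tmul_sub]
      rfl
    | add a b ha hb =>
      simp only [map_add, ha, hb, Prod.fst_add, Prod.snd_add]; abel
  have L2 : ∀ z : R' ⊗[R] B', TensorProduct.prodRight R R R' B A' (i.lTensor R' z) =
      ((IsScalarTower.toAlgHom R B' B).toLinearMap.lTensor R' z,
        (IsScalarTower.toAlgHom R B' A').toLinearMap.lTensor R' z) := by
    intro z
    induction z using TensorProduct.induction_on with
    | zero => simp; rfl
    | tmul x y =>
      simp only [LinearMap.lTensor_tmul, i, Groth.Agent.H89.fsI_apply, TensorProduct.prodRight_tmul]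
      rfl
    | add a b ha hb => simp only [map_add, ha, hb, Prod.mk_add_mk]
  constructor
  · intro a
    have hs : Function.Surjective (IsScalarTower.toAlgHom R A' A).toLinearMap := hsq.1
    obtain ⟨w, hw⟩ := LinearMap.lTensor_surjective R' hs a
    exact ⟨w, by rw [Groth.Agent.H89.algMap_eq_lTensor]; exact hw⟩
  · intro x y hxy
    rw [Groth.Agent.H89.algMap_eq_lTensor, Groth.Agent.H89.algMap_eq_lTensor] at hxy
    set w := (TensorProduct.prodRight R R R' B A').symm (x, y) with hw
    have hdw : d.lTensor R' w = 0 := by
      rw [L1, hw, LinearEquiv.apply_symm_apply, hxy, sub_self]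
    obtain ⟨z, hz⟩ := (hTex w).mp hdw
    have hz2 := L2 z
    rw [hz, hw, LinearEquiv.apply_symm_apply, Prod.mk.injEq] at hz2
    refine ⟨z, ⟨?_, ?_⟩, ?_⟩
    · rw [Groth.Agent.H89.algMap_eq_lTensor]; exact hz2.1.symm
    · rw [Groth.Agent.H89.algMap_eq_lTensor]; exact hz2.2.symm
    · rintro z' ⟨hz'1, hz'2⟩
      rw [Groth.Agent.H89.algMap_eq_lTensor] at hz'1 hz'2
      apply hTi
      apply (TensorProduct.prodRight R R R' B A').injective
      rw [L2, L2, hz'1, hz'2, ← hz2.1, ← hz2.2]

end Groth.Agent.S17901
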