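import Groth.Statements.S17902
import Mathlib
-- import your own Groth.Agent.* helpers here

set_option autoImplicit false
universe u
open CAlg

namespace Groth.Agent.S17902

open TensorProduct

/-- Nakayama-type step: if `t` generates `M` at `p` and `a • t j ∈ N + pM` with `a ∉ p`,
then `N` generates `M` at `p`. -/
theorem gen_of_nakayama {A : Type u} [CommRing A] {M : Type u} [AddCommGroup M] [Module A M]
    [Module.Finite A M] (p : PrimeSpectrum A) {ι : Type*} (N : Submodule A M) (t : ι → M) (a : A)
    (ha : a ∉ p.asIdeal)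
    (hgen : ∀ m : M, ∃ c : A, c ∉ p.asIdeal ∧ c • m ∈ Submodule.span A (Set.range t))
    (hb : ∀ j, a • t j ∈ N ⊔ p.asIdeal • (⊤ : Submodule A M)) :
    ∀ m : M, ∃ c : A, c ∉ p.asIdeal ∧ c • m ∈ N := by
  have H1 : ∀ (c : A) (x : M ⧸ N), c ∉ p.asIdeal →
      (1 : p.asIdeal.ResidueField) ⊗ₜ[A] (c • x) = 0 →
      (1 : p.asIdeal.ResidueField) ⊗ₜ[A] x = 0 := by
    intro c x hc h
    have hc' : algebraMap A p.asIdeal.ResidueField c ≠ 0 := by
      rw [ne_eq, Ideal.algebraMap_residueField_eq_zero]
      exact hc
    have e : (1 : p.asIdeal.ResidueField) ⊗ₜ[A] (c • x) =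
        (algebraMap A p.asIdeal.ResidueField c) • ((1 : p.asIdeal.ResidueField) ⊗ₜ[A] x) := by
      rw [TensorProduct.smul_tmul', smul_eq_mul, mul_one, ← TensorProduct.smul_tmul,
        Algebra.algebraMap_eq_smul_one]
    rw [e] at h
    rw [← inv_smul_smul₀ hc' ((1 : p.asIdeal.ResidueField) ⊗ₜ[A] x), h, smul_zero]
  have H2 : ∀ z ∈ p.asIdeal • (⊤ : Submodule A M),
      (1 : p.asIdeal.ResidueField) ⊗ₜ[A] (Submodule.Quotient.mk z : M ⧸ N) = 0 := by
    intro z hz
    refine Submodule.smul_induction_on hz (fun r hr m _ => ?_) (fun x y hx hy => ?_)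
    · rw [Submodule.Quotient.mk_smul, ← TensorProduct.smul_tmul, ← Algebra.algebraMap_eq_smul_one,
        Ideal.algebraMap_residueField_eq_zero.mpr hr, TensorProduct.zero_tmul]
    · rw [Submodule.Quotient.mk_add, TensorProduct.tmul_add, hx, hy, add_zero]
  have H3 : ∀ j, (1 : p.asIdeal.ResidueField) ⊗ₜ[A] (Submodule.Quotient.mk (t j) : M ⧸ N) = 0 := by
    intro j
    obtain ⟨y, hy, z, hz, hyz⟩ := Submodule.mem_sup.mp (hb j)
    apply H1 a _ ha
    rw [← Submodule.Quotient.mk_smul, ← hyz, Submodule.Quotient.mk_add,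
      (Submodule.Quotient.mk_eq_zero N).mpr hy, zero_add]
    exact H2 z hz
  have H4 : ∀ y ∈ Submodule.span A (Set.range t),
      (1 : p.asIdeal.ResidueField) ⊗ₜ[A] (Submodule.Quotient.mk y : M ⧸ N) = 0 := by
    intro y hy
    induction hy using Submodule.span_induction with
    | mem x h =>
      obtain ⟨j, rfl⟩ := h
      exact H3 j
    | zero => rw [Submodule.Quotient.mk_zero, TensorProduct.tmul_zero]
    | add x y _ _ hx hy => rw [Submodule.Quotient.mk_add, TensorProduct.tmul_add, hx, hy, add_zero]
    | smul r x _ hx => rw [Submodule.Quotient.mk_smul, TensorProduct.tmul_smul, hx, smul_zero]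
  have H5 : ∀ m : M, (1 : p.asIdeal.ResidueField) ⊗ₜ[A] (Submodule.Quotient.mk m : M ⧸ N) = 0 := by
    intro m
    obtain ⟨c, hc, hcm⟩ := hgen m
    apply H1 c _ hc
    rw [← Submodule.Quotient.mk_smul]
    exact H4 _ hcm
  have hsupp : p ∉ Module.support A (M ⧸ N) := by
    rw [Module.mem_support_iff_nontrivial_residueField_tensorProduct,
      not_nontrivial_iff_subsingleton]
    have hz : ∀ z : p.asIdeal.ResidueField ⊗[A] (M ⧸ N), z = 0 := by
      intro z
      induction z using TensorProduct.induction_on with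
      | zero => rfl
      | add x y hx hy => rw [hx, hy, add_zero]
      | tmul k x =>
        obtain ⟨m, rfl⟩ := Submodule.Quotient.mk_surjective N x
        have : k ⊗ₜ[A] (Submodule.Quotient.mk m : M ⧸ N) =
            k • ((1 : p.asIdeal.ResidueField) ⊗ₜ[A] (Submodule.Quotient.mk m : M ⧸ N)) := by
          rw [TensorProduct.smul_tmul', smul_eq_mul, mul_one]
        rw [this, H5 m, smul_zero]
    exact ⟨fun x y => (hz x).trans (hz y).symm⟩
  intro m
  obtain ⟨r, hr, hrm⟩ := Module.notMem_support_iff'.mp hsupp (Submodule.Quotient.mk m)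
  refine ⟨r, hr, ?_⟩
  rwa [← Submodule.Quotient.mk_smul, Submodule.Quotient.mk_eq_zero] at hrm

/-- The rank at a prime of the basic open `D(g)` over which `M` has a basis of size `n`. -/
theorem rankAtStalk_eq_of_basis_away {A : Type u} [CommRing A] {M : Type u} [AddCommGroup M]
    [Module A M] [Module.Finite A M] [Module.Projective A M] (n : ℕ) (q : PrimeSpectrum A) (g : A)
    (hg : g ∉ q.asIdeal)
    (b : Module.Basis (Fin n) (Localization.Away g) (LocalizedModule (Submonoid.powers g) M)) :
    Module.rankAtStalk M q = n := by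
  have hq : q ∈ Set.range (PrimeSpectrum.comap (algebraMap A (Localization.Away g))) := by
    rw [PrimeSpectrum.localization_away_comap_range (Localization.Away g) g]
    exact hg
  obtain ⟨q', rfl⟩ := hq
  have hbc : IsBaseChange (Localization.Away g)
      (LocalizedModule.mkLinearMap (Submonoid.powers g) M) :=
    IsLocalizedModule.isBaseChange (Submonoid.powers g) (Localization.Away g) _
  have h1 := Module.rankAtStalk_isBaseChange hbc q'
  haveI : Module.Free (Localization.Away g) (LocalizedModule (Submonoid.powers g) M) :=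
    Module.Free.of_basis b
  have h2 := congrFun (Module.rankAtStalk_eq_finrank_of_free (R := Localization.Away g)
    (M := LocalizedModule (Submonoid.powers g) M)) q'
  haveI : Nontrivial (Localization.Away g) :=
    ⟨⟨0, 1, fun h => q'.2.ne_top ((Ideal.eq_top_iff_one _).mpr (h ▸ q'.asIdeal.zero_mem))⟩⟩
  rw [← h1, h2]
  simp [Module.finrank_eq_card_basis b]

/-- Local generators from the rank. -/
theorem exists_local_gen {A : Type u} [CommRing A] {M : Type u} [AddCommGroup M] [Module A M]
    [Module.Finite A M] [Module.Projective A M] (n : ℕ) (q : PrimeSpectrum A)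
    (hrank : Module.rankAtStalk M q = n) :
    ∃ t : Fin n → M, ∀ m : M, ∃ c : A, c ∉ q.asIdeal ∧
      c • m ∈ Submodule.span A (Set.range t) := by
  haveI : Module.Free (Localization.AtPrime q.asIdeal)
      (LocalizedModule q.asIdeal.primeCompl M) := by
    have : q ∈ Module.freeLocus A M := by
      rw [Module.freeLocus_eq_univ]
      trivial
    exact Module.mem_freeLocus.mp this
  let b : Module.Basis (Fin n) (Localization.AtPrime q.asIdeal)
      (LocalizedModule q.asIdeal.primeCompl M) :=
    Module.finBasisOfFinrankEq (Localization.AtPrime q.asIdeal)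
      (LocalizedModule q.asIdeal.primeCompl M) hrank
  have hsurj := fun j => IsLocalizedModule.surj q.asIdeal.primeCompl
    (LocalizedModule.mkLinearMap q.asIdeal.primeCompl M) (b j)
  choose mc hmc using hsurj
  refine ⟨fun j => (mc j).1, ?_⟩
  have htop : Submodule.span (Localization.AtPrime q.asIdeal)
      ((LocalizedModule.mkLinearMap q.asIdeal.primeCompl M) '' Set.range fun j => (mc j).1) = ⊤ := by
    rw [eq_top_iff, ← b.span_eq, Submodule.span_le]
    rintro _ ⟨j, rfl⟩
    have hu : IsUnit (algebraMap A (Localization.AtPrime q.asIdeal) ((mc j).2 : A)) :=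
      IsLocalization.map_units _ (mc j).2
    obtain ⟨u, hu'⟩ := hu
    have hbj : b j = (↑u⁻¹ : Localization.AtPrime q.asIdeal) •
        (LocalizedModule.mkLinearMap q.asIdeal.primeCompl M (mc j).1) := by
      rw [← hmc j, Submonoid.smul_def,
        ← algebraMap_smul (Localization.AtPrime q.asIdeal) ((mc j).2 : A) (b j), ← hu', smul_smul,
        Units.inv_mul, one_smul]
    rw [SetLike.mem_coe, hbj]
    exact Submodule.smul_mem _ _ (Submodule.subset_span ⟨_, ⟨j, rfl⟩, rfl⟩)
  rw [← Submodule.localized'_span (Localization.AtPrime q.asIdeal) q.asIdeal.primeCompl] at htop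
  intro m
  have hm : LocalizedModule.mkLinearMap q.asIdeal.primeCompl M m ∈
      Submodule.localized' (Localization.AtPrime q.asIdeal) q.asIdeal.primeCompl
        (LocalizedModule.mkLinearMap q.asIdeal.primeCompl M)
        (Submodule.span A (Set.range fun j => (mc j).1)) := by
    rw [htop]
    trivial
  rw [Submodule.mem_localized'] at hm
  obtain ⟨m', hm', c, hc⟩ := hm
  rw [IsLocalizedModule.mk'_eq_iff, Submonoid.smul_def, ← map_smul, ← sub_eq_zero, ← map_sub,
    IsLocalizedModule.eq_zero_iff q.asIdeal.primeCompl] at hc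
  obtain ⟨e, he⟩ := hc
  refine ⟨(e : A) * (c : A), (e * c).2, ?_⟩
  rw [Submonoid.smul_def, smul_sub, sub_eq_zero] at he
  rw [mul_smul, ← he]
  exact Submodule.smul_mem _ _ hm'

/-- Global generators at finitely many primes. -/
theorem exists_global_gen {A : Type u} [CommRing A] {M : Type u} [AddCommGroup M] [Module A M]
    [Module.Finite A M] [Module.Projective A M] (n : ℕ) (P : Finset (PrimeSpectrum A))
    (hrank : ∀ p ∈ P, Module.rankAtStalk M p = n) :
    ∃ s : Fin n → M, ∀ p ∈ P, ∀ m : M, ∃ c : A, c ∉ p.asIdeal ∧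
      c • m ∈ Submodule.span A (Set.range s) := by
  classical
  have hloc : ∀ p : PrimeSpectrum A, ∃ t : Fin n → M, p ∈ P → ∀ m : M, ∃ c : A,
      c ∉ p.asIdeal ∧ c • m ∈ Submodule.span A (Set.range t) := by
    intro p
    by_cases hp : p ∈ P
    · obtain ⟨t, ht⟩ := exists_local_gen n p (hrank p hp)
      exact ⟨t, fun _ => ht⟩
    · exact ⟨0, fun h => absurd h hp⟩
  choose t ht using hloc
  set P' := P.filter (fun p => Maximal (· ∈ P) p) with hP'
  have hsep : ∀ p ∈ P', ∀ p' ∈ P', p' ≠ p → ∃ x, x ∈ p'.asIdeal ∧ x ∉ p.asIdeal := by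
    intro p hp p' hp' hne
    rw [hP', Finset.mem_filter] at hp hp'
    by_contra hcon
    push Not at hcon
    have hle : p' ≤ p := fun x hx => hcon x hx
    exact hne (le_antisymm hle (hp'.2.2 hp.1 hle))
  let c : PrimeSpectrum A → PrimeSpectrum A → A := fun p p' =>
    if h : ∃ x, x ∈ p'.asIdeal ∧ x ∉ p.asIdeal then h.choose else 1
  have hc : ∀ p ∈ P', ∀ p' ∈ P', p' ≠ p → c p p' ∈ p'.asIdeal ∧ c p p' ∉ p.asIdeal := by
    intro p hp p' hp' hne
    have h := hsep p hp p' hp' hne
    simp only [c, dif_pos h]
    exact h.choose_spec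
  let a : PrimeSpectrum A → A := fun p => ∏ p' ∈ P'.erase p, c p p'
  have ha1 : ∀ p ∈ P', a p ∉ p.asIdeal := by
    intro p hp hmem
    haveI := p.2
    rw [Ideal.IsPrime.prod_mem_iff] at hmem
    obtain ⟨p', hp', hmem'⟩ := hmem
    rw [Finset.mem_erase] at hp'
    exact (hc p hp p' hp'.2 hp'.1).2 hmem'
  have ha2 : ∀ p ∈ P', ∀ p' ∈ P', p' ≠ p → a p ∈ p'.asIdeal := by
    intro p hp p' hp' hne
    obtain ⟨d, hd⟩ := Finset.dvd_prod_of_mem (c p) (Finset.mem_erase.mpr ⟨hne, hp'⟩)
    simp only [a]
    rw [hd]
    exact Ideal.mul_mem_right _ _ (hc p hp p' hp' hne).1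
  refine ⟨fun j => ∑ p ∈ P', a p • t p j, ?_⟩
  have hmax : ∀ p ∈ P', ∀ m : M, ∃ c : A, c ∉ p.asIdeal ∧
      c • m ∈ Submodule.span A (Set.range fun j => ∑ p ∈ P', a p • t p j) := by
    intro p hp
    have hpP : p ∈ P := (Finset.mem_filter.mp hp).1
    apply gen_of_nakayama p _ (t p) (a p) (ha1 p hp) (ht p hpP)
    intro j
    have hsum : a p • t p j =
        (∑ p' ∈ P', a p' • t p' j) - ∑ p' ∈ P'.erase p, a p' • t p' j := by
      rw [← Finset.add_sum_erase P' (fun p' => a p' • t p' j) hp]
      abel
    rw [hsum]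
    apply Submodule.sub_mem
    · exact Submodule.mem_sup_left (Submodule.subset_span ⟨j, rfl⟩)
    · apply Submodule.mem_sup_right
      apply Submodule.sum_mem
      intro p' hp'
      rw [Finset.mem_erase] at hp'
      exact Submodule.smul_mem_smul (ha2 p' hp'.2 p hp hp'.1.symm) Submodule.mem_top
  intro p hp m
  obtain ⟨p', hpp', hp'max⟩ := P.exists_le_maximal hp
  have hp'P' : p' ∈ P' := Finset.mem_filter.mpr ⟨hp'max.1, hp'max⟩
  obtain ⟨c', hc', hc'm⟩ := hmax p' hp'P' m
  exact ⟨c', fun h => hc' (hpp' h), hc'm⟩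

/-- Let A be a commutative ring, M a finitely generated projective A-module, n a natural number and P a
finite set of prime ideals of A such that for every p in P there is g outside p with M_g free of
rank n over A_g. Then there exist n elements of M and an open subset U of Spec A containing P such
that for every prime q in U the images of these elements in M_q form a basis of M_q over A_q. (The
published conclusion is that the associated sheaf is free of rank n on some open neighbourhood of P;
the form given here, with n global elements of M, is what its proof produces.) -/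
theorem result (A : Type u) [CommRing A] (M : Type u) [AddCommGroup M] [Module A M]
    [Module.Finite A M] [Module.Projective A M] (n : ℕ) (P : Finset (PrimeSpectrum A))
    (hP : ∀ p ∈ P, ∃ g : A, g ∉ p.asIdeal ∧
      Nonempty (Module.Basis (Fin n) (Localization.Away g) (LocalizedModule (Submonoid.powers g) M))) :
    ∃ (s : Fin n → M) (U : Set (PrimeSpectrum A)), IsOpen U ∧ (∀ p ∈ P, p ∈ U) ∧
      ∀ q ∈ U,
        LinearIndependent (Localization.AtPrime q.asIdeal)
            (fun j => LocalizedModule.mkLinearMap q.asIdeal.primeCompl M (s j)) ∧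
          Submodule.span (Localization.AtPrime q.asIdeal)
            (Set.range fun j => LocalizedModule.mkLinearMap q.asIdeal.primeCompl M (s j)) = ⊤ := by
  classical
  haveI : Module.FinitePresentation A M := Module.finitePresentation_of_projective A M
  have hrankP : ∀ p ∈ P, Module.rankAtStalk M p = n := fun p hp => by
    obtain ⟨g, hg, ⟨b⟩⟩ := hP p hp
    exact rankAtStalk_eq_of_basis_away n p g hg b
  obtain ⟨s, hs⟩ := exists_global_gen n P hrankP
  refine ⟨s, {q | Module.rankAtStalk M q = n} ∩
    (Module.support A (M ⧸ Submodule.span A (Set.range s)))ᶜ, ?_, ?_, ?_⟩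
  · apply IsOpen.inter
    · exact (Module.isLocallyConstant_rankAtStalk (R := A) (M := M)).isOpen_fiber n
    · rw [isOpen_compl_iff, Module.support_eq_zeroLocus]
      exact PrimeSpectrum.isClosed_zeroLocus _
  · intro p hp
    refine ⟨hrankP p hp, ?_⟩
    rw [Set.mem_compl_iff, Module.notMem_support_iff']
    intro x
    obtain ⟨m, rfl⟩ := Submodule.Quotient.mk_surjective _ x
    obtain ⟨c, hc, hcm⟩ := hs p hp m
    exact ⟨c, hc, by rw [← Submodule.Quotient.mk_smul, Submodule.Quotient.mk_eq_zero]; exact hcm⟩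
  · rintro q ⟨hq1, hq2⟩
    rw [Set.mem_compl_iff, Module.notMem_support_iff'] at hq2
    have hgen : ∀ m : M, ∃ c : A, c ∉ q.asIdeal ∧ c • m ∈ Submodule.span A (Set.range s) := by
      intro m
      obtain ⟨r, hr, hrm⟩ := hq2 (Submodule.Quotient.mk m)
      refine ⟨r, hr, ?_⟩
      rwa [← Submodule.Quotient.mk_smul, Submodule.Quotient.mk_eq_zero] at hrm
    have htop : Submodule.span (Localization.AtPrime q.asIdeal)
        (Set.range fun j => LocalizedModule.mkLinearMap q.asIdeal.primeCompl M (s j)) = ⊤ := by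
      have hrange : (Set.range fun j => LocalizedModule.mkLinearMap q.asIdeal.primeCompl M (s j)) =
          (LocalizedModule.mkLinearMap q.asIdeal.primeCompl M) '' Set.range s := by
        rw [← Set.range_comp]
        rfl
      rw [hrange, ← Submodule.localized'_span (Localization.AtPrime q.asIdeal) q.asIdeal.primeCompl,
        eq_top_iff]
      intro y _
      obtain ⟨⟨m, c⟩, rfl⟩ := IsLocalizedModule.mk'_surjective q.asIdeal.primeCompl
        (LocalizedModule.mkLinearMap q.asIdeal.primeCompl M) y
      obtain ⟨r, hr, hrm⟩ := hgen m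
      rw [Submodule.mem_localized']
      refine ⟨r • m, hrm, (⟨r, hr⟩ : q.asIdeal.primeCompl) * c, ?_⟩
      have := IsLocalizedModule.mk'_cancel_left
        (f := LocalizedModule.mkLinearMap q.asIdeal.primeCompl M) m
        (⟨r, hr⟩ : q.asIdeal.primeCompl) c
      rw [Submonoid.smul_def] at this
      exact this
    refine ⟨?_, htop⟩
    apply linearIndependent_of_top_le_span_of_card_eq_finrank htop.ge
    rw [Fintype.card_fin]
    exact hq1.symm

end Groth.Agent.S17902
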