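import Groth.Statements.S17903
import Mathlib
import Groth.Agent.H89.PushoutSections
import Groth.Agent.H89.FibreSqHom

set_option autoImplicit false
universe u
open CategoryTheory AlgebraicGeometry
open Pinch

namespace Groth.Agent.S17903

open CategoryTheory AlgebraicGeometry in
theorem appLE_congr_hom {X Y : Scheme.{u}} {f f' : X ⟶ Y} (h : f = f') (U : Y.Opens) (V : X.Opens)
    (e : V ≤ f ⁻¹ᵁ U) (e' : V ≤ f' ⁻¹ᵁ U) : f.appLE U V e = f'.appLE U V e' := by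
  subst h; rfl

open CategoryTheory AlgebraicGeometry in
theorem flat_comp_app {X Y S : Scheme.{u}} (p : X ⟶ Y) (fY : Y ⟶ S) (fX : X ⟶ S)
    (hp : p ≫ fY = fX) [Flat fX] (W : S.affineOpens) (V : Y.Opens) (e : V ≤ fY ⁻¹ᵁ W.1)
    (T : X.Opens) (hT : IsAffineOpen T) (eT : T ≤ p ⁻¹ᵁ V) :
    ((p.appLE V T eT).hom.comp (fY.appLE W.1 V e).hom).Flat := by
  subst hp
  have h1 := HasRingHomProperty.appLE (P := @Flat) _ ‹Flat (p ≫ fY)› W ⟨T, hT⟩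
    (eT.trans ((TopologicalSpace.Opens.map p.base).map (homOfLE e)).le)
  rw [← Scheme.Hom.appLE_comp_appLE] at h1
  exact h1


/-- Let S be a scheme and Z → X, Z → Z', X → X', Z' → X' a commutative square of S-schemes in which Z →
X and Z' → X' are closed immersions and Z → Z' and X → X' are affine, and which is a pushout square
in the category of ringed spaces. If X, Z and Z' are flat over S then X' is flat over S. -/
theorem result {S X Z Z' X' : Scheme.{u}}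
    (fX : X ⟶ S) (fZ' : Z' ⟶ S) (fX' : X' ⟶ S) (ι : Z ⟶ X) (q : Z ⟶ Z') (π : X ⟶ X') (ι' : Z' ⟶ X')
    [IsClosedImmersion ι] [IsClosedImmersion ι'] [IsAffineHom q] [IsAffineHom π]
    (hq : q ≫ fZ' = ι ≫ fX) (hπ : π ≫ fX' = fX) (hι' : ι' ≫ fX' = fZ')
    (hpo : IsPushout ((Scheme.forgetToLocallyRingedSpace ⋙ LocallyRingedSpace.forgetToSheafedSpace).map ι) ((Scheme.forgetToLocallyRingedSpace ⋙ LocallyRingedSpace.forgetToSheafedSpace).map q)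
      ((Scheme.forgetToLocallyRingedSpace ⋙ LocallyRingedSpace.forgetToSheafedSpace).map π) ((Scheme.forgetToLocallyRingedSpace ⋙ LocallyRingedSpace.forgetToSheafedSpace).map ι'))
    [Flat fX] [Flat (ι ≫ fX)] [Flat fZ'] :
    Flat fX' := by
  have hcomm : ι ≫ π = q ≫ ι' := Groth.Agent.H89.PushoutSections.scheme_comm ι q π ι' hpo
  rw [HasRingHomProperty.iff_appLE (P := @Flat)]
  intro W V' e
  have hU : IsAffineOpen (π ⁻¹ᵁ V'.1) := V'.2.preimage π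
  have hT' : IsAffineOpen (ι' ⁻¹ᵁ V'.1) := V'.2.preimage ι'
  have hT : IsAffineOpen (ι ⁻¹ᵁ (π ⁻¹ᵁ V'.1)) := hU.preimage ι
  have eT : ι ⁻¹ᵁ (π ⁻¹ᵁ V'.1) = q ⁻¹ᵁ (ι' ⁻¹ᵁ V'.1) := by
    rw [← Scheme.Hom.comp_preimage, ← Scheme.Hom.comp_preimage, hcomm]
  refine Groth.Agent.H89.flat_of_ringHom_fibreSquare (fX'.appLE W.1 V'.1 e).hom (ι'.app V'.1).hom
    (π.app V'.1).hom (q.appLE (ι' ⁻¹ᵁ V'.1) (ι ⁻¹ᵁ (π ⁻¹ᵁ V'.1)) eT.le).hom
    (ι.app (π ⁻¹ᵁ V'.1)).hom ?_ ?_ ?_ ?_ ?_ ?_ ?_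
  · -- commutativity
    have h1 : ι'.app V'.1 ≫ q.appLE (ι' ⁻¹ᵁ V'.1) (ι ⁻¹ᵁ (π ⁻¹ᵁ V'.1)) eT.le =
        π.app V'.1 ≫ ι.app (π ⁻¹ᵁ V'.1) := by
      have a1 : (q ≫ ι').appLE V'.1 (ι ⁻¹ᵁ (π ⁻¹ᵁ V'.1))
          (by rw [Scheme.Hom.comp_preimage]; exact eT.le) =
          ι'.app V'.1 ≫ q.appLE _ _ eT.le := Scheme.Hom.comp_appLE q ι' V'.1 _ _
      have a2 : (ι ≫ π).appLE V'.1 (ι ⁻¹ᵁ (π ⁻¹ᵁ V'.1)) le_rfl =
          π.app V'.1 ≫ ι.appLE _ _ le_rfl := Scheme.Hom.comp_appLE ι π V'.1 _ _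
      rw [Scheme.Hom.appLE_eq_app] at a2
      rw [← a1, ← a2]
      exact (appLE_congr_hom hcomm _ _ _ _).symm
    exact congrArg CommRingCat.Hom.hom h1
  · exact ι.app_surjective (π ⁻¹ᵁ V'.1) hU
  · intro x y h1 h2
    exact Groth.Agent.H89.PushoutSections.scheme_sections_ext ι q π ι' hpo V'.1 x y h2 h1
  · intro b a' hba
    have e1 : (q.appLE (ι' ⁻¹ᵁ V'.1) (ι ⁻¹ᵁ (π ⁻¹ᵁ V'.1)) eT.le) b =
        Z.presheaf.map (homOfLE eT.le).op (q.app (ι' ⁻¹ᵁ V'.1) b) := by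
      rw [Scheme.Hom.appLE]
      exact CategoryTheory.comp_apply _ _ _
    have hab : ι.app _ a' = Z.presheaf.map (eqToHom eT).op (q.app _ b) :=
      hba.symm.trans (e1.trans
        (Groth.Agent.H89.PushoutSections.map_congr_hom Z.presheaf _ _ _))
    obtain ⟨s, hs1, hs2⟩ :=
      Groth.Agent.H89.PushoutSections.scheme_sections_exists ι q π ι' hpo V'.1 a' b eT hab
    exact ⟨s, hs2, hs1⟩
  · have := flat_comp_app ι' fX' fZ' hι' W V'.1 e (ι' ⁻¹ᵁ V'.1) hT' le_rfl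
    rw [Scheme.Hom.appLE_eq_app] at this
    exact this
  · have := flat_comp_app π fX' fX hπ W V'.1 e (π ⁻¹ᵁ V'.1) hU le_rfl
    rw [Scheme.Hom.appLE_eq_app] at this
    exact this
  · have h0 : (q ≫ ι') ≫ fX' = ι ≫ fX := by rw [Category.assoc, hι', hq]
    have := flat_comp_app (q ≫ ι') fX' (ι ≫ fX) h0 W V'.1 e (ι ⁻¹ᵁ (π ⁻¹ᵁ V'.1)) hT
      (by rw [eT]; exact le_rfl)
    rw [Scheme.Hom.comp_appLE] at this
    exact this

end Groth.Agent.S17903
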