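import Groth.Statements.S17906
import Groth.Agent.H41.PullCl

set_option autoImplicit false
universe u
open CategoryTheory CategoryTheory.Limits AlgebraicGeometry
open PicRel

namespace Groth.Agent.S17906

/-- Let f : X → S be a morphism of schemes, g : S' → S a morphism and X' = X ×_S S'. If the relative
Picard functor of X over S, sheafified and described through a representing S-scheme P with maps φ_T
from classes of modules on X ×_S T to S-morphisms T → P, is represented by P, then the relative
Picard functor of X' over S' is represented by P ×_S S': a class c on (X ×_S S') ×_{S'} T is sent,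
after transport along the canonical isomorphism of this scheme with X ×_S T, to the S'-morphism T →
P ×_S S' whose components are φ(c) and the structure morphism of T. (The published statement is for
the fppf sheafification, asserts the isomorphism of functors Pic_{X/S} ×_S S' ≅ Pic_{X'/S'} in
general, and adds the compatibility of universal bundles and rigidifications; stated here is the
representability consequence for the étale sheafification, to which the same argument applies.) -/
theorem result {X S S' : Scheme.{u}} (f : X ⟶ S) (g : S' ⟶ S)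
    (P : Over S) (φ : ∀ T : Over S, PicF.Cl (PicF.XT f T) → (T ⟶ P)) (hP : PicRel.IsRelPic f P φ) :
    PicRel.IsRelPic (pullback.snd f g) (Over.mk (pullback.snd P.hom g))
      (fun T c => Over.homMk
        (pullback.lift (φ (Over.mk (T.hom ≫ g)) (PicF.pullCl (pullbackLeftPullbackSndIso f g T.hom).inv c)).left T.hom
          (Over.w (φ (Over.mk (T.hom ≫ g)) (PicF.pullCl (pullbackLeftPullbackSndIso f g T.hom).inv c))))
        (pullback.lift_snd _ _ _)) := by
  classical
  refine ⟨?_, ?_, ?_⟩
  · intro T T' h c hc
    have hw : h.left ≫ T.hom = T'.hom := Over.w h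
    let ht : Over.mk (T'.hom ≫ g) ⟶ Over.mk (T.hom ≫ g) :=
      Over.homMk h.left (by change h.left ≫ T.hom ≫ g = T'.hom ≫ g; rw [← Category.assoc, hw])
    have hk := Groth.Agent.H41.PullCl.key f g h ht rfl
    have hnat : φ (Over.mk (T'.hom ≫ g)) (PicF.pullCl (pullbackLeftPullbackSndIso f g T'.hom).inv
        (PicF.pullCl (PicF.XTmap (pullback.snd f g) h) c)) =
        ht ≫ φ (Over.mk (T.hom ≫ g)) (PicF.pullCl (pullbackLeftPullbackSndIso f g T.hom).inv c) := by
      rw [Groth.Agent.H41.PullCl.pullCl_comp, hk, ← Groth.Agent.H41.PullCl.pullCl_comp]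
      exact hP.natural _ _ ht _ (Groth.Agent.H41.PullCl.isInvertibleCl_pullCl _ hc)
    apply Over.OverMorphism.ext
    apply pullback.hom_ext
    · simp only [Over.homMk_left, Over.comp_left, pullback.lift_fst, Category.assoc]
      rw [hnat]
      rfl
    · simp only [Over.homMk_left, Over.comp_left, pullback.lift_snd, Category.assoc]
      exact hw.symm
  · intro T γ
    have hγ : γ.left ≫ pullback.snd P.hom g = T.hom := Over.w γ
    let γt : Over.mk (T.hom ≫ g) ⟶ P :=
      Over.homMk (γ.left ≫ pullback.fst P.hom g) (by
        change (γ.left ≫ pullback.fst P.hom g) ≫ P.hom = T.hom ≫ g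
        rw [Category.assoc, pullback.condition, ← Category.assoc, hγ])
    obtain ⟨ι, U, hU, hc⟩ := hP.locallySurjective (Over.mk (T.hom ≫ g)) γt
    refine ⟨ι, U, hU, fun i => ?_⟩
    obtain ⟨c, hci, hceq⟩ := hc i
    let c' : PicF.Cl (PicF.XT f (Over.mk ((ovr T (U i)).hom ≫ g))) := c
    have hci' : PicF.IsInvertibleCl c' := hci
    refine ⟨PicF.pullCl (pullbackLeftPullbackSndIso f g (ovr T (U i)).hom).hom c',
      Groth.Agent.H41.PullCl.isInvertibleCl_pullCl _ hci', ?_⟩
    apply Over.OverMorphism.ext
    apply pullback.hom_ext
    · simp only [Over.homMk_left, Over.comp_left, pullback.lift_fst, Category.assoc]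
      rw [Groth.Agent.H41.PullCl.pullCl_inv_hom]
      have := congrArg (fun m => m.left) hceq
      exact this
    · simp only [Over.homMk_left, Over.comp_left, pullback.lift_snd, Category.assoc]
      rw [hγ]
      rfl
  · intro T c c' hc hc' heq
    have h1 : φ (Over.mk (T.hom ≫ g)) (PicF.pullCl (pullbackLeftPullbackSndIso f g T.hom).inv c) =
        φ (Over.mk (T.hom ≫ g)) (PicF.pullCl (pullbackLeftPullbackSndIso f g T.hom).inv c') := by
      apply Over.OverMorphism.ext
      have := congrArg (fun m => m.left ≫ pullback.fst P.hom g) heq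
      simpa only [Over.homMk_left, pullback.lift_fst] using this
    obtain ⟨ι, U, hU, hloc⟩ := hP.locallyInjective (Over.mk (T.hom ≫ g)) _ _
      (Groth.Agent.H41.PullCl.isInvertibleCl_pullCl _ hc)
      (Groth.Agent.H41.PullCl.isInvertibleCl_pullCl _ hc') h1
    refine ⟨ι, U, hU, fun i => ?_⟩
    have hk := Groth.Agent.H41.PullCl.key f g (ovrHom T (U i))
      (ovrHom (Over.mk (T.hom ≫ g)) (U i)) rfl
    have hk' : PicF.XTmap (pullback.snd f g) (ovrHom T (U i)) =
        (pullbackLeftPullbackSndIso f g (ovr T (U i)).hom).hom ≫
          PicF.XTmap f (ovrHom (Over.mk (T.hom ≫ g)) (U i)) ≫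
            (pullbackLeftPullbackSndIso f g T.hom).inv :=
      (Iso.inv_comp_eq (pullbackLeftPullbackSndIso f g (ovr T (U i)).hom)).mp hk
    have e : ∀ x : PicF.Cl (PicF.XT (pullback.snd f g) T),
        PicF.pullCl (PicF.XTmap (pullback.snd f g) (ovrHom T (U i))) x =
          PicF.pullCl (pullbackLeftPullbackSndIso f g (ovr T (U i)).hom).hom
            (PicF.pullCl (PicF.XTmap f (ovrHom (Over.mk (T.hom ≫ g)) (U i)))
              (PicF.pullCl (pullbackLeftPullbackSndIso f g T.hom).inv x)) := fun x => by
      rw [hk', Groth.Agent.H41.PullCl.pullCl_comp, Groth.Agent.H41.PullCl.pullCl_comp,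
        Category.assoc]
    exact (e c).trans ((congrArg _ (hloc i)).trans (e c').symm)

end Groth.Agent.S17906
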