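import Groth.Statements.S17911
import Groth.Agent.H32.GerbCore
import Groth.Agent.S12794

set_option autoImplicit false
universe u
open CategoryTheory AlgebraicGeometry
open Gerb

namespace Groth.Agent.S17911

open FibCat Groth.Agent.H32.FibProd Groth.Agent.H32.StkLoc Groth.Agent.H32.StkGlue
  Groth.Agent.H32.GerbCore

universe v v₃ u₃ w

section
variable {C : Type w} [Category.{v} C] (J : GrothendieckTopology C)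

theorem faithful_of_inj {𝒳 : BasedCategory.{v, max w v} C} {𝒴 : BasedCategory.{v₃, u₃} C}
    (h𝒳g : Gerb.IsGerbe J 𝒳) (h𝒴 : IsFibGrpd 𝒴.p) (φ : 𝒳 ⥤ᵇ 𝒴) (x : 𝒳.obj)
    (hx : Limits.IsTerminal (𝒳.p.obj x))
    (hinj : ∀ (x' : 𝒳.obj) (_ : x' ⟶ x), Function.Injective (Gerb.autMap φ x')) :
    φ.toFunctor.Faithful := by
  have h𝒳 := h𝒳g.1.1
  refine ⟨fun {y y'} a b hab => ?_⟩
  have hab' : φ.map a = φ.map b := hab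
  have la : 𝒳.p.IsHomLift (𝒳.p.map a) a := inferInstance
  have lb : 𝒳.p.IsHomLift (𝒳.p.map a) b := by
    have h1 : 𝒴.p.IsHomLift (𝒳.p.map a) (φ.map a) := inferInstance
    rw [hab'] at h1
    exact (BasedFunctor.isHomLift_iff φ _ _).mp h1
  obtain ⟨α, hα, hαa⟩ := exists_aut 𝒳.p h𝒳 (𝒳.p.map a) a b la lb
  have hφα : φ.map α = 𝟙 (φ.obj y) := by
    have hφa : 𝒴.p.IsHomLift (𝒳.p.map a) (φ.map a) := inferInstance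
    have hφα : 𝒴.p.IsHomLift (𝟙 (𝒳.p.obj y)) (φ.map α) := inferInstance
    refine eq_id_of_comp 𝒴.p h𝒴 (𝒳.p.map a) (φ.map a) hφa (φ.map α) hφα ?_
    have e1 : φ.map α ≫ φ.map a = φ.map (α ≫ a) := (φ.toFunctor.map_comp α a).symm
    rw [e1, hαa]
    exact hab'.symm
  have hα1 : α = 𝟙 y := by
    have hP : ∀ (w w' : 𝒳.obj) (_ : w' ⟶ w), Nonempty (w ⟶ x) → Nonempty (w' ⟶ x) :=
      fun _ _ k ⟨c⟩ => ⟨k ≫ c⟩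
    have hR' : Psieve h𝒳 (fun w => Nonempty (w ⟶ x)) hP y (𝒳.p.obj y) ∈ J (𝒳.p.obj y) :=
      Psieve_mem J h𝒳 _ hP (cov_of_gerbe J h𝒳g x hx) y rfl
    have hfa : (Stk.resSieve (Psieve h𝒳 (fun w => Nonempty (w ⟶ x)) hP y (𝒳.p.obj y)) 𝒳).Faithful :=
      (h𝒳g.1.2 _ hR').faithful
    refine aut_eq_id h𝒳 _ hfa y rfl α hα ?_
    intro a' s ψ hψ
    obtain ⟨c⟩ : Nonempty (s ⟶ x) :=
      P_of_Psieve h𝒳 (fun w => Nonempty (w ⟶ x)) hP y a'.obj.hom a'.property s ψ hψ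
    obtain ⟨β, hβ, hβψ⟩ := exists_conj 𝒳.p h𝒳 a'.obj.hom ψ hψ α hα
    have hs : 𝒳.p.obj s = a'.obj.left := IsHomLift.domain_eq 𝒳.p a'.obj.hom ψ
    have hβ' : 𝒳.p.IsHomLift (𝟙 (𝒳.p.obj s)) β := isHomLift_id_of_eq 𝒳.p hs.symm β hβ
    obtain ⟨bb, hbb⟩ := exists_autO h𝒳 s β hβ'
    have hφβ : φ.map β = 𝟙 (φ.obj s) := by
      have l1 : 𝒴.p.IsHomLift a'.obj.hom (φ.map ψ) := inferInstance
      have l2 : 𝒴.p.IsHomLift (𝟙 a'.obj.left) (φ.map β) := inferInstance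
      refine eq_id_of_comp 𝒴.p h𝒴 a'.obj.hom (φ.map ψ) l1 (φ.map β) l2 ?_
      have e1 : φ.map β ≫ φ.map ψ = φ.map (β ≫ ψ) := (φ.toFunctor.map_comp β ψ).symm
      have e2 : φ.map (ψ ≫ α) = φ.map ψ ≫ φ.map α := φ.toFunctor.map_comp ψ α
      rw [e1, hβψ, e2, hφα, Category.comp_id]
    have h1 : Gerb.autMap φ s bb = 1 := by
      apply Aut.ext
      apply Functor.Fiber.hom_ext
      change φ.map bb.hom.1 = 𝟙 (φ.obj s)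
      rw [hbb]
      exact hφβ
    have hbb1 : bb = 1 := hinj s c (h1.trans (map_one _).symm)
    have hβ1 : β = 𝟙 s := by
      rw [← hbb, hbb1]
      rfl
    rw [← hβψ, hβ1, Category.id_comp]
  rw [← hαa, hα1, Category.id_comp]

theorem full_fiber {𝒳 𝒴 : BasedCategory.{v, max w v} C}
    (h𝒳g : Gerb.IsGerbe J 𝒳) (h𝒴s : Stk.IsStack J 𝒴) (φ : 𝒳 ⥤ᵇ 𝒴) (x : 𝒳.obj)
    (hx : Limits.IsTerminal (𝒳.p.obj x)) (hfaith : φ.toFunctor.Faithful)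
    (hsurj : ∀ (x' : 𝒳.obj) (_ : x' ⟶ x), Function.Surjective (Gerb.autMap φ x'))
    (y y'' : 𝒳.obj) (hyy : 𝒳.p.obj y'' = 𝒳.p.obj y) (θ' : φ.obj y ⟶ φ.obj y'')
    (hθ' : 𝒴.p.IsHomLift (𝟙 (𝒳.p.obj y)) θ') : ∃ t : y ⟶ y'', φ.map t = θ' := by
  have h𝒳 := h𝒳g.1.1
  have h𝒴 := h𝒴s.1
  have hP : ∀ (w w' : 𝒳.obj) (_ : w' ⟶ w), Nonempty (w ⟶ x) → Nonempty (w' ⟶ x) :=
    fun _ _ k ⟨c⟩ => ⟨k ≫ c⟩
  have hR₁ : Psieve h𝒳 (fun w => Nonempty (w ⟶ x)) hP y (𝒳.p.obj y) ∈ J (𝒳.p.obj y) :=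
    Psieve_mem J h𝒳 _ hP (cov_of_gerbe J h𝒳g x hx) y rfl
  have hR₂ : Psieve h𝒳 (fun w => Nonempty (w ⟶ x)) hP y'' (𝒳.p.obj y) ∈ J (𝒳.p.obj y) :=
    Psieve_mem J h𝒳 _ hP (cov_of_gerbe J h𝒳g x hx) y'' hyy
  have hR : Psieve h𝒳 (fun w => Nonempty (w ⟶ x)) hP y (𝒳.p.obj y) ⊓
      Psieve h𝒳 (fun w => Nonempty (w ⟶ x)) hP y'' (𝒳.p.obj y) ∈ J (𝒳.p.obj y) :=
    J.intersection_covering hR₁ hR₂
  have hfull := (h𝒳g.1.2 _ hR).full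
  have hfa𝒴 := (h𝒴s.2 _ hR).faithful
  have hex : ∀ ⦃V : C⦄ (f : V ⟶ 𝒳.p.obj y),
      (Psieve h𝒳 (fun w => Nonempty (w ⟶ x)) hP y (𝒳.p.obj y) ⊓
        Psieve h𝒳 (fun w => Nonempty (w ⟶ x)) hP y'' (𝒳.p.obj y)) f →
      ∀ (s : 𝒳.obj) (ψ : s ⟶ y), 𝒳.p.IsHomLift f ψ →
      ∃ ψ' : s ⟶ y'', 𝒳.p.IsHomLift f ψ' ∧ φ.map ψ' = φ.map ψ ≫ θ' := by
    intro V f hf s ψ hψ
    obtain ⟨hf1, hf2⟩ := (Sieve.inter_apply f).mp hf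
    obtain ⟨cs⟩ : Nonempty (s ⟶ x) :=
      P_of_Psieve h𝒳 (fun w => Nonempty (w ⟶ x)) hP y f hf1 s ψ hψ
    obtain ⟨w', ψ₀', hψ₀', ⟨c'⟩⟩ := (mem_Psieve h𝒳 _ hP y'' f).mp hf2
    have l1 : 𝒴.p.IsHomLift f (φ.map ψ₀') := inferInstance
    haveI := sc_of_isFibGrpd 𝒴.p h𝒴 f (φ.map ψ₀')
    have l2 : 𝒴.p.IsHomLift f (φ.map ψ) := inferInstance
    have l3 : 𝒴.p.IsHomLift f (φ.map ψ ≫ θ') :=
      isHomLift_comp_id_right 𝒴.p f _ _ l2 hθ'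
    have hid : f = 𝟙 V ≫ f := (Category.id_comp f).symm
    obtain ⟨t₀, ht₀⟩ := full_on_P h𝒳 h𝒴 φ x hx s w' cs c' (hsurj s cs)
      (Functor.IsStronglyCartesian.map 𝒴.p f (φ.map ψ₀') hid (φ.map ψ ≫ θ'))
    have e : φ.map (t₀ ≫ ψ₀') = φ.map ψ ≫ θ' := by
      have e1 : φ.map (t₀ ≫ ψ₀') = φ.map t₀ ≫ φ.map ψ₀' := φ.toFunctor.map_comp t₀ ψ₀'
      rw [e1, ht₀]
      exact Functor.IsStronglyCartesian.fac 𝒴.p f (φ.map ψ₀') hid (φ.map ψ ≫ θ')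
    refine ⟨t₀ ≫ ψ₀', ?_, e⟩
    refine (BasedFunctor.isHomLift_iff φ f (t₀ ≫ ψ₀')).mp ?_
    rw [e]
    exact l3
  have huniq : ∀ (s : 𝒳.obj) (ψ : s ⟶ y) (ψ₁ ψ₂ : s ⟶ y''),
      φ.map ψ₁ = φ.map ψ ≫ θ' → φ.map ψ₂ = φ.map ψ ≫ θ' → ψ₁ = ψ₂ :=
    fun s ψ ψ₁ ψ₂ e1 e2 => φ.toFunctor.map_injective (e1.trans e2.symm)
  have hnat : ∀ (s s' : 𝒳.obj) (χ : s ⟶ s') (ψ : s' ⟶ y) (ψ' : s' ⟶ y''),
      φ.map ψ' = φ.map ψ ≫ θ' → φ.map (χ ≫ ψ') = φ.map (χ ≫ ψ) ≫ θ' := by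
    intro s s' χ ψ ψ' e
    have e1 : φ.map (χ ≫ ψ') = φ.map χ ≫ φ.map ψ' := φ.toFunctor.map_comp χ ψ'
    have e2 : φ.map (χ ≫ ψ) = φ.map χ ≫ φ.map ψ := φ.toFunctor.map_comp χ ψ
    rw [e1, e2, e, Category.assoc]
  obtain ⟨μ, hμ, hμrel⟩ := glue_hom h𝒳 _ hfull (t := y) (t' := y'') rfl hyy
    (fun {s} ψ ψ' => φ.map ψ' = φ.map ψ ≫ θ') hex huniq hnat
  refine ⟨μ, ?_⟩
  have lμ : 𝒴.p.IsHomLift (𝟙 (𝒳.p.obj y)) (φ.map μ) := inferInstance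
  refine eq_of_locally h𝒴 (𝟙 (𝒳.p.obj y)) _ hfa𝒴 (φ.map μ) θ' lμ hθ' ?_
  intro V f hf s'' ψ'' hψ''
  obtain ⟨hf1, hf2⟩ := (Sieve.inter_apply f).mp hf
  obtain ⟨w, ψ₀, hψ₀, -⟩ := (mem_Psieve h𝒳 _ hP y f).mp hf1
  have l1 : 𝒴.p.IsHomLift f (φ.map ψ₀) := inferInstance
  haveI := sc_of_isFibGrpd 𝒴.p h𝒴 f (φ.map ψ₀)
  have hid : f = 𝟙 V ≫ f := (Category.id_comp f).symm
  have kfac : Functor.IsStronglyCartesian.map 𝒴.p f (φ.map ψ₀) hid ψ'' ≫ φ.map ψ₀ = ψ'' :=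
    Functor.IsStronglyCartesian.fac 𝒴.p f (φ.map ψ₀) hid ψ''
  have e0 : φ.map (ψ₀ ≫ μ) = φ.map ψ₀ ≫ θ' := hμrel f hf w ψ₀ hψ₀
  have e1 : φ.map (ψ₀ ≫ μ) = φ.map ψ₀ ≫ φ.map μ := φ.toFunctor.map_comp ψ₀ μ
  rw [← kfac, Category.assoc, Category.assoc, ← e1, e0]

theorem full_of_bij {𝒳 𝒴 : BasedCategory.{v, max w v} C}
    (h𝒳g : Gerb.IsGerbe J 𝒳) (h𝒴s : Stk.IsStack J 𝒴) (φ : 𝒳 ⥤ᵇ 𝒴) (x : 𝒳.obj)
    (hx : Limits.IsTerminal (𝒳.p.obj x)) (hfaith : φ.toFunctor.Faithful)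
    (hsurj : ∀ (x' : 𝒳.obj) (_ : x' ⟶ x), Function.Surjective (Gerb.autMap φ x')) :
    φ.toFunctor.Full := by
  have h𝒳 := h𝒳g.1.1
  have h𝒴 := h𝒴s.1
  refine ⟨fun {y y'} θ => ?_⟩
  let f : 𝒳.p.obj y ⟶ 𝒳.p.obj y' :=
    eqToHom (φ.w_obj y).symm ≫ 𝒴.p.map θ ≫ eqToHom (φ.w_obj y')
  have hθ : 𝒴.p.IsHomLift f θ :=
    IsHomLift.of_fac' 𝒴.p f θ (φ.w_obj y) (φ.w_obj y') (by simp [f])
  obtain ⟨y'', l, hl⟩ := h𝒳.exists_lift f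
  have hyy : 𝒳.p.obj y'' = 𝒳.p.obj y := IsHomLift.domain_eq 𝒳.p f l
  have l1 : 𝒴.p.IsHomLift f (φ.map l) := inferInstance
  haveI := sc_of_isFibGrpd 𝒴.p h𝒴 f (φ.map l)
  have hid : f = 𝟙 (𝒳.p.obj y) ≫ f := (Category.id_comp f).symm
  have hθ'l : 𝒴.p.IsHomLift (𝟙 (𝒳.p.obj y))
      (Functor.IsStronglyCartesian.map 𝒴.p f (φ.map l) hid θ) := inferInstance
  obtain ⟨t', ht'⟩ := full_fiber J h𝒳g h𝒴s φ x hx hfaith hsurj y y'' hyy _ hθ'l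
  refine ⟨t' ≫ l, ?_⟩
  have e1 : φ.toFunctor.map (t' ≫ l) = φ.map t' ≫ φ.map l := φ.toFunctor.map_comp t' l
  rw [e1, ht']
  exact Functor.IsStronglyCartesian.fac 𝒴.p f (φ.map l) hid θ

end

/-- Let S be a scheme and let 𝒳, 𝒴 be gerbes over the big fppf site of schemes over S (stacks in
groupoids in which objects exist locally and any two objects over the same scheme are locally
isomorphic), and let φ : 𝒳 → 𝒴 be a functor over Sch_S. Suppose 𝒳 has an object s over S itself such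
that, for every object x of 𝒳 admitting a morphism to s (that is, for every pullback of s), φ
induces a bijection from the automorphisms of x over the identity to those of φ(x) — the induced
homomorphism of automorphism sheaves Aut(s) → Aut(φ s) is an isomorphism. Then φ is an equivalence
over Sch_S: some functor over Sch_S in the other direction is inverse to φ up to isomorphisms over
Sch_S. -/
theorem result (S : Scheme.{u}) (𝒳 𝒴 : AlgSt.Cat S)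
    (h𝒳 : Gerb.IsGerbe (QuotSh.J Scheme.fppfPrecoverage S) 𝒳)
    (h𝒴 : Gerb.IsGerbe (QuotSh.J Scheme.fppfPrecoverage S) 𝒴)
    (φ : 𝒳 ⥤ᵇ 𝒴) (s : 𝒳.obj) (hs : 𝒳.p.obj s = Over.mk (𝟙 S))
    (hφ : ∀ (x : 𝒳.obj) (c : x ⟶ s), Function.Bijective (Gerb.autMap φ x)) :
    FibCat.IsEquivOver φ := by
  have hT : Limits.IsTerminal (𝒳.p.obj s) := by
    rw [hs]
    exact Over.mkIdTerminal
  haveI hfa : φ.toFunctor.Faithful :=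
    faithful_of_inj _ h𝒳 h𝒴.1.1 φ s hT (fun x' c => (hφ x' c).1)
  haveI hfu : φ.toFunctor.Full :=
    full_of_bij _ h𝒳 h𝒴.1 φ s hT hfa (fun x' c => (hφ x' c).2)
  rw [Groth.Agent.S12794.result _ h𝒳.1 h𝒴.1 φ]
  intro z
  obtain ⟨R, hR, hloc⟩ := cov_PY h𝒳.1.1 φ s _ h𝒴 hT z
  refine ⟨R, hR, fun V f hf => ?_⟩
  obtain ⟨z₀, a, ha, w, -, e, he⟩ := hloc f hf
  haveI : IsIso e := isIso_of_isFibGrpd 𝒴.p h𝒴.1.1 (𝟙 (𝒴.p.obj z₀)) e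
  have hz₀ : 𝒴.p.obj z₀ = V := IsHomLift.domain_eq 𝒴.p f a
  have l1 : 𝒴.p.IsHomLift (𝟙 (𝒴.p.obj z₀)) (inv e) := inferInstance
  have l2 : 𝒴.p.IsHomLift (𝟙 V) (inv e) := isHomLift_id_of_eq 𝒴.p hz₀ _ l1
  exact ⟨w, inv e ≫ a, isHomLift_comp_id_left 𝒴.p f _ _ l2 ha⟩

end Groth.Agent.S17911
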