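import Groth.Statements.S17914
import Groth.Agent.H77.Alt4

set_option autoImplicit false
universe u
open scoped TensorProduct
open PolLaw

namespace Groth.Agent.S17914

/-- Affine-free form, stated through universal properties. Let R → R' be a commutative algebra that is
free of rank d as an R-module, Q a commutative R-algebra, and Q' a commutative ring under Q and R'
which is their pushout over R and is free of rank d over Q. Let (C, γ) be the degree-d divided power
algebra of R' over R with its universal multiplicative law (hypothesis: every multiplicative law of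
degree d out of R' factors uniquely through γ) and π : C → R the R-algebra map with π ∘ γ = the norm
law of R' over R; let (C', γ', π') be the analogous data for Q' over Q. Let θ : C → C' be an
R-algebra homomorphism compatible with the two universal laws over every commutative Q-algebra P:
γ'_P applied to the image of z ∈ P ⊗_R R' in P ⊗_Q Q' equals (p ⊗ c ↦ p ⊗ θ c) applied to γ_P(z) (so
θ is the base-change homomorphism of divided power algebras). Then π' (θ c) is the image in Q of π c
for every c ∈ C: the algebra map attached to the norm commutes with base change. (The published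
lemma is for a finite locally free extension of constant rank and states the commutativity of each
of three squares; this row assumes R' free over R and states the commutativity of the composite.) -/
theorem result {R R' Q Q' : Type u} [CommRing R] [CommRing R'] [Algebra R R']
    [CommRing Q] [Algebra R Q] [CommRing Q'] [Algebra R Q'] [Algebra Q Q'] [Algebra R' Q']
    [IsScalarTower R Q Q'] [IsScalarTower R R' Q'] [Algebra.IsPushout R R' Q Q']
    [Module.Free R R'] [Module.Finite R R'] [Module.Free Q Q'] [Module.Finite Q Q']
    (d : ℕ) (hd : Module.finrank R R' = d) (hd' : Module.finrank Q Q' = d)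
    {C : Type u} [CommRing C] [Algebra R C] (γ : PolLaw.MulLaw R R' C d) (hγ : PolLaw.IsGammaD γ)
    (π : C →ₐ[R] R) (hπ : PolLaw.MulLaw.postcomp π γ = PolLaw.normLaw R R' d hd)
    {C' : Type u} [CommRing C'] [Algebra R C'] [Algebra Q C'] [IsScalarTower R Q C']
    (γ' : PolLaw.MulLaw Q Q' C' d) (hγ' : PolLaw.IsGammaD γ')
    (π' : C' →ₐ[Q] Q) (hπ' : PolLaw.MulLaw.postcomp π' γ' = PolLaw.normLaw Q Q' d hd')
    (θ : C →ₐ[R] C')
    (hθ : ∀ (P : Type u) [CommRing P] [Algebra R P] [Algebra Q P] [IsScalarTower R Q P] (z : P ⊗[R] R'),
      γ'.law.toFun' P (PolLaw.bcAlong (IsScalarTower.toAlgHom R R' Q').toLinearMap P z) =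
        PolLaw.bcAlong θ.toLinearMap P (γ.law.toFun' P z)) :
    ∀ c : C, π' (θ c) = algebraMap R Q (π c) := by
  intro c
  rcases subsingleton_or_nontrivial R with hR | hR
  · haveI : Subsingleton Q := by
      refine subsingleton_of_zero_eq_one ?_
      rw [← (algebraMap R Q).map_one, Subsingleton.elim (1 : R) 0, map_zero]
    exact Subsingleton.elim _ _
  have hπ0 : PolLaw.postcomp π.toLinearMap γ.law = (PolLaw.normLaw R R' d hd).law :=
    congrArg PolLaw.MulLaw.law hπ
  have h1 : PolLaw.postcomp ((π'.restrictScalars R).comp θ).toLinearMap γ.law =
      (PolLaw.MulLaw.postcomp ((π'.restrictScalars R).comp θ) γ).law := rfl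
  have h2 : PolLaw.postcomp ((Algebra.ofId R Q).comp π).toLinearMap γ.law =
      (PolLaw.MulLaw.postcomp ((π'.restrictScalars R).comp θ) γ).law := by
    rw [← h1, AlgHom.comp_toLinearMap, Groth.Agent.H77.Alt.postcomp_comp', hπ0]
    apply Groth.Agent.S13174.result.1
    refine Subtype.ext (funext (fun n => funext (fun z => ?_)))
    show (Algebra.ofId R Q).toLinearMap.lTensor _
        ((PolLaw.normLaw R R' d hd).law.toFun' (MvPolynomial (Fin n) R) z) =
      ((π'.restrictScalars R).comp θ).toLinearMap.lTensor _
        (γ.law.toFun' (MvPolynomial (Fin n) R) z)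
    rw [PolLaw.normLaw_apply, LinearMap.lTensor_tmul,
      Groth.Agent.H77.Alt.normMap_law_S d hd hd' γ γ' π' hπ' θ hθ]
    simp
  have heq : (π'.restrictScalars R).comp θ = (Algebra.ofId R Q).comp π :=
    (hγ _ (PolLaw.MulLaw.postcomp ((π'.restrictScalars R).comp θ) γ)).unique h1 h2
  have := congrArg (fun f => f c) heq
  simpa [Algebra.ofId_apply] using this

end Groth.Agent.S17914
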