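import Groth.Statements.S17933
import Groth.Agent.H89.MultCrvBasic

set_option autoImplicit false
universe u
open MultCrv

namespace Groth.Agent.S17933

/-- Let R be a discrete valuation ring, n ≥ 1, A = R[X]/(X^n) with z the class of X, and M a finitely
generated A-module. Then M is torsion-free as an R-module if and only if the submodule M^(1) of
elements killed by z is a free R-module. (This is the statement at a closed point of the sheaf
statement: for a primitive multiple curve of multiplicity n the local ring at a closed point is of
the form R[X]/(X^n) with R the local ring of the reduced smooth curve, torsion-freeness is the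
absence of sections with finite support, and local freeness on the reduced curve is freeness of the
stalk; the row is stated for every discrete valuation ring R.) -/
theorem result (R : Type u) [CommRing R] [IsDomain R] [IsDiscreteValuationRing R] (n : ℕ) (hn : 1 ≤ n) (M : Type u) [AddCommGroup M] [Module (MultCrv.Rn R n) M] [Module R M] [IsScalarTower R (MultCrv.Rn R n) M] [Module.Finite (MultCrv.Rn R n) M] : Module.IsTorsionFree R M ↔ Module.Free R ↥(MultCrv.filt2 R n M 1) := by
  haveI : Module.Finite R ↥(MultCrv.filt2 R n M 1) :=
    Groth.Agent.H89.finite_R_sub R n M (MultCrv.filt2 R n M 1)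
  constructor
  · intro hM
    haveI : Module.IsTorsionFree R ↥(MultCrv.filt2 R n M 1) :=
      Function.Injective.moduleIsTorsionFree (fun x : ↥(MultCrv.filt2 R n M 1) => (x : M))
        Subtype.val_injective (fun _ _ => rfl)
    exact Module.free_iff_isTorsionFree.mpr inferInstance
  · intro hfree
    haveI : Module.IsTorsionFree R ↥(MultCrv.filt2 R n M 1) := inferInstance
    rw [Module.isTorsionFree_iff_smul_eq_zero]
    intro r u hru
    by_cases hr : r = 0
    · exact Or.inl hr
    right
    have key : ∀ k : ℕ, ∀ u : M, MultCrv.z R n ^ k • u = 0 → r • u = 0 → u = 0 := by
      intro k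
      induction k with
      | zero => intro u h0 _; simpa using h0
      | succ k ih =>
        intro u h0 hru
        apply ih u _ hru
        have hw : MultCrv.z R n ^ k • u ∈ MultCrv.filt2 R n M 1 := by
          change _ ∈ Submodule.torsionBy _ _ _
          rw [Submodule.mem_torsionBy_iff, pow_one, smul_smul, ← pow_succ']
          exact h0
        have hrw : r • (⟨MultCrv.z R n ^ k • u, hw⟩ : ↥(MultCrv.filt2 R n M 1)) = 0 := by
          apply Subtype.ext
          change r • (MultCrv.z R n ^ k • u) = 0
          rw [smul_comm, hru, smul_zero]
        have := (smul_eq_zero_iff_right hr).mp hrw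
        exact congrArg Subtype.val this
    exact key n u (by rw [Groth.Agent.H89.z_pow_n]; exact zero_smul (MultCrv.Rn R n) u) hru

end Groth.Agent.S17933
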