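import Groth.Statements.S17934
import Groth.Agent.H89.MultCrvBasic

set_option autoImplicit false
universe u
open MultCrv

namespace Groth.Agent.S17934

/-- Let R be a discrete valuation ring, n ≥ 1, A = R[X]/(X^n) with z the class of X, and M a finitely
generated A-module that is torsion-free as an R-module. Then for 1 ≤ i ≤ n the graded piece
M^(i)/M^(i-1) of the second canonical filtration (M^(i) the elements killed by z^i) is a free
R-module. (Statement at a closed point of the sheaf statement on a primitive multiple curve of
multiplicity n, whose local rings are of the form R[X]/(X^n) with R the local ring of the reduced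
smooth curve; stated for every discrete valuation ring R.) -/
theorem result (R : Type u) [CommRing R] [IsDomain R] [IsDiscreteValuationRing R] (n : ℕ) (hn : 1 ≤ n) (M : Type u) [AddCommGroup M] [Module (MultCrv.Rn R n) M] [Module R M] [IsScalarTower R (MultCrv.Rn R n) M] [Module.Finite (MultCrv.Rn R n) M] [Module.IsTorsionFree R M] (i : ℕ) (hi : 1 ≤ i) (hin : i ≤ n) : Module.Free R (MultCrv.G2 R n M i) := by
  haveI : Module.Finite R ↥(MultCrv.filt2 R n M i) :=
    Groth.Agent.H89.finite_R_sub R n M (MultCrv.filt2 R n M i)
  set K : Submodule (MultCrv.Rn R n) ↥(MultCrv.filt2 R n M i) :=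
    Submodule.comap (MultCrv.filt2 R n M i).subtype (MultCrv.filt2 R n M (i - 1)) with hK
  let q : ↥(MultCrv.filt2 R n M i) →ₗ[R] (↥(MultCrv.filt2 R n M i) ⧸ K) :=
    K.mkQ.restrictScalars R
  have hq : Function.Surjective q := K.mkQ_surjective
  haveI : Module.Finite R (↥(MultCrv.filt2 R n M i) ⧸ K) :=
    Module.Finite.of_surjective q hq
  haveI : Module.IsTorsionFree R (↥(MultCrv.filt2 R n M i) ⧸ K) := by
    rw [Module.isTorsionFree_iff_smul_eq_zero]
    intro r x hrx
    by_cases hr : r = 0
    · exact Or.inl hr
    right
    obtain ⟨u, rfl⟩ := K.mkQ_surjective x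
    have h1 : K.mkQ (r • u) = 0 := by
      rw [← hrx]; rfl
    rw [Submodule.mkQ_apply, Submodule.Quotient.mk_eq_zero, hK, Submodule.mem_comap] at h1
    rw [Submodule.mkQ_apply, Submodule.Quotient.mk_eq_zero, hK, Submodule.mem_comap]
    change _ ∈ Submodule.torsionBy _ _ _ at h1
    change _ ∈ Submodule.torsionBy _ _ _
    rw [Submodule.mem_torsionBy_iff] at h1 ⊢
    have h2 : r • (MultCrv.z R n ^ (i - 1) • (u : M)) = 0 := by
      rw [smul_comm]; exact h1
    exact (smul_eq_zero_iff_right hr).mp h2
  exact Module.free_iff_isTorsionFree.mpr inferInstance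

end Groth.Agent.S17934
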