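import Groth.Statements.S17937
import Groth.Agent.H89.MultCrvDual

set_option autoImplicit false
universe u
open MultCrv

namespace Groth.Agent.S17937

open CategoryTheory in
/-- Let R be a discrete valuation ring, n ≥ 1, A = R[X]/(X^n), and M a finitely generated A-module with
Ext^1_A(M, A) = 0. Then M is torsion-free as an R-module. (Statement at a closed point of the sheaf
statement on a primitive multiple curve of multiplicity n, whose local rings are of the form
R[X]/(X^n) with R the local ring of the reduced smooth curve; stated for every discrete valuation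
ring R.) -/
theorem result (R : Type u) [CommRing R] [IsDomain R] [IsDiscreteValuationRing R] (n : ℕ) (hn : 1 ≤ n) (M : Type u) [AddCommGroup M] [Module (MultCrv.Rn R n) M] [Module R M] [IsScalarTower R (MultCrv.Rn R n) M] [Module.Finite (MultCrv.Rn R n) M] (h : Subsingleton (Abelian.Ext (ModuleCat.of (MultCrv.Rn R n) M) (ModuleCat.of (MultCrv.Rn R n) (MultCrv.Rn R n)) 1)) : Module.IsTorsionFree R M := by
  obtain ⟨m, rfl⟩ : ∃ m, n = m + 1 := ⟨n - 1, by omega⟩
  obtain ⟨r, p, hp⟩ := Module.Finite.exists_fin' (MultCrv.Rn R (m + 1)) M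
  have hS : p.shortComplexKer.ShortExact := LinearMap.shortExact_shortComplexKer hp
  refine Groth.Agent.H89.torsionFree_of_dual_extends m r p hp (fun φ' => ?_)
  have h0 : hS.extClass.comp (CategoryTheory.Abelian.Ext.mk₀ (ModuleCat.ofHom φ'))
      (rfl : 1 + 0 = 1) = 0 := Subsingleton.elim _ _
  obtain ⟨x₂, hx₂⟩ := CategoryTheory.Abelian.Ext.contravariant_sequence_exact₁ hS _ _
    (rfl : 1 + 0 = 1) h0
  obtain ⟨φ, rfl⟩ := (CategoryTheory.Abelian.Ext.mk₀_bijective _ _).2 x₂
  rw [CategoryTheory.Abelian.Ext.mk₀_comp_mk₀] at hx₂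
  have h1 := (CategoryTheory.Abelian.Ext.mk₀_bijective _ _).1 hx₂
  refine ⟨φ.hom, ?_⟩
  have h2 := congrArg ModuleCat.Hom.hom h1
  exact h2

end Groth.Agent.S17937
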