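import Groth.Statements.S17943
import Groth.Agent.H89.MultCrvBasic
import Mathlib.LinearAlgebra.Dimension.RankNullity
import Mathlib.LinearAlgebra.Dimension.Localization

set_option autoImplicit false
universe u
open MultCrv

namespace Groth.Agent.S17943

/-- Let R be a discrete valuation ring, n ≥ 1, A = R[X]/(X^n) with z the class of X, and M a finitely
generated A-module. For 0 ≤ i < n the R-modules G^(i+1)(M) = M^(i+1)/M^(i) (M^(j) the elements
killed by z^j) and G_i(M) = z^i M/z^(i+1) M have the same rank over R. (Statement at a closed point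
of the sheaf statement on a primitive multiple curve of multiplicity n with local rings R[X]/(X^n),
where the rank of a coherent sheaf on the reduced smooth curve is its generic rank, here the rank
over R of the stalk; the equality of degrees that the published statement gives together with this
rank equality is a statement on the global curve and is not part of this row; stated for every
discrete valuation ring R.) -/
theorem result (R : Type u) [CommRing R] [IsDomain R] [IsDiscreteValuationRing R] (n : ℕ) (hn : 1 ≤ n) (M : Type u) [AddCommGroup M] [Module (MultCrv.Rn R n) M] [Module R M] [IsScalarTower R (MultCrv.Rn R n) M] [Module.Finite (MultCrv.Rn R n) M] (i : ℕ) (hi : i < n) : Module.finrank R (MultCrv.G2 R n M (i + 1)) = Module.finrank R (MultCrv.G1 R n M i) := by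
  classical
  haveI hfinM : Module.Finite R M := Groth.Agent.H89.finite_R_of_finite_Rn R n M
  haveI hfinSub : ∀ N : Submodule (MultCrv.Rn R n) M, Module.Finite R ↥N :=
    fun N => Groth.Agent.H89.finite_R_sub R n M N
  -- additive rank formula for A-submodules with R-scalars
  have add_form : ∀ (N : Submodule (MultCrv.Rn R n) M) (K : Submodule (MultCrv.Rn R n) ↥N),
      Module.finrank R (↥N ⧸ K) + Module.finrank R ↥K = Module.finrank R ↥N :=
    fun N K => (K.restrictScalars R).finrank_quotient_add_finrank
  have add_formM : ∀ (K : Submodule (MultCrv.Rn R n) M),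
      Module.finrank R (M ⧸ K) + Module.finrank R ↥K = Module.finrank R M :=
    fun K => (K.restrictScalars R).finrank_quotient_add_finrank
  -- monotonicity of the filtrations
  have hmono2 : MultCrv.filt2 R n M i ≤ MultCrv.filt2 R n M (i + 1) := by
    intro x hx
    change _ ∈ Submodule.torsionBy _ _ _ at hx
    change _ ∈ Submodule.torsionBy _ _ _
    rw [Submodule.mem_torsionBy_iff] at hx ⊢
    rw [pow_succ', mul_smul, hx, smul_zero]
  have hmono1 : MultCrv.filt R n M (i + 1) ≤ MultCrv.filt R n M i := by
    rintro _ ⟨y, rfl⟩
    refine ⟨MultCrv.z R n • y, ?_⟩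
    simp only [LinearMap.smul_apply, LinearMap.id_coe, id_eq]
    rw [smul_smul, ← pow_succ]
  -- rank of range + rank of kernel for multiplication by z^j
  have a3 : ∀ j : ℕ, Module.finrank R ↥(MultCrv.filt R n M j) +
      Module.finrank R ↥(MultCrv.filt2 R n M j) = Module.finrank R M := by
    intro j
    let f : M →ₗ[MultCrv.Rn R n] M := (MultCrv.z R n ^ j) • (LinearMap.id : M →ₗ[MultCrv.Rn R n] M)
    have hker : MultCrv.filt2 R n M j = LinearMap.ker f := by
      ext x
      change _ ∈ Submodule.torsionBy _ _ _ ↔ _
      rw [Submodule.mem_torsionBy_iff, LinearMap.mem_ker]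
      rfl
    have h1 := add_formM (LinearMap.ker f)
    have h2 : Module.finrank R (M ⧸ LinearMap.ker f) = Module.finrank R ↥(LinearMap.range f) :=
      LinearEquiv.finrank_eq (f.quotKerEquivRange.restrictScalars R)
    rw [hker]
    change Module.finrank R ↥(LinearMap.range f) + _ = _
    rw [← h2]
    exact h1
  have a1 := add_form (MultCrv.filt2 R n M (i + 1))
    (Submodule.comap (MultCrv.filt2 R n M (i + 1)).subtype (MultCrv.filt2 R n M (i + 1 - 1)))
  have e1 : Module.finrank R ↥(Submodule.comap (MultCrv.filt2 R n M (i + 1)).subtype
      (MultCrv.filt2 R n M (i + 1 - 1))) = Module.finrank R ↥(MultCrv.filt2 R n M i) :=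
    LinearEquiv.finrank_eq ((Submodule.comapSubtypeEquivOfLe hmono2).restrictScalars R)
  have a2 := add_form (MultCrv.filt R n M i)
    (Submodule.comap (MultCrv.filt R n M i).subtype (MultCrv.filt R n M (i + 1)))
  have e2 : Module.finrank R ↥(Submodule.comap (MultCrv.filt R n M i).subtype
      (MultCrv.filt R n M (i + 1))) = Module.finrank R ↥(MultCrv.filt R n M (i + 1)) :=
    LinearEquiv.finrank_eq ((Submodule.comapSubtypeEquivOfLe hmono1).restrictScalars R)
  have b1 := a3 i
  have b2 := a3 (i + 1)
  change Module.finrank R (↥(MultCrv.filt2 R n M (i + 1)) ⧸ _) =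
    Module.finrank R (↥(MultCrv.filt R n M i) ⧸ _)
  omega

end Groth.Agent.S17943
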