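import Groth.Statements.S17959
import Mathlib
import Groth.Agent.H68.ClopenIdem
import Groth.Agent.H3.HPair10

set_option autoImplicit false
open CategoryTheory CategoryTheory.Limits AlgebraicGeometry
universe u
open Hensel

namespace Groth.Agent.S17959

open CategoryTheory CategoryTheory.Limits AlgebraicGeometry Groth.Agent.H68.ClopenIdem

theorem idempotent_lift {X X₀ : Scheme.{u}} (i : X₀ ⟶ X) [CompactSpace X] [QuasiSeparatedSpace X]
    (hX : ∀ (Y : Scheme.{u}) (g : Y ⟶ X), IsFinite g →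
      ∀ V : Set ↥(pullback g i), IsClopen V →
        ∃ U : Set ↥Y, IsClopen U ∧ (pullback.fst g i).base ⁻¹' U = V)
    (hEL : EmptyLift i)
    (C : Type u) [CommRing C] [Algebra Γ(X, ⊤) C] [Module.Flat Γ(X, ⊤) C]
    [Module.Finite Γ(X, ⊤) C]
    (ē : C ⧸ Ideal.map (algebraMap Γ(X, ⊤) C) (RingHom.ker i.appTop.hom))
    (hē : IsIdempotentElem ē) :
    ∃ e : C, IsIdempotentElem e ∧ Ideal.Quotient.mk _ e = ē := by
  haveI hfin : IsFinite (Spec.map (CommRingCat.ofHom (algebraMap Γ(X, ⊤) C))) :=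
    (IsFinite.SpecMap_iff _).mpr (RingHom.finite_algebraMap.mpr inferInstance)
  obtain ⟨Y, g, iY, hg, hiY, hcomp⟩ : ∃ (Y : Scheme.{u}) (g : Y ⟶ X)
      (iY : Y ⟶ Spec (CommRingCat.of C)), IsFinite g ∧ IsIso iY.appTop ∧
      g.appTop = CommRingCat.ofHom (algebraMap Γ(X, ⊤) C) ≫
        (Scheme.ΓSpecIso (CommRingCat.of C)).inv ≫ iY.appTop :=
    ⟨_, pullback.fst X.toSpecΓ (Spec.map (CommRingCat.ofHom (algebraMap Γ(X, ⊤) C))),
      pullback.snd X.toSpecΓ (Spec.map (CommRingCat.ofHom (algebraMap Γ(X, ⊤) C))),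
      inferInstance, isIso_snd_appTop C, appTop_fst_eq C⟩
  haveI := hg
  haveI := hiY
  obtain ⟨ψ, hψ⟩ : ∃ ψ : C →+* Γ(Y, ⊤),
      ψ = ((Scheme.ΓSpecIso (CommRingCat.of C)).inv ≫ iY.appTop).hom := ⟨_, rfl⟩
  have hψbij : Function.Bijective ψ := by
    rw [hψ]
    exact ConcreteCategory.bijective_of_isIso
      ((Scheme.ΓSpecIso (CommRingCat.of C)).inv ≫ iY.appTop)
  have hψalg : ∀ b : Γ(X, ⊤), ψ (algebraMap Γ(X, ⊤) C b) = g.appTop.hom b := by
    intro b
    rw [hψ, hcomp]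
    rfl
  obtain ⟨ρ, hρ⟩ : ∃ ρ : C →+* Γ(pullback g i, ⊤),
      ρ = (pullback.fst g i).appTop.hom.comp ψ := ⟨_, rfl⟩
  have hρapp : ∀ c : C, ρ c = (pullback.fst g i).appTop.hom (ψ c) := fun c => by rw [hρ]; rfl
  have hJρ : Ideal.map (algebraMap Γ(X, ⊤) C) (RingHom.ker i.appTop.hom) ≤ RingHom.ker ρ := by
    rw [Ideal.map_le_iff_le_comap]
    intro a ha
    rw [Ideal.mem_comap, RingHom.mem_ker, hρapp, hψalg]
    have h1 : g.appTop ≫ (pullback.fst g i).appTop = i.appTop ≫ (pullback.snd g i).appTop := by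
      rw [← Scheme.Hom.comp_appTop, ← Scheme.Hom.comp_appTop, pullback.condition]
    have h2 : (pullback.fst g i).appTop.hom (g.appTop.hom a) =
        (pullback.snd g i).appTop.hom (i.appTop.hom a) := congr($h1 a)
    rw [h2, (RingHom.mem_ker).1 ha, map_zero]
  obtain ⟨c, rfl⟩ := Ideal.Quotient.mk_surjective ē
  have hc : c * c - c ∈ Ideal.map (algebraMap Γ(X, ⊤) C) (RingHom.ker i.appTop.hom) := by
    rw [← Ideal.Quotient.eq, map_mul]
    exact hē
  have he₀ : IsIdempotentElem (ρ c) := by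
    have := hJρ hc
    rw [RingHom.mem_ker, map_sub, map_mul, sub_eq_zero] at this
    exact this
  obtain ⟨U, hU, hUV⟩ := hX Y g hg _ (isClopen_basicOpen he₀)
  obtain ⟨ε, hε, hεU⟩ := exists_idempotent_of_isClopen U hU
  obtain ⟨e, rfl⟩ := hψbij.2 ε
  have he : IsIdempotentElem e := hψbij.1 (by rw [map_mul]; exact hε)
  have hρe : ρ e = ρ c := by
    apply eq_of_basicOpen_eq (he.map ρ) he₀
    rw [hρapp e]
    have h1 : (pullback g i).basicOpen ((pullback.fst g i).appTop.hom (ψ e)) =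
        pullback.fst g i ⁻¹ᵁ Y.basicOpen (ψ e) :=
      (Scheme.preimage_basicOpen_top (pullback.fst g i) (ψ e)).symm
    rw [h1]
    apply TopologicalSpace.Opens.ext
    show (pullback.fst g i).base ⁻¹' (Y.basicOpen (ψ e) : Set Y) = _
    rw [hεU, hUV]
  have hK : RingHom.ker ρ ≤ Ideal.jacobson ⊥ := by
    intro x hx
    have hx' : ψ x ∈ RingHom.ker (pullback.fst g i).appTop.hom := by
      rw [RingHom.mem_ker, ← hρapp]
      exact hx
    have hjac := ker_le_jacobson (pullback.fst g i) (emptyLift_baseChange i g hEL) hx'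
    rw [Ideal.mem_jacobson_bot] at hjac ⊢
    intro y
    have := hjac (ψ y)
    rw [← map_mul, ← map_one ψ, ← map_add] at this
    exact (isUnit_map_iff (RingEquiv.ofBijective ψ hψbij) _).1 this
  refine ⟨e, he, ?_⟩
  apply Groth.Agent.H3.eq_of_isIdempotentElem_of_sub_mem_jacobson
    (he.map (Ideal.Quotient.mk _)) hē
  rw [← map_sub, Ideal.mem_jacobson_bot]
  intro y
  obtain ⟨y, rfl⟩ := Ideal.Quotient.mk_surjective y
  have hmem : e - c ∈ RingHom.ker ρ := by rw [RingHom.mem_ker, map_sub, hρe, sub_self]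
  have := (Ideal.mem_jacobson_bot.1 (hK hmem)) y
  rw [← map_mul, ← map_one (Ideal.Quotient.mk _), ← map_add]
  exact this.map _


/-- Let X be a quasi-compact quasi-separated scheme and i : X₀ ⟶ X a closed immersion such that (X, X₀)
is a henselian couple, i.e. for every finite morphism g : Y ⟶ X every open-closed subset of Y ×_X X₀
is the inverse image under the first projection of exactly one open-closed subset of Y. Let B = Γ(X,
O_X) and let J be the kernel of the restriction map B → Γ(X₀, O_{X₀}). Then (B, J) is a henselian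
pair. -/
theorem result {X X₀ : Scheme.{u}}
    (i : X₀ ⟶ X) [IsClosedImmersion i] [CompactSpace ↥X] [QuasiSeparatedSpace ↥X]
    (hX : ∀ (Y : Scheme.{u}) (g : Y ⟶ X), IsFinite g →
      ∀ V : Set ↥(pullback g (i)), IsClopen V →
        ∃! U : Set ↥Y, IsClopen U ∧ (pullback.fst g (i)).base ⁻¹' U = V) :
    HenselianRing (Γ(X, ⊤) : Type u) (RingHom.ker i.appTop.hom) := by
  have hEL : EmptyLift i := emptyLift_of_couple i hX
  refine Groth.Agent.H3.henselianRing_of_idempotents_lift_sq_sub_pow _ (ker_le_jacobson i hEL) ?_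
  intro m p hp _ ē hē
  haveI : Module.Finite Γ(X, ⊤) (AdjoinRoot p) := hp.finite_adjoinRoot
  haveI : Module.Free Γ(X, ⊤) (AdjoinRoot p) := hp.free_adjoinRoot
  obtain ⟨e, he, hee⟩ := idempotent_lift i
    (fun Y g hg V hV => (hX Y g hg V hV).exists) hEL (AdjoinRoot p) ē hē
  exact ⟨e, he, hee⟩

end Groth.Agent.S17959
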