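import Groth.Statements.S17962
-- import your own Groth.Agent.* helpers here

set_option autoImplicit false
open CategoryTheory CategoryTheory.Limits AlgebraicGeometry
universe u
open Hensel

namespace Groth.Agent.S17962

/-- Let i : X₀ ⟶ X be a closed immersion such that (X, X₀) is a henselian couple, i.e. for every finite
morphism g : Y ⟶ X every open-closed subset of Y ×_X X₀ is the inverse image under the first
projection of exactly one open-closed subset of Y. Then for every finite morphism h : Y ⟶ X the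
couple (Y, Y ×_X X₀), with the first projection as closed immersion, is again henselian. -/
theorem result {X X₀ : Scheme.{u}}
    (i : X₀ ⟶ X) [IsClosedImmersion i]
    (hX : ∀ (Y : Scheme.{u}) (g : Y ⟶ X), IsFinite g →
      ∀ V : Set ↥(pullback g (i)), IsClopen V →
        ∃! U : Set ↥Y, IsClopen U ∧ (pullback.fst g (i)).base ⁻¹' U = V)
    {Y : Scheme.{u}} (h : Y ⟶ X) [IsFinite h] :
    ∀ (Z : Scheme.{u}) (g : Z ⟶ Y), IsFinite g →
      ∀ V : Set ↥(pullback g (pullback.fst h i)), IsClopen V →
        ∃! U : Set ↥Z, IsClopen U ∧ (pullback.fst g (pullback.fst h i)).base ⁻¹' U = V := by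
  intro Z g hgfin V hV
  haveI : IsFinite g := hgfin
  let e := pullbackRightPullbackFstIso h i g
  have he : e.hom ≫ pullback.fst (g ≫ h) i = pullback.fst g (pullback.fst h i) :=
    pullbackRightPullbackFstIso_hom_fst h i g
  have h1 : ∀ x, e.inv.base (e.hom.base x) = x := by
    intro x
    rw [← Scheme.Hom.comp_apply]
    simp
  have h2 : ∀ x, e.hom.base (e.inv.base x) = x := by
    intro x
    rw [← Scheme.Hom.comp_apply]
    simp
  have hpre : ∀ U : Set ↥Z, (pullback.fst g (pullback.fst h i)).base ⁻¹' U =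
      e.hom.base ⁻¹' ((pullback.fst (g ≫ h) i).base ⁻¹' U) := by
    intro U
    rw [← he]
    rfl
  have hfin : IsFinite (g ≫ h) := inferInstance
  have hV' : IsClopen (e.inv.base ⁻¹' V) := hV.preimage e.inv.base.hom.continuous
  obtain ⟨U, ⟨hU, hUV⟩, huniq⟩ := hX Z (g ≫ h) hfin (e.inv.base ⁻¹' V) hV'
  refine ⟨U, ⟨hU, ?_⟩, ?_⟩
  · rw [hpre, hUV]
    ext x
    simp [h1]
  · rintro U' ⟨hU', hU'V⟩
    apply huniq
    refine ⟨hU', ?_⟩
    rw [← hU'V, hpre]
    ext x
    simp [h2]

end Groth.Agent.S17962
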