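import Groth.Statements.S17964
import Mathlib

set_option autoImplicit false
open CategoryTheory CategoryTheory.Limits AlgebraicGeometry
universe u
open Hensel

namespace Groth.Agent.S17964

lemma exists_sigmaι {ι : Type u} (X : ι → Scheme.{u}) (z : ↥(∐ X)) :
    ∃ (k : ι) (w : X k), Limits.Sigma.ι X k w = z := by
  obtain ⟨⟨k, w⟩, rfl⟩ := (sigmaMk X).surjective z
  exact ⟨k, w, (sigmaMk_mk X k w).symm⟩

lemma isPullback_sigma {ι : Type u} (X X₀ : ι → Scheme.{u}) (i : ∀ j, X₀ j ⟶ X j) (j : ι) :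
    IsPullback (i j) (Limits.Sigma.ι X₀ j) (Limits.Sigma.ι X j) (Limits.Sigma.map i) := by
  refine IsOpenImmersion.isPullback _ _ _ _ (Limits.Sigma.ι_map i j) ?_
  apply le_antisymm
  · intro z hz
    obtain ⟨k, w, rfl⟩ := exists_sigmaι X₀ z
    have hz' : (Limits.Sigma.map i) (Limits.Sigma.ι X₀ k w) ∈ Set.range (Limits.Sigma.ι X j) := hz
    have h1 : (Limits.Sigma.map i) (Limits.Sigma.ι X₀ k w) = Limits.Sigma.ι X k ((i k) w) := by
      rw [← Scheme.Hom.comp_apply, ← Scheme.Hom.comp_apply, Limits.Sigma.ι_map]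
    rw [h1] at hz'
    obtain ⟨y, hy⟩ := hz'
    have h2 := (sigmaι_eq_iff X j k y ((i k) w)).mp hy
    have hjk : j = k := congrArg Sigma.fst h2
    subst hjk
    exact ⟨w, rfl⟩
  · rintro z ⟨w, rfl⟩
    show (Limits.Sigma.map i) (Limits.Sigma.ι X₀ j w) ∈ Set.range (Limits.Sigma.ι X j)
    refine ⟨(i j) w, ?_⟩
    rw [← Scheme.Hom.comp_apply, ← Scheme.Hom.comp_apply, Limits.Sigma.ι_map]

lemma isClosedImmersion_sigmaι {ι : Type u} (X : ι → Scheme.{u}) (j : ι) :
    IsClosedImmersion (Limits.Sigma.ι X j) := by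
  apply IsClosedImmersion.of_isPreimmersion
  rw [← isOpen_compl_iff, isOpen_iff_forall_mem_open]
  intro z hz
  obtain ⟨k, w, rfl⟩ := exists_sigmaι X z
  have hkj : k ≠ j := by
    rintro rfl
    exact hz ⟨w, rfl⟩
  refine ⟨Set.range (Limits.Sigma.ι X k), ?_, (Limits.Sigma.ι X k).isOpenEmbedding.isOpen_range, ⟨w, rfl⟩⟩
  rintro _ ⟨w', rfl⟩ ⟨y, hy⟩
  have h2 := (sigmaι_eq_iff X j k y w').mp hy
  exact hkj (congrArg Sigma.fst h2).symm

lemma transfer {Y P P' : Scheme.{u}} (fst : P ⟶ Y) (fst' : P' ⟶ Y) (e : P ≅ P')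
    (he : e.hom ≫ fst' = fst)
    (H : ∀ V' : Set P', IsClopen V' → ∃! U : Set Y, IsClopen U ∧ fst'.base ⁻¹' U = V')
    (V : Set P) (hV : IsClopen V) : ∃! U : Set Y, IsClopen U ∧ fst.base ⁻¹' U = V := by
  have h1 : ∀ x : P, e.inv (e.hom x) = x := fun x => by
    rw [← Scheme.Hom.comp_apply, e.hom_inv_id]; rfl
  have h2 : ∀ x : P', e.hom (e.inv x) = x := fun x => by
    rw [← Scheme.Hom.comp_apply, e.inv_hom_id]; rfl
  have h3 : ∀ x : P, fst' (e.hom x) = fst x := fun x => by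
    rw [← Scheme.Hom.comp_apply, he]
  have hV' : IsClopen (e.inv.base ⁻¹' V) := hV.preimage e.inv.continuous
  obtain ⟨U, ⟨hU1, hU2⟩, hU3⟩ := H _ hV'
  have key : ∀ U₂ : Set Y, fst.base ⁻¹' U₂ = V ↔ fst'.base ⁻¹' U₂ = e.inv.base ⁻¹' V := by
    intro U₂
    constructor
    · intro h
      ext x
      have h4 := Set.ext_iff.mp h (e.inv x)
      have h5 : fst (e.inv x) ∈ U₂ ↔ e.inv x ∈ V := h4
      rw [← h3, h2] at h5
      exact h5
    · intro h
      ext x
      have h4 := Set.ext_iff.mp h (e.hom x)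
      have h5 : fst' (e.hom x) ∈ U₂ ↔ e.inv (e.hom x) ∈ V := h4
      rw [h3, h1] at h5
      exact h5
  refine ⟨U, ⟨hU1, (key U).mpr hU2⟩, ?_⟩
  rintro U₂ ⟨hU₂1, hU₂2⟩
  exact hU3 U₂ ⟨hU₂1, (key U₂).mp hU₂2⟩

lemma isPullback_m {ι : Type u} (X X₀ : ι → Scheme.{u}) (i : ∀ j, X₀ j ⟶ X j) {Y : Scheme.{u}}
    (g : Y ⟶ ∐ X) (j : ι) :
    ∃ m : pullback (pullback.snd g (Limits.Sigma.ι X j)) (i j) ⟶ pullback g (Limits.Sigma.map i),
      IsPullback m (pullback.fst (pullback.snd g (Limits.Sigma.ι X j)) (i j))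
        (pullback.fst g (Limits.Sigma.map i)) (pullback.fst g (Limits.Sigma.ι X j)) := by
  have hcond : pullback.fst g (Limits.Sigma.ι X j) ≫ g = pullback.snd g (Limits.Sigma.ι X j) ≫ Limits.Sigma.ι X j :=
    pullback.condition
  have hK := isPullback_sigma X X₀ i j
  have hbig : IsPullback (pullback.snd (pullback.snd g (Limits.Sigma.ι X j)) (i j) ≫ Limits.Sigma.ι X₀ j)
      (pullback.fst (pullback.snd g (Limits.Sigma.ι X j)) (i j)) (Limits.Sigma.map i)
      (pullback.snd g (Limits.Sigma.ι X j) ≫ Limits.Sigma.ι X j) :=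
    (IsPullback.of_hasPullback (pullback.snd g (Limits.Sigma.ι X j)) (i j)).flip.paste_horiz hK.flip
  have hw : (pullback.fst (pullback.snd g (Limits.Sigma.ι X j)) (i j) ≫ pullback.fst g (Limits.Sigma.ι X j)) ≫ g =
      (pullback.snd (pullback.snd g (Limits.Sigma.ι X j)) (i j) ≫ Limits.Sigma.ι X₀ j) ≫ Limits.Sigma.map i := by
    rw [Category.assoc, hcond]; exact hbig.w.symm
  refine ⟨pullback.lift _ _ hw, ?_⟩
  have hm1 : pullback.lift _ _ hw ≫ pullback.fst g (Limits.Sigma.map i) =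
      pullback.fst (pullback.snd g (Limits.Sigma.ι X j)) (i j) ≫ pullback.fst g (Limits.Sigma.ι X j) :=
    pullback.lift_fst _ _ _
  have hm2 : pullback.lift _ _ hw ≫ pullback.snd g (Limits.Sigma.map i) =
      pullback.snd (pullback.snd g (Limits.Sigma.ι X j)) (i j) ≫ Limits.Sigma.ι X₀ j :=
    pullback.lift_snd _ _ _
  have s : IsPullback (pullback.lift _ _ hw ≫ pullback.snd g (Limits.Sigma.map i))
      (pullback.fst (pullback.snd g (Limits.Sigma.ι X j)) (i j)) (Limits.Sigma.map i)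
      (pullback.fst g (Limits.Sigma.ι X j) ≫ g) := by
    rw [hm2, hcond]; exact hbig
  exact IsPullback.of_right s hm1 (IsPullback.of_hasPullback g (Limits.Sigma.map i)).flip

lemma glue_abs {ι : Type u} {Y P : Scheme.{u}} (F : P ⟶ Y) (Yj Pj : ι → Scheme.{u})
    (a : ∀ j, Yj j ⟶ Y) [∀ j, IsOpenImmersion (a j)] (c : ∀ j, Pj j ⟶ Yj j) (m : ∀ j, Pj j ⟶ P)
    (hpb : ∀ j, IsPullback (m j) (c j) F (a j))
    (hcover : ∀ y : Y, ∃ j, y ∈ Set.range (a j))
    (hdisj : ∀ j k (y₁ : Yj j) (y₂ : Yj k), a j y₁ = a k y₂ → j = k)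
    (HB : ∀ j, ∀ V : Set (Pj j), IsClopen V →
      ∃! U : Set (Yj j), IsClopen U ∧ (c j).base ⁻¹' U = V)
    (V : Set P) (hV : IsClopen V) : ∃! U : Set Y, IsClopen U ∧ F.base ⁻¹' U = V := by
  classical
  have hcomm : ∀ j (q : Pj j), F (m j q) = a j (c j q) := fun j q => by
    rw [← Scheme.Hom.comp_apply, ← Scheme.Hom.comp_apply, (hpb j).w]
  have hm_surj : ∀ j (p : P) (y : Yj j), F p = a j y → ∃ q : Pj j, m j q = p ∧ c j q = y := by
    intro j p y h
    obtain ⟨z, hz1, hz2⟩ := Scheme.Pullback.exists_preimage_pullback p y h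
    refine ⟨(hpb j).isoPullback.inv z, ?_, ?_⟩
    · rw [← Scheme.Hom.comp_apply, (hpb j).isoPullback_inv_fst]; exact hz1
    · rw [← Scheme.Hom.comp_apply, (hpb j).isoPullback_inv_snd]; exact hz2
  have ha_inj : ∀ j, Function.Injective (a j) := fun j => (a j).isOpenEmbedding.injective
  have hVj : ∀ j, IsClopen ((m j).base ⁻¹' V) := fun j => hV.preimage (m j).continuous
  have HB' : ∀ j, ∃ U : Set (Yj j), (IsClopen U ∧ (c j).base ⁻¹' U = (m j).base ⁻¹' V) ∧
      ∀ U', (IsClopen U' ∧ (c j).base ⁻¹' U' = (m j).base ⁻¹' V) → U' = U :=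
    fun j => HB j _ (hVj j)
  choose Uj hUj hUj_uniq using HB'
  obtain ⟨U, hUdef⟩ : ∃ U : Set Y, U = ⋃ j, (a j) '' (Uj j) := ⟨_, rfl⟩
  have hmemU : ∀ j (y : Yj j), a j y ∈ U ↔ y ∈ Uj j := by
    intro j y
    rw [hUdef]
    constructor
    · intro h
      obtain ⟨k, y', hy', hyy'⟩ := Set.mem_iUnion.mp h
      have hkj : k = j := hdisj k j y' y hyy'
      subst hkj
      have h6 := ha_inj k hyy'
      rw [← h6]; exact hy'
    · intro h
      exact Set.mem_iUnion.mpr ⟨j, y, h, rfl⟩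
  have hUopen : IsOpen U := by
    rw [hUdef]
    exact isOpen_iUnion fun j => (a j).isOpenEmbedding.isOpenMap _ (hUj j).1.isOpen
  have hUc : Uᶜ = ⋃ j, (a j) '' (Uj j)ᶜ := by
    ext y
    obtain ⟨j, y', rfl⟩ := hcover y
    rw [Set.mem_compl_iff, hmemU]
    constructor
    · intro h; exact Set.mem_iUnion.mpr ⟨j, y', h, rfl⟩
    · intro h
      obtain ⟨k, y'', hy'', hyy''⟩ := Set.mem_iUnion.mp h
      have hkj : k = j := hdisj k j y'' y' hyy''
      subst hkj
      have h6 := ha_inj k hyy''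
      rw [← h6]; exact hy''
  have hUclosed : IsClosed U := by
    rw [← isOpen_compl_iff, hUc]
    exact isOpen_iUnion fun j => (a j).isOpenEmbedding.isOpenMap _ (hUj j).1.compl.isOpen
  have hFU : F.base ⁻¹' U = V := by
    ext p
    obtain ⟨j, y, hy⟩ := hcover (F p)
    obtain ⟨q, rfl, rfl⟩ := hm_surj j p y hy.symm
    show F (m j q) ∈ U ↔ m j q ∈ V
    rw [hcomm, hmemU]
    have h7 := Set.ext_iff.mp (hUj j).2 q
    exact h7
  refine ⟨U, ⟨⟨hUclosed, hUopen⟩, hFU⟩, ?_⟩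
  rintro U' ⟨hU'1, hU'2⟩
  have hj : ∀ j, (a j).base ⁻¹' U' = Uj j := by
    intro j
    apply hUj_uniq j
    refine ⟨hU'1.preimage (a j).continuous, ?_⟩
    ext q
    show a j (c j q) ∈ U' ↔ m j q ∈ V
    have h8 : F (m j q) ∈ U' ↔ m j q ∈ V := Set.ext_iff.mp hU'2 (m j q)
    rw [← hcomm]; exact h8
  ext y
  obtain ⟨j, y', rfl⟩ := hcover y
  rw [hmemU]
  have h9 := Set.ext_iff.mp (hj j) y'
  exact h9


/-- Let (X_j) be a family of schemes indexed by a type ι, with closed immersions i_j : X_{j,0} ⟶ X_j,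
and consider the induced morphism of disjoint unions ∐ X_{j,0} ⟶ ∐ X_j. Then the couple (∐ X_j, ∐
X_{j,0}) is henselian (for every finite morphism g : Y ⟶ ∐ X_j, every open-closed subset of the
fibre product of Y with ∐ X_{j,0} is the inverse image under the first projection of exactly one
open-closed subset of Y) if and only if each couple (X_j, X_{j,0}) is henselian. -/
theorem result {ι : Type u} (X X₀ : ι → Scheme.{u})
    (i : ∀ j, X₀ j ⟶ X j) [∀ j, IsClosedImmersion (i j)] :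
    (∀ (Y : Scheme.{u}) (g : Y ⟶ ∐ X), IsFinite g →
      ∀ V : Set ↥(pullback g (Limits.Sigma.map i)), IsClopen V →
        ∃! U : Set ↥Y, IsClopen U ∧ (pullback.fst g (Limits.Sigma.map i)).base ⁻¹' U = V) ↔
    ∀ j : ι, ∀ (Y : Scheme.{u}) (g : Y ⟶ X j), IsFinite g →
      ∀ V : Set ↥(pullback g (i j)), IsClopen V →
        ∃! U : Set ↥Y, IsClopen U ∧ (pullback.fst g (i j)).base ⁻¹' U = V := by
  constructor
  · intro HA j Y g hg V hV
    haveI : IsFinite g := hg
    have hK := isPullback_sigma X X₀ i j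
    have hfin : IsFinite (g ≫ Limits.Sigma.ι X j) := by
      haveI : IsClosedImmersion (Limits.Sigma.ι X j) := isClosedImmersion_sigmaι X j
      infer_instance
    have hbig : IsPullback (pullback.fst g (i j)) (pullback.snd g (i j) ≫ Limits.Sigma.ι X₀ j)
        (g ≫ Limits.Sigma.ι X j) (Limits.Sigma.map i) :=
      ((IsPullback.of_hasPullback g (i j)).flip.paste_horiz hK.flip).flip
    exact transfer (pullback.fst g (i j)) (pullback.fst (g ≫ Limits.Sigma.ι X j) (Limits.Sigma.map i))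
      hbig.isoPullback hbig.isoPullback_hom_fst (HA Y (g ≫ Limits.Sigma.ι X j) hfin) V hV
  · intro HB Y g hg V hV
    haveI : IsFinite g := hg
    choose m hmpb using fun j => isPullback_m X X₀ i g j
    haveI : ∀ j, IsOpenImmersion (pullback.fst g (Limits.Sigma.ι X j)) := fun j => inferInstance
    refine glue_abs (pullback.fst g (Limits.Sigma.map i)) (fun j => pullback g (Limits.Sigma.ι X j))
      (fun j => pullback (pullback.snd g (Limits.Sigma.ι X j)) (i j))
      (fun j => pullback.fst g (Limits.Sigma.ι X j))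
      (fun j => pullback.fst (pullback.snd g (Limits.Sigma.ι X j)) (i j)) m hmpb ?_ ?_ ?_ V hV
    · intro y
      obtain ⟨k, w, hw⟩ := exists_sigmaι X (g y)
      refine ⟨k, ?_⟩
      rw [Scheme.Pullback.range_fst]
      exact ⟨w, hw⟩
    · intro j k y₁ y₂ h
      have h1 : g ((pullback.fst g (Limits.Sigma.ι X j)) y₁) ∈ Set.range (Limits.Sigma.ι X j) := by
        refine ⟨(pullback.snd g (Limits.Sigma.ι X j)) y₁, ?_⟩
        rw [← Scheme.Hom.comp_apply, ← Scheme.Hom.comp_apply, pullback.condition]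
      have h2 : g ((pullback.fst g (Limits.Sigma.ι X j)) y₁) ∈ Set.range (Limits.Sigma.ι X k) := by
        refine ⟨(pullback.snd g (Limits.Sigma.ι X k)) y₂, ?_⟩
        rw [h, ← Scheme.Hom.comp_apply, ← Scheme.Hom.comp_apply, pullback.condition]
      obtain ⟨w₁, hw₁⟩ := h1
      obtain ⟨w₂, hw₂⟩ := h2
      exact congrArg Sigma.fst ((sigmaι_eq_iff X j k w₁ w₂).mp (hw₁.trans hw₂.symm))
    · intro j V' hV'
      exact HB j _ (pullback.snd g (Limits.Sigma.ι X j)) inferInstance V' hV'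

end Groth.Agent.S17964
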