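import Groth.Statements.S17969
import Mathlib.RingTheory.Adjoin.PowerBasis
import Mathlib.LinearAlgebra.Matrix.Charpoly.Minpoly
import Mathlib.RingTheory.Localization.BaseChange
import Mathlib.RingTheory.Polynomial.GaussLemma
import Mathlib.LinearAlgebra.Charpoly.ToMatrix

set_option autoImplicit false
universe u
open scoped TensorProduct
open CAlg

namespace Groth.Agent.S17969

/-- Let A be an integrally closed domain with fraction field K and B a commutative A-algebra which is
finite and torsion-free as an A-module and generated as an A-algebra by a single element x. Let P be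
the characteristic polynomial of multiplication by 1 ⊗ x on the finite free K-module K ⊗_A B. Then P
has coefficients in A, namely P is the image of a monic polynomial over A, and the kernel of the
A-algebra map A[T] → B sending T to x is generated by that polynomial, so that B is A[T]/(P). -/
theorem result
    (A : Type u) [CommRing A] [IsDomain A] [IsIntegrallyClosed A]
    (B : Type u) [CommRing B] [Algebra A B] [Module.Finite A B] [NoZeroSMulDivisors A B]
    (x : B) (hx : Algebra.adjoin A {x} = ⊤) :
    ∃ P : Polynomial A, P.Monic ∧
      Polynomial.map (algebraMap A (FractionRing A)) P =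
        (LinearMap.mulLeft (FractionRing A) ((1 : FractionRing A) ⊗ₜ[A] x)).charpoly ∧
      RingHom.ker (Polynomial.aeval x).toRingHom = Ideal.span {P} := by
  classical
  let inc : B →ₐ[A] (FractionRing A) ⊗[A] B := Algebra.TensorProduct.includeRight
  have hinc_inj : Function.Injective inc := by
    rw [injective_iff_map_eq_zero]
    intro b hb
    have h1 : (TensorProduct.mk A (FractionRing A) B 1) b = 0 := hb
    obtain ⟨c, hc⟩ := (IsLocalizedModule.eq_zero_iff (nonZeroDivisors A)
      (TensorProduct.mk A (FractionRing A) B 1)).mp h1
    rw [Submonoid.smul_def] at hc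
    exact (smul_eq_zero.mp hc).resolve_left (nonZeroDivisors.coe_ne_zero c)
  have hall : ∀ t : (FractionRing A) ⊗[A] B,
      t ∈ Algebra.adjoin (FractionRing A) {(1 : FractionRing A) ⊗ₜ[A] x} := by
    intro t
    induction t using TensorProduct.induction_on with
    | zero => exact Subalgebra.zero_mem _
    | add t₁ t₂ h₁ h₂ => exact Subalgebra.add_mem _ h₁ h₂
    | tmul k b =>
      have h3 : inc b ∈ Algebra.adjoin (FractionRing A) {(1 : FractionRing A) ⊗ₜ[A] x} := by
        have hb : b ∈ Algebra.adjoin A {x} := by rw [hx]; trivial
        induction hb using Algebra.adjoin_induction with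
        | mem y hy =>
          rw [Set.mem_singleton_iff] at hy
          subst hy
          exact Algebra.subset_adjoin (Set.mem_singleton _)
        | algebraMap a =>
          rw [AlgHom.commutes, IsScalarTower.algebraMap_apply A (FractionRing A)
            ((FractionRing A) ⊗[A] B)]
          exact Subalgebra.algebraMap_mem _ _
        | add y₁ y₂ _ _ h₁ h₂ => rw [map_add]; exact Subalgebra.add_mem _ h₁ h₂
        | mul y₁ y₂ _ _ h₁ h₂ => rw [map_mul]; exact Subalgebra.mul_mem _ h₁ h₂
      have h4 : k ⊗ₜ[A] b = k • inc b := by
        change k ⊗ₜ[A] b = k • ((1 : FractionRing A) ⊗ₜ[A] b)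
        rw [TensorProduct.smul_tmul', smul_eq_mul, mul_one]
      rw [h4]
      exact Subalgebra.smul_mem _ h3 k
  have hadj : Algebra.adjoin (FractionRing A) {(1 : FractionRing A) ⊗ₜ[A] x} = ⊤ :=
    eq_top_iff.mpr (fun t _ => hall t)
  have hint : IsIntegral (FractionRing A) ((1 : FractionRing A) ⊗ₜ[A] x) :=
    Algebra.IsIntegral.isIntegral _
  have hchar : (LinearMap.mulLeft (FractionRing A) ((1 : FractionRing A) ⊗ₜ[A] x)).charpoly =
      minpoly (FractionRing A) ((1 : FractionRing A) ⊗ₜ[A] x) := by
    have h5 := charpoly_leftMulMatrix (PowerBasis.ofAdjoinEqTop hint hadj)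
    rw [Algebra.leftMulMatrix_apply, LinearMap.charpoly_toMatrix] at h5
    exact h5
  have hxint : IsIntegral A x := Algebra.IsIntegral.isIntegral x
  have haev : ∀ g : Polynomial A, inc (Polynomial.aeval x g) =
      Polynomial.aeval ((1 : FractionRing A) ⊗ₜ[A] x)
        (g.map (algebraMap A (FractionRing A))) := by
    intro g
    rw [Polynomial.aeval_map_algebraMap]
    exact (Polynomial.aeval_algHom_apply inc x g).symm
  have hf0 : Polynomial.aeval ((1 : FractionRing A) ⊗ₜ[A] x)
      ((minpoly A x).map (algebraMap A (FractionRing A))) = 0 := by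
    rw [← haev, minpoly.aeval, map_zero]
  have hdvd := minpoly.dvd (FractionRing A) ((1 : FractionRing A) ⊗ₜ[A] x) hf0
  obtain ⟨P, hP⟩ := IsIntegrallyClosed.eq_map_mul_C_of_dvd (FractionRing A)
    (minpoly.monic hxint) hdvd
  have hμmonic := minpoly.monic hint
  rw [hμmonic.leadingCoeff, Polynomial.C_1, mul_one] at hP
  have hPmonic : P.Monic := Polynomial.monic_of_injective
    (IsFractionRing.injective A (FractionRing A)) (by rw [hP]; exact hμmonic)
  refine ⟨P, hPmonic, by rw [hP, hchar], ?_⟩
  have key : ∀ g : Polynomial A, Polynomial.aeval x g = 0 ↔ P ∣ g := by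
    intro g
    constructor
    · intro hg
      have h2 : Polynomial.aeval ((1 : FractionRing A) ⊗ₜ[A] x)
          (g.map (algebraMap A (FractionRing A))) = 0 := by rw [← haev, hg, map_zero]
      have h3 := minpoly.dvd (FractionRing A) _ h2
      rw [← hP] at h3
      exact (Polynomial.map_dvd_map _ (IsFractionRing.injective A (FractionRing A)) hPmonic).mp h3
    · rintro ⟨q, rfl⟩
      apply hinc_inj
      rw [map_zero, haev, Polynomial.map_mul, hP, map_mul, minpoly.aeval, zero_mul]
  ext g
  rw [RingHom.mem_ker, Ideal.mem_span_singleton]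
  exact key g

end Groth.Agent.S17969
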