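import Groth.Statements.S17970
import Mathlib
import Groth.Agent.H89.Jacobson

set_option autoImplicit false
universe u
open Hensel

namespace Groth.Agent.S17970


open Groth.Agent.H89

theorem isUnit_of_isUnit_mk {B : Type*} [CommRing B] (J : Ideal B) (hJ : J ≤ Ideal.jacobson ⊥)
    (b : B) (h : IsUnit (Ideal.Quotient.mk J b)) : IsUnit b := by
  obtain ⟨c, hc⟩ := h.exists_right_inv
  obtain ⟨c, rfl⟩ := Ideal.Quotient.mk_surjective c
  have h1 : b * c - 1 ∈ J := by
    rw [← Ideal.Quotient.eq, map_mul, hc, map_one]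
  have h2 := Ideal.mem_jacobson_bot.mp (hJ h1) 1
  have h3 : IsUnit (b * c) := by
    convert h2 using 1
    ring
  exact isUnit_of_mul_isUnit_left h3

theorem forward {B : Type*} [CommRing B] (I : Ideal B) {ι : Type*} [Fintype ι] (C : ι → Type*)
    [∀ j, CommRing (C j)] [∀ j, IsLocalRing (C j)] (e : B ≃+* (∀ j, C j)) :
    Set.SurjOn (Ideal.Quotient.mk I) {e : B | IsIdempotentElem e} {e | IsIdempotentElem e} := by
  classical
  intro ebar hebar
  obtain ⟨b, rfl⟩ := Ideal.Quotient.mk_surjective ebar
  have hb : b * b - b ∈ I := by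
    have h : Ideal.Quotient.mk I b * Ideal.Quotient.mk I b = Ideal.Quotient.mk I b := hebar
    rw [← map_mul] at h
    exact Ideal.Quotient.eq.mp h
  let J : Ideal (∀ j, C j) := Ideal.comap (e.symm : (∀ j, C j) →+* B) I
  have memJ : ∀ y, y ∈ J ↔ e.symm y ∈ I := fun y => Iff.rfl
  have hcJ : e b * e b - e b ∈ J := by
    rw [memJ, map_sub, map_mul, RingEquiv.symm_apply_apply]
    exact hb
  let Jj : ∀ j, Ideal (C j) := fun j => Ideal.map (Pi.evalRingHom C j) J
  have memJj : ∀ j (y : C j), y ∈ Jj j ↔ ∃ x ∈ J, x j = y := by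
    intro j y
    exact Ideal.mem_map_iff_of_surjective (Pi.evalRingHom C j) (Function.surjective_eval j)
  have single_mem : ∀ j (y : C j), y ∈ Jj j → Pi.single j y ∈ J := by
    intro j y hy
    obtain ⟨x, hx, rfl⟩ := (memJj j y).mp hy
    have : (Pi.single j (x j) : ∀ j, C j) = Pi.single j 1 * x := by
      funext k
      rcases eq_or_ne k j with rfl | hk
      · simp
      · simp [Pi.single_eq_of_ne hk]
    rw [this]
    exact J.mul_mem_left _ hx
  have hcj : ∀ j, e b j * e b j - e b j ∈ Jj j :=
    fun j => (memJj j _).mpr ⟨e b * e b - e b, hcJ, rfl⟩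
  let ε : ∀ j, C j := fun j => if e b j - 1 ∈ Jj j then 1 else 0
  have hε : ∀ j, ε j - e b j ∈ Jj j := by
    intro j
    by_cases h : e b j - 1 ∈ Jj j
    · have h1 : ε j = 1 := if_pos h
      rw [h1]
      have := (Jj j).neg_mem h
      rwa [neg_sub] at this
    · have hε0 : ε j = 0 := if_neg h
      rw [hε0, zero_sub]
      refine (Jj j).neg_mem ?_
      rcases IsLocalRing.isUnit_or_isUnit_one_sub_self (e b j) with hu | hu
      · exfalso
        apply h
        have h1 : e b j * (e b j - 1) ∈ Jj j := by
          have := hcj j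
          convert this using 1
          ring
        exact (Ideal.unit_mul_mem_iff_mem _ hu).mp h1
      · have h1 : (1 - e b j) * e b j ∈ Jj j := by
          have := (Jj j).neg_mem (hcj j)
          convert this using 1
          ring
        exact (Ideal.unit_mul_mem_iff_mem _ hu).mp h1
  have hεidem : ε * ε = ε := by
    funext j
    by_cases h : e b j - 1 ∈ Jj j
    · simp [ε, h]
    · simp [ε, h]
  have hεc : ε - e b ∈ J := by
    have : ε - e b = ∑ j, Pi.single j ((ε - e b) j) := (Finset.univ_sum_single (ε - e b)).symm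
    rw [this]
    exact J.sum_mem fun j _ => single_mem j _ (hε j)
  refine ⟨e.symm ε, ?_, ?_⟩
  · show e.symm ε * e.symm ε = e.symm ε
    rw [← map_mul, hεidem]
  · refine Ideal.Quotient.eq.mpr ?_
    have := (memJ _).mp hεc
    rwa [map_sub, RingEquiv.symm_apply_apply] at this

theorem artinian_quot (A : Type*) [CommRing A] [IsLocalRing A] (B : Type*) [CommRing B]
    [Algebra A B] [Module.Finite A B] :
    IsArtinianRing (B ⧸ Ideal.map (algebraMap A B) (IsLocalRing.maximalIdeal A)) := by
  let : Field (A ⧸ IsLocalRing.maximalIdeal A) := Ideal.Quotient.field _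
  have : Module.Finite (A ⧸ IsLocalRing.maximalIdeal A)
      (B ⧸ Ideal.map (algebraMap A B) (IsLocalRing.maximalIdeal A)) :=
    Module.Finite.of_restrictScalars_finite A _ _
  exact IsArtinianRing.of_finite (A ⧸ IsLocalRing.maximalIdeal A) _

theorem backward {B : Type u} [CommRing B] (I : Ideal B) (hI : I ≤ Ideal.jacobson ⊥)
    [IsArtinianRing (B ⧸ I)]
    (H : Set.SurjOn (Ideal.Quotient.mk I) {e : B | IsIdempotentElem e} {e | IsIdempotentElem e}) :
    ∃ (ι : Type u) (_ : Fintype ι) (C : ι → Type u) (_ : ∀ j, CommRing (C j)),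
        (∀ j, IsLocalRing (C j)) ∧ Nonempty (B ≃+* (∀ j, C j)) := by
  classical
  have : Fintype (MaximalSpectrum (B ⧸ I)) := Fintype.ofFinite _
  let φ : (B ⧸ I) ≃+* ∀ n : MaximalSpectrum (B ⧸ I), Localization.AtPrime n.asIdeal :=
    (MaximalSpectrum.toPiLocalizationEquiv (B ⧸ I)).toRingEquiv
  let ε : MaximalSpectrum (B ⧸ I) → B ⧸ I := fun n => φ.symm (Pi.single n 1)
  have hεcoi : CompleteOrthogonalIdempotents ε := by
    have h := CompleteOrthogonalIdempotents.map
      (φ.symm : (∀ n : MaximalSpectrum (B ⧸ I), Localization.AtPrime n.asIdeal) →+* (B ⧸ I))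
      (CompleteOrthogonalIdempotents.single
        (fun n : MaximalSpectrum (B ⧸ I) => Localization.AtPrime n.asIdeal))
    exact h
  have hφε : ∀ n, φ (ε n) = Pi.single n 1 := fun n => φ.apply_symm_apply _
  have hlift : ∀ n, ∃ e : B, IsIdempotentElem e ∧ Ideal.Quotient.mk I e = ε n := by
    intro n
    obtain ⟨e, he, he'⟩ := H (hεcoi.idem n)
    exact ⟨e, he, he'⟩
  choose e he hemk using hlift
  have hortho : ∀ n m, n ≠ m → e n * e m = 0 := by
    intro n m hnm
    refine idem_eq_of_sub_mem_jacobson ((he n).mul (he m)) IsIdempotentElem.zero (hI ?_)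
    rw [sub_zero, ← Ideal.Quotient.eq_zero_iff_mem, map_mul, hemk, hemk]
    exact hεcoi.ortho hnm
  have hOI : OrthogonalIdempotents e := ⟨he, fun n m hnm => hortho n m hnm⟩
  have hcomplete : ∑ n, e n = 1 := by
    refine idem_eq_of_sub_mem_jacobson hOI.isIdempotentElem_sum IsIdempotentElem.one (hI ?_)
    rw [← Ideal.Quotient.eq, map_sum, map_one]
    simp_rw [hemk]
    exact hεcoi.complete
  have hcoi : CompleteOrthogonalIdempotents e := ⟨hOI, hcomplete⟩
  refine ⟨MaximalSpectrum (B ⧸ I), inferInstance, fun n => B ⧸ Ideal.span {1 - e n},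
    fun n => inferInstance, ?_, ⟨RingEquiv.ofBijective _ hcoi.bijective_pi⟩⟩
  intro n
  have hmk_e : Ideal.Quotient.mk (Ideal.span {1 - e n}) (e n) = 1 := by
    have : Ideal.Quotient.mk (Ideal.span {1 - e n}) (1 - e n) = 0 :=
      Ideal.Quotient.eq_zero_iff_mem.mpr (Ideal.subset_span rfl)
    rw [map_sub, map_one, sub_eq_zero] at this
    exact this.symm
  have key : ∀ b : B, IsUnit (φ (Ideal.Quotient.mk I b) n) →
      IsUnit (Ideal.Quotient.mk (Ideal.span {1 - e n}) b) := by
    intro b hb
    have hu : IsUnit (b * e n + (1 - e n)) := by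
      refine isUnit_of_isUnit_mk I hI _ ?_
      rw [← isUnit_map_iff φ, Pi.isUnit_iff]
      intro m
      have : φ (Ideal.Quotient.mk I (b * e n + (1 - e n))) =
          φ (Ideal.Quotient.mk I b) * Pi.single n 1 + (1 - Pi.single n 1) := by
        rw [map_add, map_mul, map_sub, map_one, hemk, map_add, map_mul, map_sub, map_one, hφε]
      rw [this]
      rcases eq_or_ne m n with rfl | hm
      · simpa using hb
      · simp [Pi.single_eq_of_ne hm]
    have := hu.map (Ideal.Quotient.mk (Ideal.span {1 - e n}))
    rwa [map_add, map_mul, map_sub, map_one, hmk_e, mul_one, sub_self, add_zero] at this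
  have : Nontrivial (B ⧸ Ideal.span {1 - e n}) := by
    refine Ideal.Quotient.nontrivial_iff.mpr ?_
    intro htop
    have h1 : (1 : B) ∈ Ideal.span {1 - e n} := by rw [htop]; trivial
    obtain ⟨r, hr⟩ := Ideal.mem_span_singleton'.mp h1
    have hen : e n = 0 := by
      have : e n = r * (1 - e n) * e n := by rw [hr, one_mul]
      rw [this, mul_assoc, sub_mul, one_mul, (he n).eq, sub_self, mul_zero]
    have h2 := hφε n
    rw [← hemk, hen, map_zero, map_zero] at h2
    have h3 := congrFun h2 n
    simp at h3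
  refine IsLocalRing.of_isUnit_or_isUnit_one_sub_self ?_
  intro c
  obtain ⟨b, rfl⟩ := Ideal.Quotient.mk_surjective c
  rcases IsLocalRing.isUnit_or_isUnit_one_sub_self (φ (Ideal.Quotient.mk I b) n) with h | h
  · exact Or.inl (key b h)
  · right
    have := key (1 - b) (by rwa [map_sub, map_one, map_sub, map_one, Pi.sub_apply, Pi.one_apply])
    rwa [map_sub, map_one] at this


/-- Let A be a local ring with maximal ideal m and B a commutative A-algebra which is finitely generated
as an A-module. Then B is ring-isomorphic to a finite product of local rings if and only if every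
idempotent of B/mB is the image of an idempotent of B. (Reduction modulo mB is always injective on
the idempotents of B, because mB lies in the Jacobson radical of B; so this surjectivity amounts to
the bijectivity on idempotents in the printed assertion.) -/
theorem result
    (A : Type u) [CommRing A] [IsLocalRing A] (B : Type u) [CommRing B] [Algebra A B] [Module.Finite A B] :
    (∃ (ι : Type u) (_ : Fintype ι) (C : ι → Type u) (_ : ∀ j, CommRing (C j)),
        (∀ j, IsLocalRing (C j)) ∧ Nonempty (B ≃+* (∀ j, C j))) ↔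
      Set.SurjOn (Ideal.Quotient.mk (Ideal.map (algebraMap A B) (IsLocalRing.maximalIdeal A)))
        {e : B | IsIdempotentElem e} {e | IsIdempotentElem e} := by
  constructor
  · rintro ⟨ι, hι, C, hC, hloc, ⟨e⟩⟩
    exact forward _ C e
  · intro H
    have := artinian_quot A B
    refine backward _ ?_ H
    have : Algebra.IsIntegral A B := Algebra.IsIntegral.of_finite A B
    refine map_le_jacobson_of_isIntegral _ ?_
    rw [IsLocalRing.jacobson_eq_maximalIdeal ⊥ bot_ne_top]

end Groth.Agent.S17970
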