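import Groth.Statements.S17971
import Mathlib
import Groth.Agent.H3.FEtH3
import Groth.Agent.H3.HPair8

set_option autoImplicit false
open CategoryTheory CategoryTheory.Limits AlgebraicGeometry
universe u
open Hensel

namespace Groth.Agent.S17971

open PrimeSpectrum

/-- converse direction, ring level -/
theorem bijOn_of_couple (A : Type u) [CommRing A] (I : Ideal A)
    (H : ∀ (Y : Scheme.{u}) (g : Y ⟶ Spec (CommRingCat.of A)), IsFinite g →
      ∀ V : Set ↥(pullback g (Spec.map (CommRingCat.ofHom (Ideal.Quotient.mk I)))), IsClopen V →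
        ∃! U : Set ↥Y, IsClopen U ∧
          (pullback.fst g (Spec.map (CommRingCat.ofHom (Ideal.Quotient.mk I)))).base ⁻¹' U = V)
    (B : Type u) [CommRing B] [Algebra A B] (hfin : Module.Finite A B) :
    Set.BijOn (Ideal.Quotient.mk (Ideal.map (algebraMap A B) I))
      {e : B | IsIdempotentElem e} {e | IsIdempotentElem e} := by
  obtain ⟨g, hg⟩ : ∃ g : Spec (CommRingCat.of B) ⟶ Spec (CommRingCat.of A),
      g = Spec.map (CommRingCat.ofHom (algebraMap A B)) := ⟨_, rfl⟩
  obtain ⟨j, hj⟩ : ∃ j : Spec (CommRingCat.of (A ⧸ I)) ⟶ Spec (CommRingCat.of A),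
      j = Spec.map (CommRingCat.ofHom (Ideal.Quotient.mk I)) := ⟨_, rfl⟩
  have hgfin : IsFinite g := by
    rw [hg, IsFinite.SpecMap_iff]
    exact RingHom.finite_algebraMap.mpr hfin
  have HH := H _ g hgfin
  rw [← hj] at HH
  haveI : IsClosedImmersion j := by rw [hj]; exact IsClosedImmersion.spec_of_surjective _ Ideal.Quotient.mk_surjective
  -- the range of `fst`
  have hjapp : ∀ z : PrimeSpectrum (A ⧸ I), j.base z = comap (Ideal.Quotient.mk I) z := by
    intro z; rw [hj]; rfl
  have hgapp : ∀ q : PrimeSpectrum B, g.base q = comap (algebraMap A B) q := by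
    intro q; rw [hg]; rfl
  have hrange : ∀ q : PrimeSpectrum B, (∃ p : ↥(pullback g j), (pullback.fst g j).base p = q) ↔
      Ideal.map (algebraMap A B) I ≤ q.asIdeal := by
    intro q
    constructor
    · rintro ⟨p, rfl⟩
      rw [Ideal.map_le_iff_le_comap]
      intro a ha
      have hcond : g.base ((pullback.fst g j).base p) = j.base ((pullback.snd g j).base p) := by
        rw [← Scheme.Hom.comp_apply, ← Scheme.Hom.comp_apply, pullback.condition]
      have h3 : a ∈ (j.base ((pullback.snd g j).base p)).asIdeal := by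
        rw [hjapp]
        change Ideal.Quotient.mk I a ∈ PrimeSpectrum.asIdeal ((pullback.snd g j).base p)
        rw [Ideal.Quotient.eq_zero_iff_mem.mpr ha]
        exact zero_mem _
      rw [← hcond, hgapp] at h3
      exact h3
    · intro hq
      have h2 : Set.range (comap (Ideal.Quotient.mk I)) = zeroLocus (I : Set A) := by
        have := range_comap_of_surjective (A ⧸ I) (Ideal.Quotient.mk I)
          Ideal.Quotient.mk_surjective
        rwa [Ideal.mk_ker] at this
      have h3 : comap (algebraMap A B) q ∈ zeroLocus (I : Set A) := by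
        rw [mem_zeroLocus]
        exact Ideal.map_le_iff_le_comap.mp hq
      rw [← h2] at h3
      obtain ⟨q', hq'⟩ := h3
      have h4 : g.base q = j.base q' := by
        rw [hgapp, hjapp]
        exact hq'.symm
      obtain ⟨p, hp1, -⟩ := Scheme.Pullback.exists_preimage_pullback (f := g) (g := j) q q' h4
      exact ⟨p, hp1⟩
  -- a clopen is determined by its trace on V(IB)
  have hfstinj : Function.Injective (pullback.fst g j).base :=
    (pullback.fst g j).isClosedEmbedding.injective
  have key : ∀ e₁ e₂ : B, IsIdempotentElem e₁ → IsIdempotentElem e₂ →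
      (∀ q : PrimeSpectrum B, Ideal.map (algebraMap A B) I ≤ q.asIdeal →
        (e₁ ∈ q.asIdeal ↔ e₂ ∈ q.asIdeal)) → e₁ = e₂ := by
    intro e₁ e₂ h₁ h₂ h
    have hc₁ : IsClopen (basicOpen e₁ : Set (PrimeSpectrum B)) :=
      PrimeSpectrum.isClopen_iff.mpr ⟨e₁, h₁, rfl⟩
    have hc₂ : IsClopen (basicOpen e₂ : Set (PrimeSpectrum B)) :=
      PrimeSpectrum.isClopen_iff.mpr ⟨e₂, h₂, rfl⟩
    have hpre : (pullback.fst g j).base ⁻¹' (basicOpen e₁ : Set (PrimeSpectrum B)) =
        (pullback.fst g j).base ⁻¹' (basicOpen e₂ : Set (PrimeSpectrum B)) := by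
      ext p
      have hp := (hrange _).mp ⟨p, rfl⟩
      change e₁ ∉ ((pullback.fst g j).base p).asIdeal ↔ e₂ ∉ ((pullback.fst g j).base p).asIdeal
      exact not_congr (h _ hp)
    have hV : IsClopen ((pullback.fst g j).base ⁻¹' (basicOpen e₁ : Set (PrimeSpectrum B))) :=
      hc₁.preimage (pullback.fst g j).continuous
    obtain ⟨U, -, hU⟩ := HH _ hV
    have e1 := hU _ ⟨hc₁, rfl⟩
    have e2 := hU _ ⟨hc₂, hpre.symm⟩
    have : basicOpen e₁ = basicOpen e₂ := TopologicalSpace.Opens.ext (e1.trans e2.symm)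
    exact basicOpen_injOn_isIdempotentElem h₁ h₂ this
  refine ⟨fun e he => he.map _, ?_, ?_⟩
  · intro e₁ h₁ e₂ h₂ h
    apply key e₁ e₂ h₁ h₂
    intro q hq
    have hmem : e₁ - e₂ ∈ q.asIdeal := hq (Ideal.Quotient.eq.mp h)
    constructor
    · intro h1
      have := q.asIdeal.sub_mem h1 hmem
      rwa [sub_sub_cancel] at this
    · intro h2
      have := q.asIdeal.add_mem hmem h2
      rwa [sub_add_cancel] at this
  · intro ē hē
    obtain ⟨b, rfl⟩ := Ideal.Quotient.mk_surjective ē
    have hb : b * (1 - b) ∈ Ideal.map (algebraMap A B) I := by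
      rw [← Ideal.Quotient.eq_zero_iff_mem, map_mul, map_sub, map_one, mul_sub, mul_one,
        hē.eq, sub_self]
    -- the clopen subset of the pullback
    obtain ⟨S₁, hS₁def⟩ : ∃ S₁ : Set (PrimeSpectrum B), S₁ = (basicOpen b : Set _) := ⟨_, rfl⟩
    obtain ⟨S₂, hS₂def⟩ : ∃ S₂ : Set (PrimeSpectrum B), S₂ = (basicOpen (1 - b) : Set _) :=
      ⟨_, rfl⟩
    have hS₁ : IsOpen S₁ := hS₁def ▸ (basicOpen b).2
    have hS₂ : IsOpen S₂ := hS₂def ▸ (basicOpen (1 - b)).2
    have hcompl : ((pullback.fst g j).base ⁻¹' S₁)ᶜ = (pullback.fst g j).base ⁻¹' S₂ := by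
      ext p
      have hp := (hrange _).mp ⟨p, rfl⟩
      have hmem := hp hb
      rw [hS₁def, hS₂def]
      change ¬ (b ∉ ((pullback.fst g j).base p).asIdeal) ↔
        (1 - b) ∉ ((pullback.fst g j).base p).asIdeal
      rw [not_not]
      constructor
      · intro h1 h2
        have := ((pullback.fst g j).base p).asIdeal.add_mem h1 h2
        rw [add_sub_cancel] at this
        exact ((pullback.fst g j).base p).2.ne_top ((Ideal.eq_top_iff_one _).mpr this)
      · intro h2
        exact (((pullback.fst g j).base p).2.mem_or_mem hmem).resolve_right h2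
    have hV : IsClopen ((pullback.fst g j).base ⁻¹' S₁) := by
      refine ⟨?_, hS₁.preimage (pullback.fst g j).continuous⟩
      rw [← isOpen_compl_iff, hcompl]
      exact hS₂.preimage (pullback.fst g j).continuous
    obtain ⟨U, ⟨hUc, hU⟩, -⟩ := HH _ hV
    obtain ⟨e, he, rfl⟩ := PrimeSpectrum.isClopen_iff.mp hUc
    refine ⟨e, he, ?_⟩
    -- compare `mk e` and `mk b` in the quotient
    have hc : ∀ q : PrimeSpectrum B, Ideal.map (algebraMap A B) I ≤ q.asIdeal →
        (e ∈ q.asIdeal ↔ b ∈ q.asIdeal) := by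
      intro q hq
      obtain ⟨p, rfl⟩ := (hrange q).mpr hq
      have := Set.ext_iff.mp hU p
      rw [hS₁def] at this
      change e ∉ ((pullback.fst g j).base p).asIdeal ↔ b ∉ ((pullback.fst g j).base p).asIdeal
        at this
      exact not_iff_not.mp this
    have hinj := basicOpen_injOn_isIdempotentElem (R := B ⧸ Ideal.map (algebraMap A B) I)
      (he.map (Ideal.Quotient.mk _)) hē
    apply hinj
    apply TopologicalSpace.Opens.ext
    ext q'
    have hq' : Ideal.map (algebraMap A B) I ≤
        (comap (Ideal.Quotient.mk (Ideal.map (algebraMap A B) I)) q').asIdeal := by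
      intro x hx
      show Ideal.Quotient.mk _ x ∈ q'.asIdeal
      rw [Ideal.Quotient.eq_zero_iff_mem.mpr hx]
      exact q'.asIdeal.zero_mem
    have := hc _ hq'
    change Ideal.Quotient.mk _ e ∉ q'.asIdeal ↔ Ideal.Quotient.mk _ b ∉ q'.asIdeal
    exact not_congr this


/-- For a commutative ring A and an ideal I, the pair (A, I) is henselian if and only if the couple
(Spec A, Spec (A/I)) is henselian, i.e. if and only if for every finite morphism g : Y ⟶ Spec A
every open-closed subset of Y ×_{Spec A} Spec (A/I) is the inverse image under the first projection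
of exactly one open-closed subset of Y. -/
theorem result (A : Type u) [CommRing A] (I : Ideal A) :
    HenselianRing A I ↔
    ∀ (Y : Scheme.{u}) (g : Y ⟶ Spec (CommRingCat.of A)), IsFinite g →
      ∀ V : Set ↥(pullback g (Spec.map (CommRingCat.ofHom (Ideal.Quotient.mk I)))), IsClopen V →
        ∃! U : Set ↥Y, IsClopen U ∧ (pullback.fst g (Spec.map (CommRingCat.ofHom (Ideal.Quotient.mk I)))).base ⁻¹' U = V := by
  constructor
  · intro hI Y g hg V hV
    haveI := hI
    haveI := hg
    exact H3.FEtH.existsUnique_clopen I g V hV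
  · intro H
    exact H3.henselianRing_of_bijOn_idempotents I (fun B _ _ hfin => bijOn_of_couple A I H B hfin)

end Groth.Agent.S17971
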