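import Groth.Statements.S17974
import Mathlib.RingTheory.Unramified.Finite
import Mathlib.RingTheory.Localization.Away.Basic

set_option autoImplicit false
universe u
open Unram

namespace Groth.Agent.S17974

/-- Let A be a commutative ring, B an unramified A-algebra (formally unramified and of finite type), C
an A-algebra, p a prime ideal of C, and u, v : B → C two A-algebra homomorphisms which agree after
composition with C → C/p. Then there is an element f of C not in p such that u and v agree after
composition with the localization map C → C[1/f]. -/
theorem result
    (A : Type u) [CommRing A] (B : Type u) [CommRing B] [Algebra A B]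
    [Algebra.FormallyUnramified A B] [Algebra.FiniteType A B]
    (C : Type u) [CommRing C] [Algebra A C] (p : Ideal C) [p.IsPrime]
    (u v : B →ₐ[A] C)
    (huv : (Ideal.Quotient.mk p).comp u.toRingHom = (Ideal.Quotient.mk p).comp v.toRingHom) :
    ∃ f : C, f ∉ p ∧
      (algebraMap C (Localization.Away f)).comp u.toRingHom =
        (algebraMap C (Localization.Away f)).comp v.toRingHom := by
  classical
  let w : TensorProduct A B B →ₐ[A] C := Algebra.TensorProduct.productMap u v
  let t := Algebra.FormallyUnramified.elem A B
  have h1 : ∀ b : B, (v b - u b) * w t = 0 := by
    intro b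
    have := congrArg w (Algebra.FormallyUnramified.one_tmul_sub_tmul_one_mul_elem (R := A) (S := B) b)
    simpa [w, map_mul, map_sub, Algebra.TensorProduct.productMap_apply_tmul] using this
  have h2 : Ideal.Quotient.mk p (w t) = 1 := by
    have key : ∀ z : TensorProduct A B B,
        Ideal.Quotient.mk p (w z) = Ideal.Quotient.mk p (u (Algebra.TensorProduct.lmul' A z)) := by
      intro z
      induction z using TensorProduct.induction_on with
      | zero => simp
      | tmul x y =>
        have hy : Ideal.Quotient.mk p (v y) = Ideal.Quotient.mk p (u y) :=
          (RingHom.congr_fun huv y).symm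
        simp [w, Algebra.TensorProduct.productMap_apply_tmul, map_mul, hy]
      | add x y hx hy => simp [map_add, hx, hy]
    rw [key, Algebra.FormallyUnramified.lmul_elem]
    simp
  refine ⟨w t, ?_, ?_⟩
  · intro hmem
    have : Ideal.Quotient.mk p (w t) = 0 := Ideal.Quotient.eq_zero_iff_mem.mpr hmem
    rw [h2] at this
    have hp : p ≠ ⊤ := Ideal.IsPrime.ne_top inferInstance
    exact hp ((Ideal.Quotient.subsingleton_iff).mp (subsingleton_of_zero_eq_one this.symm))
  · ext b
    have hu : IsUnit (algebraMap C (Localization.Away (w t)) (w t)) :=
      IsLocalization.Away.algebraMap_isUnit (w t)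
    have := congrArg (algebraMap C (Localization.Away (w t))) (h1 b)
    rw [map_mul, map_zero, map_sub] at this
    have h3 := (hu.mul_left_eq_zero).mp this
    simp only [RingHom.coe_comp, Function.comp_apply]
    exact (sub_eq_zero.mp h3).symm

end Groth.Agent.S17974
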