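import Groth.Statements.S17975
import Mathlib.RingTheory.Nakayama
import Mathlib.RingTheory.PowerBasis
import Mathlib.Algebra.Polynomial.Div

set_option autoImplicit false
universe u
open Hensel

namespace Groth.Agent.S17975

theorem aux
    (A : Type u) [CommRing A] [IsLocalRing A] (C : Type u) [CommRing C] [Algebra A C] [Module.Finite A C]
    (Q₀ : Polynomial (IsLocalRing.ResidueField A)) (hQ₀ : Q₀.Monic)
    (mC : Ideal C) (hmC : mC = Ideal.map (algebraMap A C) (IsLocalRing.maximalIdeal A))
    (e : (C ⧸ mC) ≃ₐ[A] AdjoinRoot Q₀)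
    (x : C) (hx : e (Ideal.Quotient.mk mC x) = AdjoinRoot.root Q₀) :
    Algebra.adjoin A {x} = ⊤ ∧
      ∃ Q : Polynomial A, Q.Monic ∧ Q.natDegree = Q₀.natDegree ∧
        Polynomial.map (IsLocalRing.residue A) Q = Q₀ ∧ Polynomial.aeval x Q = 0 := by
  classical
  let b := AdjoinRoot.powerBasisAux' hQ₀
  have hb : ∀ i : Fin Q₀.natDegree, b i = AdjoinRoot.root Q₀ ^ (i : ℕ) :=
    fun i => (AdjoinRoot.powerBasis' hQ₀).basis_eq_pow i
  have hres : ∀ (a : A) (y : AdjoinRoot Q₀), a • y = (IsLocalRing.residue A a) • y := by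
    intro a y
    rw [← algebraMap_smul (IsLocalRing.ResidueField A) a y]
    rfl
  have step1 : ∀ c : C, ∃ a : Fin Q₀.natDegree → A,
      c - ∑ i : Fin Q₀.natDegree, a i • x ^ (i : ℕ) ∈ mC := by
    intro c
    have hrepr := b.sum_repr (e (Ideal.Quotient.mk mC c))
    have hl : ∀ i : Fin Q₀.natDegree, ∃ a : A, IsLocalRing.residue A a =
        b.repr (e (Ideal.Quotient.mk mC c)) i := fun i => IsLocalRing.residue_surjective _
    choose a ha using hl
    refine ⟨a, ?_⟩
    rw [← Ideal.Quotient.eq_zero_iff_mem, map_sub, sub_eq_zero]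
    apply e.injective
    rw [← hrepr, map_sum, map_sum]
    apply Finset.sum_congr rfl
    intro i _
    have h1 : Ideal.Quotient.mk mC (a i • x ^ (i : ℕ)) = a i • (Ideal.Quotient.mk mC x) ^ (i : ℕ) := by
      rw [Algebra.smul_def, map_mul, map_pow, Algebra.smul_def]
      rfl
    rw [h1, map_smul, map_pow, hx, hres, ha i, hb i]
  set N : Submodule A C := Submodule.span A (Set.range fun i : Fin Q₀.natDegree => x ^ (i : ℕ)) with hN
  have hNtop : N = ⊤ := by
    rw [eq_top_iff]
    apply Submodule.le_of_le_smul_of_le_jacobson_bot (I := IsLocalRing.maximalIdeal A)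
      (Module.Finite.fg_top) (IsLocalRing.maximalIdeal_le_jacobson _)
    intro c _
    obtain ⟨a, ha⟩ := step1 c
    rw [Ideal.smul_top_eq_map, ← hmC]
    have : c = ∑ i : Fin Q₀.natDegree, a i • x ^ (i : ℕ) +
        (c - ∑ i : Fin Q₀.natDegree, a i • x ^ (i : ℕ)) := by ring
    rw [this]
    apply Submodule.add_mem_sup
    · exact Submodule.sum_mem _ (fun i _ => Submodule.smul_mem _ _ (Submodule.subset_span ⟨i, rfl⟩))
    · exact ha
  constructor
  · rw [eq_top_iff]
    intro c _
    have hc : c ∈ N := by rw [hNtop]; trivial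
    have hle : N ≤ Subalgebra.toSubmodule (Algebra.adjoin A {x}) := by
      rw [hN, Submodule.span_le]
      rintro _ ⟨i, rfl⟩
      exact Subalgebra.pow_mem _ (Algebra.subset_adjoin (Set.mem_singleton x)) _
    exact hle hc
  · have hxn : x ^ Q₀.natDegree ∈ N := by rw [hNtop]; trivial
    rw [hN, Submodule.mem_span_range_iff_exists_fun] at hxn
    obtain ⟨a, ha⟩ := hxn
    set p : Polynomial A := ∑ i : Fin Q₀.natDegree, Polynomial.C (a i) * Polynomial.X ^ (i : ℕ) with hp
    have hpdeg : p.degree < Q₀.natDegree := Polynomial.degree_sum_fin_lt a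
    set Q : Polynomial A := Polynomial.X ^ Q₀.natDegree - p with hQ
    have hQmonic : Q.Monic := Polynomial.monic_X_pow_sub hpdeg
    have hQdeg : Q.natDegree = Q₀.natDegree := by
      apply Polynomial.natDegree_eq_of_degree_eq_some
      rw [hQ, Polynomial.degree_sub_eq_left_of_degree_lt]
      · exact Polynomial.degree_X_pow _
      · rw [Polynomial.degree_X_pow]; exact hpdeg
    have hQx : Polynomial.aeval x Q = 0 := by
      rw [hQ, map_sub, map_pow, Polynomial.aeval_X, hp, map_sum, ← ha, sub_eq_zero]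
      apply Finset.sum_congr rfl
      intro i _
      rw [map_mul, Polynomial.aeval_C, map_pow, Polynomial.aeval_X, Algebra.smul_def]
    refine ⟨Q, hQmonic, hQdeg, ?_, hQx⟩
    have h2 : Polynomial.aeval (AdjoinRoot.root Q₀) Q = 0 := by
      let φ : C →ₐ[A] AdjoinRoot Q₀ := (e : (C ⧸ mC) →ₐ[A] AdjoinRoot Q₀).comp (Ideal.Quotient.mkₐ A mC)
      have hφx : φ x = AdjoinRoot.root Q₀ := hx
      rw [← hφx, Polynomial.aeval_algHom_apply, hQx, map_zero]
    have h3 : AdjoinRoot.mk Q₀ (Polynomial.map (IsLocalRing.residue A) Q) = 0 := by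
      rw [← h2, AdjoinRoot.aeval_eq_of_algebra]
      rfl
    have hdvd : Q₀ ∣ Polynomial.map (IsLocalRing.residue A) Q := AdjoinRoot.mk_eq_zero.mp h3
    have hmapmonic : (Polynomial.map (IsLocalRing.residue A) Q).Monic := hQmonic.map _
    apply Polynomial.eq_of_monic_of_dvd_of_natDegree_le hQ₀ hmapmonic hdvd
    rw [hQmonic.natDegree_map, hQdeg]


/-- Let A be a local ring with maximal ideal m and residue field k, C a commutative A-algebra which is
finitely generated as an A-module, Q₀ a monic polynomial of degree n over k, e an A-algebra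
isomorphism from C/mC to k[T]/(Q₀), and x an element of C whose class is sent by e to the class of
T. Then x generates C as an A-algebra, and x is a root of a monic polynomial Q over A of degree n
whose reduction modulo m equals Q₀. -/
theorem result
    (A : Type u) [CommRing A] [IsLocalRing A] (C : Type u) [CommRing C] [Algebra A C] [Module.Finite A C]
    (Q₀ : Polynomial (IsLocalRing.ResidueField A)) (hQ₀ : Q₀.Monic)
    (e : (C ⧸ Ideal.map (algebraMap A C) (IsLocalRing.maximalIdeal A)) ≃ₐ[A] AdjoinRoot Q₀)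
    (x : C) (hx : e (Ideal.Quotient.mk (Ideal.map (algebraMap A C) (IsLocalRing.maximalIdeal A)) x) = AdjoinRoot.root Q₀) :
    Algebra.adjoin A {x} = ⊤ ∧
      ∃ Q : Polynomial A, Q.Monic ∧ Q.natDegree = Q₀.natDegree ∧
        Polynomial.map (IsLocalRing.residue A) Q = Q₀ ∧ Polynomial.aeval x Q = 0 := by
  exact aux A C Q₀ hQ₀ _ rfl e x hx

end Groth.Agent.S17975
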