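import Groth.Statements.S17976
import Groth.Agent.H3.PH17

set_option autoImplicit false
universe u
open Hensel

namespace Groth.Agent.S17976

/-- Let A be a commutative ring, I an ideal of A and B an A-algebra of finite type such that B/IB is a
finite A-module. Then there exist an etale A-algebra A' such that A → A'/IA' is surjective with
kernel I, and a commutative ring C which is an A'-algebra finite over A' and an etale B-algebra,
with compatible A-algebra structures, such that B → C/IC is surjective with kernel IB. In scheme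
language: an etale affine neighbourhood S' of Spec (A/I) in Spec A and an etale neighbourhood Z =
Spec C of Spec (B/IB) in Spec B, finite over S', forming a commutative square. -/
theorem result
    (A : Type u) [CommRing A] (I : Ideal A) (B : Type u) [CommRing B] [Algebra A B] [Algebra.FiniteType A B]
    (hfin : Module.Finite A (B ⧸ Ideal.map (algebraMap A B) I)) :
    ∃ (A' : Type u) (_ : CommRing A') (_ : Algebra A A') (_ : Algebra.Etale A A')
      (C : Type u) (_ : CommRing C) (_ : Algebra A C) (_ : Algebra A' C) (_ : Algebra B C)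
      (_ : IsScalarTower A A' C) (_ : IsScalarTower A B C),
      Function.Surjective ((Ideal.Quotient.mk (Ideal.map (algebraMap A A') I)).comp (algebraMap A A')) ∧
      RingHom.ker ((Ideal.Quotient.mk (Ideal.map (algebraMap A A') I)).comp (algebraMap A A')) = I ∧
      Algebra.Etale B C ∧ Module.Finite A' C ∧
      Function.Surjective ((Ideal.Quotient.mk (Ideal.map (algebraMap A C) I)).comp (algebraMap B C)) ∧
      RingHom.ker ((Ideal.Quotient.mk (Ideal.map (algebraMap A C) I)).comp (algebraMap B C)) =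
        Ideal.map (algebraMap A B) I := by
  classical
  haveI := hfin
  obtain ⟨s, hs⟩ := (Algebra.FiniteType.out : (⊤ : Subalgebra A B).FG)
  obtain ⟨A', _, _, hEt, hbij, e', he', hI', hmon⟩ := Groth.Agent.H3.PH.exists_nbhd_split I B s
  letI iR : Algebra A' (TensorProduct A B A') := Algebra.TensorProduct.rightAlgebra
  obtain ⟨𝔠, h𝔠⟩ : ∃ 𝔠 : Ideal (TensorProduct A B A'), 𝔠 = Ideal.span {1 - e'} := ⟨_, rfl⟩
  have hfinC : Module.Finite A' ((TensorProduct A B A') ⧸ 𝔠) := by
    rw [h𝔠]; exact Groth.Agent.H3.PH.finite_quotient_of_monic_eq s hs e' he' hmon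
  haveI : IsLocalization.Away e' ((TensorProduct A B A') ⧸ 𝔠) := by
    rw [h𝔠]; exact IsLocalization.Away.quotient_of_isIdempotentElem he'
  haveI : Algebra.Etale (TensorProduct A B A') ((TensorProduct A B A') ⧸ 𝔠) :=
    Algebra.Etale.of_isLocalizationAway e'
  haveI : Algebra.Etale B (TensorProduct A B A') := inferInstance
  have hEtBC : Algebra.Etale B ((TensorProduct A B A') ⧸ 𝔠) :=
    Algebra.Etale.comp B (TensorProduct A B A') _
  have hIT : ∀ x : TensorProduct A B A', x ∈ (I • ⊤ : Submodule A (TensorProduct A B A')) ↔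
      x ∈ I.map (algebraMap A (TensorProduct A B A')) := by
    intro x; rw [Ideal.smul_top_eq_map]; rfl
  have h𝔠le : 𝔠 ≤ I.map (algebraMap A (TensorProduct A B A')) := by
    rw [h𝔠, Ideal.span_le, Set.singleton_subset_iff]; exact (hIT _).mp hI'
  have hIC : I.map (algebraMap A ((TensorProduct A B A') ⧸ 𝔠)) =
      (I.map (algebraMap A (TensorProduct A B A'))).map (Ideal.Quotient.mk 𝔠) := by
    rw [Ideal.map_map]; rfl
  have hsurjA : Function.Surjective
      ((Ideal.Quotient.mk (Ideal.map (algebraMap A A') I)).comp (algebraMap A A')) := by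
    intro z
    obtain ⟨w, rfl⟩ := hbij.2 z
    obtain ⟨a, rfl⟩ := Ideal.Quotient.mk_surjective w
    exact ⟨a, (Ideal.quotientMap_mk).symm⟩
  refine ⟨A', inferInstance, inferInstance, hEt, (TensorProduct A B A') ⧸ 𝔠, inferInstance,
    inferInstance, inferInstance, inferInstance, inferInstance, inferInstance, hsurjA, ?_, hEtBC,
    hfinC, ?_, ?_⟩
  · ext a
    rw [RingHom.mem_ker]
    change Ideal.Quotient.mk _ (algebraMap A A' a) = 0 ↔ a ∈ I
    constructor
    · intro h
      have h1 : Ideal.quotientMap (I.map (algebraMap A A')) (algebraMap A A') Ideal.le_comap_map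
          (Ideal.Quotient.mk I a) = 0 := by rw [Ideal.quotientMap_mk]; exact h
      have h2 := hbij.1 (h1.trans (map_zero _).symm)
      exact Ideal.Quotient.eq_zero_iff_mem.mp h2
    · intro ha
      exact Ideal.Quotient.eq_zero_iff_mem.mpr (Ideal.mem_map_of_mem _ ha)
  · -- surjectivity of `B → C/IC`
    have hA' : ∀ a' : A', ∃ a : A, a' - algebraMap A A' a ∈ I.map (algebraMap A A') := by
      intro a'
      obtain ⟨a, ha⟩ := hsurjA (Ideal.Quotient.mk _ a')
      exact ⟨a, by rw [← Ideal.Quotient.eq]; exact ha.symm⟩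
    have key : ∀ t : TensorProduct A B A', ∃ b : B,
        t - b ⊗ₜ[A] (1 : A') ∈ I.map (algebraMap A (TensorProduct A B A')) := by
      intro t
      induction t using TensorProduct.induction_on with
      | zero => exact ⟨0, by simp⟩
      | tmul b a' =>
        obtain ⟨a, ha⟩ := hA' a'
        refine ⟨a • b, ?_⟩
        have h1 : b ⊗ₜ[A] a' - (a • b) ⊗ₜ[A] (1 : A') = b ⊗ₜ[A] (a' - algebraMap A A' a) := by
          rw [TensorProduct.tmul_sub, TensorProduct.smul_tmul, Algebra.smul_def, mul_one]
        rw [h1, ← hIT]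
        have ha' : a' - algebraMap A A' a ∈ (I • ⊤ : Submodule A A') := by
          rw [Ideal.smul_top_eq_map]; exact ha
        exact Groth.Agent.H3.PH.mem_smul_top_map (TensorProduct.mk A B A' b) I ha'
      | add t₁ t₂ h₁ h₂ =>
        obtain ⟨b₁, hb₁⟩ := h₁
        obtain ⟨b₂, hb₂⟩ := h₂
        refine ⟨b₁ + b₂, ?_⟩
        have : t₁ + t₂ - (b₁ + b₂) ⊗ₜ[A] (1 : A') =
            (t₁ - b₁ ⊗ₜ[A] (1 : A')) + (t₂ - b₂ ⊗ₜ[A] (1 : A')) := by
          rw [TensorProduct.add_tmul]; ring
        rw [this]
        exact Ideal.add_mem _ hb₁ hb₂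
    intro z
    obtain ⟨c, rfl⟩ := Ideal.Quotient.mk_surjective z
    obtain ⟨t, rfl⟩ := Ideal.Quotient.mk_surjective c
    obtain ⟨b, hb⟩ := key t
    refine ⟨b, ?_⟩
    change Ideal.Quotient.mk _ (Ideal.Quotient.mk 𝔠 (b ⊗ₜ[A] (1 : A'))) =
      Ideal.Quotient.mk _ (Ideal.Quotient.mk 𝔠 t)
    rw [Ideal.Quotient.eq, hIC, ← map_sub]
    apply Ideal.mem_map_of_mem
    rw [← Ideal.neg_mem_iff, neg_sub]
    exact hb
  · -- kernel of `B → C/IC`
    obtain ⟨χ'⟩ := Groth.Agent.H3.PH.exists_point_of_nbhd I A' hbij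
    let β₀ : A ⧸ I →ₐ[A] B ⧸ I.map (algebraMap A B) :=
      Ideal.Quotient.liftₐ I (Algebra.ofId A (B ⧸ I.map (algebraMap A B))) (by
        intro a ha
        rw [Algebra.ofId_apply, IsScalarTower.algebraMap_apply A B (B ⧸ I.map (algebraMap A B)),
          Ideal.Quotient.algebraMap_eq, Ideal.Quotient.eq_zero_iff_mem]
        exact Ideal.mem_map_of_mem _ ha)
    let ρ : TensorProduct A B A' →ₐ[A] B ⧸ I.map (algebraMap A B) :=
      Algebra.TensorProduct.lift (Ideal.Quotient.mkₐ A _) (β₀.comp χ')
        (fun _ _ => Commute.all _ _)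
    have hρ1 : ∀ b : B, ρ (b ⊗ₜ[A] (1 : A')) = Ideal.Quotient.mk _ b := by
      intro b; simp [ρ]
    have hρI : ∀ x ∈ I.map (algebraMap A (TensorProduct A B A')), ρ x = 0 := by
      intro x hx
      have hx' := (hIT x).mpr hx
      refine Submodule.smul_induction_on hx' ?_ ?_
      · intro i hi t _
        rw [map_smul, Algebra.smul_def]
        have : algebraMap A (B ⧸ I.map (algebraMap A B)) i = 0 := by
          rw [IsScalarTower.algebraMap_apply A B (B ⧸ I.map (algebraMap A B)),
            Ideal.Quotient.algebraMap_eq, Ideal.Quotient.eq_zero_iff_mem]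
          exact Ideal.mem_map_of_mem _ hi
        rw [this, zero_mul]
      · intro a b ha hb
        rw [map_add, ha, hb, add_zero]
    ext b
    rw [RingHom.mem_ker]
    constructor
    · intro h
      change Ideal.Quotient.mk _ (Ideal.Quotient.mk 𝔠 (b ⊗ₜ[A] (1 : A'))) = 0 at h
      rw [Ideal.Quotient.eq_zero_iff_mem, hIC] at h
      obtain ⟨y, hy, hyb⟩ := (Ideal.mem_map_iff_of_surjective (Ideal.Quotient.mk 𝔠)
        Ideal.Quotient.mk_surjective).mp h
      have h1 : y - b ⊗ₜ[A] (1 : A') ∈ 𝔠 := Ideal.Quotient.eq.mp hyb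
      have h2 : b ⊗ₜ[A] (1 : A') ∈ I.map (algebraMap A (TensorProduct A B A')) := by
        have := Ideal.sub_mem _ hy (h𝔠le h1)
        simpa using this
      have h3 := hρI _ h2
      rw [hρ1] at h3
      exact Ideal.Quotient.eq_zero_iff_mem.mp h3
    · intro hb
      change Ideal.Quotient.mk _ (algebraMap B ((TensorProduct A B A') ⧸ 𝔠) b) = 0
      rw [Ideal.Quotient.eq_zero_iff_mem]
      have := Ideal.mem_map_of_mem (algebraMap B ((TensorProduct A B A') ⧸ 𝔠)) hb
      rw [Ideal.map_map, ← IsScalarTower.algebraMap_eq] at this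
      exact this

end Groth.Agent.S17976
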