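import Groth.Statements.S17978
import Groth.Agent.S17974

set_option autoImplicit false
universe u
open EGA4loc

namespace Groth.Agent.S17978

/-- Let A be a local ring, B a local ring which is a local-etale A-algebra, and C a local ring with a
local structure map A → C. Then two A-algebra homomorphisms B → C which agree after composition with
the residue map of C are equal; in other words an A-algebra map B → C is determined by the map it
induces on residue fields. (The source states this for local ind-etale B and reduces to the
local-etale case stated here; C is an arbitrary local A-algebra with local structure map.) -/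
theorem result (A : Type u) [CommRing A] [IsLocalRing A]
    (B : Type u) [CommRing B] [IsLocalRing B] [Algebra A B] (hB : EGA4loc.IsEssentiallyEtale A B)
    (C : Type u) [CommRing C] [IsLocalRing C] [Algebra A C] [IsLocalHom (algebraMap A C)]
    (u v : B →ₐ[A] C)
    (h : (IsLocalRing.residue C).comp u.toRingHom = (IsLocalRing.residue C).comp v.toRingHom) :
    u = v := by
  obtain ⟨C₀, _, _, q, _, hEt, _, ⟨e⟩⟩ := hB
  let ℓ : C₀ →ₐ[A] Localization.AtPrime q := IsScalarTower.toAlgHom A C₀ (Localization.AtPrime q)
  let u' : C₀ →ₐ[A] C := (u.comp e.symm.toAlgHom).comp ℓ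
  let v' : C₀ →ₐ[A] C := (v.comp e.symm.toAlgHom).comp ℓ
  have huv : (Ideal.Quotient.mk (IsLocalRing.maximalIdeal C)).comp u'.toRingHom =
      (Ideal.Quotient.mk (IsLocalRing.maximalIdeal C)).comp v'.toRingHom := by
    ext x
    exact RingHom.congr_fun h (e.symm (ℓ x))
  obtain ⟨f, hf, hfe⟩ := Groth.Agent.S17974.result A C₀ C (IsLocalRing.maximalIdeal C) u' v' huv
  have hfu : IsUnit f := by
    by_contra hnu
    exact hf ((IsLocalRing.mem_maximalIdeal f).mpr hnu)
  have hinj : Function.Injective (algebraMap C (Localization.Away f)) := by
    intro x y hxy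
    obtain ⟨⟨c, hc⟩, hc'⟩ := (IsLocalization.eq_iff_exists (Submonoid.powers f) (Localization.Away f)).mp hxy
    obtain ⟨k, rfl⟩ := hc
    exact (hfu.pow k).mul_left_cancel hc'
  have h1 : ∀ x : C₀, u' x = v' x := fun x => hinj (RingHom.congr_fun hfe x)
  have h2 : (u.comp e.symm.toAlgHom).toRingHom = (v.comp e.symm.toAlgHom).toRingHom := by
    apply IsLocalization.ringHom_ext q.primeCompl (S := Localization.AtPrime q)
    ext x
    exact h1 x
  ext b
  have := RingHom.congr_fun h2 (e b)
  simpa using this

end Groth.Agent.S17978
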