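import Groth.Statements.S17979
import Mathlib.RingTheory.AdjoinRoot
import Mathlib.RingTheory.Ideal.GoingUp
import Mathlib.RingTheory.Polynomial.Basic

set_option autoImplicit false
universe u
open Hensel

namespace Groth.Agent.S17979

/-- Let A be a local ring with residue field k and Q, R polynomials over A with Q monic. If the images
of Q and R in k[T] generate the unit ideal, then Q and R already generate the unit ideal of A[T]. -/
theorem result (A : Type u) [CommRing A] [IsLocalRing A]
    (Q R : Polynomial A) (hQ : Q.Monic)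
    (h : IsCoprime (Polynomial.map (IsLocalRing.residue A) Q) (Polynomial.map (IsLocalRing.residue A) R)) :
    IsCoprime Q R := by
  classical
  haveI : Module.Finite A (AdjoinRoot Q) := hQ.finite_adjoinRoot
  haveI : Algebra.IsIntegral A (AdjoinRoot Q) := Algebra.IsIntegral.of_finite A (AdjoinRoot Q)
  obtain ⟨a, b, hab⟩ := h
  obtain ⟨a', rfl⟩ := Polynomial.map_surjective (IsLocalRing.residue A) IsLocalRing.residue_surjective a
  obtain ⟨b', rfl⟩ := Polynomial.map_surjective (IsLocalRing.residue A) IsLocalRing.residue_surjective b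
  set P : Polynomial A := a' * Q + b' * R - 1 with hP
  have hPm : P ∈ Ideal.map Polynomial.C (IsLocalRing.maximalIdeal A) := by
    rw [Ideal.mem_map_C_iff]
    intro n
    rw [← IsLocalRing.residue_eq_zero_iff, ← Polynomial.coeff_map]
    have : Polynomial.map (IsLocalRing.residue A) P = 0 := by
      rw [hP, Polynomial.map_sub, Polynomial.map_add, Polynomial.map_mul, Polynomial.map_mul,
        Polynomial.map_one, hab, sub_self]
    rw [this, Polynomial.coeff_zero]
  -- the image of R in AdjoinRoot Q is a unit
  have hunit : IsUnit (AdjoinRoot.mk Q R) := by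
    by_contra hnu
    obtain ⟨n, hn, hrn⟩ := exists_max_ideal_of_mem_nonunits (mem_nonunits_iff.mpr hnu)
    haveI := hn
    have hmax : (n.comap (algebraMap A (AdjoinRoot Q))).IsMaximal :=
      Ideal.isMaximal_comap_of_isIntegral_of_isMaximal n
    have hm : n.comap (algebraMap A (AdjoinRoot Q)) = IsLocalRing.maximalIdeal A :=
      IsLocalRing.eq_maximalIdeal hmax
    have hle : Ideal.map Polynomial.C (IsLocalRing.maximalIdeal A) ≤ n.comap (AdjoinRoot.mk Q) := by
      rw [Ideal.map_le_iff_le_comap, ← hm]
      intro x hx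
      rw [Ideal.mem_comap] at hx ⊢
      rw [Ideal.mem_comap, AdjoinRoot.mk_C]
      exact hx
    have hPn : AdjoinRoot.mk Q P ∈ n := hle hPm
    have h1 : (1 : AdjoinRoot Q) = AdjoinRoot.mk Q b' * AdjoinRoot.mk Q R - AdjoinRoot.mk Q P := by
      rw [hP, map_sub, map_add, map_mul, map_mul, map_one, AdjoinRoot.mk_self, mul_zero, zero_add]
      ring
    have : (1 : AdjoinRoot Q) ∈ n := by
      rw [h1]
      exact n.sub_mem (n.mul_mem_left _ hrn) hPn
    exact hn.ne_top ((Ideal.eq_top_iff_one n).mpr this)
  obtain ⟨s, hs⟩ := hunit.exists_right_inv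
  obtain ⟨S, rfl⟩ := AdjoinRoot.mk_surjective s
  have h2 : AdjoinRoot.mk Q (R * S - 1) = 0 := by
    rw [map_sub, map_mul, hs, map_one, sub_self]
  obtain ⟨W, hW⟩ := AdjoinRoot.mk_eq_zero.mp h2
  refine ⟨-W, S, ?_⟩
  have : R * S = Q * W + 1 := by rw [← hW]; ring
  rw [mul_comm S R, this]
  ring

end Groth.Agent.S17979
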