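import Groth.Statements.S17980
import Groth.Agent.S17979
import Mathlib.Algebra.Polynomial.Div

set_option autoImplicit false
universe u
open Hensel

namespace Groth.Agent.S17980

/-- Let A be a local ring with residue field k, and let Q R = U V be two factorizations of one
polynomial over A with Q and U monic, such that Q and U have the same image in k[T], R and V have
the same image in k[T], and the images of Q and R in k[T] generate the unit ideal. Then Q = U and R
= V. -/
theorem result (A : Type u) [CommRing A] [IsLocalRing A]
    (Q R U V : Polynomial A) (hQ : Q.Monic) (hU : U.Monic)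
    (hQU : Polynomial.map (IsLocalRing.residue A) Q = Polynomial.map (IsLocalRing.residue A) U)
    (hRV : Polynomial.map (IsLocalRing.residue A) R = Polynomial.map (IsLocalRing.residue A) V)
    (hcop : IsCoprime (Polynomial.map (IsLocalRing.residue A) Q) (Polynomial.map (IsLocalRing.residue A) R))
    (h : Q * R = U * V) : Q = U ∧ R = V := by
  have hQV : IsCoprime Q V := by
    apply Groth.Agent.S17979.result A Q V hQ
    rw [← hRV]; exact hcop
  have hUR : IsCoprime U R := by
    apply Groth.Agent.S17979.result A U R hU
    rw [← hQU]; exact hcop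
  have hQdU : Q ∣ U := hQV.dvd_of_dvd_mul_right (h ▸ Dvd.intro R rfl)
  have hUdQ : U ∣ Q := hUR.dvd_of_dvd_mul_right (h.symm ▸ Dvd.intro V rfl)
  have hdeg : ∀ {P P' : Polynomial A}, P.Monic → P'.Monic → P ∣ P' → P.natDegree ≤ P'.natDegree := by
    intro P P' hP hP' hd
    obtain ⟨W, rfl⟩ := hd
    have hW : W ≠ 0 := by
      rintro rfl
      rw [mul_zero] at hP'
      exact hP'.ne_zero rfl
    rw [hP.natDegree_mul' hW]
    exact Nat.le_add_right _ _
  have hQU' : U = Q :=
    Polynomial.eq_of_monic_of_dvd_of_natDegree_le hQ hU hQdU (hdeg hU hQ hUdQ)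
  subst hQU'
  exact ⟨rfl, hU.isRegular.left h⟩

end Groth.Agent.S17980
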