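import Groth.Statements.S17982
import Mathlib

set_option autoImplicit false
universe u
open Hensel

namespace Groth.Agent.S17982


theorem local_bij (C : Type u) [CommRing C] [IsLocalRing C] :
    Function.Bijective
      (algebraMap C (Localization.AtPrime (IsLocalRing.maximalIdeal C))) := by
  have hle : (IsLocalRing.maximalIdeal C).primeCompl ≤ IsUnit.submonoid C := by
    intro x hx
    exact IsLocalRing.notMem_maximalIdeal.mp hx
  exact (IsLocalization.atUnits C (IsLocalRing.maximalIdeal C).primeCompl
    (S := Localization.AtPrime (IsLocalRing.maximalIdeal C)) hle).bijective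

theorem pi_local_surj {ι : Type u} [Finite ι] (C : ι → Type u) [∀ j, CommRing (C j)]
    [∀ j, IsLocalRing (C j)] :
    Function.Surjective (MaximalSpectrum.toPiLocalization (Π j, C j)) := by
  classical
  intro y
  have hMmax : ∀ j, ((IsLocalRing.maximalIdeal (C j)).comap (Pi.evalRingHom C j)).IsMaximal :=
    fun j => Ideal.comap_isMaximal_of_surjective _ (Function.surjective_eval j)
  let nj : ι → MaximalSpectrum (Π j, C j) := fun j => ⟨_, hMmax j⟩
  have hclass : ∀ n : MaximalSpectrum (Π j, C j), ∃ j, n = nj j := by
    intro n
    obtain ⟨⟨j, p⟩, hp⟩ := (PrimeSpectrum.sigmaToPi_bijective C).2 n.toPrimeSpectrum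
    refine ⟨j, ?_⟩
    have h1 : n.asIdeal = p.asIdeal.comap (Pi.evalRingHom C j) := by
      have h0 := congrArg PrimeSpectrum.asIdeal hp
      exact h0.symm
    have h2 : p.asIdeal ≤ IsLocalRing.maximalIdeal (C j) :=
      IsLocalRing.le_maximalIdeal p.isPrime.ne_top
    have h3 : n.asIdeal ≤ (nj j).asIdeal := by
      rw [h1]; exact Ideal.comap_mono h2
    have h4 := n.isMaximal.eq_of_le (hMmax j).ne_top h3
    exact MaximalSpectrum.ext h4
  have hc : ∀ j, ∃ c : C j, algebraMap (C j) (Localization.AtPrime (IsLocalRing.maximalIdeal (C j))) c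
      = Localization.AtPrime.mapPiEvalRingHom (IsLocalRing.maximalIdeal (C j)) (y (nj j)) :=
    fun j => (local_bij (C j)).2 _
  choose c hc using hc
  refine ⟨fun j => c j, ?_⟩
  funext n
  obtain ⟨j, rfl⟩ := hclass n
  apply (Localization.AtPrime.mapPiEvalRingHom_bijective (IsLocalRing.maximalIdeal (C j))).1
  rw [MaximalSpectrum.toPiLocalization_apply_apply]
  rw [Localization.AtPrime.mapPiEvalRingHom_algebraMap_apply]
  exact hc j


/-- Let A be a local ring and B a commutative A-algebra which is finitely generated as an A-module. Then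
B is ring-isomorphic to a finite product of local rings if and only if the canonical homomorphism
from B to the product of the localizations of B at its maximal ideals is bijective. -/
theorem result
    (A : Type u) [CommRing A] [IsLocalRing A] (B : Type u) [CommRing B] [Algebra A B] [Module.Finite A B] :
    (∃ (ι : Type u) (_ : Fintype ι) (C : ι → Type u) (_ : ∀ j, CommRing (C j)),
        (∀ j, IsLocalRing (C j)) ∧ Nonempty (B ≃+* (∀ j, C j))) ↔
    Function.Bijective
      (RingHom.pi (fun n : MaximalSpectrum B => algebraMap B (Localization.AtPrime n.asIdeal))) := by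
  classical
  have hcoe : ⇑(RingHom.pi (fun n : MaximalSpectrum B =>
      algebraMap B (Localization.AtPrime n.asIdeal))) = ⇑(MaximalSpectrum.toPiLocalization B) := by
    funext b
    funext n
    rfl
  rw [hcoe]
  constructor
  · rintro ⟨ι, hι, C, hC, hloc, ⟨e⟩⟩
    refine ⟨MaximalSpectrum.toPiLocalization_injective B, ?_⟩
    have hnat := MaximalSpectrum.mapPiLocalization_naturality (e : B →+* (Π j, C j)) e.bijective
    have hbij := MaximalSpectrum.mapPiLocalization_bijective (e : B →+* (Π j, C j)) e.bijective
    have hsurjC := pi_local_surj C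
    -- toPiLocalization B = (mapPiLocalization e)⁻¹ ∘ toPiLocalization (Π C) ∘ e
    intro y
    obtain ⟨r, hr⟩ := hsurjC (MaximalSpectrum.mapPiLocalization (e : B →+* (Π j, C j)) e.bijective y)
    obtain ⟨b, rfl⟩ := e.surjective r
    refine ⟨b, ?_⟩
    apply hbij.1
    have h1 := congrArg (fun φ : B →+* MaximalSpectrum.PiLocalization (Π j, C j) => φ b) hnat
    simp only [RingHom.comp_apply] at h1
    exact h1.trans hr
  · intro hb
    have hfin : Finite (MaximalSpectrum B) :=
      MaximalSpectrum.finite_of_toPiLocalization_surjective hb.2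
    have hft : Fintype (MaximalSpectrum B) := Fintype.ofFinite _
    refine ⟨MaximalSpectrum B, hft, fun n => Localization.AtPrime n.asIdeal, fun n => inferInstance,
      fun n => inferInstance, ⟨RingEquiv.ofBijective (MaximalSpectrum.toPiLocalization B) hb⟩⟩

end Groth.Agent.S17982
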