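import Groth.Statements.S17983
import Mathlib.Tactic
import Mathlib.Analysis.Complex.Polynomial.Basic
import Mathlib.Algebra.Polynomial.Splits
import Mathlib.FieldTheory.IsAlgClosed.Basic

set_option autoImplicit false
universe u
open WeilNum

namespace Groth.Agent.S17983


open Polynomial ComplexConjugate

theorem weil_core (P : Polynomial ℤ) (hP : P.Monic) (q : ℝ) (hq : 0 < q)
    (hweil : ∀ z ∈ P.aroots ℂ, ‖z‖ = Real.sqrt q)
    (hnr : ∀ z ∈ P.aroots ℂ, z.im ≠ 0) :
    ∃ d : ℕ, P.natDegree = 2 * d ∧ ∀ k ≤ P.natDegree,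
      ((P.coeff (P.natDegree - k) : ℤ) : ℂ) * (q : ℂ) ^ (P.natDegree - k) =
        (q : ℂ) ^ d * ((P.coeff k : ℤ) : ℂ) := by
  obtain ⟨PC, hPC⟩ : ∃ PC : Polynomial ℂ, PC = P.map (algebraMap ℤ ℂ) := ⟨_, rfl⟩
  have hPCm : PC.Monic := by rw [hPC]; exact hP.map _
  have hdeg : PC.natDegree = P.natDegree := by rw [hPC]; exact hP.natDegree_map _
  have hsplit : PC.Splits := IsAlgClosed.splits PC
  obtain ⟨R, hR⟩ : ∃ R : Multiset ℂ, R = PC.roots := ⟨_, rfl⟩
  have hRa : R = P.aroots ℂ := by rw [hR, hPC, Polynomial.aroots_def]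
  have hcard : R.card = P.natDegree := by rw [hR, ← hsplit.natDegree_eq_card_roots, hdeg]
  have hc : ∀ j, PC.coeff j = ((P.coeff j : ℤ) : ℂ) := fun j => by
    rw [hPC, coeff_map, eq_intCast]
  have heval : ∀ x : ℂ, PC.eval x = (R.map (fun z => x - z)).prod := by
    intro x
    rw [hsplit.eval_eq_prod_roots, hPCm.leadingCoeff, one_mul, hR]
  have hqC : ∀ z ∈ R, z * conj z = (q : ℂ) := by
    intro z hz
    rw [Complex.mul_conj, Complex.normSq_eq_norm_sq, hweil z (hRa ▸ hz), Real.sq_sqrt hq.le]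
  have hconjP : PC.map (starRingEnd ℂ) = PC := by
    rw [hPC, Polynomial.map_map]
    congr 1
    exact RingHom.ext_int _ _
  have hconjR : R.map (starRingEnd ℂ) = R := by
    rw [hR, ← hsplit.roots_map (starRingEnd ℂ), hconjP]
  -- main identity
  have hI : ∀ x : ℂ, x ≠ 0 →
      x ^ P.natDegree * PC.eval ((q : ℂ) / x) = PC.eval 0 * PC.eval x := by
    intro x hx
    have e1 : (R.map (fun z => x - z)).prod = (R.map (fun z => x - conj z)).prod := by
      have : (R.map (starRingEnd ℂ)).map (fun z => x - z) = R.map (fun z => x - conj z) := by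
        rw [Multiset.map_map]; rfl
      rw [← this, hconjR]
    have e2 : x ^ R.card * (R.map (fun z => (q : ℂ) / x - z)).prod =
        (R.map (fun z => x * ((q : ℂ) / x - z))).prod := by
      rw [Multiset.prod_map_mul, Multiset.map_const', Multiset.prod_replicate]
    have e3 : (R.map (fun z => (0 : ℂ) - z)).prod * (R.map (fun z => x - conj z)).prod =
        (R.map (fun z => ((0 : ℂ) - z) * (x - conj z))).prod := by
      rw [Multiset.prod_map_mul]
    have e4 : R.map (fun z => x * ((q : ℂ) / x - z)) =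
        R.map (fun z => ((0 : ℂ) - z) * (x - conj z)) := by
      apply Multiset.map_congr rfl
      intro z hz
      have hz' := hqC z hz
      have h5 : x * ((q : ℂ) / x - z) = (q : ℂ) - x * z := by
        rw [mul_sub, mul_div_assoc', mul_comm x (q : ℂ), mul_div_assoc, div_self hx, mul_one]
      rw [h5, ← hz']
      ring
    rw [heval ((q : ℂ) / x), heval 0, heval x, ← hcard, e2, e1, e3, e4]
  -- the reversed polynomial
  obtain ⟨QC, hQC⟩ : ∃ QC : Polynomial ℂ, QC = ∑ j ∈ Finset.range (P.natDegree + 1),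
      C (PC.coeff j * (q : ℂ) ^ j) * X ^ (P.natDegree - j) := ⟨_, rfl⟩
  have hQeval : ∀ x : ℂ, x ≠ 0 →
      QC.eval x = x ^ P.natDegree * PC.eval ((q : ℂ) / x) := by
    intro x hx
    rw [hQC, Polynomial.eval_finsetSum, Polynomial.eval_eq_sum_range, hdeg, Finset.mul_sum]
    apply Finset.sum_congr rfl
    intro j hj
    have hj' : j ≤ P.natDegree := Nat.lt_succ_iff.mp (Finset.mem_range.mp hj)
    have hxj : x ^ j ≠ 0 := pow_ne_zero _ hx
    rw [eval_mul, eval_C, eval_pow, eval_X, div_pow]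
    have h6 : x ^ P.natDegree = x ^ (P.natDegree - j) * x ^ j := by
      rw [← pow_add, Nat.sub_add_cancel hj']
    have h7 : x ^ j * (PC.coeff j * ((q : ℂ) ^ j / x ^ j)) = PC.coeff j * (q : ℂ) ^ j := by
      rw [mul_div_assoc', mul_div_assoc', div_eq_iff hxj]
      ring
    rw [h6]
    linear_combination (-(x ^ (P.natDegree - j))) * h7
  have hpoly : QC = C (PC.eval 0) * PC := by
    apply Polynomial.eq_of_infinite_eval_eq
    apply Set.Infinite.mono (s := ({0} : Set ℂ)ᶜ)
    · intro x hx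
      have hx' : x ≠ 0 := hx
      show QC.eval x = (C (PC.eval 0) * PC).eval x
      rw [hQeval x hx', hI x hx', eval_mul, eval_C]
    · exact (Set.finite_singleton (0 : ℂ)).infinite_compl
  have hcoef : ∀ k ≤ P.natDegree,
      PC.coeff (P.natDegree - k) * (q : ℂ) ^ (P.natDegree - k) = PC.eval 0 * PC.coeff k := by
    intro k hk
    have h := congrArg (fun f => Polynomial.coeff f k) hpoly
    simp only [coeff_C_mul] at h
    rw [← h, hQC, Polynomial.finsetSum_coeff]
    rw [Finset.sum_eq_single (P.natDegree - k)]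
    · rw [coeff_C_mul_X_pow, if_pos]
      omega
    · intro j hj hne
      rw [coeff_C_mul_X_pow, if_neg]
      have := Finset.mem_range.mp hj
      omega
    · intro h'
      exfalso
      apply h'
      rw [Finset.mem_range]
      omega
  -- pairing of roots
  obtain ⟨Rm, hRm⟩ : ∃ Rm : Multiset ℂ, Rm = R.filter (fun z => ¬ 0 < z.im) := ⟨_, rfl⟩
  have hRp : R.filter (fun z => 0 < z.im) = Rm.map (starRingEnd ℂ) := by
    conv_lhs => rw [← hconjR]
    rw [Multiset.filter_map, hRm]
    congr 1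
    apply Multiset.filter_congr
    intro z hz
    have hne := hnr z (hRa ▸ hz)
    simp only [Function.comp, Complex.conj_im]
    constructor
    · intro h h'
      linarith
    · intro h
      rcases lt_or_gt_of_ne hne with h1 | h1
      · linarith
      · exact absurd h1 h
  have hsplitR : R = Rm.map (starRingEnd ℂ) + Rm := by
    rw [← hRp, hRm, Multiset.filter_add_not]
  have hn2 : P.natDegree = 2 * Rm.card := by
    rw [← hcard, hsplitR, Multiset.card_add, Multiset.card_map]
    ring
  have h0 : PC.eval 0 = (q : ℂ) ^ Rm.card := by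
    have this' : ∀ z ∈ Rm, ((0 : ℂ) - conj z) * (0 - z) = (q : ℂ) := by
      intro z hz
      have hzR : z ∈ R := by
        rw [hRm] at hz
        exact Multiset.mem_of_mem_filter hz
      have := hqC z hzR
      linear_combination this
    have hprod : (Rm.map (fun z => ((0 : ℂ) - conj z) * (0 - z))).prod = (q : ℂ) ^ Rm.card := by
      rw [Multiset.map_congr rfl this', Multiset.map_const', Multiset.prod_replicate]
    have e1 : ((Rm.map (starRingEnd ℂ)).map (fun z => (0 : ℂ) - z)) =
        Rm.map (fun z => (0 : ℂ) - conj z) := by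
      rw [Multiset.map_map]; rfl
    have e2 : (Rm.map (fun z => ((0 : ℂ) - conj z) * (0 - z))).prod =
        (Rm.map (fun z => (0 : ℂ) - conj z)).prod * (Rm.map (fun z => (0 : ℂ) - z)).prod :=
      Multiset.prod_map_mul
    rw [heval 0, hsplitR, Multiset.map_add, Multiset.prod_add, e1, ← e2, hprod]
  refine ⟨Rm.card, hn2, ?_⟩
  intro k hk
  rw [← hc, ← hc, hcoef k hk, h0]

/-- Let p be a prime number, e ≥ 1 and q = p^e. Let π be an element of a field of characteristic zero
which is integral over ℤ, with minimal polynomial P over ℤ, and assume that every complex root of P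
has absolute value √q and that no complex root of P is real (π is a nonreal Weil q-number). Then the
degree of P is even, say 2d, and writing a_j for the coefficient of x^j in P one has a_{d−r} = q^r ·
a_{d+r} for every 0 ≤ r ≤ d. -/
theorem result (p e : ℕ) [Fact p.Prime] (he : 0 < e)
    (K : Type u) [Field K] [CharZero K] (π : K) (hπ : IsIntegral ℤ π)
    (hweil : ∀ z ∈ (minpoly ℤ π).aroots ℂ, ‖z‖ = Real.sqrt ((p : ℝ) ^ e))
    (hnr : ∀ z ∈ (minpoly ℤ π).aroots ℂ, z.im ≠ 0) :
    Even (minpoly ℤ π).natDegree ∧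
      ∀ r ≤ (minpoly ℤ π).natDegree / 2,
        (minpoly ℤ π).coeff ((minpoly ℤ π).natDegree / 2 - r) =
          (p : ℤ) ^ (e * r) * (minpoly ℤ π).coeff ((minpoly ℤ π).natDegree / 2 + r) := by
  have hp0 : (0 : ℝ) < (p : ℝ) ^ e := by
    have : (0 : ℝ) < (p : ℝ) := Nat.cast_pos.mpr (Fact.out : p.Prime).pos
    positivity
  obtain ⟨d, hn, H⟩ := weil_core (minpoly ℤ π) (minpoly.monic hπ) ((p : ℝ) ^ e) hp0 hweil hnr
  refine ⟨⟨d, by omega⟩, ?_⟩
  intro r hr
  have hd : (minpoly ℤ π).natDegree / 2 = d := by omega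
  rw [hd] at hr ⊢
  have hk : d + r ≤ (minpoly ℤ π).natDegree := by omega
  have h := H (d + r) hk
  have hsub : (minpoly ℤ π).natDegree - (d + r) = d - r := by omega
  rw [hsub] at h
  have hpC : ((p : ℂ)) ≠ 0 := Nat.cast_ne_zero.mpr (Fact.out : p.Prime).ne_zero
  have hq' : (((p : ℝ) ^ e : ℝ) : ℂ) = (p : ℂ) ^ e := by push_cast; rfl
  rw [hq'] at h
  have hpow : ((p : ℂ) ^ e) ^ d = ((p : ℂ) ^ e) ^ (d - r) * ((p : ℂ) ^ e) ^ r := by
    rw [← pow_add, Nat.sub_add_cancel hr]
  have hne : ((p : ℂ) ^ e) ^ (d - r) ≠ 0 := pow_ne_zero _ (pow_ne_zero _ hpC)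
  have h2 : (((minpoly ℤ π).coeff (d - r) : ℤ) : ℂ) =
      ((p : ℂ) ^ e) ^ r * (((minpoly ℤ π).coeff (d + r) : ℤ) : ℂ) := by
    apply mul_right_cancel₀ hne
    rw [h, hpow]
    ring
  apply Int.cast_injective (α := ℂ)
  rw [h2, ← pow_mul]
  push_cast
  rfl

end Groth.Agent.S17983
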