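import Groth.Statements.S17985
import Mathlib
import Groth.Agent.H58.WeilOrder

set_option autoImplicit false
universe u
open MvPolynomial
open WeilNum

namespace Groth.Agent.S17985

/-- Let p be a prime, e ≥ 1 and q = p^e. Let (π_i) be a nonempty finite family of pairwise nonconjugate
Weil q-numbers: π_i is an element of a field K_i of characteristic zero, integral over ℤ with
minimal polynomial P_i, every complex root of P_i has absolute value √q, and P_i ≠ P_j for i ≠ j.
Suppose the total degree Σ_i deg P_i is even, equal to 2D. Let R_w be the minimal central order, the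
image of ℤ[F, V] → ∏_i K_i, F ↦ (π_i), V ↦ (q/π_i). Then R_w is free of rank 2D as a ℤ-module, has
Krull dimension 1, and is a Gorenstein ring (Noetherian, with all localizations at primes of finite
injective dimension over themselves). -/
theorem result (p e : ℕ) [Fact p.Prime] (he : 0 < e)
    (ι : Type) [Fintype ι] (K : ι → Type u) [∀ i, Field (K i)] [∀ i, CharZero (K i)] (π : ∀ i, K i)
    (hint : ∀ i, IsIntegral ℤ (π i))
    (hweil : ∀ i, ∀ z ∈ (minpoly ℤ (π i)).aroots ℂ, ‖z‖ = Real.sqrt ((p : ℝ) ^ e))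
    (hinj : ∀ i j, minpoly ℤ (π i) = minpoly ℤ (π j) → i = j)
    [Nonempty ι] (D : ℕ) (hD : ∑ i, (minpoly ℤ (π i)).natDegree = 2 * D) :
    Module.Free ℤ (MvPolynomial.aeval ![fun i => π i, fun i => ((p : K i) ^ e) / π i] :
        MvPolynomial (Fin 2) ℤ →ₐ[ℤ] ((i : ι) → K i)).range ∧
      Module.finrank ℤ (MvPolynomial.aeval ![fun i => π i, fun i => ((p : K i) ^ e) / π i] :
        MvPolynomial (Fin 2) ℤ →ₐ[ℤ] ((i : ι) → K i)).range = 2 * D ∧
      ringKrullDim (MvPolynomial.aeval ![fun i => π i, fun i => ((p : K i) ^ e) / π i] :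
        MvPolynomial (Fin 2) ℤ →ₐ[ℤ] ((i : ι) → K i)).range = 1 ∧
      LocCoh.IsGorensteinRing (MvPolynomial.aeval ![fun i => π i, fun i => ((p : K i) ^ e) / π i] :
        MvPolynomial (Fin 2) ℤ →ₐ[ℤ] ((i : ι) → K i)).range := by
  classical
  have hppos : (0 : ℤ) < (p : ℤ) ^ e :=
    pow_pos (by exact_mod_cast (Fact.out : p.Prime).pos) e
  have hq0 : ((p : ℤ) ^ e) ≠ 0 := hppos.ne'
  have hmonic : (∏ i, minpoly ℤ (π i)).Monic :=
    Polynomial.monic_prod_of_monic _ _ (fun i _ => minpoly.monic (hint i))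
  have hdeg : (∏ i, minpoly ℤ (π i)).natDegree = 2 * D := by
    rw [Polynomial.natDegree_prod_of_monic _ _ (fun i _ => minpoly.monic (hint i)), hD]
  have hqR : (((p : ℤ) ^ e : ℤ) : ℝ) = (p : ℝ) ^ e := by push_cast; rfl
  have hroots : ∀ z ∈ (∏ i, minpoly ℤ (π i)).aroots ℂ,
      ‖z‖ = Real.sqrt (((p : ℤ) ^ e : ℤ) : ℝ) := by
    intro z hz
    rw [Polynomial.mem_aroots] at hz
    obtain ⟨_, hz0⟩ := hz
    rw [map_prod] at hz0
    obtain ⟨i, _, hi⟩ := Finset.prod_eq_zero_iff.mp hz0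
    rw [hqR]
    exact hweil i z (Polynomial.mem_aroots.mpr ⟨(minpoly.monic (hint i)).ne_zero, hi⟩)
  obtain ⟨hP0, hPk⟩ := Groth.Agent.H65.WeilCoef.weil_int _ hmonic _ hppos D hdeg hroots
  have hπ0 : ∀ i, π i ≠ 0 := by
    intro i h0
    have hc0 : (minpoly ℤ (π i)).coeff 0 = 0 := by
      have h1 := minpoly.aeval ℤ (π i)
      have h2 : ∀ P : Polynomial ℤ,
          Polynomial.aeval (π i) P = algebraMap ℤ (K i) (P.coeff 0) := fun P => by
        rw [h0, Polynomial.coeff_zero_eq_aeval_zero']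
      rw [h2] at h1
      exact (algebraMap ℤ (K i)).injective_int (by rw [h1, map_zero])
    have hz : (0 : ℂ) ∈ (minpoly ℤ (π i)).aroots ℂ := by
      rw [Polynomial.mem_aroots]
      refine ⟨(minpoly.monic (hint i)).ne_zero, ?_⟩
      rw [← Polynomial.coeff_zero_eq_aeval_zero', hc0, map_zero]
    have h1 := hweil i 0 hz
    rw [norm_zero] at h1
    have h2 : 0 < Real.sqrt ((p : ℝ) ^ e) :=
      Real.sqrt_pos.mpr (pow_pos (by exact_mod_cast (Fact.out : p.Prime).pos) e)
    linarith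
  have hcast : ∀ i, ((((p : ℤ) ^ e : ℤ)) : K i) = (p : K i) ^ e := by
    intro i; push_cast; rfl
  obtain ⟨h, hh⟩ := Groth.Agent.H58.WeilOrder.exists_h ((p : ℤ) ^ e) D _ hdeg hPk
  obtain ⟨hker, hreg⟩ := Groth.Agent.S17984.result p e he ι K π hint hweil hinj D hD h hh
  have hc0 : (∏ i, minpoly ℤ (π i)).coeff 0 ≠ 0 := by
    rcases hP0 with h0 | h0
    · rw [h0]; exact pow_ne_zero _ hq0
    · rw [h0]; exact neg_ne_zero.2 (pow_ne_zero _ hq0)
  have haeval_pi : ∀ (x : (i : ι) → K i) (U : Polynomial ℤ) (i : ι),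
      (Polynomial.aeval x U) i = Polynomial.aeval (x i) U :=
    fun x U i => (Polynomial.aeval_algHom_apply (Pi.evalAlgHom ℤ K i) x U).symm
  have hF : Polynomial.aeval (fun i => π i : (i : ι) → K i) (∏ i, minpoly ℤ (π i)) = 0 := by
    funext i
    rw [haeval_pi, map_prod]
    exact Finset.prod_eq_zero (Finset.mem_univ i) (minpoly.aeval ℤ (π i))
  have hVroot : ∀ i, Polynomial.aeval ((p : K i) ^ e / π i) (∏ j, minpoly ℤ (π j)) = 0 := by
    intro i
    rw [map_prod]
    refine Finset.prod_eq_zero (Finset.mem_univ i) ?_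
    have h1 := Groth.Agent.H58.WeilOrder.aeval_div_eq_zero (minpoly ℤ (π i))
      (minpoly.monic (hint i)) ((p : ℤ) ^ e) hppos
      (by intro z hz; rw [hqR]; exact hweil i z hz) (π i) (hπ0 i) (minpoly.aeval ℤ (π i))
    rw [hcast] at h1
    exact h1
  have hV : IsIntegral ℤ (fun i => (p : K i) ^ e / π i : (i : ι) → K i) := by
    refine ⟨_, hmonic, ?_⟩
    rw [← Polynomial.aeval_def]
    funext i
    rw [haeval_pi]
    exact hVroot i
  have hFV : (fun i => π i : (i : ι) → K i) * (fun i => (p : K i) ^ e / π i) =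
      algebraMap ℤ ((i : ι) → K i) ((p : ℤ) ^ e) := by
    rw [eq_intCast]
    funext i
    rw [Pi.mul_apply, Pi.intCast_apply, hcast]
    exact mul_div_cancel₀ _ (hπ0 i)
  have hZ : ∀ U : Polynomial ℤ, Polynomial.aeval (fun i => π i : (i : ι) → K i) U = 0 →
      (∏ i, minpoly ℤ (π i)) ∣ U := by
    intro U hU
    apply Groth.Agent.S17984.prod_minpoly_dvd π hint hinj U
    intro i
    rw [← haeval_pi (fun i => π i) U i, hU]
    rfl
  have hinjA : Function.Injective (algebraMap ℤ ((i : ι) → K i)) := by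
    intro a b hab
    obtain ⟨i₀⟩ := ‹Nonempty ι›
    have h1 := congrFun hab i₀
    rw [eq_intCast, eq_intCast, Pi.intCast_apply, Pi.intCast_apply] at h1
    exact Int.cast_injective h1
  obtain ⟨h1, h2, h3⟩ := Groth.Agent.H58.WeilOrder.order_props (fun i => π i)
    (fun i => (p : K i) ^ e / π i) ((p : ℤ) ^ e) _ hmonic hc0 hFV hF hV hZ hinjA
  refine ⟨h1, h2.trans hdeg, h3, ?_⟩
  have hgreg : IsSMulRegular (MvPolynomial (Fin 2) ℤ)
      (X 0 * X 1 - C ((p : ℤ) ^ e) : MvPolynomial (Fin 2) ℤ) := by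
    rw [RingTheory.Sequence.isWeaklyRegular_cons_iff] at hreg
    exact hreg.1
  exact Groth.Agent.H58.WeilOrder.gorenstein_range _ _ h hker hgreg
    (fun c hc => Groth.Agent.S17984.h_cancel _ hq0 D _ hmonic.ne_zero h hh c hc)

end Groth.Agent.S17985
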