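import Groth.Statements.S17987
import Mathlib
import Groth.Agent.S17983

set_option autoImplicit false
universe u
open scoped Classical
open WeilNum

namespace Groth.Agent.S17987


open Polynomial in
theorem um_sub_le {F : Type*} [NormedField F] [IsUltrametricDist F] (x y : F) :
    ‖x - y‖ ≤ max ‖x‖ ‖y‖ := by
  have h := IsUltrametricDist.norm_add_le_max x (-y)
  rwa [norm_neg, ← sub_eq_add_neg] at h

theorem um_lt {F : Type*} [NormedField F] [IsUltrametricDist F] {x y : F}
    (hx : ‖x‖ < 1) (hy : ‖y‖ < 1) : ‖x - y‖ < 1 :=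
  lt_of_le_of_lt (um_sub_le x y) (max_lt hx hy)

theorem um_eq1 {F : Type*} [NormedField F] [IsUltrametricDist F] {x y : F}
    (hx : ‖x‖ = 1) (hy : ‖y‖ < 1) : ‖x - y‖ = 1 := by
  have h := IsUltrametricDist.norm_add_eq_max_of_norm_ne_norm (x := x) (y := -y)
    (by rw [norm_neg, hx]; exact (ne_of_lt hy).symm)
  rw [norm_neg, ← sub_eq_add_neg, hx, max_eq_left (le_of_lt hy)] at h
  exact h

theorem um_eq2 {F : Type*} [NormedField F] [IsUltrametricDist F] {x y : F}
    (hx : ‖x‖ < 1) (hy : ‖y‖ = 1) : ‖x - y‖ = 1 := by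
  rw [← norm_neg, neg_sub]
  exact um_eq1 hy hx

open Polynomial in
theorem coeff_norm_aux {F : Type*} [NormedField F] [IsUltrametricDist F]
    [DecidablePred fun a : F => ‖a‖ = 1] (s : Multiset F) :
    (∀ a ∈ s, ‖a‖ ≤ 1) →
    ((∀ j, ‖((s.map fun a => X - C a).prod).coeff j‖ ≤ 1) ∧
    (∀ j, j + Multiset.card (s.filter fun a => ‖a‖ = 1) < Multiset.card s →
      ‖((s.map fun a => X - C a).prod).coeff j‖ < 1) ∧
    ‖((s.map fun a => X - C a).prod).coeff
      (Multiset.card s - Multiset.card (s.filter fun a => ‖a‖ = 1))‖ = 1) := by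
  induction s using Multiset.induction_on with
  | empty =>
    intro _
    refine ⟨?_, ?_, ?_⟩
    · intro j
      rw [Multiset.map_zero, Multiset.prod_zero, coeff_one]
      split_ifs
      · rw [norm_one]
      · rw [norm_zero]; exact zero_le_one
    · intro j hj
      simp at hj
    · simp
  | cons a s ih =>
    intro hs
    have ha : ‖a‖ ≤ 1 := hs a (Multiset.mem_cons_self a s)
    obtain ⟨ih1, ih2, ih3⟩ := ih (fun b hb => hs b (Multiset.mem_cons_of_mem hb))
    obtain ⟨Q, hQ⟩ : ∃ Q : F[X], Q = (s.map fun a => X - C a).prod := ⟨_, rfl⟩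
    rw [← hQ] at ih1 ih2 ih3
    have hQ' : ((a ::ₘ s).map fun a => X - C a).prod = (X - C a) * Q := by
      rw [Multiset.map_cons, Multiset.prod_cons, hQ]
    rw [hQ']
    have hc0 : ((X - C a) * Q).coeff 0 = -(a * Q.coeff 0) := by
      rw [sub_mul, coeff_sub, coeff_X_mul_zero, coeff_C_mul, zero_sub]
    have hcs : ∀ j, ((X - C a) * Q).coeff (j + 1) = Q.coeff j - a * Q.coeff (j + 1) := by
      intro j
      rw [sub_mul, coeff_sub, coeff_X_mul, coeff_C_mul]
    have hule : Multiset.card (s.filter fun a => ‖a‖ = 1) ≤ Multiset.card s :=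
      Multiset.card_le_card (Multiset.filter_le _ s)
    have hmul_le : ∀ j, ‖a * Q.coeff j‖ ≤ 1 := by
      intro j
      rw [norm_mul]
      exact mul_le_one₀ ha (norm_nonneg _) (ih1 j)
    have h1 : ∀ j, ‖((X - C a) * Q).coeff j‖ ≤ 1 := by
      intro j
      cases j with
      | zero =>
        rw [hc0, norm_neg]
        exact hmul_le 0
      | succ j =>
        rw [hcs]
        exact le_trans (um_sub_le _ _) (max_le (ih1 j) (hmul_le (j + 1)))
    by_cases hau : ‖a‖ = 1
    · -- unit
      have hfilter : (a ::ₘ s).filter (fun a => ‖a‖ = 1) = a ::ₘ s.filter (fun a => ‖a‖ = 1) :=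
        Multiset.filter_cons_of_pos s hau
      rw [hfilter, Multiset.card_cons, Multiset.card_cons]
      refine ⟨h1, ?_, ?_⟩
      · intro j hj
        have hj' : j + Multiset.card (s.filter fun a => ‖a‖ = 1) < Multiset.card s := by omega
        have hlt : ‖a * Q.coeff j‖ < 1 := by
          rw [norm_mul, hau, one_mul]
          exact ih2 j hj'
        cases j with
        | zero =>
          rw [hc0, norm_neg]
          exact hlt
        | succ j =>
          rw [hcs]
          exact um_lt (ih2 j (by omega)) hlt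
      · have hidx : Multiset.card s + 1 - (Multiset.card (s.filter fun a => ‖a‖ = 1) + 1) =
            Multiset.card s - Multiset.card (s.filter fun a => ‖a‖ = 1) := by omega
        rw [hidx]
        have hone : ‖a * Q.coeff (Multiset.card s - Multiset.card (s.filter fun a => ‖a‖ = 1))‖ = 1 := by
          rw [norm_mul, hau, one_mul]
          exact ih3
        obtain ⟨m, hm⟩ : ∃ m, m = Multiset.card s - Multiset.card (s.filter fun a => ‖a‖ = 1) :=
          ⟨_, rfl⟩
        rw [← hm] at hone ⊢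
        cases m with
        | zero =>
          rw [hc0, norm_neg]
          exact hone
        | succ m =>
          rw [hcs]
          exact um_eq2 (ih2 m (by omega)) hone
    · -- non-unit
      have halt : ‖a‖ < 1 := lt_of_le_of_ne ha hau
      have hfilter : (a ::ₘ s).filter (fun a => ‖a‖ = 1) = s.filter (fun a => ‖a‖ = 1) :=
        Multiset.filter_cons_of_neg s hau
      rw [hfilter, Multiset.card_cons]
      have hmul_lt : ∀ j, ‖a * Q.coeff j‖ < 1 := by
        intro j
        rw [norm_mul]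
        calc ‖a‖ * ‖Q.coeff j‖ ≤ ‖a‖ * 1 := mul_le_mul_of_nonneg_left (ih1 j) (norm_nonneg _)
          _ < 1 := by rw [mul_one]; exact halt
      refine ⟨h1, ?_, ?_⟩
      · intro j hj
        cases j with
        | zero =>
          rw [hc0, norm_neg]
          exact hmul_lt 0
        | succ j =>
          rw [hcs]
          exact um_lt (ih2 j (by omega)) (hmul_lt (j + 1))
      · have hidx : Multiset.card s + 1 - Multiset.card (s.filter fun a => ‖a‖ = 1) =
            (Multiset.card s - Multiset.card (s.filter fun a => ‖a‖ = 1)) + 1 := by omega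
        rw [hidx, hcs]
        exact um_eq1 ih3 (hmul_lt _)

open Polynomial in
theorem root_norm_le_one (p : ℕ) [Fact p.Prime] (P : ℤ[X]) (hP : P.Monic) (α : PadicAlgCl p)
    (hα : aeval α P = 0) : ‖α‖ ≤ 1 := by
  by_contra hgt
  rw [not_le] at hgt
  have hcoef : ∀ c : ℤ, ‖(algebraMap ℤ (PadicAlgCl p) c)‖ ≤ 1 := by
    intro c
    have h1 : (algebraMap ℤ (PadicAlgCl p) c) = algebraMap ℚ_[p] (PadicAlgCl p) (c : ℚ_[p]) := by
      rw [eq_intCast, map_intCast]
    rw [h1]
    have h2 := PadicAlgCl.norm_extends p (c : ℚ_[p])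
    rw [h2]
    exact Padic.norm_int_le_one c
  obtain ⟨n, hn⟩ : ∃ n, n = P.natDegree := ⟨_, rfl⟩
  have hn0 : n ≠ 0 := by
    intro h0
    rw [hn] at h0
    have h1 : P = 1 := by
      have h2 := Polynomial.eq_C_of_natDegree_eq_zero h0
      rw [h2, ← h0]
      rw [show P.coeff P.natDegree = 1 from hP, map_one]
    rw [h1, map_one] at hα
    exact one_ne_zero hα
  have hexp : aeval α P = α ^ n + ∑ j ∈ Finset.range n, algebraMap ℤ (PadicAlgCl p) (P.coeff j) * α ^ j := by
    rw [aeval_eq_sum_range, hn, Finset.sum_range_succ, add_comm]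
    congr 1
    · rw [show P.coeff P.natDegree = 1 from hP, one_smul]
    · apply Finset.sum_congr rfl
      intro j _
      rw [Algebra.smul_def]
  rw [hexp] at hα
  have hsum : ‖∑ j ∈ Finset.range n, algebraMap ℤ (PadicAlgCl p) (P.coeff j) * α ^ j‖ ≤ ‖α‖ ^ (n - 1) := by
    apply IsUltrametricDist.norm_sum_le_of_forall_le_of_nonneg (pow_nonneg (norm_nonneg _) _)
    intro j hj
    rw [Finset.mem_range] at hj
    rw [norm_mul, norm_pow]
    calc ‖algebraMap ℤ (PadicAlgCl p) (P.coeff j)‖ * ‖α‖ ^ j ≤ 1 * ‖α‖ ^ j :=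
          mul_le_mul_of_nonneg_right (hcoef _) (pow_nonneg (norm_nonneg _) _)
      _ = ‖α‖ ^ j := one_mul _
      _ ≤ ‖α‖ ^ (n - 1) := pow_le_pow_right₀ (le_of_lt hgt) (by omega)
  have hpow : ‖α ^ n‖ ≤ ‖α‖ ^ (n - 1) := by
    have h1 : α ^ n = -∑ j ∈ Finset.range n, algebraMap ℤ (PadicAlgCl p) (P.coeff j) * α ^ j :=
      eq_neg_of_add_eq_zero_left hα
    rw [h1, norm_neg]
    exact hsum
  rw [norm_pow] at hpow
  have hlt : ‖α‖ ^ (n - 1) < ‖α‖ ^ n := pow_lt_pow_right₀ hgt (by omega)
  exact absurd hpow (not_le.mpr hlt)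

theorem norm_algebraMap_int (p : ℕ) [Fact p.Prime] (c : ℤ) :
    ‖(algebraMap ℤ (PadicAlgCl p) c)‖ = ‖(c : ℚ_[p])‖ := by
  have h1 : (algebraMap ℤ (PadicAlgCl p) c) = algebraMap ℚ_[p] (PadicAlgCl p) (c : ℚ_[p]) := by
    rw [eq_intCast, map_intCast]
  rw [h1]
  have h2 := PadicAlgCl.norm_extends p (c : ℚ_[p])
  exact h2

open Polynomial in
theorem per_i (p e : ℕ) [Fact p.Prime] (he : 0 < e)
    (K : Type*) [Field K] [CharZero K] (π : K) (hint : IsIntegral ℤ π)
    (hweil : ∀ z ∈ (minpoly ℤ π).aroots ℂ, ‖z‖ = Real.sqrt ((p : ℝ) ^ e))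
    (hnr : ∀ z ∈ (minpoly ℤ π).aroots ℂ, z.im ≠ 0)
    [DecidablePred fun z : PadicAlgCl p => ‖z‖ = 1] :
    2 * Multiset.card (((minpoly ℤ π).aroots (PadicAlgCl p)).filter (fun z => ‖z‖ = 1)) =
      (minpoly ℤ π).natDegree ↔
      ¬ ((p : ℤ) ∣ (minpoly ℤ π).coeff ((minpoly ℤ π).natDegree / 2)) := by
  obtain ⟨heven, hsym⟩ := Groth.Agent.S17983.result p e he K π hint hweil hnr
  obtain ⟨P, hPdef⟩ : ∃ P : ℤ[X], P = minpoly ℤ π := ⟨_, rfl⟩
  rw [← hPdef] at heven hsym ⊢
  have hmonic : P.Monic := by rw [hPdef]; exact minpoly.monic hint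
  obtain ⟨Pm, hPm⟩ : ∃ Pm : (PadicAlgCl p)[X], Pm = P.map (algebraMap ℤ (PadicAlgCl p)) :=
    ⟨_, rfl⟩
  have hPmmonic : Pm.Monic := by rw [hPm]; exact hmonic.map _
  have hsplits : Pm.Splits := IsAlgClosed.splits Pm
  have hroots : P.aroots (PadicAlgCl p) = Pm.roots := by rw [hPm]
  have hcard : Multiset.card Pm.roots = P.natDegree := by
    rw [← hsplits.natDegree_eq_card_roots, hPm, hmonic.natDegree_map]
  have hprod : Pm = (Pm.roots.map fun a => X - C a).prod := hsplits.eq_prod_roots_of_monic hPmmonic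
  have hle : ∀ a ∈ Pm.roots, ‖a‖ ≤ 1 := by
    intro a ha
    apply root_norm_le_one p P hmonic a
    have h1 := (Polynomial.mem_roots hPmmonic.ne_zero).mp ha
    rw [hPm, IsRoot.def, eval_map, ← aeval_def] at h1
    exact h1
  obtain ⟨h1, h2, h3⟩ := coeff_norm_aux Pm.roots hle
  rw [← hprod] at h1 h2 h3
  rw [hroots]
  have hcoeff : ∀ j, ‖Pm.coeff j‖ = ‖((P.coeff j : ℤ) : ℚ_[p])‖ := by
    intro j
    rw [hPm, coeff_map]
    exact norm_algebraMap_int p _
  obtain ⟨u, hu⟩ : ∃ u, u = Multiset.card (Pm.roots.filter fun z => ‖z‖ = 1) := ⟨_, rfl⟩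
  rw [← hu] at h2 h3 ⊢
  obtain ⟨d, hd⟩ : ∃ d, d = P.natDegree / 2 := ⟨_, rfl⟩
  rw [← hd] at hsym ⊢
  have hnd : P.natDegree = 2 * d := by
    rw [hd]
    have := Nat.div_mul_cancel (even_iff_two_dvd.mp heven)
    omega
  rw [hcard, hnd] at h2 h3
  have hule : u ≤ 2 * d := by
    rw [hu, ← hnd, ← hcard]
    exact Multiset.card_le_card (Multiset.filter_le _ _)
  rw [hnd]
  constructor
  · intro hord hdvd
    have hud : u = d := by omega
    have hlt : ‖((P.coeff d : ℤ) : ℚ_[p])‖ < 1 := Padic.norm_intCast_lt_one_iff.mpr hdvd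
    rw [hud, show 2 * d - d = d by omega, hcoeff] at h3
    rw [h3] at hlt
    exact lt_irrefl _ hlt
  · intro hndvd
    by_contra hne
    have hne' : u ≠ d := fun h => hne (by rw [h])
    rcases lt_or_gt_of_ne hne' with hlt | hgt
    · have h4 := h2 d (by omega)
      rw [hcoeff] at h4
      exact hndvd (Padic.norm_intCast_lt_one_iff.mp h4)
    · obtain ⟨r, hr⟩ : ∃ r, u = d + r := ⟨u - d, by omega⟩
      have hr1 : 1 ≤ r := by omega
      have hrd : r ≤ d := by omega
      have h5 := hsym r hrd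
      rw [show 2 * d - u = d - r by omega, hcoeff, h5] at h3
      have hdvd : (p : ℤ) ∣ (p : ℤ) ^ (e * r) * P.coeff (d + r) := by
        apply Dvd.dvd.mul_right
        exact dvd_pow_self _ (by positivity)
      have h6 := Padic.norm_intCast_lt_one_iff.mpr hdvd
      rw [h3] at h6
      exact lt_irrefl _ h6

/-- Let p be a prime, e ≥ 1 and q = p^e, and let (π_i) be a finite family of nonreal Weil q-numbers: π_i
lies in a field K_i of characteristic zero, is integral over ℤ with minimal polynomial P_i, every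
complex root of P_i has absolute value √q, and no complex root of P_i is real; in particular deg P_i
= 2d_i is even. Call π_i ordinary when exactly half of the roots of P_i in an algebraic closure of
ℚ_p, counted with multiplicity, are p-adic units (have absolute value 1). Then all π_i are ordinary
if and only if p does not divide ∏_i a_{d_i}, the product of the middle coefficients of the P_i
(this product is the value at F = V = 0 of the symmetric polynomial h_w of the family). -/
theorem result (p e : ℕ) [Fact p.Prime] (he : 0 < e)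
    (ι : Type) [Fintype ι] (K : ι → Type u) [∀ i, Field (K i)] [∀ i, CharZero (K i)] (π : ∀ i, K i)
    (hint : ∀ i, IsIntegral ℤ (π i))
    (hweil : ∀ i, ∀ z ∈ (minpoly ℤ (π i)).aroots ℂ, ‖z‖ = Real.sqrt ((p : ℝ) ^ e))
    (hnr : ∀ i, ∀ z ∈ (minpoly ℤ (π i)).aroots ℂ, z.im ≠ 0) :
    (∀ i, 2 * Multiset.card (((minpoly ℤ (π i)).aroots (PadicAlgCl p)).filter (fun z => ‖z‖ = 1)) = (minpoly ℤ (π i)).natDegree) ↔
      ¬ ((p : ℤ) ∣ ∏ i, (minpoly ℤ (π i)).coeff ((minpoly ℤ (π i)).natDegree / 2)) := by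
  have hp_prime : Prime (p : ℤ) := Nat.prime_iff_prime_int.mp Fact.out
  have key := fun i => per_i p e he (K i) (π i) (hint i) (hweil i) (hnr i)
  rw [Prime.dvd_finsetProd_iff hp_prime]
  constructor
  · intro hall
    rintro ⟨i, -, hi⟩
    exact (key i).mp (hall i) hi
  · intro hnot i
    apply (key i).mpr
    intro hi
    exact hnot ⟨i, Finset.mem_univ i, hi⟩

end Groth.Agent.S17987
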