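import Groth.Statements.S17988
import Mathlib
import Groth.Agent.H58.Torsionless

set_option autoImplicit false
universe u
open CAlg

namespace Groth.Agent.S17988

/-- Let Λ be a principal ideal domain and S a commutative Λ-algebra which is finitely generated and free
as a Λ-module and reduced as a ring; let M be a finitely generated S-module. Then M is torsionless
(the canonical map M → M** to the double S-dual is injective) if and only if M is free as a
Λ-module. If in addition S is a Gorenstein ring (it has Krull dimension at most 1, being finite over
Λ), then M is reflexive (M → M** bijective) if and only if M is free as a Λ-module, so that for such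
S torsionless and reflexive finitely generated modules coincide. The published statement is the case
Λ = ℤ, resp. Λ = ℤ_ℓ for a prime ℓ, with S the minimal central order R_w of a finite set of Weil
q-numbers, resp. its ℓ-adic completion R_w ⊗ ℤ_ℓ, under the assumption that R_w is Gorenstein; the
argument given there uses only that S is finite free over Λ, reduced, and (for reflexivity)
Gorenstein of dimension one. -/
theorem result (Λ : Type u) [CommRing Λ] [IsDomain Λ] [IsPrincipalIdealRing Λ]
    (S : Type u) [CommRing S] [Algebra Λ S] [Module.Finite Λ S] [Module.Free Λ S] [IsReduced S]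
    (M : Type u) [AddCommGroup M] [Module S M] [Module Λ M] [IsScalarTower Λ S M] [Module.Finite S M] :
    (Function.Injective (Module.Dual.eval S M) ↔ Module.Free Λ M) ∧
      (LocCoh.IsGorensteinRing S → (Module.IsReflexive S M ↔ Module.Free Λ M)) := by
  classical
  refine ⟨Groth.Agent.H58.Torsionless.eval_injective_iff_free, fun hG => ?_⟩
  haveI : LocCoh.IsGorensteinRing S := hG
  haveI : IsNoetherianRing S := inferInstance
  have hdimΛ : ringKrullDim Λ ≤ 1 := by
    by_cases hf : IsField Λ
    · rw [ringKrullDim_eq_zero_of_isField hf]; exact zero_le_one
    · rw [IsPrincipalIdealRing.ringKrullDim_eq_one Λ hf]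
  haveI : Algebra.IsIntegral Λ S := Algebra.IsIntegral.of_finite Λ S
  have hdim : ringKrullDim S ≤ 1 :=
    (Groth.Agent.H54.ringKrullDim_le_of_isIntegral (R := Λ) (S := S)).trans hdimΛ
  have hinj2 : CategoryTheory.HasInjectiveDimensionLT (ModuleCat.of S S) 2 := by
    apply Groth.Agent.H60.InjLoc.glob_injdim 1
    intro m hm
    haveI := hm.isPrime
    haveI := LocCoh.IsGorensteinRing.isGorensteinLocalRing_localization (A := S) m
    obtain ⟨r, hr, hinj, -⟩ := Groth.Agent.H60.InjLoc.gor_data (Localization.AtPrime m)
      LocCoh.IsGorensteinLocalRing.exists_hasInjectiveDimensionLT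
    have hrd : r ≤ 1 := by
      have h1 : ringKrullDim (Localization.AtPrime m) ≤ ringKrullDim S := by
        rw [IsLocalization.AtPrime.ringKrullDim_eq_height m (Localization.AtPrime m)]
        exact Ideal.height_le_ringKrullDim_of_isPrime
      have h2 := h1.trans hdim
      rw [hr] at h2
      exact_mod_cast h2
    haveI : CategoryTheory.HasInjectiveDimensionLT
        (ModuleCat.of (Localization.AtPrime m) (Localization.AtPrime m)) (1 + 1) :=
      CategoryTheory.hasInjectiveDimensionLT_of_ge _ (r + 1) (1 + 1) (by omega)
    exact CategoryTheory.hasInjectiveDimensionLT_of_iso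
      (Groth.Agent.H60.InjLoc.isoSelf m.primeCompl).symm (1 + 1)
  constructor
  · intro hrefl
    exact Groth.Agent.H58.Torsionless.eval_injective_iff_free.1
      (Module.bijective_dual_eval S M).1
  · intro hfree
    exact ⟨⟨Groth.Agent.H58.Torsionless.eval_injective_iff_free.2 hfree,
      Groth.Agent.H58.Torsionless.eval_surjective_of_injDim hinj2 M⟩⟩

end Groth.Agent.S17988
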