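import Groth.Statements.S17989
import Mathlib
import Groth.Agent.H60.InjLoc

set_option autoImplicit false
universe u
open CategoryTheory
open CAlg

namespace Groth.Agent.S17989

open Groth.Agent.H60 CategoryTheory

/-- Let S be a Gorenstein ring (a Noetherian ring all of whose localizations at prime ideals have finite
injective dimension as modules over themselves) of Krull dimension 1, and let M be a finitely
generated reflexive S-module (the canonical map M → M** is bijective). Then Ext¹_S(M, S) = 0. -/
theorem result (S : Type u) [CommRing S]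
    [LocCoh.IsGorensteinRing S] (hdim : ringKrullDim S = 1)
    (M : Type u) [AddCommGroup M] [Module S M] [Module.Finite S M] [Module.IsReflexive S M] :
    Subsingleton (Abelian.Ext (ModuleCat.of S M) (ModuleCat.of S S) 1) := by
  classical
  have hinj : HasInjectiveDimensionLT (ModuleCat.of S S) 2 := by
    apply InjLoc.glob_injdim 1
    intro m hm
    haveI := hm.isPrime
    haveI := LocCoh.IsGorensteinRing.isGorensteinLocalRing_localization (A := S) m
    obtain ⟨r, hr, hinj, -⟩ := InjLoc.gor_data (Localization.AtPrime m)
      LocCoh.IsGorensteinLocalRing.exists_hasInjectiveDimensionLT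
    have hrd : r ≤ 1 := by
      have h1 : ringKrullDim (Localization.AtPrime m) ≤ ringKrullDim S := by
        rw [IsLocalization.AtPrime.ringKrullDim_eq_height m (Localization.AtPrime m)]
        exact Ideal.height_le_ringKrullDim_of_isPrime
      rw [hr, hdim] at h1
      exact_mod_cast h1
    haveI : HasInjectiveDimensionLT
        (ModuleCat.of (Localization.AtPrime m) (Localization.AtPrime m)) (1 + 1) :=
      hasInjectiveDimensionLT_of_ge _ (r + 1) (1 + 1) (by omega)
    exact hasInjectiveDimensionLT_of_iso (InjLoc.isoSelf m.primeCompl).symm (1 + 1)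
  obtain ⟨k, q, hq⟩ := Module.Finite.exists_fin' S M
  haveI : Module.Finite S (Module.Dual S M) :=
    Module.Finite.of_injective q.dualMap (LinearMap.dualMap_injective_of_surjective hq)
  obtain ⟨n, q', hq'⟩ := Module.Finite.exists_fin' S (Module.Dual S M)
  let φ : M →ₗ[S] Module.Dual S (Fin n → S) := q'.dualMap ∘ₗ (Module.Dual.eval S M)
  have hφ : Function.Injective φ :=
    (LinearMap.dualMap_injective_of_surjective hq').comp (Module.bijective_dual_eval S M).1
  let T : ShortComplex (ModuleCat.{u} S) :=
    ModuleCat.shortComplexOfCompEqZero φ (LinearMap.range φ).mkQ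
      φ.exact_map_mkQ_range.linearMap_comp_eq_zero
  have hT : T.ShortExact := ModuleCat.shortComplex_shortExact T φ.exact_map_mkQ_range hφ
    (Submodule.mkQ_surjective _)
  have keyP : ∀ e : Abelian.Ext (ModuleCat.of S (Module.Dual S (Fin n → S)))
      (ModuleCat.of S S) 1, e = 0 := by
    have : Projective (ModuleCat.of S (Module.Dual S (Fin n → S))) :=
      (IsProjective.iff_projective (R := S) (Module.Dual S (Fin n → S))).mp inferInstance
    exact fun e => Abelian.Ext.eq_zero_of_projective e
  have hz : ∀ x : Abelian.Ext (ModuleCat.of S M) (ModuleCat.of S S) 1, x = 0 := by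
    intro x
    have h2 : hT.extClass.comp x (show 1 + 1 = 2 by rfl) = 0 :=
      Abelian.Ext.eq_zero_of_hasInjectiveDimensionLT _ 2 le_rfl
    obtain ⟨x₂, hx₂⟩ := Abelian.Ext.contravariant_sequence_exact₁ hT (ModuleCat.of S S) x
      (show 1 + 1 = 2 by rfl) h2
    rw [← hx₂, keyP x₂, Abelian.Ext.comp_zero]
  exact ⟨fun a b => by rw [hz a, hz b]⟩

end Groth.Agent.S17989
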