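import Groth.Statements.S17990
import Groth.Agent.H72.RankOne

set_option autoImplicit false
universe u
open CAlg

namespace Groth.Agent.S17990

/-- Let S be a reduced Gorenstein ring (Noetherian, all localizations at primes of finite injective
dimension over themselves) whose Krull dimension is ≤ 1; let M be a finitely generated S-module
which is reflexive (M → M** bijective). Then M is locally free of rank 1, i.e. the localization M_P
is isomorphic to S_P as an S_P-module for every prime ideal P of S, if and only if the natural ring
map S → End_S(M), sending s to multiplication by s, is bijective. -/
theorem result (S : Type u) [CommRing S]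
    [IsReduced S] [LocCoh.IsGorensteinRing S] (hdim : ringKrullDim S ≤ 1)
    (M : Type u) [AddCommGroup M] [Module S M] [Module.Finite S M] [Module.IsReflexive S M] :
    (∀ (P : Ideal S) (_ : P.IsPrime),
        Nonempty (LocalizedModule P.primeCompl M ≃ₗ[Localization.AtPrime P] Localization.AtPrime P)) ↔
      Function.Bijective (algebraMap S (Module.End S M)) := by
  constructor
  · intro h
    have h' : ∀ (P : Ideal S) [P.IsPrime], Nonempty (LocalizedModule P.primeCompl M ≃ₗ[Localization.AtPrime P]
        Localization.AtPrime P) := fun P hP => h P hP
    exact ⟨Groth.Agent.H72.RankOne.injective_of_locFree h',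
      Groth.Agent.H72.RankOne.surjective_of_locFree h'⟩
  · intro hb P hP
    exact Groth.Agent.H72.RankOne.locFree_of_bijective hdim hb P

end Groth.Agent.S17990
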