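import Groth.Statements.S18003
import Mathlib

set_option autoImplicit false
universe u
open MvPolynomial
open WeilNum

namespace Groth.Agent.S18003

open MvPolynomial in
lemma reduce (q : ℤ) (g : MvPolynomial (Fin 2) ℤ) :
    ∃ (N : ℕ) (G : Polynomial ℤ),
      X 0 ^ N * g - Polynomial.aeval (X 0 : MvPolynomial (Fin 2) ℤ) G ∈
        Ideal.span ({X 0 * X 1 - C q} : Set (MvPolynomial (Fin 2) ℤ)) := by
  induction g using MvPolynomial.induction_on with
  | C a =>
    refine ⟨0, Polynomial.C a, ?_⟩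
    simp
  | add g₁ g₂ h₁ h₂ =>
    obtain ⟨N₁, G₁, h₁⟩ := h₁
    obtain ⟨N₂, G₂, h₂⟩ := h₂
    refine ⟨N₁ + N₂, Polynomial.X ^ N₂ * G₁ + Polynomial.X ^ N₁ * G₂, ?_⟩
    have : X 0 ^ (N₁ + N₂) * (g₁ + g₂) - Polynomial.aeval (X 0 : MvPolynomial (Fin 2) ℤ)
          (Polynomial.X ^ N₂ * G₁ + Polynomial.X ^ N₁ * G₂)
        = X 0 ^ N₂ * (X 0 ^ N₁ * g₁ - Polynomial.aeval (X 0 : MvPolynomial (Fin 2) ℤ) G₁)
          + X 0 ^ N₁ * (X 0 ^ N₂ * g₂ - Polynomial.aeval (X 0 : MvPolynomial (Fin 2) ℤ) G₂) := by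
      simp only [map_add, map_mul, map_pow, Polynomial.aeval_X]
      ring
    rw [this]
    exact Ideal.add_mem _ (Ideal.mul_mem_left _ _ h₁) (Ideal.mul_mem_left _ _ h₂)
  | mul_X g i hg =>
    obtain ⟨N, G, hG⟩ := hg
    have hi : i = 0 ∨ i = 1 := by fin_cases i <;> simp
    rcases hi with rfl | rfl
    · refine ⟨N, G * Polynomial.X, ?_⟩
      have : X 0 ^ N * (g * X 0) - Polynomial.aeval (X 0 : MvPolynomial (Fin 2) ℤ) (G * Polynomial.X)
          = (X 0 ^ N * g - Polynomial.aeval (X 0 : MvPolynomial (Fin 2) ℤ) G) * X 0 := by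
        simp only [map_mul, Polynomial.aeval_X]; ring
      rw [this]; exact Ideal.mul_mem_right _ _ hG
    · refine ⟨N + 1, G * Polynomial.C q, ?_⟩
      have : X 0 ^ (N + 1) * (g * X 1) - Polynomial.aeval (X 0 : MvPolynomial (Fin 2) ℤ) (G * Polynomial.C q)
          = (X 0 ^ N * g - Polynomial.aeval (X 0 : MvPolynomial (Fin 2) ℤ) G) * (X 0 * X 1)
            + Polynomial.aeval (X 0 : MvPolynomial (Fin 2) ℤ) G * (X 0 * X 1 - C q) := by
        simp only [map_mul, Polynomial.aeval_C, MvPolynomial.algebraMap_eq]; ring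
      rw [this]
      exact Ideal.add_mem _ (Ideal.mul_mem_right _ _ hG)
        (Ideal.mul_mem_left _ _ (Ideal.subset_span rfl))

lemma exists_eval {E : Type*} [Ring E] [Algebra ℤ E] (a b : E) (hab : a * b = b * a) :
    ∃ ψ : MvPolynomial (Fin 2) ℤ →ₐ[ℤ] E, ψ (MvPolynomial.X 0) = a ∧ ψ (MvPolynomial.X 1) = b := by
  have hcommS : ∀ x ∈ ({a, b} : Set E), ∀ y ∈ ({a, b} : Set E), x * y = y * x := by
    intro x hx y hy
    simp only [Set.mem_insert_iff, Set.mem_singleton_iff] at hx hy
    rcases hx with rfl | rfl <;> rcases hy with rfl | rfl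
    · rfl
    · exact hab
    · exact hab.symm
    · rfl
  let _ : CommRing (Algebra.adjoin ℤ ({a, b} : Set E)) :=
    { (Algebra.adjoin ℤ ({a, b} : Set E)).toRing with
      mul_comm := (Algebra.isMulCommutative_adjoin ℤ hcommS).is_comm.comm }
  refine ⟨(Algebra.adjoin ℤ ({a, b} : Set E)).val.comp
    (MvPolynomial.aeval ![⟨a, Algebra.subset_adjoin (by simp)⟩,
      ⟨b, Algebra.subset_adjoin (by simp)⟩]), ?_, ?_⟩
  · simp
  · simp

open MvPolynomial in
theorem main {B : Type u} [CommRing B] [Algebra ℤ B] (φ : MvPolynomial (Fin 2) ℤ →ₐ[ℤ] B) (q : ℤ)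
    (P : Polynomial ℤ) (hφq : φ (X 0 * X 1 - C q) = 0) (hP0 : P.coeff 0 ≠ 0)
    (hPF : Polynomial.aeval (φ (X 0)) P = 0)
    (hdiv : ∀ G : Polynomial ℤ, Polynomial.aeval (φ (X 0)) G = 0 → P ∣ G)
    (T : Type) [AddCommGroup T] [Module.Finite ℤ T] [Module.Free ℤ T] (FT : T →ₗ[ℤ] T) :
    (∃ _ : Module φ.range T,
        ∀ t : T, (⟨φ (X 0), AlgHom.mem_range_self _ _⟩ : φ.range) • t = FT t) ↔
      (Polynomial.aeval FT P = 0 ∧ ∃ VT : T →ₗ[ℤ] T, FT ∘ₗ VT = q • LinearMap.id) := by
  have hφC : φ (C q) = algebraMap ℤ B q := by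
    rw [← MvPolynomial.algebraMap_eq, AlgHom.commutes]
  constructor
  · rintro ⟨inst, hF⟩
    obtain ⟨ρ, hρ⟩ : ∃ ρ : φ.range →ₐ[ℤ] Module.End ℤ T, ∀ r t, ρ r t = r • t := by
      refine ⟨{ (Module.toModuleEnd ℤ (S := φ.range) T) with commutes' := fun n => ?_ },
        fun r t => rfl⟩
      apply LinearMap.ext; intro t
      show (algebraMap ℤ φ.range n) • t = (algebraMap ℤ (Module.End ℤ T) n) t
      rw [Module.algebraMap_end_apply, eq_intCast, Int.cast_smul_eq_zsmul]
    have hρF : ρ ⟨φ (X 0), AlgHom.mem_range_self _ _⟩ = FT :=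
      LinearMap.ext fun t => (hρ _ t).trans (hF t)
    refine ⟨?_, ρ ⟨φ (X 1), AlgHom.mem_range_self _ _⟩, ?_⟩
    · rw [← hρF, Polynomial.aeval_algHom_apply]
      have : Polynomial.aeval (⟨φ (X 0), AlgHom.mem_range_self _ _⟩ : φ.range) P = 0 := by
        apply Subtype.ext
        have h1 := Polynomial.aeval_algHom_apply φ.range.val
          (⟨φ (X 0), AlgHom.mem_range_self _ _⟩ : φ.range) P
        rw [Subalgebra.val_apply, Subalgebra.val_apply] at h1
        rw [← h1]
        exact hPF
      rw [this, map_zero]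
    · rw [← hρF, ← Module.End.mul_eq_comp, ← map_mul]
      have : ((⟨φ (X 0), AlgHom.mem_range_self _ _⟩ : φ.range) *
          ⟨φ (X 1), AlgHom.mem_range_self _ _⟩) = algebraMap ℤ φ.range q := by
        apply Subtype.ext
        show φ (X 0) * φ (X 1) = algebraMap ℤ B q
        have h2 := hφq
        rw [map_sub, map_mul, sub_eq_zero] at h2
        rw [h2, hφC]
      rw [this, AlgHom.commutes, Algebra.algebraMap_eq_smul_one, Module.End.one_eq_id]
  · rintro ⟨hP, VT, hFV⟩
    have hinjF : Function.Injective FT := by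
      rw [← LinearMap.ker_eq_bot, LinearMap.ker_eq_bot']
      intro t ht
      have h1 := Polynomial.divX_mul_X_add P
      have h2 : Polynomial.aeval FT P
          = Polynomial.aeval FT P.divX * FT + algebraMap ℤ _ (P.coeff 0) := by
        conv_lhs => rw [← h1]
        simp only [map_add, map_mul, Polynomial.aeval_X, Polynomial.aeval_C]
      have h3 := congrArg (fun f => f t) h2
      simp only [hP, LinearMap.zero_apply, LinearMap.add_apply, Module.End.mul_apply, ht,
        map_zero, zero_add, Module.algebraMap_end_apply] at h3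
      exact (smul_eq_zero.mp h3.symm).resolve_left hP0
    have hVF : VT ∘ₗ FT = q • LinearMap.id := by
      apply LinearMap.ext; intro t
      apply hinjF
      have h4 := congrArg (fun f => f (FT t)) hFV
      simp only [LinearMap.comp_apply, LinearMap.smul_apply, LinearMap.id_apply] at h4 ⊢
      rw [h4, map_smul]
    have hcomm : FT * VT = VT * FT := by
      rw [Module.End.mul_eq_comp, Module.End.mul_eq_comp, hFV, hVF]
    obtain ⟨ψ, hψ0, hψ1⟩ := exists_eval FT VT hcomm
    have hpow : ∀ n : ℕ, ∀ f : Module.End ℤ T, FT ^ n * f = 0 → f = 0 := by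
      intro n
      induction n with
      | zero => intro f hf; simpa using hf
      | succ n ih =>
        intro f hf
        apply ih
        rw [pow_succ', mul_assoc] at hf
        apply LinearMap.ext; intro t
        apply hinjF
        have h5 := congrArg (fun u => u t) hf
        simpa using h5
    have hker : RingHom.ker φ.rangeRestrict.toRingHom ≤ RingHom.ker ψ.toRingHom := by
      intro g hg
      rw [RingHom.mem_ker] at hg ⊢
      have hg' : φ g = 0 := congrArg Subtype.val hg
      obtain ⟨N, G, hNG⟩ := reduce q g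
      have hφker : Ideal.span ({X 0 * X 1 - C q} : Set (MvPolynomial (Fin 2) ℤ)) ≤
          RingHom.ker φ.toRingHom := by
        rw [Ideal.span_le, Set.singleton_subset_iff]; exact hφq
      have hψker : Ideal.span ({X 0 * X 1 - C q} : Set (MvPolynomial (Fin 2) ℤ)) ≤
          RingHom.ker ψ.toRingHom := by
        rw [Ideal.span_le, Set.singleton_subset_iff]
        show ψ (X 0 * X 1 - C q) = 0
        rw [map_sub, map_mul, hψ0, hψ1, Module.End.mul_eq_comp, hFV, ← MvPolynomial.algebraMap_eq,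
          AlgHom.commutes, Algebra.algebraMap_eq_smul_one, Module.End.one_eq_id, sub_self]
      have e1 : φ (X 0 ^ N * g - Polynomial.aeval (X 0 : MvPolynomial (Fin 2) ℤ) G) = 0 :=
        hφker hNG
      have e2 : ψ (X 0 ^ N * g - Polynomial.aeval (X 0 : MvPolynomial (Fin 2) ℤ) G) = 0 :=
        hψker hNG
      rw [map_sub, map_mul, hg', mul_zero, zero_sub, neg_eq_zero,
        ← Polynomial.aeval_algHom_apply] at e1
      obtain ⟨Q, rfl⟩ := hdiv G e1
      rw [map_sub, map_mul, map_pow, hψ0, ← Polynomial.aeval_algHom_apply, hψ0, map_mul, hP,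
        zero_mul, sub_zero] at e2
      exact hpow N _ e2
    obtain ⟨ρ, hρ⟩ : ∃ ρ : φ.range →+* Module.End ℤ T,
        ∀ g, ρ (φ.rangeRestrict g) = ψ g := by
      refine ⟨φ.rangeRestrict.toRingHom.liftOfSurjective φ.rangeRestrict_surjective
        ⟨ψ.toRingHom, hker⟩, fun g => ?_⟩
      exact RingHom.liftOfRightInverse_comp_apply _ _ _ ⟨ψ.toRingHom, hker⟩ g
    refine ⟨Module.compHom T ρ, fun t => ?_⟩
    show (ρ ⟨φ (X 0), AlgHom.mem_range_self _ _⟩) t = FT t
    have h6 : (⟨φ (X 0), AlgHom.mem_range_self _ _⟩ : φ.range) = φ.rangeRestrict (X 0) := rfl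
    rw [h6, hρ, hψ0]

/-- Let p be a prime, e ≥ 1 and q = p^e; let (π_i) be a finite family of pairwise nonconjugate Weil
q-numbers (π_i in a field K_i of characteristic zero, integral over ℤ with minimal polynomial P_i,
all complex roots of P_i of absolute value √q, P_i ≠ P_j for i ≠ j) of even total degree Σ_i deg
P_i, P_w = ∏_i P_i, and R_w ⊆ ∏_i K_i the minimal central order, the image of ℤ[F, V] → ∏_i K_i, F ↦
(π_i), V ↦ (q/π_i). Let T be a finitely generated free ℤ-module and F_T an endomorphism of T. Then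
there exists an R_w-module structure on the additive group T in which the class of F acts as F_T if
and only if P_w(F_T) = 0 (equivalently: F_T is semisimple after tensoring with ℚ, with eigenvalues
among the conjugates of the π_i) and there is an endomorphism V_T of T with F_T ∘ V_T = q. When it
exists the structure is determined by F_T (the class of V acts as V_T = q·F_T⁻¹), and reflexive
R_w-modules are exactly the ℤ-free finitely generated ones, so this identifies the objects of
Refl(R_w) with such pairs (T, F_T); the uniqueness remark is not part of the formal statement. -/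
theorem result (p e : ℕ) [Fact p.Prime] (he : 0 < e)
    (ι : Type) [Fintype ι] (K : ι → Type u) [∀ i, Field (K i)] [∀ i, CharZero (K i)] (π : ∀ i, K i)
    (hint : ∀ i, IsIntegral ℤ (π i))
    (hweil : ∀ i, ∀ z ∈ (minpoly ℤ (π i)).aroots ℂ, ‖z‖ = Real.sqrt ((p : ℝ) ^ e))
    (hinj : ∀ i j, minpoly ℤ (π i) = minpoly ℤ (π j) → i = j)
    (D : ℕ) (hD : ∑ i, (minpoly ℤ (π i)).natDegree = 2 * D)
    (T : Type) [AddCommGroup T] [Module.Finite ℤ T] [Module.Free ℤ T] (FT : T →ₗ[ℤ] T) :
    (∃ _ : Module (MvPolynomial.aeval ![fun i => π i, fun i => ((p : K i) ^ e) / π i] :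
        MvPolynomial (Fin 2) ℤ →ₐ[ℤ] ((i : ι) → K i)).range T,
        ∀ t : T, (⟨(MvPolynomial.aeval ![fun i => π i, fun i => ((p : K i) ^ e) / π i] :
        MvPolynomial (Fin 2) ℤ →ₐ[ℤ] ((i : ι) → K i)) (X 0), AlgHom.mem_range_self _ _⟩ : (MvPolynomial.aeval ![fun i => π i, fun i => ((p : K i) ^ e) / π i] :
        MvPolynomial (Fin 2) ℤ →ₐ[ℤ] ((i : ι) → K i)).range) • t = FT t) ↔
      (Polynomial.aeval FT (∏ i, minpoly ℤ (π i)) = 0 ∧
        ∃ VT : T →ₗ[ℤ] T, FT ∘ₗ VT = ((p : ℤ) ^ e) • LinearMap.id) := by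
  classical
  have hpi : ∀ i, π i ≠ 0 := by
    intro i h0
    have h1 : minpoly ℤ (π i) = Polynomial.X := by
      have := minpoly.eq_X_sub_C_of_algebraMap_inj (A := ℤ) (B := K i) 0
        (algebraMap ℤ (K i)).injective_int
      rw [map_zero, map_zero, sub_zero] at this
      rw [h0]; exact this
    have h2 := hweil i 0 (by rw [h1, Polynomial.aroots_X]; simp)
    rw [norm_zero] at h2
    have h3 : (0 : ℝ) < Real.sqrt ((p : ℝ) ^ e) :=
      Real.sqrt_pos.mpr (pow_pos (by exact_mod_cast (Fact.out : p.Prime).pos) e)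
    linarith
  have hX0 : (MvPolynomial.aeval ![fun i => π i, fun i => ((p : K i) ^ e) / π i] :
        MvPolynomial (Fin 2) ℤ →ₐ[ℤ] ((i : ι) → K i)) (X 0) = fun i => π i := by simp
  have hX1 : (MvPolynomial.aeval ![fun i => π i, fun i => ((p : K i) ^ e) / π i] :
        MvPolynomial (Fin 2) ℤ →ₐ[ℤ] ((i : ι) → K i)) (X 1) = fun i => ((p : K i) ^ e) / π i := by
    simp
  have hev : ∀ (G : Polynomial ℤ) (i : ι),
      (Polynomial.aeval (fun i => π i : (i : ι) → K i) G) i = Polynomial.aeval (π i) G := by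
    intro G i
    exact (Polynomial.aeval_algHom_apply (Pi.evalAlgHom ℤ K i) (fun i => π i) G).symm
  refine main _ ((p : ℤ) ^ e) (∏ i, minpoly ℤ (π i)) ?_ ?_ ?_ ?_ T FT
  · rw [map_sub, map_mul, hX0, hX1]
    funext i
    simp only [Pi.sub_apply, Pi.mul_apply, Pi.zero_apply]
    rw [mul_div_cancel₀ _ (hpi i)]
    simp
  · rw [Polynomial.coeff_zero_eq_eval_zero, Polynomial.eval_prod, Finset.prod_ne_zero_iff]
    intro i _
    rw [← Polynomial.coeff_zero_eq_eval_zero]
    intro h0
    have hdvd : Polynomial.X ∣ minpoly ℤ (π i) := Polynomial.X_dvd_iff.mpr h0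
    have hX : Polynomial.X = minpoly ℤ (π i) :=
      Polynomial.eq_of_monic_of_associated Polynomial.monic_X (minpoly.monic (hint i))
        (Polynomial.irreducible_X.associated_of_dvd (minpoly.irreducible (hint i)) hdvd)
    have := minpoly.aeval ℤ (π i)
    rw [← hX, Polynomial.aeval_X] at this
    exact hpi i this
  · rw [hX0]
    funext i
    rw [hev, map_prod, Pi.zero_apply]
    exact Finset.prod_eq_zero (Finset.mem_univ i) (minpoly.aeval ℤ (π i))
  · intro G hG
    rw [hX0] at hG
    apply Fintype.prod_dvd_of_isRelPrime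
    · intro i j hij
      show IsRelPrime (minpoly ℤ (π i)) (minpoly ℤ (π j))
      rw [(minpoly.irreducible (hint i)).isRelPrime_iff_not_dvd]
      intro hd
      apply hij
      apply hinj
      exact Polynomial.eq_of_monic_of_associated (minpoly.monic (hint i)) (minpoly.monic (hint j))
        ((minpoly.irreducible (hint i)).associated_of_dvd (minpoly.irreducible (hint j)) hd)
    · intro i
      apply minpoly.isIntegrallyClosed_dvd (hint i)
      rw [← hev, hG, Pi.zero_apply]

end Groth.Agent.S18003
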