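import Groth.Statements.S18014
import Groth.Agent.H15.IntPair.Sys
import Groth.Agent.H15.IntPair.SB
import Groth.Agent.H15.IntPair.KB
import Groth.Agent.H1.IntPair_FIN
import Groth.Agent.H10.IntPair_KC
import Groth.Agent.H83.IntPair_SC
import Groth.Agent.H37.IntPair_Mdf
import Groth.Agent.H37.IntPair_Ma
import Groth.Agent.H73.IntPair_Mb
import Groth.Agent.H73.IntPair_Mc
import Groth.Agent.H44.IntPair_DIR
import Groth.Agent.H33.IntPair_Me

set_option autoImplicit false
universe u
open CategoryTheory CategoryTheory.Limits
open Lim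

namespace Groth.Agent.S18014
open Groth.Agent.H69 Groth.Agent.H15.IntPair
open Groth.Agent.H15.NilPair (fp)

/-- Let A be a commutative ring, B an A-algebra and C a B-algebra, with B and C both integral over A.
Then B → C is a filtered colimit, in the category of A-algebras, of maps B_i → C_i between
A-algebras each of which is finite and of finite presentation over A: there are a small filtered
index category, two diagrams of A-algebras over it with a morphism of diagrams, and colimiting
cocones with vertices B and C under which the morphism of diagrams induces B → C. Moreover the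
system can be chosen so that if A → B (resp. B → C, resp. A → C) is surjective then so is every A →
B_i (resp. B_i → C_i, resp. A → C_i), and if A → B (resp. B → C, resp. A → C) is surjective with
nilpotent kernel then so is every A → B_i (resp. B_i → C_i, resp. A → C_i). -/
theorem result {A B C : Type u} [CommRing A] [CommRing B]
    [CommRing C] [Algebra A B] [Algebra A C] [Algebra B C] [IsScalarTower A B C]
    [Algebra.IsIntegral A B] [Algebra.IsIntegral A C] :
    ∃ (ι : Type u) (_ : SmallCategory ι) (_ : IsFiltered ι) (DB DC : ι ⥤ Under (CommRingCat.of A)) (τ : DB ⟶ DC)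
      (cB : DB ⟶ (Functor.const ι).obj (Under.mk (CommRingCat.ofHom (algebraMap A B))))
      (cC : DC ⟶ (Functor.const ι).obj (Under.mk (CommRingCat.ofHom (algebraMap A C)))),
      Nonempty (IsColimit (Cocone.mk _ cB)) ∧ Nonempty (IsColimit (Cocone.mk _ cC)) ∧
      (∀ i, (τ.app i).right ≫ (cC.app i).right = (cB.app i).right ≫ CommRingCat.ofHom (algebraMap B C)) ∧
      (∀ i, (DB.obj i).hom.hom.Finite ∧ (DB.obj i).hom.hom.FinitePresentation ∧
        (DC.obj i).hom.hom.Finite ∧ (DC.obj i).hom.hom.FinitePresentation) ∧
      (Function.Surjective (algebraMap A B) → ∀ i, Function.Surjective (DB.obj i).hom.hom) ∧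
      (Function.Surjective (algebraMap B C) → ∀ i, Function.Surjective (τ.app i).right.hom) ∧
      (Function.Surjective (algebraMap A C) → ∀ i, Function.Surjective (DC.obj i).hom.hom) ∧
      (Function.Surjective (algebraMap A B) → IsNilpotent (RingHom.ker (algebraMap A B)) →
        ∀ i, Function.Surjective (DB.obj i).hom.hom ∧ IsNilpotent (RingHom.ker (DB.obj i).hom.hom)) ∧
      (Function.Surjective (algebraMap B C) → IsNilpotent (RingHom.ker (algebraMap B C)) →
        ∀ i, Function.Surjective (τ.app i).right.hom ∧ IsNilpotent (RingHom.ker (τ.app i).right.hom)) ∧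
      (Function.Surjective (algebraMap A C) → IsNilpotent (RingHom.ker (algebraMap A C)) →
        ∀ i, Function.Surjective (DC.obj i).hom.hom ∧ IsNilpotent (RingHom.ker (DC.obj i).hom.hom)) := by
  classical
  obtain ⟨hdir, hne⟩ := Groth.Agent.H44.IntPair_DIR.directed_nonempty A B C
  haveI := hdir
  haveI := hne
  have hsB : ∀ b : B, ∃ (j : J A B C) (x : FB j), toB j x = b := surj_B
  have hkB := ker_B (A := A) (B := B) (C := C)
  have hsC : ∀ c : C, ∃ (j : J A B C) (y : FC j), toC j y = c := Groth.Agent.H83.IntPair_SC.surj_C hsB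
  have hkC := Groth.Agent.H10.IntPair_KC.ker_C (A := A) (B := B) (C := C)
  refine ⟨J A B C, inferInstance, isFiltered_of_directed_le_nonempty _, DB A B C, DC A B C,
    natPhi A B C, (coneB A B C).ι, (coneC A B C).ι, ?_, ?_, ?_, ?_, ?_, ?_, ?_, ?_, ?_, ?_⟩
  · exact dir_isColimit (fun j : J A B C => FB j) trB trB_refl trB_trans toB toB_tr hsB hkB
  · exact dir_isColimit (fun j : J A B C => FC j) trC trC_refl trC_trans toC toC_tr hsC hkC
  · intro j
    apply CommRingCat.hom_ext
    apply RingHom.ext
    intro x
    exact toC_phi j x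
  · intro j
    exact ⟨(Groth.Agent.H1.IntPair_FIN.finite_stage j).1, (RingHom.finitePresentation_algebraMap).mpr (fp _ _),
      (Groth.Agent.H1.IntPair_FIN.finite_stage j).2, (RingHom.finitePresentation_algebraMap).mpr (fp _ _)⟩
  · intro h j
    exact Groth.Agent.H37.IntPair_Ma.surj_A_FB h j
  · intro h j
    exact Groth.Agent.H73.IntPair_Mb.phi_surj h j
  · intro h j
    exact Groth.Agent.H73.IntPair_Mc.surj_A_FC h j
  · intro h hn j
    exact ⟨Groth.Agent.H37.IntPair_Ma.surj_A_FB h j, (Groth.Agent.H37.IntPair_Mdf.nil_ker_stage j).1 hn⟩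
  · intro h hn j
    exact ⟨Groth.Agent.H73.IntPair_Mb.phi_surj h j, Groth.Agent.H33.IntPair_Me.phi_nil h hn j⟩
  · intro h hn j
    exact ⟨Groth.Agent.H73.IntPair_Mc.surj_A_FC h j, (Groth.Agent.H37.IntPair_Mdf.nil_ker_stage j).2 hn⟩

end Groth.Agent.S18014
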