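import Groth.Statements.S18016
import Groth.Agent.H15.NilPair.Sys
import Groth.Agent.H15.NilPair.Easy
import Groth.Agent.H15.NilPair.KB
import Groth.Agent.H15.NilPair.KD
import Groth.Agent.H11.NilPair_PB
import Groth.Agent.H11.NilPair_SDb
import Groth.Agent.H76.NilPair_M3
import Groth.Agent.H87.NilPair_PP
import Groth.Agent.H94.NilPair_DIR
import Groth.Agent.H15.NilPair.PsiM2
import Groth.Agent.H13.NilPair_KDp

set_option autoImplicit false
universe u
open CategoryTheory CategoryTheory.Limits
open Lim

namespace Groth.Agent.S18016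
open Groth.Agent.H69 Groth.Agent.H15.NilPair

/-- In ring form, let R be a commutative ring, f : B → D any map of R-algebras and i : D' → D a
surjective map of R-algebras every element of whose kernel is nilpotent (so Spec D → Spec D' is a
locally nilpotent closed immersion of affine R-schemes and Spec D → Spec B is affine), and let q₁ :
P → B, q₂ : P → D' exhibit P as the fibre product ring B ×_D D' (the pushout of the two affine
schemes). Then the diagram B → D ← D' is a filtered colimit, in R-algebras, of diagrams B_j → D_j ←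
D'_j of R-algebras of finite presentation in which D'_j → D_j is surjective with locally nilpotent
kernel; and the fibre products P_j = B_j ×_{D_j} D'_j form a compatible diagram whose colimit is P.
Moreover: if f is surjective (resp. surjective with locally nilpotent kernel, resp. integral) then
every B_j → D_j can be taken surjective (resp. surjective with locally nilpotent kernel, resp.
integral). (The published statement also covers two further classes, maps that become a closed or a
locally nilpotent immersion after composing with a locally nilpotent closed immersion; those two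
clauses are not stated here.) -/
theorem result {R B D D' P : Type u} [CommRing R] [CommRing B]
    [CommRing D] [CommRing D'] [CommRing P] [Algebra R B] [Algebra R D] [Algebra R D'] [Algebra R P]
    (f : B →ₐ[R] D) (i : D' →ₐ[R] D) (hi : Function.Surjective i)
    (hnil : ∀ x ∈ RingHom.ker i.toRingHom, IsNilpotent x) (q₁ : P →ₐ[R] B) (q₂ : P →ₐ[R] D')
    (hP : IsPullback (CommRingCat.ofHom q₁.toRingHom) (CommRingCat.ofHom q₂.toRingHom)
      (CommRingCat.ofHom f.toRingHom) (CommRingCat.ofHom i.toRingHom)) :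
    ∃ (ι : Type u) (_ : SmallCategory ι) (_ : IsFiltered ι) (DB DD DD' DP : ι ⥤ Under (CommRingCat.of R))
      (φ : DB ⟶ DD) (ψ : DD' ⟶ DD) (π₁ : DP ⟶ DB) (π₂ : DP ⟶ DD')
      (cB : DB ⟶ (Functor.const ι).obj (Under.mk (CommRingCat.ofHom (algebraMap R B))))
      (cD : DD ⟶ (Functor.const ι).obj (Under.mk (CommRingCat.ofHom (algebraMap R D))))
      (cD' : DD' ⟶ (Functor.const ι).obj (Under.mk (CommRingCat.ofHom (algebraMap R D'))))
      (cP : DP ⟶ (Functor.const ι).obj (Under.mk (CommRingCat.ofHom (algebraMap R P)))),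
      Nonempty (IsColimit (Cocone.mk _ cB)) ∧ Nonempty (IsColimit (Cocone.mk _ cD)) ∧
      Nonempty (IsColimit (Cocone.mk _ cD')) ∧ Nonempty (IsColimit (Cocone.mk _ cP)) ∧
      (∀ j, (φ.app j).right ≫ (cD.app j).right = (cB.app j).right ≫ CommRingCat.ofHom f.toRingHom) ∧
      (∀ j, (ψ.app j).right ≫ (cD.app j).right = (cD'.app j).right ≫ CommRingCat.ofHom i.toRingHom) ∧
      (∀ j, (π₁.app j).right ≫ (cB.app j).right = (cP.app j).right ≫ CommRingCat.ofHom q₁.toRingHom) ∧
      (∀ j, (π₂.app j).right ≫ (cD'.app j).right = (cP.app j).right ≫ CommRingCat.ofHom q₂.toRingHom) ∧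
      (∀ j, (DB.obj j).hom.hom.FinitePresentation ∧ (DD.obj j).hom.hom.FinitePresentation ∧
        (DD'.obj j).hom.hom.FinitePresentation) ∧
      (∀ j, Function.Surjective (ψ.app j).right.hom ∧ ∀ x ∈ RingHom.ker (ψ.app j).right.hom, IsNilpotent x) ∧
      (∀ j, IsPullback (π₁.app j).right (π₂.app j).right (φ.app j).right (ψ.app j).right) ∧
      (Function.Surjective f → ∀ j, Function.Surjective (φ.app j).right.hom) ∧
      (Function.Surjective f → (∀ x ∈ RingHom.ker f.toRingHom, IsNilpotent x) →
        ∀ j, Function.Surjective (φ.app j).right.hom ∧ ∀ x ∈ RingHom.ker (φ.app j).right.hom, IsNilpotent x) ∧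
      (f.toRingHom.IsIntegral → ∀ j, (φ.app j).right.hom.IsIntegral) := by
  classical
  obtain ⟨hw, hPb, hPinj⟩ := Groth.Agent.H11.NilPair_PB.pullback_facts hP
  have hq₁ : Function.Surjective q₁ := fun b => by
    obtain ⟨d', hd'⟩ := hi (f b)
    obtain ⟨p, hp, _⟩ := hPb b d' hd'.symm
    exact ⟨p, hp⟩
  obtain ⟨hdir, hne⟩ := Groth.Agent.H94.NilPair_DIR.directed_nonempty f i q₁ q₂
  haveI := hdir
  haveI := hne
  have hsB := surj_B (f := f) (i := i) (q₂ := q₂) hq₁
  have hkB := ker_B (f := f) (i := i) (q₁ := q₁) (q₂ := q₂) hw hnil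
  have hsD' : ∀ d' : D', ∃ (j : J f i q₁ q₂) (y : FD' j), toD' j y = d' := by
    by_cases hf : Function.Surjective f
    · exact surj_D'_of_surj hf hPb
    · by_cases hint : f.toRingHom.IsIntegral
      · exact Groth.Agent.H11.NilPair_SDb.surj_D'_of_integral hf hint hw hq₁ hnil
      · exact surj_D'_of_not hf hint
  have hkD' := Groth.Agent.H13.NilPair_KDp.ker_D' (f := f) (i := i) (q₁ := q₁) (q₂ := q₂) hw hnil
  have hkD := ker_D (f := f) (i := i) (q₁ := q₁) (q₂ := q₂) hw hnil
  have hsD : ∀ d : D, ∃ (j : J f i q₁ q₂) (z : FD j), toD j z = d := by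
    intro d
    obtain ⟨d', rfl⟩ := hi d
    obtain ⟨j, y, hy⟩ := hsD' d'
    exact ⟨j, psi j y, by rw [toD_psi, hy]⟩
  obtain ⟨DP, π₁, π₂, cP, hcP, hc1, hc2, hpb⟩ := Groth.Agent.H87.NilPair_PP.exists_pullback_system f i q₁ q₂ hw hPb hPinj
    (fun j : J f i q₁ q₂ => FB j) (fun j : J f i q₁ q₂ => FD' j) (fun j : J f i q₁ q₂ => FD j)
    trB trD' trD trB_refl trB_trans trD'_refl trD'_trans trD_refl trD_trans
    toB toB_tr toD' toD'_tr toD toD_tr phi phi_tr psi psi_tr (toD_phi hw) toD_psi
    hsB hkB hsD' hkD' hkD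
  refine ⟨J f i q₁ q₂, inferInstance, isFiltered_of_directed_le_nonempty _,
    DB f i q₁ q₂, DD f i q₁ q₂, DD' f i q₁ q₂, DP, natPhi f i q₁ q₂, natPsi f i q₁ q₂, π₁, π₂,
    (coneB f i q₁ q₂).ι, (coneD f i q₁ q₂).ι, (coneD' f i q₁ q₂).ι, cP,
    ?_, ?_, ?_, hcP, ?_, ?_, hc1, hc2, ?_, ?_, hpb, ?_, ?_, ?_⟩
  · exact dir_isColimit (fun j : J f i q₁ q₂ => FB j) trB trB_refl trB_trans toB toB_tr hsB hkB
  · exact dir_isColimit (fun j : J f i q₁ q₂ => FD j) trD trD_refl trD_trans toD toD_tr hsD hkD
  · exact dir_isColimit (fun j : J f i q₁ q₂ => FD' j) trD' trD'_refl trD'_trans toD' toD'_tr hsD' hkD'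
  · intro j
    apply CommRingCat.hom_ext
    apply RingHom.ext
    intro x
    exact toD_phi hw j x
  · intro j
    apply CommRingCat.hom_ext
    apply RingHom.ext
    intro x
    exact toD_psi j x
  · intro j
    refine ⟨?_, ?_, ?_⟩
    · exact (RingHom.finitePresentation_algebraMap).mpr (fp _ _)
    · exact (RingHom.finitePresentation_algebraMap).mpr (fp _ _)
    · exact (RingHom.finitePresentation_algebraMap).mpr (fp _ _)
  · intro j
    exact psi_surj_nil j
  · intro hf j
    exact phi_surj hf j
  · intro hf hfn j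
    exact ⟨phi_surj hf j, phi_nil hf hfn j⟩
  · intro hint j
    exact Groth.Agent.H76.NilPair_M3.phi_integral hint j

end Groth.Agent.S18016
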