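import Groth.Statements.S18019
import Mathlib

set_option autoImplicit false
universe u
open ClassStk

namespace Groth.Agent.S18019

open Polynomial in
/-- Let R be an integral domain of characteristic 2 and let a be a nonzero element of R, so that x ↦ x +
a defines an R-algebra involution of the polynomial ring R[x] (an action of the group of order two).
A polynomial f is invariant, f(x + a) = f(x), if and only if f belongs to the R-subalgebra generated
by u = x (x + a); in other words the ring of invariants is the polynomial ring R[u]. -/
theorem result (R : Type u) [CommRing R] [IsDomain R]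
    [CharP R 2] (a : R) (ha : a ≠ 0) (f : Polynomial R) :
    f.comp (X + C a) = f ↔ f ∈ Algebra.adjoin R ({X * (X + C a)} : Set (Polynomial R)) := by
  classical
  obtain ⟨u, hu⟩ : ∃ u : R[X], u = X * (X + C a) := ⟨_, rfl⟩
  rw [← hu]
  have haa : a + a = 0 := CharTwo.add_self_eq_zero a
  have hσu : u.comp (X + C a) = u := by
    rw [hu]
    simp only [mul_comp, X_comp, add_comp, C_comp]
    have : X + C a + C a = (X : R[X]) := by
      rw [add_assoc, ← C_add, haa, C_0, add_zero]
    rw [this, mul_comm]
  have humonic : u.Monic := by
    rw [hu]
    exact monic_X.mul (monic_X_add_C a)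
  have hudeg : u.natDegree = 2 := by
    rw [hu, natDegree_mul X_ne_zero (X_add_C_ne_zero a), natDegree_X, natDegree_X_add_C]
  have hudeg' : u.degree = 2 := by
    rw [degree_eq_natDegree humonic.ne_zero, hudeg]; rfl
  have hldeg : (X + C a : R[X]).natDegree = 1 := natDegree_X_add_C a
  constructor
  · intro hf
    induction' hn : f.natDegree using Nat.strong_induction_on with n ih generalizing f
    -- division
    set q := f /ₘ u with hq
    set r := f %ₘ u with hr
    have hfdiv : r + u * q = f := modByMonic_add_div f u
    have hrdeg : r.degree < u.degree := degree_modByMonic_lt f humonic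
    -- apply σ
    have h1 : r.comp (X + C a) + u * q.comp (X + C a) = f := by
      conv_rhs => rw [← hf, ← hfdiv]
      rw [add_comp, mul_comp, hσu]
    have hrdeg2 : (r.comp (X + C a)).degree < u.degree := by
      rcases eq_or_ne r 0 with h0 | h0
      · rw [h0, zero_comp]; rw [h0] at hrdeg; exact hrdeg
      · have hne : r.comp (X + C a) ≠ 0 := by
          intro h
          have := congrArg natDegree h
          rw [natDegree_comp, hldeg, mul_one, natDegree_zero] at this
          -- r has natDegree 0, so r = C c, and comp = C c = 0
          rw [eq_C_of_natDegree_eq_zero this, C_comp] at h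
          rw [eq_C_of_natDegree_eq_zero this] at h0
          exact h0 h
        rw [degree_eq_natDegree hne, natDegree_comp, hldeg, mul_one, ← degree_eq_natDegree h0]
        exact hrdeg
    obtain ⟨hq', hr'⟩ := div_modByMonic_unique (q.comp (X + C a)) (r.comp (X + C a)) humonic ⟨h1, hrdeg2⟩
    rw [← hq] at hq'
    rw [← hr] at hr'
    -- r is constant
    have hr1 : r.natDegree ≤ 1 := by
      have : r.degree < 2 := hudeg' ▸ hrdeg
      have : r.degree ≤ 1 := by
        rcases eq_or_ne r 0 with h0 | h0
        · simp [h0]
        · rw [degree_eq_natDegree h0] at this ⊢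
          exact_mod_cast Nat.lt_succ_iff.mp (by exact_mod_cast this)
      exact natDegree_le_of_degree_le this
    obtain ⟨r1, r0, hr10⟩ := exists_eq_X_add_C_of_natDegree_le_one hr1
    have hr1z : r1 = 0 := by
      have h2 := hr'
      rw [hr10] at h2
      simp only [add_comp, mul_comp, C_comp, X_comp] at h2
      -- C r1 * (X + C a) + C r0 = C r1 * X + C r0
      have h3 : C r1 * C a = (0 : R[X]) := by
        have : C r1 * (X + C a) + C r0 = C r1 * X + C r0 + C r1 * C a := by ring
        rw [this] at h2
        exact left_eq_add.mp h2
      rw [← C_mul, C_eq_zero] at h3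
      exact (mul_eq_zero.mp h3).resolve_right ha
    have hrC : r = C r0 := by rw [hr10, hr1z]; simp
    -- now f = C r0 + u * q with q invariant
    have hqmem : q ∈ Algebra.adjoin R ({u} : Set R[X]) := by
      rcases lt_or_ge f.natDegree 2 with hlt | hge
      · have : q = 0 := by
          rw [hq, divByMonic_eq_zero_iff humonic, hudeg']
          exact lt_of_le_of_lt degree_le_natDegree (by exact_mod_cast hlt)
        rw [this]; exact Subalgebra.zero_mem _
      · have hqdeg : q.natDegree < n := by
          rw [hq, natDegree_divByMonic f humonic, hudeg, ← hn]; omega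
        exact ih q.natDegree hqdeg q hq'.symm rfl
    rw [← hfdiv, hrC]
    refine Subalgebra.add_mem _ ?_ (Subalgebra.mul_mem _ (Algebra.subset_adjoin rfl) hqmem)
    exact Subalgebra.algebraMap_mem _ r0
  · intro hf
    have hle : Algebra.adjoin R ({u} : Set R[X]) ≤ AlgHom.equalizer (aeval (X + C a)) (AlgHom.id R R[X]) := by
      refine Algebra.adjoin_le ?_
      intro x hx
      rw [Set.mem_singleton_iff] at hx
      subst hx
      simp only [SetLike.mem_coe, AlgHom.mem_equalizer, AlgHom.id_apply]
      rw [← comp_eq_aeval]; exact hσu
    have := hle hf
    simp only [AlgHom.mem_equalizer, AlgHom.id_apply] at this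
    rw [comp_eq_aeval]; exact this

end Groth.Agent.S18019
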