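import Groth.Statements.S18020
import Mathlib

set_option autoImplicit false
open W4c5stacksedinertia

namespace Groth.Agent.S18020

open W4c5stacksedinertia in
/-- In the rational vector space K with basis the isomorphism classes of finite groups (the class of a
group standing for its classifying groupoid), the inertia operator, which sends the class of a
finite group to the sum over its conjugacy classes of the classes of the centralizers of
representatives, preserves the subspace spanned by the classes of groups of order at most `n`. -/
theorem result (n : ℕ) (v : K) (hv : v ∈ Kle n) :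
    inertia v ∈ Kle n := by
  have hcard : ∀ (H : Type) [Group H] [Finite H], (Idx.of H).card = Nat.card H := by
    intro H _ _
    unfold Idx.card Idx.rep Idx.of
    obtain ⟨e⟩ := Quotient.mk_out (s := FinGrp.setoid) (FinGrp.of H)
    rw [Nat.card_congr e.toEquiv]
    show Nat.card (Fin (Nat.card H)) = _
    simp
  have hcl : ∀ (H : Type) [Group H] [Finite H] (m : ℕ), Nat.card H ≤ m → cl H ∈ Kle m := by
    intro H _ _ m hm
    unfold cl Kle
    rw [Finsupp.mem_supported]
    refine (Finset.coe_subset.mpr Finsupp.support_single_subset).trans ?_
    simp [hcard, hm]
  have hof : ∀ (G : Type) [Group G] [Finite G], inertiaROf 1 G ∈ Kle (Nat.card G) := by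
    intro G _ _
    unfold inertiaROf
    refine finsum_induction _ (Submodule.zero_mem _) (fun x y hx hy => Submodule.add_mem _ hx hy) ?_
    intro O
    apply hcl
    exact Subgroup.card_le_card_group _
  have hmono : ∀ a b, a ≤ b → Kle a ≤ Kle b :=
    fun a b h => Finsupp.supported_mono (fun i hi => le_trans hi h)
  have hv' := (Finsupp.mem_supported ℚ v).mp hv
  show inertiaR 1 v ∈ Kle n
  unfold inertiaR
  rw [Finsupp.linearCombination_apply]
  refine Submodule.sum_mem _ ?_
  intro i hi
  apply Submodule.smul_mem
  have hin : i.card ≤ n := hv' hi
  exact hmono _ _ hin (hof i.rep)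

end Groth.Agent.S18020
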