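import Groth.Statements.S18021
import Groth.Agent.H90.InertiaCenter

set_option autoImplicit false
open W4c5stacksedinertia

namespace Groth.Agent.S18021

theorem W_one_comm (G : Type) [CommGroup G] [Finite G] :
    Groth.Agent.H90.W 1 G = ((Nat.card G : ℚ) * (Nat.card G : ℚ)) • W4c5stacksedinertia.cl G := by
  classical
  letI : Fintype G := Fintype.ofFinite G
  rw [Groth.Agent.H90.W_eq_sum]
  have hterm : ∀ s : Fin 1 → G, (if Groth.Agent.H90.IsCT s then
      (Nat.card (Groth.Agent.H90.Cz s) : ℚ) • W4c5stacksedinertia.cl (Groth.Agent.H90.Cz s) else 0)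
      = (Nat.card G : ℚ) • W4c5stacksedinertia.cl G := by
    intro s
    have hct : Groth.Agent.H90.IsCT s := ⟨fun i j _ => Subsingleton.elim i j, fun i j => Commute.all _ _⟩
    have htop : Groth.Agent.H90.Cz s = ⊤ := by
      ext x
      simp only [Subgroup.mem_top, iff_true]
      rw [Groth.Agent.H90.mem_Cz]
      intro i; exact mul_comm _ _
    have e : Groth.Agent.H90.Cz s ≃* G := (MulEquiv.subgroupCongr htop).trans Subgroup.topEquiv
    rw [if_pos hct, Groth.Agent.H90.cl_congr e, Nat.card_congr e.toEquiv]
  rw [Finset.sum_congr rfl (fun s _ => hterm s), Finset.sum_const, Finset.card_univ,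
    ← Nat.cast_smul_eq_nsmul ℚ, smul_smul, Fintype.card_fun, Fintype.card_fin, pow_one,
    Nat.card_eq_fintype_card]

theorem inertia_cl_comm (G : Type) [CommGroup G] [Finite G] :
    W4c5stacksedinertia.inertiaR 1 (W4c5stacksedinertia.cl G)
      = (Nat.card G : ℚ) • W4c5stacksedinertia.cl G := by
  rw [Groth.Agent.H90.inertiaR_cl, W_one_comm, smul_smul, ← mul_assoc, inv_mul_cancel₀, one_mul]
  exact_mod_cast (Nat.card_pos (α := G)).ne'

open W4c5stacksedinertia in
/-- In the rational vector space K with basis the isomorphism classes of finite groups (the class of a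
group standing for its classifying groupoid), the inertia operator is diagonalizable with spectrum
the positive integers: the eigenspaces attached to natural numbers span everything, and a rational
number is an eigenvalue if and only if it is a positive integer. -/
theorem result :
    (⨆ n : ℕ, Module.End.eigenspace inertia (n : ℚ)) = ⊤ ∧
    ∀ μ : ℚ, Module.End.HasEigenvalue inertia μ ↔ ∃ n : ℕ, 0 < n ∧ μ = (n : ℚ) := by
  refine ⟨?_, ?_⟩
  · rw [eq_top_iff]
    intro v _
    obtain ⟨n, hn⟩ := Groth.Agent.H90.exists_mem_Kle v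
    have h0 : inertiaR (n + 1) v = 0 :=
      Groth.Agent.H90.inertiaR_eq_zero_of_mem_Kle (Nat.lt_succ_self n) hn
    have hker : v ∈ LinearMap.ker (inertiaR (n + 1)) := LinearMap.mem_ker.mpr h0
    rw [Groth.Agent.H90.ker_inertiaR] at hker
    have hle : (⨆ k ∈ Finset.range (n + 1), Module.End.eigenspace (inertiaR 1) (k : ℚ))
        ≤ ⨆ n : ℕ, Module.End.eigenspace inertia (n : ℚ) :=
      iSup₂_le (fun k _ => le_iSup (fun n : ℕ => Module.End.eigenspace inertia (n : ℚ)) k)
    exact hle hker
  · intro μ
    constructor
    · intro hμ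
      obtain ⟨v, hv⟩ := hμ.exists_hasEigenvector
      have hv0 : v ≠ 0 := hv.2
      have hIv : inertia v = μ • v := Module.End.mem_eigenspace_iff.mp hv.1
      have hne : v.support.Nonempty := Finsupp.support_nonempty_iff.mpr hv0
      obtain ⟨i₀, hi₀, hmin⟩ := Finset.exists_min_image v.support Idx.centerCard hne
      have hvK : v ∈ Kge i₀.centerCard := by
        unfold Kge
        rw [Finsupp.mem_supported]
        intro j hj
        exact hmin j hj
      have key := Groth.Agent.H90.inertiaR_sub_mem_Kge 1 i₀.centerCard hvK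
      rw [Nat.descFactorial_one] at key
      have hIv' : inertiaR 1 v = μ • v := hIv
      rw [hIv', ← sub_smul] at key
      unfold Kge at key
      rw [Finsupp.mem_supported'] at key
      have hcoef := key i₀ (by simp)
      rw [Finsupp.smul_apply, smul_eq_mul] at hcoef
      have hvi : v i₀ ≠ 0 := Finsupp.mem_support_iff.mp hi₀
      have hμc : μ - (i₀.centerCard : ℚ) = 0 := (mul_eq_zero.mp hcoef).resolve_right hvi
      refine ⟨i₀.centerCard, ?_, by linarith⟩
      unfold Idx.centerCard
      exact Nat.card_pos
    · rintro ⟨n, hn, rfl⟩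
      haveI : NeZero n := ⟨hn.ne'⟩
      have hcard : Nat.card (Multiplicative (ZMod n)) = n := by
        rw [Nat.card_eq_fintype_card, Fintype.card_multiplicative, ZMod.card]
      have h1 := inertia_cl_comm (Multiplicative (ZMod n))
      rw [hcard] at h1
      apply Module.End.hasEigenvalue_of_hasEigenvector (x := cl (Multiplicative (ZMod n)))
      refine ⟨Module.End.mem_eigenspace_iff.mpr h1, ?_⟩
      unfold cl
      intro h
      have := Finsupp.single_eq_zero.mp h
      exact one_ne_zero this

end Groth.Agent.S18021
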