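import Groth.Statements.S18025
import Groth.Agent.H90.InertiaOps2

set_option autoImplicit false
open W4c5stacksedinertia

namespace Groth.Agent.S18025

open W4c5stacksedinertia in
/-- In the rational vector space K with basis the isomorphism classes of finite groups (the class of a
group standing for its classifying groupoid), the operators `P k := ∑ r, ((-1)^(r+k) / r!) *
Nat.choose r k • inertiaR r` (a finite sum on each vector) are the eigenprojections of the inertia
operator: `P k v` lies in the `k`-eigenspace of the inertia operator for every `v` and `k`, and `∑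
k, P k v = v`. -/
theorem result (v : K) :
    (∀ k : ℕ, (∑ᶠ r : ℕ, (((-1 : ℚ) ^ (r + k)) / (Nat.factorial r : ℚ) * (Nat.choose r k : ℚ)) •
        inertiaR r v) ∈ Module.End.eigenspace inertia (k : ℚ)) ∧
    (∑ᶠ k : ℕ, ∑ᶠ r : ℕ, (((-1 : ℚ) ^ (r + k)) / (Nat.factorial r : ℚ) * (Nat.choose r k : ℚ)) •
        inertiaR r v) = v := by
  obtain ⟨n, hn⟩ := Groth.Agent.H90.exists_mem_Kle v
  have hinner : ∀ k : ℕ, (∑ᶠ r : ℕ, (((-1 : ℚ) ^ (r + k)) / (Nat.factorial r : ℚ) * (Nat.choose r k : ℚ)) •
        inertiaR r v) = ∑ r ∈ Finset.range (n + 1), Groth.Agent.H90.projCoeff r k • inertiaR r v := by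
    intro k
    apply finsum_eq_sum_of_support_subset
    intro r hr
    rw [Function.mem_support] at hr
    rw [Finset.coe_range, Set.mem_Iio]
    by_contra hlt
    apply hr
    rw [Groth.Agent.H90.inertiaR_eq_zero_of_mem_Kle (by omega : n < r) hn, smul_zero]
  refine ⟨fun k => ?_, ?_⟩
  · rw [hinner]
    exact Groth.Agent.H90.eigenproj_mem n k hn
  · simp_rw [hinner]
    rw [finsum_eq_sum_of_support_subset (s := Finset.range (n + 1))]
    · exact Groth.Agent.H90.eigenproj_sum n hn
    · intro k hk
      rw [Function.mem_support] at hk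
      rw [Finset.coe_range, Set.mem_Iio]
      by_contra hlt
      apply hk
      apply Finset.sum_eq_zero
      intro r hr
      rw [Finset.mem_range] at hr
      unfold Groth.Agent.H90.projCoeff
      rw [Nat.choose_eq_zero_of_lt (by omega)]
      simp

end Groth.Agent.S18025
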