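import Groth.Statements.S18026
import Mathlib
import Groth.Agent.H3.HenselSplit

set_option autoImplicit false
universe u
open Hensel

namespace Groth.Agent.S18026



open AlgebraicGeometry CategoryTheory in
/-- Let `A` be a henselian discrete valuation ring and `f : T ⟶ Spec A` an étale surjective morphism of
schemes. Then some open subscheme `U` of `T` is finite over `Spec A` and still maps onto it; in
particular `U → Spec A` is a finite étale cover sitting inside `T` as an open subscheme (étaleness
of the restriction is automatic, and surjectivity records that `U` meets the closed fibre). (The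
published statement asks for an open component of `T` finite étale over `Spec A`; when `T` is not
separated — two copies of `Spec A` glued along the generic point — no open and closed subset of `T`
is finite over `Spec A`, while the published proof constructs an open subscheme, the spectrum of the
local ring of `T` at a point of the closed fibre; so this row asks only for an open subscheme.) -/
theorem result
    (A : Type u) [CommRing A] [IsDomain A] [IsDiscreteValuationRing A] [HenselianLocalRing A]
    (T : Scheme.{u}) (f : T ⟶ Spec (CommRingCat.of A)) [Etale f] [Surjective f] :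
    ∃ U : T.Opens, IsFinite (U.ι ≫ f) ∧ Surjective (U.ι ≫ f) := by
  classical
  let R : CommRingCat.{u} := CommRingCat.of A
  obtain ⟨t, ht⟩ := f.surjective (IsLocalRing.closedPoint A)
  obtain ⟨W, hW, htW, -⟩ :=
    exists_isAffineOpen_mem_and_subset (x := t) (U := (⊤ : T.Opens)) trivial
  let B : CommRingCat.{u} := Γ(T, W)
  haveI : IsOpenImmersion hW.fromSpec := hW.isOpenImmersion_fromSpec
  let g : Spec B ⟶ Spec R := hW.fromSpec ≫ f
  haveI : Etale g := inferInstanceAs (Etale (hW.fromSpec ≫ f))
  let ψ : R ⟶ B := Spec.preimage g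
  have hψ : Spec.map ψ = g := Spec.map_preimage g
  have hEt : ψ.hom.Etale := by
    have : Etale (Spec.map ψ) := hψ ▸ inferInstance
    exact (HasRingHomProperty.Spec_iff (P := @Etale)).mp this
  algebraize [ψ.hom]
  let q : Ideal B := (hW.primeIdealOf ⟨t, htW⟩).asIdeal
  haveI : q.IsPrime := (hW.primeIdealOf ⟨t, htW⟩).isPrime
  have hgq : g (hW.primeIdealOf ⟨t, htW⟩) = IsLocalRing.closedPoint A := by
    show f (hW.fromSpec (hW.primeIdealOf ⟨t, htW⟩)) = _
    rw [hW.fromSpec_primeIdealOf ⟨t, htW⟩]
    exact ht
  haveI hq : q.LiesOver (IsLocalRing.maximalIdeal A) := by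
    constructor
    have h1 : (Spec.map ψ) (hW.primeIdealOf ⟨t, htW⟩) = IsLocalRing.closedPoint A := by rw [hψ]; exact hgq
    exact (congrArg PrimeSpectrum.asIdeal h1).symm
  obtain ⟨e, he, heq, hfin, -⟩ :=
    Groth.Agent.H3.exists_idempotent_finite_of_quasiFiniteAt (R := A) (S := B) q
  -- the open immersion
  let C : CommRingCat.{u} := CommRingCat.of (B ⧸ Ideal.span {1 - e})
  let π : B ⟶ C := CommRingCat.ofHom (Ideal.Quotient.mk (Ideal.span {1 - e}))
  haveI : IsLocalization.Away e (B ⧸ Ideal.span {1 - e}) :=
    IsLocalization.Away.quotient_of_isIdempotentElem he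
  haveI : IsOpenImmersion (Spec.map π) := IsOpenImmersion.of_isLocalization e
  let j : Spec C ⟶ T := Spec.map π ≫ hW.fromSpec
  haveI : IsOpenImmersion j := inferInstanceAs (IsOpenImmersion (Spec.map π ≫ hW.fromSpec))
  let U : T.Opens := j.opensRange
  have hUr : Set.range U.ι = Set.range j := by
    rw [Scheme.Opens.range_ι]; rfl
  let i : Spec C ≅ ↑U := IsOpenImmersion.isoOfRangeEq j U.ι hUr.symm
  have hi : i.hom ≫ U.ι = j := IsOpenImmersion.isoOfRangeEq_hom_fac j U.ι hUr.symm
  have hjf : j ≫ f = Spec.map (ψ ≫ π) := by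
    rw [Spec.map_comp, hψ]; rfl
  have hUf : U.ι ≫ f = i.inv ≫ Spec.map (ψ ≫ π) := by
    rw [← hjf, ← hi, Category.assoc, Iso.inv_hom_id_assoc]
  have hfinmap : (ψ ≫ π).hom.Finite := by
    have : (ψ ≫ π).hom = algebraMap A (B ⧸ Ideal.span {1 - e}) := rfl
    rw [this]
    exact RingHom.finite_algebraMap.mpr hfin
  haveI hF : IsFinite (Spec.map (ψ ≫ π)) := (IsFinite.SpecMap_iff _).mpr hfinmap
  refine ⟨U, ?_, ?_⟩
  · rw [hUf]; infer_instance
  · -- surjectivity
    haveI : Etale (Spec.map (ψ ≫ π)) := by rw [← hjf]; infer_instance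
    have hgen : GeneralizingMap (Spec.map (ψ ≫ π)) := Flat.generalizingMap _
    -- a point over the closed point
    have heq' : Ideal.Quotient.mk (Ideal.span {1 - e}) e = 1 := by
      have : Ideal.Quotient.mk (Ideal.span {1 - e}) (1 - e) = 0 :=
        Ideal.Quotient.eq_zero_iff_mem.mpr (Ideal.mem_span_singleton_self _)
      rw [map_sub, map_one, sub_eq_zero] at this
      exact this.symm
    have h1e : 1 - e ∈ q := by
      have hzero : e * (1 - e) = 0 := by rw [mul_sub, mul_one, he.eq, sub_self]
      exact ((‹q.IsPrime›).mem_or_mem (hzero ▸ q.zero_mem)).resolve_left heq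
    have hle : Ideal.span {1 - e} ≤ q := (Ideal.span_singleton_le_iff_mem _).mpr h1e
    obtain ⟨c, hc⟩ : ∃ c : Spec C, (Spec.map π) c = hW.primeIdealOf ⟨t, htW⟩ := by
      have : hW.primeIdealOf ⟨t, htW⟩ ∈ Set.range (PrimeSpectrum.comap
          (Ideal.Quotient.mk (Ideal.span {1 - e}))) := by
        rw [range_comap_of_surjective _ _ Ideal.Quotient.mk_surjective,
          Ideal.mk_ker, PrimeSpectrum.mem_zeroLocus]
        exact hle
      exact this
    have hcc : (Spec.map (ψ ≫ π)) c = IsLocalRing.closedPoint A := by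
      rw [Spec.map_comp, Scheme.Hom.comp_apply, hc, hψ]
      exact hgq
    constructor
    intro a
    have hsp : a ⤳ (Spec.map (ψ ≫ π)) c := by
      rw [hcc]; exact IsLocalRing.specializes_closedPoint a
    obtain ⟨c', -, hc'⟩ := hgen hsp
    refine ⟨i.hom c', ?_⟩
    rw [hUf, Scheme.Hom.comp_apply]
    rw [show i.inv (i.hom c') = c' from by
      rw [← Scheme.Hom.comp_apply, Iso.hom_inv_id]; rfl]
    exact hc'

end Groth.Agent.S18026
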