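import Groth.Statements.S18027
import Groth.Agent.H37.GrpConn
import Groth.Agent.S5341
import Groth.Agent.H54.DimClosure

set_option autoImplicit false
universe u
open CategoryTheory MonoidalCategory CartesianMonoidalCategory MonObj GrpObj AlgebraicGeometry CategoryTheory.Limits
open AlgGrp

namespace Groth.Agent.S18027

/-- Let `k` be a field and `u : G ⟶ H` a homomorphism of smooth `k`-group schemes which is a closed
immersion, where `G` and `H` have the same dimension. Then `u` carries the connected component of
the identity of `G` onto the connected component of the identity of `H`; as `u` is a closed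
immersion and `H` is reduced, `u` therefore restricts to an isomorphism between the identity
components. (The second printed assertion, on the groups of components, is not included.) -/
theorem result (k : Type u) [Field k]
    (G H : Over (Spec (CommRingCat.of k))) [GrpObj G] [GrpObj H]
    [Smooth G.hom] [Smooth H.hom] (u : G ⟶ H) [IsMonHom u] [IsClosedImmersion u.left]
    (hdim : topologicalKrullDim ↥G.left = topologicalKrullDim ↥H.left)
    (t : ↥((𝟙_ (Over (Spec (CommRingCat.of k)))).left)) :
    ⇑u.left.base '' connectedComponent (η[G].left.base t) = connectedComponent (η[H].left.base t) := by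
  obtain ⟨hint, hsubs⟩ :=
    Groth.Agent.H37.integral_subsingleton_of_iso_spec_field k (Iso.refl (Spec (CommRingCat.of k)))
  haveI := hint
  haveI := hsubs
  have ht : t = IsLocalRing.closedPoint k :=
    Subsingleton.elim (α := ↥(Spec (CommRingCat.of k))) t (IsLocalRing.closedPoint k)
  subst ht
  obtain ⟨eG, heG⟩ : ∃ eG : G.left, eG = η[G].left (IsLocalRing.closedPoint k) := ⟨_, rfl⟩
  obtain ⟨eH, heH⟩ : ∃ eH : H.left, eH = η[H].left (IsLocalRing.closedPoint k) := ⟨_, rfl⟩
  change ⇑u.left '' connectedComponent (η[G].left (IsLocalRing.closedPoint k)) =
    connectedComponent (η[H].left (IsLocalRing.closedPoint k))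
  rw [← heG, ← heH]
  have hueG : u.left eG = eH := by
    have h1 : η[G].left ≫ u.left = η[H].left := by rw [← Over.comp_left, IsMonHom.one_hom]
    rw [heG, heH, ← h1]; rfl
  have hGc : connectedComponent eG = irreducibleComponent eG := by
    rw [heG]; exact (Groth.Agent.H37.grp_connectedComponent_one k G).1
  have hHc : connectedComponent eH = irreducibleComponent eH := by
    rw [heH]; exact (Groth.Agent.H37.grp_connectedComponent_one k H).1
  -- generic points
  have hZGirr : IsIrreducible (irreducibleComponent eG) := isIrreducible_irreducibleComponent
  have hZHirr : IsIrreducible (irreducibleComponent eH) := isIrreducible_irreducibleComponent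
  obtain ⟨ξG, hξG⟩ : ∃ ξ : G.left, closure {ξ} = irreducibleComponent eG :=
    ⟨hZGirr.genericPoint, hZGirr.closure_genericPoint isClosed_irreducibleComponent⟩
  obtain ⟨ξH, hξH⟩ : ∃ ξ : H.left, closure {ξ} = irreducibleComponent eH :=
    ⟨hZHirr.genericPoint, hZHirr.closure_genericPoint isClosed_irreducibleComponent⟩
  have himg : ⇑u.left '' irreducibleComponent eG = closure {u.left ξG} := by
    rw [← hξG, ← u.left.isClosedEmbedding.closure_image_eq, Set.image_singleton]
  -- the image lies in the component of the target
  have hsub : ⇑u.left '' connectedComponent eG ⊆ connectedComponent eH :=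
    (isPreconnected_connectedComponent.image _
      u.left.continuous.continuousOn).subset_connectedComponent
      ⟨eG, mem_connectedComponent, hueG⟩
  have hmem : u.left ξG ∈ closure ({ξH} : Set H.left) := by
    rw [hξH, ← hHc]
    refine hsub ⟨ξG, ?_, rfl⟩
    rw [hGc, ← hξG]
    exact subset_closure rfl
  have hsp : ξH ⤳ u.left ξG := specializes_iff_mem_closure.mpr hmem
  -- dimensions
  have dG := (Groth.Agent.S5341.result k G).1 _ (irreducibleComponent_mem_irreducibleComponents eG)
  have dH := (Groth.Agent.S5341.result k H).1 _ (irreducibleComponent_mem_irreducibleComponents eH)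
  have d1 : topologicalKrullDim ↥(irreducibleComponent eG) =
      topologicalKrullDim ↥(⇑u.left '' irreducibleComponent eG) :=
    IsHomeomorph.topologicalKrullDim_eq _
      (u.left.isClosedEmbedding.isEmbedding.homeomorphImage _).isHomeomorph
  have d2 := Groth.Agent.H54.topologicalKrullDim_closure_singleton H.hom (u.left ξG)
  have d3 := Groth.Agent.H54.topologicalKrullDim_closure_singleton H.hom ξH
  rw [← himg, ← d1, dG, hdim, ← dH, ← hξH, d3] at d2
  have d4 : Groth.Agent.H54.tdeg H.hom ξH = Groth.Agent.H54.tdeg H.hom (u.left ξG) := by
    exact_mod_cast d2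
  have heq : ξH = u.left ξG := by
    by_contra hne
    have := Groth.Agent.H54.tdeg_lt_of_specializes H.hom hsp hne
    omega
  rw [hGc, hHc, himg, ← heq, hξH]

end Groth.Agent.S18027
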