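import Groth.Statements.S1803
import Mathlib
import Groth.Agent.H59.Goren3

set_option autoImplicit false
universe u
open scoped TensorProduct
open Goren

namespace Groth.Agent.S1803

open Groth.Agent.H59.Goren1 Groth.Agent.H59.Goren2 Groth.Agent.H59.Goren3 Groth.Agent.H60.GorTransfer in
theorem aux (k k' : Type u) [Field k] [Field k'] [Algebra k k'] (C : Type u) [CommRing C]
    [Algebra k C] [Algebra.FiniteType k C] (q : Ideal (C ⊗[k] k')) [q.IsPrime] :
    LocCoh.IsGorensteinLocalRing
      (Localization.AtPrime (q.comap (algebraMap C (C ⊗[k] k')))) ↔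
      LocCoh.IsGorensteinLocalRing (Localization.AtPrime q) := by
  haveI : IsNoetherianRing C := Algebra.FiniteType.isNoetherianRing k C
  haveI : IsNoetherianRing (k' ⊗[k] C) := Algebra.FiniteType.isNoetherianRing k' (k' ⊗[k] C)
  haveI : IsNoetherianRing (C ⊗[k] k') :=
    isNoetherianRing_of_ringEquiv (k' ⊗[k] C) (Algebra.TensorProduct.comm k k' C).toRingEquiv
  refine gor_tensor_loc_iff k k' C q ?_
  haveI : Algebra.EssFiniteType C (q.comap (algebraMap C (C ⊗[k] k'))).ResidueField :=
    inferInstance
  haveI : Algebra.EssFiniteType k (q.comap (algebraMap C (C ⊗[k] k'))).ResidueField :=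
    Algebra.EssFiniteType.comp k C _
  obtain ⟨s, hs⟩ := IntermediateField.fg_top_iff.mpr this
  haveI := gorRing_field k'
  exact gor_fg_tensor _ s k hs k'


/-- Let k'/k be any field extension, C a k-algebra of finite type, q a prime of C ⊗_k k' and p its
contraction to C. Then C_p is Gorenstein if and only if (C ⊗_k k')_q is Gorenstein. -/
theorem result (k k' : Type u) [Field k] [Field k'] [Algebra k k'] (C : Type u) [CommRing C] [Algebra k C] [Algebra.FiniteType k C] (q : PrimeSpectrum (C ⊗[k] k')) : LocCoh.IsGorensteinLocalRing (Localization.AtPrime (q.asIdeal.comap (algebraMap C (C ⊗[k] k')))) ↔ LocCoh.IsGorensteinLocalRing (Localization.AtPrime q.asIdeal) := by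
  exact aux k k' C q.asIdeal

end Groth.Agent.S1803
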