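import Groth.Statements.S1804
import Mathlib
import Groth.Agent.H46.RgammaRes

set_option autoImplicit false
set_option linter.style.haveILetI false
universe u
open CategoryTheory
attribute [local instance] HasDerivedCategory.standard
open LocCoh

namespace Groth.Agent.S1804

/-- For Noetherian rings and stated on cohomology. Suppose A → B is a ring map between Noetherian rings,
I is an ideal of A whose extension to B is J = IB, and K is an object of D(B). For every i, the
A-module H^i_I of the restriction of K to D(A) (the direct limit of Hom(A/I^n, K[i])) is isomorphic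
to the restriction to A of the B-module H^i_J(K). -/
theorem result (A B : Type u) [CommRing A] [CommRing B] [Algebra A B] [IsNoetherianRing A] [IsNoetherianRing B] (I : Ideal A) (K : Dual.D B) (i : ℤ) : Nonempty (Dual2.HDI A I ((DRing.restrictD (algebraMap A B)).obj K) i ≅ (ModuleCat.restrictScalars (algebraMap A B)).obj (Dual2.HDI B (I.map (algebraMap A B)) K i)) := by
  haveI := Groth.Agent.H46.RgammaRes.hasRgammaI I
  haveI := Groth.Agent.H46.RgammaRes.hasRgammaI (I.map (algebraMap A B))
  obtain ⟨e⟩ := Groth.Agent.H46.RgammaRes.nonempty_res_Rgamma_iso I K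
  obtain ⟨e1⟩ := Groth.Agent.H12.RGamHDI.main I ((DRing.restrictD (algebraMap A B)).obj K) i
  obtain ⟨e2⟩ := Groth.Agent.H12.RGamHDI.main (I.map (algebraMap A B)) K i
  obtain ⟨e3⟩ := Groth.Agent.S7057.nonempty_homology_restrictD_iso (algebraMap A B)
    ((DRing.RgammaI (I.map (algebraMap A B))).obj K) i
  let e4 := (DerivedCategory.homologyFunctor (ModuleCat.{u} A) i).mapIso e
  let r2 : ((ModuleCat.restrictScalars.{u} (algebraMap A B)).obj
      ((DerivedCategory.homologyFunctor (ModuleCat.{u} B) i).obj ((DRing.RgammaI (I.map (algebraMap A B))).obj K))) ≃ₗ[A]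
      ((ModuleCat.restrictScalars.{u + 1} (algebraMap A B)).obj
        (Dual2.HDI B (I.map (algebraMap A B)) K i)) :=
    { toFun := e2
      invFun := e2.symm
      map_add' := e2.map_add
      map_smul' := fun a x => e2.map_smul (algebraMap A B a) x
      left_inv := e2.left_inv
      right_inv := e2.right_inv }
  exact ⟨(e1.symm ≪≫ₗ (e4.symm ≪≫ e3).toLinearEquiv ≪≫ₗ r2).toModuleIso⟩

end Groth.Agent.S1804
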