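import Groth.Statements.S18040
import Mathlib

set_option autoImplicit false
set_option linter.style.haveILetI false
set_option linter.unusedSectionVars false
set_option linter.unusedVariables false
universe u
open AdjLin

namespace Groth.Agent.S18040

section Helpers

theorem lemmaA {k : Type*} [Field k] {ι : Type*} [Fintype ι] [DecidableEq ι]
    (U V : Submodule k (ι → k))
    (H : ∀ z : ι, ∀ f ∈ U, ∀ g ∈ V, (∀ z', z' ≠ z → f z' * g z' = 0) → f z * g z = 0) :
    Module.finrank k U + Module.finrank k V ≤ Fintype.card ι := by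
  classical
  obtain ⟨T, -, hT⟩ := Finite.exists_le_maximal (α := Finset ι)
    (p := fun T => ∀ a : ι → k, ∃ u ∈ U, ∀ z ∈ T, u z = a z) (a := ∅)
    (fun a => ⟨0, U.zero_mem, fun z hz => absurd hz (Finset.notMem_empty z)⟩)
  have hP : ∀ a : ι → k, ∃ u ∈ U, ∀ z ∈ T, u z = a z := hT.prop
  have hinj : ∀ u ∈ U, (∀ z ∈ T, u z = 0) → u = 0 := by
    intro u hu h0
    by_contra hne
    obtain ⟨z₀, hz₀⟩ : ∃ z₀, u z₀ ≠ 0 := by
      by_contra hcon
      push Not at hcon
      exact hne (funext hcon)
    have hz₀T : z₀ ∉ T := fun hmem => hz₀ (h0 z₀ hmem)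
    have hP' : ∀ a : ι → k, ∃ u' ∈ U, ∀ z ∈ insert z₀ T, u' z = a z := by
      intro a
      obtain ⟨u', hu', hu'T⟩ := hP a
      refine ⟨u' + ((a z₀ - u' z₀) / u z₀) • u, U.add_mem hu' (U.smul_mem _ hu), ?_⟩
      intro z hz
      rcases Finset.mem_insert.mp hz with hzz | hzT
      · simp only [Pi.add_apply, Pi.smul_apply, smul_eq_mul]
        rw [hzz, div_mul_cancel₀ _ hz₀]; ring
      · simp only [Pi.add_apply, Pi.smul_apply, smul_eq_mul]
        rw [hu'T z hzT, h0 z hzT]; ring
    have hle := hT.le_of_ge hP' (Finset.subset_insert z₀ T)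
    exact hz₀T (hle (Finset.mem_insert_self z₀ T))
  have hU : Module.finrank k U ≤ T.card := by
    have hr : Function.Injective
        ((LinearMap.pi fun z : ↥T => (LinearMap.proj (z : ι) : (ι → k) →ₗ[k] k)) ∘ₗ U.subtype) := by
      rw [injective_iff_map_eq_zero]
      intro u hu0
      apply Subtype.ext
      apply hinj u.1 u.2
      intro z hz
      exact congr_fun hu0 ⟨z, hz⟩
    have h1 := LinearMap.finrank_le_finrank_of_injective hr
    rwa [Module.finrank_fintype_fun_eq_card, Fintype.card_coe] at h1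
  by_contra hcon
  push Not at hcon
  have hV : (Tᶜ).card < Module.finrank k V := by
    have h2 : T.card + (Tᶜ).card = Fintype.card ι := by rw [Finset.card_add_card_compl]
    omega
  have hs : ¬ Function.Injective
      ((LinearMap.pi fun z : ↥(Tᶜ) => (LinearMap.proj (z : ι) : (ι → k) →ₗ[k] k)) ∘ₗ V.subtype) := by
    intro hinj'
    have h1 := LinearMap.finrank_le_finrank_of_injective hinj'
    rw [Module.finrank_fintype_fun_eq_card, Fintype.card_coe] at h1
    omega
  rw [injective_iff_map_eq_zero] at hs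
  push Not at hs
  obtain ⟨g, hg0, hgne⟩ := hs
  obtain ⟨z, hz⟩ : ∃ z, g.1 z ≠ 0 := by
    by_contra hcon2
    push Not at hcon2
    exact hgne (Subtype.ext (funext hcon2))
  have hzT : z ∈ T := by
    by_contra hzT
    exact hz (congr_fun hg0 ⟨z, Finset.mem_compl.mpr hzT⟩)
  obtain ⟨f, hfU, hf⟩ := hP (Pi.single z 1)
  have h1 : f z = 1 := by rw [hf z hzT, Pi.single_eq_same]
  have h3 := H z f hfU g.1 g.2 (by
    intro z' hz'
    by_cases hz'T : z' ∈ T
    · rw [hf z' hz'T, Pi.single_eq_of_ne hz', zero_mul]
    · have h0 : g.1 z' = 0 := congr_fun hg0 ⟨z', Finset.mem_compl.mpr hz'T⟩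
      rw [h0, mul_zero])
  rw [h1, one_mul] at h3
  exact hz h3

noncomputable def ev (k : Type u) [Field k] (Z : Finset (Projectivization k (Fin 4 → k))) (d : ℕ) :
    ↥(MvPolynomial.homogeneousSubmodule (Fin 4) k d) →ₗ[k] (↥Z → k) :=
  (LinearMap.pi fun z : ↥Z => (MvPolynomial.aeval (R := k) z.1.rep).toLinearMap) ∘ₗ
    (MvPolynomial.homogeneousSubmodule (Fin 4) k d).subtype

theorem ev_apply (k : Type u) [Field k] (Z : Finset (Projectivization k (Fin 4 → k))) (d : ℕ)
    (p : ↥(MvPolynomial.homogeneousSubmodule (Fin 4) k d)) (z : ↥Z) :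
    ev k Z d p z = MvPolynomial.eval z.1.rep p.1 := rfl

theorem main (k : Type u) [Field k] (Z : Finset (Projectivization k (Fin 4 → k))) (n : ℕ)
    (hCB : (∀ z ∈ Z, ∀ p : MvPolynomial (Fin 4) k, p.IsHomogeneous n →
      (∀ z' ∈ Z, z' ≠ z → MvPolynomial.eval z'.rep p = 0) → MvPolynomial.eval z.rep p = 0))
    (m : ℕ) (hm : m ≤ n)
    (hno : ¬ ∃ s : MvPolynomial (Fin 4) k, s.IsHomogeneous (n - m) ∧ s ≠ 0 ∧
      ∀ z ∈ Z, MvPolynomial.eval z.rep s = 0) :
    Module.finrank k (LinearMap.range (ev k Z m)) +
        Module.finrank k ↥(MvPolynomial.homogeneousSubmodule (Fin 4) k (n - m)) ≤ Z.card := by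
  classical
  have hinj : Function.Injective (ev k Z (n - m)) := by
    rw [injective_iff_map_eq_zero]
    intro s hs
    by_contra hne
    apply hno
    refine ⟨s.1, (MvPolynomial.mem_homogeneousSubmodule _ _).mp s.2,
      fun h => hne (Subtype.ext h), ?_⟩
    intro z hz
    have h1 := congr_fun hs ⟨z, hz⟩
    rw [ev_apply] at h1
    exact h1
  rw [← LinearMap.finrank_range_of_inj hinj, ← Fintype.card_coe Z]
  apply lemmaA
  intro z f hf g hg hfg
  obtain ⟨p, rfl⟩ := hf
  obtain ⟨s, rfl⟩ := hg
  simp only [ev_apply] at hfg ⊢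
  rw [← map_mul]
  apply hCB z.1 z.2 (p.1 * s.1)
  · have h1 := MvPolynomial.IsHomogeneous.mul
      ((MvPolynomial.mem_homogeneousSubmodule _ _).mp p.2)
      ((MvPolynomial.mem_homogeneousSubmodule _ _).mp s.2)
    rwa [Nat.add_sub_cancel' hm] at h1
  · intro z' hz' hne
    rw [map_mul]
    exact hfg ⟨z', hz'⟩ (fun h => hne (congrArg Subtype.val h))

end Helpers

/-- Let k be an algebraically closed field of characteristic zero and Z a finite set of points of
projective 3-space over k, realised as points of the projectivization of k⁴, a homogeneous form in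
four variables being evaluated at the chosen representative of a point (its vanishing does not
depend on the choice). Suppose Z has the Cayley–Bacharach property in degree n: every form of degree
n vanishing at all points of Z but one vanishes at that point as well. Then for every m ≤ n, either
there is a nonzero form of degree n − m vanishing at every point of Z, or the rank of the evaluation
map from forms of degree m to functions on Z is at most the number of points of Z minus the
dimension of the space of forms of degree n − m. -/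
theorem result (k : Type u) [Field k] [IsAlgClosed k] [CharZero k]
    (Z : Finset (Projectivization k (Fin 4 → k))) (n : ℕ)
    (hCB : (∀ z ∈ Z, ∀ p : MvPolynomial (Fin 4) k, p.IsHomogeneous n →
      (∀ z' ∈ Z, z' ≠ z → MvPolynomial.eval z'.rep p = 0) → MvPolynomial.eval z.rep p = 0))
    (m : ℕ) (hm : m ≤ n) :
    (∃ s : MvPolynomial (Fin 4) k, s.IsHomogeneous (n - m) ∧ s ≠ 0 ∧ ∀ z ∈ Z, MvPolynomial.eval z.rep s = 0) ∨
      Module.finrank k (LinearMap.range
          ((LinearMap.pi fun z : ↥Z => (MvPolynomial.aeval (R := k) z.1.rep).toLinearMap) ∘ₗ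
            (MvPolynomial.homogeneousSubmodule (Fin 4) k m).subtype)) +
        Module.finrank k ↥(MvPolynomial.homogeneousSubmodule (Fin 4) k (n - m)) ≤ Z.card := by
  rw [or_iff_not_imp_left]
  intro hno
  exact main k Z n hCB m hm hno

end Groth.Agent.S18040
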