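import Groth.Statements.S18049
import Mathlib

set_option autoImplicit false
open STCI

namespace Groth.Agent.S18049

/-- For natural numbers 0 < k < N such that k does not divide N, ⌊N/k⌋ ≤ (N - k)/gcd(k, N); stated here
in the equivalent cleared form ⌊N/k⌋ · gcd(k, N) ≤ N - k. -/
theorem result (k N : ℕ) (hk : 0 < k) (hkN : k < N) (hndvd : ¬ k ∣ N) :
    N / k * Nat.gcd k N ≤ N - k := by
  obtain ⟨g, a, b, hg, hcop, rfl, rfl⟩ := Nat.exists_coprime' (Nat.gcd_pos_of_pos_left N hk)
  -- now k = a * g, N = b * g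
  have hgg : Nat.gcd (a * g) (b * g) = g := by
    rw [Nat.gcd_mul_right, hcop.gcd_eq_one, one_mul]
  rw [hgg]
  have ha : 0 < a := by
    rcases Nat.eq_zero_or_pos a with h | h
    · simp [h] at hk
    · exact h
  have hdiv : b * g / (a * g) = b / a := Nat.mul_div_mul_right b a hg
  rw [hdiv]
  have hab : a < b := by
    by_contra h
    have : b * g ≤ a * g := Nat.mul_le_mul_right g (not_lt.mp h)
    omega
  have hna : ¬ a ∣ b := fun h => hndvd (Nat.mul_dvd_mul_right h g)
  have ha2 : 2 ≤ a := by
    rcases Nat.lt_or_ge a 2 with h | h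
    · have : a = 1 := by omega
      exact absurd (this ▸ one_dvd b) hna
    · exact h
  have hr : b % a ≠ 0 := fun h => hna (Nat.dvd_of_mod_eq_zero h)
  have hb : b = a * (b / a) + b % a := (Nat.div_add_mod b a).symm
  have hq1 : 1 ≤ b / a := Nat.div_pos (le_of_lt hab) ha
  generalize b / a = q at *
  have key : q + a ≤ b := by
    have h1 : q + a ≤ a * q + 1 := by nlinarith
    omega
  rw [← Nat.sub_mul]
  exact Nat.mul_le_mul_right g (by omega)

end Groth.Agent.S18049
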