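import Groth.Statements.S1805
import Mathlib
import Groth.Agent.H46.RgammaExt

set_option autoImplicit false
set_option linter.style.haveILetI false
universe u
open CategoryTheory
attribute [local instance] HasDerivedCategory.standard
open LocCoh

namespace Groth.Agent.S1805

/-- Suppose A → B is a flat ring map between Noetherian rings, I is an ideal of A, and K is an object of
D(A); assume the derived base change functor D(A) → D(B) exists. Then for every i the B-module
H^i_{IB} of the base change of K (direct limit of Hom(B/I^nB, (K ⊗^L_A B)[i])) is isomorphic to B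
⊗_A H^i_I(K). -/
theorem result (A B : Type u) [CommRing A] [CommRing B] [Algebra A B] [IsNoetherianRing A] [IsNoetherianRing B] [Module.Flat A B] [DRing.HasLBaseChange (algebraMap A B)] (I : Ideal A) (K : Dual.D A) (i : ℤ) : Nonempty (Dual2.HDI B (I.map (algebraMap A B)) ((DRing.LBaseChange (algebraMap A B)).obj K) i ≅ (ModuleCat.extendScalars (algebraMap A B)).obj (Dual2.HDI A I K i)) := by
  haveI := Groth.Agent.H46.RgammaRes.hasRgammaI I
  haveI := Groth.Agent.H46.RgammaRes.hasRgammaI (I.map (algebraMap A B))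
  obtain ⟨a1⟩ := Groth.Agent.H12.RGamHDI.main (I.map (algebraMap A B))
    ((DRing.LBaseChange (algebraMap A B)).obj K) i
  obtain ⟨a2⟩ := Groth.Agent.H46.RgammaExt.nonempty_LBaseChange_iso_GE (A := A) (B := B) K
  obtain ⟨a3⟩ := Groth.Agent.H46.RgammaExt.nonempty_ext_Rgamma_iso (A := A) (B := B) I K
  obtain ⟨a4⟩ := Groth.Agent.H46.RgammaExt.nonempty_homology_GE_iso (A := A) (B := B)
    ((DRing.RgammaI I).obj K) i
  obtain ⟨a5⟩ := Groth.Agent.H12.RGamHDI.main I K i
  let b2 := (DerivedCategory.homologyFunctor (ModuleCat.{u} B) i).mapIso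
    ((DRing.RgammaI (I.map (algebraMap A B))).mapIso a2 ≪≫ a3.symm)
  let a6 := Groth.Agent.H46.RgammaExt.extCongr (A := A) (B := B)
    (H := (DerivedCategory.homologyFunctor (ModuleCat.{u} A) i).obj ((DRing.RgammaI I).obj K))
    (H' := Dual2.HDI A I K i) a5
  exact ⟨(a1.symm ≪≫ₗ (b2 ≪≫ a4).toLinearEquiv ≪≫ₗ a6).toModuleIso⟩

end Groth.Agent.S1805
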