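import Groth.Statements.S18051
import Groth.Agent.H90.Euclid

set_option autoImplicit false
open STCI

namespace Groth.Agent.S18051

theorem key (a c p q : ℚ) (ha : 2 ≤ a) (hc : 1 ≤ c) (hp : 0 ≤ p) (hq : 0 ≤ q) :
    ((c * p + q) - p) / a + (p - q) / (a + c) + q / (a + c + 1)
      ≤ (c * p + q) ^ 2 / (a * (c * p + q) + p) := by
  rcases eq_or_lt_of_le hp with hp0 | hp0
  · subst hp0
    rcases eq_or_lt_of_le hq with hq0 | hq0
    · subst hq0; simp
    · have : (0:ℚ) < a * q := by positivity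
      rw [div_add_div _ _ (by positivity) (by positivity), div_add_div _ _ (by positivity) (by positivity),
        div_le_div_iff₀ (by positivity) (by positivity)]
      nlinarith [mul_pos hq0 hq0, mul_nonneg (mul_nonneg (by linarith : (0:ℚ) ≤ a) (by linarith : (0:ℚ) ≤ a)) (mul_nonneg hq hq)]
  · have hN : 0 < a * (c * p + q) + p := by positivity
    rw [div_add_div _ _ (by positivity) (by positivity), div_add_div _ _ (by positivity) (by positivity),
      div_le_div_iff₀ (by positivity) hN]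
    have hkey : (c * p + q) ^ 2 * (a * (a + c) * (a + c + 1))
        - (((c * p + q - p) * (a + c) + a * (p - q)) * (a + c + 1) + a * (a + c) * q) * (a * (c * p + q) + p)
        = c * (a - 1) * (c - 1) * (a + c + 1) * p ^ 2
          + (2 * a ^ 2 * c + a * c ^ 2 - a * c - a ^ 2 - c ^ 2 - c) * p * q + a ^ 2 * q ^ 2 := by ring
    have h1 : 0 ≤ c * (a - 1) * (c - 1) * (a + c + 1) * p ^ 2 := by
      have : 0 ≤ a - 1 := by linarith
      have : 0 ≤ c - 1 := by linarith
      positivity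
    have h2 : 0 ≤ (2 * a ^ 2 * c + a * c ^ 2 - a * c - a ^ 2 - c ^ 2 - c) := by
      nlinarith [mul_nonneg (by linarith : (0:ℚ) ≤ a - 2) (by linarith : (0:ℚ) ≤ c - 1), sq_nonneg (a - c), sq_nonneg a, sq_nonneg c,
        mul_nonneg (by linarith : (0:ℚ) ≤ a - 1) (mul_nonneg (by linarith : (0:ℚ) ≤ c) (by linarith : (0:ℚ) ≤ c))]
    have h3 : 0 ≤ (2 * a ^ 2 * c + a * c ^ 2 - a * c - a ^ 2 - c ^ 2 - c) * p * q := by positivity
    have h4 : 0 ≤ a ^ 2 * q ^ 2 := by positivity
    linarith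

open W4c5stcicurvesp3 in
/-- Let k ≤ N/2 be positive integers and let r_i = rem_i(N, k), d_i = div_i(N, k) be the iterated
Euclidean remainders and quotients of (N, k) (r_0 = k, r_1 = N mod k, r_2 = r_0 mod r_1, d_1 =
⌊N/k⌋, d_2 = ⌊r_0/r_1⌋). If the least positive t with r_t = 0 satisfies t ≥ 3, i.e. r_1 ≠ 0 and r_2
≠ 0, then (r_0 - r_1)/d_1 + (r_1 - r_2)/(d_1 + d_2) + r_2/(d_1 + d_2 + 1) ≤ k²/N (in ℚ). -/
theorem result (k N : ℕ) (hk : 0 < k) (hkN : 2 * k ≤ N)
    (h1 : irem N k 1 ≠ 0) (h2 : irem N k 2 ≠ 0) :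
    ((irem N k 0 : ℚ) - irem N k 1) / (idiv N k 1)
      + ((irem N k 1 : ℚ) - irem N k 2) / ((idiv N k 1 : ℚ) + idiv N k 2)
      + (irem N k 2 : ℚ) / ((idiv N k 1 : ℚ) + idiv N k 2 + 1)
      ≤ (k : ℚ) ^ 2 / N := by
  have hr1 : N % k ≠ 0 := by rwa [Groth.Agent.H90.irem_one] at h1
  have e0 : irem N k 0 = k := rfl
  have e1 : irem N k 1 = N % k := rfl
  have e2 : irem N k 2 = k % (N % k) := by
    rw [Groth.Agent.H90.irem_succ_succ, e1, if_neg hr1, e0]
  have d1 : idiv N k 1 = N / k := rfl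
  have d2 : idiv N k 2 = k / (N % k) := by
    rw [Groth.Agent.H90.idiv_succ_succ, e1, if_neg hr1, e0]
  rw [e0, e1, e2, d1, d2]
  have hN : N = k * (N / k) + N % k := (Nat.div_add_mod N k).symm
  have hk' : k = (N % k) * (k / (N % k)) + k % (N % k) := (Nat.div_add_mod k (N % k)).symm
  have ha : 2 ≤ N / k := (Nat.le_div_iff_mul_le hk).mpr (by omega)
  have hplt : N % k < k := Nat.mod_lt N hk
  have hc : 1 ≤ k / (N % k) := Nat.div_pos hplt.le (Nat.pos_of_ne_zero hr1)
  generalize N / k = a at *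
  generalize k / (N % k) = c at *
  generalize k % (N % k) = q at *
  generalize N % k = p at *
  have hkq : (k : ℚ) = c * p + q := by rw [hk']; push_cast; ring
  have hNq : (N : ℚ) = a * (c * p + q) + p := by rw [hN, ← hkq]; push_cast; ring
  rw [hNq, hkq]
  exact key a c p q (by exact_mod_cast ha) (by exact_mod_cast hc) (by positivity) (by positivity)

end Groth.Agent.S18051
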