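import Groth.Statements.S18052
import Groth.Agent.S18051

set_option autoImplicit false
open STCI

namespace Groth.Agent.S18052

open W4c5stcicurvesp3 Groth.Agent.H90

theorem irem_succ_le (N k : ℕ) (hk : 0 < k) : ∀ i, irem N k (i + 1) ≤ irem N k i
  | 0 => by rw [irem_one, irem_zero]; exact (Nat.mod_lt N hk).le
  | (i + 1) => by
      rw [irem_succ_succ]
      split_ifs with h
      · exact Nat.zero_le _
      · exact (Nat.mod_lt _ (Nat.pos_of_ne_zero h)).le

theorem one_le_idiv (N k : ℕ) (hk : 0 < k) (i : ℕ) (hi : irem N k (i + 1) ≠ 0) :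
    1 ≤ idiv N k (i + 2) := by
  rw [idiv_succ_succ, if_neg hi]
  exact Nat.div_pos (irem_succ_le N k hk i) (Nat.pos_of_ne_zero hi)

theorem main (k N t : ℕ) (hk : 0 < k) (hkN : 2 * k ≤ N) (ht : 0 < t)
    (hzero : irem N k t = 0) (hmin : ∀ i, 0 < i → i < t → irem N k i ≠ 0) :
    ∑ i ∈ Finset.range t, ((irem N k i : ℚ) - irem N k (i + 1)) / (∑ j ∈ Finset.Icc 1 (i + 1), (idiv N k j : ℚ))
      ≤ (k : ℚ) ^ 2 / N := by
  have e0 : irem N k 0 = k := rfl
  have e1 : irem N k 1 = N % k := rfl
  have d1 : idiv N k 1 = N / k := rfl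
  have hN : N = k * (N / k) + N % k := (Nat.div_add_mod N k).symm
  have ha : 2 ≤ N / k := (Nat.le_div_iff_mul_le hk).mpr (by omega)
  have hD1 : ∑ j ∈ Finset.Icc 1 (0 + 1), (idiv N k j : ℚ) = (N / k : ℕ) := by
    simp [d1]
  rcases Nat.lt_or_ge t 2 with ht2 | ht2
  · -- t = 1
    have ht1 : t = 1 := by omega
    subst ht1
    rw [e1] at hzero
    rw [Finset.range_one, Finset.sum_singleton, hD1, e0, e1, hzero]
    rw [hzero, add_zero] at hN
    have hkpos : (0 : ℚ) < k := by exact_mod_cast hk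
    have hapos : (0 : ℚ) < (N / k : ℕ) := by exact_mod_cast (by omega : 0 < N / k)
    have hNq : (N : ℚ) = k * (N / k : ℕ) := by exact_mod_cast hN
    rw [hNq, Nat.cast_zero, sub_zero, div_le_div_iff₀ hapos (by positivity)]
    apply le_of_eq; ring
  · have hr1 : N % k ≠ 0 := by
      have := hmin 1 (by norm_num) (by omega)
      rwa [e1] at this
    have e2 : irem N k 2 = k % (N % k) := by
      rw [irem_succ_succ, e1, if_neg hr1, e0]
    have d2 : idiv N k 2 = k / (N % k) := by
      rw [idiv_succ_succ, e1, if_neg hr1, e0]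
    have hk' : k = (N % k) * (k / (N % k)) + k % (N % k) := (Nat.div_add_mod k (N % k)).symm
    have hplt : N % k < k := Nat.mod_lt N hk
    have hc : 1 ≤ k / (N % k) := Nat.div_pos hplt.le (Nat.pos_of_ne_zero hr1)
    have hD2 : ∑ j ∈ Finset.Icc 1 (1 + 1), (idiv N k j : ℚ) = (N / k : ℕ) + (k / (N % k) : ℕ) := by
      rw [Finset.sum_Icc_succ_top (by norm_num), Finset.Icc_self, Finset.sum_singleton, d1, d2]
    -- split the sum
    have hsplit : Finset.range t = {0, 1} ∪ Finset.Ico 2 t := by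
      ext x; simp only [Finset.mem_range, Finset.mem_union, Finset.mem_insert, Finset.mem_singleton, Finset.mem_Ico]; omega
    have hdisj : Disjoint ({0, 1} : Finset ℕ) (Finset.Ico 2 t) := by
      rw [Finset.disjoint_left]; intro x hx hx2
      simp only [Finset.mem_insert, Finset.mem_singleton] at hx
      simp only [Finset.mem_Ico] at hx2; omega
    rw [hsplit, Finset.sum_union hdisj, Finset.sum_pair (by norm_num), hD1, hD2, e0, e1, e2]
    -- bound the tail
    have htail : ∑ i ∈ Finset.Ico 2 t, ((irem N k i : ℚ) - irem N k (i + 1)) / (∑ j ∈ Finset.Icc 1 (i + 1), (idiv N k j : ℚ))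
        ≤ ((k % (N % k) : ℕ) : ℚ) / ((N / k : ℕ) + (k / (N % k) : ℕ) + 1) := by
      have hbound : ∀ i ∈ Finset.Ico 2 t,
          ((irem N k i : ℚ) - irem N k (i + 1)) / (∑ j ∈ Finset.Icc 1 (i + 1), (idiv N k j : ℚ))
            ≤ ((irem N k i : ℚ) - irem N k (i + 1)) / ((N / k : ℕ) + (k / (N % k) : ℕ) + 1) := by
        intro i hi
        rw [Finset.mem_Ico] at hi
        have hnum : (0 : ℚ) ≤ (irem N k i : ℚ) - irem N k (i + 1) := by
          rw [sub_nonneg]; exact_mod_cast irem_succ_le N k hk i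
        apply div_le_div_of_nonneg_left hnum (by positivity)
        -- D_{i+1} ≥ D_2 + 1
        have hsub : Finset.Icc 1 3 ⊆ Finset.Icc 1 (i + 1) := Finset.Icc_subset_Icc le_rfl (by omega)
        have h3 : ∑ j ∈ Finset.Icc 1 3, (idiv N k j : ℚ) ≤ ∑ j ∈ Finset.Icc 1 (i + 1), (idiv N k j : ℚ) :=
          Finset.sum_le_sum_of_subset_of_nonneg hsub (fun _ _ _ => by positivity)
        have h3' : ∑ j ∈ Finset.Icc 1 3, (idiv N k j : ℚ) = (N / k : ℕ) + (k / (N % k) : ℕ) + (idiv N k 3 : ℕ) := by
          rw [Finset.sum_Icc_succ_top (by norm_num), Finset.sum_Icc_succ_top (by norm_num), Finset.Icc_self,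
            Finset.sum_singleton, d1, d2]
        have hd3 : 1 ≤ idiv N k 3 := one_le_idiv N k hk 1 (hmin 2 (by norm_num) (by omega))
        have : (1 : ℚ) ≤ (idiv N k 3 : ℕ) := by exact_mod_cast hd3
        linarith
      refine (Finset.sum_le_sum hbound).trans ?_
      rw [← Finset.sum_div, Finset.sum_Ico_eq_sum_range]
      have htel : ∑ j ∈ Finset.range (t - 2), ((irem N k (2 + j) : ℚ) - irem N k (2 + j + 1))
          = (irem N k 2 : ℚ) - irem N k t := by
        have := Finset.sum_range_sub' (fun j => (irem N k (2 + j) : ℚ)) (t - 2)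
        simp only [add_zero] at this
        rw [show 2 + (t - 2) = t by omega] at this
        rw [← this]
        refine Finset.sum_congr rfl (fun j _ => ?_)
        rw [show 2 + j + 1 = 2 + (j + 1) by ring]
      rw [htel, hzero, e2, Nat.cast_zero, sub_zero]
    refine le_trans (add_le_add le_rfl htail) ?_
    generalize N / k = a at *
    generalize k / (N % k) = c at *
    generalize k % (N % k) = q at *
    generalize N % k = p at *
    have hkq : (k : ℚ) = c * p + q := by rw [hk']; push_cast; ring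
    have hNq : (N : ℚ) = a * (c * p + q) + p := by rw [hN, ← hkq]; push_cast; ring
    rw [hNq, hkq]
    exact Groth.Agent.S18051.key a c p q (by exact_mod_cast ha) (by exact_mod_cast hc) (by positivity) (by positivity)

open W4c5stcicurvesp3 in
/-- Let k ≤ N/2 be positive integers, let r_i = rem_i(N, k) and d_i = div_i(N, k) be the iterated
Euclidean remainders and quotients of (N, k) (r_0 = k, r_1 = N mod k, …; d_1 = ⌊N/k⌋, d_i =
⌊r_{i-2}/r_{i-1}⌋), and let t be the least positive integer with r_t = 0. Then the sum over i = 0,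
…, t - 1 of (r_i - r_{i+1})/(d_1 + ⋯ + d_{i+1}) is at most k²/N (in ℚ). -/
theorem result (k N t : ℕ) (hk : 0 < k) (hkN : 2 * k ≤ N) (ht : 0 < t)
    (hzero : irem N k t = 0) (hmin : ∀ i, 0 < i → i < t → irem N k i ≠ 0) :
    ∑ i ∈ Finset.range t, ((irem N k i : ℚ) - irem N k (i + 1)) / (∑ j ∈ Finset.Icc 1 (i + 1), (idiv N k j : ℚ))
      ≤ (k : ℚ) ^ 2 / N := by
  exact Groth.Agent.S18052.main k N t hk hkN ht hzero hmin

end Groth.Agent.S18052
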