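import Groth.Statements.S18053
import Mathlib

set_option autoImplicit false
open STCI

namespace Groth.Agent.S18053

/-- Let (p_k)_{k ≥ 1} be a sequence of nonnegative integers and n a nonnegative integer such that (i)
p_1 ≤ 9 - (2/5)n, (ii) p_1 ≥ p_2 ≥ p_3 ≥ ⋯, (iii) Σ_k p_k ≤ 19 - n, and (iv) n/4 + Σ_{k ≥ 1}
p_k/(k(k+1)) ≥ 6. Then n = 0 and (p_k) is one of (9, 8, 2), (9, 9), (9, 9, 1) (followed by zeros).
Here the sequence is indexed from 0 (so p 0 is p_1 and the weight of p k is 1/((k+1)(k+2))), (iii)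
is stated for every partial sum, and the series in (iv) is the real sum Σ' over all k. -/
theorem result (p : ℕ → ℕ) (n : ℕ)
    (h1 : (p 0 : ℝ) ≤ 9 - (2 / 5 : ℝ) * n) (h2 : Antitone p)
    (h3 : ∀ m : ℕ, ((∑ k ∈ Finset.range m, p k : ℕ) : ℝ) ≤ 19 - (n : ℝ))
    (h4 : (6 : ℝ) ≤ (n : ℝ) / 4 + ∑' k : ℕ, (p k : ℝ) / (((k : ℝ) + 1) * ((k : ℝ) + 2))) :
    n = 0 ∧ (p = (fun k => if k = 0 then 9 else if k = 1 then 8 else if k = 2 then 2 else 0)
      ∨ p = (fun k => if k = 0 then 9 else if k = 1 then 9 else 0)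
      ∨ p = (fun k => if k = 0 then 9 else if k = 1 then 9 else if k = 2 then 1 else 0)) := by
  have hle : ∀ k, p (k + 1) ≤ p k := fun k => h2 (Nat.le_succ k)
  have c0 : p 1 ≤ p 0 := hle 0
  have c1 : p 2 ≤ p 1 := hle 1
  have c2 : p 3 ≤ p 2 := hle 2
  have c3 : p 4 ≤ p 3 := hle 3
  have c4 : p 5 ≤ p 4 := hle 4
  have c5 : p 6 ≤ p 5 := hle 5
  have c6 : p 7 ≤ p 6 := hle 6
  have c7 : p 8 ≤ p 7 := hle 7
  have c8 : p 9 ≤ p 8 := hle 8
  have c9 : p 10 ≤ p 9 := hle 9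
  have c10 : p 11 ≤ p 10 := hle 10
  have c11 : p 12 ≤ p 11 := hle 11
  have c12 : p 13 ≤ p 12 := hle 12
  have c13 : p 14 ≤ p 13 := hle 13
  have c14 : p 15 ≤ p 14 := hle 14
  have c15 : p 16 ≤ p 15 := hle 15
  have c16 : p 17 ≤ p 16 := hle 16
  have c17 : p 18 ≤ p 17 := hle 17
  have c18 : p 19 ≤ p 18 := hle 18
  have hP : ∀ k, (0 : ℝ) ≤ (p k : ℝ) := fun k => Nat.cast_nonneg _
  have h20 := h3 20
  simp only [Finset.sum_range_succ, Finset.sum_range_zero] at h20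
  have h20' : p 0 + p 1 + p 2 + p 3 + p 4 + p 5 + p 6 + p 7 + p 8 + p 9 + p 10 + p 11 + p 12 + p 13 + p 14 + p 15 + p 16 + p 17 + p 18 + p 19 + n ≤ 19 := by
    have h : ((0 + p 0 + p 1 + p 2 + p 3 + p 4 + p 5 + p 6 + p 7 + p 8 + p 9 + p 10 + p 11 + p 12 + p 13 + p 14 + p 15 + p 16 + p 17 + p 18 + p 19 + n : ℕ) : ℝ) ≤ ((19 : ℕ) : ℝ) := by
      push_cast; push_cast at h20; linarith
    have h' := Nat.cast_le.mp h
    omega
  have hp19 : p 19 = 0 := by omega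
  have hzero : ∀ k, 19 ≤ k → p k = 0 := fun k hk => by
    have h := h2 hk
    omega
  have hts : ∑' k : ℕ, (p k : ℝ) / (((k : ℝ) + 1) * ((k : ℝ) + 2))
      = ∑ k ∈ Finset.range 19, (p k : ℝ) / (((k : ℝ) + 1) * ((k : ℝ) + 2)) := by
    apply tsum_eq_sum
    intro k hk
    have hk' : 19 ≤ k := by simpa using hk
    rw [hzero k hk']; simp
  rw [hts] at h4
  simp only [Finset.sum_range_succ, Finset.sum_range_zero] at h4
  norm_num at h4
  have h19 := h3 19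
  simp only [Finset.sum_range_succ, Finset.sum_range_zero] at h19
  push_cast at h19
  have hC : (53 : ℝ) ≤ 2 * n + 5 * p 0 + p 1 := by
    linarith [hP 0, hP 1, hP 2, hP 3, hP 4, hP 5, hP 6, hP 7, hP 8, hP 9, hP 10, hP 11, hP 12, hP 13, hP 14, hP 15, hP 16, hP 17, hP 18]
  have hD : (303 : ℝ) ≤ 12 * n + 27 * p 0 + 7 * p 1 + 2 * p 2 := by
    linarith [hP 0, hP 1, hP 2, hP 3, hP 4, hP 5, hP 6, hP 7, hP 8, hP 9, hP 10, hP 11, hP 12, hP 13, hP 14, hP 15, hP 16, hP 17, hP 18]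
  have hC' : 53 ≤ 2 * n + 5 * p 0 + p 1 := by exact_mod_cast hC
  have hD' : 303 ≤ 12 * n + 27 * p 0 + 7 * p 1 + 2 * p 2 := by exact_mod_cast hD
  have hB : 5 * p 0 + 2 * n ≤ 45 := by
    have h : (5 * (p 0 : ℝ) + 2 * n) ≤ 45 := by linarith
    exact_mod_cast h
  have h4' := h3 4
  simp only [Finset.sum_range_succ, Finset.sum_range_zero] at h4'
  have hA : p 0 + p 1 + p 2 + p 3 + n ≤ 19 := by
    have h : ((0 + p 0 + p 1 + p 2 + p 3 + n : ℕ) : ℝ) ≤ ((19 : ℕ) : ℝ) := by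
      push_cast; push_cast at h4'; linarith
    have h' := Nat.cast_le.mp h
    omega
  have hn : n = 0 := by omega
  have hcases : (p 0 = 9 ∧ p 1 = 8 ∧ p 2 = 2 ∧ p 3 = 0) ∨ (p 0 = 9 ∧ p 1 = 9 ∧ p 2 = 0 ∧ p 3 = 0)
      ∨ (p 0 = 9 ∧ p 1 = 9 ∧ p 2 = 1 ∧ p 3 = 0) := by omega
  refine ⟨hn, ?_⟩
  have hge3 : ∀ k, 3 ≤ k → p 3 = 0 → p k = 0 := fun k hk h3' => by
    have h := h2 hk
    omega
  rcases hcases with ⟨e0, e1, e2, e3⟩ | ⟨e0, e1, e2, e3⟩ | ⟨e0, e1, e2, e3⟩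
  · left
    funext k
    rcases k with _ | _ | _ | k
    · simpa using e0
    · simpa using e1
    · simpa using e2
    · have hk := hge3 (k + 1 + 1 + 1) (by omega) e3
      simp [hk]
  · right; left
    funext k
    rcases k with _ | _ | _ | k
    · simpa using e0
    · simpa using e1
    · simpa using e2
    · have hk := hge3 (k + 1 + 1 + 1) (by omega) e3
      simp [hk]
  · right; right
    funext k
    rcases k with _ | _ | _ | k
    · simpa using e0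
    · simpa using e1
    · simpa using e2
    · have hk := hge3 (k + 1 + 1 + 1) (by omega) e3
      simp [hk]

end Groth.Agent.S18053
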