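import Groth.Statements.S18054
import Mathlib

set_option autoImplicit false
open STCI

namespace Groth.Agent.S18054

/-- Let s, t, d, g be integers with t ≥ s ≥ 4, d ≥ 1, g ≥ 0 and d dividing st; put n = st/d and assume n
≥ 2; put r = d[n(s - 4) + t] + (2 - 2g)n and assume r ≤ (s/3)(2s² - 6s + 7) - 1. Then d ≤ g + 3.
(The bound is written cleared of the denominator 3; s(2s² - 6s + 7) is always divisible by 3, so
this is the same condition.) -/
theorem result (s t d g n : ℤ) (hs : 4 ≤ s) (hst : s ≤ t) (hd : 1 ≤ d) (hg : 0 ≤ g)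
    (hn : s * t = d * n) (hn2 : 2 ≤ n)
    (hr : 3 * (d * (n * (s - 4) + t) + (2 - 2 * g) * n) ≤ s * (2 * s ^ 2 - 6 * s + 7) - 3) :
    d ≤ g + 3 := by
  by_contra hcon
  have hg' : g ≤ d - 4 := by omega
  have h1 : (10 - 2 * d) * n ≤ (2 - 2 * g) * n := by nlinarith
  obtain ⟨x, hxdef⟩ : ∃ x : ℤ, x = d * t + 10 * n := ⟨_, rfl⟩
  have hx : 3 * (s * t * (s - 6) + x) ≤ s * (2 * s ^ 2 - 6 * s + 7) - 3 := by
    have e : d * (n * (s - 4) + t) = s * t * (s - 4) + d * t := by
      rw [hn]; ring
    have e2 : (10 - 2 * d) * n = 10 * n - 2 * (s * t) := by rw [hn]; ring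
    rw [e] at hr
    rw [hxdef]
    nlinarith
  have hd4 : 4 ≤ d := by omega
  have ht : 4 ≤ t := by omega
  have hxpos : 0 < x := by rw [hxdef]; positivity
  have hamgm : 40 * s * t ^ 2 ≤ x ^ 2 := by
    have : 40 * s * t ^ 2 = 40 * (d * n) * t := by rw [← hn]; ring
    rw [this, hxdef]
    nlinarith [sq_nonneg (d * t - 10 * n)]
  clear hr h1 hcon hg' hg
  rcases le_or_gt 13 s with h13 | h13
  · have : s * s ≤ s * t := by nlinarith
    nlinarith [mul_pos (show (0:ℤ) < s by omega) (show (0:ℤ) < s by omega)]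
  · interval_cases s
    · have ht5 : t < 5 := by
        by_contra h
        push Not at h
        nlinarith
      have ht4 : t = 4 := by omega
      subst ht4
      have hd8 : d ≤ 8 := by nlinarith
      interval_cases d <;> omega
    all_goals nlinarith

end Groth.Agent.S18054
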