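import Groth.Statements.S18055
import Mathlib

set_option autoImplicit false
open STCI

namespace Groth.Agent.S18055

/-- Let d ≥ 1, g ≥ 0 and 1 ≤ s ≤ t be integers with d dividing st, put n = st/d and r = d[n(s - 4) + t]
+ (2 - 2g)n, and assume n ≥ 2, r > 0 and (n - 1) divides r. Then s < 2d² and t < 2d⁴. This is the
statement about the degree data (d, g the degree and genus of the curve, s ≤ t the degrees of the
two surfaces) to which the published proof reduces the degree bound: there the divisibility and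
positivity express that r/(n - 1), the common value of the type numbers of the pair, is a positive
integer; the geometric hypotheses themselves are not part of this row. -/
theorem result (d g s t n : ℤ) (hd : 1 ≤ d) (hg : 0 ≤ g) (hs : 1 ≤ s) (hst : s ≤ t)
    (hn : s * t = d * n) (hn2 : 2 ≤ n)
    (hpos : 0 < d * (n * (s - 4) + t) + (2 - 2 * g) * n)
    (hdvd : (n - 1) ∣ d * (n * (s - 4) + t) + (2 - 2 * g) * n) :
    s < 2 * d ^ 2 ∧ t < 2 * d ^ 4 := by
  obtain ⟨K, hK⟩ := hdvd
  have hn1 : 0 < n - 1 := by omega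
  have hKpos : 0 < K := by
    rw [hK] at hpos
    exact (mul_pos_iff_of_pos_left hn1).mp hpos
  obtain ⟨q, hq⟩ : ∃ q : ℤ, q = d * (s - 4) + 2 - 2 * g := ⟨_, rfl⟩
  have hr : d * (n * (s - 4) + t) + (2 - 2 * g) * n = n * q + d * t := by rw [hq]; ring
  obtain ⟨k, hk⟩ : ∃ k : ℤ, k = K - q := ⟨_, rfl⟩
  have hKk : K = k + q := by rw [hk]; ring
  have key : t * (s * k - d ^ 2) = d * (k + q) := by
    have h1 : n * q + d * t = (n - 1) * K := by rw [← hr, hK]
    have h2 : n * k = K + d * t := by rw [hk]; linarith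
    have h3 : d * n * k = d * K + d ^ 2 * t := by
      calc d * n * k = d * (n * k) := by ring
        _ = d * (K + d * t) := by rw [h2]
        _ = _ := by ring
    rw [← hn] at h3
    rw [← hKk]
    linarith [h3]
  have hqle : q ≤ d * (s - 4) + 2 := by rw [hq]; linarith
  have htpos : 0 < t := by omega
  have hE : 1 ≤ s * k - d ^ 2 := by
    have h0 : 0 < t * (s * k - d ^ 2) := by rw [key, ← hKk]; positivity
    have := (mul_pos_iff_of_pos_left htpos).mp h0
    omega
  have hkpos : 1 ≤ k := by
    by_contra h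
    push Not at h
    have : s * k ≤ 0 := by nlinarith
    nlinarith [sq_nonneg d]
  have hmain : s * t - d ^ 2 * s - d ^ 2 * t ≤ -4 * d ^ 2 + 3 * d := by
    have h1 : k * (t * s - d) ≤ d ^ 2 * (s + t) - 4 * d ^ 2 + 2 * d := by
      have : d * q ≤ d * (d * (s - 4) + 2) := mul_le_mul_of_nonneg_left hqle (by omega)
      nlinarith [key]
    have h2 : 0 ≤ t * s - d := by nlinarith
    nlinarith
  have hd2 : 1 ≤ d ^ 2 := by nlinarith
  have hs2 : s < 2 * d ^ 2 := by
    by_contra h
    push Not at h
    have h1 : d ^ 2 ≤ s - d ^ 2 := by linarith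
    have h2 : d ^ 2 ≤ t - d ^ 2 := by linarith
    have h3 : d ^ 2 * d ^ 2 ≤ (s - d ^ 2) * (t - d ^ 2) :=
      mul_le_mul h1 h2 (by positivity) (by linarith)
    nlinarith
  refine ⟨hs2, ?_⟩
  rcases le_or_gt (d ^ 2 + 1) s with hsd | hsd
  · have h1 : t ≤ t * (s - d ^ 2) := by nlinarith
    have h2 : t * (s - d ^ 2) ≤ d ^ 2 * s - 4 * d ^ 2 + 3 * d := by nlinarith
    have h3 : d ^ 2 * s ≤ d ^ 2 * (2 * d ^ 2) := mul_le_mul_of_nonneg_left hs2.le (by positivity)
    have h4 : d ^ 2 * (2 * d ^ 2) = 2 * d ^ 4 := by ring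
    nlinarith
  · have hsd' : s ≤ d ^ 2 := by omega
    obtain ⟨E, hEdef⟩ : ∃ E : ℤ, E = s * k - d ^ 2 := ⟨_, rfl⟩
    rw [← hEdef] at hE key
    have hsk : s * k = E + d ^ 2 := by rw [hEdef]; ring
    have h5 : s * t * E = d * E + d ^ 3 + d * s * q := by
      calc s * t * E = s * (t * E) := by ring
        _ = s * (d * (k + q)) := by rw [key]
        _ = d * (s * k) + d * s * q := by ring
        _ = d * (E + d ^ 2) + d * s * q := by rw [hsk]
        _ = _ := by ring
    by_contra hcon
    push Not at hcon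
    rcases eq_or_lt_of_le hd with hd1 | hd1
    · -- d = 1
      subst hd1
      have hs1 : s = 1 := by nlinarith
      subst hs1
      have : t = n := by linarith
      have hq1 : q ≤ -1 := by linarith
      nlinarith
    · have hd2' : 2 ≤ d := by omega
      have hsq : d * s * q ≤ d * s * (d * (s - 4) + 2) :=
        mul_le_mul_of_nonneg_left hqle (by positivity)
      have hsE : 1 ≤ s * E := by
        have := mul_le_mul hs hE (by norm_num) (by omega)
        linarith
      have hd4 : 0 ≤ d ^ 4 := by positivity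
      have h6 : 2 * d ^ 4 * (s * E) ≤ s * t * E := by
        have h61 : 2 * d ^ 4 * (s * E) ≤ t * (s * E) :=
          mul_le_mul_of_nonneg_right hcon (by linarith)
        linarith [show t * (s * E) = s * t * E by ring]
      have h7 : d ^ 4 * s + d ^ 4 * E ≤ 2 * d ^ 4 * (s * E) := by
        have h71 : 0 ≤ (s - 1) * (E - 1) := mul_nonneg (by omega) (by omega)
        have h72 : (s - 1) * (E - 1) = s * E - s - E + 1 := by ring
        have h73 : s + E ≤ 2 * (s * E) := by linarith
        have h74 := mul_le_mul_of_nonneg_left h73 hd4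
        linarith [show d ^ 4 * (s + E) = d ^ 4 * s + d ^ 4 * E by ring,
          show d ^ 4 * (2 * (s * E)) = 2 * d ^ 4 * (s * E) by ring]
      have h8 : d * s * (d * (s - 4) + 2) ≤ s * (d ^ 4 - 4 * d ^ 2 + 2 * d) := by
        have h81 : d ^ 2 * s * s ≤ d ^ 2 * s * d ^ 2 := mul_le_mul_of_nonneg_left hsd' (by positivity)
        have e1 : d * s * (d * (s - 4) + 2) = d ^ 2 * s * s - 4 * (d ^ 2 * s) + 2 * (d * s) := by ring
        have e2 : s * (d ^ 4 - 4 * d ^ 2 + 2 * d) = d ^ 2 * s * d ^ 2 - 4 * (d ^ 2 * s) + 2 * (d * s) := by ring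
        linarith
      have h9 : d ^ 4 * E - d * E - d ^ 3 ≤ s * (-4 * d ^ 2 + 2 * d) := by
        have e3 : s * (d ^ 4 - 4 * d ^ 2 + 2 * d) = d ^ 4 * s + s * (-4 * d ^ 2 + 2 * d) := by ring
        linarith
      have h10 : s * (-4 * d ^ 2 + 2 * d) < 0 := by
        have h100 : 2 * d ≤ d ^ 2 := by
          have := mul_le_mul_of_nonneg_right hd2' (show 0 ≤ d by omega)
          linarith [show d * d = d ^ 2 by ring]
        have h101 : -4 * d ^ 2 + 2 * d < 0 := by linarith
        exact mul_neg_of_pos_of_neg (by omega) h101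
      have hda : 2 * d ≤ d ^ 2 := by
        have := mul_le_mul_of_nonneg_right hd2' (show 0 ≤ d by omega)
        linarith [show d * d = d ^ 2 by ring]
      have hdb : 2 * d ^ 2 ≤ d ^ 3 := by
        have := mul_le_mul_of_nonneg_right hd2' (show 0 ≤ d ^ 2 by positivity)
        linarith [show d * d ^ 2 = d ^ 3 by ring]
      have hdc : 2 * d ^ 3 ≤ d ^ 4 := by
        have := mul_le_mul_of_nonneg_right hd2' (show 0 ≤ d ^ 3 by positivity)
        linarith [show d * d ^ 3 = d ^ 4 by ring]
      have h11 : d ^ 3 ≤ d ^ 4 - d := by linarith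
      have h12 : (d ^ 4 - d) * 1 ≤ (d ^ 4 - d) * E := mul_le_mul_of_nonneg_left hE (by linarith)
      have e4 : (d ^ 4 - d) * E = d ^ 4 * E - d * E := by ring
      linarith

end Groth.Agent.S18055
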