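import Groth.Statements.S18062
import Groth.Agent.H62.DVRFlag

set_option autoImplicit false
universe u
open scoped TensorProduct
open HopfRep

namespace Groth.Agent.S18062

/-- A is a discrete valuation ring, K denotes its field of fractions and k its residue field, and G =
Spec H a flat affine A-group scheme of finite presentation, H being a flat, finitely presented
commutative Hopf algebra over A. If the generic fibre G_K is trigonalizable (every simple
finite-dimensional representation is one-dimensional), then so is the special fibre G_k. -/
theorem result (A : Type u) [CommRing A] [IsDomain A] [IsDiscreteValuationRing A]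
    (K : Type u) [Field K] [Algebra A K] [IsFractionRing A K]
    (H : Type u) [CommRing H] [HopfAlgebra A H] [Module.Flat A H] [Algebra.FinitePresentation A H]
    (hK : HopfRep.IsTrigonalizable K (K ⊗[A] H)) :
    HopfRep.IsTrigonalizable (IsLocalRing.ResidueField A) (IsLocalRing.ResidueField A ⊗[A] H) := by
  classical
  apply Groth.Agent.H62.TriFlag.isTrigonalizable_baseChange_of_chains
  intro s
  obtain ⟨m, FK, hF0, hFs, hFmono, hFsub, hFdep⟩ :=
    Groth.Agent.H62.TriFlag.exists_regular_chain hK
      (s.image (Groth.Agent.H62.TriFlag.iotaS A K H))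
  refine ⟨m, fun i => Groth.Agent.H62.TriFlag.pull A K H (FK i), ?_, ?_, ?_, ?_, ?_⟩
  · change Groth.Agent.H62.TriFlag.pull A K H (FK 0) = ⊥
    rw [hF0, Groth.Agent.H62.TriFlag.pull_bot]
  · intro x hx
    exact hFs _ (Finset.mem_image_of_mem _ hx)
  · intro i
    exact Groth.Agent.H62.TriFlag.pull_mono (hFmono i)
  · intro i
    exact Groth.Agent.H62.TriFlag.sub_pull (hFsub i)
  · intro i x hx y hy
    obtain ⟨a, b, hab, hmem⟩ := Groth.Agent.H62.TriFlag.dep_pull (hFdep i) x hx y hy
    refine ⟨a, b, ?_, hmem⟩
    rcases hab with h | h
    · exact Or.inl (h.map (algebraMap A (IsLocalRing.ResidueField A))).ne_zero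
    · exact Or.inr (h.map (algebraMap A (IsLocalRing.ResidueField A))).ne_zero

end Groth.Agent.S18062
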