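import Groth.Statements.S19702
import Mathlib
import Groth.Agent.S0346

set_option autoImplicit false
set_option maxHeartbeats 400000
universe u
open CategoryTheory MonoidalCategory CartesianMonoidalCategory MonObj GrpObj AlgebraicGeometry CategoryTheory.Limits
open AlgGrp

namespace Groth.Agent.S19702

open TensorProduct in
theorem bij_iff (k K A : Type u) [Field k] [Field K] [Algebra k K] [CommRing A] [Algebra k A] :
    Function.Bijective (algebraMap k A) ↔ Function.Bijective (algebraMap K (K ⊗[k] A)) := by
  refine ⟨fun h => ?_, fun h => Module.FaithfullyFlat.bijective_of_tensorProduct h⟩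
  have this : LinearMap.lTensor K (Algebra.linearMap k A) =
      Algebra.linearMap K (K ⊗[k] A) ∘ₗ (AlgebraTensorModule.rid k K K).toLinearMap := by
    ext; simp
  have h1 : Function.Bijective (LinearMap.lTensor K (Algebra.linearMap k A)) :=
    ⟨(Module.FaithfullyFlat.lTensor_injective_iff_injective k K (Algebra.linearMap k A)).mpr h.1,
     (Module.FaithfullyFlat.lTensor_surjective_iff_surjective k K (Algebra.linearMap k A)).mpr h.2⟩
  rw [this] at h1
  have h2 : ⇑(algebraMap K (K ⊗[k] A)) =
      ⇑(Algebra.linearMap K (K ⊗[k] A) ∘ₗ (AlgebraTensorModule.rid k K K).toLinearMap) ∘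
        ⇑(AlgebraTensorModule.rid k K K).symm := by
    funext x
    simp
  rw [h2]
  exact h1.comp (AlgebraTensorModule.rid k K K).symm.bijective

open TensorProduct in
theorem bijective_iff_of_isPushout {k K : Type u} [Field k] [Field K] [Algebra k K]
    {A P : CommRingCat.{u}} (φ : CommRingCat.of k ⟶ A) (ψ : CommRingCat.of K ⟶ P) (gm : A ⟶ P)
    (h : IsPushout φ (CommRingCat.ofHom (algebraMap k K)) gm ψ) :
    Function.Bijective φ.hom ↔ Function.Bijective ψ.hom := by
  letI : Algebra k A := φ.hom.toAlgebra
  letI : Algebra K P := ψ.hom.toAlgebra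
  letI : Algebra A P := gm.hom.toAlgebra
  letI : Algebra k P := (φ ≫ gm).hom.toAlgebra
  haveI : IsScalarTower k A P := .of_algebraMap_eq' rfl
  haveI : IsScalarTower k K P := .of_algebraMap_eq' (congrArg CommRingCat.Hom.hom h.w)
  have hp : Algebra.IsPushout k K A P := CommRingCat.isPushout_iff_isPushout.mp h.flip
  let e := Algebra.IsPushout.equiv k K A P
  have hb : ⇑(algebraMap K P) = ⇑e ∘ ⇑(algebraMap K (K ⊗[k] A)) := by
    funext x
    exact (e.commutes x).symm
  change Function.Bijective (algebraMap k A) ↔ Function.Bijective (algebraMap K P)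
  rw [hb, e.bijective.of_comp_iff']
  exact bij_iff k K A

set_option backward.isDefEq.respectTransparency.types false in
theorem isPushout_appTop_of_flat {X Y B T : Scheme.{u}} {f : T ⟶ B} {g : Y ⟶ X} {iX : X ⟶ B}
    {iY : Y ⟶ T} (H : IsPullback g iY iX f) [Flat f] [IsAffine B] [IsAffine T] [CompactSpace X]
    [QuasiSeparatedSpace X] : IsPushout iX.appTop f.appTop g.appTop iY.appTop := by
  have h1 : IsIso (pushoutSection H (US := ⊤) (UT := ⊤) (UX := ⊤) (UY := ⊤) le_top le_top
      (by simp)) :=
    isIso_pushoutSection_of_isQuasiSeparated_of_flat_right H _ _ _ (isAffineOpen_top _)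
      (isAffineOpen_top _) isCompact_univ isQuasiSeparated_univ
  have h2 := (isIso_pushoutSection_iff H (US := ⊤) (UT := ⊤) (UX := ⊤) (UY := ⊤) le_top le_top
      (by simp)).1 h1
  have e : ∀ {A B' : Scheme.{u}} (m : A ⟶ B') (hm : (⊤ : A.Opens) ≤ m ⁻¹ᵁ ⊤),
      m.appLE ⊤ ⊤ hm = m.appTop := by
    intro A B' m hm
    rw [Scheme.Hom.appTop, ← Scheme.Hom.appLE_eq_app]
    rfl
  rwa [e, e, e, e] at h2

theorem quasiSeparated_grp (k : Type u) [Field k]
    (G : Over (Spec (CommRingCat.of k))) [GrpObj G] : QuasiSeparated G.hom := by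
  haveI : TopologicalSpace.NoetherianSpace ↥(𝟙_ (Over (Spec (CommRingCat.of k)))).left :=
    (inferInstance : TopologicalSpace.NoetherianSpace ↥(Spec (CommRingCat.of k)))
  exact (Groth.Agent.S0346.result _ G).2.mpr inferInstance


/-- Let k be a field, K a field extension of k and G a k-group scheme of finite type. Then G is
anti-affine, i.e. O(G) = k, if and only if the base change G_K is anti-affine, i.e. O(G_K) = K. -/
theorem result (k : Type u) [Field k] (K : Type u) [Field K] [Algebra k K]
    (G : Over (Spec (CommRingCat.of k))) [GrpObj G] [LocallyOfFiniteType G.hom] [QuasiCompact G.hom] :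
    Function.Bijective ((Scheme.ΓSpecIso (CommRingCat.of k)).inv ≫ G.hom.appTop).hom ↔
      Function.Bijective ((Scheme.ΓSpecIso (CommRingCat.of K)).inv ≫ (Red.bc (Spec.map (CommRingCat.ofHom (algebraMap k K))) G).hom.appTop).hom := by
  haveI hfl : Flat (Spec.map (CommRingCat.ofHom (algebraMap k K))) := by
    rw [HasRingHomProperty.Spec_iff (P := @Flat)]
    exact RingHom.flat_algebraMap_iff.mpr inferInstance
  haveI : QuasiSeparated G.hom := quasiSeparated_grp k G
  haveI : CompactSpace ↥G.left := (quasiCompact_iff_compactSpace G.hom).mp inferInstance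
  haveI : QuasiSeparatedSpace ↥G.left :=
    (quasiSeparated_iff_quasiSeparatedSpace G.hom).mp inferInstance
  have H : IsPullback (pullback.fst G.hom (Spec.map (CommRingCat.ofHom (algebraMap k K))))
      (pullback.snd G.hom (Spec.map (CommRingCat.ofHom (algebraMap k K)))) G.hom
      (Spec.map (CommRingCat.ofHom (algebraMap k K))) := IsPullback.of_hasPullback _ _
  have P0 := isPushout_appTop_of_flat H
  have P1 : IsPushout ((Scheme.ΓSpecIso (CommRingCat.of k)).inv ≫ G.hom.appTop)
      (CommRingCat.ofHom (algebraMap k K))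
      (pullback.fst G.hom (Spec.map (CommRingCat.ofHom (algebraMap k K)))).appTop
      ((Scheme.ΓSpecIso (CommRingCat.of K)).inv ≫
        (pullback.snd G.hom (Spec.map (CommRingCat.ofHom (algebraMap k K)))).appTop) := by
    refine P0.of_iso (Scheme.ΓSpecIso (CommRingCat.of k)) (Iso.refl _)
      (Scheme.ΓSpecIso (CommRingCat.of K)) (Iso.refl _) ?_ ?_ ?_ ?_
    · simp
    · exact Scheme.ΓSpecIso_naturality _
    · simp
    · simp
  exact bijective_iff_of_isPushout _ _ _ P1

end Groth.Agent.S19702
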