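import Groth.Statements.S18069
import Mathlib
import Groth.Agent.S19702

set_option autoImplicit false
set_option maxHeartbeats 400000
universe u
open CategoryTheory MonoidalCategory CartesianMonoidalCategory MonObj GrpObj AlgebraicGeometry CategoryTheory.Limits
open AlgGrp

namespace Groth.Agent.S18069

open TensorProduct in
theorem bijective_prod_iff {k : Type u} [Field k] {A B P : CommRingCat.{u}} [Nontrivial A]
    [Nontrivial B] (φ₁ : CommRingCat.of k ⟶ A) (φ₂ : CommRingCat.of k ⟶ B) (ga : A ⟶ P)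
    (gb : B ⟶ P) (h : IsPushout φ₁ φ₂ ga gb) :
    Function.Bijective (φ₁ ≫ ga).hom ↔
      Function.Bijective φ₁.hom ∧ Function.Bijective φ₂.hom := by
  constructor
  · intro hP
    letI : Algebra k A := φ₁.hom.toAlgebra
    letI : Algebra k B := φ₂.hom.toAlgebra
    letI : Algebra A P := ga.hom.toAlgebra
    letI : Algebra B P := gb.hom.toAlgebra
    letI : Algebra k P := (φ₁ ≫ ga).hom.toAlgebra
    haveI : IsScalarTower k A P := .of_algebraMap_eq' rfl
    haveI : IsScalarTower k B P := .of_algebraMap_eq' (congrArg CommRingCat.Hom.hom h.w)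
    haveI hp : Algebra.IsPushout k A B P := CommRingCat.isPushout_iff_isPushout.mp h
    have hinjA : Function.Injective (algebraMap k A) := (algebraMap k A).injective
    have hinjB : Function.Injective (algebraMap k B) := (algebraMap k B).injective
    have hP' : Function.Bijective (algebraMap k P) := hP
    refine ⟨⟨hinjA, ?_⟩, ⟨hinjB, ?_⟩⟩
    · intro a
      obtain ⟨c, hc⟩ := hP'.2 (algebraMap A P a)
      refine ⟨c, ?_⟩
      rw [IsScalarTower.algebraMap_apply k A P] at hc
      have h2 := congrArg (Algebra.IsPushout.equiv k A B P).symm hc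
      rw [Algebra.IsPushout.equiv_symm_algebraMap_left,
        Algebra.IsPushout.equiv_symm_algebraMap_left] at h2
      exact Algebra.TensorProduct.includeLeft_injective (R := k) (S := k) (A := A) (B := B)
        hinjB h2
    · intro b
      obtain ⟨c, hc⟩ := hP'.2 (algebraMap B P b)
      refine ⟨c, ?_⟩
      rw [IsScalarTower.algebraMap_apply k B P] at hc
      have h2 := congrArg (Algebra.IsPushout.equiv k A B P).symm hc
      rw [Algebra.IsPushout.equiv_symm_algebraMap_right,
        Algebra.IsPushout.equiv_symm_algebraMap_right] at h2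
      exact Algebra.TensorProduct.includeRight_injective (R := k) (A := A) (B := B)
        hinjA h2
  · rintro ⟨h1, h2⟩
    haveI : IsIso φ₁ := (ConcreteCategory.isIso_iff_bijective φ₁).mpr h1
    haveI : IsIso gb := h.isIso_inr_of_isIso
    have h3 : Function.Bijective gb.hom := (ConcreteCategory.isIso_iff_bijective gb).mp inferInstance
    rw [h.w]
    exact h3.comp h2

set_option backward.isDefEq.respectTransparency.types false in
theorem isPushout_appTop_of_flat_field {X Y B T : Scheme.{u}} {f : T ⟶ B} {g : Y ⟶ X}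
    {iX : X ⟶ B} {iY : Y ⟶ T} (H : IsPullback g iY iX f) [Flat f] [IsAffine B]
    (hB : IsField Γ(B, ⊤))
    [CompactSpace X] [QuasiSeparatedSpace X] [CompactSpace T] [QuasiSeparatedSpace T] :
    IsPushout iX.appTop f.appTop g.appTop iY.appTop := by
  have h1 : IsIso (pushoutSection H (US := ⊤) (UT := ⊤) (UX := ⊤) (UY := ⊤) le_top le_top
      (by simp)) :=
    isIso_pushoutSection_of_isCompact_of_flat_right_of_ringHomFlat H _ _ _ (isAffineOpen_top _)
      isCompact_univ isQuasiSeparated_univ isCompact_univ isQuasiSeparated_univ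
      (RingHom.Flat.of_isField hB _)
  have h2 := (isIso_pushoutSection_iff H (US := ⊤) (UT := ⊤) (UX := ⊤) (UY := ⊤) le_top le_top
      (by simp)).1 h1
  have e : ∀ {A B' : Scheme.{u}} (m : A ⟶ B') (hm : (⊤ : A.Opens) ≤ m ⁻¹ᵁ ⊤),
      m.appLE ⊤ ⊤ hm = m.appTop := by
    intro A B' m hm
    rw [Scheme.Hom.appTop, ← Scheme.Hom.appLE_eq_app]
    rfl
  rwa [e, e, e, e] at h2


/-- Let k be a field and G₁, G₂ connected k-group schemes of finite type. Then G₁ × G₂ is anti-affine,
i.e. O(G₁ × G₂) = k, if and only if G₁ and G₂ are both anti-affine. -/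
theorem result (k : Type u) [Field k]
    (G₁ G₂ : Over (Spec (CommRingCat.of k))) [GrpObj G₁] [LocallyOfFiniteType G₁.hom] [QuasiCompact G₁.hom] [ConnectedSpace ↥G₁.left]
    [GrpObj G₂] [LocallyOfFiniteType G₂.hom] [QuasiCompact G₂.hom] [ConnectedSpace ↥G₂.left] :
    Function.Bijective ((Scheme.ΓSpecIso (CommRingCat.of k)).inv ≫ (G₁ ⊗ G₂).hom.appTop).hom ↔
      Function.Bijective ((Scheme.ΓSpecIso (CommRingCat.of k)).inv ≫ G₁.hom.appTop).hom ∧ Function.Bijective ((Scheme.ΓSpecIso (CommRingCat.of k)).inv ≫ G₂.hom.appTop).hom := by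
  haveI : QuasiSeparated G₁.hom := Groth.Agent.S19702.quasiSeparated_grp k G₁
  haveI : QuasiSeparated G₂.hom := Groth.Agent.S19702.quasiSeparated_grp k G₂
  haveI : CompactSpace ↥G₁.left := (quasiCompact_iff_compactSpace G₁.hom).mp inferInstance
  haveI : QuasiSeparatedSpace ↥G₁.left :=
    (quasiSeparated_iff_quasiSeparatedSpace G₁.hom).mp inferInstance
  haveI : CompactSpace ↥G₂.left := (quasiCompact_iff_compactSpace G₂.hom).mp inferInstance
  haveI : QuasiSeparatedSpace ↥G₂.left :=
    (quasiSeparated_iff_quasiSeparatedSpace G₂.hom).mp inferInstance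
  haveI : Subsingleton ↥(Spec (CommRingCat.of k)) :=
    inferInstanceAs (Subsingleton (PrimeSpectrum k))
  haveI : Flat G₂.hom := inferInstance
  have hK : IsField Γ(Spec (CommRingCat.of k), ⊤) :=
    MulEquiv.isField (Field.toIsField k)
      (Scheme.ΓSpecIso (CommRingCat.of k)).commRingCatIsoToRingEquiv.toMulEquiv
  have H : IsPullback (pullback.fst G₁.hom G₂.hom) (pullback.snd G₁.hom G₂.hom) G₁.hom G₂.hom :=
    IsPullback.of_hasPullback _ _
  have P0 := isPushout_appTop_of_flat_field H hK
  have P1 : IsPushout ((Scheme.ΓSpecIso (CommRingCat.of k)).inv ≫ G₁.hom.appTop)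
      ((Scheme.ΓSpecIso (CommRingCat.of k)).inv ≫ G₂.hom.appTop)
      (pullback.fst G₁.hom G₂.hom).appTop (pullback.snd G₁.hom G₂.hom).appTop := by
    refine P0.of_iso (Scheme.ΓSpecIso (CommRingCat.of k)) (Iso.refl _) (Iso.refl _) (Iso.refl _)
      ?_ ?_ ?_ ?_ <;> simp
  haveI : Nonempty ↥G₁.left := ConnectedSpace.toNonempty
  haveI : Nonempty ↥G₂.left := ConnectedSpace.toNonempty
  haveI : Nonempty ↥(⊤ : G₁.left.Opens) := ⟨⟨Classical.arbitrary _, trivial⟩⟩
  haveI : Nonempty ↥(⊤ : G₂.left.Opens) := ⟨⟨Classical.arbitrary _, trivial⟩⟩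
  haveI : Nontrivial Γ(G₁.left, ⊤) := inferInstance
  haveI : Nontrivial Γ(G₂.left, ⊤) := inferInstance
  have key := bijective_prod_iff _ _ _ _ P1
  have e1 : (G₁ ⊗ G₂).hom.appTop = G₁.hom.appTop ≫ (pullback.fst G₁.hom G₂.hom).appTop := by
    rw [Over.tensorObj_hom, Scheme.Hom.comp_appTop]
  rw [e1, ← Category.assoc]
  exact key

end Groth.Agent.S18069
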