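import Groth.Statements.S18070
import Mathlib
import Groth.Agent.S18069

set_option autoImplicit false
set_option maxHeartbeats 400000
universe u
open CategoryTheory MonoidalCategory CartesianMonoidalCategory MonObj GrpObj AlgebraicGeometry CategoryTheory.Limits
open AlgGrp

namespace Groth.Agent.S18070

set_option backward.isDefEq.respectTransparency.types false in
theorem appTop_injective_of_flat_surjective {X Y : Scheme.{u}} (f : X ⟶ Y) [Flat f]
    [Surjective f] : Function.Injective f.appTop.hom := by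
  rw [injective_iff_map_eq_zero]
  intro s hs
  refine TopCat.Presheaf.section_ext Y.sheaf ⊤ s 0 (fun y hy => ?_)
  obtain ⟨x, rfl⟩ := f.surjective y
  have hinj : Function.Injective (f.stalkMap x).hom := by
    algebraize [(f.stalkMap x).hom]
    have : Module.FaithfullyFlat (Y.presheaf.stalk (f x)) (X.presheaf.stalk x) :=
      @Module.FaithfullyFlat.of_flat_of_isLocalHom _ _ _ _ _ _ _
        (Flat.stalkMap f x) (f.toLRSHom.prop x)
    exact ‹RingHom.FaithfullyFlat _›.injective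
  have h1 := Scheme.Hom.germ_stalkMap_apply f ⊤ x hy s
  have h2 : (f.app ⊤) s = 0 := hs
  rw [h2, map_zero] at h1
  rw [map_zero]
  apply hinj
  exact h1.trans (map_zero (f.stalkMap x).hom).symm

theorem hom_ext_to_affine {Z Y : Scheme.{u}} [IsAffine Y] (a b : Z ⟶ Y)
    (h : a.appTop = b.appTop) : a = b := by
  rw [← cancel_mono Y.toSpecΓ, Scheme.toSpecΓ_naturality, Scheme.toSpecΓ_naturality, h]

theorem appTop_mul_eq (k : Type u) [Field k] (G G₁ : Over (Spec (CommRingCat.of k))) [GrpObj G]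
    [GrpObj G₁] [CompactSpace G.left] [QuasiSeparatedSpace G.left] [CompactSpace G₁.left]
    [QuasiSeparatedSpace G₁.left] (i : G₁ ⟶ G) [IsMonHom i]
    (h₁ : Function.Bijective ((Scheme.ΓSpecIso (CommRingCat.of k)).inv ≫ G₁.hom.appTop).hom) :
    (fst G G₁ * (snd G G₁ ≫ i)).left.appTop = (fst G G₁).left.appTop := by
  haveI : Subsingleton ↥(Spec (CommRingCat.of k)) :=
    inferInstanceAs (Subsingleton (PrimeSpectrum k))
  haveI : Flat G₁.hom := inferInstance
  have hK : IsField Γ(Spec (CommRingCat.of k), ⊤) :=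
    MulEquiv.isField (Field.toIsField k)
      (Scheme.ΓSpecIso (CommRingCat.of k)).commRingCatIsoToRingEquiv.toMulEquiv
  have H : IsPullback (pullback.fst G.hom G₁.hom) (pullback.snd G.hom G₁.hom) G.hom G₁.hom :=
    IsPullback.of_hasPullback _ _
  have P0 := Groth.Agent.S18069.isPushout_appTop_of_flat_field H hK
  haveI : IsIso G₁.hom.appTop := by
    haveI : IsIso ((Scheme.ΓSpecIso (CommRingCat.of k)).inv ≫ G₁.hom.appTop) :=
      (ConcreteCategory.isIso_iff_bijective _).mpr h₁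
    exact IsIso.of_isIso_comp_left (Scheme.ΓSpecIso (CommRingCat.of k)).inv _
  haveI hfst : IsIso (pullback.fst G.hom G₁.hom).appTop := P0.isIso_inl_of_isIso
  obtain ⟨sec, hs1, hs3⟩ : ∃ sec : G ⟶ G ⊗ G₁, sec ≫ fst G G₁ = 𝟙 G ∧
      sec ≫ snd G G₁ = toUnit G ≫ η[G₁] :=
    ⟨lift (𝟙 G) (toUnit G ≫ η[G₁]), lift_fst _ _, lift_snd _ _⟩
  have hs2 : sec ≫ (fst G G₁ * (snd G G₁ ≫ i)) = 𝟙 G := by
    rw [MonObj.comp_mul, hs1, ← Category.assoc, hs3, Category.assoc, IsMonHom.one_hom,
      ← Hom.one_def, _root_.mul_one]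
  ext s
  obtain ⟨t, ht⟩ : ∃ t, (fst G G₁).left.appTop.hom t =
      (fst G G₁ * (snd G G₁ ≫ i)).left.appTop.hom s := by
    have hb : Function.Bijective (pullback.fst G.hom G₁.hom).appTop.hom :=
      (ConcreteCategory.isIso_iff_bijective _).mp hfst
    exact hb.2 _
  have hid : (𝟙 G : G ⟶ G).left.appTop = 𝟙 _ := by simp
  have e1 : sec.left.appTop.hom ((fst G G₁ * (snd G G₁ ≫ i)).left.appTop.hom s) = s := by
    have h5 : (fst G G₁ * (snd G G₁ ≫ i)).left.appTop ≫ sec.left.appTop = 𝟙 _ := by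
      rw [← Scheme.Hom.comp_appTop, ← Over.comp_left, hs2, hid]
    exact congrArg (fun m => m.hom s) h5
  have e2 : sec.left.appTop.hom ((fst G G₁).left.appTop.hom t) = t := by
    have h5 : (fst G G₁).left.appTop ≫ sec.left.appTop = 𝟙 _ := by
      rw [← Scheme.Hom.comp_appTop, ← Over.comp_left, hs1, hid]
    exact congrArg (fun m => m.hom t) h5
  rw [← ht, e2] at e1
  rw [← ht, e1]


/-- Let k be a field and 1 → G₁ → G → G₂ → 1 an exact sequence of k-group schemes of finite type with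
G₁, G₂ connected (i : G₁ → G a homomorphism and closed immersion which is the kernel of the flat
surjective homomorphism q : G → G₂). Anti-affineness passes from G to the quotient G₂; in the other
direction, G is anti-affine whenever G₁ and G₂ both are. -/
theorem result (k : Type u) [Field k]
    (G₁ G G₂ : Over (Spec (CommRingCat.of k))) [GrpObj G₁] [LocallyOfFiniteType G₁.hom] [QuasiCompact G₁.hom] [ConnectedSpace ↥G₁.left]
    [GrpObj G] [LocallyOfFiniteType G.hom] [QuasiCompact G.hom]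
    [GrpObj G₂] [LocallyOfFiniteType G₂.hom] [QuasiCompact G₂.hom] [ConnectedSpace ↥G₂.left]
    (i : G₁ ⟶ G) [IsMonHom i] [IsClosedImmersion i.left] (q : G ⟶ G₂) [IsMonHom q] [Surjective q.left] [Flat q.left]
    (hex : AlgGrp.IsKernel i q) :
    (Function.Bijective ((Scheme.ΓSpecIso (CommRingCat.of k)).inv ≫ G.hom.appTop).hom → Function.Bijective ((Scheme.ΓSpecIso (CommRingCat.of k)).inv ≫ G₂.hom.appTop).hom) ∧
    (Function.Bijective ((Scheme.ΓSpecIso (CommRingCat.of k)).inv ≫ G₁.hom.appTop).hom → Function.Bijective ((Scheme.ΓSpecIso (CommRingCat.of k)).inv ≫ G₂.hom.appTop).hom → Function.Bijective ((Scheme.ΓSpecIso (CommRingCat.of k)).inv ≫ G.hom.appTop).hom) := by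
  haveI : QuasiSeparated G₁.hom := Groth.Agent.S19702.quasiSeparated_grp k G₁
  haveI : QuasiSeparated G.hom := Groth.Agent.S19702.quasiSeparated_grp k G
  haveI : QuasiSeparated G₂.hom := Groth.Agent.S19702.quasiSeparated_grp k G₂
  haveI : CompactSpace ↥G₁.left := (quasiCompact_iff_compactSpace G₁.hom).mp inferInstance
  haveI : QuasiSeparatedSpace ↥G₁.left :=
    (quasiSeparated_iff_quasiSeparatedSpace G₁.hom).mp inferInstance
  haveI : CompactSpace ↥G.left := (quasiCompact_iff_compactSpace G.hom).mp inferInstance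
  haveI : QuasiSeparatedSpace ↥G.left :=
    (quasiSeparated_iff_quasiSeparatedSpace G.hom).mp inferInstance
  haveI : QuasiSeparatedSpace ↥G₂.left :=
    (quasiSeparated_iff_quasiSeparatedSpace G₂.hom).mp inferInstance
  have hw : G.hom.appTop = G₂.hom.appTop ≫ q.left.appTop := by
    rw [← Scheme.Hom.comp_appTop, Over.w q]
  have hqinj : Function.Injective q.left.appTop.hom := appTop_injective_of_flat_surjective q.left
  have hcomp : ∀ c, ((Scheme.ΓSpecIso (CommRingCat.of k)).inv ≫ G.hom.appTop).hom c =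
      q.left.appTop.hom (((Scheme.ΓSpecIso (CommRingCat.of k)).inv ≫ G₂.hom.appTop).hom c) := by
    intro c
    rw [hw]
    rfl
  constructor
  · intro hG
    constructor
    · intro c c' hcc
      apply hG.1
      rw [hcomp, hcomp, hcc]
    · intro t
      obtain ⟨c, hc⟩ := hG.2 (q.left.appTop.hom t)
      refine ⟨c, hqinj ?_⟩
      rw [← hcomp]
      exact hc
  · intro h₁ h₂
    have hqsurj : Function.Surjective q.left.appTop.hom := by
      have hA := appTop_mul_eq k G G₁ i h₁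
      have hC : (fst G G₁).left ≫ G.left.toSpecΓ =
          (fst G G₁ * (snd G G₁ ≫ i)).left ≫ G.left.toSpecΓ := by
        apply hom_ext_to_affine
        rw [Scheme.Hom.comp_appTop, Scheme.Hom.comp_appTop, hA]
      have hex' : IsPullback i (toUnit G₁) q η[G₂] := hex
      have hB : ∀ {Z : Scheme.{u}} (g₁ g₂ : Z ⟶ G.left), g₁ ≫ q.left = g₂ ≫ q.left →
          g₁ ≫ G.left.toSpecΓ = g₂ ≫ G.left.toSpecΓ := by
        intro Z g₁ g₂ hg
        have hg' : g₂ ≫ G.hom = g₁ ≫ G.hom := by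
          rw [← Over.w q, ← Category.assoc, ← Category.assoc, hg]
        let Z' : Over (Spec (CommRingCat.of k)) := Over.mk (g₁ ≫ G.hom)
        let a₁ : Z' ⟶ G := Over.homMk g₁ rfl
        let a₂ : Z' ⟶ G := Over.homMk g₂ hg'
        have haq : a₁ ≫ q = a₂ ≫ q := Over.OverMorphism.ext hg
        have hn : (a₁⁻¹ * a₂) ≫ q = toUnit Z' ≫ η[G₂] := by
          rw [MonObj.mul_comp, GrpObj.inv_comp, haq, _root_.inv_mul_cancel, Hom.one_def]
        obtain ⟨n', hn'⟩ : ∃ n' : Z' ⟶ G₁, n' ≫ i = a₁⁻¹ * a₂ :=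
          ⟨hex'.lift (a₁⁻¹ * a₂) (toUnit Z') hn, hex'.lift_fst _ _ _⟩
        obtain ⟨r, hr1, hr2⟩ : ∃ r : Z' ⟶ G ⊗ G₁, r ≫ fst G G₁ = a₁ ∧ r ≫ snd G G₁ = n' :=
          ⟨lift a₁ n', lift_fst _ _, lift_snd _ _⟩
        have hr3 : r ≫ (fst G G₁ * (snd G G₁ ≫ i)) = a₂ := by
          rw [MonObj.comp_mul, hr1, ← Category.assoc, hr2, hn', _root_.mul_inv_cancel_left]
        have e1 : r.left ≫ (fst G G₁).left = g₁ :=
          congrArg (fun m : Z' ⟶ G => m.left) hr1
        have e2 : r.left ≫ (fst G G₁ * (snd G G₁ ≫ i)).left = g₂ :=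
          congrArg (fun m : Z' ⟶ G => m.left) hr3
        calc g₁ ≫ G.left.toSpecΓ = (r.left ≫ (fst G G₁).left) ≫ G.left.toSpecΓ := by rw [e1]
          _ = r.left ≫ ((fst G G₁).left ≫ G.left.toSpecΓ) := Category.assoc _ _ _
          _ = r.left ≫ ((fst G G₁ * (snd G G₁ ≫ i)).left ≫ G.left.toSpecΓ) := by rw [hC]
          _ = (r.left ≫ (fst G G₁ * (snd G G₁ ≫ i)).left) ≫ G.left.toSpecΓ :=
            (Category.assoc _ _ _).symm
          _ = g₂ ≫ G.left.toSpecΓ := by rw [e2]
      haveI : QuasiCompact q.left := inferInstance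
      obtain ⟨d, hd⟩ : ∃ d : G₂.left ⟶ Spec Γ(G.left, ⊤), q.left ≫ d = G.left.toSpecΓ :=
        ⟨EffectiveEpi.desc q.left G.left.toSpecΓ hB, EffectiveEpi.fac _ _ _⟩
      intro s
      refine ⟨d.appTop.hom ((Scheme.ΓSpecIso Γ(G.left, ⊤)).inv.hom s), ?_⟩
      have h3 : d.appTop ≫ q.left.appTop = (Scheme.ΓSpecIso Γ(G.left, ⊤)).hom := by
        rw [← Scheme.Hom.comp_appTop, hd, Scheme.toSpecΓ_appTop]
      have h4 := congrArg (fun m => m.hom ((Scheme.ΓSpecIso Γ(G.left, ⊤)).inv.hom s)) h3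
      exact h4.trans (congrArg (fun m => m.hom s) (Scheme.ΓSpecIso Γ(G.left, ⊤)).inv_hom_id)
    constructor
    · intro c c' hcc
      rw [hcomp, hcomp] at hcc
      exact h₂.1 (hqinj hcc)
    · intro s
      obtain ⟨t, rfl⟩ := hqsurj s
      obtain ⟨c, rfl⟩ := h₂.2 t
      exact ⟨c, hcomp c⟩

end Groth.Agent.S18070
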