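import Groth.Statements.S18112
import Mathlib

set_option autoImplicit false
universe u
open CategoryTheory CategoryTheory.Limits MonoidalCategory CartesianMonoidalCategory MonObj GrpObj AlgebraicGeometry
open AbVar

namespace Groth.Agent.S18112

section core
open Polynomial

/-- a rational polynomial of degree `≤ g` with integer values at `g + 1` consecutive integers has
`g! • P` with integer coefficients. -/
theorem ivl (g : ℕ) (P : Polynomial ℚ) (hP : P.natDegree ≤ g) (a₀ : ℤ)
    (hval : ∀ m : ℕ, m ≤ g → ∃ z : ℤ, P.eval ((a₀ : ℚ) + m) = z) (j : ℕ) :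
    ∃ z : ℤ, (g.factorial : ℚ) * P.coeff j = z := by
  classical
  obtain ⟨R, hR⟩ : ∃ R : Polynomial ℚ, R = P.comp (Polynomial.X + Polynomial.C (a₀ : ℚ)) :=
    ⟨_, rfl⟩
  have hRdeg : R.natDegree ≤ g := by
    calc R.natDegree ≤ P.natDegree * (Polynomial.X + Polynomial.C (a₀ : ℚ)).natDegree := by
          rw [hR]; exact Polynomial.natDegree_comp_le
      _ = P.natDegree * 1 := by rw [Polynomial.natDegree_X_add_C]
      _ ≤ g := by simpa using hP
  have hReval : ∀ x : ℚ, R.eval x = P.eval (x + a₀) := by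
    intro x
    rw [hR]
    simp [Polynomial.eval_comp]
  obtain ⟨f, hf⟩ : ∃ f : ℚ → ℚ, f = fun x => Polynomial.eval x R := ⟨_, rfl⟩
  have hfx : ∀ x, f x = Polynomial.eval x R := fun x => by rw [hf]
  have hfval : ∀ m : ℕ, m ≤ g → ∃ z : ℤ, f m = z := by
    intro m hm
    obtain ⟨z, hz⟩ := hval m hm
    exact ⟨z, by rw [hfx, hReval, add_comm]; exact hz⟩
  obtain ⟨c, hc⟩ : ∃ c : ℕ → ℚ, ∀ k, c k = (fwdDiff (1 : ℚ))^[k] f 0 := ⟨_, fun _ => rfl⟩
  have hcint : ∀ k, k ≤ g → ∃ z : ℤ, c k = z := by
    intro k hk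
    have h := fwdDiff_iter_eq_sum_shift (1 : ℚ) f k 0
    choose! zf hzf using hfval
    refine ⟨∑ i ∈ Finset.range (k + 1), ((-1 : ℤ) ^ (k - i) * (k.choose i : ℤ)) * zf i, ?_⟩
    rw [hc, h]
    push_cast
    refine Finset.sum_congr rfl (fun i hi => ?_)
    have hi' : i ≤ g := by
      have := Finset.mem_range.mp hi
      omega
    rw [zsmul_eq_mul, zero_add, nsmul_eq_mul, _root_.mul_one, hzf i hi']
    push_cast
    ring
  have hczero : ∀ k, g < k → c k = 0 := by
    intro k hk
    have h0 : ((fwdDiff (1 : ℚ))^[k] fun x => Polynomial.eval x R) = 0 :=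
      Polynomial.fwdDiff_iter_eq_zero_of_degree_lt (lt_of_le_of_lt hRdeg hk)
    rw [hc, hf, h0]
    rfl
  have hfn : ∀ n : ℕ, f n = ∑ k ∈ Finset.range (g + 1), (n.choose k : ℚ) * c k := by
    intro n
    have h := shift_eq_sum_fwdDiff_iter (1 : ℚ) f n 0
    simp only [zero_add, nsmul_eq_mul, _root_.mul_one, ← hc] at h
    rw [h]
    have e1 : ∀ N, n + 1 ≤ N → ∑ k ∈ Finset.range N, (n.choose k : ℚ) * c k =
        ∑ k ∈ Finset.range (n + 1), (n.choose k : ℚ) * c k := by
      intro N hN
      symm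
      apply Finset.sum_subset (Finset.range_mono hN)
      intro k _ hk'
      have : n < k := by
        simp only [Finset.mem_range, not_lt] at hk'
        omega
      rw [Nat.choose_eq_zero_of_lt this]
      simp
    have e2 : ∀ N, g + 1 ≤ N → ∑ k ∈ Finset.range N, (n.choose k : ℚ) * c k =
        ∑ k ∈ Finset.range (g + 1), (n.choose k : ℚ) * c k := by
      intro N hN
      symm
      apply Finset.sum_subset (Finset.range_mono hN)
      intro k _ hk'
      have : g < k := by
        simp only [Finset.mem_range, not_lt] at hk'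
        omega
      rw [hczero k this]
      simp
    rw [← e1 (max (n + 1) (g + 1)) (le_max_left _ _), e2 (max (n + 1) (g + 1)) (le_max_right _ _)]
  have hkey : ∀ n : ℕ, (g.factorial : ℚ) * f n =
      ∑ k ∈ Finset.range (g + 1), (c k * ((g.factorial / k.factorial : ℕ) : ℚ)) *
        ((descPochhammer ℚ k).eval (n : ℚ)) := by
    intro n
    rw [hfn n, Finset.mul_sum]
    refine Finset.sum_congr rfl (fun k hk => ?_)
    have hk' : k ≤ g := by
      have := Finset.mem_range.mp hk
      omega
    rw [descPochhammer_eval_eq_descFactorial, Nat.descFactorial_eq_factorial_mul_choose]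
    have hdvd : k.factorial ∣ g.factorial := Nat.factorial_dvd_factorial hk'
    have h1 : (g.factorial : ℚ) = ((g.factorial / k.factorial : ℕ) : ℚ) * (k.factorial : ℚ) := by
      rw [← Nat.cast_mul, Nat.div_mul_cancel hdvd]
    rw [h1]
    push_cast
    ring
  choose! zc hzc using hcint
  obtain ⟨S, hS⟩ : ∃ S : Polynomial ℤ, S = ∑ k ∈ Finset.range (g + 1),
      Polynomial.C (zc k * ((g.factorial / k.factorial : ℕ) : ℤ)) * descPochhammer ℤ k := ⟨_, rfl⟩
  have hT : Polynomial.C (g.factorial : ℚ) * R = S.map (Int.castRingHom ℚ) := by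
    apply Polynomial.eq_of_infinite_eval_eq
    apply Set.infinite_of_injective_forall_mem (f := fun n : ℕ => (n : ℚ)) Nat.cast_injective
    intro n
    show Polynomial.eval (n : ℚ) (Polynomial.C (g.factorial : ℚ) * R) =
      Polynomial.eval (n : ℚ) (S.map (Int.castRingHom ℚ))
    rw [Polynomial.eval_mul, Polynomial.eval_C, ← hfx, hkey n, hS, Polynomial.map_sum,
      Polynomial.eval_finset_sum]
    refine Finset.sum_congr rfl (fun k hk => ?_)
    have hk' : k ≤ g := by
      have := Finset.mem_range.mp hk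
      omega
    rw [Polynomial.map_mul, Polynomial.map_C, descPochhammer_map, Polynomial.eval_mul,
      Polynomial.eval_C, hzc k hk', eq_intCast, Int.cast_mul, Int.cast_natCast]
  have hPR : R.comp (Polynomial.X - Polynomial.C (a₀ : ℚ)) = P := by
    rw [hR, Polynomial.comp_assoc]
    simp
  have hmap : (Polynomial.X - Polynomial.C (a₀ : ℤ) : Polynomial ℤ).map (Int.castRingHom ℚ) =
      Polynomial.X - Polynomial.C (a₀ : ℚ) := by
    simp
  have hfin : Polynomial.C (g.factorial : ℚ) * P =
      (S.comp (Polynomial.X - Polynomial.C (a₀ : ℤ))).map (Int.castRingHom ℚ) := by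
    rw [Polynomial.map_comp, hmap, ← hT, Polynomial.mul_comp, Polynomial.C_comp, hPR]
  refine ⟨(S.comp (Polynomial.X - Polynomial.C (a₀ : ℤ))).coeff j, ?_⟩
  have h := congrArg (fun p => Polynomial.coeff p j) hfin
  simpa [Polynomial.coeff_C_mul, Polynomial.coeff_map] using h

theorem core (g : ℕ) (u v : ℚ) (huv : u < v) (Q : Polynomial ℚ) (hQ : Q.natDegree ≤ g)
    (N : ℤ → ℕ → ℕ)
    (hpoly : ∀ (a : ℤ) (b : ℕ), 0 < b → u < (a : ℚ) / (b : ℚ) → (a : ℚ) / (b : ℚ) < v →
      ((N a b : ℕ) : ℚ) / (b : ℚ) ^ (2 * g) = Q.eval ((a : ℚ) / (b : ℚ))) (j : ℕ) :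
    ∃ z : ℤ, (g.factorial : ℚ) * Q.coeff j = z := by
  by_cases hj : g < j
  · refine ⟨0, ?_⟩
    rw [Polynomial.coeff_eq_zero_of_natDegree_lt (lt_of_le_of_lt hQ hj)]
    simp
  push_neg at hj
  have huv' : 0 < v - u := sub_pos.mpr huv
  have hb : ∀ b : ℕ, 0 < b → (g + 2 : ℚ) < (v - u) * b →
      ∃ z : ℤ, (g.factorial : ℚ) * Q.coeff j * (b : ℚ) ^ (2 * g - j) = z := by
    intro b hb0 hbig
    have hbq : (0 : ℚ) < b := by exact_mod_cast hb0
    obtain ⟨a₀, ha₀⟩ : ∃ a₀ : ℤ, a₀ = ⌊u * b⌋ + 1 := ⟨_, rfl⟩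
    have h1 : u * b < a₀ := by
      rw [ha₀]
      push_cast
      exact Int.lt_floor_add_one _
    have h2 : (a₀ : ℚ) ≤ u * b + 1 := by
      rw [ha₀]
      push_cast
      linarith [Int.floor_le (u * b)]
    obtain ⟨Pb, hPb⟩ : ∃ Pb : Polynomial ℚ, Pb = Polynomial.C ((b : ℚ) ^ (2 * g)) *
        Q.comp (Polynomial.C ((b : ℚ)⁻¹) * Polynomial.X) := ⟨_, rfl⟩
    have hdeg : Pb.natDegree ≤ g := by
      calc Pb.natDegree ≤ (Q.comp (Polynomial.C ((b : ℚ)⁻¹) * Polynomial.X)).natDegree := by
            rw [hPb]; exact Polynomial.natDegree_C_mul_le _ _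
        _ ≤ Q.natDegree * (Polynomial.C ((b : ℚ)⁻¹) * Polynomial.X).natDegree :=
            Polynomial.natDegree_comp_le
        _ ≤ Q.natDegree * 1 := Nat.mul_le_mul_left _
            ((Polynomial.natDegree_C_mul_le _ _).trans Polynomial.natDegree_X_le)
        _ ≤ g := by simpa using hQ
    have hval : ∀ m : ℕ, m ≤ g → ∃ z : ℤ, Pb.eval ((a₀ : ℚ) + m) = z := by
      intro m hm
      have hmq : (m : ℚ) ≤ g := by exact_mod_cast hm
      have hm0 : (0 : ℚ) ≤ m := Nat.cast_nonneg m
      have hexp : (v - u) * b = v * b - u * b := by ring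
      have hu : u < ((a₀ + m : ℤ) : ℚ) / b := by
        rw [lt_div_iff₀ hbq]
        push_cast
        linarith
      have hv : ((a₀ + m : ℤ) : ℚ) / b < v := by
        rw [div_lt_iff₀ hbq]
        push_cast
        linarith
      have h := hpoly (a₀ + m) b hb0 hu hv
      refine ⟨(N (a₀ + m) b : ℤ), ?_⟩
      rw [hPb, Polynomial.eval_mul, Polynomial.eval_C, Polynomial.eval_comp, Polynomial.eval_mul,
        Polynomial.eval_C, Polynomial.eval_X]
      have e : (b : ℚ)⁻¹ * ((a₀ : ℚ) + m) = ((a₀ + m : ℤ) : ℚ) / b := by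
        push_cast
        field_simp
      rw [e, ← h]
      push_cast
      field_simp
    obtain ⟨z, hz⟩ := ivl g Pb hdeg a₀ hval j
    refine ⟨z, ?_⟩
    rw [← hz, hPb, Polynomial.coeff_C_mul, Polynomial.comp_C_mul_X_coeff,
      pow_sub₀ _ hbq.ne' (by omega : j ≤ 2 * g), inv_pow]
    ring
  obtain ⟨b, hbgt⟩ := exists_nat_gt ((g + 2 : ℚ) / (v - u))
  have hgpos : (0 : ℚ) < (g + 2 : ℚ) / (v - u) := by positivity
  have hbq : (0 : ℚ) < b := lt_trans hgpos hbgt
  have hb0 : 0 < b := by exact_mod_cast hbq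
  have hbig : (g + 2 : ℚ) < (v - u) * b := by
    rw [div_lt_iff₀ huv'] at hbgt
    linarith
  obtain ⟨z1, hz1⟩ := hb b hb0 hbig
  obtain ⟨z2, hz2⟩ := hb (b + 1) (Nat.succ_pos b) (by push_cast; nlinarith)
  have hcop0 : IsCoprime (b : ℤ) ((b : ℤ) + 1) := ⟨-1, 1, by ring⟩
  have hcop : IsCoprime ((b : ℤ) ^ (2 * g - j)) (((b : ℤ) + 1) ^ (2 * g - j)) :=
    IsCoprime.pow hcop0
  obtain ⟨x, y, hxy⟩ := hcop
  refine ⟨x * z1 + y * z2, ?_⟩
  have hxyq : (x : ℚ) * (b : ℚ) ^ (2 * g - j) + (y : ℚ) * ((b : ℚ) + 1) ^ (2 * g - j) = 1 := by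
    exact_mod_cast hxy
  push_cast at hz2 ⊢
  rw [← hz1, ← hz2]
  linear_combination (-(g.factorial : ℚ) * Q.coeff j) * hxyq

end core


/-- Let k be an algebraically closed field of characteristic zero, A an abelian variety over k (a proper
smooth k-group scheme with geometrically connected fibres) of dimension g, (A^t, φ) a given dual
abelian variety of A for the fppf topology with A^t itself an abelian variety, and P an invertible
module on A ×_k A^t whose class is a Poincaré class; for a k-point α of A^t write P_α for the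
restriction of P to A × {α}. Let L be an ample invertible O_A-module with an inverse L' (L ⊗ L' ≅
O_A), negative powers of L meaning powers of L'. For a coherent O_A-module G write h^i_gen(G) for
the generic value of h^i(A, G ⊗ P_α), rendered as the minimum over all k-points α of A^t (the
generic value by semicontinuity), and for b ≥ 1 let b_A : A → A be multiplication by b. Let F be a
coherent O_A-module and i ≥ 0, and consider the i-th cohomological rank function of F with respect
to L, the function on the rationals x = a/b (b ≥ 1) with value b^{-2g} · h^i_gen(b_A^* F ⊗ L^{ab}).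
Suppose that on an open interval (u, v), u < v rational, this function agrees with a polynomial Q
with rational coefficients of degree at most g. Then every coefficient of Q lies in (1/g!)ℤ, i.e. g!
· Q has integer coefficients. (Stated for a coherent module; the source allows any object of the
bounded derived category of coherent modules. The degree bound on Q, which the source takes from the
local polynomiality of rank functions, is made a hypothesis here.) -/
theorem result (k : Type u) [Field k] [IsAlgClosed k] [CharZero k]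
    (A At : Over (Spec (CommRingCat.of k))) [GrpObj A] [IsProper A.hom] [Smooth A.hom] [GeometricallyConnected A.hom]
    [GrpObj At] [IsProper At.hom] [Smooth At.hom] [GeometricallyConnected At.hom]
    (φ : ∀ T : Over (Spec (CommRingCat.of k)), PicF.Cl (PicF.XT A.hom T) → (T ⟶ At))
    (hφ : AbDual.IsDualAV Scheme.fppfPrecoverage A At φ)
    (P : (pullback A.hom At.hom).Modules) (hP : PicF.IsInvertible P)
    (hPξ : AbDual.IsPoincareCl A At φ (PicF.cl P))
    (g : ℕ) (hg : topologicalKrullDim ↥A.left = g)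
    (L L' : A.left.Modules) (hL : CohB1.IsAmple L) (hLL' : Nonempty (CohB1.tensorMod L L' ≅ Coh.structureModule A.left))
    (F : A.left.Modules) (hF : Coh.IsCoh F) (i : ℕ) (u v : ℚ) (huv : u < v)
    (Q : Polynomial ℚ) (hQ : Q.natDegree ≤ g)
    (hpoly : ∀ (a : ℤ) (b : ℕ), 0 < b → u < (a : ℚ) / (b : ℚ) → (a : ℚ) / (b : ℚ) < v →
      ((W4c5cohrankabvar.hgen k P (W4c5cohrankabvar.twist A F L L' b (a * b)) i : ℕ) : ℚ) / (b : ℚ) ^ (2 * g) =
        Q.eval ((a : ℚ) / (b : ℚ)))
    (j : ℕ) : ∃ z : ℤ, (Nat.factorial g : ℚ) * Q.coeff j = (z : ℚ) := by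
  exact core g u v huv Q hQ
    (fun a b => W4c5cohrankabvar.hgen k P (W4c5cohrankabvar.twist A F L L' b (a * b)) i) hpoly j

end Groth.Agent.S18112
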