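import Groth.Statements.S18121
import Mathlib

set_option autoImplicit false
universe u
open Pinch

namespace Groth.Agent.S18121

/-- Let B be a commutative ring, b an element of B, B' := B[z]/(z^2 - b) the rank-two B-algebra with z^2
= b, and Ψ : B[u, v] → B'[t] the B-algebra homomorphism with u ↦ z t and v ↦ t. Then the kernel of Ψ
is the principal ideal generated by u^2 - b v^2, and a polynomial of B'[t] lies in the image of Ψ as
soon as its constant coefficient lies in B. Equivalently, B[u, v]/(u^2 - b v^2) is the fibre product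
of B'[t] and B over B' (for t ↦ 0 and the inclusion of B): the pinching of Spec B' × 𝔸¹ along Spec
B' × {0} by the double cover Spec B' → Spec B is the hypersurface u^2 = b v^2 over B; for B = K[w]
and b = w this is the pinch point u^2 = v^2 w. -/
theorem result (B : Type u) [CommRing B] (b : B) :
    letI Ψ : MvPolynomial (Fin 2) B →ₐ[B] Polynomial (AdjoinRoot (Polynomial.X ^ 2 - Polynomial.C b)) :=
      MvPolynomial.aeval
        ![Polynomial.C (AdjoinRoot.root (Polynomial.X ^ 2 - Polynomial.C b)) * Polynomial.X, Polynomial.X]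
    RingHom.ker Ψ.toRingHom =
        Ideal.span {MvPolynomial.X 0 ^ 2 - MvPolynomial.C b * MvPolynomial.X 1 ^ 2} ∧
      ∀ G : Polynomial (AdjoinRoot (Polynomial.X ^ 2 - Polynomial.C b)),
        (∃ c : B, G.coeff 0 = algebraMap B (AdjoinRoot (Polynomial.X ^ 2 - Polynomial.C b)) c) →
          G ∈ Ψ.range := by
  classical
  set f : Polynomial B := Polynomial.X ^ 2 - Polynomial.C b with hf
  set Ψ : MvPolynomial (Fin 2) B →ₐ[B] Polynomial (AdjoinRoot f) :=
      MvPolynomial.aeval ![Polynomial.C (AdjoinRoot.root f) * Polynomial.X, Polynomial.X] with hΨ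
  set gen : MvPolynomial (Fin 2) B :=
    MvPolynomial.X 0 ^ 2 - MvPolynomial.C b * MvPolynomial.X 1 ^ 2 with hgen
  set I : Ideal (MvPolynomial (Fin 2) B) := Ideal.span {gen} with hI
  have hΨ0 : Ψ (MvPolynomial.X 0) = Polynomial.C (AdjoinRoot.root f) * Polynomial.X := by
    rw [hΨ, MvPolynomial.aeval_X]; rfl
  have hΨ1 : Ψ (MvPolynomial.X 1) = Polynomial.X := by rw [hΨ, MvPolynomial.aeval_X]; rfl
  have hΨC : ∀ a : B, Ψ (MvPolynomial.C a) = Polynomial.C (AdjoinRoot.of f a) := fun a => by
    rw [hΨ, MvPolynomial.aeval_C, Polynomial.algebraMap_apply, AdjoinRoot.algebraMap_eq]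
  have hz2 : (AdjoinRoot.root f) ^ 2 = AdjoinRoot.of f b := by
    have h := AdjoinRoot.eval₂_root f
    rw [hf, Polynomial.eval₂_sub, Polynomial.eval₂_pow, Polynomial.eval₂_X, Polynomial.eval₂_C] at h
    exact sub_eq_zero.mp h
  have hΨP : ∀ P : Polynomial B,
      Ψ (Polynomial.aeval (MvPolynomial.X 1 : MvPolynomial (Fin 2) B) P)
        = P.map (AdjoinRoot.of f) := fun P => by
    rw [← Polynomial.aeval_algHom_apply, hΨ1, Polynomial.aeval_X_left_eq_map,
      AdjoinRoot.algebraMap_eq]
  have hgen0 : Ψ gen = 0 := by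
    rw [hgen, map_sub, map_pow, map_mul, map_pow, hΨ0, hΨ1, hΨC, mul_pow, ← Polynomial.C_pow, hz2]
    ring
  have hIle : I ≤ RingHom.ker Ψ.toRingHom := by
    rw [hI, Ideal.span_le]
    intro x hx
    rw [Set.mem_singleton_iff] at hx
    rw [hx]
    exact hgen0
  -- linear independence of 1, z
  have hindep : ∀ α β : B, AdjoinRoot.of f α + AdjoinRoot.root f * AdjoinRoot.of f β = 0 →
      α = 0 ∧ β = 0 := by
    intro α β h
    rcases subsingleton_or_nontrivial B with hB | hB
    · exact ⟨Subsingleton.elim _ _, Subsingleton.elim _ _⟩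
    · have h1 : AdjoinRoot.mk f (Polynomial.C β * Polynomial.X + Polynomial.C α) = 0 := by
        rw [map_add, map_mul, AdjoinRoot.mk_C, AdjoinRoot.mk_C, AdjoinRoot.mk_X]
        rw [← h]; ring
      rw [AdjoinRoot.mk_eq_zero] at h1
      have hmonic : f.Monic := Polynomial.monic_X_pow_sub_C b two_ne_zero
      have hdeg : (Polynomial.C β * Polynomial.X + Polynomial.C α).degree < f.degree := by
        rw [hf, Polynomial.degree_X_pow_sub_C (by norm_num : 0 < 2) b]
        exact lt_of_le_of_lt Polynomial.degree_linear_le (by norm_num)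
      have h0 : Polynomial.C β * Polynomial.X + Polynomial.C α = 0 := by
        by_contra hne
        exact hmonic.not_dvd_of_degree_lt hne hdeg h1
      have c0 := congrArg (fun p => Polynomial.coeff p 0) h0
      have c1 := congrArg (fun p => Polynomial.coeff p 1) h0
      simp at c0 c1
      exact ⟨c0, c1⟩
  -- every element of B' is α + z β
  have hdecomp : ∀ x : AdjoinRoot f, ∃ α β : B,
      x = AdjoinRoot.of f α + AdjoinRoot.root f * AdjoinRoot.of f β := by
    intro x
    induction x using AdjoinRoot.induction_on with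
    | ih p =>
      induction p using Polynomial.induction_on with
      | C a => exact ⟨a, 0, by simp⟩
      | add p q hp hq =>
        obtain ⟨α1, β1, h1⟩ := hp
        obtain ⟨α2, β2, h2⟩ := hq
        refine ⟨α1 + α2, β1 + β2, ?_⟩
        rw [map_add, h1, h2, map_add, map_add]; ring
      | monomial n a h =>
        obtain ⟨α, β, h1⟩ := h
        refine ⟨b * β, α, ?_⟩
        rw [pow_succ, ← mul_assoc, map_mul, h1, AdjoinRoot.mk_X, map_mul, ← hz2]
        ring
  -- normal form modulo I
  have hred : ∀ F : MvPolynomial (Fin 2) B, ∃ P Q : Polynomial B,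
      F - (Polynomial.aeval (MvPolynomial.X 1 : MvPolynomial (Fin 2) B) P
        + MvPolynomial.X 0 * Polynomial.aeval (MvPolynomial.X 1 : MvPolynomial (Fin 2) B) Q) ∈ I := by
    intro F
    induction F using MvPolynomial.induction_on with
    | C a => exact ⟨Polynomial.C a, 0, by simp⟩
    | add p q hp hq =>
      obtain ⟨P1, Q1, h1⟩ := hp
      obtain ⟨P2, Q2, h2⟩ := hq
      refine ⟨P1 + P2, Q1 + Q2, ?_⟩
      have := I.add_mem h1 h2
      convert this using 1
      simp only [map_add]; ring
    | mul_X p i hp =>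
      obtain ⟨P, Q, h⟩ := hp
      fin_cases i
      · refine ⟨Polynomial.C b * Polynomial.X ^ 2 * Q, P, ?_⟩
        have h1 := I.mul_mem_right (MvPolynomial.X 0) h
        have h2 := I.mul_mem_left
          (Polynomial.aeval (MvPolynomial.X 1 : MvPolynomial (Fin 2) B) Q)
          (Ideal.subset_span (Set.mem_singleton gen))
        have := I.add_mem h1 h2
        convert this using 1
        simp only [map_mul, map_pow, Polynomial.aeval_C, Polynomial.aeval_X,
          MvPolynomial.algebraMap_eq, hgen]
        simp only [Fin.zero_eta, Fin.isValue]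
        ring
      · refine ⟨Polynomial.X * P, Polynomial.X * Q, ?_⟩
        have h1 := I.mul_mem_right (MvPolynomial.X 1) h
        convert h1 using 1
        simp only [map_mul, Polynomial.aeval_X]
        simp only [Fin.mk_one, Fin.isValue]
        ring
  refine ⟨le_antisymm ?_ hIle, ?_⟩
  · intro F hF
    obtain ⟨P, Q, hPQ⟩ := hred F
    have hF0 : Ψ F = 0 := hF
    have h1 : Ψ (F - (Polynomial.aeval (MvPolynomial.X 1 : MvPolynomial (Fin 2) B) P
        + MvPolynomial.X 0 * Polynomial.aeval (MvPolynomial.X 1 : MvPolynomial (Fin 2) B) Q)) = 0 :=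
      hIle hPQ
    rw [map_sub, hF0, zero_sub, neg_eq_zero, map_add, map_mul, hΨP, hΨP, hΨ0] at h1
    have h2 : P.map (AdjoinRoot.of f)
        + (Polynomial.C (AdjoinRoot.root f) * Q.map (AdjoinRoot.of f)) * Polynomial.X = 0 := by
      rw [← h1]; ring
    have hP0 : P.coeff 0 = 0 := by
      have := congrArg (fun p => Polynomial.coeff p 0) h2
      simp only [Polynomial.coeff_add, Polynomial.coeff_mul_X_zero, Polynomial.coeff_map,
        Polynomial.coeff_zero, add_zero] at this
      exact (hindep (P.coeff 0) 0 (by rw [this]; simp)).1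
    have hPQn : ∀ m : ℕ, P.coeff (m+1) = 0 ∧ Q.coeff m = 0 := fun m => by
      have := congrArg (fun p => Polynomial.coeff p (m+1)) h2
      simp only [Polynomial.coeff_add, Polynomial.coeff_mul_X, Polynomial.coeff_map,
        Polynomial.coeff_zero, Polynomial.coeff_C_mul] at this
      exact hindep _ _ this
    have hP : P = 0 := by
      ext n
      rcases n with _ | m
      · simpa using hP0
      · simpa using (hPQn m).1
    have hQ : Q = 0 := by
      ext m
      simpa using (hPQn m).2
    rw [hP, hQ] at hPQ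
    simpa using hPQ
  · rintro G ⟨c, hc⟩
    rw [G.as_sum_range_C_mul_X_pow]
    refine Subalgebra.sum_mem _ fun n _ => ?_
    rcases n with _ | m
    · rw [pow_zero, mul_one, hc, AdjoinRoot.algebraMap_eq]
      exact ⟨MvPolynomial.C c, hΨC c⟩
    · obtain ⟨α, β, hαβ⟩ := hdecomp (G.coeff (m+1))
      refine ⟨MvPolynomial.C α * MvPolynomial.X 1 ^ (m+1)
        + MvPolynomial.C β * MvPolynomial.X 0 * MvPolynomial.X 1 ^ m, ?_⟩
      show Ψ _ = _
      rw [map_add, map_mul, map_mul, map_mul, map_pow, map_pow, hΨ0, hΨ1, hΨC, hΨC, hαβ,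
        map_add, map_mul]
      ring

end Groth.Agent.S18121
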