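import Groth.Statements.S18122
import Mathlib

set_option autoImplicit false
universe u
open Pinch

namespace Groth.Agent.S18122

open MvPolynomial

section aux

variable (K : Type u) [Field K]

/-- the pinch subalgebra -/
noncomputable abbrev Rp : Subalgebra K (MvPolynomial (Fin 2) K) :=
  Algebra.adjoin K {MvPolynomial.X 0 ^ 2, MvPolynomial.X 0 * MvPolynomial.X 1, MvPolynomial.X 1}

theorem x2_mem : (X 0 ^ 2 : MvPolynomial (Fin 2) K) ∈ Rp K :=
  Algebra.subset_adjoin (by simp)

theorem xy_mem : (X 0 * X 1 : MvPolynomial (Fin 2) K) ∈ Rp K :=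
  Algebra.subset_adjoin (by simp)

theorem y_mem : (X 1 : MvPolynomial (Fin 2) K) ∈ Rp K :=
  Algebra.subset_adjoin (by simp)

variable {K}

theorem agree (δ : Derivation K (Rp K) (MvPolynomial (Fin 2) K))
    (D : Derivation K (MvPolynomial (Fin 2) K) (MvPolynomial (Fin 2) K))
    (h1 : D (X 0 ^ 2) = δ ⟨_, x2_mem K⟩) (h2 : D (X 0 * X 1) = δ ⟨_, xy_mem K⟩)
    (h3 : D (X 1) = δ ⟨_, y_mem K⟩) (r : Rp K) : D (r : MvPolynomial (Fin 2) K) = δ r := by
  obtain ⟨z, hz⟩ := r
  induction hz using Algebra.adjoin_induction with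
  | mem z hz =>
    rcases hz with rfl | rfl | rfl
    · exact h1
    · exact h2
    · exact h3
  | algebraMap r =>
    rw [Derivation.map_algebraMap]
    exact (δ.map_algebraMap r).symm
  | add z w hz hw ihz ihw =>
    change D (z + w) = δ (⟨z, hz⟩ + ⟨w, hw⟩)
    rw [map_add, map_add]
    exact congrArg₂ (· + ·) ihz ihw
  | mul z w hz hw ihz ihw =>
    change D (z * w) = δ (⟨z, hz⟩ * ⟨w, hw⟩)
    rw [Derivation.leibniz, Derivation.leibniz, show D w = δ ⟨w, hw⟩ from ihw,
      show D z = δ ⟨z, hz⟩ from ihz]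
    rfl

end aux

/-- Let K be a field in which 2 ≠ 0, S = K[x, y], and R ⊆ S the K-subalgebra generated by x^2, x y and
y; R is the coordinate ring of the pinch point u^2 = v^2 w (u = x y, v = y, w = x^2) and S is its
normalization. Then restriction along R ⊆ S is a bijection from the K-derivations S → S onto the
K-derivations R → S: every K-derivation R → S extends uniquely to S. In sheaf terms, the natural
injective map from the tangent sheaf of the normalization to the dual of the pulled-back sheaf of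
differentials of the pinch point is an isomorphism. (The text works over an algebraically closed
field of characteristic different from 2 and for every semi-smooth variety; only this model case is
stated, and the computation uses only 2 ≠ 0.) -/
theorem result
    (K : Type u) [Field K] [NeZero (2 : K)] :
    letI R : Subalgebra K (MvPolynomial (Fin 2) K) :=
      Algebra.adjoin K {MvPolynomial.X 0 ^ 2, MvPolynomial.X 0 * MvPolynomial.X 1, MvPolynomial.X 1}
    ∀ δ : Derivation K R (MvPolynomial (Fin 2) K),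
      ∃! D : Derivation K (MvPolynomial (Fin 2) K) (MvPolynomial (Fin 2) K),
        ∀ r : R, D (r : MvPolynomial (Fin 2) K) = δ r := by
  intro δ
  change Derivation K (Rp K) (MvPolynomial (Fin 2) K) at δ
  change ∃! D : Derivation K (MvPolynomial (Fin 2) K) (MvPolynomial (Fin 2) K),
        ∀ r : Rp K, D (r : MvPolynomial (Fin 2) K) = δ r
  set x : MvPolynomial (Fin 2) K := X 0 with hx
  set y : MvPolynomial (Fin 2) K := X 1 with hy
  have h2C : (2 : MvPolynomial (Fin 2) K) = C (2 : K) :=
    (map_ofNat (C : K →+* MvPolynomial (Fin 2) K) 2).symm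
  have h2ne : (2 : MvPolynomial (Fin 2) K) ≠ 0 := by
    rw [h2C, Ne, C_eq_zero]
    exact NeZero.ne 2
  have hxne : x ≠ 0 := X_ne_zero 0
  have hyne : y ≠ 0 := X_ne_zero 1
  have hxprime : Prime x := X_prime
  have hxy : ¬ x ∣ y := by
    rw [hx, hy, X_dvd_X]
    decide
  set a := δ ⟨_, x2_mem K⟩ with ha
  set b := δ ⟨_, xy_mem K⟩ with hb
  set c := δ ⟨_, y_mem K⟩ with hc
  -- the relation (xy)^2 = x^2 * y * y
  have hrel : (⟨_, xy_mem K⟩ : Rp K) * ⟨_, xy_mem K⟩ =
      (⟨_, x2_mem K⟩ * ⟨_, y_mem K⟩) * ⟨_, y_mem K⟩ := by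
    apply Subtype.ext
    change (X 0 * X 1) * (X 0 * X 1) = (X 0 ^ 2 * X 1) * X 1
    ring
  have hδ := congrArg δ hrel
  rw [Derivation.leibniz, Derivation.leibniz, Derivation.leibniz] at hδ
  have hδ' : (x * y) * b + (x * y) * b = (x ^ 2 * y) * c + y * (x ^ 2 * c + y * a) := hδ
  have e1 : 2 * x * b = y * a + 2 * x ^ 2 * c := by
    apply mul_left_cancel₀ hyne
    linear_combination hδ'
  have hdvd : x ∣ a := by
    have : x ∣ y * a := ⟨2 * b - 2 * x * c, by linear_combination (-1 : MvPolynomial (Fin 2) K) * e1⟩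
    exact (hxprime.dvd_or_dvd this).resolve_left hxy
  obtain ⟨g₀, hg₀⟩ := hdvd
  have hhalf : (C (2 : K)⁻¹ : MvPolynomial (Fin 2) K) * 2 = 1 := by
    rw [h2C, ← C_mul, inv_mul_cancel₀ (NeZero.ne 2), C_1]
  set g := C (2 : K)⁻¹ * g₀ with hg
  have hag : a = 2 * x * g := by
    rw [hg, hg₀]
    linear_combination (-(x * g₀)) * hhalf
  have e2 : b = y * g + x * c := by
    apply mul_left_cancel₀ (mul_ne_zero h2ne hxne)
    rw [e1, hag]
    ring
  let D : Derivation K (MvPolynomial (Fin 2) K) (MvPolynomial (Fin 2) K) :=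
    mkDerivation K ![g, c]
  have hDx : D x = g := by simp [D, hx, mkDerivation_X]
  have hDy : D y = c := by simp [D, hy, mkDerivation_X]
  refine ⟨D, ?_, ?_⟩
  · apply agree δ D
    · change D (x ^ 2) = a
      rw [Derivation.leibniz_pow, hDx, hag]
      simp only [nsmul_eq_mul, smul_eq_mul, Nat.cast_ofNat, Nat.add_one_sub_one, pow_one]
      ring
    · change D (x * y) = b
      rw [Derivation.leibniz, hDx, hDy, e2]
      simp only [smul_eq_mul]
      ring
    · exact hDy
  · intro D' hD'
    apply MvPolynomial.derivation_ext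
    intro i
    fin_cases i
    · change D' x = D x
      have h1 : D' (x ^ 2) = a := hD' ⟨_, x2_mem K⟩
      rw [Derivation.leibniz_pow] at h1
      simp only [nsmul_eq_mul, smul_eq_mul, Nat.cast_ofNat, Nat.add_one_sub_one, pow_one] at h1
      rw [hDx]
      apply mul_left_cancel₀ (mul_ne_zero h2ne hxne)
      rw [← hag, ← h1]
      ring
    · change D' y = D y
      rw [hDy]
      exact hD' ⟨_, y_mem K⟩

end Groth.Agent.S18122
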