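import Groth.Statements.S18123
import Mathlib

set_option autoImplicit false
universe u
open Pinch

namespace Groth.Agent.S18123

open MvPolynomial

section aux

variable (K : Type u) [Field K]

/-- the pinch subalgebra -/
noncomputable abbrev Rp : Subalgebra K (MvPolynomial (Fin 2) K) :=
  Algebra.adjoin K {MvPolynomial.X 0 ^ 2, MvPolynomial.X 0 * MvPolynomial.X 1, MvPolynomial.X 1}

theorem x2_mem : (X 0 ^ 2 : MvPolynomial (Fin 2) K) ∈ Rp K :=
  Algebra.subset_adjoin (by simp)

theorem xy_mem : (X 0 * X 1 : MvPolynomial (Fin 2) K) ∈ Rp K :=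
  Algebra.subset_adjoin (by simp)

theorem y_mem : (X 1 : MvPolynomial (Fin 2) K) ∈ Rp K :=
  Algebra.subset_adjoin (by simp)

/-- evaluation at `y = 0` -/
noncomputable def E : MvPolynomial (Fin 2) K →ₐ[K] Polynomial K :=
  MvPolynomial.aeval ![Polynomial.X, 0]

/-- inclusion of `K[x]` -/
noncomputable def ι : Polynomial K →ₐ[K] MvPolynomial (Fin 2) K :=
  Polynomial.aeval (X 0)

variable {K}

@[simp] theorem E_x : E K (X 0) = Polynomial.X := by simp [E]
@[simp] theorem E_y : E K (X 1) = 0 := by simp [E]

theorem E_ι (q : Polynomial K) : E K (ι K q) = q := by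
  rw [ι, ← Polynomial.aeval_algHom_apply, E_x, Polynomial.aeval_X_left_apply]

theorem decomp (f : MvPolynomial (Fin 2) K) : ∃ s, f = ι K (E K f) + X 1 * s := by
  induction f using MvPolynomial.induction_on with
  | C a =>
    refine ⟨0, ?_⟩
    rw [mul_zero, add_zero, ← MvPolynomial.algebraMap_eq, AlgHom.commutes, AlgHom.commutes]
  | add f g hf hg =>
    obtain ⟨s, hs⟩ := hf
    obtain ⟨t, ht⟩ := hg
    refine ⟨s + t, ?_⟩
    rw [map_add, map_add]
    linear_combination hs + ht
  | mul_X f i hf =>
    obtain ⟨s, hs⟩ := hf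
    fin_cases i
    · refine ⟨s * X 0, ?_⟩
      change f * X 0 = ι K (E K (f * X 0)) + X 1 * (s * X 0)
      rw [map_mul, map_mul, E_x]
      have : ι K Polynomial.X = X 0 := by simp [ι]
      rw [this]
      linear_combination (X 0) * hs
    · refine ⟨f, ?_⟩
      change f * X 1 = ι K (E K (f * X 1)) + X 1 * f
      rw [map_mul, E_y, mul_zero, map_zero, zero_add, mul_comm]

def IsEv (q : Polynomial K) : Prop := ∀ n, Odd n → q.coeff n = 0
def IsOd (q : Polynomial K) : Prop := ∀ n, Even n → q.coeff n = 0

theorem IsEv.mul {p q : Polynomial K} (hp : IsEv p) (hq : IsEv q) : IsEv (p * q) := by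
  intro n hn
  rw [Polynomial.coeff_mul]
  apply Finset.sum_eq_zero
  rintro ⟨i, j⟩ hij
  have hij : i + j = n := Finset.HasAntidiagonal.mem_antidiagonal.mp hij
  change p.coeff i * q.coeff j = 0
  rcases Nat.even_or_odd i with hi | hi
  · have hj : Odd j := by
      rcases Nat.even_or_odd j with hj | hj
      · exact absurd (hij ▸ hi.add hj) (Nat.not_even_iff_odd.mpr hn)
      · exact hj
    rw [hq j hj, mul_zero]
  · rw [hp i hi, zero_mul]

theorem IsEv.add {p q : Polynomial K} (hp : IsEv p) (hq : IsEv q) : IsEv (p + q) := by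
  intro n hn
  rw [Polynomial.coeff_add, hp n hn, hq n hn, add_zero]

theorem isEv_C (a : K) : IsEv (Polynomial.C a) := by
  intro n hn
  rw [Polynomial.coeff_C, if_neg]
  rintro rfl
  exact absurd hn (by decide)

theorem isEv_X_sq : IsEv (Polynomial.X ^ 2 : Polynomial K) := by
  intro n hn
  rw [Polynomial.coeff_X_pow, if_neg]
  rintro rfl
  exact absurd hn (by decide)

theorem isEv_zero : IsEv (0 : Polynomial K) := fun n _ => Polynomial.coeff_zero n

theorem isEv_E_of_mem {r : MvPolynomial (Fin 2) K} (hr : r ∈ Rp K) : IsEv (E K r) := by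
  induction hr using Algebra.adjoin_induction with
  | mem z hz =>
    rcases hz with rfl | rfl | rfl
    · rw [map_pow, E_x]; exact isEv_X_sq
    · rw [map_mul, E_y, mul_zero]; exact isEv_zero
    · rw [E_y]; exact isEv_zero
  | algebraMap a =>
    rw [AlgHom.commutes, Polynomial.algebraMap_eq]
    exact isEv_C a
  | add z w _ _ hz hw =>
    rw [map_add]; exact hz.add hw
  | mul z w _ _ hz hw =>
    rw [map_mul]; exact hz.mul hw

theorem isOd_of_isEv_X_mul {q : Polynomial K} (h : IsEv (Polynomial.X * q)) : IsOd q := by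
  intro n hn
  have := h (n + 1) hn.add_one
  rwa [Polynomial.coeff_X_mul] at this

theorem eq_zero_of_isEv_isOd {q : Polynomial K} (h1 : IsEv q) (h2 : IsOd q) : q = 0 := by
  ext n
  rcases Nat.even_or_odd n with hn | hn
  · rw [h2 n hn, Polynomial.coeff_zero]
  · rw [h1 n hn, Polynomial.coeff_zero]

theorem exists_of_isOd {q : Polynomial K} (h : IsOd q) :
    ∃ p : Polynomial K, q = Polynomial.X * Polynomial.expand K 2 p := by
  let p : Polynomial K := ∑ m ∈ Finset.range (q.natDegree + 1),
    Polynomial.monomial m (q.coeff (2 * m + 1))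
  have hp : ∀ m, p.coeff m = q.coeff (2 * m + 1) := by
    intro m
    simp only [p, Polynomial.finsetSum_coeff, Polynomial.coeff_monomial]
    rw [Finset.sum_ite_eq' (Finset.range (q.natDegree + 1)) m]
    split_ifs with hm
    · rfl
    · rw [Finset.mem_range, not_lt] at hm
      rw [Polynomial.coeff_eq_zero_of_natDegree_lt]
      omega
  refine ⟨p, ?_⟩
  ext n
  cases n with
  | zero =>
    rw [Polynomial.coeff_X_mul_zero]
    exact h 0 (by decide)
  | succ n =>
    rw [Polynomial.coeff_X_mul, Polynomial.coeff_expand (by norm_num)]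
    split_ifs with hn
    · obtain ⟨m, rfl⟩ := hn
      rw [Nat.mul_div_cancel_left m (by norm_num), hp]
    · have : Even (n + 1) := by
        have : Odd n := by
          rw [← Nat.not_even_iff_odd, even_iff_two_dvd]
          exact hn
        exact this.add_one
      exact h _ this

theorem y_mul_mem (h : MvPolynomial (Fin 2) K) : X 1 * h ∈ Rp K := by
  have key : ∀ i j : ℕ, (X 0 : MvPolynomial (Fin 2) K) ^ i * X 1 ^ (j + 1) ∈ Rp K := by
    intro i j
    rcases Nat.even_or_odd' i with ⟨m, rfl | rfl⟩
    · rw [pow_mul]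
      exact Subalgebra.mul_mem _ (Subalgebra.pow_mem _ (x2_mem K) m)
        (Subalgebra.pow_mem _ (y_mem K) _)
    · have : (X 0 : MvPolynomial (Fin 2) K) ^ (2 * m + 1) * X 1 ^ (j + 1) =
          (X 0 ^ 2) ^ m * (X 0 * X 1) * X 1 ^ j := by ring
      rw [this]
      exact Subalgebra.mul_mem _ (Subalgebra.mul_mem _ (Subalgebra.pow_mem _ (x2_mem K) m)
        (xy_mem K)) (Subalgebra.pow_mem _ (y_mem K) _)
  induction h using MvPolynomial.induction_on' with
  | monomial d a =>
    have : (X 1 : MvPolynomial (Fin 2) K) * monomial d a =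
        algebraMap K _ a * (X 0 ^ (d 0) * X 1 ^ (d 1 + 1)) := by
      rw [MvPolynomial.monomial_eq, Finsupp.prod_fintype _ _ (fun i => pow_zero _),
        Fin.prod_univ_two, MvPolynomial.algebraMap_eq]
      ring
    rw [this]
    exact Subalgebra.mul_mem _ (Subalgebra.algebraMap_mem _ a) (key _ _)
  | add p q hp hq =>
    rw [mul_add]
    exact Subalgebra.add_mem _ hp hq

theorem aeval_sq_mem (p : Polynomial K) :
    Polynomial.aeval (X 0 ^ 2 : MvPolynomial (Fin 2) K) p ∈ Rp K := by
  have := Polynomial.aeval_subalgebra_coe p (Rp K) ⟨_, x2_mem K⟩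
  rw [← this]
  exact Subtype.prop _

end aux

/-- Let K be a field in which 2 ≠ 0, S = K[x, y], and R ⊆ S the K-subalgebra generated by x^2, x y, y,
the coordinate ring of the pinch point with normalization S, obtained by gluing the plane along the
line y = 0 via x ↦ -x. A K-derivation D of S maps R into R if and only if D(y) is a multiple of y
and D(x) = y s + x p(x^2) for some s in S and some polynomial p in one variable. Every K-derivation
R → S extends uniquely to S, and under this identification the derivations mapping R into R form the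
image of the tangent sheaf of the pinch point in that of its normalization; so this image contains y
times all derivations of S, and modulo those it is spanned by the odd multiples x^(2k+1) ∂/∂x, the
part of the tangent sheaf of the line y = 0 invariant under x ↦ -x. (The text works over an
algebraically closed field of characteristic different from 2; the computation uses only 2 ≠ 0.) -/
theorem result
    (K : Type u) [Field K] [NeZero (2 : K)]
    (D : Derivation K (MvPolynomial (Fin 2) K) (MvPolynomial (Fin 2) K)) :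
    letI x : MvPolynomial (Fin 2) K := MvPolynomial.X 0
    letI y : MvPolynomial (Fin 2) K := MvPolynomial.X 1
    letI R : Subalgebra K (MvPolynomial (Fin 2) K) := Algebra.adjoin K {x ^ 2, x * y, y}
    (∀ r ∈ R, D r ∈ R) ↔
      (D y ∈ Ideal.span {y} ∧
        ∃ (s : MvPolynomial (Fin 2) K) (p : Polynomial K), D x = y * s + x * Polynomial.aeval (x ^ 2) p) := by
  change (∀ r ∈ Rp K, D r ∈ Rp K) ↔
      (D (X 1) ∈ Ideal.span {(X 1 : MvPolynomial (Fin 2) K)} ∧
        ∃ (s : MvPolynomial (Fin 2) K) (p : Polynomial K),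
          D (X 0) = X 1 * s + X 0 * Polynomial.aeval (X 0 ^ 2 : MvPolynomial (Fin 2) K) p)
  have h2C : (2 : Polynomial K) = Polynomial.C (2 : K) :=
    (map_ofNat (Polynomial.C : K →+* Polynomial K) 2).symm
  constructor
  · intro hR
    set u := D (X 0) with hu
    set v := D (X 1) with hv
    have h1 : IsEv (E K (D (X 0 ^ 2))) := isEv_E_of_mem (hR _ (x2_mem K))
    have h2 : IsEv (E K (D (X 0 * X 1))) := isEv_E_of_mem (hR _ (xy_mem K))
    have h3 : IsEv (E K v) := isEv_E_of_mem (hR _ (y_mem K))
    rw [Derivation.leibniz_pow] at h1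
    rw [Derivation.leibniz] at h2
    simp only [nsmul_eq_mul, smul_eq_mul, Nat.cast_ofNat, Nat.add_one_sub_one, pow_one, map_mul,
      map_add, E_x, E_y, zero_mul, add_zero, ← hu, ← hv] at h1 h2
    have hv0 : E K v = 0 := eq_zero_of_isEv_isOd h3 (isOd_of_isEv_X_mul h2)
    have hod : IsOd (E K u) := by
      apply isOd_of_isEv_X_mul
      intro n hn
      have := h1 n hn
      have h2' : E K (2 : MvPolynomial (Fin 2) K) = Polynomial.C (2 : K) := by
        rw [← h2C]; exact map_ofNat (E K) 2
      rw [h2', Polynomial.coeff_C_mul] at this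
      exact (mul_eq_zero.mp this).resolve_left (NeZero.ne 2)
    obtain ⟨p, hp⟩ := exists_of_isOd hod
    refine ⟨?_, ?_⟩
    · obtain ⟨s, hs⟩ := decomp v
      rw [hv0, map_zero, zero_add] at hs
      rw [Ideal.mem_span_singleton']
      exact ⟨s, by rw [hs, mul_comm]⟩
    · obtain ⟨s, hs⟩ := decomp u
      refine ⟨s, p, ?_⟩
      rw [hs, hp, map_mul]
      have e1 : ι K Polynomial.X = X 0 := by simp [ι]
      have e2 : ι K (Polynomial.expand K 2 p) = Polynomial.aeval (X 0 ^ 2) p := by
        rw [ι, Polynomial.expand_aeval]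
      rw [e1, e2, add_comm]
  · rintro ⟨hv, s, p, hu⟩
    obtain ⟨t, ht⟩ := Ideal.mem_span_singleton'.mp hv
    intro r hr
    induction hr using Algebra.adjoin_induction with
    | mem z hz =>
      rcases hz with rfl | rfl | rfl
      · rw [Derivation.leibniz_pow, hu]
        simp only [nsmul_eq_mul, smul_eq_mul, Nat.cast_ofNat, Nat.add_one_sub_one, pow_one]
        have : (2 : MvPolynomial (Fin 2) K) * (X 0 * (X 1 * s + X 0 * Polynomial.aeval (X 0 ^ 2) p))
            = X 1 * (2 * X 0 * s) +
              algebraMap K _ 2 * (X 0 ^ 2 * Polynomial.aeval (X 0 ^ 2) p) := by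
          rw [MvPolynomial.algebraMap_eq, map_ofNat]
          ring
        rw [this]
        exact Subalgebra.add_mem _ (y_mul_mem _) (Subalgebra.mul_mem _
          (Subalgebra.algebraMap_mem _ _) (Subalgebra.mul_mem _ (x2_mem K) (aeval_sq_mem p)))
      · rw [Derivation.leibniz, hu, ← ht]
        simp only [smul_eq_mul]
        have : X 0 * (t * X 1) + X 1 * (X 1 * s + X 0 * Polynomial.aeval (X 0 ^ 2) p) =
            X 1 * (X 0 * t + (X 1 * s + X 0 * Polynomial.aeval (X 0 ^ 2) p)) := by ring
        rw [this]
        exact y_mul_mem _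
      · rw [← ht, mul_comm]
        exact y_mul_mem _
    | algebraMap a =>
      rw [Derivation.map_algebraMap]
      exact Subalgebra.zero_mem _
    | add z w _ _ hz hw =>
      rw [map_add]
      exact Subalgebra.add_mem _ hz hw
    | mul z w hz' hw' hz hw =>
      rw [Derivation.leibniz]
      exact Subalgebra.add_mem _ (Subalgebra.mul_mem _ hz' hw) (Subalgebra.mul_mem _ hw' hz)

end Groth.Agent.S18123
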