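import Groth.Statements.S18125
import Mathlib

set_option autoImplicit false
universe u
open Pinch

namespace Groth.Agent.S18125

/-- Let K be a field in which 2 ≠ 0, n ≥ 0, S = K[u, v, w, t_1, …, t_n] (u, v, w the first three
variables), h = u^2 - v^2 w the equation of the pinch-point model, and Jac the ideal generated by h
and its three partial derivatives 2u, -2vw, -v^2, which cuts out the scheme-theoretic singular locus
of {h = 0}. Then the ideal (u, v) of the double locus is Jac + (v), and the colon ideal of Jac by
(v) is (u, v, w). Consequently (u, v)/Jac, the ideal of the double locus restricted to the singular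
locus, is an invertible sheaf on the pinch locus u = v = w = 0: it is free of rank one over K[t_1,
…, t_n] on the class of v. (The text states this for every semi-smooth variety and reduces to this
model; K algebraically closed is not needed for the model computation.) -/
theorem result
    (K : Type u) [Field K] [NeZero (2 : K)] (n : ℕ) :
    letI u : MvPolynomial (Fin (n + 3)) K := MvPolynomial.X 0
    letI v : MvPolynomial (Fin (n + 3)) K := MvPolynomial.X 1
    letI w : MvPolynomial (Fin (n + 3)) K := MvPolynomial.X 2
    letI Jac : Ideal (MvPolynomial (Fin (n + 3)) K) :=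
      Ideal.span {u ^ 2 - v ^ 2 * w, 2 * u, -(2 * v * w), -(v ^ 2)}
    Ideal.span {u, v} = Jac ⊔ Ideal.span {v} ∧ Jac.colon (Ideal.span {v}) = Ideal.span {u, v, w} := by
  set u : MvPolynomial (Fin (n + 3)) K := MvPolynomial.X 0 with hu
  set v : MvPolynomial (Fin (n + 3)) K := MvPolynomial.X 1 with hv
  set w : MvPolynomial (Fin (n + 3)) K := MvPolynomial.X 2 with hw
  set Jac : Ideal (MvPolynomial (Fin (n + 3)) K) :=
      Ideal.span {u ^ 2 - v ^ 2 * w, 2 * u, -(2 * v * w), -(v ^ 2)} with hJac
  have h2 : (2 : K) ≠ 0 := NeZero.ne 2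
  have hC2 : (MvPolynomial.C (2⁻¹ : K) : MvPolynomial (Fin (n + 3)) K) * 2 = 1 := by
    have : (2 : MvPolynomial (Fin (n + 3)) K) = MvPolynomial.C 2 := (map_ofNat MvPolynomial.C 2).symm
    rw [this, ← MvPolynomial.C_mul, inv_mul_cancel₀ h2, MvPolynomial.C_1]
  have hJ1 : u ^ 2 - v ^ 2 * w ∈ Jac := Ideal.subset_span (by simp)
  have hJ2 : 2 * u ∈ Jac := Ideal.subset_span (by simp)
  have hJ3 : -(2 * v * w) ∈ Jac := Ideal.subset_span (by simp)
  have hJ4 : -(v ^ 2) ∈ Jac := Ideal.subset_span (by simp)
  have huJ : u ∈ Jac := by
    have : u = MvPolynomial.C (2⁻¹ : K) * (2 * u) := by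
      rw [← mul_assoc, hC2, one_mul]
    rw [this]; exact Ideal.mul_mem_left _ _ hJ2
  have hvvJ : v * v ∈ Jac := by
    have : v * v = -(-(v ^ 2)) := by ring
    rw [this]; exact neg_mem hJ4
  have hvwJ : v * w ∈ Jac := by
    have : v * w = -(MvPolynomial.C (2⁻¹ : K) * (-(2 * v * w))) := by
      have : MvPolynomial.C (2⁻¹ : K) * (-(2 * v * w)) = -((MvPolynomial.C (2⁻¹ : K) * 2) * (v * w)) := by ring
      rw [this, hC2]; ring
    rw [this]; exact neg_mem (Ideal.mul_mem_left _ _ hJ3)
  have hJle : Jac ≤ Ideal.span {u, v} := by
    refine Ideal.span_le.mpr ?_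
    have hu' : u ∈ Ideal.span {u, v} := Ideal.subset_span (by simp)
    have hv' : v ∈ Ideal.span {u, v} := Ideal.subset_span (by simp)
    intro x hx
    simp only [Set.mem_insert_iff, Set.mem_singleton_iff] at hx
    rcases hx with rfl | rfl | rfl | rfl
    · have : u ^ 2 - v ^ 2 * w = u * u - (v * w) * v := by ring
      rw [this]
      exact Ideal.sub_mem _ (Ideal.mul_mem_left _ _ hu') (Ideal.mul_mem_left _ _ hv')
    · exact Ideal.mul_mem_left _ _ hu'
    · have : -(2 * v * w) = (-(2 * w)) * v := by ring
      rw [this]; exact Ideal.mul_mem_left _ _ hv'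
    · have : -(v ^ 2) = (-v) * v := by ring
      rw [this]; exact Ideal.mul_mem_left _ _ hv'
  refine ⟨?_, ?_⟩
  · apply le_antisymm
    · refine Ideal.span_le.mpr ?_
      intro x hx
      simp only [Set.mem_insert_iff, Set.mem_singleton_iff] at hx
      rcases hx with rfl | rfl
      · exact Ideal.mem_sup_left huJ
      · exact Ideal.mem_sup_right (Ideal.subset_span rfl)
    · refine sup_le hJle ?_
      refine Ideal.span_le.mpr ?_
      intro x hx
      rw [Set.mem_singleton_iff] at hx
      subst hx
      exact Ideal.subset_span (by simp)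
  · have hcol : ∀ f : MvPolynomial (Fin (n + 3)) K,
        f ∈ Jac.colon (Ideal.span {v} : Ideal (MvPolynomial (Fin (n + 3)) K)) ↔ f * v ∈ Jac := by
      intro f
      exact Submodule.mem_colon_span_singleton (N := Jac) (x := v) (r := f)
    apply le_antisymm
    · intro f hf
      rw [hcol] at hf
      let ψ : MvPolynomial (Fin (n + 3)) K →ₐ[K] MvPolynomial (Fin (n + 3)) K :=
        MvPolynomial.aeval (fun i => if i = 0 ∨ i = 2 then 0 else MvPolynomial.X i)
      have hψX : ∀ i, ψ (MvPolynomial.X i) = if i = 0 ∨ i = 2 then 0 else MvPolynomial.X i := by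
        intro i; simp [ψ]
      have hψu : ψ u = 0 := by rw [hu, hψX]; simp
      have hψw : ψ w = 0 := by rw [hw, hψX]; simp
      have h10 : (1 : Fin (n + 3)) ≠ 0 := by
        intro h; have := congrArg Fin.val h; simp at this
      have h12 : (1 : Fin (n + 3)) ≠ 2 := by
        intro h; have := congrArg Fin.val h
        rw [Fin.val_one, Fin.val_two] at this; omega
      have hψv : ψ v = v := by rw [hv, hψX]; simp [h10, h12]
      have hB : ∀ g, g - ψ g ∈ Ideal.span {u, w} := by
        intro g
        induction g using MvPolynomial.induction_on with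
        | C a => simp [ψ]
        | add p q hp hq =>
          have : p + q - ψ (p + q) = (p - ψ p) + (q - ψ q) := by rw [map_add]; ring
          rw [this]; exact Ideal.add_mem _ hp hq
        | mul_X p i hp =>
          have : p * MvPolynomial.X i - ψ (p * MvPolynomial.X i)
              = (p - ψ p) * MvPolynomial.X i + ψ p * (MvPolynomial.X i - ψ (MvPolynomial.X i)) := by
            rw [map_mul]; ring
          rw [this]
          refine Ideal.add_mem _ (Ideal.mul_mem_right _ _ hp) (Ideal.mul_mem_left _ _ ?_)
          rw [hψX]
          by_cases h : i = 0 ∨ i = 2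
          · rw [if_pos h, sub_zero]
            rcases h with rfl | rfl
            · exact Ideal.subset_span (by simp [hu])
            · exact Ideal.subset_span (by simp [hw])
          · rw [if_neg h, sub_self]; exact Ideal.zero_mem _
      have hA : Jac ≤ Ideal.comap ψ (Ideal.span {v ^ 2}) := by
        refine Ideal.span_le.mpr ?_
        intro x hx
        simp only [Set.mem_insert_iff, Set.mem_singleton_iff] at hx
        have hv2 : v ^ 2 ∈ Ideal.span {v ^ 2} := Ideal.subset_span rfl
        rcases hx with rfl | rfl | rfl | rfl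
        · simp only [SetLike.mem_coe, Ideal.mem_comap, map_sub, map_mul, map_pow, hψu, hψw]
          simp
        · simp only [SetLike.mem_coe, Ideal.mem_comap, map_mul, hψu]
          simp
        · simp only [SetLike.mem_coe, Ideal.mem_comap, map_neg, map_mul, hψw]
          simp
        · simp only [SetLike.mem_coe, Ideal.mem_comap, map_neg, map_pow, hψv]
          exact neg_mem hv2
      have h1 : ψ (f * v) ∈ Ideal.span {v ^ 2} := hA hf
      rw [map_mul, hψv, Ideal.mem_span_singleton'] at h1
      obtain ⟨g, hg⟩ := h1
      have hv0 : v ≠ 0 := MvPolynomial.X_ne_zero _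
      have hψf : ψ f = g * v := by
        apply mul_right_cancel₀ hv0
        rw [← hg]; ring
      have hfv : ψ f ∈ Ideal.span {u, v, w} := by
        rw [hψf]; exact Ideal.mul_mem_left _ _ (Ideal.subset_span (by simp))
      have hle : Ideal.span {u, w} ≤ Ideal.span {u, v, w} :=
        Ideal.span_mono (by intro x; simp only [Set.mem_insert_iff, Set.mem_singleton_iff]; tauto)
      have := Ideal.add_mem _ (hle (hB f)) hfv
      simpa using this
    · refine Ideal.span_le.mpr ?_
      intro x hx
      simp only [Set.mem_insert_iff, Set.mem_singleton_iff] at hx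
      rw [SetLike.mem_coe, hcol]
      rcases hx with rfl | rfl | rfl
      · exact Ideal.mul_mem_right _ _ huJ
      · exact hvvJ
      · rw [mul_comm]; exact hvwJ

end Groth.Agent.S18125
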