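import Groth.Statements.S18127
import Mathlib

set_option autoImplicit false
universe u
open LocAlg

namespace Groth.Agent.S18127

/-- Let R be a local ring with maximal ideal m and algebraically closed residue field, and M an n × n
matrix over R whose reduction modulo m has rank at most r. Then the determinant of M lies in m^(n −
r). (The published setting is the local ring of germs of holomorphic functions at a point of a
complex manifold, where this says that the determinant vanishes to order at least n − r at a point
where the matrix has rank at most r.) -/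
theorem result
    {R : Type u} [CommRing R] [IsLocalRing R] [IsAlgClosed (IsLocalRing.ResidueField R)]
    {n : ℕ} (M : Matrix (Fin n) (Fin n) R) (r : ℕ)
    (hr : (M.map (IsLocalRing.residue R)).rank ≤ r) :
    M.det ∈ IsLocalRing.maximalIdeal R ^ (n - r) := by
  classical
  set k := IsLocalRing.ResidueField R with hk
  let φ : Matrix (Fin n) (Fin n) R →+* Matrix (Fin n) (Fin n) k := (IsLocalRing.residue R).mapMatrix
  have hφ : ∀ A : Matrix (Fin n) (Fin n) R, φ A = A.map (IsLocalRing.residue R) := fun _ => rfl
  obtain ⟨L, L', D, hD⟩ :=
    Matrix.Pivot.exists_list_transvec_mul_mul_list_transvec_eq_diagonal (φ M)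
  -- lifting transvections
  have hsurj : Function.Surjective (IsLocalRing.residue R) := IsLocalRing.residue_surjective
  let lift : Matrix.TransvectionStruct (Fin n) k → Matrix.TransvectionStruct (Fin n) R :=
    fun t => ⟨t.i, t.j, t.hij, Function.surjInv hsurj t.c⟩
  have hlift : ∀ t : Matrix.TransvectionStruct (Fin n) k, φ (lift t).toMatrix = t.toMatrix := by
    intro t
    rw [hφ]
    ext a b
    simp only [Matrix.TransvectionStruct.toMatrix, Matrix.transvection, Matrix.map_apply,
      Matrix.add_apply, map_add, lift]
    congr 1
    · by_cases hab : a = b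
      · subst hab; simp
      · simp [Matrix.one_apply_ne hab]
    · by_cases h1 : t.i = a ∧ t.j = b
      · obtain ⟨rfl, rfl⟩ := h1
        simp [Function.surjInv_eq hsurj]
      · rw [Matrix.single_apply, Matrix.single_apply, if_neg h1, if_neg h1, map_zero]
  have hliftL : ∀ l : List (Matrix.TransvectionStruct (Fin n) k),
      φ ((l.map lift).map Matrix.TransvectionStruct.toMatrix).prod
        = (l.map Matrix.TransvectionStruct.toMatrix).prod := by
    intro l
    rw [map_list_prod, List.map_map, List.map_map]
    congr 1
    refine List.map_congr_left fun t _ => ?_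
    exact hlift t
  set A := ((L.map lift).map Matrix.TransvectionStruct.toMatrix).prod with hA
  set B := ((L'.map lift).map Matrix.TransvectionStruct.toMatrix).prod with hB
  have hdetA : A.det = 1 := Matrix.TransvectionStruct.det_toMatrix_prod _
  have hdetB : B.det = 1 := Matrix.TransvectionStruct.det_toMatrix_prod _
  set M' := A * M * B with hM'
  have hdetM' : M'.det = M.det := by
    rw [hM', Matrix.det_mul, Matrix.det_mul, hdetA, hdetB, one_mul, mul_one]
  have hφM' : φ M' = Matrix.diagonal D := by
    rw [hM', map_mul, map_mul, hliftL, hliftL, hD]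
  -- the zero set
  have hrank : (Matrix.diagonal D).rank ≤ r := by
    rw [← hD]
    refine le_trans (Matrix.rank_mul_le_left _ _) (le_trans (Matrix.rank_mul_le_right _ _) ?_)
    rw [hφ]; exact hr
  rw [Matrix.rank_diagonal] at hrank
  set Z : Finset (Fin n) := Finset.univ.filter (fun i => D i = 0) with hZ
  have hcard : n - r ≤ Z.card := by
    have h1 : Fintype.card {i // D i ≠ 0} = (Finset.univ.filter (fun i => D i ≠ 0)).card :=
      Fintype.card_subtype _
    have h2 : Z.card
        + (Finset.univ.filter (fun i => ¬ D i = 0)).card = (Finset.univ : Finset (Fin n)).card :=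
      Finset.card_filter_add_card_filter_not _
    rw [Finset.card_univ, Fintype.card_fin] at h2
    rw [h1] at hrank
    have h3 : (Finset.univ.filter (fun i => D i ≠ 0)).card
        = (Finset.univ.filter (fun i => ¬ D i = 0)).card := rfl
    omega
  have hmem : ∀ i ∈ Z, ∀ a : Fin n, M' a i ∈ IsLocalRing.maximalIdeal R := by
    intro i hi a
    rw [hZ, Finset.mem_filter] at hi
    have h1 : (φ M') a i = 0 := by
      rw [hφM', Matrix.diagonal_apply]
      split_ifs with h
      · subst h; exact hi.2
      · rfl
    rw [hφ, Matrix.map_apply] at h1
    exact (IsLocalRing.residue_eq_zero_iff _).mp h1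
  rw [← hdetM', Matrix.det_apply']
  refine Ideal.sum_mem _ fun σ _ => Ideal.mul_mem_left _ _ ?_
  rw [← Finset.prod_mul_prod_compl Z]
  refine Ideal.mul_mem_right _ _ ?_
  refine Ideal.pow_le_pow_right hcard ?_
  have := Ideal.prod_mem_prod (s := Z) (I := fun _ => IsLocalRing.maximalIdeal R)
    (x := fun i => M' (σ i) i) (fun i hi => hmem i hi (σ i))
  rwa [Finset.prod_const] at this

end Groth.Agent.S18127
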