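import Groth.Statements.S18128
import Groth.Agent.H59.DepthLemma

set_option autoImplicit false
universe u
open CAlg

namespace Groth.Agent.S18128

open Groth.Agent.H15.Depth Groth.Agent.H59.DepthL

section acyc
variable {R : Type u} [CommRing R] [IsLocalRing R] [IsNoetherianRing R]

theorem step (F : ℕ → Type u) [∀ j, AddCommGroup (F j)] [∀ j, Module R (F j)]
    [∀ j, Module.Finite R (F j)] (D : ∀ j, F (j+1) →ₗ[R] F j) (e : ℕ)
    (hD0 : ∀ j, e ≤ j → D j = 0)
    (hcomp : ∀ j (w : F (j+1+1)), D j (D (j+1) w) = 0)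
    (hseq : ∀ j, j ≤ e → HasSeq (IsLocalRing.maximalIdeal R) (F j) j)
    (htors : ∀ j, j < e → ∀ z : F (j+1), D j z = 0 → ∀ p : Ideal R, p.IsPrime →
      p ≠ IsLocalRing.maximalIdeal R → ∃ s, s ∉ p ∧ s • z ∈ LinearMap.range (D (j+1)))
    (i : ℕ) (hi : i < e)
    (habove : ∀ j, i < j → j < e → LinearMap.ker (D j) = LinearMap.range (D (j+1))) :
    LinearMap.ker (D i) = LinearMap.range (D (i+1)) := by
  classical
  have hzero_case : ∀ j, e ≤ j →
      HasSeq (IsLocalRing.maximalIdeal R) (LinearMap.range (D j)) (j+1) := by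
    intro j hej
    have h0 : D j = 0 := hD0 j hej
    have : Subsingleton (LinearMap.range (D j)) := by
      refine ⟨fun a b => ?_⟩
      obtain ⟨a, w, rfl⟩ := a
      obtain ⟨b, w', rfl⟩ := b
      apply Subtype.ext
      show D j w = D j w'
      simp [h0]
    exact hasSeq_of_subsingleton _ _ _
  have hB : ∀ k j, e ≤ j + k → i + 1 ≤ j →
      HasSeq (IsLocalRing.maximalIdeal R) (LinearMap.range (D j)) (j+1) := by
    intro k
    induction k with
    | zero => intro j hej _; exact hzero_case j (by omega)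
    | succ k ih =>
      intro j hej hij
      by_cases hje : e ≤ j
      · exact hzero_case j hje
      · have h1 := ih (j+1) (by omega) (by omega)
        have h2 : HasSeq (IsLocalRing.maximalIdeal R) (F (j+1)) (j+1) := hseq (j+1) (by omega)
        refine depth_lemma (I := IsLocalRing.maximalIdeal R) (j+1) (LinearMap.range (D (j+1)))
          (F (j+1)) (LinearMap.range (D j))
          (Submodule.subtype _) (LinearMap.rangeRestrict _) (Submodule.injective_subtype _) ?_
          (LinearMap.surjective_rangeRestrict _) h2 h1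
        intro y
        constructor
        · intro hy
          have hy' : D j y = 0 := congrArg Subtype.val hy
          have hmem : y ∈ LinearMap.range (D (j+1)) := by
            rw [← habove j (by omega) (by omega)]
            exact hy'
          exact ⟨⟨y, hmem⟩, rfl⟩
        · rintro ⟨⟨_, w, rfl⟩, rfl⟩
          apply Subtype.ext
          show D j (D (j+1) w) = 0
          exact hcomp j w
  have hi1 : i + 1 ≤ e := hi
  have hMi : HasSeq (IsLocalRing.maximalIdeal R) (F (i+1)) 1 :=
    (hseq (i+1) hi1).mono (by omega)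
  obtain ⟨x, hx, hxreg, -⟩ := hasSeq_succ_iff.mp hMi
  have hB2 : HasSeq (IsLocalRing.maximalIdeal R) (LinearMap.range (D (i+1))) 2 :=
    (hB e (i+1) (by omega) le_rfl).mono (by omega)
  have hxB : IsSMulRegular (LinearMap.range (D (i+1))) x := by
    intro a b hab
    apply Subtype.ext
    apply hxreg
    exact congrArg Subtype.val hab
  have hq : HasSeq (IsLocalRing.maximalIdeal R) (QuotSMulTop x (LinearMap.range (D (i+1)))) 1 :=
    hasSeq_quot_of_hasSeq_succ hx hxB hB2
  obtain ⟨y, hy, hyreg, -⟩ := hasSeq_succ_iff.mp hq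
  have hnosoc : ¬ HasSocle (IsLocalRing.maximalIdeal R)
      (QuotSMulTop x (LinearMap.range (D (i+1)))) :=
    fun h => h.not_regular hy hyreg
  apply le_antisymm
  · intro z hz
    by_contra hzN
    have hne : (Submodule.Quotient.mk (⟨z, hz⟩ : LinearMap.ker (D i)) :
        LinearMap.ker (D i) ⧸
          (LinearMap.range (D (i+1))).comap (LinearMap.ker (D i)).subtype) ≠ 0 := by
      intro h0
      rw [Submodule.Quotient.mk_eq_zero] at h0
      exact hzN h0
    obtain ⟨P, hP, -⟩ := exists_le_isAssociatedPrime_of_isNoetherianRing R _ hne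
    rw [isAssociatedPrime_iff] at hP
    obtain ⟨hPprime, y', hy'⟩ := hP
    obtain ⟨⟨z', hz'⟩, rfl⟩ := Submodule.Quotient.mk_surjective _ y'
    have hPmem : ∀ a, a ∈ P ↔ a • z' ∈ LinearMap.range (D (i+1)) := by
      intro a
      rw [SetLike.ext_iff.1 hy' a, Submodule.mem_colon_singleton, Submodule.mem_bot,
        ← Submodule.Quotient.mk_smul, Submodule.Quotient.mk_eq_zero]
      exact Iff.rfl
    have hPm : P = IsLocalRing.maximalIdeal R := by
      by_contra hne'
      obtain ⟨s, hsP, hsN⟩ := htors i hi z' (LinearMap.mem_ker.1 hz') P hPprime hne'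
      exact hsP ((hPmem s).2 hsN)
    have hmem := mem_range_of_socle (Submodule.subtype (LinearMap.range (D (i+1))))
      (Submodule.injective_subtype _) hx hxreg hnosoc z'
      (fun a ha => ⟨⟨a • z', (hPmem a).1 (by rw [hPm]; exact ha)⟩, rfl⟩)
    obtain ⟨⟨w, hw⟩, hw'⟩ := hmem
    have hz'N : z' ∈ LinearMap.range (D (i+1)) := by
      rw [← hw']; exact hw
    have h1 : (1 : R) ∈ P := (hPmem 1).2 (by rw [one_smul]; exact hz'N)
    exact hPprime.ne_top ((Ideal.eq_top_iff_one P).2 h1)
  · rintro _ ⟨w, rfl⟩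
    exact hcomp i w

theorem acyc (F : ℕ → Type u) [∀ j, AddCommGroup (F j)] [∀ j, Module R (F j)]
    [∀ j, Module.Finite R (F j)] (D : ∀ j, F (j+1) →ₗ[R] F j) (e : ℕ)
    (hD0 : ∀ j, e ≤ j → D j = 0)
    (hcomp : ∀ j (w : F (j+1+1)), D j (D (j+1) w) = 0)
    (hseq : ∀ j, j ≤ e → HasSeq (IsLocalRing.maximalIdeal R) (F j) j)
    (htors : ∀ j, j < e → ∀ z : F (j+1), D j z = 0 → ∀ p : Ideal R, p.IsPrime →
      p ≠ IsLocalRing.maximalIdeal R → ∃ s, s ∉ p ∧ s • z ∈ LinearMap.range (D (j+1))) :
    ∀ i, i < e → LinearMap.ker (D i) = LinearMap.range (D (i+1)) := by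
  have key : ∀ k, ∀ i, i + k + 1 = e → LinearMap.ker (D i) = LinearMap.range (D (i+1)) := by
    intro k
    induction k using Nat.strong_induction_on with
    | _ k ih =>
      intro i hik
      refine step F D e hD0 hcomp hseq htors i (by omega) ?_
      intro j hij hje
      exact ih (e - 1 - j) (by omega) j (by omega)
  intro i hi
  exact key (e - 1 - i) i (by omega)

end acyc

section loc
variable {R : Type u} [CommRing R] (p : Ideal R) [p.IsPrime]

noncomputable def Φ (m : ℕ) : (Fin m → R) →ₗ[R] (Fin m → Localization.AtPrime p) :=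
  LinearMap.pi fun i => (Algebra.linearMap R (Localization.AtPrime p)) ∘ₗ LinearMap.proj i

instance instΦ (m : ℕ) : IsLocalizedModule p.primeCompl (Φ p m) :=
  IsLocalizedModule.pi p.primeCompl
    (fun _ : Fin m => Algebra.linearMap R (Localization.AtPrime p))

lemma map_mulVec_Φ {k m : ℕ} (B : Matrix (Fin m) (Fin k) R) (v : Fin k → R) :
    (B.map (algebraMap R (Localization.AtPrime p))).mulVecLin (Φ p k v) =
      Φ p m (B.mulVecLin v) := by
  funext i
  have h := RingHom.map_mulVec (algebraMap R (Localization.AtPrime p)) B v i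
  exact h.symm

lemma loc_range {k m : ℕ} (B : Matrix (Fin m) (Fin k) R) (z : Fin m → R)
    (hz : Φ p m z ∈
      LinearMap.range ((B.map (algebraMap R (Localization.AtPrime p))).mulVecLin)) :
    ∃ s, s ∉ p ∧ s • z ∈ LinearMap.range B.mulVecLin := by
  obtain ⟨w, hw⟩ := hz
  obtain ⟨⟨w', b⟩, hb⟩ := IsLocalizedModule.surj p.primeCompl (Φ p k) w
  have hb' : (b : R) • w = Φ p k w' := hb
  have h1 : Φ p m ((b : R) • z) = Φ p m (B.mulVecLin w') :=
    calc Φ p m ((b : R) • z) = (b : R) • Φ p m z := map_smul _ _ _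
      _ = (b : R) • (B.map (algebraMap R (Localization.AtPrime p))).mulVecLin w := by rw [hw]
      _ = (B.map (algebraMap R (Localization.AtPrime p))).mulVecLin ((b : R) • w) :=
          (LinearMap.map_smul_of_tower _ _ _).symm
      _ = (B.map (algebraMap R (Localization.AtPrime p))).mulVecLin (Φ p k w') := by rw [hb']
      _ = Φ p m (B.mulVecLin w') := map_mulVec_Φ p B w'
  obtain ⟨c, hc⟩ := (IsLocalizedModule.eq_iff_exists p.primeCompl (Φ p m)).1 h1
  have hc' : (c : R) • ((b : R) • z) = (c : R) • B.mulVecLin w' := hc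
  refine ⟨(c : R) * (b : R), ?_, ?_⟩
  · exact Ideal.mem_primeCompl_iff.1 (p.primeCompl.mul_mem c.2 b.2)
  · refine ⟨(c : R) • w', ?_⟩
    rw [map_smul, mul_smul]
    exact hc'.symm

lemma loc_ker {l m : ℕ} (C : Matrix (Fin l) (Fin m) R) (z : Fin m → R)
    (hz : C.mulVecLin z = 0) :
    (C.map (algebraMap R (Localization.AtPrime p))).mulVecLin (Φ p m z) = 0 := by
  rw [map_mulVec_Φ, hz, map_zero]

lemma loc_zero {m : ℕ} (z : Fin m → R) (hz : Φ p m z = 0) : ∃ s, s ∉ p ∧ s • z = 0 := by
  have h1 : Φ p m z = Φ p m 0 := by rw [hz, map_zero]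
  obtain ⟨c, hc⟩ := (IsLocalizedModule.eq_iff_exists p.primeCompl (Φ p m)).1 h1
  refine ⟨(c : R), Ideal.mem_primeCompl_iff.1 c.2, ?_⟩
  have h2 : (c : R) • z = (c : R) • (0 : Fin m → R) := hc
  rw [h2, smul_zero]

end loc

section mat
variable {R : Type u} [CommRing R]

abbrev FF (R : Type u) (n : ℕ → ℕ) (j : ℕ) : Type u := Fin (n j) → R

noncomputable def DD (e : ℕ) (n : ℕ → ℕ)
    (A : (i : ℕ) → Matrix (Fin (n i)) (Fin (n (i + 1))) R) (j : ℕ) :
    FF R n (j+1) →ₗ[R] FF R n j :=
  if j + 1 ≤ e then (A j).mulVecLin else 0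

lemma DD_pos (e : ℕ) (n : ℕ → ℕ) (A : (i : ℕ) → Matrix (Fin (n i)) (Fin (n (i + 1))) R)
    (j : ℕ) (h : j + 1 ≤ e) : DD e n A j = (A j).mulVecLin := by
  unfold DD; rw [if_pos h]

lemma DD_neg (e : ℕ) (n : ℕ → ℕ) (A : (i : ℕ) → Matrix (Fin (n i)) (Fin (n (i + 1))) R)
    (j : ℕ) (h : e ≤ j) : DD e n A j = 0 := by
  unfold DD; rw [if_neg (by omega)]

end mat

/-- Local step of Buchsbaum–Eisenbud: let R be a Noetherian local ring with maximal ideal m, and 0 →
R^(n_e) → ⋯ → R^(n_1) → R^(n_0) a complex of finite free modules, the map R^(n_(i+1)) → R^(n_i)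
being given by the matrix A i, with 1 ≤ e and e at most the depth of R (there is an R-regular
sequence of length e inside m). If for every prime ideal p ≠ m the complex of matrices over R_p
obtained by localization is exact at R_p^(n_e), …, R_p^(n_1), then the complex is exact at R^(n_e),
…, R^(n_1). -/
theorem result
    {R : Type u} [CommRing R] [IsLocalRing R] [IsNoetherianRing R]
    (e : ℕ) (he : 1 ≤ e) (n : ℕ → ℕ) (A : (i : ℕ) → Matrix (Fin (n i)) (Fin (n (i + 1))) R)
    (hA : ∀ i, i + 2 ≤ e → A i * A (i + 1) = 0)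
    (rs : List R) (hlen : rs.length = e) (hmem : ∀ x ∈ rs, x ∈ IsLocalRing.maximalIdeal R)
    (hreg : RingTheory.Sequence.IsRegular R rs)
    (hloc : ∀ (p : Ideal R) [p.IsPrime], p ≠ IsLocalRing.maximalIdeal R →
      LinearMap.ker ((A (e - 1)).map (algebraMap R (Localization.AtPrime p))).mulVecLin = ⊥ ∧
        ∀ i, i + 2 ≤ e →
          LinearMap.ker ((A i).map (algebraMap R (Localization.AtPrime p))).mulVecLin =
            LinearMap.range ((A (i + 1)).map (algebraMap R (Localization.AtPrime p))).mulVecLin) :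
    LinearMap.ker (A (e - 1)).mulVecLin = ⊥ ∧
      ∀ i, i + 2 ≤ e → LinearMap.ker (A i).mulVecLin = LinearMap.range (A (i + 1)).mulVecLin := by
  classical
  have hseqe : ∀ j, HasSeq (IsLocalRing.maximalIdeal R) (FF R n j) e := fun j =>
    ⟨rs, (LinearEquiv.isWeaklyRegular_congr (TensorProduct.rid R (FF R n j)) rs).mp
      (hreg.toIsWeaklyRegular.isWeaklyRegular_lTensor (M₂ := FF R n j)), hmem, hlen⟩
  have hcomp : ∀ j (w : FF R n (j+1+1)), DD e n A j (DD e n A (j+1) w) = 0 := by
    intro j w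
    by_cases h2 : j + 2 ≤ e
    · rw [DD_pos e n A j (by omega), DD_pos e n A (j+1) h2]
      have h3 := hA j h2
      rw [Matrix.mulVecLin_apply, Matrix.mulVecLin_apply, Matrix.mulVec_mulVec, h3,
        Matrix.zero_mulVec]
    · rw [DD_neg e n A (j+1) (by omega)]
      simp
  have htors : ∀ j, j < e → ∀ z : FF R n (j+1), DD e n A j z = 0 → ∀ p : Ideal R, p.IsPrime →
      p ≠ IsLocalRing.maximalIdeal R →
        ∃ s, s ∉ p ∧ s • z ∈ LinearMap.range (DD e n A (j+1)) := by
    intro j hj z hz p hp hne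
    haveI := hp
    rw [DD_pos e n A j hj] at hz
    have hkz := loc_ker p (A j) z hz
    by_cases h2 : j + 2 ≤ e
    · rw [DD_pos e n A (j+1) h2]
      apply loc_range p (A (j+1)) z
      rw [← (hloc p hne).2 j h2]
      exact hkz
    · have hje : e - 1 = j := by omega
      rw [DD_neg e n A (j+1) (by omega), LinearMap.range_zero]
      have hk : LinearMap.ker
          ((A j).map (algebraMap R (Localization.AtPrime p))).mulVecLin = ⊥ := by
        have h := (hloc p hne).1
        rwa [hje] at h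
      have hz0 : Φ p (n (j+1)) z = 0 := by
        have h3 : Φ p (n (j+1)) z ∈ LinearMap.ker
            ((A j).map (algebraMap R (Localization.AtPrime p))).mulVecLin := hkz
        rw [hk] at h3
        exact (Submodule.mem_bot _).1 h3
      obtain ⟨s, hs, hsz⟩ := loc_zero p z hz0
      exact ⟨s, hs, by rw [hsz]; exact Submodule.zero_mem _⟩
  have hex := acyc (FF R n) (DD e n A) e (fun j h => DD_neg e n A j h) hcomp
    (fun j hj => (hseqe j).mono hj) htors
  refine ⟨?_, ?_⟩
  · have h := hex (e-1) (by omega)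
    rw [DD_pos e n A (e-1) (by omega), DD_neg e n A (e-1+1) (by omega),
      LinearMap.range_zero] at h
    exact h
  · intro i hi
    have h := hex i (by omega)
    rw [DD_pos e n A i (by omega), DD_pos e n A (i+1) (by omega)] at h
    exact h

end Groth.Agent.S18128
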