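import Groth.Statements.S18136
import Mathlib

set_option autoImplicit false
set_option linter.style.haveILetI false
set_option linter.unusedSectionVars false
set_option linter.unusedVariables false
universe u v
open IsLocalRing
open CAlg

namespace Groth.Agent.S18136

section Helpers

theorem map_span_range {R S : Type*} [CommRing R] [CommRing S] (f : R →+* S) {κ : Type*}
    (v : κ → R) (w : κ → S) (h : ∀ k, f (v k) = w k) :
    (Ideal.span (Set.range v)).map f = Ideal.span (Set.range w) := by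
  rw [Ideal.map_span, ← Set.range_comp]
  have hfw : ⇑f ∘ v = w := funext h
  rw [hfw]

section Local

variable {S : Type u} [CommRing S] [IsLocalRing S]

theorem residue_smul_toCotangent (a : S) (x : maximalIdeal S) :
    (residue S a) • (maximalIdeal S).toCotangent x = (maximalIdeal S).toCotangent (a • x) := by
  rw [map_smul]
  exact algebraMap_smul (ResidueField S) a ((maximalIdeal S).toCotangent x)

theorem linInd_iff {κ : Type*} [Fintype κ] (v : κ → maximalIdeal S) :
    LinearIndependent (ResidueField S) (⇑(maximalIdeal S).toCotangent ∘ v) ↔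
      ∀ a : κ → S, (∑ i, a i * (v i : S)) ∈ maximalIdeal S ^ 2 → ∀ i, a i ∈ maximalIdeal S := by
  have key : ∀ a : κ → S,
      (∑ i, residue S (a i) • (⇑(maximalIdeal S).toCotangent ∘ v) i = 0) ↔
      (∑ i, a i * (v i : S)) ∈ maximalIdeal S ^ 2 := by
    intro a
    have h1 : ∑ i, residue S (a i) • (⇑(maximalIdeal S).toCotangent ∘ v) i
        = (maximalIdeal S).toCotangent (∑ i, a i • v i) := by
      rw [map_sum]
      refine Finset.sum_congr rfl fun i _ => ?_
      exact residue_smul_toCotangent (a i) (v i)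
    rw [h1, Ideal.toCotangent_eq_zero]
    have h2 : ((∑ i, a i • v i : maximalIdeal S) : S) = ∑ i, a i * (v i : S) := by
      rw [Submodule.coe_sum]
      refine Finset.sum_congr rfl fun i _ => ?_
      rw [Submodule.coe_smul, smul_eq_mul]
    rw [h2]
  rw [Fintype.linearIndependent_iff]
  constructor
  · intro h a ha i
    have h3 := h (fun i => residue S (a i)) ((key a).mpr ha) i
    exact (residue_eq_zero_iff _).mp h3
  · intro h g hg i
    choose a ha using fun i => residue_surjective (g i)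
    have hg' : ∑ i, residue S (a i) • (⇑(maximalIdeal S).toCotangent ∘ v) i = 0 := by
      simpa only [ha] using hg
    have h3 := h a ((key a).mp hg') i
    rw [← ha i]
    exact (residue_eq_zero_iff _).mpr h3

end Local

theorem psi_local {A : Type u} [CommRing A] {ι : Type v} [Preorder ι] [IsDirected ι (· ≤ ·)]
    (B : ι → Type u) [∀ j, CommRing (B j)]
    (φ : ∀ i j, i ≤ j → (B i →+* B j)) (hφloc : ∀ i j (h : i ≤ j), IsLocalHom (φ i j h))
    (hφ : ∀ i j l (hij : i ≤ j) (hjl : j ≤ l),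
      (φ j l hjl).comp (φ i j hij) = φ i l (hij.trans hjl))
    (ψ : ∀ j, B j →+* A) (hψ : ∀ i j (h : i ≤ j), (ψ j).comp (φ i j h) = ψ i)
    (hsurj : ∀ a : A, ∃ j, ∃ x : B j, ψ j x = a)
    (hker : ∀ j (x : B j), ψ j x = 0 → ∃ l, ∃ h : j ≤ l, φ j l h x = 0)
    (j : ι) (x : B j) (hx : IsUnit (ψ j x)) : IsUnit x := by
  obtain ⟨a, ha⟩ := hx.exists_right_inv
  obtain ⟨l, y, rfl⟩ := hsurj a
  obtain ⟨k, hjk, hlk⟩ := exists_ge_ge j l
  have e1 : ψ k (φ j k hjk x) = ψ j x := RingHom.congr_fun (hψ j k hjk) x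
  have e2 : ψ k (φ l k hlk y) = ψ l y := RingHom.congr_fun (hψ l k hlk) y
  have h0 : ψ k (φ j k hjk x * φ l k hlk y - 1) = 0 := by
    rw [map_sub, map_mul, map_one, e1, e2, ha, sub_self]
  obtain ⟨k', hkk', hz⟩ := hker k _ h0
  rw [map_sub, map_mul, map_one, sub_eq_zero] at hz
  have e3 : φ k k' hkk' (φ j k hjk x) = φ j k' (hjk.trans hkk') x :=
    RingHom.congr_fun (hφ j k k' hjk hkk') x
  rw [e3] at hz
  have hu : IsUnit (φ j k' (hjk.trans hkk') x) := IsUnit.of_mul_eq_one _ hz
  haveI := hφloc j k' (hjk.trans hkk')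
  exact isUnit_of_map_unit (φ j k' (hjk.trans hkk')) x hu

end Helpers


/-- Let A be a regular local ring with maximal ideal m and residue field k, written as a directed
colimit of regular local rings A_j with local transition maps (compatible maps ψ_j : A_j → A that
are jointly surjective, an element dying in A dying at some later stage). Let f_1, …, f_c, g_1, …,
g_d ∈ m have linearly independent classes in m/m^2 over k, and put I = (f_1, …, f_c) ⊆ I' = (f_1, …,
f_c, g_1, …, g_d) (so I is generated by part of a regular system of parameters of A and I'/I by part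
of a regular system of parameters of A/I; for a regular local ring the condition on I ⊆ I' is stated
through such a joint family). Then there are an index j_0 and ideals I_j ⊆ I'_j ⊆ A_j for j ≥ j_0
such that: each I_j is generated by c elements and I'_j by these together with d further elements of
the maximal ideal m_j, the c + d classes in m_j/m_j^2 being linearly independent over the residue
field of A_j; the transition maps carry I_i, I'_i onto generators of I_j, I'_j for j_0 ≤ i ≤ j; and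
I_j, I'_j generate I, I' in A. -/
theorem result
    {A : Type u} [CommRing A] [IsRegularLocalRing A]
    {ι : Type v} [Preorder ι] [Nonempty ι] [IsDirected ι (· ≤ ·)]
    (B : ι → Type u) [∀ j, CommRing (B j)] [∀ j, IsRegularLocalRing (B j)]
    (φ : ∀ i j, i ≤ j → (B i →+* B j)) (hφloc : ∀ i j (h : i ≤ j), IsLocalHom (φ i j h))
    (hφ : ∀ i j l (hij : i ≤ j) (hjl : j ≤ l), (φ j l hjl).comp (φ i j hij) = φ i l (hij.trans hjl))
    (ψ : ∀ j, B j →+* A) (hψ : ∀ i j (h : i ≤ j), (ψ j).comp (φ i j h) = ψ i)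
    (hsurj : ∀ a : A, ∃ j, ∃ x : B j, ψ j x = a)
    (hker : ∀ j (x : B j), ψ j x = 0 → ∃ l, ∃ h : j ≤ l, φ j l h x = 0)
    (c d : ℕ) (f : Fin c → maximalIdeal A) (g : Fin d → maximalIdeal A)
    (hind : LinearIndependent (ResidueField A) (⇑(maximalIdeal A).toCotangent ∘ Sum.elim f g)) :
    ∃ j₀ : ι, ∃ (P : ∀ j, j₀ ≤ j → Ideal (B j)) (Q : ∀ j, j₀ ≤ j → Ideal (B j)),
      (∀ j (hj : j₀ ≤ j), ∃ (F : Fin c → maximalIdeal (B j)) (E : Fin d → maximalIdeal (B j)),
        LinearIndependent (ResidueField (B j)) (⇑(maximalIdeal (B j)).toCotangent ∘ Sum.elim F E) ∧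
        P j hj = Ideal.span (Set.range (fun s => (F s : B j))) ∧
        Q j hj = P j hj ⊔ Ideal.span (Set.range (fun t => (E t : B j)))) ∧
      (∀ i j (hi : j₀ ≤ i) (hij : i ≤ j),
        (P i hi).map (φ i j hij) = P j (le_trans hi hij) ∧ (Q i hi).map (φ i j hij) = Q j (le_trans hi hij)) ∧
      (∀ j (hj : j₀ ≤ j),
        (P j hj).map (ψ j) = Ideal.span (Set.range (fun s => (f s : A))) ∧
        (Q j hj).map (ψ j) = Ideal.span (Set.range (fun s => (f s : A))) ⊔ Ideal.span (Set.range (fun t => (g t : A)))) := by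
  classical
  have hloc : ∀ j (x : B j), IsUnit (ψ j x) → IsUnit x :=
    psi_local B φ hφloc hφ ψ hψ hsurj hker
  have hmem : ∀ j (x : B j), ψ j x ∈ maximalIdeal A → x ∈ maximalIdeal (B j) := by
    intro j x hx
    rw [mem_maximalIdeal, mem_nonunits_iff] at hx ⊢
    exact fun hu => hx (hu.map (ψ j))
  have hmem' : ∀ j (x : B j), x ∈ maximalIdeal (B j) → ψ j x ∈ maximalIdeal A := by
    intro j x hx
    rw [mem_maximalIdeal, mem_nonunits_iff] at hx ⊢
    exact fun hu => hx (hloc j x hu)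
  have hpow : ∀ j (x : B j), x ∈ maximalIdeal (B j) ^ 2 → ψ j x ∈ maximalIdeal A ^ 2 := by
    intro j x hx
    have h1 : (maximalIdeal (B j)).map (ψ j) ≤ maximalIdeal A :=
      Ideal.map_le_iff_le_comap.mpr (fun y hy => hmem' j y hy)
    have h2 : ψ j x ∈ ((maximalIdeal (B j)) ^ 2).map (ψ j) := Ideal.mem_map_of_mem _ hx
    rw [Ideal.map_pow] at h2
    exact Ideal.pow_right_mono h1 2 h2
  -- lifts
  have hliftf : ∀ s : Fin c, ∃ j, ∃ x : B j, ψ j x = (f s : A) := fun s => hsurj _
  have hliftg : ∀ t : Fin d, ∃ j, ∃ x : B j, ψ j x = (g t : A) := fun t => hsurj _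
  choose jf xf hxf using hliftf
  choose jg xg hxg using hliftg
  obtain ⟨j₀, hj₀⟩ := Finite.exists_le (Sum.elim jf jg)
  have hjf : ∀ s, jf s ≤ j₀ := fun s => hj₀ (Sum.inl s)
  have hjg : ∀ t, jg t ≤ j₀ := fun t => hj₀ (Sum.inr t)
  obtain ⟨F0, hF0⟩ : ∃ F0 : Fin c → B j₀, ∀ s, ψ j₀ (F0 s) = (f s : A) :=
    ⟨fun s => φ (jf s) j₀ (hjf s) (xf s), fun s =>
      (RingHom.congr_fun (hψ (jf s) j₀ (hjf s)) (xf s)).trans (hxf s)⟩
  obtain ⟨E0, hE0⟩ : ∃ E0 : Fin d → B j₀, ∀ t, ψ j₀ (E0 t) = (g t : A) :=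
    ⟨fun t => φ (jg t) j₀ (hjg t) (xg t), fun t =>
      (RingHom.congr_fun (hψ (jg t) j₀ (hjg t)) (xg t)).trans (hxg t)⟩
  have hFψ : ∀ j (hj : j₀ ≤ j) (s : Fin c), ψ j (φ j₀ j hj (F0 s)) = (f s : A) := fun j hj s =>
    (RingHom.congr_fun (hψ j₀ j hj) (F0 s)).trans (hF0 s)
  have hEψ : ∀ j (hj : j₀ ≤ j) (t : Fin d), ψ j (φ j₀ j hj (E0 t)) = (g t : A) := fun j hj t =>
    (RingHom.congr_fun (hψ j₀ j hj) (E0 t)).trans (hE0 t)
  refine ⟨j₀, fun j hj => Ideal.span (Set.range fun s => φ j₀ j hj (F0 s)),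
    fun j hj => Ideal.span (Set.range fun s => φ j₀ j hj (F0 s)) ⊔
      Ideal.span (Set.range fun t => φ j₀ j hj (E0 t)), ?_, ?_, ?_⟩
  · intro j hj
    refine ⟨fun s => ⟨φ j₀ j hj (F0 s), hmem j _ (by rw [hFψ]; exact (f s).2)⟩,
      fun t => ⟨φ j₀ j hj (E0 t), hmem j _ (by rw [hEψ]; exact (g t).2)⟩, ?_, rfl, rfl⟩
    rw [linInd_iff]
    intro a ha i
    refine hmem j _ ?_
    refine (linInd_iff (Sum.elim f g)).mp hind (fun i => ψ j (a i)) ?_ i
    have hsum := hpow j _ ha
    rw [map_sum] at hsum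
    have hterm : ∀ i : Fin c ⊕ Fin d,
        ψ j (a i * ((Sum.elim
          (fun s => (⟨φ j₀ j hj (F0 s), hmem j _ (by rw [hFψ]; exact (f s).2)⟩ :
            maximalIdeal (B j)))
          (fun t => (⟨φ j₀ j hj (E0 t), hmem j _ (by rw [hEψ]; exact (g t).2)⟩ :
            maximalIdeal (B j))) i : maximalIdeal (B j)) : B j))
        = ψ j (a i) * ((Sum.elim f g i : maximalIdeal A) : A) := by
      rintro (s | t)
      · rw [map_mul]
        simp only [Sum.elim_inl]
        rw [hFψ]
      · rw [map_mul]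
        simp only [Sum.elim_inr]
        rw [hEψ]
    simpa only [hterm] using hsum
  · intro i j hi hij
    have hFc : ∀ s, φ i j hij (φ j₀ i hi (F0 s)) = φ j₀ j (le_trans hi hij) (F0 s) := fun s =>
      RingHom.congr_fun (hφ j₀ i j hi hij) (F0 s)
    have hEc : ∀ t, φ i j hij (φ j₀ i hi (E0 t)) = φ j₀ j (le_trans hi hij) (E0 t) := fun t =>
      RingHom.congr_fun (hφ j₀ i j hi hij) (E0 t)
    have hP := map_span_range (φ i j hij) (fun s => φ j₀ i hi (F0 s))
      (fun s => φ j₀ j (le_trans hi hij) (F0 s)) hFc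
    have hQ := map_span_range (φ i j hij) (fun t => φ j₀ i hi (E0 t))
      (fun t => φ j₀ j (le_trans hi hij) (E0 t)) hEc
    refine ⟨hP, ?_⟩
    rw [Ideal.map_sup, hP, hQ]
  · intro j hj
    have hP := map_span_range (ψ j) (fun s => φ j₀ j hj (F0 s)) (fun s => (f s : A)) (hFψ j hj)
    have hQ := map_span_range (ψ j) (fun t => φ j₀ j hj (E0 t)) (fun t => (g t : A)) (hEψ j hj)
    refine ⟨hP, ?_⟩
    rw [Ideal.map_sup, hP, hQ]

end Groth.Agent.S18136
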