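import Groth.Statements.S18153
import Mathlib.LinearAlgebra.Multilinear.Basis
import Mathlib.LinearAlgebra.Matrix.Adjugate
import Mathlib.RingTheory.MvPolynomial.Basic
import Mathlib.Tactic

set_option autoImplicit false
universe u w
open FrobAlg

namespace Groth.Agent.S18153


open MvPolynomial in
theorem monomial_case (p : ℕ) [Fact p.Prime] (R : Type u) [CommRing R] [CharP R p]
    {m : ℕ} (hm : 0 < m) (σ : Type w) (v : Fin m → (Fin m ⊕ σ →₀ ℕ)) :
    MvPolynomial.coeff
        (Finsupp.sumElim (Finsupp.equivFunOnFinite.symm fun _ : Fin m => p - 1) (0 : σ →₀ ℕ))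
        (Matrix.of fun i j : Fin m =>
          MvPolynomial.pderiv (Sum.inl j) (monomial (v i) (1 : R))).det = 0 := by
  classical
  obtain ⟨μ, hμ⟩ : ∃ μ : Fin m ⊕ σ →₀ ℕ, μ =
    Finsupp.sumElim (Finsupp.equivFunOnFinite.symm fun _ : Fin m => p - 1) (0 : σ →₀ ℕ) := ⟨_, rfl⟩
  rw [← hμ]
  obtain ⟨E, hE⟩ : ∃ E : Fin m ⊕ σ →₀ ℕ, E = ∑ i : Fin m, Finsupp.single (Sum.inl i) 1 :=
    ⟨_, rfl⟩
  obtain ⟨A, hA⟩ : ∃ A : Matrix (Fin m) (Fin m) R,
    A = Matrix.of fun i j => ((v i (Sum.inl j) : ℕ) : R) := ⟨_, rfl⟩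
  have hAapp : ∀ i j, A i j = ((v i (Sum.inl j) : ℕ) : R) := by
    intro i j; rw [hA]; rfl
  have hdet : (∑ i, v i = μ + E) → A.det = 0 := by
    intro hV
    have hcol : ∀ j, ∑ i, A i j = 0 := by
      intro j
      have h1 : ∑ i, A i j = (((∑ i, v i) (Sum.inl j) : ℕ) : R) := by
        rw [Finsupp.finset_sum_apply, Nat.cast_sum]
        exact Finset.sum_congr rfl (fun i _ => hAapp i j)
      rw [h1, hV, Finsupp.add_apply]
      have h2 : μ (Sum.inl j) = p - 1 := by
        rw [hμ]; simp
      have h3 : E (Sum.inl j) = 1 := by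
        rw [hE, Finsupp.finset_sum_apply]
        simp [Finsupp.single_apply]
      rw [h2, h3]
      have hp1 : p - 1 + 1 = p := Nat.sub_add_cancel (Fact.out : p.Prime).one_le
      rw [hp1]
      exact CharP.cast_eq_zero R p
    have hvec : Matrix.vecMul (fun _ => (1 : R)) A = 0 := by
      ext j
      rw [Matrix.vecMul, dotProduct, Pi.zero_apply]
      simp only [one_mul]
      exact hcol j
    have h4 : Matrix.vecMul (fun _ => (1 : R)) (A * A.adjugate) = 0 := by
      rw [← Matrix.vecMul_vecMul, hvec, Matrix.zero_vecMul]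
    have h5 : A.det • (fun _ : Fin m => (1 : R)) = 0 := by
      rw [← h4, Matrix.mul_adjugate, Matrix.vecMul_smul, Matrix.vecMul_one]
    have h6 := congrFun h5 ⟨0, hm⟩
    simpa using h6
  rw [Matrix.det_apply', MvPolynomial.coeff_sum]
  have hterm : ∀ τ : Equiv.Perm (Fin m),
      coeff μ (((Equiv.Perm.sign τ : ℤ) : MvPolynomial (Fin m ⊕ σ) R) *
        ∏ i, (Matrix.of fun i j : Fin m =>
          pderiv (Sum.inl j) (monomial (v i) (1 : R))) (τ i) i) =
      ((Equiv.Perm.sign τ : ℤ) : R) * (if ∑ i, v i = μ + E then ∏ i, A (τ i) i else 0) := by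
    intro τ
    have hprod : ∏ i, (Matrix.of fun i j : Fin m =>
          pderiv (Sum.inl j) (monomial (v i) (1 : R))) (τ i) i =
        monomial (∑ i, (v (τ i) - Finsupp.single (Sum.inl i) 1)) (∏ i, A (τ i) i) := by
      rw [MvPolynomial.monomial_sum_prod]
      refine Finset.prod_congr rfl (fun i _ => ?_)
      rw [Matrix.of_apply, pderiv_monomial, one_mul, hAapp]
    rw [hprod, ← map_intCast (C : R →+* MvPolynomial (Fin m ⊕ σ) R), coeff_C_mul, coeff_monomial]
    congr 1
    by_cases hz : ∃ i, v (τ i) (Sum.inl i) = 0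
    · obtain ⟨i, hi⟩ := hz
      have hP : ∏ i, A (τ i) i = 0 := by
        apply Finset.prod_eq_zero (Finset.mem_univ i)
        rw [hAapp, hi, Nat.cast_zero]
      rw [hP, ite_self, ite_self]
    · push_neg at hz
      have hsum : ∑ i, (v (τ i) - Finsupp.single (Sum.inl i) 1) + E = ∑ i, v i := by
        rw [hE, ← Finset.sum_add_distrib, ← Equiv.sum_comp τ (fun i => v i)]
        refine Finset.sum_congr rfl (fun i _ => ?_)
        apply tsub_add_cancel_of_le
        rw [Finsupp.single_le_iff]
        exact Nat.one_le_iff_ne_zero.2 (hz i)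
      have hiff : (∑ i, (v (τ i) - Finsupp.single (Sum.inl i) 1) = μ) ↔ (∑ i, v i = μ + E) := by
        rw [← hsum]
        exact ⟨fun h => by rw [h], fun h => add_right_cancel h⟩
      rw [if_congr hiff rfl rfl]
  rw [Finset.sum_congr rfl (fun τ _ => hterm τ)]
  by_cases hV : ∑ i, v i = μ + E
  · simp only [if_pos hV]
    exact (Matrix.det_apply' A).symm.trans (hdet hV)
  · simp only [if_neg hV, mul_zero, Finset.sum_const_zero]

/-- Let R be a commutative ring of prime characteristic p and f_1, …, f_m (m ≥ 1) polynomials over R in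
the variables t_1, …, t_m and a further, possibly empty, family of variables s_a. Then in the m × m
Jacobian determinant det(∂f_i/∂t_j) with respect to the t-variables, the coefficient of the monomial
t_1^{p-1} ⋯ t_m^{p-1} (all s-exponents zero) vanishes. (In the source this is the claim, for formal
power series in n ≥ m variables over the base field, to which the proof of the proposition reduces;
the coefficient in question only involves truncations of the f_i, so the polynomial form over any
ring of characteristic p is the same assertion.) -/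
theorem result
    (p : ℕ) [Fact p.Prime] (R : Type u) [CommRing R] [CharP R p]
    {m : ℕ} (hm : 0 < m) (σ : Type w) (f : Fin m → MvPolynomial (Fin m ⊕ σ) R) :
    MvPolynomial.coeff
        (Finsupp.sumElim (Finsupp.equivFunOnFinite.symm fun _ : Fin m => p - 1) (0 : σ →₀ ℕ))
        (Matrix.of fun i j : Fin m => MvPolynomial.pderiv (Sum.inl j) (f i)).det = 0 := by
  classical
  obtain ⟨μ, hμ⟩ : ∃ μ : Fin m ⊕ σ →₀ ℕ, μ =
    Finsupp.sumElim (Finsupp.equivFunOnFinite.symm fun _ : Fin m => p - 1) (0 : σ →₀ ℕ) := ⟨_, rfl⟩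
  rw [← hμ]
  let Φ : MultilinearMap R (fun _ : Fin m => MvPolynomial (Fin m ⊕ σ) R) R :=
    (MvPolynomial.lcoeff R μ).compMultilinearMap
      (((Matrix.detRowAlternating (n := Fin m)
        (R := MvPolynomial (Fin m ⊕ σ) R)).toMultilinearMap.restrictScalars R).compLinearMap
        (fun _ => LinearMap.pi (fun j =>
          ((MvPolynomial.pderiv (Sum.inl j) :
            Derivation R (MvPolynomial (Fin m ⊕ σ) R) (MvPolynomial (Fin m ⊕ σ) R)) :
            MvPolynomial (Fin m ⊕ σ) R →ₗ[R] MvPolynomial (Fin m ⊕ σ) R))))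
  have hΦ : ∀ g : Fin m → MvPolynomial (Fin m ⊕ σ) R,
      Φ g = MvPolynomial.coeff μ
        (Matrix.of fun i j : Fin m => MvPolynomial.pderiv (Sum.inl j) (g i)).det := fun g => rfl
  have h0 : Φ = 0 := by
    refine Module.Basis.ext_multilinear
      (fun _ => MvPolynomial.basisMonomials (Fin m ⊕ σ) R) (fun v => ?_)
    rw [MultilinearMap.zero_apply, hΦ]
    simp only [MvPolynomial.coe_basisMonomials]
    rw [hμ]
    exact monomial_case p R hm σ v
  rw [← hΦ f, h0, MultilinearMap.zero_apply]

end Groth.Agent.S18153
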