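import Groth.Statements.S18156
import Mathlib.RingTheory.AdicCompletion.Algebra
import Mathlib.RingTheory.Derivation.Basic

set_option autoImplicit false
universe u v
open CAlg

namespace Groth.Agent.S18156


section aux

variable {k : Type u} [Field k] {A : Type v} [CommRing A] [Algebra k A]

theorem D_mem_pow (D : Derivation k A A) (I : Ideal A) (n : ℕ) {x : A} (hx : x ∈ I ^ (n + 1)) :
    D x ∈ I ^ n := by
  induction n generalizing x with
  | zero => simp
  | succ n ih =>
    rw [pow_succ] at hx
    refine Submodule.mul_induction_on hx ?_ ?_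
    · intro a ha b hb
      rw [Derivation.leibniz]
      refine Ideal.add_mem _ ?_ ?_
      · rw [smul_eq_mul]; exact Ideal.mul_mem_right _ _ ha
      · rw [smul_eq_mul, pow_succ']; exact Ideal.mul_mem_mul hb (ih ha)
    · intro x y hx hy
      rw [map_add]; exact Ideal.add_mem _ hx hy

theorem D_sub_mem (D : Derivation k A A) (I : Ideal A) (n : ℕ) {a b : A}
    (h : (Submodule.mkQ (I ^ (n + 1) • ⊤ : Submodule A A)) a = Submodule.mkQ _ b) :
    (Submodule.mkQ (I ^ n • ⊤ : Submodule A A)) (D a) = Submodule.mkQ _ (D b) := by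
  rw [Submodule.mkQ_apply, Submodule.mkQ_apply, Submodule.Quotient.eq] at h ⊢
  rw [← map_sub]
  have h1 : a - b ∈ I ^ (n + 1) := by simpa using h
  have h2 := D_mem_pow D I n h1
  simpa using h2

noncomputable def Dval (D : Derivation k A A) (I : Ideal A) (x : AdicCompletion I A) (n : ℕ) :
    A ⧸ (I ^ n • ⊤ : Submodule A A) :=
  Submodule.mkQ _ (D (Classical.choose (Submodule.mkQ_surjective _ (x.val (n + 1)))))

theorem Dval_eq (D : Derivation k A A) (I : Ideal A) (x : AdicCompletion I A) (n : ℕ) (a : A)
    (ha : Submodule.mkQ (I ^ (n + 1) • ⊤ : Submodule A A) a = x.val (n + 1)) :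
    Dval D I x n = Submodule.mkQ _ (D a) := by
  unfold Dval
  apply D_sub_mem
  rw [Classical.choose_spec (Submodule.mkQ_surjective _ (x.val (n + 1))), ha]

theorem transition_mkQ (I : Ideal A) {m n : ℕ} (h : m ≤ n) (a : A) :
    AdicCompletion.transitionMap I A h (Submodule.mkQ _ a) = Submodule.mkQ _ a := rfl

theorem lift_down (I : Ideal A) (x : AdicCompletion I A) {m n : ℕ} (hmn : m ≤ n) (a : A)
    (ha : Submodule.mkQ (I ^ n • ⊤ : Submodule A A) a = x.val n) :
    Submodule.mkQ (I ^ m • ⊤ : Submodule A A) a = x.val m := by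
  rw [← x.2 hmn, ← ha, transition_mkQ]

noncomputable def Dhat (D : Derivation k A A) (I : Ideal A) (x : AdicCompletion I A) :
    AdicCompletion I A :=
  ⟨fun n => Dval D I x n, by
    intro m n hmn
    obtain ⟨a, ha⟩ := Submodule.mkQ_surjective _ (x.val (n + 1))
    have ha' := lift_down I x (Nat.add_le_add_right hmn 1) a ha
    show AdicCompletion.transitionMap I A hmn (Dval D I x n) = Dval D I x m
    rw [Dval_eq D I x n a ha, Dval_eq D I x m a ha', transition_mkQ]⟩

theorem Dhat_val (D : Derivation k A A) (I : Ideal A) (x : AdicCompletion I A) (n : ℕ) :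
    (Dhat D I x).val n = Dval D I x n := rfl

theorem Dhat_add (D : Derivation k A A) (I : Ideal A) (x y : AdicCompletion I A) :
    Dhat D I (x + y) = Dhat D I x + Dhat D I y := by
  apply AdicCompletion.ext
  intro n
  obtain ⟨a, ha⟩ := Submodule.mkQ_surjective _ (x.val (n + 1))
  obtain ⟨b, hb⟩ := Submodule.mkQ_surjective _ (y.val (n + 1))
  have hab : Submodule.mkQ (I ^ (n + 1) • ⊤ : Submodule A A) (a + b) = (x + y).val (n + 1) := by
    rw [map_add, ha, hb]; rfl
  show Dval D I (x + y) n = Dval D I x n + Dval D I y n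
  rw [Dval_eq D I _ n _ hab, Dval_eq D I x n a ha, Dval_eq D I y n b hb, map_add, map_add]

theorem Dhat_smul (D : Derivation k A A) (I : Ideal A) (c : k) (x : AdicCompletion I A) :
    Dhat D I (c • x) = c • Dhat D I x := by
  apply AdicCompletion.ext
  intro n
  obtain ⟨a, ha⟩ := Submodule.mkQ_surjective _ (x.val (n + 1))
  have hca : Submodule.mkQ (I ^ (n + 1) • ⊤ : Submodule A A) (c • a) = (c • x).val (n + 1) := by
    rw [AdicCompletion.val_smul_apply, ← ha]; rfl
  show Dval D I (c • x) n = c • Dval D I x n
  rw [Dval_eq D I _ n _ hca, Dval_eq D I x n a ha, Derivation.map_smul]; rfl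

theorem Dhat_mul (D : Derivation k A A) (I : Ideal A) (x y : AdicCompletion I A) :
    Dhat D I (x * y) = x * Dhat D I y + y * Dhat D I x := by
  apply AdicCompletion.ext
  intro n
  obtain ⟨a, ha⟩ := Submodule.mkQ_surjective _ (x.val (n + 1))
  obtain ⟨b, hb⟩ := Submodule.mkQ_surjective _ (y.val (n + 1))
  have hab : Submodule.mkQ (I ^ (n + 1) • ⊤ : Submodule A A) (a * b) = (x * y).val (n + 1) := by
    rw [AdicCompletion.val_mul, ← ha, ← hb]; rfl
  have ha' := lift_down I x (Nat.le_succ n) a ha
  have hb' := lift_down I y (Nat.le_succ n) b hb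
  show Dval D I (x * y) n = x.val n * Dval D I y n + y.val n * Dval D I x n
  rw [Dval_eq D I _ n _ hab, Dval_eq D I x n a ha, Dval_eq D I y n b hb, ← ha', ← hb',
    Derivation.leibniz, map_add, smul_eq_mul, smul_eq_mul]
  rfl

theorem Dhat_algebraMap (D : Derivation k A A) (I : Ideal A) (a : A) :
    Dhat D I (algebraMap A (AdicCompletion I A) a) = algebraMap A (AdicCompletion I A) (D a) := by
  apply AdicCompletion.ext
  intro n
  have ha : Submodule.mkQ (I ^ (n + 1) • ⊤ : Submodule A A) a =
      (algebraMap A (AdicCompletion I A) a).val (n + 1) := rfl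
  show Dval D I _ n = _
  rw [Dval_eq D I _ n a ha]
  rfl

end aux

/-- Let k be a field and A a regular local ring that is a k-algebra, with maximal ideal m and m-adic
completion Â. Then every k-derivation D of A into itself extends to a k-derivation D̂ of Â into
itself along the canonical map ρ : A → Â, in the sense that D̂(ρ(a)) = ρ(D(a)) for every a ∈ A. (The
source works throughout over an algebraically closed field of characteristic p; neither assumption
enters this statement.) -/
theorem result
    (k : Type u) [Field k] (A : Type v) [CommRing A] [Algebra k A] [IsRegularLocalRing A]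
    (D : Derivation k A A) :
    ∃ Dhat : Derivation k (AdicCompletion (IsLocalRing.maximalIdeal A) A)
        (AdicCompletion (IsLocalRing.maximalIdeal A) A),
      ∀ a : A, Dhat (algebraMap A (AdicCompletion (IsLocalRing.maximalIdeal A) A) a) =
        algebraMap A (AdicCompletion (IsLocalRing.maximalIdeal A) A) (D a) := by
  refine ⟨Derivation.mk'
    { toFun := Dhat D (IsLocalRing.maximalIdeal A)
      map_add' := Dhat_add D _
      map_smul' := Dhat_smul D _ } (fun x y => Dhat_mul D _ x y), fun a => ?_⟩
  exact Dhat_algebraMap D _ a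

end Groth.Agent.S18156
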