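import Groth.Statements.S18177
import Groth.Agent.H81.LimitChain3

set_option autoImplicit false
open FunFld

namespace Groth.Agent.S18177

/-- Let `k` be an algebraically closed field of characteristic zero and `K/k` a function field of one
variable (the function field of a smooth projective curve over `k`). A `g^r_d` is a divisor `D` of
degree `d` with a subspace `V ⊆ L(D)` of dimension `r + 1`; for a place `P` and `n ≥ 0`, `V(-nP) = V
∩ L(D - nP)` is the space of members vanishing to order at least `n` at `P`, so `dim V(-nP)` counts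
the vanishing orders `m_0 < ⋯ < m_r` of `V` at `P` that are at least `n`, and the weight of `V` at
`P` is `∑_{n=1}^{d} dim V(-nP) - r(r+1)/2`. Let `(D, V)` be a `g^r_d` with `r ≥ 1` and `P ≠ Q`
places at which the weights are large: `w(V, P) + w(V, Q) ≥ (r+1)(d-r) - (r-1)`, that is `(r+1)d + 1
≤ ∑_{n=1}^{d} dim V(-nP) + ∑_{n=1}^{d} dim V(-nQ) + r`. Then `V` contains members with divisors `m_i
Q + (d - m_i) P` for two different indices `i`, and hence `m(Q - P)` is a principal divisor for some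
`1 ≤ m ≤ d`. (In the source `K` is an elliptic tail of a degenerate curve, `P` its node and `Q` the
limit of the moving ramification point, the weight hypothesis coming from `ρ ≤ 0`; it concludes that
only finitely many `Q` are possible. The torsion assertion holds in any genus and is what is stated
here.) (The source states this for curves over the complex numbers.) -/
theorem result
    (k : Type*) [Field k] [IsAlgClosed k] [CharZero k]
    (K : Type*) [Field K] [Algebra k K] (hK : FunFld.IsFunctionField k K)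
    (d r : ℕ) (hr : 1 ≤ r) (D : FunFld.Divisor k K) (hD : D.deg = d)
    (V : Submodule k K) (hV : V ≤ FunFld.L D) (hVr : Module.finrank k ↥V = r + 1)
    (P Q : FunFld.Place k K) (hPQ : P ≠ Q)
    (hw : (r + 1) * d + 1 ≤
      (∑ n ∈ Finset.range d, Module.finrank k ↥(V ⊓ FunFld.L (D - Finsupp.single P ((n : ℤ) + 1)))) +
        (∑ n ∈ Finset.range d, Module.finrank k ↥(V ⊓ FunFld.L (D - Finsupp.single Q ((n : ℤ) + 1)))) + r) :
    ∃ m : ℕ, 1 ≤ m ∧ m ≤ d ∧ ∃ h : K, h ≠ 0 ∧
      FunFld.div k h = Finsupp.single Q (m : ℤ) - Finsupp.single P (m : ℤ) := by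
  classical
  haveI : FiniteDimensional k V := Module.finite_of_finrank_pos (by omega)
  obtain ⟨α, hα⟩ : ∃ α : ℕ → ℕ, ∀ n, α n =
      Module.finrank k ↥(V ⊓ FunFld.L (D - Finsupp.single P (n : ℤ))) := ⟨_, fun _ => rfl⟩
  obtain ⟨β, hβ⟩ : ∃ β : ℕ → ℕ, ∀ n, β n =
      Module.finrank k ↥(V ⊓ FunFld.L (D - Finsupp.single Q (n : ℤ))) := ⟨_, fun _ => rfl⟩
  have hα0 : α 0 = r + 1 := by rw [hα, Groth.Agent.H81.LC.dimAt_zero V D hV P, hVr]
  have hβ0 : β 0 = r + 1 := by rw [hβ, Groth.Agent.H81.LC.dimAt_zero V D hV Q, hVr]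
  have ht : ∀ n, n ≤ d → α n + β (d - n) ≤ r + 2 := by
    intro n hn
    have h1 := Groth.Agent.H81.LinSer.two_point hK D (d : ℤ) hD V hPQ (n : ℤ)
      (((d - n + 1 : ℕ)) : ℤ) (by push_cast; omega)
    have h2 := Groth.Agent.H81.LC.dimAt_step hK V D Q (d - n)
    rw [hVr] at h1
    rw [hα, hβ]
    omega
  have hsumα : ∑ n ∈ Finset.range (d + 1), α n = (r + 1) +
      ∑ n ∈ Finset.range d, Module.finrank k ↥(V ⊓ FunFld.L (D - Finsupp.single P ((n : ℤ) + 1))) := by
    rw [Finset.sum_range_succ', hα0, add_comm]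
    congr 1
    refine Finset.sum_congr rfl (fun n _ => ?_)
    rw [hα, Nat.cast_succ]
  have hsumβ : ∑ n ∈ Finset.range (d + 1), β (d - n) = (r + 1) +
      ∑ n ∈ Finset.range d, Module.finrank k ↥(V ⊓ FunFld.L (D - Finsupp.single Q ((n : ℤ) + 1))) := by
    have hrefl := Finset.sum_range_reflect β (d + 1)
    simp only [Nat.add_sub_cancel] at hrefl
    rw [hrefl, Finset.sum_range_succ', hβ0, add_comm]
    congr 1
    refine Finset.sum_congr rfl (fun n _ => ?_)
    rw [hβ, Nat.cast_succ]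
  have hG : 2 ≤ ((Finset.range (d + 1)).filter (fun n => α n + β (d - n) = r + 2)).card := by
    have h1 : ∑ n ∈ Finset.range (d + 1), (α n + β (d - n)) ≤
        ∑ n ∈ Finset.range (d + 1), ((r + 1) + if α n + β (d - n) = r + 2 then 1 else 0) := by
      refine Finset.sum_le_sum (fun n hn => ?_)
      have := ht n (Nat.lt_succ_iff.mp (Finset.mem_range.mp hn))
      split_ifs <;> omega
    rw [Finset.sum_add_distrib, Finset.sum_add_distrib, Finset.sum_const, Finset.card_range,
      smul_eq_mul, ← Finset.card_filter, hsumα, hsumβ] at h1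
    have : (d + 1) * (r + 1) = (r + 1) * d + (r + 1) := by ring
    omega
  have main : ∀ n₁ n₂ : ℕ, n₁ ≤ d → n₂ ≤ d → α n₁ + β (d - n₁) = r + 2 →
      α n₂ + β (d - n₂) = r + 2 → n₁ < n₂ →
      ∃ m : ℕ, 1 ≤ m ∧ m ≤ d ∧ ∃ h : K, h ≠ 0 ∧
        FunFld.div k h = Finsupp.single Q (m : ℤ) - Finsupp.single P (m : ℤ) := by
    intro n₁ n₂ hn₁ hn₂ h₁ h₂ hlt
    rw [hα, hβ] at h₁ h₂
    obtain ⟨f₁, -, hf₁0, hdiv₁⟩ := Groth.Agent.H81.LC.exists_section hK D d hD V hPQ n₁ (d - n₁)
      (by omega) (by rw [hVr]; omega)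
    obtain ⟨f₂, -, hf₂0, hdiv₂⟩ := Groth.Agent.H81.LC.exists_section hK D d hD V hPQ n₂ (d - n₂)
      (by omega) (by rw [hVr]; omega)
    refine ⟨n₂ - n₁, by omega, by omega, f₁ * f₂⁻¹, mul_ne_zero hf₁0 (inv_ne_zero hf₂0), ?_⟩
    have e1 : FunFld.div k f₁ =
        Finsupp.single P (n₁ : ℤ) + Finsupp.single Q ((d - n₁ : ℕ) : ℤ) - D := eq_sub_of_add_eq hdiv₁
    have e2 : FunFld.div k f₂ =
        Finsupp.single P (n₂ : ℤ) + Finsupp.single Q ((d - n₂ : ℕ) : ℤ) - D := eq_sub_of_add_eq hdiv₂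
    rw [Groth.Agent.H55.div_mul hK hf₁0 (inv_ne_zero hf₂0), Groth.Agent.H55.div_inv hK, e1, e2,
      Nat.cast_sub hn₁, Nat.cast_sub hn₂, Nat.cast_sub hlt.le]
    simp only [Finsupp.single_sub]
    abel
  obtain ⟨n₁, hn₁, n₂, hn₂, hne⟩ := Finset.one_lt_card.mp (Nat.lt_of_lt_of_le (by norm_num : 1 < 2) hG)
  rw [Finset.mem_filter, Finset.mem_range] at hn₁ hn₂
  rcases lt_or_gt_of_ne hne with hlt | hlt
  · exact main n₁ n₂ (by omega) (by omega) hn₁.2 hn₂.2 hlt
  · exact main n₂ n₁ (by omega) (by omega) hn₂.2 hn₁.2 hlt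

end Groth.Agent.S18177
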