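import Groth.Statements.S18179
import Groth.Agent.H81.LimitChain

set_option autoImplicit false
open FunFld

namespace Groth.Agent.S18179

/-- Let `k` be an algebraically closed field of characteristic zero and `K/k` a function field of one
variable (the function field of a smooth projective curve over `k`). A `g^r_d` is a divisor `D` of
degree `d` with a subspace `V ⊆ L(D)` of dimension `r + 1`; for a place `P` and `n ≥ 0`, `V(-nP) = V
∩ L(D - nP)` is the space of members vanishing to order at least `n` at `P`, so `dim V(-nP)` counts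
the vanishing orders `m_0 < ⋯ < m_r` of `V` at `P` that are at least `n`, and the weight of `V` at
`P` is `∑_{n=1}^{d} dim V(-nP) - r(r+1)/2`. Aspects `(D_Y, V_Y)` on `K_Y` and `(D_Z, V_Z)` on `K_Z`
of a limit `g^r_d` on two components meeting in a node (a place `P` of `K_Y` and a place `Q` of
`K_Z`) are compatible there when `m_i(V_Y, P) + m_{r-i}(V_Z, Q) = d` for every `i`, equivalently
`dim V_Y(-nP) + dim V_Z(-(d+1-n)Q) = r + 1` for `0 ≤ n ≤ d + 1`. A backbone is a chain of rational
components `Z_0, …, Z_N` (function fields `K_i` of genus `0`), `Z_i` meeting `Z_{i+1}` in a node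
given by a place `B_i` of `K_i` and a place `A_{i+1}` of `K_{i+1}`, the two node places `A_i ≠ B_i`
of an inner component being distinct; each `Z_i` carries an aspect `(D_i, V_i)` of a limit `g^r_d`
and consecutive aspects are compatible at the nodes. A set `T` of indices marks the components
carrying a tail: for `i ∈ T` the aspect `V_i` has at least a cusp (`dim V_i(-2Q_i) ≥ r`) at a
further place `Q_i` of `K_i`, distinct from the node places of `Z_i`. (In the source these are the
backbone components of a flag curve to which a chain of rational curves ending in an elliptic tail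
is attached, `T` has `g` elements, and the cusp is forced by that chain.) Conclusion: `r · |T| ≤
(r+1)(d-r)`, that is, the Brill–Noether number `ρ(|T|, r, d) = |T| - (r+1)(|T| - d + r)` is
nonnegative. (The source deduces from this, by degenerating a general curve of genus `g` to a flag
curve with `g` tails, that a general curve has no `g^r_d` when `ρ < 0`; that consequence is not
stated here.) (The source states this for curves over the complex numbers.) -/
theorem result
    (k : Type*) [Field k] [IsAlgClosed k] [CharZero k]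
    (N : ℕ) (Z : Fin (N + 1) → Type*) [∀ i, Field (Z i)] [∀ i, Algebra k (Z i)]
    (hZ : ∀ i, FunFld.IsFunctionField k (Z i)) (hrat : ∀ i, FunFld.genus k (Z i) = 0)
    (d r : ℕ) (D : ∀ i, FunFld.Divisor k (Z i)) (hD : ∀ i, (D i).deg = d)
    (V : ∀ i, Submodule k (Z i)) (hV : ∀ i, V i ≤ FunFld.L (D i))
    (hVr : ∀ i, Module.finrank k ↥(V i) = r + 1)
    (A B : ∀ i, FunFld.Place k (Z i))
    (hAB : ∀ i : Fin (N + 1), 0 < (i : ℕ) → (i : ℕ) < N → A i ≠ B i)
    (hcomp : ∀ (l : Fin N) (m : ℕ), m ≤ d + 1 →
      Module.finrank k ↥((V l.castSucc) ⊓ FunFld.L ((D l.castSucc) - Finsupp.single (B l.castSucc) ((m : ℤ)))) +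
        Module.finrank k ↥((V l.succ) ⊓ FunFld.L ((D l.succ) - Finsupp.single (A l.succ) ((d : ℤ) + 1 - m))) = r + 1)
    (T : Finset (Fin (N + 1))) (Q : ∀ i, FunFld.Place k (Z i))
    (hQA : ∀ i ∈ T, 0 < (i : ℕ) → Q i ≠ A i) (hQB : ∀ i ∈ T, (i : ℕ) < N → Q i ≠ B i)
    (hcusp : ∀ i ∈ T, r ≤ Module.finrank k ↥((V i) ⊓ FunFld.L ((D i) - Finsupp.single (Q i) ((2 : ℤ))))) :
    r * T.card + r * (r + 1) ≤ (r + 1) * d := by
  have hA := Groth.Agent.H81.LC.backbone_A N Z hZ hrat d r D hD V hV hVr A B hAB hcomp T Q hQA hQB
    hcusp (Fin.last N)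
  have hhalf := Groth.Agent.H81.LinSer.half_add_half r
  have hcomm : (r + 1) * r = r * (r + 1) := Nat.mul_comm _ _
  have hempty : T.filter (Fin.last N < ·) = ∅ := by
    ext j
    simp only [Finset.mem_filter, Finset.notMem_empty, iff_false, not_and, Fin.lt_def,
      Fin.val_last, not_lt]
    intro _
    exact Nat.le_of_lt_succ j.2
  have hcard : T.card = (T.filter (· < Fin.last N)).card + (if Fin.last N ∈ T then 1 else 0) := by
    rw [Groth.Agent.H81.LC.card_eq_erase_add T (Fin.last N), Groth.Agent.H81.LC.card_erase_eq,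
      hempty, Finset.card_empty, Nat.add_zero]
  have hnn := Groth.Agent.H81.LC.weight_nonneg (hZ (Fin.last N)) (V (Fin.last N)) (D (Fin.last N))
    d r (hD _) (hV _) (hVr _) (A (Fin.last N))
  rw [hcard, Nat.mul_add]
  by_cases hT : Fin.last N ∈ T
  · have key := Groth.Agent.H81.LC.plk_opt3 (hZ (Fin.last N)) (hrat _) (D (Fin.last N)) d r (hD _)
      (V (Fin.last N)) (hV _) (hVr _) (Q (Fin.last N))
      (0 < ((Fin.last N : Fin (N + 1)) : ℕ)) False False
      (A (Fin.last N)) (A (Fin.last N)) (A (Fin.last N))
      (r * (T.filter (· < Fin.last N)).card) 0 0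
      (fun h => ⟨(hQA _ hT h).symm, by rw [if_pos h] at hA; omega⟩)
      (fun h => h.elim) (fun h => h.elim)
      (fun _ h => h.elim) (fun _ h => h.elim) (fun h _ => h.elim)
    have hc := Groth.Agent.H81.LC.cusp_weight (hZ (Fin.last N)) (V (Fin.last N)) (D (Fin.last N))
      d r (hD _) (hV _) (hVr _) (Q (Fin.last N)) (hcusp _ hT)
    rw [if_pos hT, Nat.mul_one]
    by_cases h0 : 0 < ((Fin.last N : Fin (N + 1)) : ℕ)
    · simp only [h0, if_true, if_false] at key hA
      omega
    · simp only [h0, if_true, if_false] at key hA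
      omega
  · have key := Groth.Agent.H81.LC.plk_opt3 (hZ (Fin.last N)) (hrat _) (D (Fin.last N)) d r (hD _)
      (V (Fin.last N)) (hV _) (hVr _) (A (Fin.last N))
      False False False
      (A (Fin.last N)) (A (Fin.last N)) (A (Fin.last N)) 0 0 0
      (fun h => h.elim) (fun h => h.elim) (fun h => h.elim)
      (fun _ h => h.elim) (fun _ h => h.elim) (fun h _ => h.elim)
    rw [if_neg hT, Nat.mul_zero]
    simp only [if_false] at key
    by_cases h0 : 0 < ((Fin.last N : Fin (N + 1)) : ℕ)
    · simp only [h0, if_true, if_false] at hA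
      omega
    · simp only [h0, if_true, if_false] at hA
      omega

end Groth.Agent.S18179
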