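import Groth.Statements.S18182
import Groth.Agent.H81.TorsionG1

set_option autoImplicit false
open FunFld

namespace Groth.Agent.S18182

open Module WithZero Groth.Agent.H55 in
/-- At most one index with positive value: a sum of `0/1`-bounded terms that is at least `2` has two
distinct positive terms. -/
theorem exists_two_pos (N : ℕ) (ε : ℕ → ℕ) (hε : ∀ n, ε n ≤ 1)
    (h2 : 2 ≤ ∑ n ∈ Finset.range N, ε n) :
    ∃ n1 n2, n1 < n2 ∧ n2 < N ∧ 0 < ε n1 ∧ 0 < ε n2 := by
  classical
  by_contra hcon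
  push Not at hcon
  have h1 : ∑ n ∈ Finset.range N, ε n ≤ ((Finset.range N).filter (fun n => 0 < ε n)).card := by
    rw [Finset.card_filter]
    refine Finset.sum_le_sum (fun n _ => ?_)
    have := hε n
    split_ifs with h
    · exact this
    · omega
  have h3 : ((Finset.range N).filter (fun n => 0 < ε n)).card ≤ 1 := by
    rw [Finset.card_le_one]
    intro a ha b hb
    rw [Finset.mem_filter, Finset.mem_range] at ha hb
    by_contra hab
    rcases lt_or_gt_of_ne hab with hlt | hlt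
    · exact absurd hb.2 (by have := hcon a b hlt hb.1 ha.2; omega)
    · exact absurd ha.2 (by have := hcon b a hlt ha.1 hb.2; omega)
  omega

open Module WithZero Groth.Agent.H55 in
theorem exists_torsion {k K : Type*} [Field k] [IsAlgClosed k] [Field K] [Algebra k K]
    (hK : FunFld.IsFunctionField k K) (P Q : FunFld.Place k K) (hQP : Q ≠ P) (d r : ℕ)
    (D : FunFld.Divisor k K) (V : Submodule k K)
    (hD : D.deg = d) (hV : V ≤ FunFld.L D) (hVr : Module.finrank k ↥V = r + 1)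
    (hW : (r + 1) * d + 1 ≤
        (∑ n ∈ Finset.range d, Module.finrank k ↥(V ⊓ FunFld.L (D - Finsupp.single P ((n : ℤ) + 1)))) +
          (∑ n ∈ Finset.range d, Module.finrank k ↥(V ⊓ FunFld.L (D - Finsupp.single Q ((n : ℤ) + 1)))) + r) :
    ∃ m : ℕ, 1 ≤ m ∧ m ≤ d ∧ ∃ f : K, f ≠ 0 ∧
      f ∈ FunFld.L (Finsupp.single P (m : ℤ) : FunFld.Divisor k K) ∧ Q.1 f ≤ exp (-(m : ℤ)) := by
  classical
  haveI : FiniteDimensional k ↥V := Module.finite_of_finrank_pos (by rw [hVr]; omega)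
  set α : ℕ → ℕ := fun n => finrank k ↥(V ⊓ FunFld.L (D - Finsupp.single P (n : ℤ))) with hα
  set β : ℕ → ℕ := fun n => finrank k ↥(V ⊓ FunFld.L (D - Finsupp.single Q (n : ℤ))) with hβ
  set ε : ℕ → ℕ := fun n =>
    FunFld.ell (D - Finsupp.single P (n : ℤ) - Finsupp.single Q ((d : ℤ) - n)) with hε
  have hdegE : ∀ n : ℕ, (D - Finsupp.single P (n : ℤ) - Finsupp.single Q ((d : ℤ) - n)).deg = 0 := by
    intro n
    rw [deg_sub, deg_sub, deg_single, deg_single, deg_eq_one_of_isAlgClosed hK P,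
      deg_eq_one_of_isAlgClosed hK Q, hD]
    push_cast
    ring
  have hε1 : ∀ n, ε n ≤ 1 := fun n =>
    Groth.Agent.H81.TG1.ell_le_one_of_deg_zero hK _ (hdegE n)
  have hα0 : α 0 = r + 1 := by
    show finrank k ↥(V ⊓ FunFld.L (D - Finsupp.single P ((0 : ℕ) : ℤ))) = r + 1
    rw [Nat.cast_zero, Finsupp.single_zero, sub_zero, inf_eq_left.mpr hV, hVr]
  have hβ0 : β 0 = r + 1 := by
    show finrank k ↥(V ⊓ FunFld.L (D - Finsupp.single Q ((0 : ℕ) : ℤ))) = r + 1
    rw [Nat.cast_zero, Finsupp.single_zero, sub_zero, inf_eq_left.mpr hV, hVr]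
  have hb : ∀ n ∈ Finset.range (d + 1), α n + β (d - n) ≤ (r + 1) + ε n := by
    intro n hn
    rw [Finset.mem_range] at hn
    have h := Groth.Agent.H81.TG1.two_point_eq hK D V (Ne.symm hQP) (n : ℤ) ((d : ℤ) - n)
    rw [hVr] at h
    have e : ((d - n : ℕ) : ℤ) = (d : ℤ) - n := by omega
    show finrank k ↥(V ⊓ FunFld.L (D - Finsupp.single P (n : ℤ))) +
      finrank k ↥(V ⊓ FunFld.L (D - Finsupp.single Q ((d - n : ℕ) : ℤ))) ≤ (r + 1) +
      FunFld.ell (D - Finsupp.single P (n : ℤ) - Finsupp.single Q ((d : ℤ) - n))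
    rw [e]
    exact h
  have hsum := Finset.sum_le_sum hb
  rw [Finset.sum_add_distrib, Finset.sum_add_distrib, Finset.sum_const, Finset.card_range,
    smul_eq_mul] at hsum
  have hrefl : ∑ n ∈ Finset.range (d + 1), β (d - n) = ∑ n ∈ Finset.range (d + 1), β n := by
    have := Finset.sum_range_reflect β (d + 1)
    simpa using this
  rw [hrefl, Finset.sum_range_succ' α, Finset.sum_range_succ' β, hα0, hβ0] at hsum
  have hαs : ∑ n ∈ Finset.range d, α (n + 1) =
      ∑ n ∈ Finset.range d, finrank k ↥(V ⊓ FunFld.L (D - Finsupp.single P ((n : ℤ) + 1))) := by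
    refine Finset.sum_congr rfl (fun n _ => ?_)
    have e : ((n + 1 : ℕ) : ℤ) = (n : ℤ) + 1 := by push_cast; rfl
    show finrank k ↥(V ⊓ FunFld.L (D - Finsupp.single P ((n + 1 : ℕ) : ℤ))) = _
    rw [e]
  have hβs : ∑ n ∈ Finset.range d, β (n + 1) =
      ∑ n ∈ Finset.range d, finrank k ↥(V ⊓ FunFld.L (D - Finsupp.single Q ((n : ℤ) + 1))) := by
    refine Finset.sum_congr rfl (fun n _ => ?_)
    have e : ((n + 1 : ℕ) : ℤ) = (n : ℤ) + 1 := by push_cast; rfl
    show finrank k ↥(V ⊓ FunFld.L (D - Finsupp.single Q ((n + 1 : ℕ) : ℤ))) = _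
    rw [e]
  rw [hαs, hβs] at hsum
  have hexp : (d + 1) * (r + 1) = (r + 1) * d + (r + 1) := by ring
  rw [hexp] at hsum
  have h2 : 2 ≤ ∑ n ∈ Finset.range (d + 1), ε n := by omega
  obtain ⟨n1, n2, h12, hn2, hp1, hp2⟩ := exists_two_pos (d + 1) ε hε1 h2
  obtain ⟨z1, hz1, hdiv1⟩ := Groth.Agent.H81.RR.exists_div_eq_neg hK _ (hdegE n1) hp1
  obtain ⟨z2, hz2, hdiv2⟩ := Groth.Agent.H81.RR.exists_div_eq_neg hK _ (hdegE n2) hp2
  have hf0 : z1 * z2⁻¹ ≠ 0 := mul_ne_zero hz1 (inv_ne_zero hz2)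
  have hdivf : ∀ R : FunFld.Place k K, FunFld.div k (z1 * z2⁻¹) R =
      (Finsupp.single Q ((n2 : ℤ) - n1) : FunFld.Divisor k K) R -
        (Finsupp.single P ((n2 : ℤ) - n1) : FunFld.Divisor k K) R := by
    intro R
    rw [div_mul hK hz1 (inv_ne_zero hz2), div_inv hK, hdiv1, hdiv2]
    simp only [Finsupp.add_apply, Finsupp.neg_apply, Finsupp.sub_apply, Finsupp.single_apply]
    split_ifs <;> ring
  refine ⟨n2 - n1, by omega, by omega, z1 * z2⁻¹, hf0, ?_, ?_⟩
  · refine Groth.Agent.H81.RR.mem_L_of_forall hK _ hf0 (fun R => ?_)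
    rw [hdivf R]
    have e : ((n2 - n1 : ℕ) : ℤ) = (n2 : ℤ) - n1 := by omega
    rw [e]
    simp only [Finsupp.single_apply]
    split_ifs <;> omega
  · rw [pl_val_le_exp_iff Q hf0, ← div_apply hK, hdivf Q, Finsupp.single_eq_same,
      Finsupp.single_eq_of_ne hQP]
    omega


/-- Let `k` be an algebraically closed field of characteristic zero and `K/k` a function field of one
variable (the function field of a smooth projective curve over `k`). A `g^r_d` is a divisor `D` of
degree `d` with a subspace `V ⊆ L(D)` of dimension `r + 1`; for a place `P` and `n ≥ 0`, `V(-nP) = V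
∩ L(D - nP)` is the space of members vanishing to order at least `n` at `P`, so `dim V(-nP)` counts
the vanishing orders `m_0 < ⋯ < m_r` of `V` at `P` that are at least `n`, and the weight of `V` at
`P` is `∑_{n=1}^{d} dim V(-nP) - r(r+1)/2`. Assume `K` has genus one, fix a place `P` and natural
numbers `d` and `r ≥ 1`. Then only finitely many places `Q ≠ P` admit a `g^r_d` `(D, V)` whose
weights at `P` and `Q` are large in the sense `w(V, P) + w(V, Q) ≥ (r+1)(d-r) - (r-1)`, that is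
`(r+1)d + 1 ≤ ∑_{n=1}^{d} dim V(-nP) + ∑_{n=1}^{d} dim V(-nQ) + r`. (In the source `K` is an
elliptic tail of a flag curve degenerating a general curve of genus `g`, `P` its node, `Q` the limit
of a moving ramification point, and the weight hypothesis is what `ρ ≤ 0` gives; the finiteness of
torsion points of bounded order on an elliptic curve is used.) (The source states this for curves
over the complex numbers.) -/
theorem result
    (k : Type*) [Field k] [IsAlgClosed k] [CharZero k]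
    (K : Type*) [Field K] [Algebra k K] (hK : FunFld.IsFunctionField k K) (hg1 : FunFld.genus k K = 1)
    (P : FunFld.Place k K) (d r : ℕ) (hr : 1 ≤ r) :
    Set.Finite {Q : FunFld.Place k K | Q ≠ P ∧ ∃ (D : FunFld.Divisor k K) (V : Submodule k K),
      D.deg = d ∧ V ≤ FunFld.L D ∧ Module.finrank k ↥V = r + 1 ∧
      (r + 1) * d + 1 ≤
        (∑ n ∈ Finset.range d, Module.finrank k ↥(V ⊓ FunFld.L (D - Finsupp.single P ((n : ℤ) + 1)))) +
          (∑ n ∈ Finset.range d, Module.finrank k ↥(V ⊓ FunFld.L (D - Finsupp.single Q ((n : ℤ) + 1)))) + r} := by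
  classical
  have hfin : ∀ m ∈ Finset.Icc 1 d, {Q : FunFld.Place k K | Q ≠ P ∧ ∃ f : K, f ≠ 0 ∧
      f ∈ FunFld.L (Finsupp.single P (m : ℤ) : FunFld.Divisor k K) ∧
      Q.1 f ≤ WithZero.exp (-(m : ℤ))}.Finite := by
    intro m hm
    rw [Finset.mem_Icc] at hm
    exact Groth.Agent.H81.TG1.finite_torsion hK hg1 P m hm.1
  refine (Set.Finite.biUnion (Finset.finite_toSet (Finset.Icc 1 d)) hfin).subset ?_
  rintro Q ⟨hQP, D, V, hD, hV, hVr, hW⟩
  obtain ⟨m, hm1, hmd, f, hf0, hfL, hfv⟩ := exists_torsion hK P Q hQP d r D V hD hV hVr hW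
  rw [Set.mem_iUnion₂]
  exact ⟨m, Finset.mem_coe.2 (Finset.mem_Icc.2 ⟨hm1, hmd⟩), hQP, f, hf0, hfL, hfv⟩

end Groth.Agent.S18182
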