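import Groth.Statements.S18188
import Mathlib

set_option autoImplicit false
universe u
open OrbRR

namespace Groth.Agent.S18188

/-- Let K be a field in which 6 ≠ 0, let j < N be natural numbers (so N ≥ 1), and let ζ ∈ K be a
primitive N-th root of unity. Then the sum over i = 1, …, N − 1 of ζ^{ij} / (2 − ζ^i − ζ^{−i})
equals j(j − N)/2 + (N² − 1)/12. (The published setting is characteristic zero; the identity is
stated here over any field of characteristic different from 2 and 3, where the published proof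
applies unchanged: a field containing a primitive N-th root of unity has characteristic prime to N,
and each denominator 2 − ζ^i − ζ^{−i} = −(1 − ζ^i)²/ζ^i with 0 < i < N is nonzero. In
characteristics 2 and 3 the right-hand side has no meaning.) -/
theorem result (K : Type u) [Field K] (h6 : (6 : K) ≠ 0)
    (N j : ℕ) (hj : j < N) (ζ : K) (hζ : IsPrimitiveRoot ζ N) :
    ∑ i ∈ Finset.Ioo 0 N, ζ ^ (i * j) / (2 - ζ ^ i - (ζ ^ i)⁻¹) =
      (j : K) * ((j : K) - (N : K)) / 2 + ((N : K) ^ 2 - 1) / 12 := by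
  have hNpos : 0 < N := lt_of_le_of_lt (Nat.zero_le _) hj
  have : NeZero N := ⟨hNpos.ne'⟩
  have hN0 : (N : K) ≠ 0 := (hζ.neZero').out
  have h2 : (2 : K) ≠ 0 := fun h => h6 (by rw [show (6:K) = 2 * 3 by norm_num, h, zero_mul])
  have h3 : (3 : K) ≠ 0 := fun h => h6 (by rw [show (6:K) = 2 * 3 by norm_num, h, mul_zero])
  have h12 : (12 : K) ≠ 0 := by
    rw [show (12:K) = 2 * 6 by norm_num]; exact mul_ne_zero h2 h6
  have h4 : (4 : K) ≠ 0 := by
    rw [show (4:K) = 2 * 2 by norm_num]; exact mul_ne_zero h2 h2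
  obtain ⟨c, hc⟩ : ∃ c : ℕ → K, ∀ i, c i = 2 - ζ ^ i - (ζ ^ i)⁻¹ := ⟨_, fun _ => rfl⟩
  obtain ⟨g, hg⟩ : ∃ g : ℕ → K, ∀ j, g j = ∑ i ∈ Finset.Ioo 0 N, ζ ^ (i * j) / c i :=
    ⟨_, fun _ => rfl⟩
  have hz0 : ∀ i : ℕ, ζ ^ i ≠ 0 := fun i => pow_ne_zero _ (hζ.ne_zero hNpos.ne')
  have hz1 : ∀ i ∈ Finset.Ioo 0 N, ζ ^ i ≠ 1 := fun i hi => by
    rw [Finset.mem_Ioo] at hi
    exact hζ.pow_ne_one_of_pos_of_lt hi.1.ne' hi.2
  have hc0 : ∀ i ∈ Finset.Ioo 0 N, c i ≠ 0 := fun i hi h => by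
    have h1 : c i * ζ ^ i = -(1 - ζ ^ i) ^ 2 := by
      rw [hc, sub_mul, sub_mul, inv_mul_cancel₀ (hz0 i)]; ring
    rw [h, zero_mul] at h1
    have h2' : (1 - ζ ^ i) ^ 2 = 0 := by rw [← neg_eq_zero]; exact h1.symm
    have h3' := (pow_eq_zero_iff (two_ne_zero)).mp h2'
    exact hz1 i hi (sub_eq_zero.mp h3').symm
  have hgeom : ∀ x : K, x ≠ 1 → x ^ N = 1 → ∑ i ∈ Finset.range N, x ^ i = 0 := fun x hx hxN => by
    have := geom_sum_mul x N
    rw [hxN, sub_self] at this
    exact (mul_eq_zero.mp this).resolve_right (sub_ne_zero.mpr hx)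
  have hIoo : ∀ F : ℕ → K, ∑ i ∈ Finset.range N, F i = F 0 + ∑ i ∈ Finset.Ioo 0 N, F i :=
    fun F => by
      have : Finset.range N = insert 0 (Finset.Ioo 0 N) := by
        ext i; simp only [Finset.mem_range, Finset.mem_insert, Finset.mem_Ioo]; omega
      rw [this, Finset.sum_insert (by simp)]
  have hpowN : ∀ m : ℕ, (ζ ^ m) ^ N = 1 := fun m => by
    rw [← pow_mul, mul_comm, pow_mul, hζ.pow_eq_one, one_pow]
  have hdiff : ∀ j : ℕ, g (j+2) - 2 * g (j+1) + g j
      = -∑ i ∈ Finset.Ioo 0 N, ζ ^ (i * (j+1)) := fun j => by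
    rw [hg, hg, hg, Finset.mul_sum, ← Finset.sum_sub_distrib, ← Finset.sum_add_distrib,
      ← Finset.sum_neg_distrib]
    refine Finset.sum_congr rfl fun i hi => ?_
    have hci := hc0 i hi
    have key : ζ ^ (i * (j+2)) - 2 * ζ ^ (i * (j+1)) + ζ ^ (i * j) = -(ζ ^ (i*(j+1)) * c i) := by
      have e1 : ζ ^ (i * (j+2)) = ζ ^ (i*(j+1)) * ζ ^ i := by rw [← pow_add]; ring_nf
      have e2 : ζ ^ (i * j) = ζ ^ (i*(j+1)) * (ζ ^ i)⁻¹ := by
        rw [mul_add, mul_one, pow_add, mul_assoc, mul_inv_cancel₀ (hz0 i), mul_one]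
      rw [e1, e2, hc]; ring
    have e : ζ ^ (i * (j+2)) / c i - 2 * (ζ ^ (i * (j+1)) / c i) + ζ ^ (i * j) / c i
        = (ζ ^ (i * (j+2)) - 2 * ζ ^ (i * (j+1)) + ζ ^ (i * j)) / c i := by ring
    rw [e, key, neg_div, mul_div_assoc, div_self hci, mul_one]
  have hsum1 : ∀ m : ℕ, 0 < m → m < N → ∑ i ∈ Finset.Ioo 0 N, ζ ^ (i * m) = -1 :=
    fun m hm0 hmN => by
      have h1 := hgeom (ζ ^ m) (hζ.pow_ne_one_of_pos_of_lt hm0.ne' hmN) (hpowN m)
      rw [hIoo (fun i => (ζ ^ m) ^ i)] at h1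
      simp only [pow_zero] at h1
      have : ∑ i ∈ Finset.Ioo 0 N, ζ ^ (i * m) = ∑ i ∈ Finset.Ioo 0 N, (ζ ^ m) ^ i :=
        Finset.sum_congr rfl fun i _ => by rw [← pow_mul, mul_comm]
      rw [this]; linear_combination h1
  obtain ⟨d, hd⟩ : ∃ d : K, d = g 1 - g 0 := ⟨_, rfl⟩
  have hsol : ∀ j : ℕ, (j ≤ N → g j = g 0 + j * d + (j:K) * ((j:K) - 1) / 2) ∧
      (j + 1 ≤ N → g (j+1) = g 0 + ((j+1 : ℕ) : K) * d + ((j+1 : ℕ):K) * (((j+1 : ℕ):K) - 1) / 2) := by
    intro j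
    induction j with
    | zero =>
      refine ⟨fun _ => by simp, fun _ => ?_⟩
      rw [hd]; simp
    | succ j ih =>
      refine ⟨ih.2, fun hj2 => ?_⟩
      have hA := ih.1 (by omega)
      have hB := ih.2 (by omega)
      have hD := hdiff j
      rw [hsum1 (j+1) (by omega) (by omega)] at hD
      have : g (j + 1 + 1) = 2 * g (j+1) - g j + 1 := by linear_combination hD
      rw [this, hA, hB]
      push_cast
      field_simp
      ring
  have hper : g N = g 0 := by
    rw [hg, hg]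
    refine Finset.sum_congr rfl fun i _ => ?_
    rw [pow_mul', hζ.pow_eq_one, one_pow, mul_zero, pow_zero]
  have hdval : d = -((N:K) - 1) / 2 := by
    have h1 := (hsol N).1 le_rfl
    rw [hper] at h1
    have h2' : (N:K) * (d + ((N:K) - 1) / 2) = 0 := by linear_combination -h1
    have h3' := (mul_eq_zero.mp h2').resolve_left hN0
    linear_combination h3'
  have hsum0 : ∑ j ∈ Finset.range N, g j = 0 := by
    simp only [hg]
    rw [Finset.sum_comm]
    refine Finset.sum_eq_zero fun i hi => ?_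
    rw [← Finset.sum_div]
    have : ∑ j ∈ Finset.range N, ζ ^ (i * j) = 0 := by
      have := hgeom (ζ ^ i) (hz1 i hi) (hpowN i)
      simpa [pow_mul] using this
    rw [this, zero_div]
  have hS1 : ∀ n : ℕ, ∑ j ∈ Finset.range n, (j : K) = (n:K) * ((n:K) - 1) / 2 := by
    intro n
    induction n with
    | zero => simp
    | succ n ih =>
      rw [Finset.sum_range_succ, ih]; push_cast; field_simp; ring
  have hS2 : ∀ n : ℕ, ∑ j ∈ Finset.range n, (j : K) * ((j:K) - 1) / 2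
      = (n:K) * ((n:K) - 1) * ((n:K) - 2) / 6 := by
    intro n
    induction n with
    | zero => simp
    | succ n ih =>
      rw [Finset.sum_range_succ, ih]; push_cast; field_simp; ring
  have hsum' : ∑ j ∈ Finset.range N, g j
      = (N:K) * g 0 + d * ((N:K) * ((N:K) - 1) / 2) + (N:K) * ((N:K) - 1) * ((N:K) - 2) / 6 := by
    have : ∑ j ∈ Finset.range N, g j
        = ∑ j ∈ Finset.range N, (g 0 + (j:K) * d + (j:K) * ((j:K) - 1) / 2) :=
      Finset.sum_congr rfl fun j hj' => (hsol j).1 (Finset.mem_range.mp hj').le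
    rw [this, Finset.sum_add_distrib, Finset.sum_add_distrib, hS2, ← Finset.sum_mul, hS1,
      Finset.sum_const, Finset.card_range, nsmul_eq_mul]
    ring
  have hg0 : g 0 = ((N:K) ^ 2 - 1) / 12 := by
    rw [hsum0, hdval] at hsum'
    field_simp at hsum'
    have h1 : (2:K) * ((N:K) * (12 * g 0 - ((N:K) ^ 2 - 1))) = 0 := by
      linear_combination (-1 : K) * hsum'
    have h1' := (mul_eq_zero.mp ((mul_eq_zero.mp h1).resolve_left h2)).resolve_left hN0
    field_simp
    linear_combination h1'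
  have hfin := (hsol j).1 hj.le
  simp only [← hc]
  rw [← hg j, hfin, hg0, hdval]
  field_simp
  ring

end Groth.Agent.S18188
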