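import Groth.Statements.S18189
import Mathlib
import Groth.Agent.S18188

set_option autoImplicit false
open OrbRR

namespace Groth.Agent.S18189

/-- Let N ≥ 1 be a natural number, let ζ ∈ ℂ be a primitive N-th root of unity, and put f(i) = i(i −
N)/2 + (N² − 1)/12 for 0 ≤ i < N. For every natural number m the complex number ε_m = (1/N)
∑_{i=0}^{N−1} f(i) ζ^{mi}, an eigenvalue of the symmetric circulant N × N matrix with (i, j) entry
f(j − i)/N, is real and nonnegative. -/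
theorem result (N : ℕ) (hN : 0 < N) (ζ : ℂ)
    (hζ : IsPrimitiveRoot ζ N) (m : ℕ) :
    (∑ i ∈ Finset.range N,
        ((i : ℂ) * ((i : ℂ) - (N : ℂ)) / 2 + ((N : ℂ) ^ 2 - 1) / 12) / (N : ℂ) * ζ ^ (m * i)).im = 0 ∧
    0 ≤ (∑ i ∈ Finset.range N,
        ((i : ℂ) * ((i : ℂ) - (N : ℂ)) / 2 + ((N : ℂ) ^ 2 - 1) / 12) / (N : ℂ) * ζ ^ (m * i)).re := by
  have h6 : (6:ℂ) ≠ 0 := by norm_num
  have hN0 : (N:ℂ) ≠ 0 := Nat.cast_ne_zero.mpr hN.ne'
  have hnorm : ∀ l : ℕ, ‖ζ ^ l‖ = 1 := fun l => by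
    rw [norm_pow, hζ.norm'_eq_one hN.ne', one_pow]
  have hcreal : ∀ l : ℕ, (2 - ζ ^ l - (ζ ^ l)⁻¹ : ℂ) = ((2 - 2 * (ζ ^ l).re : ℝ) : ℂ) := fun l => by
    rw [Complex.inv_eq_conj (hnorm l)]
    have := Complex.add_conj (ζ ^ l)
    push_cast at this ⊢
    linear_combination -this
  have hcnn : ∀ l : ℕ, 0 ≤ 2 - 2 * (ζ ^ l).re := fun l => by
    have := Complex.re_le_norm (ζ ^ l); rw [hnorm l] at this; linarith
  have hgeom : ∀ x : ℂ, x ^ N = 1 →
      ∑ i ∈ Finset.range N, x ^ i = if x = 1 then (N:ℂ) else 0 := fun x hx => by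
    split_ifs with h
    · subst h; simp
    · have := geom_sum_mul x N
      rw [hx, sub_self] at this
      exact (mul_eq_zero.mp this).resolve_right (sub_ne_zero.mpr h)
  have key : ∑ i ∈ Finset.range N,
        ((i : ℂ) * ((i : ℂ) - (N : ℂ)) / 2 + ((N : ℂ) ^ 2 - 1) / 12) / (N : ℂ) * ζ ^ (m * i)
      = ((∑ l ∈ Finset.Ioo 0 N,
          if ζ ^ (l+m) = 1 then (2 - 2 * (ζ^l).re)⁻¹ else 0 : ℝ) : ℂ) := by
    calc _ = ∑ i ∈ Finset.range N, (∑ l ∈ Finset.Ioo 0 N,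
              ζ ^ (l * i) / (2 - ζ ^ l - (ζ ^ l)⁻¹)) / (N:ℂ) * ζ ^ (m * i) :=
          Finset.sum_congr rfl fun i hi => by
            rw [Groth.Agent.S18188.result ℂ h6 N i (Finset.mem_range.mp hi) ζ hζ]
      _ = ∑ l ∈ Finset.Ioo 0 N, (2 - ζ ^ l - (ζ ^ l)⁻¹)⁻¹ *
            ((∑ i ∈ Finset.range N, (ζ ^ (l+m)) ^ i) / (N:ℂ)) := by
          simp_rw [Finset.sum_div, Finset.sum_mul]
          rw [Finset.sum_comm]
          refine Finset.sum_congr rfl fun l _ => ?_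
          rw [Finset.mul_sum]
          refine Finset.sum_congr rfl fun i _ => ?_
          rw [← pow_mul, add_mul, pow_add]; ring
      _ = _ := by
          push_cast
          refine Finset.sum_congr rfl fun l _ => ?_
          rw [hgeom _ (by rw [← pow_mul, mul_comm, pow_mul, hζ.pow_eq_one, one_pow]), hcreal l]
          split_ifs with h
          · rw [div_self hN0, mul_one]; push_cast; rfl
          · simp
  rw [key]
  refine ⟨Complex.ofReal_im _, ?_⟩
  rw [Complex.ofReal_re]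
  refine Finset.sum_nonneg fun l _ => ?_
  split_ifs
  · exact inv_nonneg.mpr (hcnn l)
  · exact le_rfl

end Groth.Agent.S18189
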