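import Groth.Statements.S18190
import Mathlib
import Groth.Agent.S18188

set_option autoImplicit false
open OrbRR

namespace Groth.Agent.S18190

/-- Let N ≥ 1 and let f : ℤ/Nℤ → ℚ be f(x) = x(x − N)/2 + (N² − 1)/12, where x is read as its
representative with 0 ≤ x < N. The real N × N matrix indexed by ℤ/Nℤ whose (i, j) entry is f(j −
i)/N, a symmetric circulant matrix, is positive semidefinite. -/
theorem result (N : ℕ) [NeZero N] :
    (Matrix.of fun i j : ZMod N =>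
        ((((j - i).val : ℝ) * (((j - i).val : ℝ) - (N : ℝ))) / 2 + ((N : ℝ) ^ 2 - 1) / 12) / (N : ℝ)).PosSemidef := by
  classical
  have hNne : N ≠ 0 := NeZero.ne N
  obtain ⟨ζ, hζ⟩ : ∃ ζ : ℂ, IsPrimitiveRoot ζ N := ⟨_, Complex.isPrimitiveRoot_exp N hNne⟩
  have h6 : (6:ℂ) ≠ 0 := by norm_num
  have hnorm : ∀ l : ℕ, ‖ζ ^ l‖ = 1 := fun l => by
    rw [norm_pow, hζ.norm'_eq_one hNne, one_pow]
  have hcreal : ∀ l : ℕ, (2 - ζ ^ l - (ζ ^ l)⁻¹ : ℂ) = ((2 - 2 * (ζ ^ l).re : ℝ) : ℂ) := fun l => by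
    rw [Complex.inv_eq_conj (hnorm l)]
    have := Complex.add_conj (ζ ^ l)
    push_cast at this ⊢
    linear_combination -this
  have hcnn : ∀ l : ℕ, 0 ≤ 2 - 2 * (ζ ^ l).re := fun l => by
    have := Complex.re_le_norm (ζ ^ l); rw [hnorm l] at this; linarith
  obtain ⟨w, hwdef⟩ : ∃ w : ℕ → ℝ, ∀ l, w l = (2 - 2 * (ζ ^ l).re)⁻¹ := ⟨_, fun _ => rfl⟩
  have hw : ∀ l, 0 ≤ w l := fun l => by rw [hwdef]; exact inv_nonneg.mpr (hcnn l)
  have hF : ∀ v : ℕ, v < N → ((v:ℝ) * ((v:ℝ) - N) / 2 + ((N:ℝ)^2 - 1)/12)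
      = ∑ l ∈ Finset.Ioo 0 N, w l * (ζ ^ (l * v)).re := fun v hv => by
    have h := Groth.Agent.S18188.result ℂ h6 N v hv ζ hζ
    have h2 := congrArg Complex.re h
    rw [Complex.re_sum] at h2
    have e : ((v : ℂ) * ((v : ℂ) - (N : ℂ)) / 2 + ((N : ℂ) ^ 2 - 1) / 12)
        = (((v:ℝ) * ((v:ℝ) - N) / 2 + ((N:ℝ)^2 - 1)/12 : ℝ) : ℂ) := by push_cast; ring
    rw [e, Complex.ofReal_re] at h2
    rw [← h2]
    refine Finset.sum_congr rfl fun l _ => ?_
    rw [hcreal l, hwdef, div_eq_mul_inv, ← Complex.ofReal_inv, Complex.re_mul_ofReal, mul_comm]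
  obtain ⟨p, hp⟩ : ∃ p : ℕ → ZMod N → ℝ, ∀ l i, p l i = (ζ ^ (l * i.val)).re := ⟨_, fun _ _ => rfl⟩
  obtain ⟨q, hq⟩ : ∃ q : ℕ → ZMod N → ℝ, ∀ l i, q l i = (ζ ^ (l * i.val)).im := ⟨_, fun _ _ => rfl⟩
  have hkey : ∀ (l : ℕ) (i j : ZMod N),
      (ζ ^ (l * (j - i).val)).re = p l j * p l i + q l j * q l i := fun l i j => by
    have hval : ((j - i).val + i.val) % N = j.val := by rw [← ZMod.val_add, sub_add_cancel]
    have h1 : ζ ^ ((j-i).val + i.val) = ζ ^ j.val := by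
      conv_lhs => rw [← Nat.mod_add_div ((j-i).val + i.val) N, pow_add, pow_mul, hζ.pow_eq_one,
        one_pow, mul_one, hval]
    have h2 : ζ ^ (l * (j-i).val) * ζ ^ (l * i.val) = ζ ^ (l * j.val) := by
      rw [← pow_add, ← mul_add, mul_comm l, pow_mul, h1, ← pow_mul, mul_comm]
    have hne : ζ ^ (l * i.val) ≠ 0 := fun h0 => by
      have := hnorm (l * i.val); rw [h0, norm_zero] at this; exact zero_ne_one this
    have h3 : ζ ^ (l * (j-i).val) = ζ ^ (l * j.val) * (starRingEnd ℂ) (ζ ^ (l * i.val)) := by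
      rw [← Complex.inv_eq_conj (hnorm _), ← h2, mul_assoc, mul_inv_cancel₀ hne, mul_one]
    rw [h3, Complex.mul_re, Complex.conj_re, Complex.conj_im, hp, hp, hq, hq]
    ring
  have hM : (Matrix.of fun i j : ZMod N =>
        ((((j - i).val : ℝ) * (((j - i).val : ℝ) - (N : ℝ))) / 2 + ((N : ℝ) ^ 2 - 1) / 12) / (N : ℝ))
      = ∑ l ∈ Finset.Ioo 0 N, (w l / (N:ℝ)) •
          (Matrix.vecMulVec (p l) (star (p l)) + Matrix.vecMulVec (q l) (star (q l))) := by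
    ext i j
    rw [Matrix.of_apply, hF _ (ZMod.val_lt _), Matrix.sum_apply, Finset.sum_div]
    refine Finset.sum_congr rfl fun l _ => ?_
    rw [hkey l i j]
    simp only [Matrix.smul_apply, Matrix.add_apply, Matrix.vecMulVec_apply, Pi.star_apply,
      star_trivial, smul_eq_mul]
    ring
  rw [hM]
  refine Matrix.posSemidef_sum _ fun l _ => ?_
  refine Matrix.PosSemidef.smul ?_ (div_nonneg (hw l) (Nat.cast_nonneg N))
  exact (Matrix.posSemidef_vecMulVec_self_star _).add (Matrix.posSemidef_vecMulVec_self_star _)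

end Groth.Agent.S18190
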