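import Groth.Statements.S18194
import Mathlib
import Groth.Agent.H89.LocImm10

set_option autoImplicit false
universe u
open LocImm

namespace Groth.Agent.S18194

open CategoryTheory AlgebraicGeometry in
/-- Let `X, Y₁, Y₂` be Noetherian schemes, `f_i : X ⟶ Y_i` separated localizing immersions (localizing
and injective on points) and `g : Y₁ ⟶ Y₂` a separated morphism essentially of finite type with `f₁
≫ g = f₂`. Then there is an open `U ⊆ Y₁` containing the image of `f₁` such that the restriction `U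
⟶ Y₂` of `g` is a localizing immersion. -/
theorem result {X Y₁ Y₂ : Scheme.{u}} [IsNoetherian X] [IsNoetherian Y₁] [IsNoetherian Y₂]
    (f₁ : X ⟶ Y₁) (f₂ : X ⟶ Y₂) (g : Y₁ ⟶ Y₂) (hf₁ : LocImm.IsLocImmersion f₁) (hf₂ : LocImm.IsLocImmersion f₂)
    [IsSeparated f₁] [IsSeparated f₂] [IsSeparated g] [EssFT.EssFiniteType g] (h : f₁ ≫ g = f₂) :
    ∃ U : Y₁.Opens, Set.range (fun x => f₁ x) ⊆ (U : Set Y₁) ∧ LocImm.IsLocImmersion (U.ι ≫ g) := by
  obtain ⟨Y', k, p, hNY', hk, hs, hl, hq, hc⟩ :=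
    Groth.Agent.H89.LocImmLib.exists_factorization g
  haveI := hNY'
  haveI := hs
  haveI := hl
  have hf₁k : LocImm.IsLocImmersion (f₁ ≫ k) :=
    Groth.Agent.H89.LocImmLib.isLocImmersion_comp f₁ k hf₁ hk
  have hcomm : (f₁ ≫ k) ≫ p = f₂ ≫ 𝟙 Y₂ := by
    rw [Category.assoc, hc, h, Category.comp_id]
  obtain ⟨W, kW, g₁, g₂, hNW, hkW, og₁, og₂, hcc, hk1, hk2, -⟩ :=
    Groth.Agent.H89.LocImmLib.exists_common_open (f₁ ≫ k) f₂ p (𝟙 Y₂) hf₁k hf₂ hcomm
  haveI := og₁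
  haveI := og₂
  let U : Y₁.Opens := k ⁻¹ᵁ g₁.opensRange
  refine ⟨U, ?_, ?_⟩
  · rintro _ ⟨x, rfl⟩
    show k (f₁ x) ∈ g₁.opensRange
    refine ⟨kW x, ?_⟩
    rw [← Scheme.Hom.comp_apply, hk1, Scheme.Hom.comp_apply]
  · have hr : Set.range (U.ι ≫ k) ⊆ Set.range g₁ := by
      rintro _ ⟨u, rfl⟩
      rw [Scheme.Hom.comp_apply]
      exact Groth.Agent.H89.LocImmLib.ι_mem U u
    let l : U.toScheme ⟶ W := IsOpenImmersion.lift g₁ (U.ι ≫ k) hr
    have hl1 : l ≫ g₁ = U.ι ≫ k := IsOpenImmersion.lift_fac _ _ _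
    have hlloc : LocImm.IsLocImmersion l := by
      apply Groth.Agent.H89.LocImmLib.isLocImmersion_of_comp_isOpenImmersion l g₁
      rw [hl1]
      exact Groth.Agent.H89.LocImmLib.isLocImmersion_comp U.ι k
        (Groth.Agent.H89.LocImmLib.isLocImmersion_of_isOpenImmersion U.ι) hk
    have he : U.ι ≫ g = l ≫ g₂ := by
      rw [← hc, ← Category.assoc, ← hl1, Category.assoc, hcc, Category.comp_id]
    rw [he]
    exact Groth.Agent.H89.LocImmLib.isLocImmersion_comp l g₂ hlloc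
      (Groth.Agent.H89.LocImmLib.isLocImmersion_of_isOpenImmersion g₂)

end Groth.Agent.S18194
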