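import Groth.Statements.S18197
import Mathlib
import Groth.Agent.H89.LocImm3
import Groth.Agent.S18207

set_option autoImplicit false
universe u
open LocImm

namespace Groth.Agent.S18197

open CategoryTheory AlgebraicGeometry in
/-- Let `f : X ⟶ Y` be a localizing morphism of Noetherian schemes. Then `f` is injective on points if
and only if `f` is separated and injective on the set of maximal points of `X` (the generic points
of its irreducible components, i.e. the points with no proper generization). -/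
theorem result {X Y : Scheme.{u}} [IsNoetherian X] [IsNoetherian Y] (f : X ⟶ Y) (hf : LocImm.IsLocalizing f) :
    Function.Injective f.base ↔ (IsSeparated f ∧ Set.InjOn (fun x => f x) {x : X | ∀ x' : X, x' ⤳ x → x' = x}) := by
  constructor
  · intro hinj
    have hmono : Mono f := ((Groth.Agent.S18207.result f).mp ⟨hf, hinj⟩).2
    exact ⟨inferInstance, fun a _ b _ hab => hinj hab⟩
  · rintro ⟨hsep, hinjOn⟩ x₁ x₂ h
    obtain ⟨ξ₁, hξ₁, hmax₁⟩ := Groth.Agent.H89.LocImmLib.exists_maximal_generization x₁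
    obtain ⟨U₁, V₁, hx₁V, e₁, hl₁⟩ := hf x₁
    obtain ⟨U₂, V₂, hx₂V, e₂, hl₂⟩ := hf x₂
    have hξ₁V : ξ₁ ∈ V₁.1 := hξ₁.mem_open V₁.1.2 hx₁V
    have hY : f ξ₁ ⤳ f x₂ := by
      have h0 : f ξ₁ ⤳ f x₁ := hξ₁.map f.continuous
      rw [h] at h0
      exact h0
    obtain ⟨ξ₂, hξ₂V, hfξ, hξ₂⟩ :=
      Groth.Agent.H89.LocImmLib.gen_in_chart f U₂.2 V₂.2 e₂ hl₂ x₂ hx₂V (f ξ₁) hY
    have hmax₂ : ∀ z : X, z ⤳ ξ₂ → z = ξ₂ := by
      intro z hz
      have hzV : z ∈ V₂.1 := hz.mem_open V₂.1.2 hξ₂V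
      have hfz : f z ⤳ f ξ₁ := by
        have h0 : f z ⤳ f ξ₂ := hz.map f.continuous
        rw [hfξ] at h0
        exact h0
      obtain ⟨z', hz'V, hfz', hz'⟩ :=
        Groth.Agent.H89.LocImmLib.gen_in_chart f U₁.2 V₁.2 e₁ hl₁ ξ₁ hξ₁V (f z) hfz
      have hz'ξ : z' = ξ₁ := hmax₁ z' hz'
      have hfzξ : f z = f ξ₂ := by rw [← hfz', hz'ξ, hfξ]
      exact Groth.Agent.H89.LocImmLib.inj_in_chart f U₂.2 V₂.2 e₂ hl₂ z ξ₂ hzV hξ₂V hfzξ
    have hξeq : ξ₂ = ξ₁ := hinjOn hmax₂ hmax₁ hfξ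
    have hξ₂' : ξ₁ ⤳ x₂ := hξeq ▸ hξ₂
    haveI := Groth.Agent.H89.LocImmLib.isIso_stalkMap f hf x₁
    haveI := Groth.Agent.H89.LocImmLib.isIso_stalkMap f hf x₂
    haveI := Groth.Agent.H89.LocImmLib.isIso_stalkMap f hf ξ₁
    exact Groth.Agent.H89.LocImmLib.eq_of_common_generization f x₁ x₂ ξ₁ hξ₁ hξ₂' h

end Groth.Agent.S18197
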