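import Groth.Statements.S18200
import Groth.Agent.S0385
import Groth.Agent.H89.LocImm10
import Groth.Agent.H89.LocImm5

set_option autoImplicit false
universe u
open LocImm

namespace Groth.Agent.S18200

open CategoryTheory AlgebraicGeometry in
/-- Let `f : X ⟶ Y` be a separated morphism of Noetherian schemes that is essentially quasi-finite:
essentially of finite type with every fibre the spectrum of a finite algebra over the residue field
(equivalently, `f` locally quasi-finite in the fibrewise sense, which carries no finite-type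
condition). Then `f` factors as a localizing immersion `i : X ⟶ Z` (localizing and injective on
points, `Z` Noetherian) followed by a finite morphism `h : Z ⟶ Y`. -/
theorem result {X Y : Scheme.{u}} [IsNoetherian X] [IsNoetherian Y] (f : X ⟶ Y) [IsSeparated f] [EssFT.EssFiniteType f] [LocallyQuasiFinite f] :
    ∃ (Z : Scheme.{u}) (i : X ⟶ Z) (h : Z ⟶ Y), IsNoetherian Z ∧ LocImm.IsLocImmersion i ∧ IsFinite h ∧ i ≫ h = f := by
  obtain ⟨Y₁, k, p, hY₁, hk, hpsep, hpft, hpqc, hfac⟩ :=
    Groth.Agent.H89.LocImmLib.exists_factorization f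
  -- the image of `k` lies in the quasi-finite locus of `p`
  have hkQ : ∀ x : X, k x ∈ p.quasiFiniteLocus := by
    intro x
    have hiso : IsIso (k.stalkMap x) := Groth.Agent.H89.LocImmLib.isIso_stalkMap k hk.1 x
    have hfx : (k ≫ p).QuasiFiniteAt x := by
      rw [hfac]; exact f.quasiFiniteAt x
    show p.QuasiFiniteAt (k x)
    have h1 : (k ≫ p).stalkMap x = p.stalkMap (k x) ≫ k.stalkMap x :=
      Scheme.Hom.stalkMap_comp k p x
    unfold Scheme.Hom.QuasiFiniteAt at hfx ⊢
    rw [h1] at hfx
    exact (RingHom.QuasiFinite.respectsIso.cancel_right_isIso (p.stalkMap (k x))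
      (k.stalkMap x)).mp hfx
  let Q : Y₁.Opens := p.quasiFiniteLocus
  have hrange : Set.range k ⊆ Set.range Q.ι := by
    rintro _ ⟨x, rfl⟩
    rw [Scheme.Opens.range_ι]
    exact hkQ x
  let k' : X ⟶ (Q : Scheme.{u}) := IsOpenImmersion.lift Q.ι k hrange
  have hk' : k' ≫ Q.ι = k := IsOpenImmersion.lift_fac _ _ _
  have hk'loc : LocImm.IsLocImmersion k' :=
    Groth.Agent.H89.LocImmLib.isLocImmersion_of_comp_isOpenImmersion k' Q.ι (by rw [hk']; exact hk)
  have hQN : IsNoetherian (Q : Scheme.{u}) :=
    Groth.Agent.H89.LocImmLib.isNoetherian_of_isOpenImmersion Q.ι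
  have hlqf : LocallyQuasiFinite (Q.ι ≫ p) := inferInstance
  obtain ⟨T, j, π, hj, hjc, hπ, hfac'⟩ := Groth.Agent.S0385.result (Q.ι ≫ p)
  have hTN : IsNoetherian T :=
    { toIsLocallyNoetherian := LocallyOfFiniteType.isLocallyNoetherian π
      toCompactSpace := QuasiCompact.compactSpace_of_compactSpace π }
  refine ⟨T, k' ≫ j, π, hTN, ?_, hπ, ?_⟩
  · exact Groth.Agent.H89.LocImmLib.isLocImmersion_comp k' j hk'loc
      (Groth.Agent.H89.LocImmLib.isLocImmersion_of_isOpenImmersion j)
  · rw [Category.assoc, hfac', ← Category.assoc, hk', hfac]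

end Groth.Agent.S18200
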