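import Groth.Statements.S18201
import Mathlib
import Groth.Agent.H89.LocImm11

set_option autoImplicit false
universe u
open LocImm

namespace Groth.Agent.S18201


open Groth.Agent.H89.LocImmLib


open CategoryTheory AlgebraicGeometry in
/-- Let `P` be a property of morphisms of schemes such that (α) for every separated, essentially
finite-type `f : X ⟶ Y` of Noetherian schemes and every localizing immersion `i : W ⟶ X` (`W`
Noetherian; localizing and injective on points), `P f` implies `P (i ≫ f)`; and (β) for every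
separated finite-type `f : X ⟶ Y` of Noetherian schemes, (i) `P f` holds whenever `P` holds for each
composite `Spec O_{X,x} ⟶ X ⟶ Y`, and (ii) the set of `x` for which that composite satisfies `P` is
open. Then (i) and (ii) hold for every separated, essentially finite-type `f : X ⟶ Y` of Noetherian
schemes, and any such `f` with `P f` factors as a localizing immersion `X ⟶ Z` (`Z` Noetherian)
followed by a separated morphism of finite type `h : Z ⟶ Y` satisfying `P`. -/
theorem result (P : MorphismProperty Scheme.{u})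
    (hα : ∀ {W X Y : Scheme.{u}} [IsNoetherian W] [IsNoetherian X] [IsNoetherian Y] (i : W ⟶ X) (f : X ⟶ Y) [IsSeparated f] [EssFT.EssFiniteType f], LocImm.IsLocImmersion i → P f → P (i ≫ f))
    (hβ₁ : ∀ {X Y : Scheme.{u}} [IsNoetherian X] [IsNoetherian Y] (f : X ⟶ Y) [IsSeparated f] [LocallyOfFiniteType f], (∀ x : X, P (X.fromSpecStalk x ≫ f)) → P f)
    (hβ₂ : ∀ {X Y : Scheme.{u}} [IsNoetherian X] [IsNoetherian Y] (f : X ⟶ Y) [IsSeparated f] [LocallyOfFiniteType f], IsOpen {x : X | P (X.fromSpecStalk x ≫ f)})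
    {X Y : Scheme.{u}} [IsNoetherian X] [IsNoetherian Y] (f : X ⟶ Y) [IsSeparated f] [EssFT.EssFiniteType f] :
    ((∀ x : X, P (X.fromSpecStalk x ≫ f)) → P f) ∧ IsOpen {x : X | P (X.fromSpecStalk x ≫ f)} ∧
      (P f → ∃ (Z : Scheme.{u}) (i : X ⟶ Z) (h : Z ⟶ Y), IsNoetherian Z ∧ LocImm.IsLocImmersion i ∧ IsSeparated h ∧ LocallyOfFiniteType h ∧ QuasiCompact h ∧ P h ∧ i ≫ h = f) := by
  obtain ⟨Z₀, k, p, hNZ₀, hk, hs, hl, hq, hc⟩ := exists_factorization f
  haveI := hNZ₀
  haveI := hs
  haveI := hl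
  have hloc_sep : ∀ {Z : Scheme.{u}} (q : Z ⟶ Y) [IsSeparated q] (z : Z),
      IsSeparated (Z.fromSpecStalk z ≫ q) := by
    intro Z q _ z
    haveI := isSeparated_fromSpecStalk Z z
    infer_instance
  have hloc_ess : ∀ {Z : Scheme.{u}} [IsNoetherian Z] (q : Z ⟶ Y)
      (_ : EssFT.LocallyEssFiniteType q) (z : Z), EssFT.EssFiniteType (Z.fromSpecStalk z ≫ q) := by
    intro Z _ q hq z
    exact essFiniteType_of_noetherianSpace _ (locallyEssFiniteType_comp _ _
      (locallyEssFiniteType_of_isLocalizing _ (isLocImmersion_fromSpecStalk Z z).1) hq)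
  have hpess : EssFT.LocallyEssFiniteType p := locallyEssFiniteType_of_locallyOfFiniteType p
  have hfess : EssFT.LocallyEssFiniteType f := inferInstance
  have hiff : ∀ x : X, P (X.fromSpecStalk x ≫ f) ↔ P (Z₀.fromSpecStalk (k x) ≫ p) := by
    intro x
    haveI := isIso_stalkMap k hk.1 x
    have e1 : Spec.map (k.stalkMap x) ≫ Z₀.fromSpecStalk (k x) ≫ p = X.fromSpecStalk x ≫ f := by
      rw [fromSpecStalk_comp_eq, hc]
    constructor
    · intro hP
      haveI := hloc_sep f x
      haveI := hloc_ess f hfess x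
      have h2 := hα (Spec.map (inv (k.stalkMap x))) (X.fromSpecStalk x ≫ f)
        (isLocImmersion_of_isOpenImmersion _) hP
      have e2 : Spec.map (inv (k.stalkMap x)) ≫ X.fromSpecStalk x ≫ f =
          Z₀.fromSpecStalk (k x) ≫ p := by
        rw [← e1, ← Category.assoc, ← Spec.map_comp, IsIso.hom_inv_id, Spec.map_id,
          Category.id_comp]
      rw [e2] at h2
      exact h2
    · intro hP
      haveI := hloc_sep p (k x)
      haveI := hloc_ess p hpess (k x)
      have h2 := hα (Spec.map (k.stalkMap x)) (Z₀.fromSpecStalk (k x) ≫ p)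
        (isLocImmersion_of_isOpenImmersion _) hP
      rw [e1] at h2
      exact h2
  let O : Set Z₀ := {z | P (Z₀.fromSpecStalk z ≫ p)}
  have hO : IsOpen O := hβ₂ p
  have hset : {x : X | P (X.fromSpecStalk x ≫ f)} = k ⁻¹' O := by
    ext x
    exact hiff x
  have hopen : IsOpen {x : X | P (X.fromSpecStalk x ≫ f)} := by
    rw [hset]
    exact hO.preimage k.continuous
  have hfact : (∀ x : X, P (X.fromSpecStalk x ≫ f)) → ∃ (Z : Scheme.{u}) (i : X ⟶ Z)
      (h : Z ⟶ Y), IsNoetherian Z ∧ LocImm.IsLocImmersion i ∧ IsSeparated h ∧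
      LocallyOfFiniteType h ∧ QuasiCompact h ∧ P h ∧ i ≫ h = f := by
    intro hall
    let Oo : Z₀.Opens := ⟨O, hO⟩
    have hr : Set.range k ⊆ Set.range Oo.ι := by
      rintro _ ⟨x, rfl⟩
      rw [Scheme.Opens.range_ι]
      exact (hiff x).mp (hall x)
    let k₁ : X ⟶ Oo.toScheme := IsOpenImmersion.lift Oo.ι k hr
    have hk₁ : k₁ ≫ Oo.ι = k := IsOpenImmersion.lift_fac _ _ _
    haveI hNO : IsNoetherian Oo.toScheme := isNoetherian_of_isOpenImmersion Oo.ι
    have hk₁loc : LocImm.IsLocImmersion k₁ :=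
      isLocImmersion_of_comp_isOpenImmersion k₁ Oo.ι (by rw [hk₁]; exact hk)
    have hPz : ∀ z : Oo.toScheme, P (Oo.toScheme.fromSpecStalk z ≫ Oo.ι ≫ p) := by
      intro z
      have hz : P (Z₀.fromSpecStalk (Oo.ι z) ≫ p) := ι_mem Oo z
      haveI := hloc_sep p (Oo.ι z)
      haveI := hloc_ess p hpess (Oo.ι z)
      have h2 := hα (Spec.map (Oo.ι.stalkMap z)) (Z₀.fromSpecStalk (Oo.ι z) ≫ p)
        (isLocImmersion_of_isOpenImmersion _) hz
      rw [fromSpecStalk_comp_eq] at h2
      exact h2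
    have hPh : P (Oo.ι ≫ p) := hβ₁ (Oo.ι ≫ p) hPz
    refine ⟨Oo.toScheme, k₁, Oo.ι ≫ p, hNO, hk₁loc, inferInstance, inferInstance,
      inferInstance, hPh, ?_⟩
    rw [← Category.assoc, hk₁, hc]
  refine ⟨?_, hopen, ?_⟩
  · intro hall
    obtain ⟨Z, i, h, hNZ, hi, hsh, hlh, hqh, hPh, hih⟩ := hfact hall
    haveI := hNZ
    haveI := hsh
    haveI := hlh
    haveI : EssFT.EssFiniteType h :=
      essFiniteType_of_noetherianSpace h (locallyEssFiniteType_of_locallyOfFiniteType h)
    have h3 := hα i h hi hPh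
    rw [hih] at h3
    exact h3
  · intro hPf
    apply hfact
    intro x
    exact hα (X.fromSpecStalk x) f (isLocImmersion_fromSpecStalk X x) hPf

end Groth.Agent.S18201
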