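import Groth.Statements.S18204
import Mathlib
import Groth.Agent.H89.LocImm
import Groth.Agent.S18207

set_option autoImplicit false
universe u
open LocImm

namespace Groth.Agent.S18204

open CategoryTheory AlgebraicGeometry in
/-- A localizing immersion (localizing and injective on points) of Noetherian schemes which is locally
of finite type is an open immersion. -/
theorem result {X Y : Scheme.{u}} [IsNoetherian X] [IsNoetherian Y]
    (f : X ⟶ Y) (hf : LocImm.IsLocImmersion f) [LocallyOfFiniteType f] : IsOpenImmersion f := by
  have hmono : Mono f := ((Groth.Agent.S18207.result f).mp hf).2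
  have hlfp : LocallyOfFinitePresentation f :=
    LocallyOfFinitePresentation.iff_locallyOfFiniteType.mpr inferInstance
  have hflat : Flat f := by
    rw [Flat.iff_flat_stalkMap]
    intro x
    have := Groth.Agent.H89.LocImmLib.isIso_stalkMap f hf.1 x
    exact RingHom.Flat.of_bijective (ConcreteCategory.bijective_of_isIso (f.stalkMap x))
  exact IsOpenImmersion.of_flat_of_mono f

end Groth.Agent.S18204
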