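import Groth.Statements.S18206
import Mathlib
import Groth.Agent.H89.LocImm2

set_option autoImplicit false
universe u
open LocImm

namespace Groth.Agent.S18206

open CategoryTheory AlgebraicGeometry Limits in
lemma key {X Y : Scheme.{u}} [IsNoetherian X] (f : X ⟶ Y) (I : X.IdealSheafData)
    (W : Y.Opens) (hW : IsAffineOpen W) (V : X.Opens) (hV : IsAffineOpen V) (hVW : V = f ⁻¹ᵁ W)
    (e : V ≤ f ⁻¹ᵁ W) (hloc : LocImm.IsLocHom (f.appLE W V e).hom) :
    I.ideal ⟨V, hV⟩ ≤ ((I.map f).comap f).ideal ⟨V, hV⟩ := by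
  subst hVW
  have hmap : (I.map f).ideal ⟨W, hW⟩ = (I.ideal ⟨f ⁻¹ᵁ W, hV⟩).comap (f.app W).hom :=
    Scheme.IdealSheafData.ideal_map I f ⟨W, hW⟩ hV
  rw [Scheme.Hom.appLE_eq_app] at hloc
  obtain ⟨S, hS⟩ := hloc
  have h1 : Ideal.map (f.app W).hom ((I.ideal ⟨f ⁻¹ᵁ W, hV⟩).comap (f.app W).hom) =
      I.ideal ⟨f ⁻¹ᵁ W, hV⟩ := by
    letI := (f.app W).hom.toAlgebra
    exact IsLocalization.map_under S Γ(X, f ⁻¹ᵁ W) (I.ideal ⟨f ⁻¹ᵁ W, hV⟩)
  have hle : Ideal.map (f.app W).hom ((I.ideal ⟨f ⁻¹ᵁ W, hV⟩).comap (f.app W).hom) ≤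
      ((I.map f).comap f).ideal ⟨f ⁻¹ᵁ W, hV⟩ := by
    rw [Ideal.map_le_iff_le_comap]
    intro a ha
    have ha' : a ∈ (I.map f).ideal ⟨W, hW⟩ := by rw [hmap]; exact ha
    have ha'' : ((I.map f).subschemeι.app W).hom a = 0 := by
      have := (I.map f).ker_subschemeι_app ⟨W, hW⟩
      rw [← this] at ha'
      exact ha'
    have hK : ((I.map f).comap f).ideal ⟨f ⁻¹ᵁ W, hV⟩ =
        RingHom.ker ((pullback.fst f (I.map f).subschemeι).app (f ⁻¹ᵁ W)).hom :=
      Scheme.Hom.ker_apply (pullback.fst f (I.map f).subschemeι) ⟨f ⁻¹ᵁ W, hV⟩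
    show (f.app W).hom a ∈ ((I.map f).comap f).ideal ⟨f ⁻¹ᵁ W, hV⟩
    rw [hK, RingHom.mem_ker]
    have hc := Scheme.Hom.congr_app (pullback.condition (f := f) (g := (I.map f).subschemeι)) W
    have h3 : (pullback.fst f (I.map f).subschemeι ≫ f).app W =
        f.app W ≫ (pullback.fst f (I.map f).subschemeι).app (f ⁻¹ᵁ W) := rfl
    have h4 : (pullback.snd f (I.map f).subschemeι ≫ (I.map f).subschemeι).app W =
        (I.map f).subschemeι.app W ≫
          (pullback.snd f (I.map f).subschemeι).app ((I.map f).subschemeι ⁻¹ᵁ W) := rfl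
    rw [h3, h4] at hc
    have h5 : (f.app W ≫ (pullback.fst f (I.map f).subschemeι).app (f ⁻¹ᵁ W)).hom a = 0 := by
      rw [hc]
      show ((pullback f (I.map f).subschemeι).presheaf.map _).hom
        (((pullback.snd f (I.map f).subschemeι).app ((I.map f).subschemeι ⁻¹ᵁ W)).hom
          (((I.map f).subschemeι.app W).hom a)) = 0
      rw [ha'', map_zero, map_zero]
    exact h5
  intro b hb
  rw [← h1] at hb
  exact hle hb


open CategoryTheory AlgebraicGeometry in
/-- Let `f : X ⟶ Y` be a localizing immersion (localizing and injective on points) of Noetherian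
schemes. Then every quasi-coherent ideal sheaf `I` on `X` is the inverse image ideal `J·O_X` of some
quasi-coherent ideal sheaf `J` on `Y` (all such ideals are coherent, the schemes being Noetherian). -/
theorem result {X Y : Scheme.{u}} [IsNoetherian X] [IsNoetherian Y]
    (f : X ⟶ Y) (hf : LocImm.IsLocImmersion f) (I : X.IdealSheafData) : ∃ J : Y.IdealSheafData, J.comap f = I := by
  classical
  refine ⟨I.map f, le_antisymm (Scheme.IdealSheafData.comap_map_le I f) ?_⟩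
  have hch : ∀ x : X, ∃ (W : Y.Opens) (V' : X.Opens) (_ : IsAffineOpen W) (_ : IsAffineOpen V')
      (_ : f x ∈ W) (_ : W ≤ ⊤) (_ : V' = f ⁻¹ᵁ W) (e' : V' ≤ f ⁻¹ᵁ W),
      LocImm.IsLocHom (f.appLE W V' e').hom :=
    fun x => Groth.Agent.H89.LocImmLib.exists_refined_chart f hf x ⊤ trivial
  choose W V' hW hV' hxW hWtop hVW e' hloc using hch
  refine Scheme.IdealSheafData.le_of_iSup_eq_top (fun x => (⟨V' x, hV' x⟩ : X.affineOpens)) ?_ ?_
  · rw [eq_top_iff]
    intro x _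
    refine TopologicalSpace.Opens.mem_iSup.mpr ⟨x, ?_⟩
    show x ∈ V' x
    rw [hVW x]
    exact hxW x
  · intro x
    exact key f I (W x) (hW x) (V' x) (hV' x) (hVW x) (e' x) (hloc x)

end Groth.Agent.S18206
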