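import Groth.Statements.S18208
import Mathlib
import Groth.Agent.H89.LocImm2

set_option autoImplicit false
universe u
open LocImm

namespace Groth.Agent.S18208

open CategoryTheory AlgebraicGeometry in
/-- A morphism `f : X ⟶ Y` of Noetherian schemes is a localizing immersion (localizing and injective on
points) if and only if every point of `f(X)` has an affine open neighbourhood `V` in `Y` whose
preimage `f⁻¹V` is affine with `Γ(Y, V) → Γ(X, f⁻¹V)` a localizing ring map (its target is the
localization of its source at some submonoid). In particular such an `f` is quasi-affine. -/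
theorem result {X Y : Scheme.{u}} [IsNoetherian X] [IsNoetherian Y] (f : X ⟶ Y) :
    LocImm.IsLocImmersion f ↔ ∀ x : X, ∃ V : Y.Opens, f x ∈ V ∧ IsAffineOpen V ∧ IsAffineOpen (f ⁻¹ᵁ V) ∧ LocImm.IsLocHom (f.app V).hom := by
  constructor
  · intro hf x
    obtain ⟨W, V', hW, hV', hxW, -, heq, e', hl⟩ :=
      Groth.Agent.H89.LocImmLib.exists_refined_chart f hf x ⊤ trivial
    subst heq
    refine ⟨W, hxW, hW, hV', ?_⟩
    rw [Scheme.Hom.app_eq_appLE]
    exact hl
  · intro H
    constructor
    · intro x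
      obtain ⟨V, hxV, hV, hV', hl⟩ := H x
      refine ⟨⟨V, hV⟩, ⟨f ⁻¹ᵁ V, hV'⟩, hxV, le_rfl, ?_⟩
      rw [← Scheme.Hom.app_eq_appLE]
      exact hl
    · intro x₁ x₂ h
      obtain ⟨V, hxV, hV, hV', hl⟩ := H x₁
      have hl' : LocImm.IsLocHom (f.appLE V (f ⁻¹ᵁ V) le_rfl).hom := by
        rw [← Scheme.Hom.app_eq_appLE]
        exact hl
      have hx₂ : x₂ ∈ f ⁻¹ᵁ V := by
        show f x₂ ∈ V
        rw [← h]
        exact hxV
      exact Groth.Agent.H89.LocImmLib.inj_in_chart f hV hV' le_rfl hl' x₁ x₂ hxV hx₂ h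

end Groth.Agent.S18208
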