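import Groth.Statements.S18213
import Mathlib
import Groth.Agent.H89.LocImm11
import Groth.Agent.S0386

set_option autoImplicit false
universe u
open LocImm

namespace Groth.Agent.S18213

open CategoryTheory AlgebraicGeometry Groth.Agent.H89.LocImmLib

/-- flatness is unchanged by postcomposing with an isomorphism. -/
lemma flat_comp_iso_right {R S T : CommRingCat.{u}} (φ : R ⟶ S) (ψ : S ⟶ T) [IsIso ψ] :
    (φ ≫ ψ).hom.Flat ↔ φ.hom.Flat := by
  constructor
  · intro h
    have h2 : ((φ ≫ ψ) ≫ inv ψ).hom.Flat := by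
      rw [CommRingCat.hom_comp]
      exact h.comp (RingHom.Flat.of_bijective
        ((ConcreteCategory.isIso_iff_bijective (inv ψ)).mp inferInstance))
    simpa using h2
  · intro h
    rw [CommRingCat.hom_comp]
    exact h.comp (RingHom.Flat.of_bijective
      ((ConcreteCategory.isIso_iff_bijective ψ).mp inferInstance))

/-- flatness is unchanged by precomposing with an isomorphism. -/
lemma flat_comp_iso_left {R S T : CommRingCat.{u}} (φ : R ⟶ S) (ψ : S ⟶ T) [IsIso φ] :
    (φ ≫ ψ).hom.Flat ↔ ψ.hom.Flat := by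
  constructor
  · intro h
    have h2 : (inv φ ≫ (φ ≫ ψ)).hom.Flat := by
      rw [CommRingCat.hom_comp]
      exact (RingHom.Flat.of_bijective
        ((ConcreteCategory.isIso_iff_bijective (inv φ)).mp inferInstance)).comp h
    simpa using h2
  · intro h
    rw [CommRingCat.hom_comp]
    exact (RingHom.Flat.of_bijective
      ((ConcreteCategory.isIso_iff_bijective φ).mp inferInstance)).comp h

lemma stalk_flat_comp_iff_left {A B C : Scheme.{u}} (h : A ⟶ B) (g : B ⟶ C) (a : A)
    [IsIso (g.stalkMap (h a))] :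
    ((h ≫ g).stalkMap a).hom.Flat ↔ (h.stalkMap a).hom.Flat := by
  rw [Scheme.Hom.stalkMap_comp]
  exact @flat_comp_iso_left _ _ _ _ _ ‹IsIso (g.stalkMap (h a))›

lemma stalk_flat_comp_iff_right {A B C : Scheme.{u}} (h : A ⟶ B) (g : B ⟶ C) (a : A)
    [IsIso (h.stalkMap a)] :
    ((h ≫ g).stalkMap a).hom.Flat ↔ (g.stalkMap (h a)).hom.Flat := by
  rw [Scheme.Hom.stalkMap_comp]
  exact flat_comp_iso_right _ _

/-- `Spec O_{X,x} ⟶ X ⟶ Y` is flat iff the local ring `O_{X,x}` is flat over `O_{Y,f(x)}`. -/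
lemma flat_fromSpecStalk_comp_iff {X Y : Scheme.{u}} (f : X ⟶ Y) (x : X) :
    Flat (X.fromSpecStalk x ≫ f) ↔ (f.stalkMap x).hom.Flat := by
  have hiso : ∀ z, IsIso ((Y.fromSpecStalk (f x)).stalkMap z) :=
    fun z => isIso_stalkMap _ (isLocImmersion_fromSpecStalk Y (f x)).1 z
  have h1 : Flat (X.fromSpecStalk x ≫ f) ↔
      Flat (Spec.map (f.stalkMap x) ≫ Y.fromSpecStalk (f x)) := by
    rw [Scheme.SpecMap_stalkMap_fromSpecStalk]
  have h2 : Flat (Spec.map (f.stalkMap x) ≫ Y.fromSpecStalk (f x)) ↔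
      Flat (Spec.map (f.stalkMap x)) := by
    rw [Flat.iff_flat_stalkMap, Flat.iff_flat_stalkMap]
    refine forall_congr' fun z => ?_
    haveI := hiso ((Spec.map (f.stalkMap x)) z)
    exact stalk_flat_comp_iff_left _ _ z
  exact h1.trans (h2.trans Flat.SpecMap_iff)


open CategoryTheory AlgebraicGeometry in
/-- Let `f : X ⟶ Y` be a separated morphism of Noetherian schemes, essentially of finite type. Then the
set of points `x` for which the composite `Spec O_{X,x} ⟶ X ⟶ Y` is flat is open, and if `f` is flat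
it factors as a localizing immersion `i : X ⟶ Z` (localizing and injective on points, `Z`
Noetherian) followed by a separated flat morphism of finite type `h : Z ⟶ Y`. -/
theorem result {X Y : Scheme.{u}} [IsNoetherian X] [IsNoetherian Y] (f : X ⟶ Y) [IsSeparated f] [EssFT.EssFiniteType f] :
    IsOpen {x : X | Flat (X.fromSpecStalk x ≫ f)} ∧
      (Flat f → ∃ (Z : Scheme.{u}) (i : X ⟶ Z) (h : Z ⟶ Y), IsNoetherian Z ∧ LocImm.IsLocImmersion i ∧ IsSeparated h ∧ LocallyOfFiniteType h ∧ QuasiCompact h ∧ Flat h ∧ i ≫ h = f) := by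
  obtain ⟨W, k, p, hW, hk, hpsep, hpft, hpqc, hkp⟩ := exists_factorization f
  subst hkp
  have hkiso : ∀ x, IsIso (k.stalkMap x) := fun x => isIso_stalkMap k hk.1 x
  have hopen : IsOpen {w : W | (p.stalkMap w).hom.Flat} := Groth.Agent.S0386.result p
  have key : ∀ x : X, Flat (X.fromSpecStalk x ≫ k ≫ p) ↔ (p.stalkMap (k x)).hom.Flat := by
    intro x
    haveI := hkiso x
    exact (flat_fromSpecStalk_comp_iff (k ≫ p) x).trans (stalk_flat_comp_iff_right k p x)
  refine ⟨?_, ?_⟩
  · have hset : {x : X | Flat (X.fromSpecStalk x ≫ k ≫ p)} =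
        (fun x => k x) ⁻¹' {w : W | (p.stalkMap w).hom.Flat} := by
      ext x
      exact key x
    rw [hset]
    exact hopen.preimage k.continuous
  · intro hf
    let W' : W.Opens := ⟨{w : W | (p.stalkMap w).hom.Flat}, hopen⟩
    have hkW' : ∀ x : X, k x ∈ W' := by
      intro x
      haveI := hkiso x
      show (p.stalkMap (k x)).hom.Flat
      exact (stalk_flat_comp_iff_right k p x).mp (Flat.stalkMap (k ≫ p) x)
    have hrange : Set.range k ⊆ Set.range W'.ι := by
      rintro _ ⟨x, rfl⟩
      rw [Scheme.Opens.range_ι]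
      exact hkW' x
    let k' : X ⟶ W'.toScheme := IsOpenImmersion.lift W'.ι k hrange
    have hk' : k' ≫ W'.ι = k := IsOpenImmersion.lift_fac _ _ _
    haveI : IsNoetherian W'.toScheme := isNoetherian_of_isOpenImmersion W'.ι
    have hflat : Flat (W'.ι ≫ p) := by
      apply Flat.of_stalkMap
      intro w
      rw [stalk_flat_comp_iff_right W'.ι p w]
      have hmem : W'.ι w ∈ W' := ι_mem W' w
      exact hmem
    have hloc : LocImm.IsLocImmersion k' := by
      apply isLocImmersion_of_comp_isOpenImmersion k' W'.ι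
      rw [hk']
      exact hk
    refine ⟨W'.toScheme, k', W'.ι ≫ p, inferInstance, hloc, inferInstance, inferInstance,
      inferInstance, hflat, ?_⟩
    rw [← Category.assoc, hk']

end Groth.Agent.S18213
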