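import Groth.Statements.S18234
import Groth.Agent.S18232

set_option autoImplicit false
universe u
open CategoryTheory MonoidalCategory CartesianMonoidalCategory AlgebraicGeometry Opposite
open Magnet

namespace Groth.Agent.S18234

/-- Let S be a scheme, M a finitely generated abelian group, N a submonoid of M, X and Y schemes over S
with actions of the diagonalizable group scheme D(M)_S, and f : X → Y a formally unramified
equivariant S-morphism. If the attractors X^N and Y^N are represented by S-schemes Z_X and Z_Y, and
j : Z_X → Z_Y is the S-morphism that corresponds to f^N under the two representing bijections, then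
j is formally unramified. (Stated for schemes; the published statement is for algebraic spaces over
S.) -/
theorem result (S : Scheme.{u}) (M : Type) [AddCommGroup M]
    [AddGroup.FG M] (N : AddSubmonoid M) {X Y : Over S} (aX : Magnet.MonAct (Magnet.AMonS S M) X)
    (aY : Magnet.MonAct (Magnet.AMonS S M) Y) (f : X ⟶ Y) (hf : Magnet.MonAct.IsEquivariant aX aY f)
    [FormallyUnramified f.left] {ZX ZY : Over S} (eX : (Magnet.attr aX N).RepresentableBy ZX) (eY : (Magnet.attr aY N).RepresentableBy ZY)
    (j : ZX ⟶ ZY) (hj : ∀ (T : Over S) (z : T ⟶ ZX),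
      eY.homEquiv (z ≫ j) = (Magnet.MonAct.eqvHom.postcomp (Magnet.subAct S M N) f hf).app (op T) (eX.homEquiv z)) :
    FormallyUnramified j.left := by
  refine FormallyUnramified.of_hom_ext j.left fun R S' φ hφ hker g₁ g₂ hg hgj => ?_
  -- structure map
  have hstr : g₂ ≫ ZX.hom = g₁ ≫ ZX.hom := by
    rw [← Over.w j, ← Category.assoc, ← Category.assoc, hgj]
  let K : Ideal R := RingHom.ker φ.hom
  let str : Spec (CommRingCat.of R) ⟶ S := g₁ ≫ ZX.hom
  let z₁ : Over.mk str ⟶ ZX := Over.homMk g₁ rfl
  let z₂ : Over.mk str ⟶ ZX := Over.homMk g₂ hstr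
  let t : Over.mk (Spec.map (CommRingCat.ofHom (Ideal.Quotient.mk K)) ≫ str) ⟶ Over.mk str :=
    Over.homMk (Spec.map (CommRingCat.ofHom (Ideal.Quotient.mk K))) rfl
  -- the quotient map factors through φ
  have hfac : Spec.map (CommRingCat.ofHom (Ideal.Quotient.mk K)) ≫ g₁ =
      Spec.map (CommRingCat.ofHom (Ideal.Quotient.mk K)) ≫ g₂ := by
    let e : S' ⟶ CommRingCat.of (R ⧸ K) :=
      CommRingCat.ofHom (RingHom.quotientKerEquivOfSurjective hφ).symm.toRingHom
    have he : CommRingCat.ofHom (Ideal.Quotient.mk K) = φ ≫ e := by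
      ext x
      simp only [CommRingCat.hom_ofHom, CommRingCat.hom_comp, RingHom.coe_comp, Function.comp_apply, e]
      apply (RingHom.quotientKerEquivOfSurjective hφ).injective
      simp [K]
    rw [he, Spec.map_comp, Category.assoc, Category.assoc, hg]
  have htz : t ≫ z₁ = t ≫ z₂ := by
    apply Over.OverMorphism.ext
    exact hfac
  have hzj : z₁ ≫ j = z₂ ≫ j := by
    apply Over.OverMorphism.ext
    exact hgj
  have key := Groth.Agent.S18232.result S M N aX aY f hf R K hker str
    (eX.homEquiv z₁) (eX.homEquiv z₂)
    (by rw [← eX.homEquiv_comp, ← eX.homEquiv_comp, htz])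
    (by rw [← hj, ← hj, hzj])
  have hz : z₁ = z₂ := eX.homEquiv.injective key
  exact congrArg CommaMorphism.left hz

end Groth.Agent.S18234
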