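import Groth.Statements.S18248
import Mathlib

set_option autoImplicit false
universe u
open W4c5m1nsnscurves
open Curves

namespace Groth.Agent.S18248

open MvPolynomial

noncomputable section

section Rels
variable (R : Type u) [CommRing R] (m : ℕ)

lemma rel_lin (i j : Fin m) (h : i ≠ j) :
    ugen R m (.cij i j h) + ugen R m (.cij j i h.symm) =
      ugen R m .a + ugen R m (.ci i) + ugen R m (.cbi i) + ugen R m (.ci j) + ugen R m (.cbi j) := by
  have hmem : (X (.cij i j h) + X (.cij j i (Ne.symm h)) -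
      (X .a + X (.ci i) + X (.cbi i) + X (.ci j) + X (.cbi j)) : MvPolynomial (UGen m) R)
        ∈ URel R m :=
    Or.inl (Or.inl (Or.inl ⟨⟨(i, j), h⟩, rfl⟩))
  have h2 := Ideal.Quotient.eq_zero_iff_mem.mpr (Ideal.subset_span hmem)
  rw [map_sub, sub_eq_zero] at h2
  simp only [map_add] at h2
  exact h2

lemma rel_c (i j : Fin m) (h : i ≠ j) :
    ugen R m .c = ugen R m (.cij j i h.symm) * ugen R m (.ci j)
      + ugen R m (.cij i j h) * ugen R m (.ci i) - ugen R m (.ci i) * ugen R m (.ci j) := by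
  have hmem : (X (.cij j i (Ne.symm h)) * X (.ci j) + X (.cij i j h) * X (.ci i) -
      X (.ci i) * X (.ci j) - X .c : MvPolynomial (UGen m) R) ∈ URel R m :=
    Or.inl (Or.inl (Or.inr ⟨⟨(i, j), h⟩, rfl⟩))
  have h2 := Ideal.Quotient.eq_zero_iff_mem.mpr (Ideal.subset_span hmem)
  simp only [map_sub, map_add, map_mul] at h2
  have h3 : ugen R m (.cij j i h.symm) * ugen R m (.ci j)
      + ugen R m (.cij i j h) * ugen R m (.ci i) - ugen R m (.ci i) * ugen R m (.ci j)
      - ugen R m .c = 0 := h2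
  linear_combination (-1 : URing R m) * h3

lemma rel_cb (i j : Fin m) (h : i ≠ j) :
    ugen R m .cb = ugen R m (.cij j i h.symm) * ugen R m (.cbi i)
      + ugen R m (.cij i j h) * ugen R m (.cbi j) - ugen R m (.cbi i) * ugen R m (.cbi j) := by
  have hmem : (X (.cij j i (Ne.symm h)) * X (.cbi i) + X (.cij i j h) * X (.cbi j) -
      X (.cbi i) * X (.cbi j) - X .cb : MvPolynomial (UGen m) R) ∈ URel R m :=
    Or.inl (Or.inr ⟨⟨(i, j), h⟩, rfl⟩)
  have h2 := Ideal.Quotient.eq_zero_iff_mem.mpr (Ideal.subset_span hmem)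
  simp only [map_sub, map_add, map_mul] at h2
  have h3 : ugen R m (.cij j i h.symm) * ugen R m (.cbi i)
      + ugen R m (.cij i j h) * ugen R m (.cbi j) - ugen R m (.cbi i) * ugen R m (.cbi j)
      - ugen R m .cb = 0 := h2
  linear_combination (-1 : URing R m) * h3

end Rels

/-! ### Part 2: generation by weight-one classes -/

lemma subalgebra_eq_top (m : ℕ) (hm : 2 ≤ m) (A : Subalgebra ℤ (URing ℤ m))
    (ha : ugen ℤ m .a ∈ A) (hci : ∀ i, ugen ℤ m (.ci i) ∈ A) (hcbi : ∀ i, ugen ℤ m (.cbi i) ∈ A)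
    (hcij : ∀ (i j : Fin m) (h : i < j), ugen ℤ m (.cij i j (ne_of_lt h)) ∈ A) : A = ⊤ := by
  have hcij' : ∀ (i j : Fin m) (h : i ≠ j), ugen ℤ m (.cij i j h) ∈ A := by
    intro i j h
    rcases lt_or_gt_of_ne h with hlt | hgt
    · exact hcij i j hlt
    · have e : ugen ℤ m (.cij i j h) = ugen ℤ m .a + ugen ℤ m (.ci j) + ugen ℤ m (.cbi j)
          + ugen ℤ m (.ci i) + ugen ℤ m (.cbi i) - ugen ℤ m (.cij j i h.symm) := by
        linear_combination rel_lin ℤ m j i h.symm
      rw [e]
      exact A.sub_mem (A.add_mem (A.add_mem (A.add_mem (A.add_mem ha (hci j)) (hcbi j)) (hci i))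
        (hcbi i)) (hcij j i hgt)
  have h01 : (⟨0, by omega⟩ : Fin m) ≠ ⟨1, by omega⟩ := by
    intro e
    exact absurd (congrArg Fin.val e) (by norm_num)
  have hc : ugen ℤ m .c ∈ A := by
    rw [rel_c ℤ m _ _ h01]
    exact A.sub_mem (A.add_mem (A.mul_mem (hcij' _ _ _) (hci _)) (A.mul_mem (hcij' _ _ _) (hci _)))
      (A.mul_mem (hci _) (hci _))
  have hcb : ugen ℤ m .cb ∈ A := by
    rw [rel_cb ℤ m _ _ h01]
    exact A.sub_mem (A.add_mem (A.mul_mem (hcij' _ _ _) (hcbi _))
      (A.mul_mem (hcij' _ _ _) (hcbi _))) (A.mul_mem (hcbi _) (hcbi _))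
  have hgen : ∀ g, ugen ℤ m g ∈ A := by
    intro g
    cases g with
    | a => exact ha
    | c => exact hc
    | cb => exact hcb
    | ci i => exact hci i
    | cbi i => exact hcbi i
    | cij i j h => exact hcij' i j h
  rw [eq_top_iff]
  rintro x -
  obtain ⟨p, rfl⟩ := Ideal.Quotient.mk_surjective x
  induction p using MvPolynomial.induction_on with
  | C r =>
    rw [show (C r : MvPolynomial (UGen m) ℤ) = (r : MvPolynomial (UGen m) ℤ) from eq_intCast C r,
      map_intCast]
    exact intCast_mem A r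
  | add p q hp hq => rw [map_add]; exact A.add_mem hp hq
  | mul_X p g hp => rw [map_mul]; exact A.mul_mem hp (hgen g)

/-! ### Part 1: the cotangent space -/

section Cot

/-- index set of the basis: `a`, `c_i`, `c̄_i`, `c_{ij}` with `i < j` (encoded as `⟨j, i⟩`). -/
abbrev T (m : ℕ) : Type := Option (Fin m ⊕ Fin m ⊕ (Σ j : Fin m, Fin (j : ℕ)))

lemma card_T (m : ℕ) : Fintype.card (T m) = (m + 2) * (m + 1) / 2 := by
  have h0 : Fintype.card (T m) = m + (m + ∑ j : Fin m, (j : ℕ)) + 1 := by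
    simp [T, Fintype.card_option, Fintype.card_sum, Fintype.card_sigma]
  have h1 : ∑ j : Fin m, (j : ℕ) = ∑ i ∈ Finset.range m, i :=
    Fin.sum_univ_eq_sum_range (fun i => i) m
  have h2 := Finset.sum_range_id_mul_two m
  have h3 : m * (m - 1) = m * m - m := Nat.mul_sub_one m m
  have h4 := Nat.le_mul_self m
  have h5 : (m + 2) * (m + 1) = m * m + 3 * m + 2 := by ring
  rw [h0, h1, h5]
  omega

def tgen (m : ℕ) : T m → UGen m
  | none => .a
  | some (.inl i) => .ci i
  | some (.inr (.inl i)) => .cbi i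
  | some (.inr (.inr ⟨j, i⟩)) => .cij ⟨i.val, i.2.trans j.2⟩ j
      (fun e => absurd (congrArg Fin.val e) (ne_of_lt i.2))

variable (k : Type u) [Field k] (m : ℕ)

def vec : UGen m → (T m → k)
  | .a => Pi.single none 1
  | .c => 0
  | .cb => 0
  | .ci i => Pi.single (some (.inl i)) 1
  | .cbi i => Pi.single (some (.inr (.inl i))) 1
  | .cij i j _ =>
      if hij : i < j then Pi.single (some (.inr (.inr ⟨j, ⟨i.val, hij⟩⟩))) 1
      else if hji : j < i then
        Pi.single none 1 + Pi.single (some (.inl i)) 1 + Pi.single (some (.inr (.inl i))) 1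
          + Pi.single (some (.inl j)) 1 + Pi.single (some (.inr (.inl j))) 1
          - Pi.single (some (.inr (.inr ⟨i, ⟨j.val, hji⟩⟩))) 1
      else 0

lemma vec_lin (i j : Fin m) (h : i ≠ j) :
    vec k m (.cij i j h) + vec k m (.cij j i h.symm) =
      vec k m .a + vec k m (.ci i) + vec k m (.cbi i) + vec k m (.ci j) + vec k m (.cbi j) := by
  rcases lt_or_gt_of_ne h with hlt | hgt
  · have hn : ¬ j < i := lt_asymm hlt
    simp only [vec, dif_pos hlt, dif_neg hn]
    abel
  · have hn : ¬ i < j := lt_asymm hgt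
    simp only [vec, dif_pos hgt, dif_neg hn]
    abel

lemma vec_tgen (t : T m) : vec k m (tgen m t) = Pi.single t 1 := by
  rcases t with _ | (i | (i | ⟨j, i⟩))
  · rfl
  · rfl
  · rfl
  · have hlt : (⟨i.val, i.2.trans j.2⟩ : Fin m) < j := i.2
    simp only [tgen, vec, dif_pos hlt]

def Φ0 : MvPolynomial (UGen m) k →ₐ[k] TrivSqZeroExt k (T m → k) :=
  aeval (fun g => TrivSqZeroExt.inr (vec k m g))

lemma Φ0_rel (p : MvPolynomial (UGen m) k) (hp : p ∈ URel k m) : Φ0 k m p = 0 := by
  have hc : vec k m .c = 0 := rfl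
  have hcb : vec k m .cb = 0 := rfl
  simp only [URel, Set.mem_union, Set.mem_range] at hp
  rcases hp with ((⟨q, rfl⟩ | ⟨q, rfl⟩) | ⟨q, rfl⟩) | ⟨q, rfl⟩
  · simp only [Φ0, map_sub, map_add, aeval_X, ← TrivSqZeroExt.inr_add]
    rw [vec_lin k m q.1.1 q.1.2 q.2, sub_self]
  · simp only [Φ0, map_sub, map_add, map_mul, aeval_X, TrivSqZeroExt.inr_mul_inr, hc,
      TrivSqZeroExt.inr_zero]
    simp
  · simp only [Φ0, map_sub, map_add, map_mul, aeval_X, TrivSqZeroExt.inr_mul_inr, hcb,
      TrivSqZeroExt.inr_zero]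
    simp
  · simp only [Φ0, map_sub, map_add, map_mul, aeval_X, add_mul, TrivSqZeroExt.inr_mul_inr, hc,
      TrivSqZeroExt.inr_zero]
    simp

def Φ : URing k m →ₐ[k] TrivSqZeroExt k (T m → k) :=
  Ideal.Quotient.liftₐ (Ideal.span (URel k m)) (Φ0 k m) (fun p hp => by
    have : Ideal.span (URel k m) ≤
        RingHom.ker (Φ0 k m : MvPolynomial (UGen m) k →+* TrivSqZeroExt k (T m → k)) :=
      Ideal.span_le.mpr (fun p hp => RingHom.mem_ker.mpr (Φ0_rel k m p hp))
    exact RingHom.mem_ker.mp (this hp))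

lemma Φ_ugen (g : UGen m) : Φ k m (ugen k m g) = TrivSqZeroExt.inr (vec k m g) := by
  show Φ0 k m (X g) = _
  unfold Φ0
  rw [aeval_X]

lemma ugen_mem (g : UGen m) : ugen k m g ∈ uorigin k m := Ideal.subset_span ⟨g, rfl⟩

lemma Φ_fst (x : URing k m) (hx : x ∈ uorigin k m) : (Φ k m x).fst = 0 := by
  unfold uorigin at hx
  induction hx using Submodule.span_induction with
  | mem y hy => obtain ⟨g, rfl⟩ := hy; rw [Φ_ugen]; exact TrivSqZeroExt.fst_inr _ _
  | zero => simp
  | add x y _ _ hx hy => rw [map_add, TrivSqZeroExt.fst_add, hx, hy, add_zero]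
  | smul r x _ hx => rw [smul_eq_mul, map_mul, TrivSqZeroExt.fst_mul, hx, mul_zero]

def f : ↥(uorigin k m) →ₗ[k] (T m → k) where
  toFun x := (Φ k m (x : URing k m)).snd
  map_add' x y := by simp
  map_smul' c x := by simp

lemma f_mul (x y : ↥(uorigin k m)) : f k m (x * y) = 0 := by
  show (Φ k m ((x * y : ↥(uorigin k m)) : URing k m)).snd = 0
  have : ((x * y : ↥(uorigin k m)) : URing k m) = (x : URing k m) * (y : URing k m) := rfl
  rw [this, map_mul, TrivSqZeroExt.snd_mul, Φ_fst k m x x.2, Φ_fst k m y y.2]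
  simp

def Ψ : (uorigin k m).Cotangent →ₗ[k] (T m → k) := Ideal.Cotangent.lift (f k m) (f_mul k m)

def bgen (g : UGen m) : ↥(uorigin k m) := ⟨ugen k m g, ugen_mem k m g⟩

def cls (g : UGen m) : (uorigin k m).Cotangent := (uorigin k m).toCotangent (bgen k m g)

lemma Ψ_cls (g : UGen m) : Ψ k m (cls k m g) = vec k m g := by
  unfold Ψ cls
  rw [Ideal.Cotangent.lift_toCotangent]
  show (Φ k m (ugen k m g)).snd = _
  rw [Φ_ugen, TrivSqZeroExt.snd_inr]

def b (t : T m) : (uorigin k m).Cotangent := cls k m (tgen m t)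

lemma li : LinearIndependent k (b k m) := by
  apply LinearIndependent.of_comp (Ψ k m)
  have h1 : (Ψ k m) ∘ (b k m) = fun t => Pi.single t (1 : k) := by
    funext t
    show Ψ k m (cls k m (tgen m t)) = _
    rw [Ψ_cls, vec_tgen]
  have hb : ⇑(Pi.basisFun k (T m)) = fun t => Pi.single t (1 : k) := by
    funext t
    exact Pi.basisFun_apply k (T m) t
  rw [h1, ← hb]
  exact (Pi.basisFun k (T m)).linearIndependent

lemma cls_c (hm : 2 ≤ m) : cls k m .c = 0 := by
  have h01 : (⟨0, by omega⟩ : Fin m) ≠ ⟨1, by omega⟩ := by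
    intro e
    exact absurd (congrArg Fin.val e) (by norm_num)
  unfold cls
  rw [Ideal.toCotangent_eq_zero]
  show ugen k m .c ∈ (uorigin k m) ^ 2
  rw [rel_c k m _ _ h01, pow_two]
  exact sub_mem (add_mem (Ideal.mul_mem_mul (ugen_mem k m _) (ugen_mem k m _))
    (Ideal.mul_mem_mul (ugen_mem k m _) (ugen_mem k m _)))
    (Ideal.mul_mem_mul (ugen_mem k m _) (ugen_mem k m _))

lemma cls_cb (hm : 2 ≤ m) : cls k m .cb = 0 := by
  have h01 : (⟨0, by omega⟩ : Fin m) ≠ ⟨1, by omega⟩ := by
    intro e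
    exact absurd (congrArg Fin.val e) (by norm_num)
  unfold cls
  rw [Ideal.toCotangent_eq_zero]
  show ugen k m .cb ∈ (uorigin k m) ^ 2
  rw [rel_cb k m _ _ h01, pow_two]
  exact sub_mem (add_mem (Ideal.mul_mem_mul (ugen_mem k m _) (ugen_mem k m _))
    (Ideal.mul_mem_mul (ugen_mem k m _) (ugen_mem k m _)))
    (Ideal.mul_mem_mul (ugen_mem k m _) (ugen_mem k m _))

lemma cls_lin (i j : Fin m) (h : i ≠ j) :
    cls k m (.cij i j h) = cls k m .a + cls k m (.ci i) + cls k m (.cbi i) + cls k m (.ci j)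
      + cls k m (.cbi j) - cls k m (.cij j i h.symm) := by
  unfold cls
  rw [← map_add, ← map_add, ← map_add, ← map_add, ← map_sub]
  congr 1
  apply Subtype.ext
  show ugen k m (.cij i j h) = ugen k m .a + ugen k m (.ci i) + ugen k m (.cbi i)
    + ugen k m (.ci j) + ugen k m (.cbi j) - ugen k m (.cij j i h.symm)
  linear_combination rel_lin k m i j h

lemma cls_mem_span (hm : 2 ≤ m) (g : UGen m) :
    cls k m g ∈ Submodule.span k (Set.range (b k m)) := by
  have key : ∀ (i j : Fin m) (hlt : i < j),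
      cls k m (.cij i j (ne_of_lt hlt)) ∈ Submodule.span k (Set.range (b k m)) :=
    fun i j hlt => Submodule.subset_span ⟨some (.inr (.inr ⟨j, ⟨i.val, hlt⟩⟩)), rfl⟩
  have ha : cls k m .a ∈ Submodule.span k (Set.range (b k m)) :=
    Submodule.subset_span ⟨none, rfl⟩
  have hci : ∀ i, cls k m (.ci i) ∈ Submodule.span k (Set.range (b k m)) :=
    fun i => Submodule.subset_span ⟨some (.inl i), rfl⟩
  have hcbi : ∀ i, cls k m (.cbi i) ∈ Submodule.span k (Set.range (b k m)) :=
    fun i => Submodule.subset_span ⟨some (.inr (.inl i)), rfl⟩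
  cases g with
  | a => exact ha
  | c => rw [cls_c k m hm]; exact zero_mem _
  | cb => rw [cls_cb k m hm]; exact zero_mem _
  | ci i => exact hci i
  | cbi i => exact hcbi i
  | cij i j h =>
    rcases lt_or_gt_of_ne h with hlt | hgt
    · exact key i j hlt
    · rw [cls_lin k m i j h]
      exact sub_mem (add_mem (add_mem (add_mem (add_mem ha (hci i)) (hcbi i)) (hci j)) (hcbi j))
        (key j i hgt)

lemma exists_const (r : URing k m) :
    ∃ c0 : k, r - algebraMap k (URing k m) c0 ∈ uorigin k m := by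
  obtain ⟨p, rfl⟩ := Ideal.Quotient.mk_surjective r
  induction p using MvPolynomial.induction_on with
  | C c =>
    refine ⟨c, ?_⟩
    have : algebraMap k (URing k m) c = Ideal.Quotient.mk (Ideal.span (URel k m)) (C c) := rfl
    rw [this, sub_self]
    exact zero_mem _
  | add p q hp hq =>
    obtain ⟨c1, h1⟩ := hp
    obtain ⟨c2, h2⟩ := hq
    refine ⟨c1 + c2, ?_⟩
    have h3 := add_mem h1 h2
    rw [map_add, map_add]
    convert h3 using 1
    ring
  | mul_X p g _ =>
    refine ⟨0, ?_⟩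
    rw [map_zero, sub_zero, map_mul]
    exact Ideal.mul_mem_left _ _ (ugen_mem k m g)

lemma smul_mem_S (S : Submodule k (uorigin k m).Cotangent) (r : URing k m)
    (y : (uorigin k m).Cotangent) (hy : y ∈ S) : r • y ∈ S := by
  obtain ⟨c0, hc0⟩ := exists_const k m r
  obtain ⟨z, rfl⟩ := (uorigin k m).toCotangent_surjective y
  have h0 : c0 • (uorigin k m).toCotangent z = (uorigin k m).toCotangent (c0 • z) := rfl
  have h1 : r • (uorigin k m).toCotangent z = c0 • (uorigin k m).toCotangent z := by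
    rw [h0, ← map_smul, Ideal.toCotangent_eq]
    have e1 : ((c0 • z : ↥(uorigin k m)) : URing k m) = algebraMap k (URing k m) c0 * (z : URing k m) :=
      Algebra.smul_def c0 (z : URing k m)
    have e2 : ((r • z : ↥(uorigin k m)) : URing k m) = r * (z : URing k m) := rfl
    rw [e1, e2, ← sub_mul, pow_two]
    exact Ideal.mul_mem_mul hc0 z.2
  rw [h1]
  exact S.smul_mem c0 hy

lemma span_top (hm : 2 ≤ m) : ⊤ ≤ Submodule.span k (Set.range (b k m)) := by
  intro y _
  obtain ⟨⟨x, hx⟩, rfl⟩ := (uorigin k m).toCotangent_surjective y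
  refine Submodule.span_induction
    (p := fun x hx => (uorigin k m).toCotangent ⟨x, hx⟩ ∈ Submodule.span k (Set.range (b k m)))
    ?_ ?_ ?_ ?_ hx
  · intro y hy
    obtain ⟨g, rfl⟩ := hy
    exact cls_mem_span k m hm g
  · have : (uorigin k m).toCotangent 0 ∈ Submodule.span k (Set.range (b k m)) := by
      rw [map_zero]; exact zero_mem _
    exact this
  · intro x y hx hy ihx ihy
    have : (uorigin k m).toCotangent (⟨x, hx⟩ + ⟨y, hy⟩) ∈
        Submodule.span k (Set.range (b k m)) := by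
      rw [map_add]; exact add_mem ihx ihy
    exact this
  · intro r x hx ihx
    have : (uorigin k m).toCotangent (r • ⟨x, hx⟩) ∈
        Submodule.span k (Set.range (b k m)) := by
      rw [map_smul]; exact smul_mem_S k m _ r _ ihx
    exact this

theorem finrank_cot (hm : 2 ≤ m) :
    Module.finrank k (uorigin k m).Cotangent = (m + 2) * (m + 1) / 2 := by
  have B := Module.Basis.mk (li k m) (span_top k m hm)
  rw [Module.finrank_eq_card_basis B, card_T]

end Cot

end

/-- Let m ≥ 2, so that n = m + 3 ≥ 5 points are marked. For every field k, the Zariski cotangent space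
of U_n over k at the origin, that is I/I² for the ideal I of the coordinate ring of U_n over k
generated by the classes of all the generators a, c, c̄, c_i, c̄_i, c_{ij}, has dimension (n − 1)(n
− 2)/2 = (m + 2)(m + 1)/2 over k; and the weight-one classes a, c_i, c̄_i (all indices i) and c_{ij}
(i < j) generate the coordinate ring of U_n over ℤ as a ℤ-algebra (so they form a minimal generating
set). -/
theorem result (m : ℕ) (hm : 2 ≤ m) :
    (∀ (k : Type u) [Field k], Module.finrank k (uorigin k m).Cotangent = (m + 2) * (m + 1) / 2) ∧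
    Algebra.adjoin ℤ ({ugen ℤ m .a} ∪ Set.range (fun i : Fin m => ugen ℤ m (.ci i)) ∪
        Set.range (fun i : Fin m => ugen ℤ m (.cbi i)) ∪
        Set.range (fun q : {q : Fin m × Fin m // q.1 < q.2} => ugen ℤ m (.cij q.1.1 q.1.2 (ne_of_lt q.2)))) = ⊤ := by
  refine ⟨fun k _ => finrank_cot k m hm, ?_⟩
  exact subalgebra_eq_top m hm _
    (Algebra.subset_adjoin (Or.inl (Or.inl (Or.inl (Set.mem_singleton _)))))
    (fun i => Algebra.subset_adjoin (Or.inl (Or.inl (Or.inr ⟨i, rfl⟩))))
    (fun i => Algebra.subset_adjoin (Or.inl (Or.inr ⟨i, rfl⟩)))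
    (fun i j h => Algebra.subset_adjoin (Or.inr ⟨⟨(i, j), h⟩, rfl⟩))

end Groth.Agent.S18248
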