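import Groth.Statements.S18251
import Mathlib

set_option autoImplicit false
universe u
open W4c5m1nsnscurves
open Curves

namespace Groth.Agent.S18251

open MvPolynomial

abbrev Idx := Option (ℕ ⊕ (Fin 2 × ℕ))

section
variable (R : Type u) [CommRing R] (a b c d : R)

/-- normal form of the monomial `x^i y^j` (arguments: `j`, then `i`). -/
noncomputable def N : ℕ → ℕ → (Idx →₀ R)
  | 0, 0 => Finsupp.single none 1
  | 0, i+1 => Finsupp.single (some (Sum.inr (0, i))) 1
  | 1, 0 => Finsupp.single (some (Sum.inr (1, 0))) 1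
  | 1, i+1 => Finsupp.single (some (Sum.inl i)) 1
  | j+2, 0 => Finsupp.single (some (Sum.inr (1, j+1))) 1
  | j+2, i+1 => N (j+1) (i+2) + a • N (j+1) (i+1) + b • N j (i+1) + c • N (j+1) i + d • N j i

lemma N_rec (j i : ℕ) : N R a b c d (j+2) (i+1) =
    N R a b c d (j+1) (i+2) + a • N R a b c d (j+1) (i+1) + b • N R a b c d j (i+1)
      + c • N R a b c d (j+1) i + d • N R a b c d j i := by
  rw [N]

noncomputable abbrev rel : MvPolynomial (Fin 2) R :=
  X 0 * X 1 ^ 2 - X 0 ^ 2 * X 1 - (C a * X 0 * X 1 + C b * X 0 + C c * X 1 + C d)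

noncomputable def L : MvPolynomial (Fin 2) R →ₗ[R] (Idx →₀ R) :=
  (basisMonomials (Fin 2) R).constr R (fun s => N R a b c d (s 1) (s 0))

lemma L_monomial (s : Fin 2 →₀ ℕ) (r : R) :
    L R a b c d (monomial s r) = r • N R a b c d (s 1) (s 0) := by
  have h : monomial s r = r • (basisMonomials (Fin 2) R) s := by
    rw [coe_basisMonomials, smul_monomial, smul_eq_mul, mul_one]
  rw [h, map_smul, L, Module.Basis.constr_basis]

lemma mon_eq (i j : ℕ) (r : R) :
    (C r * X 0 ^ i * X 1 ^ j : MvPolynomial (Fin 2) R) =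
      monomial (Finsupp.single 0 i + Finsupp.single 1 j) r := by
  rw [mul_assoc, X_pow_eq_monomial, X_pow_eq_monomial, monomial_mul, C_mul_monomial, mul_one,
    mul_one]

lemma L_mon (i j : ℕ) (r : R) :
    L R a b c d (C r * X 0 ^ i * X 1 ^ j) = r • N R a b c d j i := by
  rw [mon_eq, L_monomial]
  have h1 : (Finsupp.single (0 : Fin 2) i + Finsupp.single (1 : Fin 2) j : Fin 2 →₀ ℕ) 1 = j := by
    simp [Finsupp.single_apply]
  have h0 : (Finsupp.single (0 : Fin 2) i + Finsupp.single (1 : Fin 2) j : Fin 2 →₀ ℕ) 0 = i := by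
    simp [Finsupp.single_apply]
  rw [h1, h0]

lemma L_mon_rel (i j : ℕ) (r : R) :
    L R a b c d (C r * X 0 ^ i * X 1 ^ j * rel R a b c d) = 0 := by
  have h : C r * X 0 ^ i * X 1 ^ j * rel R a b c d =
      C r * X 0 ^ (i+1) * X 1 ^ (j+2) - (C r * X 0 ^ (i+2) * X 1 ^ (j+1)
        + C (r * a) * X 0 ^ (i+1) * X 1 ^ (j+1)
        + C (r * b) * X 0 ^ (i+1) * X 1 ^ j + C (r * c) * X 0 ^ i * X 1 ^ (j+1)
        + C (r * d) * X 0 ^ i * X 1 ^ j) := by
    simp only [rel, C_mul]
    ring
  rw [h, map_sub, map_add, map_add, map_add, map_add, L_mon, L_mon, L_mon, L_mon, L_mon, L_mon,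
    N_rec]
  simp only [smul_add, smul_smul]
  abel

lemma monomial_eq_pow (s : Fin 2 →₀ ℕ) (r : R) :
    (monomial s r : MvPolynomial (Fin 2) R) = C r * X 0 ^ (s 0) * X 1 ^ (s 1) := by
  have hs : s = Finsupp.single 0 (s 0) + Finsupp.single 1 (s 1) := by
    ext k
    fin_cases k <;> simp [Finsupp.single_apply]
  rw [mon_eq, ← hs]

lemma monomial_eq_smul (s : Fin 2 →₀ ℕ) (r : R) :
    (monomial s r : MvPolynomial (Fin 2) R) = r • (X 0 ^ (s 0) * X 1 ^ (s 1)) := by
  rw [monomial_eq_pow, smul_eq_C_mul, mul_assoc]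

lemma L_mul_rel (h : MvPolynomial (Fin 2) R) : L R a b c d (h * rel R a b c d) = 0 := by
  refine MvPolynomial.induction_on' h ?_ ?_
  · intro s r
    rw [monomial_eq_pow, L_mon_rel]
  · intro p q hp hq
    rw [add_mul, map_add, hp, hq, add_zero]

noncomputable def rep : Idx → MvPolynomial (Fin 2) R
  | none => 1
  | some (Sum.inl k) => X 0 ^ (k+1) * X 1
  | some (Sum.inr (y, k)) => X y ^ (k+1)

lemma mk_rep (i : Idx) :
    Ideal.Quotient.mkₐ R (Ideal.span {rel R a b c d}) (rep R i) = cmon3 R a b c d i := by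
  rcases i with _ | (k | ⟨y, k⟩)
  · simp [rep, cmon3]
  · rfl
  · rfl

lemma L_rep (i : Idx) : L R a b c d (rep R i) = Finsupp.single i 1 := by
  rcases i with _ | (k | ⟨y, k⟩)
  · have : (rep R none) = C 1 * X 0 ^ 0 * X 1 ^ 0 := by simp [rep]
    rw [this, L_mon, one_smul, N]
  · have : (rep R (some (Sum.inl k))) = C 1 * X 0 ^ (k+1) * X 1 ^ 1 := by simp [rep]
    rw [this, L_mon, one_smul, N]
  · fin_cases y
    · have : (rep R (some (Sum.inr ((0 : Fin 2), k)))) = C 1 * X 0 ^ (k+1) * X 1 ^ 0 := by
        simp [rep]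
      simp only [Fin.zero_eta]
      rw [this, L_mon, one_smul, N]
    · have : (rep R (some (Sum.inr ((1 : Fin 2), k)))) = C 1 * X 0 ^ 0 * X 1 ^ (k+1) := by
        simp [rep]
      simp only [Fin.mk_one]
      rw [this, L_mon, one_smul]
      cases k with
      | zero => rw [N]
      | succ k => rw [N]

end

/-- Case n = 3: let R be a commutative ring and a, b, c, d elements of R (a point of U_3, which is
affine 4-space, so no condition is imposed). Then in the R-algebra R[x_2, x_3]/(x_2 x_3² − x_2² x_3
− a x_2 x_3 − b x_2 − c x_3 − d) the classes of the monomials 1, x_2^k x_3, x_2^k and x_3^k (k ≥ 1)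
are linearly independent over R and span, i.e. form an R-basis. -/
theorem result (R : Type u) [CommRing R] (a b c d : R) :
    LinearIndependent R (cmon3 R a b c d) ∧
      Submodule.span R (Set.range (cmon3 R a b c d)) = ⊤ := by
  constructor
  · rw [linearIndependent_iff]
    intro l hl
    have h1 : (Ideal.Quotient.mkₐ R (Ideal.span {rel R a b c d}))
        (Finsupp.linearCombination R (rep R) l) = 0 := by
      have := Finsupp.apply_linearCombination R
        (Ideal.Quotient.mkₐ R (Ideal.span {rel R a b c d})).toLinearMap (rep R) l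
      rw [AlgHom.toLinearMap_apply] at this
      have hcomp : ⇑(Ideal.Quotient.mkₐ R (Ideal.span {rel R a b c d})).toLinearMap ∘ rep R
          = cmon3 R a b c d := funext (fun i => mk_rep R a b c d i)
      rw [hcomp] at this
      rw [this, ← hl]
    rw [Ideal.Quotient.mkₐ_eq_mk, Ideal.Quotient.eq_zero_iff_mem, Ideal.mem_span_singleton'] at h1
    obtain ⟨h, hh⟩ := h1
    have h2 := L_mul_rel R a b c d h
    rw [hh, Finsupp.apply_linearCombination] at h2
    have h3 : (L R a b c d) ∘ rep R = fun i => Finsupp.single i (1:R) :=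
      funext (L_rep R a b c d)
    rw [h3, Finsupp.linearCombination_apply] at h2
    simp only [Finsupp.smul_single, smul_eq_mul, mul_one] at h2
    rwa [Finsupp.sum_single] at h2
  · rw [eq_top_iff]
    rintro x -
    obtain ⟨p, rfl⟩ := Ideal.Quotient.mk_surjective x
    rw [← Ideal.Quotient.mkₐ_eq_mk R]
    have key : ∀ j : ℕ,
        (∀ i : ℕ, Ideal.Quotient.mkₐ R (Ideal.span {rel R a b c d}) (X 0 ^ i * X 1 ^ j) ∈
          Submodule.span R (Set.range (cmon3 R a b c d))) ∧
        (∀ i : ℕ, Ideal.Quotient.mkₐ R (Ideal.span {rel R a b c d}) (X 0 ^ i * X 1 ^ (j+1)) ∈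
          Submodule.span R (Set.range (cmon3 R a b c d))) := by
      intro j
      induction j with
      | zero =>
        constructor
        · intro i
          cases i with
          | zero =>
            have : Ideal.Quotient.mkₐ R (Ideal.span {rel R a b c d}) (X 0 ^ 0 * X 1 ^ 0)
                = cmon3 R a b c d none := by
              rw [pow_zero, pow_zero, mul_one, map_one]; rfl
            rw [this]; exact Submodule.subset_span ⟨_, rfl⟩
          | succ i =>
            have : Ideal.Quotient.mkₐ R (Ideal.span {rel R a b c d}) (X 0 ^ (i+1) * X 1 ^ 0)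
                = cmon3 R a b c d (some (Sum.inr (0, i))) := by
              rw [pow_zero, mul_one]; rfl
            rw [this]; exact Submodule.subset_span ⟨_, rfl⟩
        · intro i
          cases i with
          | zero =>
            have : Ideal.Quotient.mkₐ R (Ideal.span {rel R a b c d}) (X 0 ^ 0 * X 1 ^ (0+1))
                = cmon3 R a b c d (some (Sum.inr (1, 0))) := by
              rw [pow_zero, one_mul]; rfl
            rw [this]; exact Submodule.subset_span ⟨_, rfl⟩
          | succ i =>
            have : Ideal.Quotient.mkₐ R (Ideal.span {rel R a b c d}) (X 0 ^ (i+1) * X 1 ^ (0+1))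
                = cmon3 R a b c d (some (Sum.inl i)) := by
              rw [zero_add, pow_one]; rfl
            rw [this]; exact Submodule.subset_span ⟨_, rfl⟩
      | succ j ih =>
        refine ⟨ih.2, ?_⟩
        intro i
        cases i with
        | zero =>
          have : Ideal.Quotient.mkₐ R (Ideal.span {rel R a b c d}) (X 0 ^ 0 * X 1 ^ (j+1+1))
              = cmon3 R a b c d (some (Sum.inr (1, j+1))) := by
            rw [pow_zero, one_mul]; rfl
          rw [this]; exact Submodule.subset_span ⟨_, rfl⟩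
        | succ i =>
          have hrel : Ideal.Quotient.mkₐ R (Ideal.span {rel R a b c d}) (X 0 ^ (i+1) * X 1 ^ (j+1+1))
              = Ideal.Quotient.mkₐ R (Ideal.span {rel R a b c d}) (X 0 ^ (i+1+1) * X 1 ^ (j+1))
              + a • Ideal.Quotient.mkₐ R (Ideal.span {rel R a b c d}) (X 0 ^ (i+1) * X 1 ^ (j+1))
              + b • Ideal.Quotient.mkₐ R (Ideal.span {rel R a b c d}) (X 0 ^ (i+1) * X 1 ^ j)
              + c • Ideal.Quotient.mkₐ R (Ideal.span {rel R a b c d}) (X 0 ^ i * X 1 ^ (j+1))
              + d • Ideal.Quotient.mkₐ R (Ideal.span {rel R a b c d}) (X 0 ^ i * X 1 ^ j) := by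
            rw [← map_smul, ← map_smul, ← map_smul, ← map_smul, ← map_add, ← map_add, ← map_add,
              ← map_add, Ideal.Quotient.mkₐ_eq_mk]
            refine Ideal.Quotient.eq.mpr (Ideal.mem_span_singleton'.mpr ⟨X 0 ^ i * X 1 ^ j, ?_⟩)
            simp only [rel, smul_eq_C_mul]
            ring
          rw [hrel]
          refine Submodule.add_mem _ (Submodule.add_mem _ (Submodule.add_mem _
            (Submodule.add_mem _ ?_ ?_) ?_) ?_) ?_
          · exact ih.2 (i+1+1)
          · exact Submodule.smul_mem _ _ (ih.2 (i+1))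
          · exact Submodule.smul_mem _ _ (ih.1 (i+1))
          · exact Submodule.smul_mem _ _ (ih.2 i)
          · exact Submodule.smul_mem _ _ (ih.1 i)
    refine MvPolynomial.induction_on' p ?_ ?_
    · intro s r
      rw [monomial_eq_smul, map_smul]
      exact Submodule.smul_mem _ _ ((key (s 1)).1 (s 0))
    · intro p q hp hq
      rw [map_add]
      exact Submodule.add_mem _ hp hq

end Groth.Agent.S18251
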