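import Groth.Statements.S18265
import Mathlib

set_option autoImplicit false
set_option maxHeartbeats 400000
universe u
open InvQ

namespace Groth.Agent.S18265

/-- A subalgebra of an integrally closed domain cut out by fixed-point conditions of ring
endomorphisms is integrally closed. -/
theorem isIntegrallyClosed_of_fixed {k S : Type u} [Field k] [CommRing S] [IsDomain S]
    [Algebra k S] [IsIntegrallyClosed S] (R : Subalgebra k S)
    (Φ : Set (S →ₐ[k] S)) (hR : ∀ c : S, c ∈ R ↔ ∀ φ ∈ Φ, φ c = c) :
    IsIntegrallyClosed R := by
  classical
  rw [isIntegrallyClosed_iff (FractionRing R)]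
  intro x hx
  have hinj : Function.Injective ((algebraMap S (FractionRing S)).comp R.val.toRingHom) :=
    (IsFractionRing.injective S (FractionRing S)).comp Subtype.val_injective
  let ψ : FractionRing R →+* FractionRing S := IsFractionRing.lift hinj
  have hψ : ∀ r : R, ψ (algebraMap R (FractionRing R) r) = algebraMap S (FractionRing S) (r : S) :=
    fun r => IsFractionRing.lift_algebraMap hinj r
  -- ψ x integral over S
  have hint : IsIntegral S (ψ x) := by
    obtain ⟨p, hp, hpx⟩ := hx
    refine ⟨p.map R.val.toRingHom, hp.map _, ?_⟩
    rw [Polynomial.eval₂_map]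
    have hcomp : (algebraMap S (FractionRing S)).comp R.val.toRingHom =
        ψ.comp (algebraMap R (FractionRing R)) := by
      ext r; exact (hψ r).symm
    rw [hcomp, ← Polynomial.hom_eval₂, hpx, map_zero]
  obtain ⟨c, hc⟩ := (isIntegrallyClosed_iff (FractionRing S)).mp inferInstance hint
  obtain ⟨⟨a, b⟩, rfl⟩ := IsLocalization.mk'_surjective (nonZeroDivisors R) x
  have hb0 : ((b : R) : S) ≠ 0 := by
    intro h0
    have : (b : R) = 0 := Subtype.ext h0
    exact nonZeroDivisors.coe_ne_zero b this
  have hmul : c * ((b : R) : S) = (a : S) := by
    apply IsFractionRing.injective S (FractionRing S)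
    rw [map_mul, hc, ← hψ, ← hψ, ← map_mul, IsLocalization.mk'_spec]
  have hcR : c ∈ R := by
    rw [hR]
    intro φ hφ
    have ha : φ (a : S) = a := (hR _).mp a.2 φ hφ
    have hb : φ ((b : R) : S) = (b : R) := (hR _).mp (b : R).2 φ hφ
    have h1 : φ c * ((b : R) : S) = c * ((b : R) : S) := by
      rw [← hb, ← map_mul, hb, hmul, ha]
    exact mul_right_cancel₀ hb0 h1
  refine ⟨⟨c, hcR⟩, ?_⟩
  rw [IsLocalization.eq_mk'_iff_mul_eq, ← map_mul]
  congr 1
  exact Subtype.ext hmul

/-- Let k be an algebraically closed field and n, m natural numbers, and let R be the ring of polynomial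
functions of m vectors of k^(n+1) invariant under the special linear group SL(n+1, k) acting on all
the vectors at once and under the rescalings of the individual vectors by units with product 1
(equivalently: invariant and homogeneous of one and the same degree in each vector) — the graded
ring of invariant sections whose Proj is the quotient variety of ordered m-point sets in projective
n-space. Then R is integrally closed in its field of fractions; hence that quotient variety is
normal. (Only the normality assertion of the source's statement is given here; its dimension,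
rationality and singular-locus assertions are not.) -/
theorem result (k : Type u) [Field k] [IsAlgClosed k] (n m : ℕ) :
    IsIntegrallyClosed (W4c5pointsetsdelpezzo.invRing k n m) := by
  classical
  refine isIntegrallyClosed_of_fixed (W4c5pointsetsdelpezzo.invRing k n m)
    (Set.range (fun g : Matrix.SpecialLinearGroup (Fin (n + 1)) k =>
        W4c5pointsetsdelpezzo.slSubst k n m g) ∪
      Set.range (fun s : {s : Fin m → kˣ // ∏ i, s i = 1} =>
        W4c5pointsetsdelpezzo.colScale k n m s.1)) ?_
  intro c
  unfold W4c5pointsetsdelpezzo.invRing
  simp only [Algebra.mem_inf, Algebra.mem_iInf, AlgHom.mem_equalizer, AlgHom.coe_id, id_eq,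
    Set.mem_union, Set.mem_range]
  constructor
  · rintro ⟨h1, h2⟩ φ (⟨g, rfl⟩ | ⟨s, rfl⟩)
    · exact h1 g
    · exact h2 s
  · intro h
    exact ⟨fun g => h _ (Or.inl ⟨g, rfl⟩), fun s => h _ (Or.inr ⟨s, rfl⟩)⟩

end Groth.Agent.S18265
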