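import Groth.Statements.S19202
import Mathlib
import Groth.Agent.S9385

set_option autoImplicit false
set_option linter.style.haveILetI false
set_option linter.unusedSectionVars false
set_option linter.unusedVariables false
universe u
open CategoryTheory AlgebraicGeometry
open FlatMor

namespace Groth.Agent.S19202

section Helpers
open CategoryTheory AlgebraicGeometry TopologicalSpace

theorem eq_zero_of_mul_eq_zero {Z : Scheme.{u}} (W : Z.Opens)
    [IsSchemeTheoreticallyDominant W.ι] [QuasiCompact W.ι]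
    (V : Z.Opens) (a s : Γ(Z, V)) (h : a * s = 0) (hVW : V ⊓ W ≤ Z.basicOpen a) : s = 0 := by
  apply W.ι.app_injective V
  rw [map_zero]
  have h' : W.ι.app V a * W.ι.app V s = 0 := by rw [← map_mul, h, map_zero]
  refine TopCat.Presheaf.section_ext W.toScheme.sheaf _ _ _ fun x hx => ?_
  have hxW : W.ι x ∈ W := by
    have : W.ι x ∈ Set.range W.ι := ⟨x, rfl⟩
    rw [Scheme.Opens.range_ι] at this
    exact this
  have hxa : x ∈ W.ι ⁻¹ᵁ (Z.basicOpen a) := hVW (TopologicalSpace.Opens.mem_inf.mpr ⟨hx, hxW⟩)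
  rw [Scheme.preimage_basicOpen] at hxa
  have hu : IsUnit (W.toScheme.presheaf.germ _ x hx (W.ι.app V a)) :=
    (Scheme.mem_basicOpen _ _ x hx).mp hxa
  have h2 := congrArg (W.toScheme.presheaf.germ _ x hx) h'
  rw [map_mul, map_zero] at h2
  exact (hu.mul_right_eq_zero.mp h2).trans (map_zero _).symm

theorem ι_dominant (R : Type u) [CommRing R] [IsDomain R]
    (r' : Γ(Spec (CommRingCat.of R), ⊤)) (hr : r' ≠ 0) :
    IsSchemeTheoreticallyDominant ((Spec (CommRingCat.of R)).basicOpen r').ι := by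
  haveI : IsDominant ((Spec (CommRingCat.of R)).basicOpen r').ι := by
    rw [isDominant_iff, DenseRange, Scheme.Opens.range_ι]
    have hne : ((Spec (CommRingCat.of R)).basicOpen r' : Set (Spec (CommRingCat.of R))).Nonempty := by
      rw [Set.nonempty_iff_ne_empty]
      intro h
      apply hr
      rw [← basicOpen_eq_bot_iff]
      exact SetLike.coe_injective h
    exact ((Spec (CommRingCat.of R)).basicOpen r').isOpen.dense hne
  exact IsSchemeTheoreticallyDominant.of_isDominant _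

theorem key_lemma {X Z S : Scheme.{u}} (h : X ⟶ Z) (g : Z ⟶ S) (hk : h.ker = ⊥) [Flat (h ≫ g)]
    (D : S.Opens) [IsSchemeTheoreticallyDominant D.ι] [QuasiCompact D.ι] :
    IsSchemeTheoreticallyDominant (g ⁻¹ᵁ D).ι ∧ QuasiCompact (g ⁻¹ᵁ D).ι := by
  haveI h1 : IsSchemeTheoreticallyDominant ((h ≫ g) ⁻¹ᵁ D).ι :=
    IsSchemeTheoreticallyDominant.of_isPullback (isPullback_morphismRestrict (h ≫ g) D)
  haveI h2 : IsSchemeTheoreticallyDominant (h ⁻¹ᵁ (g ⁻¹ᵁ D)).ι := h1
  refine ⟨?_, MorphismProperty.of_isPullback (P := @QuasiCompact)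
    (isPullback_morphismRestrict g D) inferInstance⟩
  rw [isSchemeTheoreticallyDominant_iff, ← le_bot_iff]
  calc (g ⁻¹ᵁ D).ι.ker ≤ ((h ∣_ (g ⁻¹ᵁ D)) ≫ (g ⁻¹ᵁ D).ι).ker :=
        Scheme.Hom.le_ker_comp _ _
    _ = ((h ⁻¹ᵁ (g ⁻¹ᵁ D)).ι ≫ h).ker := by rw [morphismRestrict_ι]
    _ = ⊥ := by
      rw [Scheme.Hom.ker_comp, (h ⁻¹ᵁ (g ⁻¹ᵁ D)).ι.ker_eq_bot,
        Scheme.IdealSheafData.map_bot, hk]

theorem main (R : Type u) [CommRing R] [IsDedekindDomain R]
    {X Y : Scheme.{u}} (p : X ⟶ Spec (CommRingCat.of R)) (q : Y ⟶ Spec (CommRingCat.of R))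
    (f : X ⟶ Y) (w : f ≫ q = p) [Flat p] : Flat (f.imageι ≫ q) := by
  obtain ⟨g, hg⟩ : ∃ g, g = f.imageι ≫ q := ⟨_, rfl⟩
  rw [← hg]
  have hgp : f.toImage ≫ g = p := by
    rw [hg, ← Category.assoc, f.toImage_imageι, w]
  haveI hF : Flat (f.toImage ≫ g) := by rw [hgp]; infer_instance
  have key : ∀ r' : Γ(Spec (CommRingCat.of R), ⊤), r' ≠ 0 →
      IsSchemeTheoreticallyDominant (g ⁻¹ᵁ ((Spec (CommRingCat.of R)).basicOpen r')).ι ∧
      QuasiCompact (g ⁻¹ᵁ ((Spec (CommRingCat.of R)).basicOpen r')).ι := by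
    intro r' hr
    haveI : IsSchemeTheoreticallyDominant ((Spec (CommRingCat.of R)).basicOpen r').ι :=
      ι_dominant R r' hr
    exact key_lemma f.toImage g (Groth.Agent.S9385.ker_toImage_eq_bot f) _
  apply HasRingHomProperty.of_iSup_eq_top (P := @Flat)
    (fun V : (f.image).affineOpens => V) (iSup_affineOpens_eq_top _)
  intro V
  refine (RingHom.Flat.respectsIso.cancel_left_isIso
    (Scheme.ΓSpecIso (CommRingCat.of R)).inv (g.appLE ⊤ V.1 le_top)).mp ?_
  obtain ⟨ψ, hψ⟩ : ∃ ψ : R →+* Γ(f.image, V.1),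
      ψ = (g.appLE ⊤ V.1 le_top).hom.comp (Scheme.ΓSpecIso (CommRingCat.of R)).inv.hom := ⟨_, rfl⟩
  rw [← hψ]
  letI : Algebra R Γ(f.image, V.1) := ψ.toAlgebra
  show Module.Flat R Γ(f.image, V.1)
  haveI : Module.IsTorsionFree R Γ(f.image, V.1) := by
    refine ⟨fun r hr s₁ s₂ hs => ?_⟩
    have hr0 : r ≠ 0 := hr.ne_zero
    have hr' : (Scheme.ΓSpecIso (CommRingCat.of R)).inv r ≠ 0 := by
      intro h0
      apply hr0
      have := congrArg (Scheme.ΓSpecIso (CommRingCat.of R)).hom h0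
      rw [← CommRingCat.comp_apply, Iso.inv_hom_id, CommRingCat.id_apply, map_zero] at this
      exact this
    obtain ⟨hd, hqc⟩ := key _ hr'
    have hs' : ψ r * (s₁ - s₂) = 0 := by
      have e : ψ r * s₁ = ψ r * s₂ := hs
      rw [mul_sub, e, sub_self]
    have hψr : ψ r = g.appLE ⊤ V.1 le_top ((Scheme.ΓSpecIso (CommRingCat.of R)).inv r) := by
      rw [hψ]; rfl
    have := eq_zero_of_mul_eq_zero
      (g ⁻¹ᵁ ((Spec (CommRingCat.of R)).basicOpen ((Scheme.ΓSpecIso (CommRingCat.of R)).inv r)))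
      V.1 (ψ r) (s₁ - s₂) hs'
      (by rw [hψr]; exact (Scheme.basicOpen_appLE g V.1 ⊤ le_top _).ge)
    exact sub_eq_zero.mp this
  infer_instance

end Helpers


/-- Let R be a Dedekind domain, X and Y schemes over Spec R with X flat over Spec R, and f : X → Y a
morphism over Spec R. Then the scheme-theoretic image of f, i.e. the closed subscheme of Y cut out
by the kernel ideal sheaf of f, is flat over Spec R. (The published statement takes the base to be a
non-singular curve and f proper; this row takes the spectrum of any Dedekind domain and any morphism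
f over it.) -/
theorem result (R : Type u) [CommRing R] [IsDedekindDomain R]
    {X Y : Scheme.{u}} (p : X ⟶ Spec (CommRingCat.of R)) (q : Y ⟶ Spec (CommRingCat.of R))
    (f : X ⟶ Y) (w : f ≫ q = p) [Flat p] : Flat (f.imageι ≫ q) := by
  exact main R p q f w

end Groth.Agent.S19202
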