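import Groth.Statements.S18266
import Mathlib
import Groth.Agent.S19202

set_option autoImplicit false
set_option linter.style.haveILetI false
set_option linter.unusedSectionVars false
set_option linter.unusedVariables false
universe u
open CategoryTheory AlgebraicGeometry
open FDesc

namespace Groth.Agent.S18266

section Helpers
open CategoryTheory AlgebraicGeometry TopologicalSpace Limits

theorem flat_of_forall_eq_bot (R : Type u) [CommRing R] [IsDedekindDomain R] {T : Scheme.{u}}
    (t : T ⟶ Spec (CommRingCat.of R)) (ht : ∀ x : T, (t x).asIdeal = ⊥) : Flat t := by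
  apply HasRingHomProperty.of_iSup_eq_top (P := @Flat)
    (fun V : T.affineOpens => V) (iSup_affineOpens_eq_top _)
  intro V
  refine (RingHom.Flat.respectsIso.cancel_left_isIso
    (Scheme.ΓSpecIso (CommRingCat.of R)).inv (t.appLE ⊤ V.1 le_top)).mp ?_
  obtain ⟨ψ, hψ⟩ : ∃ ψ : R →+* Γ(T, V.1),
      ψ = (t.appLE ⊤ V.1 le_top).hom.comp (Scheme.ΓSpecIso (CommRingCat.of R)).inv.hom := ⟨_, rfl⟩
  rw [← hψ]
  letI : Algebra R Γ(T, V.1) := ψ.toAlgebra
  show Module.Flat R Γ(T, V.1)
  haveI : Module.IsTorsionFree R Γ(T, V.1) := by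
    refine ⟨fun r hr s₁ s₂ hs => ?_⟩
    have hr0 : r ≠ 0 := hr.ne_zero
    have hψr : ψ r = t.appLE ⊤ V.1 le_top ((Scheme.ΓSpecIso (CommRingCat.of R)).inv r) := by
      rw [hψ]; rfl
    have hb : V.1 ≤ T.basicOpen (ψ r) := by
      rw [hψr]
      refine le_trans ?_ (Scheme.basicOpen_appLE t V.1 ⊤ le_top _).ge
      intro x hx
      refine TopologicalSpace.Opens.mem_inf.mpr ⟨hx, ?_⟩
      show t x ∈ (Spec (CommRingCat.of R)).basicOpen
        ((Scheme.ΓSpecIso (CommRingCat.of R)).inv r)
      rw [basicOpen_eq_of_affine]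
      show r ∉ (t x).asIdeal
      rw [ht x]
      exact hr0
    have hu : IsUnit (ψ r) :=
      RingedSpace.isUnit_of_isUnit_germ (X := T.toRingedSpace) V.1 (ψ r)
        fun x hx => (Scheme.mem_basicOpen T (ψ r) x hx).mp (hb hx)
    have e : ψ r * s₁ = ψ r * s₂ := hs
    exact hu.mul_right_injective e
  infer_instance

theorem main (A : Type u) [CommRing A] [IsDomain A]
    [IsDiscreteValuationRing A] {X : Scheme.{u}} (f : X ⟶ Spec (CommRingCat.of A))
    (η : ↥(Spec (CommRingCat.of A))) (hη : η.asIdeal = ⊥) :
    Flat ((f.fiberι η).imageι ≫ f) ∧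
      ∀ (Z : Scheme.{u}) (i : Z ⟶ X), IsClosedImmersion i → Flat (i ≫ f) →
        (f.fiberι η).ker ≤ i.ker := by
  constructor
  · haveI : Flat (f.fiberι η ≫ f) := flat_of_forall_eq_bot A _ (fun x => by
      have h1 : f (f.fiberι η x) = η := by
        have h : f.fiberι η x ∈ Set.range (f.fiberι η) := ⟨x, rfl⟩
        rw [Scheme.Hom.range_fiberι] at h
        exact h
      rw [Scheme.Hom.comp_apply, h1, hη])
    exact Groth.Agent.S19202.result A (f.fiberι η ≫ f) f (f.fiberι η) rfl
  · intro Z i hi hflat
    haveI := hi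
    haveI := hflat
    haveI hgd : IsSchemeTheoreticallyDominant
        ((Spec (CommRingCat.of A)).fromSpecResidueField η) := by
      haveI : IsDominant ((Spec (CommRingCat.of A)).fromSpecResidueField η) := by
        rw [isDominant_iff, DenseRange, Scheme.range_fromSpecResidueField, dense_iff_closure_eq]
        have h2 : closure ({η} : Set (PrimeSpectrum A)) = PrimeSpectrum.zeroLocus η.asIdeal :=
          PrimeSpectrum.closure_singleton η
        rw [hη, PrimeSpectrum.zeroLocus_bot] at h2
        exact h2
      exact IsSchemeTheoreticallyDominant.of_isDominant _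
    haveI hd : IsSchemeTheoreticallyDominant
        (pullback.fst (i ≫ f) ((Spec (CommRingCat.of A)).fromSpecResidueField η)) :=
      inferInstance
    obtain ⟨l, hl⟩ : ∃ l : pullback (i ≫ f) ((Spec (CommRingCat.of A)).fromSpecResidueField η) ⟶
        f.fiber η, l ≫ f.fiberι η =
          pullback.fst (i ≫ f) ((Spec (CommRingCat.of A)).fromSpecResidueField η) ≫ i :=
      ⟨pullback.lift
        (pullback.fst (i ≫ f) ((Spec (CommRingCat.of A)).fromSpecResidueField η) ≫ i)
        (pullback.snd (i ≫ f) ((Spec (CommRingCat.of A)).fromSpecResidueField η))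
        (by rw [Category.assoc, pullback.condition]), pullback.lift_fst _ _ _⟩
    calc (f.fiberι η).ker ≤ (l ≫ f.fiberι η).ker := Scheme.Hom.le_ker_comp _ _
      _ = (pullback.fst (i ≫ f) ((Spec (CommRingCat.of A)).fromSpecResidueField η) ≫ i).ker := by
        rw [hl]
      _ = i.ker := by
        rw [Scheme.Hom.ker_comp, Scheme.Hom.ker_eq_bot
          (pullback.fst (i ≫ f) ((Spec (CommRingCat.of A)).fromSpecResidueField η)),
          Scheme.IdealSheafData.map_bot]

end Helpers


/-- Let A be a discrete valuation ring, η the generic point of Spec A, and f : X → Spec A a morphism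
from an arbitrary scheme X. The scheme-theoretic closure of the generic fibre X_η in X (the flat
completion) is flat over Spec A, and it is the largest closed subscheme of X flat over Spec A: for
every closed immersion i : Z → X with Z flat over Spec A, the ideal sheaf of the flat completion is
contained in the ideal sheaf of i. -/
theorem result (A : Type u) [CommRing A] [IsDomain A]
    [IsDiscreteValuationRing A] {X : Scheme.{u}} (f : X ⟶ Spec (CommRingCat.of A))
    (η : ↥(Spec (CommRingCat.of A))) (hη : η.asIdeal = ⊥) :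
    Flat ((f.fiberι η).imageι ≫ f) ∧
      ∀ (Z : Scheme.{u}) (i : Z ⟶ X), IsClosedImmersion i → Flat (i ≫ f) → (f.fiberι η).ker ≤ i.ker := by
  exact main A f η hη

end Groth.Agent.S18266
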