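import Groth.Statements.S18267
import Mathlib
import Groth.Agent.H54.Curve2
import Groth.Agent.H54.CodimOne
import Groth.Agent.S9705
import Groth.Agent.H63.SmoothRegular2

set_option autoImplicit false
open CategoryTheory CategoryTheory.Limits AlgebraicGeometry
open ZCorr

namespace Groth.Agent.S18267


section Helpers
open AlgebraicGeometry CategoryTheory CategoryTheory.Limits TopologicalSpace Topology

theorem flat_of_injective_of_valuationRing {A B : Type*} [CommRing A] [IsDomain A]
    [ValuationRing A] [CommRing B] [IsDomain B] (φ : A →+* B) (hφ : Function.Injective φ) :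
    φ.Flat := by
  letI : Algebra A B := φ.toAlgebra
  show Module.Flat A B
  rw [Module.Flat.flat_iff_torsion_eq_bot_of_isBezout, Submodule.eq_bot_iff]
  intro b hb
  obtain ⟨a, ha⟩ := (Submodule.mem_torsion_iff b).mp hb
  have ha0 : (a : A) ≠ 0 := nonZeroDivisors.ne_zero a.2
  have h1 : φ a * b = 0 := by
    have h2 : (a : A) • b = 0 := ha
    rwa [Algebra.smul_def] at h2
  rcases mul_eq_zero.mp h1 with h | h
  · exact absurd ((map_eq_zero_iff φ hφ).mp h) ha0
  · exact h

theorem closure_singleton_of_ne_genericPoint {Z : Scheme.{0}} [IsIntegral Z]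
    (hdim : topologicalKrullDim Z ≤ 1) (z : Z) (hz : z ≠ genericPoint Z) :
    closure ({z} : Set Z) = {z} := by
  refine Set.Subset.antisymm (fun y hy => ?_) subset_closure
  have hzy : z ⤳ y := specializes_iff_mem_closure.mpr hy
  have hd : ringKrullDim (Z.presheaf.stalk y) ≤ 1 :=
    (Groth.Agent.H54.ringKrullDim_stalk_le_topologicalKrullDim Z y).trans hdim
  exact (Groth.Agent.H54.eq_of_specializes_of_ringKrullDim_le_one hzy hd hz).symm

theorem finite_of_isClosed_of_genericPoint_notMem {Z : Scheme.{0}} [IsIntegral Z]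
    [NoetherianSpace Z] (hdim : topologicalKrullDim Z ≤ 1) (T : Set Z) (hT : IsClosed T)
    (hζ : genericPoint Z ∉ T) : T.Finite := by
  obtain ⟨S, hSf, hSc, hSi, rfl⟩ := NoetherianSpace.exists_finite_set_isClosed_irreducible hT
  refine Set.Finite.sUnion hSf (fun t ht => ?_)
  obtain ⟨z, hz⟩ := QuasiSober.sober (hSi t ht) (hSc t ht)
  have hzt : z ∈ t := hz.mem
  have hzne : z ≠ genericPoint Z := fun h => hζ (Set.mem_sUnion.mpr ⟨t, ht, h ▸ hzt⟩)
  have hts : t = {z} := by
    rw [← hz.def]; exact closure_singleton_of_ne_genericPoint hdim z hzne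
  rw [hts]; exact Set.finite_singleton z

theorem topologicalKrullDim_le_zero_of_subsingleton (C : Type*) [TopologicalSpace C]
    [Subsingleton C] : topologicalKrullDim C ≤ 0 := by
  haveI : Subsingleton (IrreducibleCloseds C) := by
    refine ⟨fun a b => IrreducibleCloseds.ext ?_⟩
    ext x
    constructor
    · intro _
      obtain ⟨y, hy⟩ := b.isIrreducible'.nonempty
      rwa [Subsingleton.elim x y]
    · intro _
      obtain ⟨y, hy⟩ := a.isIrreducible'.nonempty
      rwa [Subsingleton.elim x y]
  exact Order.krullDim_nonpos_of_subsingleton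

theorem main (C X : Scheme.{0}) (cC : C ⟶ Spec (CommRingCat.of ℂ))
    (cX : X ⟶ Spec (CommRingCat.of ℂ))
    [IsIntegral C] [Smooth cC] (hC : RelProj.IsHQuasiProjective cC)
    (hdimC : topologicalKrullDim C = 1) (hX : RelProj.IsHProjective cX)
    {Z : Scheme.{0}} (i : Z ⟶ pullback cC cX) [IsClosedImmersion i]
    [IsIntegral Z] (hdimZ : topologicalKrullDim Z = 1)
    (hsurj : Function.Surjective ⇑(i ≫ pullback.fst cC cX)) :
    IsFinite (i ≫ pullback.fst cC cX) ∧ Flat (i ≫ pullback.fst cC cX) := by
  haveI hpX : IsProper cX := by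
    obtain ⟨n, j, hj, hjX⟩ := hX
    haveI := hj
    rw [← hjX]; infer_instance
  haveI hqC : QuasiCompact cC := by
    obtain ⟨m, jc, hjc, hqc, hjC⟩ := hC
    haveI := hqc
    rw [← hjC]; infer_instance
  haveI : LocallyOfFiniteType cC := inferInstance
  obtain ⟨g, hg⟩ : ∃ g, g = i ≫ pullback.fst cC cX := ⟨_, rfl⟩
  rw [← hg] at hsurj ⊢
  haveI hpg : IsProper g := by rw [hg]; infer_instance
  haveI : IsLocallyNoetherian Z := LocallyOfFiniteType.isLocallyNoetherian (g ≫ cC)
  haveI : CompactSpace Z := QuasiCompact.compactSpace_of_compactSpace (g ≫ cC)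
  haveI : IsNoetherian Z := {}
  have hgen : g (genericPoint Z) = genericPoint C := by
    have h1 : IsGenericPoint (g (genericPoint Z)) (Set.univ : Set C) := by
      have h2 := (genericPoint_spec Z).image g.continuous
      rwa [Set.image_univ, hsurj.denseRange.closure_range] at h2
    exact h1.eq (genericPoint_spec C)
  have hclosedpt : ∀ z : Z, z ≠ genericPoint Z → IsClosed ({z} : Set Z) := fun z hz => by
    rw [← closure_singleton_of_ne_genericPoint hdimZ.le z hz]; exact isClosed_closure
  have hfib : ∀ c : C, (g ⁻¹' {c}).Finite := by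
    intro c
    by_cases hc : c = genericPoint C
    · subst hc
      refine (Set.finite_singleton (genericPoint Z)).subset ?_
      intro z hz
      by_contra hzne
      have hzc : IsClosed ({z} : Set Z) := hclosedpt z hzne
      have hcl : IsClosed (g '' ({z} : Set Z)) := g.isClosedMap _ hzc
      rw [Set.image_singleton, (show g z = genericPoint C from hz)] at hcl
      have huniv : (Set.univ : Set C) = {genericPoint C} := by
        rw [← (genericPoint_spec C).def, hcl.closure_eq]
      haveI : Subsingleton C := by
        refine ⟨fun a b => ?_⟩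
        have ha : a ∈ ({genericPoint C} : Set C) := huniv ▸ Set.mem_univ a
        have hb : b ∈ ({genericPoint C} : Set C) := huniv ▸ Set.mem_univ b
        rw [Set.mem_singleton_iff.mp ha, Set.mem_singleton_iff.mp hb]
      have h0 := topologicalKrullDim_le_zero_of_subsingleton C
      rw [hdimC] at h0
      exact absurd h0 (by decide)
    · have hT : IsClosed (g ⁻¹' (closure ({c} : Set C))) := isClosed_closure.preimage g.continuous
      have hζ : genericPoint Z ∉ g ⁻¹' (closure ({c} : Set C)) := by
        intro hmem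
        have h1 : c ⤳ genericPoint C := by
          rw [← hgen]; exact specializes_iff_mem_closure.mpr hmem
        have h2 : genericPoint C ⤳ c := (genericPoint_spec C).specializes trivial
        exact hc (h1.antisymm h2).eq
      refine (finite_of_isClosed_of_genericPoint_notMem hdimZ.le _ hT hζ).subset ?_
      intro z hz
      exact subset_closure (show g z ∈ ({c} : Set C) from hz)
  haveI : LocallyQuasiFinite g := locallyQuasiFinite_iff_finite_preimage_singleton.mpr hfib
  refine ⟨IsFinite.of_isProper_of_locallyQuasiFinite g, ?_⟩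
  rw [Flat.iff_flat_stalkMap]
  intro z
  haveI : IsRegularLocalRing (C.presheaf.stalk (g z)) :=
    Groth.Agent.H63.SmoothRegular.isRegularLocalRing_stalk_of_smooth cC (g z)
  have hd : ringKrullDim (C.presheaf.stalk (g z)) ≤ 1 :=
    (Groth.Agent.H54.ringKrullDim_stalk_le_topologicalKrullDim C (g z)).trans hdimC.le
  obtain ⟨hdom, hval⟩ :=
    Groth.Agent.H54.exists_isDomain_valuationRing_of_isRegularLocalRing
      (C.presheaf.stalk (g z)) hd
  haveI := hdom
  haveI := hval
  exact flat_of_injective_of_valuationRing _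
    (Groth.Agent.H54.stalkMap_injective_of_genericPoint g hgen z)

end Helpers


/-- Over the complex numbers, suppose C is a quasi-projective curve that is smooth and irreducible and X
is a projective variety that is smooth and irreducible; take Z to be an integral closed subscheme of
C × X of dimension one whose projection to C is surjective (a non-vertical irreducible component of
a correspondence from C to X). Then the projection Z → C is finite and flat. -/
theorem result
    (C X : Scheme.{0}) [C.Over (Spec (CommRingCat.of ℂ))] [X.Over (Spec (CommRingCat.of ℂ))]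
    [AlgebraicGeometry.IsIntegral C] [Smooth (C ↘ Spec (CommRingCat.of ℂ))] (hC : RelProj.IsHQuasiProjective (C ↘ Spec (CommRingCat.of ℂ)))
    (hdimC : topologicalKrullDim C = 1)
    [AlgebraicGeometry.IsIntegral X] [Smooth (X ↘ Spec (CommRingCat.of ℂ))] (hX : RelProj.IsHProjective (X ↘ Spec (CommRingCat.of ℂ)))
    {Z : Scheme.{0}} (i : Z ⟶ pullback (C ↘ Spec (CommRingCat.of ℂ)) (X ↘ Spec (CommRingCat.of ℂ))) [IsClosedImmersion i]
    [AlgebraicGeometry.IsIntegral Z] (hdimZ : topologicalKrullDim Z = 1)
    (hsurj : Function.Surjective ⇑(i ≫ pullback.fst (C ↘ Spec (CommRingCat.of ℂ)) (X ↘ Spec (CommRingCat.of ℂ)))) :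
    IsFinite (i ≫ pullback.fst (C ↘ Spec (CommRingCat.of ℂ)) (X ↘ Spec (CommRingCat.of ℂ))) ∧
      Flat (i ≫ pullback.fst (C ↘ Spec (CommRingCat.of ℂ)) (X ↘ Spec (CommRingCat.of ℂ))) := by
  exact main C X (C ↘ Spec (CommRingCat.of ℂ)) (X ↘ Spec (CommRingCat.of ℂ)) hC hdimC hX i hdimZ hsurj
end Groth.Agent.S18267
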