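import Groth.Statements.S18281
import Groth.Agent.S0386
import Groth.Agent.S9705
import Groth.Agent.H73.ZCorr_G
import Groth.Agent.H73.ZCorr_B1
import Groth.Agent.H73.ZCorr_B2
import Groth.Agent.H73.ZCorr_D3
import Groth.Agent.H85.ZCorr_D12

set_option autoImplicit false
open CategoryTheory CategoryTheory.Limits AlgebraicGeometry
open ZCorr

namespace Groth.Agent.S18281

section gen

universe u

open Groth.Agent.H73.ZCorr_G Groth.Agent.H73.ZCorr_B1 Groth.Agent.H73.ZCorr_B2 Groth.Agent.H73.ZCorr_D3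
  Groth.Agent.H85.ZCorr_D12

theorem isOpen_flatSet {Z W : Scheme.{u}} (π : Z ⟶ W) [IsProper π]
    [LocallyOfFinitePresentation π] :
    IsOpen {w : W | ∀ z : Z, π z = w → (π.stalkMap z).hom.Flat} := by
  have hopen := Groth.Agent.S0386.result π
  have hcl : IsClosed (π '' {z | (π.stalkMap z).hom.Flat}ᶜ) :=
    π.isClosedMap _ hopen.isClosed_compl
  convert hcl.isOpen_compl using 1
  ext w
  simp only [Set.mem_setOf_eq, Set.mem_compl_iff, Set.mem_image, not_exists, not_and]
  constructor
  · intro h z hz hzw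
    exact hz (h z hzw)
  · intro h z hzw
    by_contra hz
    exact h z hz hzw

theorem finite_preimage_genericPoint {k : Type u} [Field k] {Z W : Scheme.{u}}
    (sZ : Z ⟶ Spec (CommRingCat.of k)) (sW : W ⟶ Spec (CommRingCat.of k))
    [LocallyOfFiniteType sZ] [LocallyOfFiniteType sW] [IsIntegral Z] [IsIntegral W]
    (π : Z ⟶ W) (hπ : π ≫ sW = sZ) [QuasiCompact π] (n : ℕ)
    (hZ : topologicalKrullDim Z = n) (hW : topologicalKrullDim W = n) :
    (π ⁻¹' {genericPoint W}).Finite := by
  by_cases hmem : genericPoint W ∈ Set.range π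
  · haveI : IsDominant π := by
      refine ⟨dense_iff_closure_eq.mpr (top_unique ?_)⟩
      have h1 : closure ({genericPoint W} : Set W) = Set.univ := (genericPoint_spec W).def
      rw [Set.top_eq_univ, ← h1]
      exact closure_mono (Set.singleton_subset_iff.mpr hmem)
    haveI : LocallyOfFiniteType (π ≫ sW) := by rw [hπ]; infer_instance
    haveI : LocallyOfFiniteType π := locallyOfFiniteType_of_comp π sW
    have hdim := dim_generic_fibre_eq_zero sZ sW π hπ n hZ hW
    exact finite_preimage_of_dim_fiber_le_zero π (genericPoint W) hdim.le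
  · have : π ⁻¹' {genericPoint W} = ∅ := by
      ext z
      simp only [Set.mem_preimage, Set.mem_singleton_iff, Set.mem_empty_iff_false, iff_false]
      intro hz
      exact hmem ⟨z, hz⟩
    rw [this]
    exact Set.finite_empty

theorem main {k : Type u} [Field k] {Z W : Scheme.{u}} (q : W ⟶ Spec (CommRingCat.of k))
    [LocallyOfFiniteType q] [IsIntegral W] [IsIntegral Z] (π : Z ⟶ W) [IsProper π] (n : ℕ)
    (hW : topologicalKrullDim W = n) (hZ : topologicalKrullDim Z = n) :
    (IsOpen {w : W | ∀ z : Z, π z = w → (π.stalkMap z).hom.Flat} ∧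
      {w : W | ∀ z : Z, π z = w → (π.stalkMap z).hom.Flat}.Nonempty) ∧
    ∃ U : W.Opens, (U : Set W) = {w : W | (π ⁻¹' {w}).Finite} ∧
      (U : Set W).Nonempty ∧ IsFinite (π ∣_ U) := by
  haveI : IsLocallyNoetherian W := LocallyOfFiniteType.isLocallyNoetherian q
  haveI : LocallyOfFinitePresentation π := inferInstance
  refine ⟨⟨isOpen_flatSet π,
    ⟨genericPoint W, fun z hz => flat_stalkMap_of_eq_genericPoint π z hz⟩⟩, ?_⟩
  refine ⟨⟨{w | (π ⁻¹' {w}).Finite}, isOpen_setOf_finite_preimage π⟩, rfl,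
    ⟨genericPoint W, ?_⟩, ?_⟩
  · exact finite_preimage_genericPoint (π ≫ q) q π rfl n hZ hW
  · exact isFinite_morphismRestrict_of_forall_finite π _ (fun w hw => hw)

end gen

/-- Over the complex numbers let W be a smooth irreducible quasi-projective variety of dimension n, X a
smooth irreducible projective variety, and Z an integral closed subscheme of X × W of dimension n
(an irreducible component of a correspondence from W to X), with projection π : Z → W. (a) The set
of points of W over which π is flat (flat at every point of the fibre) is open and nonempty. (b) The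
set U of points of W with finite fibre is open and nonempty, and π restricted over U is finite. -/
theorem result
    (W X : Scheme.{0}) [W.Over (Spec (CommRingCat.of ℂ))] [X.Over (Spec (CommRingCat.of ℂ))]
    [AlgebraicGeometry.IsIntegral W] [Smooth (W ↘ Spec (CommRingCat.of ℂ))] (hW : RelProj.IsHQuasiProjective (W ↘ Spec (CommRingCat.of ℂ)))
    (n : ℕ) (hdimW : topologicalKrullDim W = n)
    [AlgebraicGeometry.IsIntegral X] [Smooth (X ↘ Spec (CommRingCat.of ℂ))] (hX : RelProj.IsHProjective (X ↘ Spec (CommRingCat.of ℂ)))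
    {Z : Scheme.{0}} (i : Z ⟶ pullback (X ↘ Spec (CommRingCat.of ℂ)) (W ↘ Spec (CommRingCat.of ℂ))) [IsClosedImmersion i]
    [AlgebraicGeometry.IsIntegral Z] (hdimZ : topologicalKrullDim Z = n) :
    (IsOpen {w : W | ∀ z : Z, (i ≫ pullback.snd (X ↘ Spec (CommRingCat.of ℂ)) (W ↘ Spec (CommRingCat.of ℂ))) z = w →
        ((i ≫ pullback.snd (X ↘ Spec (CommRingCat.of ℂ)) (W ↘ Spec (CommRingCat.of ℂ))).stalkMap z).hom.Flat} ∧
      {w : W | ∀ z : Z, (i ≫ pullback.snd (X ↘ Spec (CommRingCat.of ℂ)) (W ↘ Spec (CommRingCat.of ℂ))) z = w →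
        ((i ≫ pullback.snd (X ↘ Spec (CommRingCat.of ℂ)) (W ↘ Spec (CommRingCat.of ℂ))).stalkMap z).hom.Flat}.Nonempty) ∧
    ∃ U : W.Opens, (U : Set W) = {w : W | ((i ≫ pullback.snd (X ↘ Spec (CommRingCat.of ℂ)) (W ↘ Spec (CommRingCat.of ℂ))) ⁻¹' {w}).Finite} ∧
      (U : Set W).Nonempty ∧ IsFinite ((i ≫ pullback.snd (X ↘ Spec (CommRingCat.of ℂ)) (W ↘ Spec (CommRingCat.of ℂ))) ∣_ U) := by
  haveI : IsProper (X ↘ Spec (CommRingCat.of ℂ)) := by
    obtain ⟨m, j, hj, hjp⟩ := hX
    haveI := hj
    haveI : IsProper (CohB1.ProjSpaceOver.toBase m (Spec (CommRingCat.of ℂ))) :=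
      Groth.Agent.S9705.isProper_toBase m _
    rw [← hjp]
    infer_instance
  exact main (W ↘ Spec (CommRingCat.of ℂ))
    (i ≫ pullback.snd (X ↘ Spec (CommRingCat.of ℂ)) (W ↘ Spec (CommRingCat.of ℂ))) n hdimW hdimZ

end Groth.Agent.S18281
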