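import Groth.Statements.S18283
import Mathlib

set_option autoImplicit false
set_option linter.style.haveILetI false
set_option linter.unusedSectionVars false
set_option linter.unusedVariables false
universe u v
open CAlgX

namespace Groth.Agent.S18283

section Helpers

variable {A : Type u} [CommRing A] {ι : Type v} [Fintype ι] [DecidableEq ι]

/-- the marked vectors -/
noncomputable def fvec (H : Finset ι) (c : ι → ι → A) (j : ι) : ι → A :=
  Pi.single j (1 : A) - ∑ i ∈ Hᶜ, c j i • Pi.single i (1 : A)

theorem fvec_apply_of_mem (H : Finset ι) (c : ι → ι → A) (j : ι) {j' : ι} (hj' : j' ∈ H) :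
    fvec H c j j' = if j' = j then 1 else 0 := by
  unfold fvec
  rw [Pi.sub_apply, Finset.sum_apply, Pi.single_apply]
  have h0 : ∑ i ∈ Hᶜ, (c j i • Pi.single i (1 : A)) j' = 0 := by
    apply Finset.sum_eq_zero
    intro i hi
    have hne : j' ≠ i := by
      intro h
      rw [h] at hj'
      exact (Finset.mem_compl.mp hi) hj'
    rw [Pi.smul_apply, Pi.single_apply, if_neg hne, smul_zero]
  rw [h0, sub_zero]

theorem wedge_zero_of_span (H : Finset ι) (g : ι → (ι → A))
    (v : Fin (H.card + 1) → ι → A)
    (hv : ∀ k, v k ∈ Submodule.span A (g '' (↑H : Set ι))) :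
    exteriorPower.ιMulti A (H.card + 1) v = 0 := by
  classical
  have hex : ∀ k, ∃ a : ↥H → A, ∑ j, a j • g j.1 = v k := fun k =>
    (Submodule.mem_span_image_finset_iff_exists_fun A).mp (hv k)
  choose a ha using hex
  have hzero : (exteriorPower.ιMulti A (H.card + 1)).compLinearMap
      (Fintype.linearCombination A (fun j : ↥H => g j.1)) = 0 := by
    apply Module.Basis.ext_alternating (Pi.basisFun A ↥H)
    intro w hw
    exfalso
    have h1 := Fintype.card_le_of_injective w hw
    rw [Fintype.card_fin, Fintype.card_coe] at h1
    omega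
  have hveq : v = fun k => Fintype.linearCombination A (fun j : ↥H => g j.1) (a k) := by
    funext k
    rw [Fintype.linearCombination_apply, ha k]
  calc exteriorPower.ιMulti A (H.card + 1) v
      = exteriorPower.ιMulti A (H.card + 1)
          (fun k => Fintype.linearCombination A (fun j : ↥H => g j.1) (a k)) := by rw [← hveq]
    _ = ((exteriorPower.ιMulti A (H.card + 1)).compLinearMap
          (Fintype.linearCombination A (fun j : ↥H => g j.1))) a := rfl
    _ = 0 := by rw [hzero]; rfl

theorem coord_zero (H : Finset ι) (c : ι → ι → A) (M : Submodule A (ι → A))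
    (hf : ∀ j ∈ H, fvec H c j ∈ M)
    (hw : ∀ v : Fin (H.card + 1) → ι → A, (∀ k, v k ∈ M) →
      exteriorPower.ιMulti A (H.card + 1) v = 0)
    (x' : ι → A) (hx'M : x' ∈ M) (hx'H : ∀ j ∈ H, x' j = 0) (i : ι) (hi : i ∉ H) :
    x' i = 0 := by
  classical
  obtain ⟨jj, hjjH, hjjinj⟩ : ∃ jj : Fin H.card → ι, (∀ l, jj l ∈ H) ∧ Function.Injective jj :=
    ⟨fun l => (H.equivFin.symm l).1, fun l => (H.equivFin.symm l).2,
      fun l l' hll => H.equivFin.symm.injective (Subtype.ext hll)⟩
  obtain ⟨s, hs⟩ : ∃ s : Fin (H.card + 1) → ι,
      s = fun k => (Fin.lastCases i jj k : ι) := ⟨_, rfl⟩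
  obtain ⟨v, hv⟩ : ∃ v : Fin (H.card + 1) → ι → A,
      v = fun k => (Fin.lastCases x' (fun l => fvec H c (jj l)) k : ι → A) := ⟨_, rfl⟩
  have hs_last : s (Fin.last _) = i := by rw [hs]; exact Fin.lastCases_last
  have hs_cast : ∀ l : Fin H.card, s l.castSucc = jj l := by
    intro l; rw [hs]; exact Fin.lastCases_castSucc _
  have hv_last : v (Fin.last _) = x' := by rw [hv]; exact Fin.lastCases_last
  have hv_cast : ∀ l : Fin H.card, v l.castSucc = fvec H c (jj l) := by
    intro l; rw [hv]; exact Fin.lastCases_castSucc _
  have hvM : ∀ k, v k ∈ M := by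
    intro k
    induction k using Fin.lastCases with
    | last => rw [hv_last]; exact hx'M
    | cast l => rw [hv_cast]; exact hf _ (hjjH l)
  have h0 := hw v hvM
  have h1 : exteriorPower.alternatingMapLinearEquiv
      ((Matrix.detRowAlternating (R := A) (n := Fin (H.card + 1))).compLinearMap
        (LinearMap.funLeft A A s)) (exteriorPower.ιMulti A (H.card + 1) v) = 0 := by
    rw [h0, map_zero]
  rw [exteriorPower.alternatingMapLinearEquiv_apply_ιMulti,
    AlternatingMap.compLinearMap_apply] at h1
  have h2 : (Matrix.of fun k l => v k (s l)).det = 0 := h1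
  have htri : (Matrix.of fun k l => v k (s l)).IsUpperTriangular := by
    intro k l hlk
    have hlk' : l < k := hlk
    show v k (s l) = 0
    induction l using Fin.lastCases with
    | last => exact absurd hlk' (not_lt.mpr (Fin.le_last k))
    | cast l' =>
      rw [hs_cast]
      induction k using Fin.lastCases with
      | last => rw [hv_last]; exact hx'H _ (hjjH l')
      | cast k' =>
        rw [hv_cast, fvec_apply_of_mem H c _ (hjjH l'), if_neg]
        intro heq
        have hkl := hjjinj heq
        rw [hkl] at hlk'
        exact lt_irrefl _ hlk'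
  rw [Matrix.det_of_isUpperTriangular htri, Fin.prod_univ_castSucc] at h2
  have hdiag : ∀ l : Fin H.card,
      (Matrix.of fun k l => v k (s l)) l.castSucc l.castSucc = 1 := by
    intro l
    show v l.castSucc (s l.castSucc) = 1
    rw [hv_cast, hs_cast, fvec_apply_of_mem H c _ (hjjH l), if_pos rfl]
  have hlast : (Matrix.of fun k l => v k (s l)) (Fin.last _) (Fin.last _) = x' i := by
    show v (Fin.last _) (s (Fin.last _)) = x' i
    rw [hv_last, hs_last]
  rw [Finset.prod_congr rfl (fun l _ => hdiag l), Finset.prod_const_one, one_mul, hlast] at h2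
  exact h2

end Helpers

/-- Let A be a commutative ring, ι a finite index type, H a finite set of indices (the head indices) and
c : ι → ι → A a table of coefficients; for j ∈ H put f_j = e_j − Σ_{i ∉ H} c_{ji} e_i in the free
module A^ι, so that each f_j has head e_j with coefficient 1 and tail supported outside H. If a
submodule M of A^ι contains every f_j with j ∈ H, then M is the A-span of these f_j if and only if
every wedge product of |H|+1 elements of M vanishes in the (|H|+1)-st exterior power of A^ι
(equivalently, every (|H|+1)-minor of every matrix whose rows lie in M vanishes). The published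
statement is the case where A is a Noetherian algebra over a field of characteristic zero, A^ι is
the degree-(m+1) part of the polynomial ring over A with its basis of terms, H is the set of
degree-(m+1) terms of a strongly stable monomial ideal generated in degree m, and M is the
degree-(m+1) part of an ideal generated by a marked set on that monomial ideal; this row allows any
commutative ring and any submodule containing the marked polynomials. -/
theorem result
    {A : Type u} [CommRing A] {ι : Type v} [Fintype ι] [DecidableEq ι]
    (H : Finset ι) (c : ι → ι → A) (M : Submodule A (ι → A))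
    (hf : ∀ j ∈ H, (Pi.single j (1 : A) - ∑ i ∈ Hᶜ, c j i • Pi.single i (1 : A)) ∈ M) :
    M = Submodule.span A ((fun j => Pi.single j (1 : A) - ∑ i ∈ Hᶜ, c j i • Pi.single i (1 : A)) '' ↑H)
      ↔ ∀ v : Fin (H.card + 1) → ι → A, (∀ k, v k ∈ M) →
          exteriorPower.ιMulti A (H.card + 1) v = 0 := by
  classical
  constructor
  · intro hM v hv
    apply wedge_zero_of_span H
      (fun j => Pi.single j (1 : A) - ∑ i ∈ Hᶜ, c j i • Pi.single i (1 : A)) v
    intro k
    have hk := hv k
    rw [hM] at hk
    exact hk
  · intro hw
    have hfM : ∀ j ∈ H, fvec H c j ∈ M := hf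
    apply le_antisymm
    · intro x hx
      obtain ⟨x', hx'⟩ : ∃ x' : ι → A, x' = x - ∑ j ∈ H, x j • fvec H c j := ⟨_, rfl⟩
      have hx'M : x' ∈ M := by
        rw [hx']
        exact M.sub_mem hx (M.sum_mem fun j hj => M.smul_mem _ (hfM j hj))
      have hx'H : ∀ j' ∈ H, x' j' = 0 := by
        intro j' hj'
        rw [hx', Pi.sub_apply, Finset.sum_apply]
        have hsum : ∑ j ∈ H, (x j • fvec H c j) j' = x j' := by
          rw [Finset.sum_eq_single j']
          · rw [Pi.smul_apply, fvec_apply_of_mem H c j' hj', if_pos rfl, smul_eq_mul, mul_one]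
          · intro j _ hne
            rw [Pi.smul_apply, fvec_apply_of_mem H c j hj', if_neg (Ne.symm hne), smul_zero]
          · intro hn
            exact absurd hj' hn
        rw [hsum, sub_self]
      have hx'0 : x' = 0 := by
        funext i
        by_cases hi : i ∈ H
        · exact hx'H i hi
        · exact coord_zero H c M hfM hw x' hx'M hx'H i hi
      have hxeq : x = ∑ j ∈ H, x j • fvec H c j := by
        rw [hx'0] at hx'
        exact sub_eq_zero.mp hx'.symm
      rw [hxeq]
      apply Submodule.sum_mem
      intro j hj
      apply Submodule.smul_mem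
      apply Submodule.subset_span
      exact ⟨j, hj, rfl⟩
    · apply Submodule.span_le.mpr
      rintro _ ⟨j, hj, rfl⟩
      exact hf j hj

end Groth.Agent.S18283
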