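import Groth.Statements.S18294
import Mathlib.CategoryTheory.Sites.SubcanonicalOver
import Mathlib.AlgebraicGeometry.Sites.Fpqc

set_option autoImplicit false
universe u
open CategoryTheory MonoidalCategory CartesianMonoidalCategory MonObj AlgebraicGeometry Opposite
open Magnet

namespace Groth.Agent.S18294

/-- Let A be a monoid object in schemes over S acting on S-schemes B and X (in the source A is the
diagonalizable monoid scheme A(M)_S and B = A(N)_S for a magnet N, so that the functor below is the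
attractor X^N). Then the functor on S-schemes T ↦ (morphisms B ×_S T → X over S equivariant for A
acting on the first factor) is a sheaf for the fppf topology. -/
theorem result (S : Scheme.{u}) (A B X : Over S) [MonObj A] (ρ : Magnet.MonAct A B)
    (a : Magnet.MonAct A X) :
    Presheaf.IsSheaf (QuotSh.J Scheme.fppfPrecoverage S) (Magnet.MonAct.eqvHom ρ a) := by
  rw [isSheaf_iff_isSheaf_of_type]
  change Presieve.IsSheaf (Scheme.fppfTopology.over S) (Magnet.MonAct.eqvHom ρ a)
  have hY : Presieve.IsSheaf (Scheme.fppfTopology.over S) (yoneda.obj X) :=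
    GrothendieckTopology.Subcanonical.isSheaf_of_isRepresentable _
  intro T R hR fam hfam
  -- the family does not depend on the proof, only on the arrow
  have hcongr : ∀ {T₁ : Over S} (k f : T₁ ⟶ T) (hk : R.arrows k) (hf : R.arrows f), k = f →
      fam k hk = fam f hf := by
    intro T₁ k f hk hf e
    subst e
    rfl
  -- compatibility in sieve form
  have hcomp : ∀ {T₁ T₂ : Over S} (f : T₁ ⟶ T) (h : T₂ ⟶ T₁) (hf : R.arrows f)
      (k : T₂ ⟶ T) (hk : R.arrows k), k = h ≫ f →
      (fam k hk).1 = (B ◁ h) ≫ (fam f hf).1 := by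
    intro T₁ T₂ f h hf k hk e
    subst e
    have := (Presieve.compatible_iff_sieveCompatible fam).mp hfam f h hf
    exact congrArg Subtype.val this
  have hR' : R.pullback (snd B T) ∈ (Scheme.fppfTopology.over S) (B ⊗ T) :=
    GrothendieckTopology.pullback_stable _ _ hR
  have hx : Presieve.FamilyOfElements.Compatible (P := yoneda.obj X)
      (R := (R.pullback (snd B T)).arrows)
      (fun W g hg => lift (g ≫ fst B T) (𝟙 W) ≫ (fam (g ≫ snd B T) hg).1) := by
    rw [Presieve.compatible_iff_sieveCompatible]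
    intro W W' g h hg
    show lift ((h ≫ g) ≫ fst B T) (𝟙 W') ≫ (fam ((h ≫ g) ≫ snd B T) _).1 =
      h ≫ (lift (g ≫ fst B T) (𝟙 W) ≫ (fam (g ≫ snd B T) hg).1)
    rw [hcomp (g ≫ snd B T) h hg ((h ≫ g) ≫ snd B T) _ (Category.assoc _ _ _),
      lift_whiskerLeft_assoc, ← Category.assoc h, comp_lift]
    simp only [Category.assoc, Category.id_comp, Category.comp_id]
  obtain ⟨φ, hφ, hφu⟩ := hY _ hR' _ hx
  -- key property
  have hstar : ∀ {W : Over S} (c : W ⟶ B) (f : W ⟶ T) (hf : R.arrows f),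
      lift c f ≫ φ = lift c (𝟙 W) ≫ (fam f hf).1 := by
    intro W c f hf
    have hg : (R.pullback (snd B T)).arrows (lift c f) := by
      show R.arrows (lift c f ≫ snd B T)
      rw [lift_snd]; exact hf
    have h1 := hφ (lift c f) hg
    have h2 : lift c f ≫ φ = lift (lift c f ≫ fst B T) (𝟙 W) ≫
        (fam (lift c f ≫ snd B T) hg).1 := h1
    rw [h2, hcongr (lift c f ≫ snd B T) f hg hf (lift_snd _ _), lift_fst]
  have hres : ∀ {T₁ : Over S} (f : T₁ ⟶ T) (hf : R.arrows f), (B ◁ f) ≫ φ = (fam f hf).1 := by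
    intro T₁ f hf
    have e : (B ◁ f) = lift (fst B T₁) (snd B T₁ ≫ f) := by
      apply CartesianMonoidalCategory.hom_ext <;> simp
    have hf' : R.arrows (snd B T₁ ≫ f) := R.downward_closed hf _
    rw [e, hstar _ _ hf', hcomp f (snd B T₁) hf _ hf' rfl, lift_whiskerLeft_assoc,
      Category.id_comp, lift_fst_snd, Category.id_comp]
  have hequiv : Magnet.MonAct.IsEquivariant (ρ.prod (Magnet.MonAct.trivial A T)) a φ := by
    rw [Magnet.MonAct.mem_eqvHom_iff]
    intro T' g' b t
    have hsep := (hY (R.pullback t)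
      (GrothendieckTopology.pullback_stable _ t hR)).isSeparatedFor
    refine hsep.ext ?_
    intro W u hu
    have hu' : R.arrows (u ≫ t) := hu
    show u ≫ (lift (lift g' b ≫ ρ.act) t ≫ φ) = u ≫ (lift g' (lift b t ≫ φ) ≫ a.act)
    have hfe := (Magnet.MonAct.mem_eqvHom_iff _).mp (fam (u ≫ t) hu').2 W (u ≫ g') (u ≫ b) (𝟙 W)
    calc u ≫ (lift (lift g' b ≫ ρ.act) t ≫ φ)
        = lift (lift (u ≫ g') (u ≫ b) ≫ ρ.act) (u ≫ t) ≫ φ := by
          rw [← Category.assoc, comp_lift, ← Category.assoc, comp_lift]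
      _ = lift (lift (u ≫ g') (u ≫ b) ≫ ρ.act) (𝟙 W) ≫ (fam (u ≫ t) hu').1 := hstar _ _ hu'
      _ = lift (u ≫ g') (lift (u ≫ b) (𝟙 W) ≫ (fam (u ≫ t) hu').1) ≫ a.act := hfe
      _ = lift (u ≫ g') (lift (u ≫ b) (u ≫ t) ≫ φ) ≫ a.act := by rw [hstar _ _ hu']
      _ = u ≫ (lift g' (lift b t ≫ φ) ≫ a.act) := by
          rw [← Category.assoc u, comp_lift, ← Category.assoc u, comp_lift]
  refine ⟨⟨φ, hequiv⟩, ?_, ?_⟩
  · intro T₁ f hf
    apply Subtype.ext
    exact hres f hf
  · intro y hy
    apply Subtype.ext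
    apply hφu
    intro W g hg
    show g ≫ y.1 = lift (g ≫ fst B T) (𝟙 W) ≫ (fam (g ≫ snd B T) hg).1
    have h1 : (B ◁ (g ≫ snd B T)) ≫ y.1 = (fam (g ≫ snd B T) hg).1 :=
      congrArg Subtype.val (hy (g ≫ snd B T) hg)
    rw [← h1, lift_whiskerLeft_assoc, Category.id_comp, lift_comp_fst_snd]

end Groth.Agent.S18294
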