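import Groth.Statements.S1834
import Groth.Agent.H15.ComFac2

set_option autoImplicit false
universe u
open CycAlg

namespace Groth.Agent.S1834

/-- Let R be a Noetherian local ring of dimension 1 and a, b nonzerodivisors. There is a finite
extension ring R ⊆ R' with R'/R killed by a power of the maximal ideal, and nonzerodivisors t, a',
b' of R' with a = t a', b = t b' and (a', b') the unit ideal of R'. -/
theorem result (R : Type u) [CommRing R] [IsNoetherianRing R] [IsLocalRing R] (hR : ringKrullDim R = 1) (a b : R) (ha : a ∈ nonZeroDivisors R) (hb : b ∈ nonZeroDivisors R) : ∃ (R' : Type u) (_ : CommRing R') (_ : Algebra R R'), CycAlg.IsFinExt R R' (IsLocalRing.maximalIdeal R) ∧ ∃ t a' b' : R', t ∈ nonZeroDivisors R' ∧ a' ∈ nonZeroDivisors R' ∧ b' ∈ nonZeroDivisors R' ∧ algebraMap R R' a = t * a' ∧ algebraMap R R' b = t * b' ∧ Ideal.span {a', b'} = ⊤ := by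
  obtain ⟨R', i1, i2, ⟨h1, h2, h3⟩, t, a', b', ht, ha', hb', hta, htb, hsp⟩ :=
    Groth.Agent.H15.ComFac.exists_common_factor R hR a b ha hb
  exact ⟨R', i1, i2, ⟨h1, h2, h3⟩, t, a', b', ht, ha', hb', hta, htb, hsp⟩

end Groth.Agent.S1834
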