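import Groth.Statements.S18343
import Mathlib
import Groth.Agent.H93.ThickHom
import Groth.Agent.H93.NilPull
import Groth.Agent.H78.UnivThick

set_option autoImplicit false
set_option maxHeartbeats 400000
universe u
open CategoryTheory CategoryTheory.Limits AlgebraicGeometry
open MultCurve

namespace Groth.Agent.S18343

open AlgebraicGeometry CategoryTheory Limits in
theorem ring_surj_of_sq_zero {B A : Type*} [CommRing B] [CommRing A] (φ : B →+* A) (J : Ideal A)
    (hJ2 : J ^ 2 = ⊥) (hJ : J = (J.comap φ).map φ) (h : ∀ a : A, ∃ b : B, φ b - a ∈ J) :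
    Function.Surjective φ := by
  have hmul : ∀ x ∈ J, ∀ y ∈ J, x * y = 0 := by
    intro x hx y hy
    have : x * y ∈ J ^ 2 := by rw [pow_two]; exact Ideal.mul_mem_mul hx hy
    rw [hJ2] at this
    exact this
  have key : ∀ j ∈ J, ∃ b : B, φ b = j := by
    intro j hj
    rw [hJ] at hj
    have : j ∈ Submodule.span A (φ '' (J.comap φ : Set B)) := hj
    have hP : ∀ x ∈ Submodule.span A (φ '' (J.comap φ : Set B)), (∃ b : B, φ b = x) ∧ x ∈ J := by
      intro x hx
      refine Submodule.span_induction (p := fun x _ => (∃ b : B, φ b = x) ∧ x ∈ J) ?_ ?_ ?_ ?_ hx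
      · rintro _ ⟨k, hk, rfl⟩
        exact ⟨⟨k, rfl⟩, hk⟩
      · exact ⟨⟨0, map_zero φ⟩, J.zero_mem⟩
      · rintro x y _ _ ⟨⟨b, rfl⟩, hx⟩ ⟨⟨c, rfl⟩, hy⟩
        exact ⟨⟨b + c, map_add φ b c⟩, J.add_mem hx hy⟩
      · rintro a x _ ⟨⟨b₀, rfl⟩, hx⟩
        obtain ⟨b, hb⟩ := h a
        refine ⟨⟨b * b₀, ?_⟩, J.mul_mem_left a hx⟩
        have h0 := hmul _ hb _ hx
        have : a • φ b₀ = φ b * φ b₀ - (φ b - a) * φ b₀ := by rw [smul_eq_mul]; ring
        rw [this, h0, sub_zero, map_mul]
    exact (hP j this).1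
  intro a
  obtain ⟨b, hb⟩ := h a
  obtain ⟨c, hc⟩ := key _ hb
  exact ⟨b - c, by rw [map_sub, hc]; ring⟩

open AlgebraicGeometry CategoryTheory Limits in
theorem affine_case {D C X : Scheme.{u}} [IsAffine C] [IsAffine X] (i : D ⟶ C) (f : C ⟶ X)
    [IsClosedImmersion i] (hsq : i.ker ^ 2 = ⊥) [IsClosedImmersion (i ≫ f)]
    (hcomap : (i ≫ f).ker.comap f = i.ker) : IsClosedImmersion f := by
  apply IsClosedImmersion.of_surjective_of_isAffine
  have hJ : i.ker.ideal ⟨⊤, isAffineOpen_top C⟩ = RingHom.ker i.appTop.hom :=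
    Groth.Agent.H93.IdealComap.ideal_top_ker i
  have hK : (i ≫ f).ker.ideal ⟨⊤, isAffineOpen_top X⟩ = RingHom.ker (i ≫ f).appTop.hom :=
    Groth.Agent.H93.IdealComap.ideal_top_ker (i ≫ f)
  have hKJ : RingHom.ker (i ≫ f).appTop.hom = (RingHom.ker i.appTop.hom).comap f.appTop.hom := by
    rw [RingHom.comap_ker, Scheme.Hom.comp_appTop, CommRingCat.hom_comp]
  have h1 := congrArg (fun I : C.IdealSheafData => I.ideal ⟨⊤, isAffineOpen_top C⟩) hcomap
  simp only at h1
  rw [Groth.Agent.H93.IdealComap.ideal_top_comap, hJ, hK, hKJ] at h1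
  have hJ2 : (RingHom.ker i.appTop.hom) ^ 2 = ⊥ := by
    have := congrArg (fun I : C.IdealSheafData => I.ideal ⟨⊤, isAffineOpen_top C⟩) hsq
    simp only [Scheme.IdealSheafData.ideal_pow] at this
    rw [← hJ]
    exact this
  have hsurj : Function.Surjective (i ≫ f).appTop.hom :=
    (IsClosedImmersion.isAffine_surjective_of_isAffine (f := i ≫ f)).2
  refine ring_surj_of_sq_zero f.appTop.hom (RingHom.ker i.appTop.hom) hJ2 h1.symm (fun a => ?_)
  obtain ⟨b, hb⟩ := hsurj (i.appTop.hom a)
  refine ⟨b, ?_⟩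
  rw [RingHom.mem_ker, map_sub, sub_eq_zero, ← hb, Scheme.Hom.comp_appTop]
  rfl


/-- Suppose C is a ribbon on the reduced scheme D via the closed immersion i : D ⟶ C (meaning the ideal
of D squares to zero and is locally generated by a single section z whose annihilator lies in (z)),
and consider an arbitrary morphism of schemes f : C ⟶ X. The morphism f is a closed immersion
exactly when two things hold: the composite i ≫ f, i.e. f restricted to D, is a closed immersion,
and pulling back along f the ideal of the scheme-theoretic image of D in X yields the entire ideal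
of D in C. This second requirement amounts to surjectivity of the map α_f that sends the pullback of
the conormal sheaf of the image of D in X onto the conormal bundle of D in C. (The statement is
given for arbitrary schemes and any morphism f; the published version assumes all schemes are of
finite type over a field and D is connected, but the proof relies on neither assumption.) -/
theorem result (D C X : Scheme.{u}) (i : D ⟶ C)
    (hR : MultCurve.IsRibbon i) (f : C ⟶ X) :
    IsClosedImmersion f ↔ (IsClosedImmersion (i ≫ f) ∧ (i ≫ f).ker.comap f = i.ker) := by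
  obtain ⟨⟨hci, hsq, -⟩, -⟩ := hR
  haveI := hci
  have hisurj : Function.Surjective i.base := by
    rw [← Set.range_eq_univ]
    have h1 : (i.ker.support : Set C) = closure (Set.range i.base) := Scheme.Hom.support_ker i
    rw [i.isClosedEmbedding.isClosed_range.closure_eq] at h1
    rw [← h1, ← Scheme.IdealSheafData.support_pow i.ker 2 (by norm_num), hsq]
    simp
  constructor
  · intro hf
    haveI := hf
    refine ⟨inferInstance, ?_⟩
    exact (Groth.Agent.H93.NilPull.ker_eq_comap_of_isPullback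
      (Groth.Agent.H78.UnivThick.isPullback_of_mono i f)).symm
  · rintro ⟨hg, hcomap⟩
    haveI := hg
    have haff : IsAffineHom f :=
      (Groth.Agent.H93.ThickHom.affineHom_iff i (𝟙 X) (i ≫ f) f hisurj
        (by rw [Category.comp_id])).mp inferInstance
    rw [IsZariskiLocalAtTarget.iff_of_iSup_eq_top (P := @IsClosedImmersion) _
      (iSup_affineOpens_eq_top X)]
    intro U
    haveI : IsAffine (U : X.Opens).toScheme := U.2
    haveI : IsAffine (f ⁻¹ᵁ (U : X.Opens)).toScheme := U.2.preimage f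
    have hcomp : (i ≫ f) ∣_ (U : X.Opens) = i ∣_ (f ⁻¹ᵁ (U : X.Opens)) ≫ f ∣_ (U : X.Opens) :=
      morphismRestrict_comp i f U
    have h0 : IsClosedImmersion ((i ≫ f) ∣_ (U : X.Opens)) :=
      IsZariskiLocalAtTarget.restrict hg (U : X.Opens)
    haveI : IsClosedImmersion (i ∣_ (f ⁻¹ᵁ (U : X.Opens)) ≫ f ∣_ (U : X.Opens)) := hcomp ▸ h0
    have hk1 : (i ∣_ (f ⁻¹ᵁ (U : X.Opens))).ker = i.ker.comap (f ⁻¹ᵁ (U : X.Opens)).ι :=
      Groth.Agent.H93.NilPull.ker_eq_comap_of_isPullback
        (isPullback_morphismRestrict i (f ⁻¹ᵁ (U : X.Opens)))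
    have hk2 : (i ∣_ (f ⁻¹ᵁ (U : X.Opens)) ≫ f ∣_ (U : X.Opens)).ker =
        (i ≫ f).ker.comap (U : X.Opens).ι :=
      Groth.Agent.H93.NilPull.ker_eq_comap_of_isPullback
        (hcomp ▸ isPullback_morphismRestrict (i ≫ f) (U : X.Opens))
    refine affine_case (i ∣_ (f ⁻¹ᵁ (U : X.Opens))) (f ∣_ (U : X.Opens)) ?_ ?_
    · rw [hk1, ← Groth.Agent.H93.IdealComap.comap_pow, hsq]
      exact Scheme.IdealSheafData.comap_bot _
    · rw [hk2, hk1, ← Scheme.IdealSheafData.comap_comp, morphismRestrict_ι,
        Scheme.IdealSheafData.comap_comp, hcomap]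

end Groth.Agent.S18343
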