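import Groth.Statements.S19613
import Groth.Agent.S0440
import Groth.Agent.H21.EpiPush
import Groth.Agent.H18.TensorModIso

set_option autoImplicit false
universe u
open CategoryTheory AlgebraicGeometry TopologicalSpace
open CartMod

namespace Groth.Agent.S19613

set_option linter.style.haveILetI false

open Opposite

theorem base_surjective {T Tc : Scheme.{u}} (i : T ⟶ Tc) [IsClosedImmersion i]
    (hnil : ∃ n : ℕ, ∀ V : Tc.affineOpens, i.ker.ideal V ^ n = ⊥) :
    Function.Surjective i.base := by
  obtain ⟨n, hn⟩ := hnil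
  intro x
  have hrange : (i.ker.support : Set Tc) = Set.range i.base := by
    rw [Scheme.Hom.support_ker]
    exact i.isClosedEmbedding.isClosed_range.closure_eq
  have hx : x ∈ i.ker.support := by
    obtain ⟨V, hV, hxV, -⟩ := exists_isAffineOpen_mem_and_subset (x := x) (U := ⊤) trivial
    rw [Scheme.IdealSheafData.mem_support_iff_of_mem (U := ⟨V, hV⟩) hxV,
      Scheme.mem_zeroLocus_iff]
    intro f hf hxf
    have h0 : f ^ n = 0 := by
      have : f ^ n ∈ i.ker.ideal ⟨V, hV⟩ ^ n := Ideal.pow_mem_pow hf n
      rw [hn ⟨V, hV⟩] at this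
      exact this
    rw [Scheme.mem_basicOpen _ _ _ hxV] at hxf
    have h1 := hxf.pow n
    rw [← map_pow, h0, map_zero] at h1
    exact not_isUnit_zero h1
  have : x ∈ Set.range i.base := by rw [← hrange]; exact hx
  exact this

theorem isAffineOpen_map {T Tc U : Scheme.{u}} (i : T ⟶ Tc) [IsClosedImmersion i]
    (hnil : ∃ n : ℕ, ∀ V : Tc.affineOpens, i.ker.ideal V ^ n = ⊥)
    (u : T ⟶ U) [IsAffineHom u] (g : Tc.carrier ⟶ U.carrier) (hg : i.base ≫ g = u.base)
    (V : U.Opens) (hV : IsAffineOpen V) : IsAffineOpen ((Opens.map g).obj V) := by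
  have hW : i ⁻¹ᵁ ((Opens.map g).obj V) = u ⁻¹ᵁ V := by
    ext x
    show g (i.base x) ∈ V ↔ u.base x ∈ V
    rw [← hg]; rfl
  have haff : IsAffineOpen (i ⁻¹ᵁ ((Opens.map g).obj V)) := hW ▸ hV.preimage u
  haveI : IsAffine (i ⁻¹ᵁ ((Opens.map g).obj V) : Scheme) := haff
  refine Groth.Agent.S0440.result (i ∣_ ((Opens.map g).obj V)) ?_
  intro y
  obtain ⟨x, hx⟩ := base_surjective i hnil y.1
  refine ⟨⟨x, ?_⟩, ?_⟩
  · show i.base x ∈ (Opens.map g).obj V
    rw [hx]; exact y.2
  · apply Subtype.ext
    rw [morphismRestrict_base_coe]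
    exact hx

/-- Let u : T → U be an affine morphism of schemes and i : T → T♮ a nilpotent closed immersion (its
ideal has a vanishing power), so that |T♮| = |T|; let g : |T♮| → |U| be the continuous map
underlying u, and v : (T♮, O_{T♮}) → (U, g_*O_{T♮}) the induced morphism of ringed spaces (identity
on structure rings), with direct image v_* (sections over g⁻¹ of an open) and inverse image v^* its
left adjoint. Then the restriction of v_* to quasi-coherent O_{T♮}-modules is exact; since v_* is a
right adjoint, the content is that v_* of an epimorphism between quasi-coherent O_{T♮}-modules is an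
epimorphism of sheaves of g_*O_{T♮}-modules on U, which is what is stated. -/
theorem result
    {T Tc U : Scheme.{u}} (i : T ⟶ Tc) [IsClosedImmersion i]
    (hnil : ∃ n : ℕ, ∀ V : Tc.affineOpens, i.ker.ideal V ^ n = ⊥)
    (u : T ⟶ U) [IsAffineHom u] (g : Tc.carrier ⟶ U.carrier) (hg : i.base ≫ g = u.base)
    (M N : Tc.Modules) [M.IsQuasicoherent] [N.IsQuasicoherent] (φ : M ⟶ N) [Epi φ] :
    Epi ((SheafOfModules.pushforward (F := Opens.map g) (R := Tc.ringCatSheaf)
      (𝟙 (((Opens.map g).sheafPushforwardContinuous RingCat.{u} (Opens.grothendieckTopology U)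
        (Opens.grothendieckTopology Tc)).obj Tc.ringCatSheaf))).map φ) := by
  have hls : Presheaf.IsLocallySurjective (Opens.grothendieckTopology U)
      ((SheafOfModules.toSheaf _).map ((SheafOfModules.pushforward (F := Opens.map g)
        (R := Tc.ringCatSheaf)
        (𝟙 (((Opens.map g).sheafPushforwardContinuous RingCat.{u} (Opens.grothendieckTopology U)
          (Opens.grothendieckTopology Tc)).obj Tc.ringCatSheaf))).map φ)).hom := by
    apply Groth.Agent.H18.TensorModIso.isLocallySurjective_of_locally_surjective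
    intro V' x hx
    obtain ⟨V, hVaff, hxV, hVV'⟩ := exists_isAffineOpen_mem_and_subset (x := x) (U := V') hx
    refine ⟨V, hVV', hxV, ?_⟩
    intro t
    obtain ⟨y, hy⟩ := Groth.Agent.H21.EpiPush.app_surjective_of_epi φ
      (isAffineOpen_map i hnil u g hg V hVaff) t
    exact ⟨y, hy⟩
  have hls' : Sheaf.IsLocallySurjective ((SheafOfModules.toSheaf _).map
      ((SheafOfModules.pushforward (F := Opens.map g)
        (R := Tc.ringCatSheaf)
        (𝟙 (((Opens.map g).sheafPushforwardContinuous RingCat.{u} (Opens.grothendieckTopology U)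
          (Opens.grothendieckTopology Tc)).obj Tc.ringCatSheaf))).map φ)) := hls
  have hepi : Epi ((SheafOfModules.toSheaf _).map
      ((SheafOfModules.pushforward (F := Opens.map g)
        (R := Tc.ringCatSheaf)
        (𝟙 (((Opens.map g).sheafPushforwardContinuous RingCat.{u} (Opens.grothendieckTopology U)
          (Opens.grothendieckTopology Tc)).obj Tc.ringCatSheaf))).map φ)) :=
    Sheaf.epi_of_isLocallySurjective _
  exact (SheafOfModules.toSheaf _).epi_of_epi_map hepi

end Groth.Agent.S19613
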