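import Groth.Statements.S18344
import Mathlib
import Groth.Agent.H39.ConormalSect
import Groth.Agent.S19613
import Groth.Agent.H8.PullbackStalk
import Groth.Agent.S8914
import Groth.Agent.H18.TensorGen

set_option autoImplicit false
set_option maxHeartbeats 400000
set_option backward.isDefEq.respectTransparency.types false
universe u
open CategoryTheory CategoryTheory.Limits AlgebraicGeometry
open MultCurve

namespace Groth.Agent.S18344

open Groth.Agent.H39 Groth.Agent.H39.ConormalLocal Groth.Agent.H39.ConormalSect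

/-- Ring-level core: for a surjection `A → B` with square-zero kernel `K` and a `B`-module
identified with `K/K²` compatibly with scalars, `K` is principal with the annihilator condition
iff the module is free of rank one. -/
theorem ring_iff {A B : Type u} [CommRing A] [CommRing B] [Algebra A B]
    (hsurj : Function.Surjective (algebraMap A B)) (K : Ideal A)
    (hK : ∀ a : A, a ∈ K ↔ algebraMap A B a = 0)
    (hK2 : K ^ 2 = ⊥)
    {Mod : Type u} [AddCommGroup Mod] [Module B Mod]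
    (Θ : Mod ≃+ K.Cotangent)
    (hΘ : ∀ (b : A) (q : Mod), Θ (algebraMap A B b • q) = b • Θ q) :
    (∃ z : A, K = Ideal.span {z} ∧ ∀ a : A, a * z = 0 → a ∈ K) ↔
      ∃ μ : Mod, Function.Bijective (fun r : B => r • μ) := by
  have hzero : ∀ x : K, K.toCotangent x = 0 → (x : A) = 0 := by
    intro x hx
    have h1 : (x : A) ∈ K ^ 2 := (Ideal.toCotangent_eq_zero K x).mp hx
    rw [hK2] at h1
    exact h1
  have hsm : ∀ (c : A) (x : K), K.toCotangent (c • x) = c • K.toCotangent x :=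
    fun c x => map_smul K.toCotangent c x
  constructor
  · rintro ⟨z, hz, hann⟩
    have hzK : z ∈ K := by rw [hz]; exact Ideal.mem_span_singleton_self z
    refine ⟨Θ.symm (K.toCotangent ⟨z, hzK⟩), ?_, ?_⟩
    · intro r r' hrr
      obtain ⟨a, rfl⟩ := hsurj r
      obtain ⟨a', rfl⟩ := hsurj r'
      have h1 : Θ (algebraMap A B a • Θ.symm (K.toCotangent ⟨z, hzK⟩)) =
          Θ (algebraMap A B a' • Θ.symm (K.toCotangent ⟨z, hzK⟩)) := congrArg Θ hrr
      rw [hΘ, hΘ, AddEquiv.apply_symm_apply, ← hsm, ← hsm, ← sub_eq_zero, ← map_sub,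
        ← sub_smul] at h1
      have h2 := hzero _ h1
      have h3 : (a - a') * z = 0 := h2
      have h4 := hann _ h3
      have h5 : algebraMap A B (a - a') = 0 := (hK _).mp h4
      rw [map_sub, sub_eq_zero] at h5
      exact h5
    · intro t
      obtain ⟨x, hx⟩ := Ideal.toCotangent_surjective K (Θ t)
      have hxz : (x : A) ∈ Ideal.span {z} := by rw [← hz]; exact x.2
      obtain ⟨c, hc⟩ := Ideal.mem_span_singleton'.mp hxz
      refine ⟨algebraMap A B c, ?_⟩
      apply Θ.injective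
      show Θ (algebraMap A B c • Θ.symm (K.toCotangent ⟨z, hzK⟩)) = Θ t
      rw [hΘ, AddEquiv.apply_symm_apply, ← hsm, ← hx]
      congr 1
      exact Subtype.ext hc
  · rintro ⟨τ, hinj, hsurjτ⟩
    obtain ⟨x, hx⟩ := Ideal.toCotangent_surjective K (Θ τ)
    refine ⟨(x : A), ?_, ?_⟩
    · apply le_antisymm
      · intro a ha
        obtain ⟨r, hr⟩ := hsurjτ (Θ.symm (K.toCotangent ⟨a, ha⟩))
        obtain ⟨c, rfl⟩ := hsurj r
        have h1 : Θ (algebraMap A B c • τ) = K.toCotangent ⟨a, ha⟩ := by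
          have h0 := congrArg Θ hr
          rw [AddEquiv.apply_symm_apply] at h0
          exact h0
        rw [hΘ, ← hx, ← hsm, ← sub_eq_zero, ← map_sub] at h1
        have h2 := hzero _ h1
        have h3 : c * (x : A) - a = 0 := h2
        rw [Ideal.mem_span_singleton']
        exact ⟨c, sub_eq_zero.mp h3⟩
      · rw [Ideal.span_le, Set.singleton_subset_iff]
        exact x.2
    · intro a ha
      have h1 : Θ (algebraMap A B a • τ) = 0 := by
        rw [hΘ, ← hx, ← hsm]
        have h0 : a • x = 0 := Subtype.ext ha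
        rw [h0, map_zero]
      have h2 : algebraMap A B a • τ = 0 := Θ.injective (h1.trans (map_zero Θ).symm)
      have h3 : algebraMap A B a = 0 := by
        apply hinj
        show algebraMap A B a • τ = (0 : B) • τ
        rw [zero_smul]
        exact h2
      exact (hK a).mpr h3

set_option maxHeartbeats 1000000 in
/-- Local form over a small affine. -/
theorem local_iff {X Y : Scheme.{u}} (j : X ⟶ Y) [QuasiCompact j] {V₁ : Y.Opens}
    (hV₁ : IsAffineOpen V₁) (hW : IsAffineOpen (j ⁻¹ᵁ V₁))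
    (hsurj : Function.Surjective (j.app V₁))
    (hK2 : j.ker.ideal ⟨V₁, hV₁⟩ ^ 2 = ⊥) :
    (∃ z : Γ(Y, V₁), j.ker.ideal ⟨V₁, hV₁⟩ = Ideal.span {z} ∧
        ∀ a : Γ(Y, V₁), a * z = 0 → a ∈ j.ker.ideal ⟨V₁, hV₁⟩) ↔
      ∃ μ : Γ(Omega.conormal j, j ⁻¹ᵁ V₁),
        Function.Bijective (fun r : Γ(X, j ⁻¹ᵁ V₁) => r • μ) := by
  letI : Algebra Γ(Y, V₁) Γ(X, j ⁻¹ᵁ V₁) := (j.appLE V₁ (j ⁻¹ᵁ V₁) le_rfl).hom.toAlgebra
  obtain ⟨Θ, -, hΘ2⟩ := exists_conormal_equiv j hV₁ hW hsurj
  have happ : j.appLE V₁ (j ⁻¹ᵁ V₁) le_rfl = j.app V₁ := (Scheme.Hom.app_eq_appLE j).symm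
  have hsurj' : Function.Surjective (algebraMap Γ(Y, V₁) Γ(X, j ⁻¹ᵁ V₁)) := by
    show Function.Surjective (j.appLE V₁ (j ⁻¹ᵁ V₁) le_rfl).hom
    rw [happ]; exact hsurj
  have hker : j.ker.ideal ⟨V₁, hV₁⟩ = RingHom.ker (algebraMap Γ(Y, V₁) Γ(X, j ⁻¹ᵁ V₁)) := by
    rw [Scheme.Hom.ker_apply]
    show RingHom.ker (j.app V₁).hom = RingHom.ker (j.appLE V₁ (j ⁻¹ᵁ V₁) le_rfl).hom
    rw [happ]
  rw [hker] at hK2 ⊢
  exact ring_iff hsurj' _ (fun a => RingHom.mem_ker) hK2 Θ hΘ2

/-- Bijectivity of `r ↦ r • σ` transports along an equality of opens. -/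
theorem bijective_res {S : Scheme.{u}} (L : S.Modules) {U V' : S.Opens} (h1 : V' ≤ U)
    (h2 : U ≤ V') (σ : Γ(L, U)) (hb : Function.Bijective (fun r : Γ(S, U) => r • σ)) :
    Function.Bijective (fun r : Γ(S, V') => r • L.presheaf.map (homOfLE h1).op σ) := by
  obtain rfl : V' = U := le_antisymm h1 h2
  have hres : L.presheaf.map (homOfLE h1).op σ = σ := Groth.Agent.S17649.res_self _ _ σ
  rw [hres]
  exact hb

/-- Let C be a scheme and I ⊂ O_C a quasi-coherent ideal with I² = 0, and let D ⊂ C be the closed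
subscheme it defines. Then the following are equivalent: (a) every point of C has an affine open
neighbourhood U on which I(U) is generated by one section z such that every a with a z = 0 lies in
I(U); (b) the conormal sheaf of D in C (the ideal I regarded as an O_D-module, which makes sense
because I² = 0) is an invertible O_D-module. This identifies the line-bundle clause in the
definition of a ribbon with the section-level principal-of-order-two condition. -/
theorem result (C : Scheme.{u}) (I : C.IdealSheafData)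
    (hI : I ^ 2 = ⊥) :
    MultCurve.IsPrincipalOfOrder I 2 ↔ PicF.IsInvertible (Omega.conormal I.subschemeι) := by
  have hkerI : I.subschemeι.ker = I := I.ker_subschemeι
  have hK2 : ∀ V : C.affineOpens, I.subschemeι.ker.ideal V ^ 2 = ⊥ := by
    intro V
    rw [hkerI]
    exact congrArg (fun J : C.IdealSheafData => J.ideal V) hI
  haveI : (ClSub.idealMod I.subschemeι.ker).IsQuasicoherent :=
    inferInstanceAs (kernel (ClSub.toSubscheme I.subschemeι.ker)).IsQuasicoherent
  haveI : (Omega.conormal I.subschemeι).IsQuasicoherent :=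
    Groth.Agent.H8.isQuasicoherent_pullback I.subschemeι (ClSub.idealMod I.subschemeι.ker)
  have hloc : ∀ U : C.affineOpens,
      (∃ z : Γ(C, U), I.ideal U = Ideal.span {z} ∧ ∀ a : Γ(C, U), a * z = 0 → a ∈ I.ideal U) ↔
        ∃ μ : Γ(Omega.conormal I.subschemeι, I.subschemeι ⁻¹ᵁ U.1),
          Function.Bijective (fun r : Γ(I.subscheme, I.subschemeι ⁻¹ᵁ U.1) => r • μ) := by
    intro U
    have h := local_iff I.subschemeι U.2 (U.2.preimage I.subschemeι)
      (I.subschemeι_app_surjective U) (hK2 U)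
    rw [hkerI] at h
    exact h
  constructor
  · intro h y
    obtain ⟨U, hxU, z, hz, hann⟩ := h (I.subschemeι.base y)
    have hann' : ∀ a : Γ(C, U), a * z = 0 → a ∈ I.ideal U := by
      intro a ha
      apply hann a
      rw [pow_one]
      exact ha
    obtain ⟨μ, hμ⟩ := (hloc U).mp ⟨z, hz, hann'⟩
    refine ⟨I.subschemeι ⁻¹ᵁ U.1, hxU, ?_⟩
    have h1 : (I.subschemeι ⁻¹ᵁ U.1).ι ''ᵁ ⊤ ≤ I.subschemeι ⁻¹ᵁ U.1 :=
      (I.subschemeι ⁻¹ᵁ U.1).ι_image_le ⊤
    have h2 : I.subschemeι ⁻¹ᵁ U.1 ≤ (I.subschemeι ⁻¹ᵁ U.1).ι ''ᵁ ⊤ :=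
      le_of_eq (Scheme.Opens.ι_image_top _).symm
    exact Groth.Agent.S8914.nonempty_iso_of_bijective (Omega.conormal I.subschemeι)
      (I.subschemeι ⁻¹ᵁ U.1) (U.2.preimage I.subschemeι) μ h1
      (bijective_res _ h1 h2 μ hμ)
  · intro h x
    obtain ⟨y, rfl⟩ := Groth.Agent.S19613.base_surjective I.subschemeι ⟨2, hK2⟩ x
    obtain ⟨W₀, τ, hyW₀, hτ⟩ := Groth.Agent.H18.TensorGen.exists_isGen h y
    obtain ⟨U₀, hU₀, hU₀W⟩ :=
      I.subschemeι.isClosedEmbedding.isInducing.isOpen_iff.mp W₀.2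
    have hyU₀ : I.subschemeι.base y ∈ U₀ := by
      have : y ∈ I.subschemeι.base ⁻¹' U₀ := by rw [hU₀W]; exact hyW₀
      exact this
    obtain ⟨_, ⟨V, hV, rfl⟩, hxV, hVU⟩ :=
      C.isBasis_affineOpens.exists_subset_of_mem_open hyU₀ hU₀
    have hle : I.subschemeι ⁻¹ᵁ V ≤ W₀ := by
      intro p hp
      have hp' : p ∈ I.subschemeι.base ⁻¹' U₀ := hVU hp
      rw [hU₀W] at hp'
      exact hp'
    have hb := (hτ.res hle).self
    obtain ⟨z, hz, hann⟩ := (hloc ⟨V, hV⟩).mpr ⟨_, hb⟩
    refine ⟨⟨V, hV⟩, hxV, z, hz, ?_⟩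
    intro a ha
    apply hann a
    rw [pow_one] at ha
    exact ha

end Groth.Agent.S18344
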