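import Groth.Statements.S1835
import Mathlib

set_option autoImplicit false
set_option linter.style.haveILetI false
universe u
open CycAlg

namespace Groth.Agent.S1835

/-- Let R be a Noetherian local ring of dimension 1, a a nonzerodivisor in the maximal ideal and b a
nonzerodivisor. There is an integer n such that whenever b = a^m c in some finite extension ring R ⊆
R', one has m ≤ n. -/
theorem result (R : Type u) [CommRing R] [IsNoetherianRing R] [IsLocalRing R] (hR : ringKrullDim R = 1) (a b : R) (ha : a ∈ nonZeroDivisors R) (ham : a ∈ IsLocalRing.maximalIdeal R) (hb : b ∈ nonZeroDivisors R) : ∃ n : ℕ, ∀ (R' : Type u) [CommRing R'] [Algebra R R'], Function.Injective (algebraMap R R') → Module.Finite R R' → ∀ (m : ℕ) (c : R'), algebraMap R R' b = algebraMap R R' a ^ m * c → m ≤ n := by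
  classical
  haveI : Ring.KrullDimLE 1 R := Ring.krullDimLE_iff.mpr (by rw [hR, Nat.cast_one])
  have hrad : a ∈ (Ideal.span {b}).radical := by
    rw [Ideal.radical_eq_sInf, Ideal.mem_sInf]
    rintro J ⟨hbJ, hJ⟩
    rcases (Ring.krullDimLE_one_iff.mp inferInstance) J hJ with hmin | hmax
    · exact absurd hb (notMem_nonZeroDivisors_of_mem_mem_minimalPrimes
        (hbJ (Ideal.mem_span_singleton_self b)) hmin)
    · rw [IsLocalRing.eq_maximalIdeal hmax]
      exact ham
  obtain ⟨k, hk⟩ := hrad
  obtain ⟨d, hd⟩ := Ideal.mem_span_singleton'.mp hk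
  refine ⟨k, ?_⟩
  intro R' _ _ hinj hfin m c hbc
  by_contra hlt
  have hb0 : b ≠ 0 := nonZeroDivisors.ne_zero hb
  haveI : Algebra.IsIntegral R R' := Algebra.IsIntegral.of_finite R R'
  have hm : m = k + (m - k) := by omega
  have hpos : 0 < m - k := by omega
  have hkey : algebraMap R R' b *
      (1 - algebraMap R R' a ^ (m - k) * (algebraMap R R' d * c)) = 0 := by
    have h1 : algebraMap R R' b = algebraMap R R' a ^ k * algebraMap R R' a ^ (m - k) * c := by
      rw [← pow_add, ← hm]
      exact hbc
    have h2 : algebraMap R R' a ^ k = algebraMap R R' d * algebraMap R R' b := by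
      rw [← map_pow, ← hd, map_mul]
    calc algebraMap R R' b * (1 - algebraMap R R' a ^ (m - k) * (algebraMap R R' d * c))
        = algebraMap R R' b -
            (algebraMap R R' d * algebraMap R R' b) * algebraMap R R' a ^ (m - k) * c := by ring
      _ = algebraMap R R' b - algebraMap R R' a ^ k * algebraMap R R' a ^ (m - k) * c := by
          rw [← h2]
      _ = 0 := by rw [← h1, sub_self]
  have hunit : IsUnit (1 - algebraMap R R' a ^ (m - k) * (algebraMap R R' d * c)) := by
    by_contra hnu
    obtain ⟨𝔫, h𝔫max, h𝔫mem⟩ := exists_max_ideal_of_mem_nonunits hnu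
    haveI := h𝔫max
    have hcomap : (𝔫.comap (algebraMap R R')).IsMaximal :=
      Ideal.isMaximal_comap_of_isIntegral_of_isMaximal (R := R) 𝔫
    have ha𝔫 : algebraMap R R' a ∈ 𝔫 := by
      have : a ∈ 𝔫.comap (algebraMap R R') := by
        rw [IsLocalRing.eq_maximalIdeal hcomap]
        exact ham
      exact this
    have hprod : algebraMap R R' a ^ (m - k) * (algebraMap R R' d * c) ∈ 𝔫 :=
      𝔫.mul_mem_right _ (𝔫.pow_mem_of_mem ha𝔫 _ hpos)
    have h1mem : (1 : R') ∈ 𝔫 := by
      have := 𝔫.add_mem h𝔫mem hprod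
      rwa [sub_add_cancel] at this
    exact h𝔫max.ne_top ((Ideal.eq_top_iff_one _).mpr h1mem)
  have hzero : algebraMap R R' b = 0 := (hunit.mul_left_eq_zero).mp hkey
  exact hb0 (hinj (hzero.trans (map_zero _).symm))

end Groth.Agent.S1835
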