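import Groth.Statements.S9371
import Groth.Agent.H39.ConormalTrans
import Groth.Agent.H65.DiffOpZero

set_option autoImplicit false
set_option linter.style.haveILetI false
universe u
open OmegaSh

namespace Groth.Agent.S9371

open AlgebraicGeometry CategoryTheory Limits TopologicalSpace Opposite
open Groth.Agent.H39 Groth.Agent.H8 Groth.Agent.H39.ConormalLocal Groth.Agent.H39.ConormalSect
  Groth.Agent.H39.ConormalMap

section Construction

variable {Z X Z' X' : Scheme.{u}} (i : Z ⟶ X) (i' : Z' ⟶ X') [QuasiCompact i]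
  (g : X ⟶ X') (gZ : Z ⟶ Z') (hsq : gZ ≫ i' = i ≫ g)

include hsq in
omit [QuasiCompact i] in
lemma app_kill (U' : X'.Opens) (s' : Γ(ClSub.idealMod i'.ker, U')) :
    (i.app (g ⁻¹ᵁ U')).hom ((g.app U').hom (idealSect i'.ker U' s')) = 0 := by
  have h1 : (i.app (g ⁻¹ᵁ U')).hom ((g.app U').hom (idealSect i'.ker U' s')) =
      ((i ≫ g).app U').hom (idealSect i'.ker U' s') := rfl
  rw [h1]
  have h2 : ∀ (f₁ f₂ : Z ⟶ X') (h : f₁ = f₂) (y : Γ(X', U')), (f₁.app U').hom y = 0 →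
      (f₂.app U').hom y = 0 := by
    intro f₁ f₂ h y hy; subst h; exact hy
  apply h2 _ _ hsq
  show (gZ.app (i' ⁻¹ᵁ U')).hom ((i'.app U').hom (idealSect i'.ker U' s')) = 0
  rw [app_idealSect i' U' s', map_zero]

include hsq in
omit [QuasiCompact i] in
lemma preimage_le (U' : X'.Opens) : gZ ⁻¹ᵁ (i' ⁻¹ᵁ U') ≤ i ⁻¹ᵁ (g ⁻¹ᵁ U') := by
  intro z hz
  have h1 : g (i z) = i' (gZ z) := by
    rw [← Scheme.Hom.comp_apply, ← Scheme.Hom.comp_apply, hsq]
  show g (i z) ∈ U'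
  rw [h1]
  exact hz

/-- The unique section of the ideal of `Z` lifting `g♯ s'`. -/
noncomputable def liftSect (U' : X'.Opens) (s' : Γ(ClSub.idealMod i'.ker, U')) :
    Γ(ClSub.idealMod i.ker, g ⁻¹ᵁ U') :=
  (exists_idealSect_eq_of_app_eq_zero i (g ⁻¹ᵁ U') _ (app_kill i i' g gZ hsq U' s')).choose

lemma liftSect_spec (U' : X'.Opens) (s' : Γ(ClSub.idealMod i'.ker, U')) :
    idealSect i.ker (g ⁻¹ᵁ U') (liftSect i i' g gZ hsq U' s') =
      (g.app U').hom (idealSect i'.ker U' s') :=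
  (exists_idealSect_eq_of_app_eq_zero i (g ⁻¹ᵁ U') _ (app_kill i i' g gZ hsq U' s')).choose_spec

lemma liftSect_unique (U' : X'.Opens) (s' : Γ(ClSub.idealMod i'.ker, U'))
    (s : Γ(ClSub.idealMod i.ker, g ⁻¹ᵁ U'))
    (hs : idealSect i.ker (g ⁻¹ᵁ U') s = (g.app U').hom (idealSect i'.ker U' s')) :
    liftSect i i' g gZ hsq U' s' = s :=
  ι_injective i.ker (g ⁻¹ᵁ U') ((liftSect_spec i i' g gZ hsq U' s').trans hs.symm)

/-- The value of the conormal map on the class of `s'`. -/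
noncomputable def Dfun (U' : X'.Opens) (s' : Γ(ClSub.idealMod i'.ker, U')) :
    Γ(Omega.conormal i, gZ ⁻¹ᵁ (i' ⁻¹ᵁ U')) :=
  (Omega.conormal i).presheaf.map (homOfLE (preimage_le i i' g gZ hsq U')).op
    (conormalSect i (g ⁻¹ᵁ U') (liftSect i i' g gZ hsq U' s'))

lemma Dfun_eq (U' : X'.Opens) (s' : Γ(ClSub.idealMod i'.ker, U'))
    (s : Γ(ClSub.idealMod i.ker, g ⁻¹ᵁ U'))
    (hs : idealSect i.ker (g ⁻¹ᵁ U') s = (g.app U').hom (idealSect i'.ker U' s')) :
    Dfun i i' g gZ hsq U' s' =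
      (Omega.conormal i).presheaf.map (homOfLE (preimage_le i i' g gZ hsq U')).op
        (conormalSect i (g ⁻¹ᵁ U') s) := by
  unfold Dfun
  rw [liftSect_unique i i' g gZ hsq U' s' s hs]

lemma Dfun_add (U' : X'.Opens) (s'₁ s'₂ : Γ(ClSub.idealMod i'.ker, U')) :
    Dfun i i' g gZ hsq U' (s'₁ + s'₂) =
      Dfun i i' g gZ hsq U' s'₁ + Dfun i i' g gZ hsq U' s'₂ := by
  rw [Dfun_eq i i' g gZ hsq U' (s'₁ + s'₂)
    (liftSect i i' g gZ hsq U' s'₁ + liftSect i i' g gZ hsq U' s'₂)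
    (by rw [map_add, map_add, map_add, liftSect_spec, liftSect_spec])]
  rw [map_add, map_add]
  rfl

lemma Dfun_res {U' V' : X'.Opens} (hle : V' ≤ U') (s' : Γ(ClSub.idealMod i'.ker, U')) :
    Dfun i i' g gZ hsq V' ((ClSub.idealMod i'.ker).presheaf.map (homOfLE hle).op s') =
      (Omega.conormal i).presheaf.map
        (homOfLE (show gZ ⁻¹ᵁ (i' ⁻¹ᵁ V') ≤ gZ ⁻¹ᵁ (i' ⁻¹ᵁ U') from fun _ hz => hle hz)).op
        (Dfun i i' g gZ hsq U' s') := by
  have hle' : g ⁻¹ᵁ V' ≤ g ⁻¹ᵁ U' := fun _ hz => hle hz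
  rw [Dfun_eq i i' g gZ hsq V' _
    ((ClSub.idealMod i.ker).presheaf.map (homOfLE hle').op (liftSect i i' g gZ hsq U' s'))
    (by
      rw [idealSect_res, idealSect_res, liftSect_spec]
      exact (congr($(g.naturality (homOfLE hle).op) (idealSect i'.ker U' s'))).symm)]
  unfold Dfun
  have e0 : conormalSect i (g ⁻¹ᵁ V')
      ((ClSub.idealMod i.ker).presheaf.map (homOfLE hle').op (liftSect i i' g gZ hsq U' s')) =
      (Omega.conormal i).presheaf.map
        (homOfLE (show i ⁻¹ᵁ (g ⁻¹ᵁ V') ≤ i ⁻¹ᵁ (g ⁻¹ᵁ U') from fun _ hz => hle hz)).op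
        (conormalSect i (g ⁻¹ᵁ U') (liftSect i i' g gZ hsq U' s')) :=
    PullTrack.pullSect_res i (ClSub.idealMod i.ker) hle' _
  refine (congrArg _ e0).trans ?_
  rw [PullTrack.res_res, PullTrack.res_res]

lemma Dfun_smul (U' : X'.Opens) (a : Γ(X', U')) (s' : Γ(ClSub.idealMod i'.ker, U')) :
    Dfun i i' g gZ hsq U' (a • s') =
      (gZ.app (i' ⁻¹ᵁ U')).hom ((i'.app U').hom a) • Dfun i i' g gZ hsq U' s' := by
  rw [Dfun_eq i i' g gZ hsq U' (a • s') ((g.app U').hom a • liftSect i i' g gZ hsq U' s')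
    (by rw [idealSect_smul, idealSect_smul, liftSect_spec, map_mul])]
  unfold Dfun
  have e1 : pullSect i (ClSub.idealMod i.ker) (g ⁻¹ᵁ U')
      ((g.app U').hom a • liftSect i i' g gZ hsq U' s') =
      (i.app (g ⁻¹ᵁ U')).hom ((g.app U').hom a) •
        pullSect i (ClSub.idealMod i.ker) (g ⁻¹ᵁ U') (liftSect i i' g gZ hsq U' s') :=
    Scheme.Modules.Hom.app_smul
      ((Scheme.Modules.pullbackPushforwardAdjunction i).unit.app (ClSub.idealMod i.ker)) _ _
  have e1' : conormalSect i (g ⁻¹ᵁ U')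
      ((g.app U').hom a • liftSect i i' g gZ hsq U' s') =
      (i.app (g ⁻¹ᵁ U')).hom ((g.app U').hom a) •
        conormalSect i (g ⁻¹ᵁ U') (liftSect i i' g gZ hsq U' s') := e1
  refine (congrArg _ e1').trans ?_
  rw [Groth.Agent.H8.res_smul]
  congr 1
  have h2 := congr($(Scheme.Hom.congr_app hsq U') a)
  refine Eq.trans ?_ h2.symm
  rfl

/-- The target `i'_* gZ_* C_{Z/X}`. -/
noncomputable def Tmod : X'.Modules :=
  (Scheme.Modules.pushforward i').obj ((Scheme.Modules.pushforward gZ).obj (Omega.conormal i))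

/-- The additive presheaf map `𝓘' → i'_* gZ_* C_{Z/X}`. -/
noncomputable def Dpre : (ClSub.idealMod i'.ker).presheaf ⟶ (Tmod i i' gZ).presheaf where
  app U' := AddCommGrpCat.ofHom
    (AddMonoidHom.mk' (Dfun i i' g gZ hsq U'.unop) (Dfun_add i i' g gZ hsq U'.unop))
  naturality U' V' f := by
    ext s'
    exact Dfun_res i i' g gZ hsq (leOfHom f.unop) s'

lemma Dpre_app (U' : X'.Opens) (s' : Γ(ClSub.idealMod i'.ker, U')) :
    (Dpre i i' g gZ hsq).app (op U') s' = Dfun i i' g gZ hsq U' s' := rfl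

/-- The doubly adjoint map `𝓘' → i'_* gZ_* C_{Z/X}`. -/
noncomputable def phiFlat : ClSub.idealMod i'.ker ⟶ Tmod i i' gZ :=
  Groth.Agent.H65.DiffOpZero.homOfLinear _ _ (Dpre i i' g gZ hsq)
    (fun U' a t => Dfun_smul i i' g gZ hsq U' a t)

lemma phiFlat_app (U' : X'.Opens) (s' : Γ(ClSub.idealMod i'.ker, U')) :
    (phiFlat i i' g gZ hsq).app U' s' = Dfun i i' g gZ hsq U' s' := rfl

/-- The canonical map of conormal sheaves. -/
noncomputable def phi : (Scheme.Modules.pullback gZ).obj (Omega.conormal i') ⟶ Omega.conormal i :=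
  ((Scheme.Modules.pullbackPushforwardAdjunction gZ).homEquiv (Omega.conormal i')
      (Omega.conormal i)).symm
    (((Scheme.Modules.pullbackPushforwardAdjunction i').homEquiv (ClSub.idealMod i'.ker)
      ((Scheme.Modules.pushforward gZ).obj (Omega.conormal i))).symm (phiFlat i i' g gZ hsq))

lemma phi_app (U' : X'.Opens) (s' : Γ(ClSub.idealMod i'.ker, U')) :
    (phi i i' g gZ hsq).app (gZ ⁻¹ᵁ (i' ⁻¹ᵁ U'))
      (pullSect gZ (Omega.conormal i') (i' ⁻¹ᵁ U') (conormalSect i' U' s')) =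
      Dfun i i' g gZ hsq U' s' := by
  rw [← DerKit.homEquiv_app gZ (phi i i' g gZ hsq) (i' ⁻¹ᵁ U') (conormalSect i' U' s')]
  unfold phi
  rw [Equiv.apply_symm_apply]
  have h2 := DerKit.homEquiv_app i'
    (((Scheme.Modules.pullbackPushforwardAdjunction i').homEquiv (ClSub.idealMod i'.ker)
      ((Scheme.Modules.pushforward gZ).obj (Omega.conormal i))).symm (phiFlat i i' g gZ hsq)) U' s'
  rw [Equiv.apply_symm_apply] at h2
  exact h2.symm

end Construction

theorem result {Z X Z' X' : Scheme.{u}} (i : Z ⟶ X) (i' : Z' ⟶ X') [IsImmersion i] [IsImmersion i']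
    [QuasiCompact i] [QuasiCompact i'] (g : X ⟶ X') (gZ : Z ⟶ Z') (hsq : gZ ≫ i' = i ≫ g) :
    ∃! φ : (Scheme.Modules.pullback gZ).obj (Omega.conormal i') ⟶ Omega.conormal i,
      OmegaSh.IsConormalMap i i' g gZ φ := by
  refine ⟨phi i i' g gZ hsq, ⟨hsq, ?_⟩, ?_⟩
  · intro U' s' s hs V h₁ h₂
    rw [phi_app, Dfun_eq i i' g gZ hsq U' s' s hs, PullTrack.res_res]
  · rintro φ' ⟨-, hφ'⟩
    apply pullback_pullback_hom_ext gZ i'
    intro U' s'
    have h1 := hφ' U' s' (liftSect i i' g gZ hsq U' s') (liftSect_spec i i' g gZ hsq U' s')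
      (gZ ⁻¹ᵁ (i' ⁻¹ᵁ U')) le_rfl (preimage_le i i' g gZ hsq U')
    rw [PullTrack.res_self] at h1
    refine h1.trans ?_
    exact (phi_app i i' g gZ hsq U' s').symm

end Groth.Agent.S9371
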