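import Groth.Statements.S18351
import Groth.Agent.S9371

set_option autoImplicit false
set_option linter.style.haveILetI false
universe w u
open CategoryTheory CategoryTheory.Limits AlgebraicGeometry

namespace Groth.Agent.S18351

open OmegaSh Opposite
open Groth.Agent.H39 Groth.Agent.H8 Groth.Agent.H39.ConormalLocal Groth.Agent.H39.ConormalSect
  Groth.Agent.H39.ConormalMap

section Beta

variable {D C C' S : Scheme.{u}} (i : D ⟶ C) (g : C ⟶ C') (pC : C ⟶ S) (pC' : C' ⟶ S)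
  (hgk : g ≫ pC' = pC) {Ω₁ : C.Modules} (d₁ : Der pC Ω₁) {Ω₁' : C'.Modules} (d₁' : Der pC' Ω₁')
  (hd₁' : IsUniversal d₁')

/-- The derivation `O_{C'} → g_* i_* i^* Ω₁`, `s ↦ i^*(d₁ (g♯ s))`. -/
noncomputable def derBeta :
    Der pC' ((Scheme.Modules.pushforward g).obj ((Scheme.Modules.pushforward i).obj
      ((Scheme.Modules.pullback i).obj Ω₁))) :=
  DerKit.derPush g (𝟙 S) (show pC ≫ 𝟙 S = g ≫ pC' by rw [Category.comp_id, hgk])
    (d₁.postcomp ((Scheme.Modules.pullbackPushforwardAdjunction i).unit.app Ω₁).val)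

lemma derBeta_app (U' : C'.Opens) (s : Γ(C', U')) :
    (derBeta i g pC pC' hgk d₁).app U' s =
      pullSect i Ω₁ (g ⁻¹ᵁ U') (d₁.app (g ⁻¹ᵁ U') ((g.app U').hom s)) := rfl

include hgk hd₁' in
lemma exists_beta :
    ∃ β : (Scheme.Modules.pullback (i ≫ g)).obj Ω₁' ⟶ (Scheme.Modules.pullback i).obj Ω₁,
      ∀ (U' : C'.Opens) (s : Γ(C', U')),
        β.app ((i ≫ g) ⁻¹ᵁ U') (pullSect (i ≫ g) Ω₁' U' (d₁'.app U' s)) =
          pullSect i Ω₁ (g ⁻¹ᵁ U') (d₁.app (g ⁻¹ᵁ U') ((g.app U').hom s)) := by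
  obtain ⟨b, hb⟩ := DerKit.exists_of_universal hd₁' (derBeta i g pC pC' hgk d₁)
  let b' : Ω₁' ⟶ (Scheme.Modules.pushforward (i ≫ g)).obj ((Scheme.Modules.pullback i).obj Ω₁) :=
    b ≫ (Scheme.Modules.pushforwardComp i g).hom.app _
  refine ⟨((Scheme.Modules.pullbackPushforwardAdjunction (i ≫ g)).homEquiv Ω₁'
    ((Scheme.Modules.pullback i).obj Ω₁)).symm b', fun U' s => ?_⟩
  have h2 := DerKit.homEquiv_app (i ≫ g)
    (((Scheme.Modules.pullbackPushforwardAdjunction (i ≫ g)).homEquiv Ω₁'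
      ((Scheme.Modules.pullback i).obj Ω₁)).symm b') U' (d₁'.app U' s)
  rw [Equiv.apply_symm_apply] at h2
  refine h2.symm.trans ?_
  have h3 : b'.app U' (d₁'.app U' s) = b.app U' (d₁'.app U' s) := rfl
  rw [h3, hb, derBeta_app]

end Beta

open MultCurve in
theorem result (k : Type u) [Field k] (D : Scheme.{u})
    (pD : D ⟶ Spec (CommRingCat.of k)) [LocallyOfFiniteType pD] [ConnectedSpace D]
    (Ω₂ : D.Modules) (d₂ : OmegaSh.Der pD Ω₂) (hd₂ : OmegaSh.IsUniversal d₂) [HasExt.{w} D.Modules]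
    (C : Scheme.{u}) (i : D ⟶ C) (pC : C ⟶ Spec (CommRingCat.of k)) [LocallyOfFiniteType pC]
    (hp : i ≫ pC = pD) (hR : MultCurve.IsRibbon i)
    (Ω₁ : C.Modules) (d₁ : OmegaSh.Der pC Ω₁) (hd₁ : OmegaSh.IsUniversal d₁)
    (φ : Omega.conormal i ⟶ (Scheme.Modules.pullback i).obj Ω₁) (hφ : OmegaSh.IsConormalDiff i d₁ φ)
    (c : (Scheme.Modules.pullback i).obj Ω₁ ⟶ Ω₂) (hc : OmegaSh.IsDiffCompat i d₁ d₂ c)
    (hw : φ ≫ c = 0) (hS : (ShortComplex.mk φ c hw).ShortExact)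
    (C' : Scheme.{u}) (i' : D ⟶ C') (pC' : C' ⟶ Spec (CommRingCat.of k)) [LocallyOfFiniteType pC']
    (hp' : i' ≫ pC' = pD) (hR' : MultCurve.IsRibbon i')
    (Ω₁' : C'.Modules) (d₁' : OmegaSh.Der pC' Ω₁') (hd₁' : OmegaSh.IsUniversal d₁')
    (φ' : Omega.conormal i' ⟶ (Scheme.Modules.pullback i').obj Ω₁') (hφ' : OmegaSh.IsConormalDiff i' d₁' φ')
    (c' : (Scheme.Modules.pullback i').obj Ω₁' ⟶ Ω₂) (hc' : OmegaSh.IsDiffCompat i' d₁' d₂ c')
    (hw' : φ' ≫ c' = 0) (hS' : (ShortComplex.mk φ' c' hw').ShortExact)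
    (g : C ⟶ C') (hgi : i ≫ g = i') (hgk : g ≫ pC' = pC)
    (α : (Scheme.Modules.pullback (𝟙 D)).obj (Omega.conormal i') ⟶ Omega.conormal i)
    (hα : OmegaSh.IsConormalMap i i' g (𝟙 D) α) :
    hS'.extClass.comp (Abelian.Ext.mk₀ ((Scheme.Modules.pullbackId D).inv.app (Omega.conormal i') ≫ α)) (add_zero 1) =
      hS.extClass := by
  subst hgi
  haveI : IsClosedImmersion i := hR.1.1
  have hsq : 𝟙 D ≫ (i ≫ g) = i ≫ g := Category.id_comp _
  obtain ⟨β, hβ⟩ := exists_beta i g pC pC' hgk d₁ d₁' hd₁'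
  -- right square
  have h23 : β ≫ c = c' := by
    apply DerKit.pullback_hom_ext_of_universal (i ≫ g) hd₁'
    intro U' s
    show c.app _ (β.app _ (pullSect (i ≫ g) Ω₁' U' (d₁'.app U' s))) = _
    rw [hβ, hc' U' s]
    exact hc (g ⁻¹ᵁ U') ((g.app U').hom s)
  -- left square
  have h12 : ((Scheme.Modules.pullbackId D).inv.app (Omega.conormal (i ≫ g)) ≫ α) ≫ φ = φ' ≫ β := by
    apply pullback_hom_ext (i ≫ g)
    intro U' s'
    show φ.app _ (α.app _ (((Scheme.Modules.pullbackId D).inv.app (Omega.conormal (i ≫ g))).app _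
        (conormalSect (i ≫ g) U' s'))) =
      β.app _ (φ'.app _ (conormalSect (i ≫ g) U' s'))
    rw [hφ' U' s', hβ, DerKit.pullbackId_inv_app]
    have h1 := hα.2 U' s' (Groth.Agent.S9371.liftSect i (i ≫ g) g (𝟙 D) hsq U' s')
      (Groth.Agent.S9371.liftSect_spec i (i ≫ g) g (𝟙 D) hsq U' s')
      ((𝟙 D) ⁻¹ᵁ ((i ≫ g) ⁻¹ᵁ U')) le_rfl le_rfl
    rw [PullTrack.res_self] at h1
    have h1' := h1.trans (PullTrack.res_self (Omega.conormal i) (A := i ⁻¹ᵁ (g ⁻¹ᵁ U')) le_rfl _)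
    refine (congrArg (φ.app (i ⁻¹ᵁ (g ⁻¹ᵁ U'))) h1').trans ?_
    rw [hφ (g ⁻¹ᵁ U'), Groth.Agent.S9371.liftSect_spec]
  let F : ShortComplex.mk φ' c' hw' ⟶ ShortComplex.mk φ c hw :=
    { τ₁ := (Scheme.Modules.pullbackId D).inv.app (Omega.conormal (i ≫ g)) ≫ α
      τ₂ := β
      τ₃ := 𝟙 _
      comm₁₂ := h12
      comm₂₃ := by
        show β ≫ c = c' ≫ 𝟙 _
        rw [h23, Category.comp_id] }
  have h := ShortComplex.ShortExact.extClass_naturality hS' hS F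
  rw [h]
  exact Abelian.Ext.mk₀_id_comp _

end Groth.Agent.S18351
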