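import Groth.Statements.S18362
import Mathlib
import Groth.Agent.H68.PthRoot
import Groth.Agent.H3.HUnramSplit
import Groth.Agent.S14620
import Groth.Agent.H23.RegularLocal

set_option autoImplicit false
universe u
open SGA1t

namespace Groth.Agent.S18362

open Polynomial
open scoped TensorProduct

/-- Localisation of a finite power `κ → A` at the constant function `f`. -/
theorem isLocalization_pi {A : Type*} [CommRing A] (f : A) (R : Type*) [CommRing R] [Algebra A R]
    [IsLocalization.Away f R] (κ : Type*) [Finite κ] :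
    letI : Algebra (κ → A) (κ → R) :=
      (RingHom.pi fun k => (algebraMap A R).comp (Pi.evalRingHom (fun _ => A) k)).toAlgebra
    IsLocalization.Away (algebraMap A (κ → A) f) (κ → R) := by
  classical
  cases nonempty_fintype κ
  letI : Algebra (κ → A) (κ → R) :=
    (RingHom.pi fun k => (algebraMap A R).comp (Pi.evalRingHom (fun _ => A) k)).toAlgebra
  have hmap : ∀ (c : κ → A) (k : κ),
      algebraMap (κ → A) (κ → R) c k = algebraMap A R (c k) := fun c k => rfl
  have hf : ∀ k, algebraMap A (κ → A) f k = f := fun k => rfl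
  refine IsLocalization.Away.mk _ ?_ ?_ ?_
  · rw [Pi.isUnit_iff]
    intro k
    rw [hmap, hf]
    exact IsLocalization.Away.algebraMap_isUnit f
  · intro s
    choose n a hna using fun k => IsLocalization.Away.surj f (s k)
    refine ⟨∑ k, n k, fun k => a k * f ^ (∑ j, n j - n k), ?_⟩
    funext k
    rw [Pi.mul_apply, Pi.pow_apply, hmap, hmap, hf, map_mul, map_pow, ← hna k, mul_assoc,
      ← pow_add]
    congr 2
    have : n k ≤ ∑ j, n j :=
      Finset.single_le_sum (fun _ _ => Nat.zero_le _) (Finset.mem_univ k)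
    omega
  · intro c c' h
    have hk : ∀ k, ∃ m, f ^ m * c k = f ^ m * c' k := fun k =>
      IsLocalization.Away.exists_of_eq f (by
        have := congrFun h k
        rwa [hmap, hmap] at this)
    choose m hm using hk
    refine ⟨∑ k, m k, ?_⟩
    funext k
    rw [Pi.mul_apply, Pi.mul_apply, Pi.pow_apply, hf]
    have : m k ≤ ∑ j, m j :=
      Finset.single_le_sum (fun _ _ => Nat.zero_le _) (Finset.mem_univ k)
    obtain ⟨d, hd⟩ := Nat.exists_eq_add_of_le this
    rw [hd, pow_add, mul_comm (f ^ m k), mul_assoc, mul_assoc, hm k]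

theorem root_pow {A : Type*} [CommRing A] (p : ℕ) (f : A) :
    (AdjoinRoot.root (X ^ p - C f : A[X])) ^ p = AdjoinRoot.of _ f := by
  have := AdjoinRoot.eval₂_root (X ^ p - C f : A[X])
  rw [eval₂_sub, eval₂_pow, eval₂_X, eval₂_C, sub_eq_zero] at this
  exact this

section A1

variable {A : Type u} [CommRing A] [IsLocalRing A] (p : ℕ) [hp : Fact p.Prime] (f : A)
  (hfm : f ∈ IsLocalRing.maximalIdeal A)

/-- Evaluation at `t = 0` modulo the maximal ideal. -/
noncomputable def ev : AdjoinRoot (X ^ p - C f : A[X]) →+* IsLocalRing.ResidueField A :=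
  AdjoinRoot.lift (IsLocalRing.residue A) 0 (by
    rw [eval₂_sub, eval₂_pow, eval₂_X, eval₂_C, zero_pow hp.out.ne_zero, zero_sub, neg_eq_zero]
    exact (IsLocalRing.residue_eq_zero_iff f).mpr hfm)

theorem ev_of (a : A) : ev p f hfm (AdjoinRoot.of _ a) = IsLocalRing.residue A a :=
  AdjoinRoot.lift_of _

theorem ev_surjective : Function.Surjective (ev p f hfm) := fun x => by
  obtain ⟨a, rfl⟩ := IsLocalRing.residue_surjective x
  exact ⟨AdjoinRoot.of _ a, ev_of p f hfm a⟩

include hfm in
theorem isLocalRing_A1 : IsLocalRing (AdjoinRoot (X ^ p - C f : A[X])) := by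
  haveI : Module.Finite A (AdjoinRoot (X ^ p - C f : A[X])) :=
    (monic_X_pow_sub_C f hp.out.ne_zero).finite_adjoinRoot
  haveI : Algebra.IsIntegral A (AdjoinRoot (X ^ p - C f : A[X])) := Algebra.IsIntegral.of_finite A _
  have hmax : (RingHom.ker (ev p f hfm)).IsMaximal :=
    RingHom.ker_isMaximal_of_surjective _ (ev_surjective p f hfm)
  refine IsLocalRing.of_unique_max_ideal ⟨RingHom.ker (ev p f hfm), hmax, ?_⟩
  intro M hM
  haveI := hM
  have hle : RingHom.ker (ev p f hfm) ≤ M := by
    have hcomap : M.comap (algebraMap A (AdjoinRoot (X ^ p - C f : A[X]))) =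
        IsLocalRing.maximalIdeal A :=
      IsLocalRing.eq_maximalIdeal (Ideal.isMaximal_comap_of_isIntegral_of_isMaximal M)
    have hof : ∀ a ∈ IsLocalRing.maximalIdeal A, AdjoinRoot.of (X ^ p - C f : A[X]) a ∈ M := by
      intro a ha
      have : a ∈ M.comap (algebraMap A (AdjoinRoot (X ^ p - C f : A[X]))) := hcomap ▸ ha
      rwa [Ideal.mem_comap, AdjoinRoot.algebraMap_eq] at this
    have hroot : AdjoinRoot.root (X ^ p - C f : A[X]) ∈ M := by
      apply hM.isPrime.mem_of_pow_mem p
      rw [root_pow p f]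
      exact hof f hfm
    intro x hx
    obtain ⟨P, rfl⟩ := AdjoinRoot.mk_surjective x
    rw [RingHom.mem_ker] at hx
    have hx' : IsLocalRing.residue A (P.coeff 0) = 0 := by
      have : ev p f hfm (AdjoinRoot.mk _ P) = eval₂ (IsLocalRing.residue A) 0 P :=
        AdjoinRoot.lift_mk _ _
      rw [this, eval₂_at_zero] at hx
      exact hx
    have hP0 : P.coeff 0 ∈ IsLocalRing.maximalIdeal A :=
      (IsLocalRing.residue_eq_zero_iff _).mp hx'
    have : P = P.divX * X + C (P.coeff 0) := (Polynomial.divX_mul_X_add P).symm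
    rw [this, map_add, map_mul, AdjoinRoot.mk_X, AdjoinRoot.mk_C]
    exact M.add_mem (M.mul_mem_left _ hroot) (hof _ hP0)
  exact (hmax.eq_of_le hM.ne_top hle).symm

include hfm in
theorem isLocalHom_A1 : IsLocalHom (algebraMap A (AdjoinRoot (X ^ p - C f : A[X]))) := by
  constructor
  intro a ha
  have h1 : IsUnit (ev p f hfm (algebraMap A _ a)) := ha.map _
  rw [AdjoinRoot.algebraMap_eq, ev_of] at h1
  by_contra hna
  have : a ∈ IsLocalRing.maximalIdeal A := (IsLocalRing.mem_maximalIdeal a).mpr hna
  rw [← IsLocalRing.residue_eq_zero_iff] at this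
  rw [this] at h1
  exact not_isUnit_zero h1

end A1

/-- A finite étale algebra over a strictly henselian local ring has a jointly injective family of
retractions. -/
theorem exists_retractions (R : Type u) [CommRing R] [HenselianLocalRing R]
    [IsSepClosed (IsLocalRing.ResidueField R)]
    (D : Type u) [CommRing D] [Algebra R D] [Module.Finite R D] [Algebra.Etale R D] :
    ∃ (ι : Type u) (_ : Finite ι) (π : ι → (D →ₐ[R] R)), ∀ c : D, (∀ i, π i c = 0) → c = 0 := by
  classical
  obtain ⟨ι, _, Ai, _, _, B', _, _, hsurj, htop, ⟨Θ⟩⟩ :=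
    Groth.Agent.H3.unramified_split_of_isStrictlyHenselian R D
  let pr2 : D →ₐ[R] B' := (AlgHom.snd R (∀ i, Ai i) B').comp (Θ : D →ₐ[R] _)
  have hpr2 : Function.Surjective pr2 := by
    intro y
    refine ⟨Θ.symm (0, y), ?_⟩
    simp [pr2]
  haveI : Module.Finite R B' := Module.Finite.of_surjective pr2.toLinearMap hpr2
  have hB'sub : Subsingleton B' := by
    have h1 : (⊤ : Submodule R B') ≤ IsLocalRing.maximalIdeal R • (⊤ : Submodule R B') := by
      rw [Ideal.smul_top_eq_map, htop]
      exact le_of_eq rfl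
    have h2 := Submodule.eq_bot_of_le_smul_of_le_jacobson_bot (IsLocalRing.maximalIdeal R)
      (⊤ : Submodule R B') Module.Finite.fg_top h1
      (IsLocalRing.jacobson_eq_maximalIdeal ⊥ bot_ne_top).ge
    exact (Submodule.subsingleton_iff R).mp (subsingleton_of_bot_eq_top h2.symm)
  have hbij : ∀ i, Nontrivial (Ai i) → Function.Bijective (algebraMap R (Ai i)) := by
    intro i hnt
    refine ⟨?_, hsurj i⟩
    let incl : Ai i →ₗ[R] D :=
      Θ.symm.toLinearMap ∘ₗ (LinearMap.inl R (∀ i, Ai i) B') ∘ₗ (LinearMap.single R Ai i)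
    let proj : D →ₗ[R] Ai i :=
      (LinearMap.proj i) ∘ₗ (LinearMap.fst R (∀ i, Ai i) B') ∘ₗ Θ.toLinearMap
    have hpi : proj ∘ₗ incl = LinearMap.id := by
      ext x
      simp [proj, incl]
    haveI : Module.Flat R (Ai i) := Module.Flat.of_retract incl proj hpi
    haveI : Module.Finite R (Ai i) :=
      Module.Finite.of_surjective (Algebra.linearMap R (Ai i)) (hsurj i)
    haveI : Module.Free R (Ai i) := Module.free_of_flat_of_isLocalRing
    exact FaithfulSMul.algebraMap_injective R (Ai i)
  let ι' : Type u := {i : ι // Nontrivial (Ai i)}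
  let π : ι' → (D →ₐ[R] R) := fun i =>
    ((AlgEquiv.ofBijective (Algebra.ofId R (Ai i.1)) (hbij i.1 i.2)).symm : Ai i.1 →ₐ[R] R).comp
      ((Pi.evalAlgHom R Ai i.1).comp ((AlgHom.fst R (∀ i, Ai i) B').comp (Θ : D →ₐ[R] _)))
  refine ⟨ι', inferInstance, π, ?_⟩
  intro c hc
  apply Θ.injective
  rw [map_zero]
  apply Prod.ext
  · funext i
    by_cases hnt : Nontrivial (Ai i)
    · have h0 := hc ⟨i, hnt⟩
      have h1 : (AlgEquiv.ofBijective (Algebra.ofId R (Ai i)) (hbij i hnt)).symm ((Θ c).1 i) = 0 :=
        h0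
      have := (AlgEquiv.ofBijective (Algebra.ofId R (Ai i)) (hbij i hnt)).symm.injective
        (h1.trans (map_zero _).symm)
      exact this
    · haveI := not_nontrivial_iff_subsingleton.mp hnt
      exact Subsingleton.elim _ _
  · exact Subsingleton.elim _ _

/-- The comparison map `A[t]/(t^n - f) → R[t]/(t^n - φ f)` is injective when `φ` is. -/
theorem lift_injective {A R : Type*} [CommRing A] [CommRing R] [Nontrivial A] [IsDomain R]
    (φ : A →+* R)
    (hφ : Function.Injective φ) (n : ℕ) (hn : n ≠ 0) (f : A)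
    (j : AdjoinRoot (X ^ n - C f : A[X]) →+* AdjoinRoot (X ^ n - C (φ f) : R[X]))
    (hj : ∀ P : A[X], j (AdjoinRoot.mk _ P) = AdjoinRoot.mk _ (P.map φ)) :
    Function.Injective j := by
  rw [injective_iff_map_eq_zero]
  intro x hx
  obtain ⟨P, rfl⟩ := AdjoinRoot.mk_surjective x
  have hgA : (X ^ n - C f : A[X]).Monic := monic_X_pow_sub_C f hn
  have hmod : AdjoinRoot.mk (X ^ n - C f : A[X]) P =
      AdjoinRoot.mk _ (P %ₘ (X ^ n - C f)) := by
    rw [AdjoinRoot.mk_eq_mk]
    exact ⟨P /ₘ (X ^ n - C f), by
      linear_combination (-1 : A[X]) * (modByMonic_add_div P (X ^ n - C f))⟩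
  rw [hmod] at hx ⊢
  rw [hj, AdjoinRoot.mk_eq_zero] at hx
  have hdeg : ((P %ₘ (X ^ n - C f)).map φ).degree < (X ^ n - C (φ f) : R[X]).degree := by
    calc ((P %ₘ (X ^ n - C f)).map φ).degree ≤ (P %ₘ (X ^ n - C f)).degree := degree_map_le
      _ < (X ^ n - C f : A[X]).degree := degree_modByMonic_lt _ hgA
      _ = (X ^ n - C (φ f) : R[X]).degree := by
        rw [degree_X_pow_sub_C (Nat.pos_of_ne_zero hn), degree_X_pow_sub_C (Nat.pos_of_ne_zero hn)]
  have h0 : (P %ₘ (X ^ n - C f)).map φ = 0 := eq_zero_of_dvd_of_degree_lt hx hdeg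
  have : P %ₘ (X ^ n - C f) = 0 :=
    Polynomial.map_injective φ hφ (by rw [h0, Polynomial.map_zero])
  rw [this, map_zero]

/-- A prime containing `π` but not `f`. -/
theorem exists_prime (A : Type*) [CommRing A] [IsDomain A] (f π : A)
    (hf : (Ideal.span {f}).IsPrime) (hf0 : f ≠ 0) (hπf : π ∉ Ideal.span {f}) (hπ : ¬ IsUnit π) :
    ∃ P : Ideal A, P.IsPrime ∧ π ∈ P ∧ f ∉ P := by
  have key : ∀ n : ℕ, ∀ a : A, π * a ≠ f ^ n := by
    intro n
    induction n with
    | zero =>
      intro a h
      exact hπ (IsUnit.of_mul_eq_one a (by rw [h, pow_zero]))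
    | succ n ih =>
      intro a h
      have hmem : π * a ∈ Ideal.span {f} := by
        rw [h, pow_succ]
        exact Ideal.mul_mem_left _ _ (Ideal.mem_span_singleton_self f)
      rcases hf.mem_or_mem hmem with h1 | h1
      · exact hπf h1
      · obtain ⟨a', rfl⟩ := Ideal.mem_span_singleton'.mp h1
        apply ih a'
        apply mul_right_cancel₀ hf0
        rw [pow_succ] at h
        rw [← h]
        ring
  by_contra hcon
  push Not at hcon
  have hrad : f ∈ (Ideal.span {π}).radical := by
    rw [Ideal.radical_eq_sInf, Ideal.mem_sInf]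
    rintro P ⟨hle, hP⟩
    exact hcon P hP (hle (Ideal.mem_span_singleton_self π))
  obtain ⟨n, hn⟩ := hrad
  obtain ⟨a, ha⟩ := Ideal.mem_span_singleton'.mp hn
  exact key n a (by rw [← ha]; ring)

theorem nonempty_algEquiv_of_subsingleton (A X Y : Type*) [CommRing A] [CommRing X] [CommRing Y]
    [Algebra A X] [Algebra A Y] [Subsingleton X] [Subsingleton Y] : Nonempty (X ≃ₐ[A] Y) :=
  ⟨{ toFun := fun _ => 0
     invFun := fun _ => 0
     left_inv := fun _ => Subsingleton.elim _ _
     right_inv := fun _ => Subsingleton.elim _ _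
     map_mul' := fun _ _ => Subsingleton.elim _ _
     map_add' := fun _ _ => Subsingleton.elim _ _
     commutes' := fun _ => Subsingleton.elim _ _ }⟩


/-- Let A be a regular local ring which is henselian with separably closed residue field of
characteristic p > 0, and let f be an element of A such that A/(f) is a regular local ring in which
p is nonzero. Write A₁ = A[t]/(t^p - f) and let B be a finite étale algebra over A[1/f]. If there is
a finite étale A₁-algebra C₁ with C₁[1/f] isomorphic to A₁ ⊗_A B as A₁-algebras, then there is a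
finite étale A-algebra C with C[1/f] isomorphic to B as A-algebras. The published statement also
assumes the cover connected and tamely ramified along f = 0; this row assumes neither, tameness
being automatic here because the generic point of the divisor f = 0 has residue characteristic zero. -/
theorem result {A : Type u} [CommRing A]
    [IsRegularLocalRing A] [HenselianLocalRing A] [IsSepClosed (IsLocalRing.ResidueField A)]
    (p : ℕ) [Fact p.Prime] [CharP (IsLocalRing.ResidueField A) p] (f : A)
    (hreg : IsRegularLocalRing (A ⧸ Ideal.span {f})) (hp : (p : A) ∉ Ideal.span {f})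
    (B : Type u) [CommRing B] [Algebra A B] [Algebra (Localization.Away f) B]
    [IsScalarTower A (Localization.Away f) B] [Module.Finite (Localization.Away f) B]
    [Algebra.Etale (Localization.Away f) B]
    (h : ∃ (C₁ : Type u) (_ : CommRing C₁) (_ : Algebra (AdjoinRoot (Polynomial.X ^ p - Polynomial.C f)) C₁),
      Module.Finite (AdjoinRoot (Polynomial.X ^ p - Polynomial.C f)) C₁ ∧
      Algebra.Etale (AdjoinRoot (Polynomial.X ^ p - Polynomial.C f)) C₁ ∧
      Nonempty (Localization.Away (algebraMap (AdjoinRoot (Polynomial.X ^ p - Polynomial.C f)) C₁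
          (AdjoinRoot.of (Polynomial.X ^ p - Polynomial.C f) f))
        ≃ₐ[AdjoinRoot (Polynomial.X ^ p - Polynomial.C f)]
          TensorProduct A (AdjoinRoot (Polynomial.X ^ p - Polynomial.C f)) B)) :
    ∃ (C : Type u) (_ : CommRing C) (_ : Algebra A C), Module.Finite A C ∧ Algebra.Etale A C ∧
      Nonempty (Localization.Away (algebraMap A C f) ≃ₐ[A] B) := by
  classical
  obtain ⟨C₁, _, _, hfin, het, ⟨θ⟩⟩ := h
  haveI := hfin
  haveI := het
  haveI : IsDomain A := Groth.Agent.H23.isDomain_of_isRegularLocalRing A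
  have hp0 : p ≠ 0 := (Fact.out : p.Prime).ne_zero
  by_cases hf0 : f = 0
  · subst hf0
    haveI : Subsingleton (Localization.Away (0 : A)) :=
      IsLocalization.subsingleton (M := Submonoid.powers (0 : A)) (Submonoid.mem_powers _)
    haveI : Subsingleton B := Module.subsingleton (Localization.Away (0 : A)) B
    refine ⟨PEmpty.{u + 1} → A, inferInstance, inferInstance, inferInstance, inferInstance, ?_⟩
    haveI : Subsingleton (Localization.Away (algebraMap A (PEmpty.{u + 1} → A) 0)) :=
      IsLocalization.subsingleton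
        (M := Submonoid.powers (algebraMap A (PEmpty.{u + 1} → A) 0)) ⟨1, by simp⟩
    exact nonempty_algEquiv_of_subsingleton A _ _
  -- basic facts
  have hfm : f ∈ IsLocalRing.maximalIdeal A := by
    by_contra hf
    have hu : IsUnit f := by
      by_contra hnu
      exact hf ((IsLocalRing.mem_maximalIdeal f).mpr hnu)
    haveI := hreg
    have htop : Ideal.span {f} = ⊤ := Ideal.span_singleton_eq_top.mpr hu
    have hsub : Subsingleton (A ⧸ Ideal.span {f}) := Ideal.Quotient.subsingleton_iff.mpr htop
    exact not_subsingleton (A ⧸ Ideal.span {f}) hsub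
  have hfprime : (Ideal.span {f}).IsPrime := by
    haveI := hreg
    haveI : IsDomain (A ⧸ Ideal.span {f}) := Groth.Agent.H23.isDomain_of_isRegularLocalRing _
    exact (Ideal.Quotient.isDomain_iff_prime _).mp inferInstance
  have hpm : (p : A) ∈ IsLocalRing.maximalIdeal A := by
    rw [← IsLocalRing.residue_eq_zero_iff, map_natCast]
    exact CharP.cast_eq_zero _ p
  -- `A₁` is strictly henselian
  haveI hloc : IsLocalRing (AdjoinRoot (X ^ p - C f : A[X])) := isLocalRing_A1 p f hfm
  haveI : IsLocalHom (algebraMap A (AdjoinRoot (X ^ p - C f : A[X]))) := isLocalHom_A1 p f hfm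
  haveI : Module.Finite A (AdjoinRoot (X ^ p - C f : A[X])) :=
    (monic_X_pow_sub_C f hp0).finite_adjoinRoot
  obtain ⟨hH, hS⟩ := Groth.Agent.S14620.result (algebraMap A (AdjoinRoot (X ^ p - C f : A[X])))
    (RingHom.finite_algebraMap.mpr inferInstance) ⟨inferInstance, inferInstance⟩
  haveI := hH
  haveI := hS
  obtain ⟨ι, hι, π, hπ⟩ := exists_retractions (AdjoinRoot (X ^ p - C f : A[X])) C₁
  haveI := hι
  -- the localisation `R`
  have hpow : Submonoid.powers f ≤ nonZeroDivisors A :=
    powers_le_nonZeroDivisors_of_noZeroDivisors hf0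
  haveI : IsDomain (Localization.Away f) := IsLocalization.isDomain_localization hpow
  haveI : IsNoetherianRing (Localization.Away f) := inferInstance
  have hφinj : Function.Injective (algebraMap A (Localization.Away f)) :=
    IsLocalization.injective (M := Submonoid.powers f) (Localization.Away f) hpow
  -- the map `j : A₁ → S`
  have hroot : eval₂ ((AdjoinRoot.of (X ^ p - C (algebraMap A (Localization.Away f) f) :
      (Localization.Away f)[X])).comp (algebraMap A (Localization.Away f)))
      (AdjoinRoot.root _) (X ^ p - C f : A[X]) = 0 := by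
    rw [eval₂_sub, eval₂_pow, eval₂_X, eval₂_C, RingHom.comp_apply, sub_eq_zero]
    exact root_pow p (algebraMap A (Localization.Away f) f)
  obtain ⟨j, hjdef⟩ : ∃ j : AdjoinRoot (X ^ p - C f : A[X]) →+*
      AdjoinRoot (X ^ p - C (algebraMap A (Localization.Away f) f) : (Localization.Away f)[X]),
      j = AdjoinRoot.lift _ _ hroot := ⟨_, rfl⟩
  have hjof : ∀ a : A, j (AdjoinRoot.of _ a) =
      AdjoinRoot.of _ (algebraMap A (Localization.Away f) a) := by
    intro a
    rw [hjdef, AdjoinRoot.lift_of, RingHom.comp_apply]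
  have hjmk : ∀ P : A[X], j (AdjoinRoot.mk _ P) =
      AdjoinRoot.mk _ (P.map (algebraMap A (Localization.Away f))) := by
    intro P
    rw [hjdef, AdjoinRoot.lift_mk, ← Polynomial.eval₂_map, ← AdjoinRoot.aeval_eq,
      Polynomial.aeval_def, AdjoinRoot.algebraMap_eq]
  have hjinj : Function.Injective j :=
    lift_injective (algebraMap A (Localization.Away f)) hφinj p hp0 f j hjmk
  -- units
  have hja : IsUnit (j (AdjoinRoot.of _ f)) := by
    rw [hjof]
    exact (IsLocalization.Away.algebraMap_isUnit f).map _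
  have hunit : ∀ i, IsUnit ((j.comp (π i : C₁ →+* AdjoinRoot (X ^ p - C f : A[X])))
      (algebraMap (AdjoinRoot (X ^ p - C f : A[X])) C₁ (AdjoinRoot.of _ f))) := by
    intro i
    rw [RingHom.comp_apply]
    have : (π i : C₁ →+* AdjoinRoot (X ^ p - C f : A[X]))
        (algebraMap (AdjoinRoot (X ^ p - C f : A[X])) C₁ (AdjoinRoot.of _ f)) =
        AdjoinRoot.of _ f := (π i).commutes _
    rw [this]
    exact hja
  -- the maps `ψ i` and `χ i`
  obtain ⟨ψ, hψ⟩ : ∃ ψ : ι → (Localization.Away (algebraMap (AdjoinRoot (X ^ p - C f : A[X])) C₁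
      (AdjoinRoot.of _ f)) →+*
      AdjoinRoot (X ^ p - C (algebraMap A (Localization.Away f) f) : (Localization.Away f)[X])),
      ∀ i c, ψ i (algebraMap C₁ _ c) = j (π i c) :=
    ⟨fun i => IsLocalization.Away.lift _ (hunit i),
      fun i c => IsLocalization.Away.lift_eq _ (hunit i) c⟩
  obtain ⟨inc, hinc⟩ : ∃ inc : B →+* (AdjoinRoot (X ^ p - C f : A[X])) ⊗[A] B,
      ∀ b, inc b = (1 : AdjoinRoot (X ^ p - C f : A[X])) ⊗ₜ[A] b :=
    ⟨((Algebra.TensorProduct.includeRight :
      B →ₐ[A] (AdjoinRoot (X ^ p - C f : A[X])) ⊗[A] B) : B →+* _), fun _ => rfl⟩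
  obtain ⟨θs, hθs⟩ : ∃ θs : (AdjoinRoot (X ^ p - C f : A[X])) ⊗[A] B →+*
      Localization.Away (algebraMap (AdjoinRoot (X ^ p - C f : A[X])) C₁ (AdjoinRoot.of _ f)),
      ∀ x, θs x = θ.symm x := ⟨θ.symm.toRingEquiv.toRingHom, fun _ => rfl⟩
  have hofinj : Function.Injective (algebraMap A (AdjoinRoot (X ^ p - C f : A[X]))) := by
    rw [AdjoinRoot.algebraMap_eq]
    apply AdjoinRoot.of.injective_of_degree_ne_zero
    rw [degree_X_pow_sub_C (Nat.pos_of_ne_zero hp0)]
    exact_mod_cast hp0
  haveI : Module.Flat A B := Module.Flat.trans A (Localization.Away f) B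
  have hincinj : Function.Injective inc := by
    have := Algebra.TensorProduct.includeRight_injective (R := A)
      (A := AdjoinRoot (X ^ p - C f : A[X])) (B := B) hofinj
    intro x y hxy
    apply this
    rw [hinc, hinc] at hxy
    exact hxy
  obtain ⟨χ₀, hχ₀⟩ : ∃ χ₀ : ι → (B →+* AdjoinRoot (X ^ p - C (algebraMap A (Localization.Away f) f) :
      (Localization.Away f)[X])), ∀ i b, χ₀ i b = ψ i (θs (inc b)) :=
    ⟨fun i => (ψ i).comp (θs.comp inc), fun _ _ => rfl⟩
  have hχA : ∀ i (a : A), χ₀ i (algebraMap A B a) =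
      algebraMap (Localization.Away f) _ (algebraMap A (Localization.Away f) a) := by
    intro i a
    have h1 : inc (algebraMap A B a) =
        algebraMap (AdjoinRoot (X ^ p - C f : A[X])) _ (algebraMap A _ a) := by
      rw [hinc, Algebra.TensorProduct.algebraMap_apply]
      show (1 : AdjoinRoot (X ^ p - C f : A[X])) ⊗ₜ[A] algebraMap A B a =
        (algebraMap A (AdjoinRoot (X ^ p - C f : A[X])) a) ⊗ₜ[A] (1 : B)
      simp only [Algebra.algebraMap_eq_smul_one]
      rw [TensorProduct.smul_tmul]
    have h2 : θs (inc (algebraMap A B a)) =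
        algebraMap C₁ _ (algebraMap (AdjoinRoot (X ^ p - C f : A[X])) C₁ (algebraMap A _ a)) := by
      rw [h1, hθs]
      have h3 := θ.symm.commutes (algebraMap A (AdjoinRoot (X ^ p - C f : A[X])) a)
      have h4 := IsScalarTower.algebraMap_apply (AdjoinRoot (X ^ p - C f : A[X])) C₁
        (Localization.Away (algebraMap (AdjoinRoot (X ^ p - C f : A[X])) C₁ (AdjoinRoot.of _ f)))
        (algebraMap A (AdjoinRoot (X ^ p - C f : A[X])) a)
      exact h3.trans h4
    rw [hχ₀, h2, hψ, (π i).commutes, AdjoinRoot.algebraMap_eq, AdjoinRoot.algebraMap_eq]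
    exact hjof a
  have hχR : ∀ i (r : Localization.Away f), χ₀ i (algebraMap (Localization.Away f) B r) =
      algebraMap (Localization.Away f) _ r := by
    intro i
    have : (χ₀ i).comp (algebraMap (Localization.Away f) B) =
        algebraMap (Localization.Away f) _ := by
      apply IsLocalization.ringHom_ext (Submonoid.powers f)
      ext a
      show χ₀ i (algebraMap (Localization.Away f) B (algebraMap A (Localization.Away f) a)) =
        algebraMap (Localization.Away f) _ (algebraMap A (Localization.Away f) a)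
      rw [← IsScalarTower.algebraMap_apply A (Localization.Away f) B, hχA]
    intro r
    exact RingHom.congr_fun this r
  obtain ⟨χ, hχ⟩ : ∃ χ : ι → (B →ₐ[Localization.Away f]
      AdjoinRoot (X ^ p - C (algebraMap A (Localization.Away f) f) : (Localization.Away f)[X])),
      ∀ i b, χ i b = χ₀ i b :=
    ⟨fun i => { χ₀ i with commutes' := hχR i }, fun _ _ => rfl⟩
  have hinj : ∀ b : B, (∀ i, χ i b = 0) → b = 0 := by
    intro b hb
    have hy : θs (inc b) = 0 := by
      obtain ⟨n, c, hc⟩ := IsLocalization.Away.surj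
        (algebraMap (AdjoinRoot (X ^ p - C f : A[X])) C₁ (AdjoinRoot.of _ f)) (θs (inc b))
      have hπc : ∀ i, π i c = 0 := by
        intro i
        apply hjinj
        rw [map_zero, ← hψ, ← hc, map_mul]
        have h0 : ψ i (θs (inc b)) = 0 := by
          rw [← hχ₀, ← hχ]; exact hb i
        rw [h0, zero_mul]
      have hc0 : c = 0 := hπ c hπc
      rw [hc0, map_zero] at hc
      exact ((IsLocalization.Away.algebraMap_isUnit _).pow n).mul_left_eq_zero.mp hc
    have h2 : inc b = 0 := by
      rw [hθs] at hy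
      have := congrArg θ hy
      simpa using this
    exact (injective_iff_map_eq_zero inc).mp hincinj b h2
  -- the prime `q`
  have hpnu : ¬ IsUnit (p : A) := fun hu =>
    (IsLocalRing.mem_maximalIdeal _).mp hpm hu
  obtain ⟨P, hP, hpP, hfP⟩ := exists_prime A f (p : A) hfprime hf0 hp hpnu
  have hdisj : Disjoint (Submonoid.powers f : Set A) (P : Set A) := by
    rw [Set.disjoint_left]
    rintro x ⟨n, rfl⟩ hx
    exact hfP (hP.mem_of_pow_mem n hx)
  haveI hq : (P.map (algebraMap A (Localization.Away f))).IsPrime :=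
    IsLocalization.isPrime_of_isPrime_disjoint (Submonoid.powers f) (Localization.Away f) P hP hdisj
  have hpq : ((p : ℕ) : Localization.Away f) ∈ P.map (algebraMap A (Localization.Away f)) := by
    have := Ideal.mem_map_of_mem (algebraMap A (Localization.Away f)) hpP
    rwa [map_natCast] at this
  obtain ⟨κ, hκ, ⟨e⟩⟩ := Groth.Agent.H68.PthRoot.split_of_maps p
    (P.map (algebraMap A (Localization.Away f))) hpq (algebraMap A (Localization.Away f) f) B χ hinj
  haveI := hκ
  refine ⟨κ → A, inferInstance, inferInstance, inferInstance, inferInstance, ?_⟩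
  letI : Algebra (κ → A) (κ → Localization.Away f) :=
    (RingHom.pi fun k => (algebraMap A (Localization.Away f)).comp
      (Pi.evalRingHom (fun _ => A) k)).toAlgebra
  haveI := isLocalization_pi f (Localization.Away f) κ
  let e1 : Localization.Away (algebraMap A (κ → A) f) ≃ₐ[κ → A] (κ → Localization.Away f) :=
    IsLocalization.algEquiv (Submonoid.powers (algebraMap A (κ → A) f)) _ _
  let e2 : Localization.Away (algebraMap A (κ → A) f) ≃ₐ[A] (κ → Localization.Away f) :=
    { e1.toRingEquiv with
      commutes' := fun a => by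
        have h1 : algebraMap A (Localization.Away (algebraMap A (κ → A) f)) a =
            algebraMap (κ → A) _ (algebraMap A (κ → A) a) :=
          IsScalarTower.algebraMap_apply A (κ → A) _ a
        show e1 (algebraMap A _ a) = algebraMap A (κ → Localization.Away f) a
        rw [h1, e1.commutes]
        rfl }
  exact ⟨e2.trans (e.symm.restrictScalars A)⟩

end Groth.Agent.S18362
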