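import Groth.Statements.S18363
import Mathlib

set_option autoImplicit false
universe u
open CategoryTheory
open CAlg

namespace Groth.Agent.S18363

theorem exists_regular (B : Type u) [CommRing B] [IsNoetherianRing B] [IsLocalRing B]
    [IsReduced B] (hdim : ringKrullDim B = 1) :
    ∃ b ∈ IsLocalRing.maximalIdeal B, b ∈ nonZeroDivisors B ∧
      ∃ N : ℕ, IsLocalRing.maximalIdeal B ^ N ≤ Ideal.span {b} := by
  classical
  have hK : Ring.KrullDimLE 1 B := by
    rw [Ring.krullDimLE_iff, hdim]; rfl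
  have hnotK0 : ¬ Ring.KrullDimLE 0 B := by
    intro h
    rw [Ring.krullDimLE_iff, hdim] at h
    exact absurd h (by simp)
  have hmin_ne : ∀ p ∈ minimalPrimes B, ¬ IsLocalRing.maximalIdeal B ≤ p := by
    intro p hp hle
    apply hnotK0
    rw [Ring.krullDimLE_zero_iff]
    intro I hI
    have h1 : I ≤ p := (IsLocalRing.le_maximalIdeal hI.ne_top).trans hle
    have h2 : p ≤ I := hp.2 ⟨hI, bot_le⟩ h1
    have h3 : I = IsLocalRing.maximalIdeal B :=
      le_antisymm (IsLocalRing.le_maximalIdeal hI.ne_top) (hle.trans h2)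
    rw [h3]; infer_instance
  have hfin : (minimalPrimes B).Finite := Ideal.finite_minimalPrimes_of_isNoetherianRing B ⊥
  have hnot : ¬ ((IsLocalRing.maximalIdeal B : Set B) ⊆
      ⋃ p ∈ (hfin.toFinset : Set (Ideal B)), ((id p : Ideal B) : Set B)) := by
    rw [Ideal.subset_union_prime (f := id) ⊥ ⊥]
    · rintro ⟨p, hp, hle⟩
      exact hmin_ne p (hfin.mem_toFinset.mp hp) hle
    · intro p hp _ _
      exact (hfin.mem_toFinset.mp hp).1.1
  obtain ⟨b, hbm, hb⟩ := Set.not_subset.mp hnot
  have hbp : ∀ p ∈ minimalPrimes B, b ∉ p := by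
    intro p hp hbp
    apply hb
    simp only [Set.mem_iUnion]
    exact ⟨p, by simpa using hp, hbp⟩
  refine ⟨b, hbm, ?_, ?_⟩
  · rw [mem_nonZeroDivisors_iff_right]
    intro c hc
    have hcn : c ∈ nilradical B := by
      rw [nilradical, ← Ideal.sInf_minimalPrimes, Ideal.mem_sInf]
      intro p hp
      have : c * b ∈ p := by rw [hc]; exact p.zero_mem
      exact (hp.1.1.mem_or_mem this).resolve_right (hbp p hp)
    have : IsNilpotent c := hcn
    exact this.eq_zero
  · have hle : IsLocalRing.maximalIdeal B ≤ (Ideal.span {b}).radical := by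
      rw [Ideal.radical_eq_sInf]
      refine le_sInf ?_
      rintro q ⟨hbq, hq⟩
      rcases Ring.krullDimLE_one_iff.mp hK q hq with h | h
      · exact absurd (hbq (Ideal.mem_span_singleton_self b)) (hbp q h)
      · rw [IsLocalRing.eq_maximalIdeal h]
    obtain ⟨n, hn⟩ := Ideal.exists_radical_pow_le_of_fg (Ideal.span {b}) (IsNoetherian.noetherian _)
    exact ⟨n, (Ideal.pow_right_mono hle n).trans hn⟩

theorem exists_killed {R : Type u} [CommRing R] (m : Ideal R) {M : Type u} [AddCommGroup M]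
    [Module R M] : ∀ (k : ℕ) (z : M), z ≠ 0 → (∀ a ∈ m ^ k, a • z = 0) →
      ∃ z' : M, z' ≠ 0 ∧ ∀ a ∈ m, a • z' = 0 := by
  intro k
  induction k with
  | zero =>
    intro z hz h
    exfalso
    apply hz
    have := h 1 (by rw [pow_zero, Ideal.one_eq_top]; trivial)
    simpa using this
  | succ k ih =>
    intro z hz h
    by_cases hk : ∀ a ∈ m ^ k, a • z = 0
    · exact ih z hz hk
    · push Not at hk
      obtain ⟨a, ha, haz⟩ := hk
      refine ⟨a • z, haz, fun b hb => ?_⟩
      rw [smul_smul]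
      apply h
      rw [pow_succ, mul_comm b a]
      exact Ideal.mul_mem_mul ha hb


/-- Let R be a Noetherian local ring with maximal ideal m, and P, Q ideals of R such that P + Q contains
a power of m while R/P and R/Q are both reduced of Krull dimension one. Let I and J be nonzero
finitely generated R-modules with P·I = 0 and Q·J = 0, such that every element of R whose class in
R/P is a non-zero-divisor acts injectively on I, and every element whose class in R/Q is a
non-zero-divisor acts injectively on J. Then the group Ext¹_R(I, J) is nonzero. (This is the stalk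
statement behind the existence of a non-split extension of a torsion-free rank-one sheaf on a
subcurve Y by one on a subcurve Z of a reduced projective curve, at a point where Y and Z meet
without sharing a component; in that situation the modules moreover have rank one at the generic
points of their supports and P ∩ Q = 0, two assumptions the argument does not use.) -/
theorem result
    (R : Type u) [CommRing R] [IsNoetherianRing R] [IsLocalRing R]
    (P Q : Ideal R) (hPQ : ∃ n : ℕ, IsLocalRing.maximalIdeal R ^ n ≤ P ⊔ Q)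
    [IsReduced (R ⧸ P)] [IsReduced (R ⧸ Q)]
    (hPdim : ringKrullDim (R ⧸ P) = 1) (hQdim : ringKrullDim (R ⧸ Q) = 1)
    (I J : Type u) [AddCommGroup I] [Module R I] [Module.Finite R I] [Nontrivial I]
    [AddCommGroup J] [Module R J] [Module.Finite R J] [Nontrivial J]
    (hPI : ∀ p ∈ P, ∀ x : I, p • x = 0) (hQJ : ∀ q ∈ Q, ∀ y : J, q • y = 0)
    (hItf : ∀ r : R, Ideal.Quotient.mk P r ∈ nonZeroDivisors (R ⧸ P) → ∀ x : I, r • x = 0 → x = 0)
    (hJtf : ∀ r : R, Ideal.Quotient.mk Q r ∈ nonZeroDivisors (R ⧸ Q) → ∀ y : J, r • y = 0 → y = 0) :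
    Nontrivial (Abelian.Ext (ModuleCat.of R I) (ModuleCat.of R J) 1) := by
  classical
  obtain ⟨n, hn⟩ := hPQ
  -- the quotient ring R ⧸ Q
  have hQtop : Q ≠ ⊤ := by
    intro h
    haveI : Subsingleton (R ⧸ Q) := Ideal.Quotient.subsingleton_iff.mpr h
    rw [ringKrullDim_eq_bot_of_subsingleton] at hQdim
    exact absurd hQdim (by simp)
  haveI : Nontrivial (R ⧸ Q) := Ideal.Quotient.nontrivial_iff.mpr hQtop
  haveI : IsLocalRing (R ⧸ Q) :=
    IsLocalRing.of_surjective' (Ideal.Quotient.mk Q) Ideal.Quotient.mk_surjective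
  obtain ⟨b, hbm, hbreg, N₀, hN₀⟩ := exists_regular (R ⧸ Q) hQdim
  obtain ⟨x₀, rfl⟩ := Ideal.Quotient.mk_surjective b
  have hQm : Q ≤ IsLocalRing.maximalIdeal R := IsLocalRing.le_maximalIdeal hQtop
  have hx₀ : x₀ ∈ IsLocalRing.maximalIdeal R := by
    by_contra hx
    have hu : IsUnit x₀ := by
      by_contra hnu
      exact hx ((IsLocalRing.mem_maximalIdeal x₀).mpr hnu)
    exact (IsLocalRing.mem_maximalIdeal _).mp hbm (hu.map (Ideal.Quotient.mk Q))
  have hmapm : ∀ a ∈ IsLocalRing.maximalIdeal R,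
      Ideal.Quotient.mk Q a ∈ IsLocalRing.maximalIdeal (R ⧸ Q) := by
    intro a ha
    rw [IsLocalRing.mem_maximalIdeal, mem_nonunits_iff]
    intro hu
    obtain ⟨c, hc⟩ := hu.exists_right_inv
    obtain ⟨c, rfl⟩ := Ideal.Quotient.mk_surjective c
    rw [← map_mul, ← map_one (Ideal.Quotient.mk Q), Ideal.Quotient.eq] at hc
    have h1 : a * c - 1 ∈ IsLocalRing.maximalIdeal R := hQm hc
    have h2 : a * c ∈ IsLocalRing.maximalIdeal R := Ideal.mul_mem_right _ _ ha
    have h3 : (1 : R) ∈ IsLocalRing.maximalIdeal R := by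
      have := Ideal.sub_mem _ h2 h1
      simpa using this
    exact (IsLocalRing.maximalIdeal.isMaximal R).ne_top ((Ideal.eq_top_iff_one _).mpr h3)
  have hpowle : IsLocalRing.maximalIdeal R ^ N₀ ≤ Q ⊔ Ideal.span {x₀} := by
    intro a ha
    have h1 : Ideal.Quotient.mk Q a ∈ IsLocalRing.maximalIdeal (R ⧸ Q) ^ N₀ := by
      have hle : (IsLocalRing.maximalIdeal R).map (Ideal.Quotient.mk Q) ≤
          IsLocalRing.maximalIdeal (R ⧸ Q) := by
        rw [Ideal.map_le_iff_le_comap]
        intro a ha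
        exact hmapm a ha
      have := Ideal.mem_map_of_mem (Ideal.Quotient.mk Q) ha
      rw [Ideal.map_pow] at this
      exact Ideal.pow_right_mono hle N₀ this
    have h2 := hN₀ h1
    rw [Ideal.mem_span_singleton'] at h2
    obtain ⟨c, hc⟩ := h2
    obtain ⟨c, rfl⟩ := Ideal.Quotient.mk_surjective c
    rw [← map_mul, Ideal.Quotient.eq] at hc
    have : a = (a - c * x₀) + c * x₀ := by ring
    rw [this]
    refine Ideal.add_mem _ (Ideal.mem_sup_left ?_)
      (Ideal.mem_sup_right (Ideal.mem_span_singleton'.mpr ⟨c, rfl⟩))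
    have := Q.neg_mem hc
    simpa using this
  have hreg : ∀ y : J, x₀ • y = 0 → y = 0 := hJtf x₀ hbreg
  have hregpow : ∀ (k : ℕ) (y : J), x₀ ^ k • y = 0 → y = 0 := by
    intro k
    induction k with
    | zero => intro y hy; simpa using hy
    | succ k ih =>
      intro y hy
      apply ih
      apply hreg
      rw [smul_smul, ← pow_succ']
      exact hy
  -- Hom(I, J) = 0
  have hHom : ∀ (ψ : I →ₗ[R] J) (x : I), ψ x = 0 := by
    intro ψ x
    apply hregpow n
    have hmem : x₀ ^ n ∈ P ⊔ Q := hn (Ideal.pow_mem_pow hx₀ n)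
    obtain ⟨p, hp, q, hq, hpq⟩ := Submodule.mem_sup.mp hmem
    rw [← hpq, add_smul, hQJ q hq, add_zero, ← map_smul, hPI p hp, map_zero]
  -- the quotient J ⧸ x₀ J
  set f : J →ₗ[R] J := LinearMap.lsmul R J x₀ with hf
  set N : Submodule R J := LinearMap.range f with hN
  have hfapp : ∀ y, f y = x₀ • y := fun y => rfl
  have hNtop : N ≠ ⊤ := by
    intro h
    have hle : (⊤ : Submodule R J) ≤ IsLocalRing.maximalIdeal R • (⊤ : Submodule R J) := by
      intro y _
      have : y ∈ N := by rw [h]; trivial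
      obtain ⟨y', rfl⟩ := this
      rw [hfapp]
      exact Submodule.smul_mem_smul hx₀ trivial
    have := Submodule.eq_bot_of_le_smul_of_le_jacobson_bot (IsLocalRing.maximalIdeal R) ⊤
      (Module.Finite.fg_top) hle (by rw [IsLocalRing.jacobson_eq_maximalIdeal ⊥ bot_ne_top])
    obtain ⟨y, hy⟩ := exists_ne (0 : J)
    apply hy
    have hy' : y ∈ (⊤ : Submodule R J) := trivial
    rw [this] at hy'
    exact hy'
  obtain ⟨y₁, hy₁⟩ : ∃ y₁ : J, y₁ ∉ N := by
    by_contra hcon
    push Not at hcon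
    exact hNtop (eq_top_iff.mpr fun y _ => hcon y)
  have hz₁ : N.mkQ y₁ ≠ 0 := by
    intro h
    exact hy₁ ((Submodule.Quotient.mk_eq_zero N).mp h)
  have hkill : ∀ a ∈ IsLocalRing.maximalIdeal R ^ N₀, a • N.mkQ y₁ = 0 := by
    intro a ha
    obtain ⟨q, hq, c, hc, rfl⟩ := Submodule.mem_sup.mp (hpowle ha)
    obtain ⟨c', rfl⟩ := Ideal.mem_span_singleton'.mp hc
    rw [← map_smul, add_smul, hQJ q hq, zero_add]
    rw [Submodule.mkQ_apply, Submodule.Quotient.mk_eq_zero]
    exact ⟨c' • y₁, by rw [hfapp, smul_smul, mul_comm]⟩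
  obtain ⟨z', hz'0, hz'⟩ := exists_killed (IsLocalRing.maximalIdeal R) N₀ (N.mkQ y₁) hz₁ hkill
  -- a nonzero map I → J ⧸ N
  obtain ⟨φ, hφ⟩ : ∃ φ : I →ₗ[R] (J ⧸ N), φ ≠ 0 := by
    have hbt : (⊥ : Submodule R I) ≠ ⊤ := by
      intro h
      obtain ⟨y, hy⟩ := exists_ne (0 : I)
      apply hy
      have hy' : y ∈ (⊤ : Submodule R I) := trivial
      rw [← h] at hy'
      exact hy'
    obtain ⟨N', hN', -⟩ := (eq_top_or_exists_le_coatom (⊥ : Submodule R I)).resolve_left hbt
    have hsimple : IsSimpleModule R (I ⧸ N') := isSimpleModule_iff_isCoatom.mpr hN'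
    obtain ⟨m', hm', ⟨e⟩⟩ := isSimpleModule_iff_quot_maximal.mp hsimple
    have hm'eq : m' = IsLocalRing.maximalIdeal R := IsLocalRing.eq_maximalIdeal hm'
    subst hm'eq
    let g : (R ⧸ IsLocalRing.maximalIdeal R) →ₗ[R] (J ⧸ N) :=
      Submodule.liftQ (IsLocalRing.maximalIdeal R) (LinearMap.toSpanSingleton R (J ⧸ N) z')
        (fun a ha => by
          rw [LinearMap.mem_ker, LinearMap.toSpanSingleton_apply]
          exact hz' a ha)
    refine ⟨g ∘ₗ e.toLinearMap ∘ₗ N'.mkQ, ?_⟩
    intro h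
    obtain ⟨x, hx⟩ := N'.mkQ_surjective (e.symm (Ideal.Quotient.mk _ 1))
    have := LinearMap.congr_fun h x
    simp only [LinearMap.comp_apply, hx, LinearEquiv.coe_coe, LinearEquiv.apply_symm_apply,
      LinearMap.zero_apply] at this
    apply hz'0
    have h2 : g (Ideal.Quotient.mk _ 1) = z' := by
      show Submodule.liftQ _ _ _ (Submodule.Quotient.mk 1) = z'
      rw [Submodule.liftQ_apply, LinearMap.toSpanSingleton_apply, one_smul]
    rw [← h2]; exact this
  -- the Ext argument
  by_contra hnt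
  rw [not_nontrivial_iff_subsingleton] at hnt
  let S := ModuleCat.shortComplexOfCompEqZero f N.mkQ (by
    ext y
    simp only [LinearMap.comp_apply, LinearMap.zero_apply, Submodule.mkQ_apply,
      Submodule.Quotient.mk_eq_zero]
    exact ⟨y, rfl⟩)
  have hS : S.ShortExact := by
    refine ModuleCat.shortComplex_shortExact S ?_ ?_ ?_
    · refine (LinearMap.exact_iff).mpr ?_
      show LinearMap.ker N.mkQ = LinearMap.range f
      rw [Submodule.ker_mkQ]
    · intro y y' hyy'
      have h1 : x₀ • (y - y') = 0 := by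
        rw [smul_sub]
        exact sub_eq_zero.mpr hyy'
      exact sub_eq_zero.mp (hreg _ h1)
    · exact N.mkQ_surjective
  let x₃ : CategoryTheory.Abelian.Ext (ModuleCat.of R I) S.X₃ 0 :=
    CategoryTheory.Abelian.Ext.mk₀ (ModuleCat.ofHom φ)
  have h0 : x₃.comp hS.extClass (zero_add 1) = 0 := Subsingleton.elim _ _
  obtain ⟨x₂, hx₂⟩ :=
    CategoryTheory.Abelian.Ext.covariant_sequence_exact₃ (ModuleCat.of R I) hS x₃ (zero_add 1) h0
  obtain ⟨ψ, rfl⟩ := (CategoryTheory.Abelian.Ext.mk₀_bijective _ _).2 x₂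
  rw [CategoryTheory.Abelian.Ext.mk₀_comp_mk₀] at hx₂
  have hcomp := (CategoryTheory.Abelian.Ext.mk₀_bijective _ _).1 hx₂
  have hψ : ψ = 0 := by
    ext x
    exact hHom ψ.hom x
  rw [hψ, CategoryTheory.Limits.zero_comp] at hcomp
  apply hφ
  have := congrArg ModuleCat.Hom.hom hcomp
  simpa using this.symm

end Groth.Agent.S18363
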