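import Groth.Statements.S18364
import Mathlib
-- import your own Groth.Agent.* helpers here

set_option autoImplicit false
universe u
open CAlg

namespace Groth.Agent.S18364

theorem mem_ker_loc {A : Type*} [CommRing A] (P : Ideal A) [P.IsPrime] {Q : Type*}
    [AddCommGroup Q] [Module A Q] (x : Q) :
    x ∈ LinearMap.ker (LocalizedModule.mkLinearMap P.primeCompl Q) ↔ ∃ s, s ∉ P ∧ s • x = 0 := by
  rw [LinearMap.mem_ker, IsLocalizedModule.eq_zero_iff P.primeCompl]
  constructor
  · rintro ⟨c, hc⟩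
    exact ⟨c.1, c.2, hc⟩
  · rintro ⟨s, hs, h⟩
    exact ⟨⟨s, hs⟩, h⟩

theorem mem_pi {A : Type*} [CommRing A] (π : A) {Q : Type*} [AddCommGroup Q] [Module A Q]
    (x : Q) : x ∈ Ideal.span {π} • (⊤ : Submodule A Q) ↔ ∃ y : Q, π • y = x := by
  rw [Submodule.ideal_span_singleton_smul, Submodule.mem_smul_pointwise_iff_exists]
  simp

theorem exists_mul_pow_mem {A : Type*} [CommRing A] {I P : Ideal A} (hP : P ∈ I.minimalPrimes)
    {a : A} (ha : a ∈ P) : ∃ t, t ∉ P ∧ ∃ k : ℕ, t * a ^ k ∈ I := by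
  haveI : P.IsPrime := hP.1.1
  by_contra hcon
  push Not at hcon
  have hdisj : Disjoint (I : Set A)
      ((P.primeCompl ⊔ Submonoid.powers a : Submonoid A) : Set A) := by
    rw [Set.disjoint_left]
    intro x hxI hxS
    obtain ⟨t, ht, z, hz, rfl⟩ := Submonoid.mem_sup.mp hxS
    obtain ⟨k, rfl⟩ := (Submonoid.mem_powers_iff _ _).mp hz
    exact hcon t ht k hxI
  obtain ⟨Q, hQ, hIQ, hQd⟩ := Ideal.exists_le_prime_disjoint I _ hdisj
  have hQP : Q ≤ P := by
    intro x hx
    by_contra hxP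
    exact Set.disjoint_left.mp hQd hx (Submonoid.mem_sup_left hxP)
  have hPQ : P ≤ Q := hP.2 ⟨hQ, hIQ⟩ hQP
  exact Set.disjoint_left.mp hQd (hPQ ha) (Submonoid.mem_sup_right (Submonoid.mem_powers a))

/-- Let A be a Noetherian ring, π an element of A, and (𝔓_i)_{i ∈ ι} an injective finite family listing
exactly the minimal prime ideals over (π). Let M be a finitely generated A-module and M̄ = M/πM. For
a subset T of ι let K(T) ⊆ M̄ be the submodule of elements whose image in the localisation of M̄ at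
𝔓_i is zero for every i ∈ T, and N(T) ⊆ M its preimage in M. Assume K(ι) = 0, i.e. no nonzero
element of M̄ vanishes at all the minimal primes (every associated prime of M̄ is one of the 𝔓_i).
Then for every subset Y of ι with complement Z one has N(Y) ∩ N(Z) = πM, and the same construction
applied to the module N(Y) instead of M — the preimage in N(Y) of the elements of N(Y)/πN(Y)
vanishing at every 𝔓_i with i ∈ Z — is, as a submodule of M, equal to N(Y) ∩ N(Z). (Geometric
meaning: A is the local ring of a flat family of curves over a discrete valuation ring with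
uniformizer π at a point of the reduced special fibre, M the stalk of a torsion-free rank-one sheaf
I, Y a set of components of the special fibre through the point, and N(Y) the stalk of the kernel
I^Y of I → I(s)_Y; the statement is (I^Y)^Z = I^Y ∩ I^Z = πI. Reducedness of A/πA, flatness and rank
one are not used.) -/
theorem result
    (A : Type u) [CommRing A] [IsNoetherianRing A] (π : A)
    (ι : Type) [Finite ι] (𝔓 : ι → Ideal A) [∀ i, (𝔓 i).IsPrime]
    (h𝔓 : ∀ i, 𝔓 i ∈ (Ideal.span {π}).minimalPrimes) (h𝔓inj : Function.Injective 𝔓)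
    (h𝔓surj : ∀ 𝔔 ∈ (Ideal.span {π}).minimalPrimes, ∃ i, 𝔓 i = 𝔔)
    (M : Type u) [AddCommGroup M] [Module A M] [Module.Finite A M]
    (K : Set ι → Submodule A (M ⧸ Ideal.span {π} • (⊤ : Submodule A M)))
    (hK : ∀ T : Set ι, K T = ⨅ i ∈ T, LinearMap.ker
      (LocalizedModule.mkLinearMap (𝔓 i).primeCompl (M ⧸ Ideal.span {π} • (⊤ : Submodule A M))))
    (htf : K Set.univ = ⊥)
    (N : Set ι → Submodule A M)
    (hN : ∀ T : Set ι, N T = (K T).comap (Submodule.mkQ (Ideal.span {π} • (⊤ : Submodule A M))))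
    (Y : Set ι) :
    N Y ⊓ N Yᶜ = Ideal.span {π} • (⊤ : Submodule A M) ∧
    Submodule.map (N Y).subtype
      ((⨅ i ∈ Yᶜ, LinearMap.ker (LocalizedModule.mkLinearMap (𝔓 i).primeCompl
          (↥(N Y) ⧸ Ideal.span {π} • (⊤ : Submodule A ↥(N Y))))).comap
        (Submodule.mkQ (Ideal.span {π} • (⊤ : Submodule A ↥(N Y)))))
      = N Y ⊓ N Yᶜ := by
  classical
  have F2 : ∀ (T : Set ι) (x : M), x ∈ N T ↔
      ∀ i ∈ T, ∃ s, s ∉ 𝔓 i ∧ ∃ y : M, π • y = s • x := by
    intro T x
    rw [hN, hK, Submodule.mem_comap]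
    simp only [Submodule.mem_iInf]
    refine forall₂_congr (fun i _ => ?_)
    rw [mem_ker_loc]
    refine exists_congr (fun s => and_congr Iff.rfl ?_)
    rw [Submodule.mkQ_apply, ← Submodule.Quotient.mk_smul, Submodule.Quotient.mk_eq_zero, mem_pi]
  have h1 : N Y ⊓ N Yᶜ = Ideal.span {π} • (⊤ : Submodule A M) := by
    have hu : N Set.univ = Ideal.span {π} • (⊤ : Submodule A M) := by
      rw [hN, htf, Submodule.comap_bot, Submodule.ker_mkQ]
    rw [← hu]
    ext x
    rw [Submodule.mem_inf, F2, F2, F2]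
    constructor
    · rintro ⟨h1, h2⟩ i -
      by_cases hi : i ∈ Y
      · exact h1 i hi
      · exact h2 i hi
    · intro h
      exact ⟨fun i _ => h i trivial, fun i _ => h i trivial⟩
  refine ⟨h1, le_antisymm ?_ ?_⟩
  · rintro x ⟨n, hn, rfl⟩
    change (n : M) ∈ N Y ⊓ N Yᶜ
    refine Submodule.mem_inf.mpr ⟨n.2, ?_⟩
    rw [F2]
    intro i hi
    simp only [SetLike.mem_coe, Submodule.mem_comap, Submodule.mem_iInf] at hn
    have hni := hn i hi
    rw [mem_ker_loc] at hni
    obtain ⟨s, hs, hsn⟩ := hni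
    rw [Submodule.mkQ_apply, ← Submodule.Quotient.mk_smul, Submodule.Quotient.mk_eq_zero,
      mem_pi] at hsn
    obtain ⟨n', hn'⟩ := hsn
    refine ⟨s, hs, (n' : M), ?_⟩
    have h0 := congrArg Subtype.val hn'
    simpa using h0
  · rw [h1]
    intro x hx
    rw [mem_pi] at hx
    obtain ⟨m, rfl⟩ := hx
    have hπN : ∀ m' : M, π • m' ∈ N Y := fun m' => by
      have h0 : π • m' ∈ N Y ⊓ N Yᶜ := by rw [h1, mem_pi]; exact ⟨m', rfl⟩
      exact (Submodule.mem_inf.mp h0).1
    refine ⟨⟨π • m, hπN m⟩, ?_, rfl⟩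
    simp only [SetLike.mem_coe, Submodule.mem_comap, Submodule.mem_iInf]
    intro i hi
    rw [mem_ker_loc]
    letI := Fintype.ofFinite ι
    have hchoice : ∀ j : ι, ∃ b : A, b ∉ 𝔓 i ∧
        (j ∈ Y → ∃ t, t ∉ 𝔓 j ∧ t * b ∈ Ideal.span {π}) := by
      intro j
      by_cases hjY : j ∈ Y
      · have hji : j ≠ i := fun h => hi (h ▸ hjY)
        have hnle : ¬ 𝔓 j ≤ 𝔓 i := fun hle =>
          hji (h𝔓inj (le_antisymm hle ((h𝔓 i).2 (h𝔓 j).1 hle)))
        obtain ⟨a, haj, hai⟩ := SetLike.not_le_iff_exists.mp hnle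
        obtain ⟨t, ht, k, htk⟩ := exists_mul_pow_mem (h𝔓 j) haj
        exact ⟨a ^ k, fun h => hai (Ideal.IsPrime.mem_of_pow_mem inferInstance k h),
          fun _ => ⟨t, ht, htk⟩⟩
      · exact ⟨1, (Ideal.ne_top_iff_one _).mp (Ideal.IsPrime.ne_top inferInstance),
          fun h => absurd h hjY⟩
    choose b hb1 hb2 using hchoice
    have hs : ∏ j, b j ∉ 𝔓 i := by
      intro h
      obtain ⟨j, -, hj⟩ := Ideal.IsPrime.prod_mem_iff.mp h
      exact hb1 j hj
    have hsm : (∏ j, b j) • m ∈ N Y := by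
      rw [F2]
      intro j hj
      obtain ⟨t, ht, htb⟩ := hb2 j hj
      obtain ⟨c, hc⟩ := Finset.dvd_prod_of_mem b (Finset.mem_univ j)
      have h0 : t * ∏ j, b j ∈ Ideal.span {π} := by
        rw [hc, ← mul_assoc]; exact Ideal.mul_mem_right _ _ htb
      obtain ⟨d, hd⟩ := Ideal.mem_span_singleton'.mp h0
      exact ⟨t, ht, d • m, by rw [smul_smul, smul_smul, mul_comm π d, hd]⟩
    refine ⟨∏ j, b j, hs, ?_⟩
    rw [Submodule.mkQ_apply, ← Submodule.Quotient.mk_smul, Submodule.Quotient.mk_eq_zero, mem_pi]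
    exact ⟨⟨(∏ j, b j) • m, hsm⟩, Subtype.ext (smul_comm π _ m)⟩

end Groth.Agent.S18364
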