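import Groth.Statements.S18365
import Mathlib
-- import your own Groth.Agent.* helpers here

set_option autoImplicit false
universe u
open CAlg

namespace Groth.Agent.S18365

theorem mem_ker_loc {A : Type*} [CommRing A] (P : Ideal A) [P.IsPrime] {Q : Type*}
    [AddCommGroup Q] [Module A Q] (x : Q) :
    x ∈ LinearMap.ker (LocalizedModule.mkLinearMap P.primeCompl Q) ↔ ∃ s, s ∉ P ∧ s • x = 0 := by
  rw [LinearMap.mem_ker, IsLocalizedModule.eq_zero_iff P.primeCompl]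
  constructor
  · rintro ⟨c, hc⟩
    exact ⟨c.1, c.2, hc⟩
  · rintro ⟨s, hs, h⟩
    exact ⟨⟨s, hs⟩, h⟩

theorem mem_pi {A : Type*} [CommRing A] (π : A) {Q : Type*} [AddCommGroup Q] [Module A Q]
    (x : Q) : x ∈ Ideal.span {π} • (⊤ : Submodule A Q) ↔ ∃ y : Q, π • y = x := by
  rw [Submodule.ideal_span_singleton_smul, Submodule.mem_smul_pointwise_iff_exists]
  simp

/-- Let A be a Noetherian ring, π an element of A, (𝔓_i)_{i ∈ ι} an injective finite family listing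
exactly the minimal prime ideals over (π), and M a finitely generated A-module on which π acts
injectively; put M̄ = M/πM. For T ⊆ ι let K(T) ⊆ M̄ be the submodule of elements whose image in the
localisation of M̄ at 𝔓_i vanishes for every i ∈ T, and N(T) ⊆ M its preimage; assume K(ι) = 0.
Suppose that M̄ decomposes at Y, i.e. K(Y) + K(Yᶜ) = M̄, and that for a subset Z the module
N(Y)/πN(Y) decomposes at Z, i.e. its submodule of elements vanishing at every 𝔓_i (i ∈ Z) and its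
submodule of elements vanishing at every 𝔓_i (i ∉ Z) together span it. Then M̄ decomposes at Z: K(Z)
+ K(Zᶜ) = M̄. (Geometric meaning: for a flat family of curves over a discrete valuation ring with
uniformizer π, I a torsion-free rank-one sheaf flat over the base, Y a subcurve of the special fibre
X(s) at which I(s) decomposes and I^Y = ker(I → I(s)_Y): if I^Y(s) decomposes at a subcurve Z then
so does I(s); decomposition of a sheaf at Z is the surjectivity of I(s) → I(s)_Z ⊕ I(s)_{Z^c},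
checked on stalks. Reducedness of the special fibre and rank one are not used.) -/
theorem result
    (A : Type u) [CommRing A] [IsNoetherianRing A] (π : A)
    (ι : Type) [Finite ι] (𝔓 : ι → Ideal A) [∀ i, (𝔓 i).IsPrime]
    (h𝔓 : ∀ i, 𝔓 i ∈ (Ideal.span {π}).minimalPrimes) (h𝔓inj : Function.Injective 𝔓)
    (h𝔓surj : ∀ 𝔔 ∈ (Ideal.span {π}).minimalPrimes, ∃ i, 𝔓 i = 𝔔)
    (M : Type u) [AddCommGroup M] [Module A M] [Module.Finite A M]
    (hπ : ∀ m : M, π • m = 0 → m = 0)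
    (K : Set ι → Submodule A (M ⧸ Ideal.span {π} • (⊤ : Submodule A M)))
    (hK : ∀ T : Set ι, K T = ⨅ i ∈ T, LinearMap.ker
      (LocalizedModule.mkLinearMap (𝔓 i).primeCompl (M ⧸ Ideal.span {π} • (⊤ : Submodule A M))))
    (htf : K Set.univ = ⊥)
    (N : Set ι → Submodule A M)
    (hN : ∀ T : Set ι, N T = (K T).comap (Submodule.mkQ (Ideal.span {π} • (⊤ : Submodule A M))))
    (Y Z : Set ι) (hY : K Y ⊔ K Yᶜ = ⊤)
    (K' : Set ι → Submodule A (↥(N Y) ⧸ Ideal.span {π} • (⊤ : Submodule A ↥(N Y))))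
    (hK' : ∀ T : Set ι, K' T = ⨅ i ∈ T, LinearMap.ker
      (LocalizedModule.mkLinearMap (𝔓 i).primeCompl (↥(N Y) ⧸ Ideal.span {π} • (⊤ : Submodule A ↥(N Y)))))
    (hZ : K' Z ⊔ K' Zᶜ = ⊤) :
    K Z ⊔ K Zᶜ = ⊤ := by
  classical
  have Kmem : ∀ (T : Set ι) (x : M ⧸ Ideal.span {π} • (⊤ : Submodule A M)),
      x ∈ K T ↔ ∀ i ∈ T, ∃ s, s ∉ 𝔓 i ∧ s • x = 0 := by
    intro T x
    rw [hK]
    simp only [Submodule.mem_iInf]
    exact forall₂_congr (fun i _ => mem_ker_loc (𝔓 i) x)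
  have K'mem : ∀ (T : Set ι) (x : ↥(N Y) ⧸ Ideal.span {π} • (⊤ : Submodule A ↥(N Y))),
      x ∈ K' T ↔ ∀ i ∈ T, ∃ s, s ∉ 𝔓 i ∧ s • x = 0 := by
    intro T x
    rw [hK']
    simp only [Submodule.mem_iInf]
    exact forall₂_congr (fun i _ => mem_ker_loc (𝔓 i) x)
  have Kinf : ∀ (T : Set ι) (x : M ⧸ Ideal.span {π} • (⊤ : Submodule A M)),
      x ∈ K T → x ∈ K Tᶜ → x = 0 := by
    intro T x h1 h2
    have h0 : x ∈ K Set.univ := by
      rw [Kmem] at h1 h2 ⊢
      intro i _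
      by_cases hi : i ∈ T
      · exact h1 i hi
      · exact h2 i hi
    rw [htf] at h0
    exact (Submodule.mem_bot A).mp h0
  have hπ' : ∀ x y : M, π • x = π • y → x = y := fun x y h =>
    sub_eq_zero.mp (hπ _ (by rw [smul_sub, h, sub_self]))
  obtain ⟨q, q', φ, hq_surj, hq_zero, hNmem, hq'_surj, hq'_zero, hφ⟩ :
      ∃ (q : M →ₗ[A] (M ⧸ Ideal.span {π} • (⊤ : Submodule A M)))
        (q' : ↥(N Y) →ₗ[A] (↥(N Y) ⧸ Ideal.span {π} • (⊤ : Submodule A ↥(N Y))))
        (φ : (↥(N Y) ⧸ Ideal.span {π} • (⊤ : Submodule A ↥(N Y))) →ₗ[A]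
          (M ⧸ Ideal.span {π} • (⊤ : Submodule A M))),
        Function.Surjective q ∧ (∀ x, q x = 0 ↔ ∃ y, π • y = x) ∧
        (∀ T x, x ∈ N T ↔ q x ∈ K T) ∧
        Function.Surjective q' ∧ (∀ x, q' x = 0 ↔ ∃ y, π • y = x) ∧
        (∀ ν : ↥(N Y), φ (q' ν) = q (ν : M)) := by
    have hle : Ideal.span {π} • (⊤ : Submodule A ↥(N Y)) ≤
        (Ideal.span {π} • (⊤ : Submodule A M)).comap (N Y).subtype := by
      intro z hz
      rw [mem_pi] at hz
      obtain ⟨y, rfl⟩ := hz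
      rw [Submodule.mem_comap, mem_pi]
      exact ⟨(y : M), by simp⟩
    exact ⟨Submodule.mkQ _, Submodule.mkQ _, Submodule.mapQ _ _ (N Y).subtype hle,
      Submodule.mkQ_surjective _,
      fun x => by rw [Submodule.mkQ_apply, Submodule.Quotient.mk_eq_zero, mem_pi],
      fun T x => by rw [hN]; rfl,
      Submodule.mkQ_surjective _,
      fun x => by rw [Submodule.mkQ_apply, Submodule.Quotient.mk_eq_zero, mem_pi],
      fun ν => rfl⟩
  have hφK : ∀ (T : Set ι) a, a ∈ K' T → φ a ∈ K T := by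
    intro T a ha
    rw [Kmem]
    rw [K'mem] at ha
    intro i hi
    obtain ⟨s, hs, hsa⟩ := ha i hi
    exact ⟨s, hs, by rw [← map_smul, hsa, map_zero]⟩
  have hq0 : ∀ m : M, q (π • m) = 0 := fun m => (hq_zero _).mpr ⟨m, rfl⟩
  have hπN : ∀ m : M, π • m ∈ N Y := fun m => by
    rw [hNmem, hq0]; exact zero_mem _
  have case1 : ∀ u, u ∈ K Y → u ∈ K Z ⊔ K Zᶜ := by
    intro u hu
    obtain ⟨n, rfl⟩ := hq_surj u
    have hn : n ∈ N Y := (hNmem Y n).mpr hu
    have hq : q' ⟨n, hn⟩ ∈ K' Z ⊔ K' Zᶜ := by rw [hZ]; trivial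
    obtain ⟨a', ha', b', hb', hab⟩ := Submodule.mem_sup.mp hq
    have h0 : q n = φ a' + φ b' := by
      rw [← map_add, hab]; exact (hφ ⟨n, hn⟩).symm
    rw [h0]
    exact Submodule.add_mem_sup (hφK Z a' ha') (hφK Zᶜ b' hb')
  have key : ∀ (T : Set ι) (γ : ↥(N Y)) (c₁ : M)
      (uc wc : M ⧸ Ideal.span {π} • (⊤ : Submodule A M)),
      q' γ ∈ K' T → π • c₁ = (γ : M) → uc ∈ K Y → wc ∈ K Yᶜ → uc + wc = q c₁ → wc ∈ K T := by
    intro T γ c₁ uc wc hγ hc₁ huc hwc hsum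
    rw [Kmem]
    intro i hi
    by_cases hiY : i ∈ Y
    · obtain ⟨s, hs, hsγ⟩ := (K'mem T _).mp hγ i hi
      rw [← map_smul, hq'_zero] at hsγ
      obtain ⟨n'', hn''⟩ := hsγ
      have hsc : s • c₁ = (n'' : M) := by
        apply hπ'
        have h0 := congrArg Subtype.val hn''
        simp only [Submodule.coe_smul] at h0
        rw [h0, ← hc₁, smul_comm]
      have h1 : q (s • c₁) ∈ K Y := by rw [hsc]; exact (hNmem Y _).mp n''.2
      obtain ⟨s', hs', hs'q⟩ := (Kmem Y _).mp h1 i hiY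
      obtain ⟨s'', hs'', hs''u⟩ := (Kmem Y _).mp huc i hiY
      refine ⟨s'' * (s' * s), ?_, ?_⟩
      · exact (𝔓 i).primeCompl.mul_mem hs'' ((𝔓 i).primeCompl.mul_mem hs' hs)
      · have e0 : wc = q c₁ - uc := by rw [← hsum]; abel
        have e1 : (s'' * (s' * s)) • q c₁ = 0 := by
          rw [mul_smul, mul_smul, ← map_smul q s c₁, hs'q, smul_zero]
        have e2 : (s'' * (s' * s)) • uc = 0 := by
          rw [mul_comm, mul_smul, hs''u, smul_zero]
        rw [e0, smul_sub, e1, e2, sub_zero]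
    · exact (Kmem Yᶜ _).mp hwc i hiY
  have case2 : ∀ w, w ∈ K Yᶜ → w ∈ K Z ⊔ K Zᶜ := by
    intro w hw
    obtain ⟨m, rfl⟩ := hq_surj w
    have hq : q' ⟨π • m, hπN m⟩ ∈ K' Z ⊔ K' Zᶜ := by rw [hZ]; trivial
    obtain ⟨a', ha', b', hb', hab⟩ := Submodule.mem_sup.mp hq
    obtain ⟨α, rfl⟩ := hq'_surj a'
    obtain ⟨β, rfl⟩ := hq'_surj b'
    have hsum0 : q (α : M) + q (β : M) = 0 := by
      have h0 := congrArg φ hab
      rw [map_add, hφ, hφ, hφ] at h0
      rw [h0]; exact hq0 m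
    have hα0 : q (α : M) = 0 := by
      apply Kinf Z
      · rw [← hφ]; exact hφK Z _ ha'
      · have h0 : q (α : M) = - q (β : M) := eq_neg_of_add_eq_zero_left hsum0
        rw [h0, ← hφ]; exact neg_mem (hφK Zᶜ _ hb')
    have hβ0 : q (β : M) = 0 := by rw [hα0, zero_add] at hsum0; exact hsum0
    obtain ⟨a₁, ha₁⟩ := (hq_zero _).mp hα0
    obtain ⟨b₁, hb₁⟩ := (hq_zero _).mp hβ0
    have hker : q' (⟨π • m, hπN m⟩ - α - β) = 0 := by
      rw [map_sub, map_sub, ← hab]; abel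
    obtain ⟨n', hn'⟩ := (hq'_zero _).mp hker
    have hm : m = a₁ + b₁ + (n' : M) := by
      apply hπ'
      have h0 := congrArg Subtype.val hn'
      simp only [Submodule.coe_smul, Submodule.coe_sub] at h0
      rw [smul_add, smul_add, ha₁, hb₁, h0]; abel
    obtain ⟨ua, hua, wa, hwa, hqa⟩ :=
      Submodule.mem_sup.mp (show q a₁ ∈ K Y ⊔ K Yᶜ by rw [hY]; trivial)
    obtain ⟨ub, hub, wb, hwb, hqb⟩ :=
      Submodule.mem_sup.mp (show q b₁ ∈ K Y ⊔ K Yᶜ by rw [hY]; trivial)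
    have hw_eq : q m = wa + wb := by
      have h1 : q m - wa - wb ∈ K Yᶜ := sub_mem (sub_mem hw hwa) hwb
      have h2 : q m - wa - wb ∈ K Y := by
        have h3 : q m - wa - wb = ua + ub + q (n' : M) := by
          rw [hm, map_add, map_add, ← hqa, ← hqb]; abel
        rw [h3]
        exact add_mem (add_mem hua hub) ((hNmem Y _).mp n'.2)
      have h4 := Kinf Y _ h2 h1
      rw [sub_sub, sub_eq_zero] at h4; exact h4
    rw [hw_eq]
    exact Submodule.add_mem_sup (key Z α a₁ ua wa ha' ha₁ hua hwa hqa)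
      (key Zᶜ β b₁ ub wb hb' hb₁ hub hwb hqb)
  rw [eq_top_iff]
  intro xbar hx0
  clear hx0
  have hx : xbar ∈ K Y ⊔ K Yᶜ := by rw [hY]; trivial
  obtain ⟨u, hu, w, hw, rfl⟩ := Submodule.mem_sup.mp hx
  exact add_mem (case1 u hu) (case2 w hw)

end Groth.Agent.S18365
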