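import Groth.Statements.S18366
import Mathlib
import Groth.Agent.H68.GeomRedPt

set_option autoImplicit false
universe u
open CategoryTheory CategoryTheory.Limits AlgebraicGeometry
open Variety

namespace Groth.Agent.S18366

open scoped TensorProduct


/-- Let k be a separably closed field and X a non-empty k-scheme of finite type which is geometrically
reduced. Then X has a k-rational point, i.e. the structure morphism admits a section. (Non-emptiness
is part of the hypotheses: the empty scheme is geometrically reduced of finite type and has no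
point. The published statement does not assume X non-empty; this row does, since the empty scheme
has no rational point.) -/
theorem result (k : Type u) [Field k] [IsSepClosed k]
    {X : Scheme.{u}} (f : X ⟶ Spec (CommRingCat.of k)) [LocallyOfFiniteType f] [QuasiCompact f] [GeometricallyReduced f]
    [Nonempty X] :
    ∃ s : Spec (CommRingCat.of k) ⟶ X, s ≫ f = 𝟙 (Spec (CommRingCat.of k)) := by
  classical
  obtain ⟨x₀⟩ := ‹Nonempty X›
  obtain ⟨_, ⟨V, hV, rfl⟩, hxV, -⟩ :=
    X.isBasis_affineOpens.exists_subset_of_mem_open (Set.mem_univ x₀) isOpen_univ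
  have hV : IsAffineOpen V := hV
  obtain ⟨φ, hφ⟩ := Spec.map_surjective (hV.fromSpec ≫ f)
  letI : Algebra k Γ(X, V) := φ.hom.toAlgebra
  haveI hlft : LocallyOfFiniteType (Spec.map φ) := by
    rw [hφ]; infer_instance
  haveI : Algebra.FiniteType k Γ(X, V) :=
    (HasRingHomProperty.Spec_iff (P := @LocallyOfFiniteType)).mp hlft
  haveI : Nontrivial Γ(X, V) :=
    PrimeSpectrum.nonempty_iff_nontrivial.mp ⟨hV.primeIdealOf ⟨x₀, hxV⟩⟩
  -- reducedness
  let g : Spec (CommRingCat.of (AlgebraicClosure k)) ⟶ Spec (CommRingCat.of k) :=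
    Spec.map (CommRingCat.ofHom (algebraMap k (AlgebraicClosure k)))
  haveI hZ : IsReduced (pullback f g) :=
    GeometricallyReduced.geometrically_isReduced (f := f) g (pullback.fst f g) (pullback.snd f g)
      (IsPullback.of_hasPullback f g)
  haveI : IsReduced (pullback (hV.fromSpec ≫ f) g) :=
    isReduced_of_isOpenImmersion
      (pullback.map (hV.fromSpec ≫ f) g f g hV.fromSpec (𝟙 _) (𝟙 _) (by simp) (by simp))
  have hred : IsReduced (pullback (Spec.map (CommRingCat.ofHom (algebraMap k Γ(X, V))))
      (Spec.map (CommRingCat.ofHom (algebraMap k (AlgebraicClosure k))))) := by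
    have : CommRingCat.ofHom (algebraMap k Γ(X, V)) = φ := rfl
    rw [this, hφ]
    infer_instance
  haveI := hred
  haveI : IsReduced (Spec (CommRingCat.of (Γ(X, V) ⊗[k] AlgebraicClosure k))) :=
    isReduced_of_isOpenImmersion (pullbackSpecIso k Γ(X, V) (AlgebraicClosure k)).inv
  have hred' : _root_.IsReduced (Γ(X, V) ⊗[k] AlgebraicClosure k) :=
    (affine_isReduced_iff (CommRingCat.of (Γ(X, V) ⊗[k] AlgebraicClosure k))).mp inferInstance
  obtain ⟨χ⟩ := Groth.Agent.H68.GeomRedPt.nonempty_algHom k Γ(X, V) hred'
  refine ⟨Spec.map (CommRingCat.ofHom χ.toRingHom) ≫ hV.fromSpec, ?_⟩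
  rw [Category.assoc, ← hφ, ← Spec.map_comp]
  have : φ ≫ CommRingCat.ofHom χ.toRingHom = 𝟙 _ := by
    ext r
    exact χ.commutes r
  rw [this, Spec.map_id]

end Groth.Agent.S18366
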