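import Groth.Statements.S18367
import Mathlib
import Groth.Agent.S14128

set_option autoImplicit false
universe u
open CategoryTheory CategoryTheory.Limits
open LocAlg


namespace Groth.Agent.S18367

open Abelian IsLocalRing RingTheory.Sequence TensorProduct
open Groth.Agent.S5789 (ext_eq_zero_of_isZero ext_eq_zero_of_iso)
open Groth.Agent.S14128 (support_subset_of_isFiniteLength image_step final_step Sc Hm homIso
  range_eq_top_of_isZero)

/-- `Ext^j(H, F) = 0` for `H` of finite length, `F` finitely generated free and `j` smaller than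
the length of a regular sequence contained in the maximal ideal (Rees). -/
theorem ext_free_vanish_of_seq {R : Type u} [CommRing R] [IsLocalRing R] [IsNoetherianRing R]
    (rs : List R) (hW : IsWeaklyRegular R rs) (hmem : ∀ r ∈ rs, r ∈ maximalIdeal R)
    (H F : ModuleCat.{u} R) (hH : IsFiniteLength R H) [Module.Free R F] [Module.Finite R F]
    (j : ℕ) (hj : j < rs.length) (z : Ext H F j) : z = 0 := by
  by_cases hF : Subsingleton F
  · exact ext_eq_zero_of_isZero (ModuleCat.isZero_of_subsingleton F) z
  · haveI : Nontrivial F := not_subsingleton_iff_nontrivial.mp hF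
    have hW2 : IsWeaklyRegular (F ⊗[R] R) rs := hW.isWeaklyRegular_lTensor (M₂ := F)
    have hW3 : IsWeaklyRegular F rs := ((TensorProduct.rid R F).isWeaklyRegular_congr _).mp hW2
    have hreg : IsRegular F rs :=
      (IsLocalRing.isRegular_iff_isWeaklyRegular_of_subset_maximalIdeal hmem).mpr hW3
    have hlt : maximalIdeal R • (⊤ : Submodule R F) < ⊤ :=
      lt_of_le_of_ne le_top (Submodule.top_ne_ideal_smul_of_le_jacobson_annihilator
        (maximalIdeal_le_jacobson _)).symm
    haveI : IsNoetherian R H := (isFiniteLength_iff_isNoetherian_isArtinian.mp hH).1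
    haveI : Module.Finite R H := inferInstance
    have hsub := ModuleCat.subsingleton_ext_of_exists_isRegular (maximalIdeal R) H
      (support_subset_of_isFiniteLength hH) F hlt rs hmem hreg j hj
    exact Subsingleton.elim _ _

/-- The acyclicity lemma with the `Ext`-vanishing as a hypothesis. -/
theorem main' {R : Type u} [CommRing R] (g : ℕ) (M : CochainComplex (ModuleCat.{u} R) ℕ)
    (hv : ∀ (H : ModuleCat.{u} R), IsFiniteLength R H → ∀ (l j : ℕ), j < g →
      ∀ z : Ext H (M.X l) j, z = 0)
    (hfl : ∀ i, IsFiniteLength R (M.homology i)) :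
    ∀ i, i < g → IsZero (M.homology i) := by
  intro i
  induction i using Nat.strong_induction_on with
  | _ i ih =>
    intro hi
    have hH : IsFiniteLength R (Hm M i) := (homIso M i).toLinearEquiv.isFiniteLength (hfl i)
    have hvan : ∀ (l j : ℕ), j < g → ∀ z : Ext (Hm M i) (M.X l) j, z = 0 := hv (Hm M i) hH
    have hQ : ∀ l, l ≤ i → ∀ j, j + l ≤ g → ∀ z : Ext (Hm M i)
        (ModuleCat.of R (LinearMap.range (Sc M l).moduleCatToCycles)) j, z = 0 := by
      intro l
      induction l with
      | zero =>
        intro _ j _ z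
        have hf0 : (Sc M 0).f = 0 := M.shape _ _ (by simp)
        have hT0 : (Sc M 0).moduleCatToCycles = 0 := by
          apply LinearMap.ext
          intro y
          apply Subtype.ext
          show (Sc M 0).f.hom y = 0
          rw [hf0]; rfl
        haveI : Subsingleton (LinearMap.range (Sc M 0).moduleCatToCycles) := by
          rw [Submodule.subsingleton_iff_eq_bot, LinearMap.range_eq_bot]
          exact hT0
        exact ext_eq_zero_of_isZero (ModuleCat.isZero_of_subsingleton _) z
      | succ l ihl =>
        intro hl j hj z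
        have hex : LinearMap.range (Sc M l).moduleCatToCycles = ⊤ :=
          range_eq_top_of_isZero M l (ih l (by omega) (by omega))
        refine image_step (Sc M (l + 1)) (Hm M i) j ?_ ?_ z
        · exact hvan l j (by omega)
        · have e : LinearMap.range (Sc M l).moduleCatToCycles ≃ₗ[R]
              LinearMap.ker (Sc M l).g.hom := LinearEquiv.ofTop _ hex
          exact ext_eq_zero_of_iso e.toModuleIso (ihl (by omega) (j + 1) (by omega))
    have hsub : Subsingleton (LinearMap.ker (Sc M i).g.hom ⧸
        LinearMap.range (Sc M i).moduleCatToCycles) := by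
      apply final_step (Sc M i)
      · intro φ
        have h1 := hvan i 0 (by omega) (Ext.mk₀ (ModuleCat.ofHom φ))
        have h2 : ModuleCat.ofHom φ = 0 :=
          (Ext.mk₀_bijective _ _).1 (h1.trans (Ext.mk₀_zero _ _).symm)
        have h3 := congrArg ModuleCat.Hom.hom h2
        simpa using h3
      · exact hQ i le_rfl 1 (by omega)
    have : Subsingleton (Hm M i) := hsub
    exact (ModuleCat.isZero_of_subsingleton (Hm M i)).of_iso (homIso M i)

/-- In a Cohen–Macaulay local ring of dimension `g` there are regular sequences in the maximal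
ideal of every length `≤ g`. -/
theorem exists_seq (R : Type u) [CommRing R] [LocCoh.IsCohenMacaulayLocalRing R] (g : ℕ)
    (hg : ringKrullDim R = g) (j : ℕ) (hj : j < g) :
    ∃ rs : List R, IsWeaklyRegular R rs ∧ (∀ r ∈ rs, r ∈ maximalIdeal R) ∧ j < rs.length := by
  have h0 := LocCoh.IsCohenMacaulayLocalRing.supportDim_eq_depth (R := R)
  rw [Module.supportDim_self_eq_ringKrullDim, hg] at h0
  have h2 : (g : ℕ∞) = LocCoh.depth R R :=
    WithBot.coe_injective (by rw [← h0]; first | rfl | exact (WithBot.coe_natCast g).symm | simp)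
  unfold LocCoh.depth LocCoh.idealDepth at h2
  split_ifs at h2 with htop
  · exact absurd h2.symm (ENat.top_ne_coe g)
  · have hjg : (j : ℕ∞) < (g : ℕ∞) := by exact_mod_cast hj
    rw [h2] at hjg
    obtain ⟨rs, h4⟩ := lt_iSup_iff.mp hjg
    obtain ⟨⟨hW, hmem⟩, h5⟩ := lt_iSup_iff.mp h4
    exact ⟨rs, hW, hmem, by exact_mod_cast h5⟩

/-- Let R be a Cohen–Macaulay local ring of Krull dimension g and K = (K^0 → K^1 → ⋯) a bounded cochain
complex of finitely generated free R-modules (K^i = 0 for i > N) such that every cohomology module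
H^i(K) has finite length. Then H^i(K) = 0 for all i < g. -/
theorem result (R : Type u) [CommRing R]
    [LocCoh.IsCohenMacaulayLocalRing R] (g : ℕ) (hg : ringKrullDim R = g) (K : CochainComplex (ModuleCat.{u} R) ℕ)
    (N : ℕ) (hbd : ∀ i, N < i → IsZero (K.X i)) (hfree : ∀ i, Module.Free R (K.X i) ∧ Module.Finite R (K.X i))
    (hfl : ∀ i, IsFiniteLength R (K.homology i)) (i : ℕ) (hi : i < g) :
    IsZero (K.homology i) := by
  refine main' g K (fun H hH l j hj z => ?_) hfl i hi
  obtain ⟨rs, hW, hmem, hlen⟩ := exists_seq R g hg j hj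
  haveI := (hfree l).1
  haveI := (hfree l).2
  exact ext_free_vanish_of_seq rs hW hmem H (K.X l) hH j hlen z

end Groth.Agent.S18367
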