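import Groth.Statements.S1837
import Groth.Agent.H29.GlueMax
set_option maxHeartbeats 400000
set_option linter.style.haveILetI false

set_option autoImplicit false
universe u
open TensorProduct
open CycAlg

namespace Groth.Agent.S1837

/-- Let A be Noetherian with pairwise distinct maximal ideals 𝔪₁, …, 𝔪_r, and for each i a ring map φ_i
from A_{𝔪_i} to B_i whose kernel and cokernel are killed by a power of 𝔪_i. Then there is an
A-algebra B whose base change to each A_{𝔪_i} is isomorphic to B_i and whose structure map has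
kernel and cokernel killed by a power of 𝔪₁ ∩ … ∩ 𝔪_r; if every φ_i is finite (resp. injective,
resp. surjective) B can be taken with the same property. -/
theorem result (A : Type u) [CommRing A] [IsNoetherianRing A] (r : ℕ) (m : Fin r → Ideal A) (hm : ∀ i, (m i).IsMaximal) (hinj : Function.Injective m) (B : Fin r → Type u) [∀ i, CommRing (B i)] [∀ i, Algebra (Localization.AtPrime (m i)) (B i)] (hker : ∀ i, ∃ n : ℕ, ∀ x ∈ RingHom.ker (algebraMap (Localization.AtPrime (m i)) (B i)), ∀ y ∈ Ideal.map (algebraMap A (Localization.AtPrime (m i))) (m i) ^ n, y * x = 0) (hcoker : ∀ i, ∃ n : ℕ, ∀ y ∈ Ideal.map (algebraMap A (Localization.AtPrime (m i))) (m i) ^ n, ∀ b : B i, y • b ∈ (algebraMap (Localization.AtPrime (m i)) (B i)).range) : ∃ (C : Type u) (_ : CommRing C) (_ : Algebra A C), (∀ i, Nonempty ((Localization.AtPrime (m i)) ⊗[A] C ≃ₐ[Localization.AtPrime (m i)] B i)) ∧ (∃ n : ℕ, (∀ x ∈ RingHom.ker (algebraMap A C), ∀ y ∈ (⨅ i, m i) ^ n, y * x = 0) ∧ (∀ y ∈ (⨅ i, m i) ^ n, ∀ c : C, y • c ∈ (algebraMap A C).range))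 ∧ ((∀ i, (algebraMap (Localization.AtPrime (m i)) (B i)).Finite) → (algebraMap A C).Finite) ∧ ((∀ i, Function.Injective (algebraMap (Localization.AtPrime (m i)) (B i))) → Function.Injective (algebraMap A C)) ∧ ((∀ i, Function.Surjective (algebraMap (Localization.AtPrime (m i)) (B i))) → Function.Surjective (algebraMap A C)) := by
  classical
  letI algAB : ∀ i, Algebra A (B i) := fun i =>
    ((algebraMap (Localization.AtPrime (m i)) (B i)).comp
      (algebraMap A (Localization.AtPrime (m i)))).toAlgebra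
  haveI tower : ∀ i, IsScalarTower A (Localization.AtPrime (m i)) (B i) := fun i =>
    IsScalarTower.of_algebraMap_eq (fun x => rfl)
  have hφ : ∀ i (a : A), algebraMap A (B i) a =
      algebraMap (Localization.AtPrime (m i)) (B i)
        (algebraMap A (Localization.AtPrime (m i)) a) := fun i a => rfl
  have hunit : ∀ i (s : A), s ∉ m i → IsUnit (algebraMap A (B i) s) := by
    intro i s hs
    rw [hφ]
    exact (IsLocalization.map_units (Localization.AtPrime (m i))
      (⟨s, hs⟩ : (m i).primeCompl)).map _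
  have hker' : ∀ i, ∃ n : ℕ, ∀ a : A, algebraMap A (B i) a = 0 → ∀ y ∈ m i ^ n,
      ∃ s, s ∉ m i ∧ s * y * a = 0 := by
    intro i
    obtain ⟨n, hn⟩ := hker i
    refine ⟨n, ?_⟩
    intro a ha y hy
    have h1 : algebraMap A (Localization.AtPrime (m i)) a ∈
        RingHom.ker (algebraMap (Localization.AtPrime (m i)) (B i)) := by
      rw [RingHom.mem_ker, ← hφ]; exact ha
    have h2 : algebraMap A (Localization.AtPrime (m i)) y ∈
        Ideal.map (algebraMap A (Localization.AtPrime (m i))) (m i) ^ n := by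
      rw [← Ideal.map_pow]; exact Ideal.mem_map_of_mem _ hy
    have h3 := hn _ h1 _ h2
    rw [← map_mul] at h3
    obtain ⟨s, hs⟩ := (IsLocalization.map_eq_zero_iff (m i).primeCompl _ (y * a)).mp h3
    exact ⟨s, s.2, by rw [mul_assoc]; exact hs⟩
  have hcoker' : ∀ i, ∃ n : ℕ, ∀ b : B i, ∀ y ∈ m i ^ n,
      ∃ s, s ∉ m i ∧ ∃ a : A, s • (y • b) = algebraMap A (B i) a := by
    intro i
    obtain ⟨n, hn⟩ := hcoker i
    refine ⟨n, ?_⟩
    intro b y hy
    have h2 : algebraMap A (Localization.AtPrime (m i)) y ∈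
        Ideal.map (algebraMap A (Localization.AtPrime (m i))) (m i) ^ n := by
      rw [← Ideal.map_pow]; exact Ideal.mem_map_of_mem _ hy
    obtain ⟨q, hq⟩ := hn _ h2 b
    obtain ⟨⟨a, s⟩, hs⟩ := IsLocalization.surj (m i).primeCompl q
    refine ⟨s, s.2, a, ?_⟩
    have hq' : algebraMap (Localization.AtPrime (m i)) (B i) q =
        algebraMap A (B i) y * b := by
      rw [hq, Algebra.smul_def, hφ]
    rw [Algebra.smul_def, Algebra.smul_def, ← hq', hφ, hφ, ← map_mul, mul_comm]
    exact congrArg _ hs
  refine ⟨Groth.Agent.H29.GlueMax.Glued m B, inferInstance, inferInstance, ?_, ?_, ?_, ?_, ?_⟩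
  · intro i
    haveI := (hm i).isPrime
    haveI := Groth.Agent.H29.GlueMax.isLocalizedModule_proj hm hinj B hunit hker' hcoker' i
    have hbc : IsBaseChange (Localization.AtPrime (m i))
        (Groth.Agent.H29.GlueMax.proj m B i).toLinearMap :=
      IsLocalizedModule.isBaseChange (m i).primeCompl (Localization.AtPrime (m i)) _
    refine ⟨AlgEquiv.ofLinearEquiv hbc.equiv ?_ ?_⟩
    · rw [Algebra.TensorProduct.one_def, IsBaseChange.equiv_tmul, one_smul]
      exact map_one (Groth.Agent.H29.GlueMax.proj m B i)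
    · intro x y
      induction x using TensorProduct.induction_on with
      | zero => rw [zero_mul, LinearEquiv.map_zero, zero_mul]
      | add x₁ x₂ h₁ h₂ => rw [add_mul, LinearEquiv.map_add, h₁, h₂, LinearEquiv.map_add, add_mul]
      | tmul s c =>
        induction y using TensorProduct.induction_on with
        | zero => rw [mul_zero, LinearEquiv.map_zero, mul_zero]
        | add y₁ y₂ h₁ h₂ => rw [mul_add, LinearEquiv.map_add, h₁, h₂, LinearEquiv.map_add, mul_add]
        | tmul s' c' =>
          rw [Algebra.TensorProduct.tmul_mul_tmul, IsBaseChange.equiv_tmul,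
            IsBaseChange.equiv_tmul, IsBaseChange.equiv_tmul]
          show (s * s') • (Groth.Agent.H29.GlueMax.proj m B i) (c * c') = _
          rw [map_mul, smul_mul_smul_comm]
          rfl
  · obtain ⟨n₁, h₁⟩ := Groth.Agent.H29.GlueMax.ker_bound B hker'
    obtain ⟨n₂, h₂⟩ := Groth.Agent.H29.GlueMax.coker_bound hm hinj B hunit hker' hcoker'
    refine ⟨max n₁ n₂, ?_, ?_⟩
    · intro x hx y hy
      exact h₁ x hx y (Ideal.pow_le_pow_right (le_max_left n₁ n₂) hy)
    · intro y hy c
      exact h₂ y (Ideal.pow_le_pow_right (le_max_right n₁ n₂) hy) c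
  · intro hfin
    rw [RingHom.finite_algebraMap]
    apply Groth.Agent.H29.GlueMax.finite_glued hm hinj B hunit hker' hcoker'
    intro i
    haveI : Module.Finite (Localization.AtPrime (m i)) (B i) :=
      RingHom.finite_algebraMap.mp (hfin i)
    obtain ⟨T, hT⟩ := (Module.Finite.fg_top :
      (⊤ : Submodule (Localization.AtPrime (m i)) (B i)).FG)
    refine ⟨T, ?_⟩
    intro b
    have hb : b ∈ Submodule.span (Localization.AtPrime (m i)) (T : Set (B i)) := by
      rw [hT]; trivial
    obtain ⟨f, -, hf⟩ := Submodule.mem_span_finset.mp hb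
    obtain ⟨s, hs⟩ := IsLocalization.exist_integer_multiples (m i).primeCompl T f
    refine ⟨s, s.2, ?_⟩
    rw [← hf, Finset.smul_sum]
    refine Submodule.sum_mem _ fun τ hτ => ?_
    obtain ⟨a, ha⟩ := hs τ hτ
    have : (s : A) • (f τ • τ) = a • τ := by
      rw [← smul_assoc, ← ha, algebraMap_smul]
    rw [this]
    exact Submodule.smul_mem _ _ (Submodule.subset_span hτ)
  · intro hinjB
    apply Groth.Agent.H29.GlueMax.injective_algebraMap B
    intro i a ha
    rw [hφ] at ha
    have h0 : algebraMap A (Localization.AtPrime (m i)) a = 0 := by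
      apply hinjB i
      rw [ha, map_zero]
    obtain ⟨s, hs⟩ := (IsLocalization.map_eq_zero_iff (m i).primeCompl _ a).mp h0
    exact ⟨s, s.2, hs⟩
  · intro hsurjB
    apply Groth.Agent.H29.GlueMax.surjective_algebraMap hm hinj B hunit hker'
    intro i b
    obtain ⟨q, hq⟩ := hsurjB i b
    obtain ⟨⟨a, s⟩, hs⟩ := IsLocalization.surj (m i).primeCompl q
    refine ⟨s, s.2, a, ?_⟩
    rw [Algebra.smul_def, ← hq, hφ, hφ, ← map_mul, mul_comm]
    exact congrArg _ hs

end Groth.Agent.S1837
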