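import Groth.Statements.S18370

set_option autoImplicit false
universe u
open CategoryTheory CategoryTheory.Limits MonoidalCategory CartesianMonoidalCategory MonObj GrpObj AlgebraicGeometry
open GrpSch

namespace Groth.Agent.S18370

/-- Let S be a scheme and G a commutative S-group scheme which is killed by a natural number n, i.e. the
n-th power map of G is the trivial homomorphism, and let n = a·b with a and b coprime. If i_a : G_a
→ G and i_b : G_b → G are scheme-theoretic kernels of the a-th and b-th power maps of G, then the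
morphism G_a ×_S G_b → G sending (x, y) to i_a(x)·i_b(y) is an isomorphism of S-schemes. (The
published statement assumes n ≠ 0; the case n = 0, where {a, b} = {0, 1} and one kernel is all of G
while the other is trivial, is included here.) -/
theorem result {S : Scheme.{u}} (G Ga Gb : Over S)
    [GrpObj G] [IsCommMonObj G] (n a b : ℕ) (hn : n = a * b) (hab : Nat.Coprime a b)
    (hG : (𝟙 G) ^ n = 1)
    (ia : Ga ⟶ G) (hia : AlgGrp.IsKernel ia ((𝟙 G) ^ a))
    (ib : Gb ⟶ G) (hib : AlgGrp.IsKernel ib ((𝟙 G) ^ b)) :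
    IsIso ((fst Ga Gb ≫ ia) * (snd Ga Gb ≫ ib)) := by
  obtain ⟨u, v, huv⟩ : ∃ u v : ℤ, (a : ℤ) * u + (b : ℤ) * v = 1 := by
    have h := Int.gcd_eq_gcd_ab (a : ℤ) (b : ℤ)
    have h1 : Int.gcd (a : ℤ) (b : ℤ) = 1 := by
      rw [Int.gcd_natCast_natCast]; exact hab
    rw [h1] at h
    exact ⟨_, _, by exact_mod_cast h.symm⟩
  have hpow : ∀ {T : Over S} (x : T ⟶ G), x ^ n = 1 := by
    intro T x
    have h := congrArg (fun f => x ≫ f) hG
    simpa only [MonObj.comp_pow, MonObj.comp_one, Category.comp_id] using h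
  have hka : ∀ {T : Over S} (x : T ⟶ Ga), (x ≫ ia) ^ a = 1 := by
    intro T x
    have h := congrArg (fun f => x ≫ f) hia.w
    simp only [MonObj.comp_pow, Category.comp_id] at h
    rw [h, ← Category.assoc, toUnit_unique (x ≫ toUnit _) (toUnit T), ← Hom.one_def]
  have hkb : ∀ {T : Over S} (x : T ⟶ Gb), (x ≫ ib) ^ b = 1 := by
    intro T x
    have h := congrArg (fun f => x ≫ f) hib.w
    simp only [MonObj.comp_pow, Category.comp_id] at h
    rw [h, ← Category.assoc, toUnit_unique (x ≫ toUnit _) (toUnit T), ← Hom.one_def]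
  have wa : ((𝟙 G) ^ ((b : ℤ) * v)) ≫ (𝟙 G) ^ a = toUnit G ≫ η[G] := by
    rw [MonObj.comp_pow, Category.comp_id, ← Hom.one_def, ← zpow_natCast, ← zpow_mul,
      show (b : ℤ) * v * (a : ℤ) = (n : ℤ) * v by rw [hn]; push_cast; ring, zpow_mul, zpow_natCast, hpow,
      one_zpow]
  have wb : ((𝟙 G) ^ ((a : ℤ) * u)) ≫ (𝟙 G) ^ b = toUnit G ≫ η[G] := by
    rw [MonObj.comp_pow, Category.comp_id, ← Hom.one_def, ← zpow_natCast, ← zpow_mul,
      show (a : ℤ) * u * (b : ℤ) = (n : ℤ) * u by rw [hn]; push_cast; ring, zpow_mul, zpow_natCast, hpow,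
      one_zpow]
  let pa : G ⟶ Ga := hia.lift ((𝟙 G) ^ ((b : ℤ) * v)) (toUnit G) wa
  let pb : G ⟶ Gb := hib.lift ((𝟙 G) ^ ((a : ℤ) * u)) (toUnit G) wb
  have hpa : pa ≫ ia = (𝟙 G) ^ ((b : ℤ) * v) := hia.lift_fst _ _ _
  have hpb : pb ≫ ib = (𝟙 G) ^ ((a : ℤ) * u) := hib.lift_fst _ _ _
  refine ⟨lift pa pb, ?_, ?_⟩
  · -- m ≫ inv = 𝟙
    apply CartesianMonoidalCategory.hom_ext
    · rw [Category.assoc, lift_fst, Category.id_comp]
      apply hia.hom_ext
      · rw [Category.assoc, hpa, GrpObj.comp_zpow, Category.comp_id, mul_zpow]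
        have e1 : (snd Ga Gb ≫ ib) ^ ((b : ℤ) * v) = 1 := by
          rw [zpow_mul, zpow_natCast, hkb, one_zpow]
        have e2 : (fst Ga Gb ≫ ia) ^ ((b : ℤ) * v) = fst Ga Gb ≫ ia := by
          rw [show (b : ℤ) * v = 1 - (a : ℤ) * u by linarith, zpow_sub, zpow_one, zpow_mul, zpow_natCast, hka,
            one_zpow, inv_one, _root_.mul_one]
        rw [e1, e2, _root_.mul_one]
      · exact toUnit_unique _ _
    · rw [Category.assoc, lift_snd, Category.id_comp]
      apply hib.hom_ext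
      · rw [Category.assoc, hpb, GrpObj.comp_zpow, Category.comp_id, mul_zpow]
        have e1 : (fst Ga Gb ≫ ia) ^ ((a : ℤ) * u) = 1 := by
          rw [zpow_mul, zpow_natCast, hka, one_zpow]
        have e2 : (snd Ga Gb ≫ ib) ^ ((a : ℤ) * u) = snd Ga Gb ≫ ib := by
          rw [show (a : ℤ) * u = 1 - (b : ℤ) * v by linarith, zpow_sub, zpow_one, zpow_mul, zpow_natCast, hkb,
            one_zpow, inv_one, _root_.mul_one]
        rw [e1, e2, _root_.one_mul]
      · exact toUnit_unique _ _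
  · -- inv ≫ m = 𝟙
    rw [MonObj.comp_mul, ← Category.assoc, lift_fst, ← Category.assoc, lift_snd, hpa, hpb, ← zpow_add,
      show (b : ℤ) * v + (a : ℤ) * u = 1 by linarith, zpow_one]

end Groth.Agent.S18370
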