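import Groth.Statements.S18372
import Groth.Agent.H93.ClosedAffFin

set_option autoImplicit false
universe u
open CategoryTheory CategoryTheory.Limits MonoidalCategory CartesianMonoidalCategory MonObj GrpObj AlgebraicGeometry
open AbVar

namespace Groth.Agent.S18372

/-- Let k be an algebraically closed field, A an abelian variety over k (a proper smooth k-group scheme
with geometrically connected fibres), U an affine open subset of A containing the unit point and D =
A ∖ U. Then only finitely many k-rational points x of A have a translation t_x : z ↦ z + x (the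
product of the identity and the constant map x in the group Hom(A, A)) with t_x⁻¹(D) = D as sets. -/
theorem result (k : Type u) [Field k] [IsAlgClosed k]
    (A : Over (Spec (CommRingCat.of k))) [GrpObj A] [IsProper A.hom] [Smooth A.hom] [GeometricallyConnected A.hom]
    (U : A.left.Opens) (hU : IsAffineOpen U) (he : Set.range η[A].left.base ⊆ (U : Set A.left)) :
    Set.Finite {x : 𝟙_ (Over (Spec (CommRingCat.of k))) ⟶ A |
      (𝟙 A * (toUnit A ≫ x)).left.base ⁻¹' ((U : Set A.left)ᶜ) = (U : Set A.left)ᶜ} := by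
  classical
  haveI : LocallyOfFiniteType A.hom := inferInstance
  haveI hJ : JacobsonSpace A.left := LocallyOfFiniteType.jacobsonSpace A.hom
  have hD : IsClosed ((U : Set A.left)ᶜ) := U.isOpen.isClosed_compl
  -- the maps `a ↦ d * a⁻¹`
  obtain ⟨ψ, hψ⟩ : ∃ ψ : (𝟙_ (Over (Spec (CommRingCat.of k))) ⟶ A) → (A ≅ A),
      ∀ d, ψ d = Groth.Agent.H93.GrpAff.invIso A ≪≫ Groth.Agent.H93.GrpAff.mulLeftIso A d :=
    ⟨_, fun _ => rfl⟩
  have hψpt : ∀ d x : 𝟙_ (Over (Spec (CommRingCat.of k))) ⟶ A,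
      (ψ d).hom.left.base (Groth.Agent.H93.GrpAff.pt A x) =
        Groth.Agent.H93.GrpAff.pt A (d * x⁻¹) := by
    intro d x
    have e : (ψ d).hom.left (Groth.Agent.H93.GrpAff.pt A x) =
        Groth.Agent.H93.GrpAff.pt A (x ≫ (ψ d).hom) :=
      Groth.Agent.H93.GrpAff.iso_pt A (ψ d).hom x
    have e2 : x ≫ (ψ d).hom = d * x⁻¹ := by
      rw [hψ, Iso.trans_hom, ← Category.assoc, Groth.Agent.H93.GrpAff.comp_mulLeftIso]
      rfl
    rw [e2] at e
    exact e
  obtain ⟨C, hCdef⟩ : ∃ C : Set A.left, C = ⋂ (d : 𝟙_ (Over (Spec (CommRingCat.of k))) ⟶ A)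
      (_ : Groth.Agent.H93.GrpAff.pt A d ∈ (U : Set A.left)ᶜ),
        (ψ d).hom.left.base ⁻¹' ((U : Set A.left)ᶜ) := ⟨_, rfl⟩
  have hCcl : IsClosed C := by
    rw [hCdef]
    exact isClosed_iInter fun d => isClosed_iInter fun _ =>
      hD.preimage (ψ d).hom.left.continuous
  have hmemC : ∀ c : A.left, c ∈ C ↔ ∀ d : 𝟙_ (Over (Spec (CommRingCat.of k))) ⟶ A,
      Groth.Agent.H93.GrpAff.pt A d ∈ (U : Set A.left)ᶜ →
        (ψ d).hom.left.base c ∈ (U : Set A.left)ᶜ := by
    intro c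
    rw [hCdef]
    simp only [Set.mem_iInter, Set.mem_preimage]
  have h1U : Groth.Agent.H93.GrpAff.pt A (1 : 𝟙_ (Over (Spec (CommRingCat.of k))) ⟶ A) ∈
      (U : Set A.left) := by
    rw [Groth.Agent.H93.GrpAff.one_eq_eta]
    exact he ⟨_, rfl⟩
  have hCU : C ⊆ (U : Set A.left) := by
    intro c hc
    by_contra hcU
    have hne : (C ∩ (U : Set A.left)ᶜ).Nonempty := ⟨c, hc, hcU⟩
    obtain ⟨c₀, ⟨hc₀C, hc₀U⟩, hc₀cl⟩ :=
      nonempty_inter_closedPoints hne (hCcl.inter hD).isLocallyClosed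
    obtain ⟨r, hr⟩ := Groth.Agent.H93.GrpAff.exists_rational A c₀ hc₀cl
    have h3 := (hmemC c₀).mp hc₀C r (by rw [hr]; exact hc₀U)
    rw [← hr, hψpt, _root_.mul_inv_cancel] at h3
    exact h3 h1U
  have hCfin : C.Finite := by
    obtain ⟨q, hq⟩ : ∃ q : A.left ⟶ Spec (CommRingCat.of k), q = A.hom := ⟨_, rfl⟩
    haveI : IsProper q := by rw [hq]; infer_instance
    exact Groth.Agent.H93.ClosedAffFin.finite_of_isClosed_subset_affine q U hU C hCcl hCU
  refine Set.Finite.of_finite_image (f := Groth.Agent.H93.GrpAff.pt A) (hCfin.subset ?_) ?_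
  · rintro _ ⟨x, hx, rfl⟩
    rw [hmemC]
    intro d hd
    rw [hψpt]
    have hx' : (𝟙 A * (toUnit A ≫ x)).left.base ⁻¹' ((U : Set A.left)ᶜ) = (U : Set A.left)ᶜ := hx
    have e : (GrpObj.mulRight x).hom.left (Groth.Agent.H93.GrpAff.pt A (d * x⁻¹)) =
        Groth.Agent.H93.GrpAff.pt A ((d * x⁻¹) ≫ (GrpObj.mulRight x).hom) :=
      Groth.Agent.H93.GrpAff.iso_pt A _ _
    rw [Groth.Agent.H93.GrpAff.comp_mulRight, _root_.inv_mul_cancel_right] at e
    have h4 : Groth.Agent.H93.GrpAff.pt A (d * x⁻¹) ∈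
        (𝟙 A * (toUnit A ≫ x)).left.base ⁻¹' ((U : Set A.left)ᶜ) := by
      show (𝟙 A * (toUnit A ≫ x)).left.base (Groth.Agent.H93.GrpAff.pt A (d * x⁻¹)) ∈
        (U : Set A.left)ᶜ
      have e' : (𝟙 A * (toUnit A ≫ x)).left.base (Groth.Agent.H93.GrpAff.pt A (d * x⁻¹)) =
          Groth.Agent.H93.GrpAff.pt A d := e
      rw [e']
      exact hd
    rw [hx'] at h4
    exact h4
  · intro x₁ _ x₂ _ h
    exact Groth.Agent.H63.RatPt.over_ext x₁ x₂ (IsLocalRing.closedPoint k) h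

end Groth.Agent.S18372
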