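import Groth.Statements.S18376
import Mathlib
import Groth.Agent.H88.PhiStabLib

set_option autoImplicit false
universe u
open PhiStab

namespace Groth.Agent.S18376

open PhiStab in
/-- Let (V, E, ends) be a connected finite multigraph, b an integer, and φ₁, φ₂ real weightings of the
vertices with Σ_v φ₁ v = Σ_v φ₂ v = b, φ₁ nondegenerate. Then every φ₁-stable sheaf datum (m, N) of
total degree b is φ₂-semistable if and only if φ₂ lies in the closed stability polytope of φ₁, that
is, for every elementary vertex set S and every integer d with d - Σ_{v ∈ S} φ₁ v + cut S / 2 > 0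
one has d - Σ_{v ∈ S} φ₂ v + cut S / 2 ≥ 0. Membership in the closure of the polytope is expressed
by this half-space condition, the form in which the source's proof uses it; the sheaves of degree g
- 1 = b on stable pointed curves with this dual graph enter through their combinatorial data. -/
theorem result {V E : Type u} [Fintype V] [Fintype E] [DecidableEq V] [DecidableEq E]
    (ends : E → V × V)
    (hconn : LabGraph.Connected ends) (b : ℤ) (φ₁ φ₂ : V → ℝ) (h₁ : (∑ v : V, φ₁ v) = (b : ℝ))
    (h₂ : (∑ v : V, φ₂ v) = (b : ℝ)) (hnd : Nondegenerate ends φ₁) :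
    (∀ (m : V → ℤ) (N : Finset E), totDeg m N = b → IsStable ends φ₁ m N → IsSemistable ends φ₂ m N) ↔
      InClosedPolytope ends φ₁ φ₂ := by
  have hne : ∀ S : Finset V, IsElementary ends S → S.Nonempty ∧ S ≠ Finset.univ := by
    intro S hS
    obtain ⟨h1, h2⟩ := Groth.Agent.H88.PhiStabLib.isElementary_iff.1 hS
    refine ⟨h1.1, fun hSu => ?_⟩
    rw [hSu, Finset.compl_univ] at h2
    exact Finset.not_nonempty_empty h2.1
  constructor
  · intro H S hS d hd
    obtain ⟨hS1, hS2⟩ := Groth.Agent.H88.PhiStabLib.isElementary_iff.1 hS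
    obtain ⟨m, N, htot, hss, hdeg⟩ :=
      Groth.Agent.H88.PhiStabLib.exists_semistable_min hconn hS1 hS2 φ₁ b h₁
    have hst : IsStable ends φ₁ m N := hnd m N (by rw [h₁, htot]) hss
    have hss2 := H m N htot hst
    have h3 := hss2 S (hne S hS).1 (hne S hS).2
    unfold ell at hd ⊢
    have hlt : ⌊(∑ v ∈ S, φ₁ v) - (LabGraph.cut ends S : ℝ) / 2⌋ < d := by
      rw [Int.floor_lt]; linarith
    have hle : degOn ends m N S ≤ d := by rw [hdeg]; omega
    have hle' : (degOn ends m N S : ℝ) ≤ (d : ℝ) := by exact_mod_cast hle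
    linarith
  · intro hpoly m N htot hst
    rw [Groth.Agent.H88.PhiStabLib.isSemistable_iff_Fv]
    refine Groth.Agent.H88.PhiStabLib.elem_reduction hconn φ₂ m N (by rw [h₂, htot])
      (fun x => 0 ≤ x) (fun x y hx hy => add_nonneg hx hy) ?_
    intro S hS hS'
    have hel := Groth.Agent.H88.PhiStabLib.isElementary_iff.2 ⟨hS, hS'⟩
    have h3 := hst S (hne S hel).1 (hne S hel).2
    have h4 := hpoly S hel (degOn ends m N S) (by unfold ell; linarith)
    unfold ell at h4
    simp only [Groth.Agent.H88.PhiStabLib.Fv]
    linarith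

end Groth.Agent.S18376
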