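import Groth.Statements.S18377
import Mathlib
import Groth.Agent.H64.VerlindeLib3
-- import your own Groth.Agent.* helpers here

set_option autoImplicit false
open Complex
open VerlindeComb

namespace Groth.Agent.S18377

/-- Let r, k ≥ 1 be integers and v_1 > v_2 > ⋯ > v_r ≥ 0 integers below r + k; put z_j = exp(2πi v_j /
(r + k)) and, for μ = (μ_1, …, μ_r), let S_μ(z) = det(z_j^{μ_i + r - i}) / det(z_j^{r - i}) be the
value of the Schur polynomial (the z_j are distinct, so the Vandermonde denominator is nonzero).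
Then, summing over all μ with k > μ_1 ≥ ⋯ ≥ μ_r ≥ 0 and writing μ* = (k - μ_r, …, k - μ_1), one has
Σ_μ S_μ(z) S_{μ*}(z) = exp(2πi k (v_1 + ⋯ + v_r) / (r + k)) · k (r + k)^{r-1} / ∏_{i<j} (2 sin(π
(v_i - v_j) / (r + k)))². Indices are 0-based below: μ i stands for μ_{i+1}. -/
theorem result (r k : ℕ) (hr : 1 ≤ r) (hk : 1 ≤ k)
    (v : Fin r → ℕ) (hv : StrictAnti v) (hvlt : ∀ i, v i < r + k)
    (z : Fin r → ℂ) (hz : ∀ j, z j = Complex.exp (2 * Real.pi * Complex.I * (v j : ℂ) / ((r : ℂ) + k)))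
    (S : (Fin r → ℕ) → ℂ)
    (hS : ∀ μ : Fin r → ℕ, S μ =
      (Matrix.of fun i j : Fin r => z j ^ (μ i + (r - 1 - (i : ℕ)))).det /
        (Matrix.of fun i j : Fin r => z j ^ (r - 1 - (i : ℕ))).det) :
    (∑ μ ∈ (Finset.univ : Finset (Fin r → Fin k)).filter (fun μ : Fin r → Fin k => Antitone μ),
        S (fun i => (μ i : ℕ)) * S (fun i => k - (μ (Fin.rev i) : ℕ))) =
      Complex.exp (2 * Real.pi * Complex.I * (k : ℂ) * ((∑ j, v j : ℕ) : ℂ) / ((r : ℂ) + k)) *
        ((k : ℂ) * ((r : ℂ) + k) ^ (r - 1)) /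
        (∏ p ∈ (Finset.univ : Finset (Fin r × Fin r)).filter (fun p => p.1 < p.2),
          (((2 : ℝ) * Real.sin (Real.pi * ((v p.1 : ℝ) - (v p.2 : ℝ)) / ((r : ℝ) + k))) ^ 2 : ℝ) : ℂ) := by
  classical
  have hMN : ((r + k : ℕ) : ℂ) = (r:ℂ) + (k:ℂ) := by
    push_cast
    ring
  have hM0 : ((r:ℂ) + (k:ℂ)) ≠ 0 := by
    rw [← hMN]
    have : r + k ≠ 0 := by omega
    exact_mod_cast this
  have hN1 : (r + k - 1) + 1 = k + r := by omega
  obtain ⟨ez, hez⟩ : ∃ ez : Fin r → ℂ, ∀ j, ez j =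
      Complex.exp (-(2 * Real.pi * Complex.I * (v j : ℂ) / ((r:ℂ) + k))) := ⟨_, fun _ => rfl⟩
  have hze : ∀ j, z j * ez j = 1 := fun j => by
    rw [hz, hez, ← Complex.exp_add, add_neg_cancel, Complex.exp_zero]
  have hz0 : ∀ j, z j ≠ 0 := fun j => by
    rw [hz]
    exact Complex.exp_ne_zero _
  have hexpn : ∀ n : ℕ, Complex.exp (2 * Real.pi * Complex.I * (n : ℂ) / ((r:ℂ) + k)) =
      Complex.exp (2 * Real.pi * Complex.I / ((r + k : ℕ) : ℂ)) ^ n := by
    intro n
    rw [← Complex.exp_nat_mul, hMN]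
    congr 1
    ring
  have hprim := Complex.isPrimitiveRoot_exp (r + k) (by omega)
  have hzN : ∀ j, z j ^ (r + k) = 1 := by
    intro j
    rw [hz, hexpn, pow_right_comm, hprim.pow_eq_one, one_pow]
  have hezN : ∀ j, ez j ^ (r + k) = 1 := by
    intro j
    have : (z j * ez j) ^ (r + k) = 1 := by rw [hze, one_pow]
    rwa [mul_pow, hzN, one_mul] at this
  have hzinj : Function.Injective z := by
    intro j j' h
    rw [hz, hz, hexpn, hexpn] at h
    exact hv.injective (hprim.pow_inj (hvlt j) (hvlt j') h)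
  obtain ⟨hV1, hV2, hV3⟩ := Groth.Agent.H64.Verlinde.vandermonde_facts z ez hze
  have hD0 := hV3 hzinj
  obtain ⟨D, hD⟩ : ∃ D : ℂ,
      D = (Matrix.of fun i j : Fin r => z j ^ (r - 1 - (i:ℕ))).det := ⟨_, rfl⟩
  obtain ⟨ε, hε⟩ : ∃ ε : ℂ,
      ε = ((Equiv.Perm.sign (Fin.revPerm : Equiv.Perm (Fin r)) : ℤ) : ℂ) := ⟨_, rfl⟩
  rw [← hD] at hV1 hV2 hD0
  rw [← hε] at hV1
  have hεcases : ε = 1 ∨ ε = -1 := by
    rcases Int.units_eq_one_or (Equiv.Perm.sign (Fin.revPerm : Equiv.Perm (Fin r))) with h | h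
    · left
      rw [hε, h]
      simp
    · right
      rw [hε, h]
      simp
  -- the pair product
  have h1 : ∀ p : Fin r × Fin r,
      ((((2:ℝ) * Real.sin (Real.pi * ((v p.1 : ℝ) - (v p.2 : ℝ)) / ((r : ℝ) + k))) ^ 2 : ℝ) : ℂ)
      = (z p.2 - z p.1) * (ez p.2 - ez p.1) := by
    intro p
    push_cast
    rw [Groth.Agent.H64.Verlinde.pair_identity, hz, hz, hez, hez]
  have hPC : (∏ p ∈ (Finset.univ : Finset (Fin r × Fin r)).filter (fun p => p.1 < p.2),
      (((2 : ℝ) * Real.sin (Real.pi * ((v p.1 : ℝ) - (v p.2 : ℝ)) / ((r : ℝ) + k))) ^ 2 : ℝ) : ℂ)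
      = (ε * D) * ((∏ j, ez j ^ (r - 1)) * D) := by
    rw [← hV1, ← hV2]
    rw [Finset.prod_congr rfl (fun p _ => h1 p), Finset.prod_mul_distrib,
      Groth.Agent.H64.Verlinde.prod_pairs (fun i j => z j - z i),
      Groth.Agent.H64.Verlinde.prod_pairs (fun i j => ez j - ez i)]
  rw [hPC]
  -- reindex
  have hre := Groth.Agent.H64.Verlinde.sum_reindex_core (r := r) (K := k) (N := r + k - 1)
    (by omega) hN1
    (fun μ => Antitone μ) (fun m => StrictAnti m) (fun _ h => h) (fun _ h => h)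
    (fun μ h => Groth.Agent.H64.Verlinde.fwd_strictAnti hN1 μ h)
    (fun m h => Groth.Agent.H64.Verlinde.bwd_antitone (by omega) hN1 m h)
    (fun a => S a * S (fun i => k - a (Fin.rev i)))
  rw [hre]
  obtain ⟨Z, hZ⟩ : ∃ Z : ℂ, Z = ∏ j, z j ^ (r + k - 1) := ⟨_, rfl⟩
  -- termwise
  have hterm : ∀ m : Fin r → Fin (r + k - 1), StrictAnti m →
      S (fun i => ((m i : Fin (r + k - 1)) : ℕ) - (r - 1 - (i:ℕ))) *
        S (fun i => k - (((m (Fin.rev i) : Fin (r + k - 1)) : ℕ) - (r - 1 - ((Fin.rev i : Fin r):ℕ))))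
      = (ε * Z / (D * D)) * ((∏ _j : Fin r, (1:ℂ)) *
          (Matrix.of fun i j => z i ^ ((m j : Fin (r + k - 1)) : ℕ)).det *
          (Matrix.of fun i j => ez i ^ ((m j : Fin (r + k - 1)) : ℕ)).det) := by
    intro m hm
    have hf := fun i => Groth.Agent.H64.Verlinde.bwd_facts (K := k) (by omega) hN1 m hm i
    have hS1 : S (fun i => ((m i : Fin (r + k - 1)) : ℕ) - (r - 1 - (i:ℕ))) =
        (Matrix.of fun i j => z i ^ ((m j : Fin (r + k - 1)) : ℕ)).det / D := by
      rw [hS, ← hD, ← Matrix.det_transpose]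
      congr 2
      ext i j
      simp only [Matrix.transpose_apply, Matrix.of_apply]
      congr 1
      have := (hf j).1
      omega
    have hS2 : S (fun i => k - (((m (Fin.rev i) : Fin (r + k - 1)) : ℕ) -
          (r - 1 - ((Fin.rev i : Fin r):ℕ)))) =
        ε * Z * (Matrix.of fun i j => ez i ^ ((m j : Fin (r + k - 1)) : ℕ)).det / D := by
      rw [hS, ← hD]
      congr 1
      have e1 : (Matrix.of fun i j : Fin r =>
          z j ^ (k - (((m (Fin.rev i) : Fin (r + k - 1)) : ℕ) -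
            (r - 1 - ((Fin.rev i : Fin r):ℕ))) + (r - 1 - (i:ℕ)))) =
          (Matrix.of fun i j : Fin r =>
            z j ^ (r + k - 1 - ((m i : Fin (r + k - 1)) : ℕ))).submatrix
              (Fin.revPerm : Equiv.Perm (Fin r)) id := by
        ext i j
        simp only [Matrix.of_apply, Matrix.submatrix_apply, Fin.revPerm_apply, id]
        congr 1
        have h1 := (hf (Fin.rev i)).1
        have h2 := (hf (Fin.rev i)).2
        have h3 := (Groth.Agent.H64.Verlinde.bwd (K := k) (by omega) m (Fin.rev i)).2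
        have h4 : ((Fin.rev i : Fin r) : ℕ) = r - ((i:ℕ) + 1) := Fin.val_rev i
        have h5 := i.2
        omega
      rw [e1, Matrix.det_permute, ← hε]
      have e2 : (Matrix.of fun i j : Fin r =>
            z j ^ (r + k - 1 - ((m i : Fin (r + k - 1)) : ℕ))) =
          Matrix.of fun i j : Fin r => (z j ^ (r + k - 1)) *
            (Matrix.of fun i j : Fin r => ez i ^ ((m j : Fin (r + k - 1)) : ℕ)).transpose i j := by
        ext i j
        simp only [Matrix.of_apply, Matrix.transpose_apply]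
        have hlt := (m i).2
        have hsplit : r + k - 1 = (r + k - 1 - ((m i : Fin (r + k - 1)) : ℕ)) +
            ((m i : Fin (r + k - 1)) : ℕ) := by omega
        calc z j ^ (r + k - 1 - ((m i : Fin (r + k - 1)) : ℕ))
            = z j ^ (r + k - 1 - ((m i : Fin (r + k - 1)) : ℕ)) *
                (z j * ez j) ^ ((m i : Fin (r + k - 1)) : ℕ) := by rw [hze, one_pow, mul_one]
          _ = z j ^ ((r + k - 1 - ((m i : Fin (r + k - 1)) : ℕ)) +
                ((m i : Fin (r + k - 1)) : ℕ)) * ez j ^ ((m i : Fin (r + k - 1)) : ℕ) := by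
              rw [mul_pow, pow_add]
              ring
          _ = _ := by rw [← hsplit]
      rw [e2, Matrix.det_mul_row, Matrix.det_transpose, ← hZ]
      ring
    rw [hS1, hS2, Finset.prod_const_one]
    field_simp
  rw [Finset.sum_congr rfl (fun m hm => hterm m (Finset.mem_filter.mp hm).2), ← Finset.mul_sum]
  rw [Groth.Agent.H64.Verlinde.andreief (fun _ => (1:ℂ))
    (fun i (t : Fin (r + k - 1)) => z i ^ (t:ℕ)) (fun i (t : Fin (r + k - 1)) => ez i ^ (t:ℕ))]
  -- the matrix
  have hentry : ∀ i i' : Fin r,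
      ∑ t : Fin (r + k - 1), (1:ℂ) * z i ^ (t:ℕ) * ez i' ^ (t:ℕ) =
        (if i = i' then ((r:ℂ) + k) else 0) - ez i * z i' := by
    intro i i'
    have e0 : ∑ t : Fin (r + k - 1), (1:ℂ) * z i ^ (t:ℕ) * ez i' ^ (t:ℕ) =
        ∑ t ∈ Finset.range (r + k - 1), (z i * ez i') ^ t := by
      rw [← Fin.sum_univ_eq_sum_range (fun t => (z i * ez i') ^ t) (r + k - 1)]
      refine Finset.sum_congr rfl fun t _ => ?_
      rw [one_mul, mul_pow]
    rw [e0]
    have hsucc : ∑ t ∈ Finset.range (r + k), (z i * ez i') ^ t =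
        ∑ t ∈ Finset.range (r + k - 1), (z i * ez i') ^ t + (z i * ez i') ^ (r + k - 1) := by
      have : r + k = (r + k - 1) + 1 := by omega
      rw [this, Finset.sum_range_succ]
      simp
    by_cases hii : i = i'
    · rw [if_pos hii, ← hii, hze, mul_comm (ez i) (z i), hze]
      simp only [one_pow, Finset.sum_const, Finset.card_range, nsmul_eq_mul, mul_one]
      have : ((r + k - 1 : ℕ) : ℂ) = (r:ℂ) + k - 1 := by
        rw [Nat.cast_sub (by omega), Nat.cast_add, Nat.cast_one]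
      rw [this]
    · rw [if_neg hii, zero_sub]
      have hθN : (z i * ez i') ^ (r + k) = 1 := by rw [mul_pow, hzN, hezN, one_mul]
      have hθ1 : z i * ez i' ≠ 1 := by
        intro h
        apply hii
        apply hzinj
        have h2 := hze i'
        have hy0 : ez i' ≠ 0 := by
          intro h0
          rw [h0, mul_zero] at h2
          exact zero_ne_one h2
        exact mul_right_cancel₀ hy0 (h.trans h2.symm)
      have hg := geom_sum_mul (z i * ez i') (r + k)
      rw [hθN, sub_self] at hg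
      have hg0 : ∑ t ∈ Finset.range (r + k), (z i * ez i') ^ t = 0 := by
        rcases mul_eq_zero.mp hg with h | h
        · exact h
        · exact absurd (sub_eq_zero.mp h) hθ1
      rw [hg0] at hsucc
      have hpow : (z i * ez i') ^ (r + k - 1) = ez i * z i' := by
        have hθ0 : z i * ez i' ≠ 0 := by
          intro h0
          rw [h0, zero_pow (by omega)] at hθN
          exact zero_ne_one hθN
        apply mul_left_cancel₀ hθ0
        have e1 : (z i * ez i') * (z i * ez i') ^ (r + k - 1) = (z i * ez i') ^ (r + k) := by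
          rw [← pow_succ']
          congr 1
          omega
        rw [e1, hθN]
        have := hze i
        have := hze i'
        calc (1:ℂ) = (z i * ez i) * (z i' * ez i') := by rw [hze, hze, one_mul]
          _ = _ := by ring
      rw [← hpow]
      linear_combination -hsucc
  simp only [hentry]
  rw [Groth.Agent.H64.Verlinde.det_smul_one_sub_ones hr ((r:ℂ) + k) hM0 ez z]
  have hsum1 : ∑ i, z i * ez i = (r:ℂ) := by
    simp only [hze, Finset.sum_const, Finset.card_univ, Fintype.card_fin, nsmul_eq_mul, mul_one]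
  rw [hsum1]
  -- Z * E = exp
  have hZE : Z * (∏ j, ez j ^ (r - 1)) =
      Complex.exp (2 * Real.pi * Complex.I * (k : ℂ) * ((∑ j, v j : ℕ) : ℂ) / ((r : ℂ) + k)) := by
    rw [hZ, ← Finset.prod_mul_distrib]
    have : ∀ j, z j ^ (r + k - 1) * ez j ^ (r - 1) = z j ^ k := by
      intro j
      have : r + k - 1 = k + (r - 1) := by omega
      rw [this, pow_add, mul_assoc, ← mul_pow, hze, one_pow, mul_one]
    rw [Finset.prod_congr rfl (fun j _ => this j), Finset.prod_pow]
    have hz' : ∏ j, z j =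
        Complex.exp (∑ j, 2 * Real.pi * Complex.I * (v j : ℂ) / ((r:ℂ) + k)) := by
      simp only [hz]
      rw [Complex.exp_sum]
    rw [hz', ← Complex.exp_nat_mul]
    congr 1
    rw [← Finset.sum_div, ← Finset.mul_sum]
    push_cast
    ring
  rw [← hZE]
  have hkM : ((r:ℂ) + k) ^ r - (r:ℂ) * ((r:ℂ) + k) ^ (r - 1) =
      (k:ℂ) * ((r:ℂ) + k) ^ (r - 1) := by
    obtain ⟨r', rfl⟩ := Nat.exists_eq_succ_of_ne_zero (by omega : r ≠ 0)
    simp only [Nat.succ_sub_one, pow_succ]
    push_cast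
    ring
  rw [hkM]
  have hez0 : ∀ j, ez j ≠ 0 := fun j => by
    rw [hez]
    exact Complex.exp_ne_zero _
  have hE0 : (∏ j, ez j ^ (r - 1)) ≠ 0 :=
    Finset.prod_ne_zero_iff.mpr (fun j _ => pow_ne_zero _ (hez0 j))
  rcases hεcases with h | h
  · rw [h]
    field_simp
  · rw [h]
    field_simp

end Groth.Agent.S18377
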