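import Groth.Statements.S18378
import Mathlib
import Groth.Agent.H64.VerlindeLib3
-- import your own Groth.Agent.* helpers here

set_option autoImplicit false
open Complex
open VerlindeComb

namespace Groth.Agent.S18378

/-- Let r, k ≥ 1 be integers and v, v' two integer vectors with r + k > v_1 > ⋯ > v_r ≥ 0 and r + k >
v'_1 > ⋯ > v'_r ≥ 0 whose difference v - v' is not a constant vector (a, …, a). Put z_j = exp(2πi
v_j / (r + k)), z'_j = exp(2πi v'_j / (r + k)), let S_μ(w) = det(w_j^{μ_i + r - i}) / det(w_j^{r -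
i}) be the Schur value at w = z or z', and write |x| for the sum of the coordinates of a vector and
μ* = (k - μ_r, …, k - μ_1). Then the sum over all μ with k ≥ μ_1 ≥ ⋯ ≥ μ_{r-1} ≥ μ_r = 0 of exp(-2πi
|μ| |v| / (r (r + k))) · exp(-2πi |μ*| |v'| / (r (r + k))) · S_μ(z) · S_{μ*}(z') is zero. The
vanishing is the orthogonality of distinct characters and holds exactly for non-equivalent v, v';
for v - v' constant the sum is nonzero. Indices are 0-based below: μ i stands for μ_{i+1}. -/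
theorem result (r k : ℕ) (hr : 1 ≤ r)
    (hk : 1 ≤ k) (v v' : Fin r → ℕ) (hv : StrictAnti v) (hvlt : ∀ i, v i < r + k) (hv' : StrictAnti v')
    (hv'lt : ∀ i, v' i < r + k) (hne : ¬ ∃ a : ℤ, ∀ i, (v i : ℤ) - (v' i : ℤ) = a)
    (z z' : Fin r → ℂ) (hz : ∀ j, z j = Complex.exp (2 * Real.pi * Complex.I * (v j : ℂ) / ((r : ℂ) + k)))
    (hz' : ∀ j, z' j = Complex.exp (2 * Real.pi * Complex.I * (v' j : ℂ) / ((r : ℂ) + k)))
    (S S' : (Fin r → ℕ) → ℂ)
    (hS : ∀ μ : Fin r → ℕ, S μ =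
      (Matrix.of fun i j : Fin r => z j ^ (μ i + (r - 1 - (i : ℕ)))).det /
        (Matrix.of fun i j : Fin r => z j ^ (r - 1 - (i : ℕ))).det)
    (hS' : ∀ μ : Fin r → ℕ, S' μ =
      (Matrix.of fun i j : Fin r => z' j ^ (μ i + (r - 1 - (i : ℕ)))).det /
        (Matrix.of fun i j : Fin r => z' j ^ (r - 1 - (i : ℕ))).det) :
    (∑ μ ∈ (Finset.univ : Finset (Fin r → Fin (k + 1))).filter
        (fun μ : Fin r → Fin (k + 1) => Antitone μ ∧ ∀ i : Fin r, (i : ℕ) = r - 1 → (μ i : ℕ) = 0),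
      Complex.exp (-(2 * Real.pi * Complex.I * ((∑ i, (μ i : ℕ) : ℕ) : ℂ) * ((∑ j, v j : ℕ) : ℂ) /
          ((r : ℂ) * ((r : ℂ) + k)))) *
      Complex.exp (-(2 * Real.pi * Complex.I * ((∑ i, (k - (μ (Fin.rev i) : ℕ)) : ℕ) : ℂ) *
          ((∑ j, v' j : ℕ) : ℂ) / ((r : ℂ) * ((r : ℂ) + k)))) *
      S (fun i => (μ i : ℕ)) * S' (fun i => k - (μ (Fin.rev i) : ℕ))) = 0 := by
  classical
  have hrC : (r:ℂ) ≠ 0 := by
    have : r ≠ 0 := by omega
    exact_mod_cast this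
  have hMN : ((r + k : ℕ) : ℂ) = (r:ℂ) + (k:ℂ) := by
    push_cast
    ring
  have hM0 : ((r:ℂ) + (k:ℂ)) ≠ 0 := by
    rw [← hMN]
    have : r + k ≠ 0 := by omega
    exact_mod_cast this
  have h2πI : (2 : ℂ) * Real.pi * Complex.I ≠ 0 := by
    have hπ : (Real.pi : ℂ) ≠ 0 := by exact_mod_cast Real.pi_ne_zero
    exact mul_ne_zero (mul_ne_zero two_ne_zero hπ) Complex.I_ne_zero
  have hN1 : (r + k) + 1 = (k + 1) + r := by omega
  obtain ⟨ez', hez'⟩ : ∃ ez' : Fin r → ℂ, ∀ j, ez' j =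
      Complex.exp (-(2 * Real.pi * Complex.I * (v' j : ℂ) / ((r:ℂ) + k))) := ⟨_, fun _ => rfl⟩
  have hze' : ∀ j, z' j * ez' j = 1 := fun j => by
    rw [hz', hez', ← Complex.exp_add, add_neg_cancel, Complex.exp_zero]
  have hexpn : ∀ n : ℕ, Complex.exp (2 * Real.pi * Complex.I * (n : ℂ) / ((r:ℂ) + k)) =
      Complex.exp (2 * Real.pi * Complex.I / ((r + k : ℕ) : ℂ)) ^ n := by
    intro n
    rw [← Complex.exp_nat_mul, hMN]
    congr 1
    ring
  have hprim := Complex.isPrimitiveRoot_exp (r + k) (by omega)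
  have hzN : ∀ j, z j ^ (r + k) = 1 := by
    intro j
    rw [hz, hexpn, pow_right_comm, hprim.pow_eq_one, one_pow]
  have hz'N : ∀ j, z' j ^ (r + k) = 1 := by
    intro j
    rw [hz', hexpn, pow_right_comm, hprim.pow_eq_one, one_pow]
  have hez'N : ∀ j, ez' j ^ (r + k) = 1 := by
    intro j
    have : (z' j * ez' j) ^ (r + k) = 1 := by rw [hze', one_pow]
    rwa [mul_pow, hz'N, one_mul] at this
  obtain ⟨D, hD⟩ : ∃ D : ℂ,
      D = (Matrix.of fun i j : Fin r => z j ^ (r - 1 - (i:ℕ))).det := ⟨_, rfl⟩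
  obtain ⟨D', hD'⟩ : ∃ D' : ℂ,
      D' = (Matrix.of fun i j : Fin r => z' j ^ (r - 1 - (i:ℕ))).det := ⟨_, rfl⟩
  obtain ⟨ε, hε⟩ : ∃ ε : ℂ,
      ε = ((Equiv.Perm.sign (Fin.revPerm : Equiv.Perm (Fin r)) : ℤ) : ℂ) := ⟨_, rfl⟩
  obtain ⟨V, hV⟩ : ∃ V : ℕ, V = ∑ j, v j := ⟨_, rfl⟩
  obtain ⟨V', hV'⟩ : ∃ V' : ℕ, V' = ∑ j, v' j := ⟨_, rfl⟩
  obtain ⟨τ, hτ⟩ : ∃ τ : ℂ, τ = Complex.exp (-(2 * Real.pi * Complex.I * ((V:ℂ) - (V':ℂ)) /
      ((r:ℂ) * ((r:ℂ) + k)))) := ⟨_, rfl⟩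
  obtain ⟨x, hx⟩ : ∃ x : Fin r → ℂ, ∀ i, x i = τ * z i := ⟨_, fun _ => rfl⟩
  obtain ⟨ξ, hξ⟩ : ∃ ξ : ℂ, ξ = τ ^ (r + k) := ⟨_, rfl⟩
  obtain ⟨Z', hZ'⟩ : ∃ Z' : ℂ, Z' = ∏ j, z' j ^ (r + k - 1) := ⟨_, rfl⟩
  obtain ⟨T, hT⟩ : ∃ T : ℕ, T = ∑ i : Fin r, (r - 1 - (i:ℕ)) := ⟨_, rfl⟩
  obtain ⟨C₀, hC₀⟩ : ∃ C₀ : ℂ, C₀ = Complex.exp (-(2 * Real.pi * Complex.I *
      (-(T:ℂ) * (V:ℂ) + ((r:ℂ) * k + T) * (V':ℂ)) / ((r:ℂ) * ((r:ℂ) + k)))) := ⟨_, rfl⟩
  -- hypotheses of main_abstract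
  have hxN : ∀ i, x i ^ (r + k) = ξ := by
    intro i
    rw [hx, mul_pow, hzN, mul_one, hξ]
  have hprodz : ∏ j, z j = Complex.exp (2 * Real.pi * Complex.I * (V:ℂ) / ((r:ℂ) + k)) := by
    simp only [hz]
    rw [← Complex.exp_sum]
    congr 1
    rw [← Finset.sum_div, ← Finset.mul_sum, hV]
    push_cast
    rfl
  have hprodez' : ∏ j, ez' j =
      Complex.exp (-(2 * Real.pi * Complex.I * (V':ℂ) / ((r:ℂ) + k))) := by
    simp only [hez']
    rw [← Complex.exp_sum]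
    congr 1
    rw [Finset.sum_neg_distrib, ← Finset.sum_div, ← Finset.mul_sum, hV']
    push_cast
    rfl
  have hprod : (∏ i, x i) * ∏ j, ez' j = 1 := by
    simp only [hx]
    rw [Finset.prod_mul_distrib, Finset.prod_const, Finset.card_univ, Fintype.card_fin,
      hprodz, hprodez', hτ, ← Complex.exp_nat_mul, ← Complex.exp_add, ← Complex.exp_add]
    have : (r:ℂ) * -(2 * Real.pi * Complex.I * ((V:ℂ) - (V':ℂ)) / ((r:ℂ) * ((r:ℂ) + k))) +
        2 * Real.pi * Complex.I * (V:ℂ) / ((r:ℂ) + k) +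
        -(2 * Real.pi * Complex.I * (V':ℂ) / ((r:ℂ) + k)) = 0 := by
      field_simp
      ring
    rw [this, Complex.exp_zero]
  have hcaseA : ξ = 1 →
      ∃ i1 i2 : Fin r, i1 ≠ i2 ∧ ∀ j, x i1 * ez' j ≠ 1 ∧ x i2 * ez' j ≠ 1 := by
    intro hξ1
    have hξ2 : ξ = Complex.exp (-(2 * Real.pi * Complex.I * (((V:ℂ) - (V':ℂ)) / r))) := by
      rw [hξ, hτ, ← Complex.exp_nat_mul, hMN]
      congr 1
      field_simp
    rw [hξ2, Complex.exp_eq_one_iff] at hξ1
    obtain ⟨n, hn⟩ := hξ1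
    have hctn : ((V:ℂ) - (V':ℂ)) / r = -(n:ℂ) := by
      apply mul_left_cancel₀ h2πI
      linear_combination (-1 : ℂ) * hn
    obtain ⟨c, hc_def⟩ : ∃ c : ℤ, c = -n := ⟨_, rfl⟩
    have hcC : (c:ℂ) = ((V:ℂ) - (V':ℂ)) / r := by
      rw [hc_def, hctn]
      push_cast
      rfl
    have hcVV : (V:ℤ) - (V':ℤ) = (r:ℤ) * c := by
      have hC : ((V:ℂ)) - (V':ℂ) = (r:ℂ) * (c:ℂ) := by
        rw [hcC]
        field_simp
      exact_mod_cast hC
    obtain ⟨l', hl'_def⟩ : ∃ l' : Fin r → ℕ, ∀ j, l' j = (r + k - 1) - v' (Fin.rev j) :=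
      ⟨_, fun _ => rfl⟩
    have hl' : StrictAnti l' := by
      intro a b hab
      have h1 : v' (Fin.rev a) < v' (Fin.rev b) := hv' (Fin.rev_lt_rev.mpr hab)
      have h2 := hv'lt (Fin.rev b)
      rw [hl'_def, hl'_def]
      omega
    have hl'N : ∀ j, l' j < r + k := by
      intro j
      rw [hl'_def]
      omega
    have hsuml' : ((∑ j, l' j : ℕ) : ℤ) = (r:ℤ) * ((r:ℤ) + k - 1) - (V':ℤ) := by
      have e1 : ∀ j, ((l' j : ℕ) : ℤ) = ((r:ℤ) + k - 1) - (v' (Fin.rev j) : ℤ) := by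
        intro j
        have := hv'lt (Fin.rev j)
        rw [hl'_def]
        omega
      rw [Nat.cast_sum]
      simp only [e1]
      rw [Finset.sum_sub_distrib, Finset.sum_const, Finset.card_univ, Fintype.card_fin,
        nsmul_eq_mul]
      have e2 : ∑ j, (v' (Fin.rev j) : ℤ) = (V':ℤ) := by
        rw [hV', Nat.cast_sum]
        exact Equiv.sum_comp (Fin.revPerm : Equiv.Perm (Fin r)) (fun j => (v' j : ℤ))
      rw [e2]
    have hc : (r:ℤ) * (c + ((r:ℤ) + k - 1)) =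
        ((∑ i, v i : ℕ) : ℤ) + ((∑ i, l' i : ℕ) : ℤ) := by
      rw [hsuml', ← hV]
      linear_combination (-1 : ℤ) * hcVV
    have hne' : ¬ ∀ i, (v i : ℤ) + (l' (Fin.rev i) : ℤ) = c + ((r:ℤ) + k - 1) := by
      intro h
      apply hne
      refine ⟨c, fun i => ?_⟩
      have h1 := h i
      have h2 := hv'lt i
      rw [hl'_def, Fin.rev_rev] at h1
      omega
    obtain ⟨i1, i2, hne12, h12⟩ :=
      Groth.Agent.H64.Verlinde.combi (by omega) v l' hv hl' hvlt hl'N _ hc hne'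
    have hdvd : ∀ i j, x i * ez' j = 1 →
        ((r + k : ℕ) : ℤ) ∣ (v i : ℤ) + (l' (Fin.rev j) : ℤ) - (c + ((r:ℤ) + k - 1)) := by
      intro i j h
      rw [hx, hz, hez', hτ, ← Complex.exp_add, ← Complex.exp_add, Complex.exp_eq_one_iff] at h
      obtain ⟨m, hm⟩ := h
      have hm' : (2 * Real.pi * Complex.I) * ((v i : ℂ) - (v' j : ℂ) - ((V:ℂ) - (V':ℂ)) / r) /
          ((r:ℂ) + k) = m * (2 * Real.pi * Complex.I) := by
        rw [← hm]
        field_simp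
        ring
      rw [div_eq_iff hM0] at hm'
      have hm2 : (v i : ℂ) - (v' j : ℂ) - ((V:ℂ) - (V':ℂ)) / r = m * ((r:ℂ) + k) :=
        mul_left_cancel₀ h2πI (by linear_combination hm')
      refine ⟨m, ?_⟩
      have h2 := hv'lt j
      have hl'j : ((l' (Fin.rev j) : ℕ) : ℤ) = ((r:ℤ) + k - 1) - (v' j : ℤ) := by
        rw [hl'_def, Fin.rev_rev]
        omega
      rw [hl'j]
      have hm3 : (v i : ℂ) - (v' j : ℂ) - (c:ℂ) = ((r + k : ℕ) : ℂ) * (m:ℂ) := by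
        rw [hcC, hm2, hMN]
        ring
      have hm4 : (v i : ℤ) - (v' j : ℤ) - c = ((r + k : ℕ) : ℤ) * m := by exact_mod_cast hm3
      linear_combination hm4
    exact ⟨i1, i2, hne12, fun j =>
      ⟨fun h => (h12 (Fin.rev j)).1 (hdvd i1 j h), fun h => (h12 (Fin.rev j)).2 (hdvd i2 j h)⟩⟩
  have hmain := Groth.Agent.H64.Verlinde.main_abstract (N := r + k) (by omega) x ez' ξ hxN hez'N
    hprod hcaseA
  -- reindex
  have hre := Groth.Agent.H64.Verlinde.sum_reindex_core (r := r) (K := k + 1) (N := r + k)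
    (by omega) hN1
    (fun μ => Antitone μ ∧ ∀ i : Fin r, (i : ℕ) = r - 1 → ((μ i : Fin (k + 1)) : ℕ) = 0)
    (fun m => StrictAnti m ∧ ∀ i : Fin r, (i : ℕ) = r - 1 → ((m i : Fin (r + k)) : ℕ) = 0)
    (fun _ h => h.1) (fun _ h => h.1)
    (fun μ h => ⟨Groth.Agent.H64.Verlinde.fwd_strictAnti hN1 μ h.1, fun i hi => by
      show ((μ i : Fin (k+1)) : ℕ) + (r - 1 - (i:ℕ)) = 0
      rw [h.2 i hi]
      omega⟩)
    (fun m h => ⟨Groth.Agent.H64.Verlinde.bwd_antitone (by omega) hN1 m h.1, fun i hi => by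
      rw [(Groth.Agent.H64.Verlinde.bwd_facts (by omega) hN1 m h.1 i).2, h.2 i hi]
      omega⟩)
    (fun a => Complex.exp (-(2 * Real.pi * Complex.I * ((∑ i, a i : ℕ) : ℂ) *
          ((∑ j, v j : ℕ) : ℂ) / ((r : ℂ) * ((r : ℂ) + k)))) *
      Complex.exp (-(2 * Real.pi * Complex.I * ((∑ i, (k - a (Fin.rev i)) : ℕ) : ℂ) *
          ((∑ j, v' j : ℕ) : ℂ) / ((r : ℂ) * ((r : ℂ) + k)))) *
      S a * S' (fun i => k - a (Fin.rev i)))
  rw [hre]
  -- termwise
  have hterm : ∀ m : Fin r → Fin (r + k), StrictAnti m →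
      Complex.exp (-(2 * Real.pi * Complex.I *
          ((∑ i : Fin r, (((m i : Fin (r + k)) : ℕ) - (r - 1 - (i:ℕ))) : ℕ) : ℂ) *
          ((∑ j, v j : ℕ) : ℂ) / ((r : ℂ) * ((r : ℂ) + k)))) *
      Complex.exp (-(2 * Real.pi * Complex.I *
          ((∑ i : Fin r, (k - (((m (Fin.rev i) : Fin (r + k)) : ℕ) -
            (r - 1 - ((Fin.rev i : Fin r):ℕ)))) : ℕ) : ℂ) *
          ((∑ j, v' j : ℕ) : ℂ) / ((r : ℂ) * ((r : ℂ) + k)))) *
      S (fun i => ((m i : Fin (r + k)) : ℕ) - (r - 1 - (i:ℕ))) *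
      S' (fun i => k - (((m (Fin.rev i) : Fin (r + k)) : ℕ) - (r - 1 - ((Fin.rev i : Fin r):ℕ))))
      = (C₀ * ε * Z' / (D * D')) *
          ((Matrix.of fun i j => x i ^ ((m j : Fin (r + k)) : ℕ)).det *
          (Matrix.of fun i j => ez' i ^ ((m j : Fin (r + k)) : ℕ)).det) := by
    intro m hm
    have hf := fun i => Groth.Agent.H64.Verlinde.bwd_facts (K := k + 1) (by omega) hN1 m hm i
    have hfb := fun i => (Groth.Agent.H64.Verlinde.bwd (K := k + 1) (by omega) m i).2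
    have hS1 : S (fun i => ((m i : Fin (r + k)) : ℕ) - (r - 1 - (i:ℕ))) =
        (Matrix.of fun i j => z i ^ ((m j : Fin (r + k)) : ℕ)).det / D := by
      rw [hS, ← hD, ← Matrix.det_transpose]
      congr 2
      ext i j
      simp only [Matrix.transpose_apply, Matrix.of_apply]
      congr 1
      have := (hf j).1
      omega
    have hS2 : S' (fun i => k - (((m (Fin.rev i) : Fin (r + k)) : ℕ) -
          (r - 1 - ((Fin.rev i : Fin r):ℕ)))) =
        ε * Z' * (Matrix.of fun i j => ez' i ^ ((m j : Fin (r + k)) : ℕ)).det / D' := by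
      rw [hS', ← hD']
      congr 1
      have e1 : (Matrix.of fun i j : Fin r =>
          z' j ^ (k - (((m (Fin.rev i) : Fin (r + k)) : ℕ) -
            (r - 1 - ((Fin.rev i : Fin r):ℕ))) + (r - 1 - (i:ℕ)))) =
          (Matrix.of fun i j : Fin r =>
            z' j ^ (r + k - 1 - ((m i : Fin (r + k)) : ℕ))).submatrix
              (Fin.revPerm : Equiv.Perm (Fin r)) id := by
        ext i j
        simp only [Matrix.of_apply, Matrix.submatrix_apply, Fin.revPerm_apply, id]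
        congr 1
        have h1 := (hf (Fin.rev i)).1
        have h2 := (hf (Fin.rev i)).2
        have h3 := hfb (Fin.rev i)
        have h4 : ((Fin.rev i : Fin r) : ℕ) = r - ((i:ℕ) + 1) := Fin.val_rev i
        have h5 := i.2
        omega
      rw [e1, Matrix.det_permute, ← hε]
      have e2 : (Matrix.of fun i j : Fin r =>
            z' j ^ (r + k - 1 - ((m i : Fin (r + k)) : ℕ))) =
          Matrix.of fun i j : Fin r => (z' j ^ (r + k - 1)) *
            (Matrix.of fun i j : Fin r => ez' i ^ ((m j : Fin (r + k)) : ℕ)).transpose i j := by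
        ext i j
        simp only [Matrix.of_apply, Matrix.transpose_apply]
        have hlt := (m i).2
        have hsplit : r + k - 1 = (r + k - 1 - ((m i : Fin (r + k)) : ℕ)) +
            ((m i : Fin (r + k)) : ℕ) := by omega
        calc z' j ^ (r + k - 1 - ((m i : Fin (r + k)) : ℕ))
            = z' j ^ (r + k - 1 - ((m i : Fin (r + k)) : ℕ)) *
                (z' j * ez' j) ^ ((m i : Fin (r + k)) : ℕ) := by rw [hze', one_pow, mul_one]
          _ = z' j ^ ((r + k - 1 - ((m i : Fin (r + k)) : ℕ)) +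
                ((m i : Fin (r + k)) : ℕ)) * ez' j ^ ((m i : Fin (r + k)) : ℕ) := by
              rw [mul_pow, pow_add]
              ring
          _ = _ := by rw [← hsplit]
      rw [e2, Matrix.det_mul_row, Matrix.det_transpose, ← hZ']
      ring
    have hF : (Matrix.of fun i j => x i ^ ((m j : Fin (r + k)) : ℕ)).det =
        (∏ j, τ ^ ((m j : Fin (r + k)) : ℕ)) *
          (Matrix.of fun i j => z i ^ ((m j : Fin (r + k)) : ℕ)).det := by
      rw [← Matrix.det_mul_row]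
      congr 1
      ext i j
      simp only [Matrix.of_apply]
      rw [hx, mul_pow]
    -- sums
    obtain ⟨A, hA⟩ : ∃ A : ℕ, A = ∑ i : Fin r, (((m i : Fin (r + k)) : ℕ) - (r - 1 - (i:ℕ))) :=
      ⟨_, rfl⟩
    obtain ⟨Mm, hMm⟩ : ∃ Mm : ℕ, Mm = ∑ i : Fin r, ((m i : Fin (r + k)) : ℕ) := ⟨_, rfl⟩
    have hAT : A + T = Mm := by
      rw [hA, hT, hMm, ← Finset.sum_add_distrib]
      refine Finset.sum_congr rfl fun i _ => ?_
      have := (hf i).1
      omega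
    have hB : (∑ i : Fin r, (k - (((m (Fin.rev i) : Fin (r + k)) : ℕ) -
            (r - 1 - ((Fin.rev i : Fin r):ℕ))))) + A = r * k := by
      have e : A = ∑ i : Fin r, (((m (Fin.rev i) : Fin (r + k)) : ℕ) -
            (r - 1 - ((Fin.rev i : Fin r):ℕ))) := by
        rw [hA]
        exact (Equiv.sum_comp (Fin.revPerm : Equiv.Perm (Fin r))
          (fun i => ((m i : Fin (r + k)) : ℕ) - (r - 1 - (i:ℕ)))).symm
      rw [e, ← Finset.sum_add_distrib]
      have : ∀ i : Fin r, (k - (((m (Fin.rev i) : Fin (r + k)) : ℕ) -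
            (r - 1 - ((Fin.rev i : Fin r):ℕ)))) + (((m (Fin.rev i) : Fin (r + k)) : ℕ) -
            (r - 1 - ((Fin.rev i : Fin r):ℕ))) = k := by
        intro i
        have h2 := (hf (Fin.rev i)).2
        have h3 := hfb (Fin.rev i)
        omega
      simp only [this, Finset.sum_const, Finset.card_univ, Fintype.card_fin, smul_eq_mul]
    have hAC : (A:ℂ) = (Mm:ℂ) - (T:ℂ) := by
      rw [← hAT]
      push_cast
      ring
    have hBC : ((∑ i : Fin r, (k - (((m (Fin.rev i) : Fin (r + k)) : ℕ) -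
            (r - 1 - ((Fin.rev i : Fin r):ℕ)))) : ℕ) : ℂ) = (r:ℂ) * k - ((Mm:ℂ) - (T:ℂ)) := by
      rw [← hAC]
      have := congrArg (fun n : ℕ => (n:ℂ)) hB
      simp only [Nat.cast_add, Nat.cast_mul] at this
      linear_combination this
    have hτm : (∏ j, τ ^ ((m j : Fin (r + k)) : ℕ)) =
        Complex.exp (-(2 * Real.pi * Complex.I * (Mm:ℂ) * ((V:ℂ) - (V':ℂ)) /
          ((r:ℂ) * ((r:ℂ) + k)))) := by
      rw [Finset.prod_pow_eq_pow_sum, ← hMm, hτ, ← Complex.exp_nat_mul]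
      congr 1
      ring
    rw [hS1, hS2, hF, hτm, ← hA, hAC, hBC, ← hV, ← hV', hC₀]
    have hexp : Complex.exp (-(2 * Real.pi * Complex.I * ((Mm:ℂ) - (T:ℂ)) * (V:ℂ) /
          ((r : ℂ) * ((r : ℂ) + k)))) *
        Complex.exp (-(2 * Real.pi * Complex.I * ((r:ℂ) * k - ((Mm:ℂ) - (T:ℂ))) * (V':ℂ) /
          ((r : ℂ) * ((r : ℂ) + k)))) =
        Complex.exp (-(2 * Real.pi * Complex.I *
          (-(T:ℂ) * (V:ℂ) + ((r:ℂ) * k + T) * (V':ℂ)) / ((r:ℂ) * ((r:ℂ) + k)))) *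
        Complex.exp (-(2 * Real.pi * Complex.I * (Mm:ℂ) * ((V:ℂ) - (V':ℂ)) /
          ((r:ℂ) * ((r:ℂ) + k)))) := by
      rw [← Complex.exp_add, ← Complex.exp_add]
      congr 1
      ring
    rw [hexp]
    ring
  rw [Finset.sum_congr rfl (fun m hm => hterm m (Finset.mem_filter.mp hm).2.1), ← Finset.mul_sum]
  rw [Groth.Agent.H64.Verlinde.alcove_filter_sum hr]
  have : ∀ u : Fin r → Fin (r + k),
      (1 - ∏ j, (if ((u j : Fin (r + k)) : ℕ) = 0 then (0:ℂ) else 1)) *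
        ((Matrix.of fun i j => x i ^ ((u j : Fin (r + k)) : ℕ)).det *
        (Matrix.of fun i j => ez' i ^ ((u j : Fin (r + k)) : ℕ)).det) =
      (1 - ∏ j, (if ((u j : Fin (r + k)) : ℕ) = 0 then (0:ℂ) else 1)) *
        (Matrix.of fun i j => x i ^ ((u j : Fin (r + k)) : ℕ)).det *
        (Matrix.of fun i j => ez' i ^ ((u j : Fin (r + k)) : ℕ)).det := fun u => by ring
  rw [Finset.sum_congr rfl (fun u _ => this u), hmain, mul_zero]

end Groth.Agent.S18378
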