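import Groth.Statements.S18379
import Mathlib
import Groth.Agent.H64.VerlindeLib2
-- import your own Groth.Agent.* helpers here

set_option autoImplicit false
open VerlindeComb

namespace Groth.Agent.S18379

/-- Let r, k ≥ 1 be integers. Summing over all integer vectors v with r + k > v_1 > v_2 > ⋯ > v_{r-1} >
v_r = 0, one has Σ_v ∏_{i<j} (2 sin(π (v_i - v_j) / (r + k)))² = r (r + k)^{r-1}; that is, the
genus-zero Verlinde number of rank r and level k with no parabolic points, defined as (r (r +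
k)^{r-1})⁻¹ times this sum, equals 1. Indices are 0-based below: v i stands for v_{i+1}. -/
theorem result (r k : ℕ) (hr : 1 ≤ r) (hk : 1 ≤ k) :
    (∑ v ∈ (Finset.univ : Finset (Fin r → Fin (r + k))).filter
        (fun v : Fin r → Fin (r + k) => StrictAnti v ∧ ∀ i : Fin r, (i : ℕ) = r - 1 → (v i : ℕ) = 0),
      ∏ p ∈ (Finset.univ : Finset (Fin r × Fin r)).filter (fun p => p.1 < p.2),
        ((2 : ℝ) * Real.sin (Real.pi * ((v p.1 : ℕ) - (v p.2 : ℕ) : ℝ) / ((r : ℝ) + k))) ^ 2) =
      (r : ℝ) * ((r : ℝ) + k) ^ (r - 1) := by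
  classical
  have hMN : ((r + k : ℕ) : ℂ) = (r:ℂ) + (k:ℂ) := by
    push_cast
    ring
  have hM0 : ((r:ℂ) + (k:ℂ)) ≠ 0 := by
    rw [← hMN]
    have : r + k ≠ 0 := by omega
    exact_mod_cast this
  obtain ⟨x, hx⟩ : ∃ x : Fin r → ℂ,
      ∀ i, x i = Complex.exp (2 * Real.pi * Complex.I * ((i:ℕ):ℂ) / ((r:ℂ) + k)) :=
    ⟨_, fun _ => rfl⟩
  obtain ⟨y, hy⟩ : ∃ y : Fin r → ℂ,
      ∀ i, y i = Complex.exp (-(2 * Real.pi * Complex.I * ((i:ℕ):ℂ) / ((r:ℂ) + k))) :=
    ⟨_, fun _ => rfl⟩
  have hexpn : ∀ n : ℕ, Complex.exp (2 * Real.pi * Complex.I * (n : ℂ) / ((r:ℂ) + k)) =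
      Complex.exp (2 * Real.pi * Complex.I / ((r + k : ℕ) : ℂ)) ^ n := by
    intro n
    rw [← Complex.exp_nat_mul, hMN]
    congr 1
    ring
  have hprim := Complex.isPrimitiveRoot_exp (r + k) (by omega)
  have hxy : ∀ i, x i * y i = 1 := fun i => by
    rw [hx, hy, ← Complex.exp_add, add_neg_cancel, Complex.exp_zero]
  have hxN : ∀ i, x i ^ (r + k) = 1 := by
    intro i
    rw [hx, hexpn, pow_right_comm, hprim.pow_eq_one, one_pow]
  have hyN : ∀ i, y i ^ (r + k) = 1 := by
    intro i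
    have h := hxy i
    have : (x i * y i) ^ (r + k) = 1 := by rw [h, one_pow]
    rwa [mul_pow, hxN, one_mul] at this
  have hxinj : ∀ i j : Fin r, x i = x j → i = j := by
    intro i j h
    rw [hx, hx, hexpn, hexpn] at h
    have hi := i.2
    have hj := j.2
    exact Fin.ext (hprim.pow_inj (by omega) (by omega) h)
  have key : ∀ v : Fin r → Fin (r + k),
      ((∏ p ∈ (Finset.univ : Finset (Fin r × Fin r)).filter (fun p => p.1 < p.2),
        ((2 : ℝ) * Real.sin (Real.pi * ((v p.1 : ℕ) - (v p.2 : ℕ) : ℝ) / ((r : ℝ) + k))) ^ 2 : ℝ) : ℂ)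
      = (Matrix.of fun i j => x i ^ ((v j : Fin (r+k)) : ℕ)).det *
        (Matrix.of fun i j => y i ^ ((v j : Fin (r+k)) : ℕ)).det := by
    intro v
    obtain ⟨zz, hzz⟩ : ∃ zz : Fin r → ℂ, ∀ j, zz j =
        Complex.exp (2 * Real.pi * Complex.I * (((v j : Fin (r+k)) : ℕ) : ℂ) / ((r:ℂ) + k)) :=
      ⟨_, fun _ => rfl⟩
    obtain ⟨ezz, hezz⟩ : ∃ ezz : Fin r → ℂ, ∀ j, ezz j =
        Complex.exp (-(2 * Real.pi * Complex.I * (((v j : Fin (r+k)) : ℕ) : ℂ) / ((r:ℂ) + k))) :=
      ⟨_, fun _ => rfl⟩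
    have h1 : ∀ p : Fin r × Fin r,
        ((((2:ℝ) * Real.sin (Real.pi * ((v p.1 : ℕ) - (v p.2 : ℕ) : ℝ) / ((r : ℝ) + k))) ^ 2 : ℝ) : ℂ)
        = (zz p.2 - zz p.1) * (ezz p.2 - ezz p.1) := by
      intro p
      push_cast
      rw [Groth.Agent.H64.Verlinde.pair_identity, hzz, hzz, hezz, hezz]
    rw [Complex.ofReal_prod]
    rw [Finset.prod_congr rfl (fun p _ => h1 p), Finset.prod_mul_distrib,
      Groth.Agent.H64.Verlinde.prod_pairs (fun i j => zz j - zz i),
      Groth.Agent.H64.Verlinde.prod_pairs (fun i j => ezz j - ezz i),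
      ← Matrix.det_vandermonde, ← Matrix.det_vandermonde,
      ← Matrix.det_transpose (Matrix.vandermonde zz),
      ← Matrix.det_transpose (Matrix.vandermonde ezz)]
    congr 2
    · ext i j
      simp only [Matrix.transpose_apply, Matrix.vandermonde_apply, Matrix.of_apply]
      rw [hzz, hx, ← Complex.exp_nat_mul, ← Complex.exp_nat_mul]
      congr 1
      ring
    · ext i j
      simp only [Matrix.transpose_apply, Matrix.vandermonde_apply, Matrix.of_apply]
      rw [hezz, hy, ← Complex.exp_nat_mul, ← Complex.exp_nat_mul]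
      congr 1
      ring
  apply Complex.ofReal_injective
  rw [Complex.ofReal_sum]
  rw [Finset.sum_congr rfl (fun v _ => key v)]
  rw [Groth.Agent.H64.Verlinde.alcove_sum_eq hr (by omega) x y]
  have hG : ∀ i j : Fin r, ∑ t ∈ Finset.range (r + k), (x i * y j) ^ t =
      if i = j then ((r:ℂ) + k) else 0 := by
    intro i j
    by_cases hij : i = j
    · rw [if_pos hij, hij, hxy]
      simp
    · rw [if_neg hij]
      have hθN : (x i * y j) ^ (r + k) = 1 := by rw [mul_pow, hxN, hyN, one_mul]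
      have hθ1 : x i * y j ≠ 1 := by
        intro h
        apply hij
        apply hxinj
        have h2 := hxy j
        -- x i * y j = 1 = x j * y j, y j ≠ 0
        have hy0 : y j ≠ 0 := by
          intro h0
          rw [h0, mul_zero] at h2
          exact zero_ne_one h2
        exact mul_right_cancel₀ hy0 (h.trans h2.symm)
      have h := geom_sum_mul (x i * y j) (r + k)
      rw [hθN, sub_self] at h
      rcases mul_eq_zero.mp h with h | h
      · exact h
      · exact absurd (sub_eq_zero.mp h) hθ1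
  simp only [hG]
  have hd1 : (Matrix.of fun i j : Fin r => if i = j then ((r:ℂ) + k) else 0).det =
      ((r:ℂ) + k) ^ r := by
    have : (Matrix.of fun i j : Fin r => if i = j then ((r:ℂ) + k) else 0) =
        Matrix.diagonal (fun _ => ((r:ℂ) + k)) := by
      ext i j
      simp [Matrix.diagonal_apply]
    rw [this, Matrix.det_diagonal]
    simp
  have hd2 := Groth.Agent.H64.Verlinde.det_smul_one_sub_ones hr ((r:ℂ) + k) hM0
    (fun _ => (1:ℂ)) (fun _ => (1:ℂ))
  simp only [mul_one, Finset.sum_const, Finset.card_univ, Fintype.card_fin, nsmul_eq_mul] at hd2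
  rw [hd1, hd2]
  push_cast
  ring

end Groth.Agent.S18379
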