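import Groth.Statements.S1838
import Mathlib
import Groth.Agent.H46.CycDet

set_option autoImplicit false
set_option linter.style.haveILetI false
universe u v
open CycDet

namespace Groth.Agent.S1838

/-- For a finite length module M over a local ring with residue field κ, the κ-vector space det_κ(M) of
symbols modulo admissible relations has dimension at most 1. -/
theorem result (R : Type u) [CommRing R] [IsLocalRing R] (M : Type v) [AddCommGroup M] [Module R M] (hM : IsFiniteLength R M) : Module.rank (IsLocalRing.ResidueField R) (CycDet.Det R M) ≤ 1 := by
  exact Groth.Agent.H46.CD.rank_detOfLen_le_one hM

end Groth.Agent.S1838
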