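import Groth.Statements.S18380
import Mathlib
import Groth.Agent.S8914
import Groth.Agent.S9705
import Groth.Agent.S15339
import Groth.Agent.H48.SmulHom
import Groth.Agent.H8.SectionsExact

set_option autoImplicit false
set_option maxHeartbeats 400000
set_option backward.isDefEq.respectTransparency.types false
universe u
open Divisors

namespace Groth.Agent.S18380

open CategoryTheory CategoryTheory.Limits AlgebraicGeometry TopologicalSpace Opposite
open Groth.Agent.H48.SmulHom (smulHom smulHom_app)
open Groth.Agent.S15339 (sc sc_spec scalar_unique)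

/-- Over a field, an integral nonzerodivisor is a unit. -/
theorem isUnit_of_isIntegral_of_nzd {F A : Type*} [Field F] [CommRing A] [Algebra F A] (c : A)
    (hc : IsIntegral F c) (hnzd : ∀ b : A, c * b = 0 → b = 0) : IsUnit c := by
  haveI : Module.Finite F (Algebra.adjoin F {c}) :=
    (Module.Finite.iff_fg (N := Subalgebra.toSubmodule (Algebra.adjoin F {c}))).mpr
      hc.fg_adjoin_singleton
  haveI : IsArtinianRing (Algebra.adjoin F {c}) := IsArtinianRing.of_finite F _
  let c' : Algebra.adjoin F {c} := ⟨c, Algebra.subset_adjoin (Set.mem_singleton c)⟩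
  have hc' : c' ∈ nonZeroDivisors (Algebra.adjoin F {c}) := by
    rw [mem_nonZeroDivisors_iff_left]
    intro b hb
    apply Subtype.ext
    apply hnzd
    exact congrArg Subtype.val hb
  have h := IsArtinianRing.isUnit_of_mem_nonZeroDivisors hc'
  exact h.map (Algebra.adjoin F {c}).val

theorem app_eq_zero_of_factor {X Z Z' : Scheme.{u}} (f : Z ⟶ X) (f' : Z' ⟶ X) (g : Z ⟶ Z')
    (hfac : g ≫ f' = f) (U : X.Opens) (s : Γ(X, U)) (hs : (f'.app U).hom s = 0) :
    (f.app U).hom s = 0 := by
  subst hfac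
  rw [Scheme.Hom.comp_app]
  show (g.app (f' ⁻¹ᵁ U)).hom ((f'.app U).hom s) = 0
  rw [hs, map_zero]

theorem res_mul {X : Scheme.{u}} (a b : Γ(X, ⊤)) (W : X.Opens) :
    Groth.Agent.H48.SmulHom.res a W * Groth.Agent.H48.SmulHom.res b W =
      Groth.Agent.H48.SmulHom.res (a * b) W := (map_mul _ a b).symm

theorem res_zero {X : Scheme.{u}} (W : X.Opens) :
    Groth.Agent.H48.SmulHom.res (0 : Γ(X, ⊤)) W = 0 := map_zero _

theorem res_one {X : Scheme.{u}} (W : X.Opens) :
    Groth.Agent.H48.SmulHom.res (1 : Γ(X, ⊤)) W = 1 := map_one _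

open CategoryTheory AlgebraicGeometry in
/-- Let k be an algebraically closed field of characteristic 0 and M a scheme, smooth and projective
over k. Let D₁ and D₂ be effective Cartier divisors on M, given by invertible ideal sheaves with
I_{D₂} ⊆ I_{D₁} (so D₁ is a closed subscheme of D₂). If I_{D₁} and I_{D₂} are isomorphic as
O_M-modules, that is D₁ and D₂ are linearly equivalent, then D₁ = D₂. The published statement is an
equivalence, for effective divisors on a smooth proper Deligne–Mumford stack with equal divisor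
classes; its proof reduces to a smooth projective scheme, the case stated here, and the other
direction is immediate. -/
theorem result (k : Type u) [Field k] [IsAlgClosed k] [CharZero k]
    (M : Scheme.{u}) (f : M ⟶ Spec (CommRingCat.of k)) [Smooth f]
    (hproj : Neron.IsProjectiveOver k (Over.mk f))
    (D₁ D₂ : M.IdealSheafData) (h₁ : BlowUp.IsEffCartierIdeal D₁) (h₂ : BlowUp.IsEffCartierIdeal D₂)
    (hle : D₂ ≤ D₁) (hiso : Nonempty (ClSub.idealMod D₁ ≅ ClSub.idealMod D₂)) :
    D₁ = D₂ := by
  have hI₁ : PicF.IsInvertible (ClSub.idealMod D₁) := (Groth.Agent.S8914.result D₁).mpr h₁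
  -- the inclusion of ideal modules
  have hzero : ClSub.idealModι D₂ ≫ ClSub.toSubscheme D₁ = 0 := by
    apply Scheme.Modules.hom_ext
    intro U
    ext t
    show (D₁.subschemeι.app U).hom ((ClSub.idealModι D₂).app U t) = 0
    apply app_eq_zero_of_factor _ _ _ (Scheme.IdealSheafData.inclusion_subschemeι hle)
    exact Groth.Agent.H8.app_comp_eq_zero (ShortComplex.mk (kernel.ι (ClSub.toSubscheme D₂))
      (ClSub.toSubscheme D₂) (kernel.condition _)) U t
  obtain ⟨j, hj⟩ : ∃ j : ClSub.idealMod D₂ ⟶ ClSub.idealMod D₁,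
      j ≫ ClSub.idealModι D₁ = ClSub.idealModι D₂ :=
    ⟨kernel.lift (ClSub.toSubscheme D₁) (ClSub.idealModι D₂) hzero, kernel.lift_ι _ _ _⟩
  obtain ⟨e⟩ := hiso
  obtain ⟨φ, hφ⟩ : ∃ φ : ClSub.idealMod D₁ ⟶ ClSub.idealMod D₁, φ = e.hom ≫ j := ⟨_, rfl⟩
  haveI : Mono (ClSub.idealModι D₂) := inferInstanceAs (Mono (kernel.ι (ClSub.toSubscheme D₂)))
  haveI : Mono j := mono_of_mono_fac hj
  haveI : Mono φ := by rw [hφ]; infer_instance
  have hcomp : φ ≫ ClSub.idealModι D₁ = e.hom ≫ ClSub.idealModι D₂ := by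
    rw [hφ, Category.assoc, hj]
  -- the scalar of `φ`
  obtain ⟨c, hc⟩ : ∃ c : Γ(M, ⊤), c = sc hI₁ φ := ⟨_, rfl⟩
  have hφc : φ = smulHom _ c := by
    apply Scheme.Modules.hom_ext
    intro W
    ext s
    rw [hc]
    exact (sc_spec hI₁ φ W s).trans (smulHom_app _ _ W s).symm
  -- `c` is a nonzerodivisor
  have hnzd : ∀ b : Γ(M, ⊤), c * b = 0 → b = 0 := by
    intro b hb
    have h0 : smulHom (ClSub.idealMod D₁) b ≫ φ = 0 := by
      rw [hφc]
      apply Scheme.Modules.hom_ext
      intro W
      ext s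
      show (smulHom _ c).app W ((smulHom _ b).app W s) = 0
      rw [smulHom_app, smulHom_app, smul_smul, res_mul, hb, res_zero, zero_smul]
    have h1 : smulHom (ClSub.idealMod D₁) b = 0 := by
      rw [← cancel_mono φ, h0, zero_comp]
    apply scalar_unique hI₁
    intro W s
    have h2 := congrArg (fun m => m.app W s) h1
    have h3 : (smulHom (ClSub.idealMod D₁) b).app W s = 0 := h2
    rw [smulHom_app] at h3
    refine h3.trans ?_
    rw [map_zero, zero_smul]
  -- `c` is integral over a field, hence a unit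
  haveI : IsProper f := by
    obtain ⟨n, i, hi, hfac⟩ := hproj
    haveI := hi
    haveI : IsProper (CohB1.ProjSpaceOver.toBase n (Spec (CommRingCat.of k))) :=
      Groth.Agent.S9705.isProper_toBase n _
    have hf' : f = i ≫ CohB1.ProjSpaceOver.toBase n (Spec (CommRingCat.of k)) := hfac.symm
    rw [hf']
    infer_instance
  have hint := isIntegral_appTop_of_universallyClosed f
  letI : Field Γ(Spec (CommRingCat.of k), ⊤) :=
    ((Scheme.ΓSpecIso (.of k)).commRingCatIsoToRingEquiv.toMulEquiv.isField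
      (Field.toIsField k)).toField
  algebraize [f.appTop.hom]
  have hcu : IsUnit c := isUnit_of_isIntegral_of_nzd c (hint c) hnzd
  obtain ⟨cinv, hcinv⟩ := hcu.exists_right_inv
  -- conclusion
  refine le_antisymm ?_ hle
  rw [Scheme.IdealSheafData.le_def]
  intro U a ha
  obtain ⟨t, ht⟩ := Groth.Agent.S8914.exists_of_mem_ideal D₁ U a ha
  have hφt : φ.app U.1 (Groth.Agent.H48.SmulHom.res cinv U.1 • t) = t := by
    rw [hφc, smulHom_app, smul_smul, res_mul, hcinv, res_one, one_smul]
  have h4 := congrArg (fun m => m.app U.1 (Groth.Agent.H48.SmulHom.res cinv U.1 • t)) hcomp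
  have h5 : (ClSub.idealModι D₁).app U.1 (φ.app U.1 (Groth.Agent.H48.SmulHom.res cinv U.1 • t)) =
      (ClSub.idealModι D₂).app U.1 (e.hom.app U.1 (Groth.Agent.H48.SmulHom.res cinv U.1 • t)) := h4
  rw [hφt, ht] at h5
  have h6 := Groth.Agent.S8914.ι_mem_ideal D₂ U
    (e.hom.app U.1 (Groth.Agent.H48.SmulHom.res cinv U.1 • t))
  rw [← h5] at h6
  exact h6

end Groth.Agent.S18380
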