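import Groth.Statements.S18384
import Mathlib

set_option autoImplicit false
set_option maxHeartbeats 400000
universe u
open CategoryTheory CategoryTheory.Limits AlgebraicGeometry
open Coherent

namespace Groth.Agent.S18384

open TopologicalSpace Opposite IsLocalRing

set_option backward.isDefEq.respectTransparency.types false in
theorem germ_mem_pow {X S : Scheme.{u}} (p : X ⟶ S) (x : X) (I : X.IdealSheafData) (n : ℕ)
    (g : pullback p (Spec.map (CommRingCat.ofHom (Ideal.Quotient.mk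
        (IsLocalRing.maximalIdeal ↑(S.presheaf.stalk (p.base x)) ^ (n + 1)))) ≫
          S.fromSpecStalk (p.base x)) ⟶ I.subscheme)
    (hg : g ≫ I.subschemeι = pullback.fst p _)
    (V : X.affineOpens) (hxV : x ∈ V.1) (s : Γ(X, V.1)) (hs : s ∈ I.ideal V) :
    (X.presheaf.germ V.1 x hxV).hom s ∈
      IsLocalRing.maximalIdeal (X.presheaf.stalk x) ^ (n + 1) := by
  let φ : S.presheaf.stalk (p.base x) →+* X.presheaf.stalk x := (p.stalkMap x).hom
  have hle : IsLocalRing.maximalIdeal (S.presheaf.stalk (p.base x)) ^ (n + 1) ≤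
      Ideal.comap φ (IsLocalRing.maximalIdeal (X.presheaf.stalk x) ^ (n + 1)) := by
    refine (Ideal.pow_right_mono (fun a ha => ?_) (n + 1)).trans (Ideal.le_comap_pow φ (n + 1))
    exact _root_.map_nonunit φ a ha
  let ψ := Ideal.quotientMap (IsLocalRing.maximalIdeal (X.presheaf.stalk x) ^ (n + 1)) φ hle
  let qx : X.presheaf.stalk x ⟶ CommRingCat.of (↑(X.presheaf.stalk x) ⧸
      IsLocalRing.maximalIdeal ↑(X.presheaf.stalk x) ^ (n + 1)) :=
    CommRingCat.ofHom (Ideal.Quotient.mk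
      (IsLocalRing.maximalIdeal ↑(X.presheaf.stalk x) ^ (n + 1)))
  let qt := CommRingCat.ofHom (Ideal.Quotient.mk
    (IsLocalRing.maximalIdeal ↑(S.presheaf.stalk (p.base x)) ^ (n + 1)))
  have hsq : qt ≫ CommRingCat.ofHom ψ = p.stalkMap x ≫ qx := by
    ext a
    simp [ψ, φ, qt, qx]
    rfl
  let c := Spec.map qx ≫ X.fromSpecStalk x
  have hc : c ≫ p = Spec.map (CommRingCat.ofHom ψ) ≫ Spec.map qt ≫ S.fromSpecStalk (p.base x) := by
    rw [← Spec.map_comp_assoc, hsq, Spec.map_comp_assoc, Scheme.SpecMap_stalkMap_fromSpecStalk]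
    simp [c]
  let l := pullback.lift c (Spec.map (CommRingCat.ofHom ψ)) hc
  have hfac : c = (l ≫ g) ≫ I.subschemeι := by
    rw [Category.assoc, hg, pullback.lift_fst]
  have hker : I ≤ c.ker := by
    have h1 := Scheme.Hom.le_ker_comp (l ≫ g) I.subschemeι
    rw [Scheme.IdealSheafData.ker_subschemeι, ← hfac] at h1
    exact h1
  have h0 : (c.app V.1).hom s = 0 := Scheme.Hom.ideal_ker_le c V (hker V hs)
  have htop : (⊤ : (Spec _).Opens) ≤ c ⁻¹ᵁ V.1 := by
    intro z _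
    have hz : (X.fromSpecStalk x) ((Spec.map qx) z) ⤳ x := by
      have h2 : (X.fromSpecStalk x) ((Spec.map qx) z) ∈ Set.range (X.fromSpecStalk x) :=
        Set.mem_range_self _
      rw [Scheme.range_fromSpecStalk] at h2
      exact h2
    exact hz.mem_open V.1.2 hxV
  have h1 : (c.appLE V.1 ⊤ htop).hom s = 0 := by
    rw [Scheme.Hom.appLE, CommRingCat.hom_comp, RingHom.comp_apply, h0, map_zero]
  have e₁ : (⊤ : (Spec (X.presheaf.stalk x)).Opens) ≤ X.fromSpecStalk x ⁻¹ᵁ V.1 := by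
    intro z _
    have hz : (X.fromSpecStalk x) z ⤳ x := by
      have h2 : (X.fromSpecStalk x) z ∈ Set.range (X.fromSpecStalk x) := Set.mem_range_self _
      rw [Scheme.range_fromSpecStalk] at h2
      exact h2
    exact hz.mem_open V.1.2 hxV
  have hA : (X.fromSpecStalk x).appLE V.1 ⊤ e₁ =
      X.presheaf.germ V.1 x hxV ≫ (Scheme.ΓSpecIso (X.presheaf.stalk x)).inv := by
    rw [Scheme.Hom.appLE, Scheme.fromSpecStalk_app hxV, Category.assoc, Category.assoc,
      ← Functor.map_comp]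
    have : (homOfLE (le_top : X.fromSpecStalk x ⁻¹ᵁ V.1 ≤ ⊤)).op ≫ (homOfLE e₁).op = 𝟙 _ :=
      Subsingleton.elim _ _
    rw [this, CategoryTheory.Functor.map_id, Category.comp_id]
  have hB : (Spec.map qx).appLE ⊤ ⊤ le_top = (Spec.map qx).appTop := by
    rw [Scheme.Hom.appTop, ← Scheme.Hom.appLE_eq_app]
    rfl
  have hC := Scheme.Hom.appLE_comp_appLE (Spec.map qx) (X.fromSpecStalk x) V.1 ⊤ ⊤ e₁ le_top
  rw [hA, hB, Category.assoc, ← Scheme.ΓSpecIso_inv_naturality qx] at hC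
  have h2 : (X.presheaf.germ V.1 x hxV ≫ qx ≫ (Scheme.ΓSpecIso _).inv).hom s = 0 := by
    rw [hC]; exact h1
  have h5 : (X.presheaf.germ V.1 x hxV ≫ qx ≫ (Scheme.ΓSpecIso _).inv) ≫ (Scheme.ΓSpecIso _).hom =
      X.presheaf.germ V.1 x hxV ≫ qx := by
    simp only [Category.assoc, Iso.inv_hom_id, Category.comp_id]
  have h3 : (X.presheaf.germ V.1 x hxV ≫ qx).hom s = 0 := by
    rw [← h5, CommRingCat.hom_comp, RingHom.comp_apply, h2, map_zero]
  have h3' : Ideal.Quotient.mk (IsLocalRing.maximalIdeal ↑(X.presheaf.stalk x) ^ (n + 1))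
      ((X.presheaf.germ V.1 x hxV).hom s) = 0 := h3
  exact Ideal.Quotient.eq_zero_iff_mem.mp h3'

theorem exists_affine_ideal_eq_bot {X S : Scheme.{u}} [IsLocallyNoetherian X] (p : X ⟶ S) (x : X)
    (I : X.IdealSheafData)
    (h : ∀ n : ℕ, ∃ g : pullback p (Spec.map (CommRingCat.ofHom (Ideal.Quotient.mk
        (IsLocalRing.maximalIdeal ↑(S.presheaf.stalk (p.base x)) ^ (n + 1)))) ≫
          S.fromSpecStalk (p.base x)) ⟶ I.subscheme,
        g ≫ I.subschemeι = pullback.fst p _) :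
    ∃ W : X.affineOpens, x ∈ W.1 ∧ I.ideal W = ⊥ := by
  classical
  obtain ⟨_, ⟨V, hV, rfl⟩, hxV, -⟩ := X.isBasis_affineOpens.exists_subset_of_mem_open
    (Set.mem_univ x) isOpen_univ
  have hgerm : ∀ s ∈ I.ideal ⟨V, hV⟩, (X.presheaf.germ V x hxV).hom s = 0 := by
    intro s hs
    have key : ∀ n : ℕ, (X.presheaf.germ V x hxV).hom s ∈
        IsLocalRing.maximalIdeal (X.presheaf.stalk x) ^ (n + 1) := fun n => by
      obtain ⟨g, hg⟩ := h n
      exact germ_mem_pow p x I n g hg ⟨V, hV⟩ hxV s hs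
    have hbot := Ideal.iInf_pow_eq_bot_of_isLocalRing
      (IsLocalRing.maximalIdeal (X.presheaf.stalk x)) Ideal.IsPrime.ne_top'
    have hmem : (X.presheaf.germ V x hxV).hom s ∈
        ⨅ i, IsLocalRing.maximalIdeal (X.presheaf.stalk x) ^ i :=
      Ideal.mem_iInf.mpr fun i => Ideal.pow_le_pow_right (Nat.le_succ i) (key i)
    rw [hbot] at hmem
    exact hmem
  haveI : IsNoetherianRing Γ(X, V) := IsLocallyNoetherian.component_noetherian ⟨V, hV⟩
  obtain ⟨gens, hgens⟩ := (isNoetherianRing_iff_ideal_fg _).mp inferInstance (I.ideal ⟨V, hV⟩)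
  have hopen : ∀ F : Finset Γ(X, V), (∀ s ∈ F, (X.presheaf.germ V x hxV).hom s = 0) →
      ∃ W : X.Opens, x ∈ W ∧ ∃ hWV : W ≤ V,
        ∀ s ∈ F, (X.presheaf.map (homOfLE hWV).op).hom s = 0 := by
    intro F
    induction F using Finset.induction_on with
    | empty => intro _; exact ⟨V, hxV, le_rfl, by simp⟩
    | insert a F ha ih =>
      intro hF
      obtain ⟨W₁, hxW₁, hW₁V, h₁⟩ := ih (fun s hs => hF s (Finset.mem_insert_of_mem hs))
      obtain ⟨W₂, hxW₂, iU, iV, h₂⟩ := X.presheaf.germ_eq x hxV hxV a 0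
        (by
          have := hF a (Finset.mem_insert_self a F)
          rw [map_zero]
          exact this)
      refine ⟨W₁ ⊓ W₂, ⟨hxW₁, hxW₂⟩, inf_le_left.trans hW₁V, ?_⟩
      intro s hs
      rcases Finset.mem_insert.mp hs with rfl | hs
      · have e : X.presheaf.map (homOfLE (inf_le_left.trans hW₁V : W₁ ⊓ W₂ ≤ V)).op =
            X.presheaf.map iU.op ≫
              X.presheaf.map (homOfLE (inf_le_right : W₁ ⊓ W₂ ≤ W₂)).op := by
          rw [← Functor.map_comp]; rfl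
        rw [e, CommRingCat.hom_comp, RingHom.comp_apply]
        have h₂' : (X.presheaf.map iU.op).hom s = 0 := by
          have := h₂
          rw [map_zero] at this
          exact this
        rw [h₂', map_zero]
      · have e : X.presheaf.map (homOfLE (inf_le_left.trans hW₁V : W₁ ⊓ W₂ ≤ V)).op =
            X.presheaf.map (homOfLE hW₁V).op ≫
              X.presheaf.map (homOfLE (inf_le_left : W₁ ⊓ W₂ ≤ W₁)).op := by
          rw [← Functor.map_comp]; rfl
        rw [e, CommRingCat.hom_comp, RingHom.comp_apply, h₁ s hs, map_zero]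
  obtain ⟨W', hxW', hW'V, hW'⟩ := hopen gens
    (fun s hs => hgerm s (hgens ▸ Ideal.subset_span hs))
  obtain ⟨_, ⟨W, hW, rfl⟩, hxW, hWW'⟩ := X.isBasis_affineOpens.exists_subset_of_mem_open
    hxW' W'.2
  refine ⟨⟨W, hW⟩, hxW, ?_⟩
  have hWV : (⟨W, hW⟩ : X.affineOpens) ≤ ⟨V, hV⟩ := fun y hy => hW'V (hWW' hy)
  rw [← I.map_ideal hWV, ← hgens, Ideal.map_span, Ideal.span_eq_bot]
  rintro _ ⟨s, hs, rfl⟩
  have e : X.presheaf.map (homOfLE hWV).op =
      X.presheaf.map (homOfLE hW'V).op ≫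
        X.presheaf.map (homOfLE (show W ≤ W' from hWW')).op := by
    rw [← Functor.map_comp]; rfl
  rw [e, CommRingCat.hom_comp, RingHom.comp_apply, hW' s hs, map_zero]

theorem le_ker_ι {X : Scheme.{u}} (I : X.IdealSheafData) (U : X.Opens)
    (hU : ∀ y ∈ U, ∃ W : X.affineOpens, y ∈ W.1 ∧ I.ideal W = ⊥) : I ≤ U.ι.ker := by
  unfold Scheme.Hom.ker
  refine Scheme.IdealSheafData.le_ofIdeals_iff.mpr fun W₀ s hs => ?_
  rw [RingHom.mem_ker]
  refine (U : Scheme.{u}).IsSheaf.section_ext (U := op (U.ι ⁻¹ᵁ W₀.1)) (fun y hy => ?_)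
  have hyU : U.ι y ∈ U := by
    have : U.ι y ∈ Set.range U.ι := Set.mem_range_self y
    rw [Scheme.Opens.range_ι] at this
    exact this
  obtain ⟨W, hyW, hW⟩ := hU _ hyU
  obtain ⟨_, ⟨W₁, hW₁, rfl⟩, hyW₁, hW₁le⟩ := X.isBasis_affineOpens.exists_subset_of_mem_open
    (show U.ι y ∈ ((W.1 ⊓ W₀.1 : X.Opens) : Set X) from ⟨hyW, hy⟩) (W.1 ⊓ W₀.1).2
  have h₁W : (⟨W₁, hW₁⟩ : X.affineOpens) ≤ W := fun z hz => (hW₁le hz).1
  have h₁₀ : (⟨W₁, hW₁⟩ : X.affineOpens) ≤ W₀ := fun z hz => (hW₁le hz).2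
  have h1 : (X.presheaf.map (homOfLE h₁₀).op).hom s = 0 := by
    have h2 : (X.presheaf.map (homOfLE h₁₀).op).hom s ∈ I.ideal ⟨W₁, hW₁⟩ :=
      I.ideal_le_comap_ideal h₁₀ hs
    rw [← I.map_ideal h₁W, hW, Ideal.map_bot] at h2
    exact h2
  refine ⟨U.ι ⁻¹ᵁ W₁, fun z hz => h₁₀ hz, hyW₁, ?_⟩
  rw [map_zero]
  have nat := U.ι.naturality (homOfLE h₁₀).op
  have h3 := congrArg (fun m => m.hom s) nat
  simp only [CommRingCat.hom_comp, RingHom.comp_apply] at h3
  rw [h1, map_zero] at h3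
  exact h3.symm


/-- Let p : X → S be a morphism of locally Noetherian schemes, t a point of S, m the maximal ideal of
the local ring O_{S,t}, and Z the closed subscheme of X defined by a quasi-coherent ideal I. Suppose
that for every n ≥ 1 the projection X ×_S Spec(O_{S,t}/m^n) → X factors through Z. Then there is an
open subscheme U of X containing every point of the fibre p⁻¹(t) such that the inclusion U → X
factors through Z. -/
theorem result {X S : Scheme.{u}}
    [IsLocallyNoetherian X] [IsLocallyNoetherian S] (p : X ⟶ S) (t : S) (I : X.IdealSheafData)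
    (h : ∀ n : ℕ, ∃ g : pullback p (Spec.map (CommRingCat.ofHom (Ideal.Quotient.mk
        (IsLocalRing.maximalIdeal ↑(S.presheaf.stalk t) ^ (n + 1)))) ≫ S.fromSpecStalk t) ⟶ I.subscheme,
        g ≫ I.subschemeι = pullback.fst p _) :
    ∃ U : X.Opens, (∀ x : X, p.base x = t → x ∈ U) ∧
      ∃ g : (U : Scheme.{u}) ⟶ I.subscheme, g ≫ I.subschemeι = U.ι := by
  classical
  refine ⟨⨆ W : {W : X.affineOpens // I.ideal W = ⊥}, (W.1 : X.Opens), ?_, ?_⟩
  · intro x hx
    subst hx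
    obtain ⟨W, hxW, hW⟩ := exists_affine_ideal_eq_bot p x I h
    exact TopologicalSpace.Opens.mem_iSup.mpr ⟨⟨W, hW⟩, hxW⟩
  · have hker : I.subschemeι.ker ≤
        (⨆ W : {W : X.affineOpens // I.ideal W = ⊥}, (W.1 : X.Opens)).ι.ker := by
      rw [Scheme.IdealSheafData.ker_subschemeι]
      refine le_ker_ι I _ (fun y hy => ?_)
      obtain ⟨W, hyW⟩ := TopologicalSpace.Opens.mem_iSup.mp hy
      exact ⟨W.1, hyW, W.2⟩
    exact ⟨IsClosedImmersion.lift I.subschemeι _ hker, IsClosedImmersion.lift_fac _ _ _⟩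

end Groth.Agent.S18384
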