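import Groth.Statements.S18386
import Mathlib.RingTheory.Ideal.IdempotentFG
import Mathlib.Topology.Connected.Clopen

set_option autoImplicit false
universe u
open LVCorr

namespace Groth.Agent.S18386

open AlgebraicGeometry in
/-- Let X be a connected Noetherian scheme and I a quasi-coherent sheaf of ideals on X, different from
the structure sheaf, such that I^k = I^(k+1) for some natural number k. Then I^k = 0. -/
theorem result (X : Scheme.{u}) [AlgebraicGeometry.IsNoetherian X]
    [ConnectedSpace X] (I : X.IdealSheafData) (hI : I ≠ ⊤) (k : ℕ)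
    (h : I ^ k = I ^ (k + 1)) : I ^ k = ⊥ := by
  have hk : k ≠ 0 := by
    rintro rfl
    apply hI
    have h' := h
    rw [pow_zero, zero_add, pow_one] at h'
    exact h'.symm
  -- local idempotent generators
  have hloc : ∀ U : X.affineOpens, ∃ e : Γ(X, U.1), IsIdempotentElem e ∧
      (I ^ k).ideal U = Ideal.span {e} := by
    intro U
    have hU : (I.ideal U) ^ k = (I.ideal U) ^ (k + 1) := by
      have := congrArg (fun J : X.IdealSheafData => J.ideal U) h
      simpa using this
    have hst : ∀ j, (I.ideal U) ^ (k + j) = (I.ideal U) ^ k := by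
      intro j
      induction j with
      | zero => rfl
      | succ j ih => rw [← add_assoc, pow_succ, ih, ← pow_succ, ← hU]
    have hid : IsIdempotentElem ((I.ideal U) ^ k) := by
      unfold IsIdempotentElem; rw [← pow_add, hst]
    haveI : IsNoetherianRing Γ(X, U.1) := IsLocallyNoetherian.component_noetherian U
    obtain ⟨e, he, hJ⟩ := (Ideal.isIdempotentElem_iff_of_fg _ (IsNoetherian.noetherian _)).mp hid
    exact ⟨e, he, by simpa using hJ⟩
  -- membership in the support on an affine piece
  have hmem : ∀ (U : X.affineOpens) (e : Γ(X, U.1)), IsIdempotentElem e →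
      (I ^ k).ideal U = Ideal.span {e} → ∀ y ∈ U.1, (y ∈ I.support ↔ y ∈ X.basicOpen (1 - e)) := by
    intro U e he hJ y hy
    rw [← Scheme.IdealSheafData.support_pow I k hk, Scheme.IdealSheafData.mem_support_iff_of_mem hy, hJ,
      Scheme.zeroLocus_span, Scheme.mem_zeroLocus_iff]
    simp only [Set.mem_singleton_iff, forall_eq]
    constructor
    · intro hne
      have h1 : y ∈ X.basicOpen (e + (1 - e)) := by
        rw [add_sub_cancel, Scheme.basicOpen_one]; exact hy
      rcases X.basicOpen_add_le e (1 - e) h1 with h2 | h2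
      · exact absurd h2 hne
      · exact h2
    · intro h1 h2
      have h3 : y ∈ X.basicOpen (e * (1 - e)) := by
        rw [Scheme.basicOpen_mul]; exact ⟨h2, h1⟩
      have h4 : e * (1 - e) = 0 := by
        rw [mul_sub, mul_one, he.eq, sub_self]
      rw [h4, Scheme.basicOpen_zero] at h3
      exact h3
  have hcover : ∀ x : X, ∃ U : X.affineOpens, x ∈ U.1 := by
    intro x
    obtain ⟨_, ⟨U, hU, rfl⟩, hxU, -⟩ :=
      X.isBasis_affineOpens.exists_subset_of_mem_open (Set.mem_univ x) isOpen_univ
    exact ⟨⟨U, hU⟩, hxU⟩
  have hopen : IsOpen (I.support : Set X) := by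
    rw [isOpen_iff_mem_nhds]
    intro x hx
    obtain ⟨U, hxU⟩ := hcover x
    obtain ⟨e, he, hJ⟩ := hloc U
    have hsub : (X.basicOpen (1 - e) : Set X) ⊆ (I.support : Set X) := by
      intro y hy
      exact (hmem U e he hJ y (X.basicOpen_le _ hy)).mpr hy
    exact Filter.mem_of_superset
      ((X.basicOpen (1 - e)).isOpen.mem_nhds ((hmem U e he hJ x hxU).mp hx)) hsub
  have hclopen : IsClopen (I.support : Set X) := ⟨I.support.isClosed, hopen⟩
  have hne : (I.support : Set X).Nonempty := by
    rw [Set.nonempty_iff_ne_empty]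
    intro hemp
    apply hI
    rw [← Scheme.IdealSheafData.support_eq_bot_iff]
    exact TopologicalSpace.Closeds.ext hemp
  have huniv : (I.support : Set X) = Set.univ := hclopen.eq_univ hne
  -- conclude
  ext U : 2
  obtain ⟨e, he, hJ⟩ := hloc U
  have hunit : IsUnit (1 - e) := by
    apply X.toRingedSpace.isUnit_of_isUnit_germ U.1 (1 - e)
    intro y hy
    have : y ∈ X.basicOpen (1 - e) := (hmem U e he hJ y hy).mp (by rw [← SetLike.mem_coe, huniv]; trivial)
    exact (X.mem_basicOpen _ _ hy).mp this
  have h4 : e * (1 - e) = 0 := by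
    rw [mul_sub, mul_one, he.eq, sub_self]
  have he0 : e = 0 := by
    have := hunit.mul_left_eq_zero.mp h4
    exact this
  rw [hJ, he0]
  simp

end Groth.Agent.S18386
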