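import Groth.Statements.S18387
import Mathlib.RingTheory.Noetherian.Nilpotent
import Mathlib.RingTheory.Noetherian.Basic
import Mathlib.LinearAlgebra.FiniteDimensional.Lemmas

set_option autoImplicit false
universe u
open LVCorr

namespace Groth.Agent.S18387

/-- In the affine form which its proof establishes. Let A be a commutative algebra over a field F which
is finite-dimensional of dimension d over F. Then the d-th power of the nilradical of A vanishes.
(Applied to the fibre algebra A = B/mB of a quasi-finite morphism over a closed point with maximal
ideal m, this says that the d-th power of the radical of mB lies in mB, i.e. the ramification of the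
morphism at that point is at most the degree d of the fibre.) -/
theorem result (F A : Type u) [Field F] [CommRing A] [Algebra F A]
    [FiniteDimensional F A] : nilradical A ^ Module.finrank F A = ⊥ := by
  haveI : IsNoetherianRing A := IsNoetherianRing.of_finite F A
  obtain ⟨m, hm⟩ := IsNoetherianRing.isNilpotent_nilradical A
  set N := nilradical A with hN
  -- stabilisation forces vanishing
  have stab : ∀ n : ℕ, N ^ (n + 1) = N ^ n → N ^ n = ⊥ := by
    intro n h
    have h2 : ∀ k : ℕ, N ^ (n + k) = N ^ n := by
      intro k
      induction k with
      | zero => rfl
      | succ k ih => rw [← add_assoc, pow_succ, ih, ← pow_succ, h]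
    have h3 := h2 m
    rw [pow_add, hm] at h3
    rw [← h3]
    exact Ideal.mul_bot _
  let r : ℕ → ℕ := fun n => Module.finrank F ↥((N ^ n).restrictScalars F)
  have hr0 : r 0 = Module.finrank F A := by
    change Module.finrank F ↥((N ^ 0).restrictScalars F) = _
    rw [pow_zero, Ideal.one_eq_top, Submodule.restrictScalars_top]
    exact finrank_top F A
  have step : ∀ n : ℕ, r n + n ≤ Module.finrank F A ∨ N ^ n = ⊥ := by
    intro n
    induction n with
    | zero => left; rw [hr0]; exact le_rfl
    | succ n ih =>
      rcases ih with ih | ih
      · by_cases hbot : N ^ n = ⊥
        · right; rw [pow_succ, hbot]; exact Ideal.bot_mul _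
        · left
          have hle : N ^ (n + 1) ≤ N ^ n := Ideal.pow_le_pow_right (Nat.le_succ n)
          have hlt : N ^ (n + 1) < N ^ n := lt_of_le_of_ne hle (fun h => hbot (stab n h))
          have hlt' : (N ^ (n + 1)).restrictScalars F < (N ^ n).restrictScalars F := by
            rw [Submodule.restrictScalars_lt] 
            exact hlt
          have := Submodule.finrank_lt_finrank_of_lt hlt'
          change r (n + 1) < r n at this
          omega
      · right; rw [pow_succ, ih]; exact Ideal.bot_mul _
  rcases step (Module.finrank F A) with h | h
  · have h0 : r (Module.finrank F A) = 0 := by omega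
    have : (N ^ Module.finrank F A).restrictScalars F = ⊥ := by
      rw [← Submodule.finrank_eq_zero]; exact h0
    rw [Submodule.restrictScalars_eq_bot_iff] at this
    exact this
  · exact h

end Groth.Agent.S18387
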