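import Groth.Statements.S18389
import Mathlib.AlgebraicGeometry.Restrict

set_option autoImplicit false
universe u
open LVCorr

namespace Groth.Agent.S18389

open AlgebraicGeometry CategoryTheory in
/-- Let j : C → C̄ be an open immersion with dense image and jX : X → X̄ an open immersion, and let c₁ :
C → X and c̄₁ : C̄ → X̄ satisfy j followed by c̄₁ equals c₁ followed by jX, with c̄₁ separated. Let
U be an open subset of X such that c₁⁻¹(U) is dense in C and the restriction c₁⁻¹(U) → U of c₁ is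
proper. Then c̄₁⁻¹(jX(U)) = j(c₁⁻¹(U)) as open subsets of C̄. (In the source all schemes are
separated of finite type over a field, C̄ and X̄ are compactifications of a correspondence and of X,
so that c̄₁ is automatically separated.) -/
theorem result {C Cb X Xb : Scheme.{u}}
    (j : C ⟶ Cb) [IsOpenImmersion j] (hj : DenseRange j.base)
    (jX : X ⟶ Xb) [IsOpenImmersion jX] (c₁ : C ⟶ X) (cb₁ : Cb ⟶ Xb) [IsSeparated cb₁]
    (h : j ≫ cb₁ = c₁ ≫ jX) (U : X.Opens) (hU : Dense ((c₁ ⁻¹ᵁ U : C.Opens) : Set C))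
    [IsProper (c₁ ∣_ U)] :
    cb₁ ⁻¹ᵁ (jX ''ᵁ U) = j ''ᵁ (c₁ ⁻¹ᵁ U) := by
  have hpre : jX ⁻¹ᵁ (jX ''ᵁ U) = U := jX.preimage_image_eq U
  have hiso : IsIso (jX ∣_ (jX ''ᵁ U)) := by
    have : IsOpenImmersion (jX ∣_ (jX ''ᵁ U)) := by
      delta morphismRestrict; infer_instance
    apply isIso_of_isOpenImmersion_of_opensRange_eq_top
    ext y
    simp only [Scheme.Hom.coe_opensRange, Set.mem_range, TopologicalSpace.Opens.coe_top, Set.mem_univ,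
      iff_true]
    obtain ⟨y, hy⟩ := y
    obtain ⟨x, hx, rfl⟩ := hy
    refine ⟨⟨x, ⟨x, hx, rfl⟩⟩, ?_⟩
    apply Subtype.ext
    exact morphismRestrict_base_coe jX _ _
  have hp1 : IsProper (c₁ ∣_ (jX ⁻¹ᵁ (jX ''ᵁ U))) := by
    rw [hpre]; infer_instance
  have hp0 : IsProper (jX ∣_ (jX ''ᵁ U)) := inferInstance
  have hp2 : IsProper ((c₁ ≫ jX) ∣_ (jX ''ᵁ U)) := by
    rw [morphismRestrict_comp]
    exact MorphismProperty.comp_mem @IsProper _ _ hp1 hp0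
  have transport : ∀ (f g : C ⟶ Xb), f = g → IsProper (g ∣_ (jX ''ᵁ U)) → IsProper (f ∣_ (jX ''ᵁ U)) := by
    rintro f g rfl hg; exact hg
  have hp3' : IsProper ((j ≫ cb₁) ∣_ (jX ''ᵁ U)) := transport _ _ h hp2
  have hp3 : IsProper (j ∣_ (cb₁ ⁻¹ᵁ (jX ''ᵁ U)) ≫ cb₁ ∣_ (jX ''ᵁ U)) := by
    rw [← morphismRestrict_comp]; exact hp3'
  have hp4 : IsProper (j ∣_ (cb₁ ⁻¹ᵁ (jX ''ᵁ U))) :=
    IsProper.of_comp _ (cb₁ ∣_ (jX ''ᵁ U))
  have hclosed : IsClosed (Set.range (j ∣_ (cb₁ ⁻¹ᵁ (jX ''ᵁ U)))) :=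
    (j ∣_ (cb₁ ⁻¹ᵁ (jX ''ᵁ U))).isClosedMap.isClosed_range
  have hdense : Dense (Set.range (j ∣_ (cb₁ ⁻¹ᵁ (jX ''ᵁ U)))) := by
    rw [dense_iff_inter_open]
    rintro O hO ⟨y, hy⟩
    have hO' : IsOpen (Subtype.val '' O : Set Cb) :=
      (cb₁ ⁻¹ᵁ (jX ''ᵁ U)).isOpen.isOpenMap_subtype_val O hO
    obtain ⟨_, ⟨z, hzO, rfl⟩, ⟨c, hc⟩⟩ := hj.inter_open_nonempty _ hO' ⟨y.1, y, hy, rfl⟩
    have hcW : c ∈ j ⁻¹ᵁ (cb₁ ⁻¹ᵁ (jX ''ᵁ U)) := by
      change j c ∈ (cb₁ ⁻¹ᵁ (jX ''ᵁ U))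
      rw [hc]; exact z.2
    refine ⟨z, hzO, ⟨⟨c, hcW⟩, ?_⟩⟩
    apply Subtype.ext
    rw [morphismRestrict_base_coe]
    exact hc
  have hrange : Set.range (j ∣_ (cb₁ ⁻¹ᵁ (jX ''ᵁ U))) = Set.univ := by
    rw [← hclosed.closure_eq]; exact hdense.closure_eq
  apply le_antisymm
  · intro y hy
    have : (⟨y, hy⟩ : ↥(cb₁ ⁻¹ᵁ (jX ''ᵁ U))) ∈ Set.range (j ∣_ (cb₁ ⁻¹ᵁ (jX ''ᵁ U))) := by
      rw [hrange]; trivial
    obtain ⟨⟨c, hc⟩, hcy⟩ := this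
    have hcy' : j c = y := by
      have := congrArg Subtype.val hcy
      rwa [morphismRestrict_base_coe] at this
    refine ⟨c, ?_, hcy'⟩
    -- c ∈ c₁⁻¹ U
    have h1 : cb₁ (j c) ∈ (jX ''ᵁ U) := hc
    have h2 : cb₁ (j c) = jX (c₁ c) := by
      have := congrArg (fun f : C ⟶ Xb => f c) h
      simpa using this
    rw [h2] at h1
    obtain ⟨x, hx, hxe⟩ := h1
    have : x = c₁ c := jX.isOpenEmbedding.injective hxe
    change c₁ c ∈ U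
    rw [← this]; exact hx
  · rintro _ ⟨c, hc, rfl⟩
    change cb₁ (j c) ∈ (jX ''ᵁ U)
    have h2 : cb₁ (j c) = jX (c₁ c) := by
      have := congrArg (fun f : C ⟶ Xb => f c) h
      simpa using this
    rw [h2]
    exact ⟨c₁ c, hc, rfl⟩

end Groth.Agent.S18389
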