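import Groth.Statements.S18390

set_option autoImplicit false
universe u
open LVCorr

namespace Groth.Agent.S18390


theorem sup_pow_add_le {R : Type u} [CommRing R] (J₁ J₂ : Ideal R) :
    ∀ m n : ℕ, (J₁ ⊔ J₂) ^ (m + n) ≤ J₁ ^ m * (J₁ ⊔ J₂) ^ n ⊔ J₂ ^ n * (J₁ ⊔ J₂) ^ m := by
  intro m
  induction m with
  | zero =>
    intro n
    rw [zero_add, pow_zero, Ideal.one_eq_top, Ideal.top_mul]
    exact le_sup_left
  | succ m ihm =>
    intro n
    induction n with
    | zero =>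
      rw [add_zero, pow_zero, pow_zero, Ideal.one_eq_top, Ideal.top_mul]
      exact le_sup_right
    | succ n ihn =>
      have e : (J₁ ⊔ J₂) ^ (m + 1 + (n + 1)) =
          J₁ * (J₁ ⊔ J₂) ^ (m + (n + 1)) ⊔ J₂ * (J₁ ⊔ J₂) ^ (m + 1 + n) := by
        have h1 : m + 1 + (n + 1) = (m + (n + 1)) + 1 := by ring
        have h2 : m + 1 + n = m + (n + 1) := by ring
        rw [h2, h1, pow_succ', Ideal.sup_mul]
      rw [e]
      apply sup_le
      · calc J₁ * (J₁ ⊔ J₂) ^ (m + (n + 1))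
            ≤ J₁ * (J₁ ^ m * (J₁ ⊔ J₂) ^ (n + 1) ⊔ J₂ ^ (n + 1) * (J₁ ⊔ J₂) ^ m) :=
              Ideal.mul_mono_right (ihm (n + 1))
          _ = J₁ ^ (m + 1) * (J₁ ⊔ J₂) ^ (n + 1) ⊔ J₁ * (J₂ ^ (n + 1) * (J₁ ⊔ J₂) ^ m) := by
              rw [Ideal.mul_sup, ← mul_assoc, ← pow_succ']
          _ ≤ _ := by
              apply sup_le le_sup_left
              apply le_trans _ le_sup_right
              calc J₁ * (J₂ ^ (n + 1) * (J₁ ⊔ J₂) ^ m) = J₂ ^ (n + 1) * (J₁ * (J₁ ⊔ J₂) ^ m) := by ring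
                _ ≤ J₂ ^ (n + 1) * ((J₁ ⊔ J₂) * (J₁ ⊔ J₂) ^ m) :=
                    Ideal.mul_mono_right (Ideal.mul_mono_left le_sup_left)
                _ = J₂ ^ (n + 1) * (J₁ ⊔ J₂) ^ (m + 1) := by rw [← pow_succ']
      · calc J₂ * (J₁ ⊔ J₂) ^ (m + 1 + n)
            ≤ J₂ * (J₁ ^ (m + 1) * (J₁ ⊔ J₂) ^ n ⊔ J₂ ^ n * (J₁ ⊔ J₂) ^ (m + 1)) :=
              Ideal.mul_mono_right ihn
          _ = J₂ * (J₁ ^ (m + 1) * (J₁ ⊔ J₂) ^ n) ⊔ J₂ ^ (n + 1) * (J₁ ⊔ J₂) ^ (m + 1) := by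
              rw [Ideal.mul_sup, ← mul_assoc J₂ (J₂ ^ n), ← pow_succ']
          _ ≤ _ := by
              apply sup_le _ le_sup_right
              apply le_trans _ le_sup_left
              calc J₂ * (J₁ ^ (m + 1) * (J₁ ⊔ J₂) ^ n) = J₁ ^ (m + 1) * (J₂ * (J₁ ⊔ J₂) ^ n) := by ring
                _ ≤ J₁ ^ (m + 1) * ((J₁ ⊔ J₂) * (J₁ ⊔ J₂) ^ n) :=
                    Ideal.mul_mono_right (Ideal.mul_mono_left le_sup_right)
                _ = J₁ ^ (m + 1) * (J₁ ⊔ J₂) ^ (n + 1) := by rw [← pow_succ']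

/-- In the affine, ring-theoretic form which its proof establishes. Let φ : A' → A be a ring
homomorphism, I' a finitely generated ideal of A' and I an ideal of A containing the image of I'.
Then some power I'^k is mapped into I^(k+1) if and only if for every n ≥ 1 and every a ∈ I'^n there
is a k with φ(a)^k ∈ I^(nk+1). (Geometrically, for a morphism f : (X, Z) → (X', Z') of pairs with Z
a closed subscheme of the preimage of Z', the normal cone of Z in X is the spectrum of the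
associated graded algebra of I, and the second condition says that the induced map of normal cones
sends the normal cone of Z set-theoretically into the zero section Z'; the source states the
equivalence in that language.) -/
theorem result (A' A : Type u) [CommRing A'] [CommRing A]
    (φ : A' →+* A) (I' : Ideal A') (hI' : I'.FG) (I : Ideal A) (hle : I'.map φ ≤ I) :
    (∃ k : ℕ, (I' ^ k).map φ ≤ I ^ (k + 1)) ↔
      ∀ n : ℕ, 1 ≤ n → ∀ a ∈ I' ^ n, ∃ k : ℕ, 1 ≤ k ∧ φ a ^ k ∈ I ^ (n * k + 1) := by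
  constructor
  · rintro ⟨k, hk⟩ n hn a ha
    -- pass to K = k + 1 ≥ 1
    have hK : (I' ^ (k + 1)).map φ ≤ I ^ (k + 1 + 1) := by
      rw [pow_succ, Ideal.map_mul, pow_succ I (k + 1)]
      exact Ideal.mul_mono hk hle
    refine ⟨k + 1, Nat.le_add_left 1 k, ?_⟩
    have h1 : a ^ (k + 1) ∈ I' ^ (n * (k + 1)) := by
      rw [pow_mul]; exact Ideal.pow_mem_pow ha (k + 1)
    have h2 : φ (a ^ (k + 1)) ∈ (I' ^ (n * (k + 1))).map φ := Ideal.mem_map_of_mem φ h1
    rw [map_pow] at h2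
    have h3 : (I' ^ (n * (k + 1))).map φ ≤ I ^ (n * (k + 1) + 1) := by
      rw [mul_comm n (k + 1), pow_mul, Ideal.map_pow]
      calc ((I' ^ (k + 1)).map φ) ^ n ≤ (I ^ (k + 1 + 1)) ^ n := Ideal.pow_right_mono hK n
        _ = I ^ ((k + 1 + 1) * n) := by rw [← pow_mul]
        _ ≤ I ^ ((k + 1) * n + 1) := by
          apply Ideal.pow_le_pow_right
          nlinarith
    exact h3 h2
  · intro H
    -- the property we induct on
    have key : ∀ J : Ideal A', J.FG → J ≤ I' → ∃ k : ℕ, (J ^ k).map φ ≤ I ^ (k + 1) := by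
      intro J hJ
      refine Submodule.fg_induction
        (motive := fun (J : Ideal A') _ => J ≤ I' → ∃ k : ℕ, (J ^ k).map φ ≤ I ^ (k + 1))
        ?_ ?_ J hJ
      · intro x hx
        have hxI : x ∈ I' := hx (Submodule.mem_span_singleton_self x)
        obtain ⟨k, hk1, hk⟩ := H 1 le_rfl x (by rwa [pow_one])
        refine ⟨k, ?_⟩
        rw [Ideal.submodule_span_eq, Ideal.span_singleton_pow, Ideal.map_span, Set.image_singleton,
          Ideal.span_le, Set.singleton_subset_iff, map_pow]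
        rw [one_mul] at hk
        exact hk
      · intro J₁ J₂ _ _ h₁ h₂ hle'
        obtain ⟨k₁, hk₁⟩ := h₁ (le_trans le_sup_left hle')
        obtain ⟨k₂, hk₂⟩ := h₂ (le_trans le_sup_right hle')
        have hS : Ideal.map φ (J₁ ⊔ J₂ : Ideal A') ≤ I := le_trans (Ideal.map_mono hle') hle
        have hSpow : ∀ j : ℕ, Ideal.map φ ((J₁ ⊔ J₂ : Ideal A') ^ j) ≤ I ^ j := by
          intro j; rw [Ideal.map_pow]; exact Ideal.pow_right_mono hS j
        refine ⟨k₁ + k₂, ?_⟩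
        calc Ideal.map φ ((J₁ ⊔ J₂ : Ideal A') ^ (k₁ + k₂))
            ≤ Ideal.map φ (J₁ ^ k₁ * (J₁ ⊔ J₂ : Ideal A') ^ k₂ ⊔ J₂ ^ k₂ * (J₁ ⊔ J₂ : Ideal A') ^ k₁) :=
              Ideal.map_mono (sup_pow_add_le J₁ J₂ k₁ k₂)
          _ = Ideal.map φ (J₁ ^ k₁) * Ideal.map φ ((J₁ ⊔ J₂ : Ideal A') ^ k₂) ⊔
                Ideal.map φ (J₂ ^ k₂) * Ideal.map φ ((J₁ ⊔ J₂ : Ideal A') ^ k₁) := by
              rw [Ideal.map_sup, Ideal.map_mul, Ideal.map_mul]
          _ ≤ I ^ (k₁ + 1) * I ^ k₂ ⊔ I ^ (k₂ + 1) * I ^ k₁ :=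
              sup_le_sup (Ideal.mul_mono hk₁ (hSpow k₂)) (Ideal.mul_mono hk₂ (hSpow k₁))
          _ = I ^ (k₁ + k₂ + 1) := by
              rw [← pow_add, ← pow_add, show k₂ + 1 + k₁ = k₁ + 1 + k₂ by ring, sup_idem,
                show k₁ + 1 + k₂ = k₁ + k₂ + 1 by ring]
    exact key I' hI' le_rfl

end Groth.Agent.S18390
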