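import Groth.Statements.S18391
import Mathlib

set_option autoImplicit false
universe u
open LVCorr

namespace Groth.Agent.S18391

/-- Let A be a normal (integrally closed) Noetherian domain and z an element of A such that the radical
of the principal ideal (z) is prime. Then there exist elements w, t of A and a natural number r,
with w not in the radical of (z), such that in the localization A[1/w] the ideal generated by z
equals the ideal generated by t^r and the ideal generated by t is prime. (The condition on w is the
one the printed proof produces and the later use of the lemma needs.) -/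
theorem result (A : Type u) [CommRing A] [IsDomain A]
    [IsNoetherianRing A] [IsIntegrallyClosed A] (z : A) (hz : (Ideal.span {z}).radical.IsPrime) :
    ∃ (w t : A) (r : ℕ), w ∉ (Ideal.span {z}).radical ∧
      Ideal.span {algebraMap A (Localization.Away w) z} =
        Ideal.span {algebraMap A (Localization.Away w) t ^ r} ∧
      (Ideal.span {algebraMap A (Localization.Away w) t}).IsPrime := by
  classical
  by_cases hz0 : z = 0
  · subst hz0
    have hrad : (Ideal.span {(0 : A)}).radical = ⊥ := by
      rw [Ideal.span_singleton_eq_bot.mpr rfl]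
      exact (Ideal.isPrime_bot (α := A)).isRadical.radical
    haveI : IsDomain (Localization.Away (1 : A)) :=
      IsLocalization.isDomain_localization
        (powers_le_nonZeroDivisors_of_noZeroDivisors one_ne_zero)
    refine ⟨1, 0, 1, ?_, ?_, ?_⟩
    · rw [hrad]; simp
    · simp
    · rw [map_zero, Ideal.span_singleton_eq_bot.mpr rfl]
      exact Ideal.isPrime_bot
  obtain ⟨P, hP⟩ : ∃ P : Ideal A, P = (Ideal.span {z}).radical := ⟨_, rfl⟩
  rw [← hP] at hz ⊢
  haveI hPprime : P.IsPrime := hz
  have hzP : z ∈ P := by rw [hP]; exact Ideal.le_radical (Ideal.mem_span_singleton_self z)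
  have hmin : P ∈ (Ideal.span {z}).minimalPrimes := by
    refine ⟨⟨hz, by rw [hP]; exact Ideal.le_radical⟩, fun Q hQ _ => ?_⟩
    rw [hP]
    exact hQ.1.radical_le_iff.mpr hQ.2
  have hht : P.height ≤ 1 :=
    Ideal.height_le_one_of_isPrincipal_of_mem_minimalPrimes _ _ hmin
  have hQ : ∀ Q : Ideal A, Q.IsPrime → Q ≤ P → Q ≠ ⊥ → Q = P := by
    intro Q hQp hQP hQ0
    by_contra hne
    have hlt : Q < P := lt_of_le_of_ne hQP hne
    have h1 : Q.height < P.height :=
      Ideal.height_strict_mono_of_isPrime_of_isPrime hlt
    have hbot : (⊥ : Ideal A) < Q := bot_lt_iff_ne_bot.mpr hQ0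
    haveI : (⊥ : Ideal A).IsPrime := Ideal.isPrime_bot
    have h0 : (⊥ : Ideal A).height < Q.height := Ideal.height_strict_mono_of_isPrime_of_isPrime hbot
    have h2 : Q.height < 1 := lt_of_lt_of_le h1 hht
    rw [Order.lt_one_iff] at h2
    rw [h2] at h0
    exact not_lt_bot h0
  have hinj : Function.Injective (algebraMap A (Localization.AtPrime P)) :=
    IsLocalization.injective _ (Ideal.primeCompl_le_nonZeroDivisors P)
  haveI : IsDomain (Localization.AtPrime P) :=
    IsLocalization.isDomain_localization (Ideal.primeCompl_le_nonZeroDivisors P)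
  haveI : IsIntegrallyClosed (Localization.AtPrime P) :=
    isIntegrallyClosed_of_isLocalization (R := A) (S := Localization.AtPrime P) P.primeCompl
      (Ideal.primeCompl_le_nonZeroDivisors P)
  haveI : IsNoetherianRing (Localization.AtPrime P) :=
    IsLocalization.isNoetherianRing P.primeCompl _ inferInstance
  have h4 : IsIntegrallyClosed (Localization.AtPrime P) ∧
      ∀ P' : Ideal (Localization.AtPrime P), P' ≠ ⊥ → P'.IsPrime →
        P' = IsLocalRing.maximalIdeal (Localization.AtPrime P) := by
    refine ⟨inferInstance, fun P' hP'0 hP'p => ?_⟩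
    have hQP : P'.comap (algebraMap A (Localization.AtPrime P)) ≤ P := by
      have hd := ((IsLocalization.isPrime_iff_isPrime_disjoint P.primeCompl
        (Localization.AtPrime P) P').mp hP'p).2
      intro x hx
      by_contra hxP
      exact Set.disjoint_left.mp hd hxP hx
    have hmc : Ideal.map (algebraMap A (Localization.AtPrime P))
        (P'.comap (algebraMap A (Localization.AtPrime P))) = P' :=
      IsLocalization.map_under P.primeCompl (Localization.AtPrime P) P'
    have hQ0 : P'.comap (algebraMap A (Localization.AtPrime P)) ≠ ⊥ := by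
      intro h
      apply hP'0
      rw [← hmc, h, Ideal.map_bot]
    have := hQ _ (Ideal.comap_isPrime _ _) hQP hQ0
    rw [← hmc, this, Localization.AtPrime.map_eq_maximalIdeal]
  have tfae := tfae_of_isNoetherianRing_of_isLocalRing_of_isDomain (Localization.AtPrime P)
  have h5 : (IsLocalRing.maximalIdeal (Localization.AtPrime P)).IsPrincipal :=
    (tfae.out 3 4).mp h4
  have h7 : ∀ I : Ideal (Localization.AtPrime P), I ≠ ⊥ →
      ∃ n : ℕ, I = IsLocalRing.maximalIdeal (Localization.AtPrime P) ^ n := (tfae.out 3 6).mp h4
  obtain ⟨π, hπ⟩ := h5.principal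
  obtain ⟨⟨t, s⟩, hts⟩ := IsLocalization.surj P.primeCompl π
  have hmt : IsLocalRing.maximalIdeal (Localization.AtPrime P) =
      Ideal.span {algebraMap A (Localization.AtPrime P) t} := by
    rw [hπ]
    exact Ideal.span_singleton_eq_span_singleton.mpr
      ⟨(IsLocalization.map_units (Localization.AtPrime P) s).unit, hts⟩
  have htP : t ∈ P := by
    have : algebraMap A (Localization.AtPrime P) t ∈
        IsLocalRing.maximalIdeal (Localization.AtPrime P) := by
      rw [hmt]; exact Ideal.mem_span_singleton_self _
    exact (IsLocalization.AtPrime.to_map_mem_maximal_iff (Localization.AtPrime P) P t).mp this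
  have hz0' : Ideal.span {algebraMap A (Localization.AtPrime P) z} ≠ ⊥ := by
    rw [Ne, Ideal.span_singleton_eq_bot]
    intro h
    exact hz0 (hinj (by rw [h, map_zero]))
  obtain ⟨r, hr⟩ := h7 _ hz0'
  rw [hmt, Ideal.span_singleton_pow, Ideal.span_singleton_eq_span_singleton] at hr
  obtain ⟨u, hu⟩ := hr
  obtain ⟨⟨a, s'⟩, has⟩ := IsLocalization.surj P.primeCompl (u : Localization.AtPrime P)
  have haP : a ∉ P := by
    intro haP
    have : algebraMap A (Localization.AtPrime P) a ∈
        IsLocalRing.maximalIdeal (Localization.AtPrime P) :=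
      (IsLocalization.AtPrime.to_map_mem_maximal_iff (Localization.AtPrime P) P a).mpr haP
    rw [← has] at this
    exact (IsLocalRing.mem_maximalIdeal _).mp this
      (u.isUnit.mul (IsLocalization.map_units (Localization.AtPrime P) s'))
  have heq : z * a = t ^ r * s' := by
    apply hinj
    rw [map_mul, map_mul, map_pow, ← has, ← hu]; ring
  have hgen : ∀ S : Finset A, (∀ p ∈ S, p ∈ P) →
      ∃ w₁ : A, w₁ ∉ P ∧ ∀ p ∈ S, ∃ b, p * w₁ = b * t := by
    intro S
    induction S using Finset.induction_on with
    | empty =>
      intro _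
      exact ⟨1, (Ideal.ne_top_iff_one P).mp hPprime.ne_top, by simp⟩
    | insert p S hpS ih =>
      intro hS
      obtain ⟨w₀, hw₀, hw₀'⟩ := ih (fun q hq => hS q (Finset.mem_insert_of_mem hq))
      have hpP := hS p (Finset.mem_insert_self p S)
      have hmem : algebraMap A (Localization.AtPrime P) p ∈
          Ideal.span {algebraMap A (Localization.AtPrime P) t} := by
        rw [← hmt]
        exact (IsLocalization.AtPrime.to_map_mem_maximal_iff (Localization.AtPrime P) P p).mpr hpP
      obtain ⟨c, hc⟩ := Ideal.mem_span_singleton'.mp hmem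
      obtain ⟨⟨b, sp⟩, hb⟩ := IsLocalization.surj P.primeCompl c
      have hpeq : p * sp = b * t := by
        apply hinj
        rw [map_mul, map_mul, ← hc, ← hb]; ring
      refine ⟨w₀ * sp, fun h => (hPprime.mem_or_mem h).elim hw₀ sp.2, ?_⟩
      intro q hq
      rcases Finset.mem_insert.mp hq with hqp | hq
      · subst hqp
        exact ⟨b * w₀, by linear_combination w₀ * hpeq⟩
      · obtain ⟨b', hb'⟩ := hw₀' q hq
        exact ⟨b' * sp, by linear_combination (sp : A) * hb'⟩
  obtain ⟨S, hS⟩ := (IsNoetherian.noetherian P : P.FG)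
  obtain ⟨w₁, hw₁, hw₁'⟩ := hgen S (fun p hp => hS ▸ Ideal.subset_span hp)
  have hwP : a * s' * w₁ ∉ P := by
    intro h
    rcases hPprime.mem_or_mem h with h | h
    · rcases hPprime.mem_or_mem h with h | h
      · exact haP h
      · exact s'.2 h
    · exact hw₁ h
  refine ⟨a * s' * w₁, t, r, hwP, ?_, ?_⟩
  · have hu0 : IsUnit (algebraMap A (Localization.Away (a * s' * w₁)) (a * s' * w₁)) :=
      IsLocalization.Away.algebraMap_isUnit _
    have hu1 : IsUnit (algebraMap A (Localization.Away (a * s' * w₁)) a) :=
      isUnit_of_dvd_unit (map_dvd _ ⟨s' * w₁, by ring⟩) hu0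
    have hu2 : IsUnit (algebraMap A (Localization.Away (a * s' * w₁)) (s' : A)) :=
      isUnit_of_dvd_unit (map_dvd _ ⟨a * w₁, by ring⟩) hu0
    have h1 : algebraMap A (Localization.Away (a * s' * w₁)) z *
        algebraMap A (Localization.Away (a * s' * w₁)) a =
        algebraMap A (Localization.Away (a * s' * w₁)) t ^ r *
        algebraMap A (Localization.Away (a * s' * w₁)) (s' : A) := by
      rw [← map_mul, heq, map_mul, map_pow]
    apply le_antisymm
    · rw [Ideal.span_singleton_le_span_singleton, ← hu1.dvd_mul_right, h1]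
      exact Dvd.intro _ rfl
    · rw [Ideal.span_singleton_le_span_singleton, ← hu2.dvd_mul_right, ← h1]
      exact Dvd.intro _ rfl
  · have hu0 : IsUnit (algebraMap A (Localization.Away (a * s' * w₁)) (a * s' * w₁)) :=
      IsLocalization.Away.algebraMap_isUnit _
    have hu3 : IsUnit (algebraMap A (Localization.Away (a * s' * w₁)) w₁) :=
      isUnit_of_dvd_unit (map_dvd _ ⟨a * s', by ring⟩) hu0
    have hmap : Ideal.span {algebraMap A (Localization.Away (a * s' * w₁)) t} =
        P.map (algebraMap A (Localization.Away (a * s' * w₁))) := by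
      apply le_antisymm
      · rw [Ideal.span_le, Set.singleton_subset_iff]
        exact Ideal.mem_map_of_mem _ htP
      · rw [Ideal.map_le_iff_le_comap]
        refine hS.ge.trans (Ideal.span_le.mpr ?_)
        intro p hp
        obtain ⟨b, hb⟩ := hw₁' p hp
        rw [SetLike.mem_coe, Ideal.mem_comap, Ideal.mem_span_singleton, ← hu3.dvd_mul_right]
        exact ⟨algebraMap A (Localization.Away (a * s' * w₁)) b, by
          rw [← map_mul, hb, map_mul]; exact mul_comm _ _⟩
    rw [hmap]
    exact IsLocalization.isPrime_of_isPrime_disjoint (Submonoid.powers (a * s' * w₁)) _ P hPprime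
      ((Ideal.disjoint_powers_iff_notMem_of_isPrime _).mpr hwP)

end Groth.Agent.S18391
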