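import Groth.Statements.S18392
import Mathlib.RingTheory.Ideal.KrullsHeightTheorem
import Mathlib.RingTheory.Localization.AtPrime.Basic

set_option autoImplicit false
universe u
open LVCorr

namespace Groth.Agent.S18392

/-- Let A be a normal (integrally closed) Noetherian domain and z an element of A such that the radical
of (z) is prime. Then for every non-empty open subset V of Spec A contained in the basic open set
D(z) (that is, every non-empty open subset of Spec A[1/z]) there is an element x of A, not in the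
radical of (z), such that the basic open set D(xz) = Spec A[1/xz] is contained in V. -/
theorem result (A : Type u) [CommRing A]
    [IsDomain A] [IsNoetherianRing A] [IsIntegrallyClosed A] (z : A)
    (hz : (Ideal.span {z}).radical.IsPrime) (V : Set (PrimeSpectrum A)) (hV : IsOpen V)
    (hVz : V ⊆ (PrimeSpectrum.basicOpen z : Set (PrimeSpectrum A))) (hne : V.Nonempty) :
    ∃ x : A, x ∉ (Ideal.span {z}).radical ∧
      ((PrimeSpectrum.basicOpen (x * z) : TopologicalSpace.Opens (PrimeSpectrum A)) :
        Set (PrimeSpectrum A)) ⊆ V := by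
  classical
  obtain ⟨P, hP⟩ : ∃ P : Ideal A, P = (Ideal.span {z}).radical := ⟨_, rfl⟩
  rw [← hP] at hz ⊢
  haveI hPprime : P.IsPrime := hz
  have hzP : z ∈ P := by rw [hP]; exact Ideal.le_radical (Ideal.mem_span_singleton_self z)
  obtain ⟨p, hpV⟩ := hne
  obtain ⟨_, ⟨g, rfl⟩, hpg, hgV⟩ :=
    PrimeSpectrum.isTopologicalBasis_basic_opens.exists_subset_of_mem_open hpV hV
  have hg0 : g ≠ 0 := by
    rintro rfl
    simp at hpg
  have hgP : g ∈ P := by
    have : PrimeSpectrum.basicOpen g ≤ PrimeSpectrum.basicOpen z := fun q hq => hVz (hgV hq)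
    rw [hP]
    exact (PrimeSpectrum.basicOpen_le_basicOpen_iff g z).mp this
  have hmin : P ∈ (Ideal.span {z}).minimalPrimes := by
    refine ⟨⟨hz, by rw [hP]; exact Ideal.le_radical⟩, fun Q hQ _ => ?_⟩
    rw [hP]
    exact hQ.1.radical_le_iff.mpr hQ.2
  have hht : P.height ≤ 1 :=
    Ideal.height_le_one_of_isPrincipal_of_mem_minimalPrimes _ _ hmin
  have hQ : ∀ Q : Ideal A, Q.IsPrime → Q ≤ P → g ∈ Q → Q = P := by
    intro Q hQp hQP hgQ
    by_contra hne
    have hlt : Q < P := lt_of_le_of_ne hQP hne
    have h1 : Q.height < P.height :=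
      Ideal.height_strict_mono_of_isPrime_of_isPrime hlt
    have hbot : (⊥ : Ideal A) < Q := by
      rw [bot_lt_iff_ne_bot]
      rintro rfl
      exact hg0 (by simpa using hgQ)
    haveI : (⊥ : Ideal A).IsPrime := Ideal.isPrime_bot
    have h0 : (⊥ : Ideal A).height < Q.height := Ideal.height_strict_mono_of_isPrime_of_isPrime hbot
    have h2 : Q.height < 1 := lt_of_lt_of_le h1 hht
    rw [ENat.lt_one_iff_eq_zero] at h2
    rw [h2] at h0
    exact not_lt_bot h0
  have hrad : algebraMap A (Localization.AtPrime P) z ∈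
      (Ideal.span {algebraMap A (Localization.AtPrime P) g}).radical := by
    rw [Ideal.radical_eq_sInf, Ideal.mem_sInf]
    rintro Q' ⟨hgQ', hQ'p⟩
    have hgQ : g ∈ Q'.comap (algebraMap A (Localization.AtPrime P)) :=
      hgQ' (Ideal.subset_span rfl)
    have hQP : Q'.comap (algebraMap A (Localization.AtPrime P)) ≤ P := by
      have hd := ((IsLocalization.isPrime_iff_isPrime_disjoint P.primeCompl
        (Localization.AtPrime P) Q').mp hQ'p).2
      intro x hx
      by_contra hxP
      exact Set.disjoint_left.mp hd hxP hx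
    have hcomap := hQ _ (Ideal.comap_isPrime _ _) hQP hgQ
    have hzQ : z ∈ Q'.comap (algebraMap A (Localization.AtPrime P)) := by
      rw [hcomap]; exact hzP
    exact hzQ
  obtain ⟨a, ha⟩ := hrad
  rw [Ideal.mem_span_singleton'] at ha
  obtain ⟨w, hw⟩ := ha
  obtain ⟨⟨s, t⟩, hst⟩ := IsLocalization.surj P.primeCompl w
  have heq : algebraMap A (Localization.AtPrime P) (s * g) =
      algebraMap A (Localization.AtPrime P) ((t : A) * z ^ a) := by
    rw [map_mul, map_mul, map_pow, ← hw, ← hst]; ring
  have hinj : Function.Injective (algebraMap A (Localization.AtPrime P)) :=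
    IsLocalization.injective _ (Ideal.primeCompl_le_nonZeroDivisors P)
  have heq' := hinj heq
  refine ⟨t, t.2, ?_⟩
  have hle : PrimeSpectrum.basicOpen ((t : A) * z) ≤ PrimeSpectrum.basicOpen g := by
    rw [PrimeSpectrum.basicOpen_le_basicOpen_iff]
    refine ⟨a + 1, ?_⟩
    rw [Ideal.mem_span_singleton]
    refine ⟨(t : A) ^ a * z * s, ?_⟩
    linear_combination ((t : A) ^ a * z) * heq'.symm
  exact fun q hq => hgV (hle hq)

end Groth.Agent.S18392
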