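import Groth.Statements.S18397
import Groth.Agent.H99.LVFrobCore
import Groth.Agent.H99.LVFrobG
import Groth.Agent.H99.LVFrobW

set_option autoImplicit false
set_option linter.style.haveILetI false
universe u
open LVCorr

namespace Groth.Agent.S18397

open AlgebraicGeometry CategoryTheory CategoryTheory.Limits in
/-- Let k₀ be a finite field with p^e elements, K an algebraic closure of k₀, C₀ a scheme locally of
finite type over k₀, C = C₀ ×_{k₀} Spec K with its projections, and Fr : C → C the n-th power of the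
geometric Frobenius (over K, compatible with the (e·n)-th power of the absolute p-Frobenius of C₀).
Let X be locally of finite type over K and c₁, c₂ : C → X morphisms over K with c₂ quasi-finite, and
let d < p^(e n) be such that for every closed point x of X, with J_x the inverse image under c₂ of
the ideal sheaf of the reduced point x, one has (√J_x)^d ⊂ J_x (d bounds the ramification of c₂).
Then the twisted correspondence (c₁ ∘ Fr, c₂) is contracting near every closed point in a
neighbourhood of its fixed points: for every closed point x of X there is an open subset W of C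
containing every point of C whose image under (c₁ ∘ Fr, c₂) : C → X ×_K X lies in the diagonal, such
that, writing L and J for the inverse image ideal sheaves on W of the ideal of x under c₁ ∘ Fr and
under c₂, one has L ⊂ J and L^k ⊂ J^(k+1) for some k. (In the source the correspondence is defined
over k₀ and the twist is written with the geometric Frobenius of X.) -/
theorem result {C C₀ X : Scheme.{u}}
    (p : ℕ) [Fact p.Prime] (k₀ : Type u) [Field k₀] [Fintype k₀] [CharP k₀ p] (e : ℕ)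
    (hq : Fintype.card k₀ = p ^ e) (K : Type u) [Field K] [Algebra k₀ K] [IsAlgClosure k₀ K]
    (f₀ : C₀ ⟶ Spec (CommRingCat.of k₀)) [LocallyOfFiniteType f₀] [FrobSch.IsCharP C₀ p]
    (πC₀ : C ⟶ C₀) (πK : C ⟶ Spec (CommRingCat.of K))
    (hC : IsPullback πC₀ πK f₀ (Spec.map (CommRingCat.ofHom (algebraMap k₀ K))))
    (n : ℕ) (Fr : C ⟶ C)
    (hFr₀ : Fr ≫ πC₀ = πC₀ ≫ End.asHom (End.of (FrobSch.frob C₀ p) ^ (e * n)))
    (hFrK : Fr ≫ πK = πK)
    (pX : X ⟶ Spec (CommRingCat.of K)) [LocallyOfFiniteType pX]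
    (c₁ c₂ : C ⟶ X) (hc₁ : c₁ ≫ pX = πK) (hc₂ : c₂ ≫ pX = πK)
    [LocallyQuasiFinite c₂] [LocallyOfFiniteType c₂]
    (hcomm : (Fr ≫ c₁) ≫ pX = c₂ ≫ pX) (d : ℕ) (hn : d < p ^ (e * n))
    (hd : ∀ (x : X) (hx : IsClosed ({x} : Set X)),
      ((Scheme.IdealSheafData.vanishingIdeal ⟨{x}, hx⟩).comap c₂).radical ^ d ≤
        (Scheme.IdealSheafData.vanishingIdeal ⟨{x}, hx⟩).comap c₂)
    (x : X) (hx : IsClosed ({x} : Set X)) :
    ∃ W : C.Opens,
      (pullback.lift (Fr ≫ c₁) c₂ hcomm).base ⁻¹' Set.range (pullback.diagonal pX).base ⊆ (W : Set C) ∧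
      (Scheme.IdealSheafData.vanishingIdeal ⟨{x}, hx⟩).comap (W.ι ≫ Fr ≫ c₁) ≤
        (Scheme.IdealSheafData.vanishingIdeal ⟨{x}, hx⟩).comap (W.ι ≫ c₂) ∧
      ∃ k : ℕ, (Scheme.IdealSheafData.vanishingIdeal ⟨{x}, hx⟩).comap (W.ι ≫ Fr ≫ c₁) ^ k ≤
        (Scheme.IdealSheafData.vanishingIdeal ⟨{x}, hx⟩).comap (W.ι ≫ c₂) ^ (k + 1) := by
  haveI : FrobSch.IsCharP C p := FrobSch.IsCharP.of_hom πC₀ p
  obtain ⟨B, hB⟩ := Groth.Agent.H99.LVFrobG.exists_factorization p k₀ e hq K f₀ πC₀ πK hC n Fr hFr₀ hFrK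
  set I := Scheme.IdealSheafData.vanishingIdeal ⟨{x}, hx⟩ with hI
  have hIsupp : (I.support : Set X) = {x} := by
    rw [hI, Scheme.IdealSheafData.coe_support_vanishingIdeal]
    rfl
  let S : Set C := c₂.base ⁻¹' {x} \ (Fr ≫ c₁).base ⁻¹' {x}
  have hSclosed : IsClosed S :=
    Groth.Agent.H99.LVFrobW.isClosed_of_subset_of_isDiscrete (hx.preimage c₂.continuous)
      (c₂.isDiscrete_preimage_singleton x) Set.sdiff_subset
  let W : C.Opens := ⟨Sᶜ, hSclosed.isOpen_compl⟩
  haveI : FrobSch.IsCharP W p := FrobSch.IsCharP.of_hom W.ι p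
  have hL : I.comap (W.ι ≫ Fr ≫ c₁) =
      (I.comap (W.ι ≫ B ≫ c₁)).comap (Groth.Agent.H99.LVFrob.frobPow W p (e * n)) := by
    rw [← Scheme.IdealSheafData.comap_comp]
    congr 1
    rw [hB, ← Category.assoc, ← Category.assoc, ← Category.assoc,
      Groth.Agent.H99.LVFrobA.frobPow_comp p W.ι (e * n)]
    simp only [Category.assoc]
  have hsupp : (I.comap (W.ι ≫ c₂)).support ≤ (I.comap (W.ι ≫ Fr ≫ c₁)).support := by
    rw [Scheme.IdealSheafData.support_comap, Scheme.IdealSheafData.support_comap]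
    intro w hw
    have hw1 : (W.ι ≫ c₂).base w ∈ (I.support : Set X) := hw
    rw [hIsupp] at hw1
    show (W.ι ≫ Fr ≫ c₁).base w ∈ (I.support : Set X)
    rw [hIsupp]
    by_contra hne
    exact w.2 ⟨hw1, hne⟩
  have hd' : (I.comap (W.ι ≫ c₂)).radical ^ d ≤ I.comap (W.ι ≫ c₂) := by
    rw [Scheme.IdealSheafData.comap_comp]
    exact Groth.Agent.H99.LVFrobW.radical_pow_le_comap_of_isOpenImmersion W.ι _ d (hd x hx)
  rw [hL] at hsupp
  have key := Groth.Agent.H99.LVFrobCore.scheme_core (Groth.Agent.H99.LVFrob.frobPow W p (e * n))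
    (p ^ (e * n)) (Groth.Agent.H99.LVFrobA.frobPow_preimage W p (e * n))
    (Groth.Agent.H99.LVFrobA.frobPow_appLE W p (e * n)) _ _ d hd' hn hsupp
  rw [← hL] at key
  refine ⟨W, ?_, key.1, d, key.2⟩
  rintro y ⟨z, hz⟩
  show y ∈ Sᶜ
  rintro ⟨hy1, hy2⟩
  apply hy2
  have h1 : (Fr ≫ c₁).base y = z := by
    have := congrArg (pullback.fst pX pX).base hz
    rw [← Scheme.Hom.comp_apply, ← Scheme.Hom.comp_apply, pullback.diagonal_fst,
      pullback.lift_fst] at this
    exact this.symm
  have h2 : c₂.base y = z := by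
    have := congrArg (pullback.snd pX pX).base hz
    rw [← Scheme.Hom.comp_apply, ← Scheme.Hom.comp_apply, pullback.diagonal_snd,
      pullback.lift_snd] at this
    exact this.symm
  show (Fr ≫ c₁).base y = x
  rw [h1, ← h2]
  exact hy1

end Groth.Agent.S18397
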