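import Groth.Statements.S18399
import Groth.Agent.H23.RegularSeq3
import Mathlib.Tactic

set_option autoImplicit false
universe u
open CAlg

namespace Groth.Agent.S18399

section Aux
open IsLocalRing

variable {k : Type u} [Field k] {A : Type u} [CommRing A] [Algebra k A] [IsLocalRing A]

/-- generators of the fixed ideal -/
def gens (σ : A →ₐ[k] A) : Set A := Set.range fun a : A => a - σ a

theorem exists_sub_mem (hres : Function.Surjective (algebraMap k (ResidueField A))) (a : A) :
    ∃ c : k, a - algebraMap k A c ∈ maximalIdeal A := by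
  obtain ⟨c, hc⟩ := hres (residue A a)
  refine ⟨c, ?_⟩
  have h1 : residue A (algebraMap k A c) = residue A a := by
    rw [← hc, IsScalarTower.algebraMap_apply k A (ResidueField A), ResidueField.algebraMap_eq]
  apply (residue_eq_zero_iff _).mp
  rw [map_sub, h1, sub_self]

theorem map_mem_maximalIdeal (σ : A →ₐ[k] A) (n : ℕ) (hσ : ∀ a, (σ ^ n) a = a) (hn0 : n ≠ 0)
    (a : A) (ha : a ∈ maximalIdeal A) : σ a ∈ maximalIdeal A := by
  rw [mem_maximalIdeal, mem_nonunits_iff] at ha ⊢
  intro hu
  apply ha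
  obtain ⟨m, rfl⟩ : ∃ m, n = m + 1 := ⟨n - 1, by omega⟩
  have h1 : (σ ^ m) (σ a) = a := by
    have h2 := hσ a
    rwa [pow_succ, AlgHom.mul_apply] at h2
  rw [← h1]
  exact hu.map (σ ^ m)

theorem pow_mem_maximalIdeal (σ : A →ₐ[k] A) (n : ℕ) (hσ : ∀ a, (σ ^ n) a = a) (hn0 : n ≠ 0)
    (i : ℕ) (a : A) (ha : a ∈ maximalIdeal A) : (σ ^ i) a ∈ maximalIdeal A := by
  induction i with
  | zero => rw [pow_zero, AlgHom.one_apply]; exact ha
  | succ i ih =>
    rw [pow_succ', AlgHom.mul_apply]
    exact map_mem_maximalIdeal σ n hσ hn0 _ ih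

theorem gens_subset (hres : Function.Surjective (algebraMap k (ResidueField A)))
    (σ : A →ₐ[k] A) (n : ℕ) (hσ : ∀ a, (σ ^ n) a = a) (hn0 : n ≠ 0) :
    ∀ x ∈ gens σ, x ∈ maximalIdeal A := by
  rintro x ⟨a, rfl⟩
  obtain ⟨c, hc⟩ := exists_sub_mem hres a
  have h1 : a - σ a = (a - algebraMap k A c) - σ (a - algebraMap k A c) := by
    rw [map_sub, AlgHom.commutes]; ring
  show a - σ a ∈ _
  rw [h1]
  exact sub_mem hc (map_mem_maximalIdeal σ n hσ hn0 _ hc)

theorem sub_map_mem (σ : A →ₐ[k] A) (n : ℕ) (hσ : ∀ a, (σ ^ n) a = a) (hn0 : n ≠ 0)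
    (y : A) (hy : y ∈ maximalIdeal A * maximalIdeal A) :
    y - σ y ∈ maximalIdeal A * Ideal.span (gens σ) := by
  rw [← Ideal.smul_eq_mul] at hy
  refine Submodule.smul_induction_on hy ?_ ?_
  · intro m hm n' hn'
    have h1 : m • n' - σ (m • n') = m * (n' - σ n') + σ n' * (m - σ m) := by
      rw [smul_eq_mul, map_mul]; ring
    rw [h1]
    exact add_mem (Ideal.mul_mem_mul hm (Ideal.subset_span ⟨n', rfl⟩))
      (Ideal.mul_mem_mul (map_mem_maximalIdeal σ n hσ hn0 n' hn')
        (Ideal.subset_span ⟨m, rfl⟩))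
  · intro x y hx hy
    have h1 : x + y - σ (x + y) = (x - σ x) + (y - σ y) := by rw [map_add]; ring
    rw [h1]; exact add_mem hx hy

theorem sq_stable (σ : A →ₐ[k] A) (n : ℕ) (hσ : ∀ a, (σ ^ n) a = a) (hn0 : n ≠ 0)
    (y : A) (hy : y ∈ maximalIdeal A * maximalIdeal A) :
    σ y ∈ maximalIdeal A * maximalIdeal A := by
  rw [← Ideal.smul_eq_mul] at hy
  refine Submodule.smul_induction_on hy ?_ ?_
  · intro m hm n' hn'
    rw [smul_eq_mul, map_mul]
    exact Ideal.mul_mem_mul (map_mem_maximalIdeal σ n hσ hn0 m hm)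
      (map_mem_maximalIdeal σ n hσ hn0 n' hn')
  · intro x y hx hy
    rw [map_add]; exact add_mem hx hy

theorem pow_sq_stable (σ : A →ₐ[k] A) (n : ℕ) (hσ : ∀ a, (σ ^ n) a = a) (hn0 : n ≠ 0)
    (i : ℕ) (y : A) (hy : y ∈ maximalIdeal A * maximalIdeal A) :
    (σ ^ i) y ∈ maximalIdeal A * maximalIdeal A := by
  induction i with
  | zero => rw [pow_zero, AlgHom.one_apply]; exact hy
  | succ i ih =>
    rw [pow_succ', AlgHom.mul_apply]
    exact sq_stable σ n hσ hn0 _ ih

theorem sub_pow_mem (σ : A →ₐ[k] A) (n : ℕ) (hσ : ∀ a, (σ ^ n) a = a) (hn0 : n ≠ 0)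
    (i : ℕ) (y : A) (hy : y ∈ maximalIdeal A * maximalIdeal A) :
    y - (σ ^ i) y ∈ maximalIdeal A * Ideal.span (gens σ) := by
  induction i with
  | zero => rw [pow_zero, AlgHom.one_apply, sub_self]; exact Submodule.zero_mem _
  | succ i ih =>
    have h1 : y - (σ ^ (i + 1)) y = (y - (σ ^ i) y) + ((σ ^ i) y - σ ((σ ^ i) y)) := by
      rw [pow_succ', AlgHom.mul_apply]; ring
    rw [h1]
    exact add_mem ih (sub_map_mem σ n hσ hn0 _ (pow_sq_stable σ n hσ hn0 i y hy))

theorem sum_pow_eq_zero (σ : A →ₐ[k] A) (n : ℕ) (hσ : ∀ a, (σ ^ n) a = a)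
    (u : A) (hu : u ∈ Submodule.span k (gens σ)) :
    ∑ i ∈ Finset.range n, (σ ^ i) u = 0 := by
  induction hu using Submodule.span_induction with
  | mem x hx =>
    obtain ⟨a, rfl⟩ := hx
    have h1 : ∀ i, (σ ^ i) (a - σ a) = (σ ^ i) a - (σ ^ (i + 1)) a := by
      intro i
      rw [map_sub, pow_succ, AlgHom.mul_apply]
    show ∑ i ∈ Finset.range n, (σ ^ i) (a - σ a) = 0
    simp only [h1]
    rw [Finset.sum_range_sub' (fun i => (σ ^ i) a) n, pow_zero, AlgHom.one_apply, hσ a,
      sub_self]
  | zero => simp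
  | add x y _ _ hx hy => simp only [map_add, Finset.sum_add_distrib, hx, hy, add_zero]
  | smul c x _ hx => simp only [map_smul, ← Finset.smul_sum, hx, smul_zero]

theorem span_k_le (σ : A →ₐ[k] A) (u : A) (hu : u ∈ Submodule.span k (gens σ)) :
    u ∈ Ideal.span (gens σ) := by
  induction hu using Submodule.span_induction with
  | mem x hx => exact Ideal.subset_span hx
  | zero => exact Submodule.zero_mem _
  | add x y _ _ hx hy => exact Submodule.add_mem _ hx hy
  | smul c x _ hx => rw [Algebra.smul_def]; exact Ideal.mul_mem_left _ _ hx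

theorem exists_decomp (hres : Function.Surjective (algebraMap k (ResidueField A)))
    (σ : A →ₐ[k] A) (u : A) (hu : u ∈ Ideal.span (gens σ)) :
    ∃ u' ∈ Submodule.span k (gens σ),
      u - u' ∈ maximalIdeal A * Ideal.span (gens σ) := by
  induction hu using Submodule.span_induction with
  | mem x hx =>
    exact ⟨x, Submodule.subset_span hx, by rw [sub_self]; exact Submodule.zero_mem _⟩
  | zero => exact ⟨0, Submodule.zero_mem _, by rw [sub_self]; exact Submodule.zero_mem _⟩
  | add x y _ _ hx hy =>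
    obtain ⟨x', hx', hxx⟩ := hx
    obtain ⟨y', hy', hyy⟩ := hy
    refine ⟨x' + y', Submodule.add_mem _ hx' hy', ?_⟩
    have h1 : x + y - (x' + y') = (x - x') + (y - y') := by ring
    rw [h1]; exact add_mem hxx hyy
  | smul b x _ hx =>
    obtain ⟨x', hx', hxx⟩ := hx
    obtain ⟨c, hc⟩ := exists_sub_mem hres b
    refine ⟨c • x', Submodule.smul_mem _ c hx', ?_⟩
    have h1 : b • x - c • x' = b * (x - x') + (b - algebraMap k A c) * x' := by
      rw [smul_eq_mul, Algebra.smul_def]; ring
    rw [h1]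
    exact add_mem (Ideal.mul_mem_left _ _ hxx) (Ideal.mul_mem_mul hc (span_k_le σ x' hx'))

theorem mem_mul_of_mem_sq (hres : Function.Surjective (algebraMap k (ResidueField A)))
    (σ : A →ₐ[k] A) (n : ℕ) (hσ : ∀ a, (σ ^ n) a = a) (hn : (n : k) ≠ 0)
    (u : A) (hu : u ∈ Ideal.span (gens σ))
    (hu2 : u ∈ maximalIdeal A ^ 2) : u ∈ maximalIdeal A * Ideal.span (gens σ) := by
  have hn0 : n ≠ 0 := by rintro rfl; exact hn Nat.cast_zero
  have hJle : Ideal.span (gens σ) ≤ maximalIdeal A :=
    Ideal.span_le.mpr (gens_subset hres σ n hσ hn0)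
  obtain ⟨u', hu', huu⟩ := exists_decomp hres σ u hu
  have hu'2 : u' ∈ maximalIdeal A * maximalIdeal A := by
    have h1 : u' = u - (u - u') := by ring
    rw [h1, ← pow_two]
    refine sub_mem hu2 ?_
    rw [pow_two]
    exact Ideal.mul_mono_right hJle huu
  have hsum : ∑ i ∈ Finset.range n, (u' - (σ ^ i) u') ∈
      maximalIdeal A * Ideal.span (gens σ) :=
    Ideal.sum_mem _ (fun i _ => sub_pow_mem σ n hσ hn0 i u' hu'2)
  rw [Finset.sum_sub_distrib, sum_pow_eq_zero σ n hσ u' hu', sub_zero, Finset.sum_const,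
    Finset.card_range] at hsum
  have h2 : u' = (n : k)⁻¹ • ((n : k) • u') := by
    rw [smul_smul, inv_mul_cancel₀ hn, one_smul]
  have h3 : (n : k) • u' = n • u' := Nat.cast_smul_eq_nsmul k n u'
  have h4 : u' ∈ maximalIdeal A * Ideal.span (gens σ) := by
    rw [h2, h3, Algebra.smul_def]
    exact Ideal.mul_mem_left _ _ hsum
  have h5 : u = u' + (u - u') := by ring
  rw [h5]; exact add_mem h4 huu

theorem exists_lift_span {ι : Type*} (x : ι → maximalIdeal A) (v : (maximalIdeal A).Cotangent)
    (hv : v ∈ Submodule.span (ResidueField A)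
      (Set.range fun i => (maximalIdeal A).toCotangent (x i))) :
    ∃ y : maximalIdeal A, (y : A) ∈ Ideal.span (Set.range fun i => (x i : A)) ∧
      (maximalIdeal A).toCotangent y = v := by
  induction hv using Submodule.span_induction with
  | mem w hw =>
    obtain ⟨i, rfl⟩ := hw
    exact ⟨x i, Ideal.subset_span ⟨i, rfl⟩, rfl⟩
  | zero => exact ⟨0, by simp, map_zero _⟩
  | add w₁ w₂ _ _ h₁ h₂ =>
    obtain ⟨y₁, hy₁, rfl⟩ := h₁
    obtain ⟨y₂, hy₂, rfl⟩ := h₂
    exact ⟨y₁ + y₂, by rw [Submodule.coe_add]; exact Ideal.add_mem _ hy₁ hy₂, map_add _ _ _⟩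
  | smul c w _ h =>
    obtain ⟨y, hy, rfl⟩ := h
    obtain ⟨r, rfl⟩ := residue_surjective c
    refine ⟨r • y, ?_, ?_⟩
    · show r * (y : A) ∈ _
      exact Ideal.mul_mem_left _ _ hy
    · rw [map_smul, ← ResidueField.algebraMap_eq, algebraMap_smul]

end Aux

/-- Let k be a field and A a regular local k-algebra with residue field k (the structure map from k onto
the residue field of A is surjective), let σ be a k-algebra endomorphism of A of finite order n with
n invertible in k, and let I_σ be the ideal of A generated by the elements f - σ f. Then I_σ is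
generated by finitely many elements of the maximal ideal whose classes in the cotangent space m/m^2
are linearly independent over the residue field. (Such elements are part of a regular system of
parameters of A, hence part of a regular sequence, which is the printed conclusion; the generators
with independent classes are what the argument produces.) -/
theorem result {k : Type u} [Field k] {A : Type u} [CommRing A] [Algebra k A] [IsRegularLocalRing A] (hres : Function.Surjective ⇑(algebraMap k (IsLocalRing.ResidueField A))) (σ : A →ₐ[k] A) (n : ℕ) (hσ : ∀ a : A, (⇑σ)^[n] a = a) (hn : (n : k) ≠ 0) : ∃ (m : ℕ) (f : Fin m → ↥(IsLocalRing.maximalIdeal A)), Ideal.span (Set.range fun i : Fin m => (f i : A)) = Ideal.span (Set.range fun a : A => a - σ a) ∧ LinearIndependent (IsLocalRing.ResidueField A) (fun i : Fin m => (IsLocalRing.maximalIdeal A).toCotangent (f i)) := by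
  classical
  have hσ' : ∀ a : A, (σ ^ n) a = a := fun a => by rw [AlgHom.coe_pow]; exact hσ a
  have hn0 : n ≠ 0 := by rintro rfl; exact hn Nat.cast_zero
  have hJle : Ideal.span (gens σ) ≤ IsLocalRing.maximalIdeal A :=
    Ideal.span_le.mpr (gens_subset hres σ n hσ' hn0)
  let T : Set ((IsLocalRing.maximalIdeal A).Cotangent) :=
    {v | ∃ a : IsLocalRing.maximalIdeal A, (a : A) ∈ Ideal.span (gens σ) ∧
      (IsLocalRing.maximalIdeal A).toCotangent a = v}
  obtain ⟨b, hbT, hbspan, hbli⟩ := exists_linearIndependent (IsLocalRing.ResidueField A) T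
  have hbfin : b.Finite := hbli.setFinite
  haveI : Fintype b := hbfin.fintype
  let e := Fintype.equivFin b
  have hex : ∀ i : Fin (Fintype.card b), ∃ a : IsLocalRing.maximalIdeal A,
      (a : A) ∈ Ideal.span (gens σ) ∧
      (IsLocalRing.maximalIdeal A).toCotangent a =
        ((e.symm i : b) : (IsLocalRing.maximalIdeal A).Cotangent) :=
    fun i => hbT (e.symm i).2
  choose x hxJ hxv using hex
  have hli : LinearIndependent (IsLocalRing.ResidueField A)
      (fun i => (IsLocalRing.maximalIdeal A).toCotangent (x i)) := by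
    have h1 : (fun i => (IsLocalRing.maximalIdeal A).toCotangent (x i)) =
        (Subtype.val : b → _) ∘ e.symm := by
      funext i; exact hxv i
    rw [h1]
    exact hbli.comp _ e.symm.injective
  have hrange : Set.range (fun i => (IsLocalRing.maximalIdeal A).toCotangent (x i)) = b := by
    ext v; constructor
    · rintro ⟨i, rfl⟩
      show (IsLocalRing.maximalIdeal A).toCotangent (x i) ∈ b
      rw [hxv i]; exact (e.symm i).2
    · intro hv
      exact ⟨e ⟨v, hv⟩, by simp only [hxv, Equiv.symm_apply_apply]⟩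
  have hspanle : Ideal.span (Set.range fun i => (x i : A)) ≤ Ideal.span (gens σ) := by
    rw [Ideal.span_le]; rintro _ ⟨i, rfl⟩; exact hxJ i
  have hJ : Ideal.span (gens σ) = Ideal.span (Set.range fun i => (x i : A)) := by
    refine le_antisymm ?_ hspanle
    refine Submodule.le_of_le_smul_of_le_jacobson_bot (I := IsLocalRing.maximalIdeal A)
      (IsNoetherian.noetherian _) (IsLocalRing.maximalIdeal_le_jacobson ⊥) ?_
    intro u hu
    have hum : u ∈ IsLocalRing.maximalIdeal A := hJle hu
    have hT : (IsLocalRing.maximalIdeal A).toCotangent ⟨u, hum⟩ ∈ T := ⟨⟨u, hum⟩, hu, rfl⟩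
    have hsp : (IsLocalRing.maximalIdeal A).toCotangent ⟨u, hum⟩ ∈
        Submodule.span (IsLocalRing.ResidueField A)
          (Set.range fun i => (IsLocalRing.maximalIdeal A).toCotangent (x i)) := by
      rw [hrange, hbspan]; exact Submodule.subset_span hT
    obtain ⟨y, hy, hyv⟩ := exists_lift_span x _ hsp
    have h0 : (IsLocalRing.maximalIdeal A).toCotangent (⟨u, hum⟩ - y) = 0 := by
      rw [map_sub, hyv, sub_self]
    rw [Ideal.toCotangent_eq_zero] at h0
    have h0' : u - (y : A) ∈ IsLocalRing.maximalIdeal A ^ 2 := h0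
    have h1 : u - (y : A) ∈ IsLocalRing.maximalIdeal A * Ideal.span (gens σ) :=
      mem_mul_of_mem_sq hres σ n hσ' hn _ (sub_mem hu (hspanle hy)) h0'
    have h2 : u = (y : A) + (u - y) := by ring
    rw [h2]
    exact Submodule.add_mem_sup hy (by rw [Ideal.smul_eq_mul]; exact h1)
  exact ⟨Fintype.card b, x, hJ.symm, hli⟩

end Groth.Agent.S18399
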