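import Groth.Statements.S18402
import Mathlib

set_option autoImplicit false
universe u
open Pi1

namespace Groth.Agent.S18402

open AlgebraicGeometry CategoryTheory CategoryTheory.Limits

/-- topological core: images of clopen sets are closed -/
theorem isClosed_image_of_isClopen {P Z : Type*} [TopologicalSpace P] [TopologicalSpace Z]
    (p : P → Z) (hsurj : Function.Surjective p) (hgen : GeneralizingMap p)
    (hfib : ∀ z, IsPreconnected (p ⁻¹' {z})) (G : Set Z) (hG : G.Finite)
    (hGdom : ∀ z, ∃ γ ∈ G, γ ⤳ z) (T : Set P) (hT : IsClopen T) : IsClosed (p '' T) := by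
  have hgenz : ∀ T : Set P, IsClopen T → StableUnderGeneralization (p '' T) := by
    intro T hT z z' hz'z hz
    obtain ⟨t, htT, rfl⟩ := hz
    obtain ⟨t', ht't, rfl⟩ := hgen hz'z
    exact ⟨t', hT.isOpen.stableUnderGeneralization ht't htT, rfl⟩
  have hdisj : ∀ z, z ∈ p '' T → z ∈ p '' Tᶜ → False := by
    rintro z ⟨t₁, ht₁, rfl⟩ ⟨t₂, ht₂, h12⟩
    have hsub : p ⁻¹' {p t₁} ⊆ T := (hfib (p t₁)).subset_isClopen hT ⟨t₁, rfl, ht₁⟩
    exact ht₂ (hsub h12)
  have hspec : ∀ z z'', z ⤳ z'' → z ∈ p '' T → z'' ∈ p '' T := by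
    intro z z'' hzz'' hz
    by_contra hz''
    obtain ⟨t'', rfl⟩ := hsurj z''
    have ht'' : t'' ∈ Tᶜ := fun h => hz'' ⟨t'', h, rfl⟩
    have : z ∈ p '' Tᶜ := hgenz Tᶜ hT.compl hzz'' ⟨t'', ht'', rfl⟩
    exact hdisj z hz this
  have heq : p '' T = ⋃ γ ∈ G ∩ p '' T, closure {γ} := by
    ext z
    simp only [Set.mem_iUnion, exists_prop]
    constructor
    · intro hz
      obtain ⟨γ, hγG, hγz⟩ := hGdom z
      exact ⟨γ, ⟨hγG, hgenz T hT hγz hz⟩, hγz.mem_closure⟩
    · rintro ⟨γ, ⟨-, hγS⟩, hz⟩
      exact hspec γ z (specializes_iff_mem_closure.mpr hz) hγS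
  rw [heq]
  exact (hG.subset Set.inter_subset_left).isClosed_biUnion fun _ _ => isClosed_closure

theorem core {X W Z : Scheme.{u}} [IrreducibleSpace X] (ζ : Z ⟶ X) (π : W ⟶ X) [IsFinite ζ]
    [Etale ζ] [Flat π] [GeometricallyIrreducible π] [ConnectedSpace Z] :
    ConnectedSpace ↥(pullback ζ π) := by
  have hsurj : Function.Surjective (pullback.fst ζ π) := (pullback.fst ζ π).surjective
  have hgen : GeneralizingMap (pullback.fst ζ π) := Flat.generalizingMap (pullback.fst ζ π)
  have hfib : ∀ z : Z, _root_.IsPreconnected ((pullback.fst ζ π) ⁻¹' {z}) := by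
    intro z
    rw [← (pullback.fst ζ π).range_fiberι z, ← Set.image_univ]
    have hirr : IsIrreducible ((pullback.fst ζ π).fiberι z '' Set.univ) :=
      (IrreducibleSpace.isIrreducible_univ ((pullback.fst ζ π).fiber z)).image _
        ((pullback.fst ζ π).fiberι z).continuous.continuousOn
    exact hirr.isPreirreducible.isPreconnected
  have hG : (ζ ⁻¹' {genericPoint X}).Finite := ζ.finite_preimage_singleton (genericPoint X)
  have hGdom : ∀ z : Z, ∃ γ ∈ ζ ⁻¹' {genericPoint X}, γ ⤳ z := by
    intro z
    obtain ⟨z', hz'z, hz'⟩ := Flat.generalizingMap ζ (genericPoint_specializes (ζ z))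
    exact ⟨z', hz', hz'z⟩
  haveI hne : Nonempty ↥(pullback ζ π) := by
    obtain ⟨z⟩ := (inferInstance : Nonempty Z)
    obtain ⟨q, -⟩ := hsurj z
    exact ⟨q⟩
  haveI hpre : PreconnectedSpace ↥(pullback ζ π) := by
    rw [preconnectedSpace_iff_clopen]
    intro T hT
    have h1 := isClosed_image_of_isClopen _ hsurj hgen hfib _ hG hGdom T hT
    have h2 := isClosed_image_of_isClopen _ hsurj hgen hfib _ hG hGdom Tᶜ hT.compl
    have hcompl : ((pullback.fst ζ π) '' T)ᶜ = (pullback.fst ζ π) '' Tᶜ := by
      ext z
      constructor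
      · intro hz
        obtain ⟨t, rfl⟩ := hsurj z
        exact ⟨t, fun h => hz ⟨t, h, rfl⟩, rfl⟩
      · rintro ⟨t₂, ht₂, rfl⟩ ⟨t₁, ht₁, h12⟩
        have hsub : (pullback.fst ζ π) ⁻¹' {pullback.fst ζ π t₁} ⊆ T :=
          (hfib _).subset_isClopen hT ⟨t₁, rfl, ht₁⟩
        exact ht₂ (hsub h12.symm)
    have hclopen : IsClopen ((pullback.fst ζ π) '' T) :=
      ⟨h1, by rw [← isClosed_compl_iff, hcompl]; exact h2⟩
    rcases isClopen_iff.mp hclopen with h | h
    · left
      rw [Set.image_eq_empty] at h; exact h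
    · right
      ext t
      simp only [Set.mem_univ, iff_true]
      have : pullback.fst ζ π t ∈ (pullback.fst ζ π) '' T := h ▸ Set.mem_univ _
      obtain ⟨t₁, ht₁, h12⟩ := this
      exact (hfib _).subset_isClopen hT ⟨t₁, rfl, ht₁⟩ h12.symm
  exact { toPreconnectedSpace := hpre, toNonempty := hne }


open AlgebraicGeometry CategoryTheory CategoryTheory.Limits in
/-- Let X be an irreducible scheme and π : W ⟶ X a flat morphism whose fibre over every field-valued
point of X is irreducible (so every fibre is geometrically irreducible and π is surjective). Then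
for every finite étale cover Z of X with Z connected, the base change of Z along π is connected.
Ranging over all finite étale covers of X, this says that the monodromy group of each cover (the
image of the fundamental group in the permutations of a geometric fibre) is unchanged by pullback
along π. The published statement asserts that equality of monodromy groups, for generically finite,
generically étale covers between irreducible algebraic stacks. -/
theorem result {X W : Scheme.{u}}
    [IrreducibleSpace X] (π : W ⟶ X) [Flat π] [GeometricallyIrreducible π]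
    (Z : FEt.Cat X) [ConnectedSpace Z.left] :
    ConnectedSpace ↥(pullback Z.hom π) := by
  haveI hfin : IsFinite Z.hom := Z.prop.1
  haveI het : Etale Z.hom := Z.prop.2
  exact core (X := X) (Z := Z.left) Z.hom π

end Groth.Agent.S18402
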