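import Groth.Statements.S18415
import Groth.Agent.H4.RootCover

set_option autoImplicit false
universe u
open CategoryTheory AlgebraicGeometry
open EtCoh

namespace Groth.Agent.S18415

section helpers
open Polynomial Groth.Agent.H4

theorem as_cond {A : Type u} [CommRing A] (p : ℕ) (hpA : (p : A) = 0) (a : A) :
    derivative (X ^ p - (X + C a)) * (-1) + (X ^ p - (X + C a)) * 0 = 1 ^ 0 := by
  rw [pow_zero, mul_zero, add_zero, derivative_sub, derivative_add, derivative_X_pow,
    derivative_X, derivative_C, hpA, C_0, zero_mul]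
  ring

/-- The standard etale pair `(X ^ p - X - a, 1)` in characteristic `p`. -/
noncomputable def asPair {A : Type u} [CommRing A] [Nontrivial A] (p : ℕ) (hp : p.Prime)
    (hpA : (p : A) = 0) (a : A) : StandardEtalePair A where
  f := X ^ p - (X + C a)
  monic_f := monic_X_pow_sub (by
    rw [degree_X_add_C]
    exact_mod_cast hp.one_lt)
  g := 1
  cond := ⟨-1, 0, 0, as_cond p hpA a⟩

theorem asPair_natDegree {A : Type u} [CommRing A] [Nontrivial A] (p : ℕ) (hp : p.Prime)
    (hpA : (p : A) = 0) (a : A) : (asPair p hp hpA a).f.natDegree ≠ 0 := by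
  show (X ^ p - (X + C a)).natDegree ≠ 0
  rw [natDegree_sub_eq_left_of_natDegree_lt, natDegree_X_pow]
  · exact hp.ne_zero
  · rw [natDegree_X_add_C, natDegree_X_pow]
    exact hp.one_lt

theorem asPair_root {A : Type u} [CommRing A] [Nontrivial A] (p : ℕ) (hp : p.Prime)
    (hpA : (p : A) = 0) (a : A) :
    (asPair p hp hpA a).X ^ p - (asPair p hp hpA a).X =
      algebraMap A (asPair p hp hpA a).Ring a := by
  have h1 := (StandardEtalePair.hasMap_X (P := asPair p hp hpA a)).1
  have h2 : aeval (asPair p hp hpA a).X (X ^ p - (X + C a)) =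
      (asPair p hp hpA a).X ^ p -
        ((asPair p hp hpA a).X + algebraMap A (asPair p hp hpA a).Ring a) := by
    simp
  have h3 : aeval (asPair p hp hpA a).X (X ^ p - (X + C a)) = 0 := h1
  rw [h2] at h3
  rw [← sub_eq_zero, ← h3]
  ring

end helpers

/-- Let p be a prime and X a scheme with p = 0 in Γ(X, O_X). Then the Artin–Schreier endomorphism x ↦
x^p − x of the additive group sheaf G_a on the small étale site of X is an epimorphism of abelian
étale sheaves (the right-hand exactness of 0 → Z/p → G_a → G_a → 0 on X_et). (The published example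
takes X a variety over a field of characteristic p; this row assumes only that p = 0 in Γ(X, O_X).) -/
theorem result
    (p : ℕ) (hp : p.Prime) {X : Scheme.{u}} (h0 : (p : Γ(X, ⊤)) = 0) :
    Epi (W4c5etcohweilstudent.artinSchreierEndo X p hp h0) := by
  apply Groth.Agent.H4.epi_of_local_lift
  intro U t x
  obtain ⟨A, j, hj, y, hy⟩ := Scheme.exists_Spec_apply_eq x
  haveI := hj
  let θ : Γ(U.left, ⊤) →+* A := (j.appTop ≫ (Scheme.ΓSpecIso A).hom).hom
  have hpU : (p : Γ(U.left, ⊤)) = 0 := W4c5etcohweilstudent.natCast_eq_zero_etale p h0 U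
  have hpA : (p : A) = 0 := by
    have h1 := congrArg θ hpU
    rwa [map_natCast, map_zero] at h1
  haveI : Nontrivial A := PrimeSpectrum.nonempty_iff_nontrivial.1 ⟨y⟩
  let td : Γ(U.left, ⊤) := t.down
  let P : StandardEtalePair A := asPair p hp hpA (θ td)
  obtain ⟨V, g, v, e, hv, he⟩ := Groth.Agent.H4.exists_nbhd_of_pair U A j y P rfl
    (asPair_natDegree p hp hpA (θ td))
  refine ⟨V, g, v, hv.trans hy, ?_⟩
  have hroot : P.X ^ p - P.X = algebraMap A P.Ring (θ td) := asPair_root p hp hpA (θ td)
  let E : Γ(V.left, ⊤) ≃+* P.Ring := e.commRingCatIsoToRingEquiv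
  have hE : ∀ r : Γ(U.left, ⊤), E (g.left.appTop.hom r) = algebraMap A P.Ring (θ r) :=
    fun r => congrArg (fun m => m.hom r) he
  refine ⟨ULift.up (E.symm P.X), ?_⟩
  apply ULift.ext
  show (E.symm P.X) ^ p - E.symm P.X = g.left.appTop.hom td
  apply E.injective
  rw [map_sub, map_pow, E.apply_symm_apply, hroot, hE]

end Groth.Agent.S18415
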