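import Groth.Statements.S18417
import Groth.Agent.H19.QReg

set_option autoImplicit false
universe u v
open CAlg

namespace Groth.Agent.S18417

section Aux
open MvPolynomial

variable (R : Type u) {A : Type v} [CommRing R] [CommRing A] [Algebra R A] {d : ℕ} (x : Fin d → A)
  (N : ℕ)

/-- image of `J` in `A/J^N` -/
abbrev Jbar : Ideal (A ⧸ Ideal.span (Set.range x) ^ N) :=
  (Ideal.span (Set.range x)).map (Ideal.Quotient.mk (Ideal.span (Set.range x) ^ N))

theorem Jbar_pow (k : ℕ) :
    Jbar x N ^ k = (Ideal.span (Set.range x) ^ k).map (Ideal.Quotient.mk _) :=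
  (Ideal.map_pow _ _ _).symm

theorem Jbar_pow_N : Jbar x N ^ N = ⊥ := by
  rw [Jbar_pow, Ideal.map_quotient_self]

theorem Jbar_eq_span : Jbar x N =
    Ideal.span (Set.range fun i => Ideal.Quotient.mk (Ideal.span (Set.range x) ^ N) (x i)) := by
  rw [Jbar, Ideal.map_span, ← Set.range_comp]
  rfl

theorem mk_x_mem (i : Fin d) :
    Ideal.Quotient.mk (Ideal.span (Set.range x) ^ N) (x i) ∈ Jbar x N :=
  Ideal.mem_map_of_mem _ (Ideal.subset_span ⟨i, rfl⟩)

noncomputable def piN (hN : 1 ≤ N) :
    (A ⧸ Ideal.span (Set.range x) ^ N) →ₐ[R] (A ⧸ Ideal.span (Set.range x)) :=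
  Ideal.Quotient.liftₐ _ (Ideal.Quotient.mkₐ R (Ideal.span (Set.range x)))
    (fun a ha => by
      show Ideal.Quotient.mk _ a = 0
      exact Ideal.Quotient.eq_zero_iff_mem.mpr (Ideal.pow_le_self (by omega) ha))

variable (hN : 1 ≤ N)

theorem piN_mk (a : A) :
    piN R x N hN (Ideal.Quotient.mk _ a) = Ideal.Quotient.mk _ a := rfl

theorem piN_surjective : Function.Surjective (piN R x N hN) := by
  intro b
  obtain ⟨a, rfl⟩ := Ideal.Quotient.mk_surjective b
  exact ⟨Ideal.Quotient.mk _ a, piN_mk R x N hN a⟩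

theorem ker_piN_le : RingHom.ker (piN R x N hN).toRingHom ≤ Jbar x N := by
  intro y hy
  obtain ⟨a, rfl⟩ := Ideal.Quotient.mk_surjective y
  rw [RingHom.mem_ker] at hy
  have h : Ideal.Quotient.mk (Ideal.span (Set.range x)) a = 0 := hy
  exact Ideal.mem_map_of_mem _ (Ideal.Quotient.eq_zero_iff_mem.mp h)

theorem ker_piN_nilpotent : IsNilpotent (RingHom.ker (piN R x N hN).toRingHom) := by
  refine ⟨N, ?_⟩
  rw [Ideal.zero_eq_bot, ← le_bot_iff, ← Jbar_pow_N x N]
  exact Ideal.pow_right_mono (ker_piN_le R x N hN) N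

variable [Algebra.FormallySmooth R (A ⧸ Ideal.span (Set.range x))]

noncomputable def sec :
    (A ⧸ Ideal.span (Set.range x)) →ₐ[R] (A ⧸ Ideal.span (Set.range x) ^ N) :=
  Algebra.FormallySmooth.liftOfSurjective (AlgHom.id R _) (piN R x N hN) (piN_surjective R x N hN)
    (ker_piN_nilpotent R x N hN)

theorem piN_sec (b : A ⧸ Ideal.span (Set.range x)) : piN R x N hN (sec R x N hN b) = b :=
  Algebra.FormallySmooth.liftOfSurjective_apply (AlgHom.id R _) (piN R x N hN)
    (piN_surjective R x N hN) (ker_piN_nilpotent R x N hN) b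

noncomputable def phi : MvPolynomial (Fin d) (A ⧸ Ideal.span (Set.range x)) →ₐ[R]
    (A ⧸ Ideal.span (Set.range x) ^ N) :=
  { MvPolynomial.eval₂Hom (sec R x N hN).toRingHom (fun i => Ideal.Quotient.mk _ (x i)) with
    commutes' := fun r => by
      show MvPolynomial.eval₂Hom _ _ (algebraMap R _ r) = _
      rw [MvPolynomial.algebraMap_apply, MvPolynomial.eval₂Hom_C]
      exact (sec R x N hN).commutes r }

theorem phi_C (b : A ⧸ Ideal.span (Set.range x)) : phi R x N hN (C b) = sec R x N hN b :=
  MvPolynomial.eval₂Hom_C _ _ b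

theorem phi_X (i : Fin d) : phi R x N hN (X i) = Ideal.Quotient.mk _ (x i) :=
  MvPolynomial.eval₂Hom_X' _ _ i

theorem piN_phi (p : MvPolynomial (Fin d) (A ⧸ Ideal.span (Set.range x))) :
    piN R x N hN (phi R x N hN p) = MvPolynomial.constantCoeff p := by
  have h : ((piN R x N hN).toRingHom.comp (phi R x N hN).toRingHom) =
      MvPolynomial.constantCoeff := by
    refine MvPolynomial.ringHom_ext (fun b => ?_) (fun i => ?_)
    · show piN R x N hN (phi R x N hN (C b)) = MvPolynomial.constantCoeff (C b)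
      rw [phi_C, piN_sec, MvPolynomial.constantCoeff_C]
    · show piN R x N hN (phi R x N hN (X i)) = MvPolynomial.constantCoeff (X i)
      rw [phi_X, piN_mk, MvPolynomial.constantCoeff_X]
      exact Ideal.Quotient.eq_zero_iff_mem.mpr (Ideal.subset_span ⟨i, rfl⟩)
  exact DFunLike.congr_fun h p

theorem phi_mem_pow (k : ℕ) {p : MvPolynomial (Fin d) (A ⧸ Ideal.span (Set.range x))}
    (hp : p ∈ MvPolynomial.idealOfVars (Fin d) (A ⧸ Ideal.span (Set.range x)) ^ k) :
    phi R x N hN p ∈ Jbar x N ^ k := by
  have h1 : (MvPolynomial.idealOfVars (Fin d) (A ⧸ Ideal.span (Set.range x))).map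
      (phi R x N hN).toRingHom ≤ Jbar x N := by
    rw [MvPolynomial.idealOfVars, Ideal.map_span, Ideal.span_le]
    rintro _ ⟨_, ⟨i, rfl⟩, rfl⟩
    show phi R x N hN (X i) ∈ _
    rw [phi_X]
    exact mk_x_mem x N i
  have h2 := Ideal.mem_map_of_mem (phi R x N hN).toRingHom hp
  rw [Ideal.map_pow] at h2
  exact Ideal.pow_right_mono h1 k h2

theorem approx (k : ℕ) : ∀ y ∈ Jbar x N ^ k, ∃ p, y - phi R x N hN p ∈ Jbar x N ^ (k + 1) := by
  induction k with
  | zero =>
    intro y _
    refine ⟨C (piN R x N hN y), ?_⟩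
    rw [phi_C, zero_add, pow_one]
    apply ker_piN_le R x N hN
    rw [RingHom.mem_ker]
    show piN R x N hN (y - sec R x N hN (piN R x N hN y)) = 0
    rw [map_sub, piN_sec, sub_self]
  | succ k ih =>
    intro y hy
    rw [pow_succ] at hy
    refine Submodule.mul_induction_on hy ?_ ?_
    · intro u hu v hv
      rw [Jbar_eq_span] at hv
      obtain ⟨c, rfl⟩ := (Ideal.mem_span_range_iff_exists_fun).mp hv
      choose q hq using fun i => ih (u * c i) (Ideal.mul_mem_right _ _ hu)
      refine ⟨∑ i, q i * X i, ?_⟩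
      have h3 : u * ∑ i, c i * Ideal.Quotient.mk (Ideal.span (Set.range x) ^ N) (x i) -
          phi R x N hN (∑ i, q i * X i) =
          ∑ i, (u * c i - phi R x N hN (q i)) *
            Ideal.Quotient.mk (Ideal.span (Set.range x) ^ N) (x i) := by
        rw [map_sum, Finset.mul_sum, ← Finset.sum_sub_distrib]
        refine Finset.sum_congr rfl fun i _ => ?_
        rw [map_mul, phi_X]
        ring
      rw [h3]
      refine Ideal.sum_mem _ fun i _ => ?_
      rw [pow_succ (Jbar x N) (k + 1)]
      exact Ideal.mul_mem_mul (hq i) (mk_x_mem x N i)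
    · rintro y1 y2 ⟨p1, h1⟩ ⟨p2, h2⟩
      refine ⟨p1 + p2, ?_⟩
      have h3 : y1 + y2 - phi R x N hN (p1 + p2) =
          (y1 - phi R x N hN p1) + (y2 - phi R x N hN p2) := by
        rw [map_add]
        ring
      rw [h3]
      exact Ideal.add_mem _ h1 h2

theorem phi_surj_aux : ∀ j k, k + j = N → ∀ y ∈ Jbar x N ^ k, ∃ p, phi R x N hN p = y := by
  intro j
  induction j with
  | zero =>
    intro k hk y hy
    rw [add_zero] at hk
    rw [hk, Jbar_pow_N, Ideal.mem_bot] at hy
    exact ⟨0, by rw [map_zero, hy]⟩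
  | succ j ih =>
    intro k hk y hy
    obtain ⟨p, hp⟩ := approx R x N hN k y hy
    obtain ⟨q, hq⟩ := ih (k + 1) (by omega) _ hp
    exact ⟨p + q, by rw [map_add, hq]; ring⟩

theorem phi_surjective : Function.Surjective (phi R x N hN) := fun y =>
  phi_surj_aux R x N hN N 0 (by omega) y (by rw [pow_zero, Ideal.one_eq_top]; trivial)

theorem coeff_eq_zero_of_phi_eq_zero
    (hreg : RingTheory.Sequence.IsWeaklyRegular A (List.ofFn x))
    (p : MvPolynomial (Fin d) (A ⧸ Ideal.span (Set.range x))) (hp : phi R x N hN p = 0) :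
    ∀ n, n < N → ∀ e : Fin d →₀ ℕ, e.degree = n → coeff e p = 0 := by
  classical
  intro n
  induction n using Nat.strong_induction_on with
  | _ n ih =>
    intro hn e he
    have h1 : p - homogeneousComponent n p ∈
        idealOfVars (Fin d) (A ⧸ Ideal.span (Set.range x)) ^ (n + 1) := by
      rw [mem_pow_idealOfVars_iff']
      intro e' he'
      rw [coeff_sub, coeff_homogeneousComponent]
      by_cases h : e'.degree = n
      · rw [if_pos h, sub_self]
      · rw [if_neg h, sub_zero]
        exact ih e'.degree (by omega) (by omega) e' rfl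
    have h2 : phi R x N hN (homogeneousComponent n p) ∈ Jbar x N ^ (n + 1) := by
      have h := phi_mem_pow R x N hN (n + 1) h1
      rw [map_sub, hp, zero_sub] at h
      exact (Ideal.neg_mem_iff _).mp h
    generalize hpn : homogeneousComponent n p = pn at h2
    have hpncoeff : ∀ e' : Fin d →₀ ℕ, coeff e' pn = if e'.degree = n then coeff e' p else 0 := by
      intro e'
      rw [← hpn, coeff_homogeneousComponent]
    let s : (A ⧸ Ideal.span (Set.range x) ^ N) → A :=
      Function.surjInv Ideal.Quotient.mk_surjective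
    have hs : ∀ y, Ideal.Quotient.mk (Ideal.span (Set.range x) ^ N) (s y) = y :=
      Function.surjInv_eq _
    let Pt : MvPolynomial (Fin d) A :=
      ∑ e' ∈ pn.support, monomial e' (s (sec R x N hN (coeff e' pn)))
    have hcoef : ∀ e', coeff e' Pt =
        if e' ∈ pn.support then s (sec R x N hN (coeff e' pn)) else 0 := by
      intro e'
      simp only [Pt, coeff_sum, coeff_monomial]
      rw [Finset.sum_ite_eq']
    have hmap : MvPolynomial.map (Ideal.Quotient.mk (Ideal.span (Set.range x) ^ N)) Pt =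
        MvPolynomial.map (sec R x N hN).toRingHom pn := by
      ext e'
      rw [coeff_map, coeff_map, hcoef]
      split_ifs with h
      · exact hs _
      · rw [map_zero, notMem_support_iff.mp h, map_zero]
    have hhom : Pt.IsHomogeneous n := by
      apply Groth.Agent.H19.QReg.isHomogeneous_of_coeff
      intro e' he'
      rw [hcoef] at he'
      split_ifs at he' with h
      · have h3 := mem_support_iff.mp h
        rw [hpncoeff] at h3
        by_contra h4
        rw [if_neg h4] at h3
        exact h3 rfl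
      · exact absurd rfl he'
    have heval : eval x Pt ∈ Ideal.span (Set.range x) ^ (n + 1) := by
      have h3 : Ideal.Quotient.mk (Ideal.span (Set.range x) ^ N) (eval x Pt) =
          phi R x N hN pn := by
        rw [Groth.Agent.H19.QReg.map_eval', hmap, eval_map]
        rfl
      rw [← h3, Jbar_pow] at h2
      obtain ⟨z, hz, hz'⟩ :=
        (Ideal.mem_map_iff_of_surjective _ Ideal.Quotient.mk_surjective).mp h2
      have h4 : eval x Pt - z ∈ Ideal.span (Set.range x) ^ N := by
        rw [← Ideal.Quotient.eq_zero_iff_mem, map_sub, hz', sub_self]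
      have h5 : eval x Pt = (eval x Pt - z) + z := by ring
      rw [h5]
      exact Ideal.add_mem _ (Ideal.pow_le_pow_right (by omega) h4) hz
    have hq := Groth.Agent.H19.QReg.isQuasiRegular_of_isWeaklyRegular d x hreg n Pt hhom heval
    have h6 : coeff e pn = 0 := by
      by_contra hne
      have hmem : e ∈ pn.support := mem_support_iff.mpr hne
      have h7 := hq e
      rw [hcoef, if_pos hmem] at h7
      have h8 : Ideal.Quotient.mk (Ideal.span (Set.range x))
          (s (sec R x N hN (coeff e pn))) = 0 :=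
        Ideal.Quotient.eq_zero_iff_mem.mpr h7
      have h9 : Ideal.Quotient.mk (Ideal.span (Set.range x))
          (s (sec R x N hN (coeff e pn))) = coeff e pn := by
        rw [← piN_mk R x N hN, hs, piN_sec]
      exact hne (h9.symm.trans h8)
    rw [hpncoeff, if_pos he] at h6
    exact h6

end Aux

/-- Let R → A be a ring homomorphism and x_1, …, x_d a weakly regular sequence in A generating an ideal
J such that B = A/J is formally smooth over R. Then for every N ≥ 1 there is an isomorphism of
R-algebras e : A/J^N ≅ B[T_1, …, T_d]/(T_1, …, T_d)^N which sends the class of x_i to the class of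
T_i and which is compatible with the projections to B: for every a ∈ A, e(a mod J^N) is congruent to
the constant a mod J modulo the ideal generated by the variables. (The source also assumes R → A
smooth, which its argument does not use, and a regular sequence; weak regularity is what the
argument uses.) -/
theorem result
    (R : Type u) (A : Type v) [CommRing R] [CommRing A] [Algebra R A] (d : ℕ) (x : Fin d → A)
    (hreg : RingTheory.Sequence.IsWeaklyRegular A (List.ofFn x))
    [Algebra.FormallySmooth R (A ⧸ Ideal.span (Set.range x))] (N : ℕ) (hN : 1 ≤ N) :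
    ∃ e : (A ⧸ Ideal.span (Set.range x) ^ N) ≃ₐ[R]
        (MvPolynomial (Fin d) (A ⧸ Ideal.span (Set.range x)) ⧸
          Ideal.span (Set.range (MvPolynomial.X : Fin d → MvPolynomial (Fin d) (A ⧸ Ideal.span (Set.range x)))) ^ N),
      (∀ i : Fin d, e (Ideal.Quotient.mk _ (x i)) = Ideal.Quotient.mk _ (MvPolynomial.X i)) ∧
      ∀ a : A, e (Ideal.Quotient.mk _ a) - Ideal.Quotient.mk _ (MvPolynomial.C (Ideal.Quotient.mk _ a)) ∈
        (Ideal.span (Set.range (MvPolynomial.X : Fin d → MvPolynomial (Fin d) (A ⧸ Ideal.span (Set.range x))))).map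
          (Ideal.Quotient.mk _) := by
  classical
  have hinj : ∀ p, phi R x N hN p = 0 →
      p ∈ MvPolynomial.idealOfVars (Fin d) (A ⧸ Ideal.span (Set.range x)) ^ N := fun p hp => by
    rw [MvPolynomial.mem_pow_idealOfVars_iff']
    intro e he
    exact coeff_eq_zero_of_phi_eq_zero R x N hN hreg p hp e.degree he e rfl
  have hzero : ∀ p ∈ MvPolynomial.idealOfVars (Fin d) (A ⧸ Ideal.span (Set.range x)) ^ N,
      phi R x N hN p = 0 := fun p hp => by
    have h := phi_mem_pow R x N hN N hp
    rwa [Jbar_pow_N, Ideal.mem_bot] at h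
  let ψ : (MvPolynomial (Fin d) (A ⧸ Ideal.span (Set.range x)) ⧸
      MvPolynomial.idealOfVars (Fin d) (A ⧸ Ideal.span (Set.range x)) ^ N) →ₐ[R]
      (A ⧸ Ideal.span (Set.range x) ^ N) :=
    Ideal.Quotient.liftₐ _ (phi R x N hN) hzero
  have hψmk : ∀ p, ψ (Ideal.Quotient.mk _ p) = phi R x N hN p := fun p => rfl
  have hψbij : Function.Bijective ψ := by
    constructor
    · rw [injective_iff_map_eq_zero]
      intro q hq
      obtain ⟨p, rfl⟩ := Ideal.Quotient.mk_surjective q
      rw [hψmk] at hq
      exact Ideal.Quotient.eq_zero_iff_mem.mpr (hinj p hq)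
    · intro y
      obtain ⟨p, hp⟩ := phi_surjective R x N hN y
      exact ⟨Ideal.Quotient.mk _ p, by rw [hψmk, hp]⟩
  refine ⟨(AlgEquiv.ofBijective ψ hψbij).symm, fun i => ?_, fun a => ?_⟩
  · rw [AlgEquiv.symm_apply_eq, AlgEquiv.ofBijective_apply, hψmk, phi_X]
  · obtain ⟨p, hp⟩ := Ideal.Quotient.mk_surjective
      ((AlgEquiv.ofBijective ψ hψbij).symm (Ideal.Quotient.mk _ a))
    have h1 : phi R x N hN p = Ideal.Quotient.mk _ a := by
      have h : (AlgEquiv.ofBijective ψ hψbij) (Ideal.Quotient.mk _ p) = Ideal.Quotient.mk _ a := by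
        rw [hp, AlgEquiv.apply_symm_apply]
      exact h
    have h2 : MvPolynomial.constantCoeff p = Ideal.Quotient.mk _ a := by
      rw [← piN_phi R x N hN, h1, piN_mk]
    rw [← hp, ← map_sub]
    apply Ideal.mem_map_of_mem
    rw [← h2]
    have h3 : p - MvPolynomial.C (MvPolynomial.constantCoeff p) ∈
        MvPolynomial.idealOfVars (Fin d) (A ⧸ Ideal.span (Set.range x)) ^ 1 := by
      rw [MvPolynomial.mem_pow_idealOfVars_iff']
      intro e he
      have he0 : e = 0 := (Finsupp.degree_eq_zero_iff e).mp (by omega)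
      subst he0
      rw [MvPolynomial.coeff_sub, MvPolynomial.coeff_C, if_pos rfl,
        MvPolynomial.constantCoeff_eq, sub_self]
    rwa [pow_one] at h3

end Groth.Agent.S18417
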