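import Groth.Statements.S18418
import Mathlib
import Groth.Agent.H83.FLCore
import Groth.Agent.H83.FLQuot
import Groth.Agent.H75.PureSummand

set_option autoImplicit false
universe u v
open FonLaf

namespace Groth.Agent.S18418


/-- Let k be a perfect field of characteristic p and W = W(k) its ring of Witt vectors with Frobenius σ.
Fix r and W-modules of finite length N_0 = M, N_1, N_2, … with W-linear maps α_i : N_{i+1} → N_i and
σ-semilinear maps φ_i : N_i → M such that φ_i ∘ α_i = p φ_{i+1} for all i < r. Let ι be the map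
sending (x_1, …, x_r) ∈ N_1 ⊕ ⋯ ⊕ N_r to (α_0 x_1, α_1 x_2 − p x_1, …, α_{r−1} x_r − p x_{r−1}, −p
x_r) ∈ N_0 ⊕ ⋯ ⊕ N_r, and Φ the map N_0 ⊕ ⋯ ⊕ N_r → M, (y_i) ↦ Σ_i φ_i(y_i). Suppose that Φ is
surjective and that its kernel is contained in the image of ι (with the displayed relation this says
that Φ induces a σ-semilinear bijection from the cokernel of ι onto M). Then for every i < r the map
α_i is injective and its image is a direct summand of N_i (so the N_i form a filtration of M by
direct summands, the data of a Fontaine–Laffaille module). Families are indexed by all natural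
numbers; only the indices ≤ r enter. -/
theorem result (p : ℕ) [Fact p.Prime]
    (k : Type u) [Field k] [CharP k p] [PerfectRing k p] (r : ℕ)
    (N : ℕ → Type v) [∀ i, AddCommGroup (N i)] [∀ i, Module (WittVector p k) (N i)]
    (hfl : ∀ i, IsFiniteLength (WittVector p k) (N i))
    (α : ∀ i, N (i + 1) →ₗ[WittVector p k] N i)
    (φ : ∀ i, N i →ₛₗ[(WittVector.frobenius : WittVector p k →+* WittVector p k)] N 0)
    (hφ : ∀ i, i < r → ∀ y : N (i + 1), φ i (α i y) = (p : WittVector p k) • φ (i + 1) y)
    (hsurj : ∀ m : N 0, ∃ y : (i : ℕ) → N i, (∀ i, r < i → y i = 0) ∧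
      (Finset.range (r + 1)).sum (fun i => φ i (y i)) = m)
    (hker : ∀ y : (i : ℕ) → N i, (∀ i, r < i → y i = 0) →
      (Finset.range (r + 1)).sum (fun i => φ i (y i)) = 0 →
        ∃ z : (i : ℕ) → N (i + 1), (∀ i, r ≤ i → z i = 0) ∧
          y 0 = α 0 (z 0) ∧ ∀ i, y (i + 1) = α (i + 1) (z (i + 1)) - (p : WittVector p k) • z i)
    (i : ℕ) (hi : i < r) :
    Function.Injective (α i) ∧
      ∃ Q : Submodule (WittVector p k) (N i), IsCompl (LinearMap.range (α i)) Q := by
  classical
  haveI : RingHomSurjective (WittVector.frobenius : WittVector p k →+* WittVector p k) :=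
    ⟨(WittVector.frobenius_bijective p k).surjective⟩
  have hσϖ : (WittVector.frobenius : WittVector p k →+* WittVector p k) (p : WittVector p k) = p :=
    map_natCast _ _
  have hpjac : (p : WittVector p k) ∈ Ideal.jacobson (⊥ : Ideal (WittVector p k)) := by
    rw [IsLocalRing.jacobson_eq_maximalIdeal ⊥ bot_ne_top, IsLocalRing.mem_maximalIdeal]
    exact (WittVector.irreducible p).not_isUnit
  have htors : ∀ i (x : N i), ∃ n : ℕ, (p : WittVector p k) ^ n • x = 0 := fun i x =>
    Groth.Agent.H83.FL.exists_pow_smul_eq_zero _ hpjac (hfl i) x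
  have hinj := Groth.Agent.H83.FL.injective_alpha α (p : WittVector p k) φ r hfl htors hsurj hker i hi
  refine ⟨hinj, ?_⟩
  apply Groth.Agent.H75.PureSummand.exists_isCompl_of_pure (p : WittVector p k)
    (WittVector.irreducible p) (hfl i) (LinearMap.range (α i))
  intro j x hx hdiv
  obtain ⟨x0, rfl⟩ := hx
  obtain ⟨y, hy⟩ := hdiv
  have hq := Groth.Agent.H83.FL.injective_alphaQ (p : WittVector p k) α φ r hσϖ hfl htors hsurj hker j i hi
  have h1 : Groth.Agent.H83.FL.alphaQ (p : WittVector p k) α j i (Submodule.Quotient.mk x0) = 0 := by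
    change Submodule.Quotient.mk (α i x0) = 0
    rw [hy, Submodule.Quotient.mk_eq_zero]
    exact (Groth.Agent.H83.FL.mem_pj _).2 ⟨y, rfl⟩
  have hx0 : (Submodule.Quotient.mk x0 : Groth.Agent.H83.FL.NQ N (p : WittVector p k) j (i + 1)) = 0 := by
    rw [← map_zero (Groth.Agent.H83.FL.alphaQ (p : WittVector p k) α j i)] at h1
    exact hq h1
  obtain ⟨x1, hx1⟩ := (Groth.Agent.H83.FL.mem_pj _).1 ((Submodule.Quotient.mk_eq_zero _).1 hx0)
  exact ⟨α i x1, ⟨x1, rfl⟩, by rw [← map_smul, hx1]⟩

end Groth.Agent.S18418
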