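import Mathlib
import Groth.Statements.S18423
import Groth.Agent.S2195

set_option autoImplicit false
universe u v
open Pi1

open KaehlerDifferential

namespace Groth.Agent.S18423

/-- Let A be a Noetherian local ring of Krull dimension at least 2 and B a finite flat commutative
A-algebra. If B is etale over A at every prime of B lying over a non-maximal prime of A (that is,
Spec B is etale over the punctured spectrum of A), then B is etale over A. -/
theorem result (A : Type u) (B : Type v) [CommRing A] [CommRing B]
    [Algebra A B] [IsNoetherianRing A] [IsLocalRing A] (hdim : (2 : WithBot ℕ∞) ≤ ringKrullDim A)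
    [Module.Finite A B] [Module.Flat A B]
    (h : ∀ q : PrimeSpectrum B, q.asIdeal.comap (algebraMap A B) ≠ IsLocalRing.maximalIdeal A →
      Algebra.IsEtaleAt A q.asIdeal) :
    Algebra.Etale A B := by
  classical
  haveI : Module.Free A B := Module.free_of_flat_of_isLocalRing
  let b := Module.finBasis A B
  rw [Groth.Agent.S2195.result b]
  by_contra hd
  set d := Algebra.discr A b with hd_def
  have hdm : d ∈ IsLocalRing.maximalIdeal A := (IsLocalRing.mem_maximalIdeal d).2 hd
  obtain ⟨p, hpmin, hpm⟩ := Ideal.exists_minimalPrimes_le (I := Ideal.span {d})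
    (J := IsLocalRing.maximalIdeal A) ((Ideal.span_singleton_le_iff_mem _).2 hdm)
  haveI hpprime : p.IsPrime := hpmin.1.1
  have hht : p.height ≤ 1 :=
    Ideal.height_le_one_of_isPrincipal_of_mem_minimalPrimes (Ideal.span {d}) p hpmin
  have hpne : p ≠ IsLocalRing.maximalIdeal A := by
    intro hpe
    rw [hpe] at hht
    have h1 := IsLocalRing.maximalIdeal_height_eq_ringKrullDim (R := A)
    have h2 : ringKrullDim A ≤ 1 := by
      rw [← h1]
      exact_mod_cast hht
    have h3 := hdim.trans h2
    exact absurd h3 (by decide)
  have hdp : d ∈ p := hpmin.1.2 (Ideal.mem_span_singleton_self d)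
  have hU : Algebra.FormallyUnramified A
      (Localization (Algebra.algebraMapSubmonoid B p.primeCompl)) := by
    rw [Algebra.formallyUnramified_iff]
    have hw0 : ∀ w : Ω[B⁄A], KaehlerDifferential.map A A B
        (Localization (Algebra.algebraMapSubmonoid B p.primeCompl)) w = 0 := by
      intro w
      rw [IsLocalizedModule.eq_zero_iff (Algebra.algebraMapSubmonoid B p.primeCompl)]
      by_contra hno
      push_neg at hno
      let I : Ideal B := LinearMap.ker (LinearMap.toSpanSingleton B (Ω[B⁄A]) w)
      have hI : ∀ x : B, x ∈ I ↔ x • w = 0 := by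
        intro x
        simp [I, LinearMap.mem_ker, LinearMap.toSpanSingleton_apply]
      have hdisj : Disjoint (I : Set B)
          (Algebra.algebraMapSubmonoid B p.primeCompl : Set B) :=
        Set.disjoint_left.2 (fun x hxI hxN => hno ⟨x, hxN⟩ ((hI x).1 hxI))
      obtain ⟨q, hqprime, hIq, hqdisj⟩ := Ideal.exists_le_prime_disjoint I _ hdisj
      have hqA : q.comap (algebraMap A B) ≤ p := by
        intro a ha
        by_contra hap
        exact Set.disjoint_left.1 hqdisj ha ⟨a, hap, rfl⟩
      have hqne : q.comap (algebraMap A B) ≠ IsLocalRing.maximalIdeal A := by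
        intro he
        apply hpne
        exact le_antisymm hpm (he ▸ hqA)
      have hE : Algebra.FormallyEtale A (Localization.AtPrime q) := h ⟨q, hqprime⟩ hqne
      haveI : Algebra.FormallyUnramified A (Localization.AtPrime q) := inferInstance
      haveI : Subsingleton Ω[Localization.AtPrime q⁄A] :=
        (Algebra.formallyUnramified_iff _ _).1 inferInstance
      have hwq : KaehlerDifferential.map A A B (Localization.AtPrime q) w = 0 :=
        Subsingleton.elim _ _
      obtain ⟨t, ht⟩ := (IsLocalizedModule.eq_zero_iff q.primeCompl
        (KaehlerDifferential.map A A B (Localization.AtPrime q))).1 hwq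
      exact t.2 (hIq ((hI t).2 ht))
    refine ⟨fun x y => ?_⟩
    have h0 : ∀ z : Ω[Localization (Algebra.algebraMapSubmonoid B p.primeCompl)⁄A], z = 0 := by
      intro z
      obtain ⟨⟨w, s⟩, rfl⟩ := IsLocalizedModule.mk'_surjective
        (Algebra.algebraMapSubmonoid B p.primeCompl)
        (KaehlerDifferential.map A A B
          (Localization (Algebra.algebraMapSubmonoid B p.primeCompl))) z
      rw [Function.uncurry_apply_pair, IsLocalizedModule.mk'_eq_zero]
      exact hw0 w
    rw [h0 x, h0 y]
  haveI : Algebra.FormallyUnramified (Localization.AtPrime p)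
      (Localization (Algebra.algebraMapSubmonoid B p.primeCompl)) :=
    Algebra.FormallyUnramified.of_restrictScalars A _ _
  have hunit := Groth.Agent.S2195.isUnit_of_formallyUnramified
    (b.localizationLocalization (Localization.AtPrime p) p.primeCompl
      (Localization (Algebra.algebraMapSubmonoid B p.primeCompl)))
  rw [Algebra.discr_localizationLocalization A p.primeCompl
    (Localization (Algebra.algebraMapSubmonoid B p.primeCompl)) b] at hunit
  exact ((IsLocalization.AtPrime.isUnit_to_map_iff (Localization.AtPrime p) p d).1 hunit) hdp

end Groth.Agent.S18423
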