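import Groth.Statements.S18425
import Mathlib.CategoryTheory.Galois.IsFundamentalgroup
import Mathlib.Tactic

set_option autoImplicit false
universe u
open Pi1

namespace Groth.Agent.S18425

open CategoryTheory PreGaloisCategory ProfiniteGrp ProfiniteCompletion

section

variable (G : Type u) [Group G]

local notation "𝒢" => GrpCat.of G

/-- The kernel of the action on a finite `G`-set. -/
noncomputable def kerX (X : Action FintypeCat.{u} G) : FiniteIndexNormalSubgroup 𝒢 where
  toSubgroup := (MulAction.toPermHom G X.V).ker
  isNormal' := inferInstanceAs (MulAction.toPermHom G X.V).ker.Normal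
  isFiniteIndex' := inferInstanceAs (MulAction.toPermHom G X.V).ker.FiniteIndex

/-- Component of an element of the completion. -/
def comp (x : completion 𝒢) (H : FiniteIndexNormalSubgroup 𝒢) : G ⧸ H.toSubgroup := x.val H

theorem comp_one (H : FiniteIndexNormalSubgroup 𝒢) : comp G 1 H = 1 := rfl

theorem comp_mul (x y : completion 𝒢) (H : FiniteIndexNormalSubgroup 𝒢) :
    comp G (x * y) H = comp G x H * comp G y H := rfl

theorem comp_eta (g : G) (H : FiniteIndexNormalSubgroup 𝒢) :
    comp G (etaFn 𝒢 g) H = QuotientGroup.mk g := rfl

theorem comp_ext (x y : completion 𝒢) (h : ∀ H, comp G x H = comp G y H) : x = y :=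
  limit_ext _ x y h

theorem comp_compat (x : completion 𝒢) {H H' : FiniteIndexNormalSubgroup 𝒢} (h : H ≤ H') :
    QuotientGroup.map H.toSubgroup H'.toSubgroup (MonoidHom.id G) h (comp G x H) = comp G x H' :=
  x.property (homOfLE h)

theorem REP (x : completion 𝒢) (H : FiniteIndexNormalSubgroup 𝒢) :
    ∃ g : G, ∀ H' : FiniteIndexNormalSubgroup 𝒢, H ≤ H' →
      comp G x H' = (QuotientGroup.mk g : G ⧸ H'.toSubgroup) := by
  obtain ⟨g, hg⟩ := QuotientGroup.mk_surjective (comp G x H)
  refine ⟨g, fun H' h => ?_⟩
  rw [← comp_compat G x h, ← hg]
  rfl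

theorem continuous_comp (H : FiniteIndexNormalSubgroup 𝒢) :
    Continuous (fun x : completion 𝒢 => (x.val H : (diagram 𝒢).obj H)) :=
  (continuous_apply H).comp continuous_subtype_val

instance (H : FiniteIndexNormalSubgroup 𝒢) : DiscreteTopology ((diagram 𝒢).obj H) := ⟨rfl⟩

/-- The action of the completion on a finite `G`-set, as a homomorphism. -/
noncomputable def actHom (X : Action FintypeCat.{u} G) : completion 𝒢 →* Equiv.Perm X.V where
  toFun x := QuotientGroup.kerLift (MulAction.toPermHom G X.V) (comp G x (kerX G X))
  map_one' := by rw [comp_one]; exact map_one _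
  map_mul' x y := by rw [comp_mul]; exact map_mul _ _ _

noncomputable instance instAct (X : Action FintypeCat.{u} G) :
    MulAction (completion 𝒢) ((Action.forget FintypeCat G).obj X) :=
  MulAction.compHom X.V (actHom G X)

theorem smul_def' (X : Action FintypeCat.{u} G) (x : completion 𝒢)
    (v : (Action.forget FintypeCat G).obj X) :
    x • v = QuotientGroup.kerLift (MulAction.toPermHom G X.V) (comp G x (kerX G X)) v := rfl

theorem SM (X : Action FintypeCat.{u} G) (x : completion 𝒢) (g : G)
    (h : comp G x (kerX G X) = QuotientGroup.mk g) (v : (Action.forget FintypeCat G).obj X) :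
    x • v = (X.ρ g).hom v := by
  rw [smul_def', h]
  rfl

theorem isFG : IsFundamentalGroup (Action.forget FintypeCat.{u} G) (completion 𝒢) where
  naturality x X Y f v := by
    obtain ⟨g, hg⟩ := REP G x (kerX G X ⊓ kerX G Y)
    rw [SM G X x g (hg _ inf_le_left) v, SM G Y x g (hg _ inf_le_right)]
    have h1 := f.comm g
    exact congrArg (fun φ => φ.hom v) h1
  transitive_of_isGalois X _ := by
    have : MulAction.IsPretransitive G X.V :=
      CategoryTheory.FintypeCat.Action.pretransitive_of_isConnected G X
    refine ⟨fun v w => ?_⟩
    obtain ⟨g, hg⟩ := MulAction.exists_smul_eq G (show X.V from v) (show X.V from w)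
    exact ⟨etaFn 𝒢 g, (SM G X (etaFn 𝒢 g) g (comp_eta G g _) v).trans hg⟩
  continuous_smul X := by
    refine ⟨continuous_prod_of_discrete_right.mpr (fun v => ?_)⟩
    have h1 : Continuous (fun q : (diagram 𝒢).obj (kerX G X) =>
        (show (Action.forget FintypeCat G).obj X from
          QuotientGroup.kerLift (MulAction.toPermHom G X.V) q v)) :=
      continuous_of_discreteTopology
    exact h1.comp (continuous_comp G (kerX G X))
  non_trivial' x hx := by
    apply comp_ext
    intro H
    rw [comp_one]
    let XH : Action FintypeCat.{u} G :=
      Action.FintypeCat.ofMulAction G (FintypeCat.of (G ⧸ H.toSubgroup))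
    have hle : kerX G XH ≤ H := by
      intro g hg
      have h1 : MulAction.toPermHom G XH.V g = 1 := hg
      have h2 := congrArg
        (fun σ : Equiv.Perm XH.V => σ (QuotientGroup.mk (1 : G) : G ⧸ H.toSubgroup)) h1
      have h3 : (QuotientGroup.mk (g * 1) : G ⧸ H.toSubgroup) = 1 := h2
      rw [mul_one] at h3
      exact (QuotientGroup.eq_one_iff g).1 h3
    obtain ⟨g, hg⟩ := REP G x (kerX G XH)
    have h4 := hx XH (QuotientGroup.mk (1 : G) : G ⧸ H.toSubgroup)
    rw [SM G XH x g (hg _ le_rfl)] at h4
    have h5 : (QuotientGroup.mk (g * 1) : G ⧸ H.toSubgroup) = 1 := h4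
    rw [mul_one] at h5
    rw [hg H hle, h5]

end


open CategoryTheory in
/-- In the case of a discrete group G, let F be the forgetful functor from the category of finite G-sets
to finite sets. Then the canonical homomorphism from G to Aut(F), letting g act on every finite
G-set, extends to an isomorphism of topological groups from the profinite completion of G (the limit
of the finite quotients G/U over normal subgroups U of finite index) onto Aut(F) with its profinite
topology. (The published statement is for an arbitrary topological group G, with finite G-sets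
carrying a continuous action and the completion taken over open normal subgroups of finite index;
this row is the case of a discrete group.) -/
theorem result (G : Type u) [Group G] :
    ∃ φ : (ProfiniteGrp.ProfiniteCompletion.completion (GrpCat.of G)) ≃ₜ* Aut (Action.forget FintypeCat.{u} G),
      ∀ (g : G) (X : Action FintypeCat.{u} G) (x : X.V),
        (φ (ProfiniteGrp.ProfiniteCompletion.etaFn (GrpCat.of G) g)).hom.app X x = (X.ρ g).hom x := by
  have : IsFundamentalGroup (Action.forget FintypeCat.{u} G)
      (completion (GrpCat.of G)) := isFG G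
  refine ⟨ContinuousMulEquiv.mk' (toAutHomeo (Action.forget FintypeCat.{u} G)
    (completion (GrpCat.of G))) (fun x y => ?_), ?_⟩
  · simp only [toAutHomeo_apply, map_mul]
  · intro g X x
    show ((toAut (Action.forget FintypeCat.{u} G) (completion (GrpCat.of G)))
      (etaFn (GrpCat.of G) g)).hom.app X x = _
    rw [toAut_hom_app_apply]
    exact SM G X (etaFn (GrpCat.of G) g) g (comp_eta G g _) x

end Groth.Agent.S18425
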