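import Groth.Statements.S18426
import Groth.Agent.H73.NormzJap
import Groth.Agent.H54.ZMT

set_option autoImplicit false
universe u
open Pi1

namespace Groth.Agent.S18426

open AlgebraicGeometry CategoryTheory CategoryTheory.Limits in
/-- Suppose X is an integral scheme that is Noetherian and normal, write K for its function field, and
take L to be a finite separable extension of K. Then the normalization of X in L, namely the
relative normalization of the morphism Spec L → Spec K → X, is finite over X. (That this
normalization is a normal integral scheme with function field L is not restated.) -/
theorem result {X : Scheme.{u}} [IsIntegral X] [IsNoetherian X]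
    (hX : Pi1.IsNormalScheme X) (L : Type u) [Field L] [Algebra X.functionField L] [FiniteDimensional X.functionField L]
    [Algebra.IsSeparable X.functionField L]
    [QuasiCompact (Spec.map (CommRingCat.ofHom (algebraMap X.functionField L)) ≫ X.fromSpecStalk (genericPoint X))]
    [QuasiSeparated (Spec.map (CommRingCat.ofHom (algebraMap X.functionField L)) ≫ X.fromSpecStalk (genericPoint X))] :
    IsFinite (Spec.map (CommRingCat.ofHom (algebraMap X.functionField L)) ≫ X.fromSpecStalk (genericPoint X)).fromNormalization := by
  refine Groth.Agent.H73.Normz.isFinite_fromNormalization_of_forall
    (algebraMap X.functionField L) _ rfl ?_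
  intro U hU hne
  have hfrac : IsFractionRing Γ(X, U) X.functionField :=
    functionField_isFractionRing_of_isAffineOpen X U hU
  have hnoeth : IsNoetherianRing Γ(X, U) := IsLocallyNoetherian.component_noetherian ⟨U, hU⟩
  have hic : IsIntegrallyClosed Γ(X, U) :=
    Groth.Agent.H54.isIntegrallyClosed_of_isAffineOpen (fun y => (hX y).2) hU
  letI := ((algebraMap X.functionField L).comp (X.germToFunctionField U).hom).toAlgebra
  have htower : IsScalarTower Γ(X, U) X.functionField L :=
    IsScalarTower.of_algebraMap_eq' rfl
  exact IsIntegralClosure.finite Γ(X, U) X.functionField L (integralClosure Γ(X, U) L)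

end Groth.Agent.S18426
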