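import Groth.Statements.S18428
import Mathlib.CategoryTheory.Action.Concrete
import Mathlib.Tactic

set_option autoImplicit false
universe u
open scoped FintypeCatDiscrete
open Pi1

namespace Groth.Agent.S18428


open CategoryTheory PreGaloisCategory

section helpers

variable (G : Type u) [Group G] [TopologicalSpace G] [IsTopologicalGroup G]

abbrev CA : Type (u+1) := ContAction FintypeCat.{u} G
abbrev FF : CA G ⥤ FintypeCat.{u} := forget₂ (ContAction FintypeCat.{u} G) FintypeCat.{u}

variable {G}

omit [IsTopologicalGroup G] in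
theorem discTop (A : Action FintypeCat.{u} G) :
    DiscreteTopology ((forget₂ (Action FintypeCat.{u} G) TopCat).obj A) := ⟨rfl⟩

omit [IsTopologicalGroup G] in
/-- openness of the "transporter" sets in a continuous finite G-set -/
theorem isOpen_trans (X : CA G) (x y : X.obj.V) : IsOpen {g : G | (X.obj.ρ g).hom x = y} := by
  have h := X.property
  have hc : Continuous (fun p : G × ((forget₂ (Action FintypeCat.{u} G) TopCat).obj X.obj) => p.1 • p.2) :=
    h.continuous_smul
  have h2 : Continuous (fun g : G => ((g, x) : G × ((forget₂ (Action FintypeCat.{u} G) TopCat).obj X.obj))) :=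
    Continuous.prodMk continuous_id continuous_const
  have h3 := hc.comp h2
  have := discTop X.obj
  have h4 : IsOpen ({y} : Set ((forget₂ (Action FintypeCat.{u} G) TopCat).obj X.obj)) := isOpen_discrete _
  exact h4.preimage h3

omit [IsTopologicalGroup G] in
/-- Build a continuous finite G-set. -/
noncomputable def mkCA (T : Type u) [Fintype T] [MulAction G T]
    (h : ∀ x y : T, IsOpen {g : G | g • x = y}) : CA G :=
  ⟨Action.FintypeCat.ofMulAction G (FintypeCat.of T), by
    have := discTop (Action.FintypeCat.ofMulAction G (FintypeCat.of T))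
    constructor
    refine continuous_prod_of_discrete_right.mpr (fun x => ?_)
    refine continuous_discrete_rng.2 (fun y => ?_)
    exact h x y⟩

omit [IsTopologicalGroup G] in
theorem mkCA_ρ (T : Type u) [Fintype T] [MulAction G T]
    (h : ∀ x y : T, IsOpen {g : G | g • x = y}) (g : G) (x : T) :
    ((mkCA T h).obj.ρ g).hom x = g • x := rfl

/-- morphisms of continuous G-sets from equivariant maps -/
noncomputable def mkHom {X Y : CA G} (f : X.obj.V → Y.obj.V)
    (hf : ∀ (g : G) (x : X.obj.V), f ((X.obj.ρ g).hom x) = (Y.obj.ρ g).hom (f x)) : X ⟶ Y :=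
  ObjectProperty.homMk (⟨FintypeCat.homMk f, fun g => by
    apply FintypeCat.hom_ext
    intro x
    exact hf g x⟩ : X.obj ⟶ Y.obj)

theorem mkHom_apply {X Y : CA G} (f : X.obj.V → Y.obj.V)
    (hf : ∀ (g : G) (x : X.obj.V), f ((X.obj.ρ g).hom x) = (Y.obj.ρ g).hom (f x)) (x : X.obj.V) :
    ((FF G).map (mkHom f hf)) x = f x := rfl

/-- naturality, elementwise -/
theorem nat_apply (σ : Aut (FF G)) {X Y : CA G} (f : X ⟶ Y) (x : X.obj.V) :
    σ.hom.app Y (((FF G).map f) x) = ((FF G).map f) (σ.hom.app X x) := by
  have := σ.hom.naturality f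
  exact (congrArg (fun φ => φ x) this)


/-- the canonical homomorphism -/
noncomputable def iota : G →* Aut (FF G) where
  toFun g := NatIso.ofComponents (fun X => X.obj.ρAut g) (fun {X Y} f => (f.hom.comm g).symm)
  map_one' := by
    apply Iso.ext
    apply NatTrans.ext
    funext X
    exact X.obj.ρ.map_one
  map_mul' g h := by
    apply Iso.ext
    apply NatTrans.ext
    funext X
    exact X.obj.ρ.map_mul g h

theorem iota_apply (g : G) (X : CA G) (x : X.obj.V) :
    (iota g).hom.app X x = (X.obj.ρ g).hom x := rfl

theorem continuous_iota : Continuous (iota (G := G)) := by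
  refine continuous_induced_rng.2 ?_
  refine continuous_pi (fun X => ?_)
  refine continuous_discrete_rng.2 (fun s => ?_)
  have : ((fun g => (autEmbedding (FF G)) (iota g) X) ⁻¹' {s}) =
      ⋂ x : X.obj.V, {g : G | (X.obj.ρ g).hom x = s.hom x} := by
    ext g
    simp only [Set.mem_preimage, Set.mem_singleton_iff, Set.mem_iInter, Set.mem_setOf_eq]
    constructor
    · intro h x
      rw [← h]
      rfl
    · intro h
      apply Iso.ext
      apply FintypeCat.hom_ext
      intro x
      exact h x
  show IsOpen ((fun g => (autEmbedding (FF G)) (iota g) X) ⁻¹' {s})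
  rw [this]
  exact isOpen_iInter_of_finite (fun x => isOpen_trans X x _)


theorem key (k : ℕ) (f : Fin k → CA G) (σ : Aut (FF G)) :
    ∃ g : G, ∀ (i : Fin k) (x : (f i).obj.V), σ.hom.app (f i) x = ((f i).obj.ρ g).hom x := by
  classical
  let S := Σ i : Fin k, (f i).obj.V
  let T := ∀ p : S, (f p.1).obj.V
  haveI : Fintype T := Fintype.ofFinite T
  have hT : ∀ x y : T, IsOpen {g : G | g • x = y} := by
    intro x y
    have : {g : G | g • x = y} = ⋂ p : S, {g : G | ((f p.1).obj.ρ g).hom (x p) = y p} := by
      ext g
      simp only [Set.mem_setOf_eq, Set.mem_iInter]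
      constructor
      · intro h p
        rw [← h]
        rfl
      · intro h
        funext p
        exact h p
    rw [this]
    exact isOpen_iInter_of_finite (fun p => isOpen_trans _ _ _)
  let Y : CA G := mkCA T hT
  let y : T := fun p => p.2
  let O := MulAction.orbit G y
  haveI : Fintype O := Fintype.ofFinite O
  have hO : ∀ a b : O, IsOpen {g : G | g • a = b} := by
    intro a b
    have : {g : G | g • a = b} = {g : G | g • (a : T) = (b : T)} := by
      ext g
      simp only [Set.mem_setOf_eq]
      rw [← Subtype.coe_inj]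
      rfl
    rw [this]
    exact hT _ _
  let Z : CA G := mkCA O hO
  let j : Z ⟶ Y := mkHom (fun o => ((show O from o : O) : T)) (fun g o => rfl)
  let ev (p : S) : Y ⟶ f p.1 := mkHom (fun t => (show T from t) p) (fun g t => rfl)
  let o : O := ⟨y, MulAction.mem_orbit_self y⟩
  obtain ⟨g, hg⟩ := (show O from σ.hom.app Z o).2
  refine ⟨g, fun i x => ?_⟩
  have h1 := nat_apply σ j o
  have h2 := nat_apply σ (ev ⟨i, x⟩) y
  have hg' : g • y = ((show O from σ.hom.app Z o : O) : T) := hg
  calc σ.hom.app (f i) x = (show T from σ.hom.app Y y) ⟨i, x⟩ := h2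
    _ = ((show O from σ.hom.app Z o : O) : T) ⟨i, x⟩ := by
        rw [show (show T from σ.hom.app Y y) = ((show O from σ.hom.app Z o : O) : T) from h1]
    _ = (g • y) ⟨i, x⟩ := by rw [hg']
    _ = ((f i).obj.ρ g).hom x := rfl

theorem key' (I : Finset (CA G)) (σ : Aut (FF G)) :
    ∃ g : G, ∀ X ∈ I, ∀ x : X.obj.V, σ.hom.app X x = (X.obj.ρ g).hom x := by
  obtain ⟨g, hg⟩ := key I.card (fun i => (I.equivFin.symm i).1) σ
  refine ⟨g, fun X hX => ?_⟩
  have h := hg (I.equivFin ⟨X, hX⟩)
  have e : (I.equivFin.symm (I.equivFin ⟨X, hX⟩)).1 = X := by rw [Equiv.symm_apply_apply]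
  have gen : ∀ (X' : CA G), X' = X →
      (∀ x : X'.obj.V, σ.hom.app X' x = (X'.obj.ρ g).hom x) →
      ∀ x : X.obj.V, σ.hom.app X x = (X.obj.ρ g).hom x := by
    intro X' e' h'
    subst e'
    exact h'
  exact gen _ e h

theorem denseRange_iota : DenseRange (iota (G := G)) := by
  intro σ
  rw [mem_closure_iff]
  intro o ho hσ
  rw [isOpen_induced_iff] at ho
  obtain ⟨t, ht, rfl⟩ := ho
  rw [isOpen_pi_iff] at ht
  obtain ⟨I, u, hu, hsub⟩ := ht _ hσ
  obtain ⟨g, hg⟩ := key' I σ
  refine ⟨iota g, ?_, ⟨g, rfl⟩⟩
  apply hsub
  intro X hX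
  have : autEmbedding (FF G) (iota g) X = autEmbedding (FF G) σ X := by
    apply Iso.ext
    apply FintypeCat.hom_ext
    intro x
    exact (hg X hX x).symm
  rw [this]
  exact (hu X hX).2


theorem univ (Q : Type u) [Group Q] [Finite Q] [TopologicalSpace Q] [DiscreteTopology Q]
    (π : G →* Q) (hπ : Continuous π) :
    ∃! ψ : Aut (FF G) →* Q, Continuous ψ ∧ ψ.comp iota = π := by
  classical
  haveI : Fintype Q := Fintype.ofFinite Q
  letI act : MulAction G Q := MulAction.compHom Q π
  have hsm : ∀ (g : G) (q : Q), g • q = π g * q := fun g q => rfl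
  have hQ : ∀ x y : Q, IsOpen {g : G | g • x = y} := by
    intro x y
    have : {g : G | g • x = y} = π ⁻¹' {y * x⁻¹} := by
      ext g
      simp only [Set.mem_setOf_eq, Set.mem_preimage, Set.mem_singleton_iff, hsm]
      exact eq_mul_inv_iff_mul_eq.symm
    rw [this]
    exact (isOpen_discrete _).preimage hπ
  let XQ : CA G := mkCA Q hQ
  let r (a : Q) : XQ ⟶ XQ := mkHom (fun x => (show Q from x) * a)
    (fun g x => mul_assoc (π g) (show Q from x) a)
  have key1 : ∀ (σ : Aut (FF G)) (a : Q),
      (show Q from σ.hom.app XQ a) = (show Q from σ.hom.app XQ (1 : Q)) * a := by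
    intro σ a
    have h := nat_apply σ (r a) (1 : Q)
    have h' : (show Q from σ.hom.app XQ ((1 : Q) * a)) = (show Q from σ.hom.app XQ (1 : Q)) * a := h
    rw [one_mul] at h'
    exact h'
  let ψ : Aut (FF G) →* Q :=
    { toFun := fun σ => (show Q from σ.hom.app XQ (1 : Q))
      map_one' := rfl
      map_mul' := fun σ τ => by
        show (show Q from σ.hom.app XQ (τ.hom.app XQ (1 : Q))) = _
        exact key1 σ _ }
  have hψc : Continuous ψ := by
    have h1 : Continuous (fun s : Aut ((FF G).obj XQ) => (show Q from s.hom (1 : Q))) :=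
      continuous_of_discreteTopology
    have h2 : Continuous (fun σ : Aut (FF G) => autEmbedding (FF G) σ XQ) :=
      (continuous_apply XQ).comp continuous_induced_dom
    exact h1.comp h2
  have hψι : ψ.comp iota = π := by
    ext g
    show (show Q from (iota g).hom.app XQ (1 : Q)) = π g
    rw [iota_apply]
    show π g * 1 = π g
    rw [mul_one]
  refine ⟨ψ, ⟨hψc, hψι⟩, ?_⟩
  rintro ψ' ⟨hc', hι'⟩
  apply MonoidHom.ext
  intro σ
  have hfun : (ψ' : Aut (FF G) → Q) = ψ := by
    refine Continuous.ext_on denseRange_iota hc' hψc ?_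
    rintro _ ⟨g, rfl⟩
    have e1 := congrArg (fun φ : G →* Q => φ g) hι'
    have e2 := congrArg (fun φ : G →* Q => φ g) hψι
    exact e1.trans e2.symm
  exact congrFun hfun σ


end helpers


open CategoryTheory in
/-- Let G be a topological group, consider the category of finite sets (with the discrete topology)
equipped with a continuous action of G, and let F be the forgetful functor to finite sets, so that
Aut(F) is a profinite group. Then the homomorphism ι : G → Aut(F) letting g act on every finite
continuous G-set exists and is continuous, has dense image, and every continuous homomorphism from G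
to a finite discrete group factors uniquely through ι by a continuous homomorphism on Aut(F). As
Aut(F) is profinite, these properties say that ι induces an isomorphism of topological groups from
the profinite completion of G (the limit of the quotients G/U by open normal subgroups of finite
index) onto Aut(F). -/
theorem result (G : Type u) [Group G]
    [TopologicalSpace G] [IsTopologicalGroup G] :
    ∃ ι : G →* Aut (forget₂ (ContAction FintypeCat.{u} G) FintypeCat.{u}),
      Continuous ι ∧
      (∀ (g : G) (X : ContAction FintypeCat.{u} G) (x : X.obj.V), (ι g).hom.app X x = (X.obj.ρ g).hom x) ∧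
      DenseRange ι ∧
      ∀ (Q : Type u) [Group Q] [Finite Q] [TopologicalSpace Q] [DiscreteTopology Q] (π : G →* Q),
        Continuous π → ∃! ψ : Aut (forget₂ (ContAction FintypeCat.{u} G) FintypeCat.{u}) →* Q,
          Continuous ψ ∧ ψ.comp ι = π := by
  refine ⟨iota, continuous_iota, fun g X x => iota_apply g X x, denseRange_iota, ?_⟩
  intro Q _ _ _ _ π hπ
  exact univ Q π hπ

end Groth.Agent.S18428
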