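import Groth.Statements.S18429
-- import your own Groth.Agent.* helpers here

set_option autoImplicit false
universe u
open SpinCurv

namespace Groth.Agent.S18429

/-- Let n ≥ 1 and r ≥ 2 be integers and let e_0, …, e_{nr} be integers with e_0 = e_{nr} = 0 (the
coefficients of a chain of nr - 1 exceptional curves joining two non-exceptional components with
coefficient zero) such that at every interior index 1 ≤ j ≤ nr - 1 the second difference e_{j-1} - 2
e_j + e_{j+1} (the degree of the divisor Σ e_i E_i on the j-th curve of the chain) is divisible by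
r. Then there are integers e'_0, …, e'_{nr}, with e'_j ≡ e_j modulo r for every interior j, with
e'_0 = e'_{nr} = 0 and every e'_j ≤ 0, whose second differences at the interior indices are each 0
or r, and are nonzero at no two distinct interior indices. -/
theorem result (n r : ℕ) (hn : 1 ≤ n) (hr : 2 ≤ r)
    (e : ℕ → ℤ) (he0 : e 0 = 0) (henr : e (n * r) = 0)
    (hdiv : ∀ j : ℕ, 1 ≤ j → j < n * r → (r : ℤ) ∣ e (j - 1) - 2 * e j + e (j + 1)) :
    ∃ e' : ℕ → ℤ, e' 0 = 0 ∧ e' (n * r) = 0 ∧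
      (∀ j : ℕ, 1 ≤ j → j < n * r → (r : ℤ) ∣ e' j - e j) ∧
      (∀ j : ℕ, j ≤ n * r → e' j ≤ 0) ∧
      (∀ j : ℕ, 1 ≤ j → j < n * r →
        (e' (j - 1) - 2 * e' j + e' (j + 1) = 0 ∨ e' (j - 1) - 2 * e' j + e' (j + 1) = r)) ∧
      (∀ j j' : ℕ, 1 ≤ j → j < n * r → 1 ≤ j' → j' < n * r →
        e' (j - 1) - 2 * e' j + e' (j + 1) ≠ 0 → e' (j' - 1) - 2 * e' j' + e' (j' + 1) ≠ 0 → j = j') := by
  -- Step 1: e is linear mod r
  have hr0 : (0 : ℤ) < (r : ℤ) := by exact_mod_cast (by omega : 0 < r)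
  have hlin : ∀ j : ℕ, (j ≤ n * r → (r : ℤ) ∣ e j - j * e 1) ∧
      (j + 1 ≤ n * r → (r : ℤ) ∣ e (j + 1) - ((j + 1 : ℕ) : ℤ) * e 1) := by
    intro j
    induction j with
    | zero =>
      refine ⟨fun _ => ?_, fun _ => ?_⟩
      · rw [he0]; simp
      · simp
    | succ k ih =>
      refine ⟨fun h => ih.2 h, fun h => ?_⟩
      have h1 := ih.1 (by omega)
      have h2 := ih.2 (by omega)
      have h3 := hdiv (k + 1) (by omega) (by omega)
      have h4 : e (k + 1 + 1) - ((k + 1 + 1 : ℕ) : ℤ) * e 1 =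
          (e (k + 1 - 1) - 2 * e (k + 1) + e (k + 1 + 1)) +
            2 * (e (k + 1) - ((k + 1 : ℕ) : ℤ) * e 1) - (e k - (k : ℤ) * e 1) := by
        have : k + 1 - 1 = k := by omega
        rw [this]
        push_cast
        ring
      rw [h4]
      exact dvd_sub (dvd_add h3 (Dvd.dvd.mul_left h2 2)) h1
  have hlin' : ∀ j : ℕ, j ≤ n * r → (r : ℤ) ∣ e j - j * e 1 := fun j hj => (hlin j).1 hj
  -- Step 2: the slope
  set a : ℤ := (-e 1) % (r : ℤ) with ha
  have ha0 : 0 ≤ a := Int.emod_nonneg _ (ne_of_gt hr0)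
  have har : a < r := Int.emod_lt_of_pos _ hr0
  have hadvd : (r : ℤ) ∣ e 1 + a := by
    have h := Int.emod_add_mul_ediv (-e 1) (r : ℤ)
    refine ⟨-((-e 1) / (r : ℤ)), ?_⟩
    rw [← ha] at h
    linarith
  obtain ⟨aN, haN⟩ := Int.eq_ofNat_of_zero_le ha0
  have haNr : aN < r := by
    have : (aN : ℤ) < r := by rw [← haN]; exact har
    exact_mod_cast this
  set J : ℕ := n * (r - aN) with hJ
  have hJcast : (J : ℤ) = n * ((r : ℤ) - aN) := by
    rw [hJ]
    push_cast [Nat.cast_sub (le_of_lt haNr)]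
    ring
  have hJle : J ≤ n * r := Nat.mul_le_mul_left n (Nat.sub_le r aN)
  have hJn : n ≤ J := by
    calc n = n * 1 := (mul_one n).symm
      _ ≤ n * (r - aN) := Nat.mul_le_mul_left n (by omega)
  let e' : ℕ → ℤ := fun j => if j ≤ J then -(aN : ℤ) * j else -(aN : ℤ) * j + r * ((j : ℤ) - J)
  have e'_le : ∀ j : ℕ, j ≤ J → e' j = -(aN : ℤ) * j := fun j hj => if_pos hj
  have e'_gt : ∀ j : ℕ, J < j → e' j = -(aN : ℤ) * j + r * ((j : ℤ) - J) :=
    fun j hj => if_neg (by omega)
  -- second differences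
  have hD : ∀ k : ℕ, (k + 1 = J → e' k - 2 * e' (k + 1) + e' (k + 2) = r) ∧
      (k + 1 ≠ J → e' k - 2 * e' (k + 1) + e' (k + 2) = 0) := by
    intro k
    constructor
    · intro hk
      rw [e'_le k (by omega), e'_le (k + 1) (by omega), e'_gt (k + 2) (by omega)]
      have : ((k + 2 : ℕ) : ℤ) - J = 1 := by
        have : (J : ℤ) = ((k + 1 : ℕ) : ℤ) := by exact_mod_cast hk.symm
        rw [this]; push_cast; ring
      rw [this]
      push_cast
      ring
    · intro hk
      rcases Nat.lt_or_ge (k + 1) J with h | h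
      · rw [e'_le k (by omega), e'_le (k + 1) (by omega), e'_le (k + 2) (by omega)]
        push_cast
        ring
      · have h' : J < k + 1 := lt_of_le_of_ne h (Ne.symm hk)
        rcases Nat.lt_or_ge J k with h2 | h2
        · rw [e'_gt k h2, e'_gt (k + 1) (by omega), e'_gt (k + 2) (by omega)]
          push_cast
          ring
        · have hkJ : k = J := by omega
          rw [e'_le k (by omega), e'_gt (k + 1) (by omega), e'_gt (k + 2) (by omega)]
          have : (J : ℤ) = (k : ℤ) := by exact_mod_cast hkJ.symm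
          rw [this]
          push_cast
          ring
  refine ⟨e', ?_, ?_, ?_, ?_, ?_, ?_⟩
  · rw [e'_le 0 (Nat.zero_le _)]
    simp
  · rcases Nat.lt_or_ge J (n * r) with h | h
    · rw [e'_gt _ h, hJcast]
      push_cast
      rw [← haN]
      ring
    · have hJeq : J = n * r := le_antisymm hJle h
      have haN0 : aN = 0 := by
        have h1 : n * (r - aN) = n * r := hJeq
        have h2 : r - aN = r := Nat.eq_of_mul_eq_mul_left (by omega) h1
        omega
      rw [e'_le _ h, haN0]
      simp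
  · intro j hj1 hj2
    have h1 := hlin' j (le_of_lt hj2)
    have h2 : (r : ℤ) ∣ e' j + (aN : ℤ) * j := by
      rcases Nat.lt_or_ge J j with h | h
      · rw [e'_gt j h]
        refine ⟨(j : ℤ) - J, ?_⟩
        ring
      · rw [e'_le j h]
        refine ⟨0, ?_⟩
        ring
    have h3 : e' j - e j = (e' j + (aN : ℤ) * j) - (e j - j * e 1) - j * (e 1 + a) := by
      rw [haN]
      ring
    rw [h3]
    exact dvd_sub (dvd_sub h2 h1) (Dvd.dvd.mul_left hadvd _)
  · intro j hj
    rcases Nat.lt_or_ge J j with h | h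
    · rw [e'_gt j h, hJcast]
      have h1 : (j : ℤ) ≤ n * r := by exact_mod_cast hj
      have h2 : (0 : ℤ) ≤ (r : ℤ) - aN := by
        have : (aN : ℤ) < r := by exact_mod_cast haNr
        linarith
      nlinarith [mul_nonneg h2 (sub_nonneg.2 h1)]
    · rw [e'_le j h]
      have : (0 : ℤ) ≤ (aN : ℤ) * j := by positivity
      linarith
  · intro j hj1 hj2
    obtain ⟨k, rfl⟩ : ∃ k, j = k + 1 := ⟨j - 1, by omega⟩
    have hk : k + 1 - 1 = k := by omega
    rw [hk]
    by_cases h : k + 1 = J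
    · right; exact (hD k).1 h
    · left; exact (hD k).2 h
  · intro j j' hj1 hj2 hj1' hj2' hne hne'
    obtain ⟨k, rfl⟩ : ∃ k, j = k + 1 := ⟨j - 1, by omega⟩
    obtain ⟨k', rfl⟩ : ∃ k', j' = k' + 1 := ⟨j' - 1, by omega⟩
    have hk : k + 1 - 1 = k := by omega
    have hk' : k' + 1 - 1 = k' := by omega
    rw [hk] at hne
    rw [hk'] at hne'
    have h1 : k + 1 = J := by
      by_contra h
      exact hne ((hD k).2 h)
    have h2 : k' + 1 = J := by
      by_contra h
      exact hne' ((hD k').2 h)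
    omega

end Groth.Agent.S18429
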