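import Groth.Statements.S18431
import Mathlib.Algebra.Ring.GeomSum
import Mathlib.RingTheory.LocalRing.ResidueField.Basic

set_option autoImplicit false
universe u
open SpinCurv

namespace Groth.Agent.S18431

/-- Let R be a Noetherian local ring in which the natural number r is invertible and let ξ, ζ ∈ R
satisfy ξ^r = 1 and ζ^r = 1. Then either ξ = ζ, or ξ - ζ is a unit of R. (Consequently an element of
R annihilated by ξ - ζ is zero unless ξ = ζ. In the published setting R is moreover complete; the
step does not use completeness.) -/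
theorem result (R : Type u) [CommRing R] [IsNoetherianRing R] [IsLocalRing R]
    (r : ℕ) (hr : IsUnit (r : R)) (ξ ζ : R) (hξ : ξ ^ r = 1) (hζ : ζ ^ r = 1) :
    ξ = ζ ∨ IsUnit (ξ - ζ) := by
  classical
  by_cases hunit : IsUnit (ξ - ζ)
  · exact Or.inr hunit
  left
  have hr0 : r ≠ 0 := by
    rintro rfl
    simp at hr
  set S : R := ∑ i ∈ Finset.range r, ξ ^ i * ζ ^ (r - 1 - i) with hS
  have hmul : S * (ξ - ζ) = 0 := by
    rw [hS, geom_sum₂_mul, hξ, hζ, sub_self]
  have hres : IsLocalRing.residue R (ξ - ζ) = 0 := by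
    by_contra hne
    exact hunit ((IsLocalRing.residue_ne_zero_iff_isUnit _).mp hne)
  have hξζ : IsLocalRing.residue R ξ = IsLocalRing.residue R ζ := by
    rw [map_sub, sub_eq_zero] at hres
    exact hres
  have hζr : (IsLocalRing.residue R ζ) ^ r = 1 := by
    rw [← map_pow, hζ, map_one]
  have hζ0 : IsLocalRing.residue R ζ ≠ 0 := by
    intro h0
    rw [h0, zero_pow hr0] at hζr
    exact zero_ne_one hζr
  have hrres : IsLocalRing.residue R (r : R) ≠ 0 :=
    (IsLocalRing.residue_ne_zero_iff_isUnit _).mpr hr
  have hSres : IsLocalRing.residue R S ≠ 0 := by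
    rw [hS, map_sum]
    simp only [map_mul, map_pow, hξζ]
    rw [geom_sum₂_self]
    rw [map_natCast] at hrres
    exact mul_ne_zero hrres (pow_ne_zero _ hζ0)
  have hSunit : IsUnit S := (IsLocalRing.residue_ne_zero_iff_isUnit _).mp hSres
  have : ξ - ζ = 0 := by
    have := hSunit.mul_right_eq_zero.mp hmul
    exact this
  exact sub_eq_zero.mp this

end Groth.Agent.S18431
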