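import Groth.Statements.S18432
import Groth.Agent.H77.NodePS

set_option autoImplicit false
universe u
open SpinCurv

namespace Groth.Agent.S18432

/-- Let R be a complete Noetherian local ring, p, q elements of its maximal ideal, A = R[[x, y]]/(xy -
pq), and α(p, q) the A-linear endomorphism of A² with matrix (x p; q y), sending a column (a, b) to
(x a + p b, q a + y b). Then the kernel of α(p, q) is the submodule of A² generated by the columns
(p, -x) and (y, -q); equivalently the image of α(p, q) (the standard rank-one torsion-free module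
E(p, q)) is presented by two generators ξ, v with the relations p ξ = x v and y ξ = q v. -/
theorem result (R : Type u) [CommRing R] [IsNoetherianRing R] [IsLocalRing R]
    [IsAdicComplete (IsLocalRing.maximalIdeal R) R]
    (p q : R) (hp : p ∈ IsLocalRing.maximalIdeal R) (hq : q ∈ IsLocalRing.maximalIdeal R) :
    LinearMap.ker (Matrix.mulVecLin (SpinCurv.nodeAlpha R p q)) =
      Submodule.span (SpinCurv.NodeRing R (p * q))
        {![algebraMap R (SpinCurv.NodeRing R (p * q)) p, -SpinCurv.NodeRing.x R (p * q)],
         ![SpinCurv.NodeRing.y R (p * q), -algebraMap R (SpinCurv.NodeRing R (p * q)) q]} := by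
  have hπ : p * q ∈ IsLocalRing.maximalIdeal R := Ideal.mul_mem_right _ _ hp
  have hxy : SpinCurv.NodeRing.x R (p * q) * SpinCurv.NodeRing.y R (p * q) =
      algebraMap R (SpinCurv.NodeRing R (p * q)) p * algebraMap R (SpinCurv.NodeRing R (p * q)) q :=
    (Groth.Agent.H77.NodePS.xy_eq (R := R) (p * q)).trans
      (map_mul (algebraMap R (SpinCurv.NodeRing R (p * q))) p q)
  have hmv : ∀ v : Fin 2 → SpinCurv.NodeRing R (p * q),
      Matrix.mulVec (SpinCurv.nodeAlpha R p q) v =
        ![SpinCurv.NodeRing.x R (p * q) * v 0 + algebraMap R (SpinCurv.NodeRing R (p * q)) p * v 1,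
          algebraMap R (SpinCurv.NodeRing R (p * q)) q * v 0 + SpinCurv.NodeRing.y R (p * q) * v 1] := by
    intro v
    ext i
    fin_cases i <;> simp [SpinCurv.nodeAlpha, Matrix.mulVec, dotProduct, Fin.sum_univ_two]
  apply le_antisymm
  · intro v hv
    rw [LinearMap.mem_ker, Matrix.mulVecLin_apply, hmv] at hv
    have hv0 := congrFun hv 0
    have hv1 := congrFun hv 1
    simp only [Matrix.cons_val_zero, Matrix.cons_val_one, Pi.zero_apply] at hv0 hv1
    obtain ⟨f, g, s, t, h0, h1⟩ := Groth.Agent.H77.NodePS.alpha_decomp p q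
      (IsLocalRing.maximalIdeal R) hπ (v 0) (v 1)
    obtain ⟨hf, hg⟩ := Groth.Agent.H77.NodePS.alpha_inj p q (IsLocalRing.maximalIdeal R) hπ f g
      (by rw [h0, h1] at hv0; linear_combination hv0 - s * hxy)
      (by rw [h0, h1] at hv1; linear_combination hv1 + t * hxy)
    have hf0 : SpinCurv.NodeRing.ofX R (p * q) f = 0 := by
      rw [hf]
      show Ideal.Quotient.mk _ (PowerSeries.toMvPowerSeries (σ := Fin 2) 0 (0 : PowerSeries R)) = 0
      rw [map_zero, map_zero]
    have hg0 : SpinCurv.NodeRing.ofY R (p * q) g = 0 := by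
      rw [hg]
      show Ideal.Quotient.mk _ (PowerSeries.toMvPowerSeries (σ := Fin 2) 1 (0 : PowerSeries R)) = 0
      rw [map_zero, map_zero]
    have hv' : v = t • ![algebraMap R (SpinCurv.NodeRing R (p * q)) p, -SpinCurv.NodeRing.x R (p * q)] +
        s • ![SpinCurv.NodeRing.y R (p * q), -algebraMap R (SpinCurv.NodeRing R (p * q)) q] := by
      ext i
      fin_cases i
      · simp only [Fin.zero_eta, Fin.isValue, Pi.add_apply, Pi.smul_apply, Matrix.cons_val_zero,
          smul_eq_mul]
        rw [h0, hf0]; ring
      · simp only [Fin.mk_one, Fin.isValue, Pi.add_apply, Pi.smul_apply, Matrix.cons_val_one,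
          Matrix.cons_val_zero, smul_eq_mul]
        rw [h1, hg0]; ring
    rw [hv']
    exact Submodule.add_mem _
      (Submodule.smul_mem _ _ (Submodule.subset_span (Set.mem_insert _ _)))
      (Submodule.smul_mem _ _ (Submodule.subset_span (Set.mem_insert_of_mem _ (Set.mem_singleton _))))
  · rw [Submodule.span_le]
    rintro v (rfl | rfl)
    · rw [SetLike.mem_coe, LinearMap.mem_ker, Matrix.mulVecLin_apply, hmv]
      ext i
      fin_cases i
      · simp only [Fin.zero_eta, Fin.isValue, Matrix.cons_val_zero, Matrix.cons_val_one,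
          Pi.zero_apply]
        ring
      · simp only [Fin.mk_one, Fin.isValue, Matrix.cons_val_zero, Matrix.cons_val_one,
          Pi.zero_apply]
        linear_combination -hxy
    · rw [SetLike.mem_coe, LinearMap.mem_ker, Matrix.mulVecLin_apply, hmv]
      ext i
      fin_cases i
      · simp only [Fin.zero_eta, Fin.isValue, Matrix.cons_val_zero, Matrix.cons_val_one,
          Pi.zero_apply]
        linear_combination hxy
      · simp only [Fin.mk_one, Fin.isValue, Matrix.cons_val_zero, Matrix.cons_val_one,
          Pi.zero_apply]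
        ring

end Groth.Agent.S18432
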