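import Groth.Statements.S18433
import Groth.Agent.H77.NodePS

set_option autoImplicit false
universe u
open SpinCurv

namespace Groth.Agent.S18433

/-- Let R be a complete Noetherian local ring, p, q elements of its maximal ideal, A = R[[x, y]]/(xy -
pq), and α(p, q) the endomorphism (a, b) ↦ (x a + p b, q a + y b) of A². Restrict α(p, q) to pairs
(f, g) with f a power series in x alone and g a power series in y alone: the resulting map R[[x]] ×
R[[y]] → A², (f, g) ↦ (x f + p g, q f + y g), is injective and has the same image as α(p, q). Thus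
the image E(p, q) of α(p, q) is identified, R-linearly, with R[[x]] ⊕ R[[y]]. -/
theorem result (R : Type u) [CommRing R] [IsNoetherianRing R] [IsLocalRing R]
    [IsAdicComplete (IsLocalRing.maximalIdeal R) R]
    (p q : R) (hp : p ∈ IsLocalRing.maximalIdeal R) (hq : q ∈ IsLocalRing.maximalIdeal R) :
    Function.Injective (fun fg : PowerSeries R × PowerSeries R =>
        Matrix.mulVec (SpinCurv.nodeAlpha R p q)
          ![SpinCurv.NodeRing.ofX R (p * q) fg.1, SpinCurv.NodeRing.ofY R (p * q) fg.2]) ∧
    Set.range (fun fg : PowerSeries R × PowerSeries R =>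
        Matrix.mulVec (SpinCurv.nodeAlpha R p q)
          ![SpinCurv.NodeRing.ofX R (p * q) fg.1, SpinCurv.NodeRing.ofY R (p * q) fg.2]) =
      Set.range (Matrix.mulVec (SpinCurv.nodeAlpha R p q)) := by
  have hπ : p * q ∈ IsLocalRing.maximalIdeal R := Ideal.mul_mem_right _ _ hp
  have hxy : SpinCurv.NodeRing.x R (p * q) * SpinCurv.NodeRing.y R (p * q) =
      algebraMap R (SpinCurv.NodeRing R (p * q)) p * algebraMap R (SpinCurv.NodeRing R (p * q)) q :=
    (Groth.Agent.H77.NodePS.xy_eq (R := R) (p * q)).trans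
      (map_mul (algebraMap R (SpinCurv.NodeRing R (p * q))) p q)
  have hmv : ∀ v : Fin 2 → SpinCurv.NodeRing R (p * q),
      Matrix.mulVec (SpinCurv.nodeAlpha R p q) v =
        ![SpinCurv.NodeRing.x R (p * q) * v 0 + algebraMap R (SpinCurv.NodeRing R (p * q)) p * v 1,
          algebraMap R (SpinCurv.NodeRing R (p * q)) q * v 0 + SpinCurv.NodeRing.y R (p * q) * v 1] := by
    intro v
    ext i
    fin_cases i <;> simp [SpinCurv.nodeAlpha, Matrix.mulVec, dotProduct, Fin.sum_univ_two]
  constructor
  · intro fg fg' h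
    simp only [hmv] at h
    have h0 := congrFun h 0
    have h1 := congrFun h 1
    simp only [Matrix.cons_val_zero, Matrix.cons_val_one] at h0 h1
    obtain ⟨hf, hg⟩ := Groth.Agent.H77.NodePS.alpha_inj p q (IsLocalRing.maximalIdeal R) hπ
      (fg.1 - fg'.1) (fg.2 - fg'.2)
      (by rw [Groth.Agent.H77.NodePS.ofX_sub, Groth.Agent.H77.NodePS.ofY_sub]; linear_combination h0)
      (by rw [Groth.Agent.H77.NodePS.ofX_sub, Groth.Agent.H77.NodePS.ofY_sub]; linear_combination h1)
    exact Prod.ext (sub_eq_zero.1 hf) (sub_eq_zero.1 hg)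
  · apply Set.eq_of_subset_of_subset
    · rintro _ ⟨fg, rfl⟩
      exact ⟨_, rfl⟩
    · rintro _ ⟨v, rfl⟩
      obtain ⟨f, g, s, t, h0, h1⟩ := Groth.Agent.H77.NodePS.alpha_decomp p q
        (IsLocalRing.maximalIdeal R) hπ (v 0) (v 1)
      refine ⟨(f, g), ?_⟩
      simp only [hmv]
      ext i
      fin_cases i
      · simp only [Fin.zero_eta, Fin.isValue, Matrix.cons_val_zero, Matrix.cons_val_one]
        rw [h0, h1]
        linear_combination (-s) * hxy
      · simp only [Fin.mk_one, Fin.isValue, Matrix.cons_val_zero, Matrix.cons_val_one]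
        rw [h0, h1]
        linear_combination t * hxy

end Groth.Agent.S18433
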