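import Groth.Statements.S18434
import Mathlib

set_option autoImplicit false
universe u
open SpinCurv

namespace Groth.Agent.S18434

open MvPowerSeries Finsupp

section helpers

variable (k : Type u) [Field k]

theorem eq_single_zero (m : Fin 2 →₀ ℕ) (h : m 1 = 0) : m = single 0 (m 0) := by
  ext a
  rcases (by decide : ∀ n : Fin 2, n = 0 ∨ n = 1) a with rfl | rfl
  · rw [single_eq_same]
  · rw [h, single_eq_of_ne (by decide)]

theorem eq_single_one (m : Fin 2 →₀ ℕ) (h : m 0 = 0) : m = single 1 (m 1) := by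
  ext a
  rcases (by decide : ∀ n : Fin 2, n = 0 ∨ n = 1) a with rfl | rfl
  · rw [h, single_eq_of_ne (by decide)]
  · rw [single_eq_same]

theorem s01 (i : ℕ) : (single (0 : Fin 2) i) 1 = 0 := single_eq_of_ne (by decide)
theorem s10 (i : ℕ) : (single (1 : Fin 2) i) 0 = 0 := single_eq_of_ne (by decide)
theorem s00 (i : ℕ) : (single (0 : Fin 2) i) 0 = i := single_eq_same
theorem s11 (i : ℕ) : (single (1 : Fin 2) i) 1 = i := single_eq_same

theorem n1_le_iff (m : Fin 2 →₀ ℕ) :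
    (single 0 1 + single 1 1 : Fin 2 →₀ ℕ) ≤ m ↔ 1 ≤ m 0 ∧ 1 ≤ m 1 := by
  rw [Finsupp.le_def]
  constructor
  · intro h
    have h0 := h 0
    have h1 := h 1
    rw [Finsupp.add_apply, single_eq_same, single_eq_of_ne (by decide)] at h0 h1
    exact ⟨by omega, by omega⟩
  · rintro ⟨h0, h1⟩ a
    rcases (by decide : ∀ n : Fin 2, n = 0 ∨ n = 1) a with rfl | rfl
    · rw [Finsupp.add_apply, single_eq_same, single_eq_of_ne (by decide)]; omega
    · rw [Finsupp.add_apply, single_eq_same, single_eq_of_ne (by decide)]; omega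

theorem XX_eq : (X 0 * X 1 - C 0 : MvPowerSeries (Fin 2) k) =
    monomial (single 0 1 + single 1 1) 1 := by
  rw [map_zero (C (σ := Fin 2) (R := k)), sub_zero, X_def, X_def, monomial_mul_monomial, one_mul]

theorem CX_eq (w : k) (q : ℕ) : (C w * X 1 ^ q : MvPowerSeries (Fin 2) k) =
    monomial (single 1 q) w := by
  rw [X_pow_eq, ← monomial_zero_eq_C_apply, monomial_mul_monomial, zero_add, mul_one]

theorem mem_of_coeff (p q : ℕ) (hp : 1 ≤ p) (hq : 1 ≤ q) (w : k) (hw : w ≠ 0)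
    (F : MvPowerSeries (Fin 2) k)
    (h0 : ∀ i, i < p → coeff (single 0 i) F = 0)
    (h1 : ∀ j, 1 ≤ j → j < q → coeff (single 1 j) F = 0) :
    F ∈ Ideal.span {(X 0 * X 1 - C 0 : MvPowerSeries (Fin 2) k)} ⊔
      Ideal.span {(X 0 : MvPowerSeries (Fin 2) k) ^ p, C w * X 1 ^ q} := by
  classical
  obtain ⟨n₁, hn₁⟩ : ∃ n₁ : Fin 2 →₀ ℕ, n₁ = single 0 1 + single 1 1 := ⟨_, rfl⟩
  obtain ⟨G1, hG1⟩ : ∃ G1 : MvPowerSeries (Fin 2) k, G1 = fun m => coeff (m + n₁) F := ⟨_, rfl⟩
  obtain ⟨G2, hG2⟩ : ∃ G2 : MvPowerSeries (Fin 2) k,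
      G2 = fun m => if m 1 = 0 then coeff (m + single 0 p) F else 0 := ⟨_, rfl⟩
  obtain ⟨G3, hG3⟩ : ∃ G3 : MvPowerSeries (Fin 2) k,
      G3 = fun m => if m 0 = 0 then coeff (m + single 1 q) F else 0 := ⟨_, rfl⟩
  have c1 : ∀ m, coeff m G1 = coeff (m + n₁) F := fun m => by rw [hG1]; rfl
  have c2 : ∀ m, coeff m G2 = if m 1 = 0 then coeff (m + single 0 p) F else 0 :=
    fun m => by rw [hG2]; rfl
  have c3 : ∀ m, coeff m G3 = if m 0 = 0 then coeff (m + single 1 q) F else 0 :=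
    fun m => by rw [hG3]; rfl
  have hdec : F = monomial n₁ 1 * G1 + monomial (single 0 p) 1 * G2 +
      monomial (single 1 q) 1 * G3 := by
    ext m
    rw [map_add, map_add, coeff_monomial_mul, coeff_monomial_mul, coeff_monomial_mul, one_mul,
      one_mul, one_mul, c1, c2, c3]
    have hA : n₁ ≤ m ↔ 1 ≤ m 0 ∧ 1 ≤ m 1 := by rw [hn₁]; exact n1_le_iff m
    have hB : single 0 p ≤ m ↔ p ≤ m 0 := single_le_iff
    have hC : single 1 q ≤ m ↔ q ≤ m 1 := single_le_iff
    have hB' : (m - single 0 p : Fin 2 →₀ ℕ) 1 = m 1 := by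
      rw [Finsupp.tsub_apply, s01, Nat.sub_zero]
    have hC' : (m - single 1 q : Fin 2 →₀ ℕ) 0 = m 0 := by
      rw [Finsupp.tsub_apply, s10, Nat.sub_zero]
    rw [hB', hC']
    by_cases hm1 : m 1 = 0
    · have e1 : ¬ n₁ ≤ m := fun h => by have := hA.mp h; omega
      have e3 : ¬ single 1 q ≤ m := fun h => by have := hC.mp h; omega
      rw [if_neg e1, if_neg e3, if_pos hm1, zero_add, add_zero]
      by_cases hm0 : p ≤ m 0
      · rw [if_pos (hB.mpr hm0), tsub_add_cancel_of_le (hB.mpr hm0)]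
      · rw [if_neg (fun h => hm0 (hB.mp h))]
        have e4 := eq_single_zero m hm1
        rw [e4]
        exact h0 _ (by omega)
    · by_cases hm0 : m 0 = 0
      · have e1 : ¬ n₁ ≤ m := fun h => by have := hA.mp h; omega
        have e2 : ¬ single 0 p ≤ m := fun h => by have := hB.mp h; omega
        rw [if_neg e1, if_neg e2, if_pos hm0, zero_add, zero_add]
        by_cases hmq : q ≤ m 1
        · rw [if_pos (hC.mpr hmq), tsub_add_cancel_of_le (hC.mpr hmq)]
        · rw [if_neg (fun h => hmq (hC.mp h))]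
          have e4 := eq_single_one m hm0
          rw [e4]
          exact h1 _ (by omega) (by omega)
      · have e1 : n₁ ≤ m := hA.mpr (by omega)
        rw [if_pos e1, if_neg hm1, if_neg hm0, ite_self, ite_self, add_zero, add_zero,
          tsub_add_cancel_of_le e1]
  rw [hdec]
  refine Submodule.add_mem _ (Submodule.add_mem _ ?_ ?_) ?_
  · apply Submodule.mem_sup_left
    rw [hn₁, ← XX_eq]
    exact Ideal.mul_mem_right _ _ (Ideal.subset_span rfl)
  · apply Submodule.mem_sup_right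
    rw [← X_pow_eq]
    exact Ideal.mul_mem_right _ _ (Ideal.subset_span (Set.mem_insert _ _))
  · apply Submodule.mem_sup_right
    have e : (monomial (single 1 q) 1 * G3 : MvPowerSeries (Fin 2) k) =
        (C w * X 1 ^ q) * (C w⁻¹ * G3) := by
      rw [CX_eq, ← monomial_zero_eq_C_apply, ← mul_assoc, monomial_mul_monomial, add_zero,
        mul_inv_cancel₀ hw]
    rw [e]
    exact Ideal.mul_mem_right _ _ (Ideal.subset_span (Set.mem_insert_of_mem _ rfl))

theorem coeff_of_mem (p q : ℕ) (hp : 1 ≤ p) (hq : 1 ≤ q) (w : k)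
    (F : MvPowerSeries (Fin 2) k)
    (hF : F ∈ Ideal.span {(X 0 * X 1 - C 0 : MvPowerSeries (Fin 2) k)} ⊔
      Ideal.span {(X 0 : MvPowerSeries (Fin 2) k) ^ p, C w * X 1 ^ q}) :
    (∀ i, i < p → coeff (single 0 i) F = 0) ∧
      (∀ j, 1 ≤ j → j < q → coeff (single 1 j) F = 0) := by
  classical
  obtain ⟨F₁, hF₁, F₂, hF₂, rfl⟩ := Submodule.mem_sup.mp hF
  obtain ⟨c₁, rfl⟩ := Ideal.mem_span_singleton'.mp hF₁
  obtain ⟨c₂, c₃, rfl⟩ := Ideal.mem_span_pair.mp hF₂
  rw [XX_eq, CX_eq, X_pow_eq]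
  constructor
  · intro i hi
    rw [map_add, map_add, coeff_mul_monomial, coeff_mul_monomial, coeff_mul_monomial]
    have e1 : ¬ (single 0 1 + single 1 1 : Fin 2 →₀ ℕ) ≤ single 0 i := fun h => by
      have h2 := ((n1_le_iff _).mp h).2
      rw [s01] at h2
      omega
    have e2 : ¬ (single 0 p : Fin 2 →₀ ℕ) ≤ single 0 i := fun h => by
      have h2 := single_le_iff.mp h
      rw [s00] at h2
      omega
    have e3 : ¬ (single 1 q : Fin 2 →₀ ℕ) ≤ single 0 i := fun h => by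
      have h2 := single_le_iff.mp h
      rw [s01] at h2
      omega
    rw [if_neg e1, if_neg e2, if_neg e3, add_zero, add_zero]
  · intro j hj1 hj2
    rw [map_add, map_add, coeff_mul_monomial, coeff_mul_monomial, coeff_mul_monomial]
    have e1 : ¬ (single 0 1 + single 1 1 : Fin 2 →₀ ℕ) ≤ single 1 j := fun h => by
      have h2 := ((n1_le_iff _).mp h).1
      rw [s10] at h2
      omega
    have e2 : ¬ (single 0 p : Fin 2 →₀ ℕ) ≤ single 1 j := fun h => by
      have h2 := single_le_iff.mp h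
      rw [s10] at h2
      omega
    have e3 : ¬ (single 1 q : Fin 2 →₀ ℕ) ≤ single 1 j := fun h => by
      have h2 := single_le_iff.mp h
      rw [s11] at h2
      omega
    rw [if_neg e1, if_neg e2, if_neg e3, add_zero, add_zero]

/-- The coefficient map onto `k^p × k^(q-1)`. -/
noncomputable def Phi (p q : ℕ) :
    MvPowerSeries (Fin 2) k →ₗ[k] (Fin p → k) × (Fin (q - 1) → k) :=
  LinearMap.prod (LinearMap.pi fun i : Fin p => coeff (single 0 (i : ℕ)))
    (LinearMap.pi fun j : Fin (q - 1) => coeff (single 1 ((j : ℕ) + 1)))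

theorem Phi_surjective (p q : ℕ) : Function.Surjective (Phi k p q) := by
  classical
  rintro ⟨c, d⟩
  obtain ⟨c', hc'⟩ : ∃ c' : ℕ → k, c' = fun i => if h : i < p then c ⟨i, h⟩ else 0 := ⟨_, rfl⟩
  obtain ⟨d', hd'⟩ : ∃ d' : ℕ → k, d' = fun j => if h : j < q - 1 then d ⟨j, h⟩ else 0 :=
    ⟨_, rfl⟩
  obtain ⟨F, hF⟩ : ∃ F : MvPowerSeries (Fin 2) k,
      F = fun m => if m 1 = 0 then c' (m 0) else if m 0 = 0 then d' (m 1 - 1) else 0 := ⟨_, rfl⟩
  have cF : ∀ m, coeff m F = if m 1 = 0 then c' (m 0) else if m 0 = 0 then d' (m 1 - 1) else 0 :=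
    fun m => by rw [hF]; rfl
  refine ⟨F, ?_⟩
  refine Prod.ext (funext fun i => ?_) (funext fun j => ?_)
  · show coeff (single 0 (i : ℕ)) F = c i
    rw [cF, s01, if_pos rfl, s00, hc']
    show (if h : (i : ℕ) < p then c ⟨i, h⟩ else 0) = c i
    rw [dif_pos i.2]
  · show coeff (single 1 ((j : ℕ) + 1)) F = d j
    rw [cF, s11, s10, if_neg (by omega), if_pos rfl, hd']
    show (if h : (j : ℕ) + 1 - 1 < q - 1 then d ⟨(j : ℕ) + 1 - 1, h⟩ else 0) = d j
    have hj : (j : ℕ) + 1 - 1 < q - 1 := by have := j.2; omega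
    rw [dif_pos hj]
    congr 1

theorem ker_Phi (p q : ℕ) (hp : 1 ≤ p) (hq : 1 ≤ q) (w : k) (hw : w ≠ 0) :
    LinearMap.ker (Phi k p q) =
      (Ideal.span {(X 0 * X 1 - C 0 : MvPowerSeries (Fin 2) k)} ⊔
        Ideal.span {(X 0 : MvPowerSeries (Fin 2) k) ^ p, C w * X 1 ^ q}).restrictScalars k := by
  ext F
  rw [LinearMap.mem_ker, Submodule.restrictScalars_mem]
  constructor
  · intro h
    apply mem_of_coeff k p q hp hq w hw F
    · intro i hi
      have h2 := congrFun (congrArg Prod.fst h) ⟨i, hi⟩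
      exact h2
    · intro j hj1 hj2
      have h2 := congrFun (congrArg Prod.snd h) ⟨j - 1, by omega⟩
      have e : j - 1 + 1 = j := by omega
      have h3 : coeff (single 1 (j - 1 + 1)) F = 0 := h2
      rwa [e] at h3
  · intro h
    obtain ⟨h0, h1⟩ := coeff_of_mem k p q hp hq w F h
    refine Prod.ext (funext fun i => ?_) (funext fun j => ?_)
    · exact h0 i i.2
    · have := j.2
      exact h1 ((j : ℕ) + 1) (by omega) (by omega)

theorem finrank_main (p q : ℕ) (hp : 1 ≤ p) (hq : 1 ≤ q) (w : k) (hw : w ≠ 0) :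
    Module.finrank k
      ((MvPowerSeries (Fin 2) k ⧸ Ideal.span {(X 0 * X 1 - C 0 : MvPowerSeries (Fin 2) k)}) ⧸
        (Ideal.span {(X 0 : MvPowerSeries (Fin 2) k) ^ p, C w * X 1 ^ q}).map
          (Ideal.Quotient.mkₐ k (Ideal.span {(X 0 * X 1 - C 0 : MvPowerSeries (Fin 2) k)}))) =
      p + q - 1 := by
  have e1 := (DoubleQuot.quotQuotEquivQuotSupₐ k
    (Ideal.span {(X 0 * X 1 - C 0 : MvPowerSeries (Fin 2) k)})
    (Ideal.span {(X 0 : MvPowerSeries (Fin 2) k) ^ p, C w * X 1 ^ q})).toLinearEquiv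
  have e2 := Submodule.Quotient.restrictScalarsEquiv k
    (Ideal.span {(X 0 * X 1 - C 0 : MvPowerSeries (Fin 2) k)} ⊔
      Ideal.span {(X 0 : MvPowerSeries (Fin 2) k) ^ p, C w * X 1 ^ q})
  have e3 := (Phi k p q).quotKerEquivOfSurjective (Phi_surjective k p q)
  rw [ker_Phi k p q hp hq w hw] at e3
  rw [e1.finrank_eq, ← e2.finrank_eq, e3.finrank_eq, Module.finrank_prod,
    Module.finrank_fin_fun, Module.finrank_fin_fun]
  omega

end helpers


/-- Let k be a field, u, v ≥ 1 integers and w ∈ k nonzero. In the ring A = k[[x, y]]/(xy), the quotient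
A/(x^u, w y^v) has dimension u + v - 1 over k (a basis is 1, x, …, x^{u-1}, y, …, y^{v-1}); this is
the length of the cokernel at the node of a map whose image is generated by x^u and w y^v. -/
theorem result (k : Type u) [Field k] (u v : ℕ) (hu : 1 ≤ u) (hv : 1 ≤ v)
    (w : k) (hw : w ≠ 0) :
    Module.finrank k (SpinCurv.NodeRing k 0 ⧸
      Ideal.span {SpinCurv.NodeRing.x k 0 ^ u, algebraMap k (SpinCurv.NodeRing k 0) w * SpinCurv.NodeRing.y k 0 ^ v}) =
      u + v - 1 := by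
  have e : Ideal.span {SpinCurv.NodeRing.x k 0 ^ u,
      algebraMap k (SpinCurv.NodeRing k 0) w * SpinCurv.NodeRing.y k 0 ^ v} =
      (Ideal.span {(MvPowerSeries.X 0 : MvPowerSeries (Fin 2) k) ^ u,
        MvPowerSeries.C w * MvPowerSeries.X 1 ^ v}).map
        (Ideal.Quotient.mkₐ k (Ideal.span {(MvPowerSeries.X 0 * MvPowerSeries.X 1 -
          MvPowerSeries.C 0 : MvPowerSeries (Fin 2) k)})) := by
    rw [Ideal.map_span, Set.image_pair, map_pow, map_mul, map_pow]
    rfl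
  rw [e]
  exact finrank_main k u v hu hv w hw

end Groth.Agent.S18434
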