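import Groth.Statements.S18435
import Mathlib

set_option autoImplicit false
universe u
open SpinCurv

namespace Groth.Agent.S18435

open Polynomial

section helpers

variable (k : Type u) [Field k]

theorem xy_eq_zero :
    SpinCurv.PolyNodeRing.x k 0 * SpinCurv.PolyNodeRing.y k 0 = 0 := by
  have h : (MvPolynomial.X 0 * MvPolynomial.X 1 : MvPolynomial (Fin 2) k) ∈
      Ideal.span {(MvPolynomial.X 0 * MvPolynomial.X 1 - MvPolynomial.C 0 :
        MvPolynomial (Fin 2) k)} :=
    Ideal.mem_span_singleton'.mpr ⟨1, by rw [one_mul, MvPolynomial.C_0, sub_zero]⟩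
  have h2 := Ideal.Quotient.eq_zero_iff_mem.mpr h
  rw [map_mul] at h2
  exact h2

noncomputable def phiY : SpinCurv.PolyNodeRing k 0 →ₐ[k] k[X] :=
  Ideal.Quotient.liftₐ _ (MvPolynomial.aeval (![0, X] : Fin 2 → k[X])) (by
    intro a ha
    obtain ⟨c, rfl⟩ := Ideal.mem_span_singleton'.mp ha
    rw [map_mul, map_sub, map_mul, MvPolynomial.aeval_X, MvPolynomial.aeval_X,
      MvPolynomial.C_0, map_zero]
    simp)

theorem phiY_mk (G : MvPolynomial (Fin 2) k) :
    phiY k (Ideal.Quotient.mk _ G) = MvPolynomial.aeval (![0, X] : Fin 2 → k[X]) G := rfl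

theorem phiY_x : phiY k (SpinCurv.PolyNodeRing.x k 0) = 0 := by
  rw [phiY_mk, MvPolynomial.aeval_X]; rfl

theorem phiY_y : phiY k (SpinCurv.PolyNodeRing.y k 0) = X := by
  rw [phiY_mk, MvPolynomial.aeval_X]; rfl

theorem normal_form (g : SpinCurv.PolyNodeRing k 0) :
    ∃ a b : k[X], g = aeval (SpinCurv.PolyNodeRing.x k 0) a +
      SpinCurv.PolyNodeRing.y k 0 * aeval (SpinCurv.PolyNodeRing.y k 0) b := by
  obtain ⟨G, rfl⟩ := Ideal.Quotient.mk_surjective g
  have hxy := xy_eq_zero k
  induction G using MvPolynomial.induction_on with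
  | C c =>
    refine ⟨C c, 0, ?_⟩
    rw [aeval_C, map_zero (aeval (SpinCurv.PolyNodeRing.y k 0)), mul_zero, add_zero]
    rfl
  | add p q hp hq =>
    obtain ⟨a1, b1, h1⟩ := hp
    obtain ⟨a2, b2, h2⟩ := hq
    refine ⟨a1 + a2, b1 + b2, ?_⟩
    rw [map_add, h1, h2, map_add, map_add]
    ring
  | mul_X p n hp =>
    obtain ⟨a, b, h⟩ := hp
    rw [map_mul, h]
    rcases (by decide : ∀ n : Fin 2, n = 0 ∨ n = 1) n with rfl | rfl
    · refine ⟨a * X, 0, ?_⟩
      rw [map_mul, aeval_X, map_zero (aeval (SpinCurv.PolyNodeRing.y k 0)), mul_zero, add_zero]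
      linear_combination (aeval (SpinCurv.PolyNodeRing.y k 0) b) * hxy
    · refine ⟨0, C (a.coeff 0) + X * b, ?_⟩
      have ha2 : aeval (SpinCurv.PolyNodeRing.x k 0) a =
          aeval (SpinCurv.PolyNodeRing.x k 0) (divX a) * SpinCurv.PolyNodeRing.x k 0 +
            algebraMap k _ (a.coeff 0) := by
        conv_lhs => rw [← divX_mul_X_add a]
        rw [map_add, map_mul, aeval_X, aeval_C]
      rw [ha2, map_zero (aeval (SpinCurv.PolyNodeRing.x k 0)), zero_add, map_add, map_mul,
        aeval_X, aeval_C]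
      linear_combination (aeval (SpinCurv.PolyNodeRing.x k 0) (divX a)) * hxy

theorem aeval_zero' (a : k[X]) : aeval (0 : k[X]) a = C (a.coeff 0) := by
  rw [aeval_def, eval₂_at_zero]; rfl

theorem eq_aeval_of_y_mul_eq_zero (g : SpinCurv.PolyNodeRing k 0)
    (h : SpinCurv.PolyNodeRing.y k 0 * g = 0) :
    ∃ a : k[X], a.coeff 0 = 0 ∧ g = aeval (SpinCurv.PolyNodeRing.x k 0) a := by
  obtain ⟨a, b, rfl⟩ := normal_form k g
  have h2 := congrArg (phiY k) h
  rw [map_mul, map_add, map_mul, map_zero (phiY k), phiY_y, ← aeval_algHom_apply, ← aeval_algHom_apply,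
    phiY_x, phiY_y, aeval_zero', aeval_X_left_apply] at h2
  have h3 := (mul_eq_zero.mp h2).resolve_left X_ne_zero
  have h4 : (C (a.coeff 0) + X * b).coeff 0 = 0 := by rw [h3, coeff_zero]
  rw [coeff_add, coeff_C_zero, coeff_X_mul_zero, add_zero] at h4
  rw [h4, C_0, zero_add] at h3
  have hb := (mul_eq_zero.mp h3).resolve_left X_ne_zero
  exact ⟨a, h4, by rw [hb, map_zero (aeval (SpinCurv.PolyNodeRing.y k 0)), mul_zero, add_zero]⟩

theorem aeval_T_one (a : k[X]) :
    aeval (LaurentPolynomial.T 1 : LaurentPolynomial k) a = toLaurent a := by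
  have h : (aeval (LaurentPolynomial.T 1 : LaurentPolynomial k)) = toLaurentAlg :=
    Polynomial.algHom_ext (by rw [aeval_X, toLaurentAlg_apply, toLaurent_X])
  rw [h, toLaurentAlg_apply]

theorem aeval_T_neg_one (a : k[X]) :
    aeval (LaurentPolynomial.T (-1) : LaurentPolynomial k) a =
      LaurentPolynomial.invert (toLaurent a) := by
  have h : (aeval (LaurentPolynomial.T (-1) : LaurentPolynomial k)) =
      (LaurentPolynomial.invert : LaurentPolynomial k ≃ₐ[k] LaurentPolynomial k).toAlgHom.comp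
        toLaurentAlg :=
    Polynomial.algHom_ext (by
      rw [aeval_X, AlgHom.comp_apply, toLaurentAlg_apply, toLaurent_X]
      exact (LaurentPolynomial.invert_T 1).symm)
  rw [h, AlgHom.comp_apply, toLaurentAlg_apply]
  rfl

theorem poly_aux (a a' : k[X]) (ha : a.coeff 0 = 0) (ha' : a'.coeff 0 = 0)
    (h : toLaurent a = LaurentPolynomial.T 1 * LaurentPolynomial.invert (toLaurent a')) :
    a = 0 ∧ a' = 0 := by
  have hE : a * X ^ a'.natDegree = X * a'.reverse := by
    apply toLaurent_injective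
    rw [map_mul, map_mul, toLaurent_X_pow, toLaurent_X, LaurentPolynomial.toLaurent_reverse, h,
      mul_assoc]
  have ha'0 : a' = 0 := by
    by_contra hne
    have hL : a'.leadingCoeff ≠ 0 := leadingCoeff_ne_zero.mpr hne
    rcases Nat.eq_zero_or_pos a'.natDegree with hd | hd
    · have h5 := eq_C_of_natDegree_eq_zero hd
      rw [ha', C_0] at h5
      exact hne h5
    · have h1 : (a * X ^ a'.natDegree).coeff (0 + 1) = (X * a'.reverse).coeff (0 + 1) := by
        rw [hE]
      rw [coeff_X_mul, coeff_zero_reverse, coeff_mul_X_pow'] at h1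
      split_ifs at h1 with hle
      · have h6 : 0 + 1 - a'.natDegree = 0 := by omega
        rw [h6, ha] at h1
        exact hL h1.symm
      · exact hL h1.symm
  refine ⟨?_, ha'0⟩
  rw [ha'0, natDegree_zero, pow_zero, mul_one, reverse_zero, mul_zero] at hE
  exact hE

end helpers


/-- Let k be a field and A = k[x, y]/(xy) the node, with the two affine charts U = Spec k[s, y]/(sy) and
V = Spec k[t, x]/(tx) of the curve obtained by the (p, q)-construction with p = q = 0, glued along
k[s, s⁻¹] by t = s⁻¹ (y ↦ 0 from U, x ↦ 0 from V), and with A → O(U) given by x ↦ 0, y ↦ y and A →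
O(V) by x ↦ x, y ↦ 0. A global section of O(1) is a pair (g, f) with g = s f on U ∩ V. If such a
pair is annihilated by both x and y (acting through the two restriction maps), then g = 0 and f = 0;
so the module of global sections of O(1) has no nonzero element killed by the maximal ideal (x, y),
i.e. its direct image on the node is torsion-free there. All three coordinate rings are written as
the quotient of the polynomial ring in two variables by the product of the variables, and the four
restriction homomorphisms are k-algebra maps pinned by their values on generators. (The published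
proof reduces the torsion-freeness of the direct image of O(1), for general R, p, q, to exactly this
case of a field with p = q = 0.) -/
theorem result (k : Type u) [Field k]
    (rU : SpinCurv.PolyNodeRing k 0 →ₐ[k] SpinCurv.PolyNodeRing k 0)
    (hrUx : rU (SpinCurv.PolyNodeRing.x k 0) = 0)
    (hrUy : rU (SpinCurv.PolyNodeRing.y k 0) = SpinCurv.PolyNodeRing.y k 0)
    (rV : SpinCurv.PolyNodeRing k 0 →ₐ[k] SpinCurv.PolyNodeRing k 0)
    (hrVx : rV (SpinCurv.PolyNodeRing.x k 0) = SpinCurv.PolyNodeRing.y k 0)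
    (hrVy : rV (SpinCurv.PolyNodeRing.y k 0) = 0)
    (gU : SpinCurv.PolyNodeRing k 0 →ₐ[k] LaurentPolynomial k)
    (hgUs : gU (SpinCurv.PolyNodeRing.x k 0) = LaurentPolynomial.T 1)
    (hgUy : gU (SpinCurv.PolyNodeRing.y k 0) = 0)
    (gV : SpinCurv.PolyNodeRing k 0 →ₐ[k] LaurentPolynomial k)
    (hgVt : gV (SpinCurv.PolyNodeRing.x k 0) = LaurentPolynomial.T (-1))
    (hgVx : gV (SpinCurv.PolyNodeRing.y k 0) = 0)
    (g f : SpinCurv.PolyNodeRing k 0) (hsec : gU g = LaurentPolynomial.T 1 * gV f)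
    (hx : rU (SpinCurv.PolyNodeRing.x k 0) * g = 0 ∧ rV (SpinCurv.PolyNodeRing.x k 0) * f = 0)
    (hy : rU (SpinCurv.PolyNodeRing.y k 0) * g = 0 ∧ rV (SpinCurv.PolyNodeRing.y k 0) * f = 0) :
    g = 0 ∧ f = 0 := by
  have hyg : SpinCurv.PolyNodeRing.y k 0 * g = 0 := by rw [← hrUy]; exact hy.1
  have hyf : SpinCurv.PolyNodeRing.y k 0 * f = 0 := by rw [← hrVx]; exact hx.2
  obtain ⟨a, ha0, rfl⟩ := eq_aeval_of_y_mul_eq_zero k g hyg
  obtain ⟨a', ha'0, rfl⟩ := eq_aeval_of_y_mul_eq_zero k f hyf
  rw [← Polynomial.aeval_algHom_apply, ← Polynomial.aeval_algHom_apply, hgUs, hgVt, aeval_T_one,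
    aeval_T_neg_one] at hsec
  obtain ⟨h1, h2⟩ := poly_aux k a a' ha0 ha'0 hsec
  rw [h1, h2, map_zero (Polynomial.aeval (SpinCurv.PolyNodeRing.x k 0))]
  exact ⟨rfl, rfl⟩

end Groth.Agent.S18435
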