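import Groth.Statements.S18457
import Mathlib.Algebra.Order.Chebyshev
import Mathlib.Tactic.Linarith
import Mathlib.Tactic.NormNum
import Mathlib.Tactic.IntervalCases

set_option autoImplicit false
open Finset
open Surf

namespace Groth.Agent.S18457

theorem f_nonneg (x : ℤ) (hx : 0 ≤ x) : 0 ≤ x * (x - 1) := by
  rcases eq_or_lt_of_le hx with h | h
  · rw [← h]; norm_num
  · have : 1 ≤ x := h
    nlinarith

theorem f_eq_zero (x : ℤ) (_hx : 0 ≤ x) (h : x * (x - 1) = 0) : x = 0 ∨ x = 1 := by
  rcases mul_eq_zero.mp h with h | h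
  · left; exact h
  · right; linarith

theorem f_ge_two (x : ℤ) (hx : 0 ≤ x) (h : x * (x - 1) ≠ 0) : 2 ≤ x * (x - 1) ∧ 2 ≤ x := by
  have h2 : 2 ≤ x := by
    by_contra hlt
    rw [not_le] at hlt
    have : x = 0 ∨ x = 1 := by omega
    rcases this with rfl | rfl <;> simp at h
  exact ⟨by nlinarith, h2⟩

theorem f_eq_two (x : ℤ) (hx : 0 ≤ x) (h : x * (x - 1) = 2) : x = 2 := by
  have h2 : 2 ≤ x := (f_ge_two x hx (by rw [h]; norm_num)).2
  by_contra hne
  have : 3 ≤ x := by omega
  nlinarith

theorem card_ones {n : ℕ} (a : Fin n → ℤ) (h01 : ∀ i, a i = 0 ∨ a i = 1) :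
    ((Finset.univ.filter (fun i => a i = 1)).card : ℤ) = ∑ i, a i := by
  rw [Finset.card_filter]
  push_cast
  apply Finset.sum_congr rfl
  intro i _
  rcases h01 i with h | h <;> simp [h]


/-- In the Picard lattice of the plane blown up at n ≤ 8 points, with basis h, e_1, …, e_n, form h² = 1,
e_i² = −1, all other products 0, and anticanonical class D = 3h − Σ e_i, let d·h − Σ a_i e_i be a
class with all a_i ≥ 0 (the class of the strict transform of a degree-d plane curve having
multiplicity a_i at the i-th point) which is a (−2)-class orthogonal to D, that is d² − Σ a_i² = −2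
and 3d = Σ a_i. Then one of the following holds: d = 1 and every a_i is 0 or 1 with exactly three
equal to 1; d = 2 and every a_i is 0 or 1 with exactly six equal to 1; d = 3, n = 8, and one a_i
equals 2 while the remaining seven equal 1. The published statement is geometric: under the
general-position hypotheses on the points, no smooth rational curve on the blown-up plane is
orthogonal to D; this row is the lattice enumeration its proof carries out (a line through three of
the points, a conic through six, a cubic through all eight and singular at one). -/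
theorem result (n : ℕ) (hn : n ≤ 8)
    (d : ℤ) (a : Fin n → ℤ) (ha : ∀ i, 0 ≤ a i)
    (hsq : d ^ 2 - ∑ i, (a i) ^ 2 = -2) (hK : 3 * d = ∑ i, a i) :
    (d = 1 ∧ (∀ i, a i = 0 ∨ a i = 1) ∧ (Finset.univ.filter (fun i => a i = 1)).card = 3) ∨
      (d = 2 ∧ (∀ i, a i = 0 ∨ a i = 1) ∧ (Finset.univ.filter (fun i => a i = 1)).card = 6) ∨
      (d = 3 ∧ n = 8 ∧ ∃ j, a j = 2 ∧ ∀ i, i ≠ j → a i = 1) := by
  classical
  have hd0 : 0 ≤ d := by
    have : 0 ≤ ∑ i, a i := Finset.sum_nonneg (fun i _ => ha i)
    linarith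
  have hCS : (∑ i, a i) ^ 2 ≤ (n : ℤ) * ∑ i, (a i) ^ 2 := by
    have := sq_sum_le_card_mul_sum_sq (s := (Finset.univ : Finset (Fin n))) (f := a)
    simpa using this
  have hS2 : ∑ i, (a i) ^ 2 = d ^ 2 + 2 := by linarith
  have hn' : (n : ℤ) ≤ 8 := by exact_mod_cast hn
  have hd4 : d ≤ 4 := by
    rw [← hK, hS2] at hCS
    have : (n : ℤ) * (d ^ 2 + 2) ≤ 8 * (d ^ 2 + 2) :=
      mul_le_mul_of_nonneg_right hn' (by positivity)
    nlinarith
  have hf : ∑ i, a i * (a i - 1) = d ^ 2 + 2 - 3 * d := by
    have : ∑ i, a i * (a i - 1) = ∑ i, (a i) ^ 2 - ∑ i, a i := by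
      rw [← Finset.sum_sub_distrib]
      apply Finset.sum_congr rfl
      intro i _; ring
    rw [this, hS2, ← hK]
  have hfnn : ∀ i ∈ (Finset.univ : Finset (Fin n)), 0 ≤ a i * (a i - 1) :=
    fun i _ => f_nonneg (a i) (ha i)
  interval_cases d
  · -- d = 0
    exfalso
    have hz : ∀ i ∈ (Finset.univ : Finset (Fin n)), a i = 0 := by
      have : ∑ i, a i = 0 := by linarith
      exact (Finset.sum_eq_zero_iff_of_nonneg (fun i _ => ha i)).mp this
    have : ∑ i, a i * (a i - 1) = 0 := by
      apply Finset.sum_eq_zero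
      intro i hi; rw [hz i hi]; norm_num
    rw [this] at hf
    norm_num at hf
  · -- d = 1
    left
    have h0 : ∑ i, a i * (a i - 1) = 0 := by rw [hf]; norm_num
    have h01 : ∀ i, a i = 0 ∨ a i = 1 := fun i =>
      f_eq_zero (a i) (ha i) ((Finset.sum_eq_zero_iff_of_nonneg hfnn).mp h0 i (Finset.mem_univ i))
    refine ⟨rfl, h01, ?_⟩
    have := card_ones a h01
    rw [← hK] at this
    exact_mod_cast this
  · -- d = 2
    right; left
    have h0 : ∑ i, a i * (a i - 1) = 0 := by rw [hf]; norm_num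
    have h01 : ∀ i, a i = 0 ∨ a i = 1 := fun i =>
      f_eq_zero (a i) (ha i) ((Finset.sum_eq_zero_iff_of_nonneg hfnn).mp h0 i (Finset.mem_univ i))
    refine ⟨rfl, h01, ?_⟩
    have := card_ones a h01
    rw [← hK] at this
    exact_mod_cast this
  · -- d = 3
    right; right
    have h2 : ∑ i, a i * (a i - 1) = 2 := by rw [hf]; norm_num
    obtain ⟨j, hj⟩ : ∃ j, a j * (a j - 1) ≠ 0 := by
      by_contra hcon
      push Not at hcon
      have : ∑ i, a i * (a i - 1) = 0 := Finset.sum_eq_zero (fun i _ => hcon i)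
      rw [this] at h2; norm_num at h2
    have hsplit := Finset.add_sum_erase Finset.univ (fun i => a i * (a i - 1)) (Finset.mem_univ j)
    have hrest_nn : 0 ≤ ∑ i ∈ Finset.univ.erase j, a i * (a i - 1) :=
      Finset.sum_nonneg (fun i _ => f_nonneg (a i) (ha i))
    have hj2 := (f_ge_two (a j) (ha j) hj).1
    have hfj : a j * (a j - 1) = 2 := by
      linarith
    have hrest0 : ∑ i ∈ Finset.univ.erase j, a i * (a i - 1) = 0 := by
      linarith
    have haj : a j = 2 := f_eq_two (a j) (ha j) hfj
    have h01 : ∀ i, i ≠ j → a i = 0 ∨ a i = 1 := by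
      intro i hij
      have := (Finset.sum_eq_zero_iff_of_nonneg
        (fun i _ => f_nonneg (a i) (ha i))).mp hrest0 i (Finset.mem_erase.mpr ⟨hij, Finset.mem_univ i⟩)
      exact f_eq_zero (a i) (ha i) this
    have hsum := Finset.add_sum_erase Finset.univ a (Finset.mem_univ j)
    have hrest7 : ∑ i ∈ Finset.univ.erase j, a i = 7 := by
      rw [haj] at hsum
      linarith
    have hle1 : ∀ i ∈ Finset.univ.erase j, a i ≤ 1 := by
      intro i hi
      rcases h01 i (Finset.mem_erase.mp hi).1 with h | h <;> rw [h] <;> norm_num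
    have hcard : ((Finset.univ.erase j).card : ℤ) = (n : ℤ) - 1 := by
      rw [Finset.card_erase_of_mem (Finset.mem_univ j), Finset.card_univ, Fintype.card_fin]
      have : 1 ≤ n := Nat.succ_le_of_lt (Fin.pos j)
      push_cast [Nat.cast_sub this]
      ring
    have hbound : ∑ i ∈ Finset.univ.erase j, a i ≤ ((Finset.univ.erase j).card : ℤ) := by
      have := Finset.sum_le_card_nsmul (Finset.univ.erase j) a 1 hle1
      simpa using this
    have hn8 : n = 8 := by
      rw [hrest7, hcard] at hbound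
      omega
    refine ⟨rfl, hn8, j, haj, ?_⟩
    intro i hij
    have hzero : ∑ i ∈ Finset.univ.erase j, (1 - a i) = 0 := by
      rw [Finset.sum_sub_distrib, hrest7]
      simp only [Finset.sum_const, nsmul_eq_mul, mul_one]
      rw [hcard, hn8]
      norm_num
    have := (Finset.sum_eq_zero_iff_of_nonneg (fun i hi => by
      have := hle1 i hi; linarith)).mp hzero i (Finset.mem_erase.mpr ⟨hij, Finset.mem_univ i⟩)
    linarith
  · -- d = 4
    exfalso
    have hS1 : ∑ i, a i = 12 := by linarith
    have hS2' : ∑ i, (a i) ^ 2 = 18 := by rw [hS2]; norm_num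
    have hodd : ∀ i ∈ (Finset.univ : Finset (Fin n)), (1 : ℤ) ≤ (2 * a i - 3) ^ 2 := by
      intro i _
      have : 2 * a i - 3 ≠ 0 := by omega
      have h1 : 1 ≤ |2 * a i - 3| := Int.one_le_abs this
      have : (1 : ℤ) ^ 2 ≤ |2 * a i - 3| ^ 2 := by
        apply pow_le_pow_left₀ (by norm_num) h1
      rwa [sq_abs, one_pow] at this
    have hsum : ∑ i, (2 * a i - 3) ^ 2 = 9 * (n : ℤ) - 72 := by
      have : ∑ i, (2 * a i - 3) ^ 2 = 4 * ∑ i, (a i) ^ 2 - 12 * ∑ i, a i + 9 * (n : ℤ) := by
        rw [Finset.mul_sum, Finset.mul_sum, ← Finset.sum_sub_distrib]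
        have h9 : (9 : ℤ) * (n : ℤ) = ∑ _i : Fin n, (9 : ℤ) := by
          simp [mul_comm]
        rw [h9, ← Finset.sum_add_distrib]
        apply Finset.sum_congr rfl
        intro i _; ring
      rw [this, hS1, hS2']
      ring
    have hge : (n : ℤ) ≤ ∑ i, (2 * a i - 3) ^ 2 := by
      have := Finset.card_nsmul_le_sum (Finset.univ : Finset (Fin n)) (fun i => (2 * a i - 3) ^ 2) 1 hodd
      simpa using this
    rw [hsum] at hge
    have : n = 0 ∨ 9 ≤ n := by omega
    rcases this with h | h
    · subst h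
      simp at hS1
    · omega

end Groth.Agent.S18457
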