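import Groth.Statements.S18464
import Groth.Agent.H91.GenPts

set_option autoImplicit false
universe u
open CategoryTheory CategoryTheory.Limits AlgebraicGeometry
open LefPen

namespace Groth.Agent.S18464

/-- Let k be an infinite field, r a natural number, d ≥ 1 an integer, and m ≥ C(r+d, d), the number of
monomials of degree d in r+1 variables. In the space of m-tuples of vectors of k^(r+1) (homogeneous
coordinate vectors of m points of projective r-space; a zero vector is allowed and imposes no
condition), the tuples such that the only form of degree d vanishing at all of them is the zero form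
make up a Zariski-open subset which contains the non-vanishing locus of a not identically zero
polynomial function, so a dense open subset. (The published statement is the openness and density of
the corresponding locus in the m-fold product of projective r-space over the ground field; here the
ground field is any infinite field and the statement is made on coordinate vectors.) -/
theorem result (k : Type u) [Field k] [Infinite k]
    (r d m : ℕ) (hd : 1 ≤ d) (hm : Nat.choose (r + d) d ≤ m) :
    LefPen.IsZOpen k {x : Fin m → (Fin (r + 1) → k) |
      ∀ G : LefPen.Form r k d, (∀ i : Fin m, MvPolynomial.aeval (x i) G.1 = 0) → G = 0} ∧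
    LefPen.IsGeneric k {x : Fin m → (Fin (r + 1) → k) |
      ∀ G : LefPen.Form r k d, (∀ i : Fin m, MvPolynomial.aeval (x i) G.1 = 0) → G = 0} := by
  classical
  haveI := Groth.Agent.H91.GenPts.finite_form k r d
  obtain ⟨N, hN⟩ : ∃ N, N = Module.finrank k (LefPen.Form r k d) := ⟨_, rfl⟩
  obtain ⟨B⟩ : Nonempty (Module.Basis (Fin N) k (LefPen.Form r k d)) :=
    ⟨Module.finBasisOfFinrankEq k _ hN.symm⟩
  have hNm : Module.finrank k (LefPen.Form r k d) ≤ m := by
    have h1 : Module.finrank k (LefPen.Form r k d) = Nat.choose (d + r) r :=
      Groth.Agent.H91.GenPts.finrank_homog k r d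
    rw [h1]
    have h2 : Nat.choose (d + r) r = Nat.choose (r + d) d := by
      rw [Nat.add_comm d r]
      exact Nat.choose_symm_add
    rw [h2]
    exact hm
  constructor
  · intro v hv
    obtain ⟨I, hI⟩ := Groth.Agent.H91.GenPts.exists_det_ne_zero_of_mem k r d m B v hv
    exact ⟨_, Groth.Agent.H91.GenPts.isPolyFun_minor k r d m B I, hI,
      fun w hw G hG => Groth.Agent.H91.GenPts.mem_of_det_ne_zero k r d m B I w hw G hG⟩
  · obtain ⟨v, hv⟩ := Groth.Agent.H91.GenPts.exists_mem k r d m hNm
    obtain ⟨I, hI⟩ := Groth.Agent.H91.GenPts.exists_det_ne_zero_of_mem k r d m B v hv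
    exact ⟨_, Groth.Agent.H91.GenPts.isPolyFun_minor k r d m B I, ⟨v, hI⟩,
      fun w hw G hG => Groth.Agent.H91.GenPts.mem_of_det_ne_zero k r d m B I w hw G hG⟩

end Groth.Agent.S18464
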