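import Groth.Statements.S18465
-- import your own Groth.Agent.* helpers here

set_option autoImplicit false
universe u v w x
open WildLef

namespace Groth.Agent.S18465

/-- Let f : G₁ → G₂ be a homomorphism of groups, ρ : G₂ → Γ a homomorphism with finite image G, and A a
nontrivial commutative ring. Let G₂ act on the group algebra A[G] through ρ followed by the left
regular representation, and G₁ through f. If the elements of A[G] fixed by G₁ coincide with those
fixed by G₂, then ρ ∘ f and ρ have the same image. (The published statement has Γ a general linear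
group GL_r(A); over the zero ring that group is trivial, so requiring A nontrivial and allowing any
target group loses nothing.) -/
theorem result
    {G₁ : Type u} {G₂ : Type v} {Γ : Type w} [Group G₁] [Group G₂] [Group Γ]
    (f : G₁ →* G₂) (ρ : G₂ →* Γ) [Finite ρ.range] (A : Type x) [CommRing A] [Nontrivial A]
    (h : {x : MonoidAlgebra A ρ.range | ∀ g : G₁, MonoidAlgebra.of A ρ.range (ρ.rangeRestrict (f g)) * x = x} =
      {x : MonoidAlgebra A ρ.range | ∀ g : G₂, MonoidAlgebra.of A ρ.range (ρ.rangeRestrict g) * x = x}) :
    (ρ.comp f).range = ρ.range := by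
  classical
  apply le_antisymm
  · rintro _ ⟨g, rfl⟩
    exact ⟨f g, rfl⟩
  · rintro γ ⟨g₂, rfl⟩
    have : Fintype ρ.range := Fintype.ofFinite _
    let H : Finset ρ.range := Finset.univ.filter (fun b => ∃ g : G₁, ρ.rangeRestrict (f g) = b)
    have hH : ∀ b : ρ.range, b ∈ H ↔ ∃ g : G₁, ρ.rangeRestrict (f g) = b := by
      intro b; simp [H]
    let x : MonoidAlgebra A ρ.range := ∑ b ∈ H, MonoidAlgebra.single b (1 : A)
    have hx : ∀ b : ρ.range, x.coeff b = if b ∈ H then 1 else 0 := by
      intro b
      simp only [x, MonoidAlgebra.coeff_sum, MonoidAlgebra.coeff_single, Finsupp.finsetSum_apply,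
        Finsupp.single_apply]
      rw [Finset.sum_ite_eq' H b (fun _ => (1 : A))]
    have hxmem : x ∈ {x : MonoidAlgebra A ρ.range |
        ∀ g : G₁, MonoidAlgebra.of A ρ.range (ρ.rangeRestrict (f g)) * x = x} := by
      intro g
      apply MonoidAlgebra.coeff_injective
      ext b
      rw [MonoidAlgebra.of_apply, MonoidAlgebra.coeff_single_mul_apply, one_mul, hx, hx]
      have : (ρ.rangeRestrict (f g))⁻¹ * b ∈ H ↔ b ∈ H := by
        rw [hH, hH]
        constructor
        · rintro ⟨g', hg'⟩
          refine ⟨g * g', ?_⟩
          rw [map_mul, map_mul, hg', mul_inv_cancel_left]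
        · rintro ⟨g', hg'⟩
          refine ⟨g⁻¹ * g', ?_⟩
          rw [map_mul, map_mul, hg', map_inv, map_inv]
      simp only [this]
    rw [h] at hxmem
    have h0 := hxmem g₂
    have h1 := congrArg (fun y => y.coeff (ρ.rangeRestrict g₂)) h0
    simp only [MonoidAlgebra.of_apply, MonoidAlgebra.coeff_single_mul_apply, one_mul,
      inv_mul_cancel, hx] at h1
    have h1H : (1 : ρ.range) ∈ H := (hH 1).mpr ⟨1, by simp⟩
    rw [if_pos h1H] at h1
    have hmem : ρ.rangeRestrict g₂ ∈ H := by
      by_contra hne
      rw [if_neg hne] at h1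
      exact one_ne_zero h1
    obtain ⟨g, hg⟩ := (hH _).mp hmem
    refine ⟨g, ?_⟩
    have := congrArg Subtype.val hg
    simpa using this

end Groth.Agent.S18465
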