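import Groth.Statements.S18466
import Mathlib

set_option autoImplicit false
universe u
open Hopf

namespace Groth.Agent.S18466

open TensorProduct

section aux

variable (k : Type u) [Field k] (n : ℕ) [NeZero n]

local notation "G" => Multiplicative (ZMod n)

/-- a group-like element of the function algebra is a character -/
theorem groupLike_mul (χ : ConstGrp.F k G) (h : IsGroupLikeElem k χ) (a b : G) :
    χ (a * b) = χ a * χ b := by
  classical
  have h2 := h.comul_eq_tmul_self
  rw [ConstGrp.comul_eq_sum] at h2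
  let L : ConstGrp.F k G ⊗[k] ConstGrp.F k G →ₗ[k] k :=
    (TensorProduct.lid k k).toLinearMap ∘ₗ
      TensorProduct.map (ConstGrp.ev k a).toLinearMap (ConstGrp.ev k b).toLinearMap
  have h3 := congrArg L h2
  simp only [L, map_sum, map_smul, LinearMap.comp_apply, TensorProduct.map_tmul,
    AlgHom.toLinearMap_apply, ConstGrp.ev_apply, LinearEquiv.coe_coe, TensorProduct.lid_tmul,
    smul_eq_mul, ConstGrp.e_apply] at h3
  rw [Finset.sum_eq_single a, Finset.sum_eq_single b] at h3
  · simpa [mul_comm] using h3
  · intro b' _ hb'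
    simp [Ne.symm hb']
  · simp
  · intro a' _ ha'
    apply Finset.sum_eq_zero
    intro b' _
    simp [Ne.symm ha']
  · simp

theorem groupLike_one (χ : ConstGrp.F k G) (h : IsGroupLikeElem k χ) : χ 1 = 1 :=
  h.counit_eq_one

theorem exists_primitiveRoot_of_equiv
    (Φ : ConstGrp.F k G ≃ₐc[k] MonoidAlgebra k G) : ∃ ζ : k, IsPrimitiveRoot ζ n := by
  classical
  let g₀ : G := Multiplicative.ofAdd (1 : ZMod n)
  let χ : ConstGrp.F k G := Φ.symm (MonoidAlgebra.of k G g₀)
  have hχ : IsGroupLikeElem k χ :=
    (MonoidAlgebra.isGroupLikeElem_of (R := k) (A := k) g₀).map Φ.symm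
  have hmul := groupLike_mul k n χ hχ
  have hone := groupLike_one k n χ hχ
  have hpow : ∀ j : ℕ, χ (g₀ ^ j) = χ g₀ ^ j := by
    intro j
    induction j with
    | zero => rw [pow_zero, pow_zero, hone]
    | succ j ih => rw [pow_succ, pow_succ, hmul, ih]
  have hg₀ : ∀ j : ℕ, g₀ ^ j = Multiplicative.ofAdd (j : ZMod n) := by
    intro j
    rw [← ofAdd_nsmul, nsmul_one]
  have hgen : ∀ h : G, ∃ j : ℕ, h = g₀ ^ j := by
    intro h
    refine ⟨(Multiplicative.toAdd h).val, ?_⟩
    rw [hg₀, ZMod.natCast_zmod_val]
    rfl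
  have hn0 : 0 < n := Nat.pos_of_ne_zero (NeZero.ne n)
  refine ⟨χ g₀, IsPrimitiveRoot.mk_of_lt _ hn0 ?_ ?_⟩
  · rw [← hpow, hg₀, ZMod.natCast_self]
    exact hone
  · intro l hl0 hln hl1
    have h1 : χ ^ l = 1 := by
      ext h
      obtain ⟨j, rfl⟩ := hgen h
      change (χ (g₀ ^ j)) ^ l = 1
      rw [hpow, ← pow_mul, mul_comm, pow_mul, hl1, one_pow]
    have h2 : Φ (χ ^ l) = Φ 1 := by rw [h1]
    rw [map_pow, map_one] at h2
    have h3 : Φ χ = MonoidAlgebra.of k G g₀ := Φ.apply_symm_apply _
    rw [h3, ← map_pow, ← map_one (MonoidAlgebra.of k G)] at h2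
    have h4 := MonoidAlgebra.of_injective h2
    rw [hg₀] at h4
    have h5 : ((l : ℕ) : ZMod n) = 0 := by
      have := congrArg Multiplicative.toAdd h4
      simpa using this
    rw [ZMod.natCast_eq_zero_iff] at h5
    exact absurd (Nat.le_of_dvd hl0 h5) (not_le.mpr hln)

theorem exists_equiv_of_primitiveRoot (ζ : k) (hζ : IsPrimitiveRoot ζ n) :
    Nonempty (ConstGrp.F k G ≃ₐc[k] MonoidAlgebra k G) := by
  classical
  let z : AddChar (ZMod n) k := AddChar.zmodChar n hζ.pow_eq_one
  have hz : ∀ a : ZMod n, z a = ζ ^ a.val := fun a => AddChar.zmodChar_apply _ a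
  let χ : G → (G →* k) := fun g =>
    { toFun := fun h => z (Multiplicative.toAdd g * Multiplicative.toAdd h)
      map_one' := by simp
      map_mul' := fun h h' => by
        rw [toAdd_mul, mul_add, AddChar.map_add_eq_mul] }
  have hχ : ∀ g h, χ g h = z (Multiplicative.toAdd g * Multiplicative.toAdd h) := fun g h => rfl
  have hχinj : Function.Injective χ := by
    intro g g' hgg'
    have h1 := DFunLike.congr_fun hgg' (Multiplicative.ofAdd (1 : ZMod n))
    rw [hχ, hχ, toAdd_ofAdd, mul_one, mul_one, hz, hz] at h1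
    have := hζ.pow_inj (ZMod.val_lt _) (ZMod.val_lt _) h1
    exact Multiplicative.toAdd.injective (ZMod.val_injective n this)
  let Ψ : G →* ConstGrp.F k G :=
    { toFun := fun g => (χ g : G → k)
      map_one' := by
        ext h
        change χ 1 h = 1
        rw [hχ]
        simp
      map_mul' := fun g g' => by
        ext h
        change χ (g * g') h = χ g h * χ g' h
        rw [hχ, hχ, hχ, toAdd_mul, add_mul, AddChar.map_add_eq_mul] }
  have hΨ : ∀ g h, Ψ g h = χ g h := fun g h => rfl
  let φ₀ : MonoidAlgebra k G →ₐ[k] ConstGrp.F k G := MonoidAlgebra.lift k (ConstGrp.F k G) G Ψ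
  have hφ₀ : ∀ g, φ₀ (MonoidAlgebra.single g 1) = Ψ g := by
    intro g
    simp [φ₀]
  let φ : MonoidAlgebra k G →ₐc[k] ConstGrp.F k G := BialgHom.ofAlgHom φ₀ (by
      ext g
      rw [AlgHom.comp_apply, hφ₀]
      have h1 : (Bialgebra.counitAlgHom k (ConstGrp.F k G)) (Ψ g) = 1 := by
        change Ψ g 1 = 1
        rw [hΨ, map_one]
      rw [h1]
      exact ((MonoidAlgebra.isGroupLikeElem_single_one (R := k) (A := k) g).counit_eq_one).symm)
    (by
      ext g
      rw [AlgHom.comp_apply, AlgHom.comp_apply, hφ₀]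
      have h1 : (Bialgebra.comulAlgHom k (MonoidAlgebra k G)) (MonoidAlgebra.single g 1) =
          MonoidAlgebra.single g 1 ⊗ₜ[k] MonoidAlgebra.single g 1 :=
        (MonoidAlgebra.isGroupLikeElem_single_one (R := k) (A := k) g).comul_eq_tmul_self
      rw [h1, Algebra.TensorProduct.map_tmul, hφ₀]
      have h2 : (Bialgebra.comulAlgHom k (ConstGrp.F k G)) (Ψ g) =
          ∑ a : G, ∑ b : G, (Ψ g (a * b)) • (ConstGrp.e k a ⊗ₜ[k] ConstGrp.e k b) :=
        ConstGrp.comul_eq_sum k G (Ψ g)
      rw [h2]
      conv_lhs => rw [ConstGrp.eq_sum_smul_e (Ψ g)]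
      rw [TensorProduct.sum_tmul]
      refine Finset.sum_congr rfl fun a _ => ?_
      rw [TensorProduct.tmul_sum]
      refine Finset.sum_congr rfl fun b _ => ?_
      rw [TensorProduct.smul_tmul_smul, hΨ, hΨ, hΨ, map_mul])
  have hφ : ∀ x, φ x = φ₀ x := fun x => rfl
  have hLI : LinearIndependent k (fun g : G => ((χ g : G →* k) : G → k)) :=
    (linearIndependent_monoidHom G k).comp χ hχinj
  have hinj : Function.Injective φ := by
    rw [injective_iff_map_eq_zero]
    intro x hx
    rw [hφ] at hx
    have h1 : φ₀ x = ∑ g : G, x.coeff g • Ψ g := by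
      change MonoidAlgebra.lift k (ConstGrp.F k G) G Ψ x = _
      rw [MonoidAlgebra.lift_apply, Finsupp.sum_fintype]
      intro i
      rw [zero_smul]
    rw [h1] at hx
    have h2 := Fintype.linearIndependent_iff.mp hLI (fun g => x.coeff g) hx
    rw [← MonoidAlgebra.coeff_inj]
    ext g
    exact h2 g
  have hfin : Module.Finite k (MonoidAlgebra k G) :=
    Module.Finite.of_basis (MonoidAlgebra.basis G k)
  have hrank : Module.finrank k (MonoidAlgebra k G) = Module.finrank k (ConstGrp.F k G) := by
    rw [Module.finrank_eq_card_basis (MonoidAlgebra.basis G k),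
      Module.finrank_eq_card_basis (ConstGrp.basis k G)]
  have hsurj : Function.Surjective φ := by
    have := (LinearMap.injective_iff_surjective_of_finrank_eq_finrank hrank
      (f := (φ₀.toLinearMap))).mp hinj
    exact this
  exact ⟨(BialgEquiv.ofBijective φ ⟨hinj, hsurj⟩).symm⟩

end aux

/-- Let k be a field and n ≥ 1. The constant group scheme ℤ/n over k is self-dual, that is, isomorphic
to its Cartier dual μ_n — equivalently the Hopf algebra of k-valued functions on the cyclic group of
order n and the group algebra of that group over k (group elements group-like) are isomorphic as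
bialgebras — precisely when the field k has a primitive n-th root of unity, i.e. k contains n
distinct n-th roots of unity in k. (The published statement assumes that the characteristic of k
does not divide n; both directions hold without that assumption by the same argument, since a
primitive n-th root of unity forces n to be nonzero in k, so it is omitted here.) -/
theorem result
    (k : Type u) [Field k] (n : ℕ) [NeZero n] :
    Nonempty (ConstGrp.F k (Multiplicative (ZMod n)) ≃ₐc[k] MonoidAlgebra k (Multiplicative (ZMod n))) ↔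
      ∃ ζ : k, IsPrimitiveRoot ζ n := by
  constructor
  · rintro ⟨Φ⟩
    exact exists_primitiveRoot_of_equiv k n Φ
  · rintro ⟨ζ, hζ⟩
    exact exists_equiv_of_primitiveRoot k n ζ hζ

end Groth.Agent.S18466
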