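import Groth.Statements.S18467
import Mathlib.RingTheory.IntegralDomain
import Mathlib.FieldTheory.Finite.Basic
import Mathlib.Algebra.Ring.GeomSum

set_option autoImplicit false
universe u
open Hopf

namespace Groth.Agent.S18467

/-- Orthogonality of the powers of the character. -/
theorem char_sum_zero (p : ℕ) [Fact p.Prime] (R : Type u) [CommRing R]
    (χ : (ZMod p)ˣ →* Rˣ) (hχ : ∀ m : (ZMod p)ˣ, m ≠ 1 → IsUnit ((χ m : R) - 1))
    (i j : ℕ) (hi : i < p - 1) (hj : j < p - 1) (hij : i ≠ j) :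
    ∑ m : (ZMod p)ˣ, ((χ m⁻¹ : Rˣ) : R) ^ i * ((χ m : Rˣ) : R) ^ j = 0 := by
  classical
  obtain ⟨g, hg⟩ := IsCyclic.exists_generator (α := (ZMod p)ˣ)
  have hord : orderOf g = p - 1 := by
    rw [orderOf_eq_card_of_forall_mem_zpowers hg, Nat.card_eq_fintype_card, ZMod.card_units p]
  set h : (ZMod p)ˣ := g ^ j * (g⁻¹) ^ i with hh
  have hne : h ≠ 1 := by
    intro h1
    have : g ^ j = g ^ i := by
      rw [hh, inv_pow, mul_inv_eq_one] at h1
      exact h1
    have := pow_injOn_Iio_orderOf (x := g) (by rw [hord]; exact hj) (by rw [hord]; exact hi) this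
    exact hij this.symm
  have hunit := hχ h hne
  set f : (ZMod p)ˣ → R := fun m => ((χ m⁻¹ : Rˣ) : R) ^ i * ((χ m : Rˣ) : R) ^ j with hf
  have hc : ∀ m, f (g * m) = ((χ h : Rˣ) : R) * f m := by
    intro m
    simp only [hf, hh, mul_inv_rev, map_mul, map_pow, map_inv, Units.val_mul, Units.val_pow_eq_pow_val]
    ring
  have hsum : ∑ m, f (g * m) = ∑ m, f m :=
    Fintype.sum_equiv (Equiv.mulLeft g) _ _ (fun m => rfl)
  have : (((χ h : Rˣ) : R) - 1) * ∑ m, f m = 0 := by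
    rw [sub_mul, one_mul, Finset.mul_sum, ← hsum]
    simp only [hc]
    exact sub_self _
  exact (hunit.mul_right_eq_zero).mp this

theorem geom_zero (p : ℕ) [Fact p.Prime] (R : Type u) [CommRing R]
    (χ : (ZMod p)ˣ →* Rˣ) (hχ : ∀ m : (ZMod p)ˣ, m ≠ 1 → IsUnit ((χ m : R) - 1))
    (m : (ZMod p)ˣ) (hm : m ≠ 1) :
    ∑ i : Fin (p - 1), ((χ m⁻¹ : Rˣ) : R) ^ (i : ℕ) = 0 := by
  have hm' : m⁻¹ ≠ 1 := by simpa using hm
  have hunit := hχ m⁻¹ hm'
  rw [Fin.sum_univ_eq_sum_range (fun i => ((χ m⁻¹ : Rˣ) : R) ^ i) (p - 1)]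
  have hpow : ((χ m⁻¹ : Rˣ) : R) ^ (p - 1) = 1 := by
    rw [← Units.val_pow_eq_pow_val, ← map_pow, ← ZMod.card_units p, pow_card_eq_one, map_one,
      Units.val_one]
  have := geom_sum_mul ((χ m⁻¹ : Rˣ) : R) (p - 1)
  rw [hpow, sub_self] at this
  exact (hunit.mul_left_eq_zero).mp this


/-- Let p be a prime and R a commutative ring containing an element u with u(p − 1) = 1, and let χ be a
homomorphism from the group of units of ℤ/p to the group of units of R such that χ(m) − 1 is a unit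
of R for every m ≠ 1. For 0 ≤ i < p − 1 put e_i = u · Σ_m χ(m)^{−i} [m] in the group algebra
R[(ℤ/p)ˣ]. Then the e_i are idempotents, e_i e_j = 0 for i ≠ j, and Σ_i e_i = 1. (The published
statement is for algebras over the subring of the p-adic integers generated over ℤ by the values of
the Teichmüller character χ and by 1/(p(p − 1)); the hypotheses on R and χ here are the properties
of that situation which the computation uses, so the row is stated for every such pair.) -/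
theorem result
    (p : ℕ) [Fact p.Prime] (R : Type u) [CommRing R] (u : R) (hu : u * ((p - 1 : ℕ) : R) = 1)
    (χ : (ZMod p)ˣ →* Rˣ) (hχ : ∀ m : (ZMod p)ˣ, m ≠ 1 → IsUnit ((χ m : R) - 1)) :
    CompleteOrthogonalIdempotents (fun i : Fin (p - 1) =>
      u • ∑ m : (ZMod p)ˣ, ((χ m⁻¹ : Rˣ) : R) ^ (i : ℕ) • MonoidAlgebra.of R (ZMod p)ˣ m) := by
  classical
  rw [CompleteOrthogonalIdempotents.iff_ortho_complete]
  constructor
  · intro i j hij
    have hij' : (i : ℕ) ≠ (j : ℕ) := fun h => hij (Fin.ext h)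
    change (u • ∑ m : (ZMod p)ˣ, ((χ m⁻¹ : Rˣ) : R) ^ (i : ℕ) • MonoidAlgebra.of R (ZMod p)ˣ m) *
      (u • ∑ m : (ZMod p)ˣ, ((χ m⁻¹ : Rˣ) : R) ^ (j : ℕ) • MonoidAlgebra.of R (ZMod p)ˣ m) = 0
    rw [smul_mul_smul_comm]
    have key : (∑ m : (ZMod p)ˣ, ((χ m⁻¹ : Rˣ) : R) ^ (i : ℕ) • MonoidAlgebra.of R (ZMod p)ˣ m) *
        (∑ m : (ZMod p)ˣ, ((χ m⁻¹ : Rˣ) : R) ^ (j : ℕ) • MonoidAlgebra.of R (ZMod p)ˣ m) = 0 := by
      rw [Finset.sum_mul_sum]
      have h1 : ∀ m n : (ZMod p)ˣ,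
          (((χ m⁻¹ : Rˣ) : R) ^ (i : ℕ) • MonoidAlgebra.of R (ZMod p)ˣ m) *
            (((χ n⁻¹ : Rˣ) : R) ^ (j : ℕ) • MonoidAlgebra.of R (ZMod p)ˣ n) =
          (((χ m⁻¹ : Rˣ) : R) ^ (i : ℕ) * ((χ n⁻¹ : Rˣ) : R) ^ (j : ℕ)) •
            MonoidAlgebra.of R (ZMod p)ˣ (m * n) := by
        intro m n
        rw [smul_mul_smul_comm, ← map_mul]
      simp only [h1]
      -- reindex the inner sum by l = m * n
      have h2 : ∀ m : (ZMod p)ˣ,
          ∑ n : (ZMod p)ˣ, (((χ m⁻¹ : Rˣ) : R) ^ (i : ℕ) * ((χ n⁻¹ : Rˣ) : R) ^ (j : ℕ)) •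
            MonoidAlgebra.of R (ZMod p)ˣ (m * n) =
          ∑ l : (ZMod p)ˣ, (((χ m⁻¹ : Rˣ) : R) ^ (i : ℕ) * ((χ (m⁻¹ * l)⁻¹ : Rˣ) : R) ^ (j : ℕ)) •
            MonoidAlgebra.of R (ZMod p)ˣ l := by
        intro m
        apply Fintype.sum_equiv (Equiv.mulLeft m)
        intro n
        simp
      simp only [h2]
      rw [Finset.sum_comm]
      apply Finset.sum_eq_zero
      intro l _
      rw [← Finset.sum_smul]
      have h3 : ∑ m : (ZMod p)ˣ, ((χ m⁻¹ : Rˣ) : R) ^ (i : ℕ) * ((χ (m⁻¹ * l)⁻¹ : Rˣ) : R) ^ (j : ℕ) =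
          ((χ l⁻¹ : Rˣ) : R) ^ (j : ℕ) *
            ∑ m : (ZMod p)ˣ, ((χ m⁻¹ : Rˣ) : R) ^ (i : ℕ) * ((χ m : Rˣ) : R) ^ (j : ℕ) := by
        rw [Finset.mul_sum]
        apply Finset.sum_congr rfl
        intro m _
        simp only [mul_inv_rev, inv_inv, map_mul, Units.val_mul, mul_pow]
        ring
      rw [h3, char_sum_zero p R χ hχ i j i.2 j.2 hij', mul_zero, zero_smul]
    rw [key, smul_zero]
  · rw [← Finset.smul_sum, Finset.sum_comm]
    simp only [← Finset.sum_smul]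
    rw [Finset.sum_eq_single (1 : (ZMod p)ˣ)]
    · simp only [inv_one, map_one, Units.val_one, one_pow, Finset.sum_const, Finset.card_univ,
        Fintype.card_fin]
      rw [smul_smul]
      have : u * ((p - 1) • (1 : R)) = 1 := by
        rw [nsmul_eq_mul, mul_one]
        exact_mod_cast hu
      rw [this, one_smul]
    · intro m _ hm
      rw [geom_zero p R χ hχ m hm, zero_smul]
    · intro h
      exact absurd (Finset.mem_univ _) h

end Groth.Agent.S18467
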