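import Groth.Statements.S18470
import Mathlib

set_option autoImplicit false
universe u v
open OortTate

namespace Groth.Agent.S18470

/-- Let R be a commutative ring and A a commutative Hopf algebra over R which is finitely generated and
projective as an R-module (a finite locally free group scheme G = Spec A, not assumed commutative),
and let A^D = Hom_R(A, R) be the dual algebra with its Hopf structure (the Cartier dual when A is
cocommutative), whose counit is evaluation at 1. Then restriction of linear forms to the
augmentation ideal I = ker ε_A of A is a bijection from the augmentation ideal of A^D onto the dual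
module Hom_R(I, R): the dual of the augmentation ideal of G is the augmentation ideal of the dual.
The published statement is for a group scheme of order p over a Λ_p-algebra; the argument uses only
the splitting A = R·1 ⊕ ker ε. -/
theorem result
    (R : Type u) [CommRing R] (A : Type v) [CommRing A] [HopfAlgebra R A]
    [Module.Finite R A] [Module.Projective R A] :
    Function.Bijective (fun f : LinearMap.ker (Bialgebra.counitAlgHom R (CartDual.D R A)).toLinearMap =>
      ((CartDual.toDual R A) (f : CartDual.D R A)).comp
        (LinearMap.ker (Bialgebra.counitAlgHom R A).toLinearMap).subtype) := by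
  have hmem : ∀ a : A, a - (Coalgebra.counit (R := R) a) • (1 : A) ∈
      LinearMap.ker (Bialgebra.counitAlgHom R A).toLinearMap := by
    intro a
    rw [LinearMap.mem_ker, AlgHom.toLinearMap_apply, map_sub, map_smul, map_one,
      Bialgebra.counitAlgHom_apply, smul_eq_mul, mul_one, sub_self]
  have hone : ∀ f : LinearMap.ker (Bialgebra.counitAlgHom R (CartDual.D R A)).toLinearMap,
      (CartDual.toDual R A (f : CartDual.D R A)) 1 = 0 := by
    intro f
    have h := f.2
    rw [LinearMap.mem_ker, AlgHom.toLinearMap_apply, Bialgebra.counitAlgHom_apply] at h
    exact h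
  constructor
  · intro f g h
    apply Subtype.ext
    apply (CartDual.toDual R A).injective
    apply LinearMap.ext
    intro a
    have h1 := LinearMap.congr_fun h ⟨_, hmem a⟩
    simp only [LinearMap.comp_apply, Submodule.subtype_apply] at h1
    rw [map_sub, map_sub, map_smul, map_smul, hone f, hone g, smul_zero, sub_zero, sub_zero] at h1
    exact h1
  · intro φ
    let π : A →ₗ[R] LinearMap.ker (Bialgebra.counitAlgHom R A).toLinearMap :=
      LinearMap.codRestrict _
        (LinearMap.id - (LinearMap.toSpanSingleton R A 1) ∘ₗ (Coalgebra.counit : A →ₗ[R] R))
        (fun a => hmem a)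
    have hπval : ∀ a : A, ((π a : LinearMap.ker (Bialgebra.counitAlgHom R A).toLinearMap) : A) =
        a - (Coalgebra.counit (R := R) a) • (1 : A) := fun a => rfl
    have hπ : ∀ a : LinearMap.ker (Bialgebra.counitAlgHom R A).toLinearMap, π a = a := by
      intro a
      apply Subtype.ext
      have ha := a.2
      rw [LinearMap.mem_ker, AlgHom.toLinearMap_apply, Bialgebra.counitAlgHom_apply] at ha
      rw [hπval, ha, zero_smul, sub_zero]
    have hπ1 : π 1 = 0 := by
      apply Subtype.ext
      rw [hπval, Bialgebra.counit_one, one_smul, sub_self]
      rfl
    let F : CartDual.D R A := (CartDual.toDual R A).symm (φ ∘ₗ π)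
    have hF : CartDual.toDual R A F = φ ∘ₗ π := (CartDual.toDual R A).apply_symm_apply _
    have hFker : F ∈ LinearMap.ker (Bialgebra.counitAlgHom R (CartDual.D R A)).toLinearMap := by
      rw [LinearMap.mem_ker, AlgHom.toLinearMap_apply, Bialgebra.counitAlgHom_apply]
      change (CartDual.toDual R A F) 1 = 0
      rw [hF, LinearMap.comp_apply, hπ1, map_zero]
    refine ⟨⟨F, hFker⟩, ?_⟩
    apply LinearMap.ext
    intro a
    change (CartDual.toDual R A F) (a : A) = φ a
    rw [hF, LinearMap.comp_apply, hπ]

end Groth.Agent.S18470
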