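import Groth.Statements.S18473
import Groth.Agent.H84.OT10

set_option autoImplicit false
universe u
open OortTate

namespace Groth.Agent.S18473

open WithConv TensorProduct Groth.Agent.H84.OT Groth.Agent.S18468

/-- With the preceding computation: let p be a prime, R a commutative ring containing u with u(p − 1) =
1, and χ a homomorphism from the units of ℤ/p to the units of R such that χ(m) − 1 is a unit for
every m ≠ 1 (the situation of an algebra over the subring Λ_p of the p-adic integers generated by
the Teichmüller values and 1/(p(p − 1)), with χ the Teichmüller character, which is the published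
setting); assume moreover χ(m) ≡ m modulo pR for every m. In the group algebra over R of the cyclic
group of order p, written R[T]/(T^p − 1) with T group-like (the Hopf algebra of μ_p, on which the
power map [m] sends T to T^m), put y_i = u Σ_m χ(m)^{−i}(T^m − 1), the average of T − 1 for the
character χ^i. Then the elements y_0, …, y_{p−2} are a basis of the augmentation ideal (they are
linearly independent and span the kernel of the counit), the R-algebra is generated by y_1 alone,
and y_1^p = w·y_1 for a unique w ∈ R (the constant w_p of the classification). -/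
theorem result
    (p : ℕ) [Fact p.Prime] (R : Type u) [CommRing R] (u : R) (hu : u * ((p - 1 : ℕ) : R) = 1)
    (χ : (ZMod p)ˣ →* Rˣ) (hχ : ∀ m : (ZMod p)ˣ, m ≠ 1 → IsUnit ((χ m : R) - 1))
    (hχp : ∀ m : (ZMod p)ˣ, ((χ m : Rˣ) : R) - (((m : ZMod p).val : ℕ) : R) ∈ Ideal.span ({(p : R)} : Set R)) :
    LinearIndependent R (fun i : Fin (p - 1) => OortTate.ygen R p u χ (i : ℕ)) ∧
      Submodule.span R (Set.range (fun i : Fin (p - 1) => OortTate.ygen R p u χ (i : ℕ))) =
        LinearMap.ker (Bialgebra.counitAlgHom R (MonoidAlgebra R (Multiplicative (ZMod p)))).toLinearMap ∧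
      Algebra.adjoin R ({OortTate.ygen R p u χ 1} : Set (MonoidAlgebra R (Multiplicative (ZMod p)))) = ⊤ ∧
      ∃! w : R, OortTate.ygen R p u χ 1 ^ p = w • OortTate.ygen R p u χ 1 := by
  classical
  have hp : p.Prime := Fact.out
  have hpk := killed_mu p R
  haveI : Module.Free R (MonoidAlgebra R (Multiplicative (ZMod p))) :=
    Module.Free.of_basis (MonoidAlgebra.basis (Multiplicative (ZMod p)) R)
  haveI : Module.Finite R (MonoidAlgebra R (Multiplicative (ZMod p))) :=
    Module.Finite.of_basis (MonoidAlgebra.basis (Multiplicative (ZMod p)) R)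
  have hrk := rank_mu p R
  have hspan_i := eigenAug_mu_eq p R u χ hu
  have hker : Submodule.span R (Set.range (fun i : Fin (p - 1) => OortTate.ygen R p u χ (i : ℕ))) =
      LinearMap.ker (Bialgebra.counitAlgHom R
        (MonoidAlgebra R (Multiplicative (ZMod p)))).toLinearMap := by
    apply le_antisymm
    · rw [Submodule.span_le]
      rintro _ ⟨i, rfl⟩
      exact counit_of_mem p R χ _ (i : ℕ) _ (ygen_mem p R u χ (i : ℕ))
    · intro f hf
      have hf' : Coalgebra.counit (R := R) f = 0 := hf
      rw [← aug_of_counit R _ f hf', ← sum_qq p R u χ _ hu hχ f]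
      refine Submodule.sum_mem _ (fun i _ => ?_)
      have h1 := qq_mem p R u χ _ hpk (i : ℕ) f
      rw [hspan_i] at h1
      have hsub : ({OortTate.ygen R p u χ (i : ℕ)} :
          Set (MonoidAlgebra R (Multiplicative (ZMod p)))) ⊆
          Set.range (fun i : Fin (p - 1) => OortTate.ygen R p u χ (i : ℕ)) := by
        rw [Set.singleton_subset_iff]
        exact ⟨i, rfl⟩
      exact Submodule.span_mono hsub h1
  refine ⟨?_, hker, ?_, ?_⟩
  · rw [Fintype.linearIndependent_iff]
    intro c hc j
    have h1 := congrArg (qq p R u χ (MonoidAlgebra R (Multiplicative (ZMod p))) (j : ℕ)) hc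
    rw [map_sum, map_zero, Finset.sum_eq_single j] at h1
    · rw [map_smul, qq_of_mem p R u χ _ hu (j : ℕ) _ (ygen_mem p R u χ (j : ℕ))] at h1
      exact smul_ygen_eq_zero p R u χ hu (j : ℕ) (c j) h1
    · intro i _ hij
      rw [map_smul, qq_of_mem_ne p R u χ _ hχ (j : ℕ) (i : ℕ) j.2 i.2
        (fun h => hij (Fin.ext h.symm)) _ (ygen_mem p R u χ (i : ℕ)), smul_zero]
    · intro h
      exact absurd (Finset.mem_univ j) h
  · -- the algebra is generated by `y_1`
    have hmem : ∀ i : Fin (p - 1), OortTate.ygen R p u χ (i : ℕ) ∈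
        Algebra.adjoin R ({OortTate.ygen R p u χ 1} :
          Set (MonoidAlgebra R (Multiplicative (ZMod p)))) := by
      intro i
      obtain ⟨t, ht1, ht2, hteq⟩ : ∃ t, 1 ≤ t ∧ t ≤ p - 1 ∧
          OortTate.eigenAug R (MonoidAlgebra R (Multiplicative (ZMod p))) p χ (i : ℕ) =
            OortTate.eigenAug R (MonoidAlgebra R (Multiplicative (ZMod p))) p χ t := by
        rcases Nat.eq_zero_or_pos (i : ℕ) with h0 | h0
        · refine ⟨p - 1, by have := hp.one_lt; omega, le_rfl, ?_⟩
          rw [h0, ← eigenAug_add_card p R χ _ 0, zero_add]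
        · exact ⟨(i : ℕ), h0, by have := i.2; omega, rfl⟩
      have h1 := eigenAug_one_pow_eq p R u χ _ hpk hu hχ hχp hrk t ht1 ht2
      rw [hspan_i 1, Submodule.span_pow, Set.singleton_pow] at h1
      have h2 := ygen_mem p R u χ (i : ℕ)
      rw [hteq, ← h1] at h2
      obtain ⟨c, hc⟩ := Submodule.mem_span_singleton.1 h2
      rw [← hc]
      exact Subalgebra.smul_mem _ (Subalgebra.pow_mem _
        (Algebra.subset_adjoin (Set.mem_singleton _)) t) c
    rw [eq_top_iff]
    intro h _
    have h1 : h = aug R _ h + algebraMap R _ (Coalgebra.counit (R := R) h) := by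
      rw [aug_apply]; ring
    rw [h1]
    refine Subalgebra.add_mem _ ?_ (Subalgebra.algebraMap_mem _ _)
    have h2 : aug R _ h ∈ LinearMap.ker (Bialgebra.counitAlgHom R
        (MonoidAlgebra R (Multiplicative (ZMod p)))).toLinearMap := counit_aug R _ h
    rw [← hker] at h2
    have h3 : Submodule.span R (Set.range (fun i : Fin (p - 1) => OortTate.ygen R p u χ (i : ℕ))) ≤
        Subalgebra.toSubmodule (Algebra.adjoin R ({OortTate.ygen R p u χ 1} :
          Set (MonoidAlgebra R (Multiplicative (ZMod p))))) := by
      rw [Submodule.span_le]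
      rintro _ ⟨i, rfl⟩
      exact hmem i
    exact h3 h2
  · -- the constant `w`
    have h1 := pow_mem_eigenAug p R χ _ (OortTate.ygen R p u χ 1) (ygen_mem p R u χ 1) (p - 1)
    have hp1 : p - 1 + 1 = p := by have := hp.one_lt; omega
    rw [hp1] at h1
    have h2 : OortTate.eigenAug R (MonoidAlgebra R (Multiplicative (ZMod p))) p χ p =
        OortTate.eigenAug R (MonoidAlgebra R (Multiplicative (ZMod p))) p χ 1 := by
      have := eigenAug_add_card p R χ (MonoidAlgebra R (Multiplicative (ZMod p))) 1
      rw [add_comm, hp1] at this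
      exact this
    rw [h2, hspan_i 1] at h1
    obtain ⟨w, hw⟩ := Submodule.mem_span_singleton.1 h1
    refine ⟨w, hw.symm, ?_⟩
    intro w' hw'
    have h3 : (w' - w) • OortTate.ygen R p u χ 1 = 0 := by
      rw [sub_smul, ← hw', hw, sub_self]
    exact sub_eq_zero.1 (smul_ygen_eq_zero p R u χ hu 1 _ h3)

end Groth.Agent.S18473
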