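import Groth.Statements.S18475
import Groth.Agent.H84.OT15
import Groth.Agent.S15048

set_option autoImplicit false
universe u
open OortTate

namespace Groth.Agent.S18475

open WithConv TensorProduct Groth.Agent.H84.OT Groth.Agent.S18468

theorem scal1 {R : Type u} [CommRing R] (c v α : R) (n : ℕ) (h : c * v = 1) :
    c ^ (n + 1) * (v ^ n * α) = α * c := by
  calc c ^ (n + 1) * (v ^ n * α) = (c * v) ^ n * (α * c) := by ring
    _ = α * c := by rw [h, one_pow, one_mul]

theorem scal2 {R : Type u} [CommRing R] (v α : R) (n : ℕ) :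
    v ^ (n + 1) * α = v ^ n * α * v := by ring

/-- Let p be a prime, R a commutative ring containing u with u(p − 1) = 1, and χ a homomorphism from the
units of ℤ/p to the units of R such that χ(m) − 1 is a unit for every m ≠ 1 (the situation of an
algebra over the subring Λ_p of the p-adic integers generated by the Teichmüller values and 1/(p(p −
1)), with χ the Teichmüller character, which is the published setting); assume moreover χ(m) ≡ m
modulo pR for every m. Let A and A' be commutative and cocommutative Hopf algebras over R, finitely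
generated and projective as R-modules of rank p at every prime (group schemes G, G' of order p over
Spec R), with dual Hopf algebras A^D = Hom_R(A, R) and A'^D (the Cartier duals; for a unit m of ℤ/p
the power map [m] acts on all four algebras). Suppose the χ-eigenspaces of the augmentation ideals
are free of rank one with chosen generators: I_1(A) = R·x and I_1(A^D) = R·ξ with ξ(x) = 1, and
similarly I_1(A') = R·x', I_1(A'^D) = R·ξ' with ξ'(x') = 1 (this is the case of a local base R);
write x^p = α x, ξ^p = β ξ, x'^p = α' x', ξ'^p = β' ξ' with α, β, α', β' ∈ R. If there is a unit v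
of R with α' = v^{p−1} α and β' = v^{−(p−1)} β, then A and A' are isomorphic as bialgebras over R,
i.e. G ≅ G'. (This is the injectivity of the classification map G ↦ (I_1, a, b) in the case where
the invertible module I_1 is free, the case the copy spells out; the general statement compares
triples consisting of an invertible module with two maps.) The published argument obtains
commutativity and p-torsion of G over a locally Noetherian base; this row allows any commutative
ring R, over which both still hold. -/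
theorem result
    (p : ℕ) [Fact p.Prime] (R : Type u) [CommRing R] (u : R) (hu : u * ((p - 1 : ℕ) : R) = 1)
    (χ : (ZMod p)ˣ →* Rˣ) (hχ : ∀ m : (ZMod p)ˣ, m ≠ 1 → IsUnit ((χ m : R) - 1))
    (hχp : ∀ m : (ZMod p)ˣ, ((χ m : Rˣ) : R) - (((m : ZMod p).val : ℕ) : R) ∈ Ideal.span ({(p : R)} : Set R))
    (A : Type u) [CommRing A] [HopfAlgebra R A] [Coalgebra.IsCocomm R A] [Module.Finite R A]
    [Module.Projective R A] (hrk : ∀ q : PrimeSpectrum R, Module.rankAtStalk A q = p)
    (A' : Type u) [CommRing A'] [HopfAlgebra R A'] [Coalgebra.IsCocomm R A'] [Module.Finite R A']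
    [Module.Projective R A'] (hrk' : ∀ q : PrimeSpectrum R, Module.rankAtStalk A' q = p)
    (x : A) (hx : Submodule.span R {x} = OortTate.eigenAug R A p χ 1)
    (ξ : CartDual.D R A) (hξ : Submodule.span R {ξ} = OortTate.eigenAug R (CartDual.D R A) p χ 1)
    (hxξ : CartDual.toDual R A ξ x = 1)
    (x' : A') (hx' : Submodule.span R {x'} = OortTate.eigenAug R A' p χ 1)
    (ξ' : CartDual.D R A') (hξ' : Submodule.span R {ξ'} = OortTate.eigenAug R (CartDual.D R A') p χ 1)
    (hxξ' : CartDual.toDual R A' ξ' x' = 1)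
    (α β α' β' : R) (hα : x ^ p = α • x) (hβ : ξ ^ p = β • ξ) (hα' : x' ^ p = α' • x')
    (hβ' : ξ' ^ p = β' • ξ')
    (v : Rˣ) (hαv : α' = ((v ^ (p - 1) : Rˣ) : R) * α) (hβv : β' = ((v⁻¹ ^ (p - 1) : Rˣ) : R) * β) :
    Nonempty (A ≃ₐc[R] A') := by
  classical
  have hp : p.Prime := Fact.out
  have hp2 : 2 ≤ p := hp.two_le
  have hpk : (toConv (AlgHom.id R A)) ^ p = 1 := Groth.Agent.S15048.result R A p hrk
  have hpk' : (toConv (AlgHom.id R A')) ^ p = 1 := Groth.Agent.S15048.result R A' p hrk'
  have hrkD : ∀ q : PrimeSpectrum R, Module.rankAtStalk (CartDual.D R A) q = p :=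
    fun q => by rw [rankAtStalk_D, hrk]
  have hrkD' : ∀ q : PrimeSpectrum R, Module.rankAtStalk (CartDual.D R A') q = p :=
    fun q => by rw [rankAtStalk_D, hrk']
  have hpkD : (toConv (AlgHom.id R (CartDual.D R A))) ^ p = 1 :=
    Groth.Agent.S15048.result R (CartDual.D R A) p hrkD
  have hpkD' : (toConv (AlgHom.id R (CartDual.D R A'))) ^ p = 1 :=
    Groth.Agent.S15048.result R (CartDual.D R A') p hrkD'
  have hS := pows_span p R u χ A hpk hu hχ hχp hrk x hx
  have hI := pows_indep p R u χ A hpk hu hχ hχp hrk x hx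
  have hS' := pows_span p R u χ A' hpk' hu hχ hχp hrk' x' hx'
  have hI' := pows_indep p R u χ A' hpk' hu hχ hχp hrk' x' hx'
  have hSD := pows_span p R u χ (CartDual.D R A) hpkD hu hχ hχp hrkD ξ hξ
  have hID := pows_indep p R u χ (CartDual.D R A) hpkD hu hχ hχp hrkD ξ hξ
  have hSD' := pows_span p R u χ (CartDual.D R A') hpkD' hu hχ hχp hrkD' ξ' hξ'
  obtain ⟨w, hw⟩ := exists_wc p R u χ hu
  have hξm : ξ ∈ OortTate.eigenAug R (CartDual.D R A) p χ 1 :=
    hξ ▸ Submodule.mem_span_singleton_self ξ
  have hξm' : ξ' ∈ OortTate.eigenAug R (CartDual.D R A') p χ 1 :=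
    hξ' ▸ Submodule.mem_span_singleton_self ξ'
  have hxξ0 : ξ.ofConv x = 1 := hxξ
  have hxξ0' : ξ'.ofConv x' = 1 := hxξ'
  -- the pairings between powers of the generators
  have hP : ∀ i j, i < p → j < p →
      (ξ ^ j).ofConv (x ^ i) = if i = j then (if i = 0 then 1 else w i) else 0 := by
    intro i j hi hj
    by_cases hij : i = j
    · subst hij
      rw [if_pos rfl]
      by_cases hi0 : i = 0
      · subst hi0
        rw [if_pos rfl, pow_zero, pow_zero]
        show algebraMap R R (Coalgebra.counit (R := R) (1 : A)) = 1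
        rw [Bialgebra.counit_one, map_one]
      · rw [if_neg hi0]
        exact pairing_diag p R u χ A hpk hu hχ hχp hrk x hx ξ hξm hxξ0 w hw i (by omega)
          (by omega)
    · rw [if_neg hij]
      exact pairing_off p R u χ A hu hχ x hx ξ hξm i j hi hj hij
  have hP' : ∀ i j, i < p → j < p →
      (ξ' ^ j).ofConv (x' ^ i) = if i = j then (if i = 0 then 1 else w i) else 0 := by
    intro i j hi hj
    by_cases hij : i = j
    · subst hij
      rw [if_pos rfl]
      by_cases hi0 : i = 0
      · subst hi0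
        rw [if_pos rfl, pow_zero, pow_zero]
        show algebraMap R R (Coalgebra.counit (R := R) (1 : A')) = 1
        rw [Bialgebra.counit_one, map_one]
      · rw [if_neg hi0]
        exact pairing_diag p R u χ A' hpk' hu hχ hχp hrk' x' hx' ξ' hξm' hxξ0' w hw i (by omega)
          (by omega)
    · rw [if_neg hij]
      exact pairing_off p R u χ A' hu hχ x' hx' ξ' hξm' i j hi hj hij
  -- scalars
  obtain ⟨c, hc⟩ : ∃ c : R, c = ((v⁻¹ : Rˣ) : R) := ⟨_, rfl⟩
  obtain ⟨vv, hvv⟩ : ∃ vv : R, vv = ((v : Rˣ) : R) := ⟨_, rfl⟩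
  have hcv : c * vv = 1 := by rw [hc, hvv]; exact Units.inv_mul v
  have hvc : vv * c = 1 := by rw [mul_comm]; exact hcv
  have hα2 : α' = vv ^ (p - 1) * α := by rw [hαv, Units.val_pow_eq_pow_val, hvv]
  have hβ2 : β' = c ^ (p - 1) * β := by rw [hβv, Units.val_pow_eq_pow_val, hc]
  have hpp : p - 1 + 1 = p := by omega
  have e1 : c ^ p * α' = α * c := by
    have := scal1 c vv α (p - 1) hcv
    rwa [hpp, ← hα2] at this
  have e2 : vv ^ p * α = α' * vv := by
    have := scal2 vv α (p - 1)
    rwa [hpp, ← hα2] at this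
  have e3 : vv ^ p * β' = β * vv := by
    have := scal1 vv c β (p - 1) hvc
    rwa [hpp, ← hβ2] at this
  -- the algebra maps
  obtain ⟨ψ, hψ⟩ := exists_algHom x α p hp2 hα hS hI (c • x') (by
    rw [smul_pow, hα', smul_smul, smul_smul, e1])
  obtain ⟨ψ', hψ'⟩ := exists_algHom x' α' p hp2 hα' hS' hI' (vv • x) (by
    rw [smul_pow, hα, smul_smul, smul_smul, e2])
  obtain ⟨ρ, hρ⟩ := exists_algHom ξ β p hp2 hβ hSD hID (vv • ξ') (by
    rw [smul_pow, hβ', smul_smul, smul_smul, e3])
  have h1 : ψ.comp ψ' = AlgHom.id R A' := by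
    apply AlgHom.ext_of_adjoin_eq_top (adjoin_eq_top_of_span x' p hS')
    intro y hy
    rw [Set.mem_singleton_iff] at hy
    subst hy
    rw [AlgHom.comp_apply, hψ', map_smul, hψ, smul_smul, hvc, one_smul]
    rfl
  have h2 : ψ'.comp ψ = AlgHom.id R A := by
    apply AlgHom.ext_of_adjoin_eq_top (adjoin_eq_top_of_span x p hS)
    intro y hy
    rw [Set.mem_singleton_iff] at hy
    subst hy
    rw [AlgHom.comp_apply, hψ, map_smul, hψ', smul_smul, hcv, one_smul]
    rfl
  have hρs : Function.Surjective ρ := by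
    rw [← AlgHom.range_eq_top, eq_top_iff, ← adjoin_eq_top_of_span ξ' p hSD']
    apply Algebra.adjoin_le
    rw [Set.singleton_subset_iff]
    exact ⟨c • ξ, show ρ (c • ξ) = ξ' by rw [map_smul, hρ, smul_smul, hcv, one_smul]⟩
  -- `ρ` is the inverse transpose of `ψ`
  have hb : ∀ i j, i < p → j < p →
      (ρ (ξ ^ j)).ofConv (ψ (x ^ i)) = (ξ ^ j).ofConv (x ^ i) := by
    intro i j hi hj
    rw [map_pow, map_pow, hρ, hψ, smul_pow, smul_pow, ofConv_smul, LinearMap.smul_apply, map_smul,
      hP' i j hi hj, hP i j hi hj]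
    by_cases hij : i = j
    · subst hij
      rw [if_pos rfl, smul_smul, ← mul_pow, hvc, one_pow, one_smul]
    · rw [if_neg hij, smul_zero, smul_zero]
  have hA : ∀ j, j < p → ∀ a : A, (ρ (ξ ^ j)).ofConv (ψ a) = (ξ ^ j).ofConv a := by
    intro j hj a
    obtain ⟨r, hr⟩ := hS a
    rw [hr, map_sum, map_sum, map_sum]
    refine Finset.sum_congr rfl (fun i hi => ?_)
    rw [map_smul, map_smul, map_smul, hb i j (Finset.mem_range.1 hi) hj]
  have htr : ∀ (d : CartDual.D R A) (a : A), (ρ d).ofConv (ψ a) = d.ofConv a := by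
    intro d a
    obtain ⟨s, hs⟩ := hSD d
    rw [hs, map_sum, ofConv_sum, ofConv_sum, LinearMap.sum_apply, LinearMap.sum_apply]
    refine Finset.sum_congr rfl (fun j hj => ?_)
    rw [map_smul, ofConv_smul, ofConv_smul, LinearMap.smul_apply, LinearMap.smul_apply,
      hA j (Finset.mem_range.1 hj)]
  have hcounit : ∀ a : A, Coalgebra.counit (R := R) (ψ a) = Coalgebra.counit (R := R) a := by
    intro a
    have := htr 1 a
    rw [map_one] at this
    exact this
  have hcomul : ∀ a : A, TensorProduct.map ψ.toLinearMap ψ.toLinearMap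
      (Coalgebra.comul (R := R) a) = Coalgebra.comul (R := R) (ψ a) := by
    intro a
    rw [← sub_eq_zero]
    apply tensor_eq_zero_of_forall_proj
    intro g G
    obtain ⟨d1, hd1⟩ := hρs (toConv g)
    obtain ⟨d2, hd2⟩ := hρs (toConv G)
    have hg : g ∘ₗ ψ.toLinearMap = d1.ofConv := by
      apply LinearMap.ext
      intro b
      have := htr d1 b
      rw [hd1] at this
      exact this
    have hG : G ∘ₗ ψ.toLinearMap = d2.ofConv := by
      apply LinearMap.ext
      intro b
      have := htr d2 b
      rw [hd2] at this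
      exact this
    rw [map_sub, map_sub, sub_eq_zero, TensorProduct.map_map, hg, hG]
    have h3 : LinearMap.mul' R R (TensorProduct.map d1.ofConv d2.ofConv
        (Coalgebra.comul (R := R) a)) = (d1 * d2).ofConv a := rfl
    have h4 : LinearMap.mul' R R (TensorProduct.map g G (Coalgebra.comul (R := R) (ψ a))) =
        (toConv g * toConv G : CartDual.D R A').ofConv (ψ a) := rfl
    rw [h3, h4, ← htr (d1 * d2) a, map_mul, hd1, hd2]
  let e : A ≃ₐ[R] A' := AlgEquiv.ofAlgHom ψ ψ' h1 h2
  refine ⟨BialgEquiv.ofAlgEquiv e ?_ ?_⟩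
  · apply AlgHom.ext
    intro a
    exact hcounit a
  · apply AlgHom.ext
    intro a
    exact hcomul a

end Groth.Agent.S18475
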