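import Groth.Statements.S18476
import Mathlib

set_option autoImplicit false
universe u
open FmlGrp

namespace Groth.Agent.S18476

open PowerSeries

variable {A : Type*} [CommRing A]

/-- shift of a power series -/
noncomputable def shift (φ : A⟦X⟧) : A⟦X⟧ := PowerSeries.mk fun j => PowerSeries.coeff (j + 1) φ

theorem subst_eq (f : A⟦X⟧) (hf : PowerSeries.HasSubst f) (φ : A⟦X⟧) :
    PowerSeries.subst f φ = f * PowerSeries.subst f (shift φ) + PowerSeries.C (PowerSeries.constantCoeff φ) := by
  conv_lhs => rw [PowerSeries.eq_X_mul_shift_add_const φ]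
  rw [PowerSeries.subst_add hf, PowerSeries.subst_mul hf, PowerSeries.subst_X hf, PowerSeries.subst_C]
  rfl

noncomputable def Phi (f : A⟦X⟧) (h : ℕ) (c : Fin h → A⟦X⟧) : A⟦X⟧ :=
  ∑ i, PowerSeries.subst f (c i) * (PowerSeries.X : A⟦X⟧) ^ (i : ℕ)

noncomputable def rem (h : ℕ) (a : Fin h → A) : Polynomial A :=
  ∑ i, Polynomial.C (a i) * Polynomial.X ^ (i : ℕ)

theorem coe_rem (h : ℕ) (a : Fin h → A) :
    ((rem h a : Polynomial A) : A⟦X⟧) = ∑ i, PowerSeries.C (a i) * (PowerSeries.X : A⟦X⟧) ^ (i : ℕ) := by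
  unfold rem
  rw [← Polynomial.coeToPowerSeries.ringHom_apply, map_sum]
  refine Finset.sum_congr rfl fun i _ => ?_
  simp

theorem coeff_rem (h : ℕ) (a : Fin h → A) (i : Fin h) : (rem h a).coeff (i : ℕ) = a i := by
  unfold rem
  rw [Polynomial.finsetSum_coeff]
  simp only [Polynomial.coeff_C_mul_X_pow]
  rw [Finset.sum_eq_single i]
  · simp
  · intro j _ hji
    rw [if_neg]
    intro h'
    exact hji (Fin.ext h'.symm)
  · simp

theorem degree_rem_lt (h : ℕ) (a : Fin h → A) : (rem h a).degree < h :=
  Polynomial.degree_sum_fin_lt a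

theorem Phi_eq (f : A⟦X⟧) (hf : PowerSeries.HasSubst f) (h : ℕ) (c : Fin h → A⟦X⟧) :
    Phi f h c = f * Phi f h (fun i => shift (c i)) +
      ((rem h (fun i => PowerSeries.constantCoeff (c i)) : Polynomial A) : A⟦X⟧) := by
  rw [coe_rem]
  unfold Phi
  rw [Finset.mul_sum, ← Finset.sum_add_distrib]
  refine Finset.sum_congr rfl fun i _ => ?_
  conv_lhs => rw [subst_eq f hf (c i)]
  ring

theorem eq_rem_of_degree_lt (h : ℕ) (r : Polynomial A) (hr : r.degree < h) :
    r = rem h (fun i => r.coeff i) := by
  ext j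
  by_cases hj : j < h
  · exact (coeff_rem h (fun i => r.coeff i) ⟨j, hj⟩).symm
  · push Not at hj
    rw [Polynomial.coeff_eq_zero_of_degree_lt, Polynomial.coeff_eq_zero_of_degree_lt]
    · exact lt_of_lt_of_le (degree_rem_lt h _) (by exact_mod_cast hj)
    · exact lt_of_lt_of_le hr (by exact_mod_cast hj)

variable [IsLocalRing A] [IsAdicComplete (IsLocalRing.maximalIdeal A) A]

theorem Phi_div (f : A⟦X⟧) (hf : PowerSeries.HasSubst f) (c : Fin (f.map (IsLocalRing.residue A)).order.toNat → A⟦X⟧) :
    (Phi f _ c).IsWeierstrassDivision f (Phi f _ (fun i => shift (c i)))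
      (rem _ (fun i => PowerSeries.constantCoeff (c i))) :=
  ⟨degree_rem_lt _ _, Phi_eq f hf _ c⟩

theorem Phi_inj (f : A⟦X⟧) (hf : PowerSeries.HasSubst f) (hg : f.map (IsLocalRing.residue A) ≠ 0)
    (j : ℕ) : ∀ (c c' : Fin (f.map (IsLocalRing.residue A)).order.toNat → A⟦X⟧),
      Phi f _ c = Phi f _ c' → ∀ i, PowerSeries.coeff j (c i) = PowerSeries.coeff j (c' i) := by
  induction j with
  | zero =>
    intro c c' hcc i
    have h1 := Phi_div f hf c
    have h2 := Phi_div f hf c'
    rw [hcc] at h1
    have h3 := (h1.elim hg h2).2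
    have h4 := congrArg (fun r => Polynomial.coeff r (i : ℕ)) h3
    simp only [coeff_rem] at h4
    simpa using h4
  | succ j ih =>
    intro c c' hcc i
    have h1 := Phi_div f hf c
    have h2 := Phi_div f hf c'
    rw [hcc] at h1
    have h3 := (h1.elim hg h2).1
    have h4 := ih _ _ h3 i
    simpa [shift] using h4

/-- the coefficient family produced by iterated Weierstrass division -/
noncomputable def cOf (f g : A⟦X⟧) (i : ℕ) : A⟦X⟧ :=
  PowerSeries.mk fun j => (((fun q => q /ʷ f)^[j] g) %ʷ f).coeff i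

theorem shift_cOf (f g : A⟦X⟧) (i : ℕ) : shift (cOf f g i) = cOf f (g /ʷ f) i := by
  ext j
  simp [shift, cOf]

theorem constantCoeff_cOf (f g : A⟦X⟧) (i : ℕ) :
    PowerSeries.constantCoeff (cOf f g i) = (g %ʷ f).coeff i := by
  simp [cOf]

theorem err_eq (f : A⟦X⟧) (hf : PowerSeries.HasSubst f) (hg : f.map (IsLocalRing.residue A) ≠ 0)
    (g : A⟦X⟧) :
    g - Phi f (f.map (IsLocalRing.residue A)).order.toNat (fun i => cOf f g i) =
      f * ((g /ʷ f) - Phi f (f.map (IsLocalRing.residue A)).order.toNat (fun i => cOf f (g /ʷ f) i)) := by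
  have hdiv := PowerSeries.eq_mul_weierstrassDiv_add_weierstrassMod g hg
  rw [Phi_eq f hf]
  simp only [shift_cOf, constantCoeff_cOf]
  rw [← eq_rem_of_degree_lt _ _ (PowerSeries.degree_weierstrassMod_lt g f)]
  linear_combination hdiv

theorem X_pow_dvd_err (f : A⟦X⟧) (hf : PowerSeries.HasSubst f) (hf0 : PowerSeries.constantCoeff f = 0)
    (hg : f.map (IsLocalRing.residue A) ≠ 0) (J : ℕ) : ∀ (g : A⟦X⟧),
    (PowerSeries.X : A⟦X⟧) ^ J ∣
      g - Phi f (f.map (IsLocalRing.residue A)).order.toNat (fun i => cOf f g i) := by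
  induction J with
  | zero => intro g; simp
  | succ J ih =>
    intro g
    rw [err_eq f hf hg g, pow_succ']
    exact mul_dvd_mul (PowerSeries.X_dvd_iff.mpr hf0) (ih _)

theorem Phi_surj (f : A⟦X⟧) (hf : PowerSeries.HasSubst f) (hf0 : PowerSeries.constantCoeff f = 0)
    (hg : f.map (IsLocalRing.residue A) ≠ 0) (g : A⟦X⟧) :
    g = Phi f (f.map (IsLocalRing.residue A)).order.toNat (fun i => cOf f g i) := by
  rw [← sub_eq_zero]
  ext n
  have := X_pow_dvd_err f hf hf0 hg (n + 1) g
  rw [PowerSeries.X_pow_dvd_iff] at this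
  simpa using this n (Nat.lt_succ_self n)

theorem linearIndependent_X_pow (k : Type*) [Field k] :
    LinearIndependent k (fun i : ℕ => (PowerSeries.X : k⟦X⟧) ^ i) := by
  rw [linearIndependent_iff']
  intro s g hs i hi
  have := congrArg (PowerSeries.coeff i) hs
  rw [map_sum] at this
  simp only [PowerSeries.coeff_smul, PowerSeries.coeff_X_pow, map_zero] at this
  rw [Finset.sum_eq_single i] at this
  · simpa using this
  · intro j _ hji
    rw [if_neg (Ne.symm hji), smul_zero]
  · intro h; exact absurd hi h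


theorem map_subst_of_forall_mem (f : A⟦X⟧) (hf : PowerSeries.HasSubst f)
    (hall : ∀ n, PowerSeries.coeff n f ∈ IsLocalRing.maximalIdeal A) (φ : A⟦X⟧) :
    PowerSeries.map (IsLocalRing.residue A) (PowerSeries.subst f φ) =
      PowerSeries.C (IsLocalRing.residue A (PowerSeries.constantCoeff φ)) := by
  have h0 : PowerSeries.map (IsLocalRing.residue A) f = 0 := by
    ext n
    rw [PowerSeries.coeff_map, map_zero]
    exact (IsLocalRing.residue_eq_zero_iff _).mpr (hall n)
  rw [subst_eq f hf φ, map_add, map_mul, h0, zero_mul, zero_add, PowerSeries.map_C]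

theorem not_span_of_forall_mem (f : A⟦X⟧) (hf : PowerSeries.HasSubst f)
    (hall : ∀ n, PowerSeries.coeff n f ∈ IsLocalRing.maximalIdeal A)
    (n : ℕ) (b : Fin n → A⟦X⟧)
    (hb : ∀ g : A⟦X⟧, ∃ c : Fin n → A⟦X⟧, g = ∑ i, PowerSeries.subst f (c i) * b i) : False := by
  set π := PowerSeries.map (IsLocalRing.residue A) with hπ
  have hsp : ∀ ψ : (IsLocalRing.ResidueField A)⟦X⟧,
      ψ ∈ Submodule.span (IsLocalRing.ResidueField A) (Set.range fun i => π (b i)) := by
    intro ψ
    obtain ⟨g, rfl⟩ := PowerSeries.map_surjective _ IsLocalRing.residue_surjective ψ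
    obtain ⟨c, hc⟩ := hb g
    rw [hc, map_sum]
    refine Submodule.sum_mem _ fun i _ => ?_
    rw [map_mul, hπ, map_subst_of_forall_mem f hf hall, ← PowerSeries.smul_eq_C_mul]
    exact Submodule.smul_mem _ _ (Submodule.subset_span ⟨i, rfl⟩)
  have hfin := (linearIndependent_X_pow (IsLocalRing.ResidueField A)).finite_of_le_span_finite _
    (Set.range fun i => π (b i)) (fun x _ => hsp x)
  exact not_finite ℕ


theorem main (f : A⟦X⟧) (hf0 : PowerSeries.constantCoeff f = 0) :
    (∃ n : ℕ, PowerSeries.coeff n f ∉ IsLocalRing.maximalIdeal A) ↔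
      ∃ (n : ℕ) (b : Fin n → A⟦X⟧), ∀ g : A⟦X⟧, ∃! c : Fin n → A⟦X⟧,
        g = ∑ i, PowerSeries.subst f (c i) * b i := by
  have hf : PowerSeries.HasSubst f := PowerSeries.HasSubst.of_constantCoeff_zero' hf0
  constructor
  · rintro ⟨n, hn⟩
    have hg : f.map (IsLocalRing.residue A) ≠ 0 := by
      intro h0
      apply hn
      have := congrArg (PowerSeries.coeff n) h0
      rw [PowerSeries.coeff_map, map_zero] at this
      exact (IsLocalRing.residue_eq_zero_iff _).mp this
    refine ⟨(f.map (IsLocalRing.residue A)).order.toNat, fun i => (PowerSeries.X : A⟦X⟧) ^ (i : ℕ),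
      fun g => ⟨fun i => cOf f g i, Phi_surj f hf hf0 hg g, ?_⟩⟩
    intro c' hc'
    funext i
    ext j
    exact Phi_inj f hf hg j c' (fun i => cOf f g i) (hc'.symm.trans (Phi_surj f hf hf0 hg g)) i
  · rintro ⟨n, b, hb⟩
    by_contra hall
    push Not at hall
    exact not_span_of_forall_mem f hf hall n b (fun g => (hb g).exists)


/-- Let O be a complete discrete valuation ring whose maximal ideal m contains the prime number p, and
let F be a one-dimensional formal group law over O, with multiplication-by-p series f = [p]_F(X) = X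
+_F ⋯ +_F X ∈ O[[X]]. Then f has a coefficient outside m (f is not ≡ 0 mod m) if and only if F is
p-divisible in the sense that O[[X]] is free of finite rank over itself through the substitution
endomorphism X ↦ f: there are finitely many power series b_1, …, b_n such that every power series g
can be written uniquely as Σ_i c_i(f(X))·b_i. (The published statement asserts instead that F is
p-divisible iff F does not reduce to X + Y modulo m; that is false — over the p-adic integers the
law φ⁻¹(φ(X) + φ(Y)) with φ = X + X^{p+1} is not congruent to X + Y modulo p, yet its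
multiplication-by-p series φ⁻¹(pφ(X)) vanishes modulo p — and the printed proof establishes exactly
the criterion on f stated here.) The published setting is the valuation ring of a finite extension
of ℚ_p; the argument uses only that O is a complete discrete valuation ring with p in its maximal
ideal. -/
theorem result
    (O : Type u) [CommRing O] [IsDomain O] [IsDiscreteValuationRing O]
    [IsAdicComplete (IsLocalRing.maximalIdeal O) O]
    (p : ℕ) [Fact p.Prime] (hp : (p : O) ∈ IsLocalRing.maximalIdeal O)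
    (F : FormalGroup O) :
    (∃ n : ℕ, PowerSeries.coeff n
        ((p • (show F.Point Unit from ⟨PowerSeries.X, PowerSeries.HasSubst.X'⟩)).val) ∉
          IsLocalRing.maximalIdeal O) ↔
      ∃ (n : ℕ) (b : Fin n → PowerSeries O), ∀ g : PowerSeries O, ∃! c : Fin n → PowerSeries O,
        g = ∑ i, PowerSeries.subst
          ((p • (show F.Point Unit from ⟨PowerSeries.X, PowerSeries.HasSubst.X'⟩)).val) (c i) * b i := by
  have hf0 : PowerSeries.constantCoeff
      ((p • (show F.Point Unit from ⟨PowerSeries.X, PowerSeries.HasSubst.X'⟩)).val) = 0 :=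
    IsNilpotent.eq_zero (p • (show F.Point Unit from ⟨PowerSeries.X, PowerSeries.HasSubst.X'⟩)).2
  exact main _ hf0

end Groth.Agent.S18476
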