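import Groth.Statements.S18477
import Groth.Agent.H84.OT13
import Groth.Agent.S15048

set_option autoImplicit false
universe u
open scoped TensorProduct
open OortTate

namespace Groth.Agent.S18477

open WithConv TensorProduct Groth.Agent.H84.OT Groth.Agent.S18468

/-- Let p be a prime, R a commutative ring containing u with u(p − 1) = 1, and χ a homomorphism from the
units of ℤ/p to the units of R such that χ(m) − 1 is a unit for every m ≠ 1 (the situation of an
algebra over the subring Λ_p of the p-adic integers generated by the Teichmüller values and 1/(p(p −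
1)), with χ the Teichmüller character, which is the published setting); assume moreover χ(m) ≡ m
modulo pR for every m. Let A be a commutative and cocommutative Hopf algebra over R, finitely
generated and projective as an R-module of rank p at every prime (a group scheme G of order p), A^D
= Hom_R(A, R) its dual Hopf algebra (Cartier dual), δ ∈ A ⊗ A^D the canonical element — the one with
(id ⊗ ev_a)(δ) = a for every a ∈ A, corresponding to the identity of A — and ϕ the R-algebra map
from the group algebra of ℤ/p (the Hopf algebra R[T]/(T^p − 1) of μ_p, T group-like) to A ⊗ A^D with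
ϕ(T) = δ; ϕ is the comorphism of the Cartier pairing G × G^D → μ_p. Let I_1(A) ⊆ A and I_1(A^D) ⊆
A^D be the χ-eigenspaces of the augmentation ideals under the power maps [m], and y_1 = u Σ_m
χ(m)^{−1}(T^m − 1). Then ϕ(y_1) generates the image of I_1(A) ⊗ I_1(A^D) in A ⊗ A^D as an R-module,
and r·ϕ(y_1) = 0 only for r = 0 (so that image is free of rank one on ϕ(y_1)). The published
argument obtains commutativity and p-torsion of G over a locally Noetherian base; this row allows
any commutative ring R, over which both still hold. -/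
theorem result
    (p : ℕ) [Fact p.Prime] (R : Type u) [CommRing R] (u : R) (hu : u * ((p - 1 : ℕ) : R) = 1)
    (χ : (ZMod p)ˣ →* Rˣ) (hχ : ∀ m : (ZMod p)ˣ, m ≠ 1 → IsUnit ((χ m : R) - 1))
    (hχp : ∀ m : (ZMod p)ˣ, ((χ m : Rˣ) : R) - (((m : ZMod p).val : ℕ) : R) ∈ Ideal.span ({(p : R)} : Set R))
    (A : Type u) [CommRing A] [HopfAlgebra R A] [Coalgebra.IsCocomm R A] [Module.Finite R A]
    [Module.Projective R A] (hrk : ∀ q : PrimeSpectrum R, Module.rankAtStalk A q = p)
    (δ : A ⊗[R] CartDual.D R A)
    (hδ : ∀ a : A, TensorProduct.rid R A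
      (LinearMap.lTensor A ((Module.Dual.eval R A a) ∘ₗ (CartDual.toDual R A).toLinearMap) δ) = a)
    (ϕ : MonoidAlgebra R (Multiplicative (ZMod p)) →ₐ[R] A ⊗[R] CartDual.D R A)
    (hϕ : ϕ (OortTate.muT R p) = δ) :
    Submodule.span R {ϕ (OortTate.ygen R p u χ 1)} =
        LinearMap.range (TensorProduct.map (OortTate.eigenAug R A p χ 1).subtype
          (OortTate.eigenAug R (CartDual.D R A) p χ 1).subtype) ∧
      ∀ r : R, r • ϕ (OortTate.ygen R p u χ 1) = 0 → r = 0 := by
  classical
  have hpk : (WithConv.toConv (AlgHom.id R A)) ^ p = 1 := Groth.Agent.S15048.result R A p hrk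
  haveI := finite_eigenAug p R u χ A hpk hu 1
  haveI := projective_eigenAug p R u χ A hpk hu 1
  have hrk1 : ∀ q : PrimeSpectrum R, Module.rankAtStalk (OortTate.eigenAug R A p χ 1) q = 1 :=
    fun q => rankAtStalk_eigenAug p R u χ A hpk hu hχ hχp hrk 1 q
  have hΘ := Theta_phi_ygen p R u χ A δ ϕ hδ hϕ 1
  refine ⟨le_antisymm ?_ ?_, ?_⟩
  · -- `ϕ y_1` lies in the image of `I_1 ⊗ I_1'`
    rw [Submodule.span_le, Set.singleton_subset_iff]
    obtain ⟨n, F, G, -, -, hFG⟩ :=
      Module.Finite.exists_comp_eq_id_of_projective R (OortTate.eigenAug R A p χ 1)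
    let e : Fin n → OortTate.eigenAug R A p χ 1 := fun k => F (fun j => if k = j then 1 else 0)
    let g : Fin n → (OortTate.eigenAug R A p χ 1 →ₗ[R] R) := fun k => (LinearMap.proj k) ∘ₗ G
    have hx : ∀ x : OortTate.eigenAug R A p χ 1, x = ∑ k, g k x • e k := by
      intro x
      have h1 := LinearMap.congr_fun hFG x
      rw [LinearMap.comp_apply, LinearMap.id_apply, LinearMap.pi_apply_eq_sum_univ F (G x)] at h1
      exact h1.symm
    let fD : Fin n → CartDual.D R A := fun k => toConv ((g k) ∘ₗ qr p R u χ A hpk 1)
    have hfD : ∀ k, fD k ∈ OortTate.eigenAug R (CartDual.D R A) p χ 1 := by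
      intro k
      rw [Groth.Agent.S18471.mem_eigenAug_dual]
      constructor
      · show g k (qr p R u χ A hpk 1 1) = 0
        have h1 : qr p R u χ A hpk 1 (1 : A) = 0 := by
          apply Subtype.ext
          rw [coe_qr, ← map_one (algebraMap R A), qq_algebraMap]
          rfl
        rw [h1, map_zero]
      · intro m
        apply LinearMap.ext
        intro a
        show g k (qr p R u χ A hpk 1 (T p R A m a)) =
          (((χ m : Rˣ) : R) ^ 1) • g k (qr p R u χ A hpk 1 a)
        have h1 : qr p R u χ A hpk 1 (T p R A m a) =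
            (((χ m : Rˣ) : R) ^ 1) • qr p R u χ A hpk 1 a := by
          apply Subtype.ext
          rw [coe_qr, qq_T p R u χ A hpk]
          rfl
        rw [h1, map_smul]
    let s : OortTate.eigenAug R A p χ 1 ⊗[R] OortTate.eigenAug R (CartDual.D R A) p χ 1 :=
      ∑ k, (e k) ⊗ₜ[R] (⟨fD k, hfD k⟩ : OortTate.eigenAug R (CartDual.D R A) p χ 1)
    refine ⟨s, ?_⟩
    rw [← sub_eq_zero]
    apply Theta_injective R A
    rw [map_sub, hΘ, sub_eq_zero]
    apply LinearMap.ext
    intro a
    show Theta R A (TensorProduct.map (OortTate.eigenAug R A p χ 1).subtype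
      (OortTate.eigenAug R (CartDual.D R A) p χ 1).subtype
      (∑ k, (e k) ⊗ₜ[R] (⟨fD k, hfD k⟩ : OortTate.eigenAug R (CartDual.D R A) p χ 1))) a =
      qq p R u χ A 1 a
    rw [map_sum, map_sum, LinearMap.sum_apply]
    have h2 : ∀ k, Theta R A (TensorProduct.map (OortTate.eigenAug R A p χ 1).subtype
        (OortTate.eigenAug R (CartDual.D R A) p χ 1).subtype
        ((e k) ⊗ₜ[R] (⟨fD k, hfD k⟩ : OortTate.eigenAug R (CartDual.D R A) p χ 1))) a =
        ((g k (qr p R u χ A hpk 1 a) • e k : OortTate.eigenAug R A p χ 1) : A) := by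
      intro k
      rw [TensorProduct.map_tmul, Submodule.subtype_apply, Submodule.subtype_apply, Theta_tmul]
      rfl
    simp only [h2]
    rw [← Submodule.coe_sum, ← hx, coe_qr]
  · -- the image of `I_1 ⊗ I_1'` is spanned by `ϕ y_1`
    rintro _ ⟨s, rfl⟩
    induction s using TensorProduct.induction_on with
    | zero => rw [map_zero]; exact Submodule.zero_mem _
    | tmul x f =>
      rw [TensorProduct.map_tmul, Submodule.subtype_apply, Submodule.subtype_apply]
      let E : OortTate.eigenAug R A p χ 1 →ₗ[R] OortTate.eigenAug R A p χ 1 :=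
        (((f : CartDual.D R A).ofConv) ∘ₗ (OortTate.eigenAug R A p χ 1).subtype).smulRight x
      obtain ⟨c, hc⟩ := end_rank_one hrk1 E
      have h1 : (x : A) ⊗ₜ[R] (f : CartDual.D R A) = c • ϕ (OortTate.ygen R p u χ 1) := by
        rw [← sub_eq_zero]
        apply Theta_injective R A
        rw [map_sub, map_smul, hΘ, sub_eq_zero]
        apply LinearMap.ext
        intro a
        rw [Theta_tmul, LinearMap.smul_apply,
          ← dual_apply_qq p R u χ A hu 1 (f : CartDual.D R A) f.2 a]
        have h3 := hc (qr p R u χ A hpk 1 a)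
        have h4 := congrArg (Subtype.val) h3
        rw [Submodule.coe_smul, coe_qr] at h4
        rw [← h4]
        rfl
      rw [h1]
      exact Submodule.smul_mem _ _ (Submodule.mem_span_singleton_self _)
    | add s t hs ht => rw [map_add]; exact Submodule.add_mem _ hs ht
  · intro r hr
    apply faithful_rank_one hrk1
    intro x
    apply Subtype.ext
    have h1 := congrArg (Theta R A) hr
    rw [map_smul, hΘ, map_zero] at h1
    have h2 := LinearMap.congr_fun h1 (x : A)
    rw [LinearMap.smul_apply, qq_of_mem p R u χ A hu 1 (x : A) x.2, LinearMap.zero_apply] at h2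
    rw [Submodule.coe_smul, h2]
    rfl

end Groth.Agent.S18477
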