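import Groth.Statements.S18478
import Groth.Agent.H84.OT18
import Groth.Agent.S15048

set_option autoImplicit false
universe u
open OortTate

namespace Groth.Agent.S18478

open WithConv TensorProduct Groth.Agent.H84.OT Groth.Agent.S18468

/-- Let p be a prime, R a commutative ring containing u with u(p − 1) = 1, and χ a homomorphism from the
units of ℤ/p to the units of R such that χ(m) − 1 is a unit for every m ≠ 1 (the situation of an
algebra over the subring Λ_p of the p-adic integers generated by the Teichmüller values and 1/(p(p −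
1)), with χ the Teichmüller character, which is the published setting); assume moreover χ(m) ≡ m
modulo pR for every m. Let A and A' be commutative and cocommutative Hopf algebras over R, finitely
generated and projective as R-modules of rank p at every prime (group schemes G, G' of order p over
Spec R), with dual Hopf algebras (Cartier duals) A^D = Hom_R(A, R) and A'^D. For each of the four
algebras let I_1 be the submodule of elements f of the augmentation ideal with [m]f = χ(m)f for
every unit m of ℤ/p, [m] the power map; restriction of linear forms identifies I_1(A^D) with the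
dual of I_1(A). The classification attaches to G the invertible module I_1(A) with the
multiplication maps a : I_1(A)^{⊗p} → I_1(A) and b : I_1(A^D)^{⊗p} → I_1(A^D). Suppose θ : I_1(A) ≅
I_1(A') is an R-linear isomorphism compatible with a (θ(x_1⋯x_p) = θ(x_1)⋯θ(x_p) whenever x_1⋯x_p ∈
I_1(A)) and whose transpose is compatible with b (if φ_i ∈ I_1(A^D) and φ'_i ∈ I_1(A'^D) satisfy φ_i
= φ'_i ∘ θ on I_1(A) for i = 1, …, p, then φ_1⋯φ_p = (φ'_1⋯φ'_p) ∘ θ on I_1(A)). Then A and A' are
isomorphic as bialgebras over R (G ≅ G'): the classification map is injective on isomorphism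
classes. The published argument obtains commutativity and p-torsion of G over a locally Noetherian
base; this row allows any commutative ring R, over which both still hold. -/
theorem result
    (p : ℕ) [Fact p.Prime] (R : Type u) [CommRing R] (u : R) (hu : u * ((p - 1 : ℕ) : R) = 1)
    (χ : (ZMod p)ˣ →* Rˣ) (hχ : ∀ m : (ZMod p)ˣ, m ≠ 1 → IsUnit ((χ m : R) - 1))
    (hχp : ∀ m : (ZMod p)ˣ, ((χ m : Rˣ) : R) - (((m : ZMod p).val : ℕ) : R) ∈ Ideal.span ({(p : R)} : Set R))
    (A : Type u) [CommRing A] [HopfAlgebra R A] [Coalgebra.IsCocomm R A] [Module.Finite R A]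
    [Module.Projective R A] (hrk : ∀ q : PrimeSpectrum R, Module.rankAtStalk A q = p)
    (A' : Type u) [CommRing A'] [HopfAlgebra R A'] [Coalgebra.IsCocomm R A'] [Module.Finite R A']
    [Module.Projective R A'] (hrk' : ∀ q : PrimeSpectrum R, Module.rankAtStalk A' q = p)
    (θ : OortTate.eigenAug R A p χ 1 ≃ₗ[R] OortTate.eigenAug R A' p χ 1)
    (hθ : ∀ (f : Fin p → OortTate.eigenAug R A p χ 1) (g : OortTate.eigenAug R A p χ 1),
      (g : A) = ∏ i, (f i : A) → ((θ g : OortTate.eigenAug R A' p χ 1) : A') = ∏ i, ((θ (f i)) : A'))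
    (hθD : ∀ (φ : Fin p → OortTate.eigenAug R (CartDual.D R A) p χ 1)
      (φ' : Fin p → OortTate.eigenAug R (CartDual.D R A') p χ 1)
      (ψ : OortTate.eigenAug R (CartDual.D R A) p χ 1) (ψ' : OortTate.eigenAug R (CartDual.D R A') p χ 1),
      (∀ i, ∀ x : OortTate.eigenAug R A p χ 1,
        CartDual.toDual R A (φ i : CartDual.D R A) (x : A) =
          CartDual.toDual R A' (φ' i : CartDual.D R A') ((θ x : OortTate.eigenAug R A' p χ 1) : A')) →
      (ψ : CartDual.D R A) = ∏ i, (φ i : CartDual.D R A) →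
      (ψ' : CartDual.D R A') = ∏ i, (φ' i : CartDual.D R A') →
      ∀ x : OortTate.eigenAug R A p χ 1,
        CartDual.toDual R A (ψ : CartDual.D R A) (x : A) =
          CartDual.toDual R A' (ψ' : CartDual.D R A') ((θ x : OortTate.eigenAug R A' p χ 1) : A')) :
    Nonempty (A ≃ₐc[R] A') := by
  classical
  have hp : p.Prime := Fact.out
  have hpk : (toConv (AlgHom.id R A)) ^ p = 1 := Groth.Agent.S15048.result R A p hrk
  have hpk' : (toConv (AlgHom.id R A')) ^ p = 1 := Groth.Agent.S15048.result R A' p hrk'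
  have hrkD : ∀ q : PrimeSpectrum R, Module.rankAtStalk (CartDual.D R A) q = p :=
    fun q => by rw [rankAtStalk_D, hrk]
  have hrkD' : ∀ q : PrimeSpectrum R, Module.rankAtStalk (CartDual.D R A') q = p :=
    fun q => by rw [rankAtStalk_D, hrk']
  -- the restriction isomorphisms `I_1(D) ≅ I_1(A)^∨`
  let res : OortTate.eigenAug R (CartDual.D R A) p χ 1 →ₗ[R]
      Module.Dual R (OortTate.eigenAug R A p χ 1) :=
    (OortTate.eigenAug R A p χ 1).subtype.dualMap ∘ₗ (CartDual.toDual R A).toLinearMap ∘ₗ
      (OortTate.eigenAug R (CartDual.D R A) p χ 1).subtype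
  have hres : Function.Bijective res := Groth.Agent.S18471.result p R u hu χ hχ A hpk 1
  let res' : OortTate.eigenAug R (CartDual.D R A') p χ 1 →ₗ[R]
      Module.Dual R (OortTate.eigenAug R A' p χ 1) :=
    (OortTate.eigenAug R A' p χ 1).subtype.dualMap ∘ₗ (CartDual.toDual R A').toLinearMap ∘ₗ
      (OortTate.eigenAug R (CartDual.D R A') p χ 1).subtype
  have hres' : Function.Bijective res' := Groth.Agent.S18471.result p R u hu χ hχ A' hpk' 1
  let resE := LinearEquiv.ofBijective res hres
  let resE' := LinearEquiv.ofBijective res' hres'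
  let θD : OortTate.eigenAug R (CartDual.D R A) p χ 1 ≃ₗ[R]
      OortTate.eigenAug R (CartDual.D R A') p χ 1 :=
    resE ≪≫ₗ θ.symm.dualMap ≪≫ₗ resE'.symm
  have hPD : ∀ (φ : OortTate.eigenAug R (CartDual.D R A) p χ 1)
      (x : OortTate.eigenAug R A p χ 1),
      ((θD φ : OortTate.eigenAug R (CartDual.D R A') p χ 1) : CartDual.D R A').ofConv
        ((θ x : OortTate.eigenAug R A' p χ 1) : A') = (φ : CartDual.D R A).ofConv (x : A) := by
    intro φ x
    have h1 : resE' (θD φ) = θ.symm.dualMap (resE φ) := by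
      show resE' (resE'.symm (θ.symm.dualMap (resE φ))) = _
      rw [LinearEquiv.apply_symm_apply]
    have h2 := LinearMap.congr_fun h1 (θ x)
    rw [LinearEquiv.dualMap_apply, LinearEquiv.symm_apply_apply] at h2
    exact h2
  -- `θD` is compatible with `p`-fold products
  have hθDc : ∀ (φ : Fin p → OortTate.eigenAug R (CartDual.D R A) p χ 1)
      (G : OortTate.eigenAug R (CartDual.D R A) p χ 1),
      (G : CartDual.D R A) = ∏ i, (φ i : CartDual.D R A) →
      ((θD G : OortTate.eigenAug R (CartDual.D R A') p χ 1) : CartDual.D R A') =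
        ∏ i, ((θD (φ i) : OortTate.eigenAug R (CartDual.D R A') p χ 1) : CartDual.D R A') := by
    intro φ G hG
    let G' : OortTate.eigenAug R (CartDual.D R A') p χ 1 :=
      ⟨∏ i, ((θD (φ i) : OortTate.eigenAug R (CartDual.D R A') p χ 1) : CartDual.D R A'),
        prod_mem_eigenAug_one p R χ (CartDual.D R A') _ (fun i => (θD (φ i)).2)⟩
    have h1 := hθD φ (fun i => θD (φ i)) G G' (fun i x => (hPD (φ i) x).symm) hG rfl
    have h2 : θD G = G' := by
      apply resE'.injective
      apply LinearMap.ext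
      intro x'
      obtain ⟨x, rfl⟩ := θ.surjective x'
      show ((θD G : OortTate.eigenAug R (CartDual.D R A') p χ 1) : CartDual.D R A').ofConv
        ((θ x : OortTate.eigenAug R A' p χ 1) : A') =
        (G' : CartDual.D R A').ofConv ((θ x : OortTate.eigenAug R A' p χ 1) : A')
      rw [hPD G x]
      exact h1 x
    rw [h2]
  -- `θ⁻¹` is compatible with `p`-fold products
  have hθc' : ∀ (f' : Fin p → OortTate.eigenAug R A' p χ 1)
      (G' : OortTate.eigenAug R A' p χ 1), (G' : A') = ∏ i, (f' i : A') →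
      ((θ.symm G' : OortTate.eigenAug R A p χ 1) : A) =
        ∏ i, ((θ.symm (f' i) : OortTate.eigenAug R A p χ 1) : A) := by
    intro f' G' hG'
    let G : OortTate.eigenAug R A p χ 1 :=
      ⟨∏ i, ((θ.symm (f' i) : OortTate.eigenAug R A p χ 1) : A),
        prod_mem_eigenAug_one p R χ A _ (fun i => (θ.symm (f' i)).2)⟩
    have h1 := hθ (fun i => θ.symm (f' i)) G rfl
    simp only [LinearEquiv.apply_symm_apply] at h1
    have h2 : θ G = G' := Subtype.ext (h1.trans hG'.symm)
    rw [← h2, LinearEquiv.symm_apply_apply]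
  -- the algebra maps
  obtain ⟨ψ, hψ⟩ := exists_algHom_of_compat p R u χ A hu hχ hχp hrk
    ((OortTate.eigenAug R A' p χ 1).subtype ∘ₗ θ.toLinearMap) (fun f G hG => hθ f G hG)
  obtain ⟨ψ', hψ'⟩ := exists_algHom_of_compat p R u χ A' hu hχ hχp hrk'
    ((OortTate.eigenAug R A p χ 1).subtype ∘ₗ θ.symm.toLinearMap) (fun f G hG => hθc' f G hG)
  obtain ⟨ρ, hρ⟩ := exists_algHom_of_compat p R u χ (CartDual.D R A) hu hχ hχp hrkD
    ((OortTate.eigenAug R (CartDual.D R A') p χ 1).subtype ∘ₗ θD.toLinearMap)
    (fun f G hG => hθDc f G hG)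
  have hψ0 : ∀ y : OortTate.eigenAug R A p χ 1,
      ψ (y : A) = ((θ y : OortTate.eigenAug R A' p χ 1) : A') := fun y => hψ y
  have hψ0' : ∀ y : OortTate.eigenAug R A' p χ 1,
      ψ' (y : A') = ((θ.symm y : OortTate.eigenAug R A p χ 1) : A) := fun y => hψ' y
  have hρ0 : ∀ y : OortTate.eigenAug R (CartDual.D R A) p χ 1,
      ρ (y : CartDual.D R A) =
        ((θD y : OortTate.eigenAug R (CartDual.D R A') p χ 1) : CartDual.D R A') := fun y => hρ y
  have h1 : ψ.comp ψ' = AlgHom.id R A' := by
    apply algHom_ext_I1 p R u χ A' hu hχ hχp hrk'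
    intro y
    rw [AlgHom.comp_apply, hψ0', hψ0, LinearEquiv.apply_symm_apply]
    rfl
  have h2 : ψ'.comp ψ = AlgHom.id R A := by
    apply algHom_ext_I1 p R u χ A hu hχ hχp hrk
    intro y
    rw [AlgHom.comp_apply, hψ0, hψ0', LinearEquiv.symm_apply_apply]
    rfl
  have hψi : Function.Injective ψ := by
    intro a b hab
    have := congrArg ψ' hab
    rw [← AlgHom.comp_apply, ← AlgHom.comp_apply, h2] at this
    exact this
  have htr := transpose_of_I1 p R u χ A A' hpk hpk' hu hχ hχp ψ ρ hψi
    (fun x' hx' => ⟨(θ.symm ⟨x', hx'⟩ : OortTate.eigenAug R A p χ 1),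
      (θ.symm ⟨x', hx'⟩).2, by rw [hψ0, LinearEquiv.apply_symm_apply]⟩)
    (fun φ hφ => by
      have := hρ0 ⟨φ, hφ⟩
      rw [this]
      exact (θD ⟨φ, hφ⟩).2)
    (fun φ hφ x hx => by
      have h3 := hρ0 ⟨φ, hφ⟩
      have h4 := hψ0 ⟨x, hx⟩
      rw [h3, h4]
      exact hPD ⟨φ, hφ⟩ ⟨x, hx⟩)
  have hρs : Function.Surjective ρ := by
    rw [← AlgHom.range_eq_top]
    apply subalgebra_eq_top p R u χ (CartDual.D R A') hu hχ hχp hrkD'
    intro y'
    exact ⟨((θD.symm y' : OortTate.eigenAug R (CartDual.D R A) p χ 1) : CartDual.D R A), by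
      show ρ ((θD.symm y' : OortTate.eigenAug R (CartDual.D R A) p χ 1) : CartDual.D R A) = _
      rw [hρ0, LinearEquiv.apply_symm_apply]⟩
  exact nonempty_bialgEquiv_of_transpose R A A' ψ ψ' h1 h2 ρ hρs htr

end Groth.Agent.S18478
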