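import Groth.Statements.S18479
import Mathlib.Tactic.LinearCombination
import Mathlib.Tactic.Ring

set_option autoImplicit false
universe u v
open scoped TensorProduct
open OortTate

namespace Groth.Agent.S18479

section

variable {R : Type u} [CommRing R] {A : Type v} [CommRing A] [HopfAlgebra R A]

theorem exists_coeff (x : A)
    (hgen : ∀ f : A, Bialgebra.counitAlgHom R A f = 0 → ∃ r : R, f = r • x) (f : A) :
    ∃ s : R, f = (Bialgebra.counitAlgHom R A f) • (1 : A) + s • x := by
  have h0 : Bialgebra.counitAlgHom R A (f - (Bialgebra.counitAlgHom R A f) • (1 : A)) = 0 := by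
    rw [map_sub, map_smul, map_one, smul_eq_mul, mul_one, sub_self]
  obtain ⟨s, hs⟩ := hgen _ h0
  exact ⟨s, by rw [← hs]; abel⟩

theorem coeff_unique (x : A) (hx : Bialgebra.counitAlgHom R A x = 0)
    (hfree : ∀ r : R, r • x = 0 → r = 0) (r s r' s' : R)
    (h : r • (1 : A) + s • x = r' • (1 : A) + s' • x) : r = r' ∧ s = s' := by
  have h1 := congrArg (Bialgebra.counitAlgHom R A) h
  simp only [map_add, map_smul, map_one, hx, smul_eq_mul, mul_one, mul_zero, add_zero] at h1
  refine ⟨h1, ?_⟩
  subst h1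
  have h2 : (s - s') • x = 0 := by
    rw [sub_smul, sub_eq_zero]
    exact add_left_cancel h
  have := hfree _ h2
  exact sub_eq_zero.mp this

/-- The polynomial identity used for the square of the comultiplication. -/
theorem sq_identity {S : Type*} [CommRing S] [Algebra R S] (X Y : S) (a b : R)
    (hX : X * X = a • X) (hY : Y * Y = a • Y) :
    (X + Y + b • (X * Y)) * (X + Y + b • (X * Y)) =
      a • X + a • Y + (a * a * b * b + 2 + 4 * a * b) • (X * Y) := by
  simp only [Algebra.smul_def, map_add, map_mul, map_ofNat] at *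
  linear_combination (1 + (algebraMap R S b) ^ 2 * Y ^ 2 + 2 * (algebraMap R S b) * Y) * hX +
    (1 + (algebraMap R S a) * (algebraMap R S b) ^ 2 * X + 2 * (algebraMap R S b) * X) * hY

end


/-- Let R be a commutative ring and A a commutative Hopf algebra over R whose augmentation ideal ker ε
is a free R-module of rank one with generator x (this is the situation of a group scheme of order 2
over a local ring: A free of rank 2, so ker ε is free of rank 1). Then there are a, b ∈ R with x² =
a·x, Δ(x) = x ⊗ 1 + 1 ⊗ x + b·(x ⊗ x), and ab = −2; thus A is the Hopf algebra R[T]/(T² − aT) with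
comultiplication T ↦ T ⊗ 1 + 1 ⊗ T + b T ⊗ T. (The copy works over a Noetherian local ring to get
freeness; the computation uses only that ker ε is free on x.) -/
theorem result
    (R : Type u) [CommRing R] (A : Type v) [CommRing A] [HopfAlgebra R A]
    (x : A) (hx : Bialgebra.counitAlgHom R A x = 0)
    (hgen : ∀ f : A, Bialgebra.counitAlgHom R A f = 0 → ∃ r : R, f = r • x)
    (hfree : ∀ r : R, r • x = 0 → r = 0) :
    ∃ a b : R, x * x = a • x ∧
      Bialgebra.comulAlgHom R A x = x ⊗ₜ[R] 1 + 1 ⊗ₜ[R] x + b • (x ⊗ₜ[R] x) ∧ a * b = -2 := by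
  classical
  -- the coefficient functional
  have hex := exists_coeff (R := R) x hgen
  choose φ hφ using hex
  have hε1 : Bialgebra.counitAlgHom R A (1 : A) = 1 := map_one _
  have hφlin_add : ∀ f g : A, φ (f + g) = φ f + φ g := by
    intro f g
    have h1 := hφ (f + g)
    have h2 : f + g = (Bialgebra.counitAlgHom R A (f + g)) • (1 : A) + (φ f + φ g) • x := by
      conv_lhs => rw [hφ f, hφ g]
      rw [map_add, add_smul, add_smul]
      abel
    exact (coeff_unique x hx hfree _ _ _ _ (h1.symm.trans h2)).2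
  have hφlin_smul : ∀ (c : R) (f : A), φ (c • f) = c * φ f := by
    intro c f
    have h1 := hφ (c • f)
    have h2 : c • f = (Bialgebra.counitAlgHom R A (c • f)) • (1 : A) + (c * φ f) • x := by
      conv_lhs => rw [hφ f]
      rw [map_smul, smul_add, smul_smul, smul_smul, smul_eq_mul]
    exact (coeff_unique x hx hfree _ _ _ _ (h1.symm.trans h2)).2
  let φ₁ : A →ₗ[R] R :=
    { toFun := φ
      map_add' := hφlin_add
      map_smul' := by intro c f; rw [hφlin_smul]; rfl }
  let φ₀ : A →ₗ[R] R := (Bialgebra.counitAlgHom R A).toLinearMap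
  have hφ₁1 : φ₁ (1 : A) = 0 := by
    have h1 := hφ (1 : A)
    have h2 : (1 : A) = (Bialgebra.counitAlgHom R A (1 : A)) • (1 : A) + (0 : R) • x := by
      rw [hε1, one_smul, zero_smul, add_zero]
    exact (coeff_unique x hx hfree _ _ _ _ (h1.symm.trans h2)).2
  have hφ₁x : φ₁ x = 1 := by
    have h1 := hφ x
    have h2 : x = (Bialgebra.counitAlgHom R A x) • (1 : A) + (1 : R) • x := by
      rw [hx, zero_smul, zero_add, one_smul]
    exact (coeff_unique x hx hfree _ _ _ _ (h1.symm.trans h2)).2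
  have hφ₀1 : φ₀ (1 : A) = 1 := hε1
  have hφ₀x : φ₀ x = 0 := hx
  have hdecomp : ∀ f : A, f = φ₀ f • (1 : A) + φ₁ f • x := hφ
  -- coefficient functionals on the tensor square
  let cc : (A →ₗ[R] R) → (A →ₗ[R] R) → (A ⊗[R] A →ₗ[R] R) := fun f g =>
    (TensorProduct.lid R R).toLinearMap ∘ₗ TensorProduct.map f g
  have hcc : ∀ (f g : A →ₗ[R] R) (u v : A), cc f g (u ⊗ₜ[R] v) = f u * g v := by
    intro f g u v
    simp [cc]
  -- expansion of an arbitrary tensor
  have hexp : ∀ T : A ⊗[R] A, T = cc φ₀ φ₀ T • ((1 : A) ⊗ₜ[R] (1 : A)) + cc φ₁ φ₀ T • (x ⊗ₜ[R] (1 : A)) +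
      cc φ₀ φ₁ T • ((1 : A) ⊗ₜ[R] x) + cc φ₁ φ₁ T • (x ⊗ₜ[R] x) := by
    intro T
    induction T using TensorProduct.induction_on with
    | zero => simp
    | tmul u v =>
      rw [hcc, hcc, hcc, hcc]
      conv_lhs => rw [hdecomp u, hdecomp v]
      simp only [TensorProduct.add_tmul, TensorProduct.tmul_add, TensorProduct.smul_tmul_smul]
      abel
    | add T₁ T₂ h₁ h₂ =>
      conv_lhs => rw [h₁, h₂]
      simp only [map_add, add_smul]
      abel
  -- the comultiplication of x
  set Δx := Bialgebra.comulAlgHom R A x with hΔx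
  have hΔ' : Δx = Coalgebra.comul (R := R) x := rfl
  have h00 : cc φ₀ φ₀ Δx = 0 := by
    have h1 := Coalgebra.rTensor_counit_comul (R := R) x
    have h2 := congrArg (TensorProduct.lid R A) h1
    have h3 := congrArg φ₀ h2
    rw [← hΔ'] at h3
    have h4 : ∀ T : A ⊗[R] A, φ₀ (TensorProduct.lid R A ((Coalgebra.counit (R := R) (A := A)).rTensor A T)) =
        cc φ₀ φ₀ T := by
      intro T
      induction T using TensorProduct.induction_on with
      | zero => simp
      | tmul u v => rw [hcc]; simp [φ₀]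
      | add T₁ T₂ h₁ h₂ => simp only [map_add, h₁, h₂]
    rw [h4] at h3
    rw [h3]
    have h5 : (TensorProduct.lid R A) ((1 : R) ⊗ₜ[R] x) = x := by simp
    rw [h5]
    exact hx
  have h01 : cc φ₀ φ₁ Δx = 1 := by
    have h1 := Coalgebra.rTensor_counit_comul (R := R) x
    have h2 := congrArg (TensorProduct.lid R A) h1
    have h3 := congrArg φ₁ h2
    rw [← hΔ'] at h3
    have h4 : ∀ T : A ⊗[R] A, φ₁ (TensorProduct.lid R A ((Coalgebra.counit (R := R) (A := A)).rTensor A T)) =
        cc φ₀ φ₁ T := by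
      intro T
      induction T using TensorProduct.induction_on with
      | zero => simp
      | tmul u v => rw [hcc]; simp [φ₀]
      | add T₁ T₂ h₁ h₂ => simp only [map_add, h₁, h₂]
    rw [h4] at h3
    rw [h3]
    simp [hφ₁x]
  have h10 : cc φ₁ φ₀ Δx = 1 := by
    have h1 := Coalgebra.lTensor_counit_comul (R := R) x
    have h2 := congrArg (TensorProduct.rid R A) h1
    have h3 := congrArg φ₁ h2
    rw [← hΔ'] at h3
    have h4 : ∀ T : A ⊗[R] A, φ₁ (TensorProduct.rid R A ((Coalgebra.counit (R := R) (A := A)).lTensor A T)) =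
        cc φ₁ φ₀ T := by
      intro T
      induction T using TensorProduct.induction_on with
      | zero => simp
      | tmul u v => rw [hcc]; simp [φ₀, mul_comm]
      | add T₁ T₂ h₁ h₂ => simp only [map_add, h₁, h₂]
    rw [h4] at h3
    rw [h3]
    simp [hφ₁x]
  set b : R := cc φ₁ φ₁ Δx with hb
  have hΔ : Δx = x ⊗ₜ[R] (1 : A) + (1 : A) ⊗ₜ[R] x + b • (x ⊗ₜ[R] x) := by
    have := hexp Δx
    rw [h00, h01, h10, zero_smul, zero_add, one_smul, one_smul] at this
    exact this
  -- x * x = a • x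
  set a : R := φ₁ (x * x) with ha
  have hxx : x * x = a • x := by
    have := hdecomp (x * x)
    have h0 : φ₀ (x * x) = 0 := by
      change Bialgebra.counitAlgHom R A (x * x) = 0
      rw [map_mul, hx, zero_mul]
    rw [h0, zero_smul, zero_add] at this
    exact this
  refine ⟨a, b, hxx, hΔ, ?_⟩
  -- multiplicativity of the comultiplication
  have hX : (x ⊗ₜ[R] (1 : A)) * (x ⊗ₜ[R] (1 : A)) = a • (x ⊗ₜ[R] (1 : A)) := by
    rw [Algebra.TensorProduct.tmul_mul_tmul, hxx, mul_one, TensorProduct.smul_tmul']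
  have hY : ((1 : A) ⊗ₜ[R] x) * ((1 : A) ⊗ₜ[R] x) = a • ((1 : A) ⊗ₜ[R] x) := by
    rw [Algebra.TensorProduct.tmul_mul_tmul, hxx, mul_one, TensorProduct.tmul_smul]
  have hXY : (x ⊗ₜ[R] (1 : A)) * ((1 : A) ⊗ₜ[R] x) = x ⊗ₜ[R] x := by
    rw [Algebra.TensorProduct.tmul_mul_tmul, mul_one, one_mul]
  have hsq := sq_identity (R := R) (x ⊗ₜ[R] (1 : A)) ((1 : A) ⊗ₜ[R] x) a b hX hY
  rw [hXY, ← hΔ] at hsq
  have hmul : Δx * Δx = a • Δx := by
    rw [hΔx, ← map_mul, hxx, map_smul]
  rw [hmul] at hsq
  have E1 := congrArg (cc φ₁ φ₁) hsq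
  simp only [map_add, map_smul, hcc, hφ₁1, hφ₁x, smul_eq_mul, mul_zero, mul_one, add_zero,
    zero_add, ← hb] at E1
  -- the antipode
  have hanti := HopfAlgebra.mul_antipode_rTensor_comul_apply (R := R) x
  rw [← hΔ', hΔ] at hanti
  simp only [map_add, map_smul, LinearMap.rTensor_tmul, LinearMap.mul'_apply,
    HopfAlgebra.antipode_one, mul_one, one_mul] at hanti
  have hcx : Coalgebra.counit (R := R) x = 0 := hx
  rw [hcx, map_zero] at hanti
  obtain ⟨c, hc⟩ := exists_coeff (R := R) x hgen (HopfAlgebra.antipode R x)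
  set s0 := Bialgebra.counitAlgHom R A (HopfAlgebra.antipode R x) with hs0
  have hSx : (s0 • (1 : A) + c • x) * x = (s0 + c * a) • x := by
    rw [add_mul, smul_mul_assoc, one_mul, smul_mul_assoc, hxx, smul_smul, add_smul]
  rw [hc, hSx] at hanti
  have hanti' : s0 • (1 : A) + (c + 1 + b * (s0 + c * a)) • x = (0 : R) • (1 : A) + (0 : R) • x := by
    rw [zero_smul, zero_smul, add_zero, ← hanti]
    simp only [add_smul, one_smul, mul_smul]
    abel
  obtain ⟨e1, e2⟩ := coeff_unique x hx hfree _ _ _ _ hanti'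
  rw [e1] at e2
  linear_combination (a * b + 2) * e2 + c * E1

end Groth.Agent.S18479
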