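import Groth.Statements.S18480
import Mathlib.Tactic.LinearCombination
import Mathlib.Tactic.Ring

set_option autoImplicit false
universe u v
open scoped TensorProduct
open OortTate

namespace Groth.Agent.S18480

section

variable {R : Type u} [CommRing R] {A : Type v} [CommRing A] [HopfAlgebra R A]

/-- The standing hypotheses: `x` is a free generator of the augmentation ideal. -/
structure Gen (R : Type u) [CommRing R] {A : Type v} [CommRing A] [HopfAlgebra R A] (x : A) :
    Prop where
  hx : Bialgebra.counitAlgHom R A x = 0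
  hgen : ∀ f : A, Bialgebra.counitAlgHom R A f = 0 → ∃ r : R, f = r • x
  hfree : ∀ r : R, r • x = 0 → r = 0

namespace Gen

variable {x : A} (h : Gen R x)

include h in
theorem exists_coeff (f : A) :
    ∃ s : R, f = (Bialgebra.counitAlgHom R A f) • (1 : A) + s • x := by
  have h0 : Bialgebra.counitAlgHom R A (f - (Bialgebra.counitAlgHom R A f) • (1 : A)) = 0 := by
    rw [map_sub, map_smul, map_one, smul_eq_mul, mul_one, sub_self]
  obtain ⟨s, hs⟩ := h.hgen _ h0
  exact ⟨s, by rw [← hs]; abel⟩

include h in
theorem coeff_unique (r s r' s' : R)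
    (e : r • (1 : A) + s • x = r' • (1 : A) + s' • x) : r = r' ∧ s = s' := by
  have h1 := congrArg (Bialgebra.counitAlgHom R A) e
  simp only [map_add, map_smul, map_one, h.hx, smul_eq_mul, mul_one, mul_zero, add_zero] at h1
  refine ⟨h1, ?_⟩
  subst h1
  have h2 : (s - s') • x = 0 := by
    rw [sub_smul, sub_eq_zero]
    exact add_left_cancel e
  have := h.hfree _ h2
  exact sub_eq_zero.mp this

/-- The coefficient of `x`. -/
noncomputable def cf (f : A) : R := (h.exists_coeff f).choose

theorem decomp (f : A) :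
    f = (Bialgebra.counitAlgHom R A f) • (1 : A) + h.cf f • x :=
  (h.exists_coeff f).choose_spec

theorem cf_eq (f : A) (r s : R) (e : f = r • (1 : A) + s • x) :
    Bialgebra.counitAlgHom R A f = r ∧ h.cf f = s :=
  h.coeff_unique _ _ _ _ ((h.decomp f).symm.trans e)

theorem cf_add (f g : A) : h.cf (f + g) = h.cf f + h.cf g := by
  refine (h.cf_eq (f + g) (Bialgebra.counitAlgHom R A (f + g)) _ ?_).2
  conv_lhs => rw [h.decomp f, h.decomp g]
  rw [map_add, add_smul, add_smul]
  abel

theorem cf_smul (c : R) (f : A) : h.cf (c • f) = c * h.cf f := by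
  refine (h.cf_eq (c • f) (Bialgebra.counitAlgHom R A (c • f)) _ ?_).2
  conv_lhs => rw [h.decomp f]
  rw [map_smul, smul_add, smul_smul, smul_smul, smul_eq_mul]

theorem cf_one : h.cf (1 : A) = 0 := by
  refine (h.cf_eq (1 : A) 1 0 ?_).2
  rw [one_smul, zero_smul, add_zero]

theorem cf_x : h.cf x = 1 := by
  refine (h.cf_eq x 0 1 ?_).2
  rw [one_smul, zero_smul, zero_add]

theorem cf_mul (a : R) (hxa : x * x = a • x) (f g : A) :
    h.cf (f * g) = Bialgebra.counitAlgHom R A f * h.cf g + h.cf f * Bialgebra.counitAlgHom R A g +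
      h.cf f * h.cf g * a := by
  refine (h.cf_eq (f * g) (Bialgebra.counitAlgHom R A f * Bialgebra.counitAlgHom R A g) _ ?_).2
  conv_lhs => rw [h.decomp f, h.decomp g]
  simp only [Algebra.smul_def, map_mul, map_add] at hxa ⊢
  linear_combination (algebraMap R A (h.cf f) * algebraMap R A (h.cf g)) * hxa

/-- The coefficient functional as a linear map. -/
noncomputable def cfL : A →ₗ[R] R where
  toFun := h.cf
  map_add' := h.cf_add
  map_smul' c f := by rw [h.cf_smul]; rfl

@[simp] theorem cfL_apply (f : A) : h.cfL f = h.cf f := rfl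

/-- The underlying linear map of the algebra map `A → B` sending `x` to `y`. -/
noncomputable def liftL {B : Type*} [CommRing B] [Algebra R B] (y : B) : A →ₗ[R] B where
  toFun f := algebraMap R B (Bialgebra.counitAlgHom R A f) + algebraMap R B (h.cf f) * y
  map_add' f g := by
    rw [map_add, map_add, h.cf_add, map_add]; ring
  map_smul' c f := by
    rw [map_smul, h.cf_smul, RingHom.id_apply, smul_eq_mul, map_mul, map_mul, Algebra.smul_def]
    ring

/-- The algebra map `A → B` sending `x` to `y`, where `y * y = a y`. -/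
noncomputable def lift {B : Type*} [CommRing B] [Algebra R B] (a : R) (hxa : x * x = a • x)
    (y : B) (hy : y * y = algebraMap R B a * y) : A →ₐ[R] B :=
  AlgHom.ofLinearMap (h.liftL y)
    (by
      show algebraMap R B (Bialgebra.counitAlgHom R A 1) + algebraMap R B (h.cf 1) * y = 1
      rw [map_one, h.cf_one, map_one, map_zero, zero_mul, add_zero])
    (by
      intro f g
      show algebraMap R B (Bialgebra.counitAlgHom R A (f * g)) +
          algebraMap R B (h.cf (f * g)) * y =
        (algebraMap R B (Bialgebra.counitAlgHom R A f) + algebraMap R B (h.cf f) * y) *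
          (algebraMap R B (Bialgebra.counitAlgHom R A g) + algebraMap R B (h.cf g) * y)
      rw [map_mul, h.cf_mul a hxa]
      simp only [map_mul, map_add]
      linear_combination (-(algebraMap R B (h.cf f) * algebraMap R B (h.cf g))) * hy)

theorem lift_x {B : Type*} [CommRing B] [Algebra R B] (a : R) (hxa : x * x = a • x)
    (y : B) (hy : y * y = algebraMap R B a * y) : h.lift a hxa y hy x = y := by
  show algebraMap R B (Bialgebra.counitAlgHom R A x) + algebraMap R B (h.cf x) * y = y
  rw [h.hx, h.cf_x, map_zero, map_one, one_mul, zero_add]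

include h in
theorem algHom_ext {B : Type*} [Semiring B] [Algebra R B] (φ ψ : A →ₐ[R] B)
    (e : φ x = ψ x) : φ = ψ := by
  ext f
  rw [h.decomp f, map_add, map_add, map_smul, map_smul, map_smul, map_smul, map_one, map_one, e]

end Gen

end


/-- Let R be a commutative ring and let A and A' be commutative Hopf algebras over R whose augmentation
ideals are free of rank one with generators x and x', with constants a, b and a', b' ∈ R such that
x² = a x, Δ(x) = x ⊗ 1 + 1 ⊗ x + b x ⊗ x and x'² = a' x', Δ(x') = x' ⊗ 1 + 1 ⊗ x' + b' x' ⊗ x' (the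
group schemes of order two G_{a,b} and G_{a',b'}). Then A and A' are isomorphic as bialgebras over R
(G_{a,b} ≅ G_{a',b'} as group schemes) if and only if there is a unit s of R with a = a'·s and b' =
b·s. -/
theorem result
    (R : Type u) [CommRing R] (A : Type v) [CommRing A] [HopfAlgebra R A]
    (x : A) (hx : Bialgebra.counitAlgHom R A x = 0)
    (hgen : ∀ f : A, Bialgebra.counitAlgHom R A f = 0 → ∃ r : R, f = r • x)
    (hfree : ∀ r : R, r • x = 0 → r = 0)
    (a b : R) (hxa : x * x = a • x)
    (hxb : Bialgebra.comulAlgHom R A x = x ⊗ₜ[R] 1 + 1 ⊗ₜ[R] x + b • (x ⊗ₜ[R] x))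
    (A' : Type v) [CommRing A'] [HopfAlgebra R A']
    (x' : A') (hx' : Bialgebra.counitAlgHom R A' x' = 0)
    (hgen' : ∀ f : A', Bialgebra.counitAlgHom R A' f = 0 → ∃ r : R, f = r • x')
    (hfree' : ∀ r : R, r • x' = 0 → r = 0)
    (a' b' : R) (hxa' : x' * x' = a' • x')
    (hxb' : Bialgebra.comulAlgHom R A' x' = x' ⊗ₜ[R] 1 + 1 ⊗ₜ[R] x' + b' • (x' ⊗ₜ[R] x')) :
    Nonempty (A ≃ₐc[R] A') ↔ ∃ s : Rˣ, a = a' * (s : R) ∧ b' = b * (s : R) := by
  classical
  have hA : Gen R x := ⟨hx, hgen, hfree⟩
  have hA' : Gen R x' := ⟨hx', hgen', hfree'⟩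
  have hcx : Coalgebra.comul (R := R) x = x ⊗ₜ[R] 1 + 1 ⊗ₜ[R] x + b • (x ⊗ₜ[R] x) := hxb
  have hcx' : Coalgebra.comul (R := R) x' = x' ⊗ₜ[R] 1 + 1 ⊗ₜ[R] x' + b' • (x' ⊗ₜ[R] x') := hxb'
  constructor
  · rintro ⟨e⟩
    have h1 : Bialgebra.counitAlgHom R A' (e x) = 0 := by
      have := CoalgHomClass.counit_comp_apply (R := R) e x
      exact this.trans hx
    obtain ⟨s, hs⟩ := hgen' _ h1
    have h2 : Bialgebra.counitAlgHom R A (e.symm x') = 0 := by
      have := CoalgHomClass.counit_comp_apply (R := R) e.symm x'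
      exact this.trans hx'
    obtain ⟨t, ht⟩ := hgen _ h2
    have hst : s * t = 1 := by
      have h3 : x = (s * t) • x := by
        conv_lhs => rw [← e.symm_apply_apply x, hs, map_smul, ht, smul_smul]
      have h4 : (s * t - 1) • x = 0 := by rw [sub_smul, one_smul, ← h3, sub_self]
      exact sub_eq_zero.mp (hfree _ h4)
    refine ⟨⟨s, t, hst, by rw [mul_comm]; exact hst⟩, ?_, ?_⟩
    · have h4 : (a * s) • x' = (s * s * a') • x' := by
        have h5 : e (x * x) = e x * e x := map_mul e x x
        rw [hxa, map_smul, hs, smul_mul_smul_comm, hxa', smul_smul, smul_smul] at h5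
        exact h5
      have h5 : a * s = s * s * a' := by
        have h6 : (a * s - s * s * a') • x' = 0 := by rw [sub_smul, h4, sub_self]
        exact sub_eq_zero.mp (hfree' _ h6)
      show a = a' * s
      linear_combination t * h5 - (a - a' * s) * hst
    · have h6 := CoalgHomClass.map_comp_comul_apply (R := R) e x
      rw [hcx, hs, map_smul, hcx'] at h6
      have E1 := congrArg ((TensorProduct.lid R R).toLinearMap ∘ₗ TensorProduct.map hA'.cfL hA'.cfL) h6
      simp only [map_add, map_smul, TensorProduct.map_tmul, LinearMap.comp_apply,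
        LinearEquiv.coe_coe, TensorProduct.lid_tmul, Gen.cfL_apply, smul_eq_mul,
        LinearMap.coe_coe] at E1
      rw [hs, map_one] at E1
      simp only [hA'.cf_smul, hA'.cf_x, hA'.cf_one, mul_one, mul_zero, zero_mul, add_zero,
        zero_add] at E1
      show b' = b * s
      linear_combination (-t) * E1 - (b' - b * s) * hst
  · rintro ⟨s, hs1, hs2⟩
    have hσ : algebraMap R A (↑s⁻¹ : R) * algebraMap R A (s : R) = 1 := by
      rw [← map_mul, Units.inv_mul, map_one]
    have hy : ((s : R) • x') * ((s : R) • x') = algebraMap R A' a * ((s : R) • x') := by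
      rw [hs1]
      simp only [Algebra.smul_def, map_mul] at hxa' ⊢
      linear_combination (algebraMap R A' (s : R)) ^ 2 * hxa'
    have hy' : ((↑s⁻¹ : R) • x) * ((↑s⁻¹ : R) • x) = algebraMap R A a' * ((↑s⁻¹ : R) • x) := by
      rw [hs1] at hxa
      simp only [Algebra.smul_def, map_mul] at hxa ⊢
      linear_combination (algebraMap R A (↑s⁻¹ : R)) ^ 2 * hxa +
        (algebraMap R A a' * algebraMap R A (↑s⁻¹ : R) * x) * hσ
    let F : A →ₐ[R] A' := hA.lift a hxa _ hy
    let G : A' →ₐ[R] A := hA'.lift a' hxa' _ hy'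
    have hFx : F x = (s : R) • x' := hA.lift_x a hxa _ hy
    have hGx : G x' = (↑s⁻¹ : R) • x := hA'.lift_x a' hxa' _ hy'
    have hFG : F.comp G = AlgHom.id R A' := by
      apply hA'.algHom_ext
      rw [AlgHom.comp_apply, hGx, map_smul, hFx, smul_smul, Units.inv_mul, one_smul]
      rfl
    have hGF : G.comp F = AlgHom.id R A := by
      apply hA.algHom_ext
      rw [AlgHom.comp_apply, hFx, map_smul, hGx, smul_smul, Units.mul_inv, one_smul]
      rfl
    let E : A ≃ₐ[R] A' := AlgEquiv.ofAlgHom F G hFG hGF
    have hEx : (E : A →ₐ[R] A') x = (s : R) • x' := hFx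
    refine ⟨BialgEquiv.ofAlgEquiv E ?_ ?_⟩
    · apply hA.algHom_ext
      rw [AlgHom.comp_apply, hEx, map_smul, hx', hx, smul_zero]
    · apply hA.algHom_ext
      rw [AlgHom.comp_apply, AlgHom.comp_apply, hEx, hxb, map_smul, hxb', hs2]
      simp only [map_add, map_smul, Algebra.TensorProduct.map_tmul, map_one, hEx]
      simp only [← TensorProduct.smul_tmul', TensorProduct.tmul_smul, smul_add, smul_smul]
      congr 2
      ring

end Groth.Agent.S18480
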