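import Groth.Statements.S18484
import Mathlib
import Groth.Agent.S18498

set_option autoImplicit false
universe u
open CategoryTheory CategoryTheory.Limits AlgebraicGeometry MonObj
open Neron

namespace Groth.Agent.S18484



open Groth.Agent.S18498

theorem isIso_of_factors {Y P W : Scheme.{u}} (c : P ⟶ Y) [IsClosedImmersion c]
    (j : W ⟶ Y) [IsSchemeTheoreticallyDominant j] (l : W ⟶ P) (hl : l ≫ c = j) : IsIso c := by
  have hker : c.ker = ⊥ := by
    rw [eq_bot_iff]
    calc c.ker ≤ (l ≫ c).ker := Scheme.Hom.le_ker_comp _ _
      _ = j.ker := by rw [hl]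
      _ = ⊥ := j.ker_eq_bot
  exact IsClosedImmersion.isIso_iff_ker_eq_bot.mpr hker

theorem main (R : Type u) [CommRing R] [IsDedekindDomain R]
    (X G : Over (Spec (CommRingCat.of R))) (hX : Neron.IsNeronModelOf R X ((Neron.genericFibre R).obj X) (Iso.refl _))
    (i : G ⟶ X) [IsClosedImmersion i.left] [Smooth G.hom] :
    Neron.IsNeronModelOf R G ((Neron.genericFibre R).obj G) (Iso.refl _) := by
  obtain ⟨hXsm, hXsep, hXlft, hXqc, hXmap⟩ := hX
  have hGsep : IsSeparated G.hom := by rw [← Over.w i]; infer_instance
  have hGqc : QuasiCompact G.hom := by rw [← Over.w i]; infer_instance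
  refine ⟨inferInstance, hGsep, inferInstance, hGqc, ?_⟩
  intro Y hY
  have hYflat : Flat Y.hom := inferInstance
  have hdom := genPt_schDominant R
  have hqc : QuasiCompact (Neron.genPt R) := by unfold Neron.genPt; infer_instance
  have hπdom : IsSchemeTheoreticallyDominant (pullback.fst Y.hom (Neron.genPt R)) := inferInstance
  -- mono of i_K
  have hmonoK : Mono ((Neron.genericFibre R).map i) := by
    constructor
    intro Z a b hab
    ext1
    have h1 := congrArg (fun φ => φ.left) hab
    simp only [Over.comp_left, Over.pullback_map_left] at h1
    apply pullback.hom_ext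
    · have h2 := congrArg (fun φ => φ ≫ pullback.fst X.hom (Neron.genPt R)) h1
      simp only [Category.assoc, pullback.lift_fst] at h2
      rw [← Category.assoc, ← Category.assoc] at h2
      exact (cancel_mono i.left).mp h2
    · have h2 := congrArg (fun φ => φ ≫ pullback.snd X.hom (Neron.genPt R)) h1
      simp only [Category.assoc, pullback.lift_snd] at h2
      exact h2
  constructor
  · intro g₁ g₂ h
    simp only [Iso.refl_hom, Category.comp_id] at h
    exact Groth.Agent.S18498.main R Y G g₁ g₂ h
  · intro φ
    obtain ⟨ψ, hψ⟩ := (hXmap Y hY).2 (φ ≫ (Neron.genericFibre R).map i)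
    simp only [Iso.refl_hom, Category.comp_id] at hψ
    -- factor ψ through i
    have hsq : pullback.fst Y.hom (Neron.genPt R) ≫ ψ.left =
        (φ.left ≫ pullback.fst G.hom (Neron.genPt R)) ≫ i.left := by
      have h1 := congrArg (fun θ => θ.left ≫ pullback.fst X.hom (Neron.genPt R)) hψ
      simp only [Over.comp_left, Over.pullback_map_left, Category.assoc, pullback.lift_fst] at h1
      rw [h1, Category.assoc]
    let l : pullback Y.hom (Neron.genPt R) ⟶ pullback ψ.left i.left :=
      pullback.lift (pullback.fst Y.hom (Neron.genPt R))
        (φ.left ≫ pullback.fst G.hom (Neron.genPt R)) hsq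
    have hiso : IsIso (pullback.fst ψ.left i.left) :=
      isIso_of_factors (pullback.fst ψ.left i.left) (pullback.fst Y.hom (Neron.genPt R)) l
        (pullback.lift_fst _ _ _)
    let gl : Y.left ⟶ G.left := inv (pullback.fst ψ.left i.left) ≫ pullback.snd ψ.left i.left
    have hgl : gl ≫ i.left = ψ.left := by
      simp only [gl, Category.assoc, ← pullback.condition, IsIso.inv_hom_id_assoc]
    have hgw : gl ≫ G.hom = Y.hom := by
      rw [← Over.w i, ← Category.assoc, hgl, Over.w ψ]
    let g : Y ⟶ G := Over.homMk gl hgw
    have hgi : g ≫ i = ψ := by ext1; exact hgl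
    refine ⟨g, ?_⟩
    simp only [Iso.refl_hom, Category.comp_id]
    rw [← cancel_mono ((Neron.genericFibre R).map i), ← Functor.map_comp, hgi, hψ]


/-- Let R be a Dedekind domain with fraction field K, X a Spec R-scheme which is a Néron model of its
generic fibre X_K, and i : G → X a closed immersion with G smooth over Spec R. Then G is a Néron
model of its generic fibre G_K: smooth, separated, of finite type, and for every smooth Spec
R-scheme Y restriction to generic fibres is a bijection from R-morphisms Y → G onto K-morphisms Y_K
→ G_K. (The source states this for a closed subgroup scheme of a Néron model; the group laws play no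
part and are not assumed. The converse direction of the source, that a Néron model is a closed
subgroup of a Néron model, is immediate and not stated.) -/
theorem result (R : Type u) [CommRing R] [IsDedekindDomain R]
    (X G : Over (Spec (CommRingCat.of R))) (hX : Neron.IsNeronModelOf R X ((Neron.genericFibre R).obj X) (Iso.refl _))
    (i : G ⟶ X) [IsClosedImmersion i.left] [Smooth G.hom] :
    Neron.IsNeronModelOf R G ((Neron.genericFibre R).obj G) (Iso.refl _) := by
  exact main R X G hX i

end Groth.Agent.S18484
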