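import Groth.Statements.S18485
import Groth.Agent.S9687
import Groth.Agent.H95.StalkPrimes
import Groth.Agent.H71.DimFun
import Groth.Agent.H54.FibreKrull
import Groth.Agent.H54.SchemeDim2
import Groth.Agent.H38.NowhereDenseDim
import Groth.Agent.H9.DimFormulaEq

set_option autoImplicit false
universe u
open CategoryTheory CategoryTheory.Limits AlgebraicGeometry MonObj
open Neron

namespace Groth.Agent.S18485


section Helpers
open AlgebraicGeometry CategoryTheory CategoryTheory.Limits TopologicalSpace

lemma ringKrullDim_stalk_le_one (R : Type u) [CommRing R] [IsDedekindDomain R]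
    (s : Spec (CommRingCat.of R)) :
    ringKrullDim ((Spec (CommRingCat.of R)).presheaf.stalk s) ≤ 1 := by
  letI : Algebra R ((Spec (CommRingCat.of R)).presheaf.stalk s) :=
    StructureSheaf.stalkAlgebra R s
  haveI : IsLocalization.AtPrime ((Spec (CommRingCat.of R)).presheaf.stalk s) s.asIdeal :=
    StructureSheaf.IsLocalization.to_stalk R s
  rw [IsLocalization.AtPrime.ringKrullDim_eq_height s.asIdeal]
  have h : s.asIdeal.height ≤ ((1 : ℕ) : ℕ∞) := by
    rw [Ideal.height_le_iff]
    intro q hq hlt
    haveI := hq
    rw [Ring.DimensionLEOne.eq_bot_of_lt q s.asIdeal hlt, Ideal.height_bot]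
    norm_num
  exact_mod_cast h

lemma discrete_of_forall_isClosed {F : Scheme.{u}} [IsLocallyNoetherian F]
    (hcl : ∀ z : F, IsClosed ({z} : Set F)) : DiscreteTopology F := by
  rw [discreteTopology_iff_isOpen_singleton]
  intro z
  have hzmax : ∀ z' : F, z' ⤳ z → z' = z := by
    intro z' h
    have h1 : z ∈ closure ({z'} : Set F) := specializes_iff_mem_closure.mp h
    rw [(hcl z').closure_eq] at h1
    exact (Set.mem_singleton_iff.mp h1).symm
  obtain ⟨O, hO1, hzO, hOcl⟩ :=
    Groth.Agent.H38.NowhereDenseDim.exists_open_subset_closure_of_forall_scheme hzmax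
  have hOz : O = {z} := by
    apply Set.Subset.antisymm
    · intro w hw
      have := hOcl hw
      rwa [(hcl z).closure_eq] at this
    · intro w hw
      rw [Set.mem_singleton_iff.mp hw]; exact hzO
  exact hOz ▸ hO1

theorem main (R : Type u) [CommRing R] [IsDedekindDomain R] {X : Scheme.{u}}
    (f : X ⟶ Spec (CommRingCat.of R)) [Flat f] [LocallyOfFiniteType f]
    [LocallyQuasiFinite (pullback.snd f (Neron.genPt R))] : LocallyQuasiFinite f := by
  obtain ⟨pt⟩ : Nonempty ↥(Spec (CommRingCat.of (FractionRing R))) := inferInstance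
  have hsub : ∀ a : ↥(Spec (CommRingCat.of (FractionRing R))), a = pt := fun a =>
    Subsingleton.elim _ _
  obtain ⟨gp, hgp⟩ : ∃ gp, gp = (Neron.genPt R).base pt := ⟨_, rfl⟩
  have hrange : Set.range (Neron.genPt R).base = {gp} := by
    ext s
    constructor
    · rintro ⟨a, rfl⟩
      rw [hsub a, ← hgp]; rfl
    · intro h
      exact ⟨pt, by rw [Set.mem_singleton_iff.mp h, hgp]⟩
  -- `gp` is the generic point
  have hgpgen : ∀ s : ↥(Spec (CommRingCat.of R)), gp ⤳ s := by
    intro s
    refine (PrimeSpectrum.le_iff_specializes (R := R) gp s).mp ?_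
    intro r hr
    rw [hgp] at hr
    have hr' : algebraMap R (FractionRing R) r ∈ pt.asIdeal := hr
    haveI := pt.isPrime
    have hpt : pt.asIdeal = ⊥ := Ideal.eq_bot_of_prime _
    rw [hpt, Ideal.mem_bot] at hr'
    have h0 : r = 0 := (IsFractionRing.injective R (FractionRing R)) (by rw [hr', map_zero])
    rw [h0]; exact zero_mem _
  -- the fibre over `gp` is discrete
  have hdiscgp : _root_.IsDiscrete (f ⁻¹' {gp}) := by
    haveI : IsPreimmersion (Neron.genPt R) :=
      IsPreimmersion.of_isLocalization (nonZeroDivisors R)
    haveI : IsPreimmersion (pullback.fst f (Neron.genPt R)) :=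
      MorphismProperty.pullback_fst (P := @IsPreimmersion) f (Neron.genPt R) inferInstance
    have h1 : _root_.IsDiscrete (Set.univ : Set ↥(pullback f (Neron.genPt R))) := by
      have h := (pullback.snd f (Neron.genPt R)).isDiscrete_preimage_singleton pt
      have hu : (pullback.snd f (Neron.genPt R)) ⁻¹' {pt} = Set.univ :=
        Set.eq_univ_of_forall fun a => hsub _
      rwa [hu] at h
    have h2 := h1.image (pullback.fst f (Neron.genPt R)).isEmbedding.toIsInducing
    rw [Set.image_univ, Scheme.Pullback.range_fst, hrange] at h2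
    exact h2
  -- residue field extensions over `gp` are algebraic
  have hB : ∀ x : X, f.base x = gp →
      @Algebra.trdeg ((Spec (CommRingCat.of R)).residueField (f.base x)) (X.residueField x) _ _
        (f.residueFieldMap x).hom.toAlgebra = 0 := by
    intro x hx
    have hd : _root_.IsDiscrete (f ⁻¹' {f.base x}) := by rw [hx]; exact hdiscgp
    haveI : DiscreteTopology ↥(f ⁻¹' {f.base x}) := isDiscrete_iff_discreteTopology.mp hd
    haveI : DiscreteTopology (f.fiber (f.base x)) :=
      (f.fiberHomeo (f.base x)).symm.discreteTopology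
    have h0 := Groth.Agent.H54.tdeg_eq_zero_of_isClosed
      (Groth.Agent.H54.fiberQ f (f.base x)) (f.asFiber x) (isClosed_discrete _)
    have h1 := Groth.Agent.H54.trdeg_fiber_eq f (f.base x) (f.asFiber x)
    rw [h0] at h1
    have h2 := (Groth.Agent.H9.DimFormulaEq.trdeg_congr_point f (f.fiberι_asFiber x)).symm.trans h1
    exact h2.trans Nat.cast_zero
  -- maximal points lie over `gp`
  have hmaxgp : ∀ ξ : X, (∀ ξ' : X, ξ' ⤳ ξ → ξ' = ξ) → f.base ξ = gp := by
    intro ξ hξ
    obtain ⟨ξ', hξ'ξ, hfξ'⟩ := Flat.generalizingMap f (hgpgen (f.base ξ))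
    rw [hξ ξ' hξ'ξ] at hfξ'
    exact hfξ'
  -- all residue field extensions are algebraic
  have hC : ∀ x : X,
      @Algebra.trdeg ((Spec (CommRingCat.of R)).residueField (f.base x)) (X.residueField x) _ _
        (f.residueFieldMap x).hom.toAlgebra = 0 := by
    intro x
    by_cases hx : f.base x = gp
    · exact hB x hx
    · have hn0 := Groth.Agent.H54.trdeg_fiber_eq f (f.base x) (f.asFiber x)
      have hn := (Groth.Agent.H9.DimFormulaEq.trdeg_congr_point f (f.fiberι_asFiber x)).symm.trans hn0
      have hE : ∀ ξ : X, closure {ξ} ∈ irreducibleComponents ↥X → ξ ⤳ x →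
          @Algebra.trdeg ((Spec (CommRingCat.of R)).residueField (f.base ξ)) (X.residueField ξ) _ _
            (f.residueFieldMap ξ).hom.toAlgebra ≤ ((0 : ℕ) : Cardinal.{u}) := by
        intro ξ hξ _
        have hξmax : ∀ ξ' : X, ξ' ⤳ ξ → ξ' = ξ := fun ξ' h =>
          Groth.Agent.H54.eq_of_specializes_generic hξ h
        exact le_of_eq ((hB ξ (hmaxgp ξ hξmax)).trans Nat.cast_zero.symm)
      have hineq := Groth.Agent.S9687.result f x
        (Groth.Agent.H54.tdeg (Groth.Agent.H54.fiberQ f (f.base x)) (f.asFiber x)) 0 hn hE
      obtain ⟨ξ, hξx, hξmax⟩ := Groth.Agent.H71.DimFun.exists_generic_specializes X x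
      have hne : x ≠ ξ := fun h => hx (h ▸ hmaxgp ξ hξmax)
      have h1 : (1 : WithBot ℕ∞) ≤ ringKrullDim (X.presheaf.stalk x) :=
        Groth.Agent.H95.StalkPrimes.one_le_dim_of_specializes_ne hξx hne
      have ht0 : Groth.Agent.H54.tdeg (Groth.Agent.H54.fiberQ f (f.base x)) (f.asFiber x) = 0 := by
        by_contra hne0
        have ht1 : (1 : WithBot ℕ∞) ≤
            ((Groth.Agent.H54.tdeg (Groth.Agent.H54.fiberQ f (f.base x)) (f.asFiber x) : ℕ) :
              WithBot ℕ∞) := by
          exact_mod_cast Nat.one_le_iff_ne_zero.mpr hne0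
        have h2 : (2 : WithBot ℕ∞) ≤
            ringKrullDim ((Spec (CommRingCat.of R)).presheaf.stalk (f.base x)) := by
          rw [← one_add_one_eq_two]
          have h3 := (add_le_add h1 ht1).trans hineq
          simpa using h3
        have h5 : (2 : ℕ∞) ≤ 1 :=
          WithBot.coe_le_coe.mp (h2.trans (ringKrullDim_stalk_le_one R (f.base x)))
        exact absurd h5 (by norm_num)
      rw [ht0] at hn
      exact hn.trans Nat.cast_zero
  -- conclusion
  rw [locallyQuasiFinite_iff_isDiscrete_preimage_singleton]
  intro s
  haveI : IsLocallyNoetherian (f.fiber s) :=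
    LocallyOfFiniteType.isLocallyNoetherian (Groth.Agent.H54.fiberQ f s)
  have hcl : ∀ z : f.fiber s, IsClosed ({z} : Set (f.fiber s)) := by
    intro z
    apply Groth.Agent.H54.isClosed_of_tdeg_eq_zero (Groth.Agent.H54.fiberQ f s) z
    have h1 := Groth.Agent.H54.trdeg_fiber_eq f s z
    rw [hC (f.fiberι s z)] at h1
    exact_mod_cast h1.symm
  haveI hdisc : DiscreteTopology (f.fiber s) := discrete_of_forall_isClosed hcl
  have h3 := (isDiscrete_univ_iff.mpr hdisc).image (f.fiberι s).isEmbedding.toIsInducing
  simpa [Scheme.Hom.range_fiberι] using h3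

end Helpers


/-- Let R be a Dedekind domain with fraction field K and H a Spec R-scheme which is flat and locally of
finite type over Spec R. If the generic fibre H_K is locally quasi-finite over K, then H is locally
quasi-finite over Spec R. (The published statement is about the schematic closure, in an S-group
algebraic space of finite type over a connected Dedekind scheme S, of a finite subgroup of the
generic fibre, which it asserts to be a quasi-finite S-group; this row is the statement about flat
schemes locally of finite type over an affine Dedekind base on which that rests. Locally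
quasi-finite is meant here without a finite type clause, which is assumed separately.) -/
theorem result (R : Type u) [CommRing R]
    [IsDedekindDomain R] (H : Over (Spec (CommRingCat.of R))) [Flat H.hom] [LocallyOfFiniteType H.hom]
    [LocallyQuasiFinite ((Neron.genericFibre R).obj H).hom] : LocallyQuasiFinite H.hom := by
  haveI : LocallyQuasiFinite (pullback.snd H.hom (Neron.genPt R)) :=
    ‹LocallyQuasiFinite ((Neron.genericFibre R).obj H).hom›
  exact main R H.hom

end Groth.Agent.S18485
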