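import Groth.Statements.S18486
import Groth.Agent.H40.NeronFormal3
import Groth.Agent.S0079
import Groth.Agent.S0081
import Mathlib.AlgebraicGeometry.Morphisms.LocalFlatDescent

set_option autoImplicit false
universe u
open CategoryTheory CategoryTheory.Limits AlgebraicGeometry MonObj
open Neron

namespace Groth.Agent.S18486

/-- Let R be a Dedekind domain with fraction field K, X a group scheme over Spec R which is a Néron
model of its generic fibre, and P a Spec R-scheme with an action of X making it an X-torsor for the
fppf topology (a pseudo-torsor which acquires sections on the members of some fppf covering family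
of Spec R). Then P is smooth, separated and of finite type over Spec R and has the Néron mapping
property: for every smooth Spec R-scheme Y restriction to generic fibres is a bijection from
R-morphisms Y → P onto K-morphisms Y_K → P_K; that is, P is a Néron model of P_K. (The source treats
Néron lft models, torsors that are algebraic spaces and the mapping property towards smooth
algebraic spaces; the case of a Néron model of finite type and a torsor which is a scheme is
stated.) -/
theorem result (R : Type u) [CommRing R] [IsDedekindDomain R]
    (X : Over (Spec (CommRingCat.of R))) [GrpObj X] (hX : Neron.IsNeronModelOf R X ((Neron.genericFibre R).obj X) (Iso.refl _))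
    (P : NonAbH1.TorsorSch X Scheme.fppfPrecoverage) :
    Neron.IsNeronModelOf R P.X ((Neron.genericFibre R).obj P.X) (Iso.refl _) := by
  open Groth.Agent.H40.FpqcFam Groth.Agent.H40.NeronFormal in
  obtain ⟨hsm, hsep, hlft, hqc, hnmp⟩ := hX
  have hq : NonAbH1.IsTorsorFor Scheme.fpqcPrecoverage P.act := by
    obtain ⟨hps, R', hR', hsec⟩ := P.isTorsor
    exact ⟨hps, R', Scheme.fppfPrecoverage_le_fpqcPrecoverage _ hR', hsec⟩
  have hsurj : Surjective X.hom := surjective_grp X
  have h1 : Surjective P.X.hom :=
    transfer (@Surjective : MorphismProperty Scheme.{u}) inferInstance hq hsurj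
  have h2 : Smooth P.X.hom :=
    transfer (@Smooth : MorphismProperty Scheme.{u}) inferInstance hq hsm
  have h3 : IsSeparated P.X.hom :=
    transfer (@IsSeparated : MorphismProperty Scheme.{u}) Groth.Agent.S0081.result hq hsep
  have h4 : LocallyOfFiniteType P.X.hom :=
    transfer (@LocallyOfFiniteType : MorphismProperty Scheme.{u}) inferInstance hq hlft
  have h5 : QuasiCompact P.X.hom :=
    transfer (@QuasiCompact : MorphismProperty Scheme.{u}) Groth.Agent.S0079.result hq hqc
  refine ⟨h2, h3, h4, h5, ?_⟩
  have hG : NMP (Neron.genericFibre R) X := by
    intro Z hZ
    have := hnmp Z hZ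
    simpa only [Iso.refl_hom, Category.comp_id] using this
  have hN := (NMP_torsor_iff (Neron.genPt R) X P.X P.act hq.1).1 hG
  intro Y hY
  have := hN Y hY
  simpa only [Iso.refl_hom, Category.comp_id] using this
end Groth.Agent.S18486
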