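import Groth.Statements.S18487
import Mathlib
import Groth.Agent.H40.FpqcFam
import Groth.Agent.S0086
import Groth.Agent.H54.CodimOne

set_option autoImplicit false
universe u
open CategoryTheory CategoryTheory.Limits AlgebraicGeometry MonObj
open NonAbH1

namespace Groth.Agent.S18487


section Helpers
open AlgebraicGeometry CategoryTheory CategoryTheory.Limits TopologicalSpace Topology IsLocalRing
open Groth.Agent.H54

/-- Variant of `H54.exists_extension_codim_one`: if all local rings of `Y` are valuation rings, a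
rational map from `Y` to a proper `S`-scheme defined on a dense open extends to all of `Y`. -/
theorem exists_extension_val {S X Y : Scheme.{u}} (p : X ⟶ S) [IsProper p] (q : Y ⟶ S)
    [IsLocallyNoetherian Y] [IsReduced Y] [Nonempty Y]
    (hval : ∀ y : Y, ∃ hdom : IsDomain (Y.presheaf.stalk y),
      @ValuationRing (Y.presheaf.stalk y) _ hdom)
    (V : Y.Opens) (hV : Dense (V : Set Y)) (g : (V : Scheme.{u}) ⟶ X) (hg : g ≫ p = V.ι ≫ q) :
    ∃ g' : Y ⟶ X, g' ≫ p = q ∧ V.ι ≫ g' = g := by
  classical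
  have hext : ∀ d : Y, ∃ (U' : Y.Opens) (hUU' : V ≤ U'), d ∈ U' ∧
      ∃ f' : (U' : Scheme.{u}) ⟶ X, f' ≫ p = U'.ι ≫ q ∧ Y.homOfLE hUU' ≫ f' = g := by
    intro d
    obtain ⟨hdom, hv⟩ := hval d
    exact exists_extension_of_valuationRing_stalk q p d V g hg (hV d) hdom hv
  choose U' hVU' hdU' f' hf'p hf'g using hext
  obtain ⟨d₀⟩ := (inferInstance : Nonempty Y)
  have hcompat : ∀ i j, Y.homOfLE (inf_le_left : U' i ⊓ U' j ≤ U' i) ≫ f' i =
      Y.homOfLE (inf_le_right : U' i ⊓ U' j ≤ U' j) ≫ f' j := by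
    intro i j
    haveI : IsDominant (Y.homOfLE (le_inf (hVU' i) (hVU' j))) :=
      Opens.isDominant_homOfLE hV _
    refine ext_of_isDominant_of_isSeparated p ?_ (Y.homOfLE (le_inf (hVU' i) (hVU' j))) ?_
    · rw [Category.assoc, hf'p, ← Category.assoc, Y.homOfLE_ι, Category.assoc, hf'p,
        ← Category.assoc, Y.homOfLE_ι]
    · rw [← Category.assoc, Y.homOfLE_homOfLE, hf'g, ← Category.assoc, Y.homOfLE_homOfLE, hf'g]
  obtain ⟨G, hG⟩ := glue_family U' f' hcompat
  have hGp : G ≫ p = (⨆ d, U' d : Y.Opens).ι ≫ q := by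
    refine Scheme.Cover.hom_ext (Scheme.Opens.iSupOpenCover U') _ _ fun d => ?_
    show Y.homOfLE (le_iSup U' d) ≫ G ≫ p = Y.homOfLE (le_iSup U' d) ≫ _ ≫ q
    rw [← Category.assoc, hG d, ← Category.assoc, Y.homOfLE_ι]
    exact hf'p d
  have hGg : Y.homOfLE ((hVU' d₀).trans (le_iSup U' d₀)) ≫ G = g := by
    rw [← Y.homOfLE_homOfLE (hVU' d₀) (le_iSup U' d₀), Category.assoc, hG d₀, hf'g d₀]
  have htop : (⨆ d, U' d : Y.Opens) = ⊤ :=
    eq_top_iff.mpr (fun y _ => TopologicalSpace.Opens.mem_iSup.mpr ⟨y, hdU' y⟩)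
  haveI : IsIso (⨆ d, U' d : Y.Opens).ι := by rw [htop, ← Scheme.topIso_hom]; infer_instance
  refine ⟨inv (⨆ d, U' d : Y.Opens).ι ≫ G, ?_, ?_⟩
  · rw [Category.assoc, hGp, IsIso.inv_hom_id_assoc]
  · rw [← Y.homOfLE_ι ((hVU' d₀).trans (le_iSup U' d₀)), Category.assoc,
      IsIso.hom_inv_id_assoc, hGg]

theorem fromSpecStalk_Spec (A : CommRingCat.{u}) (x : Spec A) :
    (Spec A).fromSpecStalk x =
      Spec.map ((Scheme.ΓSpecIso A).inv ≫ (Spec A).presheaf.germ ⊤ x trivial) := by
  have h := Scheme.fromSpecStalk_toSpecΓ (Spec A) x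
  rw [← SpecMap_ΓSpecIso_hom] at h
  calc (Spec A).fromSpecStalk x
      = ((Spec A).fromSpecStalk x ≫ Spec.map (Scheme.ΓSpecIso A).hom) ≫
          Spec.map (Scheme.ΓSpecIso A).inv := by
        rw [Category.assoc, ← Spec.map_comp, Iso.inv_hom_id, Spec.map_id, Category.comp_id]
    _ = Spec.map ((Scheme.ΓSpecIso A).inv ≫ (Spec A).presheaf.germ ⊤ x trivial) := by
        rw [h, ← Spec.map_comp]

theorem main (R : Type u) [CommRing R] [IsDedekindDomain R] {Pl : Scheme.{u}}
    (π : Pl ⟶ Spec (CommRingCat.of R)) [IsProper π]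
    (s₀ : Spec (CommRingCat.of (FractionRing R)) ⟶ Pl) (hs₀ : s₀ ≫ π = Neron.genPt R) :
    ∃ s : Spec (CommRingCat.of R) ⟶ Pl, s ≫ π = 𝟙 _ := by
  haveI : IsIntegral (Spec (CommRingCat.of R)) := inferInstance
  haveI : IsLocallyNoetherian (Spec (CommRingCat.of R)) := inferInstance
  obtain ⟨gam, hgam⟩ : ∃ gam : CommRingCat.of R ⟶ (Spec (CommRingCat.of R)).presheaf.stalk (genericPoint (Spec (CommRingCat.of R))),
      gam = (Scheme.ΓSpecIso (CommRingCat.of R)).inv ≫
        (Spec (CommRingCat.of R)).presheaf.germ ⊤ (genericPoint (Spec (CommRingCat.of R))) trivial := ⟨_, rfl⟩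
  have hgaminj : Function.Injective gam.hom := by
    intro a b hab
    rw [hgam] at hab
    have h1 : (Scheme.ΓSpecIso (CommRingCat.of R)).inv a =
        (Scheme.ΓSpecIso (CommRingCat.of R)).inv b :=
      germ_injective_of_isIntegral (Spec (CommRingCat.of R)) (genericPoint (Spec (CommRingCat.of R)))
        (show genericPoint (Spec (CommRingCat.of R)) ∈ (⊤ : (Spec (CommRingCat.of R)).Opens) from trivial) hab
    have h2 := congrArg (Scheme.ΓSpecIso (CommRingCat.of R)).hom h1
    rw [← CommRingCat.comp_apply, ← CommRingCat.comp_apply, Iso.inv_hom_id,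
      CommRingCat.id_apply, CommRingCat.id_apply] at h2
    exact h2
  obtain ⟨e, he⟩ : ∃ e : CommRingCat.of (FractionRing R) ⟶ (Spec (CommRingCat.of R)).presheaf.stalk (genericPoint (Spec (CommRingCat.of R))),
      ∀ r : R, e.hom (algebraMap R (FractionRing R) r) = gam.hom r :=
    ⟨CommRingCat.ofHom (IsFractionRing.lift (K := FractionRing R) (L := (Spec (CommRingCat.of R)).functionField) hgaminj),
      fun r => IsFractionRing.lift_algebraMap hgaminj r⟩
  have hcomp : CommRingCat.ofHom (algebraMap R (FractionRing R)) ≫ e = gam := by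
    ext r
    exact he r
  obtain ⟨φ, hφdef⟩ : ∃ φ : Spec ((Spec (CommRingCat.of R)).presheaf.stalk (genericPoint (Spec (CommRingCat.of R)))) ⟶ Pl,
      φ = Spec.map e ≫ s₀ := ⟨_, rfl⟩
  have hφ : φ ≫ π = (Spec (CommRingCat.of R)).fromSpecStalk (genericPoint (Spec (CommRingCat.of R))) ≫ 𝟙 (Spec (CommRingCat.of R)) := by
    rw [hφdef, Category.assoc, hs₀, Category.comp_id, fromSpecStalk_Spec, ← hgam, ← hcomp,
      Spec.map_comp]
  obtain ⟨U, hηU, f, -, hf⟩ := spread_out_of_isGermInjective' (𝟙 (Spec (CommRingCat.of R))) π φ hφ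
  have hUd : Dense (U : Set (Spec (CommRingCat.of R))) := U.isOpen.dense ⟨_, hηU⟩
  have hval : ∀ y : (Spec (CommRingCat.of R)), ∃ hdom : IsDomain ((Spec (CommRingCat.of R)).presheaf.stalk y),
      @ValuationRing ((Spec (CommRingCat.of R)).presheaf.stalk y) _ hdom := by
    intro y
    have hdom : IsDomain ((Spec (CommRingCat.of R)).presheaf.stalk y) := inferInstance
    refine ⟨hdom, ?_⟩
    letI : Algebra R ((Spec (CommRingCat.of R)).presheaf.stalk y) := StructureSheaf.stalkAlgebra R y
    haveI : IsLocalization.AtPrime ((Spec (CommRingCat.of R)).presheaf.stalk y) (PrimeSpectrum.asIdeal y) :=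
      StructureSheaf.IsLocalization.to_stalk R y
    haveI hded : IsDedekindDomain ((Spec (CommRingCat.of R)).presheaf.stalk y) :=
      IsLocalization.isDedekindDomain (A := R) (M := (PrimeSpectrum.asIdeal y).primeCompl)
        (Ideal.primeCompl_le_nonZeroDivisors _) ((Spec (CommRingCat.of R)).presheaf.stalk y)
    have h21 : IsDedekindDomain ((Spec (CommRingCat.of R)).presheaf.stalk y) ↔ ValuationRing ((Spec (CommRingCat.of R)).presheaf.stalk y) :=
      (tfae_of_isNoetherianRing_of_isLocalRing_of_isDomain ((Spec (CommRingCat.of R)).presheaf.stalk y)).out 2 1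
    exact h21.mp hded
  haveI : Nonempty (Spec (CommRingCat.of R)) := ⟨genericPoint (Spec (CommRingCat.of R))⟩
  obtain ⟨g', hg', -⟩ := exists_extension_val π (𝟙 (Spec (CommRingCat.of R))) hval U hUd f hf
  exact ⟨g', hg'⟩

end Helpers


/-- Let R be a Dedekind domain with fraction field K, G a proper flat group scheme over Spec R, and P a
Spec R-scheme with an action of G making it a G-torsor for the fppf topology (a pseudo-torsor
acquiring sections on the members of an fppf covering family). If P acquires a section over the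
generic point Spec K → Spec R, then P has a section over Spec R: a generically trivial torsor is
trivial. (The source allows any connected Dedekind scheme as base and torsors that are fppf sheaves,
shown there to be schemes; the affine base and scheme torsors are stated.) -/
theorem result (R : Type u) [CommRing R] [IsDedekindDomain R]
    (G : Over (Spec (CommRingCat.of R))) [GrpObj G] [IsProper G.hom] [Flat G.hom]
    (P : NonAbH1.TorsorSch G Scheme.fppfPrecoverage) (h : NonAbH1.HasSectionOver P.X (Neron.genPt R)) :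
    NonAbH1.HasSectionOver P.X (𝟙 (Spec (CommRingCat.of R))) := by
  obtain ⟨hps, C, hC, hsec⟩ := P.isTorsor
  haveI : IsProper P.X.hom := Groth.Agent.H40.FpqcFam.transfer (a := P.act) @IsProper
    Groth.Agent.S0086.result ⟨hps, C, Scheme.fppfPrecoverage_le_fpqcPrecoverage _ hC, hsec⟩
    inferInstance
  obtain ⟨s₀, hs₀⟩ := h
  obtain ⟨s, hs⟩ := main R P.X.hom s₀ hs₀
  exact ⟨s, hs⟩
end Groth.Agent.S18487
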