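import Groth.Statements.S18490
-- import your own Groth.Agent.* helpers here

set_option autoImplicit false
universe u
open CategoryTheory CategoryTheory.Limits AlgebraicGeometry
open FlatMor

namespace Groth.Agent.S18490

theorem ring_flat_of_retract {R A B : Type*} [CommRing R] [CommRing A] [CommRing B]
    (φ : R →+* A) (ρ : A →+* B) (σ : B →+* A) (hσρ : σ.comp ρ = RingHom.id A)
    (hflat : (ρ.comp φ).Flat) : φ.Flat := by
  let _ := φ.toAlgebra
  let _ := (ρ.comp φ).toAlgebra
  have hB : Module.Flat R B := hflat
  let i : A →ₗ[R] B :=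
    { toFun := ρ
      map_add' := map_add ρ
      map_smul' := by
        intro c a
        simp only [Algebra.smul_def, RingHom.id_apply, map_mul]
        rfl }
  let r : B →ₗ[R] A :=
    { toFun := σ
      map_add' := map_add σ
      map_smul' := by
        intro c b
        simp only [Algebra.smul_def, RingHom.id_apply, map_mul]
        congr 1
        change σ (ρ (φ c)) = φ c
        exact congrArg (fun g : A →+* A => g (φ c)) hσρ }
  have hri : r.comp i = LinearMap.id := by
    ext a
    exact congrArg (fun g : A →+* A => g a) hσρ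
  exact Module.Flat.of_retract i r hri

theorem flat_of_section {X Z S : Scheme.{u}} (s : X ⟶ Z) (r : Z ⟶ X) (f : X ⟶ S)
    (hsr : s ≫ r = 𝟙 X) [Flat (r ≫ f)] : Flat f := by
  rw [Flat.iff_flat_stalkMap]
  intro x
  have hx : r (s x) = x := by
    have := congrArg (fun g : X ⟶ X => g x) hsr
    simpa using this
  have key : (f.stalkMap (r (s x))).hom.Flat := by
    have he : IsIso (r.stalkMap (s x) ≫ s.stalkMap x) := by
      rw [← Scheme.Hom.stalkMap_comp, Scheme.Hom.stalkMap_congr_hom (s ≫ r) (𝟙 X) hsr x]
      have h1 : IsIso ((𝟙 X : X ⟶ X).stalkMap x) := inferInstance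
      exact IsIso.comp_isIso
    have hflat : ((r ≫ f).stalkMap (s x)).hom.Flat := Flat.stalkMap (r ≫ f) (s x)
    rw [Scheme.Hom.stalkMap_comp] at hflat
    refine ring_flat_of_retract (f.stalkMap (r (s x))).hom (r.stalkMap (s x)).hom
      (s.stalkMap x ≫ inv (r.stalkMap (s x) ≫ s.stalkMap x)).hom ?_ hflat
    have : r.stalkMap (s x) ≫ (s.stalkMap x ≫ inv (r.stalkMap (s x) ≫ s.stalkMap x)) = 𝟙 _ := by
      rw [← Category.assoc, IsIso.hom_inv_id]
    have h2 := congrArg CommRingCat.Hom.hom this
    simpa using h2
  rw [hx] at key
  exact key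


/-- Let f : X → S and g : Y → S be morphisms of schemes and suppose that g has a section y : S → Y. If
the structure morphism X ×_S Y → S (first projection followed by f) is quasi-compact, then so is f;
likewise for locally of finite type, for separated, and for flat. (Finite type, also listed in the
source, is the conjunction of the first two.) -/
theorem result {X Y S : Scheme.{u}} (f : X ⟶ S) (g : Y ⟶ S)
    (y : S ⟶ Y) (hy : y ≫ g = 𝟙 S) :
    (QuasiCompact (pullback.fst f g ≫ f) → QuasiCompact f) ∧
    (LocallyOfFiniteType (pullback.fst f g ≫ f) → LocallyOfFiniteType f) ∧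
    (IsSeparated (pullback.fst f g ≫ f) → IsSeparated f) ∧
    (Flat (pullback.fst f g ≫ f) → Flat f) := by
  have hw : 𝟙 X ≫ f = (f ≫ y) ≫ g := by
    rw [Category.id_comp, Category.assoc, hy, Category.comp_id]
  let s : X ⟶ pullback f g := pullback.lift (𝟙 X) (f ≫ y) hw
  have hs : s ≫ pullback.fst f g = 𝟙 X := pullback.lift_fst _ _ _
  have hf : f = s ≫ (pullback.fst f g ≫ f) := by
    rw [← Category.assoc, hs, Category.id_comp]
  refine ⟨?_, ?_, ?_, ?_⟩
  · intro h
    rw [quasiCompact_iff_forall_isAffineOpen] at h ⊢
    intro U hU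
    have hc := h U hU
    have hsurj : Function.Surjective (pullback.fst f g) := by
      intro x
      exact ⟨s x, by
        have := congrArg (fun k : X ⟶ X => k x) hs
        simpa using this⟩
    have himg : ((f ⁻¹ᵁ U : X.Opens) : Set X) =
        (pullback.fst f g) '' (((pullback.fst f g ≫ f) ⁻¹ᵁ U : (pullback f g).Opens) : Set _) := by
      ext x
      constructor
      · intro hx
        obtain ⟨z, rfl⟩ := hsurj x
        exact ⟨z, by simpa using hx, rfl⟩
      · rintro ⟨z, hz, rfl⟩
        simpa using hz
    rw [himg]
    exact hc.image (pullback.fst f g).continuous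
  · intro h
    have h1 : LocallyOfFiniteType (s ≫ pullback.fst f g) := by rw [hs]; infer_instance
    have h2 : LocallyOfFiniteType s := locallyOfFiniteType_of_comp s (pullback.fst f g)
    rw [hf]
    infer_instance
  · intro h
    have h1 : IsSeparated (s ≫ pullback.fst f g) := by rw [hs]; infer_instance
    have h2 : IsSeparated s := IsSeparated.of_comp s (pullback.fst f g)
    rw [hf]
    infer_instance
  · intro h
    exact flat_of_section s (pullback.fst f g) f hs

end Groth.Agent.S18490
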