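import Groth.Statements.S1850
import Groth.Agent.H87.TameFlatMain
import Groth.Agent.H87.TameFlatT3

set_option autoImplicit false
universe u
open CycAlg

namespace Groth.Agent.S1850

/-- Let A → A' be a flat local homomorphism of Noetherian local rings of dimension 1 and m =
length_{A'}(A'/𝔪_A A'). For nonzerodivisors a₁, a₂ of A the image of ∂_A(a₁, a₂)^m in the residue
field of A' equals ∂_{A'}(a₁, a₂). -/
theorem result (A A' : Type u) [CommRing A] [CommRing A'] [IsNoetherianRing A] [IsNoetherianRing A'] [IsLocalRing A] [IsLocalRing A'] [Algebra A A'] [IsLocalHom (algebraMap A A')] [Module.Flat A A'] (hA : ringKrullDim A = 1) (hA' : ringKrullDim A' = 1) (a₁ a₂ : A) (h₁ : a₁ ∈ nonZeroDivisors A) (h₂ : a₂ ∈ nonZeroDivisors A) : IsLocalRing.ResidueField.map (algebraMap A A') (CycAlg.tameSymbol A a₁ a₂) ^ (Module.length A' (A' ⧸ Ideal.map (algebraMap A A') (IsLocalRing.maximalIdeal A))).toNat = CycAlg.tameSymbol A' (algebraMap A A' a₁) (algebraMap A A' a₂) := by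
  classical
  haveI : Ring.KrullDimLE 1 A := Ring.krullDimLE_iff.mpr (by rw [hA, Nat.cast_one])
  have hk := Groth.Agent.H87.TameFlatT3.exists_pow_le_map_of_dim_one A A' hA hA'
  obtain ⟨E, hE, hmono⟩ := Groth.Agent.H34.TameLaws.exists_mono hA [a₁, a₂] (by
    intro c hc
    simp only [List.mem_cons, List.not_mem_nil, or_false] at hc
    rcases hc with rfl | rfl
    · exact h₁
    · exact h₂)
  have hD : Nonempty (CycAlg.TameData A a₁ a₂) :=
    ⟨Groth.Agent.H34.TameRef.mkTame (nonZeroDivisors A) le_rfl E hE _ hmono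
      (by simp) (by simp)⟩
  obtain ⟨D⟩ := hD
  have hnzd : ∀ a : A, a ∈ nonZeroDivisors A → algebraMap A A' a ∈ nonZeroDivisors A' := by
    intro a ha
    have hreg : IsSMulRegular A' a :=
      Module.Flat.isSMulRegular_of_nonZeroDivisors (M := A') ha
    rw [mem_nonZeroDivisors_iff_right]
    intro y hy
    apply hreg
    show a • y = a • (0 : A')
    rw [smul_zero, Algebra.smul_def, mul_comm]
    exact hy
  rw [Groth.Agent.H34.TameLaws.tameSymbol_eq hA h₁ h₂ D,
    Groth.Agent.H34.TameLaws.tameSymbol_eq hA' (hnzd a₁ h₁) (hnzd a₂ h₂)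
      (Groth.Agent.H87.TameFlat.bc A' D hk),
    Groth.Agent.H87.TameFlat.value_bc A' D hk]

end Groth.Agent.S1850
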