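import Groth.Statements.S18502
import Groth.Agent.H40.PrincBundle4

set_option autoImplicit false
universe u
open CategoryTheory MonoidalCategory CartesianMonoidalCategory MonObj GrpObj AlgebraicGeometry Topology
open EqInt

namespace Groth.Agent.S18502

/-- Over a field k, let an affine group scheme G of finite type act on X, let X and Y be separated and
of finite type over k, and let φ : X → Y be G-invariant, flat and surjective with (σ, p₂) : G × X →
X ×_Y X an isomorphism (X is a principal G-bundle over Y). Conclusion: the pair (Y, φ) realizes Y as
a geometric quotient of X under G, and G acts freely, meaning (σ, p₂) : G × X → X × X is a closed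
immersion. (The source takes X and Y integral; integrality plays no role. A geometric quotient is
taken here with φ universally submersive.) -/
theorem result (k : Type u) [Field k]
    (G X Y : Over (Spec (CommRingCat.of k))) [GrpObj G] [IsAffine G.left] [LocallyOfFiniteType G.hom]
    [LocallyOfFiniteType X.hom] [QuasiCompact X.hom] [IsSeparated X.hom]
    [LocallyOfFiniteType Y.hom] [QuasiCompact Y.hom] [IsSeparated Y.hom]
    (a : AlgGrp.Action G X) (φ : X ⟶ Y) (hinv : GIT.IsInvariant a φ) [Flat φ.left] [Surjective φ.left]
    (hcart : IsIso (GIT.PsiY a φ hinv)) :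
    GIT.IsGeomQuot a φ ∧ IsClosedImmersion (GIT.psi a (𝟙 X)).left := by
  open Groth.Agent.H40.PrincBundle Groth.Agent.H40.FpqcFam Limits in
  have hqc : QuasiCompact φ.left := by
    have : QuasiCompact (φ.left ≫ Y.hom) := by rw [Over.w]; infer_instance
    exact QuasiCompact.of_comp φ.left Y.hom
  have hPB := IsPB.of_psiY a φ hinv hcart inferInstance φ.left.surjective hqc
  refine ⟨hPB.isGeomQuot, ?_⟩
  have hfac : (GIT.psi a (𝟙 X)).left = GIT.PsiY a φ hinv ≫ pullback.mapDesc φ.left φ.left Y.hom ≫
      (pullback.congrHom (Over.w φ) (Over.w φ)).hom := by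
    apply pullback.hom_ext
    · have h1 : (GIT.psi a (𝟙 X)).left ≫ pullback.fst X.hom X.hom = a.act.left := by
        change ((GIT.psi a (𝟙 X)) ≫ fst X X).left = _
        unfold GIT.psi
        rw [lift_fst, whiskerLeft_id, Category.id_comp]
      rw [h1]
      unfold GIT.PsiY
      simp only [pullback.mapDesc, pullback.map, pullback.congrHom_hom, Category.assoc,
        pullback.lift_fst, pullback.lift_fst_assoc, Category.comp_id]
    · have h2 : (GIT.psi a (𝟙 X)).left ≫ pullback.snd X.hom X.hom = (snd G X).left := by
        change ((GIT.psi a (𝟙 X)) ≫ snd X X).left = _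
        unfold GIT.psi
        rw [lift_snd]
      rw [h2]
      unfold GIT.PsiY
      simp only [pullback.mapDesc, pullback.map, pullback.congrHom_hom, Category.assoc,
        pullback.lift_snd, pullback.lift_snd_assoc, Category.comp_id, Over.snd_left]
  rw [hfac]
  infer_instance
end Groth.Agent.S18502
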