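import Groth.Statements.S5321
import Mathlib
import Groth.Agent.H78.UnramPoint

set_option autoImplicit false
set_option maxHeartbeats 400000
universe u
open CategoryTheory CategoryTheory.Limits MonoidalCategory CartesianMonoidalCategory MonObj GrpObj AlgebraicGeometry
open SGA3

namespace Groth.Agent.S5321

open Groth.Agent.H78.UnramPoint Groth.Agent.H49.UnramFibre

set_option backward.isDefEq.respectTransparency.types false in

/-- Consider a morphism π : X → S admitting a section ε, and assume the map of underlying spaces of π is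
closed. Fix a point s of S, and suppose that on some open neighbourhood of ε(s) the morphism π is
locally of finite presentation, and that the fibre X_s → Spec κ(s) is an isomorphism. Under these
assumptions one can find an open subset U of S containing s such that π restricts to an isomorphism
π⁻¹(U) → U (consequently ε restricted to U is an isomorphism onto π⁻¹(U)). -/
theorem result (X S : Scheme.{u}) (π : X ⟶ S) (ε : S ⟶ X) (hε : ε ≫ π = 𝟙 S)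
    (hcl : IsClosedMap π.base) (s : S)
    (hfp : ∃ W : X.Opens, ε.base s ∈ W ∧ LocallyOfFinitePresentation (W.ι ≫ π))
    (hs : IsIso (π.fiberToSpecResidueField s)) :
    ∃ U : S.Opens, s ∈ U ∧ IsIso (π ∣_ U) := by
  obtain ⟨W, hxW, hW⟩ := hfp
  haveI := hW
  have hπε : ∀ v : S, π (ε v) = v := by
    intro v
    rw [← Scheme.Hom.comp_apply, hε]
    rfl
  have Hπ : FormallyUnramified (π.fiberToSpecResidueField s) := by
    haveI := hs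
    exact formallyUnramified_of_isOpenImmersion _
  have HW : FormallyUnramified ((W.ι ≫ π).fiberToSpecResidueField s) :=
    fu_fiber_comp W.ι π s Hπ
  haveI : LocallyOfFiniteType (W.ι ≫ π) := inferInstance
  obtain ⟨U', hxU', hU'⟩ := exists_nhd_fu (W.ι ≫ π) (⟨ε s, hxW⟩ : W.toScheme) s
    (by rw [Scheme.Hom.comp_apply]; exact hπε s) HW
  obtain ⟨U, hxU, hUfu, hUft⟩ : ∃ U : X.Opens, ε s ∈ U ∧ FormallyUnramified (U.ι ≫ π) ∧
      LocallyOfFiniteType (U.ι ≫ π) := by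
    refine ⟨W.ι ''ᵁ U', ⟨⟨ε s, hxW⟩, hxU', rfl⟩, fu_image W.ι π U' hU', ?_⟩
    rw [← Scheme.Hom.isoImage_inv_ι_assoc W.ι U' π]
    infer_instance
  have hsV : s ∈ ε ⁻¹ᵁ U := hxU
  have hcomp : (ε ∣_ U) ≫ (U.ι ≫ π) = (ε ⁻¹ᵁ U).ι := by
    rw [← Category.assoc, morphismRestrict_ι, Category.assoc, hε, Category.comp_id]
  haveI : Etale ((ε ∣_ U) ≫ (U.ι ≫ π)) := by rw [hcomp]; infer_instance
  haveI : Etale (ε ∣_ U) := Etale.of_comp (ε ∣_ U) (U.ι ≫ π)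
  haveI : Mono (ε ∣_ U) := by
    haveI : Mono ((ε ∣_ U) ≫ (U.ι ≫ π)) := by rw [hcomp]; infer_instance
    exact mono_of_mono (ε ∣_ U) (U.ι ≫ π)
  haveI : IsOpenImmersion (ε ∣_ U) := IsOpenImmersion.of_flat_of_mono _
  have hg : IsOpenImmersion ((ε ⁻¹ᵁ U).ι ≫ ε) := by
    rw [← morphismRestrict_ι]; infer_instance
  have hZc : IsClosed (Set.range ((ε ⁻¹ᵁ U).ι ≫ ε))ᶜ :=
    (((ε ⁻¹ᵁ U).ι ≫ ε).isOpenEmbedding.isOpen_range).isClosed_compl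
  have hπZc : IsClosed (π '' (Set.range ((ε ⁻¹ᵁ U).ι ≫ ε))ᶜ) := hcl _ hZc
  have hsub : Subsingleton ↥(π.fiber s) := by
    haveI := hs
    exact (π.fiberToSpecResidueField s).homeomorph.subsingleton
  have hfib : ∀ x : X, π x = s → x = ε s := by
    intro x hx
    have hx1 : x ∈ Set.range (π.fiberι s) := by rw [Scheme.Hom.range_fiberι]; exact hx
    have hx2 : ε s ∈ Set.range (π.fiberι s) := by rw [Scheme.Hom.range_fiberι]; exact hπε s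
    obtain ⟨a, ha⟩ := hx1
    obtain ⟨b, hb⟩ := hx2
    rw [← ha, ← hb, Subsingleton.elim a b]
  have hs_notin : s ∉ π '' (Set.range ((ε ⁻¹ᵁ U).ι ≫ ε))ᶜ := by
    rintro ⟨x, hxZ, hx⟩
    apply hxZ
    rw [hfib x hx]
    exact ⟨⟨s, hsV⟩, rfl⟩
  obtain ⟨U₀, hU₀le, hU₀c, hsU₀⟩ : ∃ U₀ : S.Opens, U₀ ≤ ε ⁻¹ᵁ U ∧
      (∀ v ∈ U₀, v ∉ π '' (Set.range ((ε ⁻¹ᵁ U).ι ≫ ε))ᶜ) ∧ s ∈ U₀ :=
    ⟨(ε ⁻¹ᵁ U) ⊓ ⟨(π '' (Set.range ((ε ⁻¹ᵁ U).ι ≫ ε))ᶜ)ᶜ, hπZc.isOpen_compl⟩,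
      inf_le_left, fun v hv => hv.2, ⟨hsV, hs_notin⟩⟩
  have hpre : ∀ x : X, π x ∈ U₀ → ∃ v : S, v ∈ U₀ ∧ ε v = x := by
    intro x hx
    have hxZ : x ∈ Set.range ((ε ⁻¹ᵁ U).ι ≫ ε) := by
      by_contra hcon
      exact hU₀c _ hx ⟨x, hcon, rfl⟩
    obtain ⟨v, hv⟩ := hxZ
    have hv' : ε v.1 = x := hv
    have h3 : π x = v.1 := by rw [← hv', hπε]
    exact ⟨v.1, h3 ▸ hx, hv'⟩
  refine ⟨U₀, hsU₀, ?_⟩
  have hrange : Set.range (U₀.ι ≫ ε) ⊆ Set.range (π ⁻¹ᵁ U₀).ι := by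
    rintro _ ⟨v, rfl⟩
    rw [Scheme.Opens.range_ι]
    show π ((U₀.ι ≫ ε) v) ∈ U₀
    rw [Scheme.Hom.comp_apply, hπε]
    exact v.2
  have hσ : IsOpenImmersion.lift (π ⁻¹ᵁ U₀).ι (U₀.ι ≫ ε) hrange ≫ (π ⁻¹ᵁ U₀).ι = U₀.ι ≫ ε :=
    IsOpenImmersion.lift_fac _ _ _
  have hσπ : IsOpenImmersion.lift (π ⁻¹ᵁ U₀).ι (U₀.ι ≫ ε) hrange ≫ (π ∣_ U₀) = 𝟙 _ := by
    rw [← cancel_mono U₀.ι, Category.assoc, morphismRestrict_ι, ← Category.assoc, hσ,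
      Category.assoc, hε, Category.comp_id, Category.id_comp]
  have hoi : IsOpenImmersion (U₀.ι ≫ ε) := by
    have h4 : U₀.ι ≫ ε = S.homOfLE hU₀le ≫ ((ε ⁻¹ᵁ U).ι ≫ ε) := by
      rw [← Category.assoc, Scheme.homOfLE_ι]
    rw [h4]; infer_instance
  haveI : IsOpenImmersion (IsOpenImmersion.lift (π ⁻¹ᵁ U₀).ι (U₀.ι ≫ ε) hrange) := by
    haveI : IsOpenImmersion
        (IsOpenImmersion.lift (π ⁻¹ᵁ U₀).ι (U₀.ι ≫ ε) hrange ≫ (π ⁻¹ᵁ U₀).ι) := by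
      rw [hσ]; exact hoi
    exact IsOpenImmersion.of_comp _ (π ⁻¹ᵁ U₀).ι
  haveI : Surjective (IsOpenImmersion.lift (π ⁻¹ᵁ U₀).ι (U₀.ι ≫ ε) hrange) := by
    refine ⟨fun z => ?_⟩
    obtain ⟨v, hvU₀, hv⟩ := hpre ((π ⁻¹ᵁ U₀).ι z) z.2
    refine ⟨⟨v, hvU₀⟩, ?_⟩
    apply (π ⁻¹ᵁ U₀).ι.isOpenEmbedding.injective
    rw [← Scheme.Hom.comp_apply, hσ, Scheme.Hom.comp_apply]
    exact hv
  haveI : IsIso (IsOpenImmersion.lift (π ⁻¹ᵁ U₀).ι (U₀.ι ≫ ε) hrange) :=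
    (isIso_iff_isOpenImmersion_and_surjective _).mpr ⟨inferInstance, inferInstance⟩
  have hfin : π ∣_ U₀ = inv (IsOpenImmersion.lift (π ⁻¹ᵁ U₀).ι (U₀.ι ≫ ε) hrange) := by
    rw [← cancel_epi (IsOpenImmersion.lift (π ⁻¹ᵁ U₀).ι (U₀.ι ≫ ε) hrange), hσπ,
      IsIso.hom_inv_id]
  rw [hfin]
  infer_instance

end Groth.Agent.S5321
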