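import Groth.Statements.S18503
import Groth.Agent.S5321
import Groth.Agent.S7494

set_option autoImplicit false
universe u
open CategoryTheory MonoidalCategory CartesianMonoidalCategory MonObj GrpObj AlgebraicGeometry Topology
open EqInt

namespace Groth.Agent.S18503

/-- Over a field k, let an affine group scheme G of finite type act on a quasi-separated scheme X of
finite type over k. If the action is proper (the morphism (σ, p₂) : G × X → X × X is proper) and the
stabilizer of every point is trivial (for each point x of X the fibre over x of the stabilizer group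
scheme (G × X) ×_{X × X} X → X, the pullback of (σ, p₂) along the diagonal, is Spec κ(x) through its
structure map), then the action is free: (σ, p₂) is a closed immersion. (Stated for X a scheme; the
source allows an algebraic space.) -/
theorem result (k : Type u) [Field k]
    (G X : Over (Spec (CommRingCat.of k))) [GrpObj G] [IsAffine G.left] [LocallyOfFiniteType G.hom]
    [LocallyOfFiniteType X.hom] [QuasiCompact X.hom] [QuasiSeparated X.hom]
    (a : AlgGrp.Action G X) (hp : IsProper (GIT.psi a (𝟙 X)).left)
    (htriv : ∀ x : ↥X.left, IsIso ((Limits.pullback.snd (GIT.psi a (𝟙 X)).left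
      (CartesianMonoidalCategory.lift (𝟙 X) (𝟙 X)).left).fiberToSpecResidueField x)) :
    IsClosedImmersion (GIT.psi a (𝟙 X)).left := by
  have hpsi : GIT.psi a (𝟙 X) = lift a.act (snd G X) := by
    unfold GIT.psi
    rw [MonoidalCategory.whiskerLeft_id, Category.id_comp]
  rw [hpsi] at hp htriv ⊢
  set Ψ : G ⊗ X ⟶ X ⊗ X := lift a.act (snd G X) with hΨ
  set Δ : X ⟶ X ⊗ X := lift (𝟙 X) (𝟙 X) with hΔ
  -- the unit section
  let e : X ⟶ G ⊗ X := lift (1 : X ⟶ G) (𝟙 X)
  have heΨ : e ≫ Ψ = Δ := by
    apply CartesianMonoidalCategory.hom_ext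
    · rw [Category.assoc, lift_fst, lift_fst, Groth.Agent.H37.act_one a.act a.one_act]
    · rw [Category.assoc, lift_snd, lift_snd, lift_snd]
  have heΨ' : e.left ≫ Ψ.left = 𝟙 X.left ≫ Δ.left := by
    rw [Category.id_comp, ← Over.comp_left, heΨ]
  let π := Limits.pullback.snd Ψ.left Δ.left
  let ε : X.left ⟶ Limits.pullback Ψ.left Δ.left := Limits.pullback.lift e.left (𝟙 X.left) heΨ'
  have hε : ε ≫ π = 𝟙 X.left := Limits.pullback.lift_snd _ _ _
  haveI : IsProper π := MorphismProperty.of_isPullback (P := @IsProper)
    (IsPullback.of_hasPullback Ψ.left Δ.left) hp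
  haveI : IsLocallyNoetherian X.left := LocallyOfFiniteType.isLocallyNoetherian X.hom
  haveI : LocallyOfFinitePresentation π := inferInstance
  have hiso : IsIso π := by
    refine IsZariskiLocalAtTarget.of_forall_exists_morphismRestrict
      (P := MorphismProperty.isomorphisms Scheme) (fun s => ?_)
    obtain ⟨U, hsU, hU⟩ := Groth.Agent.S5321.result _ _ π ε hε π.isClosedMap s
      ⟨⊤, trivial, inferInstance⟩ (htriv s)
    exact ⟨U, hsU, hU⟩
  have hfree : ∀ (T : Over (Spec (CommRingCat.of k))) (g : T ⟶ G) (x : T ⟶ X),
      lift g x ≫ a.act = x → g = toUnit T ≫ η[G] := by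
    intro T g x h
    have hw : (lift g x).left ≫ Ψ.left = x.left ≫ Δ.left := by
      rw [← Over.comp_left, ← Over.comp_left]
      congr 1
      apply CartesianMonoidalCategory.hom_ext
      · rw [Category.assoc, lift_fst, Category.assoc, lift_fst, h, Category.comp_id]
      · rw [Category.assoc, lift_snd, Category.assoc, lift_snd, lift_snd, Category.comp_id]
    let p := Limits.pullback.lift (lift g x).left x.left hw
    have hp1 : p ≫ π = (x.left ≫ ε) ≫ π := by
      rw [Category.assoc, hε, Category.comp_id]
      exact Limits.pullback.lift_snd _ _ _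
    have hp2 : p = x.left ≫ ε := (cancel_mono π).mp hp1
    have hw2 : (lift g x).left = (x ≫ e).left := by
      have h3 := congrArg (fun t => t ≫ Limits.pullback.fst Ψ.left Δ.left) hp2
      simp only [p, ε, Category.assoc, Limits.pullback.lift_fst] at h3
      rw [h3, Over.comp_left]
    have hw3 : lift g x = x ≫ e := Over.OverMorphism.ext hw2
    have h4 := congrArg (fun t => t ≫ fst G X) hw3
    simp only [e, lift_fst, Category.assoc] at h4
    rw [h4, comp_one, Hom.one_def]
  have hmono : Mono Ψ.left := (Groth.Agent.S7494.result G X a).mp hfree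
  exact (IsClosedImmersion.iff_isProper_and_mono _).mpr ⟨hp, hmono⟩

end Groth.Agent.S18503
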