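import Groth.Statements.S18508
import Groth.Agent.H63.StabFibre

set_option autoImplicit false
universe u
open CategoryTheory MonoidalCategory CartesianMonoidalCategory MonObj GrpObj AlgebraicGeometry Topology
open EqInt

namespace Groth.Agent.S18508

/-- Over a field k, let an affine group scheme G of finite type act on a separated scheme X of finite
type over k, with stabilizer group scheme S = (G × X) ×_{X × X} X → X (the pullback of (σ, p₂) along
the diagonal). Assume that k has characteristic zero or that G is finite étale over k. Then the
action is set-theoretically free (S → X is universally injective: the stabilizer of every geometric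
point inside the group of geometric points is trivial) if and only if it is geometrically free (for
every point x of X the fibre of S over x is Spec κ(x) through its structure map). (The source takes
X integral and tests geometric points with values in an algebraic closure of k; the statement here
is over all points, which is what the argument gives pointwise.) -/
theorem result (k : Type u) [Field k]
    (G X : Over (Spec (CommRingCat.of k))) [GrpObj G] [IsAffine G.left] [LocallyOfFiniteType G.hom]
    [LocallyOfFiniteType X.hom] [QuasiCompact X.hom] [IsSeparated X.hom]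
    (hG : CharZero k ∨ (IsFinite G.hom ∧ Etale G.hom)) (a : AlgGrp.Action G X) :
    UniversallyInjective (Limits.pullback.snd (GIT.psi a (𝟙 X)).left (CartesianMonoidalCategory.lift (𝟙 X) (𝟙 X)).left) ↔
      ∀ x : ↥X.left, IsIso ((Limits.pullback.snd (GIT.psi a (𝟙 X)).left (CartesianMonoidalCategory.lift (𝟙 X) (𝟙 X)).left).fiberToSpecResidueField x) := by
  have hpsi : GIT.psi a (𝟙 X) = lift a.act (snd G X) := by
    unfold GIT.psi
    rw [MonoidalCategory.whiskerLeft_id, Category.id_comp]
  rw [hpsi]
  constructor
  · intro hui x
    have hinj : Function.Injective
        ((Groth.Agent.H63.StabFibre.stabπ a).fiberToSpecResidueField x).base := by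
      haveI : UniversallyInjective
          ((Groth.Agent.H63.StabFibre.stabπ a).fiberToSpecResidueField x) :=
        MorphismProperty.of_isPullback (P := @UniversallyInjective)
          (IsPullback.of_hasPullback _ _) hui
      exact Scheme.Hom.injective _
    rcases hG with h0 | ⟨-, het⟩
    · haveI := h0
      exact Groth.Agent.H63.StabFibre.fibre_isIso_of_charZero a x hinj
    · haveI := het
      exact Groth.Agent.H63.StabFibre.fibre_isIso_of_etale a x hinj
  · intro h
    refine ((tfae_universallyInjective (Groth.Agent.H63.StabFibre.stabπ a)).out 0 1).mpr ?_
    intro L _ g₁ g₂ hg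
    have hg' : g₁ ≫ Groth.Agent.H63.StabFibre.stabπ a = g₂ ≫ Groth.Agent.H63.StabFibre.stabπ a := hg
    set hh := g₁ ≫ Groth.Agent.H63.StabFibre.stabπ a with hhdef
    have hfac := Scheme.descResidueField_stalkClosedPointTo_fromSpecResidueField L X.left hh
    set x := hh (IsLocalRing.closedPoint L) with hx
    set ψ := X.left.descResidueField (Scheme.stalkClosedPointTo hh) with hψ
    haveI := h x
    let g₁' : Spec (CommRingCat.of L) ⟶ (Groth.Agent.H63.StabFibre.stabπ a).fiber x :=
      Limits.pullback.lift g₁ (Spec.map ψ) (by rw [hfac])
    let g₂' : Spec (CommRingCat.of L) ⟶ (Groth.Agent.H63.StabFibre.stabπ a).fiber x :=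
      Limits.pullback.lift g₂ (Spec.map ψ) (by rw [hfac, ← hg'])
    have e : g₁' = g₂' := by
      rw [← cancel_mono ((Groth.Agent.H63.StabFibre.stabπ a).fiberToSpecResidueField x)]
      exact (Limits.pullback.lift_snd _ _ _).trans (Limits.pullback.lift_snd _ _ _).symm
    have e1 : g₁' ≫ Limits.pullback.fst _ _ = g₁ := Limits.pullback.lift_fst _ _ _
    have e2 : g₂' ≫ Limits.pullback.fst _ _ = g₂ := Limits.pullback.lift_fst _ _ _
    rw [← e1, ← e2, e]

end Groth.Agent.S18508
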