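import Groth.Statements.S18510
import Groth.Agent.H40.PrincBundle
import Groth.Agent.H40.FlatDesc2
import Groth.Agent.S0086
import Mathlib.AlgebraicGeometry.Morphisms.LocalFlatDescent

set_option autoImplicit false
universe u
open CategoryTheory MonoidalCategory CartesianMonoidalCategory MonObj GrpObj AlgebraicGeometry Topology
open EqInt

namespace Groth.Agent.S18510

/-- Over a field k, let an affine group scheme G of finite type act on X, on Y and on U (quasi-separated
schemes of finite type over k), let f : X → Y be G-equivariant, and let q_X : X × U → X_G and q_Y :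
Y × U → Y_G be principal bundle quotients for the diagonal actions (each is invariant, flat and
surjective, and (σ, p₂) into the fibre square over the quotient is an isomorphism), X_G and Y_G
being quasi-separated of finite type over k. Let f_G : X_G → Y_G satisfy f_G ∘ q_X = q_Y ∘ (f ×
id_U) as maps X × U → Y_G. If f is proper, resp. flat, resp. smooth, then so is f_G. (Stated for
schemes; the source allows algebraic spaces and also treats regular embeddings and local complete
intersection morphisms, which are not stated here.) -/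
theorem result (k : Type u) [Field k]
    (G X Y U XG YG : Over (Spec (CommRingCat.of k))) [GrpObj G] [IsAffine G.left] [LocallyOfFiniteType G.hom]
    [LocallyOfFiniteType X.hom] [QuasiCompact X.hom] [QuasiSeparated X.hom]
    [LocallyOfFiniteType Y.hom] [QuasiCompact Y.hom] [QuasiSeparated Y.hom]
    [LocallyOfFiniteType U.hom] [QuasiCompact U.hom] [QuasiSeparated U.hom]
    [LocallyOfFiniteType XG.hom] [QuasiCompact XG.hom] [QuasiSeparated XG.hom]
    [LocallyOfFiniteType YG.hom] [QuasiCompact YG.hom] [QuasiSeparated YG.hom]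
    (a : AlgGrp.Action G X) (aY : AlgGrp.Action G Y) (b : AlgGrp.Action G U)
    (f : X ⟶ Y) (hf : AlgGrp.Action.IsEquivariant a aY f)
    (qX : X ⊗ U ⟶ XG) (hqX : GIT.IsInvariant (a.prod b) qX) [Flat qX.left] [Surjective qX.left]
    (hcX : IsIso (GIT.PsiY (a.prod b) qX hqX))
    (qY : Y ⊗ U ⟶ YG) (hqY : GIT.IsInvariant (aY.prod b) qY) [Flat qY.left] [Surjective qY.left]
    (hcY : IsIso (GIT.PsiY (aY.prod b) qY hqY))
    (fG : XG ⟶ YG) (hfG : qX ≫ fG = (f ▷ U) ≫ qY) :
    (IsProper f.left → IsProper fG.left) ∧ (Flat f.left → Flat fG.left) ∧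
      (Smooth f.left → Smooth fG.left) := by
  open Groth.Agent.H40.PrincBundle Groth.Agent.H40.FpqcFam in
  have hXqc : QuasiCompact qX.left := by
    have h0 : QuasiCompact (X ⊗ U).hom := by
      rw [Over.tensorObj_hom]
      infer_instance
    have : QuasiCompact (qX.left ≫ XG.hom) := by rw [Over.w]; exact h0
    exact QuasiCompact.of_comp qX.left XG.hom
  have hYqc : QuasiCompact qY.left := by
    have h0 : QuasiCompact (Y ⊗ U).hom := by
      rw [Over.tensorObj_hom]
      infer_instance
    have : QuasiCompact (qY.left ≫ YG.hom) := by rw [Over.w]; exact h0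
    exact QuasiCompact.of_comp qY.left YG.hom
  have PBX := IsPB.of_psiY (a.prod b) qX hqX hcX inferInstance qX.left.surjective hXqc
  have PBY := IsPB.of_psiY (aY.prod b) qY hqY hcY inferInstance qY.left.surjective hYqc
  have hfpt : ∀ {T : Over (Spec (CommRingCat.of k))} (g : T ⟶ G) (x : T ⟶ X),
      (lift g x ≫ a.act) ≫ f = lift g (x ≫ f) ≫ aY.act := by
    intro T g x
    unfold AlgGrp.Action.IsEquivariant at hf
    rw [Category.assoc, hf, ← Category.assoc, lift_whiskerLeft]
  have hf' : (a.prod b).act ≫ (f ▷ U) = (G ◁ (f ▷ U)) ≫ (aY.prod b).act := by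
    apply AlgGrp.Action.hom_ext_lift₂
    intro T g p
    have hp' : p = lift (p ≫ fst X U) (p ≫ snd X U) := by
      rw [← comp_lift, lift_fst_snd, Category.comp_id]
    rw [lift_whiskerLeft_assoc, hp', ← Category.assoc, AlgGrp.Action.lift_prod_act, lift_whiskerRight,
      lift_whiskerRight, AlgGrp.Action.lift_prod_act, hfpt]
  have hsq := PBY.isPullback_of_equivariant PBX (f ▷ U) fG hf' hfG
  have hsqS : IsPullback (f ▷ U).left qX.left qY.left fG.left := hsq.map (Over.forget _)
  have hbc : IsPullback (fst X U) (f ▷ U) f (fst Y U) := by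
    refine isPullback_of_pts (whiskerRight_fst _ _).symm ?_
    intro T x y hxy
    refine ⟨lift x (y ≫ snd Y U), ⟨lift_fst _ _, ?_⟩, ?_⟩
    · rw [lift_whiskerRight, hxy]
      apply CartesianMonoidalCategory.hom_ext
      · rw [lift_fst]
      · rw [lift_snd]
    · rintro q ⟨hq1, hq2⟩
      apply CartesianMonoidalCategory.hom_ext
      · rw [lift_fst, hq1]
      · rw [lift_snd, ← hq2, Category.assoc, whiskerRight_snd]
  have hbcS : IsPullback (fst X U).left (f ▷ U).left f.left (fst Y U).left := hbc.map (Over.forget _)
  have hQ : (@Surjective ⊓ @Flat ⊓ @QuasiCompact : MorphismProperty Scheme.{u}) qY.left :=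
    ⟨⟨inferInstance, inferInstance⟩, hYqc⟩
  refine ⟨fun h => ?_, fun h => ?_, fun h => ?_⟩
  · have := Groth.Agent.S0086.result.{u}
    exact MorphismProperty.of_isPullback_of_descendsAlong (P := @IsProper)
      (Q := (@Surjective ⊓ @Flat ⊓ @QuasiCompact : MorphismProperty Scheme.{u})) hsqS hQ
      (MorphismProperty.of_isPullback (P := @IsProper) hbcS h)
  · exact MorphismProperty.of_isPullback_of_descendsAlong (P := @Flat)
      (Q := (@Surjective ⊓ @Flat ⊓ @QuasiCompact : MorphismProperty Scheme.{u})) hsqS hQ
      (MorphismProperty.of_isPullback (P := @Flat) hbcS h)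
  · exact MorphismProperty.of_isPullback_of_descendsAlong (P := @Smooth)
      (Q := (@Surjective ⊓ @Flat ⊓ @QuasiCompact : MorphismProperty Scheme.{u})) hsqS hQ
      (MorphismProperty.of_isPullback (P := @Smooth) hbcS h)
end Groth.Agent.S18510
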