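import Groth.Statements.S18515
-- import your own Groth.Agent.* helpers here
import Groth.Agent.H40.DvrTorsor

set_option autoImplicit false
open CategoryTheory CategoryTheory.Limits MonoidalCategory CartesianMonoidalCategory MonObj GrpObj AlgebraicGeometry
universe u
open NonAbH1

namespace Groth.Agent.S18515

/-- A class represented by a torsor over a complete variety is unramified at every discrete valuation
ring of the function field. The published lemma assumes G finite, k algebraically closed of
characteristic zero and K finitely generated over k; this row allows any field k, any field K and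
any affine k-group scheme of finite type: let k be a field, X a proper k-scheme, G an affine k-group
scheme of finite type and P a torsor over X, locally trivial for the etale topology, under the base
change of G. For every field K with a k-morphism e : Spec K ⟶ X (for instance the generic point of
an integral X) and every discrete valuation ring R with fraction field K containing k compatibly,
there is a torsor Q over Spec R under the base change of G whose restriction to Spec K is
equivariantly isomorphic to the pullback of P along e, both regarded as actions of the base change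
of G to Spec K through the canonical identifications of iterated base changes. -/
theorem result
    (k K R : Type u) [Field k] [Field K] [Algebra k K]
    [CommRing R] [IsDomain R] [IsDiscreteValuationRing R] [Algebra k R] [Algebra R K] [IsFractionRing R K]
    (hc : Spec.map (CommRingCat.ofHom (algebraMap R K)) ≫ Spec.map (CommRingCat.ofHom (algebraMap k R)) =
      Spec.map (CommRingCat.ofHom (algebraMap k K)))
    (X : Scheme.{u}) (x : X ⟶ Spec (CommRingCat.of k)) [IsProper x]
    (G : Over (Spec (CommRingCat.of k))) [GrpObj G] [IsAffine G.left] [LocallyOfFiniteType G.hom]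
    (P : NonAbH1.TorsorSch (Red.bc x G) Scheme.etalePrecoverage)
    (e : Spec (CommRingCat.of K) ⟶ X) (he : e ≫ x = Spec.map (CommRingCat.ofHom (algebraMap k K))) :
    ∃ Q : NonAbH1.TorsorSch (Red.bc (Spec.map (CommRingCat.ofHom (algebraMap k R))) G) Scheme.etalePrecoverage,
      Nonempty (NonAbH1.EquivIso
        ((Q.act.bc (Spec.map (CommRingCat.ofHom (algebraMap R K)))).restrict
          (ActBC.bcCompIso (Spec.map (CommRingCat.ofHom (algebraMap R K)))
            (Spec.map (CommRingCat.ofHom (algebraMap k R))) G hc).inv)
        ((P.act.bc e).restrict (ActBC.bcCompIso e x G he).inv)) := by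
  obtain ⟨e', hr, he'⟩ := Groth.Agent.H40.DvrTorsor.exists_lift_dvr k K R hc X x e he
  have hT : IsTorsorFor Scheme.etalePrecoverage
      ((P.act.bc e').restrict (ActBC.bcCompIso e' x G he').inv) :=
    Groth.Agent.H40.DvrTorsor.isTorsorFor_restrict _ _ (isTorsorFor_bc e' _ P.isTorsor)
  refine ⟨⟨Red.bc e' P.X, (P.act.bc e').restrict (ActBC.bcCompIso e' x G he').inv, hT⟩, ⟨?_⟩⟩
  show EquivIso
    ((((P.act.bc e').restrict (ActBC.bcCompIso e' x G he').inv).bc
        (Spec.map (CommRingCat.ofHom (algebraMap R K)))).restrict
      (ActBC.bcCompIso (Spec.map (CommRingCat.ofHom (algebraMap R K)))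
        (Spec.map (CommRingCat.ofHom (algebraMap k R))) G hc).inv)
    ((P.act.bc e).restrict (ActBC.bcCompIso e x G he).inv)
  rw [AlgGrp.Action.bc_restrict, Groth.Agent.H40.DvrTorsor.restrict_restrict]
  refine Groth.Agent.H40.DvrTorsor.equivIsoRestrictOfComp _
    (ActBC.equivIsoBcComp (Spec.map (CommRingCat.ofHom (algebraMap R K))) e' hr P.act) _ _ ?_
  have coh := Groth.Agent.H40.DvrTorsor.bcCompIso_coh (Spec.map (CommRingCat.ofHom (algebraMap R K))) e' x G
    hr he' hc he
  rw [Category.assoc, Iso.inv_comp_eq, ← Functor.mapIso_inv, ← Functor.mapIso_hom] at *
  rw [Iso.inv_comp_eq, ← Category.assoc, Iso.eq_comp_inv]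
  exact coh.symm

end Groth.Agent.S18515
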