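import Groth.Statements.S18538
import Mathlib.RingTheory.Flat.FaithfullyFlat.Basic
import Mathlib.RingTheory.IntegralClosure.IsIntegralClosure.Basic

set_option autoImplicit false
universe u
open EtAlg

namespace Groth.Agent.S18538

/-- Let A ⊆ B be an injective finite extension of integrally closed domains, with fraction fields K ⊆ L
and L separable over K. Then A → B → B ⊗_A B is exact, the second map being b ↦ b ⊗ 1 - 1 ⊗ b: every
element of B whose two images in B ⊗_A B agree comes from A. -/
theorem result
    (A B K L : Type u) [CommRing A] [CommRing B] [IsDomain A] [IsDomain B]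
    [IsIntegrallyClosed A] [IsIntegrallyClosed B] [Algebra A B] [FaithfulSMul A B] [Module.Finite A B]
    [Field K] [Field L] [Algebra A K] [IsFractionRing A K] [Algebra B L] [IsFractionRing B L]
    [Algebra K L] [Algebra A L] [IsScalarTower A K L] [IsScalarTower A B L]
    [Algebra.IsSeparable K L] :
    Algebra.IsEffective A B := by
  intro b
  constructor
  · intro hb
    let ι : B →ₗ[A] L := (IsScalarTower.toAlgHom A B L).toLinearMap
    let ψ : TensorProduct A B B →ₗ[A] TensorProduct K L L :=
      (TensorProduct.mapOfCompatibleSMul K A A L L) ∘ₗ (TensorProduct.map ι ι)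
    have h1 : Algebra.TensorProduct.includeLeftSubRight K L (algebraMap B L b) = 0 := by
      have := congrArg ψ hb
      simpa [ψ, ι, Algebra.TensorProduct.includeLeftSubRight_apply, map_sub] using this
    have hKL : Algebra.IsEffective K L := Algebra.IsEffective.of_faithfullyFlat K L
    obtain ⟨κ, hκ⟩ := (hKL (algebraMap B L b)).mp h1
    have hκ' : algebraMap K L κ = algebraMap B L b := hκ
    have hbint : IsIntegral A b := Algebra.IsIntegral.isIntegral b
    have hβint : IsIntegral A (algebraMap B L b) := hbint.map (IsScalarTower.toAlgHom A B L)
    have hκint : IsIntegral A κ := by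
      rw [← hκ'] at hβint
      exact (isIntegral_algHom_iff (IsScalarTower.toAlgHom A K L) (algebraMap K L).injective).mp hβint
    obtain ⟨a, ha⟩ := IsIntegrallyClosed.isIntegral_iff.mp hκint
    refine ⟨a, ?_⟩
    apply IsFractionRing.injective B L
    rw [Algebra.linearMap_apply, ← IsScalarTower.algebraMap_apply, IsScalarTower.algebraMap_apply A K L,
      ha, hκ']
  · rintro ⟨a, rfl⟩
    exact Algebra.TensorProduct.includeLeftSubRight_algebraMap_zero a

end Groth.Agent.S18538
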