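import Groth.Statements.S18539
import Mathlib.RingTheory.Regular.IsSMulRegular

set_option autoImplicit false
universe u v w
open CAlg

namespace Groth.Agent.S18539

open Pointwise in
theorem aux1 (R : Type u) [CommRing R] (M : Type v) (N : Type w)
    [AddCommGroup M] [Module R M] [AddCommGroup N] [Module R N]
    (r₁ r₂ : R) (h1 : IsSMulRegular N r₁) (h2 : IsSMulRegular (QuotSMulTop r₁ N) r₂) :
    IsSMulRegular (M →ₗ[R] N) r₁ ∧ IsSMulRegular (QuotSMulTop r₁ (M →ₗ[R] N)) r₂ := by
  classical
  have h2' := (isSMulRegular_quotient_iff_mem_of_smul_mem (r₁ • (⊤ : Submodule R N)) r₂).mp h2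
  refine ⟨?_, ?_⟩
  · rw [isSMulRegular_iff_right_eq_zero_of_smul]
    intro f hf
    ext m
    have : r₁ • f m = 0 := by
      have := LinearMap.congr_fun hf m
      simpa using this
    simpa using h1.right_eq_zero_of_smul this
  · rw [isSMulRegular_quotient_iff_mem_of_smul_mem]
    intro f hf
    rw [Submodule.mem_smul_pointwise_iff_exists] at hf ⊢
    obtain ⟨g, -, hg⟩ := hf
    have key : ∀ m : M, ∃ n : N, r₁ • n = f m := by
      intro m
      have hm : r₂ • f m ∈ r₁ • (⊤ : Submodule R N) := by
        rw [Submodule.mem_smul_pointwise_iff_exists]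
        refine ⟨g m, trivial, ?_⟩
        have := LinearMap.congr_fun hg m
        simpa using this
      have := h2' (f m) hm
      rw [Submodule.mem_smul_pointwise_iff_exists] at this
      obtain ⟨n, -, hn⟩ := this
      exact ⟨n, hn⟩
    choose φ hφ using key
    have hinj : ∀ a b : N, r₁ • a = r₁ • b → a = b := fun a b hab => h1 hab
    let ψ : M →ₗ[R] N :=
      { toFun := φ
        map_add' := by
          intro a b
          apply hinj
          rw [smul_add, hφ, hφ, hφ, map_add]
        map_smul' := by
          intro c a
          apply hinj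
          rw [RingHom.id_apply, smul_comm, hφ, hφ, map_smul] }
    refine ⟨ψ, trivial, ?_⟩
    ext m
    simpa [ψ] using hφ m


/-- For a commutative ring R, R-modules M and N and elements r₁, r₂ of R such that r₁ is a
non-zero-divisor on N and r₂ is a non-zero-divisor on N/r₁N, the element r₁ is a non-zero-divisor on
the module Hom_R(M, N) and r₂ is a non-zero-divisor on Hom_R(M, N)/r₁Hom_R(M, N). (Weak regularity
on both sides: no condition that the quotient by (r₁, r₂) is nonzero, which would fail for M = 0.) -/
theorem result
    (R : Type u) [CommRing R] (M : Type v) (N : Type w)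
    [AddCommGroup M] [Module R M] [AddCommGroup N] [Module R N]
    (r₁ r₂ : R) (h : RingTheory.Sequence.IsWeaklyRegular N [r₁, r₂]) :
    RingTheory.Sequence.IsWeaklyRegular (M →ₗ[R] N) [r₁, r₂] := by
  simp only [RingTheory.Sequence.isWeaklyRegular_cons_iff,
    RingTheory.Sequence.IsWeaklyRegular.nil, and_true] at h ⊢
  exact aux1 R M N r₁ r₂ h.1 h.2

end Groth.Agent.S18539
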