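import Groth.Statements.S18544
import Mathlib.Tactic
import Mathlib.LinearAlgebra.Matrix.Transvection
import Mathlib.LinearAlgebra.Matrix.Swap
import Mathlib.Algebra.MvPolynomial.Funext
import Mathlib.FieldTheory.IsAlgClosed.Basic

set_option autoImplicit false
universe u
open CAlg

namespace Groth.Agent.S18544

/-- Let F be an algebraically closed field of characteristic zero, n a natural number, and N a nonzero
polynomial over F in the n² matrix entries whose evaluation on n × n matrices is multiplicative,
N(xy) = N(x)·N(y) for all x, y (a norm form on the matrix algebra M_n(F) over F). Then N is a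
natural power of the determinant: for some m, N(x) = det(x)^m for every matrix x. The published
statement concerns norm forms of any central simple algebra over a subfield; this row is the case of
the full matrix algebra over an algebraically closed field, which is the case its proof treats. -/
theorem result (F : Type u) [Field F] [IsAlgClosed F]
    [CharZero F] (n : ℕ) (N : MvPolynomial (Fin n × Fin n) F) (hN : N ≠ 0)
    (hmul : ∀ x y : Matrix (Fin n) (Fin n) F,
      MvPolynomial.eval (fun ij : Fin n × Fin n => (x * y) ij.1 ij.2) N =
        MvPolynomial.eval (fun ij : Fin n × Fin n => x ij.1 ij.2) N * MvPolynomial.eval (fun ij : Fin n × Fin n => y ij.1 ij.2) N) :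
    ∃ m : ℕ, ∀ x : Matrix (Fin n) (Fin n) F,
      MvPolynomial.eval (fun ij : Fin n × Fin n => x ij.1 ij.2) N = x.det ^ m := by
  classical
  set ν : Matrix (Fin n) (Fin n) F → F := fun x =>
    MvPolynomial.eval (fun ij : Fin n × Fin n => x ij.1 ij.2) N with hν
  have hmul' : ∀ x y, ν (x * y) = ν x * ν y := hmul
  -- ν 1 = 1
  have h1 : ν 1 = 1 := by
    obtain ⟨x₀, hx₀⟩ : ∃ x : Matrix (Fin n) (Fin n) F, ν x ≠ 0 := by
      by_contra hcon
      push Not at hcon
      apply hN
      apply MvPolynomial.funext
      intro v
      have h2 := hcon (Matrix.of (fun i j => v (i, j)))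
      simpa [ν] using h2
    have h2 := hmul' x₀ 1
    rw [mul_one] at h2
    have h3 : ν x₀ * ν 1 = ν x₀ * 1 := by rw [mul_one]; exact h2.symm
    exact mul_left_cancel₀ hx₀ h3
  -- polynomial dependence on a parameter
  have POLY : ∀ M₀ M₁ : Matrix (Fin n) (Fin n) F, ∃ P : Polynomial F,
      ∀ c : F, P.eval c = ν (M₀ + c • M₁) := by
    intro M₀ M₁
    let gg : Fin n × Fin n → Polynomial F := fun ij =>
      Polynomial.C (M₀ ij.1 ij.2) + Polynomial.X * Polynomial.C (M₁ ij.1 ij.2)
    refine ⟨MvPolynomial.aeval gg N, fun c => ?_⟩
    have e1 : Polynomial.eval c (MvPolynomial.aeval gg N) =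
        MvPolynomial.eval (fun ij => Polynomial.eval c (gg ij)) N := by
      have h2 := congrArg (fun φ : MvPolynomial (Fin n × Fin n) F →ₐ[F] F => φ N)
        (MvPolynomial.comp_aeval gg (Polynomial.aeval c))
      simpa [Polynomial.coe_aeval_eq_eval, MvPolynomial.coe_aeval_eq_eval] using h2
    have e2 : (fun ij => Polynomial.eval c (gg ij)) =
        (fun ij : Fin n × Fin n => (M₀ + c • M₁) ij.1 ij.2) := by
      funext ij
      simp [gg, Matrix.add_apply, Matrix.smul_apply]
      ring
    rw [e1, e2]
  -- transvections have norm one
  have htrans : ∀ (i j : Fin n), i ≠ j → ∀ c : F, ν (Matrix.transvection i j c) = 1 := by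
    intro i j hij
    obtain ⟨P, hP⟩ := POLY 1 (Matrix.single i j (1 : F))
    have hP' : ∀ c, P.eval c = ν (Matrix.transvection i j c) := by
      intro c
      rw [hP]
      congr 1
      simp [Matrix.transvection, Matrix.smul_single]
    have hadd : ∀ c d, P.eval c * P.eval d = P.eval (c + d) := by
      intro c d
      rw [hP', hP', hP', ← hmul', Matrix.transvection_mul_transvection_same _ _ hij]
    have h0 : P.eval 0 = 1 := by rw [hP', Matrix.transvection_zero, h1]
    have hne : ∀ c, P.eval c ≠ 0 := by
      intro c hc
      have h2 := hadd c (-c)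
      rw [hc, zero_mul, add_neg_cancel, h0] at h2
      exact zero_ne_one h2
    have hdeg : P.degree = 0 := by
      by_contra hd
      obtain ⟨z, hz⟩ := IsAlgClosed.exists_root P hd
      exact hne z hz
    have hPC := Polynomial.eq_C_of_degree_eq_zero hdeg
    have h0' : P.coeff 0 = 1 := by
      have h2 := h0
      rw [hPC, Polynomial.eval_C] at h2
      exact h2
    intro c
    rw [← hP' c, hPC, Polynomial.eval_C]
    exact h0'
  -- diagonal matrices
  have hdiagmul : ∀ d d' : Fin n → F,
      ν (Matrix.diagonal d) * ν (Matrix.diagonal d') = ν (Matrix.diagonal (d * d')) := by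
    intro d d'
    rw [← hmul', Matrix.diagonal_mul_diagonal]
    rfl
  have hd1 : Matrix.diagonal (1 : Fin n → F) = 1 := Matrix.diagonal_one
  have hupd1 : ∀ i : Fin n, Function.update (1 : Fin n → F) i 1 = 1 := by
    intro i
    ext k
    by_cases hk : k = i <;> simp [hk, Function.update]
  have hQ : ∀ i : Fin n, ∃ m : ℕ, ∀ t : F,
      ν (Matrix.diagonal (Function.update (1 : Fin n → F) i t)) = t ^ m := by
    intro i
    obtain ⟨Q, hQ⟩ := POLY (Matrix.diagonal (Function.update (1 : Fin n → F) i 0))
      (Matrix.diagonal (Pi.single i 1))
    have hQ' : ∀ t, Q.eval t = ν (Matrix.diagonal (Function.update 1 i t)) := by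
      intro t
      rw [hQ]
      congr 1
      rw [← Matrix.diagonal_smul, Matrix.diagonal_add]
      congr 1
      ext k
      by_cases hk : k = i
      · subst hk; simp
      · simp [hk, Function.update, Pi.single_apply]
    have hQmul : ∀ s t, Q.eval (s * t) = Q.eval s * Q.eval t := by
      intro s t
      rw [hQ', hQ', hQ', hdiagmul]
      congr 2
      ext k
      by_cases hk : k = i
      · subst hk; simp
      · simp [hk, Function.update]
    have hQ1 : Q.eval 1 = 1 := by
      rw [hQ', hupd1, hd1]
      exact h1
    have hQne : Q ≠ 0 := by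
      intro h
      rw [h, Polynomial.eval_zero] at hQ1
      exact zero_ne_one hQ1
    refine ⟨Q.natDegree, fun s => ?_⟩
    rw [← hQ']
    have hpoly : Q.comp (Polynomial.C s * Polynomial.X) = Polynomial.C (Q.eval s) * Q := by
      apply Polynomial.funext
      intro t
      simp [Polynomial.eval_comp, hQmul]
    have hcoef := congrArg (fun R => Polynomial.coeff R Q.natDegree) hpoly
    simp only [Polynomial.comp_C_mul_X_coeff, Polynomial.coeff_C_mul] at hcoef
    have hlc : Q.coeff Q.natDegree ≠ 0 := by
      rwa [Polynomial.coeff_natDegree, Polynomial.leadingCoeff_ne_zero]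
    have h2 : Q.coeff Q.natDegree * (Q.eval s) = Q.coeff Q.natDegree * s ^ Q.natDegree := by
      rw [hcoef]; ring
    exact mul_left_cancel₀ hlc h2
  choose m hm using hQ
  -- all exponents agree
  have hmeq : ∀ i j : Fin n, m i = m j := by
    intro i j
    by_cases hij : i = j
    · rw [hij]
    have hconj : ∀ t : F, ν (Matrix.diagonal (Function.update 1 j t)) =
        ν (Matrix.diagonal (Function.update 1 i t)) := by
      intro t
      have hs : ν (Matrix.swap F i j) * ν (Matrix.swap F i j) = 1 := by
        rw [← hmul', Matrix.swap_mul_self, h1]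
      have e : Matrix.swap F i j * Matrix.diagonal (Function.update 1 i t) * Matrix.swap F i j =
          Matrix.diagonal (Function.update 1 j t) := by
        simp only [Matrix.swap, Equiv.Perm.permMatrix]
        rw [PEquiv.toMatrix_toPEquiv_mul, PEquiv.mul_toMatrix_toPEquiv, Matrix.submatrix_submatrix]
        simp only [Function.comp_id, Function.id_comp, Equiv.symm_swap]
        rw [Matrix.submatrix_diagonal_equiv]
        congr 1
        ext k
        simp only [Function.comp_apply, Function.update_apply, Equiv.swap_apply_eq_iff,
          Equiv.swap_apply_left, Pi.one_apply]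
      rw [← e, hmul', hmul', mul_right_comm, hs, one_mul]
    have hpow : ∀ t : F, t ^ m j = t ^ m i := fun t => by rw [← hm j t, ← hm i t, hconj t]
    have h2 : (Polynomial.X : Polynomial F) ^ m j = Polynomial.X ^ m i :=
      Polynomial.funext (fun t => by simp [hpow t])
    have h3 := congrArg Polynomial.natDegree h2
    simpa using h3.symm
  -- the common exponent
  let M : ℕ := if h : 0 < n then m ⟨0, h⟩ else 0
  have hmM : ∀ i : Fin n, m i = M := by
    intro i
    have hn : 0 < n := Fin.pos i
    simp only [M, dif_pos hn]
    exact hmeq _ _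
  -- diagonal matrices
  have hdiag : ∀ d : Fin n → F, ν (Matrix.diagonal d) = (∏ i, d i) ^ M := by
    intro d
    have key : ∀ s : Finset (Fin n),
        ν (Matrix.diagonal (fun k => if k ∈ s then d k else 1)) = ∏ i ∈ s, d i ^ M := by
      intro s
      induction s using Finset.induction_on with
      | empty =>
        simp only [Finset.notMem_empty, if_false, Finset.prod_empty]
        show ν (Matrix.diagonal (1 : Fin n → F)) = 1
        rw [hd1]
        exact h1
      | insert a s ha ih =>
        rw [Finset.prod_insert ha, ← ih, ← hmM a, ← hm a (d a), hdiagmul]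
        congr 2
        ext k
        by_cases hk : k = a
        · subst hk; simp [ha]
        · simp [hk, Function.update, Finset.mem_insert]
    have h2 := key Finset.univ
    simp only [Finset.mem_univ, if_true] at h2
    rw [h2, Finset.prod_pow]
  refine ⟨M, fun x => ?_⟩
  show ν x = x.det ^ M
  refine Matrix.diagonal_transvection_induction (fun y => ν y = y.det ^ M) x ?_ ?_ ?_
  · intro D _
    show ν (Matrix.diagonal D) = (Matrix.diagonal D).det ^ M
    rw [hdiag, Matrix.det_diagonal]
  · intro t
    show ν t.toMatrix = t.toMatrix.det ^ M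
    rw [Matrix.TransvectionStruct.det, one_pow]
    exact htrans t.i t.j t.hij t.c
  · intro A B hA hB
    show ν (A * B) = (A * B).det ^ M
    rw [hmul', hA, hB, Matrix.det_mul, mul_pow]

end Groth.Agent.S18544
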