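import Groth.Statements.S18545
import Mathlib.Tactic
import Mathlib.LinearAlgebra.FiniteDimensional.Lemmas

set_option autoImplicit false
universe u
open AbVar

namespace Groth.Agent.S18545

/-- A step in the proof of Tate's isogeny result over finite fields, in linear-algebra form. Let K be a
field and V a K-vector space of finite dimension 2g carrying a nondegenerate alternating bilinear
form e. Let F be a K-subalgebra of End(V) which is isomorphic as a K-algebra to a finite product K ×
⋯ × K and which is spanned over K by a set S of similitudes of e (for each s in S there is a nonzero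
scalar c with e(s x, s y) = c·e(x, y) for all x, y). Let D be a set of endomorphisms of V such that
every F-stable isotropic subspace W of dimension g (a maximal isotropic subspace) is D-stable. Then
every F-stable isotropic subspace of V is D-stable. (In the application V is the rational ℓ-adic
Tate module of an abelian variety over a finite field with the Riemann form of a polarisation, F the
algebra generated by the Galois group, split for the chosen ℓ, and D the commutant of the image of
the endomorphism algebra; the hypothesis on maximal isotropic subspaces is the step obtained from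
the finiteness of isomorphism classes.) -/
theorem result (K : Type u) [Field K]
    (V : Type u) [AddCommGroup V] [Module K V] [FiniteDimensional K V] (g : ℕ) (hV : Module.finrank K V = 2 * g)
    (e : LinearMap.BilinForm K V) (he : e.IsAlt) (hnd : e.Nondegenerate)
    (F : Subalgebra K (Module.End K V)) (r : ℕ) (hF : Nonempty (F ≃ₐ[K] (Fin r → K)))
    (S : Set (Module.End K V)) (hS : Submodule.span K S = Subalgebra.toSubmodule F)
    (hsim : ∀ s ∈ S, ∃ c : K, c ≠ 0 ∧ ∀ x y : V, e (s x) (s y) = c * e x y)
    (D : Set (Module.End K V))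
    (hmax : ∀ W : Submodule K V, (∀ f ∈ F, ∀ w ∈ W, f w ∈ W) → (∀ x ∈ W, ∀ y ∈ W, e x y = 0) →
      Module.finrank K W = g → ∀ d ∈ D, ∀ w ∈ W, d w ∈ W)
    (W : Submodule K V) (hWF : ∀ f ∈ F, ∀ w ∈ W, f w ∈ W) (hWiso : ∀ x ∈ W, ∀ y ∈ W, e x y = 0) :
    ∀ d ∈ D, ∀ w ∈ W, d w ∈ W := by
  classical
  obtain ⟨φ⟩ := hF
  let ε : Fin r → Module.End K V := fun i => ((φ.symm (Pi.single i 1) : F) : Module.End K V)
  have hεF : ∀ i, ε i ∈ F := fun i => (φ.symm (Pi.single i 1)).2
  have hsum : ∑ i, ε i = 1 := by
    have h1 : (∑ i, φ.symm (Pi.single i (1 : K)) : F) = 1 := by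
      rw [← map_sum]
      have h2 : (∑ i, Pi.single i (1 : K) : Fin r → K) = 1 := by
        ext j
        simp [Finset.sum_apply, Pi.single_apply]
      rw [h2, map_one]
    have h3 := congrArg (Subtype.val) h1
    simpa [ε] using h3
  have heig : ∀ (f : Module.End K V) (hf : f ∈ F) (i : Fin r),
      f * ε i = (φ ⟨f, hf⟩ i) • ε i := by
    intro f hf i
    have h1 : (⟨f, hf⟩ : F) * φ.symm (Pi.single i 1) =
        (φ ⟨f, hf⟩ i) • φ.symm (Pi.single i 1) := by
      apply φ.injective
      rw [map_mul, map_smul, AlgEquiv.apply_symm_apply]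
      ext j
      by_cases hji : j = i
      · subst hji; simp
      · simp [Pi.single_apply, hji]
    have h3 := congrArg (Subtype.val) h1
    simpa [ε] using h3
  have EV : ∀ P Q : Submodule K V, (∀ f ∈ F, ∀ v ∈ Q, f v ∈ Q) → ¬ (Q ≤ P) →
      ∃ u ∈ Q, u ∉ P ∧ ∀ f ∈ F, ∃ c : K, f u = c • u := by
    intro P Q hQ hPQ
    obtain ⟨q, hqQ, hqP⟩ := SetLike.not_le_iff_exists.1 hPQ
    have hq : q = ∑ i, ε i q := by
      have h1 := congrArg (fun g : Module.End K V => g q) hsum
      simpa [LinearMap.sum_apply] using h1.symm
    have h2 : ∃ i, ε i q ∉ P := by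
      by_contra hcon
      push Not at hcon
      apply hqP
      rw [hq]
      exact Submodule.sum_mem _ (fun i _ => hcon i)
    obtain ⟨i, hi⟩ := h2
    refine ⟨ε i q, hQ _ (hεF i) q hqQ, hi, fun f hf => ⟨φ ⟨f, hf⟩ i, ?_⟩⟩
    have h3 := congrArg (fun g : Module.End K V => g q) (heig f hf i)
    simpa using h3
  have hSF : ∀ s ∈ S, s ∈ F := by
    intro s hs
    have h1 : s ∈ Submodule.span K S := Submodule.subset_span hs
    rw [hS] at h1
    exact h1
  have horth : ∀ P : Submodule K V, (∀ f ∈ F, ∀ w ∈ P, f w ∈ P) →
      ∀ f ∈ F, ∀ x ∈ e.orthogonal P, f x ∈ e.orthogonal P := by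
    intro P hP f hf
    have hf' : f ∈ Submodule.span K S := by rw [hS]; exact hf
    clear hf
    induction hf' using Submodule.span_induction with
    | mem s hs =>
      intro x hx
      obtain ⟨c, hc, hsc⟩ := hsim s hs
      have hinj : Function.Injective s := by
        rw [← LinearMap.ker_eq_bot, LinearMap.ker_eq_bot']
        intro v hv
        apply hnd.1 v
        intro y
        have h1 := hsc v y
        rw [hv, map_zero, LinearMap.zero_apply] at h1
        exact (mul_eq_zero.1 h1.symm).resolve_left hc
      let sP : P →ₗ[K] P := s.restrict (fun w hw => hP s (hSF s hs) w hw)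
      have hsPinj : Function.Injective sP := by
        intro a b hab
        apply Subtype.ext
        apply hinj
        exact congrArg Subtype.val hab
      have hsPsurj : Function.Surjective sP := LinearMap.injective_iff_surjective.1 hsPinj
      rw [LinearMap.BilinForm.mem_orthogonal_iff]
      intro w hw
      obtain ⟨w', hw'⟩ := hsPsurj ⟨w, hw⟩
      have h2 : s w' = w := congrArg Subtype.val hw'
      rw [← h2, hsc, (LinearMap.BilinForm.mem_orthogonal_iff.1 hx) w' w'.2, mul_zero]
    | zero => intro x hx; simp
    | add f g _ _ hf hg =>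
      intro x hx
      rw [LinearMap.add_apply]
      exact Submodule.add_mem _ (hf x hx) (hg x hx)
    | smul a f _ hf =>
      intro x hx
      rw [LinearMap.smul_apply]
      exact Submodule.smul_mem _ _ (hf x hx)
  have hstab : ∀ (P : Submodule K V) (u : V), (∀ f ∈ F, ∀ w ∈ P, f w ∈ P) →
      (∀ f ∈ F, ∃ c : K, f u = c • u) →
      ∀ f ∈ F, ∀ w ∈ P ⊔ Submodule.span K {u}, f w ∈ P ⊔ Submodule.span K {u} := by
    intro P u hP hu f hf w hw
    obtain ⟨a, ha, b, hb, rfl⟩ := Submodule.mem_sup.1 hw
    obtain ⟨t, rfl⟩ := Submodule.mem_span_singleton.1 hb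
    obtain ⟨c, hc⟩ := hu f hf
    rw [map_add, map_smul, hc]
    exact Submodule.add_mem _ (Submodule.mem_sup_left (hP f hf a ha))
      (Submodule.mem_sup_right (Submodule.smul_mem _ _ (Submodule.smul_mem _ _
        (Submodule.mem_span_singleton_self u))))
  have hiso : ∀ (P : Submodule K V) (u : V), (∀ x ∈ P, ∀ y ∈ P, e x y = 0) →
      u ∈ e.orthogonal P →
      ∀ x ∈ P ⊔ Submodule.span K {u}, ∀ y ∈ P ⊔ Submodule.span K {u}, e x y = 0 := by
    intro P u hP hu x hx y hy
    obtain ⟨a, ha, b, hb, rfl⟩ := Submodule.mem_sup.1 hx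
    obtain ⟨t, rfl⟩ := Submodule.mem_span_singleton.1 hb
    obtain ⟨a', ha', b', hb', rfl⟩ := Submodule.mem_sup.1 hy
    obtain ⟨t', rfl⟩ := Submodule.mem_span_singleton.1 hb'
    have h1 : ∀ z ∈ P, e z u = 0 := LinearMap.BilinForm.mem_orthogonal_iff.1 hu
    have h2 : ∀ z ∈ P, e u z = 0 := fun z hz => by
      rw [← he.neg_eq z u, h1 z hz, neg_zero]
    simp only [map_add, map_smul, LinearMap.add_apply, LinearMap.smul_apply, smul_eq_mul]
    rw [hP a ha a' ha', h1 a ha, h2 a' ha', he u]
    ring
  have main : ∀ m : ℕ, ∀ W : Submodule K V, (∀ f ∈ F, ∀ w ∈ W, f w ∈ W) →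
      (∀ x ∈ W, ∀ y ∈ W, e x y = 0) → g - Module.finrank K W = m →
      ∀ d ∈ D, ∀ w ∈ W, d w ∈ W := by
    intro m
    induction m using Nat.strong_induction_on with
    | _ m ih =>
      intro W hWF hWiso hm d hd w hw
      have hle : W ≤ e.orthogonal W := fun x hx =>
        LinearMap.BilinForm.mem_orthogonal_iff.2 (fun n hn => hWiso n hn x hx)
      have hdim : Module.finrank K (e.orthogonal W) = 2 * g - Module.finrank K W := by
        rw [LinearMap.BilinForm.finrank_orthogonal hnd, hV]
      have hWle : Module.finrank K W ≤ g := by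
        have h1 := Submodule.finrank_mono hle
        omega
      rcases Nat.lt_or_ge (Module.finrank K W) g with hlt | hge
      · have hWpF := horth W hWF
        have hnle : ¬ (e.orthogonal W ≤ W) := by
          intro h
          have h1 := Submodule.finrank_mono h
          omega
        obtain ⟨u₁, hu₁, hu₁W, hu₁e⟩ := EV W (e.orthogonal W) hWpF hnle
        have hW₁F := hstab W u₁ hWF hu₁e
        have hW₁iso := hiso W u₁ hWiso hu₁
        have hWW₁ : W < W ⊔ Submodule.span K {u₁} := by
          refine lt_of_le_of_ne le_sup_left ?_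
          intro h
          apply hu₁W
          rw [h]
          exact Submodule.mem_sup_right (Submodule.mem_span_singleton_self u₁)
        have hW₁dim : Module.finrank K ↥(W ⊔ Submodule.span K {u₁}) ≤ Module.finrank K W + 1 := by
          have h1 : Module.finrank K (Submodule.span K ({u₁} : Set V)) ≤ 1 := by
            have h2 := finrank_span_le_card (R := K) ({u₁} : Set V)
            simpa using h2
          have h3 := Submodule.finrank_add_le_finrank_add_finrank W (Submodule.span K {u₁})
          omega
        have hnle₁ : ¬ (e.orthogonal W ≤ W ⊔ Submodule.span K {u₁}) := by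
          intro h
          have h1 := Submodule.finrank_mono h
          omega
        obtain ⟨u₂, hu₂, hu₂W₁, hu₂e⟩ := EV (W ⊔ Submodule.span K {u₁}) (e.orthogonal W) hWpF hnle₁
        have hW₂F := hstab W u₂ hWF hu₂e
        have hW₂iso := hiso W u₂ hWiso hu₂
        have hu₂W : u₂ ∉ W := fun h => hu₂W₁ (Submodule.mem_sup_left h)
        have hWW₂ : W < W ⊔ Submodule.span K {u₂} := by
          refine lt_of_le_of_ne le_sup_left ?_
          intro h
          apply hu₂W
          rw [h]
          exact Submodule.mem_sup_right (Submodule.mem_span_singleton_self u₂)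
        have hlt₁ := Submodule.finrank_lt_finrank_of_lt hWW₁
        have hlt₂ := Submodule.finrank_lt_finrank_of_lt hWW₂
        have hdW₁ := ih (g - Module.finrank K ↥(W ⊔ Submodule.span K {u₁})) (by omega)
          (W ⊔ Submodule.span K {u₁}) hW₁F hW₁iso rfl d hd
        have hdW₂ := ih (g - Module.finrank K ↥(W ⊔ Submodule.span K {u₂})) (by omega)
          (W ⊔ Submodule.span K {u₂}) hW₂F hW₂iso rfl d hd
        have h1 := hdW₁ w (le_of_lt hWW₁ hw)
        have h2 := hdW₂ w (le_of_lt hWW₂ hw)
        obtain ⟨a, ha, b, hb, hab⟩ := Submodule.mem_sup.1 h2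
        obtain ⟨t, rfl⟩ := Submodule.mem_span_singleton.1 hb
        by_cases ht : t = 0
        · rw [ht, zero_smul, add_zero] at hab
          rw [← hab]
          exact ha
        · exfalso
          apply hu₂W₁
          have h3 : t • u₂ = d w - a := by rw [← hab]; abel
          have h4 : t • u₂ ∈ W ⊔ Submodule.span K {u₁} := by
            rw [h3]
            exact Submodule.sub_mem _ h1 (Submodule.mem_sup_left ha)
          have h5 := Submodule.smul_mem (W ⊔ Submodule.span K {u₁}) t⁻¹ h4
          rwa [smul_smul, inv_mul_cancel₀ ht, one_smul] at h5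
      · exact hmax W hWF hWiso (by omega) d hd w hw
  exact main _ W hWF hWiso rfl

end Groth.Agent.S18545
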