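import Mathlib
import Groth.Statements.S18546

set_option autoImplicit false
open scoped TensorProduct
universe u v
open GalCoh

namespace Groth.Agent.S18546

section
variable {V : Type v} [AddCommGroup V] [Module (ZMod 2) V]

/-- coordinates of a tensor with respect to the tensor basis. -/
noncomputable def cc (b : Module.Basis (Fin 2) (ZMod 2) V) (i j : Fin 2) :
    V ⊗[ZMod 2] V →ₗ[ZMod 2] ZMod 2 :=
  (b.tensorProduct b).coord (i, j)

theorem cc_tmul (b : Module.Basis (Fin 2) (ZMod 2) V) (i j : Fin 2) (x y : V) :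
    cc b i j (x ⊗ₜ[ZMod 2] y) = b.repr x i * b.repr y j := by
  show (b.tensorProduct b).repr (x ⊗ₜ[ZMod 2] y) (i, j) = _
  rw [Module.Basis.tensorProduct_repr_tmul_apply, smul_eq_mul, mul_comm]

theorem expand (b : Module.Basis (Fin 2) (ZMod 2) V) (t : V ⊗[ZMod 2] V) :
    t = cc b 0 0 t • (b 0 ⊗ₜ[ZMod 2] b 0) + cc b 0 1 t • (b 0 ⊗ₜ[ZMod 2] b 1)
      + cc b 1 0 t • (b 1 ⊗ₜ[ZMod 2] b 0) + cc b 1 1 t • (b 1 ⊗ₜ[ZMod 2] b 1) := by
  have h := (b.tensorProduct b).sum_repr t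
  rw [Fintype.sum_prod_type, Fin.sum_univ_two, Fin.sum_univ_two, Fin.sum_univ_two] at h
  simp only [Module.Basis.tensorProduct_apply] at h
  refine h.symm.trans ?_
  simp only [cc, Module.Basis.coord_apply]
  abel

/-- The candidate complement. -/
noncomputable def Wsub (b : Module.Basis (Fin 2) (ZMod 2) V) :
    Submodule (ZMod 2) (V ⊗[ZMod 2] V) :=
  LinearMap.ker (cc b 0 0 + cc b 1 1) ⊓ LinearMap.ker (cc b 0 0 + cc b 0 1 + cc b 1 0)

theorem mem_Wsub (b : Module.Basis (Fin 2) (ZMod 2) V) (t : V ⊗[ZMod 2] V) : t ∈ Wsub b ↔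
    cc b 0 0 t + cc b 1 1 t = 0 ∧ cc b 0 0 t + cc b 0 1 t + cc b 1 0 t = 0 := by
  simp only [Wsub, Submodule.mem_inf, LinearMap.mem_ker, LinearMap.add_apply]

theorem repr_map (b : Module.Basis (Fin 2) (ZMod 2) V) (f : V →ₗ[ZMod 2] V) (x : V)
    (i : Fin 2) :
    b.repr (f x) i = b.repr x 0 * b.repr (f (b 0)) i + b.repr x 1 * b.repr (f (b 1)) i := by
  have h := b.sum_repr x
  rw [Fin.sum_univ_two] at h
  conv_lhs => rw [← h]
  simp only [map_add, map_smul, Finsupp.add_apply, Finsupp.smul_apply, smul_eq_mul]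

theorem cc_map (b : Module.Basis (Fin 2) (ZMod 2) V) (f : V →ₗ[ZMod 2] V) (i j : Fin 2)
    (t : V ⊗[ZMod 2] V) :
    cc b i j (TensorProduct.map f f t) =
      b.repr (f (b 0)) i * b.repr (f (b 0)) j * cc b 0 0 t
      + b.repr (f (b 0)) i * b.repr (f (b 1)) j * cc b 0 1 t
      + b.repr (f (b 1)) i * b.repr (f (b 0)) j * cc b 1 0 t
      + b.repr (f (b 1)) i * b.repr (f (b 1)) j * cc b 1 1 t := by
  induction t using TensorProduct.induction_on with
  | zero => simp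
  | tmul x y =>
    rw [TensorProduct.map_tmul, cc_tmul, repr_map b f x i, repr_map b f y j]
    simp only [cc_tmul]
    ring
  | add t₁ t₂ h₁ h₂ =>
    rw [map_add, map_add, h₁, h₂]
    simp only [map_add]
    ring

theorem det_eq_one (b : Module.Basis (Fin 2) (ZMod 2) V) (f g : V →ₗ[ZMod 2] V)
    (hfg : f ∘ₗ g = LinearMap.id) :
    b.repr (f (b 0)) 0 * b.repr (f (b 1)) 1 + b.repr (f (b 1)) 0 * b.repr (f (b 0)) 1 = 1 := by
  have h1 : LinearMap.toMatrix b b f * LinearMap.toMatrix b b g = 1 := by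
    rw [← LinearMap.toMatrix_comp, hfg, LinearMap.toMatrix_id]
  have h2 := congrArg Matrix.det h1
  rw [Matrix.det_mul, Matrix.det_one, Matrix.det_fin_two] at h2
  simp only [LinearMap.toMatrix_apply] at h2
  have h3 : ∀ p q d : ZMod 2, (p - q) * d = 1 → p + q = 1 := by decide
  exact h3 _ _ _ h2

theorem key_decide : ∀ p q r s x y z w : ZMod 2, p * s + q * r = 1 → x + w = 0 → x + y + z = 0 →
    ((p*p*x + p*q*y + q*p*z + q*q*w) + (r*r*x + r*s*y + s*r*z + s*s*w) = 0) ∧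
    ((p*p*x + p*q*y + q*p*z + q*q*w) + (p*r*x + p*s*y + q*r*z + q*s*w)
      + (r*p*x + r*q*y + s*p*z + s*q*w) = 0) := by
  decide

theorem stable (b : Module.Basis (Fin 2) (ZMod 2) V) (f g : V →ₗ[ZMod 2] V)
    (hfg : f ∘ₗ g = LinearMap.id) (t : V ⊗[ZMod 2] V) (ht : t ∈ Wsub b) :
    TensorProduct.map f f t ∈ Wsub b := by
  rw [mem_Wsub] at ht ⊢
  have hdet := det_eq_one b f g hfg
  rw [cc_map b f 0 0, cc_map b f 1 1, cc_map b f 0 1, cc_map b f 1 0]
  exact key_decide _ _ _ _ _ _ _ _ hdet ht.1 ht.2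

theorem symm_of_mem_Na (b : Module.Basis (Fin 2) (ZMod 2) V) (t : V ⊗[ZMod 2] V)
    (ht : t ∈ Submodule.span (ZMod 2) (Set.range fun v : V => v ⊗ₜ[ZMod 2] v)) :
    cc b 0 1 t = cc b 1 0 t := by
  have : Submodule.span (ZMod 2) (Set.range fun v : V => v ⊗ₜ[ZMod 2] v)
      ≤ LinearMap.ker (cc b 0 1 - cc b 1 0) := by
    rw [Submodule.span_le]
    rintro _ ⟨v, rfl⟩
    simp only [SetLike.mem_coe, LinearMap.mem_ker, LinearMap.sub_apply, cc_tmul]
    ring
  have h := this ht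
  rw [LinearMap.mem_ker, LinearMap.sub_apply, sub_eq_zero] at h
  exact h

end

/-- Let G be a group acting linearly on a vector space V of dimension 2 over the field 𝔽₂ with two
elements. Then the short exact sequence of G-modules 0 → V → S²V → Λ²V → 0 (v ↦ v·v, x·y ↦ x ∧ y)
splits G-equivariantly. Here, for a vector space V over the field with two elements carrying a
linear action ρ of a group G, write N_a ⊆ V ⊗ V for the span of the tensors v ⊗ v and N_s ⊆ N_a for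
the span of the tensors x ⊗ y + y ⊗ x, so that S²V = (V ⊗ V)/N_s, Λ²V = (V ⊗ V)/N_a and the
surjection S²V → Λ²V, x·y ↦ x ∧ y, is G-equivariant for the diagonal action; a G-equivariant linear
section of this surjection is the same thing as a G-stable subspace W of V ⊗ V with W ∩ N_a = N_s
and W + N_a = V ⊗ V, which is how the splitting is stated. (The source has the absolute Galois group
of a field acting continuously; any group is allowed here.) -/
theorem result (G : Type u) [Group G] (V : Type v)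
    [AddCommGroup V] [Module (ZMod 2) V] (hV : Module.finrank (ZMod 2) V = 2)
    (ρ : Representation (ZMod 2) G V) :
    ∃ W : Submodule (ZMod 2) (V ⊗[ZMod 2] V),
      (∀ g : G, ∀ w ∈ W, ρ.tprod ρ g w ∈ W) ∧
      W ⊓ Submodule.span (ZMod 2) (Set.range fun v : V => v ⊗ₜ[ZMod 2] v) =
        Submodule.span (ZMod 2) (Set.range fun p : V × V => p.1 ⊗ₜ[ZMod 2] p.2 + p.2 ⊗ₜ[ZMod 2] p.1) ∧
      W ⊔ Submodule.span (ZMod 2) (Set.range fun v : V => v ⊗ₜ[ZMod 2] v) = ⊤ := by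
  haveI : Module.Finite (ZMod 2) V := Module.finite_of_finrank_pos (by omega)
  obtain ⟨b⟩ : Nonempty (Module.Basis (Fin 2) (ZMod 2) V) :=
    ⟨Module.finBasisOfFinrankEq (ZMod 2) V hV⟩
  have hN : ∀ v : V, v ⊗ₜ[ZMod 2] v ∈
      Wsub b ⊔ Submodule.span (ZMod 2) (Set.range fun v : V => v ⊗ₜ[ZMod 2] v) :=
    fun v => Submodule.mem_sup_right (Submodule.subset_span ⟨v, rfl⟩)
  have ha : (b 0 ⊗ₜ[ZMod 2] b 0 + b 1 ⊗ₜ[ZMod 2] b 0 + b 1 ⊗ₜ[ZMod 2] b 1) ∈ Wsub b := by
    rw [mem_Wsub]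
    simp only [map_add, cc_tmul, Module.Basis.repr_self, Finsupp.single_apply]
    decide
  have hs : (b 0 ⊗ₜ[ZMod 2] b 1 + b 1 ⊗ₜ[ZMod 2] b 0) ∈ Wsub b := by
    rw [mem_Wsub]
    simp only [map_add, cc_tmul, Module.Basis.repr_self, Finsupp.single_apply]
    decide
  refine ⟨Wsub b, ?_, ?_, ?_⟩
  · intro g w hw
    rw [Representation.tprod_apply]
    refine stable b (ρ g) (ρ g⁻¹) ?_ w hw
    rw [← Module.End.mul_eq_comp, ← map_mul, mul_inv_cancel, map_one]
    rfl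
  · apply le_antisymm
    · rintro t ⟨htW, htN⟩
      have hsy := symm_of_mem_Na b t htN
      rw [SetLike.mem_coe, mem_Wsub] at htW
      obtain ⟨h1, h2⟩ := htW
      have e0 : cc b 0 0 t = 0 := by
        rw [hsy] at h2
        have h3 : ∀ x y : ZMod 2, x + y + y = 0 → x = 0 := by decide
        exact h3 _ _ h2
      have e1 : cc b 1 1 t = 0 := by rw [e0, zero_add] at h1; exact h1
      rw [expand b t, e0, e1, hsy, zero_smul, zero_smul, zero_add, add_zero, ← smul_add]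
      exact Submodule.smul_mem _ _ (Submodule.subset_span ⟨(b 0, b 1), rfl⟩)
    · rw [Submodule.span_le]
      rintro _ ⟨⟨x, y⟩, rfl⟩
      refine ⟨?_, ?_⟩
      · rw [SetLike.mem_coe, mem_Wsub]
        simp only [map_add, cc_tmul]
        have h3 : ∀ p q r s : ZMod 2, (p * r + r * p + (q * s + s * q) = 0) ∧
            (p * r + r * p + (p * s + r * q) + (q * r + s * p) = 0) := by decide
        exact h3 _ _ _ _
      · have : x ⊗ₜ[ZMod 2] y + y ⊗ₜ[ZMod 2] x
            = (x + y) ⊗ₜ[ZMod 2] (x + y) - x ⊗ₜ[ZMod 2] x - y ⊗ₜ[ZMod 2] y := by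
          rw [TensorProduct.add_tmul, TensorProduct.tmul_add, TensorProduct.tmul_add]; abel
        show x ⊗ₜ[ZMod 2] y + y ⊗ₜ[ZMod 2] x ∈ _
        rw [this]
        exact Submodule.sub_mem _ (Submodule.sub_mem _ (Submodule.subset_span ⟨_, rfl⟩)
          (Submodule.subset_span ⟨_, rfl⟩)) (Submodule.subset_span ⟨_, rfl⟩)
  · refine eq_top_iff.2 fun t _ => ?_
    have h10 : b 1 ⊗ₜ[ZMod 2] b 0 ∈
        Wsub b ⊔ Submodule.span (ZMod 2) (Set.range fun v : V => v ⊗ₜ[ZMod 2] v) := by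
      have : b 1 ⊗ₜ[ZMod 2] b 0 = (b 0 ⊗ₜ[ZMod 2] b 0 + b 1 ⊗ₜ[ZMod 2] b 0 + b 1 ⊗ₜ[ZMod 2] b 1)
          - b 0 ⊗ₜ[ZMod 2] b 0 - b 1 ⊗ₜ[ZMod 2] b 1 := by abel
      rw [this]
      exact Submodule.sub_mem _ (Submodule.sub_mem _ (Submodule.mem_sup_left ha) (hN _)) (hN _)
    have h01 : b 0 ⊗ₜ[ZMod 2] b 1 ∈
        Wsub b ⊔ Submodule.span (ZMod 2) (Set.range fun v : V => v ⊗ₜ[ZMod 2] v) := by
      have : b 0 ⊗ₜ[ZMod 2] b 1 = (b 0 ⊗ₜ[ZMod 2] b 1 + b 1 ⊗ₜ[ZMod 2] b 0)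
          - b 1 ⊗ₜ[ZMod 2] b 0 := by abel
      rw [this]
      exact Submodule.sub_mem _ (Submodule.mem_sup_left hs) h10
    rw [expand b t]
    exact Submodule.add_mem _ (Submodule.add_mem _ (Submodule.add_mem _
      (Submodule.smul_mem _ _ (hN _)) (Submodule.smul_mem _ _ h01))
      (Submodule.smul_mem _ _ h10)) (Submodule.smul_mem _ _ (hN _))

end Groth.Agent.S18546
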