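import Groth.Statements.S18547
import Mathlib

set_option autoImplicit false
open scoped TensorProduct
universe u v
open GalCoh

namespace Groth.Agent.S18547


open TensorProduct in
abbrev Na (V : Type*) [AddCommGroup V] [Module (ZMod 2) V] :
    Submodule (ZMod 2) (V ⊗[ZMod 2] V) :=
  Submodule.span (ZMod 2) (Set.range fun v : V => v ⊗ₜ[ZMod 2] v)

open TensorProduct in
abbrev Ns (V : Type*) [AddCommGroup V] [Module (ZMod 2) V] :
    Submodule (ZMod 2) (V ⊗[ZMod 2] V) :=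
  Submodule.span (ZMod 2)
    (Set.range fun p : V × V => p.1 ⊗ₜ[ZMod 2] p.2 + p.2 ⊗ₜ[ZMod 2] p.1)

open TensorProduct in
theorem Ns_le_Na {V : Type*} [AddCommGroup V] [Module (ZMod 2) V] : Ns V ≤ Na V := by
  refine Submodule.span_le.mpr ?_
  rintro _ ⟨⟨x, y⟩, rfl⟩
  have h : x ⊗ₜ[ZMod 2] y + y ⊗ₜ[ZMod 2] x =
      (x + y) ⊗ₜ[ZMod 2] (x + y) - x ⊗ₜ[ZMod 2] x - y ⊗ₜ[ZMod 2] y := by
    simp only [add_tmul, tmul_add]; abel
  change x ⊗ₜ[ZMod 2] y + y ⊗ₜ[ZMod 2] x ∈ Na V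
  rw [h]
  exact Submodule.sub_mem _ (Submodule.sub_mem _ (Submodule.subset_span ⟨x + y, rfl⟩)
    (Submodule.subset_span ⟨x, rfl⟩)) (Submodule.subset_span ⟨y, rfl⟩)

open TensorProduct in
theorem diag_mem_Na {V : Type*} [AddCommGroup V] [Module (ZMod 2) V] (v : V) :
    v ⊗ₜ[ZMod 2] v ∈ Na V := Submodule.subset_span ⟨v, rfl⟩

open TensorProduct in
theorem symm_mem_Ns {V : Type*} [AddCommGroup V] [Module (ZMod 2) V] (x y : V) :
    x ⊗ₜ[ZMod 2] y + y ⊗ₜ[ZMod 2] x ∈ Ns V := Submodule.subset_span ⟨(x, y), rfl⟩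

open TensorProduct in
theorem swap_sub_mem_Na {V : Type*} [AddCommGroup V] [Module (ZMod 2) V] (x y : V) :
    x ⊗ₜ[ZMod 2] y - y ⊗ₜ[ZMod 2] x ∈ Na V := by
  rw [ZModModule.sub_eq_add]
  exact Ns_le_Na (symm_mem_Ns x y)

open TensorProduct in
noncomputable def altForm {V : Type*} [AddCommGroup V] [Module (ZMod 2) V]
    (φ ψ : V →ₗ[ZMod 2] ZMod 2) : V ⊗[ZMod 2] V →ₗ[ZMod 2] ZMod 2 :=
  (LinearMap.mul' (ZMod 2) (ZMod 2)).comp (TensorProduct.map φ ψ) -
    (LinearMap.mul' (ZMod 2) (ZMod 2)).comp (TensorProduct.map ψ φ)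

open TensorProduct in
theorem altForm_tmul {V : Type*} [AddCommGroup V] [Module (ZMod 2) V]
    (φ ψ : V →ₗ[ZMod 2] ZMod 2) (a b : V) :
    altForm φ ψ (a ⊗ₜ[ZMod 2] b) = φ a * ψ b - ψ a * φ b := by
  simp [altForm]

open TensorProduct in
theorem altForm_Na {V : Type*} [AddCommGroup V] [Module (ZMod 2) V]
    (φ ψ : V →ₗ[ZMod 2] ZMod 2) {u : V ⊗[ZMod 2] V} (hu : u ∈ Na V) : altForm φ ψ u = 0 := by
  have hle : Na V ≤ LinearMap.ker (altForm φ ψ) := by
    refine Submodule.span_le.mpr ?_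
    rintro _ ⟨v, rfl⟩
    simp only [SetLike.mem_coe, LinearMap.mem_ker, altForm_tmul]
    ring
  exact hle hu

theorem zmod2_cases (a : ZMod 2) : a = 0 ∨ a = 1 := by
  revert a; decide

open TensorProduct in
theorem six_cases {V : Type*} [AddCommGroup V] [Module (ZMod 2) V] {x y x' y' : V}
    (h : x' ⊗ₜ[ZMod 2] y' - x ⊗ₜ[ZMod 2] y ∈ Na V)
    (hx : x ≠ 0) (hy : y ≠ 0) (hxy : x ≠ y) :
    (x' = x ∧ y' = y) ∨ (x' = y ∧ y' = x) ∨ (x' = x ∧ y' = x + y) ∨ (x' = x + y ∧ y' = y) ∨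
      (x' = y ∧ y' = x + y) ∨ (x' = x + y ∧ y' = x) := by
  have key : ∀ φ ψ : V →ₗ[ZMod 2] ZMod 2,
      φ x' * ψ y' - ψ x' * φ y' = φ x * ψ y - ψ x * φ y := by
    intro φ ψ
    have h0 := altForm_Na φ ψ h
    rw [map_sub, altForm_tmul, altForm_tmul, sub_eq_zero] at h0
    exact h0
  have hx_notin : x ∉ Submodule.span (ZMod 2) {y} := by
    rw [Submodule.mem_span_singleton]
    rintro ⟨a, ha⟩
    rcases zmod2_cases a with rfl | rfl
    · rw [zero_smul] at ha; exact hx ha.symm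
    · rw [one_smul] at ha; exact hxy ha.symm
  have hy_notin : y ∉ Submodule.span (ZMod 2) {x} := by
    rw [Submodule.mem_span_singleton]
    rintro ⟨a, ha⟩
    rcases zmod2_cases a with rfl | rfl
    · rw [zero_smul] at ha; exact hy ha.symm
    · rw [one_smul] at ha; exact hxy ha
  obtain ⟨φ0, hφ0x, hφ0⟩ := Submodule.exists_le_ker_of_notMem hx_notin
  obtain ⟨ψ0, hψ0y, hψ0⟩ := Submodule.exists_le_ker_of_notMem hy_notin
  have hφ0y : φ0 y = 0 := hφ0 (Submodule.mem_span_singleton_self y)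
  have hψ0x : ψ0 x = 0 := hψ0 (Submodule.mem_span_singleton_self x)
  have hφ0x1 : φ0 x = 1 := (zmod2_cases _).resolve_left hφ0x
  have hψ0y1 : ψ0 y = 1 := (zmod2_cases _).resolve_left hψ0y
  have e1 := key φ0 ψ0
  rw [hφ0x1, hψ0y1, hφ0y, hψ0x] at e1
  have hmem : ∀ χ : V →ₗ[ZMod 2] ZMod 2, χ x = 0 → χ y = 0 → χ x' = 0 ∧ χ y' = 0 := by
    intro χ hχx hχy
    have e2 := key φ0 χ
    have e3 := key ψ0 χ
    rw [hφ0x1, hφ0y, hχx, hχy] at e2
    rw [hψ0x, hψ0y1, hχx, hχy] at e3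
    generalize φ0 x' = a1 at *
    generalize ψ0 x' = a2 at *
    generalize χ x' = a3 at *
    generalize φ0 y' = b1 at *
    generalize ψ0 y' = b2 at *
    generalize χ y' = b3 at *
    revert a1 a2 a3 b1 b2 b3
    decide
  have hspan : ∀ w : V, (∀ χ : V →ₗ[ZMod 2] ZMod 2, χ x = 0 → χ y = 0 → χ w = 0) →
      w ∈ Submodule.span (ZMod 2) {x, y} := by
    intro w hw
    by_contra hnot
    obtain ⟨χ, hχw, hχ⟩ := Submodule.exists_le_ker_of_notMem hnot
    exact hχw (hw χ (hχ (Submodule.subset_span (by simp))) (hχ (Submodule.subset_span (by simp))))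
  have hx' := hspan x' fun χ h1 h2 => (hmem χ h1 h2).1
  have hy' := hspan y' fun χ h1 h2 => (hmem χ h1 h2).2
  rw [Submodule.mem_span_pair] at hx' hy'
  obtain ⟨α, β, rfl⟩ := hx'
  obtain ⟨γ, δ, rfl⟩ := hy'
  simp only [map_add, map_smul, smul_eq_mul, hφ0x1, hφ0y, hψ0x, hψ0y1, mul_one, mul_zero,
    add_zero, zero_add] at e1
  have hcases : (α = 1 ∧ β = 0 ∧ γ = 0 ∧ δ = 1) ∨ (α = 0 ∧ β = 1 ∧ γ = 1 ∧ δ = 0) ∨
      (α = 1 ∧ β = 0 ∧ γ = 1 ∧ δ = 1) ∨ (α = 1 ∧ β = 1 ∧ γ = 0 ∧ δ = 1) ∨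
      (α = 0 ∧ β = 1 ∧ γ = 1 ∧ δ = 1) ∨ (α = 1 ∧ β = 1 ∧ γ = 1 ∧ δ = 0) := by
    clear h key hmem hspan
    revert α β γ δ
    decide
  rcases hcases with ⟨rfl, rfl, rfl, rfl⟩ | ⟨rfl, rfl, rfl, rfl⟩ | ⟨rfl, rfl, rfl, rfl⟩ |
    ⟨rfl, rfl, rfl, rfl⟩ | ⟨rfl, rfl, rfl, rfl⟩ | ⟨rfl, rfl, rfl, rfl⟩
  · left; simp
  · right; left; simp
  · right; right; left; simp
  · right; right; right; left; simp
  · right; right; right; right; left; simp
  · right; right; right; right; right; simp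

open TensorProduct in
noncomputable def qq {V : Type*} [AddCommGroup V] [Module (ZMod 2) V] (x y : V) :
    V ⊗[ZMod 2] V :=
  x ⊗ₜ[ZMod 2] x + x ⊗ₜ[ZMod 2] y + y ⊗ₜ[ZMod 2] y

open TensorProduct in
theorem qq_diff {V : Type*} [AddCommGroup V] [Module (ZMod 2) V] {x y x' y' : V}
    (h : (x' = x ∧ y' = y) ∨ (x' = y ∧ y' = x) ∨ (x' = x ∧ y' = x + y) ∨
      (x' = x + y ∧ y' = y) ∨ (x' = y ∧ y' = x + y) ∨ (x' = x + y ∧ y' = x)) :
    qq x' y' - qq x y ∈ Ns V := by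
  have h2 : ∀ u : V ⊗[ZMod 2] V, u + u = 0 := ZModModule.add_self
  rcases h with ⟨rfl, rfl⟩ | ⟨rfl, rfl⟩ | ⟨rfl, rfl⟩ | ⟨rfl, rfl⟩ | ⟨rfl, rfl⟩ | ⟨rfl, rfl⟩
  · rw [sub_self]; exact Submodule.zero_mem _
  · have e : qq x' y' - qq y' x' = x' ⊗ₜ[ZMod 2] y' + y' ⊗ₜ[ZMod 2] x' := by
      rw [ZModModule.sub_eq_add, ← one_smul (ZMod 2) (qq x' y' + qq y' x')]
      simp only [qq]
      match_scalars <;> decide
    rw [e]; exact symm_mem_Ns _ _
  · have e : qq x' (x' + y) - qq x' y = x' ⊗ₜ[ZMod 2] y + y ⊗ₜ[ZMod 2] x' := by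
      rw [ZModModule.sub_eq_add, ← one_smul (ZMod 2) (_ + _)]
      simp only [qq, add_tmul, tmul_add]
      match_scalars <;> decide
    rw [e]; exact symm_mem_Ns _ _
  · have e : qq (x + y') y' - qq x y' = x ⊗ₜ[ZMod 2] y' + y' ⊗ₜ[ZMod 2] x := by
      rw [ZModModule.sub_eq_add, ← one_smul (ZMod 2) (_ + _)]
      simp only [qq, add_tmul, tmul_add]
      match_scalars <;> decide
    rw [e]; exact symm_mem_Ns _ _
  · have e : qq x' (x + x') - qq x x' = 0 := by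
      rw [ZModModule.sub_eq_add, ← one_smul (ZMod 2) (_ + _)]
      simp only [qq, add_tmul, tmul_add]
      match_scalars <;> decide
    rw [e]; exact Submodule.zero_mem _
  · have e : qq (y' + y) y' - qq y' y = 0 := by
      rw [ZModModule.sub_eq_add, ← one_smul (ZMod 2) (_ + _)]
      simp only [qq, add_tmul, tmul_add]
      match_scalars <;> decide
    rw [e]; exact Submodule.zero_mem _

open TensorProduct in
theorem map_mem_Na {V : Type*} [AddCommGroup V] [Module (ZMod 2) V] (f : V →ₗ[ZMod 2] V)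
    {u : V ⊗[ZMod 2] V} (hu : u ∈ Na V) : TensorProduct.map f f u ∈ Na V := by
  have hle : Na V ≤ (Na V).comap (TensorProduct.map f f) := by
    refine Submodule.span_le.mpr ?_
    rintro _ ⟨v, rfl⟩
    simp only [SetLike.mem_coe, Submodule.mem_comap, TensorProduct.map_tmul]
    exact diag_mem_Na (f v)
  exact hle hu

open TensorProduct in
theorem exists_decomp {V : Type*} [AddCommGroup V] [Module (ZMod 2) V]
    (hV : Module.finrank (ZMod 2) V = 3) (t : V ⊗[ZMod 2] V) :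
    ∃ x y : V, t - x ⊗ₜ[ZMod 2] y ∈ Na V := by
  have hfin : Module.Finite (ZMod 2) V := Module.finite_of_finrank_eq_succ hV
  obtain ⟨b⟩ : Nonempty (Module.Basis (Fin 3) (ZMod 2) V) :=
    ⟨Module.finBasisOfFinrankEq (ZMod 2) V hV⟩
  have hsum := (b.tensorProduct b).sum_repr t
  simp only [Module.Basis.tensorProduct_apply, Fintype.sum_prod_type, Fin.sum_univ_three]
    at hsum
  generalize ((b.tensorProduct b).repr t) (0, 0) = c00 at hsum
  generalize ((b.tensorProduct b).repr t) (0, 1) = c01 at hsum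
  generalize ((b.tensorProduct b).repr t) (0, 2) = c02 at hsum
  generalize ((b.tensorProduct b).repr t) (1, 0) = c10 at hsum
  generalize ((b.tensorProduct b).repr t) (1, 1) = c11 at hsum
  generalize ((b.tensorProduct b).repr t) (1, 2) = c12 at hsum
  generalize ((b.tensorProduct b).repr t) (2, 0) = c20 at hsum
  generalize ((b.tensorProduct b).repr t) (2, 1) = c21 at hsum
  generalize ((b.tensorProduct b).repr t) (2, 2) = c22 at hsum
  obtain ⟨M, hM⟩ : ∃ M : V ⊗[ZMod 2] V, M = (c01 + c10) • (b 0 ⊗ₜ[ZMod 2] b 1) +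
      (c02 + c20) • (b 0 ⊗ₜ[ZMod 2] b 2) + (c12 + c21) • (b 1 ⊗ₜ[ZMod 2] b 2) := ⟨_, rfl⟩
  have htM : t - M ∈ Na V := by
    have e : t - M = c00 • (b 0 ⊗ₜ[ZMod 2] b 0) + c11 • (b 1 ⊗ₜ[ZMod 2] b 1) +
        c22 • (b 2 ⊗ₜ[ZMod 2] b 2) + c10 • (b 1 ⊗ₜ[ZMod 2] b 0 - b 0 ⊗ₜ[ZMod 2] b 1) +
        c20 • (b 2 ⊗ₜ[ZMod 2] b 0 - b 0 ⊗ₜ[ZMod 2] b 2) +
        c21 • (b 2 ⊗ₜ[ZMod 2] b 1 - b 1 ⊗ₜ[ZMod 2] b 2) := by
      rw [← hsum, hM]; module
    rw [e]
    refine Submodule.add_mem _ (Submodule.add_mem _ (Submodule.add_mem _ (Submodule.add_mem _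
      (Submodule.add_mem _ ?_ ?_) ?_) ?_) ?_) ?_
    · exact Submodule.smul_mem _ _ (diag_mem_Na _)
    · exact Submodule.smul_mem _ _ (diag_mem_Na _)
    · exact Submodule.smul_mem _ _ (diag_mem_Na _)
    · exact Submodule.smul_mem _ _ (swap_sub_mem_Na _ _)
    · exact Submodule.smul_mem _ _ (swap_sub_mem_Na _ _)
    · exact Submodule.smul_mem _ _ (swap_sub_mem_Na _ _)
  generalize c01 + c10 = a at hM
  generalize c02 + c20 = b' at hM
  generalize c12 + c21 = c' at hM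
  rcases zmod2_cases a with rfl | rfl
  · rcases zmod2_cases b' with rfl | rfl
    · refine ⟨c' • b 1, b 2, ?_⟩
      have e : (c' • b 1) ⊗ₜ[ZMod 2] b 2 = M := by
        rw [hM, zero_smul, zero_smul, zero_add, zero_add, ← smul_tmul']
      rw [e]; exact htM
    · refine ⟨b 0 + c' • b 1, b 2, ?_⟩
      have e : (b 0 + c' • b 1) ⊗ₜ[ZMod 2] b 2 = M := by
        rw [hM, zero_smul, zero_add, one_smul, add_tmul, ← smul_tmul']
      rw [e]; exact htM
  · refine ⟨b 0 + c' • b 2, b 1 + b' • b 2, ?_⟩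
    have e : M - (b 0 + c' • b 2) ⊗ₜ[ZMod 2] (b 1 + b' • b 2) =
        c' • (b 1 ⊗ₜ[ZMod 2] b 2 - b 2 ⊗ₜ[ZMod 2] b 1) - (c' * b') • (b 2 ⊗ₜ[ZMod 2] b 2) := by
      rw [hM]
      simp only [add_tmul, tmul_add, ← smul_tmul', tmul_smul]
      module
    have hmem : M - (b 0 + c' • b 2) ⊗ₜ[ZMod 2] (b 1 + b' • b 2) ∈ Na V := by
      rw [e]
      exact Submodule.sub_mem _ (Submodule.smul_mem _ _ (swap_sub_mem_Na _ _))
        (Submodule.smul_mem _ _ (diag_mem_Na _))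
    have := Submodule.add_mem _ htM hmem
    rwa [sub_add_sub_cancel] at this

open TensorProduct in
theorem main (G : Type*) [Group G] (V : Type*)
    [AddCommGroup V] [Module (ZMod 2) V] (hV : Module.finrank (ZMod 2) V = 3)
    (ρ : Representation (ZMod 2) G V) (t : V ⊗[ZMod 2] V)
    (ht : ∀ g : G, ρ.tprod ρ g t - t ∈ Na V) :
    ∃ t' : V ⊗[ZMod 2] V, t' - t ∈ Na V ∧ ∀ g : G, ρ.tprod ρ g t' - t' ∈ Ns V := by
  obtain ⟨x, y, hxy⟩ := exists_decomp hV t
  by_cases hdep : x = 0 ∨ y = 0 ∨ x = y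
  · have hxyNa : x ⊗ₜ[ZMod 2] y ∈ Na V := by
      rcases hdep with rfl | rfl | rfl
      · rw [zero_tmul]; exact Submodule.zero_mem _
      · rw [tmul_zero]; exact Submodule.zero_mem _
      · exact diag_mem_Na _
    have htNa : t ∈ Na V := by
      have := Submodule.add_mem _ hxy hxyNa
      rwa [sub_add_cancel] at this
    refine ⟨0, ?_, fun g => ?_⟩
    · rw [zero_sub]; exact Submodule.neg_mem _ htNa
    · rw [map_zero, sub_zero]; exact Submodule.zero_mem _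
  · push Not at hdep
    obtain ⟨hx, hy, hne⟩ := hdep
    refine ⟨qq x y, ?_, fun g => ?_⟩
    · have e : qq x y - t = x ⊗ₜ[ZMod 2] x + y ⊗ₜ[ZMod 2] y - (t - x ⊗ₜ[ZMod 2] y) := by
        simp only [qq]; abel
      rw [e]
      exact Submodule.sub_mem _ (Submodule.add_mem _ (diag_mem_Na x) (diag_mem_Na y)) hxy
    · have hq : ρ.tprod ρ g (qq x y) = qq (ρ g x) (ρ g y) := by
        simp only [Representation.tprod_apply, qq, map_add, TensorProduct.map_tmul]
      rw [hq]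
      apply qq_diff
      apply six_cases _ hx hy hne
      have h1 : TensorProduct.map (ρ g) (ρ g) (x ⊗ₜ[ZMod 2] y - t) ∈ Na V :=
        map_mem_Na _ (by rw [← neg_sub]; exact Submodule.neg_mem _ hxy)
      have h2 := ht g
      rw [Representation.tprod_apply] at h2
      have e : ρ g x ⊗ₜ[ZMod 2] ρ g y - x ⊗ₜ[ZMod 2] y =
          TensorProduct.map (ρ g) (ρ g) (x ⊗ₜ[ZMod 2] y - t) +
            (TensorProduct.map (ρ g) (ρ g) t - t) + (t - x ⊗ₜ[ZMod 2] y) := by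
        rw [map_sub, TensorProduct.map_tmul]; abel
      rw [e]
      exact Submodule.add_mem _ (Submodule.add_mem _ h1 h2) hxy

/-- Let G be a group acting linearly on a vector space V of dimension 3 over the field 𝔽₂ with two
elements. Then the connecting map (Λ²V)^G → H¹(G, V) of the short exact sequence of G-modules 0 → V
→ S²V → Λ²V → 0 (v ↦ v·v, x·y ↦ x ∧ y) is zero; equivalently, every G-invariant element of Λ²V is
the image of a G-invariant element of S²V. Here N_a ⊆ V ⊗ V is the span of the tensors v ⊗ v and N_s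
⊆ N_a the span of the tensors x ⊗ y + y ⊗ x, so that S²V = (V ⊗ V)/N_s and Λ²V = (V ⊗ V)/N_a with
the diagonal action of G, and the statement reads: a tensor t whose class modulo N_a is G-invariant
is congruent modulo N_a to a tensor whose class modulo N_s is G-invariant. (The source writes the
rank hypothesis on the lattice M with V = M/2M, which has the same rank, and has the absolute Galois
group of a field acting; any group is allowed here.) -/
theorem result (G : Type u) [Group G] (V : Type v)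
    [AddCommGroup V] [Module (ZMod 2) V] (hV : Module.finrank (ZMod 2) V = 3)
    (ρ : Representation (ZMod 2) G V) (t : V ⊗[ZMod 2] V)
    (ht : ∀ g : G, ρ.tprod ρ g t - t ∈ Submodule.span (ZMod 2) (Set.range fun v : V => v ⊗ₜ[ZMod 2] v)) :
    ∃ t' : V ⊗[ZMod 2] V, t' - t ∈ Submodule.span (ZMod 2) (Set.range fun v : V => v ⊗ₜ[ZMod 2] v) ∧
      ∀ g : G, ρ.tprod ρ g t' - t' ∈
        Submodule.span (ZMod 2) (Set.range fun p : V × V => p.1 ⊗ₜ[ZMod 2] p.2 + p.2 ⊗ₜ[ZMod 2] p.1) := by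
  exact main G V hV ρ t ht

end Groth.Agent.S18547
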