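import Groth.Statements.S18548
import Mathlib.Tactic
import Mathlib.LinearAlgebra.TensorProduct.Basis
import Mathlib.LinearAlgebra.LinearIndependent.Basic

set_option autoImplicit false
open scoped TensorProduct
universe u v w
open GalCoh

namespace Groth.Agent.S18548

section

variable {V : Type v} [AddCommGroup V] [Module (ZMod 2) V]

/-- The span of the squares `v ⊗ v`. -/
def Na (V : Type v) [AddCommGroup V] [Module (ZMod 2) V] : Submodule (ZMod 2) (V ⊗[ZMod 2] V) :=
  Submodule.span (ZMod 2) (Set.range fun v : V => v ⊗ₜ[ZMod 2] v)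

/-- The span of the symmetrised tensors. -/
def Ns (V : Type v) [AddCommGroup V] [Module (ZMod 2) V] : Submodule (ZMod 2) (V ⊗[ZMod 2] V) :=
  Submodule.span (ZMod 2) (Set.range fun p : V × V => p.1 ⊗ₜ[ZMod 2] p.2 + p.2 ⊗ₜ[ZMod 2] p.1)

theorem add_self_zero {M : Type*} [AddCommGroup M] [Module (ZMod 2) M] (x : M) : x + x = 0 := by
  have h2 : (2 : ZMod 2) = 0 := by decide
  rw [← two_smul (ZMod 2) x, h2, zero_smul]

theorem Ns_le_Na : Ns V ≤ Na V := by
  refine Submodule.span_le.2 ?_
  rintro _ ⟨p, rfl⟩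
  have h1 : p.1 ⊗ₜ[ZMod 2] p.2 + p.2 ⊗ₜ[ZMod 2] p.1 =
      (p.1 + p.2) ⊗ₜ[ZMod 2] (p.1 + p.2) - p.1 ⊗ₜ[ZMod 2] p.1 - p.2 ⊗ₜ[ZMod 2] p.2 := by
    rw [TensorProduct.add_tmul, TensorProduct.tmul_add, TensorProduct.tmul_add]
    abel
  show p.1 ⊗ₜ[ZMod 2] p.2 + p.2 ⊗ₜ[ZMod 2] p.1 ∈ Na V
  rw [h1]
  refine Submodule.sub_mem _ (Submodule.sub_mem _ ?_ ?_) ?_ <;>
    exact Submodule.subset_span ⟨_, rfl⟩

variable {ι : Type w} (b : Module.Basis ι (ZMod 2) V)

/-- The diagonal part. -/
def Dg : Submodule (ZMod 2) (V ⊗[ZMod 2] V) :=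
  Submodule.span (ZMod 2) ((b.tensorProduct b) '' {p : ι × ι | p.1 = p.2})

/-- The off-diagonal part. -/
def Wb : Submodule (ZMod 2) (V ⊗[ZMod 2] V) :=
  Submodule.span (ZMod 2) ((b.tensorProduct b) '' {p : ι × ι | p.1 ≠ p.2})

theorem Ns_le_Wb : Ns V ≤ Wb b := by
  classical
  let φ : V ⊗[ZMod 2] V →ₗ[ZMod 2] V ⊗[ZMod 2] V :=
    LinearMap.id + (TensorProduct.comm (ZMod 2) V V).toLinearMap
  have hφ : ∀ t, φ t ∈ Wb b := by
    intro t
    have ht : t ∈ Submodule.span (ZMod 2) (Set.range (b.tensorProduct b)) := by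
      rw [Module.Basis.span_eq]; trivial
    induction ht using Submodule.span_induction with
    | mem x hx =>
      obtain ⟨⟨i, j⟩, rfl⟩ := hx
      rw [Module.Basis.tensorProduct_apply]
      show b i ⊗ₜ[ZMod 2] b j + b j ⊗ₜ[ZMod 2] b i ∈ Wb b
      by_cases hij : i = j
      · subst hij
        rw [add_self_zero]
        exact Submodule.zero_mem _
      · refine Submodule.add_mem _ ?_ ?_
        · exact Submodule.subset_span ⟨(i, j), hij, Module.Basis.tensorProduct_apply b b i j⟩
        · exact Submodule.subset_span ⟨(j, i), fun h => hij h.symm,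
            Module.Basis.tensorProduct_apply b b j i⟩
    | zero => rw [map_zero]; exact Submodule.zero_mem _
    | add x y _ _ hx hy => rw [map_add]; exact Submodule.add_mem _ hx hy
    | smul c x _ hx => rw [map_smul]; exact Submodule.smul_mem _ _ hx
  refine Submodule.span_le.2 ?_
  rintro _ ⟨p, rfl⟩
  exact hφ (p.1 ⊗ₜ[ZMod 2] p.2)

theorem Na_eq : Na V = Dg b ⊔ Ns V := by
  apply le_antisymm
  · refine Submodule.span_le.2 ?_
    rintro _ ⟨v, rfl⟩
    have hv : v ∈ Submodule.span (ZMod 2) (Set.range b) := by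
      rw [Module.Basis.span_eq]; trivial
    show v ⊗ₜ[ZMod 2] v ∈ Dg b ⊔ Ns V
    induction hv using Submodule.span_induction with
    | mem x hx =>
      obtain ⟨i, rfl⟩ := hx
      exact Submodule.mem_sup_left (Submodule.subset_span
        ⟨(i, i), rfl, Module.Basis.tensorProduct_apply b b i i⟩)
    | zero => rw [TensorProduct.zero_tmul]; exact Submodule.zero_mem _
    | add x y _ _ hx hy =>
      have h1 : (x + y) ⊗ₜ[ZMod 2] (x + y) =
          x ⊗ₜ[ZMod 2] x + y ⊗ₜ[ZMod 2] y + (x ⊗ₜ[ZMod 2] y + y ⊗ₜ[ZMod 2] x) := by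
        rw [TensorProduct.add_tmul, TensorProduct.tmul_add, TensorProduct.tmul_add]
        abel
      rw [h1]
      exact Submodule.add_mem _ (Submodule.add_mem _ hx hy)
        (Submodule.mem_sup_right (Submodule.subset_span ⟨(x, y), rfl⟩))
    | smul c x _ hx =>
      rw [TensorProduct.smul_tmul_smul]
      exact Submodule.smul_mem _ _ hx
  · refine sup_le ?_ Ns_le_Na
    refine Submodule.span_le.2 ?_
    rintro _ ⟨⟨i, j⟩, hij, rfl⟩
    have hij' : i = j := hij
    subst hij'
    rw [Module.Basis.tensorProduct_apply]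
    exact Submodule.subset_span ⟨b i, rfl⟩

theorem disjoint_Dg_Wb : Disjoint (Dg b) (Wb b) := by
  refine (b.tensorProduct b).linearIndependent.disjoint_span_image ?_
  rw [Set.disjoint_left]
  intro p hp hp'
  exact hp' hp

theorem Wb_sup_Dg : Wb b ⊔ Dg b = ⊤ := by
  unfold Wb Dg
  rw [← Submodule.span_union, ← Set.image_union]
  have h1 : ({p : ι × ι | p.1 ≠ p.2} ∪ {p : ι × ι | p.1 = p.2}) = Set.univ := by
    ext p
    simp only [Set.mem_union, Set.mem_setOf_eq, Set.mem_univ, iff_true]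
    exact (em (p.1 = p.2)).symm.imp id id |>.symm.symm
  rw [h1, Set.image_univ, Module.Basis.span_eq]

theorem Wb_inf_Na : Wb b ⊓ Na V = Ns V := by
  rw [Na_eq b, inf_comm, sup_comm, sup_inf_assoc_of_le (Dg b) (Ns_le_Wb b),
    (disjoint_Dg_Wb b).eq_bot, sup_bot_eq]

theorem Wb_sup_Na : Wb b ⊔ Na V = ⊤ := by
  rw [eq_top_iff, ← Wb_sup_Dg b, Na_eq b]
  exact sup_le_sup_left le_sup_left _

end


/-- Let G be a group acting linearly on a vector space V over the field 𝔽₂ with two elements, and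
suppose V is a permutation module: G permutes the vectors of some basis of V. Then the short exact
sequence of G-modules 0 → V → S²V → Λ²V → 0 (v ↦ v·v, x·y ↦ x ∧ y) splits G-equivariantly. Here, for
a vector space V over the field with two elements carrying a linear action ρ of a group G, write N_a
⊆ V ⊗ V for the span of the tensors v ⊗ v and N_s ⊆ N_a for the span of the tensors x ⊗ y + y ⊗ x,
so that S²V = (V ⊗ V)/N_s, Λ²V = (V ⊗ V)/N_a and the surjection S²V → Λ²V, x·y ↦ x ∧ y, is
G-equivariant for the diagonal action; a G-equivariant linear section of this surjection is the same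
thing as a G-stable subspace W of V ⊗ V with W ∩ N_a = N_s and W + N_a = V ⊗ V, which is how the
splitting is stated. (The source has the absolute Galois group of a field acting continuously; any
group and any basis index set are allowed here.) -/
theorem result (G : Type u) [Group G] (V : Type v)
    [AddCommGroup V] [Module (ZMod 2) V] (ρ : Representation (ZMod 2) G V)
    (ι : Type w) (b : Module.Basis ι (ZMod 2) V) (hb : ∀ g : G, ∀ i : ι, ∃ j : ι, ρ g (b i) = b j) :
    ∃ W : Submodule (ZMod 2) (V ⊗[ZMod 2] V),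
      (∀ g : G, ∀ w ∈ W, ρ.tprod ρ g w ∈ W) ∧
      W ⊓ Submodule.span (ZMod 2) (Set.range fun v : V => v ⊗ₜ[ZMod 2] v) =
        Submodule.span (ZMod 2) (Set.range fun p : V × V => p.1 ⊗ₜ[ZMod 2] p.2 + p.2 ⊗ₜ[ZMod 2] p.1) ∧
      W ⊔ Submodule.span (ZMod 2) (Set.range fun v : V => v ⊗ₜ[ZMod 2] v) = ⊤ := by
  classical
  refine ⟨Wb b, ?_, Wb_inf_Na b, Wb_sup_Na b⟩
  intro g
  have hinj : Function.Injective (ρ g) := by
    intro x y hxy
    have h1 : ρ g⁻¹ (ρ g x) = ρ g⁻¹ (ρ g y) := by rw [hxy]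
    rw [← Module.End.mul_apply, ← Module.End.mul_apply, ← map_mul, inv_mul_cancel, map_one] at h1
    exact h1
  have hle : Wb b ≤ (Wb b).comap (ρ.tprod ρ g) := by
    refine Submodule.span_le.2 ?_
    rintro _ ⟨⟨i, j⟩, hij, rfl⟩
    obtain ⟨i', hi'⟩ := hb g i
    obtain ⟨j', hj'⟩ := hb g j
    show ρ.tprod ρ g ((b.tensorProduct b) (i, j)) ∈ Wb b
    rw [Module.Basis.tensorProduct_apply, Representation.tprod_apply, TensorProduct.map_tmul,
      hi', hj']
    refine Submodule.subset_span ⟨(i', j'), ?_, Module.Basis.tensorProduct_apply b b i' j'⟩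
    intro h
    have h' : i' = j' := h
    apply hij
    show i = j
    apply b.injective
    apply hinj
    rw [hi', hj', h']
  intro w hw
  exact hle hw

end Groth.Agent.S18548
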