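import Groth.Statements.S18549
import Mathlib

set_option autoImplicit false
open scoped TensorProduct
universe u v
open GalCoh

namespace Groth.Agent.S18549


universe w

open TensorProduct in
abbrev Na (V : Type*) [AddCommGroup V] [Module (ZMod 2) V] :
    Submodule (ZMod 2) (V ⊗[ZMod 2] V) :=
  Submodule.span (ZMod 2) (Set.range fun v : V => v ⊗ₜ[ZMod 2] v)

open TensorProduct in
abbrev Ns (V : Type*) [AddCommGroup V] [Module (ZMod 2) V] :
    Submodule (ZMod 2) (V ⊗[ZMod 2] V) :=
  Submodule.span (ZMod 2)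
    (Set.range fun p : V × V => p.1 ⊗ₜ[ZMod 2] p.2 + p.2 ⊗ₜ[ZMod 2] p.1)

open TensorProduct in
theorem Ns_le_Na {V : Type*} [AddCommGroup V] [Module (ZMod 2) V] : Ns V ≤ Na V := by
  refine Submodule.span_le.mpr ?_
  rintro _ ⟨⟨x, y⟩, rfl⟩
  have h : x ⊗ₜ[ZMod 2] y + y ⊗ₜ[ZMod 2] x =
      (x + y) ⊗ₜ[ZMod 2] (x + y) - x ⊗ₜ[ZMod 2] x - y ⊗ₜ[ZMod 2] y := by
    simp only [add_tmul, tmul_add]; abel
  change x ⊗ₜ[ZMod 2] y + y ⊗ₜ[ZMod 2] x ∈ Na V
  rw [h]
  exact Submodule.sub_mem _ (Submodule.sub_mem _ (Submodule.subset_span ⟨x + y, rfl⟩)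
    (Submodule.subset_span ⟨x, rfl⟩)) (Submodule.subset_span ⟨y, rfl⟩)

open TensorProduct in
theorem diag_mem_Na {V : Type*} [AddCommGroup V] [Module (ZMod 2) V] (v : V) :
    v ⊗ₜ[ZMod 2] v ∈ Na V := Submodule.subset_span ⟨v, rfl⟩

open TensorProduct in
theorem symm_mem_Ns {V : Type*} [AddCommGroup V] [Module (ZMod 2) V] (x y : V) :
    x ⊗ₜ[ZMod 2] y + y ⊗ₜ[ZMod 2] x ∈ Ns V := Submodule.subset_span ⟨(x, y), rfl⟩

theorem zmod2_cases (a : ZMod 2) : a = 0 ∨ a = 1 := by
  revert a; decide

theorem zmod2_mul_self (a : ZMod 2) : a * a = a := by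
  revert a; decide

theorem exists_bool (n : ℕ) : ∀ (V : Type w) [AddCommGroup V] [Module (ZMod 2) V]
    [Module.Finite (ZMod 2) V] (s : V →ₗ[ZMod 2] V), (∀ x, s (s x) = x) →
    Module.finrank (ZMod 2) V = n →
    ∃ β : V →ₗ[ZMod 2] V →ₗ[ZMod 2] V, (∀ x y, β x y = β y x) ∧ (∀ x, β x x = x) ∧
      (∀ x y, β (s x) (s y) = s (β x y)) := by
  induction n using Nat.strong_induction_on with
  | _ n ih =>
  intro V _ _ _ s hs hn
  by_cases h : ∃ v, s v ≠ v
  · obtain ⟨v, hv⟩ := h
    have hnot : v ∉ Submodule.span (ZMod 2) {s v} := by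
      rw [Submodule.mem_span_singleton]
      rintro ⟨a, ha⟩
      rcases zmod2_cases a with rfl | rfl
      · rw [zero_smul] at ha
        apply hv; rw [← ha, map_zero]
      · rw [one_smul] at ha; exact hv ha
    obtain ⟨l, hlv, hl⟩ := Submodule.exists_le_ker_of_notMem hnot
    have hlsv : l (s v) = 0 := hl (Submodule.mem_span_singleton_self _)
    have hlv1 : l v = 1 := (zmod2_cases _).resolve_left hlv
    obtain ⟨r, hr⟩ : ∃ r : V →ₗ[ZMod 2] V, ∀ x, r x = l x • v + l (s x) • s v :=
      ⟨l.smulRight v + (l.comp s).smulRight (s v), fun x => by simp⟩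
    have hrv : r v = v := by rw [hr, hlv1, hlsv, one_smul, zero_smul, add_zero]
    have hrsv : r (s v) = s v := by rw [hr, hs, hlsv, hlv1, zero_smul, one_smul, zero_add]
    have hrr : ∀ x, r (r x) = r x := by
      intro x
      conv_lhs => rw [hr x]
      rw [map_add, map_smul, map_smul, hrv, hrsv, ← hr]
    have hrs : ∀ x, r (s x) = s (r x) := by
      intro x
      rw [hr, hr, hs, map_add, map_smul, map_smul, hs, add_comm]
    have hstab : ∀ x ∈ LinearMap.ker r, s x ∈ LinearMap.ker r := by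
      intro x hx
      rw [LinearMap.mem_ker] at hx ⊢
      rw [hrs, hx, map_zero]
    obtain ⟨s', hs'⟩ : ∃ s' : LinearMap.ker r →ₗ[ZMod 2] LinearMap.ker r,
        ∀ x, (s' x : V) = s x := ⟨s.restrict hstab, fun x => rfl⟩
    obtain ⟨π, hπ⟩ : ∃ π : V →ₗ[ZMod 2] LinearMap.ker r, ∀ x, (π x : V) = x - r x :=
      ⟨(LinearMap.id - r).codRestrict _ (fun x => by
        rw [LinearMap.mem_ker, LinearMap.sub_apply, LinearMap.id_apply, map_sub, hrr,
          sub_self]), fun x => rfl⟩
    have hlt : Module.finrank (ZMod 2) (LinearMap.ker r) < n := by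
      rw [← hn]
      apply Submodule.finrank_lt
      intro htop
      have hmem : v ∈ LinearMap.ker r := htop ▸ Submodule.mem_top
      rw [LinearMap.mem_ker, hrv] at hmem
      apply hv; rw [hmem, map_zero]
    obtain ⟨β', hsym', hdiag', hequiv'⟩ := ih _ hlt (LinearMap.ker r) s'
      (fun x => Subtype.ext (by rw [hs', hs', hs])) rfl
    have hπs : ∀ z, π (s z) = s' (π z) := fun z =>
      Subtype.ext (by rw [hπ, hs', hπ, map_sub, hrs])
    refine ⟨LinearMap.mk₂ (ZMod 2) (fun x y => (l x * l y) • v + (l (s x) * l (s y)) • s v +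
      (β' (π x) (π y) : V)) ?_ ?_ ?_ ?_, ?_, ?_, ?_⟩
    · intro x x' y
      simp only [map_add, LinearMap.add_apply, Submodule.coe_add, add_mul, add_smul]; abel
    · intro c x y
      simp only [map_smul, LinearMap.smul_apply, Submodule.coe_smul, smul_eq_mul, smul_add,
        smul_smul, mul_assoc]
    · intro x y y'
      simp only [map_add, Submodule.coe_add, mul_add, add_smul]; abel
    · intro c x y
      simp only [map_smul, Submodule.coe_smul, smul_eq_mul, smul_add, smul_smul]
      congr 2 <;> ring_nf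
    · intro x y
      simp only [LinearMap.mk₂_apply]
      rw [mul_comm (l x), mul_comm (l (s x)), hsym']
    · intro x
      simp only [LinearMap.mk₂_apply]
      rw [zmod2_mul_self, zmod2_mul_self, hdiag', hπ, ← hr]; abel
    · intro x y
      simp only [LinearMap.mk₂_apply]
      rw [hs, hs, hπs, hπs, hequiv', hs', map_add, map_add, map_smul, map_smul, hs]
      abel
  · push Not at h
    obtain ⟨b⟩ : Nonempty (Module.Basis (Fin (Module.finrank (ZMod 2) V)) (ZMod 2) V) :=
      ⟨Module.finBasis _ _⟩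
    refine ⟨LinearMap.mk₂ (ZMod 2) (fun x y => ∑ i, (b.repr x i * b.repr y i) • b i)
      ?_ ?_ ?_ ?_, ?_, ?_, ?_⟩
    · intro x x' y
      simp only [map_add, Finsupp.add_apply, add_mul, add_smul, Finset.sum_add_distrib]
    · intro c x y
      simp only [map_smul, Finsupp.smul_apply, smul_eq_mul, Finset.smul_sum, smul_smul,
        mul_assoc]
    · intro x y y'
      simp only [map_add, Finsupp.add_apply, mul_add, add_smul, Finset.sum_add_distrib]
    · intro c x y
      simp only [map_smul, Finsupp.smul_apply, smul_eq_mul, Finset.smul_sum, smul_smul]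
      refine Finset.sum_congr rfl fun i _ => ?_
      congr 1; ring
    · intro x y
      simp only [LinearMap.mk₂_apply]
      refine Finset.sum_congr rfl fun i _ => ?_
      rw [mul_comm]
    · intro x
      simp only [LinearMap.mk₂_apply, zmod2_mul_self]
      exact b.sum_repr x
    · intro x y
      rw [h, h, h]

open TensorProduct in
theorem main (G : Type*) [Group G] (hG : Nat.card G = 2)
    (V : Type w) [AddCommGroup V] [Module (ZMod 2) V] [Module.Finite (ZMod 2) V]
    (ρ : Representation (ZMod 2) G V) :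
    ∃ W : Submodule (ZMod 2) (V ⊗[ZMod 2] V),
      (∀ g : G, ∀ w ∈ W, ρ.tprod ρ g w ∈ W) ∧ W ⊓ Na V = Ns V ∧ W ⊔ Na V = ⊤ := by
  obtain ⟨σ, hσ1, hσu⟩ := (Nat.card_eq_two_iff' (1 : G)).mp hG
  have hall : ∀ g : G, g = 1 ∨ g = σ := fun g => by
    by_cases hg : g = 1
    · exact Or.inl hg
    · exact Or.inr (hσu g hg)
  have hσσ : σ * σ = 1 := by
    rcases hall (σ * σ) with h | h
    · exact h
    · exact absurd (mul_left_cancel (a := σ) (by rw [h, mul_one])) hσ1
  obtain ⟨β, hsym, hdiag, hequivσ⟩ := exists_bool _ V (ρ σ) (fun x => by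
    rw [← Module.End.mul_apply, ← map_mul, hσσ, map_one, Module.End.one_apply]) rfl
  have hequiv : ∀ g x y, β (ρ g x) (ρ g y) = ρ g (β x y) := by
    intro g x y
    rcases hall g with rfl | rfl
    · simp only [map_one, Module.End.one_apply]
    · exact hequivσ x y
  obtain ⟨r, hr⟩ : ∃ r : V ⊗[ZMod 2] V →ₗ[ZMod 2] V, ∀ x y, r (x ⊗ₜ y) = β x y :=
    ⟨TensorProduct.lift β, fun x y => TensorProduct.lift.tmul x y⟩
  have hrg : ∀ g u, r (TensorProduct.map (ρ g) (ρ g) u) = ρ g (r u) := by
    intro g u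
    induction u using TensorProduct.induction_on with
    | zero => simp
    | tmul x y => rw [TensorProduct.map_tmul, hr, hr, hequiv]
    | add a b ha hb => simp only [map_add, ha, hb]
  have hNs : Ns V ≤ LinearMap.ker r := by
    refine Submodule.span_le.mpr ?_
    rintro _ ⟨⟨x, y⟩, rfl⟩
    simp only [SetLike.mem_coe, LinearMap.mem_ker, map_add, hr]
    rw [hsym y x]; exact ZModModule.add_self _
  have hNa : ∀ u ∈ Na V, u - r u ⊗ₜ[ZMod 2] r u ∈ Ns V := by
    intro u hu
    induction hu using Submodule.span_induction with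
    | mem u hu =>
      obtain ⟨v, rfl⟩ := hu
      simp only [hr, hdiag, sub_self]; exact Submodule.zero_mem _
    | zero => simp
    | add a b _ _ ha hb =>
      have e : a + b - r (a + b) ⊗ₜ[ZMod 2] r (a + b) =
          (a - r a ⊗ₜ[ZMod 2] r a) + (b - r b ⊗ₜ[ZMod 2] r b) -
            (r a ⊗ₜ[ZMod 2] r b + r b ⊗ₜ[ZMod 2] r a) := by
        rw [map_add]; simp only [add_tmul, tmul_add]; abel
      rw [e]
      exact Submodule.sub_mem _ (Submodule.add_mem _ ha hb) (symm_mem_Ns _ _)
    | smul c a _ ha =>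
      rcases zmod2_cases c with rfl | rfl
      · simp
      · simpa using ha
  refine ⟨LinearMap.ker r, ?_, ?_, ?_⟩
  · intro g w hw
    rw [LinearMap.mem_ker] at hw ⊢
    rw [Representation.tprod_apply, hrg, hw, map_zero]
  · apply le_antisymm
    · rintro u ⟨hu1, hu2⟩
      have h3 := hNa u hu2
      have h4 : r u = 0 := hu1
      rw [h4, zero_tmul, sub_zero] at h3
      exact h3
    · exact le_inf hNs Ns_le_Na
  · rw [Submodule.eq_top_iff']
    intro u
    rw [Submodule.mem_sup]
    refine ⟨u - r u ⊗ₜ[ZMod 2] r u, ?_, r u ⊗ₜ[ZMod 2] r u, diag_mem_Na _, sub_add_cancel _ _⟩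
    rw [LinearMap.mem_ker, map_sub, hr, hdiag, sub_self]

/-- Over the real numbers, that is for the group G = Gal(ℂ/ℝ) of order 2 acting linearly on a
finite-dimensional vector space V over the field 𝔽₂ with two elements, the short exact sequence of
G-modules 0 → V → S²V → Λ²V → 0 (v ↦ v·v, x·y ↦ x ∧ y) splits G-equivariantly. Here, for a vector
space V over the field with two elements carrying a linear action ρ of a group G, write N_a ⊆ V ⊗ V
for the span of the tensors v ⊗ v and N_s ⊆ N_a for the span of the tensors x ⊗ y + y ⊗ x, so that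
S²V = (V ⊗ V)/N_s, Λ²V = (V ⊗ V)/N_a and the surjection S²V → Λ²V, x·y ↦ x ∧ y, is G-equivariant for
the diagonal action; a G-equivariant linear section of this surjection is the same thing as a
G-stable subspace W of V ⊗ V with W ∩ N_a = N_s and W + N_a = V ⊗ V, which is how the splitting is
stated. (G is any group of order 2 here; V is taken finite-dimensional, the case covered by the
structure theory of finitely generated modules over 𝔽₂[G] that the argument uses.) -/
theorem result (G : Type u) [Group G] (hG : Nat.card G = 2)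
    (V : Type v) [AddCommGroup V] [Module (ZMod 2) V] [Module.Finite (ZMod 2) V]
    (ρ : Representation (ZMod 2) G V) :
    ∃ W : Submodule (ZMod 2) (V ⊗[ZMod 2] V),
      (∀ g : G, ∀ w ∈ W, ρ.tprod ρ g w ∈ W) ∧
      W ⊓ Submodule.span (ZMod 2) (Set.range fun v : V => v ⊗ₜ[ZMod 2] v) =
        Submodule.span (ZMod 2) (Set.range fun p : V × V => p.1 ⊗ₜ[ZMod 2] p.2 + p.2 ⊗ₜ[ZMod 2] p.1) ∧
      W ⊔ Submodule.span (ZMod 2) (Set.range fun v : V => v ⊗ₜ[ZMod 2] v) = ⊤ := by
  exact main G hG V ρ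

end Groth.Agent.S18549
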