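import Groth.Statements.S18550
import Mathlib.Algebra.Homology.DerivedCategory.TStructure
import Mathlib.Algebra.Homology.DerivedCategory.FullyFaithful
import Mathlib.CategoryTheory.Triangulated.TStructure.TruncLTGE

set_option autoImplicit false
open CategoryTheory Limits
universe w v u
open CohDer

namespace Groth.Agent.S18550

open DerivedCategory Pretriangulated Triangulated

section

variable {A : Type u} [Category.{v} A] [Abelian A] [HasDerivedCategory.{w} A]

/-- A ghost endomorphism of an object concentrated in a single degree vanishes. -/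
theorem base (X : DerivedCategory A) (a : ℤ) [X.IsGE a] [X.IsLE a] (f : X ⟶ X)
    (hf : (homologyFunctor A a).map f = 0) : f = 0 := by
  obtain ⟨Y, ⟨e⟩⟩ := exists_iso_singleFunctor_obj_of_isGE_of_isLE X a
  obtain ⟨g, hg⟩ := (singleFunctor A a).map_surjective (e.inv ≫ f ≫ e.hom)
  have hg0 : g = 0 := by
    have eq := NatIso.naturality_1 (singleFunctorCompHomologyFunctorIso A a) g
    dsimp at eq
    rw [← eq, hg, Functor.map_comp, Functor.map_comp, hf]
    simp
  have h0 : e.inv ≫ f ≫ e.hom = 0 := by rw [← hg, hg0, Functor.map_zero]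
  have h1 : f = e.hom ≫ (e.inv ≫ f ≫ e.hom) ≫ e.inv := by simp
  rw [h1, h0]
  simp

theorem pow_comp_comm {C : Type*} [Category C] {X Y : C} (f : End X) (g : End Y) (π : X ⟶ Y)
    (h : f ≫ π = π ≫ g) (k : ℕ) : ((f ^ k : End X) : X ⟶ X) ≫ π = π ≫ ((g ^ k : End Y) : Y ⟶ Y) := by
  induction k with
  | zero => simp [End.one_def]
  | succ k ih =>
    rw [pow_succ, pow_succ, End.mul_def, End.mul_def, Category.assoc, ih, ← Category.assoc, h,
      Category.assoc]

theorem main (n : ℕ) : ∀ (a : ℤ) (X : DerivedCategory A) [X.IsGE a] [X.IsLE (a + n)] (f : End X)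
    (_ : ∀ i : ℤ, (homologyFunctor A i).map f = 0), f ^ (n + 1) = 0 := by
  induction n with
  | zero =>
    intro a X _ hLE f hf
    have : X.IsLE a := by simpa using hLE
    have h0 : (f : X ⟶ X) = 0 := base X a f (hf a)
    rw [zero_add, pow_one]
    exact h0
  | succ n ih =>
    intro a X hGE hLE f hf
    let t : TStructure (DerivedCategory A) := TStructure.t
    have hT := t.triangleLTGE_distinguished (a + 1) X
    have hι : (t.truncLT (a + 1)).map f ≫ (t.truncLTι (a + 1)).app X =
        (t.truncLTι (a + 1)).app X ≫ f := (t.truncLTι (a + 1)).naturality f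
    have hπ : f ≫ (t.truncGEπ (a + 1)).app X =
        (t.truncGEπ (a + 1)).app X ≫ (t.truncGE (a + 1)).map f :=
      (t.truncGEπ (a + 1)).naturality f
    have i1 : ((t.truncLT (a + 1)).obj X).IsGE a := inferInstance
    have i2 : ((t.truncLT (a + 1)).obj X).IsLE a := inferInstance
    have i3 : ((t.truncGE (a + 1)).obj X).IsGE (a + 1) := inferInstance
    have i4 : ((t.truncGE (a + 1)).obj X).IsLE (a + 1 + n) := by
      have : X.IsLE (a + 1 + n) := t.isLE_of_le X (a + ((n + 1 : ℕ) : ℤ)) _ (by push_cast; lia)
      infer_instance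
    -- the truncation below is a ghost
    have hf₁ : (homologyFunctor A a).map ((t.truncLT (a + 1)).map f) = 0 := by
      have hmono : Mono ((homologyFunctor A a).map ((t.truncLTι (a + 1)).app X)) := by
        refine (HomologySequence.mono_homologyMap_mor₁_iff _ hT (a - 1) a (by lia)).2 ?_
        apply IsZero.eq_of_src
        exact isZero_of_isGE ((t.truncGE (a + 1)).obj X) (a + 1) (a - 1) (by lia)
      rw [← cancel_mono ((homologyFunctor A a).map ((t.truncLTι (a + 1)).app X)), zero_comp,
        ← Functor.map_comp, hι, Functor.map_comp, hf, comp_zero]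
    have h1 : (t.truncLT (a + 1)).map f = 0 := base _ a _ hf₁
    -- the truncation above is a ghost
    have hf₃ : ∀ i : ℤ, (homologyFunctor A i).map ((t.truncGE (a + 1)).map f) = 0 := by
      intro i
      by_cases hi : i < a + 1
      · apply IsZero.eq_of_src
        exact isZero_of_isGE ((t.truncGE (a + 1)).obj X) (a + 1) i hi
      · have hepi : Epi ((homologyFunctor A i).map ((t.truncGEπ (a + 1)).app X)) := by
          refine (HomologySequence.epi_homologyMap_mor₂_iff _ hT i (i + 1) rfl).2 ?_
          apply IsZero.eq_of_tgt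
          exact isZero_of_isLE ((t.truncLT (a + 1)).obj X) a (i + 1) (by lia)
        rw [← cancel_epi ((homologyFunctor A i).map ((t.truncGEπ (a + 1)).app X)), comp_zero,
          ← Functor.map_comp, ← hπ, Functor.map_comp, hf, zero_comp]
    have h3 := ih (a + 1) ((t.truncGE (a + 1)).obj X) ((t.truncGE (a + 1)).map f) hf₃
    have h4 : ((f ^ (n + 1) : End X) : X ⟶ X) ≫ (t.truncGEπ (a + 1)).app X = 0 := by
      rw [pow_comp_comm f _ _ hπ (n + 1), h3]
      exact comp_zero
    obtain ⟨g, hg⟩ : ∃ g : X ⟶ (t.truncLT (a + 1)).obj X,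
        ((f ^ (n + 1) : End X) : X ⟶ X) = g ≫ (t.truncLTι (a + 1)).app X :=
      Triangle.coyoneda_exact₂ _ hT _ h4
    rw [pow_succ', End.mul_def, hg, Category.assoc, ← hι, h1, zero_comp, comp_zero]

end


/-- Let A be an abelian category, X an object of its derived category whose cohomology objects H^i(X)
are zero for all integers i outside the interval [a, a + n], and f : X → X an endomorphism in the
derived category such that H^i(f) = 0 for every i. Then f^(n+1) = 0. (The source works in the
bounded derived category; the statement in D(A) for an object with cohomology bounded in this way is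
the same assertion, the bounded derived category being a full subcategory.) -/
theorem result (A : Type u) [Category.{v} A] [Abelian A]
    [HasDerivedCategory.{w} A] (X : DerivedCategory A) (a : ℤ) (n : ℕ)
    (hX : ∀ i : ℤ, i < a ∨ a + n < i → IsZero ((DerivedCategory.homologyFunctor A i).obj X))
    (f : CategoryTheory.End X) (hf : ∀ i : ℤ, (DerivedCategory.homologyFunctor A i).map f = 0) :
    f ^ (n + 1) = 0 := by
  have h1 : X.IsGE a := (isGE_iff X a).2 (fun i hi => hX i (Or.inl hi))
  have h2 : X.IsLE (a + n) := (isLE_iff X (a + n)).2 (fun i hi => hX i (Or.inr hi))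
  exact main n a X f hf

end Groth.Agent.S18550
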