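import Groth.Statements.S18560
import Mathlib.LinearAlgebra.FiniteDimensional.Basic
import Mathlib.LinearAlgebra.Dimension.FreeAndStrongRankCondition
import Mathlib.LinearAlgebra.Dimension.Constructions
import Mathlib.Algebra.Order.BigOperators.Group.Finset

set_option autoImplicit false
universe u v
open PtQuiv

namespace Groth.Agent.S18560

/-- Let K be a field and s i ∈ K² (i in a finite index type) nonzero vectors, regarded as a
representation of the quiver with a central vertex carrying the plane and one vertex per i carrying
a line that maps to the plane by 1 ↦ s i. For a weight θ in the hypersimplex (0 ≤ θ i ≤ 1, Σ θ i =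
2, central weight -1) the representation is θ-semistable if and only if, for every vector v, the
indices i with s i on the line K ∙ v have total weight at most 1. (The published statement is over
an algebraically closed field, assumes semistability for some interior weight instead of s i ≠ 0,
and phrases the bound through the classes of pairwise proportional s i; any field is allowed here.
Its further assertion that the bounding walls, where the total weight of one proportionality class
equals 1, do not meet in the interior of the hypersimplex is not part of this row.) -/
theorem result (K : Type u) [Field K] (ι : Type v) [Fintype ι]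
    (s : ι → (Fin 2 → K)) (hs : ∀ i, s i ≠ 0) (θ : ι → ℚ) (h0 : ∀ i, 0 ≤ θ i)
    (h1 : ∀ i, θ i ≤ 1) (h2 : ∑ i, θ i = 2) :
    PtQuiv.QSemistable (-1) θ s ↔
      ∀ (J : Finset ι) (v : Fin 2 → K), (∀ i ∈ J, s i ∈ K ∙ v) → ∑ i ∈ J, θ i ≤ 1 := by
  classical
  constructor
  · rintro ⟨-, hss⟩ J v hJ
    rcases J.eq_empty_or_nonempty with rfl | ⟨i, hi⟩
    · simp
    · have hv : v ≠ 0 := by
        rintro rfl
        have := hJ i hi
        rw [Submodule.span_zero_singleton, Submodule.mem_bot] at this
        exact hs i this
      have hw := hss (K ∙ v) J hJ
      unfold PtQuiv.QWt at hw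
      rw [finrank_span_singleton hv] at hw
      push_cast at hw
      linarith
  · intro H
    refine ⟨by rw [h2]; norm_num, ?_⟩
    intro L I hLI
    unfold PtQuiv.QWt
    have hle : Module.finrank K L ≤ 2 := by
      have := Submodule.finrank_le L
      rwa [Module.finrank_fin_fun] at this
    have hI2 : ∑ i ∈ I, θ i ≤ 2 := by
      rw [← h2]
      exact Finset.sum_le_univ_sum_of_nonneg h0
    have hcases : Module.finrank K L = 0 ∨ Module.finrank K L = 1 ∨ Module.finrank K L = 2 := by
      omega
    rcases hcases with hfr | hfr | hfr <;> rw [hfr]
    · have hbot : L = ⊥ := Submodule.finrank_eq_zero.mp hfr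
      have hIe : I = ∅ := by
        rw [Finset.eq_empty_iff_forall_notMem]
        intro i hi
        have := hLI i hi
        rw [hbot, Submodule.mem_bot] at this
        exact hs i this
      subst hIe
      simp
    · obtain ⟨v, -, hv⟩ := finrank_eq_one_iff'.mp hfr
      have hJ : ∀ i ∈ I, s i ∈ K ∙ (v : Fin 2 → K) := by
        intro i hi
        obtain ⟨c, hc⟩ := hv ⟨s i, hLI i hi⟩
        rw [Submodule.mem_span_singleton]
        exact ⟨c, by simpa using congrArg Subtype.val hc⟩
      have := H I v hJ
      push_cast
      linarith
    · push_cast
      linarith

end Groth.Agent.S18560
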