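import Groth.Statements.S18561
import Mathlib.LinearAlgebra.FiniteDimensional.Basic
import Mathlib.LinearAlgebra.Dimension.FreeAndStrongRankCondition
import Mathlib.LinearAlgebra.Dimension.Constructions
import Mathlib.Algebra.Order.BigOperators.Group.Finset
import Mathlib.Algebra.BigOperators.Group.Finset.Piecewise
import Mathlib.Tactic.Linarith
import Mathlib.Tactic.FieldSimp
import Mathlib.Algebra.Order.Field.Basic
import Mathlib.Tactic.Positivity

set_option autoImplicit false
universe u v
open PtQuiv

namespace Groth.Agent.S18561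

theorem span_symm {K : Type*} [Field K] {v w : Fin 2 → K} (hv : v ≠ 0) (h : v ∈ K ∙ w) :
    w ∈ K ∙ v := by
  obtain ⟨c, rfl⟩ := Submodule.mem_span_singleton.mp h
  have hc : c ≠ 0 := by
    rintro rfl
    exact hv (zero_smul _ _)
  rw [Submodule.mem_span_singleton]
  exact ⟨c⁻¹, by rw [smul_smul, inv_mul_cancel₀ hc, one_smul]⟩

theorem span_common {K : Type*} [Field K] {u v w : Fin 2 → K} (hu : u ≠ 0) (h1 : u ∈ K ∙ w)
    (h2 : v ∈ K ∙ w) : v ∈ K ∙ u := by
  have hw : w ∈ K ∙ u := span_symm hu h1
  have hle : (K ∙ w) ≤ (K ∙ u) := by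
    rw [Submodule.span_singleton_le_iff_mem]
    exact hw
  exact hle h2

theorem finrank_cases {K : Type*} [Field K] (L : Submodule K (Fin 2 → K)) :
    L = ⊥ ∨ (∃ v : Fin 2 → K, v ≠ 0 ∧ L = K ∙ v) ∨ L = ⊤ := by
  have hle : Module.finrank K L ≤ 2 := by
    have := Submodule.finrank_le L
    rwa [Module.finrank_fin_fun] at this
  have hcases : Module.finrank K L = 0 ∨ Module.finrank K L = 1 ∨ Module.finrank K L = 2 := by
    omega
  rcases hcases with hfr | hfr | hfr
  · exact Or.inl (Submodule.finrank_eq_zero.mp hfr)
  · right; left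
    obtain ⟨v, hv0, hv⟩ := finrank_eq_one_iff'.mp hfr
    refine ⟨(v : Fin 2 → K), fun h => hv0 (Subtype.ext h), ?_⟩
    apply le_antisymm
    · intro w hw
      obtain ⟨c, hc⟩ := hv ⟨w, hw⟩
      rw [Submodule.mem_span_singleton]
      exact ⟨c, by simpa using congrArg Subtype.val hc⟩
    · rw [Submodule.span_singleton_le_iff_mem]
      exact v.2
  · right; right
    apply Submodule.eq_top_of_finrank_eq
    rw [hfr, Module.finrank_fin_fun]

theorem sum_theta {ι : Type*} [DecidableEq ι] (T I : Finset ι) (a δ : ℚ) :
    ∑ l ∈ I, (if l ∈ T then a else δ) = a * ((I ∩ T).card : ℚ) + δ * ((I \ T).card : ℚ) := by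
  rw [Finset.sum_ite, Finset.sum_const, Finset.sum_const, Finset.filter_mem_eq_inter,
    Finset.filter_notMem_eq_sdiff, nsmul_eq_mul, nsmul_eq_mul]
  ring


/-- Let K be a field and s i ∈ K² (i in a finite index type) nonzero vectors, regarded as a
representation of the quiver with a central vertex carrying the plane and one vertex per i carrying
a line mapping to the plane by 1 ↦ s i. Then the representation is stable for some weight of the
hypersimplex (0 ≤ θ i ≤ 1, Σ θ i = 2, central weight -1) if and only if the s i fall into at least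
three proportionality classes, i.e. three of them are pairwise non-proportional. (The published
statement is over an algebraically closed field and assumes semistability for some interior weight
instead of s i ≠ 0; any field is allowed here. Its further assertions, that the set of semistability
weights is full-dimensional exactly in this case and is a wall otherwise, are not part of this row.) -/
theorem result (K : Type u) [Field K] (ι : Type v)
    [Fintype ι] (s : ι → (Fin 2 → K)) (hs : ∀ i, s i ≠ 0) :
    (∃ θ : ι → ℚ, (∀ i, 0 ≤ θ i) ∧ (∀ i, θ i ≤ 1) ∧ ∑ i, θ i = 2 ∧ PtQuiv.QStable (-1) θ s) ↔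
      ∃ i j k : ι, s i ∉ K ∙ s j ∧ s j ∉ K ∙ s k ∧ s i ∉ K ∙ s k := by
  classical
  constructor
  · rintro ⟨θ, h0, h1, h2, ⟨-, hss⟩, hst⟩
    have hne : Nonempty ι := by
      by_contra hne
      rw [not_nonempty_iff] at hne
      rw [Finset.univ_eq_empty, Finset.sum_empty] at h2
      norm_num at h2
    obtain ⟨i₀⟩ := hne
    have hline : ∀ v : Fin 2 → K, v ≠ 0 →
        ∑ l ∈ Finset.univ.filter (fun l => s l ∈ K ∙ v), θ l < 1 := by
      intro v hv
      have hsub : PtQuiv.QSubrep s (K ∙ v) (Finset.univ.filter (fun l => s l ∈ K ∙ v)) := by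
        intro l hl
        exact (Finset.mem_filter.mp hl).2
      have hle := hss _ _ hsub
      unfold PtQuiv.QWt at hle
      rw [finrank_span_singleton hv] at hle
      push_cast at hle
      rcases lt_or_eq_of_le (show ∑ l ∈ Finset.univ.filter (fun l => s l ∈ K ∙ v), θ l ≤ 1 by
        linarith) with hlt | heq
      · exact hlt
      · exfalso
        have hw0 : PtQuiv.QWt K (-1) θ (K ∙ v) (Finset.univ.filter (fun l => s l ∈ K ∙ v)) = 0 := by
          unfold PtQuiv.QWt
          rw [finrank_span_singleton hv, heq]
          norm_num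
        rcases hst _ _ hsub hw0 with ⟨hbot, -⟩ | ⟨htop, -⟩
        · have : v ∈ K ∙ v := Submodule.mem_span_singleton_self v
          rw [hbot, Submodule.mem_bot] at this
          exact hv this
        · have h1' : Module.finrank K (K ∙ v) = 1 := finrank_span_singleton hv
          rw [htop, finrank_top, Module.finrank_fin_fun] at h1'
          omega
    have h1lt := hline (s i₀) (hs i₀)
    obtain ⟨j₀, hj₀⟩ : ∃ j₀, s j₀ ∉ K ∙ s i₀ := by
      by_contra hcon
      push Not at hcon
      have : Finset.univ.filter (fun l => s l ∈ K ∙ s i₀) = Finset.univ := by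
        ext l; simp [hcon l]
      rw [this, h2] at h1lt
      norm_num at h1lt
    have h2lt := hline (s j₀) (hs j₀)
    obtain ⟨k₀, hk₀⟩ : ∃ k₀, s k₀ ∉ K ∙ s i₀ ∧ s k₀ ∉ K ∙ s j₀ := by
      by_contra hcon
      push Not at hcon
      have hun : Finset.univ.filter (fun l => s l ∈ K ∙ s i₀) ∪
          Finset.univ.filter (fun l => s l ∈ K ∙ s j₀) = Finset.univ := by
        ext l
        simp only [Finset.mem_union, Finset.mem_filter, Finset.mem_univ, true_and, iff_true]
        by_cases h : s l ∈ K ∙ s i₀
        · exact Or.inl h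
        · exact Or.inr (hcon l h)
      have hsum := Finset.sum_union_inter (s₁ := Finset.univ.filter (fun l => s l ∈ K ∙ s i₀))
        (s₂ := Finset.univ.filter (fun l => s l ∈ K ∙ s j₀)) (f := θ)
      rw [hun, h2] at hsum
      have hnn : 0 ≤ ∑ l ∈ Finset.univ.filter (fun l => s l ∈ K ∙ s i₀) ∩
          Finset.univ.filter (fun l => s l ∈ K ∙ s j₀), θ l :=
        Finset.sum_nonneg (fun l _ => h0 l)
      linarith
    exact ⟨k₀, j₀, i₀, hk₀.2, hj₀, hk₀.1⟩
  · rintro ⟨i, j, k, hij, hjk, hik⟩
    have hij' : i ≠ j := by rintro rfl; exact hij (Submodule.mem_span_singleton_self _)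
    have hjk' : j ≠ k := by rintro rfl; exact hjk (Submodule.mem_span_singleton_self _)
    have hik' : i ≠ k := by rintro rfl; exact hik (Submodule.mem_span_singleton_self _)
    let T : Finset ι := {i, j, k}
    have hT : T.card = 3 := by
      simp only [T]
      rw [Finset.card_insert_of_notMem (by simp [hij', hik']),
        Finset.card_insert_of_notMem (by simp [hjk']), Finset.card_singleton]
    have hNle : 3 ≤ Fintype.card ι := by
      rw [← hT]; exact Finset.card_le_univ T
    have hNpos : (0 : ℚ) < (Fintype.card ι : ℚ) := by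
      have : 0 < Fintype.card ι := by omega
      exact_mod_cast this
    have hN3 : (3 : ℚ) ≤ (Fintype.card ι : ℚ) := by exact_mod_cast hNle
    set N : ℚ := (Fintype.card ι : ℚ) with hNdef
    set δ : ℚ := 1 / (4 * N) with hδdef
    set a : ℚ := (2 - (N - 3) * δ) / 3 with hadef
    have h4N : 0 < 4 * N := by linarith
    have hδpos : 0 < δ := by rw [hδdef]; exact div_pos one_pos h4N
    have hmδ : (N - 3) * δ < 1 / 4 := by
      rw [hδdef, mul_one_div, div_lt_iff₀ h4N]
      linarith
    have hmδ0 : 0 ≤ (N - 3) * δ := mul_nonneg (by linarith) hδpos.le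
    have hδle : δ ≤ 1 := by
      rw [hδdef, div_le_one h4N]
      linarith
    have ha1 : 7 / 12 < a := by rw [hadef]; linarith
    have ha2 : a ≤ 2 / 3 := by rw [hadef]; linarith
    have hcompl : ((Finset.univ \ T).card : ℚ) = N - 3 := by
      rw [Finset.card_sdiff_of_subset (Finset.subset_univ T), Finset.card_univ, hT,
        Nat.cast_sub hNle, hNdef]
      norm_num
    have hsdiff_le : ∀ I : Finset ι, ((I \ T).card : ℚ) ≤ N - 3 := by
      intro I
      rw [← hcompl]
      exact_mod_cast Finset.card_le_card (Finset.sdiff_subset_sdiff (Finset.subset_univ I) le_rfl)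
    have hcard : ∀ (v : Fin 2 → K) (I : Finset ι), (∀ l ∈ I, s l ∈ K ∙ v) → (I ∩ T).card ≤ 1 := by
      intro v I hI
      by_contra hgt
      rw [not_le] at hgt
      obtain ⟨l₁, h1, l₂, h2, hne⟩ := Finset.one_lt_card.mp hgt
      have hl₁ := Finset.mem_inter.mp h1
      have hl₂ := Finset.mem_inter.mp h2
      have p12 : s l₂ ∈ K ∙ s l₁ := span_common (hs l₁) (hI l₁ hl₁.1) (hI l₂ hl₂.1)
      have p21 : s l₁ ∈ K ∙ s l₂ := span_common (hs l₂) (hI l₂ hl₂.1) (hI l₁ hl₁.1)
      have m1 := hl₁.2
      have m2 := hl₂.2
      simp only [T, Finset.mem_insert, Finset.mem_singleton] at m1 m2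
      rcases m1 with rfl | rfl | rfl <;> rcases m2 with rfl | rfl | rfl <;>
        first
        | exact absurd rfl hne
        | exact hij p12
        | exact hij p21
        | exact hjk p12
        | exact hjk p21
        | exact hik p12
        | exact hik p21
    refine ⟨fun l => if l ∈ T then a else δ, ?_, ?_, ?_, ⟨?_, ?_⟩, ?_⟩
    · intro l; dsimp only; split_ifs <;> linarith
    · intro l; dsimp only; split_ifs <;> linarith
    · rw [sum_theta, Finset.univ_inter, hT, hcompl, hadef]
      push_cast
      ring
    · rw [sum_theta, Finset.univ_inter, hT, hcompl, hadef]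
      push_cast
      ring
    · intro L I hLI
      unfold PtQuiv.QWt
      rw [sum_theta]
      rcases finrank_cases L with rfl | ⟨v, hv, rfl⟩ | rfl
      · have hIe : I = ∅ := by
          rw [Finset.eq_empty_iff_forall_notMem]
          intro l hl
          have := hLI l hl
          rw [Submodule.mem_bot] at this
          exact hs l this
        subst hIe
        simp
      · rw [finrank_span_singleton hv]
        have hc := hcard v I hLI
        have hc' : ((I ∩ T).card : ℚ) ≤ 1 := by exact_mod_cast hc
        have hd := hsdiff_le I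
        have h1 : a * ((I ∩ T).card : ℚ) ≤ a := by nlinarith
        have h2 : δ * ((I \ T).card : ℚ) ≤ δ * (N - 3) := by nlinarith
        push_cast
        nlinarith
      · rw [finrank_top, Module.finrank_fin_fun]
        have hc : ((I ∩ T).card : ℚ) ≤ 3 := by
          have : (I ∩ T).card ≤ T.card := Finset.card_le_card Finset.inter_subset_right
          rw [hT] at this
          exact_mod_cast this
        have hd := hsdiff_le I
        have h1 : a * ((I ∩ T).card : ℚ) ≤ a * 3 := by nlinarith
        have h2 : δ * ((I \ T).card : ℚ) ≤ δ * (N - 3) := by nlinarith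
        push_cast
        rw [hadef] at h1 ⊢
        nlinarith
    · intro L I hLI hw
      rcases finrank_cases L with rfl | ⟨v, hv, rfl⟩ | rfl
      · left
        refine ⟨rfl, ?_⟩
        rw [Finset.eq_empty_iff_forall_notMem]
        intro l hl
        have := hLI l hl
        rw [Submodule.mem_bot] at this
        exact hs l this
      · exfalso
        unfold PtQuiv.QWt at hw
        rw [sum_theta, finrank_span_singleton hv] at hw
        have hc := hcard v I hLI
        have hc' : ((I ∩ T).card : ℚ) ≤ 1 := by exact_mod_cast hc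
        have hd := hsdiff_le I
        have h1 : a * ((I ∩ T).card : ℚ) ≤ a := by nlinarith
        have h2 : δ * ((I \ T).card : ℚ) ≤ δ * (N - 3) := by nlinarith
        push_cast at hw
        nlinarith
      · right
        refine ⟨rfl, ?_⟩
        by_contra hne
        obtain ⟨l, hl⟩ : ∃ l, l ∉ I := by
          by_contra hcon
          push Not at hcon
          exact hne (Finset.eq_univ_iff_forall.mpr hcon)
        have hθpos : ∀ l : ι, 0 < (if l ∈ T then a else δ) := by
          intro l; split_ifs <;> linarith
        have hlt : ∑ l ∈ I, (if l ∈ T then a else δ) < ∑ l ∈ Finset.univ, (if l ∈ T then a else δ) :=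
          Finset.sum_lt_sum_of_subset (Finset.subset_univ I) (Finset.mem_univ l) hl (hθpos l)
            (fun j _ _ => (hθpos j).le)
        have htot : ∑ l ∈ Finset.univ, (if l ∈ T then a else δ) = 2 := by
          rw [sum_theta, Finset.univ_inter, hT, hcompl, hadef]
          push_cast
          ring
        unfold PtQuiv.QWt at hw
        rw [finrank_top, Module.finrank_fin_fun] at hw
        push_cast at hw
        rw [htot] at hlt
        linarith

end Groth.Agent.S18561
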