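import Groth.Statements.S18563
import Groth.Agent.H92.PtQuiv
import Groth.Agent.S18562

set_option autoImplicit false
universe u v
open PtQuiv

namespace Groth.Agent.S18563

/-- Let K be a field, κ a finite index type with a ≠ b, and s i ∈ K² a representation of the quiver with
a central vertex carrying the plane and one vertex per i : κ carrying a line mapping to the plane by
1 ↦ s i. Let θ be a weight of the hypersimplex (0 ≤ θ i ≤ 1, Σ θ i = 2, central weight -1) with 1 <
θ a + θ b < 2, and put c = 1 / (2 - θ a - θ b). Then s is θ-stable if and only if s a, s b are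
linearly independent and, writing every other s i = t i 0 • s a + t i 1 • s b, the representation t
of the quiver with two one-dimensional sinks p₀, p₁ and one one-dimensional source per i ≠ a, b
(arrow to p_j given by t i j) is stable for the weight c (θ a - 1) at p₀, c (θ b - 1) at p₁ and c θ
i at the sources. (The published statement is about representations over a base scheme, with
(semi)stability tested on geometric fibres, that is over algebraically closed fields; this row
states the fibrewise content over an arbitrary field.) -/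
theorem result (K : Type u) [Field K]
    (κ : Type v) [Fintype κ] [DecidableEq κ] (a b : κ) (hab : a ≠ b) (s : κ → (Fin 2 → K))
    (θ : κ → ℚ) (h0 : ∀ i, 0 ≤ θ i) (h1 : ∀ i, θ i ≤ 1) (h2 : ∑ i, θ i = 2)
    (hθ : 1 < θ a + θ b) (hθ' : θ a + θ b < 2) :
    PtQuiv.QStable (-1) θ s ↔
      (LinearIndependent K ![s a, s b] ∧
        ∀ t : {i : κ // i ≠ a ∧ i ≠ b} → (Fin 2 → K),
          (∀ i, s i.1 = t i 0 • s a + t i 1 • s b) →
            PtQuiv.PStable ![(2 - θ a - θ b)⁻¹ * (θ a - 1), (2 - θ a - θ b)⁻¹ * (θ b - 1)]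
              (fun i : {i : κ // i ≠ a ∧ i ≠ b} => (2 - θ a - θ b)⁻¹ * θ i.1) t) := by
  classical
  have hc : 0 < (2 - θ a - θ b)⁻¹ := inv_pos.mpr (by linarith)
  have hss := Groth.Agent.S18562.result K κ a b hab s θ h0 h1 h2 hθ hθ'
  constructor
  · rintro ⟨hQss, hQst⟩
    obtain ⟨hind, hPss⟩ := hss.mp hQss
    refine ⟨hind, fun t hts => ⟨hPss t hts, ?_⟩⟩
    intro U J hUJ hw
    obtain ⟨L, I, hLI, hweq, himp⟩ := Groth.Agent.H92.PtQ.PQ a b hab s θ hind t hts U J hUJ
    rw [hweq] at hw
    have hQ0 : PtQuiv.QWt K (-1) θ L I = 0 := by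
      rcases mul_eq_zero.mp hw with h | h
      · exact absurd h hc.ne'
      · exact h
    exact himp (hQst L I hLI hQ0)
  · rintro ⟨hind, hP⟩
    refine ⟨hss.mpr ⟨hind, fun t hts => (hP t hts).1⟩, ?_⟩
    intro L I hLI hw
    have hex : ∀ i : {i : κ // i ≠ a ∧ i ≠ b}, ∃ c d : K, s i.1 = c • s a + d • s b :=
      fun i => Groth.Agent.H92.PtQ.coords hind (s i.1)
    choose c d hcd using hex
    have hts : ∀ i : {i : κ // i ≠ a ∧ i ≠ b},
        s i.1 = (![c i, d i] : Fin 2 → K) 0 • s a + (![c i, d i] : Fin 2 → K) 1 • s b := by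
      intro i
      simpa using hcd i
    have hPt := hP (fun i => ![c i, d i]) hts
    rcases Groth.Agent.H92.PtQ.QP a b hab s θ h0 h1 h2 hθ hθ' hind _ hts L I hLI with
      hlt | ⟨U, J, hUJ, hle, himp⟩
    · rw [hw] at hlt
      exact absurd hlt (lt_irrefl 0)
    · rw [hw, mul_zero] at hle
      have hU := hPt.1.2 U J hUJ
      have hPW0 := le_antisymm hU hle
      exact himp hw (hPt.2 U J hUJ hPW0)

end Groth.Agent.S18563
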