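import Groth.Statements.S18572
import Groth.Agent.H65.RR.Core
import Groth.Agent.H73.RR_KPT

set_option autoImplicit false
universe u
open CategoryTheory AlgebraicGeometry
open REq

namespace Groth.Agent.S18572


/-- Let k be an infinite field and X an integral separated scheme of finite type over k which is retract
rational over k. Then X is almost R-trivial over k: there is a dense open subscheme U of X such
that, for every field K containing k (in the universe of k), U has a K-point and any two K-points of
X lying in U are R-equivalent on X. -/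
theorem result (k : Type u) [Field k] [Infinite k] (X : Scheme.{u})
    (f : X ⟶ Spec (CommRingCat.of k)) [IsIntegral X] [LocallyOfFiniteType f] [QuasiCompact f]
    [IsSeparated f] (hX : REq.IsRetractRational f) :
    REq.IsAlmostRTrivial f := by
  obtain ⟨U, n, V, a, b, hne, hab, ha, hb⟩ := hX
  refine ⟨U, U.isOpen.dense hne, ?_⟩
  intro K _ _
  constructor
  · -- existence of a K-point in U
    have hVne : (V : Set (Spec (CommRingCat.of (MvPolynomial (Fin n) k)))).Nonempty := by
      obtain ⟨x, hx⟩ := hne
      exact ⟨(V.ι).base (a.base ⟨x, hx⟩), (a.base ⟨x, hx⟩).2⟩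
    obtain ⟨p, hp⟩ := Groth.Agent.H73.RR_KPT.exists_kpoint n V hVne
    refine ⟨⟨specMap k K ≫ p ≫ b ≫ U.ι, ?_⟩, ?_⟩
    · calc (specMap k K ≫ p ≫ b ≫ U.ι) ≫ f
          = specMap k K ≫ p ≫ (b ≫ U.ι ≫ f) := by simp only [Category.assoc]
        _ = specMap k K ≫ (p ≫ V.ι ≫
              Spec.map (CommRingCat.ofHom (algebraMap k (MvPolynomial (Fin n) k)))) := by rw [hb]
        _ = specMap k K := by rw [hp, Category.comp_id]
    · rintro _ ⟨y, rfl⟩
      change (specMap k K ≫ p ≫ b ≫ U.ι).base y ∈ (U : Set X)
      have : (specMap k K ≫ p ≫ b ≫ U.ι).base y = (U.ι).base ((specMap k K ≫ p ≫ b).base y) := by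
        simp only [Scheme.Hom.comp_base, TopCat.comp_app, Category.assoc]
      rw [this]
      exact ((specMap k K ≫ p ≫ b).base y).2
  · intro A B hA hB
    have hA' : Set.range A.1.base ⊆ Set.range (U.ι).base := by
      rw [Scheme.Opens.range_ι]; exact hA
    have hB' : Set.range B.1.base ⊆ Set.range (U.ι).base := by
      rw [Scheme.Opens.range_ι]; exact hB
    have eA : IsOpenImmersion.lift U.ι A.1 hA' ≫ U.ι = A.1 := IsOpenImmersion.lift_fac _ _ _
    have eB : IsOpenImmersion.lift U.ι B.1 hB' ≫ U.ι = B.1 := IsOpenImmersion.lift_fac _ _ _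
    let A' : REq.Pts (U.ι ≫ f) K := ⟨IsOpenImmersion.lift U.ι A.1 hA', by
      rw [← Category.assoc, eA]; exact A.2⟩
    let B' : REq.Pts (U.ι ≫ f) K := ⟨IsOpenImmersion.lift U.ι B.1 hB', by
      rw [← Category.assoc, eB]; exact B.2⟩
    obtain ⟨W, h, a', b', h1, h2, h3, h4, h5⟩ :=
      Groth.Agent.H65.RR.elemLink_of_retract f U n V a b hab ha hb K A' B'
    refine Relation.EqvGen.rel _ _ ⟨W, h ≫ U.ι, a', b', ?_, h2, h3, ?_, ?_⟩
    · rw [Category.assoc]; exact h1
    · rw [← Category.assoc, h4]; exact eA
    · rw [← Category.assoc, h5]; exact eB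

end Groth.Agent.S18572
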