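import Groth.Statements.S18573
import Groth.Agent.H65.P1Irr

set_option autoImplicit false
universe u
open CategoryTheory AlgebraicGeometry
open REq

namespace Groth.Agent.S18573


/-- Let Y be a scheme over a field k and K a field containing k. Let V and W be closed subsets of Y with
V ∪ W = Y such that no K-point of Y has its image in V ∩ W. If p is a K-point of Y lying in V and q
a K-point of Y lying in W, then p and q are not R-equivalent on Y. (The published step concerns
k-points of the special fibre of a proper flat scheme over a discrete valuation ring, that is K = k;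
this row is stated for any scheme Y over k and K-points for any field K containing k.) -/
theorem result (k : Type u) [Field k] (Y : Scheme.{u})
    (g : Y ⟶ Spec (CommRingCat.of k)) (K : Type u) [Field K] [Algebra k K]
    (V W : Set Y) (hV : IsClosed V) (hW : IsClosed W) (hVW : V ∪ W = Set.univ)
    (hT : ∀ z : REq.Pts g K, ¬ (Set.range z.1.base ⊆ V ∩ W))
    (p q : REq.Pts g K) (hp : Set.range p.1.base ⊆ V) (hq : Set.range q.1.base ⊆ W) :
    ¬ REq.REquiv g K p q := by
  classical
  have key : ∀ A B : REq.Pts g K, REq.ElemLink g K A B →
      (Set.range A.1.base ⊆ V → Set.range B.1.base ⊆ V) ∧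
      (Set.range B.1.base ⊆ V → Set.range A.1.base ⊆ V) := by
    rintro A B ⟨U, h, a, b, -, -, -, ha, hb⟩
    haveI : AlgebraicGeometry.IsIntegral (REq.P1K K) :=
      Groth.Agent.H65.P1Irr.isIntegral_projSpaceOver_field 1 K
    haveI : Nonempty (U : Scheme.{u}) := ⟨a.base (Classical.arbitrary _)⟩
    haveI : AlgebraicGeometry.IsIntegral (U : Scheme.{u}) := inferInstance
    haveI : IrreducibleSpace (U : Scheme.{u}) := inferInstance
    have hirr : IsPreirreducible (Set.univ : Set (U : Scheme.{u})) :=
      (IrreducibleSpace.isIrreducible_univ _).isPreirreducible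
    have hcov := (isPreirreducible_iff_isClosed_union_isClosed.mp hirr) (h.base ⁻¹' V) (h.base ⁻¹' W)
      (hV.preimage h.continuous) (hW.preimage h.continuous) (by
        intro x _
        have : h.base x ∈ V ∪ W := by rw [hVW]; exact Set.mem_univ _
        exact this)
    have hA : ∀ x, A.1.base x = h.base (a.base x) := by
      intro x; rw [← ha]; rfl
    have hB : ∀ x, B.1.base x = h.base (b.base x) := by
      intro x; rw [← hb]; rfl
    rcases hcov with hc | hc
    · constructor
      · rintro - _ ⟨x, rfl⟩
        rw [hB]; exact hc (Set.mem_univ _)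
      · rintro - _ ⟨x, rfl⟩
        rw [hA]; exact hc (Set.mem_univ _)
    · constructor
      · intro hAV
        exfalso
        refine hT A ?_
        rintro _ ⟨x, rfl⟩
        refine ⟨hAV ⟨x, rfl⟩, ?_⟩
        rw [hA]; exact hc (Set.mem_univ _)
      · intro hBV
        exfalso
        refine hT B ?_
        rintro _ ⟨x, rfl⟩
        refine ⟨hBV ⟨x, rfl⟩, ?_⟩
        rw [hB]; exact hc (Set.mem_univ _)
  have hgen : ∀ A B : REq.Pts g K, REq.REquiv g K A B →
      (Set.range A.1.base ⊆ V ↔ Set.range B.1.base ⊆ V) := by
    intro A B hAB
    induction hAB with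
    | rel A B hAB => exact ⟨(key A B hAB).1, (key A B hAB).2⟩
    | refl A => exact Iff.rfl
    | symm A B _ ih => exact ih.symm
    | trans A B C _ _ ih1 ih2 => exact ih1.trans ih2
  intro hpq
  exact hT q (fun y hy => ⟨(hgen p q hpq).mp hp hy, hq hy⟩)

end Groth.Agent.S18573
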