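import Groth.Statements.S18579
import Mathlib

set_option autoImplicit false
universe u
open LogDiff

namespace Groth.Agent.S18579

/-- The exact sequence for units (first Milnor K-groups) when every component of the divisor is removed.
Let k be a field, B a smooth k-algebra, R the localization of B at a prime ideal, K the fraction
field of R and f_1, …, f_r pairwise non-associate prime elements of R. If w is a unit of K such that
w and w⁻¹ both lie in R[1/(f_1⋯f_r)], i.e. each becomes an element of R after multiplication by a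
power of f_1⋯f_r, then there is exactly one pair (v, b) consisting of a unit v of R and integers
b_1, …, b_r with w = v · ∏ f_i^{b_i} in K. (This is the exactness of 0 → Γ(Spec R, O^×) → Γ(Spec R ∖
V(f_1⋯f_r), O^×) → ℤ^r → 0, the last map being the orders along the f_i. The published statement
takes the f_i to be local equations of the components of a normal crossings divisor, over a field of
characteristic zero; this row allows arbitrary pairwise non-associate prime elements and any field.) -/
theorem result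
    {k B R K : Type u} [Field k] [CommRing B] [Algebra k B] [Algebra.Smooth k B]
    (p : Ideal B) [p.IsPrime] [CommRing R] [Algebra B R] [IsLocalization.AtPrime R p]
    [Field K] [Algebra R K] [IsFractionRing R K]
    {r : ℕ} (f : Fin r → R) (hf : ∀ i, Prime (f i)) (hfa : ∀ i j, Associated (f i) (f j) → i = j)
    (w : Kˣ)
    (hw : ∃ (a : R) (n : ℕ), (w : K) * algebraMap R K ((∏ i, f i) ^ n) = algebraMap R K a)
    (hw' : ∃ (a : R) (n : ℕ), (w⁻¹ : Kˣ) * algebraMap R K ((∏ i, f i) ^ n) = algebraMap R K a) :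
    ∃! vb : Rˣ × (Fin r → ℤ),
      (w : K) = algebraMap R K (vb.1 : R) * ∏ i, (algebraMap R K (f i)) ^ (vb.2 i) := by
  classical
  have hinj : Function.Injective (algebraMap R K) := IsFractionRing.injective R K
  have : IsDomain R := hinj.isDomain _
  have hx0 : ∀ i, algebraMap R K (f i) ≠ 0 := fun i =>
    (map_ne_zero_iff _ hinj).mpr (hf i).ne_zero
  -- key lemma
  have U : ∀ (d : Fin r → ℤ) (u : Rˣ),
      ∏ i, (algebraMap R K (f i)) ^ (d i) = algebraMap R K (u : R) → ∀ j, d j ≤ 0 := by
    intro d u hd j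
    by_contra hj
    push Not at hj
    have hsplit : ∀ i, (algebraMap R K (f i)) ^ (d i) =
        (algebraMap R K (f i)) ^ ((d i).toNat) / (algebraMap R K (f i)) ^ ((-d i).toNat) := by
      intro i
      rw [← zpow_natCast, ← zpow_natCast, ← zpow_sub₀ (hx0 i)]
      congr 1
      omega
    simp_rw [hsplit] at hd
    rw [Finset.prod_div_distrib,
      div_eq_iff (Finset.prod_ne_zero_iff.mpr fun i _ => pow_ne_zero _ (hx0 i))] at hd
    have hR : ∏ i, f i ^ (d i).toNat = (u : R) * ∏ i, f i ^ (-d i).toNat := by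
      apply hinj
      simp only [map_prod, map_pow, map_mul]
      exact hd
    have hdvd : f j ∣ ∏ i, f i ^ (d i).toNat :=
      (dvd_pow_self (f j) (by omega)).trans (Finset.dvd_prod_of_mem _ (Finset.mem_univ j))
    rw [hR] at hdvd
    rcases (hf j).dvd_or_dvd hdvd with h | h
    · exact (hf j).not_isUnit (isUnit_of_dvd_unit h u.isUnit)
    · obtain ⟨i, _, hi⟩ := (Prime.dvd_finsetProd_iff (hf j) _).mp h
      have hji : f j ∣ f i := (hf j).dvd_of_dvd_pow hi
      have : j = i := hfa j i ((hf j).associated_of_dvd (hf i) hji)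
      subst this
      have h0 : (-d j).toNat = 0 := by omega
      rw [h0, pow_zero] at hi
      exact (hf j).not_isUnit (isUnit_of_dvd_one hi)
  -- uniqueness
  have huniq : ∀ (v v' : Rˣ) (b b' : Fin r → ℤ),
      algebraMap R K (v : R) * ∏ i, (algebraMap R K (f i)) ^ (b i) =
        algebraMap R K (v' : R) * ∏ i, (algebraMap R K (f i)) ^ (b' i) → v = v' ∧ b = b' := by
    intro v v' b b' h
    have hP' : ∏ i, (algebraMap R K (f i)) ^ (b' i) ≠ 0 :=
      Finset.prod_ne_zero_iff.mpr fun i _ => zpow_ne_zero _ (hx0 i)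
    have hvv : algebraMap R K (v : R) * algebraMap R K ((v⁻¹ : Rˣ) : R) = 1 := by
      rw [← map_mul, Units.mul_inv, map_one]
    have hd : ∏ i, (algebraMap R K (f i)) ^ (b i - b' i) =
        algebraMap R K ((v' * v⁻¹ : Rˣ) : R) := by
      have : ∀ i, (algebraMap R K (f i)) ^ (b i - b' i) =
          (algebraMap R K (f i)) ^ (b i) / (algebraMap R K (f i)) ^ (b' i) :=
        fun i => zpow_sub₀ (hx0 i) _ _
      simp_rw [this]
      rw [Finset.prod_div_distrib, div_eq_iff hP', Units.val_mul, map_mul]
      linear_combination (algebraMap R K ((v⁻¹ : Rˣ) : R)) * h -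
        (∏ i, (algebraMap R K (f i)) ^ (b i)) * hvv
    have hd' : ∏ i, (algebraMap R K (f i)) ^ ((fun i => -(b i - b' i)) i) =
        algebraMap R K (((v' * v⁻¹)⁻¹ : Rˣ) : R) := by
      have : ∀ i, (algebraMap R K (f i)) ^ (-(b i - b' i)) =
          ((algebraMap R K (f i)) ^ (b i - b' i))⁻¹ := fun i => zpow_neg _ _
      simp_rw [this]
      rw [Finset.prod_inv_distrib, hd]
      have h1 : algebraMap R K ((v' * v⁻¹ : Rˣ) : R) *
          algebraMap R K (((v' * v⁻¹)⁻¹ : Rˣ) : R) = 1 := by
        rw [← map_mul, Units.mul_inv, map_one]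
      exact inv_eq_of_mul_eq_one_right h1
    have h1 := U _ _ hd
    have h2 := U _ _ hd'
    have hb : b = b' := by
      funext j
      have := h1 j
      have := h2 j
      simp only at *
      omega
    subst hb
    refine ⟨?_, rfl⟩
    have := mul_right_cancel₀ hP' h
    exact Units.ext (hinj this)
  -- existence
  obtain ⟨a, n, hw⟩ := hw
  obtain ⟨a', m, hw'⟩ := hw'
  rw [map_pow, map_prod] at hw hw'
  have haa : a * a' = ∏ x : Fin r × Fin (n + m), f x.1 := by
    apply hinj
    rw [map_mul, ← hw, ← hw']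
    have hww : (w : K) * ((w⁻¹ : Kˣ) : K) = 1 := by simp
    rw [Fintype.prod_prod_type]
    simp only [Finset.prod_const, Finset.card_univ, Fintype.card_fin, map_prod, map_pow]
    rw [Finset.prod_pow, pow_add]
    linear_combination ((∏ i, algebraMap R K (f i)) ^ n * (∏ i, algebraMap R K (f i)) ^ m) * hww
  obtain ⟨t, u, b, c, htu, hdisj, hbc, ha, ha'⟩ :=
    mul_eq_mul_prime_prod (x := a) (y := a') (a := 1) (s := Finset.univ)
      (p := fun x : Fin r × Fin (n + m) => f x.1) (fun i _ => hf i.1)
      (by rw [one_mul]; exact haa)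
  let v : Rˣ := Units.mkOfMulEqOne b c hbc.symm
  let cnt : Fin r → ℕ := fun i => (t.filter (fun x => x.1 = i)).card
  have hprod : ∏ x ∈ t, f x.1 = ∏ i, f i ^ cnt i := by
    rw [← Finset.prod_fiberwise t (fun x => x.1) (fun x => f x.1)]
    apply Finset.prod_congr rfl
    intro i _
    rw [Finset.prod_congr rfl (fun x hx => by rw [(Finset.mem_filter.mp hx).2]), Finset.prod_const]
  have hex : (w : K) = algebraMap R K (v : R) *
      ∏ i, (algebraMap R K (f i)) ^ ((fun i => (cnt i : ℤ) - n) i) := by
    show (w : K) = algebraMap R K b * ∏ i, algebraMap R K (f i) ^ ((cnt i : ℤ) - n)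
    have h1 : ∀ i, algebraMap R K (f i) ^ ((cnt i : ℤ) - n) =
        algebraMap R K (f i) ^ cnt i / algebraMap R K (f i) ^ n := fun i => by
      rw [zpow_sub₀ (hx0 i), zpow_natCast, zpow_natCast]
    simp_rw [h1]
    rw [Finset.prod_div_distrib, Finset.prod_pow, ← mul_div_assoc,
      eq_div_iff (pow_ne_zero _ (Finset.prod_ne_zero_iff.mpr fun i _ => hx0 i))]
    rw [hw, ha, hprod, map_mul, map_prod]
    simp only [map_pow]
  refine existsUnique_of_exists_of_unique ⟨(v, fun i => (cnt i : ℤ) - n), hex⟩ ?_
  rintro ⟨v₁, b₁⟩ ⟨v₂, b₂⟩ h₁ h₂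
  obtain ⟨e1, e2⟩ := huniq v₁ v₂ b₁ b₂ (h₁.symm.trans h₂)
  exact Prod.ext e1 e2

end Groth.Agent.S18579
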