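import Groth.Statements.S18580
import Mathlib
import Groth.Agent.S0064

set_option autoImplicit false
universe u
open EtBase

namespace Groth.Agent.S18580


open AlgebraicGeometry CategoryTheory in
/-- Let Y be a connected scheme and f : X ⟶ Y a separated morphism that is unramified (locally of finite
type and formally unramified). Then the sections of f correspond bijectively to the connected
components of X mapping isomorphically onto Y: there is a bijection from the set of sections s of f
to the set of open subschemes U of X whose underlying set is a connected component of X and for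
which U ⟶ X ⟶ Y is an isomorphism, sending s to its image. In particular every section is an
isomorphism onto a connected component of X and is determined by its image. (A connected component
mapping isomorphically onto Y is the image of a section, hence open, so restricting to open
components loses nothing. The published statement also assumes Y Noetherian; that hypothesis plays
no role and is omitted.) -/
theorem result {X Y : Scheme.{u}} (f : X ⟶ Y)
    [FormallyUnramified f] [LocallyOfFiniteType f] [IsSeparated f] [ConnectedSpace Y] :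
    ∃ e : {s : Y ⟶ X // s ≫ f = 𝟙 Y} ≃
        {U : X.Opens // (∃ x : X, (U : Set X) = connectedComponent x) ∧ IsIso (U.ι ≫ f)},
      ∀ s : {s : Y ⟶ X // s ≫ f = 𝟙 Y}, ((e s).1 : Set X) = Set.range s.1 := by
  classical
  have hprops : ∀ s : {s : Y ⟶ X // s ≫ f = 𝟙 Y}, IsOpenImmersion s.1 ∧ IsClosedImmersion s.1 :=
    fun s => Groth.Agent.S0064.section_props f s.1 s.2
  have hopen : ∀ s : {s : Y ⟶ X // s ≫ f = 𝟙 Y}, IsOpenImmersion s.1 := fun s => (hprops s).1
  have hcomp : ∀ s : {s : Y ⟶ X // s ≫ f = 𝟙 Y},
      ∃ x : X, Set.range s.1 = connectedComponent x := by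
    intro s
    obtain ⟨y⟩ := (inferInstance : Nonempty Y)
    refine ⟨s.1 y, ?_⟩
    have hclopen : IsClopen (Set.range s.1) :=
      ⟨((hprops s).2.isClosedEmbedding).isClosed_range,
        (@Scheme.Hom.isOpenEmbedding _ _ s.1 (hprops s).1).isOpen_range⟩
    have hconn : _root_.IsPreconnected (Set.range s.1) := by
      rw [← Set.image_univ]
      exact isPreconnected_univ.image _ s.1.continuous.continuousOn
    apply Set.Subset.antisymm
    · exact hconn.subset_connectedComponent ⟨y, rfl⟩
    · exact hclopen.connectedComponent_subset ⟨y, rfl⟩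
  have hfac : ∀ s : {s : Y ⟶ X // s ≫ f = 𝟙 Y},
      s.1.opensRange.ι ≫ f = s.1.isoOpensRange.inv := by
    intro s
    rw [← Scheme.Hom.isoOpensRange_inv_comp, Category.assoc, s.2, Category.comp_id]
  have hiso : ∀ s : {s : Y ⟶ X // s ≫ f = 𝟙 Y}, IsIso (s.1.opensRange.ι ≫ f) := by
    intro s
    rw [hfac s]; infer_instance
  have hUiso : ∀ U : {U : X.Opens // (∃ x : X, (U : Set X) = connectedComponent x) ∧
      IsIso (U.ι ≫ f)}, IsIso (U.1.ι ≫ f) := fun U => U.2.2
  refine ⟨{ toFun := fun s => ⟨s.1.opensRange, hcomp s, hiso s⟩
            invFun := fun U => ⟨inv (U.1.ι ≫ f) ≫ U.1.ι, by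
              rw [Category.assoc, IsIso.inv_hom_id]⟩
            left_inv := ?_
            right_inv := ?_ }, fun s => rfl⟩
  · intro s
    apply Subtype.ext
    show inv (s.1.opensRange.ι ≫ f) ≫ s.1.opensRange.ι = s.1
    rw [IsIso.inv_comp_eq, hfac s, Scheme.Hom.isoOpensRange_inv_comp]
  · intro U
    apply Subtype.ext
    apply TopologicalSpace.Opens.ext
    show Set.range (inv (U.1.ι ≫ f) ≫ U.1.ι) = (U.1 : Set X)
    ext x
    constructor
    · rintro ⟨y, rfl⟩
      exact (inv (U.1.ι ≫ f) y).2
    · intro hx
      refine ⟨(U.1.ι ≫ f) ⟨x, hx⟩, ?_⟩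
      rw [← Scheme.Hom.comp_apply, ← Category.assoc, IsIso.hom_inv_id, Category.id_comp]
      rfl

end Groth.Agent.S18580
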