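import Groth.Statements.S18581
import Groth.Agent.H29.FlatDepth

set_option autoImplicit false
universe u
open Desc

namespace Groth.Agent.S18581

/-- Let A → B be a local homomorphism of Noetherian local rings which is étale, in the sense that B is
(compatibly with the map from A) the localization of an étale A-algebra E at a prime ideal. Then A
is a Cohen–Macaulay ring exactly when B is one. -/
theorem result (A B : Type u) [CommRing A] [CommRing B]
    [IsLocalRing A] [IsLocalRing B] [IsNoetherianRing A] [IsNoetherianRing B]
    [Algebra A B] [IsLocalHom (algebraMap A B)]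
    (E : Type u) [CommRing E] [Algebra A E] [Algebra.Etale A E] (P : Ideal E) [P.IsPrime]
    [Algebra E B] [IsScalarTower A E B] [IsLocalization.AtPrime B P] :
    LocCoh.IsCohenMacaulayLocalRing A ↔ LocCoh.IsCohenMacaulayLocalRing B := by
  obtain ⟨hflat, hm⟩ := Groth.Agent.H29.FlatDepth.etale_facts A B E P
  haveI := hflat
  have hdepth := Groth.Agent.H29.FlatDepth.depth_eq_depth_of_map_maximalIdeal (A := A) (B := B) hm
  have hdim := Groth.Agent.H29.FlatDepth.ringKrullDim_eq_of_map_maximalIdeal (A := A) (B := B) hm
  constructor
  · intro h
    refine ⟨?_⟩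
    have h1 := h.supportDim_eq_depth
    rw [Module.supportDim_self_eq_ringKrullDim] at h1 ⊢
    rw [← hdim, ← hdepth]
    exact h1
  · intro h
    refine ⟨?_⟩
    have h1 := h.supportDim_eq_depth
    rw [Module.supportDim_self_eq_ringKrullDim] at h1 ⊢
    rw [hdim, hdepth]
    exact h1

end Groth.Agent.S18581
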