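import Groth.Statements.S18587
import Mathlib.RingTheory.WittVector.Identities
import Mathlib.RingTheory.WittVector.Domain
import Mathlib.RingTheory.WittVector.Truncated
import Mathlib.RingTheory.WittVector.InitTail
import Mathlib.Tactic

set_option autoImplicit false
universe u
open CAlg

namespace Groth.Agent.S18587

open WittVector Finset

section gen

variable {p : ℕ} [hp : Fact p.Prime] {R : Type*} [CommRing R]

/-- Iterated Verschiebung as an additive map. -/
noncomputable def Vit (k : ℕ) : WittVector p R →+ WittVector p R where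
  toFun := (⇑(verschiebung : WittVector p R →+ WittVector p R))^[k]
  map_zero' := iterate_map_zero _ _
  map_add' := iterate_map_add _ _

theorem Vit_apply (k : ℕ) (x : WittVector p R) :
    Vit k x = (⇑(verschiebung : WittVector p R →+ WittVector p R))^[k] x := rfl

theorem Vit_zero (x : WittVector p R) : Vit 0 x = x := rfl

theorem Vit_succ (k : ℕ) (x : WittVector p R) : Vit (k + 1) x = Vit k (verschiebung x) := rfl

theorem Vit_mul (k : ℕ) (x y : WittVector p R) :
    Vit k x * y =
      Vit k (x * (⇑(frobenius : WittVector p R →+* WittVector p R))^[k] y) :=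
  iterate_verschiebung_mul_left x y k

theorem L0 (w : WittVector p R) :
    w = teichmuller p (w.coeff 0) + verschiebung (w.shift 1) := by
  ext n
  rw [coeff_add_of_disjoint]
  · cases n with
    | zero => rw [teichmuller_coeff_zero, verschiebung_coeff_zero, add_zero]
    | succ n =>
      rw [teichmuller_coeff_pos _ _ _ (Nat.succ_pos n), verschiebung_coeff_succ, shift_coeff,
        zero_add, add_comm]
  · intro n
    cases n with
    | zero => right; exact verschiebung_coeff_zero _
    | succ n => left; exact teichmuller_coeff_pos _ _ _ (Nat.succ_pos n)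

theorem EXP (r θ : ℕ → WittVector p R) (h : ∀ k, r k = θ k + verschiebung (r (k + 1))) (K : ℕ) :
    r 0 = ∑ k ∈ range K, Vit k (θ k) + Vit K (r K) := by
  induction K with
  | zero => simp [Vit_zero]
  | succ K ih =>
    rw [ih, sum_range_succ, add_assoc]
    congr 1
    rw [h K, map_add, Vit_succ]

theorem L1 (w : WittVector p R) (K : ℕ) :
    w = ∑ k ∈ range K, Vit k (teichmuller p (w.coeff k)) + Vit K (w.shift K) := by
  have h0 : w.shift 0 = w := by
    ext i
    rw [shift_coeff, zero_add]
  have := EXP (fun k => w.shift k) (fun k => teichmuller p (w.coeff k)) ?_ K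
  · simpa [h0] using this
  · intro k
    have h1 := L0 (w.shift k)
    have h2 : (w.shift k).shift 1 = w.shift (k + 1) := by
      ext i
      rw [shift_coeff, shift_coeff, shift_coeff, add_assoc]
    rw [h2, shift_coeff, add_zero] at h1
    exact h1

theorem trunc_Vit (K : ℕ) (x : WittVector p R) : WittVector.truncate K (Vit K x) = 0 := by
  rw [← RingHom.mem_ker, mem_ker_truncate]
  intro i hi
  exact iterate_verschiebung_coeff_eq_zero x hi

theorem eq_of_truncate (x y : WittVector p R)
    (h : ∀ K, WittVector.truncate K x = WittVector.truncate K y) : x = y := by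
  ext i
  have := congrArg (fun z => TruncatedWittVector.coeff ⟨i, Nat.lt_succ_self i⟩ z) (h (i + 1))
  simpa [WittVector.coeff_truncate] using this

theorem frob_iter_teich [CharP R p] (r : R) (k : ℕ) :
    (⇑(frobenius : WittVector p R →+* WittVector p R))^[k] (teichmuller p r) =
      teichmuller p (r ^ p ^ k) := by
  ext i
  rw [iterate_frobenius_coeff]
  cases i with
  | zero => rw [teichmuller_coeff_zero, teichmuller_coeff_zero]
  | succ i =>
    rw [teichmuller_coeff_pos _ _ _ (Nat.succ_pos i), teichmuller_coeff_pos _ _ _ (Nat.succ_pos i),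
      zero_pow]
    exact pow_ne_zero _ hp.out.ne_zero

theorem map_Vit {S : Type*} [CommRing S] (f : R →+* S) (k : ℕ) (x : WittVector p R) :
    WittVector.map f (Vit k x) = Vit k (WittVector.map f x) := by
  induction k generalizing x with
  | zero => rfl
  | succ k ih => rw [Vit_succ, ih, map_verschiebung, Vit_succ]

end gen

theorem NT (p ℓ : ℕ) (hp : p.Prime) (hℓ : 0 < ℓ) (hpℓ : ¬ p ∣ ℓ) (N : ℕ) :
    ∃ j q : ℕ, j ≤ ℓ ∧ q ≤ p ^ N ∧ j * p ^ N = q * ℓ + 1 := by
  have hcop : Nat.Coprime (p ^ N) ℓ :=
    Nat.Coprime.pow_left N ((Nat.Prime.coprime_iff_not_dvd hp).2 hpℓ)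
  rcases (Nat.lt_or_ge 1 ℓ) with h1 | h1
  · obtain ⟨m, hm, hm1⟩ := Nat.exists_mul_mod_eq_one_of_coprime hcop h1
    refine ⟨m, p ^ N * m / ℓ, hm.le, ?_, ?_⟩
    · apply Nat.div_le_of_le_mul
      calc p ^ N * m ≤ p ^ N * ℓ := Nat.mul_le_mul_left _ hm.le
        _ = ℓ * p ^ N := mul_comm _ _
    · have := Nat.div_add_mod (p ^ N * m) ℓ
      rw [hm1] at this
      rw [mul_comm m (p ^ N), mul_comm (p ^ N * m / ℓ) ℓ]
      exact this.symm
  · have : ℓ = 1 := by omega
    subst this
    refine ⟨1, p ^ N - 1, le_refl _, Nat.sub_le _ _, ?_⟩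
    have : 0 < p ^ N := pow_pos hp.pos N
    omega

theorem KF (p : ℕ) [hp : Fact p.Prime] (ℓ : ℕ) (hℓ : 0 < ℓ) (hpℓ : ¬ p ∣ ℓ)
    (A B : Type u) [CommRing A] [CommRing B] [IsDomain A] [IsDomain B] [Algebra A B]
    (y : Finset B) (hpow : ∀ b ∈ y, b ^ ℓ ∈ Set.range (algebraMap A B)) :
    ∃ a : A, a ≠ 0 ∧ ∀ (N : ℕ) (b : B), b ∈ y → ∃ (j : ℕ) (γ : A), j ≤ ℓ ∧
      algebraMap A B a ^ p ^ N * b = algebraMap A B γ * (b ^ j) ^ p ^ N := by
  classical
  choose! ab hab using hpow
  refine ⟨∏ b ∈ y.filter (fun b => b ≠ 0), ab b, ?_, ?_⟩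
  · rw [Finset.prod_ne_zero_iff]
    intro b hb
    rw [Finset.mem_filter] at hb
    intro h0
    have := hab b hb.1
    rw [h0, map_zero] at this
    exact pow_ne_zero ℓ hb.2 this.symm
  · intro N b hb
    by_cases hb0 : b = 0
    · exact ⟨0, 0, Nat.zero_le _, by rw [hb0, mul_zero, map_zero, zero_mul]⟩
    · obtain ⟨j, q, hj, hq, hjq⟩ := NT p ℓ hp.out hℓ hpℓ N
      have hby' : b ∈ y.filter (fun b => b ≠ 0) := Finset.mem_filter.2 ⟨hb, hb0⟩
      refine ⟨j, (∏ c ∈ (y.filter (fun b => b ≠ 0)).erase b, ab c) ^ p ^ N * ab b ^ (p ^ N - q),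
        hj, ?_⟩
      rw [← Finset.mul_prod_erase _ ab hby', map_mul, map_mul, map_pow, map_pow, hab b hb]
      generalize algebraMap A B (∏ c ∈ (y.filter (fun b => b ≠ 0)).erase b, ab c) = v
      generalize hP : p ^ N = P at *
      obtain ⟨d, rfl⟩ := Nat.exists_eq_add_of_le hq
      rw [Nat.add_sub_cancel_left]
      have e1 : (b ^ ℓ) ^ (q + d) * b = (b ^ ℓ) ^ d * (b ^ j) ^ (q + d) := by
        rw [← pow_mul, ← pow_mul, ← pow_mul, ← pow_succ, ← pow_add, hjq]
        congr 1
        ring
      calc (b ^ ℓ * v) ^ (q + d) * b = v ^ (q + d) * ((b ^ ℓ) ^ (q + d) * b) := by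
            rw [mul_pow]; ring
        _ = v ^ (q + d) * ((b ^ ℓ) ^ d * (b ^ j) ^ (q + d)) := by rw [e1]
        _ = v ^ (q + d) * (b ^ ℓ) ^ d * (b ^ j) ^ (q + d) := by ring

theorem key (p : ℕ) [hp : Fact p.Prime] (ℓ n : ℕ) (hℓ : 0 < ℓ) (hpℓ : ¬ p ∣ ℓ)
    (A B : Type u) [CommRing A] [CommRing B] [IsDomain A] [IsDomain B] [Algebra A B]
    [CharP A p] [CharP B p]
    (y : Finset B) (hspan : Submodule.span A (y : Set B) = ⊤)
    (hpow : ∀ b ∈ y, b ^ ℓ ∈ Set.range (algebraMap A B)) :
    ∃ a : A, a ≠ 0 ∧ ∀ η : WittVector p B, ∃ x : B × ℕ → WittVector p A,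
      teichmuller p (algebraMap A B a ^ p ^ n) * η =
        ∑ g ∈ y ×ˢ Finset.range (ℓ + 1), WittVector.map (algebraMap A B) (x g) *
          (⇑(frobenius : WittVector p B →+* WittVector p B))^[n] (teichmuller p (g.1 ^ g.2)) := by
  classical
  obtain ⟨a, ha, hKF⟩ := KF p ℓ hℓ hpℓ A B y hpow
  refine ⟨a, ha, fun η => ?_⟩
  choose! jj γγ hj hγ using hKF
  have hcf : ∀ β : B, ∃ c : B → A, ∑ b ∈ y, algebraMap A B (c b) * b = β := by
    intro β
    have hβ : β ∈ Submodule.span A (y : Set B) := by rw [hspan]; trivial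
    obtain ⟨c, -, hc⟩ := Submodule.mem_span_finset.1 hβ
    exact ⟨c, by simpa [Algebra.smul_def] using hc⟩
  choose cf hcf using hcf
  set f := algebraMap A B with hf
  set c : B := f a ^ p ^ n with hc
  let θ : WittVector p B → WittVector p B := fun w =>
    ∑ b ∈ y, teichmuller p (f (cf (w.coeff 0) b)) * teichmuller p b
  have hθ0 : ∀ w, (θ w).coeff 0 = w.coeff 0 := by
    intro w
    show WittVector.constantCoeff (θ w) = w.coeff 0
    simp only [θ, map_sum, map_mul, WittVector.constantCoeff_apply, teichmuller_coeff_zero]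
    exact hcf (w.coeff 0)
  let next : WittVector p B → WittVector p B := fun w => (w - θ w).shift 1
  have hnext : ∀ w, w = θ w + verschiebung (next w) := by
    intro w
    have h0 : ∀ i < 1, (w - θ w).coeff i = 0 := by
      intro i hi
      have hi0 : i = 0 := by omega
      subst hi0
      show WittVector.constantCoeff (w - θ w) = 0
      rw [map_sub, WittVector.constantCoeff_apply, WittVector.constantCoeff_apply, hθ0, sub_self]
    have h1 := eq_iterate_verschiebung h0
    rw [Function.iterate_one] at h1
    show w = θ w + verschiebung ((w - θ w).shift 1)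
    rw [← h1]
    ring
  let seq : ℕ → WittVector p B := fun k => next^[k] η
  have hseq : ∀ k, seq k = θ (seq k) + verschiebung (seq (k + 1)) := by
    intro k
    have : seq (k + 1) = next (seq k) := Function.iterate_succ_apply' next k η
    rw [this]
    exact hnext (seq k)
  let α : ℕ → B → A := fun k b => cf ((seq k).coeff 0) b
  let β : ℕ → B → A := fun k b => α k b * γγ (k + n) b
  let x : B × ℕ → WittVector p A := fun g =>
    WittVector.mk p (fun k => if jj (k + n) g.1 = g.2 then β k g.1 else 0)
  refine ⟨x, ?_⟩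
  apply eq_of_truncate
  intro K
  -- Step A
  have hA : ∀ k, ∀ b ∈ y, (teichmuller p (f (α k b)) * teichmuller p b) *
      (⇑(frobenius : WittVector p B →+* WittVector p B))^[k] (teichmuller p c) =
      teichmuller p (f (β k b)) * (⇑(frobenius : WittVector p B →+* WittVector p B))^[k]
        ((⇑(frobenius : WittVector p B →+* WittVector p B))^[n]
          (teichmuller p (b ^ jj (k + n) b))) := by
    intro k b hb
    rw [frob_iter_teich, ← Function.iterate_add_apply, frob_iter_teich, ← map_mul, ← map_mul,
      ← map_mul]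
    congr 1
    have hc' : c ^ p ^ k = f a ^ p ^ (k + n) := by
      rw [hc, ← pow_mul, ← pow_add, add_comm]
    rw [hc', mul_assoc, mul_comm b, hγ (k + n) b hb]
    show f (α k b) * (f (γγ (k + n) b) * (b ^ jj (k + n) b) ^ p ^ (k + n)) =
      f (α k b * γγ (k + n) b) * (b ^ jj (k + n) b) ^ p ^ (k + n)
    rw [map_mul, mul_assoc]
  -- Step B
  have hB : ∀ k, teichmuller p c * Vit k (θ (seq k)) =
      ∑ b ∈ y, Vit k (teichmuller p (f (β k b))) *
        (⇑(frobenius : WittVector p B →+* WittVector p B))^[n]
          (teichmuller p (b ^ jj (k + n) b)) := by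
    intro k
    rw [mul_comm, Vit_mul]
    show Vit k ((∑ b ∈ y, teichmuller p (f (α k b)) * teichmuller p b) * _) = _
    rw [Finset.sum_mul, Finset.sum_congr rfl (hA k), map_sum]
    refine Finset.sum_congr rfl (fun b _ => ?_)
    rw [Vit_mul]
  -- Step C
  have hC : WittVector.truncate K (teichmuller p c * η) =
      ∑ k ∈ range K, ∑ b ∈ y, WittVector.truncate K (Vit k (teichmuller p (f (β k b))) *
        (⇑(frobenius : WittVector p B →+* WittVector p B))^[n]
          (teichmuller p (b ^ jj (k + n) b))) := by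
    have hη : η = ∑ k ∈ range K, Vit k (θ (seq k)) + Vit K (seq K) :=
      EXP seq (fun k => θ (seq k)) hseq K
    conv_lhs => rw [hη]
    rw [mul_add, Finset.mul_sum, map_add, map_mul _ _ (Vit K (seq K)), trunc_Vit, mul_zero,
      add_zero, map_sum]
    refine Finset.sum_congr rfl (fun k _ => ?_)
    rw [hB k, map_sum]
  -- Step D
  have hD : ∀ g : B × ℕ, WittVector.truncate K (WittVector.map f (x g) *
      (⇑(frobenius : WittVector p B →+* WittVector p B))^[n] (teichmuller p (g.1 ^ g.2))) =
      ∑ k ∈ range K, (if jj (k + n) g.1 = g.2 then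
        WittVector.truncate K (Vit k (teichmuller p (f (β k g.1))) *
          (⇑(frobenius : WittVector p B →+* WittVector p B))^[n] (teichmuller p (g.1 ^ g.2)))
        else 0) := by
    intro g
    have h1 := L1 (WittVector.map f (x g)) K
    conv_lhs => rw [h1]
    rw [add_mul, map_add, map_mul _ (Vit K _), trunc_Vit, zero_mul, add_zero, Finset.sum_mul,
      map_sum]
    refine Finset.sum_congr rfl (fun k _ => ?_)
    have h2 : (WittVector.map f (x g)).coeff k =
        if jj (k + n) g.1 = g.2 then f (β k g.1) else 0 := by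
      rw [WittVector.map_coeff]
      show f (if jj (k + n) g.1 = g.2 then β k g.1 else 0) = _
      split_ifs
      · rfl
      · exact map_zero f
    rw [h2]
    split_ifs
    · rfl
    · rw [teichmuller_zero, map_zero, zero_mul, map_zero]
  have hD' := Finset.sum_congr (s₁ := y ×ˢ Finset.range (ℓ + 1)) rfl (fun g _ => hD g)
  rw [hC, map_sum (WittVector.truncate K), hD']
  conv_rhs => rw [Finset.sum_comm]
  apply Finset.sum_congr rfl
  intro k _
  rw [Finset.sum_product]
  apply Finset.sum_congr rfl
  intro b hb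
  dsimp only
  rw [Finset.sum_ite_eq]
  rw [if_pos (Finset.mem_range.2 (Nat.lt_succ_of_le (hj (k + n) b hb)))]



/-- Affine form with D = 0: let p be a prime, ℓ ≥ 1 an integer not divisible by p and n ≥ 1. Let A → B
be an injective ring homomorphism of integral domains of characteristic p such that B is spanned as
an A-module by finitely many elements y with y ^ ℓ in the image of A (a weakly ℓ-cyclic extension).
Then for every p-typical Witt vector ζ over B in the image of the n-fold Verschiebung there is a
nonzero a in A such that the product of the Teichmüller representative of (the image of) a with ζ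
lies in the ideal of W(B) generated by the images of the n-fold Verschiebungs of Witt vectors over
A. (This is the case D = 0 of the published statement, written for the coordinate rings; the
published statement allows a twist by a real Weil divisor D and assumes the rings excellent and
normal, hypotheses which the case D = 0 does not use.) -/
theorem result
    (p : ℕ) [Fact p.Prime] (ℓ n : ℕ) (hℓ : 0 < ℓ) (hpℓ : ¬ p ∣ ℓ) (hn : 0 < n)
    (A B : Type u) [CommRing A] [CommRing B] [IsDomain A] [IsDomain B] [Algebra A B]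
    [CharP A p] [CharP B p] (hinj : Function.Injective (algebraMap A B))
    (y : Finset B) (hspan : Submodule.span A (y : Set B) = ⊤)
    (hpow : ∀ b ∈ y, b ^ ℓ ∈ Set.range (algebraMap A B))
    (ζ : WittVector p B)
    (hζ : ∃ η : WittVector p B, (⇑(WittVector.verschiebung : WittVector p B →+ WittVector p B))^[n] η = ζ) :
    ∃ a : A, a ≠ 0 ∧ WittVector.teichmuller p (algebraMap A B a) * ζ ∈
      Ideal.span (Set.range (fun x : WittVector p A =>
        WittVector.map (algebraMap A B) ((⇑(WittVector.verschiebung : WittVector p A →+ WittVector p A))^[n] x))) := by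
  classical
  obtain ⟨a, ha, hkey⟩ := key p ℓ n hℓ hpℓ A B y hspan hpow
  refine ⟨a, ha, ?_⟩
  obtain ⟨η, rfl⟩ := hζ
  obtain ⟨x, hx⟩ := hkey η
  have h1 : WittVector.teichmuller p (algebraMap A B a) *
      (⇑(WittVector.verschiebung : WittVector p B →+ WittVector p B))^[n] η =
      Vit n (WittVector.teichmuller p (algebraMap A B a ^ p ^ n) * η) := by
    rw [mul_comm, ← Vit_apply, Vit_mul, frob_iter_teich, mul_comm]
  rw [h1, hx, map_sum]
  refine Ideal.sum_mem _ (fun g _ => ?_)
  rw [← Vit_mul, ← map_Vit]
  refine Ideal.mul_mem_right _ _ (Ideal.subset_span ⟨x g, ?_⟩)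
  rfl

end Groth.Agent.S18587
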