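import Groth.Statements.S18589
import Mathlib.RingTheory.WittVector.StructurePolynomial

set_option autoImplicit false
open CAlg

namespace Groth.Agent.S18589

open MvPolynomial in
theorem deg_aux (p n i : ℕ) (hi : i ≤ n) : p ^ (n - i) • p ^ i = p ^ n := by
  rw [smul_eq_mul, ← pow_add]
  congr 1
  omega

open MvPolynomial in
theorem witt_aux (p : ℕ) (n : ℕ) (b : Fin 2) :
    IsWeightedHomogeneous (fun i : Fin 2 × ℕ => p ^ i.2)
      (rename (fun i => (b, i)) (wittPolynomial p ℚ n)) (p ^ n) := by
  rw [wittPolynomial_eq_sum_C_mul_X_pow, map_sum]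
  apply IsWeightedHomogeneous.sum
  intro i hi
  rw [map_mul, rename_C, map_pow (rename _), rename_X]
  apply IsWeightedHomogeneous.C_mul
  have h1 := (isWeightedHomogeneous_X ℚ (fun i : Fin 2 × ℕ => p ^ i.2) (b, i)).pow
    (p ^ (n - i))
  have hi' := Finset.mem_range.mp hi
  rw [← deg_aux p n i (by omega)]
  exact h1

open MvPolynomial in
theorem rat_aux (p : ℕ) [hp : Fact p.Prime] (n : ℕ) :
    IsWeightedHomogeneous (fun i : Fin 2 × ℕ => p ^ i.2)
      (wittStructureRat p (X 0 + X 1 : MvPolynomial (Fin 2) ℚ) n) (p ^ n) := by
  induction n using Nat.strong_induction_on with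
  | _ n IH =>
    rw [wittStructureRat_rec]
    apply IsWeightedHomogeneous.C_mul
    apply IsWeightedHomogeneous.sub
    · simp only [map_add, bind₁_X_right]
      exact (witt_aux p n 0).add (witt_aux p n 1)
    · apply IsWeightedHomogeneous.sum
      intro i hi
      apply IsWeightedHomogeneous.C_mul
      have hi' := Finset.mem_range.mp hi
      have h1 := (IH i hi').pow (p ^ (n - i))
      rw [← deg_aux p n i (by omega)]
      exact h1


/-- For a prime p and every natural number n, the n-th Witt addition polynomial over the integers (the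
polynomial S_n with (x + y)_n = S_n(x_0, y_0, …, x_n, y_n) for p-typical Witt vectors x, y) is
weighted homogeneous of weighted degree p ^ n for the grading in which the variables x_i and y_i
have weight p ^ i. -/
theorem result (p : ℕ) [Fact p.Prime] (n : ℕ) :
    MvPolynomial.IsWeightedHomogeneous (fun i : Fin 2 × ℕ => p ^ i.2) (WittVector.wittAdd p n) (p ^ n) := by
  intro d hd
  have h := rat_aux p n
  have hmap : MvPolynomial.map (Int.castRingHom ℚ) (WittVector.wittAdd p n) =
      wittStructureRat p (MvPolynomial.X 0 + MvPolynomial.X 1 : MvPolynomial (Fin 2) ℚ) n := by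
    rw [WittVector.wittAdd, map_wittStructureInt]
    simp
  apply h
  rw [← hmap, MvPolynomial.coeff_map]
  simpa using hd

end Groth.Agent.S18589
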