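import Groth.Statements.S18590
import Mathlib.RingTheory.WittVector.StructurePolynomial
import Mathlib.RingTheory.MvPolynomial.WeightedHomogeneous

set_option autoImplicit false
universe u
open CAlg

namespace Groth.Agent.S18590

open MvPolynomial in
theorem deg_aux (p n i : ℕ) (hi : i ≤ n) : p ^ (n - i) • p ^ i = p ^ n := by
  rw [smul_eq_mul, ← pow_add]
  congr 1
  omega

open MvPolynomial in
theorem witt_aux (p : ℕ) (c : Fin 2 → ℕ) (n : ℕ) (b : Fin 2) :
    IsWeightedHomogeneous (fun i : Fin 2 × ℕ => c i.1 * p ^ i.2)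
      (rename (fun i => (b, i)) (wittPolynomial p ℚ n)) (c b * p ^ n) := by
  rw [wittPolynomial_eq_sum_C_mul_X_pow, map_sum]
  apply IsWeightedHomogeneous.sum
  intro i hi
  rw [map_mul, rename_C, map_pow (rename _), rename_X]
  apply IsWeightedHomogeneous.C_mul
  have h1 := (isWeightedHomogeneous_X ℚ (fun i : Fin 2 × ℕ => c i.1 * p ^ i.2) (b, i)).pow
    (p ^ (n - i))
  have hi' := Finset.mem_range.mp hi
  have : p ^ (n - i) • (c b * p ^ i) = c b * p ^ n := by
    rw [← deg_aux p n i (by omega)]
    simp only [smul_eq_mul]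
    ring
  rw [← this]
  exact h1

open MvPolynomial in
theorem rat_add_aux (p : ℕ) [hp : Fact p.Prime] (n : ℕ) :
    IsWeightedHomogeneous (fun i : Fin 2 × ℕ => (fun _ => 1 : Fin 2 → ℕ) i.1 * p ^ i.2)
      (wittStructureRat p (X 0 + X 1 : MvPolynomial (Fin 2) ℚ) n) (p ^ n) := by
  induction n using Nat.strong_induction_on with
  | _ n IH =>
    rw [wittStructureRat_rec]
    apply IsWeightedHomogeneous.C_mul
    apply IsWeightedHomogeneous.sub
    · simp only [map_add, bind₁_X_right]
      have h0 := witt_aux p (fun _ => 1) n 0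
      have h1 := witt_aux p (fun _ => 1) n 1
      simp only [one_mul] at h0 h1 ⊢
      exact h0.add h1
    · apply IsWeightedHomogeneous.sum
      intro i hi
      apply IsWeightedHomogeneous.C_mul
      have hi' := Finset.mem_range.mp hi
      have h1 := (IH i hi').pow (p ^ (n - i))
      rw [← deg_aux p n i (by omega)]
      exact h1

open MvPolynomial in
theorem rat_mul_aux (p : ℕ) [hp : Fact p.Prime] (n : ℕ) :
    IsWeightedHomogeneous (fun i : Fin 2 × ℕ => (![0, 1] : Fin 2 → ℕ) i.1 * p ^ i.2)
      (wittStructureRat p (X 0 * X 1 : MvPolynomial (Fin 2) ℚ) n) (p ^ n) := by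
  induction n using Nat.strong_induction_on with
  | _ n IH =>
    rw [wittStructureRat_rec]
    apply IsWeightedHomogeneous.C_mul
    apply IsWeightedHomogeneous.sub
    · simp only [map_mul, bind₁_X_right]
      have h0 := witt_aux p ![0, 1] n 0
      have h1 := witt_aux p ![0, 1] n 1
      have := h0.mul h1
      simpa using this
    · apply IsWeightedHomogeneous.sum
      intro i hi
      apply IsWeightedHomogeneous.C_mul
      have hi' := Finset.mem_range.mp hi
      have h1 := (IH i hi').pow (p ^ (n - i))
      rw [← deg_aux p n i (by omega)]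
      exact h1

open MvPolynomial in
theorem int_of_rat {σ : Type*} (w : σ → ℕ) (f : MvPolynomial σ ℤ) (N : ℕ)
    (h : IsWeightedHomogeneous w (map (Int.castRingHom ℚ) f) N) : IsWeightedHomogeneous w f N := by
  intro d hd
  apply h
  rw [coeff_map]
  simpa using hd

open MvPolynomial in
theorem wittAdd_wh (p : ℕ) [hp : Fact p.Prime] (n : ℕ) :
    IsWeightedHomogeneous (fun i : Fin 2 × ℕ => (fun _ => 1 : Fin 2 → ℕ) i.1 * p ^ i.2)
      (WittVector.wittAdd p n) (p ^ n) := by
  apply int_of_rat
  have hmap : map (Int.castRingHom ℚ) (WittVector.wittAdd p n) =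
      wittStructureRat p (X 0 + X 1 : MvPolynomial (Fin 2) ℚ) n := by
    rw [WittVector.wittAdd, map_wittStructureInt]
    simp
  rw [hmap]
  exact rat_add_aux p n

open MvPolynomial in
theorem wittMul_wh (p : ℕ) [hp : Fact p.Prime] (n : ℕ) :
    IsWeightedHomogeneous (fun i : Fin 2 × ℕ => (![0, 1] : Fin 2 → ℕ) i.1 * p ^ i.2)
      (WittVector.wittMul p n) (p ^ n) := by
  apply int_of_rat
  have hmap : map (Int.castRingHom ℚ) (WittVector.wittMul p n) =
      wittStructureRat p (X 0 * X 1 : MvPolynomial (Fin 2) ℚ) n := by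
    rw [WittVector.wittMul, map_wittStructureInt]
    simp
  rw [hmap]
  exact rat_mul_aux p n

theorem pow_mem {A K : Type*} [CommRing A] [CommRing K] [Algebra A K] (M : ℕ → Submodule A K)
    (hmul : ∀ (i j : ℕ) (a b : K), a ∈ M i → b ∈ M j → a * b ∈ M (i + j))
    (j : ℕ) (v : K) (hv : v ∈ M j) (k : ℕ) : v ^ (k + 1) ∈ M ((k + 1) * j) := by
  induction k with
  | zero => simpa using hv
  | succ k ih =>
    rw [pow_succ, add_mul (k + 1) 1 j, one_mul]
    exact hmul _ _ _ _ ih hv

theorem prod_mem {A K : Type*} [CommRing A] [CommRing K] [Algebra A K] (M : ℕ → Submodule A K)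
    (hmul : ∀ (i j : ℕ) (a b : K), a ∈ M i → b ∈ M j → a * b ∈ M (i + j))
    {σ : Type*} (w : σ → ℕ) (v : σ → K)
    (hv0 : ∀ s, w s = 0 → v s ∈ Set.range (algebraMap A K))
    (hv1 : ∀ s, w s ≠ 0 → v s ∈ M (w s)) (d : σ →₀ ℕ) :
    (Finsupp.weight w d = 0 → (d.prod fun s k => v s ^ k) ∈ Set.range (algebraMap A K)) ∧
    (Finsupp.weight w d ≠ 0 → (d.prod fun s k => v s ^ k) ∈ M (Finsupp.weight w d)) := by
  classical
  induction d using Finsupp.induction with
  | zero =>
    refine ⟨fun _ => ⟨1, by simp⟩, fun h => absurd (map_zero _) h⟩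
  | single_add s k d' hs hk ih =>
    have hprod : ((Finsupp.single s k + d').prod fun s k => v s ^ k) =
        v s ^ k * (d'.prod fun s k => v s ^ k) := by
      rw [Finsupp.prod_add_index' (by simp) (by intros; rw [pow_add]),
        Finsupp.prod_single_index (by simp)]
    have hwt : Finsupp.weight w (Finsupp.single s k + d') = k * w s + Finsupp.weight w d' := by
      rw [map_add, Finsupp.weight_single, smul_eq_mul]
    rw [hprod, hwt]
    obtain ⟨k', rfl⟩ : ∃ k', k = k' + 1 := ⟨k - 1, by omega⟩
    by_cases hws : w s = 0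
    · obtain ⟨a, ha⟩ := hv0 s hws
      have hpow : v s ^ (k' + 1) = algebraMap A K (a ^ (k' + 1)) := by rw [map_pow, ha]
      rw [hws, mul_zero, zero_add, hpow]
      constructor
      · intro h0
        obtain ⟨b, hb⟩ := ih.1 h0
        exact ⟨a ^ (k' + 1) * b, by rw [map_mul, hb]⟩
      · intro h1
        rw [← Algebra.smul_def]
        exact Submodule.smul_mem _ _ (ih.2 h1)
    · have hpow := pow_mem M hmul (w s) (v s) (hv1 s hws) k'
      constructor
      · intro h0
        exfalso
        have : (k' + 1) * w s ≠ 0 := Nat.mul_ne_zero (by omega) hws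
        omega
      · intro _
        by_cases hd' : Finsupp.weight w d' = 0
        · obtain ⟨b, hb⟩ := ih.1 hd'
          rw [hd', add_zero, ← hb, mul_comm (v s ^ (k' + 1)), ← Algebra.smul_def]
          exact Submodule.smul_mem _ _ hpow
        · exact hmul _ _ _ _ hpow (ih.2 hd')

open MvPolynomial in
theorem eval_mem {A K : Type*} [CommRing A] [CommRing K] [Algebra A K] (M : ℕ → Submodule A K)
    (hmul : ∀ (i j : ℕ) (a b : K), a ∈ M i → b ∈ M j → a * b ∈ M (i + j))
    {σ : Type*} (w : σ → ℕ) (v : σ → K)
    (hv0 : ∀ s, w s = 0 → v s ∈ Set.range (algebraMap A K))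
    (hv1 : ∀ s, w s ≠ 0 → v s ∈ M (w s))
    (f : MvPolynomial σ ℤ) (N : ℕ) (hN : N ≠ 0) (hf : IsWeightedHomogeneous w f N) :
    aeval v f ∈ M N := by
  classical
  rw [f.as_sum, map_sum]
  apply Submodule.sum_mem
  intro d hd
  rw [aeval_monomial]
  have hcoeff : coeff d f ≠ 0 := mem_support_iff.mp hd
  have hwd : Finsupp.weight w d = N := hf hcoeff
  have hmem := (prod_mem M hmul w v hv0 hv1 d).2 (by rw [hwd]; exact hN)
  rw [hwd] at hmem
  rw [← Algebra.smul_def]
  exact zsmul_mem hmem _


/-- Let p be a prime, A a commutative ring, K a commutative A-algebra of characteristic p and M_0, M_1,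
M_2, … A-submodules of K with M_i · M_j ⊆ M_(i+j) for all i, j. Then the subset of the ring W(K) of
p-typical Witt vectors consisting of the vectors whose n-th coordinate lies in M_(p^n) for every n
is closed under addition and under multiplication by the image of W(A) under W of the structure map;
in other words it is a W(A)-submodule of W(K). (The published statement is the case of an integral
normal noetherian scheme X of characteristic p with function field K, an affine open subset U with
coordinate ring A, and M_k the module of sections over U of the divisorial sheaf of k·D for a real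
Weil divisor D on X; these form such a multiplicative family, and the subset is then the module of
sections over U of the Witt divisorial sheaf of D inside W(K). Only the two stated properties of
that family enter.) -/
theorem result
    (p : ℕ) [Fact p.Prime] (A K : Type u) [CommRing A] [CommRing K] [Algebra A K] [CharP K p]
    (M : ℕ → Submodule A K)
    (hmul : ∀ (i j : ℕ) (a b : K), a ∈ M i → b ∈ M j → a * b ∈ M (i + j)) :
    (∀ φ ψ : WittVector p K, (∀ n : ℕ, φ.coeff n ∈ M (p ^ n)) → (∀ n : ℕ, ψ.coeff n ∈ M (p ^ n)) →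
        ∀ n : ℕ, (φ + ψ).coeff n ∈ M (p ^ n)) ∧
      (∀ (x : WittVector p A) (φ : WittVector p K), (∀ n : ℕ, φ.coeff n ∈ M (p ^ n)) →
        ∀ n : ℕ, (WittVector.map (algebraMap A K) x * φ).coeff n ∈ M (p ^ n)) := by
  have hpn : ∀ n : ℕ, p ^ n ≠ 0 := fun n => pow_ne_zero _ (Fact.out : p.Prime).ne_zero
  constructor
  · intro φ ψ hφ hψ n
    rw [WittVector.add_coeff, WittVector.peval]
    refine eval_mem M hmul _ _ ?_ ?_ _ (p ^ n) (hpn n) (wittAdd_wh p n)
    · rintro ⟨b, i⟩ h0
      simp only [one_mul] at h0
      exact absurd h0 (hpn i)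
    · rintro ⟨b, i⟩ _
      simp only [one_mul, Function.uncurry]
      fin_cases b
      · exact hφ i
      · exact hψ i
  · intro x φ hφ n
    rw [WittVector.mul_coeff, WittVector.peval]
    refine eval_mem M hmul _ _ ?_ ?_ _ (p ^ n) (hpn n) (wittMul_wh p n)
    · rintro ⟨b, i⟩ h0
      fin_cases b
      · simp only [Function.uncurry]
        exact ⟨x.coeff i, by simp [WittVector.map_coeff]⟩
      · change 1 * p ^ i = 0 at h0
        rw [one_mul] at h0
        exact absurd h0 (hpn i)
    · rintro ⟨b, i⟩ h1
      fin_cases b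
      · exact absurd (by change 0 * p ^ i = 0; rw [zero_mul]) h1
      · simp only [Function.uncurry]
        simpa using hφ i

end Groth.Agent.S18590
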