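import Groth.Statements.S18591
import Groth.Agent.H92.MonAdj

set_option autoImplicit false
universe v u
open W4c5suslinpi1ab

namespace Groth.Agent.S18591

open CategoryTheory MonoidalCategory Functor.LaxMonoidal Functor.OplaxMonoidal in
/-- In a square of adjunctions between monoidal categories — fL ⊣ fR from the base S₀ to Y₁, pL ⊣ pR
from Y₁ to X (both left adjoints oplax monoidal, right adjoints with the induced lax structure), qL
⊣ qR from Y₂ to X, a functor gR : Y₂ ⥤ S₀ and a natural transformation ν : qR ⋙ gR ⟶ pR ⋙ fR from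
which the base change fL gR ⟶ pR qL is built, the adjoint under the composite adjunction fL ⋙ pL ⊣
pR ⋙ fR of the exterior product fR A ⊗ gR B ⟶ fR pR (pL A ⊗ qL B) is the oplax comparison map of fL
⋙ pL followed by (pL of the counit of adjf at A) ⊗ (pL of the base change at B, then the counit of
adjp at qL B). (The published statement assumes symmetric monoidal categories and monoidal pullbacks
and writes the domain of this map as a tensor product of pullbacks; here only oplax left adjoints
are assumed and the oplax comparison map is kept explicit.) -/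
theorem result {S₀ : Type u} [Category.{v} S₀] [MonoidalCategory S₀]
    {Y₁ : Type u} [Category.{v} Y₁] [MonoidalCategory Y₁]
    {Y₂ : Type u} [Category.{v} Y₂] [MonoidalCategory Y₂]
    {X : Type u} [Category.{v} X] [MonoidalCategory X]
    {fL : S₀ ⥤ Y₁} {fR : Y₁ ⥤ S₀} (adjf : fL ⊣ fR) [fL.OplaxMonoidal] [fR.LaxMonoidal]
    [adjf.IsMonoidal] {gR : Y₂ ⥤ S₀}
    {pL : Y₁ ⥤ X} {pR : X ⥤ Y₁} (adjp : pL ⊣ pR) [pL.OplaxMonoidal] [pR.LaxMonoidal]
    [adjp.IsMonoidal] {qL : Y₂ ⥤ X} {qR : X ⥤ Y₂} (adjq : qL ⊣ qR)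
    (ν : qR ⋙ gR ⟶ pR ⋙ fR) (A : Y₁) (B : Y₂) :
    ((adjf.comp adjp).homEquiv _ _).symm (W4c5suslinpi1ab.extProd adjf adjp adjq ν A B) =
      δ (fL ⋙ pL) (fR.obj A) (gR.obj B) ≫
        (pL.map (adjf.counit.app A) ⊗ₘ
          (pL.map ((W4c5suslinpi1ab.bcMor adjf adjq ν).app B) ≫ adjp.counit.app (qL.obj B))) := by
  have e1 : fL.map (W4c5suslinpi1ab.extProd adjf adjp adjq ν A B) ≫
      adjf.counit.app (pR.obj (pL.obj A ⊗ qL.obj B)) =
      δ fL (fR.obj A) (gR.obj B) ≫ (adjf.counit.app A ▷ fL.obj (gR.obj B)) ≫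
        (A ◁ (W4c5suslinpi1ab.bcMor adjf adjq ν).app B) ≫
        W4c5suslinpi1ab.projL adjp A (qL.obj B) := by
    unfold W4c5suslinpi1ab.extProd
    simp only [Functor.map_comp, Category.assoc]
    dsimp only [Functor.comp_obj, Functor.id_obj]
    rw [adjf.counit_naturality, adjf.counit_naturality_assoc,
      Groth.Agent.H92.MonAdj.map_projR_counit_assoc]
  rw [Adjunction.homEquiv_counit, Adjunction.comp_counit_app, Functor.comp_map,
    ← pL.map_comp_assoc, e1]
  simp only [Functor.map_comp, Category.assoc]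
  rw [Groth.Agent.H92.MonAdj.map_projL_counit]
  dsimp only [Functor.comp_obj, Functor.id_obj]
  rw [← δ_natural_right_assoc, ← δ_natural_left_assoc,
    Functor.OplaxMonoidal.comp_δ, tensorHom_def, MonoidalCategory.whiskerLeft_comp]
  simp only [Category.assoc, Functor.comp_obj]

end Groth.Agent.S18591
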