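import Groth.Statements.S18598
import Mathlib

set_option autoImplicit false
universe u
open SSRed

namespace Groth.Agent.S18598


open Polynomial

theorem pow_dvd_eval (O : Type u) [CommRing O] [IsDomain O] (α : O) (m : ℕ) (hm : 0 < m)
    (hα : IsPrimitiveRoot α m) :
    (1 - α) ^ Nat.totient m ∣ eval 1 (cyclotomic m O) := by
  classical
  have : NeZero m := ⟨hm.ne'⟩
  rw [cyclotomic_eq_prod_X_sub_primitiveRoots hα, eval_prod, ← hα.card_primitiveRoots,
    ← Finset.prod_const]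
  apply Finset.prod_dvd_prod_of_dvd
  intro ζ hζ
  rw [eval_sub, eval_X, eval_C]
  have hζ' : IsPrimitiveRoot ζ m := (mem_primitiveRoots hm).mp hζ
  obtain ⟨i, -, rfl⟩ := hα.eq_pow_of_pow_eq_one hζ'.pow_eq_one
  have h1 := sub_dvd_pow_sub_pow (1 : O) α i
  rwa [one_pow] at h1

theorem key (O : Type u) [CommRing O] [IsDomain O] [CharZero O] (n : ℕ) (hn : 2 ≤ n)
    (hO : ∀ p : ℕ, p.Prime → p ∣ n → ¬ IsUnit (p : O)) (α : O) (hα : IsOfFinOrder α)
    (h : (n : O) ∣ (α - 1) ^ 2) (hα1 : α ≠ 1) :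
    ∃ p k j : ℕ, p.Prime ∧ orderOf α = p ^ (k + 1) ∧ n = p ^ j ∧ 1 ≤ j ∧
      j * (p ^ k * (p - 1)) ≤ 2 := by
  classical
  have hmpos : 0 < orderOf α := hα.orderOf_pos
  have hprim : IsPrimitiveRoot α (orderOf α) := IsPrimitiveRoot.orderOf α
  have hm1 : orderOf α ≠ 1 := fun h1 => hα1 (orderOf_eq_one_iff.mp h1)
  have hφpos : 0 < Nat.totient (orderOf α) := Nat.totient_pos.mpr hmpos
  have hdiv : (n : O) ^ Nat.totient (orderOf α) ∣ (eval 1 (cyclotomic (orderOf α) O)) ^ 2 := by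
    have h1 := pow_dvd_pow_of_dvd h (Nat.totient (orderOf α))
    have h0 : (α - 1) ^ 2 = (1 - α) ^ 2 := by ring
    rw [h0, ← pow_mul, mul_comm, pow_mul] at h1
    exact h1.trans (pow_dvd_pow_of_dvd (pow_dvd_eval O α _ hmpos hprim) 2)
  obtain ⟨q, hq, hqn⟩ := Nat.exists_prime_and_dvd (by omega : n ≠ 1)
  have hqO : ¬ IsUnit (q : O) := hO q hq hqn
  by_cases hpp : ∀ {p : ℕ}, p.Prime → ∀ k : ℕ, p ^ k ≠ orderOf α
  · exfalso
    rw [eval_one_cyclotomic_not_prime_pow hpp, one_pow] at hdiv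
    have h3 : (q : O) ∣ (n : O) ^ Nat.totient (orderOf α) :=
      (Nat.cast_dvd_cast hqn).trans (dvd_pow_self _ hφpos.ne')
    exact hqO (isUnit_of_dvd_one (h3.trans hdiv))
  · push Not at hpp
    obtain ⟨p, hp, k0, hk0⟩ := hpp
    obtain ⟨k, rfl⟩ : ∃ k, k0 = k + 1 := by
      cases k0 with
      | zero => exact absurd (by simpa using hk0.symm) hm1
      | succ k => exact ⟨k, rfl⟩
    have : Fact p.Prime := ⟨hp⟩
    rw [← hk0, eval_one_cyclotomic_prime_pow, Nat.totient_prime_pow_succ hp] at hdiv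
    have hXpos : 0 < p ^ k * (p - 1) := by
      have := hp.two_le
      exact Nat.mul_pos (pow_pos hp.pos k) (by omega)
    have hall : ∀ {q' : ℕ}, q'.Prime → q' ∣ n → q' = p := by
      intro q' hq' hq'n
      by_contra hne
      have hcop : Nat.Coprime (q' ^ (p ^ k * (p - 1))) (p ^ 2) :=
        Nat.Coprime.pow _ _ ((Nat.coprime_primes hq' hp).mpr hne)
      have hcopO : IsCoprime ((q' : O) ^ (p ^ k * (p - 1))) ((p : O) ^ 2) := by
        have h5 := (Nat.isCoprime_iff_coprime.mpr hcop).map (Int.castRingHom O)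
        simpa using h5
      have h3 : (q' : O) ^ (p ^ k * (p - 1)) ∣ (p : O) ^ 2 :=
        (pow_dvd_pow_of_dvd (Nat.cast_dvd_cast hq'n) _).trans hdiv
      have h4 : IsUnit ((q' : O) ^ (p ^ k * (p - 1))) := hcopO.isUnit_of_dvd' (dvd_refl _) h3
      exact hO q' hq' hq'n ((isUnit_pow_iff hXpos.ne').mp h4)
    have hnj : n = p ^ n.primeFactorsList.length :=
      Nat.eq_prime_pow_of_unique_prime_dvd (by omega) hall
    have hj1 : 1 ≤ n.primeFactorsList.length := by
      by_contra hc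
      have h0 : n.primeFactorsList.length = 0 := by omega
      rw [h0, pow_zero] at hnj
      omega
    have hpn : p ∣ n := by
      rw [hnj]; exact dvd_pow_self p (by omega)
    have hpO : ¬ IsUnit (p : O) := hO p hp hpn
    have hp0 : (p : O) ≠ 0 := Nat.cast_ne_zero.mpr hp.ne_zero
    have hcast : (n : O) = (p : O) ^ n.primeFactorsList.length := by
      conv_lhs => rw [hnj]
      exact Nat.cast_pow _ _
    rw [hcast, ← pow_mul, pow_dvd_pow_iff hp0 hpO] at hdiv
    exact ⟨p, k, n.primeFactorsList.length, hp, hk0.symm, hnj, hj1, hdiv⟩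

theorem bounds (p k j : ℕ) (hp : p.Prime) (hj : 1 ≤ j) (hb : j * (p ^ k * (p - 1)) ≤ 2) :
    (p = 2 ∧ k = 0 ∧ j = 1) ∨ (p = 2 ∧ k = 0 ∧ j = 2) ∨ (p = 2 ∧ k = 1 ∧ j = 1) ∨
      (p = 3 ∧ k = 0 ∧ j = 1) := by
  have hp2 := hp.two_le
  have hpk : 1 ≤ p ^ k := Nat.one_le_pow _ _ hp.pos
  have hp1 : 1 ≤ p - 1 := by omega
  have hX : 1 ≤ p ^ k * (p - 1) := Nat.mul_pos hpk hp1
  have hj2 : j ≤ 2 := by
    by_contra hc
    have hc' : 3 ≤ j := by omega
    have := Nat.mul_le_mul hc' hX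
    omega
  have hX2 : p ^ k * (p - 1) ≤ 2 := by
    by_contra hc
    have hc' : 3 ≤ p ^ k * (p - 1) := by omega
    have := Nat.mul_le_mul hj hc'
    omega
  have hp3 : p ≤ 3 := by
    by_contra hc
    have h3 : 3 ≤ p - 1 := by omega
    have := Nat.mul_le_mul hpk h3
    omega
  have hpk2 : p ^ k ≤ 2 := by
    by_contra hc
    have hc' : 3 ≤ p ^ k := by omega
    have := Nat.mul_le_mul hc' hp1
    omega
  have hk1 : k ≤ 1 := by
    by_contra hc
    have hc' : 2 ≤ k := by omega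
    have h5 : p ^ 2 ≤ p ^ k := Nat.pow_le_pow_right hp.pos hc'
    have h6 : 4 ≤ p ^ 2 := by nlinarith
    omega
  interval_cases p
  · interval_cases k
    · interval_cases j <;> simp_all
    · interval_cases j <;> simp_all
  · interval_cases k
    · interval_cases j <;> simp_all
    · simp at hpk2



/-- Let O be a commutative integral domain of characteristic zero, n a positive integer such that no
prime number dividing n is a unit in O, and α an element of O of finite multiplicative order such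
that (α − 1)² is divisible by n in O. Then α = 1 if n ≥ 5, α² = 1 if n = 4, α³ = 1 if n = 3, and α⁴
= 1 if n = 2. -/
theorem result (O : Type u) [CommRing O] [IsDomain O] [CharZero O]
    (n : ℕ) (hn : 0 < n) (hO : ∀ p : ℕ, p.Prime → p ∣ n → ¬ IsUnit (p : O))
    (α : O) (hα : IsOfFinOrder α) (h : (n : O) ∣ (α - 1) ^ 2) :
    (5 ≤ n → α = 1) ∧ (n = 4 → α ^ 2 = 1) ∧ (n = 3 → α ^ 3 = 1) ∧ (n = 2 → α ^ 4 = 1) := by
  refine ⟨fun h5 => ?_, fun h4 => ?_, fun h3 => ?_, fun h2 => ?_⟩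
  · by_contra hα1
    obtain ⟨p, k, j, hp, hord, hnj, hj1, hb⟩ := key O n (by omega) hO α hα h hα1
    rcases bounds p k j hp hj1 hb with ⟨rfl, rfl, rfl⟩ | ⟨rfl, rfl, rfl⟩ | ⟨rfl, rfl, rfl⟩ |
      ⟨rfl, rfl, rfl⟩ <;> norm_num at hnj <;> omega
  · by_cases hα1 : α = 1
    · rw [hα1, one_pow]
    · obtain ⟨p, k, j, hp, hord, hnj, hj1, hb⟩ := key O n (by omega) hO α hα h hα1
      have hpow := pow_orderOf_eq_one α
      rcases bounds p k j hp hj1 hb with ⟨rfl, rfl, rfl⟩ | ⟨rfl, rfl, rfl⟩ | ⟨rfl, rfl, rfl⟩ |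
        ⟨rfl, rfl, rfl⟩
      · norm_num at hnj; omega
      · rw [hord] at hpow; simpa using hpow
      · norm_num at hnj; omega
      · norm_num at hnj; omega
  · by_cases hα1 : α = 1
    · rw [hα1, one_pow]
    · obtain ⟨p, k, j, hp, hord, hnj, hj1, hb⟩ := key O n (by omega) hO α hα h hα1
      have hpow := pow_orderOf_eq_one α
      rcases bounds p k j hp hj1 hb with ⟨rfl, rfl, rfl⟩ | ⟨rfl, rfl, rfl⟩ | ⟨rfl, rfl, rfl⟩ |
        ⟨rfl, rfl, rfl⟩
      · norm_num at hnj; omega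
      · norm_num at hnj; omega
      · norm_num at hnj; omega
      · rw [hord] at hpow; simpa using hpow
  · by_cases hα1 : α = 1
    · rw [hα1, one_pow]
    · obtain ⟨p, k, j, hp, hord, hnj, hj1, hb⟩ := key O n (by omega) hO α hα h hα1
      have hpow := pow_orderOf_eq_one α
      rcases bounds p k j hp hj1 hb with ⟨rfl, rfl, rfl⟩ | ⟨rfl, rfl, rfl⟩ | ⟨rfl, rfl, rfl⟩ |
        ⟨rfl, rfl, rfl⟩
      · rw [hord] at hpow
        have h6 : α ^ 2 = 1 := by simpa using hpow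
        calc α ^ 4 = (α ^ 2) ^ 2 := by ring
          _ = 1 := by rw [h6, one_pow]
      · norm_num at hnj; omega
      · rw [hord] at hpow; simpa using hpow
      · norm_num at hnj; omega

end Groth.Agent.S18598
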