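import Groth.Statements.S18599
import Mathlib
import Groth.Agent.H64.ZlTors

set_option autoImplicit false
universe u
open SSRed

namespace Groth.Agent.S18599

/-- Let ℓ be a prime number, M a free ℤ_ℓ-module of finite rank, A an automorphism of M with A^ℓ = 1,
and c the rank of M minus the rank of the submodule of A-invariants. Assume that ℓ = 2 and A − 1 ∈
2·End(M), or that ℓ = 2 and (A − 1)² ∈ 4·End(M), or that ℓ = 3 and (A − 1)² ∈ 3·End(M). Then the
torsion submodule of M/(A − 1)M is a vector space over ℤ/ℓℤ of dimension c/(ℓ − 1): it is killed by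
ℓ and has ℓ^r elements for some r with r(ℓ − 1) = c. -/
theorem result (ℓ : ℕ) [Fact ℓ.Prime]
    (M : Type u) [AddCommGroup M] [Module ℤ_[ℓ] M] [Module.Free ℤ_[ℓ] M] [Module.Finite ℤ_[ℓ] M]
    (A : M ≃ₗ[ℤ_[ℓ]] M) (hA : A ^ ℓ = 1) (f : Module.End ℤ_[ℓ] M) (hf : f = (A : M →ₗ[ℤ_[ℓ]] M) - 1)
    (hcase : (ℓ = 2 ∧ ∃ B : Module.End ℤ_[ℓ] M, f = (2 : ℤ_[ℓ]) • B) ∨
      (ℓ = 2 ∧ ∃ B : Module.End ℤ_[ℓ] M, f ^ 2 = (4 : ℤ_[ℓ]) • B) ∨
      (ℓ = 3 ∧ ∃ B : Module.End ℤ_[ℓ] M, f ^ 2 = (3 : ℤ_[ℓ]) • B))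
    (c : ℕ) (hc : c = Module.finrank ℤ_[ℓ] M - Module.finrank ℤ_[ℓ] (LinearMap.ker f)) :
    (∀ x ∈ Submodule.torsion ℤ_[ℓ] (M ⧸ LinearMap.range f), (ℓ : ℤ_[ℓ]) • x = 0) ∧
      ∃ r : ℕ, r * (ℓ - 1) = c ∧
        Nat.card (Submodule.torsion ℤ_[ℓ] (M ⧸ LinearMap.range f)) = ℓ ^ r := by
  have hfx : ∀ x, f x = A x - x := fun x => by rw [hf]; simp
  have hpow : ∀ n : ℕ, ℓ = n → A ^ n = 1 := fun n hn =>
    (congrArg (fun k => A ^ k) hn).symm.trans hA
  rcases hcase with ⟨h2, B, hB⟩ | ⟨h2, B, hB⟩ | ⟨h3, B, hB⟩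
  · have hAA : ∀ x, A (A x) = x := by
      intro x
      have := LinearEquiv.congr_fun (hpow 2 h2) x
      simpa [pow_two] using this
    have hBx : ∀ x, f x = (2 : ℤ_[ℓ]) • B x := fun x => by rw [hB]; rfl
    have key := Groth.Agent.H64.ZlTors.case_two h2 A hAA f B hfx hBx
    refine ⟨key.1, c, ?_, ?_⟩
    · rw [h2]; simp
    · rw [hc]; exact key.2
  · have hAA : ∀ x, A (A x) = x := by
      intro x
      have := LinearEquiv.congr_fun (hpow 2 h2) x
      simpa [pow_two] using this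
    have hBx : ∀ x, f (f x) = (4 : ℤ_[ℓ]) • B x := fun x => by
      have := LinearMap.congr_fun hB x
      simpa [pow_two] using this
    have key := Groth.Agent.H64.ZlTors.case_two' h2 A hAA f B hfx hBx
    refine ⟨key.1, c, ?_, ?_⟩
    · rw [h2]; simp
    · rw [hc]; exact key.2
  · have hAA : ∀ x, A (A (A x)) = x := by
      intro x
      have := LinearEquiv.congr_fun (hpow 3 h3) x
      simpa [pow_three] using this
    have hBx : ∀ x, f (f x) = (3 : ℤ_[ℓ]) • B x := fun x => by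
      have := LinearMap.congr_fun hB x
      simpa [pow_two] using this
    obtain ⟨k1, r, hr, hcard⟩ := Groth.Agent.H64.ZlTors.case_three h3 A hAA f B hfx hBx
    refine ⟨k1, r, ?_, hcard⟩
    rw [hc, ← hr, h3]

end Groth.Agent.S18599
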