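import Groth.Statements.S18600
import Mathlib
import Groth.Agent.H64.CharpolySq

set_option autoImplicit false
universe v
open SSRed

namespace Groth.Agent.S18600

/-- Let n be a positive integer, g a natural number and f ∈ ℤ[x] a monic polynomial such that for every
prime ℓ dividing n there is a g × g matrix A_ℓ over ℤ_ℓ whose characteristic polynomial is f and
such that (A_ℓ − 1)² lies in n·M_g(ℤ_ℓ). Then for every root α of f in a field of characteristic
zero and every square root s of n in that field, (α − 1)/s is integral over ℤ. (The published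
statement is for matrices of size 2d and speaks of the eigenvalues of the A_ℓ, which are the roots
of their common characteristic polynomial f; the parity of the size plays no role.) -/
theorem result (n : ℕ) (hn : 0 < n) (g : ℕ) (f : Polynomial ℤ)
    (hf : f.Monic)
    (hA : ∀ (ℓ : ℕ) [Fact ℓ.Prime], ℓ ∣ n → ∃ A : Matrix (Fin g) (Fin g) ℤ_[ℓ],
      A.charpoly = f.map (Int.castRingHom ℤ_[ℓ]) ∧
        ∃ B : Matrix (Fin g) (Fin g) ℤ_[ℓ], (A - 1) ^ 2 = (n : ℤ_[ℓ]) • B)
    (K : Type v) [Field K] [CharZero K] (α s : K) (hα : Polynomial.aeval α f = 0) (hs : s ^ 2 = (n : K)) :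
    IsIntegral ℤ ((α - 1) / s) := by
  classical
  have hαi : IsIntegral ℤ α := ⟨f, hf, by rw [← Polynomial.aeval_def]; exact hα⟩
  rcases Nat.lt_or_ge n 2 with hn2 | hn2
  · have hn1 : n = 1 := by omega
    subst hn1
    have hs1 : s * s = 1 := by rw [← sq, hs]; simp
    have h1 : IsIntegral ℤ (α - 1) := hαi.sub isIntegral_one
    rcases mul_self_eq_one_iff.mp hs1 with rfl | rfl
    · rw [div_one]; exact h1
    · rw [div_neg, div_one]; exact h1.neg
  · obtain ⟨ℓ₀, hℓ₀, hℓ₀n⟩ := Nat.exists_prime_and_dvd (show n ≠ 1 by omega)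
    set P : Polynomial ℤ := Polynomial.C ((-1 : ℤ) ^ g) * (f.comp (1 + Polynomial.X)) *
      (f.comp (1 - Polynomial.X)) with hP
    have hcoef : ∀ (ℓ : ℕ) [Fact ℓ.Prime], ℓ ∣ n → ∃ B : Matrix (Fin g) (Fin g) ℤ_[ℓ],
        ∀ j : ℕ, ((P.coeff j : ℤ) : ℤ_[ℓ]) =
          if 2 ∣ j then ((n : ℤ_[ℓ]) • B).charpoly.coeff (j / 2) else 0 := by
      intro ℓ _ hℓn
      obtain ⟨A, hA, B, hB⟩ := hA ℓ hℓn
      refine ⟨B, fun j => ?_⟩
      have : Infinite ℤ_[ℓ] := Infinite.of_injective (Nat.cast : ℕ → ℤ_[ℓ]) Nat.cast_injective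
      have h1 := Groth.Agent.H64.CharpolySq.charpoly_sub_one_sq g A
      rw [hA, hB] at h1
      have h2 : P.map (Int.castRingHom ℤ_[ℓ]) =
          Polynomial.C ((-1 : ℤ_[ℓ]) ^ g) *
            ((f.map (Int.castRingHom ℤ_[ℓ])).comp (1 + Polynomial.X)) *
            ((f.map (Int.castRingHom ℤ_[ℓ])).comp (1 - Polynomial.X)) := by
        simp [hP, Polynomial.map_mul, Polynomial.map_comp]
      have h3 := congrArg (fun p => p.coeff j) (h2.trans h1)
      simp only [Polynomial.coeff_map, Polynomial.coeff_expand (by norm_num : 0 < 2)] at h3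
      simpa using h3
    have : Fact ℓ₀.Prime := ⟨hℓ₀⟩
    obtain ⟨B₀, hB₀⟩ := hcoef ℓ₀ hℓ₀n
    have hodd : ∀ j, ¬ 2 ∣ j → P.coeff j = 0 := by
      intro j hj
      have h := hB₀ j
      rw [if_neg hj] at h
      exact_mod_cast h
    have hmonic₀ := Matrix.charpoly_monic ((n : ℤ_[ℓ₀]) • B₀)
    have hdeg₀ : (((n : ℤ_[ℓ₀]) • B₀).charpoly).natDegree = g := by
      rw [Matrix.charpoly_natDegree_eq_dim, Fintype.card_fin]
    have htop : P.coeff (2 * g) = 1 := by
      have h := hB₀ (2 * g)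
      rw [if_pos (dvd_mul_right 2 g), Nat.mul_div_cancel_left g (by norm_num : 0 < 2)] at h
      have h1 := hmonic₀.coeff_natDegree
      rw [hdeg₀] at h1
      rw [h1] at h
      exact_mod_cast h
    have hhigh : ∀ j, 2 * g < j → P.coeff j = 0 := by
      intro j hj
      by_cases h2 : 2 ∣ j
      · have h := hB₀ j
        rw [if_pos h2] at h
        have h1 : (((n : ℤ_[ℓ₀]) • B₀).charpoly).coeff (j / 2) = 0 := by
          apply Polynomial.coeff_eq_zero_of_natDegree_lt
          rw [hdeg₀]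
          omega
        rw [h1] at h
        exact_mod_cast h
      · exact hodd j h2
    have hdiv : ∀ k, k ≤ g → ((n : ℤ) ^ (g - k)) ∣ P.coeff (2 * k) := by
      intro k hk
      have hpad : ∀ (ℓ : ℕ) [Fact ℓ.Prime], ℓ ∣ n ^ (g - k) →
          (((n ^ (g - k) : ℕ)) : ℤ_[ℓ]) ∣ ((P.coeff (2 * k) : ℤ) : ℤ_[ℓ]) := by
        intro ℓ _ hℓ
        have hℓn : ℓ ∣ n := (Fact.out : ℓ.Prime).dvd_of_dvd_pow hℓ
        obtain ⟨B, hB⟩ := hcoef ℓ hℓn
        have h1 := hB (2 * k)
        rw [if_pos (dvd_mul_right 2 k), Nat.mul_div_cancel_left k (by norm_num : 0 < 2)] at h1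
        have : Infinite ℤ_[ℓ] := Infinite.of_injective (Nat.cast : ℕ → ℤ_[ℓ]) Nat.cast_injective
        have hn0 : ((n : ℤ_[ℓ])) ≠ 0 := by exact_mod_cast hn.ne'
        rw [Groth.Agent.H64.CharpolySq.charpoly_smul_coeff g _ hn0 B k hk] at h1
        rw [h1]
        push_cast
        exact Dvd.intro _ rfl
      have h := Groth.Agent.H64.CharpolySq.dvd_of_forall_padic_dvd (n ^ (g - k)) (pow_pos hn _)
        (P.coeff (2 * k)) hpad
      exact_mod_cast h
    have hn0K : (n : K) ≠ 0 := by exact_mod_cast hn.ne'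
    have hs0 : s ≠ 0 := by
      intro h
      apply hn0K
      rw [← hs, h]
      simp
    have hPτ : Polynomial.aeval (α - 1) P = 0 := by
      rw [hP, map_mul, map_mul, Polynomial.aeval_comp]
      have h1 : Polynomial.aeval (α - 1) (1 + Polynomial.X : Polynomial ℤ) = α := by simp
      rw [h1, hα, mul_zero, zero_mul]
    have hnat : P.natDegree < 2 * g + 1 :=
      Nat.lt_succ_of_le (Polynomial.natDegree_le_iff_coeff_eq_zero.mpr (fun j hj => hhigh j hj))
    have hsum : ∑ i ∈ Finset.range (2 * g + 1), ((P.coeff i : ℤ) : K) * (α - 1) ^ i = 0 := by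
      rw [← hPτ, Polynomial.aeval_eq_sum_range' hnat]
      refine Finset.sum_congr rfl (fun i _ => ?_)
      rw [zsmul_eq_mul]
    let c : ℕ → ℤ := fun j => P.coeff j / (n : ℤ) ^ (g - j / 2)
    have hc : ∀ j, j ≤ 2 * g → ((c j : ℤ) : K) * s ^ (2 * g - j) = ((P.coeff j : ℤ) : K) := by
      intro j hj
      by_cases h2 : 2 ∣ j
      · obtain ⟨k, rfl⟩ := h2
        have hk : k ≤ g := by omega
        have h1 : c (2 * k) * (n : ℤ) ^ (g - k) = P.coeff (2 * k) := by
          simp only [c]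
          rw [Nat.mul_div_cancel_left k (by norm_num : 0 < 2)]
          exact Int.ediv_mul_cancel (hdiv k hk)
        have h3 : 2 * g - 2 * k = 2 * (g - k) := by omega
        have h4 : s ^ (2 * g - 2 * k) = ((n : ℤ) : K) ^ (g - k) := by
          rw [h3, pow_mul, hs]; simp
        rw [h4, ← h1]; push_cast; ring
      · have h5 : c j = 0 := by
          simp only [c]
          rw [hodd j h2]
          exact Int.zero_ediv _
        rw [hodd j h2, h5]; simp
    let Q : Polynomial ℤ := Polynomial.X ^ (2 * g) +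
      ∑ i : Fin (2 * g), Polynomial.C (c i) * Polynomial.X ^ (i : ℕ)
    have hQm : Q.Monic := Polynomial.monic_X_pow_add (Polynomial.degree_sum_fin_lt _)
    refine ⟨Q, hQm, ?_⟩
    rw [← Polynomial.aeval_def]
    have hQe : Polynomial.aeval ((α - 1) / s) Q = ((α - 1) / s) ^ (2 * g) +
        ∑ i ∈ Finset.range (2 * g), ((c i : ℤ) : K) * ((α - 1) / s) ^ i := by
      simp only [Q, map_add, map_pow, Polynomial.aeval_X, map_sum, map_mul, Polynomial.aeval_C]
      simp only [eq_intCast]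
      rw [Fin.sum_univ_eq_sum_range (fun i => ((c i : ℤ) : K) * ((α - 1) / s) ^ i) (2 * g)]
    rw [hQe]
    have hmul : s ^ (2 * g) * (((α - 1) / s) ^ (2 * g) +
        ∑ i ∈ Finset.range (2 * g), ((c i : ℤ) : K) * ((α - 1) / s) ^ i) =
        ∑ i ∈ Finset.range (2 * g + 1), ((P.coeff i : ℤ) : K) * (α - 1) ^ i := by
      rw [Finset.sum_range_succ, mul_add, Finset.mul_sum, add_comm]
      congr 1
      · refine Finset.sum_congr rfl (fun i hi => ?_)
        have hi' : i < 2 * g := Finset.mem_range.mp hi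
        rw [← hc i hi'.le]
        have h6 : s ^ (2 * g) = s ^ (2 * g - i) * s ^ i := by
          rw [← pow_add, Nat.sub_add_cancel hi'.le]
        have hsi : s ^ i ≠ 0 := pow_ne_zero _ hs0
        rw [h6, div_pow]
        calc s ^ (2 * g - i) * s ^ i * (((c i : ℤ) : K) * ((α - 1) ^ i / s ^ i))
            = ((c i : ℤ) : K) * s ^ (2 * g - i) * (α - 1) ^ i * (s ^ i / s ^ i) := by ring
          _ = ((c i : ℤ) : K) * s ^ (2 * g - i) * (α - 1) ^ i := by rw [div_self hsi, mul_one]
      · have hsg : s ^ (2 * g) ≠ 0 := pow_ne_zero _ hs0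
        rw [htop, div_pow]
        calc s ^ (2 * g) * ((α - 1) ^ (2 * g) / s ^ (2 * g))
            = (α - 1) ^ (2 * g) * (s ^ (2 * g) / s ^ (2 * g)) := by ring
          _ = ((1 : ℤ) : K) * (α - 1) ^ (2 * g) := by rw [div_self hsg, mul_one]; simp
    rw [hsum] at hmul
    exact (mul_eq_zero.mp hmul).resolve_left (pow_ne_zero _ hs0)

end Groth.Agent.S18600
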