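import Groth.Statements.S1861
import Mathlib
import Groth.Agent.H54.DimClosure
import Groth.Agent.H54.FibreDimTdeg
import Groth.Agent.H9.DimFormulaEq

set_option autoImplicit false
universe u
open CategoryTheory AlgebraicGeometry
open Cyc

namespace Groth.Agent.S1861

/-- Let f : X → Y be flat, locally of finite type, of relative dimension r, y a point of Y and x a point
of X that is generic in an irreducible component of f⁻¹ of the closure of y (that is, x lies in that
closed set and has no proper generalization in it). Then f(x) = y and δX(x) = δY(y) + r. Here a pair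
(X, δ) with Cyc.IsSetup plays the role of a scheme locally of finite type over a fixed base with a
dimension function (X locally Noetherian with universally catenary local rings, δ a dimension
function), and Cyc.DeltaCompat records that the dimension function upstairs is the induced one. -/
theorem result (X Y : Scheme.{u}) (δX : X → ℤ) (δY : Y → ℤ) (hX : Cyc.IsSetup X δX) (hY : Cyc.IsSetup Y δY) (f : X ⟶ Y) [Flat f] [LocallyOfFiniteType f] (r : ℕ) (hr : Cyc.HasRelDim f r) (hδ : Cyc.DeltaCompat f δX δY) (y : Y) (x : X) (hx : f x ∈ closure ({y} : Set Y)) (hmax : ∀ x' : X, f x' ∈ closure ({y} : Set Y) → x' ⤳ x → x' = x) : f x = y ∧ δX x = δY y + r := by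
  have hyx : y ⤳ f x := specializes_iff_mem_closure.mpr hx
  obtain ⟨x', hx'x, hfx'⟩ := (Flat.generalizingMap (f := f)) hyx
  have hx'eq : x' = x := hmax x' (by rw [hfx']; exact subset_closure rfl) hx'x
  rw [hx'eq] at hfx'
  refine ⟨hfx', ?_⟩
  obtain ⟨w, hwz, hw⟩ := Groth.Agent.H54.exists_generic_specializes (f.asFiber x)
  have hι : (f.fiberι (f.base x)).base (f.asFiber x) = x := f.fiberι_asFiber x
  have hwx : (f.fiberι (f.base x)).base w = x := by
    have h1 : (f.fiberι (f.base x)).base w ⤳ x := by
      have h2 := hwz.map (f.fiberι (f.base x)).continuous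
      rwa [hι] at h2
    apply hmax _ _ h1
    have h3 : f.base ((f.fiberι (f.base x)).base w) = f.base x :=
      Groth.Agent.H54.fiberι_mem f (f.base x) w
    rw [show f ((f.fiberι (f.base x)).base w) = f.base x from h3]
    exact hx
  have hwz' : w = f.asFiber x :=
    (f.fiberι (f.base x)).isEmbedding.injective (hwx.trans hι.symm)
  subst hwz'
  have hdim := hr (f.base x) _ hw
  rw [Groth.Agent.H54.topologicalKrullDim_closure_singleton
    (Groth.Agent.H54.fiberQ f (f.base x)) (f.asFiber x)] at hdim
  have hn : Groth.Agent.H54.tdeg (Groth.Agent.H54.fiberQ f (f.base x)) (f.asFiber x) = r := by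
    exact_mod_cast hdim
  have htr := Groth.Agent.H54.trdeg_fiber_eq f (f.base x) (f.asFiber x)
  rw [Groth.Agent.H9.DimFormulaEq.trdeg_congr_point f hι, hn] at htr
  obtain ⟨n, hn1, hn2⟩ := hδ x
  have hnr : n = r := by
    have h4 : ((n : ℕ) : Cardinal.{u}) = ((r : ℕ) : Cardinal.{u}) := hn1.symm.trans htr
    exact_mod_cast h4
  rw [hn2, hnr, hfx']

end Groth.Agent.S1861
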