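import Groth.Statements.S18614
import Groth.Agent.H92.LinTop

set_option autoImplicit false
universe u v
open LinTop

namespace Groth.Agent.S18614

/-- Let k be a field carrying the discrete topology and M a separated topological k-module with a
k-linear topology (the open k-submodules form a basis of neighbourhoods of zero and M is a
topological additive group). For a closed submodule M₁, the perpendicular of the perpendicular of
M₁, both taken with respect to the pairing of M with its continuous dual (the continuous k-linear
maps M → k), is M₁ itself: an element killed by every continuous functional vanishing on M₁ belongs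
to M₁. -/
theorem result (k : Type u) (M : Type v) [Field k]
    [TopologicalSpace k] [DiscreteTopology k] [AddCommGroup M] [Module k M] [TopologicalSpace M]
    [IsTopologicalAddGroup M] [IsLinearTopology k M] [T2Space M]
    (M₁ : Submodule k M) (hM₁ : IsClosed (M₁ : Set M)) (x : M)
    (hx : ∀ φ : M →L[k] k, (∀ m ∈ M₁, φ m = 0) → φ x = 0) : x ∈ M₁ := by
  classical
  by_contra hxM
  have hopen : IsOpen ((M₁ : Set M)ᶜ) := hM₁.isOpen_compl
  have hnhds : {m : M | x + m ∈ (M₁ : Set M)ᶜ} ∈ nhds (0 : M) := by
    have hc : Continuous fun m : M => x + m := continuous_const.add continuous_id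
    have : IsOpen {m : M | x + m ∈ (M₁ : Set M)ᶜ} := hopen.preimage hc
    exact this.mem_nhds (by simpa using hxM)
  obtain ⟨U, hU, hUs⟩ := Groth.Agent.H92.exists_open_submodule_subset (k := k) hnhds
  have hxN : x ∉ M₁ ⊔ U := by
    intro hmem
    obtain ⟨m, hm, u, hu, hsum⟩ := Submodule.mem_sup.mp hmem
    have hneg : -u ∈ U := U.neg_mem hu
    have := hUs hneg
    simp only [Set.mem_compl_iff, SetLike.mem_coe] at this
    apply this
    have : x + -u = m := by rw [← hsum]; abel
    rw [this]
    exact hm
  obtain ⟨f, hfx, hf⟩ := Submodule.exists_le_ker_of_notMem hxN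
  have hcont : Continuous f :=
    Groth.Agent.H92.continuous_of_open_le_ker f U hU (le_trans le_sup_right hf)
  have := hx ⟨f, hcont⟩ (fun m hm => hf (Submodule.mem_sup_left hm))
  exact hfx this

end Groth.Agent.S18614
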