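import Groth.Statements.S18615
import Groth.Agent.H92.LinTop

set_option autoImplicit false
universe u v
open LinTop

namespace Groth.Agent.S18615

/-- Let k be a field carrying the discrete topology and M a separated topological k-module with a
k-linear topology (open k-submodules form a basis of neighbourhoods of zero, M a topological
additive group). For closed submodules M₁ ⊆ M₂ there is a short exact sequence 0 → M₂^⊥ → M₁^⊥ →
(M₂/M₁)^* → 0 of plain k-modules, where ⊥ denotes the annihilator in the continuous dual of M and *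
the continuous dual. Stated here as its one non-formal part, surjectivity on the right: every
continuous functional on M₂ (subspace topology) that vanishes on M₁ is the restriction of a
continuous functional on M vanishing on M₁ (continuous functionals on M₂/M₁ being the continuous
functionals on M₂ that kill M₁). -/
theorem result (k : Type u) (M : Type v) [Field k]
    [TopologicalSpace k] [DiscreteTopology k] [AddCommGroup M] [Module k M] [TopologicalSpace M]
    [IsTopologicalAddGroup M] [IsLinearTopology k M] [T2Space M]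
    (M₁ M₂ : Submodule k M) (h₁₂ : M₁ ≤ M₂) (hM₁ : IsClosed (M₁ : Set M))
    (hM₂ : IsClosed (M₂ : Set M)) (ψ : M₂ →L[k] k)
    (hψ : ∀ m : M₂, (m : M) ∈ M₁ → ψ m = 0) :
    ∃ φ : M →L[k] k, (∀ m ∈ M₁, φ m = 0) ∧ ∀ m : M₂, φ (m : M) = ψ m := by
  classical
  -- the kernel of ψ is open in M₂
  have hker : IsOpen (ψ ⁻¹' ({0} : Set k)) := (isOpen_discrete _).preimage ψ.continuous
  obtain ⟨V, hV, hVeq⟩ := isOpen_induced_iff.mp hker
  have h0V : (0 : M) ∈ V := by
    have : (0 : M₂) ∈ ψ ⁻¹' ({0} : Set k) := by simp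
    rw [← hVeq] at this
    simpa using this
  obtain ⟨U, hU, hUV⟩ := Groth.Agent.H92.exists_open_submodule_subset (k := k) (hV.mem_nhds h0V)
  have hUψ : ∀ m : M₂, (m : M) ∈ U → ψ m = 0 := by
    intro m hm
    have : m ∈ Subtype.val ⁻¹' V := hUV hm
    rw [hVeq] at this
    simpa using this
  let F : M →ₗ.[k] k := ⟨M₂, ψ.toLinearMap⟩
  let G : M →ₗ.[k] k := ⟨U, 0⟩
  have hFG : ∀ (a : F.domain) (b : G.domain), (a : M) = b → F a = G b := by
    intro a b hab
    change ψ a = 0
    exact hUψ a (hab ▸ b.2)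
  obtain ⟨φ, hφ⟩ := (F.sup G hFG).toFun.exists_extend
  have hφF : ∀ m : M₂, φ (m : M) = ψ m := by
    intro m
    have hle := F.left_le_sup G hFG
    have hm : (m : M) ∈ (F.sup G hFG).domain := hle.1 m.2
    have h1 : φ (m : M) = (F.sup G hFG) ⟨m, hm⟩ := by
      exact congrArg (fun g => g ⟨(m : M), hm⟩) hφ
    rw [h1]
    exact (hle.2 (x := m) (y := ⟨m, hm⟩) rfl).symm
  have hφG : U ≤ LinearMap.ker φ := by
    intro u hu
    have hle := F.right_le_sup G hFG
    have hm : u ∈ (F.sup G hFG).domain := hle.1 hu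
    have h1 : φ u = (F.sup G hFG) ⟨u, hm⟩ := by
      exact congrArg (fun g => g ⟨u, hm⟩) hφ
    rw [LinearMap.mem_ker, h1]
    exact (hle.2 (x := ⟨u, hu⟩) (y := ⟨u, hm⟩) rfl).symm
  have hcont : Continuous φ := Groth.Agent.H92.continuous_of_open_le_ker φ U hU hφG
  refine ⟨⟨φ, hcont⟩, ?_, fun m => hφF m⟩
  intro m hm
  have := hφF ⟨m, h₁₂ hm⟩
  change φ m = 0
  rw [this]
  exact hψ ⟨m, h₁₂ hm⟩ hm

end Groth.Agent.S18615
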