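import Groth.Statements.S1862
import Mathlib.AlgebraicGeometry.Morphisms.FiniteType
import Mathlib.FieldTheory.IntermediateField.Adjoin.Algebra
import Mathlib.FieldTheory.IntermediateField.Adjoin.Basic
import Mathlib.RingTheory.AlgebraicIndependent.Transcendental

set_option autoImplicit false
universe u
open CategoryTheory AlgebraicGeometry
open Cyc

namespace Groth.Agent.S1862

theorem finite_of_essFiniteType_of_isAlgebraic {K L : Type u} [Field K] [Field L] (φ : K →+* L)
    (h1 : φ.EssFiniteType) (h2 : letI := φ.toAlgebra; Algebra.IsAlgebraic K L) : φ.Finite := by
  letI := φ.toAlgebra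
  haveI : Algebra.EssFiniteType K L := h1
  haveI : Algebra.IsAlgebraic K L := h2
  change Module.Finite K L
  obtain ⟨s, hs⟩ := IntermediateField.fg_top K L
  have hfin : FiniteDimensional K (IntermediateField.adjoin K (s : Set L)) :=
    IntermediateField.finiteDimensional_adjoin (fun x _ => Algebra.IsIntegral.isIntegral x)
  rw [hs] at hfin
  exact Module.Finite.equiv (IntermediateField.topEquiv (F := K) (E := L)).toLinearEquiv

end Groth.Agent.S1862

namespace Groth.Agent.S1862

/-- Let f : X → Y be a morphism locally of finite type of integral schemes with δX(η_X) = δY(η_Y). Then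
either the image of f is not dense, or f maps the generic point to the generic point and the induced
extension of residue fields there (the function fields) is finite. Here a pair (X, δ) with
Cyc.IsSetup plays the role of a scheme locally of finite type over a fixed base with a dimension
function (X locally Noetherian with universally catenary local rings, δ a dimension function), and
Cyc.DeltaCompat records that the dimension function upstairs is the induced one. -/
theorem result (X Y : Scheme.{u}) [IsIntegral X] [IsIntegral Y] (δX : X → ℤ) (δY : Y → ℤ) (hX : Cyc.IsSetup X δX) (hY : Cyc.IsSetup Y δY) (f : X ⟶ Y) [LocallyOfFiniteType f] (hδ : Cyc.DeltaCompat f δX δY) (heq : δX (genericPoint X) = δY (genericPoint Y)) : ¬ Dense (Set.range f) ∨ (f (genericPoint X) = genericPoint Y ∧ (f.residueFieldMap (genericPoint X)).hom.Finite) := by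
  by_cases hd : Dense (Set.range f)
  · right
    have hfη : f (genericPoint X) = genericPoint Y := by
      have h1 : ∀ x : X, f (genericPoint X) ⤳ f x :=
        fun x => (genericPoint_specializes x).map f.continuous
      have h2 : genericPoint Y ∈ closure (Set.range f) := hd _
      have h3 : closure (Set.range f) ⊆ closure {f (genericPoint X)} := by
        apply closure_minimal _ isClosed_closure
        rintro _ ⟨x, rfl⟩
        exact specializes_iff_mem_closure.mp (h1 x)
      have h4 : f (genericPoint X) ⤳ genericPoint Y := specializes_iff_mem_closure.mpr (h3 h2)
      exact (h4.antisymm (genericPoint_specializes _)).eq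
    refine ⟨hfη, ?_⟩
    obtain ⟨n, hn1, hn2⟩ := hδ (genericPoint X)
    rw [hfη] at hn2
    have hn0 : n = 0 := by
      have : (n : ℤ) = 0 := by linarith
      exact_mod_cast this
    subst hn0
    apply finite_of_essFiniteType_of_isAlgebraic
    · exact RingHom.EssFiniteType.residueFieldMap (LocallyOfFiniteType.stalkMap f (genericPoint X))
    · letI := (f.residueFieldMap (genericPoint X)).hom.toAlgebra
      rw [← trdeg_eq_zero_iff]
      simpa using hn1
  · left; exact hd

end Groth.Agent.S1862
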