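import Groth.Statements.S1863
import Groth.Agent.H85.CycOpen
import Groth.Agent.H85.CycDivFin

set_option autoImplicit false
universe u
open CategoryTheory AlgebraicGeometry
open Cyc

namespace Groth.Agent.S1863

/-- Let U ⊆ X be open and α, β k-cycles on X whose restrictions to U are rationally equivalent on U (for
the restricted dimension function). Then there is a k-cycle γ on X vanishing on U with α rationally
equivalent to β + γ. Here a pair (X, δ) with Cyc.IsSetup plays the role of a scheme locally of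
finite type over a fixed base with a dimension function (X locally Noetherian with universally
catenary local rings, δ a dimension function). -/
theorem result (X : Scheme.{u}) (δ : X → ℤ) (hX : Cyc.IsSetup X δ) (U : X.Opens) (k : ℤ) (α β : AlgebraicCycle X ℤ) (hα : α ∈ Cyc.Zk X δ k) (hβ : β ∈ Cyc.Zk X δ k) (αU βU : AlgebraicCycle (↑U : Scheme.{u}) ℤ) (hαU : ∀ u : ↥U, αU u = α (U.ι u)) (hβU : ∀ u : ↥U, βU u = β (U.ι u)) (h : Cyc.RatEquiv (fun u : ↥U => δ (U.ι u)) k αU βU) : ∃ γ : AlgebraicCycle X ℤ, γ ∈ Cyc.Zk X δ k ∧ (∀ x : X, x ∈ U → γ x = 0) ∧ Cyc.RatEquiv δ k α (β + γ) := by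
  classical
  obtain ⟨I, ξ, f, hξ, hf, hlf, hsum⟩ := h
  have : IsLocallyNoetherian X := hX.1
  have hg : ∀ i, ∃ g : X.residueField (U.ι (ξ i)), U.ι.residueFieldMap (ξ i) g = f i :=
    fun i => ⟨(Groth.Agent.H85.CycOpen.resEquiv U.ι (ξ i)).symm (f i),
      (Groth.Agent.H85.CycOpen.resEquiv U.ι (ξ i)).apply_symm_apply (f i)⟩
  choose g hg using hg
  have hg0 : ∀ i, g i ≠ 0 := by
    intro i h0
    apply hf i
    rw [← hg i, h0, map_zero]
  have hlfX := Groth.Agent.H85.CycOpen.locallyFinite_closure_openImm U.ι ξ hlf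
  have hDfin : ∀ z : X, ∃ t ∈ nhds z, Set.Finite
      (t ∩ Function.support (fun x => ∑ᶠ i, Cyc.divFun δ (U.ι (ξ i)) (g i) x)) := by
    intro z
    obtain ⟨V₀, hV₀o, hzV₀, hF⟩ := hlfX z
    choose V hVo hzV hVf using fun i =>
      Groth.Agent.H85.CycDivFin.divFun_support_locallyFinite δ hX (U.ι (ξ i)) (g i) (hg0 i) z
    have hto : IsOpen (V₀ ∩ ⋂ i ∈ hF.toFinset, V i) :=
      hV₀o.inter (isOpen_biInter_finset (fun i _ => hVo i))
    have hzt : z ∈ V₀ ∩ ⋂ i ∈ hF.toFinset, V i :=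
      ⟨hzV₀, Set.mem_iInter₂.mpr (fun i _ => hzV i)⟩
    refine ⟨_, hto.mem_nhds hzt, ?_⟩
    refine (Set.Finite.biUnion hF (fun i _ => hVf i)).subset ?_
    rintro y ⟨⟨hyV₀, hyV⟩, hyD⟩
    have hex : ∃ i, Cyc.divFun δ (U.ι (ξ i)) (g i) y ≠ 0 := by
      by_contra hcon
      push Not at hcon
      exact hyD (finsum_eq_zero_of_forall_eq_zero hcon)
    obtain ⟨i, hi⟩ := hex
    have hsp : U.ι (ξ i) ⤳ y := by
      by_contra hn
      exact hi (Groth.Agent.H95.C1Cap.divFun_eq_zero δ _ _ y hn)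
    have hiF : i ∈ {i | (closure {U.ι (ξ i)} ∩ V₀).Nonempty} :=
      ⟨y, specializes_iff_mem_closure.mp hsp, hyV₀⟩
    exact Set.mem_biUnion hiF ⟨Set.mem_iInter₂.mp hyV i (hF.mem_toFinset.mpr hiF), hi⟩
  let Dc : AlgebraicCycle X ℤ :=
    { toFun := fun x => ∑ᶠ i, Cyc.divFun δ (U.ι (ξ i)) (g i) x
      supportWithinDomain' := Set.subset_univ _
      supportLocallyFiniteWithinDomain' := fun z _ => hDfin z }
  have hDc : ∀ x, Dc x = ∑ᶠ i, Cyc.divFun δ (U.ι (ξ i)) (g i) x := fun x => rfl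
  refine ⟨α - β - Dc, ?_, ?_, ?_⟩
  · intro x hx
    show (α - β - Dc) x = 0
    rw [Function.locallyFinsuppWithin.coe_sub, Pi.sub_apply,
      Function.locallyFinsuppWithin.coe_sub, Pi.sub_apply, hα x hx, hβ x hx, hDc,
      finsum_eq_zero_of_forall_eq_zero, sub_zero, sub_zero]
    intro i
    unfold Cyc.divFun
    rw [dif_neg]
    rintro ⟨-, h2⟩
    apply hx
    have h3 : δ (U.ι (ξ i)) = k + 1 := hξ i
    omega
  · intro x hxU
    have h1 := hsum ⟨x, hxU⟩
    have h2 : ∀ i, Cyc.divFun (fun y : ↥U => δ (U.ι y)) (ξ i) (f i) ⟨x, hxU⟩ =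
        Cyc.divFun δ (U.ι (ξ i)) (g i) x := by
      intro i
      rw [← hg i]
      exact Groth.Agent.H85.CycOpen.divFun_openImm U.ι δ (ξ i) (g i) ⟨x, hxU⟩
    have hα' : αU ⟨x, hxU⟩ = α x := hαU ⟨x, hxU⟩
    have hβ' : βU ⟨x, hxU⟩ = β x := hβU ⟨x, hxU⟩
    have h3 : α x - β x = ∑ᶠ i, Cyc.divFun δ (U.ι (ξ i)) (g i) x := by
      rw [← hα', ← hβ', ← finsum_congr h2]
      exact h1
    show (α - β - Dc) x = 0
    rw [Function.locallyFinsuppWithin.coe_sub, Pi.sub_apply,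
      Function.locallyFinsuppWithin.coe_sub, Pi.sub_apply, hDc, h3, sub_self]
  · show Cyc.RatEquivZero δ k (α - (β + (α - β - Dc)))
    refine ⟨I, fun i => U.ι (ξ i), g, hξ, hg0, hlfX, fun x => ?_⟩
    show (α - (β + (α - β - Dc))) x = ∑ᶠ i, Cyc.divFun δ (U.ι (ξ i)) (g i) x
    rw [Function.locallyFinsuppWithin.coe_sub, Pi.sub_apply,
      Function.locallyFinsuppWithin.coe_add, Pi.add_apply,
      Function.locallyFinsuppWithin.coe_sub, Pi.sub_apply,
      Function.locallyFinsuppWithin.coe_sub, Pi.sub_apply, hDc]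
    ring

end Groth.Agent.S1863
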