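import Groth.Statements.S18635
import Groth.Agent.H71.BassStarInj
import Groth.Agent.H71.BassAss

set_option autoImplicit false
universe u
open GrLC

namespace Groth.Agent.S18635

/-- Let R be a commutative Noetherian ℤ-graded ring and M a *injective graded R-module (an injective
object of the category of graded R-modules). Then M fails to be injective as an ordinary R-module —
equivalently, since a *injective graded module has ordinary injective dimension at most 1, its
ordinary injective dimension is exactly 1 — if and only if there is a prime ideal p of R which is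
not graded and whose graded core p* (the largest graded ideal contained in p, itself a prime) is an
associated prime of M. -/
theorem result (R : Type u) [CommRing R] [IsNoetherianRing R] (𝒜 : ℤ → AddSubgroup R) [GradedRing 𝒜] (M : Type u) [AddCommGroup M] [Module R M] (ℳ : ℤ → AddSubgroup M) [DirectSum.Decomposition ℳ] [SetLike.GradedSMul 𝒜 ℳ] (hM : GrLC.IsStarInj 𝒜 ℳ) : ¬ Module.Injective R M ↔ ∃ p : Ideal R, p.IsPrime ∧ ¬ Ideal.IsHomogeneous 𝒜 p ∧ (Ideal.homogeneousCore 𝒜 p).toIdeal ∈ associatedPrimes R M := by
  rw [Groth.Agent.H71.BassAss.injective_iff_bassNum]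
  constructor
  · intro h
    push Not at h
    obtain ⟨p, hp, i, hi, hne⟩ := h
    haveI := hp
    obtain ⟨j, rfl⟩ : ∃ j, i = j + 1 := ⟨i - 1, by omega⟩
    by_cases hph : Ideal.IsHomogeneous 𝒜 p
    · exact absurd (Groth.Agent.H71.BassStarInj.bassNum_succ_eq_zero 𝒜 ℳ hM p hph j) hne
    · haveI : (Ideal.homogeneousCore 𝒜 p).toIdeal.IsPrime := Ideal.IsPrime.homogeneousCore ‹_›
      refine ⟨p, hp, hph, ?_⟩
      rw [(Groth.Agent.H71.BassStarInj.bassNum_shift_int 𝒜 ℳ p hph).2 j] at hne
      obtain _ | k := j
      · exact (Groth.Agent.H71.BassAss.bassNum_zero_ne_zero_iff _ M).mp hne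
      · exact absurd (Groth.Agent.H71.BassStarInj.bassNum_succ_eq_zero 𝒜 ℳ hM _
          (Ideal.homogeneousCore 𝒜 p).isHomogeneous k) hne
  · rintro ⟨p, hp, hph, hass⟩ h
    haveI := hp
    haveI : (Ideal.homogeneousCore 𝒜 p).toIdeal.IsPrime := Ideal.IsPrime.homogeneousCore ‹_›
    have h1 := h p 1 Nat.zero_lt_one
    rw [(Groth.Agent.H71.BassStarInj.bassNum_shift_int 𝒜 ℳ p hph).2 0] at h1
    exact (Groth.Agent.H71.BassAss.bassNum_zero_ne_zero_iff _ M).mpr hass h1

end Groth.Agent.S18635
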