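import Groth.Statements.S18638
import Groth.Agent.H2.GrCanonSetup
import Groth.Agent.H2.GrGor2
import Groth.Agent.S7701

set_option autoImplicit false
universe u
open GrLC

namespace Groth.Agent.S18638

/-- Let R be a graded ring defined over a field which is Cohen–Macaulay, and K_R its canonical module.
Then R is Gorenstein exactly when K_R is isomorphic to a degree shift R(a) of R for some integer a,
that is, there is a bijective R-linear map R → K_R homogeneous of some fixed degree. Here 'graded
ring defined over a field' means R = ⊕_{n ≥ 0} R_n is Noetherian with R_0 a field (so R is finitely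
generated over R_0), m = R_+ is its unique graded maximal ideal and n = dim R; the canonical module
K_R (the graded dual of H^n_m(R)) is represented by a finitely generated graded module C together
with a homogeneous isomorphism from Hom_R(C, E) onto H^n_m(R), where E is a *injective envelope of
R/m and H^n_m(R) is computed from a *injective resolution of R in the graded category; by graded
Matlis duality this says exactly that C ≅ K_R as graded modules. -/
theorem result (R : Type u) [CommRing R] [LocCoh.IsCohenMacaulayRing R] (𝒜 : ℤ → AddSubgroup R) [GradedRing 𝒜] (hpos : ∀ n : ℤ, n < 0 → 𝒜 n = ⊥) (h0 : IsField (GrLC.deg0 𝒜)) (m : HomogeneousIdeal 𝒜) (hm : GrLC.IsStarLocal 𝒜 m) (hmsp : m.toIdeal = Ideal.span (⋃ n ∈ Set.Ioi (0 : ℤ), (𝒜 n : Set R))) (n : ℕ) (hn : ringKrullDim R = n) (I : GrLC.StarInjRes 𝒜 𝒜) (E' : Type u) [AddCommGroup E'] [Module R E'] (𝓔 : ℤ → AddSubgroup E') [DirectSum.Decomposition 𝓔] [SetLike.GradedSMul 𝒜 𝓔] (e : (R ⧸ m.toIdeal) →ₗ[R] E') (he : GrLC.IsStarInjHull 𝒜 (GrLC.quotGr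 𝒜 m) 𝓔 e) (C : Type u) [AddCommGroup C] [Module R C] (𝒞 : ℤ → AddSubgroup C) [DirectSum.Decomposition 𝒞] [SetLike.GradedSMul 𝒜 𝒞] (hC : GrLC.IsStarCanonical 𝒜 𝒞 𝓔 m n I) : LocCoh.IsGorensteinRing R ↔ ∃ (a : ℤ) (f : R →ₗ[R] C), Function.Bijective f ∧ GrLC.IsGrHomDeg 𝒜 𝒞 f a := by

  have hnoeth : IsNoetherianRing R := inferInstance
  haveI hmax : m.toIdeal.IsMaximal := Groth.Agent.H98.GrCat.isMaximal_of_isCoatom 𝒜 hpos m hm.1
  obtain ⟨hfin, hdim, f, hf, ⟨eK⟩⟩ := Groth.Agent.H2.GrCanonSetup.setup R 𝒜 hpos m hm n hn I E' 𝓔 e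
    he C 𝒞 hC
  haveI := hfin
  haveI : LocCoh.IsCohenMacaulayLocalRing (Localization.AtPrime m.toIdeal) :=
    LocCoh.IsCohenMacaulayRing.isCohenMacaulayLocalRing_localization m.toIdeal
  have key := Groth.Agent.S7701.result (Localization.AtPrime m.toIdeal) n hdim _ f hf
    (LocalizedModule m.toIdeal.primeCompl C) eK
  constructor
  · intro hG
    have hGA : LocCoh.IsGorensteinLocalRing (Localization.AtPrime m.toIdeal) :=
      LocCoh.IsGorensteinRing.isGorensteinLocalRing_localization m.toIdeal
    obtain ⟨θ⟩ := key.mp hGA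
    exact Groth.Agent.H2.GrGor.exists_shift_equiv 𝒜 m hm 𝒞 θ
  · rintro ⟨a, φ, hφ, -⟩
    let e0 : R ≃ₗ[R] C := LinearEquiv.ofBijective φ hφ
    let e1 : LocalizedModule m.toIdeal.primeCompl C ≃ₗ[Localization.AtPrime m.toIdeal]
        LocalizedModule m.toIdeal.primeCompl R :=
      IsLocalizedModule.mapEquiv m.toIdeal.primeCompl
        (LocalizedModule.mkLinearMap m.toIdeal.primeCompl C)
        (LocalizedModule.mkLinearMap m.toIdeal.primeCompl R)
        (Localization.AtPrime m.toIdeal) e0.symm
    let e2 : LocalizedModule m.toIdeal.primeCompl R ≃ₗ[Localization.AtPrime m.toIdeal]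
        Localization.AtPrime m.toIdeal :=
      LinearEquiv.extendScalarsOfIsLocalization m.toIdeal.primeCompl
        (Localization.AtPrime m.toIdeal)
        (IsLocalizedModule.iso m.toIdeal.primeCompl
          (Algebra.linearMap R (Localization.AtPrime m.toIdeal)))
    exact Groth.Agent.H2.GrGor2.gorRing 𝒜 m hm (key.mpr ⟨e1.trans e2⟩)

end Groth.Agent.S18638
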