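import Groth.Statements.S18640
import Groth.Agent.H2.GrCanonSetup
import Groth.Agent.H2.CanonType

set_option autoImplicit false
universe u
open scoped TensorProduct
open GrLC

namespace Groth.Agent.S18640

open TensorProduct IsLocalRing in
/-- the number of generators of the localization at a maximal ideal -/
theorem finrank_localized {R : Type u} [CommRing R] (m : Ideal R) [m.IsMaximal] (C : Type u)
    [AddCommGroup C] [Module R C] :
    Module.finrank (ResidueField (Localization.AtPrime m))
      (ResidueField (Localization.AtPrime m) ⊗[Localization.AtPrime m]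
        LocalizedModule m.primeCompl C) = Module.finrank (R ⧸ m) ((R ⧸ m) ⊗[R] C) := by
  let k := ResidueField (Localization.AtPrime m)
  let A := Localization.AtPrime m
  let F := R ⧸ m
  let e1 : k ⊗[A] LocalizedModule m.primeCompl C ≃ₗ[k] k ⊗[A] (A ⊗[R] C) :=
    TensorProduct.AlgebraTensorModule.congr (LinearEquiv.refl k k)
      (IsLocalizedModule.isBaseChange m.primeCompl A
        (LocalizedModule.mkLinearMap m.primeCompl C)).equiv.symm
  let e2 : k ⊗[A] (A ⊗[R] C) ≃ₗ[k] k ⊗[R] C :=
    TensorProduct.AlgebraTensorModule.cancelBaseChange R A k k C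
  let e3 : k ⊗[F] (F ⊗[R] C) ≃ₗ[k] k ⊗[R] C :=
    TensorProduct.AlgebraTensorModule.cancelBaseChange R F k k C
  rw [(e1.trans (e2.trans e3.symm)).finrank_eq]
  have : Module.Free F (F ⊗[R] C) := by
    let _ := Ideal.Quotient.field m
    exact Module.Free.of_divisionRing F _
  exact Module.finrank_baseChange

/-- Let R be a graded ring defined over a field which is Cohen–Macaulay, with graded maximal ideal m, n
= dim R, residue field k = R/m and canonical module K_R. Then (iii) the type of K_R is 1: the Bass
number μ_n(m, K_R), the k-dimension of Ext^n over R_m of k into (K_R)_m, equals 1; and (iv) the type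
of R, namely μ_n(m, R), equals ν(K_R) = dim_k (K_R / m K_R), the minimal number of generators of K_R
(written as the k-dimension of k ⊗_R K_R). Here 'graded ring defined over a field' means R = ⊕_{n ≥
0} R_n is Noetherian with R_0 a field (so R is finitely generated over R_0), m = R_+ is its unique
graded maximal ideal and n = dim R; the canonical module K_R (the graded dual of H^n_m(R)) is
represented by a finitely generated graded module C together with a homogeneous isomorphism from
Hom_R(C, E) onto H^n_m(R), where E is a *injective envelope of R/m and H^n_m(R) is computed from a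
*injective resolution of R in the graded category; by graded Matlis duality this says exactly that C
≅ K_R as graded modules. -/
theorem result (R : Type u) [CommRing R] [LocCoh.IsCohenMacaulayRing R] (𝒜 : ℤ → AddSubgroup R) [GradedRing 𝒜] (hpos : ∀ n : ℤ, n < 0 → 𝒜 n = ⊥) (h0 : IsField (GrLC.deg0 𝒜)) (m : HomogeneousIdeal 𝒜) (hm : GrLC.IsStarLocal 𝒜 m) (hmsp : m.toIdeal = Ideal.span (⋃ n ∈ Set.Ioi (0 : ℤ), (𝒜 n : Set R))) [m.toIdeal.IsMaximal] (n : ℕ) (hn : ringKrullDim R = n) (I : GrLC.StarInjRes 𝒜 𝒜) (E' : Type u) [AddCommGroup E'] [Module R E'] (𝓔 : ℤ → AddSubgroup E') [DirectSum.Decomposition 𝓔] [SetLike.GradedSMul 𝒜 𝓔] (e : (R ⧸ m.toIdeal) →ₗ[R] E') (he : GrLC.IsStarInjHull 𝒜 (GrLC.quotGr 𝒜 m) 𝓔 e) (C : Type u) [AddCommGroup C] [Module R C] (𝒞 : ℤ → AddSubgroup C) [DirectSum.Decomposition 𝒞] [SetLike.GradedSMul 𝒜 𝒞] (hC : GrLC.IsStarCanonical 𝒜 𝒞 𝓔 m n I) : GrLC.bassNum m.toIdeal C n = 1 ∧ GrLC.bassNum m.toIdeal R n = (Module.finrank (R ⧸ m.toIdeal) ((R ⧸ m.toIdeal) ⊗[R] C) : ℕ∞) := by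

  have hnoeth : IsNoetherianRing R := inferInstance
  obtain ⟨hfin, hdim, f, hf, ⟨eK⟩⟩ := Groth.Agent.H2.GrCanonSetup.setup R 𝒜 hpos m hm n hn I E' 𝓔 e
    he C 𝒞 hC
  haveI := hfin
  haveI : LocCoh.IsCohenMacaulayLocalRing (Localization.AtPrime m.toIdeal) :=
    LocCoh.IsCohenMacaulayRing.isCohenMacaulayLocalRing_localization m.toIdeal
  refine ⟨?_, ?_⟩
  · exact Groth.Agent.H2.CanonType.length_ext_residue_canon (Localization.AtPrime m.toIdeal) n hdim
      _ f hf _ eK
  · let eG0 : LocalizedModule m.toIdeal.primeCompl R ≃ₗ[R] Localization.AtPrime m.toIdeal :=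
      IsLocalizedModule.iso m.toIdeal.primeCompl
        (Algebra.linearMap R (Localization.AtPrime m.toIdeal))
    let eG : LocalizedModule m.toIdeal.primeCompl R ≃ₗ[Localization.AtPrime m.toIdeal]
        Localization.AtPrime m.toIdeal :=
      LinearEquiv.extendScalarsOfIsLocalization m.toIdeal.primeCompl
        (Localization.AtPrime m.toIdeal) eG0
    have h1 := Groth.Agent.H2.CanonType.length_ext_residue_self (Localization.AtPrime m.toIdeal) n
      hdim _ f hf _ eK (LocalizedModule m.toIdeal.primeCompl R) eG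
    rw [finrank_localized m.toIdeal C] at h1
    exact h1

end Groth.Agent.S18640
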