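import Groth.Statements.S18641
import Groth.Agent.H2.VerSoc
import Groth.Agent.H2.VerGor
import Groth.Agent.H2.VerSeq
import Groth.Agent.H2.VerReg
import Groth.Agent.S0341

set_option autoImplicit false
universe u
open GrLC

namespace Groth.Agent.S18641

open Groth.Agent.H98.GrCat Groth.Agent.H98.GrHt Groth.Agent.H2.VerSoc Groth.Agent.H2.VerGor
  Groth.Agent.H2.VerSeq Groth.Agent.H2.VerReg Groth.Agent.H60

/-- Let R be a graded ring defined over a field which is Gorenstein, and let q ≥ 1 be an integer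
dividing the a-invariant a(R). Then the Veronese subring R^(q) is a Gorenstein ring. Here 'graded
ring defined over a field' means R = ⊕_{n ≥ 0} R_n is Noetherian with R_0 a field, and m = R_+ is
its unique graded maximal ideal. The a-invariant a(R) is the largest degree in which the graded
local cohomology H^n_m(R) (n = dim R, m = R_+), computed from a *injective resolution of R in the
graded category, is nonzero. The Veronese subring R^(q) = ⊕_j R_{jq}, regraded by (R^(q))_j =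
R_{jq}, is presented abstractly as a ℤ-graded ring R' with an injective ring homomorphism φ : R' → R
carrying R'_j onto R_{jq} for every j. -/
theorem result (R : Type u) [CommRing R] [LocCoh.IsGorensteinRing R] (𝒜 : ℤ → AddSubgroup R) [GradedRing 𝒜] (hpos : ∀ n : ℤ, n < 0 → 𝒜 n = ⊥) (h0 : IsField (GrLC.deg0 𝒜)) (m : HomogeneousIdeal 𝒜) (hm : GrLC.IsStarLocal 𝒜 m) (hmsp : m.toIdeal = Ideal.span (⋃ n ∈ Set.Ioi (0 : ℤ), (𝒜 n : Set R))) (n : ℕ) (hn : ringKrullDim R = n) (I : GrLC.StarInjRes 𝒜 𝒜) (a : ℤ) (ha : GrLC.endDeg (I.Hgr m n) = ((a : WithTop ℤ) : WithBot (WithTop ℤ))) (q : ℕ) (hq : 0 < q) (R' : Type u) [CommRing R'] (𝒜' : ℤ → AddSubgroup R') [GradedRing 𝒜'] (φ : R' →+* R) (hφ : Function.Injective φ) (hdeg : ∀ j : ℤ, (𝒜' j).map (φ : R' →+ R) = 𝒜 (j * q)) (hdvd : (q : ℤ) ∣ a) : LocCoh.IsGorensteinRing R' := by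
  classical
  haveI hCM : LocCoh.IsCohenMacaulayRing R := ⟨fun p _ => by
    haveI := LocCoh.IsGorensteinRing.isGorensteinLocalRing_localization (A := R) p
    exact Groth.Agent.S0341.result _⟩
  have hqz : (0 : ℤ) < (q : ℤ) := by exact_mod_cast hq
  have hpos' := hpos_ver 𝒜 hpos 𝒜' φ q hq hφ hdeg
  have hmax : m.toIdeal.IsMaximal := isMaximal_of_isCoatom 𝒜 hpos m hm.1
  haveI : Nontrivial R := ⟨⟨0, 1, fun h => hmax.ne_top ((Ideal.eq_top_iff_one _).2 (h ▸ zero_mem _))⟩⟩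
  haveI : Nontrivial R' := φ.domain_nontrivial
  -- the regular sequence
  obtain ⟨l', hlen, hl1, hreg⟩ := exists_ver_seq 𝒜 𝒜' φ q hpos m hm hmsp n hn I hdeg n le_rfl
  obtain ⟨l, hl⟩ : ∃ l : List R, l = l'.map φ := ⟨_, rfl⟩
  have hreg0 := hreg
  rw [← hl] at hreg
  have hllen : l.length = n := by rw [hl, List.length_map, hlen]
  subst hllen
  have hk : ∀ i : Fin l.length, ∃ k : ℤ, l.get i ∈ 𝒜 (k * q) := by
    intro i
    have hmem : l.get i ∈ l'.map φ := hl ▸ List.get_mem l i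
    obtain ⟨r0, hr0, hr0e⟩ := List.mem_map.1 hmem
    obtain ⟨e, -, he⟩ := hl1 r0 hr0
    exact ⟨e, hr0e ▸ map_mem_of_hdeg 𝒜 𝒜' φ q hdeg e r0 he⟩
  choose k hk using hk
  have hlhom : ∀ r ∈ l, ∃ j, r ∈ 𝒜 j := by
    intro r hr
    rw [hl] at hr
    obtain ⟨r0, hr0, rfl⟩ := List.mem_map.1 hr
    obtain ⟨e, -, he⟩ := hl1 r0 hr0
    exact ⟨e * q, map_mem_of_hdeg 𝒜 𝒜' φ q hdeg e r0 he⟩
  have hlm : ∀ r ∈ l, r ∈ m.toIdeal := by
    intro r hr
    rw [hl] at hr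
    obtain ⟨r0, hr0, rfl⟩ := List.mem_map.1 hr
    obtain ⟨e, he0, he⟩ := hl1 r0 hr0
    exact mem_of_pos_degree 𝒜 hpos m hm.1 (mul_pos he0 hqz)
      (map_mem_of_hdeg 𝒜 𝒜' φ q hdeg e r0 he)
  obtain ⟨htop, hs₁, N, hN⟩ := top_facts 𝒜 hpos m hm hmsp I a l hn ha (fun i => k i * q) hk hlm hreg
  -- the Artinian Gorenstein quotient of `R`
  have hJhom : (Ideal.ofList l).IsHomogeneous 𝒜 :=
    Ideal.homogeneous_span 𝒜 _ (fun r hr => hlhom r hr)
  have hJm : Ideal.ofList l ≤ m.toIdeal := by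
    rw [Ideal.ofList, Ideal.span_le]
    exact fun r hr => hlm r hr
  haveI : IsLocalRing (R ⧸ Ideal.ofList l) := isLocalRing_quot _ m.toIdeal hJm N hN
  haveI : IsArtinianRing (R ⧸ Ideal.ofList l) := isArtinianRing_quot _ m.toIdeal hJm N hN
  haveI hGq : LocCoh.IsGorensteinRing (R ⧸ Ideal.ofList l) :=
    Groth.Agent.H59.Goren4.gorRing_quotient_of_locally_regular (Ideal.ofList l) (fun Q _ _ =>
      ⟨l.map (algebraMap R (Localization.AtPrime Q)),
        RingTheory.Sequence.IsWeaklyRegular.of_isLocalization (Localization.AtPrime Q) Q.primeCompl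
          hreg, Ideal.map_ofList _ _⟩)
  have hGloc : LocCoh.IsGorensteinLocalRing (R ⧸ Ideal.ofList l) :=
    (gor_atPrime_maximalIdeal_iff (R ⧸ Ideal.ofList l)).1
      (LocCoh.IsGorensteinRing.isGorensteinLocalRing_localization _)
  have hT : Soc.TypeOne (R ⧸ Ideal.ofList l) :=
    Soc.typeOne_of_gor hGloc.exists_hasInjectiveDimensionLT
  have hTup : TypeOneUp (Ideal.ofList l) m.toIdeal := typeOneUp_of_typeOne _ m.toIdeal hJm hT
  have hmirr : m.toIdeal = (irr 𝒜).toIdeal := hmsp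
  rw [hmirr] at hTup hN
  obtain ⟨a', ha'⟩ := hdvd
  have hs' : a + ∑ i, k i * (q : ℤ) = (a' + ∑ i, k i) * q := by
    rw [ha', ← Finset.sum_mul]
    ring
  have hTup' := typeOneUp_ver 𝒜 hpos 𝒜' φ q hq hφ hdeg h0 (Ideal.ofList l) hJhom N hN hTup
    (a + ∑ i, k i * (q : ℤ)) (a' + ∑ i, k i) htop hs₁ hs'
  -- the Veronese side
  haveI hNoeth' : IsNoetherianRing R' :=
    Groth.Agent.H98.GrVer.isNoetherianRing_ver 𝒜 𝒜' φ q hq hdeg hφ
  have hJ' : (Ideal.ofList l).comap φ = Ideal.ofList l' := by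
    rw [hl, ← Ideal.map_ofList, Groth.Agent.H98.GrVer.comap_map_eq 𝒜 𝒜' φ q hq hdeg hφ]
  rw [hJ'] at hTup'
  have hstar' : GrLC.IsStarLocal 𝒜' (irr 𝒜') := isStarLocal_irr 𝒜' hpos'
    (fun c hc hc0 => exists_inv_deg0_ver 𝒜 𝒜' φ q hφ hdeg h0 hc hc0)
  have hmax' : (irr 𝒜').toIdeal.IsMaximal := isMaximal_of_isCoatom 𝒜' hpos' (irr 𝒜') hstar'.1
  have hlm' : ∀ r ∈ l', r ∈ (irr 𝒜').toIdeal := by
    intro r hr
    obtain ⟨e, he0, he⟩ := hl1 r hr
    exact Ideal.subset_span (Set.mem_biUnion (Set.mem_Ioi.2 he0) he)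
  have hJm' : Ideal.ofList l' ≤ (irr 𝒜').toIdeal := by
    rw [Ideal.ofList, Ideal.span_le]
    exact fun r hr => hlm' r hr
  have hN' : (irr 𝒜').toIdeal ^ N ≤ Ideal.ofList l' := by
    intro x hx
    rw [← hJ']
    show φ x ∈ Ideal.ofList l
    apply hN
    have h1 : φ x ∈ ((irr 𝒜').toIdeal ^ N).map φ := Ideal.mem_map_of_mem φ hx
    rw [Ideal.map_pow] at h1
    exact Ideal.pow_right_mono (Groth.Agent.H98.GrVer.map_le_irr 𝒜 𝒜' φ q hq hdeg
      (irr 𝒜').toIdeal (irr 𝒜).toIdeal rfl rfl) N h1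
  haveI : IsLocalRing (R' ⧸ Ideal.ofList l') := isLocalRing_quot _ (irr 𝒜').toIdeal hJm' N hN'
  haveI : IsArtinianRing (R' ⧸ Ideal.ofList l') :=
    isArtinianRing_quot _ (irr 𝒜').toIdeal hJm' N hN'
  have hT' : Soc.TypeOne (R' ⧸ Ideal.ofList l') :=
    typeOne_of_typeOneUp _ (irr 𝒜').toIdeal hJm' hTup'
  have hG' : LocCoh.IsGorensteinLocalRing (R' ⧸ Ideal.ofList l') := ⟨Soc.gor_of_typeOne hT'⟩
  have hreg' : RingTheory.Sequence.IsWeaklyRegular R' l' :=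
    isWeaklyRegular_ver 𝒜 𝒜' φ q hq hφ hdeg l' hreg0
  have hGm' : LocCoh.IsGorensteinLocalRing (Localization.AtPrime (irr 𝒜').toIdeal) :=
    gor_atPrime_of_quot (irr 𝒜').toIdeal l' hlm' hreg' hG'
  haveI : (irr 𝒜').toIdeal.IsPrime := hmax'.isPrime
  exact Groth.Agent.H2.GrGor2.gorRing 𝒜' (irr 𝒜') hstar' hGm'

end Groth.Agent.S18641
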