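import Groth.Statements.S18647
import Groth.Agent.S18646
import Groth.Agent.H21.TrdegDim
import Groth.Agent.H21.GradedFG
import Groth.Agent.H21.MonomialIndep
import Groth.Agent.H21.SegreWeight
import Groth.Agent.H21.TensorDim

set_option autoImplicit false
universe u
open scoped TensorProduct
open GrSegre

namespace Groth.Agent.S18647

open Groth.Agent.H21.SegreDim

/-- Let R and S be graded rings defined over a field k with dim R = r ≥ 1 and dim S = s ≥ 1. Then the
Segre product T = R # S has Krull dimension r + s − 1. Here a graded ring defined over k is a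
commutative k-algebra of finite type, graded in nonnegative degrees by k-subspaces with degree-zero
part k·1; the Segre product T = R # S = ⊕_n R_n ⊗_k S_n (graded by T_n = R_n ⊗_k S_n) is presented
abstractly as a graded k-algebra T with an injective k-algebra homomorphism ψ : T → R ⊗_k S carrying
T_n onto the k-span of the elementary tensors a ⊗ b with a ∈ R_n, b ∈ S_n, for every n. -/
theorem result (k : Type u) [Field k] (R : Type u) [CommRing R] [Algebra k R] (𝒜 : ℤ → Submodule k R) [GradedAlgebra 𝒜] (hposR : ∀ n : ℤ, n < 0 → 𝒜 n = ⊥) (h0R : 𝒜 0 = Submodule.span k {(1 : R)}) [Algebra.FiniteType k R] (S : Type u) [CommRing S] [Algebra k S] (ℬ : ℤ → Submodule k S) [GradedAlgebra ℬ] (hposS : ∀ n : ℤ, n < 0 → ℬ n = ⊥) (h0S : ℬ 0 = Submodule.span k {(1 : S)}) [Algebra.FiniteType k S] (T : Type u) [CommRing T] [Algebra k T] (𝒯 : ℤ → Submodule k T) [GradedAlgebra 𝒯] (ψ : T →ₐ[k] TensorProduct k R S) (hψ : Function.Injective ψ) (hdegT : ∀ n : ℤ, (𝒯 n).map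 ψ.toLinearMap = Submodule.span k {x : TensorProduct k R S | ∃ a ∈ 𝒜 n, ∃ b ∈ ℬ n, x = a ⊗ₜ[k] b}) (r s : ℕ) (hr : ringKrullDim R = r) (hs : ringKrullDim S = s) (h1r : 1 ≤ r) (h1s : 1 ≤ s) : ringKrullDim T = ((r + s - 1 : ℕ) : WithBot ℕ∞) := by
  classical
  haveI : Algebra.FiniteType k (R ⊗[k] S) :=
    Algebra.FiniteType.trans (S := R) inferInstance inferInstance
  haveI : IsNoetherianRing T :=
    Groth.Agent.S18646.result k R 𝒜 hposR h0R S ℬ hposS h0S T 𝒯 ψ hψ hdegT
  haveI : Nontrivial S := by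
    by_contra h
    rw [not_nontrivial_iff_subsingleton] at h
    have h1 := ringKrullDim_eq_bot_of_subsingleton (R := S)
    rw [hs] at h1
    exact absurd h1 (by simp)
  -- `ψ` identifies `T` with the diagonal part
  have hψmem : ∀ t : T, ψ t ∈ Dsub 𝒜 ℬ := by
    intro t
    rw [← DirectSum.sum_support_decompose 𝒯 t, map_sum]
    apply Submodule.sum_mem
    intro n _
    have h1 : ψ ((DirectSum.decompose 𝒯 t n : 𝒯 n) : T) ∈ (𝒯 n).map ψ.toLinearMap :=
      Submodule.mem_map.mpr ⟨_, SetLike.coe_mem _, rfl⟩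
    rw [hdegT n] at h1
    refine Submodule.span_mono ?_ h1
    rintro x ⟨a, ha, b, hb, hx⟩
    exact ⟨n, a, ha, b, hb, hx⟩
  have hDle : ∀ y ∈ Dsub 𝒜 ℬ, ∃ t : T, ψ t = y := by
    intro y hy
    have hle : Dsub 𝒜 ℬ ≤ LinearMap.range ψ.toLinearMap := by
      unfold Dsub
      rw [Submodule.span_le]
      rintro _ ⟨n, a, ha, b, hb, rfl⟩
      have h1 : a ⊗ₜ[k] b ∈ (𝒯 n).map ψ.toLinearMap := by
        rw [hdegT n]; exact Submodule.subset_span ⟨a, ha, b, hb, rfl⟩
      obtain ⟨t, _, ht⟩ := Submodule.mem_map.mp h1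
      exact ⟨t, ht⟩
    obtain ⟨t, ht⟩ := hle hy
    exact ⟨t, ht⟩
  -- `T` is graded in non-negative degrees with `T_0 = k`
  have hnegT : ∀ n : ℤ, n < 0 → 𝒯 n = ⊥ := by
    intro n hn
    have h1 := hdegT n
    have h2 : Submodule.span k {x : R ⊗[k] S | ∃ a ∈ 𝒜 n, ∃ b ∈ ℬ n, x = a ⊗ₜ[k] b} = ⊥ := by
      rw [Submodule.span_eq_bot]
      rintro x ⟨a, ha, b, hb, rfl⟩
      rw [hposR n hn] at ha
      rw [(Submodule.mem_bot k).mp ha, TensorProduct.zero_tmul]
    rw [h2] at h1
    rw [eq_bot_iff]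
    intro t ht
    have h3 : ψ t ∈ (𝒯 n).map ψ.toLinearMap := Submodule.mem_map.mpr ⟨t, ht, rfl⟩
    rw [h1] at h3
    have h4 : ψ t = 0 := (Submodule.mem_bot k).mp h3
    rw [Submodule.mem_bot]
    exact hψ (by rw [h4, map_zero])
  have h0T : 𝒯 0 = Submodule.span k {(1 : T)} := by
    apply le_antisymm
    · intro t ht
      have h1 : ψ t ∈ (𝒯 0).map ψ.toLinearMap := Submodule.mem_map.mpr ⟨t, ht, rfl⟩
      rw [hdegT 0] at h1
      have h2 : Submodule.span k {x : R ⊗[k] S | ∃ a ∈ 𝒜 0, ∃ b ∈ ℬ 0, x = a ⊗ₜ[k] b} ≤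
          Submodule.span k {(1 : R ⊗[k] S)} := by
        rw [Submodule.span_le]
        rintro x ⟨a, ha, b, hb, rfl⟩
        rw [h0R] at ha
        rw [h0S] at hb
        obtain ⟨α, rfl⟩ := Submodule.mem_span_singleton.mp ha
        obtain ⟨β, rfl⟩ := Submodule.mem_span_singleton.mp hb
        rw [TensorProduct.smul_tmul_smul, ← Algebra.TensorProduct.one_def]
        exact Submodule.smul_mem _ _ (Submodule.subset_span rfl)
      obtain ⟨c, hc⟩ := Submodule.mem_span_singleton.mp (h2 h1)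
      have h3 : t = c • (1 : T) := hψ (by rw [map_smul, map_one, hc])
      rw [h3]
      exact Submodule.smul_mem _ _ (Submodule.subset_span rfl)
    · rw [Submodule.span_le, Set.singleton_subset_iff]
      exact SetLike.GradedOne.one_mem
  haveI : Algebra.FiniteType k T := finiteType_of_graded_noetherian 𝒯 hnegT h0T
  have hdimU : ringKrullDim (R ⊗[k] S) ≤ ((r + s : ℕ) : WithBot ℕ∞) :=
    ringKrullDim_tensorProduct_le R S r s hr hs
  apply le_antisymm
  · -- upper bound
    by_contra hcon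
    have h1 : ((r + s : ℕ) : WithBot ℕ∞) ≤ ringKrullDim T := by
      have h2 := natCast_succ_le_of_lt (not_le.mp hcon)
      have h3 : r + s - 1 + 1 = r + s := by omega
      rwa [h3] at h2
    obtain ⟨t, -, ht⟩ := exists_algebraicIndependent_of_le_ringKrullDim (k := k) (A := T)
      Set.univ (by simp) (r + s) h1
    have htU : AlgebraicIndependent k (ψ ∘ t) := ht.map' hψ
    haveI : Nonempty (Fin (r + s)) := ⟨⟨0, by omega⟩⟩
    have hPD : ∀ p ∈ Algebra.adjoin k (Set.range (ψ ∘ t)), p ∈ Dsub 𝒜 ℬ := by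
      intro p hp
      have hle : Algebra.adjoin k (Set.range (ψ ∘ t)) ≤ ψ.range := by
        rw [Algebra.adjoin_le_iff]
        rintro _ ⟨i, rfl⟩
        exact ⟨t i, rfl⟩
      obtain ⟨t', rfl⟩ := hle hp
      exact hψmem t'
    obtain ⟨d, hd, x, hx, htr⟩ := exists_transcendental_tmul_one 𝒜 ℬ hposR h0R h0S htU
      (fun i => hψmem (t i)) hPD
    have hu : AlgebraicIndependent k
        (fun o : Option (Fin (r + s)) => o.elim (x ⊗ₜ[k] (1 : S)) (ψ ∘ t)) :=
      (htU.option_iff_transcendental _).mpr htr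
    have h2 := natCast_le_ringKrullDim_of_algebraicIndependent hu
    rw [Fintype.card_option, Fintype.card_fin] at h2
    have h3 := h2.trans hdimU
    have h4 : r + s + 1 ≤ r + s := by exact_mod_cast h3
    omega
  · -- lower bound
    obtain ⟨x, hxG, hx⟩ := exists_algebraicIndependent_of_le_ringKrullDim (k := k) (A := R)
      {x | ∃ d : ℤ, 0 < d ∧ x ∈ 𝒜 d} (adjoin_homogeneous_pos_eq_top 𝒜 hposR h0R) r
      (by rw [hr])
    obtain ⟨y, hyG, hy⟩ := exists_algebraicIndependent_of_le_ringKrullDim (k := k) (A := S)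
      {x | ∃ d : ℤ, 0 < d ∧ x ∈ ℬ d} (adjoin_homogeneous_pos_eq_top ℬ hposS h0S) s
      (by rw [hs])
    choose dx hdx hxd using hxG
    choose dy hdy hyd using hyG
    set M : ℤ := (∏ i, dx i) * (∏ j, dy j) with hMdef
    have hM : 0 < M :=
      mul_pos (Finset.prod_pos fun i _ => hdx i) (Finset.prod_pos fun j _ => hdy j)
    obtain ⟨x', hx', hx'M⟩ := exists_algebraicIndependent_pow_mem 𝒜 x hx dx hdx hxd M hM
      (fun i => Dvd.dvd.mul_right (Finset.dvd_prod_of_mem _ (Finset.mem_univ i)) _)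
    obtain ⟨y', hy', hy'M⟩ := exists_algebraicIndependent_pow_mem ℬ y hy dy hdy hyd M hM
      (fun j => Dvd.dvd.mul_left (Finset.dvd_prod_of_mem _ (Finset.mem_univ j)) _)
    obtain ⟨a, rfl⟩ : ∃ a, r = a + 1 := ⟨r - 1, by omega⟩
    obtain ⟨b, rfl⟩ : ∃ b, s = b + 1 := ⟨s - 1, by omega⟩
    have hz := algebraicIndependent_segre_tmul x' y' hx' hy'
    have hzD : ∀ p : Fin (b + 1) ⊕ Fin a,
        (Sum.elim (fun j : Fin (b + 1) => x' 0 ⊗ₜ[k] y' j)
          (fun i : Fin a => x' i.succ ⊗ₜ[k] y' 0) : Fin (b + 1) ⊕ Fin a → R ⊗[k] S) p ∈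
          Dsub 𝒜 ℬ := by
      rintro (j | i)
      · exact Submodule.subset_span ⟨M, _, hx'M 0, _, hy'M j, rfl⟩
      · exact Submodule.subset_span ⟨M, _, hx'M i.succ, _, hy'M 0, rfl⟩
    choose tz htz using fun p => hDle _ (hzD p)
    have htz' : AlgebraicIndependent k tz := by
      apply AlgebraicIndependent.of_comp ψ
      have h5 : (ψ : T → R ⊗[k] S) ∘ tz = Sum.elim (fun j : Fin (b + 1) => x' 0 ⊗ₜ[k] y' j)
          (fun i : Fin a => x' i.succ ⊗ₜ[k] y' 0) := funext htz
      rw [h5]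
      exact hz
    have h6 := natCast_le_ringKrullDim_of_algebraicIndependent htz'
    rw [Fintype.card_sum, Fintype.card_fin, Fintype.card_fin] at h6
    have h7 : a + 1 + (b + 1) - 1 = b + 1 + a := by omega
    rw [h7]
    exact h6

end Groth.Agent.S18647
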