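import Groth.Statements.S18650
import Groth.Agent.H98.StarGorC

set_option autoImplicit false
universe u
open GrLC

namespace Groth.Agent.S18650

/-- The case M = R of the published statement. Let R be a commutative Noetherian ℤ-graded ring which is
H-local, i.e. has a unique maximal graded ideal m, and which is Cohen–Macaulay, with ht m = n. Then
R is a Gorenstein ring if and only if the graded local cohomology module H^n_m(R) is an injective
object of the category of graded R-modules. Here H^n_m(R) is computed from a *injective resolution I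
of R in the graded category, and its *injectivity is expressed as the existence of a *injective
graded R-module X and an R-linear isomorphism H^n_m(R) ≅ X preserving degrees. (The published item
is stated for a Cohen–Macaulay graded module M and the notion of Gorenstein module; this row is its
case M = R.) -/
theorem result (R : Type u) [CommRing R] [LocCoh.IsCohenMacaulayRing R] (𝒜 : ℤ → AddSubgroup R) [GradedRing 𝒜] (m : HomogeneousIdeal 𝒜) (hm : GrLC.IsStarLocal 𝒜 m) (n : ℕ) (hn : m.toIdeal.height = n) (I : GrLC.StarInjRes 𝒜 𝒜) : LocCoh.IsGorensteinRing R ↔ ∃ (X : GrLC.GMod.{u} 𝒜) (φ : I.H m n ≃ₗ[R] X.carrier), GrLC.IsStarInj 𝒜 X.gr ∧ GrLC.IsGrHom (I.Hgr m n) X.gr φ.toLinearMap := by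
  classical
  haveI : IsNoetherianRing R := inferInstance
  have hprime : m.toIdeal.IsPrime := Groth.Agent.H98.StarGor.isPrime_of_isStarLocal 𝒜 m hm
  haveI := hprime
  constructor
  · intro hG
    haveI := hG
    have hGA : LocCoh.IsGorensteinLocalRing (Localization.AtPrime m.toIdeal) :=
      LocCoh.IsGorensteinRing.isGorensteinLocalRing_localization m.toIdeal
    have hdim : ringKrullDim (Localization.AtPrime m.toIdeal) = n := by
      rw [IsLocalization.AtPrime.ringKrullDim_eq_height m.toIdeal, hn]
      rfl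
    obtain ⟨E, i1, i2, eR, heR, Λ0, h0, hs⟩ :=
      Groth.Agent.H98.StarGor.exists_Lam R m.toIdeal n hdim hGA
    obtain ⟨θ⟩ := Groth.Agent.H98.GrCat.nonempty_H_equiv I m n
    letI := Groth.Agent.H98.GrCat.HDec I m n
    haveI := Groth.Agent.H98.GrCat.HGSMul I m n
    obtain ⟨X₀, e, he⟩ := Groth.Agent.H98.GrGorFacts.exists_hull 𝒜 m
    obtain ⟨g, φ, hφ⟩ := Groth.Agent.H98.StarGor.exists_iso_hull 𝒜 m hm hprime (I.Hgr m n)
      (Groth.Agent.H98.GrGorFacts.tors_H I m n) eR heR (Λ0 ∘ₗ θ.toLinearMap)
      (fun h hh => by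
        obtain ⟨s, hs1, hs2⟩ := h0 (θ h) hh
        refine ⟨s, hs1, θ.injective ?_⟩
        rw [map_smul, hs2, map_zero])
      (fun ε => by
        obtain ⟨h', s, hs1, hs2⟩ := hs ε
        refine ⟨θ.symm h', s, hs1, ?_⟩
        rw [hs2, LinearMap.comp_apply]
        show Λ0 h' = Λ0 (θ (θ.symm h'))
        rw [LinearEquiv.apply_symm_apply])
      X₀.gr e he
    refine ⟨Groth.Agent.H98.GrCat.shiftG 𝒜 X₀.gr g, φ,
      Groth.Agent.H98.GrCat.isStarInj_shift 𝒜 X₀.gr he.starInj g, ?_⟩
    intro d x hx
    exact hφ d x hx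
  · rintro ⟨X, φ, hX, -⟩
    have hA := Groth.Agent.H98.StarGor.gor_loc_of_starInj 𝒜 m n hn I X φ hX
    exact Groth.Agent.H98.StarGor.gorRing_of_gor_loc 𝒜 m hm n hn hA

end Groth.Agent.S18650
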