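import Groth.Statements.S18651
import Groth.Agent.H98.GrWPoly

set_option autoImplicit false
universe u
attribute [local instance] MvPolynomial.weightedGradedAlgebra
open GrLC

namespace Groth.Agent.S18651

open Groth.Agent.H98 Groth.Agent.H98.GrCat Groth.Agent.H98.GrHt Groth.Agent.H98.GrConv
  Groth.Agent.H98.GrWPoly

/-- Let k be a field and R = k[X_1, …, X_N] the polynomial ring with deg X_i = w_i > 0. Then the
canonical module of R is K_R = X_1 X_2 ⋯ X_N · R ≅ R(−d) with d = w_1 + ⋯ + w_N; stated here as: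
there is a bijective R-linear map R → K_R homogeneous of degree d. The canonical module is
represented by a finitely generated graded module C together with a homogeneous isomorphism from
Hom_R(C, E) onto H^N_m(R), where m = R_+, E is a *injective envelope of R/m and H^N_m(R) is computed
from a *injective resolution of R in the graded category; by graded Matlis duality this says exactly
that C ≅ K_R as graded modules. -/
theorem result (k : Type u) [Field k] (N : ℕ) (w : Fin N → ℤ) (hw : ∀ i, 0 < w i) (m : HomogeneousIdeal (MvPolynomial.weightedHomogeneousSubmodule k w)) (hm : GrLC.IsStarLocal (MvPolynomial.weightedHomogeneousSubmodule k w) m) (hmsp : m.toIdeal = Ideal.span (⋃ n ∈ Set.Ioi (0 : ℤ), (MvPolynomial.weightedHomogeneousSubmodule k w n : Set (MvPolynomial (Fin N) k)))) (I : GrLC.StarInjRes (MvPolynomial.weightedHomogeneousSubmodule k w) (MvPolynomial.weightedHomogeneousSubmodule k w)) (E' : Type u) [AddCommGroup E'] [Module (MvPolynomial (Fin N) k) E'] (𝓔 : ℤ → AddSubgroup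 E') [DirectSum.Decomposition 𝓔] [SetLike.GradedSMul (MvPolynomial.weightedHomogeneousSubmodule k w) 𝓔] (e : (MvPolynomial (Fin N) k ⧸ m.toIdeal) →ₗ[MvPolynomial (Fin N) k] E') (he : GrLC.IsStarInjHull (MvPolynomial.weightedHomogeneousSubmodule k w) (GrLC.quotGr (MvPolynomial.weightedHomogeneousSubmodule k w) m) 𝓔 e) (C : Type u) [AddCommGroup C] [Module (MvPolynomial (Fin N) k) C] (𝒞 : ℤ → AddSubgroup C) [DirectSum.Decomposition 𝒞] [SetLike.GradedSMul (MvPolynomial.weightedHomogeneousSubmodule k w) 𝒞] (hC : GrLC.IsStarCanonical (MvPolynomial.weightedHomogeneousSubmodule k w) 𝒞 𝓔 m N I) : ∃ f : MvPolynomial (Fin N) k →ₗ[MvPolynomial (Fin N) k] C, Function.Bijective f ∧ GrLC.IsGrHomDeg (MvPolynomial.weightedHomogeneousSubmodule k w) 𝒞 f ((Finset.univ : Finset (Fin N)).sum w) := by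
  classical
  obtain ⟨hfin, φ, hφ⟩ := hC
  haveI := hfin
  haveI : SetLike.GradedSMul (WA k N w) 𝓔 :=
    gsmul_conv (MvPolynomial.weightedHomogeneousSubmodule k w) 𝓔
  haveI : SetLike.GradedSMul (WA k N w) 𝒞 :=
    gsmul_conv (MvPolynomial.weightedHomogeneousSubmodule k w) 𝒞
  have hpos : ∀ n : ℤ, n < 0 → WA k N w n = ⊥ := wa_neg k N w hw
  have h0 : IsField (GrLC.deg0 (WA k N w)) := deg0_isField k N w hw
  haveI hArt : IsArtinianRing (GrLC.deg0 (WA k N w)) := by
    let _ := h0.toField
    infer_instance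
  have hdim : ringKrullDim (MvPolynomial (Fin N) k) = N :=
    Groth.Agent.H54.ringKrullDim_mvPolynomial_field k N
  obtain ⟨-, hH⟩ := len_H_top_of_regular_seq (WA k N w) hpos N hdim
    (fun i : Fin N => (MvPolynomial.X i : MvPolynomial (Fin N) k)) w hw (X_mem k N w)
    (X_isRegular k N) (fun n hn r hr => mem_span_X_of_mem k N w hn hr) (convRes I)
  have ha : convI m = irr (WA k N w) := HomogeneousIdeal.toIdeal_injective (by
    show m.toIdeal = _
    rw [hmsp]
    rfl)
  have he' : GrLC.IsStarInjHull (WA k N w) (GrLC.quotGr (WA k N w) (convI m)) 𝓔 e :=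
    ⟨⟨he.injective, fun g x hx => he.grHom g x hx, he.essential⟩,
      isStarInj_conv 𝓔 he.starInj⟩
  obtain ⟨φ', hφ'⟩ : ∃ φ' : (C →ₗ[MvPolynomial (Fin N) k] E') ≃ₗ[MvPolynomial (Fin N) k]
      (convRes I).H (convI m) N, ∀ g, φ' g = φ g := ⟨φ, fun _ => rfl⟩
  obtain ⟨f, hf, hfd⟩ := exists_bijective_of_hilb' (WA k N w) hpos h0 𝓔 𝒞 (convRes I) N
    (convI m) ha e he' hdim (∑ i, w i) φ'
    (fun c0 g hg => by
      rw [hφ' g]
      exact hφ c0 g hg) hH
  exact ⟨f, hf, fun g x hx => hfd g x hx⟩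

end Groth.Agent.S18651
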