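import Groth.Statements.S18653
import Groth.Agent.H21.GradedDimOne

set_option autoImplicit false
universe u
open GrLC

namespace Groth.Agent.S18653

open Groth.Agent.H21.SegreDim

/-- Let R be a graded ring defined over an algebraically closed field k which is an integral domain of
dimension one. Then R is isomorphic to a semigroup ring (the subring of k[T] spanned by the
monomials T^h, h in an additive submonoid H of ℕ); moreover, if R is generated over k by R_1, then R
is a polynomial ring k[T]. Here a graded ring defined over k is a commutative k-algebra of finite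
type graded in nonnegative degrees by k-subspaces with degree-zero part k·1; the isomorphisms
asserted are ring isomorphisms. -/
theorem result (k : Type u) [Field k] [IsAlgClosed k] (R : Type u) [CommRing R] [IsDomain R] [Algebra k R] (𝒜 : ℤ → Submodule k R) [GradedAlgebra 𝒜] (hpos : ∀ n : ℤ, n < 0 → 𝒜 n = ⊥) (h0 : 𝒜 0 = Submodule.span k {(1 : R)}) [Algebra.FiniteType k R] (h1 : ringKrullDim R = 1) : (∃ H : AddSubmonoid ℕ, Nonempty (R ≃+* AddMonoidAlgebra k H)) ∧ (Ideal.span (⋃ n ∈ Set.Ioi (0 : ℤ), (𝒜 n : Set R)) = Ideal.span ((𝒜 1 : Submodule k R) : Set R) → Nonempty (R ≃+* Polynomial k)) := by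
  classical
  obtain ⟨H, hH, ⟨e⟩⟩ := exists_ringEquiv_addMonoidAlgebra_of_dim_one 𝒜 hpos h0 h1
  refine ⟨⟨H, ⟨e⟩⟩, fun hgen => ?_⟩
  -- `R_1 ≠ 0`
  have h1H : 1 ∈ H := by
    rw [hH]
    intro hbot
    -- then all positive pieces vanish, so `R = k`, of dimension zero
    have hspan : Ideal.span (⋃ n ∈ Set.Ioi (0 : ℤ), (𝒜 n : Set R)) = ⊥ := by
      rw [hgen]
      have : ((𝒜 ((1 : ℕ) : ℤ) : Submodule k R) : Set R) = {0} := by
        rw [hbot]; rfl
      rw [Nat.cast_one] at this
      rw [this, Ideal.span_singleton_eq_bot]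
    have hpieces : ∀ n : ℤ, 0 < n → ∀ z ∈ 𝒜 n, z = 0 := by
      intro n hn z hz
      have hz' : z ∈ Ideal.span (⋃ n ∈ Set.Ioi (0 : ℤ), (𝒜 n : Set R)) :=
        Ideal.subset_span (Set.mem_biUnion (Set.mem_Ioi.mpr hn) hz)
      rw [hspan] at hz'
      exact (Ideal.mem_bot).mp hz'
    have hsurj : Function.Surjective (algebraMap k R) := by
      intro x
      have hx : x ∈ 𝒜 0 := by
        rw [← DirectSum.sum_support_decompose 𝒜 x]
        refine Submodule.sum_mem _ fun n _ => ?_
        rcases lt_trichotomy n 0 with hn | hn | hn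
        · have h2 : ((DirectSum.decompose 𝒜 x n : 𝒜 n) : R) = 0 := by
            have h3 : ((DirectSum.decompose 𝒜 x n : 𝒜 n) : R) ∈ (⊥ : Submodule k R) :=
              hpos n hn ▸ SetLike.coe_mem _
            exact (Submodule.mem_bot k).mp h3
          rw [h2]; exact zero_mem _
        · rw [hn]; exact SetLike.coe_mem _
        · rw [hpieces n hn _ (SetLike.coe_mem _)]; exact zero_mem _
      rw [h0] at hx
      obtain ⟨c, hc⟩ := Submodule.mem_span_singleton.mp hx
      exact ⟨c, by rw [Algebra.algebraMap_eq_smul_one, hc]⟩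
    have hfield : IsField R :=
      MulEquiv.isField (Field.toIsField k)
        (RingEquiv.ofBijective (algebraMap k R) ⟨(algebraMap k R).injective, hsurj⟩).symm.toMulEquiv
    have h2 := ringKrullDim_eq_zero_of_isField hfield
    rw [h1] at h2
    exact one_ne_zero h2
  have hHtop : H = ⊤ := by
    rw [AddSubmonoid.eq_top_iff']
    intro n
    have := AddSubmonoid.nsmul_mem H h1H n
    simpa using this
  subst hHtop
  exact ⟨e.trans ((AddMonoidAlgebra.mapDomainRingEquiv k AddSubmonoid.topEquiv).trans
    (Polynomial.toFinsuppIso k).symm)⟩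

end Groth.Agent.S18653
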