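import Groth.Statements.S18656
import Groth.Agent.H98.GrKos
import Groth.Agent.H58.LCFG

set_option autoImplicit false
universe u
open GrLC

namespace Groth.Agent.S18656


open Groth.Agent.H98.GrCat

theorem ne_bot_of_endDeg_eq {X : Type u} [AddCommGroup X] (𝒢 : ℤ → AddSubgroup X) (a : ℤ)
    (h : GrLC.endDeg 𝒢 = ((a : WithTop ℤ) : WithBot (WithTop ℤ))) : 𝒢 a ≠ ⊥ := by
  intro hbot
  have hle : GrLC.endDeg 𝒢 ≤ (((a - 1 : ℤ) : WithTop ℤ) : WithBot (WithTop ℤ)) := by
    refine iSup₂_le fun n hn => ?_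
    have h1 : ((n : WithTop ℤ) : WithBot (WithTop ℤ)) ≤ GrLC.endDeg 𝒢 :=
      le_iSup₂ (f := fun (m : ℤ) (_ : 𝒢 m ≠ ⊥) => ((m : WithTop ℤ) : WithBot (WithTop ℤ))) n hn
    rw [h, WithBot.coe_le_coe, WithTop.coe_le_coe] at h1
    rw [WithBot.coe_le_coe, WithTop.coe_le_coe]
    have hna : n ≠ a := fun e => hn (e ▸ hbot)
    omega
  rw [h, WithBot.coe_le_coe, WithTop.coe_le_coe] at hle
  omega

/-- Let R be a graded ring defined over a field k = R_0, generated over k by R_1, of dimension r ≥ 1,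
and let a(R) be its a-invariant. Then the homogeneous piece H^r_m(R)_n is nonzero for every n ≤
a(R). Here 'graded ring defined over a field' means R = ⊕_{n ≥ 0} R_n is Noetherian with R_0 a
field, and m = R_+ is its unique graded maximal ideal. The a-invariant a(R) is the largest degree in
which the graded local cohomology H^n_m(R) (n = dim R, m = R_+), computed from a *injective
resolution of R in the graded category, is nonzero. -/
theorem result (R : Type u) [CommRing R] [IsNoetherianRing R] (𝒜 : ℤ → AddSubgroup R) [GradedRing 𝒜] (hpos : ∀ n : ℤ, n < 0 → 𝒜 n = ⊥) (h0 : IsField (GrLC.deg0 𝒜)) (m : HomogeneousIdeal 𝒜) (hm : GrLC.IsStarLocal 𝒜 m) (hmsp : m.toIdeal = Ideal.span (⋃ n ∈ Set.Ioi (0 : ℤ), (𝒜 n : Set R))) (hstd : Ideal.span (⋃ n ∈ Set.Ioi (0 : ℤ), (𝒜 n : Set R)) = Ideal.span ((𝒜 1 : AddSubgroup R) : Set R)) (r : ℕ) (hr : ringKrullDim R = r) (h1 : 1 ≤ r) (I : GrLC.StarInjRes 𝒜 𝒜) (a : ℤ) (ha : GrLC.endDeg (I.Hgr m r) =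 ((a : WithTop ℤ) : WithBot (WithTop ℤ))) (n : ℤ) (hn : n ≤ a) : I.Hcomp m r n ≠ ⊥ := by
  intro hbot
  have hhom : m.toIdeal = Ideal.span ((𝒜 1 : AddSubgroup R) : Set R) := hmsp.trans hstd
  have vn_of_bot : ∀ (j : ℕ) (s : ℤ), I.Hcomp m j s = ⊥ → Vn I m j s := by
    intro j s h c hc hcn
    have hmem : I.toH m j ⟨c, hc⟩ ∈ I.Hcomp m j s := ⟨⟨c, hc⟩, hcn, rfl⟩
    rw [h, Submodule.mem_bot] at hmem
    have h5 : (⟨c, hc⟩ : I.cocyc m j) ∈ (I.cobdy m j).comap (I.cocyc m j).subtype :=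
      (Submodule.Quotient.mk_eq_zero _).1 hmem
    exact h5
  have hbig : ∀ i : ℕ, r < i → ∀ s : ℤ, HV m (GrLC.GMod.of 𝒜 R 𝒜) i s := by
    intro i hi s
    refine hv_of_vn I ?_
    obtain ⟨eq⟩ := nonempty_H_equiv I m i
    haveI : Subsingleton (LocCoh.H m.toIdeal i R) :=
      Groth.Agent.H58.LC.subsingleton_H_of_supportDim_lt m.toIdeal R i (by
        rw [Module.supportDim_self_eq_ringKrullDim, hr]
        exact_mod_cast hi)
    haveI : Subsingleton (I.H m i) := eq.toEquiv.subsingleton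
    intro c hc _
    have h0' : I.toH m i ⟨c, hc⟩ = 0 := Subsingleton.elim _ _
    have h5 : (⟨c, hc⟩ : I.cocyc m i) ∈ (I.cobdy m i).comap (I.cocyc m i).subtype :=
      (Submodule.Quotient.mk_eq_zero _).1 h0'
    exact h5
  have key : ∀ k : ℕ, HV m (GrLC.GMod.of 𝒜 R 𝒜) r (n + (k : ℤ)) := by
    intro k
    induction k with
    | zero =>
      rw [Nat.cast_zero, add_zero]
      exact hv_of_vn I (vn_of_bot r n hbot)
    | succ k ih =>
      refine hv_step m hhom _ r h1 _ (fun p => ?_)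
      cases p with
      | zero =>
        have e : n + ((k + 1 : ℕ) : ℤ) - ((0 : ℕ) : ℤ) - 1 = n + (k : ℤ) := by
          push_cast
          ring
        rw [e]
        exact ih
      | succ p => exact hbig (r + (p + 1)) (by omega) _
  have hka := key (a - n).toNat
  rw [Int.toNat_of_nonneg (by omega), add_sub_cancel] at hka
  apply ne_bot_of_endDeg_eq (I.Hgr m r) a ha
  rw [eq_bot_iff]
  rintro y ⟨z, hz, rfl⟩
  rw [AddSubgroup.mem_bot]
  exact (Submodule.Quotient.mk_eq_zero _).2 (hka I z z.2 hz)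

end Groth.Agent.S18656
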